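import Cfsg.Agent.Helper17.ONTC.Fin21

set_option autoImplicit false
set_option linter.all false
set_option maxRecDepth 100000

noncomputable section

namespace Cfsg.Agent.Helper17.ONTC

theorem Q87242 : ∀ i, i < 87242 → P i := stepQ 87241 Q87241 (allL N87241 (tt N88059 (iv1 F381625)) (tt N87927 F381172) (tt N51836 (iv2 D190102)) (tt N51858 F378858) (tt N100746 (iv4 F430274)) (tt N91434 (iv5 F393112)) (tt N100745 F430271) (tt N88070 (iv7 F381676)))
theorem Q87243 : ∀ i, i < 87243 → P i := stepQ 87242 Q87242 (allL N87242 (tt N87978 F381772) (tt N52516 (iv0 F378859)) (tt N100746 (iv2 F430272)) (tt N108888 (iv3 F464375)) (tt N51836 (iv4 D190103)) (tt N108887 F464374) (tt N96575 F413055) (tt N88071 (iv7 F381679)))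
theorem Q87244 : ∀ i, i < 87244 → P i := stepQ 87243 Q87243 (allL N87243 (tt N111435 (iv1 F476356)) (tt N111432 (iv0 F476341)) (tt N100745 (iv2 F430268)) (tt N51838 F378860) (tt N96575 (iv4 F413054)) (tt N85715 F378861) (tt N51836 (iv6 D190104)) (tt N111693 (iv7 F477522)))
theorem Q87245 : ∀ i, i < 87245 → P i := stepQ 87244 Q87244 (allL N87244 (tt N51838 (iv1 D190105)) (tt N86425 F378862) (tt N88069 F381672) (tt N115509 F495556) (tt N55502 F378863) (tt N112447 (iv5 F481146)) (tt N115548 D218805) (tt N88068 F381665))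
theorem Q87246 : ∀ i, i < 87246 → P i := stepQ 87245 Q87245 (allL N87245 (tt N51849 (iv1 F378868)) (tt N51860 F378867) (tt N51839 (iv2 D190106)) (tt N88070 (iv3 F381674)) (tt N115549 D218806) (tt N52263 F378864) (tt N81150 F378865) (tt N51858 F378866))
theorem Q87247 : ∀ i, i < 87247 → P i := stepQ 87246 Q87246 (allL N87246 (tt N114639 (iv1 F491143)) (tt N114640 (iv0 F491148)) (tt N115549 (iv2 F495726)) (tt N108205 (iv3 F461487)) (tt N51839 (iv4 D190107)) (tt N115550 D218807) (tt N111553 F476892) (tt N88066 (iv7 F381658)))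
theorem Q87248 : ∀ i, i < 87248 → P i := stepQ 87247 Q87247 (allL N87247 (tt N81175 (iv1 F378872)) (tt N59802 (iv0 F378871)) (tt N95390 F408083) (tt N51840 (iv3 D190108)) (tt N108205 (iv4 F461486)) (tt N71196 F378869) (tt N52483 F378870) (tt N87392 (iv7 F379224)))
theorem Q87249 : ∀ i, i < 87249 → P i := stepQ 87248 Q87248 (allL N87248 (tt N87364 (iv1 F379127)) (tt N51842 (iv0 D190109)) (tt N111567 (iv2 F476953)) (tt N115551 D218808) (tt N58651 (iv4 F381615)) (tt N91898 (iv5 F394856)) (tt N58658 F381616) (tt N114084 (iv7 F488524)))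
theorem Q87250 : ∀ i, i < 87250 → P i := stepQ 87249 Q87249 (allL N87249 (tt N51842 (iv1 D190110)) (tt N87364 F379128) (tt N114084 F488522) (tt N81157 F387934) (tt N87974 (iv4 F381342)) (tt N91837 (iv5 F394625)) (tt N51920 F385460) (tt N111567 (iv7 F476955)))
theorem Q87251 : ∀ i, i < 87251 → P i := stepQ 87250 Q87250 (allL N87250 (tt N111567 (iv1 F476957)) (tt N114084 F488523) (tt N51842 (iv2 D190111)) (tt N88074 (iv3 F381689)) (tt N87365 (iv4 F379131)) (tt N91190 F392209) (tt N115528 (iv6 F495646)) (tt N87364 F379126))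
theorem Q87252 : ∀ i, i < 87252 → P i := stepQ 87251 Q87251 (allL N87251 (tt N53103 F378877) (tt N82640 F378878) (tt N82823 F378873) (tt N83825 F378874) (tt N113847 (iv4 F487427)) (tt N51843 (iv5 D190112)) (tt N81194 F378875) (tt N82887 F378876))
theorem Q87253 : ∀ i, i < 87253 → P i := stepQ 87252 Q87252 (allL N87252 (tt N52307 F378883) (tt N83003 (iv0 F378884)) (tt N82822 F378879) (tt N52851 F378880) (tt N104824 (iv4 F447471)) (tt N51844 (iv5 D190113)) (tt N81191 F378881) (tt N82988 F378882))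
theorem Q87254 : ∀ i, i < 87254 → P i := stepQ 87253 Q87253 (allL N87253 (tt N91113 (iv1 F391989)) (tt N87033 (iv0 F378890)) (tt N85369 F378886) (tt N83836 F378887) (tt N84391 F378888) (tt N51845 (iv5 D190114)) (tt N84390 F378889) (tt N111255 (iv7 F475466)))
theorem Q87255 : ∀ i, i < 87255 → P i := stepQ 87254 Q87254 (allL N87254 (tt N82990 F378893) (tt N82730 (iv0 F378903)) (tt N82994 F378891) (tt N83837 F378892) (tt N112048 (iv4 F479250)) (tt N83465 F378894) (tt N51845 (iv6 D190115)) (tt N82993 F378902))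
theorem Q87256 : ∀ i, i < 87256 → P i := stepQ 87255 Q87255 (allL N87255 (tt N87033 F378906) (tt N91113 (iv0 F391990)) (tt N111255 (iv2 F475462)) (tt N52862 F378904) (tt N85370 F378907) (tt N51846 (iv5 D190116)) (tt N81298 (iv6 F378908)) (tt N85369 F378905))
theorem Q87257 : ∀ i, i < 87257 → P i := stepQ 87256 Q87256 (allL N87256 (tt N55071 F378912) (tt N53098 F378913) (tt N82892 F378909) (tt N52863 F378910) (tt N108492 (iv4 F462816)) (tt N83199 (iv5 F378911)) (tt N51846 (iv6 D190117)) (tt N82893 (iv7 F378914)))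
theorem Q87258 : ∀ i, i < 87258 → P i := stepQ 87257 Q87257 (allL N87257 (tt N88053 (iv1 F381603)) (tt N115434 (iv0 F495179)) (tt N51854 F378915) (tt N61498 F378916) (tt N87445 (iv4 F379348)) (tt N51848 (iv5 D190118)) (tt N51849 F378917) (tt N87418 (iv7 F379278)))
theorem Q87259 : ∀ i, i < 87259 → P i := stepQ 87258 Q87258 (allL N87258 (tt N115552 D218809) (tt N115553 D218810) (tt N51859 F378918) (tt N87446 (iv3 F379351)) (tt N51849 (iv4 D190119)) (tt N85188 F378919) (tt N87445 F379350) (tt N115538 (iv7 F495691)))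
theorem Q87260 : ∀ i, i < 87260 → P i := stepQ 87259 Q87259 (allL N87259 (tt N53889 (iv1 F378923)) (tt N51851 (iv0 D190120)) (tt N53886 (iv2 F378922)) (tt N56184 F378920) (tt N83873 F378921) (tt N105035 (iv5 F448491)) (tt N96757 F413798) (tt N53887 F378924))
theorem Q87261 : ∀ i, i < 87261 → P i := stepQ 87260 Q87260 (allL N87260 (tt N115067 (iv1 F493325)) (tt N115514 (iv0 F495585)) (tt N53888 F378925) (tt N63445 F378926) (tt N109612 (iv4 F467736)) (tt N51851 (iv5 D190121)) (tt N52258 F378927) (tt N114006 (iv7 F488168)))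
theorem Q87262 : ∀ i, i < 87262 → P i := stepQ 87261 Q87261 (allL N87261 (tt N84152 (iv1 F378932)) (tt N84151 F378933) (tt N84153 F378928) (tt N106860 F456044) (tt N51855 F378929) (tt N53824 F378930) (tt N84155 F378931) (tt N51852 (iv7 D190122)))
theorem Q87263 : ∀ i, i < 87263 → P i := stepQ 87262 Q87262 (allL N87262 (tt N89799 (iv1 F391621)) (tt N79390 (iv0 F378936)) (tt N77651 F378934) (tt N115554 D218811) (tt N51853 (iv4 D190123)) (tt N115555 D218812) (tt N54803 F378935) (tt N111339 (iv7 F475898)))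
theorem Q87264 : ∀ i, i < 87264 → P i := stepQ 87263 Q87263 (allL N87263 (tt N87418 (iv1 F379282)) (tt N51854 (iv0 D190124)) (tt N88053 (iv2 F381604)) (tt N115520 (iv3 F495612)) (tt N115556 D218813) (tt N84356 F378937) (tt N90669 (iv6 F390461)) (tt N115434 (iv7 F495177)))
theorem Q87265 : ∀ i, i < 87265 → P i := stepQ 87264 Q87264 (allL N87264 (tt N87443 (iv1 F379345)) (tt N87442 F379349) (tt N87445 (iv2 F379346)) (tt N115557 D218814) (tt N51854 (iv4 D190126)) (tt N57124 F388940) (tt N51859 F378938) (tt N87444 F379344))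
theorem Q87266 : ∀ i, i < 87266 → P i := stepQ 87265 Q87265 (allL N87265 (tt N115434 (iv1 F495180)) (tt N88053 (iv0 F381602)) (tt N87418 (iv2 F379275)) (tt N51870 F378939) (tt N87444 (iv4 F379343)) (tt N51855 F378940) (tt N115558 D218815) (tt N51854 (iv7 D190127)))
theorem Q87267 : ∀ i, i < 87267 → P i := stepQ 87266 Q87266 (allL N87266 (tt N115543 (iv1 F495711)) (tt N115542 F495708) (tt N84183 F378941) (tt N94879 F406229) (tt N51856 (iv4 D190128)) (tt N85187 F378942) (tt N115559 D218816) (tt N85186 F378943))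
theorem Q87268 : ∀ i, i < 87268 → P i := stepQ 87267 Q87267 (allL N87267 (tt N112094 F479466) (tt N112273 F480305) (tt N84184 F378944) (tt N115534 (iv3 F495671)) (tt N115559 (iv4 F495786)) (tt N91928 (iv5 F394989)) (tt N51856 (iv6 D190129)) (tt N112272 (iv7 F480300)))
theorem Q87269 : ∀ i, i < 87269 → P i := stepQ 87268 Q87268 (allL N87268 (tt N114640 (iv1 F491147)) (tt N114639 (iv0 F491142)) (tt N88066 (iv2 F381657)) (tt N79799 F382754) (tt N51858 (iv4 D190130)) (tt N107846 (iv5 F459973)) (tt N79798 (iv6 F382753)) (tt N115549 (iv7 F495729)))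
theorem Q87270 : ∀ i, i < 87270 → P i := stepQ 87269 Q87269 (allL N87269 (tt N115560 D218817) (tt N115561 D218818) (tt N88067 (iv2 F381659)) (tt N100745 (iv3 F430269)) (tt N79798 F382752) (tt N88363 (iv5 F382751)) (tt N51858 (iv6 D190131)) (tt N111570 (iv7 F476969)))
theorem Q87271 : ∀ i, i < 87271 → P i := stepQ 87270 Q87270 (allL N87270 (tt N115538 (iv1 F495693)) (tt N51859 (iv0 D190132)) (tt N115552 F495749) (tt N114804 F495733) (tt N113833 F487351) (tt N114563 F490788) (tt N115562 D218819) (tt N115553 (iv7 F495752)))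
theorem Q87272 : ∀ i, i < 87272 → P i := stepQ 87271 Q87271 (allL N87271 (tt N51859 (iv1 D190133)) (tt N115538 (iv0 F495692)) (tt N115553 F495756) (tt N115563 D218820) (tt N111301 F475713) (tt N98557 (iv5 F475714)) (tt N111557 (iv6 F476913)) (tt N115552 F495750))
theorem Q87273 : ∀ i, i < 87273 → P i := stepQ 87272 Q87272 (allL N87272 (tt N73538 (iv1 F378947)) (tt N73536 (iv0 F378946)) (tt N108208 (iv2 F461497)) (tt N51859 (iv3 D190134)) (tt N51889 F378945) (tt N105103 (iv5 F448804)) (tt N115557 (iv6 F495776)) (tt N93314 (iv7 F400360)))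
theorem Q87274 : ∀ i, i < 87274 → P i := stepQ 87273 Q87273 (allL N87273 (tt N85363 (iv1 F420450)) (tt N84850 (iv0 F388943)) (tt N85188 F378948) (tt N105103 F448807) (tt N84817 (iv4 F378949)) (tt N51859 (iv5 D190135)) (tt N57123 (iv6 F388942)) (tt N85191 F378950))
theorem Q87275 : ∀ i, i < 87275 → P i := stepQ 87274 Q87274 (allL N87274 (tt N115553 (iv1 F495751)) (tt N115552 F495746) (tt N115538 (iv2 F495689)) (tt N93314 (iv3 F400359)) (tt N51860 F378951) (tt N85191 F378952) (tt N115564 D218821) (tt N51859 (iv7 D190136)))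
theorem Q87276 : ∀ i, i < 87276 → P i := stepQ 87275 Q87275 (allL N87275 (tt N111900 F480960) (tt N111903 (iv0 F478560)) (tt N115539 (iv2 F495694)) (tt N51891 F378953) (tt N115564 (iv4 F495798)) (tt N84575 F378954) (tt N51860 (iv6 D190137)) (tt N115558 (iv7 F495782)))
theorem Q87277 : ∀ i, i < 87277 → P i := stepQ 87276 Q87276 (allL N87276 (tt N100971 (iv1 F431114)) (tt N89422 (iv0 F386446)) (tt N88036 (iv2 F381544)) (tt N62753 F378955) (tt N51861 (iv4 D190138)) (tt N107327 (iv5 F457976)) (tt N62751 F378956) (tt N87969 (iv7 F381326)))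
theorem Q87278 : ∀ i, i < 87278 → P i := stepQ 87277 Q87277 (allL N87277 (tt N102984 (iv1 F439549)) (tt N84210 (iv0 F394657)) (tt N88037 (iv2 F381547)) (tt N51862 F378957) (tt N115565 D218822) (tt N51861 (iv5 D190139)) (tt N79328 (iv6 F378970)) (tt N87970 (iv7 F381330)))
theorem Q87279 : ∀ i, i < 87279 → P i := stepQ 87278 Q87278 (allL N87278 (tt N51865 (iv1 F378959)) (tt N51862 (iv0 D190140)) (tt N87964 F381305) (tt N111771 (iv3 F477892)) (tt N115566 D218823) (tt N80473 F378958) (tt N115567 D218824) (tt N87965 (iv7 F381308)))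
theorem Q87280 : ∀ i, i < 87280 → P i := stepQ 87279 Q87279 (allL N87279 (tt N51862 (iv1 D190141)) (tt N51865 F378960) (tt N87965 F381310) (tt N112280 (iv3 F480329)) (tt N74596 (iv4 F378962)) (tt N87074 (iv5 F378961)) (tt N87998 F381426) (tt N87964 F381306))
theorem Q87281 : ∀ i, i < 87281 → P i := stepQ 87280 Q87280 (allL N87280 (tt N88231 (iv1 F382286)) (tt N99628 F425487) (tt N81256 F378963) (tt N115568 D218825) (tt N51862 (iv4 D190142)) (tt N81255 (iv5 F378964)) (tt N73497 F378968) (tt N87971 (iv7 F381332)))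
theorem Q87282 : ∀ i, i < 87282 → P i := stepQ 87281 Q87281 (allL N87281 (tt N110970 (iv1 F474017)) (tt N79475 (iv0 F378967)) (tt N87966 (iv2 F381312)) (tt N79328 F378969) (tt N73497 (iv4 F378966)) (tt N87003 F378965) (tt N51862 (iv6 D190143)) (tt N112249 (iv7 F480222)))
theorem Q87283 : ∀ i, i < 87283 → P i := stepQ 87282 Q87282 (allL N87282 (tt N51863 (iv1 D190144)) (tt N87962 F381300) (tt N87961 F381292) (tt N58513 (iv3 F378972)) (tt N115569 D218826) (tt N115570 D218827) (tt N58513 (iv6 F378973)) (tt N83151 F378971))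
theorem Q87284 : ∀ i, i < 87284 → P i := stepQ 87283 Q87283 (allL N87283 (tt N83151 (iv1 F381296)) (tt N87961 F381293) (tt N51863 (iv2 D190145)) (tt N87968 (iv3 F381321)) (tt N77446 F378974) (tt N115571 D218828) (tt N82215 F378975) (tt N87962 (iv7 F381298)))
theorem Q87285 : ∀ i, i < 87285 → P i := stepQ 87284 Q87284 (allL N87284 (tt N95643 (iv1 F408988)) (tt N95642 (iv0 F408987)) (tt N115571 (iv2 F495823)) (tt N51865 F378976) (tt N91191 F392211) (tt N51863 (iv5 D190146)) (tt N115463 (iv6 F495311)) (tt N87963 (iv7 F381302)))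
theorem Q87286 : ∀ i, i < 87286 → P i := stepQ 87285 Q87285 (allL N87285 (tt N99628 (iv1 F425486)) (tt N88231 (iv0 F382285)) (tt N87971 (iv2 F381331)) (tt N81259 F378979) (tt N51865 (iv4 D190147)) (tt N81257 F378978) (tt N96659 (iv6 F413356)) (tt N81256 F378977))
theorem Q87287 : ∀ i, i < 87287 → P i := stepQ 87286 Q87286 (allL N87286 (tt N111415 F476246) (tt N55387 (iv0 F378980)) (tt N87972 (iv2 F381334)) (tt N115463 (iv3 F495309)) (tt N96659 F413357) (tt N115462 F495307) (tt N51865 (iv6 D190148)) (tt N115572 D218829))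
theorem Q87288 : ∀ i, i < 87288 → P i := stepQ 87287 Q87287 (allL N87287 (tt N63996 (iv1 F378983)) (tt N51866 (iv0 D190149)) (tt N64008 (iv2 F378982)) (tt N96758 F413812) (tt N66650 F378981) (tt N87740 (iv5 F380301)) (tt N88048 F381580) (tt N64007 F378984))
theorem Q87289 : ∀ i, i < 87289 → P i := stepQ 87288 Q87288 (allL N87288 (tt N86991 F378987) (tt N68106 F378988) (tt N87973 (iv2 F381336)) (tt N82217 F378985) (tt N86866 F378989) (tt N51866 (iv5 D190150)) (tt N115462 (iv6 F495305)) (tt N64010 F378986))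
theorem Q87290 : ∀ i, i < 87290 → P i := stepQ 87289 Q87289 (allL N87289 (tt N88041 (iv1 F381558)) (tt N88034 F381552) (tt N88039 F381549) (tt N51867 (iv3 D190151)) (tt N111882 (iv4 F478475)) (tt N84368 F378992) (tt N111059 (iv6 F474461)) (tt N80258 F378993))
theorem Q87291 : ∀ i, i < 87291 → P i := stepQ 87290 Q87290 (allL N87290 (tt N87433 (iv1 F379320)) (tt N52524 F378994) (tt N87430 F379311) (tt N115573 D218830) (tt N51867 (iv4 D190152)) (tt N74674 (iv5 F379321)) (tt N114803 (iv6 F491952)) (tt N87431 (iv7 F379313)))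
theorem Q87292 : ∀ i, i < 87292 → P i := stepQ 87291 Q87291 (allL N87291 (tt N108523 F462936) (tt N115574 D218831) (tt N87975 (iv2 F381343)) (tt N111059 (iv3 F474459)) (tt N114803 (iv4 F491954)) (tt N90676 (iv5 F390482)) (tt N51867 (iv6 D190153)) (tt N91438 (iv7 F393132)))
theorem Q87293 : ∀ i, i < 87293 → P i := stepQ 87292 Q87292 (allL N87292 (tt N113127 F484106) (tt N115570 (iv0 F495821)) (tt N58651 F378995) (tt N51868 (iv3 D190154)) (tt N111567 (iv4 F476956)) (tt N58627 F378996) (tt N58629 (iv6 F378997)) (tt N87974 (iv7 F381341)))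
theorem Q87294 : ∀ i, i < 87294 → P i := stepQ 87293 Q87293 (allL N87293 (tt N52524 F378999) (tt N87433 F379319) (tt N87431 F379315) (tt N111558 (iv3 F476914)) (tt N51868 (iv4 D190155)) (tt N74673 F378998) (tt N100548 (iv6 F429429)) (tt N87430 F379312))
theorem Q87295 : ∀ i, i < 87295 → P i := stepQ 87294 Q87294 (allL N87294 (tt N111056 (iv1 F474446)) (tt N111055 F474443) (tt N80257 F379000) (tt N58629 F379001) (tt N100548 F429428) (tt N58626 F379002) (tt N51868 (iv6 D190156)) (tt N111054 (iv7 F474440)))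
theorem Q87296 : ∀ i, i < 87296 → P i := stepQ 87295 Q87295 (allL N87295 (tt N87980 (iv1 F381362)) (tt N51869 (iv0 D190157)) (tt N87976 F381347) (tt N115575 D218832) (tt N51960 F379281) (tt N93889 (iv5 F402291)) (tt N115576 D218833) (tt N87977 (iv7 F381352)))
theorem Q87297 : ∀ i, i < 87297 → P i := stepQ 87296 Q87296 (allL N87296 (tt N51869 (iv1 D190158)) (tt N87980 F381361) (tt N87977 F381354) (tt N57652 F379005) (tt N51961 F379003) (tt N57650 (iv5 F379004)) (tt N94872 (iv6 F406204)) (tt N87976 F381348))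
theorem Q87298 : ∀ i, i < 87298 → P i := stepQ 87297 Q87297 (allL N87297 (tt N115577 D218834) (tt N94892 (iv0 F406257)) (tt N108209 (iv2 F461504)) (tt N51869 (iv3 D190159)) (tt N115557 (iv4 F495774)) (tt N111380 (iv5 F476091)) (tt N51889 F379006) (tt N111698 (iv7 F477556)))
theorem Q87299 : ∀ i, i < 87299 → P i := stepQ 87298 Q87298 (allL N87298 (tt N110986 (iv1 F474098)) (tt N93830 F402060) (tt N87979 (iv2 F381357)) (tt N111380 F476092) (tt N67074 F379007) (tt N51869 (iv5 D190160)) (tt N91748 (iv6 F394288)) (tt N67071 (iv7 F379008)))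
theorem Q87300 : ∀ i, i < 87300 → P i := stepQ 87299 Q87299 (allL N87299 (tt N87977 (iv1 F381351)) (tt N87976 F381349) (tt N87980 (iv2 F381359)) (tt N111698 (iv3 F477553)) (tt N51870 F379009) (tt N67071 F379010) (tt N111697 F477551) (tt N51869 (iv7 D190161)))
theorem Q87301 : ∀ i, i < 87301 → P i := stepQ 87300 Q87300 (allL N87300 (tt N88022 (iv1 F381499)) (tt N88021 F381498) (tt N87981 (iv2 F381363)) (tt N115558 (iv3 F495780)) (tt N111697 F477550) (tt N84580 F379011) (tt N51870 (iv6 D190162)) (tt N51891 F379012))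
theorem Q87302 : ∀ i, i < 87302 → P i := stepQ 87301 Q87301 (allL N87301 (tt N51871 (iv1 D190163)) (tt N84571 F379013) (tt N55510 (iv2 F379015)) (tt N91910 (iv3 F394925)) (tt N111502 (iv4 F476625)) (tt N55509 F379014) (tt N115578 D218835) (tt N87992 (iv7 F381413)))
theorem Q87303 : ∀ i, i < 87303 → P i := stepQ 87302 Q87302 (allL N87302 (tt N115579 D218836) (tt N115580 D218837) (tt N55096 F379016) (tt N97224 (iv3 F415969)) (tt N114124 (iv4 F488653)) (tt N54934 F379017) (tt N51873 (iv6 D190164)) (tt N97221 (iv7 F415957)))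
theorem Q87304 : ∀ i, i < 87304 → P i := stepQ 87303 Q87303 (allL N87303 (tt N87972 F381335) (tt N115572 F495830) (tt N55387 F379018) (tt N101552 (iv3 F433365)) (tt N64993 F379019) (tt N83683 F379020) (tt N51874 (iv6 D190165)) (tt N111415 (iv7 F476244)))
theorem Q87305 : ∀ i, i < 87305 → P i := stepQ 87304 Q87304 (allL N87304 (tt N115581 D218838) (tt N111703 (iv0 F477578)) (tt N115582 D218839) (tt N51875 (iv3 D190166)) (tt N110956 (iv4 F473958)) (tt N91741 (iv5 F394274)) (tt N111481 (iv6 F476543)) (tt N87995 (iv7 F381422)))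
theorem Q87306 : ∀ i, i < 87306 → P i := stepQ 87305 Q87305 (allL N87305 (tt N101544 (iv1 F433329)) (tt N79188 F381520) (tt N87988 (iv2 F381394)) (tt N111481 (iv3 F476542)) (tt N51876 F379021) (tt N79191 (iv5 F379022)) (tt N51875 (iv6 D190167)) (tt N100542 (iv7 F429403)))
theorem Q87307 : ∀ i, i < 87307 → P i := stepQ 87306 Q87306 (allL N87306 (tt N87991 (iv1 F381411)) (tt N51876 (iv0 D190168)) (tt N87989 F381399) (tt N110960 F473975) (tt N111407 (iv4 F476212)) (tt N78491 F379023) (tt N110970 (iv6 F474014)) (tt N87990 (iv7 F381403)))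
theorem Q87308 : ∀ i, i < 87308 → P i := stepQ 87307 Q87307 (allL N87307 (tt N51876 (iv1 D190169)) (tt N87991 F381410) (tt N87990 F381405) (tt N112273 (iv3 F480301)) (tt N58014 (iv4 F379025)) (tt N55468 F379024) (tt N114210 (iv6 F489008)) (tt N87989 F381400))
theorem Q87309 : ∀ i, i < 87309 → P i := stepQ 87308 Q87308 (allL N87308 (tt N51916 F379030) (tt N51912 (iv0 F379031)) (tt N83833 F379026) (tt N82528 F379027) (tt N51877 (iv4 D190170)) (tt N100584 (iv5 F429562)) (tt N84324 F379028) (tt N82527 F379029))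
theorem Q87310 : ∀ i, i < 87310 → P i := stepQ 87309 Q87309 (allL N87309 (tt N51886 F379032) (tt N88001 F381443) (tt N87982 (iv2 F381368)) (tt N88059 (iv3 F381622)) (tt N108741 (iv4 F463770)) (tt N51877 (iv5 D190171)) (tt N115583 D218840) (tt N87928 (iv7 F381175)))
theorem Q87311 : ∀ i, i < 87311 → P i := stepQ 87310 Q87310 (allL N87310 (tt N87985 (iv1 F381382)) (tt N87984 F381379) (tt N51879 F379033) (tt N84571 F379034) (tt N107240 (iv4 F457603)) (tt N51878 (iv5 D190172)) (tt N95410 (iv6 F408134)) (tt N87983 (iv7 F381375)))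
theorem Q87312 : ∀ i, i < 87312 → P i := stepQ 87311 Q87311 (allL N87311 (tt N87983 (iv1 F381376)) (tt N51879 (iv0 D190173)) (tt N87985 F381385) (tt N115506 (iv3 F495546)) (tt N108744 (iv4 F463782)) (tt N87762 F380414) (tt N115584 D218841) (tt N87984 F381381))
theorem Q87313 : ∀ i, i < 87313 → P i := stepQ 87312 Q87312 (allL N87312 (tt N51879 (iv1 D190174)) (tt N87983 (iv0 F381377)) (tt N87984 F381380) (tt N88063 (iv3 F381643)) (tt N108743 (iv4 F463777)) (tt N87704 (iv5 F381191)) (tt N108743 (iv6 F463778)) (tt N87985 (iv7 F381383)))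
theorem Q87314 : ∀ i, i < 87314 → P i := stepQ 87313 Q87313 (allL N87313 (tt N107229 (iv1 F457555)) (tt N76251 F379037) (tt N107240 F457604) (tt N115585 D218842) (tt N51879 (iv4 D190175)) (tt N74159 F379036) (tt N115586 D218843) (tt N74158 F379035))
theorem Q87315 : ∀ i, i < 87315 → P i := stepQ 87314 Q87314 (allL N87314 (tt N95408 (iv1 F408129)) (tt N95407 F408135) (tt N95410 (iv2 F408132)) (tt N51882 F379038) (tt N115586 (iv4 F495873)) (tt N91634 (iv5 F393847)) (tt N51879 (iv6 D190176)) (tt N95307 (iv7 F407800)))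
theorem Q87316 : ∀ i, i < 87316 → P i := stepQ 87315 Q87315 (allL N87315 (tt N59819 (iv1 F379039)) (tt N51880 (iv0 D190177)) (tt N91430 F393101) (tt N114178 (iv3 F488856)) (tt N107499 (iv4 F458544)) (tt N83156 (iv5 F379040)) (tt N110539 (iv6 F472055)) (tt N87931 F381206))
theorem Q87317 : ∀ i, i < 87317 → P i := stepQ 87316 Q87316 (allL N87316 (tt N51880 (iv1 D190178)) (tt N59819 F379041) (tt N87931 (iv2 F381199)) (tt N63499 F379043) (tt N88445 (iv4 F383077)) (tt N63498 (iv5 F379042)) (tt N52104 (iv6 F379044)) (tt N91430 (iv7 F393097)))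
theorem Q87318 : ∀ i, i < 87318 → P i := stepQ 87317 Q87317 (allL N87317 (tt N115587 D218844) (tt N94501 (iv0 F404725)) (tt N115588 D218845) (tt N51881 (iv3 D190179)) (tt N115585 (iv4 F495868)) (tt N73438 F379045) (tt N115589 D218846) (tt N87987 (iv7 F381393)))
theorem Q87319 : ∀ i, i < 87319 → P i := stepQ 87318 Q87318 (allL N87318 (tt N114201 F488962) (tt N108968 (iv0 F464714)) (tt N87996 (iv2 F381423)) (tt N115589 (iv3 F495886)) (tt N51882 F379046) (tt N112202 (iv5 F480036)) (tt N51881 (iv6 D190180)) (tt N115590 D218847))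
theorem Q87320 : ∀ i, i < 87320 → P i := stepQ 87319 Q87319 (allL N87319 (tt N88000 (iv1 F381438)) (tt N51882 (iv0 D190181)) (tt N87997 (iv2 F381436)) (tt N115545 (iv3 F495901)) (tt N115591 D218849) (tt N115592 D218850) (tt N115593 D218851) (tt N87998 F381437))
theorem Q87321 : ∀ i, i < 87321 → P i := stepQ 87320 Q87320 (allL N87320 (tt N51882 (iv1 D190182)) (tt N88000 F381434) (tt N87998 (iv2 F381427)) (tt N115594 D218852) (tt N96059 F410850) (tt N115513 (iv5 F495579)) (tt N87965 (iv6 F381311)) (tt N87997 (iv7 F381435)))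
theorem Q87322 : ∀ i, i < 87322 → P i := stepQ 87321 Q87321 (allL N87321 (tt N87998 (iv1 F381425)) (tt N87997 F381433) (tt N88000 (iv2 F381430)) (tt N95307 (iv3 F407798)) (tt N115590 (iv4 F495894)) (tt N91639 (iv5 F393858)) (tt N87991 (iv6 F381409)) (tt N51882 (iv7 D190183)))
theorem Q87323 : ∀ i, i < 87323 → P i := stepQ 87322 Q87322 (allL N87322 (tt N112247 F487311) (tt N115595 D218853) (tt N88042 (iv2 F381559)) (tt N99697 (iv3 F425786)) (tt N51883 (iv4 D190184)) (tt N89248 (iv5 F385780)) (tt N111647 (iv6 F477292)) (tt N88006 (iv7 F381453)))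
theorem Q87324 : ∀ i, i < 87324 → P i := stepQ 87323 Q87323 (allL N87323 (tt N115596 D218854) (tt N115597 D218855) (tt N108632 (iv2 F463288)) (tt N51884 (iv3 D190186)) (tt N99697 F425787) (tt N91737 (iv5 F394255)) (tt N115598 D218856) (tt N87441 (iv7 F379342)))
theorem Q87325 : ∀ i, i < 87325 → P i := stepQ 87324 Q87324 (allL N87324 (tt N115599 D218857) (tt N96587 (iv0 F413090)) (tt N87440 (iv2 F379337)) (tt N115598 (iv3 F495926)) (tt N51885 F379048) (tt N95198 (iv5 F407375)) (tt N51884 (iv6 D190187)) (tt N110450 (iv7 F471648)))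
theorem Q87326 : ∀ i, i < 87326 → P i := stepQ 87325 Q87325 (allL N87325 (tt N88005 (iv1 F381452)) (tt N51885 (iv0 D190188)) (tt N88003 F478514) (tt N108512 (iv3 F462901)) (tt N91770 (iv4 F474445)) (tt N108511 F462900) (tt N111055 F474444) (tt N88004 (iv7 F478517)))
theorem Q87327 : ∀ i, i < 87327 → P i := stepQ 87326 Q87326 (allL N87326 (tt N51885 (iv1 D190189)) (tt N88005 F381451) (tt N88004 F478516) (tt N115561 (iv3 F495793)) (tt N91771 (iv4 F394363)) (tt N115600 D218858) (tt N111397 (iv6 F476169)) (tt N88003 F478515))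
theorem Q87328 : ∀ i, i < 87328 → P i := stepQ 87327 Q87327 (allL N87327 (tt N88004 (iv1 F381446)) (tt N88003 F381450) (tt N88005 (iv2 F381447)) (tt N111623 (iv3 F477194)) (tt N110450 (iv4 F471646)) (tt N88352 (iv5 F382710)) (tt N88010 (iv6 F381470)) (tt N51885 (iv7 D190190)))
theorem Q87329 : ∀ i, i < 87329 → P i := stepQ 87328 Q87328 (allL N87328 (tt N87928 (iv1 F381177)) (tt N87982 (iv0 F381370)) (tt N51886 (iv2 D190191)) (tt N84573 F379049) (tt N87378 F379162) (tt N87007 F379050) (tt N115601 D218859) (tt N88001 (iv7 F381441)))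
theorem Q87330 : ∀ i, i < 87330 → P i := stepQ 87329 Q87329 (allL N87329 (tt N87354 (iv1 F379114)) (tt N84515 F379051) (tt N87378 (iv2 F379163)) (tt N90653 (iv3 F390409)) (tt N51886 (iv4 D190192)) (tt N72325 (iv5 F379052)) (tt N115602 D218860) (tt N87377 F379159))
theorem Q87331 : ∀ i, i < 87331 → P i := stepQ 87330 Q87330 (allL N87330 (tt N115603 D218861) (tt N96828 (iv0 F414159)) (tt N115601 (iv2 F495940)) (tt N51888 F379053) (tt N115602 (iv4 F495946)) (tt N87011 F379054) (tt N51886 (iv6 D190193)) (tt N115604 D218862))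
theorem Q87332 : ∀ i, i < 87332 → P i := stepQ 87331 Q87331 (allL N87331 (tt N112206 (iv1 F480053)) (tt N73440 F394122) (tt N115066 (iv2 F493317)) (tt N51887 (iv3 D190194)) (tt N90653 F390411) (tt N91707 (iv5 F394116)) (tt N87443 (iv6 F389460)) (tt N87439 (iv7 F379334)))
theorem Q87333 : ∀ i, i < 87333 → P i := stepQ 87332 Q87332 (allL N87332 (tt N73505 F379059) (tt N73485 F379060) (tt N73502 F379055) (tt N87443 F389458) (tt N51888 F379056) (tt N76175 (iv5 F379057)) (tt N51887 (iv6 D190195)) (tt N73503 F379058))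
theorem Q87334 : ∀ i, i < 87334 → P i := stepQ 87333 Q87333 (allL N87333 (tt N51888 (iv1 D190196)) (tt N88010 F381471) (tt N88009 F381466) (tt N108525 (iv3 F462942)) (tt N90382 (iv4 F389457)) (tt N103073 (iv5 F439955)) (tt N108523 (iv6 F462935)) (tt N88008 F381461))
theorem Q87335 : ∀ i, i < 87335 → P i := stepQ 87334 Q87334 (allL N87334 (tt N88009 (iv1 F381462)) (tt N88008 F381460) (tt N88010 (iv2 F381467)) (tt N115604 (iv3 F495955)) (tt N73503 F379061) (tt N87015 F379062) (tt N88005 (iv6 F381449)) (tt N51888 (iv7 D190197)))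
theorem Q87336 : ∀ i, i < 87336 → P i := stepQ 87335 Q87335 (allL N87335 (tt N115605 D218863) (tt N115606 D218864) (tt N88020 (iv2 F381496)) (tt N93310 (iv3 F400341)) (tt N51891 F379063) (tt N93307 (iv5 F400339)) (tt N51890 (iv6 D190198)) (tt N111697 (iv7 F477549)))
theorem Q87337 : ∀ i, i < 87337 → P i := stepQ 87336 Q87336 (allL N87336 (tt N87981 (iv1 F381367)) (tt N51891 (iv0 D190199)) (tt N88021 F488995) (tt N115607 D218865) (tt N115608 D218866) (tt N111896 (iv5 F478547)) (tt N115609 D218867) (tt N88022 (iv7 F488994)))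
theorem Q87338 : ∀ i, i < 87338 → P i := stepQ 87337 Q87337 (allL N87337 (tt N51891 (iv1 D190200)) (tt N87981 F381366) (tt N88022 (iv2 F488996)) (tt N115610 D218868) (tt N115611 D218869) (tt N111897 F478552) (tt N115612 D218870) (tt N88021 F488997))
theorem Q87339 : ∀ i, i < 87339 → P i := stepQ 87338 Q87338 (allL N87338 (tt N114098 (iv1 F488554)) (tt N114097 F488553) (tt N84586 F379064) (tt N115613 D218871) (tt N51892 (iv4 D190201)) (tt N115614 D218872) (tt N115615 D218873) (tt N88023 (iv7 F381501)))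
theorem Q87340 : ∀ i, i < 87340 → P i := stepQ 87339 Q87339 (allL N87339 (tt N115616 D218874) (tt N115617 D218875) (tt N84587 F379065) (tt N51894 F379066) (tt N115615 (iv4 F495983)) (tt N91581 (iv5 F393697)) (tt N51892 (iv6 D190202)) (tt N115618 D218876))
theorem Q87341 : ∀ i, i < 87341 → P i := stepQ 87340 Q87340 (allL N87340 (tt N115619 D218877) (tt N115620 D218878) (tt N108234 (iv2 F461611)) (tt N51893 (iv3 D190203)) (tt N115613 (iv4 F495976)) (tt N90297 (iv5 F389266)) (tt N74576 F401258) (tt N88025 (iv7 F381506)))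
theorem Q87342 : ∀ i, i < 87342 → P i := stepQ 87341 Q87341 (allL N87341 (tt N115591 F495903) (tt N96059 (iv0 F410851)) (tt N84609 F379067) (tt N74576 (iv3 F401259)) (tt N51894 F379068) (tt N104371 (iv5 F445462)) (tt N51893 (iv6 D190204)) (tt N115621 D218879))
theorem Q87343 : ∀ i, i < 87343 → P i := stepQ 87342 Q87342 (allL N87342 (tt N84612 (iv1 F379078)) (tt N51894 (iv0 D190205)) (tt N84610 F379073) (tt N60221 (iv3 F379071)) (tt N111561 (iv4 F476932)) (tt N60219 F379070) (tt N83610 F379069) (tt N84611 (iv7 F379072)))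
theorem Q87344 : ∀ i, i < 87344 → P i := stepQ 87343 Q87343 (allL N87343 (tt N51894 (iv1 D190206)) (tt N84612 F379074) (tt N84611 F379077) (tt N108630 (iv3 F463283)) (tt N115622 D218880) (tt N55221 (iv5 F379076)) (tt N88126 (iv6 F381858)) (tt N84610 F379075))
theorem Q87345 : ∀ i, i < 87345 → P i := stepQ 87344 Q87344 (allL N87344 (tt N84611 (iv1 F379081)) (tt N84610 F379082) (tt N84612 F379080) (tt N115618 (iv3 F495993)) (tt N115621 (iv4 F496007)) (tt N91584 (iv5 F393703)) (tt N88029 (iv6 F381523)) (tt N51894 (iv7 D190207)))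
theorem Q87346 : ∀ i, i < 87346 → P i := stepQ 87345 Q87345 (allL N87345 (tt N88448 F383090) (tt N84064 F379085) (tt N83824 F379083) (tt N86776 F379084) (tt N104727 (iv4 F447007)) (tt N51895 (iv5 D190208)) (tt N100612 F429708) (tt N88258 (iv7 F382389)))
theorem Q87347 : ∀ i, i < 87347 → P i := stepQ 87346 Q87346 (allL N87346 (tt N88232 (iv1 F382289)) (tt N87897 (iv0 F381015)) (tt N88081 (iv2 F381723)) (tt N66527 F379087) (tt N60240 F379089) (tt N51896 (iv5 D190209)) (tt N51897 F379088) (tt N88202 (iv7 F382156)))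
theorem Q87348 : ∀ i, i < 87348 → P i := stepQ 87347 Q87347 (allL N87347 (tt N104038 F443903) (tt N115623 D218881) (tt N88082 (iv2 F381727)) (tt N82480 F379090) (tt N51897 (iv4 D190210)) (tt N115624 D218882) (tt N60240 F379091) (tt N88259 (iv7 F382391)))
theorem Q87349 : ∀ i, i < 87349 → P i := stepQ 87348 Q87348 (allL N87348 (tt N114705 (iv1 F491439)) (tt N87880 F380948) (tt N88153 (iv2 F381941)) (tt N51901 F379092) (tt N114228 (iv4 F489097)) (tt N51898 (iv5 D190211)) (tt N97182 (iv6 F415791)) (tt N115262 (iv7 F494262)))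
theorem Q87350 : ∀ i, i < 87350 → P i := stepQ 87349 Q87349 (allL N87349 (tt N105571 (iv1 F450786)) (tt N96484 (iv0 F412710)) (tt N88075 (iv2 F381690)) (tt N72049 F379093) (tt N113806 (iv4 F487197)) (tt N51899 (iv5 D190212)) (tt N89157 (iv6 F385383)) (tt N88779 (iv7 F384107)))
theorem Q87351 : ∀ i, i < 87351 → P i := stepQ 87350 Q87350 (allL N87350 (tt N51911 (iv1 F379100)) (tt N51903 (iv0 D190213)) (tt N51908 (iv2 F379097)) (tt N101235 (iv3 F432340)) (tt N101238 (iv4 F432353)) (tt N115625 D218883) (tt N111001 (iv6 F474180)) (tt N51909 (iv7 F379098)))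
theorem Q87352 : ∀ i, i < 87352 → P i := stepQ 87351 Q87351 (allL N87351 (tt N51903 (iv1 D190214)) (tt N51911 F379094) (tt N51909 F379099) (tt N51945 (iv3 F379095)) (tt N110774 (iv4 F473137)) (tt N115626 D218884) (tt N91316 (iv6 F392698)) (tt N51908 F379096))
theorem Q87353 : ∀ i, i < 87353 → P i := stepQ 87352 Q87352 (allL N87352 (tt N115602 F495949) (tt N102325 (iv0 F436738)) (tt N51910 F379101) (tt N61080 F379102) (tt N84495 F379104) (tt N51903 (iv5 D190215)) (tt N51904 F379103) (tt N87187 (iv7 F379105)))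
theorem Q87354 : ∀ i, i < 87354 → P i := stepQ 87353 Q87353 (allL N87353 (tt N51909 (iv1 F379109)) (tt N51908 F379110) (tt N51911 F379106) (tt N61081 F379107) (tt N96982 (iv4 F414915)) (tt N87187 F379108) (tt N88084 (iv6 F381735)) (tt N51903 (iv7 D190216)))
theorem Q87355 : ∀ i, i < 87355 → P i := stepQ 87354 Q87354 (allL N87354 (tt N107239 (iv1 F457599)) (tt N87329 F379114) (tt N51921 F379111) (tt N84496 F379112) (tt N51904 (iv4 D190217)) (tt N99699 (iv5 F425796)) (tt N84495 F379113) (tt N108627 (iv7 F463276)))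
theorem Q87356 : ∀ i, i < 87356 → P i := stepQ 87355 Q87355 (allL N87355 (tt N115569 F495816) (tt N100665 (iv0 F429911)) (tt N101238 (iv2 F432352)) (tt N61007 F379115) (tt N51908 (iv4 D190218)) (tt N94573 F419361) (tt N100149 F427709) (tt N110774 (iv7 F473138)))
theorem Q87357 : ∀ i, i < 87357 → P i := stepQ 87356 Q87356 (allL N87356 (tt N114216 F489041) (tt N102981 (iv0 F461881)) (tt N115625 (iv2 F496024)) (tt N114870 (iv3 F492255)) (tt N115627 D218885) (tt N51908 (iv5 D190219)) (tt N114141 F488725) (tt N115626 (iv7 F496033)))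
theorem Q87358 : ∀ i, i < 87358 → P i := stepQ 87357 Q87357 (allL N87357 (tt N84269 F461880) (tt N109020 (iv0 F464966)) (tt N111001 F474178) (tt N71732 F379116) (tt N100149 (iv4 F427706)) (tt N71730 (iv5 F379117)) (tt N51908 (iv6 D190220)) (tt N110600 (iv7 F472325)))
theorem Q87359 : ∀ i, i < 87359 → P i := stepQ 87358 Q87358 (allL N87358 (tt N84156 (iv1 F379119)) (tt N113831 F487338) (tt N111291 (iv2 F475661)) (tt N51909 (iv3 D190221)) (tt N84152 F379118) (tt N115628 D218886) (tt N113691 (iv6 F486659)) (tt N101235 (iv7 F432339)))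
theorem Q87360 : ∀ i, i < 87360 → P i := stepQ 87359 Q87359 (allL N87359 (tt N100665 F429912) (tt N115569 (iv0 F495814)) (tt N110774 (iv2 F473135)) (tt N91379 (iv3 F392924)) (tt N51909 (iv4 D190222)) (tt N91377 F392925) (tt N94178 F403568) (tt N101238 (iv7 F432355)))
theorem Q87361 : ∀ i, i < 87361 → P i := stepQ 87360 Q87360 (allL N87360 (tt N102981 (iv1 F439540)) (tt N114216 (iv0 F489040)) (tt N115626 (iv2 F496030)) (tt N115628 (iv3 F496041)) (tt N115629 D218887) (tt N51909 (iv5 D190223)) (tt N115630 D218888) (tt N115625 (iv7 F496027)))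
theorem Q87362 : ∀ i, i < 87362 → P i := stepQ 87361 Q87361 (allL N87361 (tt N59681 (iv1 F403135)) (tt N91312 F403137) (tt N91316 F392699) (tt N113691 (iv3 F486657)) (tt N94178 (iv4 F403566)) (tt N113687 (iv5 F486635)) (tt N51909 (iv6 D190224)) (tt N91317 (iv7 F392701)))
theorem Q87363 : ∀ i, i < 87363 → P i := stepQ 87362 Q87362 (allL N87362 (tt N87187 (iv1 F379133)) (tt N51910 (iv0 D190225)) (tt N115602 (iv2 F495945)) (tt N114871 F492262) (tt N115601 (iv4 F495942)) (tt N102326 (iv5 F436742)) (tt N87378 F379164) (tt N102325 F436740))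
theorem Q87364 : ∀ i, i < 87364 → P i := stepQ 87363 Q87363 (allL N87363 (tt N51910 (iv1 D190226)) (tt N87187 F379120) (tt N102325 (iv2 F436735)) (tt N115631 D218889) (tt N115604 (iv4 F495956)) (tt N77795 (iv5 F379121)) (tt N77796 F379122) (tt N115602 (iv7 F495948)))
theorem Q87365 : ∀ i, i < 87365 → P i := stepQ 87364 Q87364 (allL N87364 (tt N87249 (iv1 F379128)) (tt N87248 F379127) (tt N84495 F379123) (tt N108533 (iv3 F462976)) (tt N51910 (iv4 D190227)) (tt N87082 (iv5 F379125)) (tt N51921 F379124) (tt N87250 (iv7 F379126)))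
theorem Q87366 : ∀ i, i < 87366 → P i := stepQ 87365 Q87365 (allL N87365 (tt N102325 F436739) (tt N115602 F495950) (tt N87187 F379129) (tt N51930 F379130) (tt N87250 F379131) (tt N51911 F379132) (tt N114109 (iv6 F488587)) (tt N51910 (iv7 D190228)))
theorem Q87367 : ∀ i, i < 87367 → P i := stepQ 87366 Q87366 (allL N87366 (tt N111989 F478982) (tt N84192 (iv0 F392569)) (tt N83835 F379134) (tt N86779 F379135) (tt N51914 F379136) (tt N110769 (iv5 F473103)) (tt N51912 (iv6 D190229)) (tt N102083 (iv7 F435642)))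
theorem Q87368 : ∀ i, i < 87368 → P i := stepQ 87367 Q87367 (allL N87367 (tt N58664 F379138) (tt N58661 F379139) (tt N114104 (iv2 F488573)) (tt N111304 (iv3 F475727)) (tt N108739 (iv4 F463765)) (tt N58465 F379137) (tt N51913 (iv6 D190230)) (tt N96803 (iv7 F414025)))
theorem Q87369 : ∀ i, i < 87369 → P i := stepQ 87368 Q87368 (allL N87368 (tt N114706 (iv1 F491445)) (tt N114092 F488549) (tt N111306 (iv2 F475736)) (tt N51917 F379140) (tt N85362 F379141) (tt N51915 (iv5 D190231)) (tt N115632 D218890) (tt N113832 (iv7 F487343)))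
theorem Q87370 : ∀ i, i < 87370 → P i := stepQ 87369 Q87369 (allL N87369 (tt N86235 (iv1 F379144)) (tt N86237 (iv0 F379145)) (tt N108492 (iv2 F462815)) (tt N51918 F379142) (tt N82892 F379143) (tt N53916 (iv5 F379146)) (tt N51915 (iv6 D190232)) (tt N88274 (iv7 F382428)))
theorem Q87371 : ∀ i, i < 87371 → P i := stepQ 87370 Q87370 (allL N87370 (tt N108744 (iv1 F463780)) (tt N108743 F463779) (tt N108745 (iv2 F463783)) (tt N115579 (iv3 F495850)) (tt N51917 (iv4 D190233)) (tt N99728 (iv5 F425930)) (tt N115633 D218891) (tt N99727 F425927))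
theorem Q87372 : ∀ i, i < 87372 → P i := stepQ 87371 Q87371 (allL N87371 (tt N84632 F453199) (tt N115634 D218892) (tt N114103 (iv2 F488569)) (tt N115632 (iv3 F496061)) (tt N115633 (iv4 F496065)) (tt N106116 F453198) (tt N51917 (iv6 D190234)) (tt N106115 F453200))
theorem Q87373 : ∀ i, i < 87373 → P i := stepQ 87372 Q87372 (allL N87372 (tt N53610 F379150) (tt N54996 F379151) (tt N54997 F379147) (tt N53916 F379148) (tt N76052 (iv4 F383081)) (tt N51918 (iv5 D190235)) (tt N106116 (iv6 F453195)) (tt N54998 F379149))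
theorem Q87374 : ∀ i, i < 87374 → P i := stepQ 87373 Q87373 (allL N87373 (tt N108741 (iv1 F463772)) (tt N108742 (iv0 F463774)) (tt N107243 (iv2 F457613)) (tt N80254 (iv3 F379156)) (tt N51919 (iv4 D190236)) (tt N76252 (iv5 F379157)) (tt N58659 F379154) (tt N107242 (iv7 F457611)))
theorem Q87375 : ∀ i, i < 87375 → P i := stepQ 87374 Q87374 (allL N87374 (tt N95434 (iv1 F408175)) (tt N95437 (iv0 F408181)) (tt N104836 (iv2 F447527)) (tt N104047 (iv3 F443926)) (tt N58659 (iv4 F379153)) (tt N70608 F379152) (tt N51919 (iv6 D190237)) (tt N58658 F379155))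
theorem Q87376 : ∀ i, i < 87376 → P i := stepQ 87375 Q87375 (allL N87375 (tt N112061 (iv1 F479310)) (tt N113710 (iv0 F486768)) (tt N111301 (iv2 F475707)) (tt N51920 (iv3 D190238)) (tt N115553 (iv4 F495753)) (tt N89904 F387932) (tt N81157 (iv6 F387933)) (tt N113833 (iv7 F487349)))
theorem Q87377 : ∀ i, i < 87377 → P i := stepQ 87376 Q87376 (allL N87376 (tt N108742 (iv1 F463775)) (tt N108741 (iv0 F463771)) (tt N107242 (iv2 F457609)) (tt N87975 F385458) (tt N51920 (iv4 D190239)) (tt N75675 (iv5 F385456)) (tt N87974 (iv6 F385459)) (tt N107243 (iv7 F457616)))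
theorem Q87378 : ∀ i, i < 87378 → P i := stepQ 87377 Q87377 (allL N87377 (tt N108627 (iv1 F463278)) (tt N51921 (iv0 D190241)) (tt N107239 (iv2 F457594)) (tt N112240 F480186) (tt N52436 F379158) (tt N76249 (iv5 F379160)) (tt N95433 F408173) (tt N87329 (iv7 F379159)))
theorem Q87379 : ∀ i, i < 87379 → P i := stepQ 87378 Q87378 (allL N87378 (tt N51921 (iv1 D190242)) (tt N108627 (iv0 F463277)) (tt N87329 F379163) (tt N115635 D218893) (tt N87328 (iv4 F379162)) (tt N76250 F379161) (tt N87362 (iv6 F379164)) (tt N107239 (iv7 F457596)))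
theorem Q87380 : ∀ i, i < 87380 → P i := stepQ 87379 Q87379 (allL N87379 (tt N102974 (iv1 F439519)) (tt N102975 (iv0 F439520)) (tt N88125 (iv2 F381851)) (tt N51923 F379165) (tt N115636 D218894) (tt N51922 (iv5 D190243)) (tt N84589 (iv6 F379166)) (tt N88163 (iv7 F381967)))
theorem Q87381 : ∀ i, i < 87381 → P i := stepQ 87380 Q87380 (allL N87380 (tt N51924 (iv1 D190244)) (tt N55216 F379167) (tt N55218 F379172) (tt N109020 (iv3 F464963)) (tt N65237 F379169) (tt N75415 (iv5 F379171)) (tt N52028 (iv6 F379170)) (tt N55129 F379168))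
theorem Q87382 : ∀ i, i < 87382 → P i := stepQ 87381 Q87381 (allL N87381 (tt N52344 F379176) (tt N52340 F379177) (tt N52594 F379173) (tt N87119 F379174) (tt N97636 (iv4 F417717)) (tt N51926 (iv5 D190245)) (tt N97641 (iv6 F417733)) (tt N52595 F379175))
theorem Q87383 : ∀ i, i < 87383 → P i := stepQ 87382 Q87382 (allL N87382 (tt N115444 (iv1 F495227)) (tt N75946 (iv0 F379180)) (tt N88130 (iv2 F381868)) (tt N51927 (iv3 D190246)) (tt N115637 D218895) (tt N66700 F379178) (tt N115638 D218896) (tt N66699 F379179))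
theorem Q87384 : ∀ i, i < 87384 → P i := stepQ 87383 Q87383 (allL N87383 (tt N84577 F379182) (tt N114086 F488537) (tt N88164 (iv2 F381968)) (tt N115638 (iv3 F496084)) (tt N84605 F379181) (tt N55247 F379183) (tt N51927 (iv6 D190247)) (tt N111520 (iv7 F476700)))
theorem Q87385 : ∀ i, i < 87385 → P i := stepQ 87384 Q87384 (allL N87384 (tt N88166 (iv1 F381983)) (tt N51929 (iv0 D190248)) (tt N87213 (iv2 F379185)) (tt N108756 (iv3 F463823)) (tt N52469 F379184) (tt N69453 (iv5 F379187)) (tt N84579 F379188) (tt N87216 (iv7 F379186)))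
theorem Q87386 : ∀ i, i < 87386 → P i := stepQ 87385 Q87385 (allL N87385 (tt N51929 (iv1 D190249)) (tt N88166 F381982) (tt N87216 F379195) (tt N112252 (iv3 F480230)) (tt N52470 F379190) (tt N69454 F379191) (tt N111894 (iv6 F478542)) (tt N87213 F379189))
theorem Q87387 : ∀ i, i < 87387 → P i := stepQ 87386 Q87386 (allL N87386 (tt N55064 F379200) (tt N103147 (iv0 F440295)) (tt N67019 F379197) (tt N105867 (iv3 F452083)) (tt N66917 F379198) (tt N51929 (iv5 D190251)) (tt N91965 (iv6 F395160)) (tt N67014 F379199))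
theorem Q87388 : ∀ i, i < 87388 → P i := stepQ 87387 Q87387 (allL N87387 (tt N87216 (iv1 F379203)) (tt N87213 F379204) (tt N88166 (iv2 F381978)) (tt N99649 F425584) (tt N51930 F379201) (tt N67014 F379202) (tt N114111 (iv6 F488596)) (tt N51929 (iv7 D190252)))
theorem Q87389 : ∀ i, i < 87389 → P i := stepQ 87388 Q87388 (allL N87388 (tt N115639 D218897) (tt N115640 D218898) (tt N88137 (iv2 F381894)) (tt N91992 (iv3 F395284)) (tt N51931 (iv4 D190253)) (tt N105862 (iv5 F452058)) (tt N113766 (iv6 F487019)) (tt N88167 (iv7 F381985)))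
theorem Q87390 : ∀ i, i < 87390 → P i := stepQ 87389 Q87389 (allL N87389 (tt N115641 D218899) (tt N115642 D218900) (tt N88138 (iv2 F381896)) (tt N51932 F379205) (tt N113766 (iv4 F487021)) (tt N88309 F382541) (tt N51931 (iv6 D190254)) (tt N91993 (iv7 F395290)))
theorem Q87391 : ∀ i, i < 87391 → P i := stepQ 87390 Q87390 (allL N87390 (tt N55501 (iv1 F379207)) (tt N51932 (iv0 D190255)) (tt N55502 (iv2 F379208)) (tt N115643 D218901) (tt N88069 (iv4 F381671)) (tt N86768 F379206) (tt N111514 F476669) (tt N55503 (iv7 F379209)))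
theorem Q87392 : ∀ i, i < 87392 → P i := stepQ 87391 Q87391 (allL N87391 (tt N51932 (iv1 D190256)) (tt N55501 F379213) (tt N55503 (iv2 F379215)) (tt N95437 (iv3 F408182)) (tt N88068 (iv4 F381664)) (tt N86762 (iv5 F379216)) (tt N111635 (iv6 F477239)) (tt N55502 F379214))
theorem Q87393 : ∀ i, i < 87393 → P i := stepQ 87392 Q87392 (allL N87392 (tt N58439 F379226) (tt N58518 (iv0 F379225)) (tt N95739 (iv2 F409381)) (tt N51933 (iv3 D190257)) (tt N111694 (iv4 F477529)) (tt N83523 F379223) (tt N111693 F477526) (tt N87247 F379224))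
theorem Q87394 : ∀ i, i < 87394 → P i := stepQ 87393 Q87393 (allL N87393 (tt N108531 (iv1 F462972)) (tt N51934 (iv0 D190258)) (tt N114110 (iv2 F488594)) (tt N99650 F425586) (tt N97136 (iv4 F415623)) (tt N91983 F395244) (tt N104041 (iv6 F443908)) (tt N111311 (iv7 F475758)))
theorem Q87395 : ∀ i, i < 87395 → P i := stepQ 87394 Q87394 (allL N87394 (tt N114110 (iv1 F488588)) (tt N111311 (iv0 F475759)) (tt N51934 (iv2 D190260)) (tt N88169 (iv3 F381986)) (tt N99671 (iv4 F425681)) (tt N91963 (iv5 F395154)) (tt N99648 (iv6 F425574)) (tt N108531 (iv7 F462970)))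
theorem Q87396 : ∀ i, i < 87396 → P i := stepQ 87395 Q87395 (allL N87395 (tt N87877 F380940) (tt N112434 (iv0 F481091)) (tt N88079 (iv2 F381715)) (tt N51936 F379227) (tt N104003 (iv4 F443742)) (tt N51935 (iv5 D190261)) (tt N111808 (iv6 F478079)) (tt N86809 F379228))
theorem Q87397 : ∀ i, i < 87397 → P i := stepQ 87396 Q87396 (allL N87396 (tt N114238 (iv1 F489162)) (tt N82598 F379230) (tt N82476 F379229) (tt N103972 (iv3 F443587)) (tt N51936 (iv4 D190262)) (tt N82475 (iv5 F379231)) (tt N103217 (iv6 F440620)) (tt N103970 (iv7 F443579)))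
theorem Q87398 : ∀ i, i < 87398 → P i := stepQ 87397 Q87397 (allL N87397 (tt N87895 F381701) (tt N88239 F382310) (tt N79980 F379233) (tt N88076 (iv3 F381695)) (tt N68392 F379235) (tt N51937 (iv5 D190263)) (tt N51938 F379234) (tt N88218 (iv7 F382222)))
theorem Q87399 : ∀ i, i < 87399 → P i := stepQ 87398 Q87398 (allL N87398 (tt N79946 F379238) (tt N79935 F379239) (tt N51954 F379236) (tt N52424 (iv3 F379241)) (tt N51939 (iv4 D190264)) (tt N52406 F379237) (tt N114873 (iv6 F492271)) (tt N52405 F379240))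
theorem Q87400 : ∀ i, i < 87400 → P i := stepQ 87399 Q87399 (allL N87399 (tt N51953 (iv1 F379245)) (tt N51952 F379246) (tt N51955 F379242) (tt N88091 (iv3 F381767)) (tt N52405 F379243) (tt N51940 F379244) (tt N52414 (iv6 F379247)) (tt N51939 (iv7 D190265)))
theorem Q87401 : ∀ i, i < 87401 → P i := stepQ 87400 Q87400 (allL N87400 (tt N113831 (iv1 F487339)) (tt N84156 (iv0 F379250)) (tt N101235 (iv2 F432337)) (tt N51944 (iv3 D190266)) (tt N84151 F379248) (tt N113659 (iv5 F486522)) (tt N84266 F379249) (tt N111291 (iv7 F475663)))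
theorem Q87402 : ∀ i, i < 87402 → P i := stepQ 87401 Q87401 (allL N87401 (tt N115644 D218902) (tt N108571 F463097) (tt N114870 (iv2 F492254)) (tt N113659 (iv3 F486520)) (tt N108600 (iv4 F463206)) (tt N51944 (iv5 D190267)) (tt N108599 F463205) (tt N111292 (iv7 F475666)))
theorem Q87403 : ∀ i, i < 87403 → P i := stepQ 87402 Q87402 (allL N87402 (tt N108571 F463096) (tt N115644 F496116) (tt N111292 (iv2 F475665)) (tt N115626 (iv3 F496031)) (tt N115645 D218903) (tt N51945 (iv5 D190268)) (tt N115646 D218904) (tt N114870 (iv7 F492257)))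
theorem Q87404 : ∀ i, i < 87404 → P i := stepQ 87403 Q87403 (allL N87403 (tt N100647 F429834) (tt N66529 (iv0 F379252)) (tt N111293 (iv2 F475669)) (tt N91316 F392694) (tt N61698 F379251) (tt N87490 (iv5 F379540)) (tt N51945 (iv6 D190269)) (tt N98759 (iv7 F422187)))
theorem Q87405 : ∀ i, i < 87405 → P i := stepQ 87404 Q87404 (allL N87404 (tt N114874 (iv1 F492279)) (tt N51946 (iv0 D190270)) (tt N114871 F492261) (tt N113910 (iv3 F487739)) (tt N114189 (iv4 F488910)) (tt N88222 F382243) (tt N115647 D218905) (tt N114872 (iv7 F492266)))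
theorem Q87406 : ∀ i, i < 87406 → P i := stepQ 87405 Q87405 (allL N87405 (tt N51946 (iv1 D190271)) (tt N114874 F492278) (tt N114872 F492268) (tt N102325 (iv3 F436736)) (tt N114188 (iv4 F488907)) (tt N88223 (iv5 F382250)) (tt N97679 (iv6 F417884)) (tt N114871 F492263))
theorem Q87407 : ∀ i, i < 87407 → P i := stepQ 87406 Q87406 (allL N87406 (tt N115648 D218906) (tt N115649 D218907) (tt N114873 (iv2 F492269)) (tt N115650 D218908) (tt N51946 (iv4 D190272)) (tt N84600 F379254) (tt N51954 F379253) (tt N88162 (iv7 F381963)))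
theorem Q87408 : ∀ i, i < 87408 → P i := stepQ 87407 Q87407 (allL N87407 (tt N114872 (iv1 F492265)) (tt N114871 F492264) (tt N114874 (iv2 F492274)) (tt N51963 F379255) (tt N88162 (iv4 F381964)) (tt N51947 F379256) (tt N115651 D218909) (tt N51946 (iv7 D190273)))
theorem Q87409 : ∀ i, i < 87409 → P i := stepQ 87408 Q87408 (allL N87408 (tt N114092 F488548) (tt N114706 (iv0 F491444)) (tt N113832 (iv2 F487340)) (tt N51949 F379257) (tt N115652 D218910) (tt N51948 (iv5 D190274)) (tt N111983 F478962) (tt N111306 (iv7 F475738)))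
theorem Q87410 : ∀ i, i < 87410 → P i := stepQ 87409 Q87409 (allL N87409 (tt N87873 F380926) (tt N112049 F479260) (tt N112048 (iv2 F479253)) (tt N51950 F379258) (tt N82994 F379259) (tt N91952 (iv5 F395103)) (tt N51948 (iv6 D190275)) (tt N88299 (iv7 F382495)))
theorem Q87411 : ∀ i, i < 87411 → P i := stepQ 87410 Q87410 (allL N87410 (tt N51951 (iv1 F379262)) (tt N51949 (iv0 D190276)) (tt N55020 (iv2 F379261)) (tt N88105 (iv3 F381807)) (tt N111766 (iv4 F477863)) (tt N55013 F379260) (tt N115653 D218911) (tt N111303 (iv7 F475722)))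
theorem Q87412 : ∀ i, i < 87412 → P i := stepQ 87411 Q87411 (allL N87411 (tt N115654 D218912) (tt N114126 (iv0 F488664)) (tt N111304 (iv2 F475726)) (tt N111983 (iv3 F478959)) (tt N111784 (iv4 F477954)) (tt N91954 (iv5 F395116)) (tt N51949 (iv6 D190277)) (tt N115655 D218913))
theorem Q87413 : ∀ i, i < 87413 → P i := stepQ 87412 Q87412 (allL N87412 (tt N60221 F381687) (tt N78273 F381688) (tt N78271 (iv2 F410896)) (tt N114103 (iv3 F488570)) (tt N104903 (iv4 F447864)) (tt N91594 (iv5 F393732)) (tt N51951 (iv6 D190278)) (tt N78270 (iv7 F410897)))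
theorem Q87414 : ∀ i, i < 87414 → P i := stepQ 87413 Q87413 (allL N87413 (tt N113710 (iv1 F486769)) (tt N112061 (iv0 F479309)) (tt N113833 F487347) (tt N51952 (iv3 D190279)) (tt N115552 (iv4 F495744)) (tt N90643 F390384) (tt N115656 D218914) (tt N111301 (iv7 F475710)))
theorem Q87415 : ∀ i, i < 87415 → P i := stepQ 87414 Q87414 (allL N87414 (tt N115657 D218915) (tt N91777 F443930) (tt N104047 (iv2 F443925)) (tt N115656 (iv3 F496176)) (tt N111787 (iv4 F477971)) (tt N86573 F379263) (tt N51952 (iv6 D190280)) (tt N104049 (iv7 F443932)))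
theorem Q87416 : ∀ i, i < 87416 → P i := stepQ 87415 Q87415 (allL N87415 (tt N113655 (iv1 F486508)) (tt N95353 (iv0 F415584)) (tt N111302 (iv2 F475715)) (tt N114084 (iv3 F488520)) (tt N97127 F415583) (tt N111569 (iv5 F476963)) (tt N51953 (iv6 D190281)) (tt N115551 (iv7 F495740)))
theorem Q87417 : ∀ i, i < 87417 → P i := stepQ 87416 Q87416 (allL N87416 (tt N52405 (iv1 F379266)) (tt N51954 (iv0 D190282)) (tt N79946 (iv2 F379267)) (tt N109542 F467448) (tt N79021 F379265) (tt N61075 F379264) (tt N115658 D218916) (tt N79935 (iv7 F379268)))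
theorem Q87418 : ∀ i, i < 87418 → P i := stepQ 87417 Q87417 (allL N87417 (tt N51954 (iv1 D190283)) (tt N52405 F379269) (tt N79935 (iv2 F379272)) (tt N87176 (iv3 F379274)) (tt N79022 F379271) (tt N61069 (iv5 F379273)) (tt N94447 (iv6 F404514)) (tt N79946 F379270))
theorem Q87419 : ∀ i, i < 87419 → P i := stepQ 87418 Q87418 (allL N87418 (tt N87215 F379279) (tt N87263 F379282) (tt N87265 F379275) (tt N51954 (iv3 D190284)) (tt N51968 F379276) (tt N87204 F379277) (tt N115650 (iv6 F496144)) (tt N87257 F379278))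
theorem Q87420 : ∀ i, i < 87420 → P i := stepQ 87419 Q87419 (allL N87419 (tt N114185 (iv1 F488892)) (tt N110966 (iv0 F474001)) (tt N52414 F379283) (tt N51970 F379284) (tt N52401 F379285) (tt N84601 F379286) (tt N51955 (iv6 D190285)) (tt N115651 (iv7 F496152)))
theorem Q87421 : ∀ i, i < 87421 → P i := stepQ 87420 Q87420 (allL N87420 (tt N51958 (iv1 F379288)) (tt N51956 (iv0 D190286)) (tt N52611 (iv2 F379290)) (tt N115659 D218917) (tt N112306 (iv4 F480462)) (tt N52345 F379287) (tt N83609 (iv6 F379289)) (tt N88126 (iv7 F381855)))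
theorem Q87422 : ∀ i, i < 87422 → P i := stepQ 87421 Q87421 (allL N87421 (tt N51956 (iv1 D190287)) (tt N51958 F379291) (tt N88126 (iv2 F381857)) (tt N108571 (iv3 F463093)) (tt N74675 F379295) (tt N52612 (iv5 F379293)) (tt N84611 F379294) (tt N52611 F379292))
theorem Q87423 : ∀ i, i < 87423 → P i := stepQ 87422 Q87422 (allL N87422 (tt N115566 (iv1 F495805)) (tt N74596 F379298) (tt N88127 (iv2 F381859)) (tt N84609 F379296) (tt N51956 (iv4 D190288)) (tt N110986 (iv5 F474094)) (tt N84607 F379297) (tt N88128 (iv7 F381863)))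
theorem Q87424 : ∀ i, i < 87424 → P i := stepQ 87423 Q87423 (allL N87423 (tt N102975 (iv1 F439521)) (tt N102974 (iv0 F439518)) (tt N88163 (iv2 F381965)) (tt N51958 F379299) (tt N115660 D218918) (tt N51957 (iv5 D190289)) (tt N115661 D218919) (tt N88125 (iv7 F381853)))
theorem Q87425 : ∀ i, i < 87425 → P i := stepQ 87424 Q87424 (allL N87424 (tt N73815 (iv1 F379304)) (tt N75930 F379305) (tt N74847 F379300) (tt N51959 F379301) (tt N72737 F379302) (tt N87476 (iv5 F379466)) (tt N51957 (iv6 D190290)) (tt N72735 F379303))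
theorem Q87426 : ∀ i, i < 87426 → P i := stepQ 87425 Q87425 (allL N87425 (tt N74596 F380998) (tt N115566 (iv0 F495804)) (tt N88128 (iv2 F381862)) (tt N74577 (iv3 F401261)) (tt N51958 (iv4 D190291)) (tt N93830 (iv5 F402059)) (tt N111393 (iv6 F476149)) (tt N88127 (iv7 F381861)))
theorem Q87427 : ∀ i, i < 87427 → P i := stepQ 87426 Q87426 (allL N87426 (tt N114122 (iv1 F488644)) (tt N52080 (iv0 F379306)) (tt N88129 (iv2 F381864)) (tt N115661 (iv3 F496193)) (tt N111393 (iv4 F476151)) (tt N87478 (iv5 F379469)) (tt N51958 (iv6 D190292)) (tt N114121 (iv7 F488634)))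
theorem Q87428 : ∀ i, i < 87428 → P i := stepQ 87427 Q87427 (allL N87427 (tt N108151 F461314) (tt N115662 D218920) (tt N88131 (iv2 F381871)) (tt N88164 (iv3 F381969)) (tt N115576 (iv4 F495838)) (tt N91274 F392491) (tt N51960 (iv6 D190293)) (tt N91382 (iv7 F392935)))
theorem Q87429 : ∀ i, i < 87429 → P i := stepQ 87428 Q87428 (allL N87428 (tt N75946 F379309) (tt N115444 F495226) (tt N66699 F379307) (tt N51961 (iv3 D190294)) (tt N115663 D218921) (tt N66694 F379308) (tt N111821 (iv6 F478150)) (tt N88130 (iv7 F381869)))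
theorem Q87430 : ∀ i, i < 87430 → P i := stepQ 87429 Q87429 (allL N87429 (tt N112405 (iv1 F480968)) (tt N91776 (iv0 F394377)) (tt N88132 (iv2 F381873)) (tt N111821 F478148) (tt N94872 (iv4 F406205)) (tt N88185 (iv5 F382078)) (tt N51961 (iv6 D190295)) (tt N115664 D218922))
theorem Q87431 : ∀ i, i < 87431 → P i := stepQ 87430 Q87430 (allL N87430 (tt N88135 (iv1 F381888)) (tt N51962 (iv0 D190296)) (tt N87290 (iv2 F379311)) (tt N112188 (iv3 F479963)) (tt N52421 F379310) (tt N99627 (iv5 F425479)) (tt N108150 F461309) (tt N87293 (iv7 F379312)))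
theorem Q87432 : ∀ i, i < 87432 → P i := stepQ 87431 Q87431 (allL N87431 (tt N51962 (iv1 D190297)) (tt N88135 F381887) (tt N87293 (iv2 F379315)) (tt N115665 D218923) (tt N52422 F379314) (tt N99626 (iv5 F425470)) (tt N101539 (iv6 F433296)) (tt N87290 F379313))
theorem Q87433 : ∀ i, i < 87433 → P i := stepQ 87432 Q87432 (allL N87432 (tt N115666 D218924) (tt N115667 D218925) (tt N115668 D218926) (tt N51962 (iv3 D190298)) (tt N115650 (iv4 F496142)) (tt N112305 (iv5 F480458)) (tt N51968 F379316) (tt N115669 D218927))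
theorem Q87434 : ∀ i, i < 87434 → P i := stepQ 87433 Q87433 (allL N87433 (tt N87293 (iv1 F379319)) (tt N87290 F379320) (tt N88135 (iv2 F381884)) (tt N115669 (iv3 F496226)) (tt N51963 F379317) (tt N76214 F379318) (tt N115670 D218928) (tt N51962 (iv7 D190299)))
theorem Q87435 : ∀ i, i < 87435 → P i := stepQ 87434 Q87434 (allL N87434 (tt N88152 (iv1 F381940)) (tt N88151 F381939) (tt N88136 (iv2 F381889)) (tt N115651 (iv3 F496149)) (tt N115670 (iv4 F496232)) (tt N84606 F379322) (tt N51963 (iv6 D190300)) (tt N51970 F379323))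
theorem Q87436 : ∀ i, i < 87436 → P i := stepQ 87435 Q87435 (allL N87435 (tt N115640 (iv1 F496094)) (tt N115639 F496089) (tt N88167 (iv2 F381984)) (tt N90380 (iv3 F389451)) (tt N51964 (iv4 D190301)) (tt N115671 D218929) (tt N105863 F452062) (tt N88137 (iv7 F381895)))
theorem Q87437 : ∀ i, i < 87437 → P i := stepQ 87436 Q87436 (allL N87436 (tt N91991 (iv1 F395281)) (tt N80169 (iv0 F379327)) (tt N55485 F379324) (tt N51965 F379325) (tt N105863 (iv4 F452061)) (tt N55484 F379326) (tt N51964 (iv6 D190302)) (tt N91990 (iv7 F395278)))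
theorem Q87438 : ∀ i, i < 87438 → P i := stepQ 87437 Q87437 (allL N87437 (tt N55500 (iv1 F379330)) (tt N51965 (iv0 D190303)) (tt N88142 (iv2 F381912)) (tt N113655 (iv3 F486503)) (tt N103075 (iv4 F439967)) (tt N80364 F379328) (tt N114789 (iv6 F491869)) (tt N88143 (iv7 F381914)))
theorem Q87439 : ∀ i, i < 87439 → P i := stepQ 87438 Q87438 (allL N87438 (tt N88143 (iv1 F381913)) (tt N88142 F381909) (tt N55500 F379331) (tt N91990 (iv3 F395277)) (tt N90383 (iv4 F389462)) (tt N87030 F379332) (tt N88141 (iv6 F381903)) (tt N51965 (iv7 D190304)))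
theorem Q87440 : ∀ i, i < 87440 → P i := stepQ 87439 Q87439 (allL N87439 (tt N108094 (iv1 F461086)) (tt N108102 F461111) (tt N86263 (iv2 F379335)) (tt N51966 (iv3 D190305)) (tt N112240 (iv4 F480185)) (tt N85915 F379333) (tt N86169 (iv6 F379336)) (tt N87331 F379334))
theorem Q87441 : ∀ i, i < 87441 → P i := stepQ 87440 Q87440 (allL N87440 (tt N91774 F394374) (tt N91778 (iv0 F394379)) (tt N87324 F379337) (tt N86169 F379338) (tt N52437 F379339) (tt N86163 F379340) (tt N51966 (iv6 D190306)) (tt N108165 (iv7 F461363)))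
theorem Q87442 : ∀ i, i < 87442 → P i := stepQ 87441 Q87441 (allL N87441 (tt N115672 D218930) (tt N115673 D218931) (tt N115674 D218932) (tt N51967 (iv3 D190307)) (tt N110955 (iv4 F473952)) (tt N83074 F379341) (tt N108163 (iv6 F461355)) (tt N87323 F379342))
theorem Q87443 : ∀ i, i < 87443 → P i := stepQ 87442 Q87442 (allL N87442 (tt N87264 (iv1 F379349)) (tt N51968 (iv0 D190308)) (tt N108164 (iv2 F461358)) (tt N115675 D218933) (tt N115676 D218934) (tt N90326 (iv5 F389349)) (tt N115677 D218935) (tt N115678 D218936))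
theorem Q87444 : ∀ i, i < 87444 → P i := stepQ 87443 Q87443 (allL N87443 (tt N51968 (iv1 D190309)) (tt N87264 F379345) (tt N115678 (iv2 F496270)) (tt N87332 (iv3 F389458)) (tt N115679 D218937) (tt N90327 F389459) (tt N87331 F389460) (tt N108164 (iv7 F461357)))
theorem Q87445 : ∀ i, i < 87445 → P i := stepQ 87444 Q87444 (allL N87444 (tt N108164 (iv1 F461360)) (tt N115678 F496273) (tt N51968 (iv2 D190310)) (tt N88146 (iv3 F381921)) (tt N87265 F379343) (tt N90304 (iv5 F389285)) (tt N115668 (iv6 F496222)) (tt N87264 (iv7 F379344)))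
theorem Q87446 : ∀ i, i < 87446 → P i := stepQ 87445 Q87445 (allL N87445 (tt N115678 (iv1 F496274)) (tt N108164 (iv0 F461359)) (tt N87264 F379346) (tt N51969 F379347) (tt N87257 F379348) (tt N90214 (iv5 F388928)) (tt N87258 (iv6 F379350)) (tt N51968 (iv7 D190311)))
theorem Q87447 : ∀ i, i < 87447 → P i := stepQ 87446 Q87446 (allL N87446 (tt N115680 D218938) (tt N115681 D218939) (tt N88150 (iv2 F381937)) (tt N87258 F379351) (tt N51970 F379352) (tt N114529 (iv5 F490617)) (tt N51969 (iv6 D190312)) (tt N115670 (iv7 F496234)))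
theorem Q87448 : ∀ i, i < 87448 → P i := stepQ 87447 Q87447 (allL N87447 (tt N88136 (iv1 F381893)) (tt N51970 (iv0 D190313)) (tt N88151 F440256) (tt N84604 (iv3 F399905)) (tt N115605 (iv4 F495960)) (tt N114133 (iv5 F488684)) (tt N87558 F379753) (tt N88152 F440254))
theorem Q87449 : ∀ i, i < 87449 → P i := stepQ 87448 Q87448 (allL N87448 (tt N51970 (iv1 D190314)) (tt N88136 F381892) (tt N88152 (iv2 F440255)) (tt N115682 D218940) (tt N115606 (iv4 F495962)) (tt N114131 (iv5 F488680)) (tt N115683 D218941) (tt N88151 (iv7 F440257)))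
theorem Q87450 : ∀ i, i < 87450 → P i := stepQ 87449 Q87449 (allL N87449 (tt N55128 F379356) (tt N55125 F379357) (tt N55202 F379353) (tt N88186 (iv3 F382081)) (tt N96138 (iv4 F411202)) (tt N51975 (iv5 D190315)) (tt N75416 F379354) (tt N55203 F379355))
theorem Q87451 : ∀ i, i < 87451 → P i := stepQ 87450 Q87450 (allL N87450 (tt N51977 (iv1 D190316)) (tt N51981 F379359) (tt N51979 F379364) (tt N85575 (iv3 F379363)) (tt N63304 (iv4 F379362)) (tt N77787 F379361) (tt N90660 (iv6 F390447)) (tt N51978 F379360))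
theorem Q87452 : ∀ i, i < 87452 → P i := stepQ 87451 Q87451 (allL N87451 (tt N66691 F379368) (tt N53854 (iv0 F379370)) (tt N77793 F379365) (tt N51978 (iv3 D190317)) (tt N85576 F379369) (tt N77792 F379366) (tt N113911 (iv6 F487745)) (tt N85575 F379367))
theorem Q87453 : ∀ i, i < 87453 → P i := stepQ 87452 Q87452 (allL N87452 (tt N54566 (iv1 F390788)) (tt N54561 (iv0 F390443)) (tt N90660 (iv2 F390444)) (tt N77789 F379371) (tt N98749 (iv4 F422140)) (tt N90659 F390441) (tt N51979 (iv6 D190318)) (tt N113908 (iv7 F487730)))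
theorem Q87454 : ∀ i, i < 87454 → P i := stepQ 87453 Q87453 (allL N87453 (tt N97491 F417081) (tt N97485 F417050) (tt N92053 F395564) (tt N96097 (iv3 F411033)) (tt N51980 (iv4 D190319)) (tt N96096 F411031) (tt N54958 F379372) (tt N97492 (iv7 F417084)))
theorem Q87455 : ∀ i, i < 87455 → P i := stepQ 87454 Q87454 (allL N87454 (tt N51985 (iv1 F379376)) (tt N51982 (iv0 D190320)) (tt N55217 (iv2 F379375)) (tt N96608 (iv3 F413162)) (tt N59890 F379373) (tt N55129 F379374) (tt N92000 (iv6 F395317)) (tt N75415 F379377))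
theorem Q87456 : ∀ i, i < 87456 → P i := stepQ 87455 Q87455 (allL N87455 (tt N59881 F379382) (tt N66695 F379383) (tt N56030 F379378) (tt N51985 F379379) (tt N57293 F379381) (tt N51984 (iv5 D190321)) (tt N78650 F379384) (tt N66693 F379380))
theorem Q87457 : ∀ i, i < 87457 → P i := stepQ 87456 Q87456 (allL N87456 (tt N55575 F379389) (tt N91563 F393670) (tt N75397 F379386) (tt N58369 F379387) (tt N51985 (iv4 D190322)) (tt N91609 (iv5 F393772)) (tt N91905 (iv6 F394896)) (tt N71039 F379388))
theorem Q87458 : ∀ i, i < 87458 → P i := stepQ 87457 Q87457 (allL N87457 (tt N111718 F477645) (tt N111722 F477666) (tt N85712 F379390) (tt N88190 (iv3 F382098)) (tt N91305 (iv4 F392640)) (tt N84691 F379391) (tt N51987 (iv6 D190323)) (tt N84553 F379392))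
theorem Q87459 : ∀ i, i < 87459 → P i := stepQ 87458 Q87458 (allL N87458 (tt N58538 F379398) (tt N66692 F379399) (tt N73400 F379393) (tt N51988 (iv3 D190324)) (tt N58770 F379394) (tt N73398 F379395) (tt N84565 F379396) (tt N85713 F379397))
theorem Q87460 : ∀ i, i < 87460 → P i := stepQ 87459 Q87459 (allL N87459 (tt N102883 (iv1 F439090)) (tt N91814 (iv0 F409918)) (tt N97500 (iv2 F417123)) (tt N51989 (iv3 D190325)) (tt N96097 (iv4 F411036)) (tt N96090 (iv5 F410997)) (tt N54961 F379400) (tt N96796 (iv7 F413988)))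
theorem Q87461 : ∀ i, i < 87461 → P i := stepQ 87460 Q87460 (allL N87460 (tt N59893 F379401) (tt N95529 (iv0 F408506)) (tt N88188 (iv2 F382088)) (tt N96090 (iv3 F411000)) (tt N109273 (iv4 F466119)) (tt N51989 (iv5 D190326)) (tt N108504 (iv6 F462879)) (tt N95530 (iv7 F408508)))
theorem Q87462 : ∀ i, i < 87462 → P i := stepQ 87461 Q87461 (allL N87461 (tt N74763 (iv1 F379408)) (tt N74750 F379407) (tt N51993 (iv2 D190327)) (tt N64624 F379402) (tt N66936 F379403) (tt N64623 F379404) (tt N75379 F379405) (tt N68412 F379406))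
theorem Q87463 : ∀ i, i < 87463 → P i := stepQ 87462 Q87462 (allL N87462 (tt N77556 F379412) (tt N89957 (iv0 F388105)) (tt N73716 F379409) (tt N69958 F379410) (tt N51995 (iv4 D190328)) (tt N73704 F379411) (tt N72377 (iv6 F379413)) (tt N109601 (iv7 F467676)))
theorem Q87464 : ∀ i, i < 87464 → P i := stepQ 87463 Q87463 (allL N87463 (tt N56072 F379416) (tt N109086 (iv0 F465262)) (tt N91309 F392656) (tt N109592 (iv3 F467625)) (tt N72377 F379414) (tt N99743 F426013) (tt N51995 (iv6 D190329)) (tt N56077 F379415))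
theorem Q87465 : ∀ i, i < 87465 → P i := stepQ 87464 Q87464 (allL N87464 (tt N89957 F388106) (tt N77556 F379421) (tt N109601 (iv2 F467672)) (tt N73719 F379417) (tt N51996 (iv4 D190330)) (tt N73717 F379418) (tt N56074 F379419) (tt N73716 F379420))
theorem Q87466 : ∀ i, i < 87466 → P i := stepQ 87465 Q87465 (allL N87465 (tt N51998 (iv1 D190331)) (tt N66682 F379422) (tt N66727 (iv2 F379426)) (tt N109086 (iv3 F465258)) (tt N52012 F379425) (tt N66649 F379424) (tt N88196 (iv6 F382125)) (tt N66687 F379423))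
theorem Q87467 : ∀ i, i < 87467 → P i := stepQ 87466 Q87466 (allL N87466 (tt N51999 (iv1 D190332)) (tt N75810 F379427) (tt N82328 (iv2 F379430)) (tt N103098 (iv3 F440059)) (tt N72256 F379428) (tt N82120 F379429) (tt N88194 F382120) (tt N87702 (iv7 F380192)))
theorem Q87468 : ∀ i, i < 87468 → P i := stepQ 87467 Q87467 (allL N87467 (tt N60171 (iv1 F379435)) (tt N60173 F379434) (tt N52004 F379431) (tt N108640 (iv3 F463326)) (tt N58909 F379432) (tt N52002 (iv5 D190333)) (tt N60340 F379516) (tt N58907 F379433))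
theorem Q87469 : ∀ i, i < 87469 → P i := stepQ 87468 Q87468 (allL N87468 (tt N88180 F382049) (tt N106103 (iv0 F453122)) (tt N52005 F379436) (tt N54561 F379437) (tt N79399 F379438) (tt N54559 (iv5 F379439)) (tt N52002 (iv6 D190334)) (tt N115684 D218942))
theorem Q87470 : ∀ i, i < 87470 → P i := stepQ 87469 Q87469 (allL N87469 (tt N63838 (iv1 F379444)) (tt N52003 (iv0 D190335)) (tt N63231 (iv2 F379443)) (tt N64223 (iv3 F379446)) (tt N58921 F379442) (tt N63208 F379441) (tt N77576 (iv6 F379447)) (tt N63235 F379445))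
theorem Q87471 : ∀ i, i < 87471 → P i := stepQ 87470 Q87470 (allL N87470 (tt N64229 F379452) (tt N110907 F473732) (tt N79399 F379448) (tt N80759 F379449) (tt N52005 F379450) (tt N63439 F379451) (tt N52003 (iv6 D190336)) (tt N102258 (iv7 F436414)))
theorem Q87472 : ∀ i, i < 87472 → P i := stepQ 87471 Q87471 (allL N87471 (tt N52004 (iv1 D190337)) (tt N58907 F379453) (tt N60173 (iv2 F379456)) (tt N112055 (iv3 F479274)) (tt N60172 F379455) (tt N77806 (iv5 F379457)) (tt N96741 (iv6 F413713)) (tt N60171 F379454))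
theorem Q87473 : ∀ i, i < 87473 → P i := stepQ 87472 Q87472 (allL N87472 (tt N115684 (iv1 F496301)) (tt N52005 (iv0 D190338)) (tt N88180 (iv2 F382045)) (tt N66532 (iv3 F381998)) (tt N112109 (iv4 F479520)) (tt N66531 (iv5 F382001)) (tt N88171 F381997) (tt N106103 (iv7 F453120)))
theorem Q87474 : ∀ i, i < 87474 → P i := stepQ 87473 Q87473 (allL N87473 (tt N52005 (iv1 D190339)) (tt N115684 F496300) (tt N106103 (iv2 F453118)) (tt N91091 (iv3 F391887)) (tt N112159 (iv4 F479812)) (tt N71063 (iv5 F379517)) (tt N113919 (iv6 F487788)) (tt N88180 (iv7 F382054)))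
theorem Q87475 : ∀ i, i < 87475 → P i := stepQ 87474 Q87474 (allL N87474 (tt N74187 F379461) (tt N103998 F443716) (tt N54559 F379459) (tt N52013 F379460) (tt N115685 D218943) (tt N52005 (iv5 D190340)) (tt N69436 (iv6 F379502)) (tt N54984 (iv7 F379462)))
theorem Q87476 : ∀ i, i < 87476 → P i := stepQ 87475 Q87475 (allL N87475 (tt N106103 (iv1 F453121)) (tt N88180 (iv0 F419761)) (tt N115684 (iv2 F496295)) (tt N52014 F379463) (tt N102258 (iv4 F436412)) (tt N54984 F379464) (tt N66706 F379465) (tt N52005 (iv7 D190341)))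
theorem Q87477 : ∀ i, i < 87477 → P i := stepQ 87476 Q87476 (allL N87476 (tt N87863 (iv1 F380890)) (tt N87861 (iv0 F380884)) (tt N88209 (iv2 F382188)) (tt N52008 (iv3 D190342)) (tt N112422 (iv4 F481026)) (tt N87424 F379466) (tt N112421 F481025) (tt N107597 (iv7 F458884)))
theorem Q87478 : ∀ i, i < 87478 → P i := stepQ 87477 Q87477 (allL N87477 (tt N113095 (iv1 F483959)) (tt N103988 (iv0 F443671)) (tt N115470 (iv2 F495338)) (tt N83744 F379468) (tt N52008 (iv4 D190343)) (tt N76935 F379467) (tt N93144 (iv6 F399660)) (tt N109019 (iv7 F464959)))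
theorem Q87479 : ∀ i, i < 87479 → P i := stepQ 87478 Q87478 (allL N87478 (tt N115686 D218944) (tt N115687 D218945) (tt N115471 (iv2 F495343)) (tt N112421 (iv3 F481023)) (tt N93144 F399663) (tt N87426 F379469) (tt N52008 (iv6 D190344)) (tt N112439 (iv7 F481121)))
theorem Q87480 : ∀ i, i < 87480 → P i := stepQ 87479 Q87479 (allL N87479 (tt N103988 F443672) (tt N113095 (iv0 F483958)) (tt N109019 (iv2 F464957)) (tt N98699 (iv3 F421900)) (tt N52009 (iv4 D190345)) (tt N98697 F421899) (tt N115474 (iv6 F495364)) (tt N115470 (iv7 F495341)))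
theorem Q87481 : ∀ i, i < 87481 → P i := stepQ 87480 Q87480 (allL N87480 (tt N52010 (iv1 D190346)) (tt N52021 F379470) (tt N114514 (iv2 F490533)) (tt N54872 (iv3 F385129)) (tt N64010 (iv4 F379471)) (tt N113329 (iv5 F485055)) (tt N87655 (iv6 F380000)) (tt N86866 F379472))
theorem Q87482 : ∀ i, i < 87482 → P i := stepQ 87481 Q87481 (allL N87481 (tt N104881 (iv1 F447786)) (tt N86851 (iv0 F379490)) (tt N100517 (iv2 F429278)) (tt N79993 F379489) (tt N52011 F379486) (tt N79992 (iv5 F379488)) (tt N52010 (iv6 D190347)) (tt N86771 F379487))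
theorem Q87483 : ∀ i, i < 87483 → P i := stepQ 87482 Q87482 (allL N87482 (tt N108638 (iv1 F463320)) (tt N52011 (iv0 D190348)) (tt N91360 (iv2 F392865)) (tt N115688 D218946) (tt N98153 (iv4 F419737)) (tt N82211 F379494) (tt N52054 F379493) (tt N91359 (iv7 F392862)))
theorem Q87484 : ∀ i, i < 87484 → P i := stepQ 87483 Q87483 (allL N87483 (tt N52011 (iv1 D190349)) (tt N108638 (iv0 F463319)) (tt N91359 (iv2 F392861)) (tt N88216 (iv3 F382214)) (tt N103987 (iv4 F443665)) (tt N85272 (iv5 F379498)) (tt N115689 D218947) (tt N91360 (iv7 F392866)))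
theorem Q87485 : ∀ i, i < 87485 → P i := stepQ 87484 Q87484 (allL N87484 (tt N103951 (iv1 F443504)) (tt N93165 (iv0 F399757)) (tt N54988 F379495) (tt N69436 F379500) (tt N65322 F379497) (tt N52011 (iv5 D190350)) (tt N52013 F379496) (tt N82148 (iv7 F379499)))
theorem Q87486 : ∀ i, i < 87486 → P i := stepQ 87485 Q87485 (allL N87485 (tt N91359 (iv1 F392864)) (tt N91360 (iv0 F392867)) (tt N108638 (iv2 F463315)) (tt N60341 F379518) (tt N86771 F379519) (tt N82148 F379520) (tt N86770 F379521) (tt N52011 (iv7 D190351)))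
theorem Q87487 : ∀ i, i < 87487 → P i := stepQ 87486 Q87486 (allL N87486 (tt N77685 F379526) (tt N77686 F379527) (tt N54987 F379522) (tt N80640 (iv3 F379528)) (tt N52013 (iv4 D190352)) (tt N80639 F379525) (tt N65322 F379523) (tt N54985 F379524))
theorem Q87488 : ∀ i, i < 87488 → P i := stepQ 87487 Q87487 (allL N87487 (tt N52030 (iv1 F379531)) (tt N66530 F379532) (tt N66528 F379529) (tt N88202 (iv3 F382154)) (tt N103218 (iv4 F440625)) (tt N52015 (iv5 D190353)) (tt N115690 D218948) (tt N66527 F379530))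
theorem Q87489 : ∀ i, i < 87489 → P i := stepQ 87488 Q87488 (allL N87488 (tt N99707 F425839) (tt N112465 F481201) (tt N52018 F379533) (tt N58907 F379534) (tt N92008 (iv4 F395340)) (tt N52016 (iv5 D190354)) (tt N108647 (iv6 F463347)) (tt N108640 F463329))
theorem Q87490 : ∀ i, i < 87490 → P i := stepQ 87489 Q87489 (allL N87489 (tt N61486 (iv1 F379539)) (tt N61492 (iv0 F379538)) (tt N52019 F379535) (tt N102257 (iv3 F436407)) (tt N61068 F379536) (tt N91911 (iv5 F394931)) (tt N52016 (iv6 D190355)) (tt N79930 (iv7 F379537)))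
theorem Q87491 : ∀ i, i < 87491 → P i := stepQ 87490 Q87490 (allL N87490 (tt N52018 (iv1 D190357)) (tt N108640 F463330) (tt N112465 (iv2 F481197)) (tt N88204 F392697) (tt N115691 D218949) (tt N87403 F379540) (tt N115464 (iv6 F495313)) (tt N99707 F425838))
theorem Q87492 : ∀ i, i < 87492 → P i := stepQ 87491 Q87491 (allL N87491 (tt N74183 (iv1 F439015)) (tt N115692 D218950) (tt N92008 F395341) (tt N115693 D218951) (tt N52018 (iv4 D190358)) (tt N115694 D218952) (tt N113660 F486524) (tt N115469 (iv7 F495335)))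
theorem Q87493 : ∀ i, i < 87493 → P i := stepQ 87492 Q87492 (allL N87492 (tt N108648 (iv1 F497832)) (tt N108491 (iv0 F462814)) (tt N108647 F463348) (tt N52022 F379541) (tt N113660 (iv4 F486523)) (tt N108594 (iv5 F463184)) (tt N52018 (iv6 D190359)) (tt N108639 (iv7 F463323)))
theorem Q87494 : ∀ i, i < 87494 → P i := stepQ 87493 Q87493 (allL N87493 (tt N98130 (iv1 F419597)) (tt N98128 (iv0 F419586)) (tt N91911 (iv2 F394930)) (tt N52024 F379542) (tt N91910 (iv4 F394927)) (tt N52019 (iv5 D190360)) (tt N108594 (iv6 F463185)) (tt N111782 (iv7 F477945)))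
theorem Q87495 : ∀ i, i < 87495 → P i := stepQ 87494 Q87494 (allL N87494 (tt N61492 (iv1 F379547)) (tt N61486 F379548) (tt N79930 F379543) (tt N52025 F379544) (tt N61067 F379545) (tt N111782 (iv5 F477946)) (tt N54566 F379546) (tt N52019 (iv7 D190361)))
theorem Q87496 : ∀ i, i < 87496 → P i := stepQ 87495 Q87495 (allL N87495 (tt N52020 (iv1 D190362)) (tt N75689 F379549) (tt N75690 F379554) (tt N64011 (iv3 F379553)) (tt N75688 F379552) (tt N64906 F379551) (tt N88226 F382261) (tt N75686 F379550))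
theorem Q87497 : ∀ i, i < 87497 → P i := stepQ 87496 Q87496 (allL N87496 (tt N115695 D218954) (tt N115696 D218955) (tt N104186 (iv2 F444584)) (tt N52021 (iv3 D190363)) (tt N115693 (iv4 F496349)) (tt N113091 (iv5 F483941)) (tt N86772 F379555) (tt N100518 (iv7 F429287)))
theorem Q87498 : ∀ i, i < 87498 → P i := stepQ 87497 Q87497 (allL N87497 (tt N114223 (iv1 F489070)) (tt N114214 (iv0 F489028)) (tt N109323 (iv2 F466384)) (tt N108594 F463186) (tt N115357 (iv4 F494771)) (tt N52022 (iv5 D190364)) (tt N52024 F379556) (tt N113568 (iv7 F486071)))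
theorem Q87499 : ∀ i, i < 87499 → P i := stepQ 87498 Q87498 (allL N87498 (tt N87240 F379560) (tt N52480 F379561) (tt N69455 F379557) (tt N111502 F476627) (tt N52024 (iv4 D190365)) (tt N67025 F379559) (tt N115357 (iv6 F494772)) (tt N87239 F379558))
theorem Q87500 : ∀ i, i < 87500 → P i := stepQ 87499 Q87499 (allL N87499 (tt N79928 (iv1 F379566)) (tt N88076 F381700) (tt N52026 (iv2 D190366)) (tt N66530 F379562) (tt N58912 F379563) (tt N110602 (iv5 F472337)) (tt N73683 (iv6 F379565)) (tt N58915 F379564))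
theorem Q87501 : ∀ i, i < 87501 → P i := stepQ 87500 Q87500 (allL N87500 (tt N71728 F379570) (tt N88098 (iv0 F381796)) (tt N110602 (iv2 F472341)) (tt N52028 F379567) (tt N58888 F379568) (tt N52026 (iv5 D190367)) (tt N109020 (iv6 F464964)) (tt N55199 F379569))
theorem Q87502 : ∀ i, i < 87502 → P i := stepQ 87501 Q87501 (allL N87501 (tt N73681 (iv1 F379575)) (tt N73680 F379576) (tt N73683 F379571) (tt N52029 F379572) (tt N58917 F379573) (tt N91947 (iv5 F395081)) (tt N52026 (iv6 D190368)) (tt N73649 F379574))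
theorem Q87503 : ∀ i, i < 87503 → P i := stepQ 87502 Q87502 (allL N87502 (tt N52031 (iv1 F379579)) (tt N52027 (iv0 D190369)) (tt N83295 F379582) (tt N86496 F379581) (tt N86995 F379578) (tt N52773 F379577) (tt N86562 (iv6 F379583)) (tt N86994 (iv7 F379580)))
theorem Q87504 : ∀ i, i < 87504 → P i := stepQ 87503 Q87503 (allL N87503 (tt N52027 (iv1 D190370)) (tt N52031 F379584) (tt N86994 F379588) (tt N86083 (iv3 F379590)) (tt N52214 F379589) (tt N83296 F379586) (tt N52075 (iv6 F379587)) (tt N83295 F379585))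
theorem Q87505 : ∀ i, i < 87505 → P i := stepQ 87504 Q87504 (allL N87504 (tt N111293 (iv1 F475673)) (tt N98759 (iv0 F422188)) (tt N66529 F379591) (tt N52032 F379592) (tt N78843 F379594) (tt N52030 (iv5 D190371)) (tt N55123 F379593) (tt N100647 (iv7 F429833)))
theorem Q87506 : ∀ i, i < 87506 → P i := stepQ 87505 Q87505 (allL N87505 (tt N100662 F429900) (tt N115049 (iv0 F493224)) (tt N76453 F379595) (tt N52034 (iv3 D190372)) (tt N86844 F398888) (tt N111191 (iv5 F475163)) (tt N68444 F379596) (tt N115472 (iv7 F495353)))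
theorem Q87507 : ∀ i, i < 87507 → P i := stepQ 87506 Q87506 (allL N87506 (tt N78858 F379601) (tt N85285 (iv0 F379602)) (tt N85295 F379597) (tt N52037 F379598) (tt N104512 (iv4 F446090)) (tt N52036 (iv5 D190373)) (tt N78863 F379599) (tt N85296 F379600))
theorem Q87508 : ∀ i, i < 87508 → P i := stepQ 87507 Q87507 (allL N87507 (tt N105538 (iv1 F450643)) (tt N103032 (iv0 F439758)) (tt N87600 (iv2 F379855)) (tt N78863 F379603) (tt N86731 F379604) (tt N52099 F379605) (tt N52037 (iv6 D190374)) (tt N82923 F379606))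
theorem Q87509 : ∀ i, i < 87509 → P i := stepQ 87508 Q87508 (allL N87508 (tt N87596 (iv1 F379842)) (tt N76472 (iv0 F379610)) (tt N87597 (iv2 F379843)) (tt N93177 (iv3 F399819)) (tt N52039 F379607) (tt N82924 F379608) (tt N52038 (iv6 D190375)) (tt N52100 F379609))
theorem Q87510 : ∀ i, i < 87510 → P i := stepQ 87509 Q87509 (allL N87509 (tt N96484 F412715) (tt N105571 F450787) (tt N88779 (iv2 F384105)) (tt N86817 F379611) (tt N109156 (iv4 F465616)) (tt N52040 (iv5 D190376)) (tt N57723 (iv6 F404689)) (tt N88075 (iv7 F381692)))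
theorem Q87511 : ∀ i, i < 87511 → P i := stepQ 87510 Q87510 (allL N87510 (tt N98412 (iv1 F420860)) (tt N115483 (iv0 F495422)) (tt N115473 (iv2 F495356)) (tt N88293 (iv3 F382482)) (tt N97186 (iv4 F415808)) (tt N88260 (iv5 F382393)) (tt N52041 (iv6 D190377)) (tt N97184 (iv7 F415802)))
theorem Q87512 : ∀ i, i < 87512 → P i := stepQ 87511 Q87511 (allL N87511 (tt N104830 (iv1 F447507)) (tt N104829 (iv0 F447505)) (tt N104831 (iv2 F447512)) (tt N86530 F379612) (tt N52042 (iv4 D190378)) (tt N70603 F379614) (tt N113621 (iv6 F486337)) (tt N70602 F379613))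
theorem Q87513 : ∀ i, i < 87513 → P i := stepQ 87512 Q87512 (allL N87512 (tt N115697 D218956) (tt N115698 D218957) (tt N108636 (iv2 F463306)) (tt N88295 (iv3 F382488)) (tt N113621 (iv4 F486336)) (tt N91835 (iv5 F394616)) (tt N52042 (iv6 D190379)) (tt N115699 D218958))
theorem Q87514 : ∀ i, i < 87514 → P i := stepQ 87513 Q87513 (allL N87513 (tt N112059 (iv1 F479300)) (tt N87872 (iv0 F380918)) (tt N86572 F379615) (tt N52043 (iv3 D190380)) (tt N86577 (iv4 F379616)) (tt N87836 (iv5 F380767)) (tt N104835 (iv6 F447526)) (tt N108635 (iv7 F463302)))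
theorem Q87515 : ∀ i, i < 87515 → P i := stepQ 87514 Q87514 (allL N87514 (tt N87530 (iv1 F379676)) (tt N52044 (iv0 D190381)) (tt N105848 (iv2 F452013)) (tt N115375 (iv3 F494877)) (tt N52689 F379617) (tt N70699 (iv5 F379619)) (tt N115374 (iv6 F494875)) (tt N70698 (iv7 F379618)))
theorem Q87516 : ∀ i, i < 87516 → P i := stepQ 87515 Q87515 (allL N87515 (tt N104942 F448051) (tt N66625 (iv0 F379623)) (tt N108634 (iv2 F463294)) (tt N59739 F379620) (tt N68919 (iv4 F379624)) (tt N52044 (iv5 D190383)) (tt N61442 F379621) (tt N68211 F379622))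
theorem Q87517 : ∀ i, i < 87517 → P i := stepQ 87516 Q87516 (allL N87516 (tt N98394 (iv1 F420764)) (tt N98392 (iv0 F420755)) (tt N88111 (iv2 F381823)) (tt N86820 F379626) (tt N52045 (iv4 D190384)) (tt N76223 F379627) (tt N88086 (iv6 F381745)) (tt N108637 (iv7 F463312)))
theorem Q87518 : ∀ i, i < 87518 → P i := stepQ 87517 Q87517 (allL N87517 (tt N98392 (iv1 F420756)) (tt N98394 (iv0 F420763)) (tt N108637 (iv2 F463310)) (tt N55147 F379629) (tt N52046 (iv4 D190385)) (tt N76224 F379628) (tt N88986 (iv6 F384669)) (tt N88111 F381826))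
theorem Q87519 : ∀ i, i < 87519 → P i := stepQ 87518 Q87518 (allL N87518 (tt N55583 (iv1 F379632)) (tt N52049 (iv0 D190386)) (tt N55580 (iv2 F379633)) (tt N108643 (iv3 F463334)) (tt N56629 F379630) (tt N93164 (iv5 F399747)) (tt N85697 F379631) (tt N55581 (iv7 F379634)))
theorem Q87520 : ∀ i, i < 87520 → P i := stepQ 87519 Q87519 (allL N87519 (tt N52049 (iv1 D190387)) (tt N55583 F379635) (tt N55581 (iv2 F379638)) (tt N115698 F496379) (tt N56622 F379637) (tt N93163 (iv5 F399739)) (tt N115687 F496320) (tt N55580 F379636))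
theorem Q87521 : ∀ i, i < 87521 → P i := stepQ 87520 Q87520 (allL N87520 (tt N73756 (iv1 F379641)) (tt N52053 (iv0 D190388)) (tt N73783 (iv2 F379642)) (tt N98580 F421443) (tt N87161 F379640) (tt N61337 F379639) (tt N104881 (iv6 F447783)) (tt N73782 (iv7 F379643)))
theorem Q87522 : ∀ i, i < 87522 → P i := stepQ 87521 Q87521 (allL N87521 (tt N52053 (iv1 D190389)) (tt N73756 F379644) (tt N73782 F379648) (tt N108605 (iv3 F463222)) (tt N87162 (iv4 F379647)) (tt N61338 F379646) (tt N115700 D218959) (tt N73783 F379645))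
theorem Q87523 : ∀ i, i < 87523 → P i := stepQ 87522 Q87522 (allL N87522 (tt N111119 F474768) (tt N87871 (iv0 F419727)) (tt N88287 (iv2 F382464)) (tt N52054 (iv3 D190390)) (tt N98156 (iv4 F419756)) (tt N93744 (iv5 F401744)) (tt N115688 (iv6 F496323)) (tt N108488 (iv7 F462800)))
theorem Q87524 : ∀ i, i < 87524 → P i := stepQ 87523 Q87523 (allL N87523 (tt N52124 F379652) (tt N98152 F419729) (tt N73734 F379649) (tt N93130 (iv3 F399611)) (tt N52055 (iv4 D190391)) (tt N62452 F379650) (tt N93128 (iv6 F399606)) (tt N73749 F379651))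
theorem Q87525 : ∀ i, i < 87525 → P i := stepQ 87524 Q87524 (allL N87524 (tt N85693 F379653) (tt N85697 (iv0 F399750)) (tt N108489 (iv2 F462804)) (tt N88290 (iv3 F382468)) (tt N93128 F399607) (tt N114248 F489207) (tt N52055 (iv6 D190392)) (tt N115689 (iv7 F496329)))
theorem Q87526 : ∀ i, i < 87526 → P i := stepQ 87525 Q87525 (allL N87525 (tt N82598 F379656) (tt N114238 (iv0 F489161)) (tt N103970 (iv2 F443575)) (tt N78755 (iv3 F379657)) (tt N52057 (iv4 D190393)) (tt N78754 F379655) (tt N103969 (iv6 F443570)) (tt N82476 F379654))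
theorem Q87527 : ∀ i, i < 87527 → P i := stepQ 87526 Q87526 (allL N87526 (tt N97319 F416337) (tt N87563 (iv0 F379759)) (tt N86807 F379658) (tt N88260 (iv3 F382392)) (tt N103969 (iv4 F443573)) (tt N88293 (iv5 F382484)) (tt N52057 (iv6 D190394)) (tt N115690 (iv7 F496336)))
theorem Q87528 : ∀ i, i < 87528 → P i := stepQ 87527 Q87527 (allL N87527 (tt N91247 F392402) (tt N71729 (iv0 F379664)) (tt N59928 F379659) (tt N52059 (iv3 D190395)) (tt N52064 F379660) (tt N59899 F379661) (tt N74170 F379662) (tt N59930 F379663))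
theorem Q87529 : ∀ i, i < 87529 → P i := stepQ 87528 Q87528 (allL N87528 (tt N87725 (iv1 F380266)) (tt N87723 (iv0 F380262)) (tt N112392 (iv2 F480891)) (tt N90428 (iv3 F389616)) (tt N52063 (iv4 D190396)) (tt N113786 (iv5 F487104)) (tt N86676 F379665) (tt N91855 (iv7 F394711)))
theorem Q87530 : ∀ i, i < 87530 → P i := stepQ 87529 Q87529 (allL N87529 (tt N104982 (iv1 F448262)) (tt N59735 F379667) (tt N52064 (iv2 D190397)) (tt N104091 (iv3 F444132)) (tt N59928 F379666) (tt N87549 (iv5 F379731)) (tt N87133 F379668) (tt N104981 (iv7 F448253)))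
theorem Q87531 : ∀ i, i < 87531 → P i := stepQ 87530 Q87530 (allL N87530 (tt N70693 (iv1 F379675)) (tt N87514 F379676) (tt N87133 F379669) (tt N52065 F379670) (tt N74170 F379671) (tt N102936 (iv5 F439333)) (tt N52064 (iv6 D190398)) (tt N74167 F379672))
theorem Q87532 : ∀ i, i < 87532 → P i := stepQ 87531 Q87531 (allL N87531 (tt N52065 (iv1 D190400)) (tt N73784 F379677) (tt N87655 (iv2 F379999)) (tt N112067 (iv3 F479333)) (tt N87166 (iv4 F379678)) (tt N103430 (iv5 F441597)) (tt N114514 (iv6 F490535)) (tt N87652 (iv7 F379995)))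
theorem Q87533 : ∀ i, i < 87533 → P i := stepQ 87532 Q87532 (allL N87532 (tt N97939 F418885) (tt N104062 (iv0 F443994)) (tt N96782 F413912) (tt N102936 (iv3 F439336)) (tt N104300 (iv4 F445132)) (tt N52065 (iv5 D190401)) (tt N87552 (iv6 F379744)) (tt N104092 (iv7 F444141)))
theorem Q87534 : ∀ i, i < 87534 → P i := stepQ 87533 Q87533 (allL N87533 (tt N87655 F380003) (tt N87652 (iv0 F379997)) (tt N73784 F379679) (tt N74167 F379680) (tt N52069 F379681) (tt N104092 (iv5 F444139)) (tt N73756 F379682) (tt N52065 (iv7 D190402)))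
theorem Q87535 : ∀ i, i < 87535 → P i := stepQ 87534 Q87534 (allL N87534 (tt N115487 (iv1 F495449)) (tt N52144 F379684) (tt N112438 (iv2 F481112)) (tt N93127 (iv3 F399603)) (tt N52066 (iv4 D190403)) (tt N105871 (iv5 F452115)) (tt N93126 F399601) (tt N115474 (iv7 F495365)))
theorem Q87536 : ∀ i, i < 87536 → P i := stepQ 87535 Q87535 (allL N87535 (tt N115687 (iv1 F496316)) (tt N115686 F496312) (tt N112439 (iv2 F481118)) (tt N84554 F379685) (tt N93126 (iv4 F399598)) (tt N84552 F379686) (tt N52066 (iv6 D190404)) (tt N115471 (iv7 F495347)))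
theorem Q87537 : ∀ i, i < 87537 → P i := stepQ 87536 Q87536 (allL N87536 (tt N52144 F379687) (tt N115487 F495448) (tt N115474 (iv2 F495363)) (tt N115701 D218960) (tt N52067 (iv4 D190405)) (tt N115702 D218961) (tt N109019 (iv6 F464958)) (tt N112438 (iv7 F481113)))
theorem Q87538 : ∀ i, i < 87538 → P i := stepQ 87537 Q87537 (allL N87537 (tt N100675 F429966) (tt N102275 (iv0 F436500)) (tt N91852 (iv2 F394685)) (tt N102278 (iv3 F436516)) (tt N52068 (iv4 D190406)) (tt N103426 (iv5 F441576)) (tt N52070 F379688) (tt N102280 (iv7 F436534)))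
theorem Q87539 : ∀ i, i < 87539 → P i := stepQ 87538 Q87538 (allL N87538 (tt N109747 (iv1 F468423)) (tt N58927 F379691) (tt N52072 F379689) (tt N86769 (iv3 F379693)) (tt N52071 (iv4 D190407)) (tt N70692 F379690) (tt N86764 F379692) (tt N105851 (iv7 F452029)))
theorem Q87540 : ∀ i, i < 87540 → P i := stepQ 87539 Q87539 (allL N87539 (tt N73671 F379696) (tt N83793 F379697) (tt N52073 F379694) (tt N99679 (iv3 F425707)) (tt N86764 F379695) (tt N115703 D218962) (tt N52071 (iv6 D190408)) (tt N97340 (iv7 F416421)))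
theorem Q87541 : ∀ i, i < 87541 → P i := stepQ 87540 Q87540 (allL N87540 (tt N105851 (iv1 F452031)) (tt N52072 (iv0 D190409)) (tt N109747 (iv2 F468417)) (tt N58937 (iv3 F379699)) (tt N52678 F379698) (tt N104942 (iv5 F448048)) (tt N58926 F379701) (tt N58927 (iv7 F379700)))
theorem Q87542 : ∀ i, i < 87542 → P i := stepQ 87541 Q87541 (allL N87541 (tt N86831 (iv1 F379705)) (tt N113678 (iv0 F486597)) (tt N86764 F379702) (tt N105911 (iv3 F452307)) (tt N52073 F379703) (tt N86299 F379704) (tt N52072 (iv6 D190410)) (tt N113867 (iv7 F487541)))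
theorem Q87543 : ∀ i, i < 87543 → P i := stepQ 87542 Q87542 (allL N87542 (tt N114272 (iv1 F489328)) (tt N115391 (iv0 F494959)) (tt N115703 (iv2 F496408)) (tt N52080 F379706) (tt N115704 D218963) (tt N52073 (iv5 D190411)) (tt N55390 F379707) (tt N115705 D218964))
theorem Q87544 : ∀ i, i < 87544 → P i := stepQ 87543 Q87543 (allL N87543 (tt N83793 (iv1 F379709)) (tt N73671 F379710) (tt N97340 (iv2 F416416)) (tt N52081 F379708) (tt N113867 (iv4 F487543)) (tt N115705 (iv5 F496417)) (tt N97331 F416382) (tt N52073 (iv7 D190412)))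
theorem Q87545 : ∀ i, i < 87545 → P i := stepQ 87544 Q87544 (allL N87544 (tt N114845 F492156) (tt N113591 (iv0 F486191)) (tt N86567 F379713) (tt N52074 (iv3 D190413)) (tt N115706 D218965) (tt N87546 (iv5 F379719)) (tt N86150 (iv6 F379712)) (tt N87169 F379711))
theorem Q87546 : ∀ i, i < 87546 → P i := stepQ 87545 Q87545 (allL N87545 (tt N86412 F379718) (tt N115355 F494761) (tt N87615 (iv2 F379890)) (tt N86150 F379715) (tt N87156 F379716) (tt N105537 (iv5 F450633)) (tt N52074 (iv6 D190414)) (tt N86562 F379717))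
theorem Q87547 : ∀ i, i < 87547 → P i := stepQ 87546 Q87546 (allL N87546 (tt N86653 F379721) (tt N86650 F379722) (tt N114077 (iv2 F488480)) (tt N52075 (iv3 D190415)) (tt N112470 F481218) (tt N87544 F379719) (tt N86083 F379720) (tt N87614 (iv7 F379886)))
theorem Q87548 : ∀ i, i < 87548 → P i := stepQ 87547 Q87547 (allL N87547 (tt N105909 (iv1 F452298)) (tt N52076 (iv0 D190416)) (tt N68208 (iv2 F379725)) (tt N86842 (iv3 F379726)) (tt N61682 F379724) (tt N86841 F379723) (tt N94128 F403345) (tt N96942 (iv7 F414703)))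
theorem Q87549 : ∀ i, i < 87549 → P i := stepQ 87548 Q87548 (allL N87548 (tt N52076 (iv1 D190417)) (tt N105909 (iv0 F452297)) (tt N96942 (iv2 F414701)) (tt N98288 (iv3 F420341)) (tt N68209 F379728) (tt N87566 F379767) (tt N61359 (iv6 F379729)) (tt N68208 F379727))
theorem Q87550 : ∀ i, i < 87550 → P i := stepQ 87549 Q87549 (allL N87549 (tt N68208 (iv1 F379732)) (tt N96942 (iv0 F414705)) (tt N52076 (iv2 D190418)) (tt N96777 (iv3 F413880)) (tt N68148 F379730) (tt N87529 F379731) (tt N104839 (iv6 F447543)) (tt N105909 (iv7 F452296)))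
theorem Q87551 : ∀ i, i < 87551 → P i := stepQ 87550 Q87550 (allL N87550 (tt N74798 F379735) (tt N83803 F379737) (tt N104839 (iv2 F447541)) (tt N52077 F379734) (tt N105911 (iv4 F452308)) (tt N70790 (iv5 F379736)) (tt N52076 (iv6 D190419)) (tt N105840 (iv7 F451974)))
theorem Q87552 : ∀ i, i < 87552 → P i := stepQ 87551 Q87551 (allL N87551 (tt N104842 (iv1 F447559)) (tt N52077 (iv0 D190420)) (tt N108445 (iv2 F462602)) (tt N86550 F379741) (tt N113595 (iv4 F486210)) (tt N61751 (iv5 F379739)) (tt N73781 F379738) (tt N86545 (iv7 F379740)))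
theorem Q87553 : ∀ i, i < 87553 → P i := stepQ 87552 Q87552 (allL N87552 (tt N104840 F447549) (tt N70814 (iv0 F379745)) (tt N70611 F379742) (tt N70790 F379743) (tt N97780 (iv4 F418284)) (tt N52077 (iv5 D190421)) (tt N87532 F379744) (tt N104841 (iv7 F447552)))
theorem Q87554 : ∀ i, i < 87554 → P i := stepQ 87553 Q87553 (allL N87553 (tt N86545 (iv1 F379747)) (tt N108445 F462608) (tt N104842 (iv2 F447555)) (tt N105840 (iv3 F451972)) (tt N52081 F379746) (tt N104841 F447553) (tt N109255 (iv6 F466021)) (tt N52077 (iv7 D190422)))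
theorem Q87555 : ∀ i, i < 87555 → P i := stepQ 87554 Q87554 (allL N87554 (tt N115461 (iv1 F495303)) (tt N87879 (iv0 F462794)) (tt N88314 (iv2 F399903)) (tt N52078 (iv3 D190424)) (tt N83812 F399904) (tt N115707 D218966) (tt N108485 F462793) (tt N112419 (iv7 F481018)))
theorem Q87556 : ∀ i, i < 87556 → P i := stepQ 87555 Q87555 (allL N87555 (tt N93168 (iv1 F399781)) (tt N52091 (iv0 F379751)) (tt N97863 (iv2 F418563)) (tt N60201 (iv3 F379750)) (tt N52078 (iv4 D190425)) (tt N92746 F398060) (tt N60199 F379749) (tt N115476 (iv7 F495376)))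
theorem Q87557 : ∀ i, i < 87557 → P i := stepQ 87556 Q87556 (allL N87556 (tt N115708 D218967) (tt N96663 F434984) (tt N115475 (iv2 F495369)) (tt N115707 (iv3 F496427)) (tt N101565 (iv4 F434983)) (tt N52078 (iv5 D190426)) (tt N108487 (iv6 F462796)) (tt N115477 (iv7 F495382)))
theorem Q87558 : ∀ i, i < 87558 → P i := stepQ 87557 Q87557 (allL N87557 (tt N52091 F399896) (tt N93168 F399897) (tt N115476 (iv2 F495373)) (tt N66621 F399898) (tt N52079 (iv4 D190429)) (tt N66620 F399899) (tt N114946 (iv6 F492698)) (tt N97863 (iv7 F418566)))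
theorem Q87559 : ∀ i, i < 87559 → P i := stepQ 87558 Q87558 (allL N87558 (tt N96663 F433446) (tt N115708 F496431) (tt N115477 (iv2 F495380)) (tt N88316 F399900) (tt N101564 (iv4 F433445)) (tt N52079 (iv5 D190430)) (tt N87447 (iv6 F379753)) (tt N115475 (iv7 F495371)))
theorem Q87560 : ∀ i, i < 87560 → P i := stepQ 87559 Q87559 (allL N87559 (tt N86417 (iv1 F476726)) (tt N86411 (iv0 F476725)) (tt N115354 F494752) (tt N88317 F399901) (tt N114946 (iv4 F492700)) (tt N114223 (iv5 F489072)) (tt N52079 (iv6 D190431)) (tt N108483 (iv7 F462784)))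
theorem Q87561 : ∀ i, i < 87561 → P i := stepQ 87560 Q87560 (allL N87560 (tt N115709 D218968) (tt N108161 (iv0 F461348)) (tt N114120 (iv2 F488629)) (tt N94906 (iv3 F406283)) (tt N52080 (iv4 D190432)) (tt N94905 F406282) (tt N54215 F379754) (tt N97763 (iv7 F418207)))
theorem Q87562 : ∀ i, i < 87562 → P i := stepQ 87561 Q87561 (allL N87561 (tt N114121 (iv1 F488633)) (tt N88129 F433396) (tt N114122 (iv2 F488640)) (tt N115705 (iv3 F496416)) (tt N97763 (iv4 F418208)) (tt N52081 F379755) (tt N114119 (iv6 F488626)) (tt N52080 (iv7 D190433)))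
theorem Q87563 : ∀ i, i < 87563 → P i := stepQ 87562 Q87562 (allL N87562 (tt N107234 F457578) (tt N112432 F481079) (tt N52084 F379756) (tt N97341 (iv3 F416424)) (tt N87603 F392220) (tt N70233 F379757) (tt N52082 (iv6 D190434)) (tt N97334 (iv7 F416396)))
theorem Q87564 : ∀ i, i < 87564 → P i := stepQ 87563 Q87563 (allL N87563 (tt N87526 F379759) (tt N102866 (iv0 F439007)) (tt N87603 F392219) (tt N95887 (iv3 F410097)) (tt N52084 F379758) (tt N60310 (iv5 F379760)) (tt N52083 (iv6 D190435)) (tt N97356 (iv7 F416471)))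
theorem Q87565 : ∀ i, i < 87565 → P i := stepQ 87564 Q87564 (allL N87564 (tt N52084 (iv1 D190436)) (tt N97334 (iv0 F416397)) (tt N112432 (iv2 F481074)) (tt N78196 F404372) (tt N115710 D218969) (tt N94412 (iv5 F404371)) (tt N96074 F413666) (tt N107234 (iv7 F457577)))
theorem Q87566 : ∀ i, i < 87566 → P i := stepQ 87565 Q87565 (allL N87565 (tt N112432 (iv1 F481080)) (tt N107234 (iv0 F457579)) (tt N97334 (iv2 F416394)) (tt N52089 F379764) (tt N97356 (iv4 F416470)) (tt N70228 F379765) (tt N99678 (iv6 F425712)) (tt N52084 (iv7 D190437)))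
theorem Q87567 : ∀ i, i < 87567 → P i := stepQ 87566 Q87566 (allL N87566 (tt N52085 (iv1 D190438)) (tt N96777 (iv0 F413882)) (tt N59924 (iv2 F379768)) (tt N95892 (iv3 F410118)) (tt N59897 F379766) (tt N87548 (iv5 F379767)) (tt N115711 D218970) (tt N104089 (iv7 F444119)))
theorem Q87568 : ∀ i, i < 87568 → P i := stepQ 87567 Q87567 (allL N87567 (tt N104089 (iv1 F444121)) (tt N59924 F379770) (tt N52085 (iv2 D190439)) (tt N105909 (iv3 F452299)) (tt N96739 (iv4 F413702)) (tt N69589 F379769) (tt N95876 (iv6 F410052)) (tt N96777 (iv7 F413881)))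
theorem Q87569 : ∀ i, i < 87569 → P i := stepQ 87568 Q87568 (allL N87568 (tt N109255 (iv1 F466024)) (tt N52086 (iv0 D190440)) (tt N104876 (iv2 F447756)) (tt N81461 (iv3 F379772)) (tt N68097 (iv4 F379773)) (tt N81460 F379771) (tt N114072 (iv6 F488449)) (tt N98301 (iv7 F420409)))
theorem Q87570 : ∀ i, i < 87570 → P i := stepQ 87569 Q87569 (allL N87569 (tt N52086 (iv1 D190441)) (tt N109255 (iv0 F466023)) (tt N98301 (iv2 F420406)) (tt N86489 F379777) (tt N68100 F379775) (tt N75976 F379774) (tt N86487 (iv6 F379776)) (tt N104876 (iv7 F447758)))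
theorem Q87571 : ∀ i, i < 87571 → P i := stepQ 87570 Q87570 (allL N87570 (tt N98301 (iv1 F420411)) (tt N104876 (iv0 F447759)) (tt N109255 (iv2 F466018)) (tt N61439 F379778) (tt N52089 F379779) (tt N61435 F379780) (tt N104842 (iv6 F447557)) (tt N52086 (iv7 D190442)))
theorem Q87572 : ∀ i, i < 87572 → P i := stepQ 87571 Q87571 (allL N87571 (tt N112435 (iv1 F481094)) (tt N112431 (iv0 F481072)) (tt N111116 (iv2 F474739)) (tt N88321 (iv3 F382579)) (tt N93169 (iv4 F399783)) (tt N71042 F379781) (tt N52087 (iv6 D190443)) (tt N93166 (iv7 F399762)))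
theorem Q87573 : ∀ i, i < 87573 → P i := stepQ 87572 Q87572 (allL N87572 (tt N87882 F392431) (tt N112433 (iv0 F481085)) (tt N88205 (iv2 F382162)) (tt N52088 (iv3 D190444)) (tt N88203 F382161) (tt N115712 D218971) (tt N93154 (iv6 F399693)) (tt N111117 (iv7 F474749)))
theorem Q87574 : ∀ i, i < 87574 → P i := stepQ 87573 Q87573 (allL N87573 (tt N54988 F379784) (tt N82148 F379783) (tt N93165 (iv2 F399751)) (tt N115712 (iv3 F496451)) (tt N69424 F379782) (tt N52088 (iv5 D190445)) (tt N55033 (iv6 F379785)) (tt N103951 (iv7 F443502)))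
theorem Q87575 : ∀ i, i < 87575 → P i := stepQ 87574 Q87574 (allL N87574 (tt N86778 (iv1 F379789)) (tt N52090 (iv0 D190446)) (tt N105019 F448410) (tt N115326 F494606) (tt N83951 F379787) (tt N87580 (iv5 F379803)) (tt N113695 (iv6 F486677)) (tt N105018 F448406))
theorem Q87576 : ∀ i, i < 87576 → P i := stepQ 87575 Q87575 (allL N87575 (tt N52090 (iv1 D190447)) (tt N86778 F379793) (tt N105018 F448405) (tt N113700 (iv3 F486700)) (tt N83950 F379790) (tt N87581 (iv5 F379804)) (tt N115049 (iv6 F493222)) (tt N105019 (iv7 F448408)))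
theorem Q87577 : ∀ i, i < 87577 → P i := stepQ 87576 Q87576 (allL N87576 (tt N105019 (iv1 F448407)) (tt N105018 F448403) (tt N52090 (iv2 D190448)) (tt N115479 (iv3 F495393)) (tt N54869 F379791) (tt N87648 (iv5 F379990)) (tt N113780 F487076) (tt N86778 F379792))
theorem Q87578 : ∀ i, i < 87578 → P i := stepQ 87577 Q87577 (allL N87577 (tt N108792 F463966) (tt N83724 (iv0 F379798)) (tt N113780 (iv2 F487070)) (tt N52091 F379794) (tt N68441 F379795) (tt N82982 (iv5 F379797)) (tt N52090 (iv6 D190449)) (tt N68438 F379796))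
theorem Q87579 : ∀ i, i < 87579 → P i := stepQ 87578 Q87578 (allL N87578 (tt N109060 F465153) (tt N97882 (iv0 F418657)) (tt N115481 (iv2 F495407)) (tt N82982 F379799) (tt N80428 (iv4 F379800)) (tt N52091 (iv5 D190451)) (tt N87649 (iv6 F379991)) (tt N92816 F398360))
theorem Q87580 : ∀ i, i < 87580 → P i := stepQ 87579 Q87579 (allL N87579 (tt N115476 F495379) (tt N97863 (iv0 F418568)) (tt N93168 (iv2 F399778)) (tt N68438 F379801) (tt N87635 (iv4 F379955)) (tt N92816 (iv5 F398359)) (tt N68436 F379802) (tt N52091 (iv7 D190452)))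
theorem Q87581 : ∀ i, i < 87581 → P i := stepQ 87580 Q87580 (allL N87580 (tt N115479 (iv1 F495397)) (tt N52092 (iv0 D190453)) (tt N115478 (iv2 F495390)) (tt N115713 D218972) (tt N93993 (iv4 F402742)) (tt N87574 F379803) (tt N105013 F448371) (tt N93991 F402738))
theorem Q87582 : ∀ i, i < 87582 → P i := stepQ 87581 Q87581 (allL N87581 (tt N52092 (iv1 D190454)) (tt N115479 F495399) (tt N93991 (iv2 F402734)) (tt N115172 (iv3 F493841)) (tt N76408 F395956) (tt N87575 F379804) (tt N76407 (iv6 F395957)) (tt N115478 (iv7 F495386)))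
theorem Q87583 : ∀ i, i < 87583 → P i := stepQ 87582 Q87582 (allL N87582 (tt N115478 F495392) (tt N93991 (iv0 F402736)) (tt N52092 (iv2 D190455)) (tt N86778 F379805) (tt N115714 D218973) (tt N76475 F379806) (tt N100783 (iv6 F430451)) (tt N115479 (iv7 F495396)))
theorem Q87584 : ∀ i, i < 87584 → P i := stepQ 87583 Q87583 (allL N87583 (tt N113151 (iv1 F484216)) (tt N57435 (iv0 F403348)) (tt N115714 (iv2 F496463)) (tt N87656 (iv3 F380006)) (tt N52092 (iv4 D190456)) (tt N108373 F462310) (tt N109724 (iv6 F468299)) (tt N115480 (iv7 F495403)))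
theorem Q87585 : ∀ i, i < 87585 → P i := stepQ 87584 Q87584 (allL N87584 (tt N92817 (iv1 F398361)) (tt N80496 F379810) (tt N92818 (iv2 F398367)) (tt N109011 (iv3 F464910)) (tt N73140 F379808) (tt N52093 (iv5 D190458)) (tt N74677 F379809) (tt N92806 (iv7 F398309)))
theorem Q87586 : ∀ i, i < 87586 → P i := stepQ 87585 Q87585 (allL N87585 (tt N52095 (iv1 F379814)) (tt N52094 (iv0 D190459)) (tt N52098 (iv2 F379813)) (tt N87592 (iv3 F379832)) (tt N85687 F379811) (tt N87153 F379812) (tt N104793 (iv6 F447298)) (tt N52096 F379815))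
theorem Q87587 : ∀ i, i < 87587 → P i := stepQ 87586 Q87586 (allL N87586 (tt N52098 (iv1 F379819)) (tt N52096 F379818) (tt N52094 (iv2 D190460)) (tt N104087 (iv3 F444106)) (tt N93214 (iv4 F399992)) (tt N57210 F379816) (tt N93195 (iv6 F399915)) (tt N52095 F379817))
theorem Q87588 : ∀ i, i < 87588 → P i := stepQ 87587 Q87587 (allL N87587 (tt N115172 F493846) (tt N115325 F494600) (tt N113636 (iv2 F486413)) (tt N52094 (iv3 D190461)) (tt N115327 (iv4 F494609)) (tt N85410 F379820) (tt N104825 (iv6 F447477)) (tt N93189 F399874))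
theorem Q87589 : ∀ i, i < 87589 → P i := stepQ 87588 Q87588 (allL N87588 (tt N115715 D218974) (tt N104299 (iv0 F445130)) (tt N93214 F399993) (tt N115716 D218975) (tt N52094 (iv4 D190462)) (tt N111873 (iv5 F478433)) (tt N65608 (iv6 F379825)) (tt N93191 (iv7 F399881)))
theorem Q87590 : ∀ i, i < 87590 → P i := stepQ 87589 Q87589 (allL N87589 (tt N66623 F379822) (tt N66621 (iv0 F379823)) (tt N93195 (iv2 F399911)) (tt N104825 (iv3 F447476)) (tt N65608 F379824) (tt N92847 (iv5 F398485)) (tt N52094 (iv6 D190463)) (tt N56478 F379821))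
theorem Q87591 : ∀ i, i < 87591 → P i := stepQ 87590 Q87590 (allL N87590 (tt N68147 F379828) (tt N115326 F494604) (tt N104085 (iv2 F444094)) (tt N52095 (iv3 D190464)) (tt N70769 (iv4 F379827)) (tt N97258 (iv5 F416106)) (tt N56474 F379826) (tt N104087 (iv7 F444109)))
theorem Q87592 : ∀ i, i < 87592 → P i := stepQ 87591 Q87591 (allL N87591 (tt N104299 F445131) (tt N115715 F496473) (tt N93191 (iv2 F399879)) (tt N56726 F379829) (tt N52095 (iv4 D190465)) (tt N92689 F397884) (tt N56475 F379830) (tt N93214 (iv7 F399991)))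
theorem Q87593 : ∀ i, i < 87593 → P i := stepQ 87592 Q87592 (allL N87592 (tt N87152 (iv1 F379834)) (tt N87151 F379835) (tt N52097 F379831) (tt N87585 F379832) (tt N114252 (iv4 F489231)) (tt N52096 (iv5 D190466)) (tt N114251 F489228) (tt N87153 F379833))
theorem Q87594 : ∀ i, i < 87594 → P i := stepQ 87593 Q87593 (allL N87593 (tt N87153 (iv1 F379836)) (tt N52097 (iv0 D190467)) (tt N87152 F398809) (tt N115390 (iv3 F494951)) (tt N103991 (iv4 F443682)) (tt N92932 F398807) (tt N60276 (iv6 F398808)) (tt N87151 (iv7 F398811)))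
theorem Q87595 : ∀ i, i < 87595 → P i := stepQ 87594 Q87594 (allL N87594 (tt N52097 (iv1 D190468)) (tt N87153 F379837) (tt N87151 (iv2 F398813)) (tt N96765 (iv3 F413835)) (tt N115717 D218976) (tt N92931 (iv5 F398804)) (tt N97201 F415870) (tt N87152 F398812))
theorem Q87596 : ∀ i, i < 87596 → P i := stepQ 87595 Q87595 (allL N87595 (tt N104934 F448014) (tt N115718 D218977) (tt N114252 (iv2 F489229)) (tt N87115 F379838) (tt N52097 (iv4 D190469)) (tt N115719 D218978) (tt N114250 F489220) (tt N87113 F379839))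
theorem Q87597 : ∀ i, i < 87597 → P i := stepQ 87596 Q87596 (allL N87596 (tt N52099 (iv1 D190471)) (tt N87508 F379842) (tt N87599 F379854) (tt N109753 (iv3 F468452)) (tt N87617 F384255) (tt N105480 (iv5 F450419)) (tt N97194 F415833) (tt N87598 F379850))
theorem Q87598 : ∀ i, i < 87598 → P i := stepQ 87597 Q87597 (allL N87597 (tt N87599 (iv1 F379851)) (tt N87598 F379848) (tt N87508 F379843) (tt N97203 (iv3 F415878)) (tt N87131 F379844) (tt N82923 F379845) (tt N82883 F379846) (tt N52099 (iv7 D190472)))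
theorem Q87599 : ∀ i, i < 87599 → P i := stepQ 87598 Q87598 (allL N87598 (tt N87597 (iv1 F379848)) (tt N52100 (iv0 D190473)) (tt N76472 (iv2 F379849)) (tt N88808 (iv3 F384217)) (tt N115484 (iv4 F495425)) (tt N115720 D218979) (tt N86409 F379847) (tt N87596 (iv7 F379850)))
theorem Q87600 : ∀ i, i < 87600 → P i := stepQ 87599 Q87599 (allL N87599 (tt N52100 (iv1 D190474)) (tt N87597 F379851) (tt N87596 (iv2 F379854)) (tt N76325 (iv3 F379853)) (tt N88817 (iv4 F384239)) (tt N115721 D218980) (tt N88814 (iv6 F384234)) (tt N76472 F379852))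
theorem Q87601 : ∀ i, i < 87601 → P i := stepQ 87600 Q87600 (allL N87600 (tt N105476 (iv1 F450412)) (tt N92824 (iv0 F398391)) (tt N87507 F379855) (tt N93131 F399615) (tt N82885 F379856) (tt N52100 (iv5 D190475)) (tt N82884 F379857) (tt N82924 F379858))
theorem Q87602 : ∀ i, i < 87602 → P i := stepQ 87601 Q87601 (allL N87601 (tt N97184 F415804) (tt N115473 (iv0 F495361)) (tt N98412 (iv2 F420856)) (tt N52101 (iv3 D190476)) (tt N58925 (iv4 F379859)) (tt N87866 (iv5 F380895)) (tt N105689 F451266) (tt N115483 (iv7 F495421)))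
theorem Q87603 : ∀ i, i < 87603 → P i := stepQ 87602 Q87602 (allL N87602 (tt N115722 D218981) (tt N88290 (iv0 F382469)) (tt N97318 (iv2 F416331)) (tt N87866 (iv3 F380893)) (tt N79697 F379861) (tt N52101 (iv5 D190477)) (tt N79696 (iv6 F379862)) (tt N84700 F379860))
theorem Q87604 : ∀ i, i < 87604 → P i := stepQ 87603 Q87603 (allL N87603 (tt N86807 F392222) (tt N115690 (iv0 F496337)) (tt N87563 (iv2 F392219)) (tt N52102 (iv3 D190478)) (tt N87562 (iv4 F392220)) (tt N60345 (iv5 F392221)) (tt N86869 F392218) (tt N97319 (iv7 F416336)))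
theorem Q87605 : ∀ i, i < 87605 → P i := stepQ 87604 Q87604 (allL N87604 (tt N87615 (iv1 F379896)) (tt N86562 F379897) (tt N115355 (iv2 F494756)) (tt N115723 D218982) (tt N52102 (iv4 D190479)) (tt N105482 (iv5 F450428)) (tt N115356 (iv6 F494767)) (tt N86412 F379863))
theorem Q87606 : ∀ i, i < 87606 → P i := stepQ 87605 Q87605 (allL N87605 (tt N88290 F400105) (tt N115722 F496516) (tt N84700 F379864) (tt N60345 F392223) (tt N93050 (iv4 F399277)) (tt N52102 (iv5 D190480)) (tt N84668 F379865) (tt N97318 (iv7 F416333)))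
theorem Q87607 : ∀ i, i < 87607 → P i := stepQ 87606 Q87606 (allL N87606 (tt N93166 F399763) (tt N111116 (iv0 F474743)) (tt N112435 F481099) (tt N86869 (iv3 F392217)) (tt N115356 (iv4 F494765)) (tt N91192 F392216) (tt N52102 (iv6 D190481)) (tt N112431 (iv7 F481071)))
theorem Q87608 : ∀ i, i < 87608 → P i := stepQ 87607 Q87607 (allL N87607 (tt N88361 F382743) (tt N52117 (iv0 F379867)) (tt N87932 (iv2 F381207)) (tt N87106 F379866) (tt N115724 D218983) (tt N52103 (iv5 D190482)) (tt N115725 D218984) (tt N87930 (iv7 F381195)))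
theorem Q87609 : ∀ i, i < 87609 → P i := stepQ 87608 Q87608 (allL N87608 (tt N52117 F379869) (tt N88361 F382744) (tt N87930 (iv2 F381193)) (tt N88330 (iv3 F382613)) (tt N115726 D218985) (tt N52104 (iv5 D190483)) (tt N115727 D218986) (tt N87932 (iv7 F381209)))
theorem Q87610 : ∀ i, i < 87610 → P i := stepQ 87609 Q87609 (allL N87609 (tt N87935 (iv1 F381225)) (tt N87934 F381221) (tt N52106 F379870) (tt N82603 F379871) (tt N113565 (iv4 F486056)) (tt N52105 (iv5 D190484)) (tt N115362 (iv6 F494804)) (tt N87929 (iv7 F381180)))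
theorem Q87611 : ∀ i, i < 87611 → P i := stepQ 87610 Q87610 (allL N87610 (tt N87929 (iv1 F381181)) (tt N52106 (iv0 D190485)) (tt N87935 F381228) (tt N97238 (iv3 F416020)) (tt N115623 (iv4 F496021)) (tt N85457 F379872) (tt N97236 (iv6 F416011)) (tt N87934 F381224))
theorem Q87612 : ∀ i, i < 87612 → P i := stepQ 87611 Q87611 (allL N87611 (tt N52106 (iv1 D190486)) (tt N87929 F381182) (tt N87934 F381223) (tt N87766 (iv3 F380433)) (tt N104038 (iv4 F443901)) (tt N85705 F379879) (tt N115392 (iv6 F494962)) (tt N87935 (iv7 F381226)))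
theorem Q87613 : ∀ i, i < 87613 → P i := stepQ 87612 Q87612 (allL N87612 (tt N110916 F473775) (tt N52656 F379880) (tt N113565 (iv2 F486058)) (tt N113689 (iv3 F486645)) (tt N52106 (iv4 D190487)) (tt N115728 D218987) (tt N87093 F379881) (tt N87936 (iv7 F381231)))
theorem Q87614 : ∀ i, i < 87614 → P i := stepQ 87613 Q87613 (allL N87613 (tt N115729 D218988) (tt N115730 D218989) (tt N115362 (iv2 F494801)) (tt N52108 F379882) (tt N87093 F379883) (tt N88332 (iv5 F382626)) (tt N52106 (iv6 D190488)) (tt N95886 (iv7 F410092)))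
theorem Q87615 : ∀ i, i < 87615 → P i := stepQ 87614 Q87614 (allL N87614 (tt N94016 F402832) (tt N84466 (iv0 F379889)) (tt N86827 F379884) (tt N52107 (iv3 D190489)) (tt N113689 (iv4 F486646)) (tt N87169 F379885) (tt N84462 (iv6 F379887)) (tt N87546 F379886))
theorem Q87616 : ∀ i, i < 87616 → P i := stepQ 87615 Q87615 (allL N87615 (tt N86763 F379895) (tt N87604 F379896) (tt N87545 F379890) (tt N84462 F379891) (tt N52108 F379892) (tt N70338 F379893) (tt N52107 (iv6 D190490)) (tt N86824 F379894))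
theorem Q87617 : ∀ i, i < 87617 → P i := stepQ 87616 Q87616 (allL N87616 (tt N115241 (iv1 F494174)) (tt N52108 (iv0 D190491)) (tt N115484 F495428) (tt N76470 (iv3 F379899)) (tt N76472 F379898) (tt N115731 D218990) (tt N88432 F383029) (tt N88817 (iv7 F384241)))
theorem Q87618 : ∀ i, i < 87618 → P i := stepQ 87617 Q87617 (allL N87617 (tt N52108 (iv1 D190492)) (tt N115241 (iv0 F494173)) (tt N88817 F384254) (tt N103209 (iv3 F440577)) (tt N87596 (iv4 F384255)) (tt N103208 (iv5 F440574)) (tt N88821 (iv6 F384253)) (tt N115484 (iv7 F495430)))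
theorem Q87619 : ∀ i, i < 87619 → P i := stepQ 87618 Q87618 (allL N87618 (tt N88817 (iv1 F384243)) (tt N115484 F495429) (tt N115241 (iv2 F494168)) (tt N95886 (iv3 F410091)) (tt N86824 F379900) (tt N88335 (iv5 F382636)) (tt N87742 (iv6 F380315)) (tt N52108 (iv7 D190493)))
theorem Q87620 : ∀ i, i < 87620 → P i := stepQ 87619 Q87619 (allL N87619 (tt N52193 F379906) (tt N55272 F379907) (tt N52116 F379901) (tt N53893 F379902) (tt N53972 F379905) (tt N52110 (iv5 D190494)) (tt N62614 F379903) (tt N53924 F379904))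
theorem Q87621 : ∀ i, i < 87621 → P i := stepQ 87620 Q87620 (allL N87620 (tt N87102 F393039) (tt N87106 F393040) (tt N88338 (iv2 F382643)) (tt N52111 (iv3 D190495)) (tt N115392 (iv4 F494961)) (tt N91415 (iv5 F393035)) (tt N104038 (iv6 F443902)) (tt N113627 (iv7 F486367)))
theorem Q87622 : ∀ i, i < 87622 → P i := stepQ 87621 Q87621 (allL N87621 (tt N87103 F379908) (tt N114178 (iv0 F488860)) (tt N88342 (iv2 F382657)) (tt N52115 (iv3 D190496)) (tt N88342 (iv4 F382658)) (tt N91632 (iv5 F393841)) (tt N114151 (iv6 F488761)) (tt N87947 F381268))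
theorem Q87623 : ∀ i, i < 87623 → P i := stepQ 87622 Q87622 (allL N87622 (tt N53970 F379913) (tt N53969 (iv0 F379915)) (tt N53972 F379909) (tt N72925 F379910) (tt N52116 (iv4 D190497)) (tt N111158 (iv5 F474989)) (tt N72923 F379911) (tt N53971 F379912))
theorem Q87624 : ∀ i, i < 87624 → P i := stepQ 87623 Q87623 (allL N87623 (tt N87932 (iv1 F381211)) (tt N87930 (iv0 F381196)) (tt N52117 (iv2 D190498)) (tt N82605 F379916) (tt N114242 (iv4 F489177)) (tt N83517 F379917) (tt N59962 (iv6 F379918)) (tt N88361 (iv7 F382740)))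
theorem Q87625 : ∀ i, i < 87625 → P i := stepQ 87624 Q87624 (allL N87624 (tt N114241 (iv1 F489174)) (tt N52631 F379921) (tt N114242 F489178) (tt N85723 F379919) (tt N52117 (iv4 D190499)) (tt N115642 (iv5 F496105)) (tt N111725 (iv6 F477682)) (tt N85716 F379920))
theorem Q87626 : ∀ i, i < 87626 → P i := stepQ 87625 Q87625 (allL N87625 (tt N95736 (iv1 F409371)) (tt N95735 F409369) (tt N59962 F379922) (tt N52119 F379923) (tt N111725 (iv4 F477681)) (tt N59685 F379924) (tt N52117 (iv6 D190500)) (tt N95300 (iv7 F407778)))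
theorem Q87627 : ∀ i, i < 87627 → P i := stepQ 87626 Q87626 (allL N87626 (tt N74474 F379927) (tt N75559 (iv0 F379929)) (tt N108356 (iv2 F462223)) (tt N52124 F379925) (tt N79002 F379926) (tt N74788 F379928) (tt N52123 (iv6 D190501)) (tt N98280 (iv7 F420303)))
theorem Q87628 : ∀ i, i < 87628 → P i := stepQ 87627 Q87627 (allL N87627 (tt N73734 (iv1 F379932)) (tt N73749 F379933) (tt N98152 F419728) (tt N98280 (iv3 F420302)) (tt N52128 F379930) (tt N56313 F379931) (tt N115487 (iv6 F495447)) (tt N52124 (iv7 D190502)))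
theorem Q87629 : ∀ i, i < 87629 → P i := stepQ 87628 Q87628 (allL N87628 (tt N74094 F379940) (tt N115727 (iv0 F496546)) (tt N106704 (iv2 F455339)) (tt N52125 (iv3 D190503)) (tt N115732 D218991) (tt N92509 F397199) (tt N65330 F379939) (tt N115485 (iv7 F495434)))
theorem Q87630 : ∀ i, i < 87630 → P i := stepQ 87629 Q87629 (allL N87629 (tt N97167 (iv1 F416134)) (tt N93150 (iv0 F399682)) (tt N115486 (iv2 F495439)) (tt N93113 (iv3 F399540)) (tt N108321 (iv4 F462050)) (tt N93081 F399397) (tt N52126 (iv6 D190504)) (tt N103986 (iv7 F443659)))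
theorem Q87631 : ∀ i, i < 87631 → P i := stepQ 87630 Q87630 (allL N87630 (tt N57222 (iv1 F379944)) (tt N57225 F379945) (tt N96048 F410792) (tt N62615 F379941) (tt N73727 F379942) (tt N52128 F379943) (tt N109309 (iv6 F466323)) (tt N52127 (iv7 D190505)))
theorem Q87632 : ∀ i, i < 87632 → P i := stepQ 87631 Q87631 (allL N87631 (tt N108479 (iv1 F462769)) (tt N90528 (iv0 F389974)) (tt N55271 F379946) (tt N89215 (iv3 F385638)) (tt N91605 (iv4 F393764)) (tt N86966 F379947) (tt N52129 (iv6 D190506)) (tt N90566 (iv7 F390130)))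
theorem Q87633 : ∀ i, i < 87633 → P i := stepQ 87632 Q87632 (allL N87632 (tt N69597 F379952) (tt N69596 F379953) (tt N69599 F379948) (tt N52133 F379949) (tt N58747 F379950) (tt N91763 (iv5 F394344)) (tt N52132 (iv6 D190507)) (tt N58744 F379951))
theorem Q87634 : ∀ i, i < 87634 → P i := stepQ 87633 Q87633 (allL N87633 (tt N113596 (iv1 F486222)) (tt N52133 (iv0 D190508)) (tt N113595 F486212) (tt N87870 F380910) (tt N108445 (iv4 F462604)) (tt N115733 D218992) (tt N93917 F402430) (tt N112449 (iv7 F481153)))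
theorem Q87635 : ∀ i, i < 87635 → P i := stepQ 87634 Q87634 (allL N87634 (tt N52133 (iv1 D190509)) (tt N113596 F486221) (tt N112449 (iv2 F481150)) (tt N113559 F486033) (tt N86545 (iv4 F464049)) (tt N115609 (iv5 F495972)) (tt N86544 F464052) (tt N113595 (iv7 F486214)))
theorem Q87636 : ∀ i, i < 87636 → P i := stepQ 87635 Q87635 (allL N87635 (tt N112449 F481154) (tt N113595 F486215) (tt N113596 (iv2 F486216)) (tt N58744 F379954) (tt N87579 F379955) (tt N91765 (iv5 F394347)) (tt N58743 F379956) (tt N52133 (iv7 D190510)))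
theorem Q87637 : ∀ i, i < 87637 → P i := stepQ 87636 Q87636 (allL N87636 (tt N82640 F379960) (tt N53103 F379961) (tt N82887 F379957) (tt N53147 F379958) (tt N101067 (iv4 F431520)) (tt N52134 (iv5 D190511)) (tt N101066 F431516) (tt N82823 F379959))
theorem Q87638 : ∀ i, i < 87638 → P i := stepQ 87637 Q87637 (allL N87637 (tt N53097 (iv1 F379963)) (tt N52135 (iv0 D190512)) (tt N82889 (iv2 F379964)) (tt N113743 F486915) (tt N113841 (iv4 F487390)) (tt N85435 F379962) (tt N115734 D218993) (tt N82888 (iv7 F379965)))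
theorem Q87639 : ∀ i, i < 87639 → P i := stepQ 87638 Q87638 (allL N87638 (tt N52135 (iv1 D190513)) (tt N53097 F379966) (tt N82888 (iv2 F379969)) (tt N53151 (iv3 F379970)) (tt N113840 (iv4 F487382)) (tt N84752 F379968) (tt N114648 (iv6 F491190)) (tt N82889 F379967))
theorem Q87640 : ∀ i, i < 87640 → P i := stepQ 87639 Q87639 (allL N87639 (tt N115735 D218994) (tt N115736 D218995) (tt N111847 (iv2 F478284)) (tt N52138 F379971) (tt N114713 (iv4 F491482)) (tt N91740 (iv5 F394272)) (tt N52135 (iv6 D190514)) (tt N115737 D218996))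
theorem Q87641 : ∀ i, i < 87641 → P i := stepQ 87640 Q87640 (allL N87640 (tt N100215 (iv1 F428029)) (tt N115738 D218997) (tt N115739 D218998) (tt N52137 (iv3 D190515)) (tt N109890 F469092) (tt N109643 (iv5 F467897)) (tt N105852 (iv6 F452036)) (tt N82894 F379972))
theorem Q87642 : ∀ i, i < 87642 → P i := stepQ 87641 Q87641 (allL N87641 (tt N86745 (iv1 F448085)) (tt N86748 F448084) (tt N82900 F379973) (tt N105852 F452037) (tt N52138 F379974) (tt N114964 (iv5 F492794)) (tt N52137 (iv6 D190516)) (tt N105928 (iv7 F452388)))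
theorem Q87643 : ∀ i, i < 87643 → P i := stepQ 87642 Q87642 (allL N87642 (tt N82904 (iv1 F379980)) (tt N52138 (iv0 D190517)) (tt N82901 (iv2 F426549)) (tt N109200 (iv3 F465767)) (tt N115335 (iv4 F494648)) (tt N106477 (iv5 F454602)) (tt N75376 F379975) (tt N82902 (iv7 F426551)))
theorem Q87644 : ∀ i, i < 87644 → P i := stepQ 87643 Q87643 (allL N87643 (tt N52138 (iv1 D190518)) (tt N82904 F379976) (tt N82902 F426550) (tt N95506 (iv3 F408398)) (tt N115336 (iv4 F494656)) (tt N95505 (iv5 F408396)) (tt N76936 (iv6 F379977)) (tt N82901 F426548))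
theorem Q87645 : ∀ i, i < 87645 → P i := stepQ 87644 Q87644 (allL N87644 (tt N82902 (iv1 F379981)) (tt N82901 F379982) (tt N82904 F379978) (tt N115737 (iv3 F496589)) (tt N105928 (iv4 F452386)) (tt N91744 (iv5 F394282)) (tt N82898 F379979) (tt N52138 (iv7 D190519)))
theorem Q87646 : ∀ i, i < 87646 → P i := stepQ 87645 Q87645 (allL N87645 (tt N88330 F382616) (tt N88329 (iv0 F382610)) (tt N52242 F379983) (tt N52141 (iv3 D190520)) (tt N70693 F379985) (tt N52241 F379984) (tt N115740 D218999) (tt N88343 (iv7 F382663)))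
theorem Q87647 : ∀ i, i < 87647 → P i := stepQ 87646 Q87646 (allL N87646 (tt N104037 F443900) (tt N104034 (iv0 F443889)) (tt N88348 (iv2 F382680)) (tt N115740 (iv3 F496605)) (tt N84466 F379986) (tt N88043 (iv5 F381563)) (tt N52141 (iv6 D190521)) (tt N104035 (iv7 F443890)))
theorem Q87648 : ∀ i, i < 87648 → P i := stepQ 87647 Q87647 (allL N87647 (tt N109738 F468366) (tt N52143 (iv0 D190522)) (tt N86662 (iv2 F379987)) (tt N83788 F379988) (tt N109735 (iv4 F468346)) (tt N105841 (iv5 F451978)) (tt N83786 F379989) (tt N92589 (iv7 F397520)))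
theorem Q87649 : ∀ i, i < 87649 → P i := stepQ 87648 Q87648 (allL N87648 (tt N86662 (iv1 F397525)) (tt N92589 F397523) (tt N52143 (iv2 D190523)) (tt N109701 F468190) (tt N104216 (iv4 F444748)) (tt N87576 F379990) (tt N113625 (iv6 F486357)) (tt N109738 (iv7 F468367)))
theorem Q87650 : ∀ i, i < 87650 → P i := stepQ 87649 Q87649 (allL N87649 (tt N93171 (iv1 F399789)) (tt N93985 F402711) (tt N93984 (iv2 F402709)) (tt N111329 (iv3 F475849)) (tt N111938 (iv4 F478766)) (tt N52144 (iv5 D190524)) (tt N87578 F379991) (tt N93983 F402706))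
theorem Q87651 : ∀ i, i < 87651 → P i := stepQ 87650 Q87650 (allL N87650 (tt N115474 (iv1 F495368)) (tt N112438 (iv0 F481114)) (tt N115487 (iv2 F495444)) (tt N83809 F379992) (tt N52147 F379993) (tt N93983 (iv5 F402703)) (tt N98152 F419731) (tt N52144 (iv7 D190525)))
theorem Q87652 : ∀ i, i < 87652 → P i := stepQ 87651 Q87651 (allL N87651 (tt N88369 (iv1 F382769)) (tt N88360 (iv0 F382737)) (tt N88367 F382764) (tt N52145 (iv3 D190526)) (tt N91234 F392373) (tt N111075 (iv5 F474541)) (tt N115741 D219000) (tt N88368 (iv7 F382763)))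
theorem Q87653 : ∀ i, i < 87653 → P i := stepQ 87652 Q87652 (allL N87652 (tt N87533 F379997) (tt N87134 F379998) (tt N70816 F379994) (tt N115087 (iv3 F493421)) (tt N52145 (iv4 D190527)) (tt N70809 F379996) (tt N115742 D219001) (tt N87531 F379995))
theorem Q87654 : ∀ i, i < 87654 → P i := stepQ 87653 Q87653 (allL N87653 (tt N93142 F474479) (tt N111085 (iv0 F474589)) (tt N115489 (iv2 F495457)) (tt N115741 (iv3 F496610)) (tt N115742 (iv4 F496615)) (tt N91764 F394346) (tt N52145 (iv6 D190528)) (tt N115743 D219002))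
theorem Q87655 : ∀ i, i < 87655 → P i := stepQ 87654 Q87654 (allL N87654 (tt N115725 F496534) (tt N111079 (iv0 F474566)) (tt N115744 D219003) (tt N52146 (iv3 D190529)) (tt N115745 D219004) (tt N95458 F408250) (tt N100649 (iv6 F429838)) (tt N115488 (iv7 F495452)))
theorem Q87656 : ∀ i, i < 87656 → P i := stepQ 87655 Q87655 (allL N87655 (tt N87134 (iv1 F380004)) (tt N87533 (iv0 F380003)) (tt N87531 F379999) (tt N91220 (iv3 F392311)) (tt N52146 (iv4 D190530)) (tt N70817 F380002) (tt N87480 F380000) (tt N70816 F380001))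
theorem Q87657 : ∀ i, i < 87657 → P i := stepQ 87656 Q87656 (allL N87656 (tt N105783 (iv1 F451701)) (tt N68126 F380008) (tt N83755 F380005) (tt N87583 F380006) (tt N52149 (iv4 D190531)) (tt N105781 (iv5 F451685)) (tt N83710 F380007) (tt N113593 (iv7 F486198)))
theorem Q87658 : ∀ i, i < 87658 → P i := stepQ 87657 Q87657 (allL N87657 (tt N68100 (iv1 F380013)) (tt N68097 F380014) (tt N58743 F380009) (tt N69594 F380010) (tt N56645 F380011) (tt N60224 F380012) (tt N113596 (iv6 F486220)) (tt N52150 (iv7 D190532)))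
theorem Q87659 : ∀ i, i < 87659 → P i := stepQ 87658 Q87658 (allL N87658 (tt N98573 F421373) (tt N111938 F478769) (tt N115746 D219005) (tt N52152 (iv3 D190533)) (tt N114431 (iv4 F490123)) (tt N54504 F380016) (tt N106887 (iv6 F456139)) (tt N87677 (iv7 F380125)))
theorem Q87660 : ∀ i, i < 87660 → P i := stepQ 87659 Q87659 (allL N87659 (tt N67650 F380018) (tt N104309 F445173) (tt N104272 (iv2 F445054)) (tt N52153 (iv3 D190534)) (tt N102831 (iv4 F438844)) (tt N87677 (iv5 F380124)) (tt N67576 F380022) (tt N54504 F380017))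
theorem Q87661 : ∀ i, i < 87661 → P i := stepQ 87660 Q87660 (allL N87660 (tt N104266 F445027) (tt N93100 F399499) (tt N84262 F380019) (tt N67576 (iv3 F380021)) (tt N52154 F380020) (tt N93180 (iv5 F399830)) (tt N52153 (iv6 D190535)) (tt N104273 (iv7 F445062)))
theorem Q87662 : ∀ i, i < 87662 → P i := stepQ 87661 Q87661 (allL N87661 (tt N52154 (iv1 D190536)) (tt N84263 F380023) (tt N68634 F380026) (tt N105112 (iv3 F448848)) (tt N56495 (iv4 F380025)) (tt N110304 (iv5 F470941)) (tt N60644 F380027) (tt N68631 F380024))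
theorem Q87663 : ∀ i, i < 87663 → P i := stepQ 87662 Q87662 (allL N87662 (tt N71630 F380032) (tt N71625 F380033) (tt N54794 F380028) (tt N56502 F380029) (tt N53462 F380030) (tt N115747 D219006) (tt N52155 (iv6 D190537)) (tt N56499 F380031))
theorem Q87664 : ∀ i, i < 87664 → P i := stepQ 87663 Q87663 (allL N87663 (tt N87680 (iv1 F380131)) (tt N52157 (iv0 D190538)) (tt N87679 F417185) (tt N115748 D219007) (tt N97512 (iv4 F417181)) (tt N88791 (iv5 F389059)) (tt N102360 (iv6 F436900)) (tt N87678 (iv7 F417187)))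
theorem Q87665 : ∀ i, i < 87665 → P i := stepQ 87664 Q87664 (allL N87664 (tt N52157 (iv1 D190539)) (tt N87680 F380134) (tt N87678 (iv2 F417189)) (tt N115749 D219008) (tt N97513 F417200) (tt N88792 (iv5 F384162)) (tt N103294 (iv6 F441022)) (tt N87679 F417188))
theorem Q87666 : ∀ i, i < 87666 → P i := stepQ 87665 Q87665 (allL N87665 (tt N70287 F380035) (tt N115086 (iv0 F493419)) (tt N115083 (iv2 F493400)) (tt N52159 (iv3 D190541)) (tt N114076 (iv4 F488472)) (tt N84062 F380044) (tt N105110 (iv6 F448840)) (tt N88797 (iv7 F384177)))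
theorem Q87667 : ∀ i, i < 87667 → P i := stepQ 87666 Q87666 (allL N87666 (tt N89106 (iv1 F385179)) (tt N82420 F380037) (tt N88795 (iv2 F384169)) (tt N84062 (iv3 F380038)) (tt N82449 F380036) (tt N52159 (iv5 D190542)) (tt N107281 (iv6 F457776)) (tt N85403 (iv7 F380039)))
theorem Q87668 : ∀ i, i < 87668 → P i := stepQ 87667 Q87667 (allL N87667 (tt N60644 (iv1 F386665)) (tt N60634 (iv0 F380046)) (tt N88796 (iv2 F384173)) (tt N105110 F448836) (tt N97633 (iv4 F417702)) (tt N53650 F380045) (tt N52159 (iv6 D190543)) (tt N90415 (iv7 F389564)))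
theorem Q87669 : ∀ i, i < 87669 → P i := stepQ 87668 Q87668 (allL N87668 (tt N84084 F388391) (tt N106899 F456202) (tt N104110 (iv2 F444223)) (tt N52160 (iv3 D190544)) (tt N67612 (iv4 F380047)) (tt N106198 F453584) (tt N67611 F380048) (tt N88793 (iv7 F384163)))
theorem Q87670 : ∀ i, i < 87670 → P i := stepQ 87669 Q87669 (allL N87669 (tt N82420 F380051) (tt N89106 (iv0 F385178)) (tt N85403 F380049) (tt N106198 F453583) (tt N82450 F380050) (tt N52160 (iv5 D190545)) (tt N84858 (iv6 F380052)) (tt N88795 (iv7 F384170)))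
theorem Q87671 : ∀ i, i < 87671 → P i := stepQ 87670 Q87670 (allL N87670 (tt N70268 (iv1 F380088)) (tt N71631 (iv0 F380086)) (tt N88799 (iv2 F384184)) (tt N67611 F380084) (tt N97720 (iv4 F418056)) (tt N82275 (iv5 F380085)) (tt N52160 (iv6 D190546)) (tt N86345 F380090))
theorem Q87672 : ∀ i, i < 87672 → P i := stepQ 87671 Q87671 (allL N87671 (tt N54062 (iv1 F380092)) (tt N52161 (iv0 D190547)) (tt N54060 F380095) (tt N85465 (iv3 F380093)) (tt N78469 F380091) (tt N90419 (iv5 F389578)) (tt N113916 (iv6 F487773)) (tt N54061 F380094))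
theorem Q87673 : ∀ i, i < 87673 → P i := stepQ 87672 Q87672 (allL N87672 (tt N52161 (iv1 D190548)) (tt N54062 F380096) (tt N54061 (iv2 F380099)) (tt N115750 D219009) (tt N78476 F380098) (tt N90420 (iv5 F389583)) (tt N115751 D219010) (tt N54060 F380097))
theorem Q87674 : ∀ i, i < 87674 → P i := stepQ 87673 Q87673 (allL N87673 (tt N88800 (iv1 F384192)) (tt N52163 (iv0 D190549)) (tt N84194 (iv2 F380103)) (tt N55314 F380101) (tt N113934 (iv4 F487858)) (tt N53266 F380100) (tt N84179 F380102) (tt N80682 F380104))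
theorem Q87675 : ∀ i, i < 87675 → P i := stepQ 87674 Q87674 (allL N87674 (tt N52166 (iv1 D190550)) (tt N53406 F380105) (tt N53408 F380109) (tt N112873 (iv3 F483077)) (tt N82817 (iv4 F380108)) (tt N86294 F380107) (tt N53919 (iv6 F380110)) (tt N53409 F380106))
theorem Q87676 : ∀ i, i < 87676 → P i := stepQ 87675 Q87675 (allL N87675 (tt N86292 (iv1 F380116)) (tt N69801 F380115) (tt N52167 (iv2 D190551)) (tt N70969 F380111) (tt N86583 (iv4 F380118)) (tt N83573 F380112) (tt N69788 F380113) (tt N70968 F380114))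
theorem Q87677 : ∀ i, i < 87677 → P i := stepQ 87676 Q87676 (allL N87676 (tt N74382 F380122) (tt N97931 F418846) (tt N86583 F380120) (tt N104062 (iv3 F443992)) (tt N52167 (iv4 D190552)) (tt N86436 (iv5 F380123)) (tt N97933 (iv6 F418853)) (tt N85032 F380121))
theorem Q87678 : ∀ i, i < 87678 → P i := stepQ 87677 Q87677 (allL N87677 (tt N103389 F441400) (tt N103429 (iv0 F441592)) (tt N115752 D219011) (tt N52168 (iv3 D190553)) (tt N104062 (iv4 F443993)) (tt N87659 F380124) (tt N104061 (iv6 F443991)) (tt N87658 F380125))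
theorem Q87679 : ∀ i, i < 87679 → P i := stepQ 87678 Q87678 (allL N87678 (tt N82807 (iv1 F380126)) (tt N52169 (iv0 D190554)) (tt N87664 F417189) (tt N115753 D219012) (tt N115754 D219013) (tt N82809 F380717) (tt N102418 (iv6 F437152)) (tt N87663 F417187))
theorem Q87680 : ∀ i, i < 87680 → P i := stepQ 87679 Q87679 (allL N87679 (tt N52169 (iv1 D190555)) (tt N82807 F380132) (tt N87663 (iv2 F417185)) (tt N93982 F402715) (tt N93986 (iv4 F402714)) (tt N82808 F380127) (tt N93980 F402716) (tt N87664 (iv7 F417188)))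
theorem Q87681 : ∀ i, i < 87681 → P i := stepQ 87680 Q87680 (allL N87680 (tt N87664 (iv1 F380134)) (tt N87663 F380131) (tt N52169 (iv2 D190556)) (tt N82811 F380128) (tt N86920 F380129) (tt N88776 (iv5 F384103)) (tt N114452 (iv6 F490241)) (tt N82807 F380130))
theorem Q87682 : ∀ i, i < 87682 → P i := stepQ 87681 Q87681 (allL N87681 (tt N115402 (iv1 F495013)) (tt N115401 F495010) (tt N114452 (iv2 F490239)) (tt N52170 F380135) (tt N86921 F380136) (tt N86021 (iv5 F380137)) (tt N52169 (iv6 D190557)) (tt N114433 (iv7 F490136)))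
theorem Q87683 : ∀ i, i < 87683 → P i := stepQ 87682 Q87682 (allL N87682 (tt N82388 (iv1 F380144)) (tt N52170 (iv0 D190558)) (tt N88749 F384026) (tt N68843 F384027) (tt N53005 F384028) (tt N84011 F384029) (tt N104562 (iv6 F446278)) (tt N103488 (iv7 F441836)))
theorem Q87684 : ∀ i, i < 87684 → P i := stepQ 87683 Q87683 (allL N87683 (tt N52170 (iv1 D190559)) (tt N82388 F380138) (tt N103488 (iv2 F441833)) (tt N92240 (iv3 F396426)) (tt N53006 F384033) (tt N88750 (iv5 F384044)) (tt N97666 (iv6 F417846)) (tt N88749 F384034))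
theorem Q87685 : ∀ i, i < 87685 → P i := stepQ 87684 Q87684 (allL N87684 (tt N103485 (iv1 F441823)) (tt N92173 (iv0 F396088)) (tt N113823 (iv2 F487297)) (tt N86021 F380139) (tt N85989 (iv4 F380140)) (tt N52170 (iv5 D190560)) (tt N87686 (iv6 F380145)) (tt N114382 (iv7 F489896)))
theorem Q87686 : ∀ i, i < 87686 → P i := stepQ 87685 Q87685 (allL N87685 (tt N103488 (iv1 F441838)) (tt N88749 (iv0 F384017)) (tt N82388 F380141) (tt N114433 (iv3 F490135)) (tt N52174 F380142) (tt N114382 (iv5 F489897)) (tt N67278 F380143) (tt N52170 (iv7 D190561)))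
theorem Q87687 : ∀ i, i < 87687 → P i := stepQ 87686 Q87686 (allL N87686 (tt N88728 (iv1 F384040)) (tt N84004 F384025) (tt N88725 F384021) (tt N113148 (iv3 F484193)) (tt N52171 (iv4 D190562)) (tt N53028 (iv5 F380146)) (tt N87684 F380145) (tt N88726 F384016))
theorem Q87688 : ∀ i, i < 87688 → P i := stepQ 87687 Q87687 (allL N87687 (tt N112334 (iv1 F480615)) (tt N112333 (iv0 F480613)) (tt N112335 (iv2 F480622)) (tt N54438 F380147) (tt N112338 (iv4 F480641)) (tt N52171 (iv5 D190563)) (tt N112337 F480639) (tt N54439 F380148))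
theorem Q87689 : ∀ i, i < 87689 → P i := stepQ 87688 Q87688 (allL N87688 (tt N71850 F421420) (tt N106595 (iv0 F454993)) (tt N76765 F421417) (tt N52172 (iv3 D190564)) (tt N76588 (iv4 F421418)) (tt N99214 (iv5 F423714)) (tt N103582 (iv6 F442120)) (tt N76758 F421419))
theorem Q87690 : ∀ i, i < 87690 → P i := stepQ 87689 Q87689 (allL N87689 (tt N84004 F383725) (tt N88728 F383979) (tt N88726 F384015) (tt N101719 (iv3 F434023)) (tt N52172 (iv4 D190565)) (tt N68707 (iv5 F383724)) (tt N88651 F383723) (tt N88725 F384022))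
theorem Q87691 : ∀ i, i < 87691 → P i := stepQ 87690 Q87690 (allL N87690 (tt N90814 (iv1 F390954)) (tt N52173 (iv0 D190566)) (tt N90793 (iv2 F390890)) (tt N81380 (iv3 F385827)) (tt N90812 (iv4 F390944)) (tt N106012 (iv5 F452735)) (tt N89261 F385826) (tt N90608 (iv7 F390247)))
theorem Q87692 : ∀ i, i < 87692 → P i := stepQ 87691 Q87691 (allL N87691 (tt N52173 (iv1 D190567)) (tt N90814 F390953) (tt N90608 F390896) (tt N105351 (iv3 F449833)) (tt N89893 (iv4 F390897)) (tt N105350 F449830) (tt N89892 (iv6 F390898)) (tt N90793 F390895))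
theorem Q87693 : ∀ i, i < 87693 → P i := stepQ 87692 Q87692 (allL N87692 (tt N115755 D219014) (tt N115432 (iv0 F495167)) (tt N83341 F380149) (tt N115407 (iv3 F495037)) (tt N52173 (iv4 D190568)) (tt N113894 (iv5 F487673)) (tt N52175 F380150) (tt N115756 D219015))
theorem Q87694 : ∀ i, i < 87694 → P i := stepQ 87693 Q87693 (allL N87693 (tt N90608 (iv1 F390252)) (tt N90793 (iv0 F390893)) (tt N90814 (iv2 F390951)) (tt N77368 F380151) (tt N115756 (iv4 F496691)) (tt N52174 F380152) (tt N90140 (iv6 F388665)) (tt N52173 (iv7 D190569)))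
theorem Q87695 : ∀ i, i < 87695 → P i := stepQ 87694 Q87694 (allL N87694 (tt N111342 F475911) (tt N109763 (iv0 F468503)) (tt N111340 F475907) (tt N52175 (iv3 D190570)) (tt N86931 F380153) (tt N84733 F380154) (tt N115407 (iv6 F495039)) (tt N90815 (iv7 F390957)))
theorem Q87696 : ∀ i, i < 87696 → P i := stepQ 87695 Q87695 (allL N87695 (tt N87711 (iv1 F380227)) (tt N55426 (iv0 F380158)) (tt N87732 (iv2 F380278)) (tt N52176 (iv3 D190571)) (tt N79309 F380155) (tt N98590 (iv5 F421477)) (tt N52248 F380156) (tt N82561 F380157))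
theorem Q87697 : ∀ i, i < 87697 → P i := stepQ 87696 Q87696 (allL N87696 (tt N87900 (iv1 F381031)) (tt N81743 F380161) (tt N82566 F380159) (tt N98590 (iv3 F421476)) (tt N67591 (iv4 F380162)) (tt N52176 (iv5 D190572)) (tt N98589 (iv6 F421473)) (tt N82562 F380160))
theorem Q87698 : ∀ i, i < 87698 → P i := stepQ 87697 Q87697 (allL N87697 (tt N89156 F385380) (tt N101012 (iv0 F431267)) (tt N52964 F380163) (tt N52179 F380164) (tt N52963 F380165) (tt N113926 (iv5 F487827)) (tt N52178 (iv6 D190573)) (tt N82957 (iv7 F380166)))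
theorem Q87699 : ∀ i, i < 87699 → P i := stepQ 87698 Q87698 (allL N87698 (tt N52179 (iv1 D190574)) (tt N65101 F380167) (tt N65088 F380172) (tt N56111 (iv3 F380170)) (tt N66916 (iv4 F380169)) (tt N74817 F380173) (tt N67903 (iv6 F380171)) (tt N56109 F380168))
theorem Q87700 : ∀ i, i < 87700 → P i := stepQ 87699 Q87699 (allL N87699 (tt N65106 F380175) (tt N99944 F426904) (tt N81677 F380174) (tt N113926 (iv3 F487825)) (tt N109409 (iv4 F466818)) (tt N52179 (iv5 D190575)) (tt N100999 (iv6 F431200)) (tt N111944 (iv7 F478795)))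
theorem Q87701 : ∀ i, i < 87701 → P i := stepQ 87700 Q87700 (allL N87700 (tt N65088 (iv1 F380179)) (tt N56109 F380180) (tt N65101 F380176) (tt N82957 F380177) (tt N110512 (iv4 F471920)) (tt N111944 (iv5 F478796)) (tt N80977 F380178) (tt N52179 (iv7 D190576)))
theorem Q87702 : ∀ i, i < 87702 → P i := stepQ 87701 Q87701 (allL N87701 (tt N80465 F380185) (tt N52581 F380186) (tt N64594 F380181) (tt N63405 F380182) (tt N64591 F380183) (tt N99753 (iv5 F426067)) (tt N52181 (iv6 D190577)) (tt N80464 F380184))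
theorem Q87703 : ∀ i, i < 87703 → P i := stepQ 87702 Q87702 (allL N87702 (tt N52387 F380190) (tt N76124 F380191) (tt N78737 F380187) (tt N101011 (iv3 F431258)) (tt N64430 F380188) (tt N54132 F380189) (tt N52182 (iv6 D190578)) (tt N87466 F380192))
theorem Q87704 : ∀ i, i < 87704 → P i := stepQ 87703 Q87703 (allL N87703 (tt N87022 (iv1 F380197)) (tt N52284 (iv0 F380196)) (tt N58497 F380193) (tt N91454 (iv3 F393197)) (tt N96437 (iv4 F412514)) (tt N52184 (iv5 D190579)) (tt N58495 F380194) (tt N87005 F380195))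
theorem Q87705 : ∀ i, i < 87705 → P i := stepQ 87704 Q87704 (allL N87704 (tt N52238 F381189) (tt N87007 F381190) (tt N87012 F381187) (tt N83155 F380199) (tt N112031 (iv4 F479163)) (tt N87312 F381191) (tt N52189 (iv6 D190580)) (tt N87013 (iv7 F381186)))
theorem Q87706 : ∀ i, i < 87706 → P i := stepQ 87705 Q87705 (allL N87705 (tt N106600 F455009) (tt N106516 (iv0 F454740)) (tt N115757 D219016) (tt N52191 (iv3 D190581)) (tt N54656 F380200) (tt N83130 F380201) (tt N54655 F380202) (tt N91604 (iv7 F393763)))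
theorem Q87707 : ∀ i, i < 87707 → P i := stepQ 87706 Q87706 (allL N87706 (tt N63495 F380206) (tt N74088 (iv0 F380207)) (tt N74051 F380203) (tt N52193 F380204) (tt N98956 (iv4 F422854)) (tt N52192 (iv5 D190582)) (tt N101754 (iv6 F434195)) (tt N74204 F380205))
theorem Q87708 : ∀ i, i < 87708 → P i := stepQ 87707 Q87707 (allL N87707 (tt N97036 F415138) (tt N55037 F380210) (tt N74196 F380209) (tt N99331 (iv3 F424132)) (tt N52193 (iv4 D190583)) (tt N115758 D219017) (tt N111791 (iv6 F477993)) (tt N99332 (iv7 F424136)))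
theorem Q87709 : ∀ i, i < 87709 → P i := stepQ 87708 Q87708 (allL N87708 (tt N52202 (iv1 F380216)) (tt N52194 (iv0 D190584)) (tt N52199 (iv2 F380214)) (tt N73741 F380212) (tt N56178 F380211) (tt N92040 (iv5 F395490)) (tt N61075 F380213) (tt N52200 F380215))
theorem Q87710 : ∀ i, i < 87710 → P i := stepQ 87709 Q87709 (allL N87709 (tt N96752 F413772) (tt N102031 (iv0 F435451)) (tt N52201 F380217) (tt N87059 F380218) (tt N94785 (iv4 F405934)) (tt N52194 (iv5 D190585)) (tt N52195 F380219) (tt N112152 (iv7 F479773)))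
theorem Q87711 : ∀ i, i < 87711 → P i := stepQ 87710 Q87710 (allL N87710 (tt N52200 (iv1 F380224)) (tt N52199 F380225) (tt N52202 F380220) (tt N86999 F380221) (tt N80023 F380222) (tt N112152 (iv5 F479772)) (tt N86968 F380223) (tt N52194 (iv7 D190586)))
theorem Q87712 : ∀ i, i < 87712 → P i := stepQ 87711 Q87711 (allL N87711 (tt N91815 (iv1 F394530)) (tt N87695 F380227) (tt N52209 F380226) (tt N92059 F395579) (tt N52195 (iv4 D190587)) (tt N103373 (iv5 F441331)) (tt N94785 F405936) (tt N91810 (iv7 F394513)))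
theorem Q87713 : ∀ i, i < 87713 → P i := stepQ 87712 Q87712 (allL N87712 (tt N115759 D219018) (tt N98272 (iv0 F420277)) (tt N79963 F380228) (tt N78891 F380229) (tt N83746 F380231) (tt N52196 (iv5 D190588)) (tt N52398 F380230) (tt N106880 (iv7 F456111)))
theorem Q87714 : ∀ i, i < 87714 → P i := stepQ 87713 Q87713 (allL N87713 (tt N79962 (iv1 F380236)) (tt N68112 F380237) (tt N79964 F380232) (tt N78892 F380233) (tt N60992 F380234) (tt N106880 (iv5 F456110)) (tt N78892 F380235) (tt N52196 (iv7 D190589)))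
theorem Q87715 : ∀ i, i < 87715 → P i := stepQ 87714 Q87714 (allL N87714 (tt N75911 F380241) (tt N99754 (iv0 F426072)) (tt N75242 F380238) (tt N52198 F380239) (tt N75231 F380240) (tt N106879 (iv5 F456106)) (tt N52197 (iv6 D190590)) (tt N115760 D219019))
theorem Q87716 : ∀ i, i < 87716 → P i := stepQ 87715 Q87715 (allL N87715 (tt N78890 (iv1 F380245)) (tt N78889 F380246) (tt N78892 F380242) (tt N115760 (iv3 F496712)) (tt N61083 F380243) (tt N103202 (iv5 F440550)) (tt N79964 F380244) (tt N52198 (iv7 D190591)))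
theorem Q87717 : ∀ i, i < 87717 → P i := stepQ 87716 Q87716 (allL N87716 (tt N115761 D219020) (tt N95616 (iv0 F408906)) (tt N92040 (iv2 F395488)) (tt N86971 F380247) (tt N65654 F380248) (tt N52199 (iv5 D190592)) (tt N111875 (iv6 F478445)) (tt N92037 (iv7 F395479)))
theorem Q87718 : ∀ i, i < 87718 → P i := stepQ 87717 Q87717 (allL N87717 (tt N95616 (iv1 F408907)) (tt N115761 F496721) (tt N92037 (iv2 F395478)) (tt N59847 F380249) (tt N65655 F380250) (tt N52200 (iv5 D190593)) (tt N106692 (iv6 F455303)) (tt N92040 (iv7 F395489)))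
theorem Q87719 : ∀ i, i < 87719 → P i := stepQ 87718 Q87718 (allL N87718 (tt N112152 (iv1 F479775)) (tt N52201 (iv0 D190594)) (tt N96752 (iv2 F413767)) (tt N86974 (iv3 F413732)) (tt N96744 (iv4 F413731)) (tt N115495 (iv5 F495495)) (tt N103460 (iv6 F441727)) (tt N102031 (iv7 F435448)))
theorem Q87720 : ∀ i, i < 87720 → P i := stepQ 87719 Q87719 (allL N87719 (tt N52201 (iv1 D190595)) (tt N112152 F479774) (tt N102031 (iv2 F435445)) (tt N58498 (iv3 F380251)) (tt N96745 F413742) (tt N108320 (iv5 F462047)) (tt N91962 (iv6 F395148)) (tt N96752 (iv7 F413770)))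
theorem Q87721 : ∀ i, i < 87721 → P i := stepQ 87720 Q87720 (allL N87720 (tt N71734 F380254) (tt N71731 F380253) (tt N94785 F405935) (tt N102081 (iv3 F435635)) (tt N52201 (iv4 D190596)) (tt N115762 D219021) (tt N52209 F380252) (tt N102223 (iv7 F436253)))
theorem Q87722 : ∀ i, i < 87722 → P i := stepQ 87721 Q87721 (allL N87721 (tt N102031 (iv1 F435450)) (tt N96752 (iv0 F413771)) (tt N112152 (iv2 F479769)) (tt N52227 F380255) (tt N102223 F436256) (tt N52202 F380256) (tt N91821 (iv6 F394550)) (tt N52201 (iv7 D190597)))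
theorem Q87723 : ∀ i, i < 87723 → P i := stepQ 87722 Q87722 (allL N87722 (tt N52206 (iv1 F380259)) (tt N52203 (iv0 D190598)) (tt N83522 (iv2 F380258)) (tt N87016 F380260) (tt N111862 (iv4 F478367)) (tt N84645 F380257) (tt N82474 (iv6 F380261)) (tt N91804 (iv7 F394491)))
theorem Q87724 : ∀ i, i < 87724 → P i := stepQ 87723 Q87723 (allL N87723 (tt N87528 F380262) (tt N115763 D219022) (tt N91808 (iv2 F394507)) (tt N102340 F436803) (tt N52203 (iv4 D190599)) (tt N102251 (iv5 F436375)) (tt N97482 F417037) (tt N91805 (iv7 F394496)))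
theorem Q87725 : ∀ i, i < 87725 → P i := stepQ 87724 Q87724 (allL N87724 (tt N91984 (iv1 F395253)) (tt N55475 (iv0 F380264)) (tt N91809 (iv2 F394510)) (tt N86978 F380263) (tt N97482 (iv4 F417036)) (tt N111311 (iv5 F475757)) (tt N52203 (iv6 D190600)) (tt N91983 (iv7 F395245)))
theorem Q87726 : ∀ i, i < 87726 → P i := stepQ 87725 Q87725 (allL N87725 (tt N115763 (iv1 F496731)) (tt N87528 F380266) (tt N91805 (iv2 F394494)) (tt N82367 F380265) (tt N52206 (iv4 D190601)) (tt N115764 D219023) (tt N92103 (iv6 F395744)) (tt N91808 (iv7 F394509)))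
theorem Q87727 : ∀ i, i < 87727 → P i := stepQ 87726 Q87726 (allL N87726 (tt N92004 F395332) (tt N103409 F441490) (tt N91806 (iv2 F394498)) (tt N82371 F380267) (tt N92103 F395742) (tt N113628 (iv5 F486374)) (tt N52206 (iv6 D190602)) (tt N103400 (iv7 F441447)))
theorem Q87728 : ∀ i, i < 87728 → P i := stepQ 87727 Q87727 (allL N87727 (tt N91522 (iv1 F393467)) (tt N60514 F380268) (tt N91520 F393454) (tt N97603 (iv3 F417554)) (tt N52207 (iv4 D190603)) (tt N97602 F417553) (tt N60046 F380271) (tt N91521 (iv7 F393459)))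
theorem Q87729 : ∀ i, i < 87729 → P i := stepQ 87728 Q87728 (allL N87728 (tt N97500 (iv1 F417127)) (tt N96796 (iv0 F413990)) (tt N91814 (iv2 F394526)) (tt N86982 F380269) (tt N60046 (iv4 F380270)) (tt N92533 (iv5 F397281)) (tt N52207 (iv6 D190604)) (tt N102883 (iv7 F439089)))
theorem Q87730 : ∀ i, i < 87730 → P i := stepQ 87729 Q87729 (allL N87729 (tt N91454 (iv1 F393200)) (tt N91939 (iv0 F395038)) (tt N86983 F380272) (tt N52208 (iv3 D190605)) (tt N80527 (iv4 F380273)) (tt N112395 (iv5 F480910)) (tt N85735 F380274) (tt N91813 (iv7 F394522)))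
theorem Q87731 : ∀ i, i < 87731 → P i := stepQ 87730 Q87730 (allL N87730 (tt N60514 F380275) (tt N91522 F393466) (tt N91521 F393461) (tt N111811 F478098) (tt N52208 (iv4 D190606)) (tt N98025 (iv5 F419213)) (tt N111817 (iv6 F478135)) (tt N91520 F393455))
theorem Q87732 : ∀ i, i < 87732 → P i := stepQ 87731 Q87731 (allL N87731 (tt N112399 F480939) (tt N115408 (iv0 F495046)) (tt N91812 (iv2 F394520)) (tt N85735 F380276) (tt N111817 (iv4 F478133)) (tt N114868 (iv5 F492247)) (tt N52208 (iv6 D190607)) (tt N111818 (iv7 F478142)))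
theorem Q87733 : ∀ i, i < 87733 → P i := stepQ 87732 Q87732 (allL N87732 (tt N52209 (iv1 D190608)) (tt N91810 (iv0 F394514)) (tt N87695 F380278) (tt N81764 (iv3 F380279)) (tt N55168 (iv4 F380277)) (tt N104907 (iv5 F447879)) (tt N87776 (iv6 F380459)) (tt N91815 (iv7 F394531)))
theorem Q87734 : ∀ i, i < 87734 → P i := stepQ 87733 Q87733 (allL N87733 (tt N111859 F478350) (tt N115765 D219024) (tt N52211 F380280) (tt N52262 F380281) (tt N82205 F380282) (tt N97242 F416044) (tt N52210 (iv6 D190609)) (tt N115766 D219025))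
theorem Q87735 : ∀ i, i < 87735 → P i := stepQ 87734 Q87734 (allL N87734 (tt N115766 (iv1 F496757)) (tt N52211 (iv0 D190610)) (tt N111859 (iv2 F478345)) (tt N75911 F380283) (tt N110772 (iv4 F473127)) (tt N112714 (iv5 F482323)) (tt N59856 (iv6 F380284)) (tt N115765 (iv7 F496745)))
theorem Q87736 : ∀ i, i < 87736 → P i := stepQ 87735 Q87735 (allL N87735 (tt N52211 (iv1 D190611)) (tt N115766 F496756) (tt N115765 (iv2 F496750)) (tt N82942 (iv3 F427668)) (tt N110770 (iv4 F473113)) (tt N104198 F444656) (tt N95640 F427673) (tt N111859 (iv7 F478349)))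
theorem Q87737 : ∀ i, i < 87737 → P i := stepQ 87736 Q87736 (allL N87736 (tt N95472 F408314) (tt N60181 (iv0 F380287)) (tt N97242 (iv2 F416045)) (tt N52214 F380285) (tt N115767 D219026) (tt N52211 (iv5 D190612)) (tt N52396 F380286) (tt N97241 F416039))
theorem Q87738 : ∀ i, i < 87738 → P i := stepQ 87737 Q87737 (allL N87737 (tt N115765 (iv1 F496744)) (tt N111859 F478351) (tt N115766 (iv2 F496751)) (tt N52215 F380288) (tt N77576 F380289) (tt N97241 (iv5 F416034)) (tt N58921 F380290) (tt N52211 (iv7 D190613)))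
theorem Q87739 : ∀ i, i < 87739 → P i := stepQ 87738 Q87738 (allL N87738 (tt N87973 (iv1 F381339)) (tt N64010 F380295) (tt N68106 F380291) (tt N84239 F380292) (tt N115768 D219027) (tt N52212 (iv5 D190614)) (tt N68102 F380293) (tt N86991 F380294))
theorem Q87740 : ∀ i, i < 87740 → P i := stepQ 87739 Q87739 (allL N87739 (tt N64010 F380299) (tt N87973 (iv0 F381338)) (tt N86991 F380296) (tt N68113 F380297) (tt N115769 D219028) (tt N52213 (iv5 D190615)) (tt N86774 (iv6 F380300)) (tt N68106 F380298))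
theorem Q87741 : ∀ i, i < 87741 → P i := stepQ 87740 Q87740 (allL N87740 (tt N86995 F380304) (tt N52214 (iv0 D190616)) (tt N86992 (iv2 F380305)) (tt N111071 (iv3 F474525)) (tt N56639 F380302) (tt N87287 F380301) (tt N56638 F380303) (tt N86993 (iv7 F380306)))
theorem Q87742 : ∀ i, i < 87742 → P i := stepQ 87741 Q87741 (allL N87741 (tt N52214 (iv1 D190617)) (tt N86995 F380307) (tt N86993 (iv2 F380310)) (tt N98272 (iv3 F420275)) (tt N87130 (iv4 F380311)) (tt N87194 F380309) (tt N98271 (iv6 F420274)) (tt N86992 F380308))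
theorem Q87743 : ∀ i, i < 87743 → P i := stepQ 87742 Q87742 (allL N87742 (tt N86993 (iv1 F380316)) (tt N86992 F380317) (tt N86995 F380312) (tt N97241 (iv3 F416036)) (tt N83295 F380313) (tt N52215 F380314) (tt N87618 F380315) (tt N52214 (iv7 D190618)))
theorem Q87744 : ∀ i, i < 87744 → P i := stepQ 87743 Q87743 (allL N87743 (tt N88052 (iv1 F381599)) (tt N109251 (iv0 F465999)) (tt N80469 F380318) (tt N97282 (iv3 F416197)) (tt N68776 F380320) (tt N52216 (iv5 D190619)) (tt N97281 F416192) (tt N80472 F380319))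
theorem Q87745 : ∀ i, i < 87745 → P i := stepQ 87744 Q87744 (allL N87744 (tt N52262 F380331) (tt N86990 (iv0 F380332)) (tt N86988 F380328) (tt N52217 (iv3 D190620)) (tt N77290 F380329) (tt N115770 D219029) (tt N114011 (iv6 F488193)) (tt N80468 F380330))
theorem Q87746 : ∀ i, i < 87746 → P i := stepQ 87745 Q87745 (allL N87745 (tt N109251 (iv1 F466000)) (tt N88052 (iv0 F381598)) (tt N80472 F380333) (tt N115770 (iv3 F496777)) (tt N111869 (iv4 F478408)) (tt N52217 (iv5 D190621)) (tt N87770 (iv6 F380447)) (tt N80469 F380334))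
theorem Q87747 : ∀ i, i < 87747 → P i := stepQ 87746 Q87746 (allL N87746 (tt N87075 (iv1 F380339)) (tt N52221 (iv0 F380338)) (tt N80473 F380335) (tt N114011 F488191) (tt N52583 F380336) (tt N87964 (iv5 F381303)) (tt N52217 (iv6 D190622)) (tt N87074 F380337))
theorem Q87748 : ∀ i, i < 87748 → P i := stepQ 87747 Q87747 (allL N87747 (tt N52218 (iv1 D190623)) (tt N58920 F380340) (tt N82950 (iv2 F380344)) (tt N106868 (iv3 F456073)) (tt N52621 F380343) (tt N87192 F380342) (tt N103199 (iv6 F440532)) (tt N82949 F380341))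
theorem Q87749 : ∀ i, i < 87749 → P i := stepQ 87748 Q87748 (allL N87748 (tt N82950 (iv1 F380350)) (tt N82949 F380351) (tt N58920 F380345) (tt N86805 F380346) (tt N58930 F380347) (tt N52219 F380348) (tt N86803 F380349) (tt N52218 (iv7 D190624)))
theorem Q87750 : ∀ i, i < 87750 → P i := stepQ 87749 Q87749 (allL N87749 (tt N78826 (iv1 F380356)) (tt N52220 (iv0 D190625)) (tt N75554 (iv2 F380355)) (tt N75342 F380354) (tt N75532 F380353) (tt N82233 F380352) (tt N101498 (iv6 F433155)) (tt N75551 F380357))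
theorem Q87751 : ∀ i, i < 87751 → P i := stepQ 87750 Q87750 (allL N87750 (tt N52221 (iv1 D190626)) (tt N87075 F380358) (tt N87074 F380362) (tt N79932 (iv3 F380363)) (tt N68570 F380360) (tt N87965 (iv5 F381309)) (tt N87001 (iv6 F380361)) (tt N80473 F380359))
theorem Q87752 : ∀ i, i < 87752 → P i := stepQ 87751 Q87751 (allL N87751 (tt N87074 (iv1 F380368)) (tt N80473 F380369) (tt N87075 F380364) (tt N95619 (iv3 F408910)) (tt N80432 F380365) (tt N52421 F380366) (tt N84237 F380367) (tt N52221 (iv7 D190627)))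
theorem Q87753 : ∀ i, i < 87753 → P i := stepQ 87752 Q87752 (allL N87752 (tt N64556 F380374) (tt N63025 F380375) (tt N54709 F380370) (tt N62919 F380371) (tt N52222 (iv4 D190628)) (tt N53446 F380372) (tt N109413 (iv6 F466843)) (tt N54712 F380373))
theorem Q87754 : ∀ i, i < 87754 → P i := stepQ 87753 Q87753 (allL N87753 (tt N102993 F439590) (tt N115771 D219030) (tt N59852 F380376) (tt N52224 F380377) (tt N109413 (iv4 F466842)) (tt N112124 (iv5 F479610)) (tt N52222 (iv6 D190629)) (tt N109241 (iv7 F465948)))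
theorem Q87755 : ∀ i, i < 87755 → P i := stepQ 87754 Q87754 (allL N87754 (tt N54480 F380380) (tt N53410 F380381) (tt N54479 F380378) (tt N112124 (iv3 F479609)) (tt N91319 (iv4 F392709)) (tt N52224 (iv5 D190630)) (tt N112122 (iv6 F479599)) (tt N54478 F380379))
theorem Q87756 : ∀ i, i < 87756 → P i := stepQ 87755 Q87755 (allL N87755 (tt N97121 F415539) (tt N99217 (iv0 F423727)) (tt N87079 F380382) (tt N68073 F380383) (tt N99498 (iv4 F424870)) (tt N52226 (iv5 D190631)) (tt N99670 (iv6 F425673)) (tt N104866 (iv7 F447704)))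
theorem Q87757 : ∀ i, i < 87757 → P i := stepQ 87756 Q87756 (allL N87756 (tt N59963 (iv1 F380387)) (tt N52230 (iv0 D190632)) (tt N59920 (iv2 F380388)) (tt N82370 (iv3 F380389)) (tt N66044 F380385) (tt N59823 F380384) (tt N59896 F380386) (tt N59864 (iv7 F380390)))
theorem Q87758 : ∀ i, i < 87758 → P i := stepQ 87757 Q87757 (allL N87757 (tt N52230 (iv1 D190633)) (tt N59963 F380391) (tt N59864 F380395) (tt N87009 (iv3 F380587)) (tt N99651 (iv4 F425591)) (tt N59822 F380393) (tt N59836 (iv6 F380394)) (tt N59920 F380392))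
theorem Q87759 : ∀ i, i < 87759 → P i := stepQ 87758 Q87758 (allL N87758 (tt N83526 F380401) (tt N83525 F380402) (tt N83524 F380396) (tt N79871 F380397) (tt N52235 F380398) (tt N86405 F380399) (tt N52234 (iv6 D190634)) (tt N52235 F380400))
theorem Q87760 : ∀ i, i < 87760 → P i := stepQ 87759 Q87759 (allL N87759 (tt N91823 (iv1 F394560)) (tt N52237 (iv0 D190635)) (tt N60756 (iv2 F380405)) (tt N106807 (iv3 F455763)) (tt N60764 F380404) (tt N104903 (iv5 F447863)) (tt N60754 (iv6 F380406)) (tt N91822 (iv7 F394554)))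
theorem Q87761 : ∀ i, i < 87761 → P i := stepQ 87760 Q87760 (allL N87760 (tt N52237 (iv1 D190636)) (tt N91823 F394561) (tt N91822 F394552) (tt N58422 (iv3 F380409)) (tt N60768 F380408) (tt N104902 (iv5 F447857)) (tt N96773 (iv6 F413862)) (tt N60756 F380407))
theorem Q87762 : ∀ i, i < 87762 → P i := stepQ 87761 Q87761 (allL N87761 (tt N60756 (iv1 F394555)) (tt N91822 F394553) (tt N52237 (iv2 D190637)) (tt N87082 F380410) (tt N103241 (iv4 F440738)) (tt N108533 (iv5 F462978)) (tt N96801 (iv6 F414020)) (tt N91823 (iv7 F394559)))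
theorem Q87763 : ∀ i, i < 87763 → P i := stepQ 87762 Q87762 (allL N87762 (tt N87007 (iv1 F380412)) (tt N52238 (iv0 D190638)) (tt N87013 (iv2 F381184)) (tt N91832 (iv3 F394603)) (tt N54459 F380411) (tt N87311 (iv5 F380414)) (tt N83518 (iv6 F380413)) (tt N87012 F381188))
theorem Q87764 : ∀ i, i < 87764 → P i := stepQ 87763 Q87763 (allL N87763 (tt N87013 (iv1 F380422)) (tt N87012 F380419) (tt N52238 (iv2 D190640)) (tt N55292 F380415) (tt N52291 F380416) (tt N88001 (iv5 F381440)) (tt N52241 F380417) (tt N87007 F380418))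
theorem Q87765 : ∀ i, i < 87765 → P i := stepQ 87764 Q87764 (allL N87764 (tt N91209 F392272) (tt N82750 (iv0 F380426)) (tt N82772 F380423) (tt N53409 F380424) (tt N52239 (iv4 D190641)) (tt N112066 (iv5 F479328)) (tt N53281 F380425) (tt N112873 (iv7 F483080)))
theorem Q87766 : ∀ i, i < 87766 → P i := stepQ 87765 Q87765 (allL N87765 (tt N82940 F380429) (tt N52678 (iv0 F380431)) (tt N82948 F380427) (tt N114232 (iv3 F489120)) (tt N86911 F380430) (tt N52239 (iv5 D190642)) (tt N96931 F414656) (tt N82947 F380428))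
theorem Q87767 : ∀ i, i < 87767 → P i := stepQ 87766 Q87766 (allL N87766 (tt N52678 F380435) (tt N82940 F380436) (tt N82947 F380432) (tt N87611 F380433) (tt N86904 (iv4 F380437)) (tt N52240 (iv5 D190643)) (tt N86903 F380438) (tt N82948 F380434))
theorem Q87768 : ∀ i, i < 87768 → P i := stepQ 87767 Q87767 (allL N87767 (tt N100525 F429322) (tt N104834 (iv0 F447525)) (tt N115740 (iv2 F496604)) (tt N52244 F380439) (tt N93012 F399118) (tt N88002 (iv5 F381445)) (tt N52242 (iv6 D190645)) (tt N115772 D219031))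
theorem Q87769 : ∀ i, i < 87769 → P i := stepQ 87768 Q87768 (allL N87768 (tt N105875 (iv1 F452132)) (tt N105877 (iv0 F452138)) (tt N97692 (iv2 F417922)) (tt N52243 (iv3 D190646)) (tt N93119 (iv4 F399574)) (tt N79351 F380440) (tt N68742 (iv6 F380441)) (tt N87903 (iv7 F381062)))
theorem Q87770 : ∀ i, i < 87770 → P i := stepQ 87769 Q87769 (allL N87769 (tt N83608 F380446) (tt N56563 (iv0 F380445)) (tt N88349 (iv2 F382685)) (tt N68742 F380442) (tt N52244 F380443) (tt N81745 F380444) (tt N52243 (iv6 D190647)) (tt N92081 (iv7 F395663)))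
theorem Q87771 : ∀ i, i < 87771 → P i := stepQ 87770 Q87770 (allL N87770 (tt N88352 (iv1 F382712)) (tt N52244 (iv0 D190648)) (tt N88350 F382692) (tt N115296 (iv3 F494444)) (tt N80225 (iv4 F382707)) (tt N115773 D219032) (tt N87745 F380447) (tt N88351 (iv7 F382695)))
theorem Q87772 : ∀ i, i < 87772 → P i := stepQ 87771 Q87771 (allL N87771 (tt N52244 (iv1 D190649)) (tt N88352 F382711) (tt N88351 F382697) (tt N97161 F416195) (tt N80226 F380448) (tt N115774 D219033) (tt N97160 (iv6 F416194)) (tt N88350 F382693))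
theorem Q87773 : ∀ i, i < 87773 → P i := stepQ 87772 Q87772 (allL N87772 (tt N88351 (iv1 F382694)) (tt N88350 F382699) (tt N88352 (iv2 F382708)) (tt N115772 (iv3 F496789)) (tt N92081 (iv4 F395664)) (tt N88005 (iv5 F381448)) (tt N88347 (iv6 F382677)) (tt N52244 (iv7 D190650)))
theorem Q87774 : ∀ i, i < 87774 → P i := stepQ 87773 Q87773 (allL N87773 (tt N56070 F380452) (tt N56069 F380453) (tt N56071 F380449) (tt N88196 F382129) (tt N56060 F380450) (tt N52246 (iv5 D190651)) (tt N109086 (iv6 F465260)) (tt N56057 F380451))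
theorem Q87775 : ∀ i, i < 87775 → P i := stepQ 87774 Q87774 (allL N87774 (tt N86949 (iv1 F380455)) (tt N52248 (iv0 D190652)) (tt N86948 F399478) (tt N60463 F380454) (tt N115775 D219034) (tt N97557 (iv5 F417377)) (tt N103914 (iv6 F443346)) (tt N86947 (iv7 F399473)))
theorem Q87776 : ∀ i, i < 87776 → P i := stepQ 87775 Q87775 (allL N87775 (tt N52248 (iv1 D190653)) (tt N86949 F380462) (tt N86947 (iv2 F399479)) (tt N115776 D219035) (tt N111629 (iv4 F477219)) (tt N113154 (iv5 F484234)) (tt N82568 F399480) (tt N86948 F399481))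
theorem Q87777 : ∀ i, i < 87777 → P i := stepQ 87776 Q87776 (allL N87776 (tt N86948 (iv1 F380463)) (tt N86947 F380461) (tt N52248 (iv2 D190654)) (tt N86944 F380456) (tt N79307 F380457) (tt N74380 F380458) (tt N87732 F380459) (tt N86949 F380460))
theorem Q87778 : ∀ i, i < 87778 → P i := stepQ 87777 Q87777 (allL N87777 (tt N52249 (iv1 D190655)) (tt N86944 F380467) (tt N86942 (iv2 F380468)) (tt N104795 (iv3 F447310)) (tt N97762 F418204) (tt N113152 (iv5 F484219)) (tt N111672 (iv6 F477411)) (tt N86943 (iv7 F380469)))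
theorem Q87779 : ∀ i, i < 87779 → P i := stepQ 87778 Q87778 (allL N87778 (tt N86943 (iv1 F380472)) (tt N86942 F380466) (tt N52249 (iv2 D190656)) (tt N86949 F380464) (tt N100743 (iv4 F430259)) (tt N111937 (iv5 F478759)) (tt N107740 (iv6 F459495)) (tt N86944 F380465))
theorem Q87780 : ∀ i, i < 87780 → P i := stepQ 87779 Q87779 (allL N87779 (tt N52251 (iv1 D190657)) (tt N78396 F380479) (tt N78394 (iv2 F380711)) (tt N115777 D219036) (tt N96540 (iv4 F412913)) (tt N82805 (iv5 F380716)) (tt N96539 F412911) (tt N78395 F380710))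
theorem Q87781 : ∀ i, i < 87781 → P i := stepQ 87780 Q87780 (allL N87780 (tt N78395 (iv1 F380480)) (tt N78394 F380478) (tt N52251 (iv2 D190658)) (tt N60427 F380473) (tt N80563 F380474) (tt N82780 F380475) (tt N60424 F380476) (tt N78396 F380477))
theorem Q87782 : ∀ i, i < 87782 → P i := stepQ 87781 Q87781 (allL N87781 (tt N115777 F496818) (tt N115416 (iv0 F495089)) (tt N97610 (iv2 F417588)) (tt N52252 (iv3 D190660)) (tt N93249 F400116) (tt N95853 (iv5 F409954)) (tt N65962 F380484) (tt N111815 (iv7 F478123)))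
theorem Q87783 : ∀ i, i < 87783 → P i := stepQ 87782 Q87782 (allL N87782 (tt N112846 (iv1 F482936)) (tt N64082 (iv0 F380486)) (tt N107078 (iv2 F456870)) (tt N97404 (iv3 F416748)) (tt N52252 (iv4 D190661)) (tt N103141 (iv5 F440264)) (tt N78354 F380485) (tt N97399 (iv7 F416729)))
theorem Q87784 : ∀ i, i < 87784 → P i := stepQ 87783 Q87783 (allL N87783 (tt N74378 F416705) (tt N78400 F416706) (tt N102112 (iv2 F435787)) (tt N52253 (iv3 D190663)) (tt N115778 D219037) (tt N60675 F416707) (tt N55613 F416708) (tt N102148 (iv7 F435942)))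
theorem Q87785 : ∀ i, i < 87785 → P i := stepQ 87784 Q87784 (allL N87784 (tt N64082 F429991) (tt N112846 F482937) (tt N97399 (iv2 F416726)) (tt N64073 F380488) (tt N52253 (iv4 D190664)) (tt N104131 (iv5 F444340)) (tt N97396 F416701) (tt N107078 (iv7 F456873)))
theorem Q87786 : ∀ i, i < 87786 → P i := stepQ 87785 Q87785 (allL N87785 (tt N95668 F416702) (tt N101982 F435214) (tt N97397 (iv2 F416711)) (tt N55613 F416703) (tt N97396 F416704) (tt N115779 D219038) (tt N52253 (iv6 D190665)) (tt N102113 (iv7 F435794)))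
theorem Q87787 : ∀ i, i < 87787 → P i := stepQ 87786 Q87786 (allL N87786 (tt N87045 (iv1 F380495)) (tt N87044 F380494) (tt N52255 F380489) (tt N86962 F380490) (tt N67653 F380493) (tt N52254 (iv5 D190666)) (tt N60707 F380491) (tt N87046 F380492))
theorem Q87788 : ∀ i, i < 87788 → P i := stepQ 87787 Q87787 (allL N87787 (tt N87046 (iv1 F380498)) (tt N52255 (iv0 D190667)) (tt N87045 F380500) (tt N103470 (iv3 F441768)) (tt N68983 F380497) (tt N82383 F380496) (tt N115780 D219039) (tt N87044 (iv7 F380499)))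
theorem Q87789 : ∀ i, i < 87789 → P i := stepQ 87788 Q87788 (allL N87788 (tt N52255 (iv1 D190668)) (tt N87046 F380501) (tt N87044 (iv2 F380504)) (tt N74377 F397828) (tt N111825 (iv4 F478163)) (tt N82384 F380503) (tt N104305 (iv6 F445151)) (tt N87045 F380502))
theorem Q87790 : ∀ i, i < 87790 → P i := stepQ 87789 Q87789 (allL N87789 (tt N53893 (iv1 F380509)) (tt N53882 F380510) (tt N53894 F380505) (tt N63190 F380506) (tt N72593 F380507) (tt N52259 F380508) (tt N90529 F389978) (tt N52258 (iv7 D190669)))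
theorem Q87791 : ∀ i, i < 87791 → P i := stepQ 87790 Q87790 (allL N87790 (tt N86990 (iv1 F380515)) (tt N52262 (iv0 D190670)) (tt N80468 (iv2 F380512)) (tt N78889 F380511) (tt N77289 F380513) (tt N115781 D219040) (tt N115771 (iv6 F496788)) (tt N86988 F380514))
theorem Q87792 : ∀ i, i < 87792 → P i := stepQ 87791 Q87791 (allL N87791 (tt N106878 F456105) (tt N106868 (iv0 F456075)) (tt N86989 F380516) (tt N97242 (iv3 F416046)) (tt N115782 D219041) (tt N52262 (iv5 D190671)) (tt N52454 F380517) (tt N106877 (iv7 F456099)))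
theorem Q87793 : ∀ i, i < 87793 → P i := stepQ 87792 Q87792 (allL N87792 (tt N86988 (iv1 F380520)) (tt N80468 F380521) (tt N86990 F380518) (tt N115766 (iv3 F496752)) (tt N104325 (iv4 F445255)) (tt N106877 (iv5 F456100)) (tt N84238 F380519) (tt N52262 (iv7 D190672)))
theorem Q87794 : ∀ i, i < 87794 → P i := stepQ 87793 Q87793 (allL N87793 (tt N58236 F380526) (tt N58232 F380525) (tt N87063 F380522) (tt N52265 F380523) (tt N80581 F380527) (tt N52264 (iv5 D190673)) (tt N79317 (iv6 F380528)) (tt N87000 F380524))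
theorem Q87795 : ∀ i, i < 87795 → P i := stepQ 87794 Q87794 (allL N87794 (tt N114011 (iv1 F488188)) (tt N114010 F488184) (tt N87064 F380529) (tt N52266 F380530) (tt N91022 (iv4 F391616)) (tt N87215 F380532) (tt N52264 (iv6 D190674)) (tt N84204 F380531))
theorem Q87796 : ∀ i, i < 87796 → P i := stepQ 87795 Q87795 (allL N87795 (tt N58496 (iv1 F380537)) (tt N58502 F380536) (tt N52267 (iv2 D190675)) (tt N84206 F380533) (tt N88173 (iv4 F382015)) (tt N59843 F380534) (tt N84205 F380538) (tt N86996 F380535))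
theorem Q87797 : ∀ i, i < 87797 → P i := stepQ 87796 Q87796 (allL N87796 (tt N75900 F380542) (tt N111858 (iv0 F478342)) (tt N84205 F380539) (tt N52269 F380540) (tt N64229 F380541) (tt N90979 (iv5 F391450)) (tt N52267 (iv6 D190676)) (tt N110906 (iv7 F473722)))
theorem Q87798 : ∀ i, i < 87798 → P i := stepQ 87797 Q87797 (allL N87797 (tt N87196 F380544) (tt N87193 F380545) (tt N54476 F380543) (tt N90979 (iv3 F391449)) (tt N57089 (iv4 F380546)) (tt N52269 (iv5 D190677)) (tt N112502 (iv6 F481388)) (tt N90957 (iv7 F391368)))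
theorem Q87799 : ∀ i, i < 87799 → P i := stepQ 87798 Q87798 (allL N87798 (tt N87067 F380549) (tt N87059 F380550) (tt N87065 F380551) (tt N52270 (iv3 D190678)) (tt N94821 (iv4 F406063)) (tt N66652 F380547) (tt N111690 (iv6 F477503)) (tt N87002 F380548))
theorem Q87800 : ∀ i, i < 87800 → P i := stepQ 87799 Q87799 (allL N87799 (tt N52272 (iv1 D190679)) (tt N55512 F380553) (tt N83520 (iv2 F380556)) (tt N91804 F394492) (tt N115783 D219042) (tt N84185 F380555) (tt N106716 F455382) (tt N87016 F380554))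
theorem Q87801 : ∀ i, i < 87801 → P i := stepQ 87800 Q87800 (allL N87800 (tt N64355 F380559) (tt N81952 F394595) (tt N81950 (iv2 F380560)) (tt N115784 D219043) (tt N52272 (iv4 D190680)) (tt N112636 (iv5 F481938)) (tt N80556 (iv6 F380567)) (tt N81951 F380558))
theorem Q87802 : ∀ i, i < 87802 → P i := stepQ 87801 Q87801 (allL N87801 (tt N55467 F380565) (tt N81026 (iv0 F380564)) (tt N87068 F380562) (tt N52275 F380563) (tt N80556 F380566) (tt N88007 (iv5 F381456)) (tt N52272 (iv6 D190681)) (tt N91979 (iv7 F395211)))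
theorem Q87803 : ∀ i, i < 87803 → P i := stepQ 87802 Q87802 (allL N87802 (tt N111837 F478230) (tt N109333 (iv0 F466425)) (tt N98292 (iv2 F420360)) (tt N52274 (iv3 D190682)) (tt N115784 (iv4 F496854)) (tt N66994 F380568) (tt N77026 F380569) (tt N87018 F380570))
theorem Q87804 : ∀ i, i < 87804 → P i := stepQ 87803 Q87803 (allL N87803 (tt N53316 F380575) (tt N53346 (iv0 F380576)) (tt N53345 F380571) (tt N53465 F380572) (tt N52276 (iv4 D190683)) (tt N115785 D219044) (tt N54633 F380573) (tt N53278 F380574))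
theorem Q87805 : ∀ i, i < 87805 → P i := stepQ 87804 Q87804 (allL N87804 (tt N87009 (iv1 F380582)) (tt N87008 F380580) (tt N52278 F380577) (tt N55512 F380578) (tt N91974 (iv4 F395198)) (tt N52277 (iv5 D190684)) (tt N95551 F408622) (tt N87006 F380579))
theorem Q87806 : ∀ i, i < 87806 → P i := stepQ 87805 Q87805 (allL N87805 (tt N87006 (iv1 F380584)) (tt N52278 (iv0 D190685)) (tt N87009 F380586) (tt N82369 F380583) (tt N111991 (iv4 F478990)) (tt N110539 (iv5 F472053)) (tt N115786 D219045) (tt N87008 (iv7 F380585)))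
theorem Q87807 : ∀ i, i < 87807 → P i := stepQ 87806 Q87806 (allL N87806 (tt N52278 (iv1 D190686)) (tt N87006 F380588) (tt N87008 (iv2 F380590)) (tt N59920 (iv3 F380591)) (tt N95128 (iv4 F407148)) (tt N87933 F381215) (tt N59919 F380592) (tt N87009 F380589))
theorem Q87808 : ∀ i, i < 87808 → P i := stepQ 87807 Q87807 (allL N87807 (tt N91972 (iv1 F395191)) (tt N55465 F380595) (tt N91974 F395199) (tt N81281 F380593) (tt N52278 (iv4 D190687)) (tt N81280 (iv5 F380596)) (tt N101946 F435061) (tt N87010 F380594))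
theorem Q87809 : ∀ i, i < 87809 → P i := stepQ 87808 Q87808 (allL N87808 (tt N95549 F408618) (tt N59845 (iv0 F380598)) (tt N95551 (iv2 F408623)) (tt N52280 F380597) (tt N101946 (iv4 F435056)) (tt N88344 (iv5 F382667)) (tt N52278 (iv6 D190688)) (tt N95550 F408620))
theorem Q87810 : ∀ i, i < 87810 → P i := stepQ 87809 Q87809 (allL N87809 (tt N65872 F380604) (tt N68581 (iv0 F380605)) (tt N75217 F380599) (tt N78701 F380600) (tt N52280 F380601) (tt N69261 F380602) (tt N52279 (iv6 D190689)) (tt N75218 F380603))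
theorem Q87811 : ∀ i, i < 87811 → P i := stepQ 87810 Q87810 (allL N87810 (tt N87021 (iv1 F380611)) (tt N52280 (iv0 D190690)) (tt N87019 (iv2 F380607)) (tt N59910 (iv3 F380609)) (tt N69310 F380606) (tt N68805 (iv5 F380612)) (tt N59909 (iv6 F380610)) (tt N87020 F380608))
theorem Q87812 : ∀ i, i < 87812 → P i := stepQ 87811 Q87811 (allL N87811 (tt N87020 (iv1 F380617)) (tt N87019 F380618) (tt N87021 F380614) (tt N95550 (iv3 F408619)) (tt N75218 F380615) (tt N88347 (iv5 F382676)) (tt N87015 F380616) (tt N52280 (iv7 D190691)))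
theorem Q87813 : ∀ i, i < 87813 → P i := stepQ 87812 Q87812 (allL N87812 (tt N88187 F382087) (tt N115787 D219046) (tt N87070 F380619) (tt N52283 F380620) (tt N86121 F380621) (tt N91417 (iv5 F393049)) (tt N52281 (iv6 D190692)) (tt N115788 D219047))
theorem Q87814 : ∀ i, i < 87814 → P i := stepQ 87813 Q87813 (allL N87813 (tt N80183 F380625) (tt N80179 F380626) (tt N80170 F380623) (tt N52282 (iv3 D190693)) (tt N112633 (iv4 F481920)) (tt N112377 (iv5 F480806)) (tt N97084 (iv6 F415406)) (tt N80178 F380624))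
theorem Q87815 : ∀ i, i < 87815 → P i := stepQ 87814 Q87814 (allL N87814 (tt N79644 (iv1 F380631)) (tt N52283 (iv0 D190694)) (tt N58442 (iv2 F380628)) (tt N65630 F380629) (tt N79661 F380627) (tt N103959 (iv5 F443526)) (tt N103073 (iv6 F439956)) (tt N87024 F380630))
theorem Q87816 : ∀ i, i < 87816 → P i := stepQ 87815 Q87815 (allL N87815 (tt N87024 (iv1 F380635)) (tt N58442 F380636) (tt N79644 F380632) (tt N115788 (iv3 F496881)) (tt N58798 F380633) (tt N90680 (iv5 F390499)) (tt N64123 F380634) (tt N52283 (iv7 D190695)))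
theorem Q87817 : ∀ i, i < 87817 → P i := stepQ 87816 Q87816 (allL N87816 (tt N58497 (iv1 F380641)) (tt N87005 F380640) (tt N52284 (iv2 D190696)) (tt N55514 F380637) (tt N91509 (iv4 F393424)) (tt N87225 F380638) (tt N115789 D219048) (tt N87022 F380639))
theorem Q87818 : ∀ i, i < 87818 → P i := stepQ 87817 Q87817 (allL N87817 (tt N91502 (iv1 F393404)) (tt N55445 F380644) (tt N91509 F393425) (tt N79823 F380642) (tt N52284 (iv4 D190697)) (tt N107808 (iv5 F459790)) (tt N79821 (iv6 F380645)) (tt N87023 F380643))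
theorem Q87819 : ∀ i, i < 87819 → P i := stepQ 87818 Q87818 (allL N87818 (tt N115790 D219049) (tt N58454 (iv0 F380650)) (tt N115789 (iv2 F496886)) (tt N52286 F380646) (tt N79821 F380647) (tt N87229 F380648) (tt N52284 (iv6 D190698)) (tt N79642 F380649))
theorem Q87820 : ∀ i, i < 87820 → P i := stepQ 87819 Q87819 (allL N87819 (tt N55549 (iv1 F380656)) (tt N52288 (iv0 D190699)) (tt N55547 (iv2 F380654)) (tt N96789 (iv3 F413952)) (tt N69300 F380652) (tt N68807 F380651) (tt N58370 F380653) (tt N55548 F380655))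
theorem Q87821 : ∀ i, i < 87821 → P i := stepQ 87820 Q87820 (allL N87820 (tt N55548 (iv1 F380662)) (tt N55547 F380663) (tt N55549 F380657) (tt N82113 F380658) (tt N81302 F380659) (tt N84670 F380660) (tt N87030 F380661) (tt N52288 (iv7 D190700)))
theorem Q87822 : ∀ i, i < 87822 → P i := stepQ 87821 Q87821 (allL N87821 (tt N85832 (iv1 F380665)) (tt N52289 (iv0 D190701)) (tt N87032 F380667) (tt N61547 F380664) (tt N91914 (iv4 F394942)) (tt N61546 (iv5 F380669)) (tt N52304 (iv6 F380666)) (tt N83072 F380668))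
theorem Q87823 : ∀ i, i < 87823 → P i := stepQ 87822 Q87822 (allL N87822 (tt N52289 (iv1 D190702)) (tt N85832 F380670) (tt N83072 (iv2 F380677)) (tt N53788 (iv3 F380673)) (tt N79008 (iv4 F380674)) (tt N76949 F380672) (tt N53679 F380675) (tt N87032 F380671))
theorem Q87824 : ∀ i, i < 87824 → P i := stepQ 87823 Q87823 (allL N87823 (tt N107601 (iv1 F458896)) (tt N100583 (iv0 F429558)) (tt N91530 (iv2 F393508)) (tt N75780 F380678) (tt N52292 (iv4 D190703)) (tt N78156 F380680) (tt N75779 F380679) (tt N109625 (iv7 F467804)))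
theorem Q87825 : ∀ i, i < 87825 → P i := stepQ 87824 Q87824 (allL N87824 (tt N100148 F427704) (tt N80871 (iv0 F380684)) (tt N80163 F380681) (tt N74396 F380682) (tt N52294 F380683) (tt N100145 (iv5 F427684)) (tt N52293 (iv6 D190704)) (tt N104789 (iv7 F447288)))
theorem Q87826 : ∀ i, i < 87826 → P i := stepQ 87825 Q87825 (allL N87825 (tt N62876 (iv1 F380690)) (tt N52294 (iv0 D190705)) (tt N80908 (iv2 F380689)) (tt N69913 F380687) (tt N77339 F380686) (tt N67408 F380685) (tt N76957 F380692) (tt N81514 F380691))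
theorem Q87827 : ∀ i, i < 87827 → P i := stepQ 87826 Q87826 (allL N87826 (tt N80418 (iv1 F380695)) (tt N52295 (iv0 D190706)) (tt N80417 (iv2 F380694)) (tt N60710 F380693) (tt N96457 (iv4 F412597)) (tt N92017 (iv5 F395377)) (tt N83568 F380696) (tt N80416 F380697))
theorem Q87828 : ∀ i, i < 87828 → P i := stepQ 87827 Q87827 (allL N87827 (tt N80417 (iv1 F380704)) (tt N80416 F380703) (tt N52295 (iv2 D190707)) (tt N55593 F380699) (tt N80560 F380700) (tt N82806 F380701) (tt N93623 (iv6 F401313)) (tt N80418 F380702))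
theorem Q87829 : ∀ i, i < 87829 → P i := stepQ 87828 Q87828 (allL N87828 (tt N60701 (iv1 F380723)) (tt N86941 (iv0 F380722)) (tt N93623 (iv2 F401311)) (tt N52296 F380719) (tt N73091 F380720) (tt N72068 F380721) (tt N52295 (iv6 D190708)) (tt N65899 (iv7 F380726)))
theorem Q87830 : ∀ i, i < 87830 → P i := stepQ 87829 Q87829 (allL N87829 (tt N66048 F380731) (tt N66050 F380732) (tt N55596 F380727) (tt N72068 F380728) (tt N65998 F380733) (tt N52296 (iv5 D190709)) (tt N82810 F380729) (tt N65900 F380730))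
theorem Q87831 : ∀ i, i < 87831 → P i := stepQ 87830 Q87830 (allL N87830 (tt N112873 (iv1 F483082)) (tt N82772 (iv0 F380742)) (tt N91209 (iv2 F392268)) (tt N52298 (iv3 D190710)) (tt N55154 F380739) (tt N88780 (iv5 F384111)) (tt N53316 F380740) (tt N82750 F380741))
theorem Q87832 : ∀ i, i < 87832 → P i := stepQ 87831 Q87831 (allL N87831 (tt N105414 (iv1 F450151)) (tt N113866 F487536) (tt N88801 (iv2 F384194)) (tt N78404 F380743) (tt N52299 (iv4 D190711)) (tt N115791 D219050) (tt N84092 (iv6 F380745)) (tt N73828 F380744))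
theorem Q87833 : ∀ i, i < 87833 → P i := stepQ 87832 Q87832 (allL N87832 (tt N107055 (iv1 F456794)) (tt N107054 (iv0 F456792)) (tt N88802 (iv2 F384198)) (tt N52300 F380746) (tt N84092 F380747) (tt N113495 (iv5 F485765)) (tt N52299 (iv6 D190712)) (tt N90417 (iv7 F389571)))
theorem Q87834 : ∀ i, i < 87834 → P i := stepQ 87833 Q87833 (allL N87833 (tt N83009 F380753) (tt N52303 (iv0 D190713)) (tt N83008 F380751) (tt N71014 (iv3 F380749)) (tt N82782 (iv4 F380752)) (tt N110301 (iv5 F470926)) (tt N72073 F380748) (tt N71011 (iv7 F380750)))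
theorem Q87835 : ∀ i, i < 87835 → P i := stepQ 87834 Q87834 (allL N87834 (tt N52303 (iv1 D190714)) (tt N83009 F380754) (tt N71011 (iv2 F380756)) (tt N72080 F380757) (tt N82783 (iv4 F416725)) (tt N110302 (iv5 F470931)) (tt N71009 F380758) (tt N83008 F380755))
theorem Q87836 : ∀ i, i < 87836 → P i := stepQ 87835 Q87835 (allL N87835 (tt N71011 (iv1 F380762)) (tt N83008 F380763) (tt N83009 F380759) (tt N92137 (iv3 F395914)) (tt N92738 (iv4 F398039)) (tt N83195 F380760) (tt N83002 F380761) (tt N52303 (iv7 D190715)))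
theorem Q87837 : ∀ i, i < 87837 → P i := stepQ 87836 Q87836 (allL N87836 (tt N53907 F380768) (tt N82817 (iv0 F380769)) (tt N83587 F380764) (tt N55001 F380765) (tt N52304 (iv4 D190716)) (tt N87513 F380767) (tt N91914 (iv6 F394943)) (tt N81548 F380766))
theorem Q87838 : ∀ i, i < 87838 → P i := stepQ 87837 Q87837 (allL N87837 (tt N83003 (iv1 F380772)) (tt N52307 (iv0 D190717)) (tt N82988 (iv2 F380771)) (tt N72044 (iv3 F380774)) (tt N102427 (iv4 F437198)) (tt N82602 F380770) (tt N102426 F437196) (tt N82822 F380773))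
theorem Q87839 : ∀ i, i < 87839 → P i := stepQ 87838 Q87838 (allL N87838 (tt N83002 (iv1 F380784)) (tt N52308 (iv0 D190718)) (tt N72100 (iv2 F380781)) (tt N113809 (iv3 F487214)) (tt N78407 (iv4 F395409)) (tt N110168 (iv5 F470266)) (tt N72097 F380788) (tt N83001 (iv7 F380782)))
theorem Q87840 : ∀ i, i < 87840 → P i := stepQ 87839 Q87839 (allL N87839 (tt N52308 (iv1 D190719)) (tt N83002 F380775) (tt N83001 F380777) (tt N67970 F380778) (tt N67984 F380779) (tt N113974 (iv5 F488032)) (tt N67968 (iv6 F380776)) (tt N72100 F380780))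
theorem Q87841 : ∀ i, i < 87841 → P i := stepQ 87840 Q87840 (allL N87840 (tt N83001 (iv1 F380795)) (tt N72100 F380796) (tt N83002 F380792) (tt N55400 F380793) (tt N102049 (iv4 F435507)) (tt N110163 (iv5 F470239)) (tt N83009 F380794) (tt N52308 (iv7 D190720)))
theorem Q87842 : ∀ i, i < 87842 → P i := stepQ 87841 Q87841 (allL N87841 (tt N52309 (iv1 D190721)) (tt N53012 F380797) (tt N53598 F380802) (tt N87036 (iv3 F380800)) (tt N54866 (iv4 F380799)) (tt N83997 F380803) (tt N53787 (iv6 F380801)) (tt N53597 F380798))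
theorem Q87843 : ∀ i, i < 87843 → P i := stepQ 87842 Q87842 (allL N87842 (tt N113806 (iv1 F487194)) (tt N109156 (iv0 F465617)) (tt N53020 F380804) (tt N68923 F380807) (tt N52311 (iv4 D190722)) (tt N69021 (iv5 F384121)) (tt N109147 (iv6 F465567)) (tt N82965 F380805))
theorem Q87844 : ∀ i, i < 87844 → P i := stepQ 87843 Q87843 (allL N87843 (tt N72086 (iv1 F384075)) (tt N72080 (iv0 F380810)) (tt N53021 F380808) (tt N113818 (iv3 F487267)) (tt N109147 F465569) (tt N83175 F380809) (tt N52311 (iv6 D190723)) (tt N72084 (iv7 F380811)))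
theorem Q87845 : ∀ i, i < 87845 → P i := stepQ 87844 Q87844 (allL N87844 (tt N95809 (iv1 F409759)) (tt N103562 F442052) (tt N52313 F380812) (tt N103595 (iv3 F442180)) (tt N52312 (iv4 D190724)) (tt N102616 (iv5 F437908)) (tt N68994 F380813) (tt N71953 F380814))
theorem Q87846 : ∀ i, i < 87846 → P i := stepQ 87845 Q87845 (allL N87845 (tt N71953 (iv1 F380816)) (tt N52313 (iv0 D190725)) (tt N95809 (iv2 F409760)) (tt N103559 (iv3 F442037)) (tt N105117 (iv4 F448876)) (tt N109157 (iv5 F465620)) (tt N115792 D219051) (tt N103562 (iv7 F442050)))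
theorem Q87847 : ∀ i, i < 87847 → P i := stepQ 87846 Q87846 (allL N87846 (tt N115793 D219052) (tt N115794 D219053) (tt N115795 D219054) (tt N52313 (iv3 D190726)) (tt N52315 F380817) (tt N104748 (iv5 F447093)) (tt N97754 F418178) (tt N86964 F380818))
theorem Q87848 : ∀ i, i < 87848 → P i := stepQ 87847 Q87847 (allL N87847 (tt N102615 (iv1 F437901)) (tt N102614 F437899) (tt N102616 (iv2 F437906)) (tt N104748 (iv3 F447094)) (tt N70694 (iv4 F380820)) (tt N52313 (iv5 D190727)) (tt N97809 F418385) (tt N66133 F380819))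
theorem Q87849 : ∀ i, i < 87849 → P i := stepQ 87848 Q87848 (allL N87848 (tt N70985 (iv1 F380825)) (tt N52314 (iv0 D190728)) (tt N88662 (iv2 F383769)) (tt N115796 D219055) (tt N67779 F380822) (tt N78680 F380821) (tt N88658 (iv6 F383761)) (tt N103526 (iv7 F441950)))
theorem Q87850 : ∀ i, i < 87850 → P i := stepQ 87849 Q87849 (allL N87849 (tt N52314 (iv1 D190729)) (tt N70985 F380833) (tt N103526 (iv2 F441948)) (tt N68598 (iv3 F380836)) (tt N67780 F380834) (tt N78678 (iv5 F380835)) (tt N115797 D219056) (tt N88662 F383776))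
theorem Q87851 : ∀ i, i < 87851 → P i := stepQ 87850 Q87850 (allL N87850 (tt N86962 (iv1 F380840)) (tt N52315 (iv0 D190730)) (tt N86963 (iv2 F380841)) (tt N55694 F380837) (tt N67559 F380838) (tt N55693 F380839) (tt N92928 (iv6 F398796)) (tt N67281 (iv7 F380842)))
theorem Q87852 : ∀ i, i < 87852 → P i := stepQ 87851 Q87851 (allL N87851 (tt N52315 (iv1 D190731)) (tt N86962 F380846) (tt N67281 F380845) (tt N115798 D219057) (tt N115799 D219058) (tt N82380 (iv5 F380844)) (tt N104369 (iv6 F445455)) (tt N86963 F380843))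
theorem Q87853 : ∀ i, i < 87853 → P i := stepQ 87852 Q87852 (allL N87852 (tt N86963 (iv1 F380852)) (tt N67281 F380851) (tt N52315 (iv2 D190732)) (tt N87046 F380847) (tt N115795 (iv4 F496927)) (tt N78399 F380848) (tt N66020 F380849) (tt N86962 F380850))
theorem Q87854 : ∀ i, i < 87854 → P i := stepQ 87853 Q87853 (allL N87853 (tt N105168 (iv1 F449083)) (tt N105171 (iv0 F449100)) (tt N79574 F380853) (tt N60693 F380854) (tt N79720 F380856) (tt N52316 (iv5 D190733)) (tt N74650 F380855) (tt N79724 (iv7 F380857)))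
theorem Q87855 : ∀ i, i < 87855 → P i := stepQ 87854 Q87854 (allL N87854 (tt N87047 (iv1 F380863)) (tt N67264 F380864) (tt N71916 F380858) (tt N66019 F380859) (tt N52319 F380860) (tt N79724 F380861) (tt N71902 F380862) (tt N52316 (iv7 D190734)))
theorem Q87856 : ∀ i, i < 87856 → P i := stepQ 87855 Q87855 (allL N87855 (tt N73864 F380868) (tt N58940 (iv0 F380870)) (tt N95902 (iv2 F410167)) (tt N52317 (iv3 D190735)) (tt N70622 F380869) (tt N65198 F380865) (tt N65199 F380866) (tt N87048 F380867))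
theorem Q87857 : ∀ i, i < 87857 → P i := stepQ 87856 Q87856 (allL N87856 (tt N104068 (iv1 F444020)) (tt N97934 F418857) (tt N115800 D219059) (tt N52318 (iv3 D190736)) (tt N97912 (iv4 F418766)) (tt N77209 F380872) (tt N115801 D219060) (tt N77208 F380873))
theorem Q87858 : ∀ i, i < 87858 → P i := stepQ 87857 Q87857 (allL N87857 (tt N113144 (iv1 F484174)) (tt N108035 (iv0 F460824)) (tt N87049 F380874) (tt N115801 (iv3 F496963)) (tt N102239 F436314) (tt N113292 (iv5 F484881)) (tt N52318 (iv6 D190737)) (tt N77238 F380875))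
theorem Q87859 : ∀ i, i < 87859 → P i := stepQ 87858 Q87858 (allL N87858 (tt N115802 D219061) (tt N114184 F488888) (tt N84032 F380876) (tt N52323 F380877) (tt N115595 (iv4 F495917)) (tt N52321 (iv5 D190738)) (tt N109545 (iv6 F467452)) (tt N114163 (iv7 F488807)))
theorem Q87860 : ∀ i, i < 87860 → P i := stepQ 87859 Q87859 (allL N87859 (tt N111310 (iv1 F488814)) (tt N87952 (iv0 F482762)) (tt N87083 F380878) (tt N87927 (iv3 F381169)) (tt N115640 (iv4 F496095)) (tt N52322 (iv5 D190739)) (tt N75943 F380879) (tt N114164 (iv7 F488812)))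
theorem Q87861 : ∀ i, i < 87861 → P i := stepQ 87860 Q87860 (allL N87860 (tt N115803 D219062) (tt N115510 (iv0 F495559)) (tt N87086 F380880) (tt N115804 D219063) (tt N52323 (iv4 D190740)) (tt N115805 D219064) (tt N109547 (iv6 F467457)) (tt N114165 (iv7 F488816)))
theorem Q87862 : ∀ i, i < 87862 → P i := stepQ 87861 Q87861 (allL N87861 (tt N87476 F380884) (tt N81634 (iv0 F380885)) (tt N87091 F380881) (tt N81649 F380882) (tt N95886 (iv4 F410093)) (tt N52324 (iv5 D190741)) (tt N90743 (iv6 F390709)) (tt N87093 F380883))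
theorem Q87863 : ∀ i, i < 87863 → P i := stepQ 87862 Q87862 (allL N87862 (tt N77288 (iv1 F445260)) (tt N111799 F478030) (tt N69943 (iv2 F383866)) (tt N52325 (iv3 D190742)) (tt N69939 F383865) (tt N115806 D219065) (tt N102973 (iv6 F439515)) (tt N87089 F380886))
theorem Q87864 : ∀ i, i < 87864 → P i := stepQ 87863 Q87863 (allL N87863 (tt N81634 F380889) (tt N87476 F380890) (tt N87093 F380887) (tt N115806 (iv3 F496987)) (tt N115362 (iv4 F494803)) (tt N52325 (iv5 D190743)) (tt N113565 F486057) (tt N87091 F380888))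
theorem Q87865 : ∀ i, i < 87865 → P i := stepQ 87864 Q87864 (allL N87864 (tt N87098 (iv1 F380899)) (tt N52326 (iv0 D190744)) (tt N87095 (iv2 F393210)) (tt N114548 (iv3 F490717)) (tt N82177 (iv4 F395061)) (tt N107596 (iv5 F458877)) (tt N82176 F395060) (tt N87096 (iv7 F393211)))
theorem Q87866 : ∀ i, i < 87866 → P i := stepQ 87865 Q87865 (allL N87865 (tt N52326 (iv1 D190745)) (tt N87098 F380891) (tt N87096 F393208) (tt N113713 (iv3 F486785)) (tt N115361 (iv4 F494796)) (tt N91455 (iv5 F393205)) (tt N115807 D219066) (tt N87095 F393209))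
theorem Q87867 : ∀ i, i < 87867 → P i := stepQ 87866 Q87866 (allL N87866 (tt N107232 F457572) (tt N97263 (iv0 F416129)) (tt N87097 F380892) (tt N87602 F380893) (tt N52326 (iv4 D190746)) (tt N87601 F380895) (tt N52337 F380894) (tt N114247 (iv7 F489201)))
theorem Q87868 : ∀ i, i < 87868 → P i := stepQ 87867 Q87867 (allL N87867 (tt N87096 (iv1 F380900)) (tt N87095 (iv0 F380901)) (tt N87098 F380896) (tt N52348 F380897) (tt N114247 (iv4 F489200)) (tt N52327 F380898) (tt N111723 F477672) (tt N52326 (iv7 D190747)))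
theorem Q87869 : ∀ i, i < 87869 → P i := stepQ 87868 Q87868 (allL N87868 (tt N113627 (iv1 F486369)) (tt N88338 (iv0 F382645)) (tt N87102 F380902) (tt N87930 (iv3 F381194)) (tt N88312 (iv4 F382548)) (tt N52328 (iv5 D190748)) (tt N67157 F380907) (tt N87106 F380903))
theorem Q87870 : ∀ i, i < 87870 → P i := stepQ 87869 Q87869 (allL N87869 (tt N87947 F381266) (tt N88342 (iv0 F382660)) (tt N87103 F380904) (tt N87931 (iv3 F381200)) (tt N52330 F380905) (tt N74088 F380906) (tt N52328 (iv6 D190749)) (tt N114178 (iv7 F488858)))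
theorem Q87871 : ∀ i, i < 87871 → P i := stepQ 87870 Q87870 (allL N87870 (tt N112697 (iv1 F482223)) (tt N115392 (iv0 F494964)) (tt N87104 F380908) (tt N87633 (iv3 F380910)) (tt N52329 (iv4 D190750)) (tt N115808 D219067) (tt N115809 D219068) (tt N81639 F380909))
theorem Q87872 : ∀ i, i < 87872 → P i := stepQ 87871 Q87871 (allL N87871 (tt N87522 F419727) (tt N114244 (iv0 F489184)) (tt N87105 F380911) (tt N74138 F380912) (tt N115809 (iv4 F497005)) (tt N74137 F380913) (tt N52329 (iv6 D190751)) (tt N78675 F380914))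
theorem Q87873 : ∀ i, i < 87873 → P i := stepQ 87872 Q87872 (allL N87872 (tt N87513 F380918) (tt N111740 (iv0 F477751)) (tt N80662 F380915) (tt N52333 F380916) (tt N115299 (iv4 F494459)) (tt N52331 (iv5 D190752)) (tt N80658 (iv6 F380919)) (tt N87100 F380917))
theorem Q87874 : ∀ i, i < 87874 → P i := stepQ 87873 Q87873 (allL N87873 (tt N113150 (iv1 F484210)) (tt N87409 (iv0 F380926)) (tt N80653 F380921) (tt N52334 F380922) (tt N80685 F380923) (tt N80652 F380924) (tt N52331 (iv6 D190753)) (tt N84193 (iv7 F380925)))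
theorem Q87875 : ∀ i, i < 87875 → P i := stepQ 87874 Q87874 (allL N87874 (tt N88338 (iv1 F382646)) (tt N113627 (iv0 F486368)) (tt N87106 F380927) (tt N88329 (iv3 F382607)) (tt N88313 F382553) (tt N52332 (iv5 D190754)) (tt N82473 F380933) (tt N87102 F380928))
theorem Q87876 : ∀ i, i < 87876 → P i := stepQ 87875 Q87875 (allL N87875 (tt N114151 F488764) (tt N111308 F475747) (tt N81555 F380929) (tt N59823 F380930) (tt N52334 F380931) (tt N82370 (iv5 F380932)) (tt N52332 (iv6 D190755)) (tt N112070 (iv7 F479348)))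
theorem Q87877 : ∀ i, i < 87877 → P i := stepQ 87876 Q87876 (allL N87876 (tt N115392 (iv1 F494965)) (tt N112697 (iv0 F482222)) (tt N81639 F380934) (tt N115810 D219069) (tt N52333 (iv4 D190756)) (tt N115811 D219070) (tt N81629 F380935) (tt N87104 F380936))
theorem Q87878 : ∀ i, i < 87878 → P i := stepQ 87877 Q87877 (allL N87877 (tt N111729 F477706) (tt N87395 (iv0 F380940)) (tt N85455 (iv2 F380939)) (tt N52335 (iv3 D190757)) (tt N92958 (iv4 F398920)) (tt N84662 F380937) (tt N115812 D219071) (tt N85458 F380938))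
theorem Q87879 : ∀ i, i < 87879 → P i := stepQ 87878 Q87878 (allL N87878 (tt N115813 D219072) (tt N115492 (iv0 F495477)) (tt N87108 F380941) (tt N115489 (iv3 F495458)) (tt N52335 (iv4 D190758)) (tt N115814 D219073) (tt N115488 F495456) (tt N87110 F380942))
theorem Q87880 : ∀ i, i < 87880 → P i := stepQ 87879 Q87879 (allL N87879 (tt N87554 F462794) (tt N113567 F486067) (tt N87109 F380943) (tt N115812 (iv3 F497021)) (tt N115488 (iv4 F495454)) (tt N114168 (iv5 F488828)) (tt N52335 (iv6 D190759)) (tt N115745 (iv7 F496633)))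
theorem Q87881 : ∀ i, i < 87881 → P i := stepQ 87880 Q87880 (allL N87880 (tt N87348 (iv1 F380948)) (tt N86604 (iv0 F380947)) (tt N89937 (iv2 F388054)) (tt N52336 (iv3 D190760)) (tt N86717 (iv4 F380946)) (tt N84664 F380944) (tt N97303 F416297) (tt N87107 F380945))
theorem Q87882 : ∀ i, i < 87882 → P i := stepQ 87881 Q87881 (allL N87881 (tt N115492 (iv1 F495478)) (tt N115813 F497031) (tt N87110 F380950) (tt N115815 D219074) (tt N52336 (iv4 D190761)) (tt N115816 D219075) (tt N112730 F482404) (tt N87108 F380951))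
theorem Q87883 : ∀ i, i < 87883 → P i := stepQ 87882 Q87882 (allL N87882 (tt N81626 F380953) (tt N87572 (iv0 F392431)) (tt N87111 F380952) (tt N97303 (iv3 F416292)) (tt N112730 (iv4 F482401)) (tt N91257 (iv5 F392430)) (tt N52336 (iv6 D190762)) (tt N97294 (iv7 F416257)))
theorem Q87884 : ∀ i, i < 87884 → P i := stepQ 87883 Q87883 (allL N87883 (tt N87115 (iv1 F380954)) (tt N52337 (iv0 D190763)) (tt N81643 (iv2 F380958)) (tt N108644 (iv3 F463339)) (tt N114231 (iv4 F489117)) (tt N115817 D219076) (tt N81641 F380959) (tt N87112 (iv7 F445706)))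
theorem Q87885 : ∀ i, i < 87885 → P i := stepQ 87884 Q87884 (allL N87884 (tt N52337 (iv1 D190764)) (tt N87115 F380955) (tt N87112 F445707) (tt N81647 (iv3 F380956)) (tt N114232 (iv4 F489125)) (tt N115630 (iv5 F496052)) (tt N113687 (iv6 F486636)) (tt N81643 F380957))
theorem Q87886 : ∀ i, i < 87886 → P i := stepQ 87885 Q87885 (allL N87885 (tt N115818 D219077) (tt N115819 D219078) (tt N87114 F380960) (tt N111635 F477242) (tt N95438 F414787) (tt N52337 (iv5 D190765)) (tt N95437 (iv6 F414788)) (tt N114812 (iv7 F492004)))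
theorem Q87887 : ∀ i, i < 87887 → P i := stepQ 87886 Q87886 (allL N87886 (tt N63805 F380966) (tt N61346 (iv0 F380967)) (tt N63803 F380961) (tt N52339 (iv3 D190766)) (tt N63406 F380962) (tt N74685 F380963) (tt N74687 F380964) (tt N52605 F380965))
theorem Q87888 : ∀ i, i < 87888 → P i := stepQ 87887 Q87887 (allL N87887 (tt N52340 (iv1 D190767)) (tt N52344 F380968) (tt N52595 (iv2 F380971)) (tt N81634 (iv3 F380972)) (tt N114818 (iv4 F492038)) (tt N62734 F380970) (tt N52653 (iv6 F380973)) (tt N52594 F380969))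
theorem Q87889 : ∀ i, i < 87889 → P i := stepQ 87888 Q87888 (allL N87888 (tt N52342 (iv1 D190768)) (tt N52588 F380974) (tt N52587 (iv2 F380977)) (tt N84241 (iv3 F380976)) (tt N104235 (iv4 F444852)) (tt N97239 (iv5 F416027)) (tt N87124 (iv6 F380978)) (tt N52491 F380975))
theorem Q87890 : ∀ i, i < 87890 → P i := stepQ 87889 Q87889 (allL N87889 (tt N113686 (iv1 F486631)) (tt N113687 F486637) (tt N112727 (iv2 F482381)) (tt N52344 F380979) (tt N81626 (iv4 F382168)) (tt N52342 (iv5 D190769)) (tt N81625 (iv6 F382170)) (tt N52589 F380980))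
theorem Q87891 : ∀ i, i < 87891 → P i := stepQ 87890 Q87890 (allL N87890 (tt N98475 F421046) (tt N115820 D219079) (tt N112728 (iv2 F482388)) (tt N52345 F380982) (tt N69130 F380983) (tt N115659 (iv5 F496184)) (tt N52342 (iv6 D190770)) (tt N115821 D219080))
theorem Q87892 : ∀ i, i < 87892 → P i := stepQ 87891 Q87891 (allL N87891 (tt N75172 F380987) (tt N73981 (iv0 F380988)) (tt N75171 (iv2 F380989)) (tt N52343 (iv3 D190771)) (tt N101702 (iv4 F433953)) (tt N80440 F380984) (tt N69412 F380985) (tt N52592 F380986))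
theorem Q87893 : ∀ i, i < 87893 → P i := stepQ 87892 Q87892 (allL N87892 (tt N93001 (iv1 F399081)) (tt N68710 (iv0 F380994)) (tt N52608 F380990) (tt N103271 (iv3 F440908)) (tt N52344 (iv4 D190772)) (tt N56685 F380993) (tt N83608 F380991) (tt N52596 F380992))
theorem Q87894 : ∀ i, i < 87894 → P i := stepQ 87893 Q87893 (allL N87893 (tt N52612 (iv1 F381001)) (tt N52345 (iv0 D190773)) (tt N52610 (iv2 F380997)) (tt N102971 (iv3 F439506)) (tt N80474 F380996) (tt N52522 F380995) (tt N87122 F380999) (tt N52562 F381000))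
theorem Q87895 : ∀ i, i < 87895 → P i := stepQ 87894 Q87894 (allL N87894 (tt N52562 (iv1 F381005)) (tt N52610 F381006) (tt N52612 F381002) (tt N115821 (iv3 F497074)) (tt N75491 F381003) (tt N88126 F381856) (tt N52600 F381004) (tt N52345 (iv7 D190774)))
theorem Q87896 : ∀ i, i < 87896 → P i := stepQ 87895 Q87895 (allL N87895 (tt N111801 (iv1 F478043)) (tt N87397 (iv0 F381701)) (tt N111800 F478035) (tt N52346 (iv3 D190775)) (tt N104002 (iv4 F443736)) (tt N109018 (iv5 F464953)) (tt N104001 F443733) (tt N52616 F381007))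
theorem Q87897 : ∀ i, i < 87897 → P i := stepQ 87896 Q87896 (allL N87896 (tt N56640 F381010) (tt N68801 (iv0 F381012)) (tt N52615 F381008) (tt N104001 (iv3 F443727)) (tt N93244 (iv4 F400095)) (tt N55548 F381009) (tt N52346 (iv6 D190776)) (tt N68807 (iv7 F381011)))
theorem Q87898 : ∀ i, i < 87898 → P i := stepQ 87897 Q87897 (allL N87897 (tt N87346 F381015) (tt N97239 (iv0 F416028)) (tt N115822 D219081) (tt N52347 (iv3 D190777)) (tt N115823 D219082) (tt N54975 F381013) (tt N74124 F392703) (tt N52613 F381014))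
theorem Q87899 : ∀ i, i < 87899 → P i := stepQ 87898 Q87898 (allL N87898 (tt N106441 (iv1 F454454)) (tt N106444 (iv0 F454475)) (tt N52619 F381016) (tt N74124 (iv3 F392704)) (tt N95889 (iv4 F410104)) (tt N54979 F381017) (tt N52347 (iv6 D190778)) (tt N115824 D219083))
theorem Q87900 : ∀ i, i < 87900 → P i := stepQ 87899 Q87899 (allL N87899 (tt N75508 F381022) (tt N77010 (iv0 F381023)) (tt N63600 F381018) (tt N76286 F381019) (tt N77766 F381024) (tt N52349 (iv5 D190779)) (tt N61432 F381020) (tt N77021 F381021))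
theorem Q87901 : ∀ i, i < 87901 → P i := stepQ 87900 Q87900 (allL N87900 (tt N103577 (iv1 F442104)) (tt N87696 F381031) (tt N65118 F381026) (tt N60596 F381027) (tt N83614 F381028) (tt N52350 (iv5 D190780)) (tt N68656 F381029) (tt N60590 F381030))
theorem Q87902 : ∀ i, i < 87902 → P i := stepQ 87901 Q87901 (allL N87901 (tt N65942 (iv1 F381034)) (tt N52351 (iv0 D190781)) (tt N93249 (iv2 F400113)) (tt N102133 (iv3 F435884)) (tt N97610 (iv4 F417589)) (tt N56691 F381033) (tt N80444 F397859) (tt N56228 (iv7 F381035)))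
theorem Q87903 : ∀ i, i < 87903 → P i := stepQ 87902 Q87902 (allL N87902 (tt N52351 (iv1 D190782)) (tt N65942 F381036) (tt N56228 (iv2 F381038)) (tt N97401 (iv3 F416741)) (tt N111815 (iv4 F478120)) (tt N56692 F381037) (tt N56224 (iv6 F381043)) (tt N93249 (iv7 F400114)))
theorem Q87904 : ∀ i, i < 87904 → P i := stepQ 87903 Q87903 (allL N87903 (tt N115825 D219084) (tt N115826 D219085) (tt N97647 (iv2 F417757)) (tt N52352 F381060) (tt N115375 (iv4 F494878)) (tt N52351 (iv5 D190783)) (tt N68657 F381061) (tt N87768 F381062))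
theorem Q87905 : ∀ i, i < 87905 → P i := stepQ 87904 Q87904 (allL N87904 (tt N115827 D219086) (tt N115828 D219087) (tt N115829 D219088) (tt N52358 (iv3 D190784)) (tt N112305 (iv4 F480457)) (tt N107688 F459239) (tt N93770 (iv6 F401840)) (tt N77489 F381063))
theorem Q87906 : ∀ i, i < 87906 → P i := stepQ 87905 Q87905 (allL N87905 (tt N64446 F381067) (tt N82347 F381068) (tt N80409 F381064) (tt N107688 (iv3 F459237)) (tt N80415 F381066) (tt N52358 (iv5 D190785)) (tt N111369 F476038) (tt N77493 F381065))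
theorem Q87907 : ∀ i, i < 87907 → P i := stepQ 87906 Q87906 (allL N87906 (tt N86981 (iv1 F381076)) (tt N86984 F381073) (tt N54958 (iv2 F381074)) (tt N52360 F381071) (tt N54952 F381072) (tt N52359 (iv5 D190787)) (tt N92053 (iv6 F395561)) (tt N91950 (iv7 F395093)))
theorem Q87908 : ∀ i, i < 87908 → P i := stepQ 87907 Q87907 (allL N87907 (tt N82347 F381080) (tt N64446 F381081) (tt N77493 F381077) (tt N91502 (iv3 F393403)) (tt N52360 (iv4 D190788)) (tt N75518 F381078) (tt N92054 (iv6 F395566)) (tt N80409 F381079))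
theorem Q87909 : ∀ i, i < 87909 → P i := stepQ 87908 Q87908 (allL N87908 (tt N112857 (iv1 F482990)) (tt N102177 (iv0 F436050)) (tt N88467 (iv2 F383170)) (tt N52362 (iv3 D190789)) (tt N83715 F381082) (tt N115830 D219089) (tt N112489 (iv6 F481319)) (tt N88470 (iv7 F383182)))
theorem Q87910 : ∀ i, i < 87910 → P i := stepQ 87909 Q87909 (allL N87909 (tt N56545 F381084) (tt N78397 F381085) (tt N97574 (iv2 F417425)) (tt N115830 (iv3 F497127)) (tt N115831 D219090) (tt N52362 (iv5 D190790)) (tt N66602 F381083) (tt N102005 (iv7 F435325)))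
theorem Q87911 : ∀ i, i < 87911 → P i := stepQ 87910 Q87910 (allL N87910 (tt N78397 F381087) (tt N56545 F381088) (tt N102005 (iv2 F435324)) (tt N112819 F482777) (tt N115832 D219091) (tt N52363 (iv5 D190791)) (tt N115833 D219092) (tt N97574 F417430))
theorem Q87912 : ∀ i, i < 87912 → P i := stepQ 87911 Q87911 (allL N87911 (tt N103466 (iv1 F441751)) (tt N103462 (iv0 F441736)) (tt N52365 F381089) (tt N67238 F381090) (tt N106132 (iv4 F453280)) (tt N52364 (iv5 D190792)) (tt N96096 (iv6 F411029)) (tt N67237 F381091))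
theorem Q87913 : ∀ i, i < 87913 → P i := stepQ 87912 Q87912 (allL N87912 (tt N67237 (iv1 F381092)) (tt N52365 (iv0 D190793)) (tt N103466 (iv2 F441748)) (tt N115834 D219093) (tt N115835 D219094) (tt N82377 (iv5 F400119)) (tt N97734 F418109) (tt N103462 (iv7 F441734)))
theorem Q87914 : ∀ i, i < 87914 → P i := stepQ 87913 Q87913 (allL N87913 (tt N52365 (iv1 D190794)) (tt N67237 F381093) (tt N103462 (iv2 F441733)) (tt N83990 (iv3 F381094)) (tt N115836 D219095) (tt N82378 (iv5 F381095)) (tt N83989 F381096) (tt N103466 (iv7 F441750)))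
theorem Q87915 : ∀ i, i < 87915 → P i := stepQ 87914 Q87914 (allL N87914 (tt N106130 (iv1 F453269)) (tt N103560 (iv0 F442044)) (tt N106132 (iv2 F453278)) (tt N82770 F381098) (tt N52365 (iv4 D190795)) (tt N104439 (iv5 F445772)) (tt N97687 (iv6 F417908)) (tt N106128 (iv7 F453258)))
theorem Q87916 : ∀ i, i < 87916 → P i := stepQ 87915 Q87915 (allL N87915 (tt N92688 F397888) (tt N97848 (iv0 F418500)) (tt N96096 (iv2 F411027)) (tt N52366 F381099) (tt N97687 F417906) (tt N92053 (iv5 F395560)) (tt N52365 (iv6 D190796)) (tt N97493 (iv7 F417090)))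
theorem Q87917 : ∀ i, i < 87917 → P i := stepQ 87916 Q87916 (allL N87916 (tt N104221 (iv1 F444778)) (tt N73742 (iv0 F381105)) (tt N63032 F381100) (tt N73940 F381101) (tt N66697 F381104) (tt N52367 (iv5 D190797)) (tt N63804 F381102) (tt N73934 F381103))
theorem Q87918 : ∀ i, i < 87918 → P i := stepQ 87917 Q87917 (allL N87917 (tt N52369 (iv1 D190798)) (tt N77170 F381106) (tt N63722 F381111) (tt N63632 (iv3 F381109)) (tt N64431 F381112) (tt N78357 F381108) (tt N65247 (iv6 F381110)) (tt N77169 F381107))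
theorem Q87919 : ∀ i, i < 87919 → P i := stepQ 87918 Q87918 (allL N87918 (tt N63722 (iv1 F381117)) (tt N77169 F381118) (tt N77170 F381113) (tt N52372 F381114) (tt N90538 (iv4 F390001)) (tt N52370 F381115) (tt N63720 F381116) (tt N52369 (iv7 D190799)))
theorem Q87920 : ∀ i, i < 87920 → P i := stepQ 87919 Q87919 (allL N87919 (tt N80447 (iv1 F381124)) (tt N52373 (iv0 D190800)) (tt N79539 (iv2 F381121)) (tt N102102 (iv3 F435730)) (tt N82018 F381120) (tt N64085 F381119) (tt N82016 F381122) (tt N79537 F381123))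
theorem Q87921 : ∀ i, i < 87921 → P i := stepQ 87920 Q87920 (allL N87920 (tt N79537 (iv1 F381129)) (tt N79539 F381130) (tt N80447 F381125) (tt N65931 F381126) (tt N76120 F381127) (tt N52374 F381128) (tt N100684 F430002) (tt N52373 (iv7 D190801)))
theorem Q87922 : ∀ i, i < 87922 → P i := stepQ 87921 Q87921 (allL N87921 (tt N75608 F381136) (tt N73968 F381137) (tt N75264 F381131) (tt N62558 F381132) (tt N85793 F381135) (tt N52375 (iv5 D190802)) (tt N62839 F381133) (tt N62557 F381134))
theorem Q87923 : ∀ i, i < 87923 → P i := stepQ 87922 Q87922 (allL N87922 (tt N62221 F381143) (tt N100316 (iv0 F428405)) (tt N77706 F381138) (tt N52379 F381139) (tt N63966 F381140) (tt N63675 F381141) (tt N52378 (iv6 D190803)) (tt N80359 F381142))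
theorem Q87924 : ∀ i, i < 87924 → P i := stepQ 87923 Q87923 (allL N87923 (tt N60071 F381148) (tt N52828 F381149) (tt N80449 F381144) (tt N68592 F381145) (tt N52381 F381146) (tt N96964 (iv5 F414820)) (tt N52380 (iv6 D190804)) (tt N80476 F381147))
theorem Q87925 : ∀ i, i < 87925 → P i := stepQ 87924 Q87924 (allL N87924 (tt N68525 F381153) (tt N68524 (iv0 F381155)) (tt N68526 F381150) (tt N52384 (iv3 D190805)) (tt N71936 F381154) (tt N76059 F381151) (tt N111940 (iv6 F478779)) (tt N66827 F381152))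
theorem Q87926 : ∀ i, i < 87926 → P i := stepQ 87925 Q87925 (allL N87925 (tt N68505 (iv1 F381158)) (tt N68504 F381159) (tt N68506 F381156) (tt N111940 (iv3 F478777)) (tt N100144 (iv4 F427679)) (tt N101302 (iv5 F432587)) (tt N52384 (iv6 D190806)) (tt N68500 F381157))
theorem Q87927 : ∀ i, i < 87927 → P i := stepQ 87926 Q87926 (allL N87926 (tt N63106 F381165) (tt N54139 (iv0 F381166)) (tt N82558 F381160) (tt N64269 F381161) (tt N52770 F381162) (tt N66564 F381163) (tt N52390 (iv6 D190807)) (tt N64731 F381164))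
theorem Q87928 : ∀ i, i < 87928 → P i := stepQ 87927 Q87927 (allL N87927 (tt N87241 (iv1 F381172)) (tt N52483 (iv0 F381171)) (tt N82939 F381168) (tt N87859 F381169) (tt N115837 D219096) (tt N52391 (iv5 D190808)) (tt N95478 (iv6 F408338)) (tt N87223 F381170))
theorem Q87929 : ∀ i, i < 87929 → P i := stepQ 87928 Q87928 (allL N87928 (tt N52436 F381176) (tt N87328 F381177) (tt N82937 F381173) (tt N82939 F381174) (tt N115838 D219097) (tt N52392 (iv5 D190809)) (tt N95644 (iv6 F408990)) (tt N87309 F381175))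
theorem Q87930 : ∀ i, i < 87930 → P i := stepQ 87929 Q87929 (allL N87929 (tt N87611 (iv1 F381182)) (tt N87610 F381181) (tt N52396 F381178) (tt N52454 F381179) (tt N88311 (iv4 F382546)) (tt N52393 (iv5 D190810)) (tt N97242 F416043) (tt N87609 F381180))
theorem Q87931 : ∀ i, i < 87931 → P i := stepQ 87930 Q87930 (allL N87930 (tt N87623 F381196) (tt N85706 F381197) (tt N87608 F381193) (tt N87868 F381194) (tt N99657 (iv4 F425620)) (tt N52394 (iv5 D190811)) (tt N99656 F425618) (tt N87607 F381195))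
theorem Q87932 : ∀ i, i < 87932 → P i := stepQ 87931 Q87931 (allL N87931 (tt N83222 (iv1 F381203)) (tt N55080 (iv0 F381202)) (tt N87316 F381199) (tt N87869 F381200) (tt N86236 F381201) (tt N91622 (iv5 F393795)) (tt N52394 (iv6 D190812)) (tt N87315 (iv7 F381206)))
theorem Q87933 : ∀ i, i < 87933 → P i := stepQ 87932 Q87932 (allL N87932 (tt N85706 F381210) (tt N87623 F381211) (tt N87607 F381207) (tt N82945 F381208) (tt N115839 D219098) (tt N52395 (iv5 D190813)) (tt N96769 (iv6 F413845)) (tt N87608 F381209))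
theorem Q87934 : ∀ i, i < 87934 → P i := stepQ 87933 Q87933 (allL N87933 (tt N77713 F381214) (tt N87225 F381216) (tt N87230 F381212) (tt N82946 F381213) (tt N112398 (iv4 F480930)) (tt N87806 (iv5 F381215)) (tt N52395 (iv6 D190814)) (tt N87231 (iv7 F381217)))
theorem Q87935 : ∀ i, i < 87935 → P i := stepQ 87934 Q87934 (allL N87934 (tt N87609 (iv1 F381221)) (tt N52396 (iv0 D190815)) (tt N87611 (iv2 F381223)) (tt N114231 (iv3 F489113)) (tt N115840 D219099) (tt N83518 F381220) (tt N112451 (iv6 F481160)) (tt N87610 (iv7 F381224)))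
theorem Q87936 : ∀ i, i < 87936 → P i := stepQ 87935 Q87935 (allL N87935 (tt N52396 (iv1 D190816)) (tt N87609 F381225) (tt N87610 (iv2 F381228)) (tt N82948 (iv3 F381229)) (tt N104887 (iv4 F447810)) (tt N83519 F381227) (tt N82126 (iv6 F381230)) (tt N87611 F381226))
theorem Q87937 : ∀ i, i < 87937 → P i := stepQ 87936 Q87936 (allL N87936 (tt N88309 (iv1 F382540)) (tt N83583 F381232) (tt N88311 F382547) (tt N112470 F481219) (tt N52396 (iv4 D190817)) (tt N115841 D219100) (tt N115767 (iv6 F496760)) (tt N87612 F381231))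
theorem Q87938 : ∀ i, i < 87938 → P i := stepQ 87937 Q87937 (allL N87937 (tt N114231 (iv1 F489116)) (tt N114232 (iv0 F489123)) (tt N87170 F381233) (tt N52400 F381234) (tt N115457 (iv4 F495285)) (tt N52399 (iv5 D190818)) (tt N106879 (iv6 F456107)) (tt N112874 (iv7 F483084)))
theorem Q87939 : ∀ i, i < 87939 → P i := stepQ 87938 Q87938 (allL N87938 (tt N52415 (iv1 F381238)) (tt N52401 (iv0 D190819)) (tt N52412 (iv2 F381236)) (tt N115441 (iv3 F495214)) (tt N88159 (iv4 F381951)) (tt N55384 F381235) (tt N115842 D219101) (tt N52413 F381237))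
theorem Q87940 : ∀ i, i < 87940 → P i := stepQ 87939 Q87939 (allL N87939 (tt N52413 (iv1 F381242)) (tt N52412 F381243) (tt N52415 F381239) (tt N87233 F381240) (tt N115651 (iv4 F496150)) (tt N52402 F381241) (tt N88162 (iv6 F381962)) (tt N52401 (iv7 D190820)))
theorem Q87941 : ∀ i, i < 87941 → P i := stepQ 87940 Q87940 (allL N87940 (tt N111769 (iv1 F477879)) (tt N111766 (iv0 F477864)) (tt N79951 F381244) (tt N87171 F381245) (tt N79020 F381247) (tt N52403 (iv5 D190821)) (tt N115843 D219102) (tt N79939 F381246))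
theorem Q87942 : ∀ i, i < 87942 → P i := stepQ 87941 Q87941 (allL N87941 (tt N111766 (iv1 F477865)) (tt N111769 (iv0 F477878)) (tt N79939 F381248) (tt N109540 (iv3 F467442)) (tt N79018 F381249) (tt N52404 (iv5 D190822)) (tt N115844 D219103) (tt N79951 F381250))
theorem Q87943 : ∀ i, i < 87943 → P i := stepQ 87942 Q87942 (allL N87942 (tt N100648 F429836) (tt N92643 F397732) (tt N79940 F381251) (tt N109535 (iv3 F467416)) (tt N61077 F381252) (tt N69497 (iv5 F381253)) (tt N52404 (iv6 D190823)) (tt N102958 (iv7 F439442)))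
theorem Q87944 : ∀ i, i < 87944 → P i := stepQ 87943 Q87943 (allL N87943 (tt N52410 (iv1 F381256)) (tt N52407 (iv0 D190824)) (tt N85178 (iv2 F381255)) (tt N87236 F381257) (tt N115845 D219104) (tt N85174 F381254) (tt N74072 (iv6 F381258)) (tt N91761 (iv7 F394338)))
theorem Q87945 : ∀ i, i < 87945 → P i := stepQ 87944 Q87944 (allL N87944 (tt N84619 F381259) (tt N114135 (iv0 F488693)) (tt N114137 F488703) (tt N115846 D219105) (tt N52407 (iv4 D190825)) (tt N115649 (iv5 F496137)) (tt N104043 F462832) (tt N114138 (iv7 F488707)))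
theorem Q87946 : ∀ i, i < 87946 → P i := stepQ 87945 Q87945 (allL N87945 (tt N115847 D219106) (tt N115848 D219107) (tt N114868 (iv2 F492244)) (tt N87181 F381260) (tt N104043 (iv4 F462830)) (tt N91812 (iv5 F394521)) (tt N52407 (iv6 D190826)) (tt N115849 D219108))
theorem Q87947 : ∀ i, i < 87947 → P i := stepQ 87946 Q87946 (allL N87946 (tt N115850 D219109) (tt N115851 D219110) (tt N87182 F381261) (tt N52410 F381262) (tt N115852 D219111) (tt N52409 (iv5 D190827)) (tt N115853 D219112) (tt N114867 (iv7 F492243)))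
theorem Q87948 : ∀ i, i < 87948 → P i := stepQ 87947 Q87947 (allL N87947 (tt N100347 F428529) (tt N87869 (iv0 F381266)) (tt N87183 F381263) (tt N52411 F381264) (tt N87183 F381265) (tt N115004 (iv5 F493012)) (tt N52409 (iv6 D190828)) (tt N87621 (iv7 F381268)))
theorem Q87949 : ∀ i, i < 87949 → P i := stepQ 87948 Q87948 (allL N87948 (tt N114135 (iv1 F488694)) (tt N84619 F381269) (tt N114138 F488711) (tt N115854 D219113) (tt N52410 (iv4 D190829)) (tt N115648 (iv5 F496129)) (tt N115855 D219114) (tt N114137 F488704))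
theorem Q87950 : ∀ i, i < 87950 → P i := stepQ 87949 Q87949 (allL N87949 (tt N115856 D219115) (tt N115857 D219116) (tt N114869 (iv2 F492249)) (tt N115853 (iv3 F497243)) (tt N115855 (iv4 F497249)) (tt N115005 (iv5 F493018)) (tt N52410 (iv6 D190830)) (tt N115858 D219117))
theorem Q87951 : ∀ i, i < 87951 → P i := stepQ 87950 Q87950 (allL N87950 (tt N84600 F381270) (tt N84494 F381271) (tt N88159 F381952) (tt N115649 F496139) (tt N52412 (iv4 D190831)) (tt N115846 (iv5 F497206)) (tt N115859 D219118) (tt N88160 (iv7 F381954)))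
theorem Q87952 : ∀ i, i < 87952 → P i := stepQ 87951 Q87951 (allL N87951 (tt N115860 D219119) (tt N115861 D219120) (tt N115842 (iv2 F497180)) (tt N87184 F381272) (tt N115859 (iv4 F497269)) (tt N104886 (iv5 F447805)) (tt N52412 (iv6 D190832)) (tt N115862 D219121))
theorem Q87953 : ∀ i, i < 87953 → P i := stepQ 87952 Q87952 (allL N87952 (tt N87859 F482762) (tt N114089 (iv0 F488543)) (tt N87185 F381273) (tt N52413 (iv3 D190833)) (tt N115446 (iv4 F495231)) (tt N112817 (iv5 F482760)) (tt N112653 F482012) (tt N115441 (iv7 F495217)))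
theorem Q87954 : ∀ i, i < 87954 → P i := stepQ 87953 Q87953 (allL N87953 (tt N84494 F381274) (tt N84600 F381275) (tt N88160 (iv2 F381957)) (tt N115863 D219122) (tt N52413 (iv4 D190834)) (tt N115864 D219123) (tt N74108 F381279) (tt N88159 F381953))
theorem Q87955 : ∀ i, i < 87955 → P i := stepQ 87954 Q87954 (allL N87954 (tt N115865 D219124) (tt N81167 (iv0 F381278)) (tt N104896 (iv2 F447840)) (tt N112653 (iv3 F482008)) (tt N74108 (iv4 F381277)) (tt N67348 F381276) (tt N52413 (iv6 D190835)) (tt N74107 F381280))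
theorem Q87956 : ∀ i, i < 87956 → P i := stepQ 87955 Q87955 (allL N87955 (tt N115651 (iv1 F496154)) (tt N52414 (iv0 D190836)) (tt N114185 (iv2 F488889)) (tt N114107 (iv3 F488585)) (tt N52542 F381281) (tt N115866 D219125) (tt N115867 D219126) (tt N110966 F474003))
theorem Q87957 : ∀ i, i < 87957 → P i := stepQ 87956 Q87956 (allL N87956 (tt N52414 (iv1 D190837)) (tt N115651 (iv0 F496153)) (tt N110966 (iv2 F473998)) (tt N115868 D219127) (tt N52543 F381282) (tt N115869 D219128) (tt N69467 F381686) (tt N114185 (iv7 F488890)))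
theorem Q87958 : ∀ i, i < 87958 → P i := stepQ 87957 Q87957 (allL N87957 (tt N115870 D219129) (tt N115871 D219130) (tt N88124 (iv2 F381847)) (tt N52414 (iv3 D190838)) (tt N52442 F381283) (tt N114105 (iv5 F488581)) (tt N88091 F381773) (tt N115872 D219131))
theorem Q87959 : ∀ i, i < 87959 → P i := stepQ 87958 Q87958 (allL N87958 (tt N115873 D219132) (tt N115874 D219133) (tt N84601 F381284) (tt N114105 (iv3 F488580)) (tt N87179 F381286) (tt N52414 (iv5 D190839)) (tt N84597 F381285) (tt N87178 (iv7 F381287)))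
theorem Q87960 : ∀ i, i < 87960 → P i := stepQ 87959 Q87959 (allL N87959 (tt N110966 (iv1 F474002)) (tt N114185 (iv0 F488891)) (tt N115651 (iv2 F496148)) (tt N115872 (iv3 F497330)) (tt N52415 F381288) (tt N87178 F381289) (tt N114874 (iv6 F492277)) (tt N52414 (iv7 D190840)))
theorem Q87961 : ∀ i, i < 87961 → P i := stepQ 87960 Q87960 (allL N87960 (tt N115649 (iv1 F496135)) (tt N115648 F496131) (tt N88162 (iv2 F381961)) (tt N52445 F381290) (tt N114874 (iv4 F492275)) (tt N84494 F381291) (tt N52415 (iv6 D190841)) (tt N114873 F492273))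
theorem Q87962 : ∀ i, i < 87962 → P i := stepQ 87961 Q87961 (allL N87961 (tt N87283 (iv1 F381293)) (tt N52416 (iv0 D190842)) (tt N87282 (iv2 F381292)) (tt N104226 (iv3 F444797)) (tt N102695 (iv4 F438229)) (tt N95645 (iv5 F408992)) (tt N87201 F381294) (tt N82936 F381295))
theorem Q87963 : ∀ i, i < 87963 → P i := stepQ 87962 Q87962 (allL N87962 (tt N87282 (iv1 F381300)) (tt N82936 F381299) (tt N52416 (iv2 D190843)) (tt N52457 F381297) (tt N109021 (iv4 F464968)) (tt N115875 D219134) (tt N95461 F408268) (tt N87283 F381298))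
theorem Q87964 : ∀ i, i < 87964 → P i := stepQ 87963 Q87963 (allL N87963 (tt N115876 D219135) (tt N115877 D219136) (tt N115875 (iv2 F497344)) (tt N52417 F381301) (tt N111565 (iv4 F476949)) (tt N52416 (iv5 D190844)) (tt N115878 D219137) (tt N87284 F381302))
theorem Q87965 : ∀ i, i < 87965 → P i := stepQ 87964 Q87964 (allL N87964 (tt N52419 (iv1 F381304)) (tt N52417 (iv0 D190845)) (tt N87278 (iv2 F381305)) (tt N115879 D219138) (tt N108911 (iv4 F464456)) (tt N87746 F381303) (tt N115773 (iv6 F496795)) (tt N87279 (iv7 F381306)))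
theorem Q87966 : ∀ i, i < 87966 → P i := stepQ 87965 Q87965 (allL N87965 (tt N52417 (iv1 D190846)) (tt N52419 F381307) (tt N87279 (iv2 F381310)) (tt N111766 (iv3 F477862)) (tt N93890 (iv4 F402296)) (tt N87750 F381309) (tt N87320 F381311) (tt N87278 F381308))
theorem Q87967 : ∀ i, i < 87967 → P i := stepQ 87966 Q87966 (allL N87966 (tt N81183 F381314) (tt N111571 (iv0 F476974)) (tt N87281 F381312) (tt N115878 (iv3 F497366)) (tt N108136 (iv4 F461260)) (tt N81170 F381313) (tt N52417 (iv6 D190847)) (tt N108160 (iv7 F461343)))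
theorem Q87968 : ∀ i, i < 87968 → P i := stepQ 87967 Q87967 (allL N87967 (tt N52418 (iv1 D190848)) (tt N52457 F381320) (tt N52459 F381317) (tt N79038 (iv3 F381316)) (tt N77344 F381318) (tt N111889 (iv5 F478521)) (tt N87204 F381319) (tt N52455 F381315))
theorem Q87969 : ∀ i, i < 87969 → P i := stepQ 87968 Q87968 (allL N87968 (tt N52455 (iv1 F381324)) (tt N52459 F381323) (tt N52418 (iv2 D190849)) (tt N87283 F381321) (tt N91027 (iv4 F391647)) (tt N113917 (iv5 F487780)) (tt N91026 F391644) (tt N52457 F381322))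
theorem Q87970 : ∀ i, i < 87970 → P i := stepQ 87969 Q87969 (allL N87969 (tt N64401 F381327) (tt N115880 D219139) (tt N91027 (iv2 F391646)) (tt N99772 (iv3 F426159)) (tt N52418 (iv4 D190850)) (tt N84372 F381328) (tt N69937 F381325) (tt N87276 F381326))
theorem Q87971 : ∀ i, i < 87971 → P i := stepQ 87970 Q87970 (allL N87970 (tt N113708 (iv1 F486759)) (tt N113918 F487785) (tt N113917 F487782) (tt N52419 F381329) (tt N115881 D219140) (tt N52418 (iv5 D190851)) (tt N115882 D219141) (tt N87277 F381330))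
theorem Q87972 : ∀ i, i < 87972 → P i := stepQ 87971 Q87971 (allL N87971 (tt N74675 F381333) (tt N112306 F480464) (tt N87285 F381331) (tt N115883 D219142) (tt N52419 (iv4 D190852)) (tt N103169 (iv5 F440385)) (tt N115709 (iv6 F496435)) (tt N87280 F381332))
theorem Q87973 : ∀ i, i < 87973 → P i := stepQ 87972 Q87972 (allL N87972 (tt N91765 F415958) (tt N87303 (iv0 F381335)) (tt N87286 F381334) (tt N115882 (iv3 F497391)) (tt N115709 (iv4 F496434)) (tt N115743 (iv5 F496621)) (tt N52419 (iv6 D190853)) (tt N91764 (iv7 F394345)))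
theorem Q87974 : ∀ i, i < 87974 → P i := stepQ 87973 Q87973 (allL N87973 (tt N87739 F381338) (tt N87738 F381339) (tt N87288 F381336) (tt N113928 (iv3 F487836)) (tt N86617 F381337) (tt N52420 (iv5 D190854)) (tt N115743 (iv6 F496622)) (tt N100642 (iv7 F429806)))
theorem Q87975 : ∀ i, i < 87975 → P i := stepQ 87974 Q87974 (allL N87974 (tt N95645 (iv1 F408991)) (tt N95644 F408996) (tt N95646 (iv2 F408993)) (tt N52421 (iv3 D190855)) (tt N87249 F381342) (tt N95619 (iv5 F408912)) (tt N87376 F385459) (tt N87292 F381341))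
theorem Q87976 : ∀ i, i < 87976 → P i := stepQ 87975 Q87975 (allL N87975 (tt N115884 D219143) (tt N115885 D219144) (tt N87291 F381343) (tt N87376 (iv3 F385458)) (tt N108150 (iv4 F461310)) (tt N55095 F381344) (tt N52421 (iv6 D190856)) (tt N115886 D219145))
theorem Q87977 : ∀ i, i < 87977 → P i := stepQ 87976 Q87976 (allL N87976 (tt N87299 (iv1 F381349)) (tt N52423 (iv0 D190857)) (tt N87295 (iv2 F381347)) (tt N74319 F381350) (tt N52522 F381346) (tt N72706 F381345) (tt N115887 D219146) (tt N87296 (iv7 F381348)))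
theorem Q87978 : ∀ i, i < 87978 → P i := stepQ 87977 Q87977 (allL N87977 (tt N52423 (iv1 D190858)) (tt N87299 F381351) (tt N87296 (iv2 F381354)) (tt N115888 D219147) (tt N52523 F381353) (tt N74595 (iv5 F381355)) (tt N103439 (iv6 F441640)) (tt N87295 F381352))
theorem Q87979 : ∀ i, i < 87979 → P i := stepQ 87978 Q87978 (allL N87978 (tt N88120 (iv1 F381838)) (tt N87242 (iv0 F381772)) (tt N88123 (iv2 F381843)) (tt N52423 (iv3 D190859)) (tt N88091 (iv4 F381768)) (tt N112216 (iv5 F480091)) (tt N52442 F381356) (tt N88090 F381765))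
theorem Q87980 : ∀ i, i < 87980 → P i := stepQ 87979 Q87979 (allL N87979 (tt N103168 (iv1 F440378)) (tt N103167 F440375) (tt N87298 F381357) (tt N112216 (iv3 F480089)) (tt N103000 (iv4 F439621)) (tt N52423 (iv5 D190860)) (tt N57075 F381358) (tt N100131 (iv7 F427605)))
theorem Q87981 : ∀ i, i < 87981 → P i := stepQ 87980 Q87980 (allL N87980 (tt N87296 (iv1 F381361)) (tt N87295 F381362) (tt N87299 F381359) (tt N88090 (iv3 F381763)) (tt N52424 F381360) (tt N100131 (iv5 F427607)) (tt N115889 D219148) (tt N52423 (iv7 D190861)))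
theorem Q87982 : ∀ i, i < 87982 → P i := stepQ 87981 Q87981 (allL N87981 (tt N87337 (iv1 F381366)) (tt N87336 F381367) (tt N87300 F381363) (tt N114873 F492272) (tt N115889 (iv4 F497429)) (tt N84499 F381364) (tt N52424 (iv6 D190862)) (tt N52445 F381365))
theorem Q87983 : ∀ i, i < 87983 → P i := stepQ 87982 Q87982 (allL N87982 (tt N87328 F381370) (tt N52436 F381371) (tt N87309 F381368) (tt N114089 (iv3 F488540)) (tt N115890 D219149) (tt N52425 (iv5 D190863)) (tt N115891 D219150) (tt N82937 F381369))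
theorem Q87984 : ∀ i, i < 87984 → P i := stepQ 87983 Q87983 (allL N87983 (tt N87312 F381377) (tt N87311 F381376) (tt N52427 F381372) (tt N52460 F381373) (tt N99700 (iv4 F425799)) (tt N52426 (iv5 D190864)) (tt N58464 F381374) (tt N87310 F381375))
theorem Q87985 : ∀ i, i < 87985 → P i := stepQ 87984 Q87984 (allL N87984 (tt N87310 (iv1 F381379)) (tt N52427 (iv0 D190865)) (tt N87312 (iv2 F381380)) (tt N115851 F497236) (tt N115892 D219151) (tt N87012 F381378) (tt N115892 F497449) (tt N87311 (iv7 F381381)))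
theorem Q87986 : ∀ i, i < 87986 → P i := stepQ 87985 Q87985 (allL N87985 (tt N52427 (iv1 D190866)) (tt N87310 F381382) (tt N87311 (iv2 F381385)) (tt N87227 (iv3 F381386)) (tt N115893 D219152) (tt N87013 F381384) (tt N115894 D219153) (tt N87312 F381383))
theorem Q87987 : ∀ i, i < 87987 → P i := stepQ 87986 Q87986 (allL N87986 (tt N58462 (iv1 F381392)) (tt N58461 (iv0 F381391)) (tt N58464 F381387) (tt N52430 F381388) (tt N105692 (iv4 F451279)) (tt N58385 F381389) (tt N52427 (iv6 D190867)) (tt N58384 (iv7 F381390)))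
theorem Q87988 : ∀ i, i < 87988 → P i := stepQ 87987 Q87987 (allL N87987 (tt N115064 (iv1 F493311)) (tt N100555 F429446) (tt N108100 (iv2 F461101)) (tt N52429 (iv3 D190868)) (tt N106739 (iv4 F455491)) (tt N90299 (iv5 F389270)) (tt N115895 D219154) (tt N87317 F381393))
theorem Q87989 : ∀ i, i < 87989 → P i := stepQ 87988 Q87988 (allL N87988 (tt N64959 (iv1 F394873)) (tt N111385 (iv0 F476112)) (tt N87305 F381394) (tt N115895 (iv3 F497460)) (tt N52430 F381395) (tt N63876 F412089) (tt N52429 (iv6 D190869)) (tt N111387 (iv7 F476120)))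
theorem Q87990 : ∀ i, i < 87990 → P i := stepQ 87989 Q87989 (allL N87989 (tt N79639 (iv1 F381401)) (tt N52430 (iv0 D190870)) (tt N87306 (iv2 F381399)) (tt N81184 (iv3 F381398)) (tt N94874 (iv4 F406209)) (tt N80256 F381396) (tt N81183 F381397) (tt N87307 (iv7 F381400)))
theorem Q87991 : ∀ i, i < 87991 → P i := stepQ 87990 Q87990 (allL N87990 (tt N52430 (iv1 D190871)) (tt N79639 F381402) (tt N87307 (iv2 F381405)) (tt N115848 F497218) (tt N94859 (iv4 F406177)) (tt N55562 F381404) (tt N114129 (iv6 F488670)) (tt N87306 F381403))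
theorem Q87992 : ∀ i, i < 87992 → P i := stepQ 87991 Q87991 (allL N87991 (tt N87307 (iv1 F381410)) (tt N87306 F381411) (tt N79639 F381406) (tt N58384 F381407) (tt N111387 (iv4 F476122)) (tt N58380 F381408) (tt N87321 F381409) (tt N52430 (iv7 D190872)))
theorem Q87993 : ∀ i, i < 87993 → P i := stepQ 87992 Q87992 (allL N87992 (tt N52431 (iv1 D190873)) (tt N52460 F381412) (tt N55293 (iv2 F381415)) (tt N87180 (iv3 F381416)) (tt N89246 (iv4 F385769)) (tt N53892 F381414) (tt N115896 D219155) (tt N87301 F381413))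
theorem Q87994 : ∀ i, i < 87994 → P i := stepQ 87993 Q87993 (allL N87993 (tt N90758 (iv1 F390748)) (tt N89258 F388072) (tt N90756 F390739) (tt N88113 (iv3 F381830)) (tt N52431 (iv4 D190874)) (tt N115897 D219156) (tt N88108 F381813) (tt N79305 F381419))
theorem Q87995 : ∀ i, i < 87995 → P i := stepQ 87994 Q87994 (allL N87994 (tt N111502 (iv1 F476622)) (tt N54534 (iv0 F381553)) (tt N111503 (iv2 F476628)) (tt N52434 F381420) (tt N88108 (iv4 F381812)) (tt N90532 (iv5 F389986)) (tt N52431 (iv6 D190875)) (tt N79640 F381421))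
theorem Q87996 : ∀ i, i < 87996 → P i := stepQ 87995 Q87995 (allL N87995 (tt N112860 F483008) (tt N115898 D219157) (tt N115899 D219158) (tt N52433 (iv3 D190876)) (tt N88113 (iv4 F381831)) (tt N88464 F383157) (tt N88112 F381829) (tt N87304 F381422))
theorem Q87997 : ∀ i, i < 87997 → P i := stepQ 87996 Q87996 (allL N87996 (tt N111561 F476933) (tt N115622 (iv0 F496018)) (tt N87318 F381423) (tt N88112 (iv3 F381828)) (tt N52434 F381424) (tt N112301 F480446) (tt N52433 (iv6 D190877)) (tt N115900 D219159))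
theorem Q87998 : ∀ i, i < 87998 → P i := stepQ 87997 Q87997 (allL N87997 (tt N87321 (iv1 F381433)) (tt N52434 (iv0 D190878)) (tt N87319 F381436) (tt N115856 F497256) (tt N114198 (iv4 F495906)) (tt N115901 D219160) (tt N115774 (iv6 F496800)) (tt N87320 F381435))
theorem Q87999 : ∀ i, i < 87999 → P i := stepQ 87998 Q87998 (allL N87998 (tt N52434 (iv1 D190879)) (tt N87321 F381425) (tt N87320 F381427) (tt N115902 D219161) (tt N93920 F402434) (tt N113273 (iv5 F484814)) (tt N87279 (iv6 F381426)) (tt N87319 (iv7 F381437)))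
theorem Q88000 : ∀ i, i < 88000 → P i := stepQ 87999 Q87999 (allL N87999 (tt N115903 D219162) (tt N111585 (iv0 F477022)) (tt N55279 F381428) (tt N90532 (iv3 F389988)) (tt N91586 (iv4 F393707)) (tt N52434 (iv5 D190880)) (tt N52435 F381429) (tt N115904 D219163))
theorem Q88001 : ∀ i, i < 88001 → P i := stepQ 88000 Q88000 (allL N88000 (tt N87320 (iv1 F381434)) (tt N87319 F381438) (tt N87321 F381430) (tt N79640 F381431) (tt N115900 (iv4 F497485)) (tt N115904 (iv5 F497510)) (tt N79639 F381432) (tt N52434 (iv7 D190881)))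
theorem Q88002 : ∀ i, i < 88002 → P i := stepQ 88001 Q88001 (allL N88001 (tt N87309 (iv1 F381443)) (tt N82937 F381442) (tt N52436 (iv2 D190882)) (tt N52461 F381439) (tt N107239 (iv4 F457597)) (tt N87763 F381440) (tt N115905 D219164) (tt N87328 F381441))
theorem Q88003 : ∀ i, i < 88003 → P i := stepQ 88002 Q88002 (allL N88002 (tt N95655 (iv1 F409018)) (tt N95652 (iv0 F409012)) (tt N115905 (iv2 F497514)) (tt N52437 F381444) (tt N95433 (iv4 F408174)) (tt N87767 F381445) (tt N52436 (iv6 D190883)) (tt N110599 (iv7 F472318)))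
theorem Q88004 : ∀ i, i < 88004 → P i := stepQ 88003 Q88003 (allL N88003 (tt N87327 (iv1 F381450)) (tt N52437 (iv0 D190884)) (tt N87325 (iv2 F478514)) (tt N115906 D219165) (tt N115907 D219166) (tt N112409 (iv5 F480982)) (tt N111888 F478513) (tt N87326 (iv7 F478515)))
theorem Q88005 : ∀ i, i < 88005 → P i := stepQ 88004 Q88004 (allL N88004 (tt N52437 (iv1 D190885)) (tt N87327 F381446) (tt N87326 (iv2 F478516)) (tt N115861 (iv3 F497285)) (tt N115908 D219167) (tt N115909 D219168) (tt N115910 D219169) (tt N87325 F478517))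
theorem Q88006 : ∀ i, i < 88006 → P i := stepQ 88005 Q88005 (allL N88005 (tt N87326 (iv1 F381451)) (tt N87325 F381452) (tt N87327 F381447) (tt N110599 (iv3 F472321)) (tt N108165 (iv4 F461361)) (tt N87772 F381448) (tt N87334 F381449) (tt N52437 (iv7 D190886)))
theorem Q88007 : ∀ i, i < 88007 → P i := stepQ 88006 Q88006 (allL N88006 (tt N113824 (iv1 F487305)) (tt N115911 D219170) (tt N114152 (iv2 F488765)) (tt N110955 (iv3 F473951)) (tt N52438 (iv4 D190887)) (tt N54539 F381454) (tt N115912 D219171) (tt N87322 F381453))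
theorem Q88008 : ∀ i, i < 88008 → P i := stepQ 88007 Q88007 (allL N88007 (tt N52552 F381457) (tt N114191 F488924) (tt N114153 (iv2 F488769)) (tt N52439 F381455) (tt N115912 (iv4 F497553)) (tt N87801 F381456) (tt N52438 (iv6 D190888)) (tt N114190 (iv7 F488912)))
theorem Q88009 : ∀ i, i < 88009 → P i := stepQ 88008 Q88008 (allL N88008 (tt N87334 (iv1 F381460)) (tt N52439 (iv0 D190889)) (tt N81172 (iv2 F381459)) (tt N115865 F497306) (tt N110134 (iv4 F470119)) (tt N81171 F381458) (tt N115913 D219172) (tt N87333 (iv7 F381461)))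
theorem Q88010 : ∀ i, i < 88010 → P i := stepQ 88009 Q88009 (allL N88009 (tt N52439 (iv1 D190890)) (tt N87334 F381462) (tt N87333 (iv2 F381466)) (tt N80813 F381465) (tt N99590 (iv4 F425308)) (tt N80812 (iv5 F381464)) (tt N115884 (iv6 F497403)) (tt N81172 F381463))
theorem Q88011 : ∀ i, i < 88011 → P i := stepQ 88010 Q88010 (allL N88010 (tt N87333 (iv1 F381471)) (tt N81172 F381472) (tt N87334 F381467) (tt N114190 F488913) (tt N77484 F381468) (tt N79473 F381469) (tt N87327 F381470) (tt N52439 (iv7 D190891)))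
theorem Q88012 : ∀ i, i < 88012 → P i := stepQ 88011 Q88011 (allL N88011 (tt N115914 D219173) (tt N115915 D219174) (tt N115916 D219175) (tt N52440 (iv3 D190892)) (tt N115917 D219176) (tt N54230 F381473) (tt N115918 D219177) (tt N54229 F381474))
theorem Q88013 : ∀ i, i < 88013 → P i := stepQ 88012 Q88012 (allL N88012 (tt N115907 (iv1 F497532)) (tt N115908 (iv0 F497535)) (tt N55392 F381475) (tt N115918 (iv3 F497578)) (tt N52527 F381476) (tt N115919 D219178) (tt N52440 (iv6 D190893)) (tt N115920 D219179))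
theorem Q88014 : ∀ i, i < 88014 → P i := stepQ 88013 Q88013 (allL N88013 (tt N110134 (iv1 F470122)) (tt N99590 (iv0 F425309)) (tt N54231 F381480) (tt N52441 (iv3 D190894)) (tt N52528 F381477) (tt N54116 F381478) (tt N52441 (iv6 F381481)) (tt N55391 F381479))
theorem Q88015 : ∀ i, i < 88015 → P i := stepQ 88014 Q88014 (allL N88014 (tt N105360 (iv1 F449883)) (tt N52442 (iv0 D190895)) (tt N115921 D219180) (tt N115922 D219181) (tt N115923 D219182) (tt N115924 D219183) (tt N115925 D219184) (tt N115926 D219185))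
theorem Q88016 : ∀ i, i < 88016 → P i := stepQ 88015 Q88015 (allL N88015 (tt N52442 (iv1 D190896)) (tt N105360 F449882) (tt N115926 (iv2 F497615)) (tt N115927 D219186) (tt N114161 (iv4 F488802)) (tt N115928 D219187) (tt N115929 D219188) (tt N115921 F497593))
theorem Q88017 : ∀ i, i < 88017 → P i := stepQ 88016 Q88016 (allL N88016 (tt N115921 F497597) (tt N115926 F497618) (tt N52442 (iv2 D190897)) (tt N73547 F381482) (tt N88124 (iv4 F381849)) (tt N73546 (iv5 F381483)) (tt N88123 F381846) (tt N105360 (iv7 F449881)))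
theorem Q88018 : ∀ i, i < 88018 → P i := stepQ 88017 Q88017 (allL N88017 (tt N101530 (iv1 F433267)) (tt N105359 F449877) (tt N73546 F381484) (tt N52443 F381485) (tt N115930 D219189) (tt N52442 (iv5 D190898)) (tt N115931 D219190) (tt N55382 (iv7 F381486)))
theorem Q88019 : ∀ i, i < 88019 → P i := stepQ 88018 Q88018 (allL N88018 (tt N115926 (iv1 F497619)) (tt N115921 (iv0 F497598)) (tt N105360 (iv2 F449879)) (tt N52444 F381487) (tt N115872 (iv4 F497331)) (tt N55382 F381488) (tt N115932 D219191) (tt N52442 (iv7 D190899)))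
theorem Q88020 : ∀ i, i < 88020 → P i := stepQ 88019 Q88019 (allL N88019 (tt N71909 (iv1 F381493)) (tt N71908 (iv0 F381495)) (tt N55377 F381489) (tt N115931 (iv3 F497645)) (tt N55362 F381490) (tt N57075 F381491) (tt N52443 (iv6 D190900)) (tt N71901 F381492))
theorem Q88021 : ∀ i, i < 88021 → P i := stepQ 88020 Q88020 (allL N88020 (tt N115933 D219192) (tt N115934 D219193) (tt N87335 F381496) (tt N115932 (iv3 F497651)) (tt N52445 F381497) (tt N115935 D219194) (tt N52444 (iv6 D190901)) (tt N115889 (iv7 F497431)))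
theorem Q88022 : ∀ i, i < 88022 → P i := stepQ 88021 Q88021 (allL N88021 (tt N87300 (iv1 F381498)) (tt N52445 (iv0 D190902)) (tt N87336 (iv2 F488995)) (tt N115936 D219195) (tt N115680 (iv4 F496281)) (tt N114209 F489005) (tt N115937 D219196) (tt N87337 (iv7 F488997)))
theorem Q88023 : ∀ i, i < 88023 → P i := stepQ 88022 Q88022 (allL N88022 (tt N52445 (iv1 D190903)) (tt N87300 F381499) (tt N87337 F488996) (tt N114157 (iv3 F488791)) (tt N115681 (iv4 F496286)) (tt N114208 (iv5 F488988)) (tt N115938 D219197) (tt N87336 F488994))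
theorem Q88024 : ∀ i, i < 88024 → P i := stepQ 88023 Q88023 (allL N88023 (tt N108861 (iv1 F488840)) (tt N114171 F488835) (tt N84504 F381500) (tt N115939 D219198) (tt N52446 (iv4 D190904)) (tt N115940 D219199) (tt N115941 D219200) (tt N87338 F381501))
theorem Q88025 : ∀ i, i < 88025 → P i := stepQ 88024 Q88024 (allL N88024 (tt N100674 (iv1 F429960)) (tt N115942 D219201) (tt N84505 F381502) (tt N52448 F381503) (tt N115941 (iv4 F497691)) (tt N80074 F381504) (tt N52446 (iv6 D190905)) (tt N114834 (iv7 F492116)))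
theorem Q88026 : ∀ i, i < 88026 → P i := stepQ 88025 Q88025 (allL N88025 (tt N90370 F401526) (tt N90375 (iv0 F389447)) (tt N115943 D219202) (tt N52447 (iv3 D190906)) (tt N115939 (iv4 F497684)) (tt N86755 F381505) (tt N115944 D219203) (tt N87340 F381506))
theorem Q88027 : ∀ i, i < 88027 → P i := stepQ 88026 Q88026 (allL N88026 (tt N94874 F406211) (tt N94859 (iv0 F429961)) (tt N84530 F381507) (tt N115944 (iv3 F497707)) (tt N52448 F381508) (tt N101576 (iv5 F433437)) (tt N52447 (iv6 D190907)) (tt N94873 (iv7 F406206)))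
theorem Q88028 : ∀ i, i < 88028 → P i := stepQ 88027 Q88027 (allL N88027 (tt N84533 (iv1 F381521)) (tt N52448 (iv0 D190908)) (tt N84531 (iv2 F381511)) (tt N104993 (iv3 F448289)) (tt N101544 (iv4 F433328)) (tt N78504 F381509) (tt N84549 F381510) (tt N84532 (iv7 F381512)))
theorem Q88029 : ∀ i, i < 88029 → P i := stepQ 88028 Q88028 (allL N88028 (tt N52448 (iv1 D190909)) (tt N84533 F381515) (tt N84532 (iv2 F381518)) (tt N111418 (iv3 F476259)) (tt N79188 (iv4 F381519)) (tt N55487 F381517) (tt N114145 (iv6 F488737)) (tt N84531 F381516))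
theorem Q88030 : ∀ i, i < 88030 → P i := stepQ 88029 Q88029 (allL N88029 (tt N84532 (iv1 F381524)) (tt N84531 F381525) (tt N84533 F381522) (tt N114834 (iv3 F492114)) (tt N94873 (iv4 F406207)) (tt N91305 (iv5 F392641)) (tt N87344 F381523) (tt N52448 (iv7 D190910)))
theorem Q88031 : ∀ i, i < 88031 → P i := stepQ 88030 Q88030 (allL N88030 (tt N54159 F381528) (tt N115128 (iv0 F493627)) (tt N54182 F381526) (tt N108357 (iv3 F462230)) (tt N114197 (iv4 F488949)) (tt N54096 F381527) (tt N52450 (iv6 D190911)) (tt N115945 D219204))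
theorem Q88032 : ∀ i, i < 88032 → P i := stepQ 88031 Q88031 (allL N88031 (tt N99361 F424277) (tt N102673 (iv0 F438156)) (tt N55366 F381529) (tt N54760 F381530) (tt N85914 F381531) (tt N83060 F381532) (tt N52451 (iv6 D190912)) (tt N86162 F381533))
theorem Q88033 : ∀ i, i < 88033 → P i := stepQ 88032 Q88032 (allL N88032 (tt N110299 F470919) (tt N115946 D219205) (tt N55375 F381534) (tt N88466 F383169) (tt N90301 (iv4 F389277)) (tt N55347 F381535) (tt N52452 (iv6 D190913)) (tt N115947 D219206))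
theorem Q88034 : ∀ i, i < 88034 → P i := stepQ 88033 Q88033 (allL N88033 (tt N115330 (iv1 F494627)) (tt N115176 (iv0 F493869)) (tt N87168 F381536) (tt N86642 F381537) (tt N52454 (iv4 D190914)) (tt N115277 F494338) (tt N115782 (iv6 F496845)) (tt N112876 (iv7 F483093)))
theorem Q88035 : ∀ i, i < 88035 → P i := stepQ 88034 Q88034 (allL N88034 (tt N87289 (iv1 F381552)) (tt N79316 (iv0 F381541)) (tt N52458 F381538) (tt N79024 F381539) (tt N111057 F474453) (tt N52455 (iv5 D190915)) (tt N52456 F381540) (tt N111889 (iv7 F478519)))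
theorem Q88036 : ∀ i, i < 88036 → P i := stepQ 88035 Q88035 (allL N88035 (tt N114155 (iv1 F488779)) (tt N114154 F488776) (tt N52462 F381542) (tt N88166 (iv3 F381979)) (tt N52456 (iv4 D190916)) (tt N54362 F381543) (tt N111057 (iv6 F474451)) (tt N88165 F381975))
theorem Q88037 : ∀ i, i < 88037 → P i := stepQ 88036 Q88036 (allL N88036 (tt N115880 (iv1 F497377)) (tt N64401 (iv0 F381545)) (tt N87276 F381544) (tt N85824 (iv3 F381546)) (tt N52457 (iv4 D190917)) (tt N84371 (iv5 F391025)) (tt N99769 (iv6 F426147)) (tt N91027 (iv7 F391649)))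
theorem Q88038 : ∀ i, i < 88038 → P i := stepQ 88037 Q88037 (allL N88037 (tt N113918 (iv1 F487786)) (tt N113708 (iv0 F486758)) (tt N87277 F381547) (tt N115875 (iv3 F497345)) (tt N115948 D219207) (tt N52457 (iv5 D190918)) (tt N111470 F476486) (tt N113917 (iv7 F487779)))
theorem Q88039 : ∀ i, i < 88039 → P i := stepQ 88038 Q88038 (allL N88038 (tt N89917 (iv1 F408259)) (tt N102950 F439399) (tt N75189 F381548) (tt N95461 (iv3 F408265)) (tt N99769 (iv4 F426145)) (tt N95459 (iv5 F408258)) (tt N52457 (iv6 D190919)) (tt N102951 (iv7 F439406)))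
theorem Q88040 : ∀ i, i < 88040 → P i := stepQ 88039 Q88039 (allL N88039 (tt N111889 (iv1 F478518)) (tt N52458 (iv0 D190920)) (tt N87289 (iv2 F381549)) (tt N95646 (iv3 F408994)) (tt N111462 (iv4 F476456)) (tt N84209 F381550) (tt N111885 (iv6 F478495)) (tt N79316 F381551))
theorem Q88041 : ∀ i, i < 88041 → P i := stepQ 88040 Q88040 (allL N88040 (tt N111059 F474462) (tt N80254 (iv0 F391528)) (tt N111057 F474452) (tt N108503 (iv3 F462876)) (tt N52458 (iv4 D190921)) (tt N108501 F462872) (tt N52462 F381554) (tt N111058 (iv7 F474454)))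
theorem Q88042 : ∀ i, i < 88042 → P i := stepQ 88041 Q88041 (allL N88041 (tt N79316 (iv1 F381557)) (tt N87289 F381558) (tt N111889 F478522) (tt N52472 F381555) (tt N111058 (iv4 F474455)) (tt N52459 F381556) (tt N114158 (iv6 F488793)) (tt N52458 (iv7 D190922)))
theorem Q88043 : ∀ i, i < 88043 → P i := stepQ 88042 Q88042 (allL N88042 (tt N115911 (iv1 F497548)) (tt N113824 (iv0 F487304)) (tt N87322 F381559) (tt N115949 D219208) (tt N52461 (iv4 D190923)) (tt N54536 F381560) (tt N115950 D219209) (tt N114152 (iv7 F488767)))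
theorem Q88044 : ∀ i, i < 88044 → P i := stepQ 88043 Q88043 (allL N88043 (tt N79630 F381564) (tt N79652 F381565) (tt N79651 F381562) (tt N115905 (iv3 F497515)) (tt N115950 (iv4 F497739)) (tt N87646 F381563) (tt N52461 (iv6 D190924)) (tt N79650 (iv7 F443893)))
theorem Q88045 : ∀ i, i < 88045 → P i := stepQ 88044 Q88044 (allL N88044 (tt N88165 (iv1 F381977)) (tt N52462 (iv0 D190925)) (tt N114155 (iv2 F488784)) (tt N115951 D219210) (tt N115802 (iv4 F496969)) (tt N54532 F383642) (tt N100725 F430183) (tt N114154 F488778))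
theorem Q88046 : ∀ i, i < 88046 → P i := stepQ 88045 Q88045 (allL N88045 (tt N52462 (iv1 D190926)) (tt N88165 F381976) (tt N114154 F488777) (tt N115952 D219211) (tt N114184 (iv4 F488886)) (tt N54533 F381566) (tt N115953 D219212) (tt N114155 (iv7 F488780)))
theorem Q88047 : ∀ i, i < 88047 → P i := stepQ 88046 Q88046 (allL N88046 (tt N91001 F391527) (tt N95396 F408111) (tt N54362 F381567) (tt N74029 F381568) (tt N53370 (iv4 F381569)) (tt N52462 (iv5 D190927)) (tt N53369 F381570) (tt N95395 (iv7 F408106)))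
theorem Q88048 : ∀ i, i < 88048 → P i := stepQ 88047 Q88047 (allL N88047 (tt N115879 F497376) (tt N115954 D219213) (tt N81190 F381571) (tt N52464 F381572) (tt N81141 (iv4 F381575)) (tt N52463 (iv5 D190928)) (tt N80819 F381573) (tt N87207 F381574))
theorem Q88049 : ∀ i, i < 88049 → P i := stepQ 88048 Q88048 (allL N88048 (tt N52465 (iv1 D190929)) (tt N58886 F381576) (tt N87203 F381581) (tt N102950 (iv3 F439397)) (tt N62389 F381578) (tt N59832 F381579) (tt N87287 (iv6 F381580)) (tt N87197 F381577))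
theorem Q88050 : ∀ i, i < 88050 → P i := stepQ 88049 Q88049 (allL N88049 (tt N95480 (iv1 F408340)) (tt N95479 F408345) (tt N95482 (iv2 F408343)) (tt N52467 F381582) (tt N115955 D219214) (tt N52466 (iv5 D190930)) (tt N113681 (iv6 F486608)) (tt N87202 F381583))
theorem Q88051 : ∀ i, i < 88051 → P i := stepQ 88050 Q88050 (allL N88050 (tt N59725 (iv1 F381589)) (tt N59724 F381590) (tt N59727 F381584) (tt N52468 F381585) (tt N58889 F381586) (tt N63225 (iv5 F381588)) (tt N52466 (iv6 D190931)) (tt N58887 F381587))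
theorem Q88052 : ∀ i, i < 88052 → P i := stepQ 88051 Q88051 (allL N88051 (tt N84557 (iv1 F381594)) (tt N55497 (iv0 F381593)) (tt N87210 F381591) (tt N113681 F486606) (tt N79323 F381592) (tt N111664 (iv5 F477373)) (tt N52467 (iv6 D190932)) (tt N88058 (iv7 F381619)))
theorem Q88053 : ∀ i, i < 88053 → P i := stepQ 88052 Q88052 (allL N88052 (tt N87745 F381598) (tt N87743 F381599) (tt N87211 F381595) (tt N63225 F381596) (tt N68710 F381597) (tt N52468 (iv5 D190933)) (tt N111664 (iv6 F477374)) (tt N88376 (iv7 F382800)))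
theorem Q88054 : ∀ i, i < 88054 → P i := stepQ 88053 Q88053 (allL N88053 (tt N87265 F381602) (tt N87257 F381603) (tt N87263 F381604) (tt N52469 (iv3 D190934)) (tt N115956 D219215) (tt N84204 F381600) (tt N90959 (iv6 F391379)) (tt N87215 F381601))
theorem Q88055 : ∀ i, i < 88055 → P i := stepQ 88054 Q88054 (allL N88054 (tt N84518 F381607) (tt N114193 F488934) (tt N87214 F381605) (tt N90959 (iv3 F391378)) (tt N84579 F381606) (tt N90958 (iv5 F391374)) (tt N52469 (iv6 D190935)) (tt N91661 (iv7 F393932)))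
theorem Q88056 : ∀ i, i < 88056 → P i := stepQ 88055 Q88055 (allL N88055 (tt N95478 F408339) (tt N95476 (iv0 F408331)) (tt N115957 D219216) (tt N52470 (iv3 D190936)) (tt N115958 D219217) (tt N86997 F381608) (tt N111893 (iv6 F478536)) (tt N87212 F381609))
theorem Q88057 : ∀ i, i < 88057 → P i := stepQ 88056 Q88056 (allL N88056 (tt N115959 D219218) (tt N108628 (iv0 F463280)) (tt N115960 D219219) (tt N52471 (iv3 D190937)) (tt N108503 (iv4 F462878)) (tt N103151 (iv5 F440316)) (tt N52484 F381610) (tt N108532 (iv7 F462974)))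
theorem Q88058 : ∀ i, i < 88058 → P i := stepQ 88057 Q88057 (allL N88057 (tt N87218 (iv1 F381613)) (tt N87217 F381614) (tt N87221 F381611) (tt N108532 (iv3 F462973)) (tt N52472 F381612) (tt N91353 (iv5 F392838)) (tt N108530 (iv6 F462964)) (tt N52471 (iv7 D190938)))
theorem Q88059 : ∀ i, i < 88059 → P i := stepQ 88058 Q88058 (allL N88058 (tt N55511 F381620) (tt N91913 F394939) (tt N87232 F381617) (tt N112256 (iv3 F480243)) (tt N52474 F381618) (tt N111867 (iv5 F478397)) (tt N52473 (iv6 D190939)) (tt N88051 F381619))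
theorem Q88060 : ∀ i, i < 88060 → P i := stepQ 88059 Q88059 (allL N88059 (tt N52483 F381624) (tt N87241 F381625) (tt N87223 F381621) (tt N87309 F381622) (tt N115961 D219220) (tt N52475 (iv5 D190940)) (tt N115962 D219221) (tt N82939 F381623))
theorem Q88061 : ∀ i, i < 88061 → P i := stepQ 88060 Q88060 (allL N88060 (tt N87227 F381630) (tt N87226 F381629) (tt N52477 F381626) (tt N87234 F381627) (tt N112218 (iv4 F480103)) (tt N52476 (iv5 D190941)) (tt N115963 D219222) (tt N87224 F381628))
theorem Q88062 : ∀ i, i < 88062 → P i := stepQ 88061 Q88061 (allL N88061 (tt N77712 F381634) (tt N77711 (iv0 F381637)) (tt N52478 F381631) (tt N83219 F381632) (tt N52883 F381633) (tt N63192 F381635) (tt N52476 (iv6 D190942)) (tt N76246 (iv7 F381636)))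
theorem Q88063 : ∀ i, i < 88063 → P i := stepQ 88062 Q88062 (allL N88062 (tt N87224 (iv1 F381639)) (tt N52477 (iv0 D190943)) (tt N87227 (iv2 F381646)) (tt N115850 (iv3 F497227)) (tt N108852 (iv4 F464253)) (tt N91918 (iv5 F394954)) (tt N86909 (iv6 F394961)) (tt N87226 (iv7 F381647)))
theorem Q88064 : ∀ i, i < 88064 → P i := stepQ 88063 Q88063 (allL N88063 (tt N52477 (iv1 D190944)) (tt N87224 F381640) (tt N87226 F381642) (tt N87312 F381643) (tt N108843 (iv4 F464226)) (tt N83155 (iv5 F381641)) (tt N115964 D219223) (tt N87227 F381644))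
theorem Q88065 : ∀ i, i < 88065 → P i := stepQ 88064 Q88064 (allL N88064 (tt N108750 (iv1 F463808)) (tt N108752 (iv0 F463815)) (tt N115963 (iv2 F497790)) (tt N52480 F381648) (tt N112221 (iv4 F480115)) (tt N63775 F381649) (tt N52477 (iv6 D190945)) (tt N108290 (iv7 F461912)))
theorem Q88066 : ∀ i, i < 88066 → P i := stepQ 88065 Q88065 (allL N88065 (tt N52480 (iv1 D190946)) (tt N87240 F381650) (tt N87239 F381655) (tt N69465 (iv3 F381656)) (tt N66707 F381652) (tt N67022 F381653) (tt N66724 (iv6 F381654)) (tt N69455 F381651))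
theorem Q88067 : ∀ i, i < 88067 → P i := stepQ 88066 Q88066 (allL N88066 (tt N113898 (iv1 F487688)) (tt N113834 (iv0 F487353)) (tt N87268 F381657) (tt N111694 (iv3 F477528)) (tt N52481 (iv4 D190947)) (tt N115965 D219224) (tt N111691 F477512) (tt N87246 F381658))
theorem Q88068 : ∀ i, i < 88068 → P i := stepQ 88067 Q88067 (allL N88067 (tt N115906 (iv1 F497524)) (tt N115966 D219225) (tt N87269 F381659) (tt N52482 F381660) (tt N111691 (iv4 F477509)) (tt N86643 F381661) (tt N52481 (iv6 D190948)) (tt N112229 (iv7 F480156)))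
theorem Q88069 : ∀ i, i < 88069 → P i := stepQ 88068 Q88068 (allL N88068 (tt N86775 (iv1 F381663)) (tt N52482 (iv0 D190949)) (tt N79647 F381666) (tt N115967 D219226) (tt N87391 F381664) (tt N88433 (iv5 F383031)) (tt N79645 F381662) (tt N87244 (iv7 F381665)))
theorem Q88070 : ∀ i, i < 88070 → P i := stepQ 88069 Q88069 (allL N88069 (tt N52482 (iv1 D190950)) (tt N86775 F381669) (tt N87244 (iv2 F381672)) (tt N79652 (iv3 F381673)) (tt N87390 F381671) (tt N88432 (iv5 F383026)) (tt N115968 D219227) (tt N79647 F381670))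
theorem Q88071 : ∀ i, i < 88071 → P i := stepQ 88070 Q88070 (allL N88070 (tt N82939 (iv1 F381678)) (tt N87223 F381677) (tt N52483 (iv2 D190951)) (tt N87245 F381674) (tt N88120 (iv4 F381839)) (tt N83529 F381675) (tt N95390 (iv6 F408086)) (tt N87241 F381676))
theorem Q88072 : ∀ i, i < 88072 → P i := stepQ 88071 Q88071 (allL N88071 (tt N88090 (iv1 F381764)) (tt N88123 F381845) (tt N88120 F381840) (tt N111553 (iv3 F476887)) (tt N52483 (iv4 D190952)) (tt N107439 (iv5 F458341)) (tt N108205 F461489) (tt N87242 F381679))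
theorem Q88073 : ∀ i, i < 88073 → P i := stepQ 88072 Q88072 (allL N88072 (tt N108533 F462981) (tt N52484 (iv0 D190953)) (tt N74155 (iv2 F381681)) (tt N112244 (iv3 F480201)) (tt N62642 F381680) (tt N91888 (iv5 F394887)) (tt N115969 D219228) (tt N110965 (iv7 F473994)))
theorem Q88074 : ∀ i, i < 88074 → P i := stepQ 88073 Q88073 (allL N88073 (tt N52484 (iv1 D190954)) (tt N108533 (iv0 F462979)) (tt N110965 (iv2 F473992)) (tt N96815 F414090) (tt N69467 (iv4 F381683)) (tt N67402 (iv5 F381684)) (tt N52543 F381685) (tt N74155 F381682))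
theorem Q88075 : ∀ i, i < 88075 → P i := stepQ 88074 Q88074 (allL N88074 (tt N74155 F394883) (tt N110965 (iv0 F473995)) (tt N52484 (iv2 D190955)) (tt N87250 F381689) (tt N99649 (iv4 F425582)) (tt N91823 (iv5 F394558)) (tt N115960 (iv6 F497780)) (tt N108533 (iv7 F462980)))
theorem Q88076 : ∀ i, i < 88076 → P i := stepQ 88075 Q88075 (allL N88075 (tt N70359 F381693) (tt N112066 (iv0 F479330)) (tt N87349 F381690) (tt N86467 F381691) (tt N88758 (iv4 F384063)) (tt N52485 (iv5 D190956)) (tt N104148 (iv6 F444416)) (tt N87509 F381692))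
theorem Q88077 : ∀ i, i < 88077 → P i := stepQ 88076 Q88076 (allL N88076 (tt N87499 (iv1 F381700)) (tt N87129 F381699) (tt N60177 F381694) (tt N87397 F381695) (tt N60175 F381696) (tt N52486 (iv5 D190957)) (tt N52487 F381697) (tt N60179 F381698))
theorem Q88078 : ∀ i, i < 88078 → P i := stepQ 88077 Q88077 (allL N88077 (tt N86904 F381706) (tt N86911 F381707) (tt N60178 F381702) (tt N78281 F381703) (tt N52487 (iv4 D190958)) (tt N60799 F381708) (tt N60175 F381704) (tt N86910 F381705))
theorem Q88079 : ∀ i, i < 88079 → P i := stepQ 88078 Q88078 (allL N88078 (tt N83888 F381712) (tt N84401 F381713) (tt N80026 F381709) (tt N52491 F381710) (tt N64683 F381711) (tt N115369 (iv5 F494846)) (tt N52488 (iv6 D190959)) (tt N84241 (iv7 F381714)))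
theorem Q88080 : ∀ i, i < 88080 → P i := stepQ 88079 Q88079 (allL N88079 (tt N85455 F381717) (tt N85458 F381718) (tt N87395 F381715) (tt N52492 F381716) (tt N105783 F451699) (tt N52489 (iv5 D190960)) (tt N115369 (iv6 F494847)) (tt N111729 F477705))
theorem Q88081 : ∀ i, i < 88081 → P i := stepQ 88080 Q88080 (allL N88080 (tt N110772 (iv1 F473126)) (tt N110770 (iv0 F473114)) (tt N57340 F381719) (tt N64684 F381720) (tt N52491 F381721) (tt N57339 F381722) (tt N52490 (iv6 D190961)) (tt N104235 (iv7 F444854)))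
theorem Q88082 : ∀ i, i < 88082 → P i := stepQ 88081 Q88081 (allL N88081 (tt N52613 F381726) (tt N115822 F497085) (tt N87346 F381723) (tt N115369 (iv3 F494845)) (tt N60192 F381725) (tt N52491 (iv5 D190962)) (tt N52492 F381724) (tt N97239 (iv7 F416026)))
theorem Q88083 : ∀ i, i < 88083 → P i := stepQ 88082 Q88082 (allL N88082 (tt N115840 (iv1 F497176)) (tt N104887 (iv0 F447812)) (tt N87347 F381727) (tt N105784 (iv3 F451703)) (tt N52492 (iv4 D190963)) (tt N115970 D219229) (tt N60192 F381728) (tt N113564 (iv7 F486052)))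
theorem Q88084 : ∀ i, i < 88084 → P i := stepQ 88083 Q88083 (allL N88083 (tt N115971 D219230) (tt N111786 (iv0 F477966)) (tt N52505 F381729) (tt N85780 F381730) (tt N115972 D219231) (tt N52494 (iv5 D190964)) (tt N52497 F381731) (tt N115973 D219232))
theorem Q88085 : ∀ i, i < 88085 → P i := stepQ 88084 Q88084 (allL N88084 (tt N52504 (iv1 F381736)) (tt N52503 F381737) (tt N52506 F381732) (tt N85781 F381733) (tt N60001 F381734) (tt N115973 (iv5 F497850)) (tt N87353 F381735) (tt N52494 (iv7 D190965)))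
theorem Q88086 : ∀ i, i < 88086 → P i := stepQ 88085 Q88085 (allL N88085 (tt N84522 F381742) (tt N91767 (iv0 F394357)) (tt N52508 F381738) (tt N79254 F381739) (tt N108851 (iv4 F464250)) (tt N52495 (iv5 D190966)) (tt N79253 F381740) (tt N52512 F381741))
theorem Q88087 : ∀ i, i < 88087 → P i := stepQ 88086 Q88086 (allL N88086 (tt N52757 F381747) (tt N87222 (iv0 F381748)) (tt N52511 F381743) (tt N78998 F381744) (tt N52496 (iv4 D190967)) (tt N115974 D219233) (tt N87516 F381745) (tt N52507 F381746))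
theorem Q88088 : ∀ i, i < 88088 → P i := stepQ 88087 Q88087 (allL N88087 (tt N91767 (iv1 F394356)) (tt N84522 (iv0 F381752)) (tt N52512 F381749) (tt N52540 F381750) (tt N108850 (iv4 F464246)) (tt N52496 (iv5 D190968)) (tt N109662 (iv6 F467984)) (tt N52508 F381751))
theorem Q88089 : ∀ i, i < 88089 → P i := stepQ 88088 Q88088 (allL N88088 (tt N52517 F381755) (tt N52497 (iv0 D190969)) (tt N52514 (iv2 F381754)) (tt N115802 F496974) (tt N115975 D219234) (tt N55388 F381753) (tt N115976 D219235) (tt N52515 (iv7 F381756)))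
theorem Q88090 : ∀ i, i < 88090 → P i := stepQ 88089 Q88089 (allL N88089 (tt N52497 (iv1 D190970)) (tt N52517 F381757) (tt N52515 (iv2 F381761)) (tt N52543 (iv3 F381760)) (tt N115977 D219236) (tt N54945 F381759) (tt N96815 F414091) (tt N52514 F381758))
theorem Q88091 : ∀ i, i < 88091 → P i := stepQ 88090 Q88090 (allL N88090 (tt N100746 F430277) (tt N88071 F381764) (tt N52516 F381762) (tt N87980 F381763) (tt N52497 (iv4 D190971)) (tt N81135 (iv5 F392151)) (tt N115972 (iv6 F497843)) (tt N87978 (iv7 F381765)))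
theorem Q88092 : ∀ i, i < 88092 → P i := stepQ 88091 Q88091 (allL N88091 (tt N52515 (iv1 F381770)) (tt N52514 F381771) (tt N52517 F381766) (tt N87399 F381767) (tt N87978 F381768) (tt N52498 F381769) (tt N87957 (iv6 F381773)) (tt N52497 (iv7 D190972)))
theorem Q88093 : ∀ i, i < 88093 → P i := stepQ 88092 Q88092 (allL N88092 (tt N54984 (iv1 F390764)) (tt N54559 (iv0 F381777)) (tt N74187 F381774) (tt N54551 F381775) (tt N108833 (iv4 F464171)) (tt N52499 (iv5 D190973)) (tt N54939 F381776) (tt N103998 (iv7 F443714)))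
theorem Q88094 : ∀ i, i < 88094 → P i := stepQ 88093 Q88093 (allL N88093 (tt N54973 F381782) (tt N59999 (iv0 F381783)) (tt N63440 F381778) (tt N52866 F381779) (tt N52869 F381780) (tt N63386 F381781) (tt N52500 (iv6 D190974)) (tt N75211 (iv7 F381784)))
theorem Q88095 : ∀ i, i < 88095 → P i := stepQ 88094 Q88094 (allL N88094 (tt N115978 D219237) (tt N115979 D219238) (tt N106811 (iv2 F455780)) (tt N98128 (iv3 F419582)) (tt N115980 D219239) (tt N52503 (iv5 D190975)) (tt N60757 F381785) (tt N111783 (iv7 F477953)))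
theorem Q88096 : ∀ i, i < 88096 → P i := stepQ 88095 Q88095 (allL N88095 (tt N84031 F381788) (tt N109546 F467455) (tt N98129 (iv2 F419588)) (tt N52504 (iv3 D190976)) (tt N77149 F381787) (tt N114014 F488204) (tt N105290 (iv6 F449587)) (tt N77346 F381786))
theorem Q88097 : ∀ i, i < 88097 → P i := stepQ 88096 Q88096 (allL N88096 (tt N95477 F408336) (tt N95475 (iv0 F408328)) (tt N111761 (iv2 F477834)) (tt N69237 F381789) (tt N52504 (iv4 D190977)) (tt N69232 F381792) (tt N63246 (iv6 F381791)) (tt N77348 F381790))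
theorem Q88098 : ∀ i, i < 88098 → P i := stepQ 88097 Q88097 (allL N88097 (tt N115979 (iv1 F497885)) (tt N115978 F497880) (tt N111783 (iv2 F477951)) (tt N114014 (iv3 F488205)) (tt N115981 D219240) (tt N52504 (iv5 D190978)) (tt N113671 (iv6 F486559)) (tt N106811 (iv7 F455782)))
theorem Q88099 : ∀ i, i < 88099 → P i := stepQ 88098 Q88098 (allL N88098 (tt N87500 F381796) (tt N81505 F381797) (tt N91549 F393608) (tt N105290 F449584) (tt N63246 F381793) (tt N60171 (iv5 F381795)) (tt N52504 (iv6 D190979)) (tt N77806 F381794))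
theorem Q88100 : ∀ i, i < 88100 → P i := stepQ 88099 Q88099 (allL N88099 (tt N115973 (iv1 F497853)) (tt N52505 (iv0 D190980)) (tt N115971 F497838) (tt N98132 F419610) (tt N115563 (iv4 F495797)) (tt N98475 (iv5 F421044)) (tt N115982 D219241) (tt N111786 (iv7 F477965)))
theorem Q88101 : ∀ i, i < 88101 → P i := stepQ 88100 Q88100 (allL N88100 (tt N52505 (iv1 D190981)) (tt N115973 F497852) (tt N111786 (iv2 F477963)) (tt N79315 (iv3 F474456)) (tt N115983 D219242) (tt N115820 (iv5 F497069)) (tt N79314 F474457) (tt N115971 (iv7 F497839)))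
theorem Q88102 : ∀ i, i < 88102 → P i := stepQ 88101 Q88101 (allL N88101 (tt N115521 F495618) (tt N115984 D219243) (tt N115972 (iv2 F497841)) (tt N111692 F477519) (tt N52505 (iv4 D190982)) (tt N115985 D219244) (tt N52516 F381798) (tt N111699 (iv7 F477561)))
theorem Q88103 : ∀ i, i < 88103 → P i := stepQ 88102 Q88102 (allL N88102 (tt N111786 F477967) (tt N115971 F497840) (tt N115973 (iv2 F497847)) (tt N52525 F381799) (tt N111699 (iv4 F477558)) (tt N52506 F381800) (tt N115986 D219245) (tt N52505 (iv7 D190983)))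
theorem Q88104 : ∀ i, i < 88104 → P i := stepQ 88103 Q88103 (allL N88103 (tt N113996 F488118) (tt N113951 (iv0 F487934)) (tt N113597 (iv2 F486223)) (tt N86468 F381801) (tt N110100 (iv4 F469987)) (tt N52507 (iv5 D190984)) (tt N110099 F469985) (tt N115974 (iv7 F497857)))
theorem Q88105 : ∀ i, i < 88105 → P i := stepQ 88104 Q88104 (allL N88104 (tt N112398 (iv1 F480934)) (tt N90637 (iv0 F391416)) (tt N112397 (iv2 F480926)) (tt N86469 F381802) (tt N52509 F381803) (tt N115987 D219246) (tt N52507 (iv6 D190985)) (tt N112396 F480921))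
theorem Q88106 : ∀ i, i < 88106 → P i := stepQ 88105 Q88105 (allL N88105 (tt N52512 (iv1 F381806)) (tt N52508 (iv0 D190986)) (tt N84522 (iv2 F381805)) (tt N87410 F381807) (tt N115537 (iv4 F495684)) (tt N83562 F381804) (tt N108589 F463173) (tt N91767 (iv7 F394355)))
theorem Q88107 : ∀ i, i < 88107 → P i := stepQ 88106 Q88106 (allL N88106 (tt N108843 (iv1 F464225)) (tt N108852 F464255) (tt N108851 F464251) (tt N115988 D219247) (tt N52508 (iv4 D190987)) (tt N96172 (iv5 F463382)) (tt N115989 D219248) (tt N108850 F464248))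
theorem Q88108 : ∀ i, i < 88108 → P i := stepQ 88107 Q88107 (allL N88107 (tt N111480 (iv1 F476536)) (tt N111418 F476263) (tt N79253 F381808) (tt N111485 (iv3 F476561)) (tt N115989 (iv4 F497928)) (tt N79252 F381809) (tt N52508 (iv6 D190988)) (tt N111479 (iv7 F476533)))
theorem Q88109 : ∀ i, i < 88109 → P i := stepQ 88108 Q88108 (allL N88108 (tt N111486 (iv1 F476565)) (tt N89945 (iv0 F388070)) (tt N111487 (iv2 F476569)) (tt N52512 F381810) (tt N87994 F381812) (tt N52510 (iv5 D190989)) (tt N87993 (iv6 F381813)) (tt N79254 F381811))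
theorem Q88110 : ∀ i, i < 88110 → P i := stepQ 88109 Q88109 (allL N88109 (tt N113934 (iv1 F487862)) (tt N87101 (iv0 F387242)) (tt N113064 (iv2 F483808)) (tt N52513 F381814) (tt N83163 (iv4 F381816)) (tt N100127 (iv5 F427587)) (tt N52510 (iv6 D190990)) (tt N81557 F381815))
theorem Q88111 : ∀ i, i < 88111 → P i := stepQ 88110 Q88110 (allL N88110 (tt N113951 F487936) (tt N113996 F488117) (tt N115974 (iv2 F497854)) (tt N82614 F381822) (tt N115990 D219249) (tt N52511 (iv5 D190991)) (tt N88837 (iv6 F384296)) (tt N113597 (iv7 F486225)))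
theorem Q88112 : ∀ i, i < 88112 → P i := stepQ 88111 Q88111 (allL N88111 (tt N100334 (iv1 F428460)) (tt N91680 (iv0 F394016)) (tt N87516 F381823) (tt N53039 F381824) (tt N52513 F381825) (tt N76630 (iv5 F381827)) (tt N52511 (iv6 D190992)) (tt N87517 (iv7 F381826)))
theorem Q88113 : ∀ i, i < 88113 → P i := stepQ 88112 Q88112 (allL N88112 (tt N108852 (iv1 F464256)) (tt N108843 F464227) (tt N108850 F464247) (tt N87996 F381828) (tt N52512 (iv4 D190993)) (tt N115991 D219250) (tt N87995 (iv6 F381829)) (tt N108851 (iv7 F464249)))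
theorem Q88114 : ∀ i, i < 88114 → P i := stepQ 88113 Q88113 (allL N88113 (tt N110951 (iv1 F473937)) (tt N110957 F473966) (tt N109662 (iv2 F467982)) (tt N87993 F381830) (tt N87995 F381831) (tt N100128 (iv5 F427592)) (tt N52512 (iv6 D190994)) (tt N110956 (iv7 F473960)))
theorem Q88115 : ∀ i, i < 88115 → P i := stepQ 88114 Q88114 (allL N88114 (tt N115961 (iv1 F497785)) (tt N115837 (iv0 F497155)) (tt N115975 (iv2 F497861)) (tt N115992 D219251) (tt N52514 (iv4 D190995)) (tt N74539 (iv5 F381832)) (tt N101899 F434869) (tt N115977 (iv7 F497875)))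
theorem Q88116 : ∀ i, i < 88116 → P i := stepQ 88115 Q88115 (allL N88115 (tt N111403 (iv1 F476202)) (tt N96576 F434871) (tt N115976 (iv2 F497867)) (tt N114186 (iv3 F488895)) (tt N101899 (iv4 F434870)) (tt N112851 (iv5 F482964)) (tt N52514 (iv6 D190996)) (tt N115993 D219252))
theorem Q88117 : ∀ i, i < 88117 → P i := stepQ 88116 Q88116 (allL N88116 (tt N84032 F480210) (tt N114163 (iv0 F488808)) (tt N114184 (iv2 F488882)) (tt N52515 (iv3 D190997)) (tt N114154 (iv4 F488775)) (tt N113496 F485775) (tt N112245 (iv6 F480209)) (tt N115802 (iv7 F496972)))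
theorem Q88118 : ∀ i, i < 88118 → P i := stepQ 88117 Q88117 (allL N88117 (tt N115837 (iv1 F497156)) (tt N115961 (iv0 F497784)) (tt N115977 (iv2 F497873)) (tt N115994 D219253) (tt N52515 (iv4 D190998)) (tt N74540 F483138) (tt N115995 D219254) (tt N115975 (iv7 F497862)))
theorem Q88119 : ∀ i, i < 88119 → P i := stepQ 88118 Q88118 (allL N88118 (tt N53611 F381836) (tt N55389 F381835) (tt N54945 F381833) (tt N113496 (iv3 F485770)) (tt N88384 (iv4 F382841)) (tt N52515 (iv5 D190999)) (tt N54940 F381837) (tt N55388 F381834))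
theorem Q88120 : ∀ i, i < 88120 → P i := stepQ 88119 Q88119 (allL N88119 (tt N58524 F408859) (tt N58423 F408860) (tt N96815 F414089) (tt N112245 F480208) (tt N115995 (iv4 F497957)) (tt N95605 F408861) (tt N52515 (iv6 D191000)) (tt N96816 (iv7 F414094)))
theorem Q88121 : ∀ i, i < 88121 → P i := stepQ 88120 Q88120 (allL N88120 (tt N52516 (iv1 D191001)) (tt N87978 F381838) (tt N88071 (iv2 F381840)) (tt N100751 (iv3 F430289)) (tt N88070 F381839) (tt N115996 D219255) (tt N111695 (iv6 F477539)) (tt N100746 F430275))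
theorem Q88122 : ∀ i, i < 88122 → P i := stepQ 88121 Q88121 (allL N88121 (tt N94892 (iv1 F461509)) (tt N115577 F495842) (tt N111698 (iv2 F477552)) (tt N52516 (iv3 D191002)) (tt N52529 F381841) (tt N111381 F476098) (tt N111692 (iv6 F477515)) (tt N108209 F461508))
theorem Q88123 : ∀ i, i < 88123 → P i := stepQ 88122 Q88122 (allL N88122 (tt N81139 F381842) (tt N81137 (iv0 F479436)) (tt N81135 F392152) (tt N111381 (iv3 F476096)) (tt N89066 (iv4 F427611)) (tt N52516 (iv5 D191003)) (tt N89065 F427610) (tt N81136 (iv7 F392153)))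
theorem Q88124 : ∀ i, i < 88124 → P i := stepQ 88123 Q88123 (allL N88123 (tt N88071 (iv1 F381845)) (tt N100746 F430276) (tt N87978 F381843) (tt N108209 (iv3 F461505)) (tt N52517 F381844) (tt N81136 F392154) (tt N88016 (iv6 F381846)) (tt N52516 (iv7 D191004)))
theorem Q88125 : ∀ i, i < 88125 → P i := stepQ 88124 Q88124 (allL N88124 (tt N115997 D219256) (tt N115998 D219257) (tt N87957 F381847) (tt N52532 F381848) (tt N88016 F381849) (tt N84516 F381850) (tt N52517 (iv6 D191005)) (tt N115986 (iv7 F497915)))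
theorem Q88126 : ∀ i, i < 88126 → P i := stepQ 88125 Q88125 (allL N88125 (tt N115450 (iv1 F495252)) (tt N115999 D219258) (tt N87379 F381851) (tt N52519 F381852) (tt N116000 D219259) (tt N52518 (iv5 D191006)) (tt N111852 (iv6 F478312)) (tt N87423 F381853))
theorem Q88127 : ∀ i, i < 88127 → P i := stepQ 88126 Q88126 (allL N88126 (tt N52519 (iv1 D191007)) (tt N52520 F381854) (tt N87421 F381857) (tt N115979 F497887) (tt N99628 (iv4 F425485)) (tt N87894 (iv5 F381856)) (tt N87343 F381858) (tt N87420 F381855))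
theorem Q88128 : ∀ i, i < 88128 → P i := stepQ 88127 Q88127 (allL N88127 (tt N108911 (iv1 F464459)) (tt N93890 (iv0 F402298)) (tt N87422 F381859) (tt N93538 F401260) (tt N52519 (iv4 D191008)) (tt N103168 (iv5 F440380)) (tt N73604 F381860) (tt N87425 F381861))
theorem Q88129 : ∀ i, i < 88129 → P i := stepQ 88128 Q88128 (allL N88128 (tt N93890 (iv1 F402297)) (tt N108911 F464458) (tt N87425 F381862) (tt N114200 (iv3 F488955)) (tt N52520 (iv4 D191009)) (tt N103167 (iv5 F440373)) (tt N101559 F433394) (tt N87422 F381863))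
theorem Q88130 : ∀ i, i < 88130 → P i := stepQ 88129 Q88129 (allL N88129 (tt N87561 (iv1 F433396)) (tt N84527 (iv0 F381867)) (tt N87426 F381864) (tt N84544 F381865) (tt N101559 (iv4 F433393)) (tt N115471 (iv5 F495346)) (tt N52520 (iv6 D191010)) (tt N84552 F381866))
theorem Q88131 : ∀ i, i < 88131 → P i := stepQ 88130 Q88130 (allL N88130 (tt N102976 (iv1 F439522)) (tt N87084 F381870) (tt N87382 F381868) (tt N52522 (iv3 D191011)) (tt N116001 D219260) (tt N102971 (iv5 F439508)) (tt N116002 D219261) (tt N87428 F381869))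
theorem Q88132 : ∀ i, i < 88132 → P i := stepQ 88131 Q88131 (allL N88131 (tt N116003 D219262) (tt N114805 F491964) (tt N87427 F381871) (tt N116002 (iv3 F497993)) (tt N115887 (iv4 F497421)) (tt N55024 F381872) (tt N52522 (iv6 D191012)) (tt N116004 D219263))
theorem Q88133 : ∀ i, i < 88133 → P i := stepQ 88132 Q88132 (allL N88132 (tt N100549 F429432) (tt N114227 (iv0 F489095)) (tt N87429 F381873) (tt N79344 F381874) (tt N103439 (iv4 F441642)) (tt N79343 F381875) (tt N52523 (iv6 D191013)) (tt N111905 (iv7 F478570)))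
theorem Q88134 : ∀ i, i < 88134 → P i := stepQ 88133 Q88133 (allL N88133 (tt N111542 F476833) (tt N93399 (iv0 F400640)) (tt N111540 F476820) (tt N52524 (iv3 D191014)) (tt N111692 (iv4 F477513)) (tt N116005 D219264) (tt N52529 F381876) (tt N111541 (iv7 F476823)))
theorem Q88135 : ∀ i, i < 88135 → P i := stepQ 88134 Q88134 (allL N88134 (tt N81255 F381880) (tt N81257 F381882) (tt N81254 F381877) (tt N116005 (iv3 F498006)) (tt N62464 F381878) (tt N52524 (iv5 D191015)) (tt N62463 F381881) (tt N67083 F381879))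
theorem Q88136 : ∀ i, i < 88136 → P i := stepQ 88135 Q88135 (allL N88135 (tt N87431 (iv1 F381887)) (tt N87430 F381888) (tt N87433 F381884) (tt N111541 (iv3 F476827)) (tt N52525 F381885) (tt N67083 F381886) (tt N116006 D219265) (tt N52524 (iv7 D191016)))
theorem Q88137 : ∀ i, i < 88137 → P i := stepQ 88136 Q88136 (allL N88136 (tt N87448 (iv1 F381892)) (tt N87447 F381893) (tt N87434 F381889) (tt N115986 (iv3 F497912)) (tt N116006 (iv4 F498013)) (tt N84521 F381890) (tt N52525 (iv6 D191017)) (tt N52532 F381891))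
theorem Q88138 : ∀ i, i < 88138 → P i := stepQ 88137 Q88137 (allL N88137 (tt N116007 D219266) (tt N115442 (iv0 F495218)) (tt N87388 F381894) (tt N115917 (iv3 F497575)) (tt N52526 (iv4 D191018)) (tt N116008 D219267) (tt N116009 D219268) (tt N87435 F381895))
theorem Q88139 : ∀ i, i < 88139 → P i := stepQ 88138 Q88138 (allL N88138 (tt N114833 (iv1 F492112)) (tt N116010 D219269) (tt N87389 F381896) (tt N52527 F381897) (tt N116009 (iv4 F498028)) (tt N52656 F381898) (tt N52526 (iv6 D191019)) (tt N113566 (iv7 F486062)))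
theorem Q88140 : ∀ i, i < 88140 → P i := stepQ 88139 Q88139 (allL N88139 (tt N55395 (iv1 F381904)) (tt N52527 (iv0 D191020)) (tt N55393 F394385) (tt N116011 D219270) (tt N115599 (iv4 F495934)) (tt N116012 D219271) (tt N114227 (iv6 F489096)) (tt N55394 F394386))
theorem Q88141 : ∀ i, i < 88141 → P i := stepQ 88140 Q88140 (allL N88140 (tt N52527 (iv1 D191021)) (tt N55395 F381899) (tt N55394 F394382) (tt N96576 (iv3 F413058)) (tt N96587 (iv4 F413086)) (tt N85694 (iv5 F381900)) (tt N96663 (iv6 F413359)) (tt N55393 F394383))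
theorem Q88142 : ∀ i, i < 88142 → P i := stepQ 88141 Q88141 (allL N88141 (tt N55394 (iv1 F381905)) (tt N55393 F381906) (tt N55395 F381901) (tt N113566 (iv3 F486060)) (tt N115920 (iv4 F497588)) (tt N82820 F381902) (tt N87438 F381903) (tt N52527 (iv7 D191022)))
theorem Q88143 : ∀ i, i < 88143 → P i := stepQ 88142 Q88142 (allL N88142 (tt N87438 (iv1 F381909)) (tt N52528 (iv0 D191023)) (tt N87437 F381912) (tt N58524 F381911) (tt N73505 F381908) (tt N58523 F381907) (tt N116013 D219272) (tt N73504 (iv7 F381910)))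
theorem Q88144 : ∀ i, i < 88144 → P i := stepQ 88143 Q88143 (allL N88143 (tt N52528 (iv1 D191024)) (tt N87438 F381913) (tt N73504 F381917) (tt N108519 (iv3 F462917)) (tt N73485 F381915) (tt N76169 (iv5 F381916)) (tt N116003 (iv6 F497996)) (tt N87437 F381914))
theorem Q88145 : ∀ i, i < 88145 → P i := stepQ 88144 Q88144 (allL N88144 (tt N115557 F495778) (tt N52529 (iv0 D191025)) (tt N116014 D219273) (tt N73451 (iv3 F381919)) (tt N94910 (iv4 F413944)) (tt N78074 F381918) (tt N94909 F413943) (tt N73535 F381920))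
theorem Q88146 : ∀ i, i < 88146 → P i := stepQ 88145 Q88145 (allL N88145 (tt N52529 (iv1 D191026)) (tt N115557 F495779) (tt N73535 (iv2 F404750)) (tt N116015 D219274) (tt N116016 D219275) (tt N116017 D219276) (tt N73450 (iv6 F381925)) (tt N116014 (iv7 F498056)))
theorem Q88147 : ∀ i, i < 88147 → P i := stepQ 88146 Q88146 (allL N88146 (tt N116014 (iv1 F498057)) (tt N73535 F381933) (tt N52529 (iv2 D191027)) (tt N87444 F381921) (tt N111698 (iv4 F477554)) (tt N73522 (iv5 F381929)) (tt N111540 (iv6 F476819)) (tt N115557 (iv7 F495777)))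
theorem Q88148 : ∀ i, i < 88148 → P i := stepQ 88147 Q88147 (allL N88147 (tt N73448 F381924) (tt N73523 F381926) (tt N73522 F381928) (tt N52530 F381922) (tt N116018 D219277) (tt N52529 (iv5 D191028)) (tt N116019 D219278) (tt N54198 (iv7 F381923)))
theorem Q88149 : ∀ i, i < 88149 → P i := stepQ 88148 Q88148 (allL N88148 (tt N73535 F381932) (tt N116014 F498058) (tt N115557 (iv2 F495773)) (tt N52531 F381930) (tt N108209 (iv4 F461506)) (tt N54198 F381931) (tt N108208 F461503) (tt N52529 (iv7 D191029)))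
theorem Q88150 : ∀ i, i < 88150 → P i := stepQ 88149 Q88149 (allL N88149 (tt N91750 (iv1 F394301)) (tt N89590 F386867) (tt N54186 F381934) (tt N116019 (iv3 F498085)) (tt N54104 F381935) (tt N62463 F381936) (tt N52530 (iv6 D191030)) (tt N106930 (iv7 F456324)))
theorem Q88151 : ∀ i, i < 88151 → P i := stepQ 88150 Q88150 (allL N88150 (tt N115608 (iv1 F495970)) (tt N115611 (iv0 F495975)) (tt N87446 F381937) (tt N108208 (iv3 F461498)) (tt N52532 F381938) (tt N116020 D219279) (tt N52531 (iv6 D191031)) (tt N116006 (iv7 F498015)))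
theorem Q88152 : ∀ i, i < 88152 → P i := stepQ 88151 Q88151 (allL N88151 (tt N87434 (iv1 F381939)) (tt N52532 (iv0 D191032)) (tt N87447 (iv2 F440256)) (tt N116021 D219280) (tt N115933 (iv4 F497654)) (tt N114213 (iv5 F489023)) (tt N115477 (iv6 F495383)) (tt N87448 F440257))
theorem Q88153 : ∀ i, i < 88153 → P i := stepQ 88152 Q88152 (allL N88152 (tt N52532 (iv1 D191033)) (tt N87434 F381940) (tt N87448 F440255) (tt N84520 F440253) (tt N115934 (iv4 F497661)) (tt N114211 (iv5 F489015)) (tt N103139 (iv6 F440252)) (tt N87447 (iv7 F440254)))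
theorem Q88154 : ∀ i, i < 88154 → P i := stepQ 88153 Q88153 (allL N88153 (tt N87107 F381944) (tt N89937 (iv0 F388056)) (tt N87348 F381941) (tt N52534 F381942) (tt N86440 F381945) (tt N52533 (iv5 D191034)) (tt N111798 (iv6 F478025)) (tt N86604 F381943))
theorem Q88155 : ∀ i, i < 88155 → P i := stepQ 88154 Q88154 (allL N88154 (tt N115845 (iv1 F497203)) (tt N91762 (iv0 F394341)) (tt N114183 (iv2 F488878)) (tt N95409 (iv3 F408130)) (tt N52538 (iv4 D191035)) (tt N115873 (iv5 F497333)) (tt N95430 (iv6 F408164)) (tt N114181 (iv7 F488873)))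
theorem Q88156 : ∀ i, i < 88156 → P i := stepQ 88155 Q88155 (allL N88155 (tt N91762 (iv1 F394342)) (tt N115845 (iv0 F497202)) (tt N114181 (iv2 F488872)) (tt N116022 D219281) (tt N52540 (iv4 D191036)) (tt N115874 (iv5 F497341)) (tt N116023 D219282) (tt N114183 (iv7 F488880)))
theorem Q88157 : ∀ i, i < 88157 → P i := stepQ 88156 Q88156 (allL N88156 (tt N114179 F488866) (tt N114225 F489084) (tt N114182 (iv2 F488874)) (tt N109662 (iv3 F467983)) (tt N116023 (iv4 F498105)) (tt N91365 (iv5 F392881)) (tt N52540 (iv6 D191037)) (tt N114224 (iv7 F489075)))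
theorem Q88158 : ∀ i, i < 88158 → P i := stepQ 88157 Q88157 (allL N88157 (tt N114163 (iv1 F488809)) (tt N84032 (iv0 F393742)) (tt N115802 F496970) (tt N52542 (iv3 D191038)) (tt N114155 (iv4 F488782)) (tt N91595 (iv5 F393737)) (tt N114840 F492133) (tt N114184 (iv7 F488885)))
theorem Q88159 : ∀ i, i < 88159 → P i := stepQ 88158 Q88158 (allL N88158 (tt N108593 F463183) (tt N91917 (iv0 F394953)) (tt N114186 (iv2 F488894)) (tt N114840 (iv3 F492136)) (tt N115867 (iv4 F497314)) (tt N74185 F381950) (tt N52542 (iv6 D191039)) (tt N115969 (iv7 F497829)))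
theorem Q88160 : ∀ i, i < 88160 → P i := stepQ 88159 Q88159 (allL N88159 (tt N114083 (iv1 F488517)) (tt N52544 (iv0 D191040)) (tt N87950 (iv2 F381952)) (tt N116024 D219283) (tt N87938 F381951) (tt N115497 (iv5 F495503)) (tt N108567 (iv6 F463080)) (tt N87953 (iv7 F381953)))
theorem Q88161 : ∀ i, i < 88161 → P i := stepQ 88160 Q88160 (allL N88160 (tt N52544 (iv1 D191041)) (tt N114083 F488516) (tt N87953 F381957) (tt N115501 (iv3 F495518)) (tt N86979 F381955) (tt N108529 (iv5 F462962)) (tt N69461 (iv6 F381956)) (tt N87950 F381954))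
theorem Q88162 : ∀ i, i < 88162 → P i := stepQ 88161 Q88161 (allL N88161 (tt N115607 (iv1 F495969)) (tt N115953 (iv0 F497750)) (tt N84575 F381958) (tt N52544 (iv3 D191042)) (tt N52552 F381959) (tt N115539 (iv5 F495696)) (tt N84572 F381960) (tt N114187 (iv7 F488903)))
theorem Q88163 : ∀ i, i < 88163 → P i := stepQ 88162 Q88162 (allL N88162 (tt N115504 (iv1 F495537)) (tt N115501 (iv0 F495520)) (tt N87960 F381961) (tt N115539 (iv3 F495695)) (tt N87407 F381964) (tt N52544 (iv5 D191043)) (tt N87939 F381962) (tt N87406 F381963))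
theorem Q88164 : ∀ i, i < 88164 → P i := stepQ 88163 Q88163 (allL N88163 (tt N115999 (iv1 F497977)) (tt N115450 (iv0 F495251)) (tt N87423 F381965) (tt N52547 F381966) (tt N116025 D219284) (tt N52546 (iv5 D191044)) (tt N114206 (iv6 F488981)) (tt N87379 F381967))
theorem Q88165 : ∀ i, i < 88165 → P i := stepQ 88164 Q88164 (allL N88164 (tt N84496 F381971) (tt N108530 (iv0 F462966)) (tt N87383 F381968) (tt N87427 F381969) (tt N84520 F381970) (tt N91483 F393315) (tt N52548 (iv6 D191045)) (tt N91600 (iv7 F393748)))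
theorem Q88166 : ∀ i, i < 88166 → P i := stepQ 88165 Q88165 (allL N88165 (tt N88045 (iv1 F381976)) (tt N88044 F381977) (tt N84574 (iv2 F381974)) (tt N52549 (iv3 D191046)) (tt N84572 F381972) (tt N90533 (iv5 F389991)) (tt N52552 F381973) (tt N88035 (iv7 F381975)))
theorem Q88167 : ∀ i, i < 88167 → P i := stepQ 88166 Q88166 (allL N88166 (tt N87385 (iv1 F381982)) (tt N87384 F381983) (tt N87387 F381978) (tt N88035 F381979) (tt N52550 F381980) (tt N77415 F381981) (tt N114193 (iv6 F488933)) (tt N52549 (iv7 D191047)))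
theorem Q88168 : ∀ i, i < 88168 → P i := stepQ 88167 Q88167 (allL N88167 (tt N115442 (iv1 F495219)) (tt N116007 F498020) (tt N87435 F381984) (tt N91897 (iv3 F394853)) (tt N52551 (iv4 D191048)) (tt N105944 (iv5 F452446)) (tt N91897 (iv6 F394854)) (tt N87388 F381985))
theorem Q88169 : ∀ i, i < 88169 → P i := stepQ 88168 Q88168 (allL N88168 (tt N114191 (iv1 F488923)) (tt N52552 (iv0 D191049)) (tt N114190 (iv2 F488915)) (tt N116026 D219285) (tt N116027 D219286) (tt N91869 F394768) (tt N79650 (iv6 F394769)) (tt N114153 (iv7 F488771)))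
theorem Q88170 : ∀ i, i < 88170 → P i := stepQ 88169 Q88169 (allL N88169 (tt N114190 (iv1 F488916)) (tt N114153 (iv0 F488772)) (tt N52552 (iv2 D191050)) (tt N87394 F381986) (tt N84575 F381987) (tt N91845 (iv5 F394658)) (tt N84574 F381988) (tt N114191 (iv7 F488922)))
theorem Q88171 : ∀ i, i < 88171 → P i := stepQ 88170 Q88170 (allL N88170 (tt N52560 (iv1 F381990)) (tt N52554 (iv0 D191051)) (tt N52557 (iv2 F381991)) (tt N59957 F381989) (tt N95830 (iv4 F409845)) (tt N59956 (iv5 F381992)) (tt N115820 F497071) (tt N52558 (iv7 F381993)))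
theorem Q88172 : ∀ i, i < 88172 → P i := stepQ 88171 Q88171 (allL N88171 (tt N52554 (iv1 D191052)) (tt N52560 F381994) (tt N52558 (iv2 F382006)) (tt N52570 (iv3 F381996)) (tt N95829 (iv4 F409839)) (tt N77801 F382005) (tt N87472 (iv6 F381997)) (tt N52557 F381995))
theorem Q88173 : ∀ i, i < 88173 → P i := stepQ 88172 Q88172 (allL N88172 (tt N79846 F382012) (tt N71730 F382011) (tt N52559 F382007) (tt N71724 F382008) (tt N116028 D219287) (tt N52554 (iv5 D191053)) (tt N55150 F382009) (tt N71715 F382010))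
theorem Q88174 : ∀ i, i < 88174 → P i := stepQ 88173 Q88173 (allL N88173 (tt N52556 (iv1 D191054)) (tt N58878 F382013) (tt N62600 (iv2 F382016)) (tt N74760 F382017) (tt N87795 F382015) (tt N74760 F382018) (tt N100792 (iv6 F430494)) (tt N74756 F382014))
theorem Q88175 : ∀ i, i < 88175 → P i := stepQ 88174 Q88174 (allL N88174 (tt N59990 F382021) (tt N95832 F409858) (tt N95830 (iv2 F409847)) (tt N61098 F382020) (tt N52557 (iv4 D191055)) (tt N73637 (iv5 F382022)) (tt N116029 D219288) (tt N95829 F409841))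
theorem Q88176 : ∀ i, i < 88176 → P i := stepQ 88175 Q88175 (allL N88175 (tt N108285 (iv1 F461882)) (tt N109306 (iv0 F466310)) (tt N59956 F382023) (tt N58485 F382024) (tt N59496 F382027) (tt N52557 (iv5 D191056)) (tt N79313 (iv6 F382026)) (tt N77801 F382025))
theorem Q88177 : ∀ i, i < 88177 → P i := stepQ 88176 Q88176 (allL N88176 (tt N112728 F482392) (tt N115821 F497077) (tt N115820 (iv2 F497072)) (tt N64189 F382030) (tt N116029 (iv4 F498132)) (tt N111786 (iv5 F477964)) (tt N52557 (iv6 D191057)) (tt N98475 (iv7 F421045)))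
theorem Q88178 : ∀ i, i < 88178 → P i := stepQ 88177 Q88177 (allL N88177 (tt N59761 F382035) (tt N59758 (iv0 F382034)) (tt N89903 (iv2 F387926)) (tt N52558 (iv3 D191058)) (tt N84142 F382032) (tt N58665 (iv5 F382033)) (tt N84360 F382036) (tt N59957 F382031))
theorem Q88179 : ∀ i, i < 88179 → P i := stepQ 88178 Q88178 (allL N88178 (tt N95832 (iv1 F409859)) (tt N59990 (iv0 F382038)) (tt N95829 F409840) (tt N75347 F382037) (tt N52558 (iv4 D191059)) (tt N75346 (iv5 F382039)) (tt N116030 D219289) (tt N95830 (iv7 F409844)))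
theorem Q88180 : ∀ i, i < 88180 → P i := stepQ 88179 Q88179 (allL N88179 (tt N109306 F466311) (tt N108285 (iv0 F461879)) (tt N77801 F382040) (tt N58665 F382041) (tt N58717 F382043) (tt N52558 (iv5 D191060)) (tt N79482 (iv6 F382044)) (tt N59956 F382042))
theorem Q88181 : ∀ i, i < 88181 → P i := stepQ 88180 Q88180 (allL N88180 (tt N87475 F419761) (tt N87468 (iv0 F382049)) (tt N87472 F382045) (tt N84360 F382046) (tt N116030 (iv4 F498136)) (tt N71048 F382047) (tt N52558 (iv6 D191061)) (tt N87473 F382054))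
theorem Q88182 : ∀ i, i < 88182 → P i := stepQ 88181 Q88181 (allL N88181 (tt N71715 (iv1 F382063)) (tt N52559 (iv0 D191062)) (tt N79846 (iv2 F382060)) (tt N59702 F382062) (tt N94948 (iv4 F406462)) (tt N110600 (iv5 F472323)) (tt N79845 (iv6 F382064)) (tt N71730 (iv7 F382061)))
theorem Q88183 : ∀ i, i < 88183 → P i := stepQ 88182 Q88182 (allL N88182 (tt N52559 (iv1 D191063)) (tt N71715 F382055) (tt N71730 F382057) (tt N59756 (iv3 F382056)) (tt N94947 (iv4 F406456)) (tt N111001 (iv5 F474175)) (tt N79463 F382058) (tt N79846 F382059))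
theorem Q88184 : ∀ i, i < 88184 → P i := stepQ 88183 Q88183 (allL N88183 (tt N95457 F408248) (tt N95460 (iv0 F408262)) (tt N116028 (iv2 F498125)) (tt N95924 F410282) (tt N52559 (iv4 D191064)) (tt N116031 D219290) (tt N55157 F382069) (tt N107896 (iv7 F460165)))
theorem Q88185 : ∀ i, i < 88185 → P i := stepQ 88184 Q88184 (allL N88184 (tt N71730 (iv1 F382074)) (tt N79846 F382075) (tt N71715 F382070) (tt N52567 F382071) (tt N107896 (iv4 F460162)) (tt N52560 F382072) (tt N59696 F382073) (tt N52559 (iv7 D191065)))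
theorem Q88186 : ∀ i, i < 88186 → P i := stepQ 88185 Q88185 (allL N88185 (tt N55480 F382079) (tt N91901 F394871) (tt N79343 F382076) (tt N102969 (iv3 F439495)) (tt N55470 F382077) (tt N87429 F382078) (tt N52561 (iv6 D191066)) (tt N91887 (iv7 F394838)))
theorem Q88187 : ∀ i, i < 88187 → P i := stepQ 88186 Q88186 (allL N88186 (tt N54920 F382084) (tt N54919 F382085) (tt N54976 F382080) (tt N87449 F382081) (tt N80756 F382083) (tt N52563 (iv5 D191067)) (tt N91883 (iv6 F394819)) (tt N54977 F382082))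
theorem Q88188 : ∀ i, i < 88188 → P i := stepQ 88187 Q88187 (allL N88187 (tt N95361 F460626) (tt N87812 (iv0 F382087)) (tt N107894 (iv2 F460150)) (tt N52566 (iv3 D191068)) (tt N95924 F410283) (tt N116032 D219291) (tt N55160 F382086) (tt N95302 (iv7 F407785)))
theorem Q88189 : ∀ i, i < 88189 → P i := stepQ 88188 Q88188 (allL N88188 (tt N96908 (iv1 F414560)) (tt N58557 F382090) (tt N87460 F382088) (tt N116032 (iv3 F498146)) (tt N77506 F382089) (tt N52566 (iv5 D191069)) (tt N114192 (iv6 F488927)) (tt N95303 (iv7 F407787)))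
theorem Q88190 : ∀ i, i < 88190 → P i := stepQ 88189 Q88189 (allL N88189 (tt N65567 (iv1 F382095)) (tt N65566 F382096) (tt N59701 F382091) (tt N65575 F382092) (tt N52571 (iv4 D191070)) (tt N102121 (iv5 F435839)) (tt N55169 F382093) (tt N65568 F382094))
theorem Q88191 : ∀ i, i < 88191 → P i := stepQ 88190 Q88190 (allL N88190 (tt N59737 (iv1 F382102)) (tt N91192 F392214) (tt N74813 F382097) (tt N87457 F382098) (tt N64070 F382099) (tt N87135 F382100) (tt N52572 (iv6 D191071)) (tt N79665 F382101))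
theorem Q88192 : ∀ i, i < 88192 → P i := stepQ 88191 Q88191 (allL N88191 (tt N101177 F440057) (tt N98357 (iv0 F420632)) (tt N101174 F432056) (tt N52576 (iv3 D191072)) (tt N109133 (iv4 F465491)) (tt N108064 (iv5 F460950)) (tt N92584 (iv6 F397490)) (tt N101175 (iv7 F432057)))
theorem Q88193 : ∀ i, i < 88193 → P i := stepQ 88192 Q88192 (allL N88192 (tt N78940 (iv1 F382106)) (tt N52579 (iv0 D191073)) (tt N75967 (iv2 F382105)) (tt N101701 F433948) (tt N61678 F382103) (tt N75958 F382104) (tt N69636 (iv6 F382108)) (tt N79904 F382107))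
theorem Q88194 : ∀ i, i < 88194 → P i := stepQ 88193 Q88193 (allL N88193 (tt N81509 F382113) (tt N68180 F382114) (tt N61750 F382109) (tt N81531 (iv3 F382115)) (tt N52580 (iv4 D191074)) (tt N61747 F382112) (tt N62458 F382110) (tt N61746 F382111))
theorem Q88195 : ∀ i, i < 88195 → P i := stepQ 88194 Q88194 (allL N88194 (tt N52581 (iv1 D191075)) (tt N80465 F382116) (tt N80464 (iv2 F382119)) (tt N101177 (iv3 F432064)) (tt N64595 F382118) (tt N111346 (iv5 F475926)) (tt N87466 (iv6 F382120)) (tt N64594 F382117))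
theorem Q88196 : ∀ i, i < 88196 → P i := stepQ 88195 Q88195 (allL N88195 (tt N88659 F383766) (tt N102968 (iv0 F439493)) (tt N105339 (iv2 F449772)) (tt N52583 F382121) (tt N105330 (iv4 F449741)) (tt N68565 (iv5 F382122)) (tt N52581 (iv6 D191076)) (tt N102992 (iv7 F439585)))
theorem Q88197 : ∀ i, i < 88197 → P i := stepQ 88196 Q88196 (allL N88196 (tt N68570 (iv1 F382127)) (tt N52583 (iv0 D191077)) (tt N80474 (iv2 F382126)) (tt N87773 (iv3 F382129)) (tt N52610 F382124) (tt N78307 F382123) (tt N87465 F382125) (tt N80462 F382128))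
theorem Q88198 : ∀ i, i < 88198 → P i := stepQ 88197 Q88197 (allL N88197 (tt N99753 (iv1 F426070)) (tt N111346 F475932) (tt N111347 (iv2 F475933)) (tt N52584 (iv3 D191078)) (tt N70095 F382130) (tt N69971 F382131) (tt N111348 (iv6 F475944)) (tt N75935 F382132))
theorem Q88199 : ∀ i, i < 88199 → P i := stepQ 88198 Q88198 (allL N88198 (tt N52585 (iv1 D191079)) (tt N60979 F382133) (tt N60981 F382137) (tt N61083 (iv3 F382136)) (tt N75268 F382135) (tt N97878 (iv5 F418635)) (tt N75267 F382138) (tt N60978 F382134))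
theorem Q88200 : ∀ i, i < 88200 → P i := stepQ 88199 Q88199 (allL N88199 (tt N56687 F382143) (tt N56683 (iv0 F382144)) (tt N80475 F382139) (tt N70362 F382140) (tt N68764 F382142) (tt N52585 (iv5 D191080)) (tt N56263 F382141) (tt N111670 (iv7 F477404)))
theorem Q88201 : ∀ i, i < 88201 → P i := stepQ 88200 Q88200 (allL N88200 (tt N60981 (iv1 F382148)) (tt N60978 F382149) (tt N60979 F382145) (tt N64208 F382146) (tt N52586 F382147) (tt N111670 (iv5 F477402)) (tt N92767 (iv6 F398141)) (tt N52585 (iv7 D191081)))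
theorem Q88202 : ∀ i, i < 88202 → P i := stepQ 88201 Q88201 (allL N88201 (tt N110770 (iv1 F473115)) (tt N110772 (iv0 F473125)) (tt N104235 (iv2 F444850)) (tt N57306 F382150) (tt N52587 (iv4 D191082)) (tt N57305 F382153) (tt N63238 F382151) (tt N57340 F382152))
theorem Q88203 : ∀ i, i < 88203 → P i := stepQ 88202 Q88202 (allL N88202 (tt N115822 (iv1 F497083)) (tt N52613 (iv0 F382157)) (tt N97239 (iv2 F416025)) (tt N87487 F382154) (tt N60193 F382155) (tt N52587 (iv5 D191083)) (tt N114816 F492029) (tt N87346 F382156))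
theorem Q88204 : ∀ i, i < 88204 → P i := stepQ 88203 Q88203 (allL N88203 (tt N113687 (iv1 F486638)) (tt N113686 (iv0 F486630)) (tt N52589 F382158) (tt N57639 F382159) (tt N87572 (iv4 F382161)) (tt N52588 (iv5 D191084)) (tt N57638 F382160) (tt N112727 (iv7 F482384)))
theorem Q88205 : ∀ i, i < 88205 → P i := stepQ 88204 Q88204 (allL N88204 (tt N112727 (iv1 F482386)) (tt N52589 (iv0 D191085)) (tt N113687 (iv2 F486632)) (tt N87490 (iv3 F392697)) (tt N60236 F392696) (tt N91316 F392695) (tt N87112 F416024) (tt N113686 (iv7 F486629)))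
theorem Q88206 : ∀ i, i < 88206 → P i := stepQ 88205 Q88205 (allL N88205 (tt N87111 F382166) (tt N97294 (iv0 F416258)) (tt N87572 F382162) (tt N52666 (iv3 F382163)) (tt N52589 (iv4 D191087)) (tt N90742 (iv5 F415909)) (tt N111726 (iv6 F477687)) (tt N81626 F382164))
theorem Q88207 : ∀ i, i < 88207 → P i := stepQ 88206 Q88206 (allL N88206 (tt N52590 (iv1 D191088)) (tt N80199 F382171) (tt N99576 (iv2 F425244)) (tt N54466 (iv3 F382174)) (tt N85667 (iv4 F382175)) (tt N54465 F382173) (tt N102979 F439530) (tt N71737 F382172))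
theorem Q88208 : ∀ i, i < 88208 → P i := stepQ 88207 Q88207 (allL N88207 (tt N99576 (iv1 F425247)) (tt N71737 (iv0 F382180)) (tt N80199 F382176) (tt N52600 F382177) (tt N75492 F382178) (tt N55219 F382179) (tt N115821 (iv6 F497076)) (tt N52590 (iv7 D191089)))
theorem Q88209 : ∀ i, i < 88209 → P i := stepQ 88208 Q88208 (allL N88208 (tt N75171 (iv1 F382186)) (tt N52592 (iv0 D191090)) (tt N73981 (iv2 F382185)) (tt N100488 (iv3 F429134)) (tt N78711 F382182) (tt N73977 F382181) (tt N75320 F382184) (tt N75172 F382187))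
theorem Q88210 : ∀ i, i < 88210 → P i := stepQ 88209 Q88209 (allL N88209 (tt N87093 (iv1 F382192)) (tt N87091 (iv0 F382191)) (tt N87476 F382188) (tt N52594 (iv3 D191091)) (tt N114814 (iv4 F492011)) (tt N74847 F382189) (tt N115378 (iv6 F494897)) (tt N81634 F382190))
theorem Q88211 : ∀ i, i < 88211 → P i := stepQ 88210 Q88210 (allL N88210 (tt N111869 F478411) (tt N68776 F382193) (tt N97636 (iv2 F417714)) (tt N68770 F382194) (tt N52594 (iv4 D191092)) (tt N93093 (iv5 F399453)) (tt N80234 F382198) (tt N114818 (iv7 F492041)))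
theorem Q88212 : ∀ i, i < 88212 → P i := stepQ 88211 Q88211 (allL N88211 (tt N111637 (iv1 F477255)) (tt N85678 (iv0 F382197)) (tt N97641 (iv2 F417732)) (tt N115378 (iv3 F494896)) (tt N80234 (iv4 F382196)) (tt N84616 F382195) (tt N52594 (iv6 D191093)) (tt N111665 (iv7 F477379)))
theorem Q88213 : ∀ i, i < 88213 → P i := stepQ 88212 Q88212 (allL N88212 (tt N68776 F382199) (tt N111869 (iv0 F478409)) (tt N114818 (iv2 F492037)) (tt N97646 (iv3 F417754)) (tt N52595 (iv4 D191094)) (tt N97637 (iv5 F417721)) (tt N111661 F477360) (tt N97636 F417718))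
theorem Q88214 : ∀ i, i < 88214 → P i := stepQ 88213 Q88213 (allL N88213 (tt N52608 (iv1 F382203)) (tt N52596 (iv0 D191095)) (tt N68710 (iv2 F382202)) (tt N68830 F382204) (tt N87211 F382200) (tt N92923 (iv5 F398775)) (tt N68828 F382201) (tt N93001 (iv7 F399082)))
theorem Q88215 : ∀ i, i < 88215 → P i := stepQ 88214 Q88214 (allL N88214 (tt N52671 F382209) (tt N111668 F477392) (tt N56661 F382205) (tt N52596 (iv3 D191096)) (tt N52666 F382206) (tt N56682 F382207) (tt N56660 F382208) (tt N103271 (iv7 F440911)))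
theorem Q88216 : ∀ i, i < 88216 → P i := stepQ 88215 Q88215 (allL N88215 (tt N56562 (iv1 F382220)) (tt N52597 (iv0 D191097)) (tt N91592 (iv2 F393722)) (tt N115823 (iv3 F497087)) (tt N95888 (iv4 F410100)) (tt N59116 F382210) (tt N52638 (iv6 F382211)) (tt N91590 (iv7 F393717)))
theorem Q88217 : ∀ i, i < 88217 → P i := stepQ 88216 Q88216 (allL N88216 (tt N52597 (iv1 D191098)) (tt N56562 F382212) (tt N91590 (iv2 F393715)) (tt N87483 F382214) (tt N116033 D219292) (tt N59115 (iv5 F382213)) (tt N114248 F489208) (tt N91592 (iv7 F393724)))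
theorem Q88218 : ∀ i, i < 88218 → P i := stepQ 88217 Q88217 (allL N88217 (tt N91590 (iv1 F393718)) (tt N91592 F393727) (tt N56562 F382215) (tt N78259 F382216) (tt N56559 F382217) (tt N60218 F382218) (tt N82819 F382219) (tt N52597 (iv7 D191099)))
theorem Q88219 : ∀ i, i < 88219 → P i := stepQ 88218 Q88218 (allL N88218 (tt N52616 F382223) (tt N111800 F478038) (tt N111801 (iv2 F478039)) (tt N60179 F382221) (tt N98135 (iv4 F419626)) (tt N52601 (iv5 D191100)) (tt N114823 F492067) (tt N87397 F382222))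
theorem Q88220 : ∀ i, i < 88220 → P i := stepQ 88219 Q88219 (allL N88219 (tt N92991 (iv1 F399035)) (tt N92990 F399032) (tt N52603 F382224) (tt N112727 (iv3 F482382)) (tt N60278 F382226) (tt N52602 (iv5 D191101)) (tt N78267 (iv6 F382227)) (tt N57639 F382225))
theorem Q88221 : ∀ i, i < 88221 → P i := stepQ 88220 Q88220 (allL N88220 (tt N86478 (iv1 F382232)) (tt N86480 (iv0 F382231)) (tt N52604 F382229) (tt N112728 (iv3 F482389)) (tt N83639 F382230) (tt N115644 (iv5 F496113)) (tt N52602 (iv6 D191102)) (tt N113576 (iv7 F486102)))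
theorem Q88222 : ∀ i, i < 88222 → P i := stepQ 88221 Q88221 (allL N88221 (tt N68162 (iv1 F382238)) (tt N68160 (iv0 F382237)) (tt N78267 F382233) (tt N52609 F382234) (tt N60275 F382235) (tt N116034 D219293) (tt N52603 (iv6 D191103)) (tt N60220 F382236))
theorem Q88223 : ∀ i, i < 88223 → P i := stepQ 88222 Q88222 (allL N88222 (tt N113576 (iv1 F486105)) (tt N52604 (iv0 D191104)) (tt N86478 (iv2 F382240)) (tt N84199 (iv3 F382241)) (tt N79039 F382239) (tt N87404 (iv5 F382243)) (tt N84198 F382244) (tt N86480 (iv7 F382242)))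
theorem Q88224 : ∀ i, i < 88224 → P i := stepQ 88223 Q88223 (allL N88223 (tt N52604 (iv1 D191105)) (tt N113576 (iv0 F486104)) (tt N86480 (iv2 F382247)) (tt N65938 F382249) (tt N79041 F382246) (tt N87405 F382250) (tt N60611 (iv6 F382248)) (tt N86478 F382245))
theorem Q88225 : ∀ i, i < 88225 → P i := stepQ 88224 Q88224 (allL N88224 (tt N111292 (iv1 F475667)) (tt N114870 (iv0 F492258)) (tt N115644 F496115) (tt N52611 F382251) (tt N114207 (iv4 F488986)) (tt N52604 (iv5 D191106)) (tt N116034 (iv6 F498158)) (tt N108571 F463095))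
theorem Q88226 : ∀ i, i < 88226 → P i := stepQ 88225 Q88225 (allL N88225 (tt N86480 (iv1 F382254)) (tt N86478 F382255) (tt N113576 (iv2 F486099)) (tt N52612 F382252) (tt N85769 F382253) (tt N108571 (iv5 F463094)) (tt N97123 (iv6 F415554)) (tt N52604 (iv7 D191107)))
theorem Q88227 : ∀ i, i < 88227 → P i := stepQ 88226 Q88226 (allL N88226 (tt N52605 (iv1 D191108)) (tt N63803 F382263) (tt N63805 F382262) (tt N77557 (iv3 F382259)) (tt N61349 (iv4 F382258)) (tt N75241 (iv5 F382260)) (tt N87495 (iv6 F382261)) (tt N61346 F382257))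
theorem Q88228 : ∀ i, i < 88228 → P i := stepQ 88227 Q88227 (allL N88227 (tt N61346 (iv1 F382270)) (tt N63805 F382269) (tt N52605 (iv2 D191109)) (tt N75171 F382264) (tt N63407 F382265) (tt N80492 F382266) (tt N80494 F382267) (tt N63803 F382268))
theorem Q88229 : ∀ i, i < 88229 → P i := stepQ 88228 Q88228 (allL N88228 (tt N99496 (iv1 F424860)) (tt N74848 F382274) (tt N92193 (iv2 F396181)) (tt N85778 F382275) (tt N52606 (iv4 D191110)) (tt N56683 F382271) (tt N85777 F382272) (tt N74695 F382273))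
theorem Q88230 : ∀ i, i < 88230 → P i := stepQ 88229 Q88229 (allL N88229 (tt N92081 F395666) (tt N88349 (iv0 F382689)) (tt N83608 F382276) (tt N56571 F382277) (tt N52609 F382278) (tt N102052 (iv5 F435518)) (tt N52608 (iv6 D191111)) (tt N56563 F382279))
theorem Q88231 : ∀ i, i < 88231 → P i := stepQ 88230 Q88230 (allL N88230 (tt N116035 D219294) (tt N116036 D219295) (tt N83609 F382280) (tt N116034 (iv3 F498157)) (tt N116037 D219296) (tt N52609 (iv5 D191112)) (tt N52611 F382281) (tt N83610 F382282))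
theorem Q88232 : ∀ i, i < 88232 → P i := stepQ 88231 Q88231 (allL N88231 (tt N87285 F382285) (tt N87280 F382286) (tt N112306 F480463) (tt N116038 D219297) (tt N52611 (iv4 D191113)) (tt N74676 F382284) (tt N116037 (iv6 F498175)) (tt N74675 F382283))
theorem Q88233 : ∀ i, i < 88233 → P i := stepQ 88232 Q88232 (allL N88232 (tt N97239 (iv1 F416029)) (tt N87346 F382289) (tt N52613 (iv2 D191114)) (tt N111800 (iv3 F478036)) (tt N116039 D219298) (tt N58490 F382287) (tt N58491 F382288) (tt N115822 (iv7 F497082)))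
theorem Q88234 : ∀ i, i < 88234 → P i := stepQ 88233 Q88233 (allL N88233 (tt N90743 F413631) (tt N116040 D219299) (tt N116039 (iv2 F498183)) (tt N91590 (iv3 F393716)) (tt N52613 (iv4 D191115)) (tt N91589 F393714) (tt N96735 (iv6 F413668)) (tt N115823 (iv7 F497089)))
theorem Q88235 : ∀ i, i < 88235 → P i := stepQ 88234 Q88234 (allL N88234 (tt N116041 D219300) (tt N111870 (iv0 F478418)) (tt N116033 (iv2 F498150)) (tt N52614 (iv3 D191116)) (tt N91590 (iv4 F393720)) (tt N103294 (iv5 F441025)) (tt N116042 D219301) (tt N95888 (iv7 F410099)))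
theorem Q88236 : ∀ i, i < 88236 → P i := stepQ 88235 Q88235 (allL N88235 (tt N68619 (iv1 F382292)) (tt N56399 F382291) (tt N68618 (iv2 F382328)) (tt N103294 (iv3 F441021)) (tt N97878 (iv4 F418634)) (tt N52614 (iv5 D191117)) (tt N115749 (iv6 F496652)) (tt N68617 F382290))
theorem Q88237 : ∀ i, i < 88237 → P i := stepQ 88236 Q88236 (allL N88236 (tt N69247 F382295) (tt N69249 (iv0 F382296)) (tt N93244 F400096) (tt N116042 (iv3 F498204)) (tt N52615 F382293) (tt N68955 F382294) (tt N52614 (iv6 D191118)) (tt N103572 (iv7 F442084)))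
theorem Q88238 : ∀ i, i < 88238 → P i := stepQ 88237 Q88237 (allL N88237 (tt N68807 (iv1 F382302)) (tt N52615 (iv0 D191119)) (tt N56640 (iv2 F382300)) (tt N111726 (iv3 F477685)) (tt N56660 F382298) (tt N69314 F382297) (tt N52666 F382299) (tt N68801 F382301))
theorem Q88239 : ∀ i, i < 88239 → P i := stepQ 88238 Q88238 (allL N88238 (tt N68801 (iv1 F382306)) (tt N56640 F382307) (tt N68807 F382303) (tt N58373 F382304) (tt N103572 (iv4 F442083)) (tt N55547 F382305) (tt N115824 (iv6 F497096)) (tt N52615 (iv7 D191120)))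
theorem Q88240 : ∀ i, i < 88240 → P i := stepQ 88239 Q88239 (allL N88239 (tt N87397 (iv1 F382310)) (tt N111801 F478042) (tt N52616 (iv2 D191121)) (tt N115822 (iv3 F497079)) (tt N61112 F382308) (tt N111774 (iv5 F477906)) (tt N61111 (iv6 F382309)) (tt N111800 (iv7 F478037)))
theorem Q88241 : ∀ i, i < 88241 → P i := stepQ 88240 Q88240 (allL N88240 (tt N98131 (iv1 F419603)) (tt N106816 (iv0 F455810)) (tt N111774 (iv2 F477904)) (tt N52618 F382311) (tt N56190 F382312) (tt N52616 (iv5 D191122)) (tt N54570 F382313) (tt N109018 (iv7 F464954)))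
theorem Q88242 : ∀ i, i < 88242 → P i := stepQ 88241 Q88241 (allL N88241 (tt N61595 F382320) (tt N74160 F382319) (tt N61111 F382314) (tt N52619 F382315) (tt N55778 F382316) (tt N73464 (iv5 F382317)) (tt N52616 (iv6 D191123)) (tt N61119 F382318))
theorem Q88243 : ∀ i, i < 88243 → P i := stepQ 88242 Q88242 (allL N88242 (tt N56399 F382323) (tt N68619 F382324) (tt N68617 F382321) (tt N111779 (iv3 F477931)) (tt N60980 F382322) (tt N52617 (iv5 D191124)) (tt N60982 (iv6 F382325)) (tt N68618 (iv7 F382326)))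
theorem Q88244 : ∀ i, i < 88244 → P i := stepQ 88243 Q88243 (allL N88243 (tt N102061 (iv1 F435558)) (tt N111662 (iv0 F477365)) (tt N95889 (iv2 F410102)) (tt N111778 (iv3 F477925)) (tt N52619 F382329) (tt N116043 D219302) (tt N52617 (iv6 D191125)) (tt N116044 D219303))
theorem Q88245 : ∀ i, i < 88245 → P i := stepQ 88244 Q88244 (allL N88244 (tt N115824 (iv1 F497098)) (tt N52619 (iv0 D191126)) (tt N106441 (iv2 F454451)) (tt N74038 (iv3 F382480)) (tt N116045 D219304) (tt N55041 F382479) (tt N114822 F492060) (tt N106444 (iv7 F454473)))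
theorem Q88246 : ∀ i, i < 88246 → P i := stepQ 88245 Q88245 (allL N88245 (tt N52619 (iv1 D191127)) (tt N115824 F497097) (tt N106444 (iv2 F454471)) (tt N116046 D219305) (tt N111674 (iv4 F477417)) (tt N55042 F392781) (tt N52659 F392782) (tt N106441 (iv7 F454453)))
theorem Q88247 : ∀ i, i < 88247 → P i := stepQ 88246 Q88246 (allL N88246 (tt N66447 F382334) (tt N66443 (iv0 F382337)) (tt N54979 F382330) (tt N73464 F382331) (tt N82184 (iv4 F382333)) (tt N52619 (iv5 D191128)) (tt N54919 F382332) (tt N108271 (iv7 F461808)))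
theorem Q88248 : ∀ i, i < 88248 → P i := stepQ 88247 Q88247 (allL N88247 (tt N106444 F454477) (tt N106441 (iv0 F454457)) (tt N115824 (iv2 F497093)) (tt N61119 F382341) (tt N116044 (iv4 F498212)) (tt N108271 (iv5 F461806)) (tt N68807 F382342) (tt N52619 (iv7 D191129)))
theorem Q88249 : ∀ i, i < 88249 → P i := stepQ 88248 Q88248 (allL N88248 (tt N92938 (iv1 F417722)) (tt N60561 (iv0 F382345)) (tt N104061 (iv2 F443985)) (tt N68612 F382343) (tt N69513 F382344) (tt N52620 (iv5 D191130)) (tt N115752 (iv6 F496670)) (tt N103568 (iv7 F442067)))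
theorem Q88250 : ∀ i, i < 88250 → P i := stepQ 88249 Q88249 (allL N88249 (tt N115272 (iv1 F494315)) (tt N68706 (iv0 F382347)) (tt N68804 F382346) (tt N52621 (iv3 D191131)) (tt N116047 D219306) (tt N113931 (iv5 F487844)) (tt N116048 D219307) (tt N111669 (iv7 F477397)))
theorem Q88251 : ∀ i, i < 88251 → P i := stepQ 88250 Q88250 (allL N88250 (tt N60561 (iv1 F382349)) (tt N92938 F399456) (tt N103568 (iv2 F442070)) (tt N113931 (iv3 F487842)) (tt N69512 F382348) (tt N52621 (iv5 D191132)) (tt N92715 F397953) (tt N104061 (iv7 F443988)))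
theorem Q88252 : ∀ i, i < 88252 → P i := stepQ 88251 Q88251 (allL N88251 (tt N116045 (iv1 F498221)) (tt N111674 (iv0 F477420)) (tt N103201 (iv2 F440542)) (tt N116048 (iv3 F498230)) (tt N103199 F440536) (tt N116049 D219308) (tt N52621 (iv6 D191133)) (tt N68806 F382350))
theorem Q88253 : ∀ i, i < 88253 → P i := stepQ 88252 Q88252 (allL N88252 (tt N52622 (iv1 D191134)) (tt N68817 F382356) (tt N68818 F382354) (tt N56561 (iv3 F393889)) (tt N56599 (iv4 F382353)) (tt N60566 F382352) (tt N68824 F382355) (tt N56566 F382351))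
theorem Q88254 : ∀ i, i < 88254 → P i := stepQ 88253 Q88253 (allL N88253 (tt N56566 F382362) (tt N68818 F382363) (tt N52622 (iv2 D191135)) (tt N68763 F382357) (tt N56656 F382358) (tt N68761 F382359) (tt N52674 F382360) (tt N68817 (iv7 F382361)))
theorem Q88255 : ∀ i, i < 88255 → P i := stepQ 88254 Q88254 (allL N88254 (tt N68818 (iv1 F382368)) (tt N56566 F382369) (tt N68817 F382364) (tt N52624 F382365) (tt N56655 F382366) (tt N70650 F382367) (tt N93235 (iv6 F400070)) (tt N52622 (iv7 D191136)))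
theorem Q88256 : ∀ i, i < 88256 → P i := stepQ 88255 Q88255 (allL N88255 (tt N52623 (iv1 D191137)) (tt N68764 F382370) (tt N61749 (iv2 F382373)) (tt N68790 F382374) (tt N61747 F382372) (tt N111869 (iv5 F478410)) (tt N112820 (iv6 F482780)) (tt N61745 F382371))
theorem Q88257 : ∀ i, i < 88257 → P i := stepQ 88256 Q88256 (allL N88256 (tt N56683 (iv1 F382380)) (tt N56687 F382378) (tt N111670 (iv2 F477400)) (tt N61685 F382375) (tt N52623 (iv4 D191138)) (tt N60979 F382376) (tt N70618 F382377) (tt N80475 (iv7 F382379)))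
theorem Q88258 : ∀ i, i < 88258 → P i := stepQ 88257 Q88257 (allL N88257 (tt N61749 (iv1 F382385)) (tt N61745 F382386) (tt N68764 F382381) (tt N70650 F382382) (tt N80475 F382383) (tt N52624 F382384) (tt N92186 (iv6 F396148)) (tt N52623 (iv7 D191139)))
theorem Q88259 : ∀ i, i < 88259 → P i := stepQ 88258 Q88258 (allL N88258 (tt N113701 (iv1 F486704)) (tt N75142 F382390) (tt N85561 F382387) (tt N86528 F382388) (tt N88965 (iv4 F384613)) (tt N52625 (iv5 D191140)) (tt N94490 (iv6 F404698)) (tt N87345 F382389))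
theorem Q88260 : ∀ i, i < 88260 → P i := stepQ 88259 Q88259 (allL N88259 (tt N104887 (iv1 F447813)) (tt N115840 (iv0 F497175)) (tt N113564 (iv2 F486049)) (tt N111140 (iv3 F474889)) (tt N52626 (iv4 D191141)) (tt N116050 D219309) (tt N116051 D219310) (tt N87347 F382391))
theorem Q88261 : ∀ i, i < 88261 → P i := stepQ 88260 Q88260 (allL N88260 (tt N114817 (iv1 F492035)) (tt N114814 (iv0 F492014)) (tt N111727 (iv2 F477691)) (tt N87526 F382392) (tt N116051 (iv4 F498238)) (tt N87510 F382393) (tt N52626 (iv6 D191142)) (tt N114816 (iv7 F492028)))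
theorem Q88262 : ∀ i, i < 88262 → P i := stepQ 88261 Q88261 (allL N88261 (tt N114242 (iv1 F489175)) (tt N85716 F382395) (tt N52631 F382394) (tt N113629 (iv3 F486378)) (tt N52627 (iv4 D191143)) (tt N116052 D219311) (tt N116053 D219312) (tt N114241 (iv7 F489172)))
theorem Q88263 : ∀ i, i < 88263 → P i := stepQ 88262 Q88262 (allL N88262 (tt N74173 F382399) (tt N60326 F382400) (tt N52632 F382396) (tt N60286 F382397) (tt N116053 (iv4 F498250)) (tt N62636 (iv5 F382401)) (tt N52627 (iv6 D191144)) (tt N74113 F382398))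
theorem Q88264 : ∀ i, i < 88264 → P i := stepQ 88263 Q88263 (allL N88263 (tt N54939 F382407) (tt N54995 F382406) (tt N52635 F382402) (tt N55036 F382403) (tt N116054 D219313) (tt N52628 (iv5 D191145)) (tt N62636 F382404) (tt N55027 F382405))
theorem Q88265 : ∀ i, i < 88265 → P i := stepQ 88264 Q88264 (allL N88264 (tt N115839 (iv1 F497170)) (tt N99657 F425622) (tt N114240 (iv2 F489167)) (tt N111121 F474774) (tt N52629 (iv4 D191146)) (tt N116055 D219314) (tt N116056 D219315) (tt N112444 (iv7 F481134)))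
theorem Q88266 : ∀ i, i < 88266 → P i := stepQ 88265 Q88265 (allL N88265 (tt N96781 (iv1 F413905)) (tt N114235 (iv0 F489142)) (tt N95296 (iv2 F407766)) (tt N74183 F382408) (tt N116056 (iv4 F498262)) (tt N59682 (iv5 F382409)) (tt N52629 (iv6 D191147)) (tt N95294 (iv7 F407760)))
theorem Q88267 : ∀ i, i < 88267 → P i := stepQ 88266 Q88266 (allL N88266 (tt N99657 F425621) (tt N115839 (iv0 F497169)) (tt N112444 (iv2 F481132)) (tt N96941 (iv3 F414697)) (tt N52630 (iv4 D191148)) (tt N116057 D219316) (tt N96939 (iv6 F414689)) (tt N114240 (iv7 F489169)))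
theorem Q88268 : ∀ i, i < 88268 → P i := stepQ 88267 Q88267 (allL N88267 (tt N81625 F382411) (tt N78262 (iv0 F382412)) (tt N112851 (iv2 F482961)) (tt N81659 F382410) (tt N96939 F414688) (tt N115976 (iv5 F497870)) (tt N52630 (iv6 D191149)) (tt N112852 (iv7 F482969)))
theorem Q88269 : ∀ i, i < 88269 → P i := stepQ 88268 Q88268 (allL N88268 (tt N52631 (iv1 D191150)) (tt N114241 (iv0 F489173)) (tt N85716 F382742) (tt N114849 (iv3 F492172)) (tt N88361 (iv4 F382741)) (tt N115641 (iv5 F496098)) (tt N81620 (iv6 F382745)) (tt N114242 (iv7 F489176)))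
theorem Q88270 : ∀ i, i < 88270 → P i := stepQ 88269 Q88269 (allL N88269 (tt N91779 F435368) (tt N91775 F435370) (tt N114822 (iv2 F492063)) (tt N52631 (iv3 D191151)) (tt N52636 F382413) (tt N116036 F498170) (tt N106441 (iv6 F454456)) (tt N111526 (iv7 F476742)))
theorem Q88271 : ∀ i, i < 88271 → P i := stepQ 88270 Q88270 (allL N88270 (tt N115728 (iv1 F496549)) (tt N116058 D219317) (tt N116052 (iv2 F498242)) (tt N116036 (iv3 F498173)) (tt N116059 D219318) (tt N52631 (iv5 D191152)) (tt N116060 D219319) (tt N114243 (iv7 F489181)))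
theorem Q88272 : ∀ i, i < 88272 → P i := stepQ 88271 Q88271 (allL N88271 (tt N115732 (iv1 F496573)) (tt N115807 (iv0 F496997)) (tt N116053 (iv2 F498248)) (tt N106441 (iv3 F454452)) (tt N52632 F382414) (tt N106440 (iv5 F454450)) (tt N52631 (iv6 D191153)) (tt N116046 (iv7 F498226)))
theorem Q88273 : ∀ i, i < 88273 → P i := stepQ 88272 Q88272 (allL N88272 (tt N52632 (iv1 D191154)) (tt N74113 F382415) (tt N60326 F382419) (tt N74179 F382420) (tt N67154 F382417) (tt N60325 (iv5 F382418)) (tt N97263 (iv6 F416128)) (tt N74173 F382416))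
theorem Q88274 : ∀ i, i < 88274 → P i := stepQ 88273 Q88273 (allL N88273 (tt N60326 (iv1 F382425)) (tt N74173 F382426) (tt N74113 F382421) (tt N52641 F382422) (tt N116046 (iv4 F498223)) (tt N62637 F382423) (tt N81587 F382424) (tt N52632 (iv7 D191155)))
theorem Q88275 : ∀ i, i < 88275 → P i := stepQ 88274 Q88274 (allL N88274 (tt N84055 F384401) (tt N81537 F384402) (tt N74191 F382427) (tt N52634 (iv3 D191156)) (tt N88869 F384398) (tt N89908 (iv5 F387962)) (tt N113150 (iv6 F484207)) (tt N87369 F382428))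
theorem Q88276 : ∀ i, i < 88276 → P i := stepQ 88275 Q88275 (allL N88275 (tt N86236 F382430) (tt N72617 (iv0 F382432)) (tt N109041 (iv2 F465057)) (tt N82929 F382431) (tt N52634 (iv4 D191157)) (tt N109040 F465056) (tt N113705 (iv6 F486737)) (tt N85910 F382429))
theorem Q88277 : ∀ i, i < 88277 → P i := stepQ 88276 Q88276 (allL N88276 (tt N84375 (iv1 F382437)) (tt N84559 (iv0 F382436)) (tt N65622 F382433) (tt N113150 (iv3 F484211)) (tt N113705 (iv4 F486735)) (tt N59704 F382434) (tt N52634 (iv6 D191158)) (tt N84511 F382435))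
theorem Q88278 : ∀ i, i < 88278 → P i := stepQ 88277 Q88277 (allL N88277 (tt N52635 (iv1 D191159)) (tt N55027 F382438) (tt N54995 F382442) (tt N74189 (iv3 F382441)) (tt N108819 (iv4 F464111)) (tt N53609 F382440) (tt N95339 F407911) (tt N54939 F382439))
theorem Q88279 : ∀ i, i < 88279 → P i := stepQ 88278 Q88278 (allL N88278 (tt N83157 F382445) (tt N108710 F463650) (tt N116054 (iv2 F498254)) (tt N100046 F427362) (tt N52635 (iv4 D191160)) (tt N116061 D219320) (tt N74115 F382443) (tt N55028 F382444))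
theorem Q88280 : ∀ i, i < 88280 → P i := stepQ 88279 Q88279 (allL N88279 (tt N111523 (iv1 F476722)) (tt N52636 (iv0 D191161)) (tt N111525 (iv2 F476738)) (tt N104288 (iv3 F445104)) (tt N115600 (iv4 F495937)) (tt N79667 (iv5 F435367)) (tt N85679 F435369) (tt N111524 F476732))
theorem Q88281 : ∀ i, i < 88281 → P i := stepQ 88280 Q88280 (allL N88280 (tt N52636 (iv1 D191162)) (tt N111523 (iv0 F476721)) (tt N111524 F476731) (tt N52669 (iv3 F382446)) (tt N108511 (iv4 F462897)) (tt N79668 F382447) (tt N52668 F382448) (tt N111525 (iv7 F476734)))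
theorem Q88282 : ∀ i, i < 88282 → P i := stepQ 88281 Q88281 (allL N88281 (tt N111525 (iv1 F476733)) (tt N111524 F476730) (tt N52636 (iv2 D191163)) (tt N86672 F382450) (tt N114822 (iv4 F492057)) (tt N82572 F382451) (tt N116045 (iv6 F498218)) (tt N111523 (iv7 F476720)))
theorem Q88283 : ∀ i, i < 88283 → P i := stepQ 88282 Q88282 (allL N88282 (tt N68806 F382453) (tt N103201 F440547) (tt N116045 (iv2 F498215)) (tt N52637 F382452) (tt N106441 (iv4 F454455)) (tt N116062 D219321) (tt N52636 (iv6 D191164)) (tt N111674 (iv7 F477419)))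
theorem Q88284 : ∀ i, i < 88284 → P i := stepQ 88283 Q88283 (allL N88283 (tt N111653 (iv1 F477322)) (tt N52637 (iv0 D191165)) (tt N88356 (iv2 F382721)) (tt N68824 (iv3 F382455)) (tt N82609 F382454) (tt N116063 D219322) (tt N56561 (iv6 F393890)) (tt N68821 (iv7 F382456)))
theorem Q88285 : ∀ i, i < 88285 → P i := stepQ 88284 Q88284 (allL N88284 (tt N52637 (iv1 D191166)) (tt N111653 F477321) (tt N68821 F382459) (tt N116064 D219323) (tt N73642 (iv4 F382457)) (tt N116065 D219324) (tt N68819 (iv6 F382458)) (tt N88356 (iv7 F382722)))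
theorem Q88286 : ∀ i, i < 88286 → P i := stepQ 88285 Q88285 (allL N88285 (tt N102051 F435517) (tt N102062 F435560) (tt N65773 F382460) (tt N116062 (iv3 F498280)) (tt N102209 (iv4 F436198)) (tt N52637 (iv5 D191167)) (tt N65767 F382461) (tt N102060 (iv7 F435552)))
theorem Q88287 : ∀ i, i < 88287 → P i := stepQ 88286 Q88286 (allL N88286 (tt N68821 (iv1 F382463)) (tt N88356 (iv0 F382723)) (tt N111653 (iv2 F477316)) (tt N111674 (iv3 F477416)) (tt N52641 F382462) (tt N102060 F435554) (tt N111527 (iv6 F476748)) (tt N52637 (iv7 D191168)))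
theorem Q88288 : ∀ i, i < 88288 → P i := stepQ 88287 Q88287 (allL N88287 (tt N78675 F382466) (tt N87105 F423572) (tt N87522 F382464) (tt N52638 (iv3 D191169)) (tt N74124 (iv4 F410105)) (tt N99172 (iv5 F423571)) (tt N115823 (iv6 F497088)) (tt N114244 (iv7 F489183)))
theorem Q88289 : ∀ i, i < 88289 → P i := stepQ 88288 Q88288 (allL N88288 (tt N111659 (iv1 F477349)) (tt N52695 F382465) (tt N111657 F477336) (tt N95889 (iv3 F410103)) (tt N52638 (iv4 D191170)) (tt N116066 D219325) (tt N95888 F410101) (tt N111658 (iv7 F477340)))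
theorem Q88290 : ∀ i, i < 88290 → P i := stepQ 88289 Q88289 (allL N88289 (tt N52695 F382467) (tt N111659 F477348) (tt N111658 (iv2 F477343)) (tt N93247 (iv3 F400107)) (tt N52639 (iv4 D191171)) (tt N116067 D219326) (tt N93246 F400106) (tt N111657 F477337))
theorem Q88291 : ∀ i, i < 88291 → P i := stepQ 88290 Q88290 (allL N88290 (tt N87602 F382469) (tt N87605 (iv0 F400105)) (tt N114245 (iv2 F489188)) (tt N87524 F382468) (tt N93246 (iv4 F400104)) (tt N115689 (iv5 F496328)) (tt N52639 (iv6 D191172)) (tt N114248 (iv7 F489205)))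
theorem Q88292 : ∀ i, i < 88292 → P i := stepQ 88291 Q88291 (allL N88291 (tt N102633 F437964) (tt N67602 F382472) (tt N55040 F382470) (tt N102636 (iv3 F437977)) (tt N52640 (iv4 D191173)) (tt N102635 (iv5 F437973)) (tt N52642 F382471) (tt N102758 (iv7 F438503)))
theorem Q88293 : ∀ i, i < 88293 → P i := stepQ 88292 Q88292 (allL N88292 (tt N55042 (iv1 F382477)) (tt N55041 F382478) (tt N55043 F382473) (tt N62637 F382474) (tt N102758 (iv4 F438504)) (tt N52641 F382475) (tt N55035 F382476) (tt N52640 (iv7 D191174)))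
theorem Q88294 : ∀ i, i < 88294 → P i := stepQ 88293 Q88293 (allL N88293 (tt N113634 (iv1 F486406)) (tt N113635 (iv0 F486412)) (tt N86605 F382481) (tt N87510 F382482) (tt N86603 F382483) (tt N87526 F382484) (tt N52643 (iv6 D191175)) (tt N114823 (iv7 F492065)))
theorem Q88295 : ∀ i, i < 88295 → P i := stepQ 88294 Q88294 (allL N88294 (tt N116068 D219327) (tt N91244 F392396) (tt N52647 F382485) (tt N81591 F382486) (tt N97202 (iv4 F415874)) (tt N81589 F382487) (tt N52644 (iv6 D191176)) (tt N97200 (iv7 F415863)))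
theorem Q88296 : ∀ i, i < 88296 → P i := stepQ 88295 Q88295 (allL N88295 (tt N97355 F416467) (tt N114250 F489221) (tt N111738 (iv2 F477737)) (tt N87512 F382488) (tt N111317 (iv4 F475787)) (tt N91519 (iv5 F393451)) (tt N52646 (iv6 D191177)) (tt N114249 (iv7 F489209)))
theorem Q88297 : ∀ i, i < 88297 → P i := stepQ 88296 Q88296 (allL N88296 (tt N97200 (iv1 F415865)) (tt N52647 (iv0 D191178)) (tt N116068 F498307) (tt N80659 (iv3 F415867)) (tt N104941 (iv4 F448042)) (tt N111060 (iv5 F474464)) (tt N115718 F496490) (tt N91244 F415866))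
theorem Q88298 : ∀ i, i < 88298 → P i := stepQ 88297 Q88297 (allL N88297 (tt N52647 (iv1 D191179)) (tt N97200 F415864) (tt N91244 F399041) (tt N71729 F382490) (tt N97256 (iv4 F416099)) (tt N71727 (iv5 F382489)) (tt N92991 (iv6 F399039)) (tt N116068 (iv7 F498309)))
theorem Q88299 : ∀ i, i < 88299 → P i := stepQ 88298 Q88298 (allL N88298 (tt N91244 F392395) (tt N116068 F498308) (tt N97200 (iv2 F415860)) (tt N52654 F382491) (tt N60284 F382492) (tt N91982 (iv5 F395236)) (tt N60283 F382493) (tt N52647 (iv7 D191180)))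
theorem Q88300 : ∀ i, i < 88300 → P i := stepQ 88299 Q88299 (allL N88299 (tt N84193 F382496) (tt N80653 (iv0 F382497)) (tt N113150 (iv2 F484205)) (tt N52648 (iv3 D191181)) (tt N113018 (iv4 F483580)) (tt N89887 (iv5 F387878)) (tt N74191 F382494) (tt N87409 F382495))
theorem Q88301 : ∀ i, i < 88301 → P i := stepQ 88300 Q88300 (allL N88300 (tt N52650 (iv1 D191182)) (tt N86672 (iv0 F382504)) (tt N84459 (iv2 F382503)) (tt N68713 (iv3 F382501)) (tt N84458 F382500) (tt N79353 F382499) (tt N68712 F382502) (tt N68827 F382498))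
theorem Q88302 : ∀ i, i < 88302 → P i := stepQ 88301 Q88301 (allL N88301 (tt N68827 (iv1 F382509)) (tt N84459 F382508) (tt N52650 (iv2 D191183)) (tt N111523 (iv3 F476718)) (tt N85947 F382505) (tt N82569 F382506) (tt N95822 (iv6 F409808)) (tt N86672 F382507))
theorem Q88303 : ∀ i, i < 88303 → P i := stepQ 88302 Q88302 (allL N88302 (tt N60572 F382513) (tt N60570 F382514) (tt N95822 (iv2 F409802)) (tt N52651 F382510) (tt N60788 F382511) (tt N57960 F382512) (tt N52650 (iv6 D191184)) (tt N57959 F382515))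
theorem Q88304 : ∀ i, i < 88304 → P i := stepQ 88303 Q88303 (allL N88303 (tt N111527 (iv1 F476750)) (tt N52651 (iv0 D191185)) (tt N81579 (iv2 F382517)) (tt N104281 (iv3 F445083)) (tt N81578 F382518) (tt N100541 (iv5 F429400)) (tt N80221 F382516) (tt N88375 (iv7 F382790)))
theorem Q88305 : ∀ i, i < 88305 → P i := stepQ 88304 Q88304 (allL N88304 (tt N52651 (iv1 D191186)) (tt N111527 F476749) (tt N88375 (iv2 F382788)) (tt N84459 (iv3 F382521)) (tt N78657 F382520) (tt N100544 (iv5 F429416)) (tt N93001 F399085) (tt N81579 F382519))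
theorem Q88306 : ∀ i, i < 88306 → P i := stepQ 88305 Q88305 (allL N88305 (tt N101538 (iv1 F433292)) (tt N101542 (iv0 F433318)) (tt N82553 F382522) (tt N57960 F382523) (tt N58015 F382526) (tt N52651 (iv5 D191187)) (tt N82530 F382524) (tt N57956 (iv7 F382525)))
theorem Q88307 : ∀ i, i < 88307 → P i := stepQ 88306 Q88306 (allL N88306 (tt N88375 (iv1 F382794)) (tt N81579 (iv0 F382530)) (tt N111527 (iv2 F476744)) (tt N57959 F382527) (tt N52654 F382528) (tt N57956 F382529) (tt N111653 (iv6 F477320)) (tt N52651 (iv7 D191188)))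
theorem Q88308 : ∀ i, i < 88308 → P i := stepQ 88307 Q88307 (allL N88307 (tt N52694 F382590) (tt N52710 F382532) (tt N111660 F477354) (tt N97649 (iv3 F417767)) (tt N52652 (iv4 D191189)) (tt N79732 (iv5 F382533)) (tt N80236 F382531) (tt N111661 (iv7 F477357)))
theorem Q88309 : ∀ i, i < 88309 → P i := stepQ 88308 Q88308 (allL N88308 (tt N52710 F382535) (tt N52694 F382536) (tt N111661 F477361) (tt N102065 (iv3 F435572)) (tt N52653 (iv4 D191190)) (tt N79731 (iv5 F382537)) (tt N114818 (iv6 F492040)) (tt N111660 F477355))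
theorem Q88310 : ∀ i, i < 88310 → P i := stepQ 88309 Q88309 (allL N88309 (tt N113565 (iv1 F486054)) (tt N87936 F382540) (tt N52656 F382538) (tt N83595 F382539) (tt N52655 (iv4 D191191)) (tt N87389 (iv5 F382541)) (tt N81640 (iv6 F382542)) (tt N110916 (iv7 F473774)))
theorem Q88311 : ∀ i, i < 88311 → P i := stepQ 88310 Q88310 (allL N88310 (tt N114234 (iv1 F489132)) (tt N114233 F489128) (tt N52657 F382543) (tt N94437 (iv3 F404477)) (tt N81640 F382544) (tt N114202 (iv5 F488965)) (tt N52655 (iv6 D191192)) (tt N72324 F382545))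
theorem Q88312 : ∀ i, i < 88312 → P i := stepQ 88311 Q88311 (allL N88311 (tt N52656 (iv1 D191193)) (tt N110916 F473776) (tt N87936 (iv2 F382547)) (tt N115294 (iv3 F494432)) (tt N87929 F382546) (tt N116058 (iv5 F498266)) (tt N116040 (iv6 F498196)) (tt N113565 (iv7 F486055)))
theorem Q88313 : ∀ i, i < 88313 → P i := stepQ 88312 Q88312 (allL N88312 (tt N72324 (iv1 F382550)) (tt N52657 (iv0 D191194)) (tt N114234 (iv2 F489137)) (tt N62641 (iv3 F382551)) (tt N87868 F382548) (tt N115818 (iv5 F497055)) (tt N62639 F382549) (tt N114233 F489130))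
theorem Q88314 : ∀ i, i < 88314 → P i := stepQ 88313 Q88313 (allL N88313 (tt N52657 (iv1 D191195)) (tt N72324 F382552) (tt N114233 (iv2 F489131)) (tt N114856 (iv3 F492193)) (tt N87874 (iv4 F382553)) (tt N115819 (iv5 F497064)) (tt N112848 (iv6 F482947)) (tt N114234 (iv7 F489133)))
theorem Q88315 : ∀ i, i < 88315 → P i := stepQ 88314 Q88314 (allL N88314 (tt N115745 F496635) (tt N87109 F494903) (tt N87554 F399903) (tt N52659 (iv3 D191197)) (tt N81587 (iv4 F382555)) (tt N116069 D219328) (tt N116046 (iv6 F498225)) (tt N113567 (iv7 F486066)))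
theorem Q88316 : ∀ i, i < 88316 → P i := stepQ 88315 Q88315 (allL N88315 (tt N100721 (iv1 F430180)) (tt N111635 (iv0 F477240)) (tt N111515 (iv2 F476670)) (tt N116069 (iv3 F498311)) (tt N66704 F382556) (tt N52659 (iv5 D191198)) (tt N66708 F382557) (tt N111519 (iv7 F476695)))
theorem Q88317 : ∀ i, i < 88317 → P i := stepQ 88316 Q88316 (allL N88316 (tt N111635 (iv1 F477241)) (tt N100721 (iv0 F430179)) (tt N111519 (iv2 F476693)) (tt N87558 (iv3 F399900)) (tt N80271 F382561) (tt N52660 (iv5 D191202)) (tt N84604 F382562) (tt N111515 (iv7 F476672)))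
theorem Q88318 : ∀ i, i < 88318 → P i := stepQ 88317 Q88317 (allL N88317 (tt N91775 F430181) (tt N91779 (iv0 F476724)) (tt N111526 (iv2 F476739)) (tt N87559 (iv3 F399901)) (tt N111523 F476723) (tt N116035 (iv5 F498162)) (tt N52660 (iv6 D191203)) (tt N114822 (iv7 F492056)))
theorem Q88319 : ∀ i, i < 88319 → P i := stepQ 88318 Q88318 (allL N88318 (tt N79738 (iv1 F382564)) (tt N52664 (iv0 D191204)) (tt N56557 (iv2 F382566)) (tt N106146 (iv3 F453341)) (tt N82599 F382565) (tt N56554 F382563) (tt N115373 (iv6 F494868)) (tt N56552 (iv7 F382567)))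
theorem Q88320 : ∀ i, i < 88320 → P i := stepQ 88319 Q88319 (allL N88319 (tt N52664 (iv1 D191205)) (tt N79738 F382568) (tt N56552 F382573) (tt N97645 F417752) (tt N82600 (iv4 F382570)) (tt N56549 (iv5 F382571)) (tt N69247 (iv6 F382572)) (tt N56557 F382569))
theorem Q88321 : ∀ i, i < 88321 → P i := stepQ 88320 Q88320 (allL N88320 (tt N111668 (iv1 F477393)) (tt N52671 (iv0 F382577)) (tt N103271 (iv2 F440907)) (tt N56665 F382574) (tt N52665 (iv4 D191206)) (tt N103268 (iv5 F440891)) (tt N68811 (iv6 F382576)) (tt N56661 F382575))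
theorem Q88322 : ∀ i, i < 88322 → P i := stepQ 88321 Q88321 (allL N88321 (tt N114815 F492022) (tt N114824 F492072) (tt N81623 F382578) (tt N87571 F382579) (tt N68811 F382580) (tt N55470 F382582) (tt N52665 (iv6 D191207)) (tt N68809 F382581))
theorem Q88323 : ∀ i, i < 88323 → P i := stepQ 88322 Q88322 (allL N88322 (tt N68810 (iv1 F382588)) (tt N52668 (iv0 D191208)) (tt N68811 (iv2 F382587)) (tt N83608 F382585) (tt N81623 F382584) (tt N83568 F382583) (tt N103271 (iv6 F440910)) (tt N68802 F382589))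
theorem Q88324 : ∀ i, i < 88324 → P i := stepQ 88323 Q88323 (allL N88323 (tt N68811 (iv1 F382595)) (tt N68802 F382594) (tt N52668 (iv2 D191209)) (tt N97707 (iv3 F417996)) (tt N81577 F382591) (tt N80218 F382592) (tt N111524 (iv6 F476729)) (tt N68810 F382593))
theorem Q88325 : ∀ i, i < 88325 → P i := stepQ 88324 Q88324 (allL N88324 (tt N100711 (iv1 F430136)) (tt N100712 (iv0 F430141)) (tt N100736 (iv2 F430224)) (tt N111525 F476735) (tt N84682 F382596) (tt N60562 F382597) (tt N111668 (iv6 F477391)) (tt N52669 (iv7 D191210)))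
theorem Q88326 : ∀ i, i < 88326 → P i := stepQ 88325 Q88325 (allL N88325 (tt N52670 (iv1 D191211)) (tt N97707 F417998) (tt N97705 (iv2 F417990)) (tt N56528 (iv3 F382599)) (tt N114608 (iv4 F490991)) (tt N82387 F382598) (tt N56526 F382600) (tt N97691 (iv7 F417916)))
theorem Q88327 : ∀ i, i < 88327 → P i := stepQ 88326 Q88326 (allL N88326 (tt N116070 D219329) (tt N116071 D219330) (tt N97706 (iv2 F417994)) (tt N84657 F382601) (tt N52670 (iv4 D191212)) (tt N115150 F493734) (tt N104289 (iv6 F445105)) (tt N111666 (iv7 F477383)))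
theorem Q88328 : ∀ i, i < 88328 → P i := stepQ 88327 Q88327 (allL N88327 (tt N56661 (iv1 F382604)) (tt N103271 (iv0 F440912)) (tt N111668 (iv2 F477387)) (tt N68704 F382602) (tt N84661 F382603) (tt N93018 (iv5 F399134)) (tt N100736 F430229) (tt N52671 (iv7 D191213)))
theorem Q88329 : ∀ i, i < 88329 → P i := stepQ 88328 Q88328 (allL N88328 (tt N56563 (iv1 F382690)) (tt N83608 F395665) (tt N92081 (iv2 F395661)) (tt N52673 (iv3 D191214)) (tt N88352 (iv4 F382709)) (tt N92076 (iv5 F395647)) (tt N69255 F382605) (tt N88349 (iv7 F382688)))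
theorem Q88330 : ∀ i, i < 88330 → P i := stepQ 88329 Q88329 (allL N88329 (tt N87645 F382610) (tt N52689 (iv0 F382611)) (tt N82945 F382606) (tt N87874 F382607) (tt N105779 (iv4 F451674)) (tt N52675 (iv5 D191215)) (tt N78533 F382608) (tt N82944 F382609))
theorem Q88331 : ∀ i, i < 88331 → P i := stepQ 88330 Q88330 (allL N88330 (tt N52689 F382615) (tt N87645 (iv0 F382616)) (tt N82944 F382612) (tt N87608 F382613) (tt N105778 (iv4 F451665)) (tt N52676 (iv5 D191216)) (tt N99564 F425188) (tt N82945 F382614))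
theorem Q88332 : ∀ i, i < 88332 → P i := stepQ 88331 Q88331 (allL N88331 (tt N82948 F382621) (tt N82947 F382620) (tt N52678 F382617) (tt N86280 F382618) (tt N109747 (iv4 F468419)) (tt N52677 (iv5 D191217)) (tt N86798 (iv6 F382622)) (tt N82940 F382619))
theorem Q88333 : ∀ i, i < 88333 → P i := stepQ 88332 Q88332 (allL N88332 (tt N116072 D219331) (tt N96938 (iv0 F414683)) (tt N86798 F382623) (tt N52680 F382624) (tt N58926 F382625) (tt N87613 F382626) (tt N52678 (iv6 D191218)) (tt N58922 F382627))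
theorem Q88334 : ∀ i, i < 88334 → P i := stepQ 88333 Q88333 (allL N88333 (tt N86803 (iv1 F382629)) (tt N52680 (iv0 D191219)) (tt N104391 (iv2 F445560)) (tt N97265 (iv3 F439761)) (tt N85679 F382628) (tt N97264 F439760) (tt N115600 (iv6 F495935)) (tt N104392 (iv7 F445563)))
theorem Q88335 : ∀ i, i < 88335 → P i := stepQ 88334 Q88334 (allL N88334 (tt N52680 (iv1 D191220)) (tt N86803 F382630) (tt N104392 (iv2 F445567)) (tt N97156 (iv3 F415702)) (tt N85680 F382631) (tt N97248 (iv5 F416067)) (tt N81573 (iv6 F382632)) (tt N104391 (iv7 F445561)))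
theorem Q88336 : ∀ i, i < 88336 → P i := stepQ 88335 Q88335 (allL N88335 (tt N104392 (iv1 F445562)) (tt N104391 F445558) (tt N86803 F382633) (tt N58922 F382634) (tt N58931 F382635) (tt N87618 F382636) (tt N58920 F382637) (tt N52680 (iv7 D191221)))
theorem Q88337 : ∀ i, i < 88337 → P i := stepQ 88336 Q88336 (allL N88336 (tt N97149 F415679) (tt N97156 (iv0 F415705)) (tt N112875 (iv2 F483087)) (tt N83742 F382638) (tt N81610 F382639) (tt N83742 F382640) (tt N52681 (iv6 D191222)) (tt N106881 (iv7 F456112)))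
theorem Q88338 : ∀ i, i < 88338 → P i := stepQ 88337 Q88337 (allL N88337 (tt N103228 F440674) (tt N116073 D219332) (tt N114237 (iv2 F489152)) (tt N86884 F382641) (tt N81648 F382642) (tt N103239 (iv5 F440724)) (tt N52684 (iv6 D191223)) (tt N103382 (iv7 F441379)))
theorem Q88339 : ∀ i, i < 88339 → P i := stepQ 88338 Q88338 (allL N88338 (tt N87868 F382645) (tt N87874 F382646) (tt N87620 F382643) (tt N52685 (iv3 D191224)) (tt N112451 (iv4 F481159)) (tt N82595 F382644) (tt N115840 (iv6 F497173)) (tt N114236 (iv7 F489148)))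
theorem Q88340 : ∀ i, i < 88340 → P i := stepQ 88339 Q88339 (allL N88339 (tt N116074 D219333) (tt N97280 (iv0 F416189)) (tt N104886 (iv2 F447809)) (tt N115840 (iv3 F497172)) (tt N108644 (iv4 F463340)) (tt N115842 (iv5 F497182)) (tt N52685 (iv6 D191225)) (tt N116075 D219334))
theorem Q88341 : ∀ i, i < 88341 → P i := stepQ 88340 Q88340 (allL N88340 (tt N71598 (iv1 F382648)) (tt N52686 (iv0 D191226)) (tt N71595 (iv2 F382649)) (tt N88472 F383185) (tt N74046 F382647) (tt N103460 (iv5 F441726)) (tt N104932 (iv6 F448001)) (tt N71596 (iv7 F382650)))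
theorem Q88342 : ∀ i, i < 88342 → P i := stepQ 88341 Q88341 (allL N88341 (tt N52686 (iv1 D191227)) (tt N71598 F382651) (tt N71596 (iv2 F382656)) (tt N85726 (iv3 F382655)) (tt N74047 F382653) (tt N85725 F382654) (tt N116076 D219335) (tt N71595 F382652))
theorem Q88343 : ∀ i, i < 88343 → P i := stepQ 88342 Q88342 (allL N88342 (tt N87869 F382660) (tt N100347 (iv0 F428528)) (tt N87621 F382657) (tt N52688 (iv3 D191228)) (tt N87621 F382658) (tt N91414 (iv5 F393030)) (tt N112394 F480907) (tt N87183 F382659))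
theorem Q88344 : ∀ i, i < 88344 → P i := stepQ 88343 Q88343 (allL N88343 (tt N82945 (iv1 F382665)) (tt N82944 F382664) (tt N52689 (iv2 D191229)) (tt N85459 F382661) (tt N105848 (iv4 F452014)) (tt N82592 F382662) (tt N116077 D219336) (tt N87645 F382663))
theorem Q88345 : ∀ i, i < 88345 → P i := stepQ 88344 Q88344 (allL N88344 (tt N116078 D219337) (tt N116079 D219338) (tt N116077 (iv2 F498342)) (tt N52690 F382666) (tt N115374 (iv4 F494872)) (tt N87808 F382667) (tt N52689 (iv6 D191230)) (tt N116080 D219339))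
theorem Q88346 : ∀ i, i < 88346 → P i := stepQ 88345 Q88345 (allL N88345 (tt N104786 (iv1 F447268)) (tt N52690 (iv0 D191231)) (tt N68782 (iv2 F382670)) (tt N81566 (iv3 F382672)) (tt N68774 F382669) (tt N81565 F382668) (tt N104419 (iv6 F445676)) (tt N68796 (iv7 F382671)))
theorem Q88347 : ∀ i, i < 88347 → P i := stepQ 88346 Q88346 (allL N88346 (tt N52690 (iv1 D191232)) (tt N104786 (iv0 F447267)) (tt N68796 (iv2 F382675)) (tt N116073 F498326) (tt N68784 F382674) (tt N100720 (iv5 F430176)) (tt N112410 (iv6 F480984)) (tt N68782 F382673))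
theorem Q88348 : ∀ i, i < 88348 → P i := stepQ 88347 Q88347 (allL N88347 (tt N68796 (iv1 F382678)) (tt N68782 F382679) (tt N104786 (iv2 F447262)) (tt N116080 (iv3 F498354)) (tt N104376 F445492) (tt N87811 F382676) (tt N87772 F382677) (tt N52690 (iv7 D191233)))
theorem Q88349 : ∀ i, i < 88349 → P i := stepQ 88348 Q88348 (allL N88348 (tt N112415 F481009) (tt N68154 (iv0 F382684)) (tt N87646 F382680) (tt N52693 F382681) (tt N86653 F382682) (tt N79651 F382683) (tt N52691 (iv6 D191234)) (tt N116081 D219340))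
theorem Q88350 : ∀ i, i < 88350 → P i := stepQ 88349 Q88349 (allL N88349 (tt N88229 F382689) (tt N93078 (iv0 F399383)) (tt N87769 F382685) (tt N85686 F382686) (tt N52693 F382687) (tt N111860 (iv5 F478353)) (tt N52692 (iv6 D191235)) (tt N88328 F382688))
theorem Q88351 : ∀ i, i < 88351 → P i := stepQ 88350 Q88350 (allL N88350 (tt N87772 (iv1 F382699)) (tt N52693 (iv0 D191236)) (tt N87770 (iv2 F382692)) (tt N116074 (iv3 F498327)) (tt N83605 F382704) (tt N115567 (iv5 F495806)) (tt N80472 F382691) (tt N87771 (iv7 F382693)))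
theorem Q88352 : ∀ i, i < 88352 → P i := stepQ 88351 Q88351 (allL N88351 (tt N52693 (iv1 D191237)) (tt N87772 F382694) (tt N87771 (iv2 F382697)) (tt N115142 (iv3 F493692)) (tt N83606 (iv4 F382696)) (tt N115593 (iv5 F495912)) (tt N116082 D219341) (tt N87770 F382695))
theorem Q88353 : ∀ i, i < 88353 → P i := stepQ 88352 Q88352 (allL N88352 (tt N87771 (iv1 F382711)) (tt N87770 F382712) (tt N87772 F382708) (tt N116081 (iv3 F498360)) (tt N88328 F382709) (tt N87327 F382710) (tt N104786 (iv6 F447265)) (tt N52693 (iv7 D191238)))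
theorem Q88354 : ∀ i, i < 88354 → P i := stepQ 88353 Q88353 (allL N88353 (tt N111661 (iv1 F477356)) (tt N111660 F477353) (tt N52694 (iv2 D191239)) (tt N111654 (iv3 F477324)) (tt N52712 F382713) (tt N83569 F382714) (tt N111659 (iv6 F477347)) (tt N52710 F382715))
theorem Q88355 : ∀ i, i < 88355 → P i := stepQ 88354 Q88354 (allL N88354 (tt N111658 (iv1 F477339)) (tt N111657 F477338) (tt N111659 (iv2 F477344)) (tt N52695 F382716) (tt N52698 F382717) (tt N116083 D219342) (tt N52694 (iv6 D191240)) (tt N52695 F382718))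
theorem Q88356 : ∀ i, i < 88356 → P i := stepQ 88355 Q88355 (allL N88355 (tt N116062 (iv1 F498284)) (tt N65792 (iv0 F382720)) (tt N102420 (iv2 F437157)) (tt N116083 (iv3 F498372)) (tt N102202 (iv4 F436157)) (tt N52695 (iv5 D191241)) (tt N83571 F382719) (tt N116083 (iv7 F498374)))
theorem Q88357 : ∀ i, i < 88357 → P i := stepQ 88356 Q88356 (allL N88356 (tt N88286 F382723) (tt N79680 F382724) (tt N88283 F382721) (tt N104356 (iv3 F445404)) (tt N52696 (iv4 D191242)) (tt N116084 D219343) (tt N56466 F382725) (tt N88284 F382722))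
theorem Q88358 : ∀ i, i < 88358 → P i := stepQ 88357 Q88357 (allL N88357 (tt N116082 (iv1 F498370)) (tt N97281 (iv0 F416191)) (tt N91649 (iv2 F393891)) (tt N99569 (iv3 F425216)) (tt N56466 F382726) (tt N91494 F393367) (tt N52696 (iv6 D191243)) (tt N91648 (iv7 F393883)))
theorem Q88359 : ∀ i, i < 88359 → P i := stepQ 88358 Q88358 (allL N88358 (tt N115176 (iv1 F493868)) (tt N115330 F494626) (tt N112876 (iv2 F483091)) (tt N115706 (iv3 F496422)) (tt N52700 (iv4 D191244)) (tt N115266 (iv5 F494283)) (tt N86516 F382733) (tt N87168 F382727))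
theorem Q88360 : ∀ i, i < 88360 → P i := stepQ 88359 Q88359 (allL N88359 (tt N97265 (iv1 F416135)) (tt N97266 (iv0 F416137)) (tt N86799 F382728) (tt N87156 F382729) (tt N86516 (iv4 F382732)) (tt N56427 F382730) (tt N52700 (iv6 D191245)) (tt N86804 (iv7 F382731)))
theorem Q88361 : ∀ i, i < 88361 → P i := stepQ 88360 Q88360 (allL N88360 (tt N87651 F382737) (tt N116085 D219344) (tt N52706 F382734) (tt N71598 F382735) (tt N115246 (iv4 F494198)) (tt N111066 (iv5 F474499)) (tt N52701 (iv6 D191246)) (tt N71590 F382736))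
theorem Q88362 : ∀ i, i < 88362 → P i := stepQ 88361 Q88361 (allL N88361 (tt N87608 (iv1 F382744)) (tt N87607 (iv0 F382743)) (tt N85706 F382738) (tt N52703 (iv3 D191247)) (tt N88268 F382741) (tt N83572 F382739) (tt N112436 (iv6 F481104)) (tt N87623 F382740))
theorem Q88363 : ∀ i, i < 88363 → P i := stepQ 88362 Q88362 (allL N88362 (tt N115453 (iv1 F495272)) (tt N112058 (iv0 F479293)) (tt N86644 F382746) (tt N115278 (iv3 F494340)) (tt N52703 (iv4 D191248)) (tt N86586 F382747) (tt N86640 (iv6 F382748)) (tt N112878 (iv7 F483106)))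
theorem Q88364 : ∀ i, i < 88364 → P i := stepQ 88363 Q88363 (allL N88363 (tt N115143 (iv1 F493699)) (tt N115142 F493693) (tt N86643 F382749) (tt N112436 (iv3 F481102)) (tt N86640 F382750) (tt N87269 F382751) (tt N52703 (iv6 D191249)) (tt N115144 (iv7 F493698)))
theorem Q88365 : ∀ i, i < 88365 → P i := stepQ 88364 Q88364 (allL N88364 (tt N112058 (iv1 F479294)) (tt N115453 (iv0 F495271)) (tt N112878 (iv2 F483104)) (tt N86647 F382755) (tt N52704 (iv4 D191250)) (tt N86582 F382756) (tt N112390 (iv6 F480883)) (tt N86644 F382757))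
theorem Q88366 : ∀ i, i < 88366 → P i := stepQ 88365 Q88365 (allL N88365 (tt N116086 D219345) (tt N116087 D219346) (tt N115238 (iv2 F494158)) (tt N52705 (iv3 D191251)) (tt N52709 F382758) (tt N86686 F382759) (tt N115238 (iv6 F494160)) (tt N111655 (iv7 F477329)))
theorem Q88367 : ∀ i, i < 88367 → P i := stepQ 88366 Q88366 (allL N88366 (tt N91248 F414467) (tt N91245 (iv0 F392394)) (tt N115246 (iv2 F494197)) (tt N115238 (iv3 F494159)) (tt N52706 F382760) (tt N115237 (iv5 F494157)) (tt N52705 (iv6 D191252)) (tt N116088 D219347))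
theorem Q88368 : ∀ i, i < 88368 → P i := stepQ 88367 Q88367 (allL N88367 (tt N71590 (iv1 F382768)) (tt N52706 (iv0 D191253)) (tt N87651 (iv2 F382764)) (tt N115460 (iv3 F495296)) (tt N112056 (iv4 F479278)) (tt N111689 (iv5 F477500)) (tt N115458 F495289) (tt N116085 (iv7 F498383)))
theorem Q88369 : ∀ i, i < 88369 → P i := stepQ 88368 Q88368 (allL N88368 (tt N52706 (iv1 D191254)) (tt N71590 F382761) (tt N116085 (iv2 F498388)) (tt N87166 (iv3 F382762)) (tt N112057 (iv4 F479288)) (tt N111690 (iv5 F477505)) (tt N116089 D219348) (tt N87651 F382763))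
theorem Q88370 : ∀ i, i < 88370 → P i := stepQ 88369 Q88369 (allL N88369 (tt N116085 (iv1 F498382)) (tt N87651 F382769) (tt N71590 F382765) (tt N52712 F382766) (tt N116088 (iv4 F498399)) (tt N111063 (iv5 F474481)) (tt N71585 F382767) (tt N52706 (iv7 D191255)))
theorem Q88371 : ∀ i, i < 88371 → P i := stepQ 88370 Q88370 (allL N88370 (tt N87231 (iv1 F382775)) (tt N87230 (iv0 F382774)) (tt N77713 F382770) (tt N52707 (iv3 D191256)) (tt N90974 (iv4 F391432)) (tt N87022 F382771) (tt N76246 F382772) (tt N87225 F382773))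
theorem Q88372 : ∀ i, i < 88372 → P i := stepQ 88371 Q88371 (allL N88371 (tt N95271 F407661) (tt N116090 D219349) (tt N115427 (iv2 F495135)) (tt N91900 (iv3 F394865)) (tt N52708 (iv4 D191257)) (tt N108101 (iv5 F461106)) (tt N111067 (iv6 F474505)) (tt N95164 F407279))
theorem Q88373 : ∀ i, i < 88373 → P i := stepQ 88372 Q88372 (allL N88372 (tt N111654 (iv1 F477327)) (tt N52709 (iv0 D191258)) (tt N102077 (iv2 F435617)) (tt N86460 F382776) (tt N86461 F382777) (tt N60645 F382778) (tt N93248 (iv6 F400110)) (tt N86675 (iv7 F382779)))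
theorem Q88374 : ∀ i, i < 88374 → P i := stepQ 88373 Q88373 (allL N88373 (tt N52709 (iv1 D191259)) (tt N111654 (iv0 F477326)) (tt N86675 F382782) (tt N60575 (iv3 F382781)) (tt N86696 (iv4 F382783)) (tt N60574 F382780) (tt N93009 (iv6 F399106)) (tt N102077 (iv7 F435619)))
theorem Q88375 : ∀ i, i < 88375 → P i := stepQ 88374 Q88374 (allL N88374 (tt N102077 F435621) (tt N86675 F382786) (tt N52709 (iv2 D191260)) (tt N52710 F382784) (tt N115238 (iv4 F494161)) (tt N83567 F382785) (tt N52709 (iv6 F382787)) (tt N111654 (iv7 F477325)))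
theorem Q88376 : ∀ i, i < 88376 → P i := stepQ 88375 Q88375 (allL N88375 (tt N79362 F382792) (tt N88306 F382794) (tt N88304 F382788) (tt N68622 F382789) (tt N52711 (iv4 D191261)) (tt N65973 F382791) (tt N68620 (iv6 F382793)) (tt N88303 F382790))
theorem Q88377 : ∀ i, i < 88377 → P i := stepQ 88376 Q88376 (allL N88376 (tt N80469 F382798) (tt N80472 F382799) (tt N109251 (iv2 F465994)) (tt N69592 F382795) (tt N68620 F382796) (tt N66674 F382797) (tt N52711 (iv6 D191262)) (tt N88052 F382800))
theorem Q88378 : ∀ i, i < 88378 → P i := stepQ 88377 Q88377 (allL N88377 (tt N113225 F484579) (tt N72595 (iv0 F382804)) (tt N53300 F382801) (tt N87050 F382802) (tt N72383 (iv4 F382805)) (tt N52714 (iv5 D191263)) (tt N64901 F382803) (tt N113227 (iv7 F484588)))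
theorem Q88379 : ∀ i, i < 88379 → P i := stepQ 88378 Q88378 (allL N88378 (tt N64729 F382813) (tt N54047 F382814) (tt N53303 F382808) (tt N64818 F382809) (tt N71279 F382812) (tt N52715 (iv5 D191264)) (tt N52716 F382810) (tt N71277 F382811))
theorem Q88380 : ∀ i, i < 88380 → P i := stepQ 88379 Q88379 (allL N88379 (tt N116091 D219350) (tt N113233 (iv0 F484629)) (tt N53306 F382815) (tt N76694 F382816) (tt N52716 (iv4 D191265)) (tt N100272 (iv5 F428192)) (tt N71279 F382817) (tt N98376 (iv7 F420689)))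
theorem Q88381 : ∀ i, i < 88381 → P i := stepQ 88380 Q88380 (allL N88380 (tt N71514 F382822) (tt N72597 F385224) (tt N53286 F382818) (tt N84983 F382819) (tt N89993 F388233) (tt N52717 (iv5 D191266)) (tt N64554 F382820) (tt N72529 F382821))
theorem Q88382 : ∀ i, i < 88382 → P i := stepQ 88381 Q88381 (allL N88381 (tt N53951 F382827) (tt N77320 F382828) (tt N53288 F382823) (tt N77676 F382824) (tt N71665 (iv4 F382829)) (tt N52718 (iv5 D191267)) (tt N52719 F382825) (tt N77318 F382826))
theorem Q88383 : ∀ i, i < 88383 → P i := stepQ 88382 Q88382 (allL N88382 (tt N71513 (iv1 F382836)) (tt N70916 F382835) (tt N53291 F382831) (tt N63290 F382832) (tt N52719 (iv4 D191268)) (tt N116092 D219351) (tt N71665 F382833) (tt N63358 F382834))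
theorem Q88384 : ∀ i, i < 88384 → P i := stepQ 88383 Q88383 (allL N88383 (tt N107547 (iv1 F458725)) (tt N83360 F382839) (tt N91288 (iv2 F392564)) (tt N52722 F382837) (tt N110614 (iv4 F472403)) (tt N52720 (iv5 D191269)) (tt N116093 D219352) (tt N83027 F382838))
theorem Q88385 : ∀ i, i < 88385 → P i := stepQ 88384 Q88384 (allL N88384 (tt N53913 F388065) (tt N90889 (iv0 F391182)) (tt N91289 (iv2 F392570)) (tt N52723 F382840) (tt N88118 F382841) (tt N112885 (iv5 F483136)) (tt N52720 (iv6 D191270)) (tt N91766 (iv7 F394351)))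
theorem Q88386 : ∀ i, i < 88386 → P i := stepQ 88385 Q88385 (allL N88385 (tt N90690 F390539) (tt N91119 F392015) (tt N83021 F382842) (tt N87054 F382843) (tt N113368 (iv4 F485207)) (tt N52721 (iv5 D191271)) (tt N116094 D219353) (tt N83028 F382844))
theorem Q88387 : ∀ i, i < 88387 → P i := stepQ 88386 Q88386 (allL N88386 (tt N83509 F382848) (tt N89389 F386336) (tt N83022 F382845) (tt N83500 F382846) (tt N52723 F382847) (tt N116095 D219354) (tt N52721 (iv6 D191272)) (tt N89387 (iv7 F386327)))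
theorem Q88388 : ∀ i, i < 88388 → P i := stepQ 88387 Q88387 (allL N88387 (tt N116096 D219355) (tt N113478 (iv0 F485677)) (tt N83023 F382849) (tt N116097 D219356) (tt N52722 (iv4 D191273)) (tt N72028 F382865) (tt N107413 (iv6 F458255)) (tt N72027 (iv7 F382864)))
theorem Q88389 : ∀ i, i < 88389 → P i := stepQ 88388 Q88388 (allL N88388 (tt N83354 F478815) (tt N113380 F485276) (tt N83024 F382851) (tt N116093 (iv3 F498427)) (tt N107413 F458257) (tt N112886 (iv5 F483140)) (tt N52722 (iv6 D191274)) (tt N113379 (iv7 F485267)))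
theorem Q88390 : ∀ i, i < 88390 → P i := stepQ 88389 Q88389 (allL N88389 (tt N91119 (iv1 F392016)) (tt N90690 F390540) (tt N83028 F382852) (tt N89334 (iv3 F386156)) (tt N111338 (iv4 F475893)) (tt N52724 (iv5 D191275)) (tt N111337 (iv6 F475891)) (tt N83021 F382853))
theorem Q88391 : ∀ i, i < 88391 → P i := stepQ 88390 Q88390 (allL N88390 (tt N113478 (iv1 F485678)) (tt N116096 F498439) (tt N72027 (iv2 F382862)) (tt N112111 (iv3 F479531)) (tt N52725 (iv4 D191276)) (tt N72012 (iv5 F382861)) (tt N63364 F382860) (tt N83023 F382855))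
theorem Q88392 : ∀ i, i < 88392 → P i := stepQ 88391 Q88391 (allL N88391 (tt N111146 (iv1 F474925)) (tt N77397 (iv0 F382859)) (tt N83029 F382856) (tt N114958 (iv3 F492759)) (tt N63364 (iv4 F382858)) (tt N63316 F382857) (tt N52725 (iv6 D191277)) (tt N109604 (iv7 F467690)))
theorem Q88393 : ∀ i, i < 88393 → P i := stepQ 88392 Q88392 (allL N88392 (tt N77973 (iv1 F422721)) (tt N83272 F422720) (tt N110720 (iv2 F472892)) (tt N52726 (iv3 D191278)) (tt N98896 (iv4 F422716)) (tt N113705 (iv5 F486736)) (tt N116098 D219357) (tt N83033 F382866))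
theorem Q88394 : ∀ i, i < 88394 → P i := stepQ 88393 Q88393 (allL N88393 (tt N105424 (iv1 F450199)) (tt N113222 (iv0 F484560)) (tt N83031 F382867) (tt N116099 D219358) (tt N52726 (iv4 D191279)) (tt N116100 D219359) (tt N116101 D219360) (tt N83034 F382868))
theorem Q88395 : ∀ i, i < 88395 → P i := stepQ 88394 Q88394 (allL N88394 (tt N83402 (iv1 F484340)) (tt N110413 F484342) (tt N83032 F382869) (tt N116098 (iv3 F498446)) (tt N116101 (iv4 F498460)) (tt N115113 (iv5 F493545)) (tt N52726 (iv6 D191280)) (tt N110412 (iv7 F471452)))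
theorem Q88396 : ∀ i, i < 88396 → P i := stepQ 88395 Q88395 (allL N88395 (tt N83227 (iv1 F382969)) (tt N112578 F481703) (tt N110429 (iv2 F471540)) (tt N52727 (iv3 D191281)) (tt N83438 (iv4 F421389)) (tt N110504 (iv5 F471885)) (tt N83436 F421396) (tt N83030 F382870))
theorem Q88397 : ∀ i, i < 88397 → P i := stepQ 88396 Q88396 (allL N88396 (tt N113222 (iv1 F484561)) (tt N105424 F450200) (tt N83034 F382871) (tt N54444 F382873) (tt N52727 (iv4 D191282)) (tt N116102 D219361) (tt N81837 F433176) (tt N83031 F382872))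
theorem Q88398 : ∀ i, i < 88398 → P i := stepQ 88397 Q88397 (allL N88397 (tt N110245 (iv1 F470614)) (tt N77357 F433177) (tt N83035 F382874) (tt N83436 (iv3 F421397)) (tt N81837 (iv4 F433174)) (tt N111946 (iv5 F478810)) (tt N52727 (iv6 D191283)) (tt N110365 (iv7 F471248)))
theorem Q88399 : ∀ i, i < 88399 → P i := stepQ 88398 Q88398 (allL N88398 (tt N83040 (iv1 F382880)) (tt N52728 (iv0 D191284)) (tt N83036 (iv2 F428213)) (tt N113342 (iv3 F485110)) (tt N100277 (iv4 F428219)) (tt N113159 (iv5 F484260)) (tt N113474 F485659) (tt N83037 (iv7 F428215)))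
theorem Q88400 : ∀ i, i < 88400 → P i := stepQ 88399 Q88399 (allL N88399 (tt N52728 (iv1 D191285)) (tt N83040 F382875) (tt N83037 F428214) (tt N116103 D219362) (tt N100276 (iv4 F428208)) (tt N113160 (iv5 F484263)) (tt N81372 (iv6 F444986)) (tt N83036 F428212))
theorem Q88401 : ∀ i, i < 88401 → P i := stepQ 88400 Q88400 (allL N88400 (tt N107006 F456624) (tt N107028 F456702) (tt N83039 F382876) (tt N94920 (iv3 F406341)) (tt N113188 (iv4 F484387)) (tt N52728 (iv5 D191286)) (tt N94919 F406339) (tt N107026 (iv7 F456695)))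
theorem Q88402 : ∀ i, i < 88402 → P i := stepQ 88401 Q88401 (allL N88401 (tt N83037 (iv1 F382881)) (tt N83036 F382882) (tt N83040 F382877) (tt N83419 F382878) (tt N52729 F382879) (tt N107026 F456694) (tt N111149 F474935) (tt N52728 (iv7 D191287)))
theorem Q88403 : ∀ i, i < 88403 → P i := stepQ 88402 Q88402 (allL N88402 (tt N53984 F382887) (tt N52734 F382888) (tt N53986 F382883) (tt N112578 (iv3 F481702)) (tt N62023 F382884) (tt N52730 (iv5 D191288)) (tt N70917 F382885) (tt N53228 F382886))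
theorem Q88404 : ∀ i, i < 88404 → P i := stepQ 88403 Q88403 (allL N88403 (tt N54603 F382893) (tt N54602 F382894) (tt N52732 F382889) (tt N53862 F382890) (tt N73617 F382891) (tt N52731 (iv5 D191289)) (tt N110812 (iv6 F473267)) (tt N53983 F382892))
theorem Q88405 : ∀ i, i < 88405 → P i := stepQ 88404 Q88404 (allL N88404 (tt N53983 (iv1 F382897)) (tt N52732 (iv0 D191290)) (tt N54603 (iv2 F382898)) (tt N112564 (iv3 F481664)) (tt N77884 F382896) (tt N83852 F382895) (tt N71505 (iv6 F382900)) (tt N54602 (iv7 F382899)))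
theorem Q88406 : ∀ i, i < 88406 → P i := stepQ 88405 Q88405 (allL N88405 (tt N52732 (iv1 D191291)) (tt N53983 F382901) (tt N54602 (iv2 F382905)) (tt N83043 (iv3 F382906)) (tt N77885 F382904) (tt N83853 F382903) (tt N116104 D219363) (tt N54603 F382902))
theorem Q88407 : ∀ i, i < 88407 → P i := stepQ 88406 Q88406 (allL N88406 (tt N62027 F382910) (tt N62029 F382911) (tt N73617 F382907) (tt N99926 (iv3 F426849)) (tt N52732 (iv4 D191292)) (tt N57319 F382909) (tt N110648 (iv6 F472575)) (tt N54604 F382908))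
theorem Q88408 : ∀ i, i < 88408 → P i := stepQ 88407 Q88407 (allL N88407 (tt N99934 F426884) (tt N71522 (iv0 F382914)) (tt N110812 (iv2 F473265)) (tt N52733 F382912) (tt N110648 (iv4 F472576)) (tt N84310 F382913) (tt N52732 (iv6 D191293)) (tt N116105 D219364))
theorem Q88409 : ∀ i, i < 88409 → P i := stepQ 88408 Q88408 (allL N88408 (tt N52733 (iv1 D191294)) (tt N54601 F382915) (tt N54599 (iv2 F390249)) (tt N113380 (iv3 F485272)) (tt N113548 (iv4 F485978)) (tt N113892 (iv5 F487660)) (tt N113547 (iv6 F485975)) (tt N54598 F390254))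
theorem Q88410 : ∀ i, i < 88410 → P i := stepQ 88409 Q88409 (allL N88409 (tt N54599 (iv1 F382921)) (tt N54598 F382923) (tt N54601 F382916) (tt N116105 (iv3 F498482)) (tt N75906 F382917) (tt N84314 F382918) (tt N54610 F382919) (tt N52733 (iv7 D191295)))
theorem Q88411 : ∀ i, i < 88411 → P i := stepQ 88410 Q88410 (allL N88410 (tt N53986 (iv1 F382928)) (tt N53228 F382927) (tt N52734 (iv2 D191296)) (tt N53864 F382924) (tt N98809 (iv4 F422408)) (tt N86246 F382925) (tt N116106 D219365) (tt N53984 F382926))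
theorem Q88412 : ∀ i, i < 88412 → P i := stepQ 88411 Q88411 (allL N88411 (tt N116107 D219366) (tt N116108 D219367) (tt N116106 (iv2 F498488)) (tt N52736 F382929) (tt N98804 F422388) (tt N86249 F382930) (tt N52734 (iv6 D191297)) (tt N116109 D219368))
theorem Q88413 : ∀ i, i < 88413 → P i := stepQ 88412 Q88412 (allL N88412 (tt N100424 (iv1 F428914)) (tt N100427 (iv0 F428930)) (tt N54616 F382931) (tt N52735 (iv3 D191298)) (tt N98808 F422406) (tt N62906 F382932) (tt N53984 F382933) (tt N54617 F382934))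
theorem Q88414 : ∀ i, i < 88414 → P i := stepQ 88413 Q88413 (allL N88413 (tt N54615 (iv1 F382939)) (tt N54614 F382940) (tt N54611 F382935) (tt N116109 (iv3 F498510)) (tt N53864 F382936) (tt N86251 F382937) (tt N54622 F382938) (tt N52736 (iv7 D191299)))
theorem Q88415 : ∀ i, i < 88415 → P i := stepQ 88414 Q88414 (allL N88414 (tt N100759 (iv1 F430333)) (tt N81839 F382943) (tt N112321 (iv2 F480539)) (tt N52737 (iv3 D191300)) (tt N77385 (iv4 F382942)) (tt N109728 (iv5 F468315)) (tt N113185 (iv6 F484367)) (tt N54625 F382941))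
theorem Q88416 : ∀ i, i < 88416 → P i := stepQ 88415 Q88415 (allL N88415 (tt N84476 F382947) (tt N110292 (iv0 F470887)) (tt N52738 (iv2 D191301)) (tt N54630 F382944) (tt N83420 F382945) (tt N76957 F382946) (tt N110241 (iv6 F470589)) (tt N113028 (iv7 F483613)))
theorem Q88417 : ∀ i, i < 88417 → P i := stepQ 88416 Q88416 (allL N88416 (tt N110292 (iv1 F470888)) (tt N84476 (iv0 F422330)) (tt N113028 F483611) (tt N52739 F382948) (tt N83419 F382949) (tt N54836 F382950) (tt N113550 (iv6 F485991)) (tt N52738 (iv7 D191302)))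
theorem Q88418 : ∀ i, i < 88418 → P i := stepQ 88417 Q88417 (allL N88417 (tt N116110 D219369) (tt N116111 D219370) (tt N54586 F382956) (tt N113550 (iv3 F485990)) (tt N52740 F382957) (tt N113549 (iv5 F485989)) (tt N52739 (iv6 D191303)) (tt N112343 (iv7 F480667)))
theorem Q88419 : ∀ i, i < 88419 → P i := stepQ 88418 Q88418 (allL N88418 (tt N52740 (iv1 D191304)) (tt N54423 F382958) (tt N54585 F382961) (tt N116112 D219371) (tt N116113 D219372) (tt N55087 (iv5 F382960)) (tt N114719 F491517) (tt N54584 F382959))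
theorem Q88420 : ∀ i, i < 88420 → P i := stepQ 88419 Q88419 (allL N88419 (tt N53685 F382966) (tt N53499 F382967) (tt N53687 F382962) (tt N83464 F382963) (tt N77173 F382965) (tt N52741 (iv5 D191305)) (tt N113324 (iv6 F485028)) (tt N53176 F382964))
theorem Q88421 : ∀ i, i < 88421 → P i := stepQ 88420 Q88420 (allL N88420 (tt N53684 (iv1 F382973)) (tt N52742 (iv0 D191306)) (tt N54821 (iv2 F382972)) (tt N83485 F382971) (tt N81895 (iv4 F382975)) (tt N83876 F382970) (tt N110368 (iv6 F471267)) (tt N54820 F382974))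
theorem Q88422 : ∀ i, i < 88422 → P i := stepQ 88421 Q88421 (allL N88421 (tt N116114 D219373) (tt N116115 D219374) (tt N111344 (iv2 F475915)) (tt N77308 F382978) (tt N52742 (iv4 D191307)) (tt N77307 (iv5 F382980)) (tt N99920 F426829) (tt N54822 F382979))
theorem Q88423 : ∀ i, i < 88423 → P i := stepQ 88422 Q88422 (allL N88422 (tt N115407 (iv1 F495041)) (tt N83345 (iv0 F433083)) (tt N111345 (iv2 F475922)) (tt N52743 F382981) (tt N99920 (iv4 F426830)) (tt N83444 (iv5 F382982)) (tt N52742 (iv6 D191308)) (tt N115406 (iv7 F495036)))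
theorem Q88424 : ∀ i, i < 88424 → P i := stepQ 88423 Q88423 (allL N88423 (tt N54819 (iv1 F382990)) (tt N52743 (iv0 D191309)) (tt N54816 (iv2 F390235)) (tt N83550 F390255) (tt N90603 F390236) (tt N116116 D219375) (tt N84369 F382985) (tt N54817 F390237))
theorem Q88425 : ∀ i, i < 88425 → P i := stepQ 88424 Q88424 (allL N88424 (tt N52743 (iv1 D191310)) (tt N54819 F382986) (tt N54817 (iv2 F390233)) (tt N116117 D219376) (tt N90604 F390232) (tt N114050 (iv5 F488354)) (tt N116118 D219377) (tt N54816 (iv7 F390234)))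
theorem Q88426 : ∀ i, i < 88426 → P i := stepQ 88425 Q88425 (allL N88425 (tt N54817 (iv1 F382991)) (tt N54816 F382992) (tt N54819 F382987) (tt N115406 (iv3 F495032)) (tt N77421 F382988) (tt N88573 (iv5 F383516)) (tt N54828 F382989) (tt N52743 (iv7 D191311)))
theorem Q88427 : ∀ i, i < 88427 → P i := stepQ 88426 Q88426 (allL N88426 (tt N79005 F382996) (tt N74801 F382997) (tt N79007 F382998) (tt N52744 (iv3 D191312)) (tt N54177 F382993) (tt N98319 (iv5 F420484)) (tt N52747 F382994) (tt N79006 F382995))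
theorem Q88428 : ∀ i, i < 88428 → P i := stepQ 88427 Q88427 (allL N88427 (tt N52745 (iv1 D191313)) (tt N82764 F383004) (tt N54866 F383002) (tt N54886 (iv3 F383000)) (tt N53598 F382999) (tt N74800 F383003) (tt N74801 (iv6 F383001)) (tt N113580 (iv7 F486126)))
theorem Q88429 : ∀ i, i < 88429 → P i := stepQ 88428 Q88428 (allL N88428 (tt N113580 F486128) (tt N54866 F383010) (tt N52745 (iv2 D191314)) (tt N83240 F383006) (tt N54085 F383007) (tt N68373 (iv5 F383011)) (tt N54083 F383008) (tt N82764 F383009))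
theorem Q88430 : ∀ i, i < 88430 → P i := stepQ 88429 Q88429 (allL N88429 (tt N85761 F383018) (tt N83741 F383016) (tt N97177 (iv2 F415775)) (tt N86659 F383015) (tt N86423 F383017) (tt N52746 (iv5 D191315)) (tt N113095 (iv6 F483957)) (tt N97176 F415769))
theorem Q88431 : ∀ i, i < 88431 → P i := stepQ 88430 Q88430 (allL N88430 (tt N83741 F383023) (tt N85761 F383021) (tt N97176 F415768) (tt N53056 F383019) (tt N69452 F383022) (tt N52748 (iv5 D191316)) (tt N69451 F383020) (tt N97177 (iv7 F415771)))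
theorem Q88432 : ∀ i, i < 88432 → P i := stepQ 88431 Q88431 (allL N88431 (tt N112447 (iv1 F481143)) (tt N111070 (iv0 F474523)) (tt N52750 F383024) (tt N106870 (iv3 F456081)) (tt N52749 (iv4 D191317)) (tt N116119 D219378) (tt N93925 F402449) (tt N86544 F383025))
theorem Q88433 : ∀ i, i < 88433 → P i := stepQ 88432 Q88432 (allL N88432 (tt N86544 (iv1 F383028)) (tt N52750 (iv0 D191318)) (tt N112447 F481147) (tt N109765 (iv3 F468508)) (tt N86760 F383027) (tt N88069 F383026) (tt N87616 (iv6 F383029)) (tt N111070 (iv7 F474522)))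
theorem Q88434 : ∀ i, i < 88434 → P i := stepQ 88433 Q88433 (allL N88433 (tt N52750 (iv1 D191319)) (tt N86544 F383030) (tt N111070 (iv2 F474518)) (tt N108499 F462861) (tt N86766 (iv4 F383032)) (tt N88068 F383031) (tt N111069 F474517) (tt N112447 (iv7 F481144)))
theorem Q88435 : ∀ i, i < 88435 → P i := stepQ 88434 Q88434 (allL N88434 (tt N102985 F439551) (tt N104883 (iv0 F447797)) (tt N116119 (iv2 F498569)) (tt N111123 (iv3 F474785)) (tt N115228 (iv4 F494123)) (tt N52750 (iv5 D191320)) (tt N91666 F393952) (tt N112448 (iv7 F481149)))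
theorem Q88436 : ∀ i, i < 88436 → P i := stepQ 88435 Q88435 (allL N88435 (tt N92800 (iv1 F398289)) (tt N98271 (iv0 F420271)) (tt N93925 (iv2 F402445)) (tt N103222 F440650) (tt N52751 F383033) (tt N59097 (iv5 F383034)) (tt N52750 (iv6 D191321)) (tt N93917 (iv7 F402427)))
theorem Q88437 : ∀ i, i < 88437 → P i := stepQ 88436 Q88436 (allL N88436 (tt N79002 F383038) (tt N74796 (iv0 F383039)) (tt N76390 F383035) (tt N52752 (iv3 D191322)) (tt N76315 F383036) (tt N63389 F383040) (tt N104212 (iv6 F444720)) (tt N54901 F383037))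
theorem Q88438 : ∀ i, i < 88438 → P i := stepQ 88437 Q88437 (allL N88437 (tt N98353 F420616) (tt N92203 (iv0 F396231)) (tt N54906 F383041) (tt N63389 F383042) (tt N62939 F383045) (tt N52752 (iv5 D191323)) (tt N62937 (iv6 F383044)) (tt N54903 F383043))
theorem Q88439 : ∀ i, i < 88439 → P i := stepQ 88438 Q88438 (allL N88438 (tt N63501 F383050) (tt N63382 (iv0 F383051)) (tt N63493 F383046) (tt N76287 F383047) (tt N116120 D219379) (tt N52754 (iv5 D191324)) (tt N63373 F383048) (tt N63191 F383049))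
theorem Q88440 : ∀ i, i < 88440 → P i := stepQ 88439 Q88439 (allL N88439 (tt N62886 F383056) (tt N56152 F383055) (tt N64041 F383052) (tt N73858 F383053) (tt N103910 (iv4 F443324)) (tt N52755 (iv5 D191325)) (tt N73657 F383057) (tt N62508 F383054))
theorem Q88441 : ∀ i, i < 88441 → P i := stepQ 88440 Q88440 (allL N88440 (tt N61419 F383062) (tt N61417 (iv0 F383063)) (tt N94105 (iv2 F403225)) (tt N52756 (iv3 D191326)) (tt N70495 F383058) (tt N56082 F383059) (tt N61763 F383060) (tt N61764 F383061))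
theorem Q88442 : ∀ i, i < 88442 → P i := stepQ 88441 Q88441 (allL N88441 (tt N113599 F486239) (tt N116121 D219380) (tt N112062 (iv2 F479311)) (tt N52758 F383064) (tt N108019 (iv4 F460763)) (tt N52757 (iv5 D191327)) (tt N80503 F383065) (tt N113995 (iv7 F488110)))
theorem Q88443 : ∀ i, i < 88443 → P i := stepQ 88442 Q88442 (allL N88442 (tt N82678 (iv1 F383068)) (tt N52758 (iv0 D191328)) (tt N54647 (iv2 F383067)) (tt N82686 (iv3 F383070)) (tt N88594 (iv4 F383543)) (tt N54646 F383066) (tt N116122 D219381) (tt N82694 F383069))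
theorem Q88444 : ∀ i, i < 88444 → P i := stepQ 88443 Q88443 (allL N88443 (tt N100858 (iv1 F430800)) (tt N91127 (iv0 F392025)) (tt N88486 (iv2 F383242)) (tt N108021 (iv3 F460770)) (tt N52758 (iv4 D191329)) (tt N100994 (iv5 F431187)) (tt N80504 F383071) (tt N100993 (iv7 F431181)))
theorem Q88445 : ∀ i, i < 88445 → P i := stepQ 88444 Q88444 (allL N88444 (tt N84880 F383074) (tt N113843 F487404) (tt N85467 F383072) (tt N52761 F383073) (tt N113536 F485933) (tt N52760 (iv5 D191330)) (tt N116123 D219382) (tt N113411 (iv7 F485371)))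
theorem Q88446 : ∀ i, i < 88446 → P i := stepQ 88445 Q88445 (allL N88445 (tt N85910 (iv1 F383080)) (tt N109041 F465063) (tt N86236 F383075) (tt N52762 F383076) (tt N87316 F383077) (tt N72457 F383078) (tt N52760 (iv6 D191331)) (tt N72617 (iv7 F383079)))
theorem Q88447 : ∀ i, i < 88447 → P i := stepQ 88446 Q88446 (allL N88446 (tt N59012 F383084) (tt N70162 (iv0 F383085)) (tt N70314 F383082) (tt N116123 (iv3 F498592)) (tt N94547 (iv4 F404920)) (tt N59222 F383083) (tt N52761 (iv6 D191332)) (tt N70315 (iv7 F383086)))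
theorem Q88448 : ∀ i, i < 88448 → P i := stepQ 88447 Q88447 (allL N88447 (tt N100608 F429687) (tt N100570 (iv0 F429514)) (tt N100632 F429768) (tt N85466 F383087) (tt N112760 (iv4 F482523)) (tt N90313 (iv5 F389323)) (tt N52763 (iv6 D191333)) (tt N100633 (iv7 F429770)))
theorem Q88449 : ∀ i, i < 88449 → P i := stepQ 88448 Q88448 (allL N88448 (tt N85561 (iv1 F383091)) (tt N87345 (iv0 F383090)) (tt N75142 F383088) (tt N52765 (iv3 D191334)) (tt N115332 (iv4 F494637)) (tt N83373 F383089) (tt N62759 (iv6 F383092)) (tt N113701 (iv7 F486705)))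
theorem Q88450 : ∀ i, i < 88450 → P i := stepQ 88449 Q88449 (allL N88449 (tt N96301 F411921) (tt N101282 (iv0 F432517)) (tt N63958 F383093) (tt N62759 F383094) (tt N95129 (iv4 F407154)) (tt N62997 F383095) (tt N52765 (iv6 D191335)) (tt N63954 (iv7 F383096)))
theorem Q88451 : ∀ i, i < 88451 → P i := stepQ 88450 Q88450 (allL N88450 (tt N58298 F407174) (tt N58306 (iv0 F407173)) (tt N95686 (iv2 F409136)) (tt N86284 F383097) (tt N95131 (iv4 F407168)) (tt N95950 (iv5 F410387)) (tt N52766 (iv6 D191336)) (tt N95684 (iv7 F409130)))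
theorem Q88452 : ∀ i, i < 88452 → P i := stepQ 88451 Q88451 (allL N88451 (tt N108141 F461293) (tt N116124 D219383) (tt N114511 (iv2 F490523)) (tt N52767 (iv3 D191337)) (tt N52775 F383098) (tt N95926 (iv5 F410297)) (tt N80531 F383099) (tt N94517 (iv7 F404802)))
theorem Q88453 : ∀ i, i < 88453 → P i := stepQ 88452 Q88452 (allL N88452 (tt N76935 F383103) (tt N98697 (iv0 F421897)) (tt N73163 F383100) (tt N116125 D219384) (tt N52768 (iv4 D191338)) (tt N87130 F383102) (tt N73146 F383104) (tt N83288 F383101))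
theorem Q88454 : ∀ i, i < 88454 → P i := stepQ 88453 Q88453 (allL N88453 (tt N86316 F383110) (tt N70281 (iv0 F383111)) (tt N73162 F383105) (tt N54287 F383106) (tt N73146 F383107) (tt N62200 F383108) (tt N52768 (iv6 D191339)) (tt N73007 F383109))
theorem Q88455 : ∀ i, i < 88455 → P i := stepQ 88454 Q88454 (allL N88454 (tt N98697 (iv1 F421898)) (tt N76935 F383116) (tt N83288 F383112) (tt N75550 (iv3 F383117)) (tt N52769 (iv4 D191340)) (tt N56639 F383113) (tt N66789 F383114) (tt N73163 F383115))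
theorem Q88456 : ∀ i, i < 88456 → P i := stepQ 88455 Q88455 (allL N88455 (tt N82884 F383120) (tt N82634 F383121) (tt N82880 F383118) (tt N89618 (iv3 F386983)) (tt N52771 (iv4 D191341)) (tt N115769 (iv5 F496771)) (tt N84782 F383122) (tt N82881 F383119))
theorem Q88457 : ∀ i, i < 88457 → P i := stepQ 88456 Q88456 (allL N88456 (tt N86067 (iv1 F383128)) (tt N89856 (iv0 F387744)) (tt N77400 F383123) (tt N54292 F383124) (tt N84782 F383125) (tt N77161 F383126) (tt N52771 (iv6 D191342)) (tt N83380 (iv7 F383127)))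
theorem Q88458 : ∀ i, i < 88458 → P i := stepQ 88457 Q88457 (allL N88457 (tt N82634 F383131) (tt N82884 F383132) (tt N82881 F383129) (tt N109680 (iv3 F468071)) (tt N52772 (iv4 D191343)) (tt N115768 (iv5 F496766)) (tt N92821 (iv6 F398381)) (tt N82880 F383130))
theorem Q88459 : ∀ i, i < 88459 → P i := stepQ 88458 Q88458 (allL N88458 (tt N113326 (iv1 F485041)) (tt N113327 (iv0 F485046)) (tt N83291 F383133) (tt N76493 F383134) (tt N92821 F398380) (tt N75950 F383135) (tt N52772 (iv6 D191344)) (tt N111845 (iv7 F478278)))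
theorem Q88460 : ∀ i, i < 88460 → P i := stepQ 88459 Q88459 (allL N88459 (tt N52775 (iv1 D191345)) (tt N112016 F479094) (tt N86175 F383138) (tt N114762 F491728) (tt N111018 (iv4 F474282)) (tt N85895 (iv5 F383137)) (tt N89853 (iv6 F387727)) (tt N86172 F383136))
theorem Q88461 : ∀ i, i < 88461 → P i := stepQ 88460 Q88460 (allL N88460 (tt N79408 F383142) (tt N103755 (iv0 F442687)) (tt N52780 F383139) (tt N66946 F383140) (tt N116126 D219385) (tt N52776 (iv5 D191346)) (tt N79401 F383141) (tt N103758 (iv7 F442699)))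
theorem Q88462 : ∀ i, i < 88462 → P i := stepQ 88461 Q88461 (allL N88461 (tt N102266 F436459) (tt N81538 (iv0 F383146)) (tt N76148 F383143) (tt N63519 F383144) (tt N116127 D219386) (tt N52778 (iv5 D191347)) (tt N100370 F428642) (tt N63656 F383145))
theorem Q88463 : ∀ i, i < 88463 → P i := stepQ 88462 Q88462 (allL N88462 (tt N81538 F383151) (tt N102266 (iv0 F436458)) (tt N63656 F383147) (tt N63773 F383148) (tt N105156 (iv4 F449046)) (tt N52779 (iv5 D191348)) (tt N65300 F383149) (tt N76148 F383150))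
theorem Q88464 : ∀ i, i < 88464 → P i := stepQ 88463 Q88463 (allL N88463 (tt N103758 (iv1 F442698)) (tt N52780 (iv0 D191349)) (tt N79408 (iv2 F383154)) (tt N60381 F383153) (tt N107674 (iv4 F459178)) (tt N80729 F383152) (tt N60379 F383155) (tt N103755 (iv7 F442685)))
theorem Q88465 : ∀ i, i < 88465 → P i := stepQ 88464 Q88464 (allL N88464 (tt N116128 D219387) (tt N116129 D219388) (tt N116126 (iv2 F498609)) (tt N54184 F383156) (tt N52780 (iv4 D191350)) (tt N87995 (iv5 F383157)) (tt N108939 (iv6 F464583)) (tt N91741 (iv7 F394275)))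
theorem Q88466 : ∀ i, i < 88466 → P i := stepQ 88465 Q88465 (allL N88465 (tt N80708 (iv1 F383162)) (tt N52781 (iv0 D191351)) (tt N80706 (iv2 F383161)) (tt N66496 (iv3 F383164)) (tt N81424 F383159) (tt N80968 F383158) (tt N66495 F383160) (tt N77607 F383163))
theorem Q88467 : ∀ i, i < 88467 → P i := stepQ 88466 Q88466 (allL N88466 (tt N54324 F383167) (tt N54326 F383168) (tt N80707 F383165) (tt N88032 (iv3 F383169)) (tt N52781 (iv4 D191352)) (tt N91717 (iv5 F394159)) (tt N52782 F383166) (tt N90513 (iv7 F389902)))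
theorem Q88468 : ∀ i, i < 88468 → P i := stepQ 88467 Q88467 (allL N88467 (tt N108954 (iv1 F464648)) (tt N91981 (iv0 F395234)) (tt N87908 F383170) (tt N78758 F383171) (tt N52784 (iv4 D191353)) (tt N116130 D219389) (tt N112146 (iv6 F479737)) (tt N82493 F383172))
theorem Q88469 : ∀ i, i < 88469 → P i := stepQ 88468 Q88468 (allL N88468 (tt N103971 (iv1 F443581)) (tt N78516 F415855) (tt N103972 (iv2 F443586)) (tt N78760 F383173) (tt N69476 F383175) (tt N52784 (iv5 D191354)) (tt N103979 (iv6 F443631)) (tt N68385 F383174))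
theorem Q88470 : ∀ i, i < 88470 → P i := stepQ 88469 Q88469 (allL N88469 (tt N82474 (iv1 F383178)) (tt N78503 F383179) (tt N78754 F383176) (tt N52785 (iv3 D191355)) (tt N92096 (iv4 F395716)) (tt N103970 (iv5 F443578)) (tt N92092 F395709) (tt N82475 F383177))
theorem Q88471 : ∀ i, i < 88471 → P i := stepQ 88470 Q88470 (allL N88470 (tt N91981 F395233) (tt N108954 (iv0 F464647)) (tt N82493 F383180) (tt N65535 F383183) (tt N52785 (iv4 D191356)) (tt N116131 D219390) (tt N65532 F383181) (tt N87908 F383182))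
theorem Q88472 : ∀ i, i < 88472 → P i := stepQ 88471 Q88471 (allL N88471 (tt N97199 (iv1 F415857)) (tt N52787 (iv0 D191357)) (tt N106718 (iv2 F455385)) (tt N79880 (iv3 F415859)) (tt N97201 (iv4 F415869)) (tt N79879 F415858) (tt N115717 (iv6 F496483)) (tt N103993 F443689))
theorem Q88473 : ∀ i, i < 88473 → P i := stepQ 88472 Q88472 (allL N88472 (tt N52787 (iv1 D191358)) (tt N97199 F415856) (tt N103993 (iv2 F443685)) (tt N88340 (iv3 F383185)) (tt N92994 (iv4 F399047)) (tt N81567 F383184) (tt N69498 F399048) (tt N106718 (iv7 F455387)))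
theorem Q88474 : ∀ i, i < 88474 → P i := stepQ 88473 Q88473 (allL N88473 (tt N98282 (iv1 F420310)) (tt N69507 F396240) (tt N86571 F383187) (tt N83803 F383188) (tt N52787 (iv4 D191359)) (tt N75714 (iv5 F383190)) (tt N86431 F383189) (tt N92206 (iv7 F396249)))
theorem Q88475 : ∀ i, i < 88475 → P i := stepQ 88474 Q88474 (allL N88474 (tt N75200 F383198) (tt N75198 F383199) (tt N75207 F383193) (tt N70493 F383194) (tt N75767 F383195) (tt N52795 (iv5 D191360)) (tt N70481 F383196) (tt N75183 F383197))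
theorem Q88476 : ∀ i, i < 88476 → P i := stepQ 88475 Q88475 (allL N88475 (tt N63533 F383203) (tt N80905 (iv0 F383204)) (tt N81049 F383205) (tt N52796 (iv3 D191361)) (tt N81193 F383200) (tt N75205 F383201) (tt N90505 F389872) (tt N81048 F383202))
theorem Q88477 : ∀ i, i < 88477 → P i := stepQ 88476 Q88476 (allL N88476 (tt N80715 (iv1 F383209)) (tt N52798 (iv0 D191362)) (tt N80712 (iv2 F383208)) (tt N109281 (iv3 F466166)) (tt N80885 F383207) (tt N81087 F383206) (tt N98297 (iv6 F420385)) (tt N80713 F383210))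
theorem Q88478 : ∀ i, i < 88478 → P i := stepQ 88477 Q88477 (allL N88477 (tt N84166 F383213) (tt N90501 (iv0 F389849)) (tt N52804 F383211) (tt N109398 (iv3 F466759)) (tt N114621 (iv4 F491045)) (tt N52801 (iv5 D191363)) (tt N80677 F383212) (tt N90511 (iv7 F389894)))
theorem Q88479 : ∀ i, i < 88479 → P i := stepQ 88478 Q88478 (allL N88478 (tt N77024 F383218) (tt N53895 F383217) (tt N77025 F383214) (tt N63443 F383215) (tt N52802 (iv4 D191364)) (tt N80047 (iv5 F383219)) (tt N112116 F479567) (tt N63482 F383216))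
theorem Q88480 : ∀ i, i < 88480 → P i := stepQ 88479 Q88479 (allL N88479 (tt N111951 (iv1 F478838)) (tt N64837 F383234) (tt N84160 F383220) (tt N76994 F383221) (tt N113957 (iv4 F487960)) (tt N52802 (iv5 D191365)) (tt N116132 D219391) (tt N100072 (iv7 F427436)))
theorem Q88481 : ∀ i, i < 88481 → P i := stepQ 88480 Q88480 (allL N88480 (tt N53900 F388025) (tt N100565 F429486) (tt N84161 F383222) (tt N75927 F383223) (tt N112116 (iv4 F479564)) (tt N112336 (iv5 F480629)) (tt N52802 (iv6 D191366)) (tt N112024 (iv7 F479131)))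
theorem Q88482 : ∀ i, i < 88482 → P i := stepQ 88481 Q88481 (allL N88481 (tt N53895 F383227) (tt N77024 (iv0 F383228)) (tt N63482 F383224) (tt N78554 F383225) (tt N52803 (iv4 D191367)) (tt N112380 (iv5 F480821)) (tt N105723 F451422) (tt N77025 F383226))
theorem Q88483 : ∀ i, i < 88483 → P i := stepQ 88482 Q88482 (allL N88482 (tt N64837 F383231) (tt N111951 F478839) (tt N100072 (iv2 F427434)) (tt N53936 F383229) (tt N53658 F383233) (tt N52803 (iv5 D191368)) (tt N53660 (iv6 F383232)) (tt N84160 F383230))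
theorem Q88484 : ∀ i, i < 88484 → P i := stepQ 88483 Q88483 (allL N88483 (tt N79159 F383238) (tt N68038 (iv0 F383237)) (tt N100073 (iv2 F427441)) (tt N53937 F383235) (tt N105723 (iv4 F451417)) (tt N64673 F383236) (tt N52803 (iv6 D191369)) (tt N111103 (iv7 F474680)))
theorem Q88485 : ∀ i, i < 88485 → P i := stepQ 88484 Q88484 (allL N88484 (tt N90511 (iv1 F389893)) (tt N52804 (iv0 D191370)) (tt N84166 (iv2 F383239)) (tt N76997 F383240) (tt N116133 D219392) (tt N90502 (iv5 F389855)) (tt N116134 D219393) (tt N90501 (iv7 F389851)))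
theorem Q88486 : ∀ i, i < 88486 → P i := stepQ 88485 Q88485 (allL N88485 (tt N116135 D219394) (tt N116136 D219395) (tt N114621 (iv2 F491043)) (tt N72564 (iv3 F384760)) (tt N52804 (iv4 D191371)) (tt N53619 F384758) (tt N84036 F383241) (tt N88563 F383501))
theorem Q88487 : ∀ i, i < 88487 → P i := stepQ 88486 Q88486 (allL N88486 (tt N84979 F383244) (tt N88592 (iv0 F383541)) (tt N88443 F383242) (tt N112791 F482636) (tt N52805 (iv4 D191372)) (tt N116137 D219396) (tt N52806 F383243) (tt N112951 (iv7 F483354)))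
theorem Q88488 : ∀ i, i < 88488 → P i := stepQ 88487 Q88487 (allL N88487 (tt N64373 (iv1 F383247)) (tt N52806 (iv0 D191373)) (tt N64327 (iv2 F383248)) (tt N100588 (iv3 F429577)) (tt N63913 F383246) (tt N82292 F383245) (tt N100591 (iv6 F429593)) (tt N64329 (iv7 F383249)))
theorem Q88489 : ∀ i, i < 88489 → P i := stepQ 88488 Q88488 (allL N88488 (tt N52806 (iv1 D191374)) (tt N64373 F383250) (tt N64329 (iv2 F383254)) (tt N89393 (iv3 F387148)) (tt N63912 F383253) (tt N80316 F383252) (tt N112790 (iv6 F482642)) (tt N64327 F383251))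
theorem Q88490 : ∀ i, i < 88490 → P i := stepQ 88489 Q88489 (allL N88489 (tt N72521 (iv1 F384763)) (tt N110884 (iv0 F473602)) (tt N108463 (iv2 F462691)) (tt N52806 (iv3 D191375)) (tt N72564 F384762) (tt N100940 (iv5 F431037)) (tt N112791 (iv6 F482638)) (tt N100591 (iv7 F429594)))
theorem Q88491 : ∀ i, i < 88491 → P i := stepQ 88490 Q88490 (allL N88490 (tt N78359 F383258) (tt N53708 F387172) (tt N77047 F383255) (tt N52808 F383256) (tt N64321 F383257) (tt N101006 (iv5 F431230)) (tt N52807 (iv6 D191376)) (tt N101137 (iv7 F431872)))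
theorem Q88492 : ∀ i, i < 88492 → P i := stepQ 88491 Q88491 (allL N88491 (tt N52814 (iv1 F383264)) (tt N52813 F383265) (tt N52815 F383259) (tt N63840 F383260) (tt N66848 F383261) (tt N77284 F383262) (tt N68977 F383263) (tt N52812 (iv7 D191377)))
theorem Q88493 : ∀ i, i < 88493 → P i := stepQ 88492 Q88492 (allL N88492 (tt N77730 F383270) (tt N80668 (iv0 F383272)) (tt N70107 F383266) (tt N52817 F383267) (tt N66474 F383268) (tt N81106 F383271) (tt N52816 (iv6 D191378)) (tt N66473 F383269))
theorem Q88494 : ∀ i, i < 88494 → P i := stepQ 88493 Q88493 (allL N88493 (tt N83104 F383274) (tt N101765 (iv0 F434249)) (tt N101471 (iv2 F433061)) (tt N88518 (iv3 F383367)) (tt N116138 D219397) (tt N52820 (iv5 D191379)) (tt N83071 F383273) (tt N101766 (iv7 F434252)))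
theorem Q88495 : ∀ i, i < 88495 → P i := stepQ 88494 Q88494 (allL N88494 (tt N79481 F383277) (tt N104812 F447419) (tt N52827 F383275) (tt N95781 (iv3 F409603)) (tt N109772 (iv4 F468539)) (tt N80828 F383276) (tt N52823 (iv6 D191380)) (tt N104811 (iv7 F447412)))
theorem Q88496 : ∀ i, i < 88496 → P i := stepQ 88495 Q88495 (allL N88495 (tt N116139 D219398) (tt N116140 D219399) (tt N113059 (iv2 F483781)) (tt N112069 (iv3 F479342)) (tt N114047 (iv4 F488343)) (tt N52825 (iv5 D191381)) (tt N116141 D219400) (tt N113060 (iv7 F483790)))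
theorem Q88497 : ∀ i, i < 88497 → P i := stepQ 88496 Q88496 (allL N88496 (tt N75471 F383279) (tt N109703 F468200) (tt N109772 (iv2 F468545)) (tt N109779 (iv3 F468575)) (tt N52827 F383278) (tt N110252 F470644) (tt N52825 (iv6 D191382)) (tt N110406 (iv7 F471431)))
theorem Q88498 : ∀ i, i < 88498 → P i := stepQ 88497 Q88497 (allL N88497 (tt N107735 F459464) (tt N107756 F459580) (tt N58111 F383280) (tt N96437 (iv3 F412513)) (tt N52826 (iv4 D191383)) (tt N53618 (iv5 F383283)) (tt N82433 F383281) (tt N82351 F383282))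
theorem Q88499 : ∀ i, i < 88499 → P i := stepQ 88498 Q88498 (allL N88498 (tt N80299 F383287) (tt N79460 (iv0 F383288)) (tt N80828 F383284) (tt N81271 F383285) (tt N106836 (iv4 F455904)) (tt N52827 (iv5 D191384)) (tt N81492 F383286) (tt N80827 F383289))
theorem Q88500 : ∀ i, i < 88500 → P i := stepQ 88499 Q88499 (allL N88499 (tt N104812 (iv1 F447420)) (tt N79481 (iv0 F383292)) (tt N104811 F447411) (tt N102804 (iv3 F438717)) (tt N110406 (iv4 F471432)) (tt N80827 F383290) (tt N68039 F383291) (tt N52827 (iv7 D191385)))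
theorem Q88501 : ∀ i, i < 88501 → P i := stepQ 88500 Q88500 (allL N88500 (tt N104799 (iv1 F447340)) (tt N104796 (iv0 F447317)) (tt N74356 F383293) (tt N52831 F383294) (tt N62679 F383295) (tt N116142 D219401) (tt N52828 (iv6 D191386)) (tt N104797 (iv7 F447324)))
theorem Q88502 : ∀ i, i < 88502 → P i := stepQ 88501 Q88501 (allL N88501 (tt N116140 (iv1 F498692)) (tt N116139 F498689) (tt N113060 (iv2 F483786)) (tt N64393 F383296) (tt N53621 F383297) (tt N52829 (iv5 D191387)) (tt N53623 F383298) (tt N113059 (iv7 F483783)))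
theorem Q88503 : ∀ i, i < 88503 → P i := stepQ 88502 Q88502 (allL N88502 (tt N116143 D219402) (tt N83101 (iv0 F383302)) (tt N110265 (iv2 F470720)) (tt N64394 F383299) (tt N52831 F383300) (tt N84952 F383301) (tt N52829 (iv6 D191388)) (tt N110263 (iv7 F470708)))
theorem Q88504 : ∀ i, i < 88504 → P i := stepQ 88503 Q88503 (allL N88503 (tt N64665 F383306) (tt N77687 F383307) (tt N81474 F383303) (tt N116142 (iv3 F498707)) (tt N116144 D219403) (tt N52831 (iv5 D191389)) (tt N65080 F383304) (tt N81475 F383305))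
theorem Q88505 : ∀ i, i < 88505 → P i := stepQ 88504 Q88504 (allL N88504 (tt N111990 (iv1 F478983)) (tt N72985 F383311) (tt N100824 (iv2 F430646)) (tt N52832 (iv3 D191390)) (tt N52838 F383308) (tt N77492 (iv5 F383310)) (tt N94432 F404461) (tt N82353 F383309))
theorem Q88506 : ∀ i, i < 88506 → P i := stepQ 88505 Q88505 (allL N88505 (tt N53655 F386727) (tt N112814 F482743) (tt N101872 (iv2 F434764)) (tt N77492 F383312) (tt N53620 (iv4 F384759)) (tt N52832 (iv5 D191391)) (tt N116145 D219404) (tt N111828 (iv7 F478184)))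
theorem Q88507 : ∀ i, i < 88507 → P i := stepQ 88506 Q88506 (allL N88506 (tt N82068 (iv1 F383314)) (tt N101526 (iv0 F433259)) (tt N52833 (iv2 D191392)) (tt N100532 (iv3 F429364)) (tt N116146 D219405) (tt N80753 F383313) (tt N100708 (iv6 F430117)) (tt N111012 (iv7 F474246)))
theorem Q88508 : ∀ i, i < 88508 → P i := stepQ 88507 Q88507 (allL N88507 (tt N65415 F383315) (tt N65411 F383316) (tt N116146 (iv2 F498734)) (tt N109624 (iv3 F467796)) (tt N52833 (iv4 D191393)) (tt N109623 F467794) (tt N96168 (iv6 F411325)) (tt N111014 (iv7 F474257)))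
theorem Q88509 : ∀ i, i < 88509 → P i := stepQ 88508 Q88508 (allL N88508 (tt N94027 F402878) (tt N80239 (iv0 F383320)) (tt N100708 (iv2 F430115)) (tt N52834 F383317) (tt N96168 F411324) (tt N63588 F383318) (tt N52833 (iv6 D191394)) (tt N81201 F383319))
theorem Q88510 : ∀ i, i < 88510 → P i := stepQ 88509 Q88509 (allL N88509 (tt N88665 (iv1 F383790)) (tt N81754 (iv0 F383326)) (tt N80117 F383321) (tt N82354 F383322) (tt N52841 F383323) (tt N54270 F383324) (tt N52840 (iv6 D191395)) (tt N54269 F383325))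
theorem Q88511 : ∀ i, i < 88511 → P i := stepQ 88510 Q88510 (allL N88510 (tt N70111 F383333) (tt N63232 (iv0 F383334)) (tt N52844 F383329) (tt N66885 F383330) (tt N68504 F383331) (tt N58803 F383332) (tt N52843 (iv6 D191396)) (tt N103757 (iv7 F442695)))
theorem Q88512 : ∀ i, i < 88512 → P i := stepQ 88511 Q88511 (allL N88511 (tt N103757 F442697) (tt N52844 (iv0 D191397)) (tt N70111 (iv2 F383338)) (tt N63865 F383335) (tt N63234 F383336) (tt N81102 (iv5 F383339)) (tt N63842 F383337) (tt N63232 (iv7 F383340)))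
theorem Q88513 : ∀ i, i < 88513 → P i := stepQ 88512 Q88512 (allL N88512 (tt N52844 (iv1 D191398)) (tt N103757 (iv0 F442696)) (tt N63232 F383346) (tt N70114 (iv3 F383343)) (tt N62755 F383342) (tt N81103 (iv5 F383345)) (tt N63208 (iv6 F383344)) (tt N70111 F383341))
theorem Q88514 : ∀ i, i < 88514 → P i := stepQ 88513 Q88513 (allL N88513 (tt N76500 F383349) (tt N53135 F383350) (tt N105733 F451466) (tt N57470 F383347) (tt N116147 D219406) (tt N52847 (iv5 D191399)) (tt N52848 F383348) (tt N103592 (iv7 F442167)))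
theorem Q88515 : ∀ i, i < 88515 → P i := stepQ 88514 Q88514 (allL N88514 (tt N113874 (iv1 F487572)) (tt N59543 F383351) (tt N113643 (iv2 F486460)) (tt N116148 D219407) (tt N52848 (iv4 D191400)) (tt N116149 D219408) (tt N116147 (iv6 F498743)) (tt N113642 (iv7 F486457)))
theorem Q88516 : ∀ i, i < 88516 → P i := stepQ 88515 Q88515 (allL N88515 (tt N67010 (iv1 F383358)) (tt N64464 (iv0 F383357)) (tt N66974 F383352) (tt N77591 F383353) (tt N52850 F383354) (tt N69427 F383355) (tt N52849 (iv6 D191401)) (tt N67009 F383356))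
theorem Q88517 : ∀ i, i < 88517 → P i := stepQ 88516 Q88516 (allL N88516 (tt N78012 F383361) (tt N88640 (iv0 F383669)) (tt N89331 (iv2 F386144)) (tt N64554 F383359) (tt N116150 D219409) (tt N52854 (iv5 D191402)) (tt N84983 F383360) (tt N89423 (iv7 F386448)))
theorem Q88518 : ∀ i, i < 88518 → P i := stepQ 88517 Q88517 (allL N88517 (tt N80606 F383365) (tt N76635 (iv0 F383366)) (tt N75997 F383362) (tt N70089 F383363) (tt N52856 F383364) (tt N105707 (iv5 F451346)) (tt N52855 (iv6 D191403)) (tt N89733 (iv7 F387350)))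
theorem Q88519 : ∀ i, i < 88519 → P i := stepQ 88518 Q88518 (allL N88518 (tt N80872 F383369) (tt N80865 (iv0 F383370)) (tt N89329 (iv2 F386135)) (tt N88493 F383367) (tt N114904 (iv4 F492448)) (tt N52856 (iv5 D191404)) (tt N84984 F383368) (tt N89734 (iv7 F387354)))
theorem Q88520 : ∀ i, i < 88520 → P i := stepQ 88519 Q88519 (allL N88519 (tt N91023 (iv1 F391625)) (tt N114008 F488178) (tt N83836 F383371) (tt N52860 F383372) (tt N81408 F383374) (tt N52858 (iv5 D191405)) (tt N116151 D219410) (tt N81324 F383373))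
theorem Q88521 : ∀ i, i < 88521 → P i := stepQ 88520 Q88520 (allL N88520 (tt N52919 F383390) (tt N113479 (iv0 F485682)) (tt N83837 F383376) (tt N52861 F383377) (tt N83830 F383378) (tt N100276 (iv5 F428207)) (tt N52858 (iv6 D191406)) (tt N113163 (iv7 F484276)))
theorem Q88522 : ∀ i, i < 88522 → P i := stepQ 88521 Q88521 (allL N88521 (tt N98320 (iv1 F420490)) (tt N98319 F420487) (tt N81311 F383379) (tt N63056 F383380) (tt N61423 F383381) (tt N52859 (iv5 D191407)) (tt N61428 F383383) (tt N74883 F383382))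
theorem Q88523 : ∀ i, i < 88523 → P i := stepQ 88522 Q88522 (allL N88522 (tt N70021 (iv1 F383389)) (tt N70024 (iv0 F383388)) (tt N86787 F383384) (tt N85744 F383385) (tt N52861 F383386) (tt N60869 F383387) (tt N52859 (iv6 D191408)) (tt N104818 (iv7 F447439)))
theorem Q88524 : ∀ i, i < 88524 → P i := stepQ 88523 Q88523 (allL N88523 (tt N114017 (iv1 F488213)) (tt N113719 (iv0 F486817)) (tt N85371 F383391) (tt N116151 (iv3 F498763)) (tt N75299 F383392) (tt N90852 (iv5 F391050)) (tt N52860 (iv6 D191409)) (tt N81357 F383393))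
theorem Q88525 : ∀ i, i < 88525 → P i := stepQ 88524 Q88524 (allL N88524 (tt N53488 F383396) (tt N53498 F383398) (tt N53496 F383394) (tt N100276 (iv3 F428209)) (tt N77906 F383397) (tt N52861 (iv5 D191410)) (tt N90852 (iv6 F391051)) (tt N53495 F383395))
theorem Q88526 : ∀ i, i < 88526 → P i := stepQ 88525 Q88525 (allL N88525 (tt N81285 F383402) (tt N81284 F383403) (tt N81314 F383399) (tt N80879 F383400) (tt N52864 (iv4 D191411)) (tt N100385 (iv5 F428728)) (tt N109253 F466010) (tt N81315 F383401))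
theorem Q88527 : ∀ i, i < 88527 → P i := stepQ 88526 Q88526 (allL N88526 (tt N65349 (iv1 F411697)) (tt N78697 (iv0 F411696)) (tt N78695 F391592) (tt N96240 (iv3 F411689)) (tt N109253 (iv4 F466007)) (tt N105105 (iv5 F448813)) (tt N52864 (iv6 D191412)) (tt N78696 (iv7 F391594)))
theorem Q88528 : ∀ i, i < 88528 → P i := stepQ 88527 Q88527 (allL N88527 (tt N82096 F383405) (tt N99836 (iv0 F426456)) (tt N106993 (iv2 F456554)) (tt N108358 (iv3 F462237)) (tt N81342 F383404) (tt N90897 (iv5 F391205)) (tt N52865 (iv6 D191413)) (tt N106991 (iv7 F456546)))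
theorem Q88529 : ∀ i, i < 88529 → P i := stepQ 88528 Q88528 (allL N88528 (tt N64228 (iv1 F383408)) (tt N52866 (iv0 D191414)) (tt N78721 F383410) (tt N66991 (iv3 F383409)) (tt N84128 F383407) (tt N68515 F383406) (tt N65348 (iv6 F383412)) (tt N68514 F383411))
theorem Q88530 : ∀ i, i < 88530 → P i := stepQ 88529 Q88529 (allL N88529 (tt N52866 (iv1 D191415)) (tt N64228 F383413) (tt N68514 F383418) (tt N78553 (iv3 F383416)) (tt N54178 F383415) (tt N68488 (iv5 F383417)) (tt N82097 F383419) (tt N78721 F383414))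
theorem Q88531 : ∀ i, i < 88531 → P i := stepQ 88530 Q88530 (allL N88530 (tt N83153 (iv1 F383426)) (tt N52869 (iv0 D191416)) (tt N75920 (iv2 F383425)) (tt N96760 (iv3 F413820)) (tt N81307 F383423) (tt N90665 F390456) (tt N82216 F383424) (tt N58509 F383427))
theorem Q88532 : ∀ i, i < 88532 → P i := stepQ 88531 Q88531 (allL N88531 (tt N115332 (iv1 F494635)) (tt N113849 (iv0 F487441)) (tt N82631 F383428) (tt N116152 D219411) (tt N52870 (iv4 D191417)) (tt N116153 D219412) (tt N68905 F383429) (tt N113755 (iv7 F486975)))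
theorem Q88533 : ∀ i, i < 88533 → P i := stepQ 88532 Q88532 (allL N88532 (tt N53616 F383433) (tt N82732 (iv0 F383434)) (tt N52881 F383430) (tt N82711 F383431) (tt N112169 (iv4 F479868)) (tt N52871 (iv5 D191418)) (tt N106504 (iv6 F454688)) (tt N52882 F383432))
theorem Q88534 : ∀ i, i < 88534 → P i := stepQ 88533 Q88533 (allL N88533 (tt N52887 (iv1 F383439)) (tt N52872 (iv0 D191419)) (tt N52884 (iv2 F383436)) (tt N82841 F383437) (tt N107440 (iv4 F458350)) (tt N83066 F383435) (tt N116154 D219413) (tt N52885 F383438))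
theorem Q88535 : ∀ i, i < 88535 → P i := stepQ 88534 Q88534 (allL N88534 (tt N116155 D219414) (tt N116156 D219415) (tt N52886 F383440) (tt N116157 D219416) (tt N52872 (iv4 D191420)) (tt N106758 (iv5 F455571)) (tt N105333 F449751) (tt N113960 F487974))
theorem Q88536 : ∀ i, i < 88536 → P i := stepQ 88535 Q88535 (allL N88535 (tt N52885 (iv1 F383443)) (tt N52884 F383444) (tt N52887 F383441) (tt N113728 (iv3 F486869)) (tt N113960 (iv4 F487972)) (tt N52873 F383442) (tt N113924 F487815) (tt N52872 (iv7 D191421)))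
theorem Q88537 : ∀ i, i < 88537 → P i := stepQ 88536 Q88536 (allL N88536 (tt N80448 F383451) (tt N52877 (iv0 D191422)) (tt N105026 (iv2 F448445)) (tt N64363 F383445) (tt N64371 F383446) (tt N72783 F383448) (tt N72786 F383447) (tt N80434 (iv7 F383450)))
theorem Q88538 : ∀ i, i < 88538 → P i := stepQ 88537 Q88537 (allL N88537 (tt N52877 (iv1 D191423)) (tt N80448 F383452) (tt N80434 F383456) (tt N68567 (iv3 F383455)) (tt N64370 (iv4 F383454)) (tt N75939 F383453) (tt N68565 F383457) (tt N105026 (iv7 F448448)))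
theorem Q88539 : ∀ i, i < 88539 → P i := stepQ 88538 Q88538 (allL N88538 (tt N80434 (iv1 F383462)) (tt N105026 (iv0 F448449)) (tt N80448 F383458) (tt N68557 F383459) (tt N52880 F383460) (tt N103004 (iv5 F439641)) (tt N76142 F383461) (tt N52877 (iv7 D191424)))
theorem Q88540 : ∀ i, i < 88540 → P i := stepQ 88539 Q88539 (allL N88539 (tt N106558 (iv1 F454858)) (tt N110165 F470252) (tt N110068 (iv2 F469822)) (tt N82266 F383463) (tt N72106 F383464) (tt N52878 (iv5 D191425)) (tt N116158 D219417) (tt N100049 (iv7 F427371)))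
theorem Q88541 : ∀ i, i < 88541 → P i := stepQ 88540 Q88540 (allL N88540 (tt N52879 (iv1 D191426)) (tt N110051 (iv0 F469741)) (tt N110072 (iv2 F469844)) (tt N100027 (iv3 F427270)) (tt N100053 F427376) (tt N68400 (iv5 F383465)) (tt N100052 (iv6 F427377)) (tt N100054 (iv7 F427381)))
theorem Q88542 : ∀ i, i < 88542 → P i := stepQ 88541 Q88541 (allL N88541 (tt N106852 (iv1 F455997)) (tt N106851 (iv0 F455992)) (tt N105333 (iv2 F449748)) (tt N116159 D219418) (tt N52879 (iv4 D191427)) (tt N91791 (iv5 F441294)) (tt N52886 F383468) (tt N105332 (iv7 F449745)))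
theorem Q88543 : ∀ i, i < 88543 → P i := stepQ 88542 Q88542 (allL N88542 (tt N110072 F469849) (tt N100054 (iv0 F427383)) (tt N110051 (iv2 F469738)) (tt N52895 F383469) (tt N105332 (iv4 F449746)) (tt N52880 F383470) (tt N113923 F487808) (tt N52879 (iv7 D191428)))
theorem Q88544 : ∀ i, i < 88544 → P i := stepQ 88543 Q88543 (allL N88543 (tt N116160 D219419) (tt N72558 (iv0 F454295)) (tt N112169 (iv2 F479864)) (tt N116161 D219420) (tt N52881 (iv4 D191429)) (tt N108017 (iv5 F460747)) (tt N63133 F451861) (tt N82733 F383471))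
theorem Q88545 : ∀ i, i < 88545 → P i := stepQ 88544 Q88544 (allL N88544 (tt N116162 D219421) (tt N76999 F451863) (tt N106504 (iv2 F454686)) (tt N82626 F383472) (tt N63133 F451864) (tt N106502 F454679) (tt N52881 (iv6 D191430)) (tt N116163 D219422))
theorem Q88546 : ∀ i, i < 88546 → P i := stepQ 88545 Q88545 (allL N88545 (tt N72558 F383474) (tt N116160 F498805) (tt N82733 F383473) (tt N83449 F438516) (tt N52882 (iv4 D191431)) (tt N108018 (iv5 F460759)) (tt N71415 F451210) (tt N112169 (iv7 F479867)))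
theorem Q88547 : ∀ i, i < 88547 → P i := stepQ 88546 Q88546 (allL N88546 (tt N105830 F451917) (tt N106010 (iv0 F452728)) (tt N82734 F383475) (tt N106402 (iv3 F454305)) (tt N71415 (iv4 F451209)) (tt N105676 F451208) (tt N52882 (iv6 D191432)) (tt N106395 (iv7 F454278)))
theorem Q88548 : ∀ i, i < 88548 → P i := stepQ 88547 Q88547 (allL N88547 (tt N53218 F383480) (tt N53770 F383481) (tt N53771 F383476) (tt N83083 F383477) (tt N56347 F383478) (tt N52883 (iv5 D191433)) (tt N105676 (iv6 F451205)) (tt N53772 F383479))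
theorem Q88549 : ∀ i, i < 88549 → P i := stepQ 88548 Q88548 (allL N88548 (tt N113499 (iv1 F485792)) (tt N108019 (iv0 F460764)) (tt N107440 (iv2 F458349)) (tt N116164 D219423) (tt N52884 (iv4 D191434)) (tt N107430 F458317) (tt N116165 D219424) (tt N83565 F383483))
theorem Q88550 : ∀ i, i < 88550 → P i := stepQ 88549 Q88549 (allL N88549 (tt N116166 D219425) (tt N114400 (iv0 F489965)) (tt N116154 (iv2 F498775)) (tt N82837 F383484) (tt N116165 (iv4 F498828)) (tt N85709 F383485) (tt N52884 (iv6 D191435)) (tt N112976 (iv7 F483418)))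
theorem Q88551 : ∀ i, i < 88551 → P i := stepQ 88550 Q88550 (allL N88550 (tt N108019 (iv1 F460762)) (tt N113499 (iv0 F485791)) (tt N83565 F383486) (tt N110149 (iv3 F470182)) (tt N52885 (iv4 D191436)) (tt N107121 F457074) (tt N110145 (iv6 F470166)) (tt N107440 (iv7 F458351)))
theorem Q88552 : ∀ i, i < 88552 → P i := stepQ 88551 Q88551 (allL N88551 (tt N99943 F454270) (tt N112973 F483409) (tt N83496 F383487) (tt N112979 (iv3 F483422)) (tt N110145 F470167) (tt N113210 (iv5 F484494)) (tt N52885 (iv6 D191437)) (tt N112974 (iv7 F483411)))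
theorem Q88553 : ∀ i, i < 88553 → P i := stepQ 88552 Q88552 (allL N88552 (tt N113960 (iv1 F487977)) (tt N52886 (iv0 D191438)) (tt N116155 (iv2 F498784)) (tt N116167 D219426) (tt N116168 D219427) (tt N108848 F476922) (tt N116169 D219428) (tt N116156 (iv7 F498786)))
theorem Q88554 : ∀ i, i < 88554 → P i := stepQ 88553 Q88553 (allL N88553 (tt N52886 (iv1 D191439)) (tt N113960 (iv0 F487975)) (tt N116156 F498789) (tt N113940 (iv3 F487882)) (tt N112885 (iv4 F483137)) (tt N108846 (iv5 F464239)) (tt N99942 F464240) (tt N116155 F498782))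
theorem Q88555 : ∀ i, i < 88555 → P i := stepQ 88554 Q88554 (allL N88554 (tt N107642 F459054) (tt N107640 (iv0 F459049)) (tt N108081 (iv2 F461030)) (tt N52886 (iv3 D191440)) (tt N52898 F383488) (tt N108065 F460960) (tt N116159 (iv6 F498799)) (tt N109622 (iv7 F467791)))
theorem Q88556 : ∀ i, i < 88556 → P i := stepQ 88555 Q88555 (allL N88555 (tt N116170 D219429) (tt N106766 (iv0 F455593)) (tt N106758 (iv2 F455569)) (tt N108065 (iv3 F460957)) (tt N112216 (iv4 F480090)) (tt N52886 (iv5 D191441)) (tt N106043 (iv6 F452869)) (tt N109620 (iv7 F467780)))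
theorem Q88557 : ∀ i, i < 88557 → P i := stepQ 88556 Q88556 (allL N88556 (tt N116156 (iv1 F498785)) (tt N116155 F498781) (tt N113960 (iv2 F487970)) (tt N109622 (iv3 F467789)) (tt N52887 F383489) (tt N109620 F467782) (tt N113603 F486258) (tt N52886 (iv7 D191442)))
theorem Q88558 : ∀ i, i < 88558 → P i := stepQ 88557 Q88557 (allL N88557 (tt N110154 F470205) (tt N82715 (iv0 F426955)) (tt N113924 (iv2 F487816)) (tt N52900 F383490) (tt N113603 (iv4 F486256)) (tt N62768 F383491) (tt N52887 (iv6 D191443)) (tt N113923 (iv7 F487810)))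
theorem Q88559 : ∀ i, i < 88559 → P i := stepQ 88558 Q88558 (allL N88558 (tt N52888 (iv1 D191444)) (tt N52890 F383492) (tt N88919 (iv2 F384532)) (tt N106558 (iv3 F454854)) (tt N92838 (iv4 F398449)) (tt N82290 F383494) (tt N89757 (iv6 F387444)) (tt N83925 F383493))
theorem Q88560 : ∀ i, i < 88560 → P i := stepQ 88559 Q88559 (allL N88559 (tt N90452 (iv1 F389699)) (tt N90536 (iv0 F389994)) (tt N89407 (iv2 F386385)) (tt N101277 F432505) (tt N52888 (iv4 D191445)) (tt N106843 F455951) (tt N106844 (iv6 F455953)) (tt N89409 (iv7 F386389)))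
theorem Q88561 : ∀ i, i < 88561 → P i := stepQ 88560 Q88560 (allL N88560 (tt N114050 F488355) (tt N116116 (iv0 F498554)) (tt N89408 (iv2 F386387)) (tt N80317 F383495) (tt N106844 F455954) (tt N81921 F383496) (tt N52888 (iv6 D191446)) (tt N116171 D219430))
theorem Q88562 : ∀ i, i < 88562 → P i := stepQ 88561 Q88561 (allL N88561 (tt N90536 (iv1 F389995)) (tt N90452 (iv0 F389698)) (tt N89409 (iv2 F386388)) (tt N113486 (iv3 F485721)) (tt N52890 (iv4 D191447)) (tt N85809 F383497) (tt N116172 D219431) (tt N89407 (iv7 F386386)))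
theorem Q88563 : ∀ i, i < 88563 → P i := stepQ 88562 Q88562 (allL N88562 (tt N113817 (iv1 F487265)) (tt N53018 (iv0 F383498)) (tt N89410 (iv2 F386391)) (tt N110141 (iv3 F470149)) (tt N116172 (iv4 F498859)) (tt N88647 (iv5 F383695)) (tt N52890 (iv6 D191448)) (tt N113815 (iv7 F487251)))
theorem Q88564 : ∀ i, i < 88564 → P i := stepQ 88563 Q88563 (allL N88563 (tt N116173 D219432) (tt N107311 (iv0 F457915)) (tt N89413 (iv2 F386404)) (tt N99396 F424404) (tt N63927 F383499) (tt N85342 F383500) (tt N52892 (iv6 D191449)) (tt N88485 (iv7 F383501)))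
theorem Q88565 : ∀ i, i < 88565 → P i := stepQ 88564 Q88564 (allL N88564 (tt N113828 (iv1 F487322)) (tt N113827 F487318) (tt N89415 (iv2 F386412)) (tt N110143 (iv3 F470159)) (tt N90813 (iv4 F390950)) (tt N112350 (iv5 F480698)) (tt N52893 (iv6 D191450)) (tt N112063 (iv7 F479315)))
theorem Q88566 : ∀ i, i < 88566 → P i := stepQ 88565 Q88565 (allL N88565 (tt N89418 (iv1 F386424)) (tt N52894 (iv0 D191451)) (tt N84167 (iv2 F383503)) (tt N92600 (iv3 F397578)) (tt N53938 F383502) (tt N61048 F383504) (tt N110058 (iv6 F469779)) (tt N84169 F383505))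
theorem Q88567 : ∀ i, i < 88567 → P i := stepQ 88566 Q88566 (allL N88566 (tt N76269 F429298) (tt N100956 F431092) (tt N100954 (iv2 F456756)) (tt N52894 (iv3 D191452)) (tt N116159 (iv4 F498797)) (tt N100520 (iv5 F429296)) (tt N52898 F383506) (tt N100953 F431175))
theorem Q88568 : ∀ i, i < 88568 → P i := stepQ 88567 Q88567 (allL N88567 (tt N109554 F467493) (tt N84488 F383509) (tt N89417 (iv2 F386418)) (tt N100520 (iv3 F429294)) (tt N85810 F383508) (tt N52894 (iv5 D191453)) (tt N77206 F383507) (tt N114254 (iv7 F489244)))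
theorem Q88569 : ∀ i, i < 88569 → P i := stepQ 88568 Q88568 (allL N88568 (tt N84169 (iv1 F383511)) (tt N84167 F383512) (tt N89418 (iv2 F386421)) (tt N100953 (iv3 F431174)) (tt N52895 F383510) (tt N114254 (iv5 F489243)) (tt N112920 F483279) (tt N52894 (iv7 D191454)))
theorem Q88570 : ∀ i, i < 88570 → P i := stepQ 88569 Q88569 (allL N88569 (tt N100986 F431163) (tt N113742 F486907) (tt N89419 (iv2 F386425)) (tt N113923 F487807) (tt N112920 (iv4 F483278)) (tt N53885 F383513) (tt N52895 (iv6 D191455)) (tt N52900 F383514))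
theorem Q88571 : ∀ i, i < 88571 → P i := stepQ 88570 Q88570 (allL N88570 (tt N116174 D219433) (tt N106380 (iv0 F475587)) (tt N113776 (iv2 F487051)) (tt N106399 (iv3 F454291)) (tt N52896 (iv4 D191456)) (tt N111279 (iv5 F475603)) (tt N100957 (iv6 F431096)) (tt N85441 F383515))
theorem Q88572 : ∀ i, i < 88572 → P i := stepQ 88571 Q88571 (allL N88571 (tt N91147 (iv1 F392076)) (tt N52897 (iv0 D191457)) (tt N91145 (iv2 F479486)) (tt N99943 (iv3 F462511)) (tt N108426 F462510) (tt N113446 (iv5 F485524)) (tt N114612 (iv6 F491015)) (tt N91146 (iv7 F479487)))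
theorem Q88573 : ∀ i, i < 88573 → P i := stepQ 88572 Q88572 (allL N88572 (tt N52897 (iv1 D191458)) (tt N91147 F392075) (tt N91146 (iv2 F479488)) (tt N116175 D219434) (tt N114971 (iv4 F492837)) (tt N113453 (iv5 F485557)) (tt N116173 (iv6 F498865)) (tt N91145 F479489))
theorem Q88574 : ∀ i, i < 88574 → P i := stepQ 88573 Q88573 (allL N88573 (tt N91146 (iv1 F392068)) (tt N91145 F392074) (tt N91147 (iv2 F392071)) (tt N112895 (iv3 F483175)) (tt N113991 (iv4 F488096)) (tt N88425 F383516) (tt N85450 F383517) (tt N52897 (iv7 D191459)))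
theorem Q88575 : ∀ i, i < 88575 → P i := stepQ 88574 Q88574 (allL N88574 (tt N107050 F456776) (tt N52898 (iv0 D191460)) (tt N105243 (iv2 F449363)) (tt N105271 (iv3 F449488)) (tt N107474 (iv4 F458446)) (tt N105450 F450318) (tt N85137 (iv6 F450320)) (tt N106489 (iv7 F454653)))
theorem Q88576 : ∀ i, i < 88576 → P i := stepQ 88575 Q88575 (allL N88575 (tt N52898 (iv1 D191461)) (tt N107050 (iv0 F456775)) (tt N106489 (iv2 F454650)) (tt N104331 F445294) (tt N78110 (iv4 F430645)) (tt N71986 (iv5 F411704)) (tt N106486 (iv6 F454635)) (tt N105243 (iv7 F449361)))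
theorem Q88577 : ∀ i, i < 88577 → P i := stepQ 88576 Q88576 (allL N88576 (tt N105243 F449364) (tt N106489 (iv0 F454654)) (tt N52898 (iv2 D191462)) (tt N113740 (iv3 F486902)) (tt N108081 (iv4 F461031)) (tt N105086 F448728) (tt N100954 F456755) (tt N107050 (iv7 F456774)))
theorem Q88578 : ∀ i, i < 88578 → P i := stepQ 88577 Q88577 (allL N88577 (tt N106489 (iv1 F454655)) (tt N105243 (iv0 F449362)) (tt N107050 (iv2 F456773)) (tt N52899 F383518) (tt N109622 (iv4 F467790)) (tt N85976 F383519) (tt N114057 (iv6 F488388)) (tt N52898 (iv7 D191463)))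
theorem Q88579 : ∀ i, i < 88579 → P i := stepQ 88578 Q88578 (allL N88578 (tt N112922 F483456) (tt N110991 F483457) (tt N112921 (iv2 F483282)) (tt N114057 F488387) (tt N52900 F383520) (tt N114714 (iv5 F491488)) (tt N52899 (iv6 D191464)) (tt N112920 F483280))
theorem Q88580 : ∀ i, i < 88580 → P i := stepQ 88579 Q88579 (allL N88579 (tt N89419 (iv1 F386429)) (tt N52900 (iv0 D191465)) (tt N113742 F486906) (tt N100575 F429536) (tt N113945 (iv4 F487905)) (tt N104327 (iv5 F445269)) (tt N88754 F384059) (tt N100986 (iv7 F431161)))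
theorem Q88581 : ∀ i, i < 88581 → P i := stepQ 88580 Q88580 (allL N88580 (tt N52900 (iv1 D191466)) (tt N89419 F386428) (tt N100986 (iv2 F431162)) (tt N73937 F391343) (tt N113946 (iv4 F487906)) (tt N73936 (iv5 F391342)) (tt N116176 D219435) (tt N113742 (iv7 F486908)))
theorem Q88582 : ∀ i, i < 88582 → P i := stepQ 88581 Q88581 (allL N88581 (tt N72046 F383525) (tt N52923 F383526) (tt N72043 F383521) (tt N82822 F383522) (tt N113866 (iv4 F487533)) (tt N52901 (iv5 D191467)) (tt N72057 F383523) (tt N72044 F383524))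
theorem Q88583 : ∀ i, i < 88583 → P i := stepQ 88582 Q88582 (allL N88582 (tt N113731 F486882) (tt N116095 (iv0 F498434)) (tt N52905 F383527) (tt N76098 F383528) (tt N89405 (iv4 F386379)) (tt N52902 (iv5 D191468)) (tt N100034 (iv6 F427308)) (tt N110140 (iv7 F470144)))
theorem Q88584 : ∀ i, i < 88584 → P i := stepQ 88583 Q88583 (allL N88583 (tt N110142 (iv1 F470158)) (tt N100871 (iv0 F430831)) (tt N112883 (iv2 F483130)) (tt N82828 F383529) (tt N89661 (iv4 F387141)) (tt N52903 (iv5 D191469)) (tt N106493 (iv6 F454661)) (tt N110094 (iv7 F469958)))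
theorem Q88585 : ∀ i, i < 88585 → P i := stepQ 88584 Q88584 (allL N88584 (tt N82859 (iv1 F383533)) (tt N90923 (iv0 F391282)) (tt N88989 (iv2 F384682)) (tt N82829 F383530) (tt N83686 F383531) (tt N76146 F383532) (tt N52903 (iv6 D191470)) (tt N88987 (iv7 F384673)))
theorem Q88586 : ∀ i, i < 88586 → P i := stepQ 88585 Q88585 (allL N88585 (tt N100871 (iv1 F430832)) (tt N110142 (iv0 F470157)) (tt N110094 (iv2 F469956)) (tt N113726 (iv3 F486859)) (tt N110088 (iv4 F469935)) (tt N52904 (iv5 D191471)) (tt N116174 (iv6 F498871)) (tt N112883 (iv7 F483133)))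
theorem Q88587 : ∀ i, i < 88587 → P i := stepQ 88586 Q88586 (allL N88586 (tt N107493 F458519) (tt N91669 (iv0 F393967)) (tt N88789 (iv2 F384153)) (tt N52989 F383534) (tt N55146 F383535) (tt N106374 (iv5 F454205)) (tt N52904 (iv6 D191472)) (tt N88790 (iv7 F384158)))
theorem Q88588 : ∀ i, i < 88588 → P i := stepQ 88587 Q88587 (allL N88587 (tt N110140 (iv1 F470146)) (tt N52905 (iv0 D191473)) (tt N113731 (iv2 F486877)) (tt N82833 (iv3 F386330)) (tt N89713 F427404) (tt N89387 F386329) (tt N89712 (iv6 F427405)) (tt N116095 (iv7 F498433)))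
theorem Q88589 : ∀ i, i < 88589 → P i := stepQ 88588 Q88588 (allL N88588 (tt N52905 (iv1 D191474)) (tt N110140 (iv0 F470145)) (tt N116095 (iv2 F498430)) (tt N89341 (iv3 F386192)) (tt N113601 (iv4 F486246)) (tt N83022 (iv5 F383536)) (tt N116177 D219436) (tt N113731 (iv7 F486879)))
theorem Q88590 : ∀ i, i < 88590 → P i := stepQ 88589 Q88589 (allL N88589 (tt N116095 (iv1 F498435)) (tt N113731 F486881) (tt N110140 (iv2 F470142)) (tt N52910 F383537) (tt N82291 F384375) (tt N52906 F383538) (tt N100956 (iv6 F431091)) (tt N52905 (iv7 D191476)))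
theorem Q88591 : ∀ i, i < 88591 → P i := stepQ 88590 Q88590 (allL N88590 (tt N113998 (iv1 F488130)) (tt N113997 (iv0 F488124)) (tt N100856 (iv2 F430793)) (tt N116178 D219437) (tt N52907 (iv4 D191477)) (tt N100990 (iv5 F431185)) (tt N116179 D219438) (tt N100854 (iv7 F430789)))
theorem Q88592 : ∀ i, i < 88592 → P i := stepQ 88591 Q88591 (allL N88591 (tt N116180 D219439) (tt N64919 (iv0 F383540)) (tt N100857 (iv2 F430795)) (tt N113775 (iv3 F487049)) (tt N116179 (iv4 F498881)) (tt N73275 F383539) (tt N52907 (iv6 D191478)) (tt N107444 (iv7 F458361)))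
theorem Q88593 : ∀ i, i < 88593 → P i := stepQ 88592 Q88592 (allL N88592 (tt N88486 F383541) (tt N100993 F431182) (tt N91127 (iv2 F392023)) (tt N111957 (iv3 F478855)) (tt N52908 (iv4 D191479)) (tt N101279 (iv5 F432510)) (tt N111956 F478851) (tt N100858 (iv7 F430799)))
theorem Q88594 : ∀ i, i < 88594 → P i := stepQ 88593 Q88593 (allL N88593 (tt N116181 D219440) (tt N107449 (iv0 F458376)) (tt N91125 (iv2 F392019)) (tt N112896 (iv3 F483181)) (tt N111956 (iv4 F478853)) (tt N81883 F383542) (tt N52908 (iv6 D191480)) (tt N112773 (iv7 F482591)))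
theorem Q88595 : ∀ i, i < 88595 → P i := stepQ 88594 Q88594 (allL N88594 (tt N100863 (iv1 F430817)) (tt N52909 (iv0 D191481)) (tt N90890 (iv2 F391184)) (tt N116182 D219441) (tt N88442 F383543) (tt N116183 D219442) (tt N116184 D219443) (tt N100860 (iv7 F430806)))
theorem Q88596 : ∀ i, i < 88596 → P i := stepQ 88595 Q88595 (allL N88595 (tt N101287 (iv1 F432535)) (tt N101286 F432532) (tt N100862 (iv2 F430810)) (tt N64329 F384377) (tt N100589 (iv4 F429583)) (tt N52909 (iv5 D191483)) (tt N112951 (iv6 F483353)) (tt N100588 F429580))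
theorem Q88597 : ∀ i, i < 88597 → P i := stepQ 88596 Q88596 (allL N88596 (tt N100860 (iv1 F430805)) (tt N90890 (iv0 F391186)) (tt N100863 (iv2 F430813)) (tt N82292 (iv3 F384376)) (tt N52910 F383544) (tt N100588 (iv5 F429579)) (tt N100994 (iv6 F431188)) (tt N52909 (iv7 D191484)))
theorem Q88598 : ∀ i, i < 88598 → P i := stepQ 88597 Q88597 (allL N88597 (tt N113163 (iv1 F484279)) (tt N83837 (iv0 F383553)) (tt N52919 F383550) (tt N71871 F383551) (tt N52919 F383552) (tt N90690 (iv5 F390537)) (tt N52917 (iv6 D191486)) (tt N113479 (iv7 F485681)))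
theorem Q88599 : ∀ i, i < 88599 → P i := stepQ 88598 Q88598 (allL N88598 (tt N88783 (iv1 F384135)) (tt N88781 (iv0 F384128)) (tt N106985 (iv2 F456521)) (tt N58036 F383554) (tt N52918 (iv4 D191487)) (tt N116185 D219444) (tt N116186 D219445) (tt N70289 F383555))
theorem Q88600 : ∀ i, i < 88600 → P i := stepQ 88599 Q88599 (allL N88599 (tt N113175 F484331) (tt N113180 F498441) (tt N106986 (iv2 F456526)) (tt N52920 F383556) (tt N116186 (iv4 F498906)) (tt N116096 (iv5 F498436)) (tt N52918 (iv6 D191488)) (tt N116186 (iv7 F498907)))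
theorem Q88601 : ∀ i, i < 88601 → P i := stepQ 88600 Q88600 (allL N88600 (tt N113479 (iv1 F485684)) (tt N52919 (iv0 D191489)) (tt N113163 (iv2 F484273)) (tt N82993 (iv3 F383559)) (tt N83841 F383557) (tt N100277 F428218) (tt N113124 (iv6 F484082)) (tt N83837 (iv7 F383558)))
theorem Q88602 : ∀ i, i < 88602 → P i := stepQ 88601 Q88601 (allL N88601 (tt N83028 F383561) (tt N83021 (iv0 F383562)) (tt N90690 (iv2 F390536)) (tt N52921 F383560) (tt N116096 (iv4 F498437)) (tt N52919 (iv5 D191490)) (tt N116096 F498442) (tt N91119 (iv7 F392014)))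
theorem Q88603 : ∀ i, i < 88603 → P i := stepQ 88602 Q88602 (allL N88602 (tt N69409 F383566) (tt N52920 (iv0 D191491)) (tt N101140 (iv2 F431891)) (tt N53005 F384030) (tt N68840 F383564) (tt N70431 F383563) (tt N70250 (iv6 F383565)) (tt N101005 (iv7 F431225)))
theorem Q88604 : ∀ i, i < 88604 → P i := stepQ 88603 Q88603 (allL N88603 (tt N70000 F383569) (tt N69997 F383568) (tt N91118 (iv2 F392007)) (tt N116096 (iv3 F498443)) (tt N116187 D219446) (tt N52920 (iv5 D191492)) (tt N52921 F383567) (tt N105657 (iv7 F451131)))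
theorem Q88605 : ∀ i, i < 88605 → P i := stepQ 88604 Q88604 (allL N88604 (tt N101005 F431227) (tt N101140 F431895) (tt N69409 F383570) (tt N116186 (iv3 F498905)) (tt N58037 F383571) (tt N105657 (iv5 F451128)) (tt N58036 F383572) (tt N52920 (iv7 D191493)))
theorem Q88606 : ∀ i, i < 88606 → P i := stepQ 88605 Q88605 (allL N88605 (tt N83358 F383575) (tt N54639 F383576) (tt N83366 F383573) (tt N116187 (iv3 F498912)) (tt N52921 (iv4 D191494)) (tt N113433 (iv5 F485471)) (tt N116187 (iv6 F498913)) (tt N83365 F383574))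
theorem Q88607 : ∀ i, i < 88607 → P i := stepQ 88606 Q88606 (allL N88606 (tt N110405 (iv1 F471427)) (tt N112515 (iv0 F481457)) (tt N52928 F383577) (tt N82955 F383578) (tt N110650 (iv4 F472590)) (tt N52925 (iv5 D191495)) (tt N53488 F383579) (tt N112040 (iv7 F479209)))
theorem Q88608 : ∀ i, i < 88608 → P i := stepQ 88607 Q88607 (allL N88607 (tt N116188 D219447) (tt N105736 (iv0 F451475)) (tt N91137 (iv2 F392053)) (tt N77548 F383580) (tt N116189 D219448) (tt N52926 (iv5 D191496)) (tt N91136 F392052) (tt N112513 (iv7 F481449)))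
theorem Q88609 : ∀ i, i < 88609 → P i := stepQ 88608 Q88608 (allL N88608 (tt N66975 F383585) (tt N66980 (iv0 F383586)) (tt N66978 F383581) (tt N66435 F383582) (tt N52927 (iv4 D191497)) (tt N66434 (iv5 F383587)) (tt N70492 F383583) (tt N66977 F383584))
theorem Q88610 : ∀ i, i < 88610 → P i := stepQ 88609 Q88609 (allL N88609 (tt N105736 (iv1 F451476)) (tt N116188 F498919) (tt N112513 (iv2 F481445)) (tt N91138 (iv3 F392058)) (tt N98921 F422795) (tt N52927 (iv5 D191498)) (tt N98443 F420937) (tt N91137 F392056))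
theorem Q88611 : ∀ i, i < 88611 → P i := stepQ 88610 Q88610 (allL N88610 (tt N112040 (iv1 F479212)) (tt N52928 (iv0 D191499)) (tt N110405 (iv2 F471423)) (tt N101502 F433180) (tt N116190 D219449) (tt N104155 (iv5 F444454)) (tt N113179 (iv6 F484352)) (tt N112515 (iv7 F481455)))
theorem Q88612 : ∀ i, i < 88612 → P i := stepQ 88611 Q88611 (allL N88611 (tt N52928 (iv1 D191500)) (tt N112040 (iv0 F479211)) (tt N112515 (iv2 F481453)) (tt N110252 (iv3 F470646)) (tt N116191 D219450) (tt N109779 (iv5 F468572)) (tt N116192 D219451) (tt N110405 (iv7 F471424)))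
theorem Q88613 : ∀ i, i < 88613 → P i := stepQ 88612 Q88612 (allL N88612 (tt N112515 F481458) (tt N110405 (iv0 F471425)) (tt N112040 (iv2 F479207)) (tt N52932 F383589) (tt N110821 (iv4 F473298)) (tt N52929 F383590) (tt N116193 D219452) (tt N52928 (iv7 D191501)))
theorem Q88614 : ∀ i, i < 88614 → P i := stepQ 88613 Q88613 (allL N88613 (tt N105252 F449398) (tt N114267 (iv0 F489303)) (tt N105303 (iv2 F449630)) (tt N90630 (iv3 F418872)) (tt N112339 (iv4 F480644)) (tt N53006 F383591) (tt N52930 (iv6 D191502)) (tt N113207 (iv7 F484485)))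
theorem Q88615 : ∀ i, i < 88615 → P i := stepQ 88614 Q88614 (allL N88614 (tt N116194 D219453) (tt N116103 (iv0 F498472)) (tt N105164 (iv2 F449069)) (tt N52931 (iv3 D191503)) (tt N110817 (iv4 F473287)) (tt N105161 (iv5 F449066)) (tt N53501 F383592) (tt N116195 D219454))
theorem Q88616 : ∀ i, i < 88616 → P i := stepQ 88615 Q88615 (allL N88615 (tt N81387 (iv1 F383594)) (tt N81383 F383595) (tt N90618 F390293) (tt N116195 (iv3 F498951)) (tt N52932 F383593) (tt N106574 (iv5 F454915)) (tt N116196 D219455) (tt N52931 (iv7 D191504)))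
theorem Q88617 : ∀ i, i < 88617 → P i := stepQ 88616 Q88616 (allL N88616 (tt N114025 (iv1 F488249)) (tt N112617 F481862) (tt N112344 (iv2 F480670)) (tt N116193 (iv3 F498942)) (tt N116196 (iv4 F498955)) (tt N54659 F383596) (tt N52932 (iv6 D191505)) (tt N53503 F383597))
theorem Q88618 : ∀ i, i < 88618 → P i := stepQ 88617 Q88617 (allL N88617 (tt N76062 F383601) (tt N76060 (iv0 F383603)) (tt N52937 F383598) (tt N82526 F383599) (tt N52934 F383600) (tt N54135 F383602) (tt N52933 (iv6 D191506)) (tt N109465 (iv7 F467106)))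
theorem Q88619 : ∀ i, i < 88619 → P i := stepQ 88618 Q88618 (allL N88618 (tt N100029 F427286) (tt N76927 F383607) (tt N52939 F383605) (tt N113744 (iv3 F486917)) (tt N116197 D219456) (tt N52934 (iv5 D191507)) (tt N53505 F383606) (tt N110999 (iv7 F474167)))
theorem Q88620 : ∀ i, i < 88620 → P i := stepQ 88619 Q88619 (allL N88619 (tt N82957 (iv1 F383612)) (tt N52964 (iv0 F383610)) (tt N89156 (iv2 F385375)) (tt N64517 F383608) (tt N82540 F383609) (tt N74785 (iv5 F383611)) (tt N52935 (iv6 D191508)) (tt N101012 (iv7 F431265)))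
theorem Q88621 : ∀ i, i < 88621 → P i := stepQ 88620 Q88620 (allL N88620 (tt N52937 (iv1 D191509)) (tt N109465 F467105) (tt N76060 F383616) (tt N76139 (iv3 F383615)) (tt N89148 (iv4 F385341)) (tt N76058 F383614) (tt N101170 (iv6 F432032)) (tt N76062 F383613))
theorem Q88622 : ∀ i, i < 88622 → P i := stepQ 88621 Q88621 (allL N88621 (tt N76060 (iv1 F383620)) (tt N76062 F383621) (tt N109465 F467104) (tt N76073 F383617) (tt N52940 F383618) (tt N54134 F383619) (tt N94135 F403381) (tt N52937 (iv7 D191510)))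
theorem Q88623 : ∀ i, i < 88623 → P i := stepQ 88622 Q88622 (allL N88622 (tt N110999 (iv1 F474169)) (tt N52939 (iv0 D191511)) (tt N100029 (iv2 F427281)) (tt N76931 (iv3 F383625)) (tt N116198 D219457) (tt N63847 F383624) (tt N106473 (iv6 F454594)) (tt N76927 (iv7 F383626)))
theorem Q88624 : ∀ i, i < 88624 → P i := stepQ 88623 Q88623 (allL N88623 (tt N52939 (iv1 D191512)) (tt N110999 (iv0 F474168)) (tt N76927 F383629) (tt N64422 (iv3 F383628)) (tt N108774 (iv4 F463867)) (tt N64421 F383627) (tt N99858 (iv6 F426575)) (tt N100029 (iv7 F427284)))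
theorem Q88625 : ∀ i, i < 88625 → P i := stepQ 88624 Q88624 (allL N88624 (tt N116199 D219458) (tt N110580 (iv0 F472224)) (tt N116197 (iv2 F498960)) (tt N108687 F463556) (tt N52939 (iv4 D191513)) (tt N110997 (iv5 F474156)) (tt N53509 F383630) (tt N108709 (iv7 F463645)))
theorem Q88626 : ∀ i, i < 88626 → P i := stepQ 88625 Q88625 (allL N88625 (tt N76927 (iv1 F383633)) (tt N100029 (iv0 F427285)) (tt N110999 (iv2 F474165)) (tt N52948 F383631) (tt N108709 (iv4 F463644)) (tt N52940 F383632) (tt N106638 F455117) (tt N52939 (iv7 D191514)))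
theorem Q88627 : ∀ i, i < 88627 → P i := stepQ 88626 Q88626 (allL N88626 (tt N52941 (iv1 D191515)) (tt N52943 F383634) (tt N54791 (iv2 F383636)) (tt N70977 (iv3 F383637)) (tt N71818 F383639) (tt N80296 F383635) (tt N53461 (iv6 F383638)) (tt N89047 (iv7 F384953)))
theorem Q88628 : ∀ i, i < 88628 → P i := stepQ 88627 Q88627 (allL N88627 (tt N54356 F383644) (tt N54357 F383645) (tt N106886 F456133) (tt N99281 F423921) (tt N52941 (iv4 D191516)) (tt N54418 F383643) (tt N116200 D219459) (tt N101627 (iv7 F433607)))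
theorem Q88629 : ∀ i, i < 88629 → P i := stepQ 88628 Q88628 (allL N88628 (tt N54710 F383647) (tt N116201 D219460) (tt N112350 (iv2 F480697)) (tt N79421 F383646) (tt N116200 (iv4 F498972)) (tt N89415 (iv5 F386415)) (tt N52941 (iv6 D191517)) (tt N113829 (iv7 F487330)))
theorem Q88630 : ∀ i, i < 88630 → P i := stepQ 88629 Q88629 (allL N88629 (tt N100943 (iv1 F431054)) (tt N89671 (iv0 F387179)) (tt N101115 (iv2 F431751)) (tt N52943 F383648) (tt N107058 (iv4 F456807)) (tt N52942 (iv5 D191518)) (tt N110527 (iv6 F471997)) (tt N101618 (iv7 F433579)))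
theorem Q88631 : ∀ i, i < 88631 → P i := stepQ 88630 Q88630 (allL N88630 (tt N54357 F383649) (tt N54356 F383650) (tt N101627 (iv2 F433605)) (tt N54411 F385536) (tt N52943 (iv4 D191519)) (tt N54410 (iv5 F385542)) (tt N116202 D219461) (tt N106886 (iv7 F456135)))
theorem Q88632 : ∀ i, i < 88632 → P i := stepQ 88631 Q88631 (allL N88631 (tt N54701 F385905) (tt N53443 (iv0 F383653)) (tt N54699 F383652) (tt N110527 (iv3 F471999)) (tt N116202 (iv4 F498985)) (tt N89437 (iv5 F386516)) (tt N52943 (iv6 D191520)) (tt N54700 (iv7 F383654)))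
theorem Q88633 : ∀ i, i < 88633 → P i := stepQ 88632 Q88632 (allL N88632 (tt N95371 (iv1 F408017)) (tt N58585 (iv0 F383656)) (tt N95369 F408003) (tt N52947 (iv3 D191521)) (tt N108687 (iv4 F463550)) (tt N116120 (iv5 F498576)) (tt N53510 F383655) (tt N90565 (iv7 F390127)))
theorem Q88634 : ∀ i, i < 88634 → P i := stepQ 88633 Q88633 (allL N88633 (tt N89198 (iv1 F385546)) (tt N89209 (iv0 F385606)) (tt N90530 F389983) (tt N116120 (iv3 F498581)) (tt N116203 D219462) (tt N52947 (iv5 D191522)) (tt N114006 (iv6 F488167)) (tt N90529 F389979))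
theorem Q88635 : ∀ i, i < 88635 → P i := stepQ 88634 Q88634 (allL N88634 (tt N54658 (iv1 F383660)) (tt N54657 (iv0 F383661)) (tt N54659 F383657) (tt N106638 (iv3 F455116)) (tt N87058 F383658) (tt N112344 (iv5 F480673)) (tt N52948 (iv6 D191523)) (tt N53432 F383659))
theorem Q88636 : ∀ i, i < 88636 → P i := stepQ 88635 Q88635 (allL N88635 (tt N103787 (iv1 F442809)) (tt N52971 (iv0 F383663)) (tt N103788 (iv2 F442814)) (tt N72056 F383662) (tt N102464 (iv4 F437322)) (tt N52949 (iv5 D191524)) (tt N105406 (iv6 F450104)) (tt N102463 F437320))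
theorem Q88637 : ∀ i, i < 88637 → P i := stepQ 88636 Q88636 (allL N88636 (tt N110264 (iv1 F470718)) (tt N112108 F479518) (tt N52951 F383664) (tt N82958 F383665) (tt N102466 (iv4 F437332)) (tt N52950 (iv5 D191525)) (tt N108349 F462188) (tt N103799 (iv7 F442870)))
theorem Q88638 : ∀ i, i < 88638 → P i := stepQ 88637 Q88637 (allL N88637 (tt N103799 (iv1 F442872)) (tt N52951 (iv0 D191526)) (tt N110264 (iv2 F470712)) (tt N101004 F442482) (tt N103687 (iv4 F442481)) (tt N116204 D219463) (tt N114437 (iv6 F490161)) (tt N112108 (iv7 F479519)))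
theorem Q88639 : ∀ i, i < 88639 → P i := stepQ 88638 Q88638 (allL N88638 (tt N52951 (iv1 D191527)) (tt N103799 (iv0 F442871)) (tt N112108 F479517) (tt N110260 F470693) (tt N103580 F442115) (tt N116205 D219464) (tt N113799 (iv6 F487157)) (tt N110264 (iv7 F470715)))
theorem Q88640 : ∀ i, i < 88640 → P i := stepQ 88639 Q88639 (allL N88639 (tt N104633 F450468) (tt N108351 F462195) (tt N108349 F462187) (tt N52959 F383666) (tt N103792 (iv4 F442837)) (tt N99169 F423556) (tt N52951 (iv6 D191528)) (tt N108350 (iv7 F462189)))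
theorem Q88641 : ∀ i, i < 88641 → P i := stepQ 88640 Q88640 (allL N88640 (tt N88516 F383669) (tt N110803 F473235) (tt N110804 (iv2 F473236)) (tt N52960 F383667) (tt N99170 (iv4 F423559)) (tt N52952 (iv5 D191529)) (tt N99169 F423557) (tt N53581 F383668))
theorem Q88642 : ∀ i, i < 88642 → P i := stepQ 88641 Q88641 (allL N88641 (tt N80709 (iv1 F383674)) (tt N63698 F383673) (tt N52953 (iv2 D191530)) (tt N64226 F383670) (tt N103889 (iv4 F443225)) (tt N116206 D219465) (tt N77598 F383671) (tt N77585 F383672))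
theorem Q88643 : ∀ i, i < 88643 → P i := stepQ 88642 Q88642 (allL N88642 (tt N108447 F462618) (tt N109281 (iv0 F466167)) (tt N116206 (iv2 F499008)) (tt N52954 F383675) (tt N110310 (iv4 F470975)) (tt N52953 (iv5 D191531)) (tt N114807 (iv6 F491971)) (tt N80754 F383676))
theorem Q88644 : ∀ i, i < 88644 → P i := stepQ 88643 Q88643 (allL N88643 (tt N52967 (iv1 F383680)) (tt N52954 (iv0 D191532)) (tt N77641 (iv2 F383679)) (tt N65100 F383683) (tt N65166 F383678) (tt N80956 F383677) (tt N65113 (iv6 F383682)) (tt N65165 F383681))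
theorem Q88645 : ∀ i, i < 88645 → P i := stepQ 88644 Q88644 (allL N88644 (tt N111473 (iv1 F476508)) (tt N75329 F383686) (tt N80761 F383684) (tt N64253 (iv3 F383687)) (tt N52954 (iv4 D191533)) (tt N102279 (iv5 F436526)) (tt N101703 (iv6 F433962)) (tt N80765 F383685))
theorem Q88646 : ∀ i, i < 88646 → P i := stepQ 88645 Q88645 (allL N88645 (tt N79283 F383690) (tt N109325 F466396) (tt N80762 F383688) (tt N114807 (iv3 F491970)) (tt N101703 (iv4 F433958)) (tt N81094 F383689) (tt N52954 (iv6 D191534)) (tt N109324 (iv7 F466389)))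
theorem Q88647 : ∀ i, i < 88647 → P i := stepQ 88646 Q88646 (allL N88646 (tt N54261 F383693) (tt N54259 F383694) (tt N97701 F417966) (tt N66627 F383692) (tt N52956 (iv4 D191535)) (tt N101734 (iv5 F434090)) (tt N116207 D219466) (tt N97666 (iv7 F417847)))
theorem Q88648 : ∀ i, i < 88648 → P i := stepQ 88647 Q88647 (allL N88647 (tt N114669 F491298) (tt N91108 (iv0 F452681)) (tt N101141 (iv2 F431897)) (tt N114439 (iv3 F490171)) (tt N116207 (iv4 F499017)) (tt N88562 F383695) (tt N52956 (iv6 D191536)) (tt N113805 (iv7 F487192)))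
theorem Q88649 : ∀ i, i < 88649 → P i := stepQ 88648 Q88648 (allL N88648 (tt N54259 F383697) (tt N54261 (iv0 F383699)) (tt N97666 (iv2 F417845)) (tt N67580 F383696) (tt N52957 (iv4 D191537)) (tt N101733 (iv5 F434085)) (tt N103488 (iv6 F441835)) (tt N97701 (iv7 F417968)))
theorem Q88650 : ∀ i, i < 88650 → P i := stepQ 88649 Q88649 (allL N88649 (tt N53208 F383709) (tt N53744 F383706) (tt N53743 F383702) (tt N64025 F383703) (tt N78607 F383705) (tt N52957 (iv5 D191538)) (tt N53578 (iv6 F383708)) (tt N53544 F383704))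
theorem Q88651 : ∀ i, i < 88651 → P i := stepQ 88650 Q88650 (allL N88650 (tt N52969 (iv1 F383716)) (tt N52958 (iv0 D191539)) (tt N65130 (iv2 F383717)) (tt N114434 (iv3 F490140)) (tt N84089 F383715) (tt N65129 F383714) (tt N114382 (iv6 F489895)) (tt N90413 (iv7 F389560)))
theorem Q88652 : ∀ i, i < 88652 → P i := stepQ 88651 Q88651 (allL N88651 (tt N52958 (iv1 D191540)) (tt N52969 F383718) (tt N90413 (iv2 F389558)) (tt N65136 F383722) (tt N84090 F383720) (tt N65131 (iv5 F383721)) (tt N87689 (iv6 F383723)) (tt N65130 F383719))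
theorem Q88653 : ∀ i, i < 88653 → P i := stepQ 88652 Q88652 (allL N88652 (tt N98025 F419212) (tt N97602 (iv0 F417552)) (tt N102903 (iv2 F439192)) (tt N52958 (iv3 D191541)) (tt N103790 (iv4 F442829)) (tt N91855 (iv5 F394715)) (tt N56222 F383729) (tt N113786 (iv7 F487105)))
theorem Q88654 : ∀ i, i < 88654 → P i := stepQ 88653 Q88653 (allL N88653 (tt N97633 F417704) (tt N116208 D219467) (tt N97389 (iv2 F416665)) (tt N56222 (iv3 F383728)) (tt N52959 F383726) (tt N56220 F383727) (tt N52958 (iv6 D191542)) (tt N97400 (iv7 F416739)))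
theorem Q88655 : ∀ i, i < 88655 → P i := stepQ 88654 Q88654 (allL N88654 (tt N104267 (iv1 F445032)) (tt N52959 (iv0 D191543)) (tt N73222 (iv2 F383731)) (tt N60049 (iv3 F383732)) (tt N60051 F383735) (tt N73217 F383730) (tt N52993 (iv6 F383734)) (tt N74409 (iv7 F383733)))
theorem Q88656 : ∀ i, i < 88656 → P i := stepQ 88655 Q88655 (allL N88655 (tt N52959 (iv1 D191544)) (tt N104267 F445031) (tt N74409 F383754) (tt N57714 F383752) (tt N67174 F383750) (tt N73223 (iv5 F383753)) (tt N57713 (iv6 F383751)) (tt N73222 F383749))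
theorem Q88657 : ∀ i, i < 88657 → P i := stepQ 88656 Q88656 (allL N88656 (tt N92146 (iv1 F395961)) (tt N97708 (iv0 F418003)) (tt N53586 F383755) (tt N99169 (iv3 F423555)) (tt N89985 (iv4 F388197)) (tt N52959 (iv5 D191545)) (tt N52960 F383756) (tt N96183 (iv7 F411378)))
theorem Q88658 : ∀ i, i < 88658 → P i := stepQ 88657 Q88657 (allL N88657 (tt N74409 (iv1 F383758)) (tt N73222 F383759) (tt N104267 (iv2 F445028)) (tt N108350 F462190) (tt N97400 (iv4 F416740)) (tt N96183 F411380) (tt N78091 F383757) (tt N52959 (iv7 D191546)))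
theorem Q88659 : ∀ i, i < 88659 → P i := stepQ 88658 Q88658 (allL N88658 (tt N101134 (iv1 F431854)) (tt N101756 F434208) (tt N52965 F383760) (tt N103799 (iv3 F442868)) (tt N103773 (iv4 F442762)) (tt N52963 (iv5 D191547)) (tt N87848 F383761) (tt N82958 F383762))
theorem Q88660 : ∀ i, i < 88660 → P i := stepQ 88659 Q88659 (allL N88659 (tt N116209 D219468) (tt N88195 (iv0 F383766)) (tt N113926 (iv2 F487824)) (tt N74502 F383763) (tt N113230 (iv4 F484609)) (tt N52964 (iv5 D191548)) (tt N74806 F383764) (tt N74497 F383765))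
theorem Q88661 : ∀ i, i < 88661 → P i := stepQ 88660 Q88660 (allL N88660 (tt N52965 (iv1 D191549)) (tt N82958 F383767) (tt N101756 (iv2 F434204)) (tt N92607 F397621) (tt N104603 (iv4 F446494)) (tt N68285 (iv5 F383768)) (tt N106951 (iv6 F456410)) (tt N101134 (iv7 F431852)))
theorem Q88662 : ∀ i, i < 88662 → P i := stepQ 88661 Q88661 (allL N88661 (tt N109187 F465705) (tt N116210 D219469) (tt N103773 (iv2 F442760)) (tt N102906 (iv3 F439209)) (tt N52965 (iv4 D191550)) (tt N116211 D219470) (tt N67544 (iv6 F383775)) (tt N113784 (iv7 F487097)))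
theorem Q88663 : ∀ i, i < 88663 → P i := stepQ 88662 Q88662 (allL N88662 (tt N78693 F383772) (tt N78690 (iv0 F383773)) (tt N87848 F383769) (tt N52970 F383770) (tt N67544 F383774) (tt N75589 F383771) (tt N52965 (iv6 D191551)) (tt N87849 (iv7 F383776)))
theorem Q88664 : ∀ i, i < 88664 → P i := stepQ 88663 Q88663 (allL N88663 (tt N91017 (iv1 F391581)) (tt N64230 F383782) (tt N79403 F383777) (tt N52967 F383778) (tt N84115 F383781) (tt N52966 (iv5 D191552)) (tt N63534 F383779) (tt N79402 F383780))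
theorem Q88665 : ∀ i, i < 88665 → P i := stepQ 88664 Q88664 (allL N88664 (tt N75329 F383787) (tt N111473 F476507) (tt N80765 F383783) (tt N84116 F383784) (tt N52967 (iv4 D191553)) (tt N91857 (iv5 F394727)) (tt N80327 F383785) (tt N80761 F383786))
theorem Q88666 : ∀ i, i < 88666 → P i := stepQ 88665 Q88665 (allL N88665 (tt N79742 F383789) (tt N88509 F383790) (tt N90428 (iv2 F389615)) (tt N60576 F383788) (tt N102279 (iv4 F436525)) (tt N52969 (iv5 D191554)) (tt N60574 (iv6 F383791)) (tt N90427 (iv7 F389608)))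
theorem Q88667 : ∀ i, i < 88667 → P i := stepQ 88666 Q88666 (allL N88666 (tt N104273 F445063) (tt N84262 (iv0 F383794)) (tt N104266 (iv2 F445025)) (tt N56400 F383792) (tt N52970 F383793) (tt N93009 (iv5 F399105)) (tt N52969 (iv6 D191555)) (tt N93100 (iv7 F399497)))
theorem Q88668 : ∀ i, i < 88668 → P i := stepQ 88667 Q88667 (allL N88667 (tt N103788 (iv1 F442820)) (tt N102463 (iv0 F437317)) (tt N52971 (iv2 D191556)) (tt N71934 F383795) (tt N67685 F383796) (tt N105740 (iv5 F451483)) (tt N71931 (iv6 F383797)) (tt N103787 (iv7 F442810)))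
theorem Q88669 : ∀ i, i < 88669 → P i := stepQ 88668 Q88668 (allL N88668 (tt N116212 D219471) (tt N89400 F447687) (tt N105740 (iv2 F451481)) (tt N52973 F383798) (tt N94074 (iv4 F403083)) (tt N52971 (iv5 D191557)) (tt N89744 (iv6 F387389)) (tt N89042 F384935))
theorem Q88670 : ∀ i, i < 88670 → P i := stepQ 88669 Q88669 (allL N88669 (tt N72013 F383809) (tt N72018 (iv0 F383803)) (tt N71931 F383799) (tt N52974 F383800) (tt N104469 (iv4 F445897)) (tt N54789 F383801) (tt N52971 (iv6 D191558)) (tt N71967 (iv7 F383802)))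
theorem Q88671 : ∀ i, i < 88671 → P i := stepQ 88670 Q88670 (allL N88670 (tt N97750 (iv1 F418157)) (tt N116213 D219472) (tt N97576 (iv2 F417437)) (tt N52972 (iv3 D191559)) (tt N104468 (iv4 F445894)) (tt N55169 F383805) (tt N116214 D219473) (tt N90421 (iv7 F389587)))
theorem Q88672 : ∀ i, i < 88672 → P i := stepQ 88671 Q88671 (allL N88671 (tt N71633 F383810) (tt N70910 (iv0 F383808)) (tt N71641 F383806) (tt N116214 (iv3 F499055)) (tt N52974 F383807) (tt N116215 D219474) (tt N52972 (iv6 D191560)) (tt N71640 F383842))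
theorem Q88673 : ∀ i, i < 88673 → P i := stepQ 88672 Q88672 (allL N88672 (tt N52974 (iv1 D191562)) (tt N54787 F383811) (tt N97716 (iv2 F418040)) (tt N66487 F383813) (tt N97711 (iv4 F418020)) (tt N71384 (iv5 F383812)) (tt N69999 (iv6 F383814)) (tt N71002 (iv7 F383815)))
theorem Q88674 : ∀ i, i < 88674 → P i := stepQ 88673 Q88673 (allL N88673 (tt N97716 (iv1 F418043)) (tt N71002 (iv0 F399728)) (tt N54787 F383834) (tt N71967 F383835) (tt N71640 (iv4 F383838)) (tt N53460 F383836) (tt N69945 (iv6 F383839)) (tt N52974 (iv7 D191563)))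
theorem Q88675 : ∀ i, i < 88675 → P i := stepQ 88674 Q88674 (allL N88674 (tt N72114 (iv1 F383845)) (tt N82961 F383844) (tt N52975 (iv2 D191564)) (tt N103787 F442813) (tt N116216 D219475) (tt N89716 (iv5 F387282)) (tt N72107 F437870) (tt N71934 F383843))
theorem Q88676 : ∀ i, i < 88676 → P i := stepQ 88675 Q88675 (allL N88675 (tt N116217 D219476) (tt N116218 D219477) (tt N116216 (iv2 F499064)) (tt N97573 (iv3 F417423)) (tt N52975 (iv4 D191565)) (tt N95988 F410532) (tt N104628 F446642) (tt N103700 (iv7 F442525)))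
theorem Q88677 : ∀ i, i < 88677 → P i := stepQ 88676 Q88676 (allL N88676 (tt N72108 (iv1 F388692)) (tt N71015 (iv0 F388691)) (tt N72107 (iv2 F437871)) (tt N52977 F383846) (tt N104628 F446641) (tt N89717 (iv5 F387286)) (tt N52975 (iv6 D191566)) (tt N71929 F383847))
theorem Q88678 : ∀ i, i < 88678 → P i := stepQ 88677 Q88677 (allL N88677 (tt N68793 (iv1 F383850)) (tt N101884 (iv0 F434813)) (tt N90423 (iv2 F389593)) (tt N97574 (iv3 F417426)) (tt N52977 F383848) (tt N78410 F383849) (tt N52976 (iv6 D191567)) (tt N112819 (iv7 F482772)))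
theorem Q88679 : ∀ i, i < 88679 → P i := stepQ 88678 Q88678 (allL N88678 (tt N52977 (iv1 D191568)) (tt N69945 F383851) (tt N69947 (iv2 F383854)) (tt N88895 F384465) (tt N82386 F383853) (tt N89061 F385016) (tt N53016 F383856) (tt N69940 F383852))
theorem Q88680 : ∀ i, i < 88680 → P i := stepQ 88679 Q88679 (allL N88679 (tt N69947 F383860) (tt N69940 F383861) (tt N69945 F383857) (tt N71929 F383858) (tt N112819 (iv4 F482774)) (tt N89732 (iv5 F387346)) (tt N54787 F383859) (tt N52977 (iv7 D191569)))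
theorem Q88681 : ∀ i, i < 88681 → P i := stepQ 88680 Q88680 (allL N88680 (tt N116219 D219478) (tt N111752 (iv0 F477794)) (tt N65155 F383867) (tt N81766 F383868) (tt N65153 F383870) (tt N52978 (iv5 D191570)) (tt N116220 D219479) (tt N65160 F383869))
theorem Q88682 : ∀ i, i < 88682 → P i := stepQ 88681 Q88681 (allL N88681 (tt N116221 D219480) (tt N105868 (iv0 F452092)) (tt N92020 (iv2 F395396)) (tt N52979 (iv3 D191571)) (tt N104417 (iv4 F445664)) (tt N97538 (iv5 F417307)) (tt N92019 F395395) (tt N97551 (iv7 F417352)))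
theorem Q88683 : ∀ i, i < 88683 → P i := stepQ 88682 Q88682 (allL N88682 (tt N111752 (iv1 F477796)) (tt N116219 F499084) (tt N65160 F383872) (tt N97538 (iv3 F417306)) (tt N65158 F383873) (tt N52979 (iv5 D191572)) (tt N81757 F383874) (tt N65155 F383875))
theorem Q88684 : ∀ i, i < 88684 → P i := stepQ 88683 Q88683 (allL N88683 (tt N80740 (iv1 F383879)) (tt N52980 (iv0 D191573)) (tt N81805 (iv2 F383880)) (tt N116222 D219481) (tt N80116 F383877) (tt N54259 F383876) (tt N81798 F383878) (tt N103367 (iv7 F441312)))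
theorem Q88685 : ∀ i, i < 88685 → P i := stepQ 88684 Q88684 (allL N88684 (tt N52980 (iv1 D191574)) (tt N80740 F383881) (tt N103367 F441310) (tt N100737 (iv3 F430231)) (tt N80115 F383884) (tt N54261 F383883) (tt N100735 F430222) (tt N81805 F383882))
theorem Q88686 : ∀ i, i < 88686 → P i := stepQ 88685 Q88685 (allL N88685 (tt N68373 F383889) (tt N68372 (iv0 F383891)) (tt N68374 F383885) (tt N54869 F383886) (tt N70766 F383888) (tt N52981 (iv5 D191575)) (tt N70771 F383890) (tt N61356 F383887))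
theorem Q88687 : ∀ i, i < 88687 → P i := stepQ 88686 Q88686 (allL N88686 (tt N103557 (iv1 F442032)) (tt N103781 F442787) (tt N102539 (iv2 F437565)) (tt N104624 (iv3 F446591)) (tt N52982 (iv4 D191576)) (tt N102457 (iv5 F437291)) (tt N102536 (iv6 F437555)) (tt N102456 F437288))
theorem Q88688 : ∀ i, i < 88688 → P i := stepQ 88687 Q88687 (allL N88687 (tt N82770 F383893) (tt N95107 F407077) (tt N52987 F383892) (tt N103611 (iv3 F442239)) (tt N52983 (iv4 D191578)) (tt N102482 (iv5 F437386)) (tt N105748 (iv6 F451517)) (tt N113793 (iv7 F487140)))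
theorem Q88689 : ∀ i, i < 88689 → P i := stepQ 88688 Q88688 (allL N88688 (tt N116223 D219482) (tt N116224 D219483) (tt N52988 F383894) (tt N82963 F383895) (tt N105748 F451519) (tt N89814 (iv5 F387622)) (tt N52983 (iv6 D191579)) (tt N116225 D219484))
theorem Q88690 : ∀ i, i < 88690 → P i := stepQ 88689 Q88689 (allL N88689 (tt N103551 (iv1 F442010)) (tt N103779 (iv0 F442779)) (tt N109154 (iv2 F465601)) (tt N116226 D219485) (tt N52985 (iv4 D191580)) (tt N98717 (iv5 F439245)) (tt N106522 F454764) (tt N113795 (iv7 F487148)))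
theorem Q88691 : ∀ i, i < 88691 → P i := stepQ 88690 Q88690 (allL N88690 (tt N103779 (iv1 F442781)) (tt N103551 (iv0 F442012)) (tt N113795 (iv2 F487145)) (tt N103705 (iv3 F442537)) (tt N52986 (iv4 D191581)) (tt N116227 D219486) (tt N103704 (iv6 F442536)) (tt N109154 (iv7 F465605)))
theorem Q88692 : ∀ i, i < 88692 → P i := stepQ 88691 Q88691 (allL N88691 (tt N104265 F445023) (tt N105120 (iv0 F448891)) (tt N105105 (iv2 F448812)) (tt N104950 (iv3 F448099)) (tt N103704 F442534) (tt N78695 F391593) (tt N52986 (iv6 D191582)) (tt N106990 (iv7 F456542)))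
theorem Q88693 : ∀ i, i < 88693 → P i := stepQ 88692 Q88692 (allL N88692 (tt N113793 (iv1 F487142)) (tt N52987 (iv0 D191583)) (tt N82770 (iv2 F383897)) (tt N68925 (iv3 F383898)) (tt N82767 F383896) (tt N102619 F437924) (tt N103511 (iv6 F441890)) (tt N95107 (iv7 F407075)))
theorem Q88694 : ∀ i, i < 88694 → P i := stepQ 88693 Q88693 (allL N88693 (tt N116228 D219487) (tt N116229 D219488) (tt N116230 D219489) (tt N52987 (iv3 D191584)) (tt N52991 F383899) (tt N116231 D219490) (tt N115793 F496918) (tt N113796 (iv7 F487153)))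
theorem Q88695 : ∀ i, i < 88695 → P i := stepQ 88694 Q88694 (allL N88694 (tt N102485 F437403) (tt N66180 (iv0 F399492)) (tt N102482 F437387) (tt N116231 (iv3 F499141)) (tt N70764 F383900) (tt N52987 (iv5 D191585)) (tt N109157 (iv6 F465621)) (tt N102483 (iv7 F437389)))
theorem Q88696 : ∀ i, i < 88696 → P i := stepQ 88695 Q88695 (allL N88695 (tt N102606 F437875) (tt N105747 (iv0 F451513)) (tt N105748 F451518) (tt N115793 (iv3 F496915)) (tt N52988 F383901) (tt N115792 (iv5 F496909)) (tt N52987 (iv6 D191586)) (tt N105749 (iv7 F451521)))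
theorem Q88697 : ∀ i, i < 88697 → P i := stepQ 88696 Q88696 (allL N88696 (tt N116225 (iv1 F499121)) (tt N52988 (iv0 D191587)) (tt N116223 F499107) (tt N88781 F384129) (tt N104629 F446606) (tt N106385 (iv5 F454241)) (tt N104633 (iv6 F446620)) (tt N116224 (iv7 F499112)))
theorem Q88698 : ∀ i, i < 88698 → P i := stepQ 88697 Q88697 (allL N88697 (tt N52988 (iv1 D191588)) (tt N116225 F499120) (tt N116224 (iv2 F499114)) (tt N103897 (iv3 F443264)) (tt N102450 F443265) (tt N115084 (iv5 F493407)) (tt N102449 F443266) (tt N116223 F499109))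
theorem Q88699 : ∀ i, i < 88699 → P i := stepQ 88698 Q88698 (allL N88698 (tt N116224 (iv1 F499111)) (tt N116223 (iv0 F499110)) (tt N116225 (iv2 F499116)) (tt N52995 F383902) (tt N105749 F451522) (tt N76698 F383903) (tt N113800 (iv6 F487160)) (tt N52988 (iv7 D191589)))
theorem Q88700 : ∀ i, i < 88700 → P i := stepQ 88699 Q88699 (allL N88699 (tt N53782 F383906) (tt N53216 F383907) (tt N53785 F383904) (tt N106374 (iv3 F454203)) (tt N90078 (iv4 F388507)) (tt N52989 (iv5 D191590)) (tt N109880 (iv6 F469059)) (tt N53784 F383905))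
theorem Q88701 : ∀ i, i < 88701 → P i := stepQ 88700 Q88700 (allL N88700 (tt N86759 F383910) (tt N91678 (iv0 F394005)) (tt N86821 F383908) (tt N86095 F383912) (tt N52990 (iv4 D191591)) (tt N86093 F383911) (tt N86835 F383909) (tt N111320 (iv7 F475807)))
theorem Q88702 : ∀ i, i < 88702 → P i := stepQ 88701 Q88701 (allL N88701 (tt N53216 F383916) (tt N53782 F383917) (tt N53784 F383913) (tt N83115 F383919) (tt N84780 F383915) (tt N52990 (iv5 D191592)) (tt N106371 (iv6 F454190)) (tt N53785 F383914))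
theorem Q88703 : ∀ i, i < 88703 → P i := stepQ 88702 Q88702 (allL N88702 (tt N113803 (iv1 F487180)) (tt N52991 (iv0 D191593)) (tt N113802 (iv2 F487174)) (tt N104307 F445162) (tt N116232 D219491) (tt N113056 (iv5 F483767)) (tt N116233 D219492) (tt N113801 F487169))
theorem Q88704 : ∀ i, i < 88704 → P i := stepQ 88703 Q88703 (allL N88703 (tt N52991 (iv1 D191594)) (tt N113803 F487181) (tt N113801 F487166) (tt N56404 (iv3 F395882)) (tt N103688 (iv4 F442483)) (tt N56403 F395883) (tt N97642 (iv6 F417739)) (tt N113802 (iv7 F487170)))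
theorem Q88705 : ∀ i, i < 88705 → P i := stepQ 88704 Q88704 (allL N88704 (tt N113802 (iv1 F487175)) (tt N113801 F487165) (tt N52991 (iv2 D191595)) (tt N113792 (iv3 F487130)) (tt N116230 (iv4 F499137)) (tt N88767 (iv5 F384084)) (tt N116234 D219493) (tt N113803 (iv7 F487179)))
theorem Q88706 : ∀ i, i < 88706 → P i := stepQ 88705 Q88705 (allL N88705 (tt N116235 D219494) (tt N97752 (iv0 F418171)) (tt N116234 (iv2 F499155)) (tt N52992 F383921) (tt N115793 (iv4 F496914)) (tt N111072 F474534) (tt N52991 (iv6 D191596)) (tt N116236 D219495))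
theorem Q88707 : ∀ i, i < 88707 → P i := stepQ 88706 Q88706 (allL N88706 (tt N88798 (iv1 F384182)) (tt N88794 F384168) (tt N111010 F474232) (tt N116236 (iv3 F499167)) (tt N52995 F383922) (tt N79877 F383923) (tt N113804 (iv6 F487186)) (tt N52992 (iv7 D191597)))
theorem Q88708 : ∀ i, i < 88708 → P i := stepQ 88707 Q88707 (allL N88707 (tt N85837 F383928) (tt N82983 (iv0 F383929)) (tt N73266 F383924) (tt N52993 (iv3 D191598)) (tt N60050 (iv4 F383926)) (tt N53109 (iv5 F383927)) (tt N60049 F383925) (tt N113782 (iv7 F487085)))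
theorem Q88709 : ∀ i, i < 88709 → P i := stepQ 88708 Q88708 (allL N88708 (tt N67278 F383934) (tt N53042 (iv0 F383936)) (tt N67279 F383930) (tt N60052 F383931) (tt N52993 (iv4 D191599)) (tt N65425 F383935) (tt N60051 F383932) (tt N67273 F383933))
theorem Q88710 : ∀ i, i < 88710 → P i := stepQ 88709 Q88709 (allL N88709 (tt N53742 F383941) (tt N105257 (iv0 F449417)) (tt N73220 F383937) (tt N53109 F383938) (tt N78462 F383940) (tt N52993 (iv5 D191600)) (tt N73216 F383939) (tt N112831 (iv7 F482843)))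
theorem Q88711 : ∀ i, i < 88711 → P i := stepQ 88710 Q88710 (allL N88710 (tt N105257 (iv1 F449418)) (tt N53742 F383945) (tt N112831 (iv2 F482839)) (tt N67231 F383942) (tt N78461 F383943) (tt N52994 (iv5 D191601)) (tt N53777 (iv6 F383946)) (tt N73220 F383944))
theorem Q88712 : ∀ i, i < 88712 → P i := stepQ 88711 Q88711 (allL N88711 (tt N82968 (iv1 F383951)) (tt N82967 F383952) (tt N82759 F383947) (tt N103881 (iv3 F443201)) (tt N52996 (iv4 D191602)) (tt N75084 F383950) (tt N55849 F383948) (tt N82954 F383949))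
theorem Q88713 : ∀ i, i < 88713 → P i := stepQ 88712 Q88712 (allL N88712 (tt N103771 (iv1 F442753)) (tt N102543 (iv0 F437579)) (tt N52999 F383953) (tt N68920 F383956) (tt N52997 (iv4 D191603)) (tt N68919 F383955) (tt N116237 D219496) (tt N82962 F383954))
theorem Q88714 : ∀ i, i < 88714 → P i := stepQ 88713 Q88713 (allL N88713 (tt N109918 (iv1 F470791)) (tt N110276 (iv0 F470788)) (tt N53000 F383957) (tt N113794 (iv3 F487144)) (tt N116237 (iv4 F499174)) (tt N113211 (iv5 F484501)) (tt N52997 (iv6 D191604)) (tt N116238 D219497))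
theorem Q88715 : ∀ i, i < 88715 → P i := stepQ 88714 Q88714 (allL N88714 (tt N116239 D219498) (tt N116240 D219499) (tt N104746 (iv2 F447087)) (tt N52999 (iv3 D191607)) (tt N53003 F383960) (tt N116241 D219500) (tt N116242 D219501) (tt N113788 (iv7 F487116)))
theorem Q88716 : ∀ i, i < 88716 → P i := stepQ 88715 Q88715 (allL N88715 (tt N103705 (iv1 F444130)) (tt N97869 (iv0 F418600)) (tt N68919 F383961) (tt N116241 (iv3 F499189)) (tt N108634 (iv4 F463296)) (tt N52999 (iv5 D191608)) (tt N116243 D219502) (tt N103780 F442784))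
theorem Q88717 : ∀ i, i < 88717 → P i := stepQ 88716 Q88716 (allL N88716 (tt N116244 D219503) (tt N116245 D219504) (tt N116237 (iv2 F499172)) (tt N116242 (iv3 F499194)) (tt N53000 F383962) (tt N116246 D219505) (tt N52999 (iv6 D191609)) (tt N116247 D219506))
theorem Q88718 : ∀ i, i < 88718 → P i := stepQ 88717 Q88717 (allL N88717 (tt N116238 (iv1 F499178)) (tt N53000 (iv0 D191610)) (tt N109918 (iv2 F469209)) (tt N82995 F384041) (tt N116248 D219507) (tt N83431 (iv5 F384042)) (tt N106979 F485542) (tt N110276 F470790))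
theorem Q88719 : ∀ i, i < 88719 → P i := stepQ 88718 Q88718 (allL N88718 (tt N53000 (iv1 D191611)) (tt N116238 F499177) (tt N110276 (iv2 F470786)) (tt N101136 (iv3 F456187)) (tt N116249 D219508) (tt N109512 (iv5 F467317)) (tt N101134 F456188) (tt N109918 (iv7 F469211)))
theorem Q88720 : ∀ i, i < 88720 → P i := stepQ 88719 Q88719 (allL N88719 (tt N110276 (iv1 F470789)) (tt N109918 (iv0 F469212)) (tt N116238 (iv2 F499175)) (tt N53008 F383963) (tt N116247 (iv4 F499202)) (tt N113520 (iv5 F485882)) (tt N113791 (iv6 F487127)) (tt N53000 (iv7 D191612)))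
theorem Q88721 : ∀ i, i < 88721 → P i := stepQ 88720 Q88720 (allL N88720 (tt N53174 F383969) (tt N77930 F383968) (tt N72664 F383964) (tt N62024 F383965) (tt N61835 F383966) (tt N53002 (iv5 D191613)) (tt N116250 D219509) (tt N83166 F383967))
theorem Q88722 : ∀ i, i < 88722 → P i := stepQ 88721 Q88721 (allL N88721 (tt N113792 (iv1 F487135)) (tt N53003 (iv0 D191614)) (tt N56403 (iv2 F383975)) (tt N93094 (iv3 F399458)) (tt N105753 (iv4 F451540)) (tt N113801 (iv5 F487163)) (tt N56402 F383976) (tt N113056 (iv7 F483768)))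
theorem Q88723 : ∀ i, i < 88723 → P i := stepQ 88722 Q88722 (allL N88722 (tt N53003 (iv1 D191615)) (tt N113792 F487136) (tt N113056 (iv2 F483766)) (tt N56405 (iv3 F383973)) (tt N105757 (iv4 F451552)) (tt N113802 F487173) (tt N93109 (iv6 F399517)) (tt N56403 F383974))
theorem Q88724 : ∀ i, i < 88724 → P i := stepQ 88723 Q88723 (allL N88723 (tt N56403 F441176) (tt N113056 F483770) (tt N53003 (iv2 D191616)) (tt N113803 (iv3 F487176)) (tt N104746 (iv4 F447090)) (tt N88745 (iv5 F383996)) (tt N102897 (iv6 F439174)) (tt N113792 (iv7 F487134)))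
theorem Q88725 : ∀ i, i < 88725 → P i := stepQ 88724 Q88724 (allL N88724 (tt N102900 (iv1 F439183)) (tt N60671 (iv0 F417234)) (tt N102897 F439173) (tt N53004 F383977) (tt N116242 (iv4 F499195)) (tt N98567 (iv5 F421352)) (tt N53003 (iv6 D191617)) (tt N102898 (iv7 F439172)))
theorem Q88726 : ∀ i, i < 88726 → P i := stepQ 88725 Q88725 (allL N88725 (tt N113804 (iv1 F487188)) (tt N53004 (iv0 D191618)) (tt N87686 (iv2 F384021)) (tt N109915 (iv3 F469196)) (tt N84028 F384024) (tt N84022 F384020) (tt N113823 (iv6 F487299)) (tt N87689 (iv7 F384022)))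
theorem Q88727 : ∀ i, i < 88727 → P i := stepQ 88726 Q88726 (allL N88726 (tt N53004 (iv1 D191619)) (tt N113804 F487187) (tt N87689 (iv2 F384015)) (tt N98571 F421365) (tt N84029 F384039) (tt N60652 F384014) (tt N90413 (iv6 F389559)) (tt N87686 (iv7 F384016)))
theorem Q88728 : ∀ i, i < 88728 → P i := stepQ 88727 Q88727 (allL N88727 (tt N106737 F455487) (tt N67267 (iv0 F384023)) (tt N104562 (iv2 F446275)) (tt N98567 (iv3 F421350)) (tt N113805 (iv4 F487191)) (tt N53004 (iv5 D191620)) (tt N88749 (iv6 F384008)) (tt N116207 (iv7 F499019)))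
theorem Q88729 : ∀ i, i < 88729 → P i := stepQ 88728 Q88728 (allL N88728 (tt N87689 (iv1 F383979)) (tt N87686 F384040) (tt N113804 (iv2 F487182)) (tt N102898 F439171) (tt N53008 F383978) (tt N116207 (iv5 F499018)) (tt N111010 F474233) (tt N53004 (iv7 D191621)))
theorem Q88730 : ∀ i, i < 88730 → P i := stepQ 88729 Q88729 (allL N88729 (tt N114267 (iv1 F489304)) (tt N105252 (iv0 F454584)) (tt N113207 (iv2 F484483)) (tt N70431 F384031) (tt N112992 (iv4 F483465)) (tt N53005 (iv5 D191624)) (tt N112583 (iv6 F481726)) (tt N105303 (iv7 F449633)))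
theorem Q88731 : ∀ i, i < 88731 → P i := stepQ 88730 Q88730 (allL N88730 (tt N91108 (iv1 F452683)) (tt N114669 (iv0 F491297)) (tt N113805 (iv2 F487189)) (tt N70250 F384032) (tt N104562 (iv4 F446276)) (tt N88755 F384060) (tt N53005 (iv6 D191625)) (tt N101141 (iv7 F431900)))
theorem Q88732 : ∀ i, i < 88732 → P i := stepQ 88731 Q88731 (allL N88731 (tt N91082 F418875) (tt N113783 F487093) (tt N101138 (iv2 F431877)) (tt N53006 (iv3 D191626)) (tt N92226 (iv4 F396427)) (tt N90630 F418871) (tt N97937 (iv6 F418866)) (tt N98565 (iv7 F421345)))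
theorem Q88733 : ∀ i, i < 88733 → P i := stepQ 88732 Q88732 (allL N88732 (tt N91133 (iv1 F392049)) (tt N53007 (iv0 D191628)) (tt N91131 F392041) (tt N70000 (iv3 F383981)) (tt N115755 (iv4 F496684)) (tt N69999 F383980) (tt N90909 (iv6 F391237)) (tt N91132 (iv7 F392039)))
theorem Q88734 : ∀ i, i < 88734 → P i := stepQ 88733 Q88733 (allL N88733 (tt N53007 (iv1 D191629)) (tt N91133 F392048) (tt N91132 (iv2 F392043)) (tt N92152 (iv3 F395985)) (tt N115432 (iv4 F495165)) (tt N92147 (iv5 F395966)) (tt N115431 (iv6 F495163)) (tt N91131 F392042))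
theorem Q88735 : ∀ i, i < 88735 → P i := stepQ 88734 Q88734 (allL N88734 (tt N116251 D219510) (tt N54591 (iv0 F383983)) (tt N91130 (iv2 F392031)) (tt N101305 (iv3 F432595)) (tt N53007 (iv4 D191630)) (tt N116252 D219511) (tt N53009 F383982) (tt N113385 (iv7 F485294)))
theorem Q88736 : ∀ i, i < 88736 → P i := stepQ 88735 Q88735 (allL N88735 (tt N91132 (iv1 F392036)) (tt N91131 F392044) (tt N91133 (iv2 F392045)) (tt N113520 (iv3 F485881)) (tt N113385 F485295) (tt N53008 F383984) (tt N89813 (iv6 F387620)) (tt N53007 (iv7 D191631)))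
theorem Q88737 : ∀ i, i < 88737 → P i := stepQ 88736 Q88736 (allL N88736 (tt N82801 F383986) (tt N102484 F437399) (tt N53011 F383985) (tt N103884 (iv3 F443209)) (tt N53010 (iv4 D191632)) (tt N102911 F439232) (tt N116253 D219512) (tt N102587 (iv7 F437807)))
theorem Q88738 : ∀ i, i < 88738 → P i := stepQ 88737 Q88737 (allL N88737 (tt N84944 F442751) (tt N114952 F492735) (tt N53013 F383987) (tt N82966 F383988) (tt N116253 (iv4 F499232)) (tt N116254 D219513) (tt N53010 (iv6 D191633)) (tt N114951 (iv7 F492725)))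
theorem Q88739 : ∀ i, i < 88739 → P i := stepQ 88738 Q88738 (allL N88738 (tt N103920 F443379) (tt N116255 D219514) (tt N116256 D219515) (tt N53011 (iv3 D191634)) (tt N53014 F383989) (tt N102917 F439262) (tt N116257 D219516) (tt N113819 (iv7 F487274)))
theorem Q88740 : ∀ i, i < 88740 → P i := stepQ 88739 Q88739 (allL N88739 (tt N104714 F448659) (tt N116258 D219517) (tt N116253 (iv2 F499231)) (tt N116257 (iv3 F499245)) (tt N53013 F383990) (tt N102918 (iv5 F439266)) (tt N53011 (iv6 D191635)) (tt N116259 D219518))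
theorem Q88741 : ∀ i, i < 88741 → P i := stepQ 88740 Q88740 (allL N88740 (tt N114951 (iv1 F492729)) (tt N53013 (iv0 D191636)) (tt N84944 (iv2 F384000)) (tt N72051 F384001) (tt N116260 D219519) (tt N116261 D219520) (tt N72048 (iv6 F384002)) (tt N114952 (iv7 F492733)))
theorem Q88742 : ∀ i, i < 88742 → P i := stepQ 88741 Q88741 (allL N88741 (tt N116262 D219521) (tt N113958 (iv0 F487965)) (tt N116254 (iv2 F499238)) (tt N53018 F383991) (tt N116263 D219522) (tt N53013 (iv5 D191638)) (tt N84977 F383992) (tt N116264 D219523))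
theorem Q88743 : ∀ i, i < 88743 → P i := stepQ 88742 Q88742 (allL N88742 (tt N114952 (iv1 F492734)) (tt N84944 (iv0 F487233)) (tt N114951 F492726) (tt N53019 F383993) (tt N116259 (iv4 F499254)) (tt N116264 (iv5 F499269)) (tt N97713 (iv6 F418032)) (tt N53013 (iv7 D191639)))
theorem Q88744 : ∀ i, i < 88744 → P i := stepQ 88743 Q88743 (allL N88743 (tt N92631 F397690) (tt N53014 (iv0 D191640)) (tt N97515 (iv2 F417211)) (tt N103270 (iv3 F440901)) (tt N70585 (iv4 F384037)) (tt N88766 F417422) (tt N65824 F384036) (tt N113822 (iv7 F487296)))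
theorem Q88745 : ∀ i, i < 88745 → P i := stepQ 88744 Q88744 (allL N88744 (tt N53014 (iv1 D191641)) (tt N92631 F397692) (tt N113822 F487294) (tt N60787 (iv3 F383994)) (tt N104745 (iv4 F447084)) (tt N67199 F383995) (tt N116213 (iv6 F499053)) (tt N97515 (iv7 F417207)))
theorem Q88746 : ∀ i, i < 88746 → P i := stepQ 88745 Q88745 (allL N88745 (tt N97515 (iv1 F417210)) (tt N113822 F487295) (tt N53014 (iv2 D191642)) (tt N103263 F440863) (tt N116256 (iv4 F499243)) (tt N88723 F383996) (tt N98016 (iv6 F419180)) (tt N92631 F397691))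
theorem Q88747 : ∀ i, i < 88747 → P i := stepQ 88746 Q88746 (allL N88746 (tt N92176 (iv1 F396101)) (tt N92178 (iv0 F396106)) (tt N98016 F419178) (tt N53015 F383997) (tt N116257 (iv4 F499246)) (tt N61566 (iv5 F384035)) (tt N53014 (iv6 D191643)) (tt N92628 (iv7 F397682)))
theorem Q88748 : ∀ i, i < 88748 → P i := stepQ 88747 Q88747 (allL N88747 (tt N113812 (iv1 F487240)) (tt N53015 (iv0 D191644)) (tt N103364 (iv2 F441288)) (tt N85991 (iv3 F384003)) (tt N84094 (iv4 F384005)) (tt N92172 (iv5 F396083)) (tt N101884 (iv6 F434811)) (tt N113811 (iv7 F487227)))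
theorem Q88749 : ∀ i, i < 88749 → P i := stepQ 88748 Q88748 (allL N88748 (tt N53015 (iv1 D191645)) (tt N113812 F487239) (tt N113811 (iv2 F487231)) (tt N68775 (iv3 F384055)) (tt N70057 F384056) (tt N68698 F440834) (tt N68773 F384057) (tt N103364 (iv7 F441290)))
theorem Q88750 : ∀ i, i < 88750 → P i := stepQ 88749 Q88749 (allL N88749 (tt N87685 F384017) (tt N84027 F384018) (tt N87682 (iv2 F384026)) (tt N61566 F384019) (tt N84005 F384009) (tt N53015 (iv5 D191646)) (tt N88727 F384008) (tt N87683 (iv7 F384034)))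
theorem Q88751 : ∀ i, i < 88751 → P i := stepQ 88750 Q88750 (allL N88750 (tt N113811 (iv1 F487226)) (tt N103364 (iv0 F441291)) (tt N113812 (iv2 F487234)) (tt N92628 (iv3 F397681)) (tt N53019 F384043) (tt N87683 F384044) (tt N92626 F397678) (tt N53015 (iv7 D191647)))
theorem Q88752 : ∀ i, i < 88752 → P i := stepQ 88751 Q88751 (allL N88751 (tt N69923 (iv1 F384047)) (tt N69922 F384048) (tt N69925 F384045) (tt N53016 (iv3 D191648)) (tt N92143 F395942) (tt N113982 F488053) (tt N88895 (iv6 F384466)) (tt N69919 F384046))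
theorem Q88753 : ∀ i, i < 88753 → P i := stepQ 88752 Q88752 (allL N88752 (tt N68707 (iv1 F384053)) (tt N53028 (iv0 F384052)) (tt N68709 F384049) (tt N66598 (iv3 F384054)) (tt N53016 (iv4 D191649)) (tt N103391 (iv5 F441410)) (tt N82386 F384050) (tt N68702 F384051))
theorem Q88754 : ∀ i, i < 88754 → P i := stepQ 88753 Q88753 (allL N88753 (tt N116265 D219524) (tt N114699 F491411) (tt N113813 (iv2 F487241)) (tt N113982 (iv3 F488055)) (tt N116266 D219525) (tt N53016 (iv5 D191650)) (tt N116267 D219526) (tt N113814 (iv7 F487248)))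
theorem Q88755 : ∀ i, i < 88755 → P i := stepQ 88754 Q88754 (allL N88754 (tt N114699 F491410) (tt N116265 F499273) (tt N113814 (iv2 F487245)) (tt N68690 F384058) (tt N116268 D219527) (tt N53017 (iv5 D191651)) (tt N88579 (iv6 F384059)) (tt N113813 (iv7 F487243)))
theorem Q88756 : ∀ i, i < 88756 → P i := stepQ 88755 Q88755 (allL N88755 (tt N53018 (iv1 D191652)) (tt N113817 F487264) (tt N113815 (iv2 F487254)) (tt N100870 (iv3 F430826)) (tt N116269 D219528) (tt N88730 (iv5 F384060)) (tt N116171 (iv6 F498856)) (tt N89410 F386394))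
theorem Q88757 : ∀ i, i < 88757 → P i := stepQ 88756 Q88756 (allL N88756 (tt N86388 F388126) (tt N116270 D219529) (tt N113816 (iv2 F487255)) (tt N116271 D219530) (tt N53018 (iv4 D191653)) (tt N83058 (iv5 F450202)) (tt N84289 F384061) (tt N116141 (iv7 F498703)))
theorem Q88758 : ∀ i, i < 88758 → P i := stepQ 88757 Q88757 (allL N88757 (tt N113815 (iv1 F487250)) (tt N89410 (iv0 F431901)) (tt N113817 (iv2 F487260)) (tt N116264 (iv3 F499268)) (tt N116141 (iv4 F498701)) (tt N53019 F384062) (tt N114047 (iv6 F488345)) (tt N53018 (iv7 D191654)))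
theorem Q88759 : ∀ i, i < 88759 → P i := stepQ 88758 Q88758 (allL N88758 (tt N82965 (iv1 F384064)) (tt N53020 (iv0 D191655)) (tt N113806 F487198) (tt N116227 (iv3 F499125)) (tt N88075 F384063) (tt N103705 F442540) (tt N116217 F499074) (tt N109156 (iv7 F465615)))
theorem Q88760 : ∀ i, i < 88760 → P i := stepQ 88759 Q88759 (allL N88759 (tt N53020 (iv1 D191656)) (tt N82965 F384065) (tt N109156 (iv2 F465612)) (tt N116272 D219531) (tt N88779 (iv4 F384108)) (tt N97869 F418599) (tt N105526 (iv6 F450583)) (tt N113806 (iv7 F487195)))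
theorem Q88761 : ∀ i, i < 88761 → P i := stepQ 88760 Q88760 (allL N88760 (tt N116273 D219532) (tt N106145 (iv0 F453340)) (tt N116274 D219533) (tt N53020 (iv3 D191657)) (tt N53022 F384066) (tt N105760 (iv5 F451574)) (tt N116275 D219534) (tt N113807 (iv7 F487203)))
theorem Q88762 : ∀ i, i < 88762 → P i := stepQ 88761 Q88761 (allL N88761 (tt N66158 (iv1 F384070)) (tt N69023 (iv0 F384069)) (tt N69021 (iv2 F384118)) (tt N105760 F451573) (tt N70692 F384068) (tt N53020 (iv5 D191658)) (tt N114369 F489841) (tt N69020 (iv7 F384123)))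
theorem Q88763 : ∀ i, i < 88763 → P i := stepQ 88762 Q88762 (allL N88762 (tt N97802 F456671) (tt N109149 F465582) (tt N109147 (iv2 F465570)) (tt N116275 (iv3 F499308)) (tt N53021 F384071) (tt N116276 D219535) (tt N53020 (iv6 D191659)) (tt N109148 (iv7 F465573)))
theorem Q88764 : ∀ i, i < 88764 → P i := stepQ 88763 Q88763 (allL N88763 (tt N72084 (iv1 F384076)) (tt N53021 (iv0 D191660)) (tt N72086 (iv2 F384072)) (tt N83008 F384073) (tt N116277 D219536) (tt N116278 D219537) (tt N116279 D219538) (tt N72080 F384074))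
theorem Q88765 : ∀ i, i < 88765 → P i := stepQ 88764 Q88764 (allL N88764 (tt N116280 D219539) (tt N95965 (iv0 F452875)) (tt N83175 F384077) (tt N53025 F384078) (tt N116281 D219540) (tt N53021 (iv5 D191661)) (tt N53192 F384079) (tt N107948 (iv7 F460427)))
theorem Q88766 : ∀ i, i < 88766 → P i := stepQ 88765 Q88765 (allL N88765 (tt N72080 (iv1 F384082)) (tt N72086 F384083) (tt N72084 F384080) (tt N53026 F384081) (tt N109148 F465574) (tt N107948 (iv5 F460425)) (tt N113810 (iv6 F487223)) (tt N53021 (iv7 D191662)))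
theorem Q88767 : ∀ i, i < 88767 → P i := stepQ 88766 Q88766 (allL N88766 (tt N103263 (iv1 F440860)) (tt N53022 (iv0 D191663)) (tt N103264 (iv2 F440865)) (tt N97509 F417170) (tt N116282 D219541) (tt N88743 (iv5 F417422)) (tt N97572 F417421) (tt N103262 (iv7 F440857)))
theorem Q88768 : ∀ i, i < 88768 → P i := stepQ 88767 Q88767 (allL N88767 (tt N103264 (iv1 F440870)) (tt N103262 (iv0 F440858)) (tt N53022 (iv2 D191664)) (tt N92631 (iv3 F397689)) (tt N116274 (iv4 F499305)) (tt N88704 F384084) (tt N92629 F397687) (tt N103263 (iv7 F440861)))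
theorem Q88769 : ∀ i, i < 88769 → P i := stepQ 88768 Q88768 (allL N88768 (tt N97505 F417147) (tt N93668 (iv0 F401500)) (tt N92629 (iv2 F397686)) (tt N53023 F384085) (tt N116275 (iv4 F499309)) (tt N97491 (iv5 F417080)) (tt N53022 (iv6 D191665)) (tt N116283 D219542))
theorem Q88770 : ∀ i, i < 88770 → P i := stepQ 88769 Q88769 (allL N88769 (tt N92626 F397679) (tt N53023 (iv0 D191666)) (tt N97544 (iv2 F417329)) (tt N103444 (iv3 F441665)) (tt N71645 F384086) (tt N97387 (iv5 F416651)) (tt N103442 F441658) (tt N71643 (iv7 F384087)))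
theorem Q88771 : ∀ i, i < 88771 → P i := stepQ 88770 Q88770 (allL N88770 (tt N53023 (iv1 D191667)) (tt N92626 F397680) (tt N71643 F384091) (tt N65949 (iv3 F384089)) (tt N71634 (iv4 F384090)) (tt N65947 F384088) (tt N71633 F384092) (tt N97544 (iv7 F417327)))
theorem Q88772 : ∀ i, i < 88772 → P i := stepQ 88771 Q88771 (allL N88771 (tt N97532 (iv1 F417280)) (tt N92047 (iv0 F395532)) (tt N95789 (iv2 F409658)) (tt N97491 F417078) (tt N60085 F384094) (tt N53023 (iv5 D191668)) (tt N82392 F384093) (tt N95785 (iv7 F409632)))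
theorem Q88773 : ∀ i, i < 88773 → P i := stepQ 88772 Q88772 (allL N88772 (tt N71643 F384096) (tt N97544 (iv0 F417331)) (tt N92626 F397677) (tt N116283 (iv3 F499345)) (tt N53026 F384095) (tt N95785 (iv5 F409634)) (tt N113812 (iv6 F487238)) (tt N53023 (iv7 D191669)))
theorem Q88774 : ∀ i, i < 88774 → P i := stepQ 88773 Q88773 (allL N88773 (tt N96183 F411381) (tt N53586 F384100) (tt N92146 (iv2 F395958)) (tt N70319 F384099) (tt N97411 (iv4 F416770)) (tt N53024 (iv5 D191670)) (tt N95003 (iv6 F406609)) (tt N97708 (iv7 F418002)))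
theorem Q88775 : ∀ i, i < 88775 → P i := stepQ 88774 Q88774 (allL N88774 (tt N89594 (iv1 F386889)) (tt N89596 (iv0 F386887)) (tt N53602 F384101) (tt N93293 (iv3 F400295)) (tt N53025 (iv4 D191671)) (tt N97409 (iv5 F416761)) (tt N53193 F384102) (tt N107949 (iv7 F460431)))
theorem Q88776 : ∀ i, i < 88776 → P i := stepQ 88775 Q88775 (allL N88775 (tt N107060 F456821) (tt N53027 (iv0 D191672)) (tt N103916 (iv2 F443356)) (tt N93231 (iv3 F443355)) (tt N105273 (iv4 F449498)) (tt N88777 F436058) (tt N93229 F443353) (tt N107081 (iv7 F456889)))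
theorem Q88777 : ∀ i, i < 88777 → P i := stepQ 88776 Q88776 (allL N88776 (tt N103916 F443361) (tt N107081 (iv0 F456890)) (tt N53027 (iv2 D191674)) (tt N113053 (iv3 F483748)) (tt N90241 (iv4 F389062)) (tt N87680 F384103) (tt N90240 F389058) (tt N107060 (iv7 F456819)))
theorem Q88778 : ∀ i, i < 88778 → P i := stepQ 88777 Q88777 (allL N88777 (tt N113053 (iv1 F483753)) (tt N53029 (iv0 D191675)) (tt N113051 (iv2 F483739)) (tt N116284 D219543) (tt N102178 (iv4 F436057)) (tt N88775 (iv5 F436058)) (tt N116221 (iv6 F499095)) (tt N113052 (iv7 F483741)))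
theorem Q88779 : ∀ i, i < 88779 → P i := stepQ 88778 Q88778 (allL N88778 (tt N53029 (iv1 D191676)) (tt N113053 F483752) (tt N113052 (iv2 F483745)) (tt N103358 (iv3 F441266)) (tt N56558 (iv4 F399369)) (tt N72098 (iv5 F395402)) (tt N56556 F399370) (tt N113051 F483737))
theorem Q88780 : ∀ i, i < 88780 → P i := stepQ 88779 Q88779 (allL N88779 (tt N112066 F479331) (tt N70359 (iv0 F384109)) (tt N87509 F384105) (tt N53034 F384106) (tt N88759 F384108) (tt N53032 (iv5 D191677)) (tt N70325 (iv6 F384110)) (tt N87349 F384107))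
theorem Q88781 : ∀ i, i < 88781 → P i := stepQ 88780 Q88780 (allL N88780 (tt N112064 (iv1 F479321)) (tt N69800 (iv0 F384117)) (tt N116285 D219544) (tt N53035 (iv3 D191678)) (tt N69022 (iv4 F384116)) (tt N87830 F384111) (tt N69028 F384112) (tt N111126 (iv7 F474809)))
theorem Q88782 : ∀ i, i < 88782 → P i := stepQ 88781 Q88781 (allL N88781 (tt N88598 F384128) (tt N105490 F450453) (tt N73885 F384125) (tt N88696 (iv3 F384129)) (tt N53035 (iv4 D191679)) (tt N71302 F384127) (tt N73843 F384126) (tt N105449 (iv7 F450312)))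
theorem Q88783 : ∀ i, i < 88783 → P i := stepQ 88782 Q88782 (allL N88782 (tt N113037 F483667) (tt N71849 (iv0 F384132)) (tt N105899 (iv2 F452250)) (tt N53036 (iv3 D191680)) (tt N105896 (iv4 F452238)) (tt N54867 F384130) (tt N105895 F452234) (tt N73883 F384131))
theorem Q88784 : ∀ i, i < 88784 → P i := stepQ 88783 Q88783 (allL N88783 (tt N105490 (iv1 F450452)) (tt N88598 F384135) (tt N105449 (iv2 F450310)) (tt N113854 (iv3 F487466)) (tt N53036 (iv4 D191681)) (tt N71303 F384134) (tt N103287 (iv6 F440994)) (tt N73885 F384133))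
theorem Q88785 : ∀ i, i < 88785 → P i := stepQ 88784 Q88784 (allL N88784 (tt N73844 F384138) (tt N69793 F384139) (tt N73846 F384136) (tt N105895 (iv3 F452229)) (tt N103287 (iv4 F440998)) (tt N109689 (iv5 F468121)) (tt N53036 (iv6 D191682)) (tt N73798 F384137))
theorem Q88786 : ∀ i, i < 88786 → P i := stepQ 88785 Q88785 (allL N88785 (tt N53037 (iv1 D191683)) (tt N83013 F384140) (tt N88788 F384152) (tt N116286 D219545) (tt N105107 (iv4 F448823)) (tt N106386 (iv5 F454245)) (tt N105106 F448820) (tt N88787 F384148))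
theorem Q88787 : ∀ i, i < 88787 → P i := stepQ 88786 Q88786 (allL N88786 (tt N88872 (iv1 F388685)) (tt N116287 D219546) (tt N54059 F384141) (tt N53481 F384142) (tt N90146 (iv4 F388680)) (tt N53037 (iv5 D191684)) (tt N53305 F384143) (tt N90143 (iv7 F388672)))
theorem Q88788 : ∀ i, i < 88788 → P i := stepQ 88787 Q88787 (allL N88787 (tt N84024 (iv1 F384145)) (tt N53038 (iv0 D191685)) (tt N72007 (iv2 F384146)) (tt N105486 (iv3 F450439)) (tt N71993 F384144) (tt N116288 D219547) (tt N71992 (iv6 F384147)) (tt N88785 (iv7 F384148)))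
theorem Q88789 : ∀ i, i < 88789 → P i := stepQ 88788 Q88788 (allL N88788 (tt N53038 (iv1 D191686)) (tt N84024 F384149) (tt N88785 (iv2 F384152)) (tt N88885 (iv3 F454182)) (tt N72009 F384151) (tt N88884 F454181) (tt N105474 F450406) (tt N72007 F384150))
theorem Q88790 : ∀ i, i < 88790 → P i := stepQ 88789 Q88789 (allL N88789 (tt N115060 F493293) (tt N85327 F384156) (tt N88586 F384153) (tt N83163 F384154) (tt N53039 (iv4 D191687)) (tt N113228 (iv5 F484596)) (tt N82613 F384155) (tt N91501 (iv7 F393401)))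
theorem Q88791 : ∀ i, i < 88791 → P i := stepQ 88790 Q88790 (allL N88790 (tt N85327 F384159) (tt N115060 (iv0 F493292)) (tt N91501 (iv2 F393399)) (tt N85325 F384157) (tt N53040 (iv4 D191688)) (tt N71292 (iv5 F427862)) (tt N88962 (iv6 F384605)) (tt N88586 F384158))
theorem Q88792 : ∀ i, i < 88792 → P i := stepQ 88791 Q88791 (allL N88791 (tt N82811 (iv1 F384160)) (tt N53041 (iv0 D191689)) (tt N82808 (iv2 F417186)) (tt N104301 F445136) (tt N87039 F417182) (tt N87663 F389059) (tt N116289 D219548) (tt N82809 F417192))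
theorem Q88793 : ∀ i, i < 88793 → P i := stepQ 88792 Q88792 (allL N88792 (tt N53041 (iv1 D191690)) (tt N82811 F384161) (tt N82809 F417191) (tt N104575 (iv3 F446355)) (tt N87040 (iv4 F417196)) (tt N87664 F384162) (tt N104285 F445101) (tt N82808 (iv7 F417190)))
theorem Q88794 : ∀ i, i < 88794 → P i := stepQ 88793 Q88793 (allL N88793 (tt N104123 (iv1 F444297)) (tt N71853 (iv0 F411148)) (tt N103619 (iv2 F442263)) (tt N53043 (iv3 D191691)) (tt N68260 (iv4 F384164)) (tt N96122 (iv5 F411147)) (tt N96124 (iv6 F411159)) (tt N87668 F384163))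
theorem Q88795 : ∀ i, i < 88795 → P i := stepQ 88794 Q88794 (allL N88794 (tt N88706 (iv1 F384168)) (tt N83990 F384183) (tt N78419 F384165) (tt N103324 F441141) (tt N53043 (iv4 D191692)) (tt N65428 F384167) (tt N112072 (iv6 F479358)) (tt N78412 F384166))
theorem Q88796 : ∀ i, i < 88796 → P i := stepQ 88795 Q88795 (allL N88795 (tt N54036 F384172) (tt N112829 (iv0 F482830)) (tt N87666 F384169) (tt N96122 (iv3 F411145)) (tt N82521 F384171) (tt N53043 (iv5 D191693)) (tt N96118 (iv6 F411130)) (tt N87669 F384170))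
theorem Q88797 : ∀ i, i < 88797 → P i := stepQ 88796 Q88796 (allL N88796 (tt N97700 (iv1 F417964)) (tt N54260 (iv0 F384175)) (tt N87667 F384173) (tt N96124 (iv3 F411158)) (tt N112072 (iv4 F479357)) (tt N55103 F384174) (tt N53043 (iv6 D191694)) (tt N89595 (iv7 F386882)))
theorem Q88798 : ∀ i, i < 88798 → P i := stepQ 88797 Q88797 (allL N88797 (tt N96593 F413121) (tt N105488 (iv0 F452393)) (tt N105462 (iv2 F450350)) (tt N53044 (iv3 D191695)) (tt N105929 (iv4 F452391)) (tt N86283 F384176) (tt N104819 F447446) (tt N87665 F384177))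
theorem Q88799 : ∀ i, i < 88799 → P i := stepQ 88798 Q88798 (allL N88798 (tt N83990 F384181) (tt N88706 F384182) (tt N78412 F384178) (tt N105932 (iv3 F452405)) (tt N53044 (iv4 D191696)) (tt N65430 F384179) (tt N105931 F452404) (tt N78419 F384180))
theorem Q88800 : ∀ i, i < 88800 → P i := stepQ 88799 Q88799 (allL N88799 (tt N67265 F384185) (tt N67269 F384186) (tt N87670 F384184) (tt N104819 (iv3 F447447)) (tt N105931 (iv4 F452399)) (tt N112282 (iv5 F480339)) (tt N53044 (iv6 D191697)) (tt N105463 (iv7 F450357)))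
theorem Q88801 : ∀ i, i < 88801 → P i := stepQ 88800 Q88800 (allL N88800 (tt N86293 (iv1 F384193)) (tt N87673 F384192) (tt N53046 (iv2 D191698)) (tt N71135 F384187) (tt N83225 F384188) (tt N71131 F384189) (tt N54505 F384190) (tt N83223 F384191))
theorem Q88802 : ∀ i, i < 88802 → P i := stepQ 88801 Q88801 (allL N88801 (tt N107042 (iv1 F456753)) (tt N107041 (iv0 F456746)) (tt N87831 F384194) (tt N83299 F384195) (tt N53047 (iv4 D191699)) (tt N113312 (iv5 F484967)) (tt N83298 (iv6 F384197)) (tt N84096 F384196))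
theorem Q88803 : ∀ i, i < 88803 → P i := stepQ 88802 Q88802 (allL N88802 (tt N112512 (iv1 F481444)) (tt N105409 (iv0 F450121)) (tt N87832 F384198) (tt N53048 F384199) (tt N83298 F384200) (tt N114394 (iv5 F489946)) (tt N53047 (iv6 D191700)) (tt N108341 (iv7 F462155)))
theorem Q88804 : ∀ i, i < 88804 → P i := stepQ 88803 Q88803 (allL N88803 (tt N84095 (iv1 F384204)) (tt N53048 (iv0 D191701)) (tt N84094 (iv2 F384201)) (tt N70064 F384202) (tt N103364 (iv4 F441293)) (tt N113949 (iv5 F487919)) (tt N90420 F389586) (tt N70057 F384203))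
theorem Q88805 : ∀ i, i < 88805 → P i := stepQ 88804 Q88804 (allL N88804 (tt N70057 (iv1 F384208)) (tt N84094 F384209) (tt N84095 F384205) (tt N108341 (iv3 F462153)) (tt N60652 F384206) (tt N114395 (iv5 F489948)) (tt N60651 F384207) (tt N53048 (iv7 D191702)))
theorem Q88806 : ∀ i, i < 88806 → P i := stepQ 88805 Q88805 (allL N88805 (tt N116290 D219549) (tt N113168 (iv0 F484305)) (tt N110089 (iv2 F469938)) (tt N82644 F384210) (tt N116174 (iv4 F498870)) (tt N53049 (iv5 D191703)) (tt N110088 (iv6 F469936)) (tt N113363 (iv7 F485184)))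
theorem Q88807 : ∀ i, i < 88807 → P i := stepQ 88806 Q88806 (allL N88806 (tt N114498 (iv1 F490476)) (tt N84887 F384214) (tt N85505 F384211) (tt N85528 F384212) (tt N85436 F384213) (tt N53050 (iv5 D191704)) (tt N92596 (iv6 F397553)) (tt N113870 (iv7 F487553)))
theorem Q88808 : ∀ i, i < 88808 → P i := stepQ 88807 Q88807 (allL N88807 (tt N86532 F384215) (tt N86534 F384216) (tt N105839 (iv2 F451966)) (tt N108780 F463897) (tt N53051 (iv4 D191705)) (tt N105836 (iv5 F451951)) (tt N91216 (iv6 F429307)) (tt N105835 F451947))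
theorem Q88809 : ∀ i, i < 88809 → P i := stepQ 88808 Q88808 (allL N88808 (tt N109752 (iv1 F468451)) (tt N83820 (iv0 F447995)) (tt N109700 (iv2 F468178)) (tt N87598 F384217) (tt N91216 F429306) (tt N109372 (iv5 F466631)) (tt N53051 (iv6 D191706)) (tt N109753 (iv7 F468454)))
theorem Q88810 : ∀ i, i < 88810 → P i := stepQ 88809 Q88809 (allL N88809 (tt N84887 F384220) (tt N114498 (iv0 F490475)) (tt N113870 (iv2 F487550)) (tt N84863 F384218) (tt N85437 F384221) (tt N53053 (iv5 D191707)) (tt N116291 D219550) (tt N85505 F384219))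
theorem Q88811 : ∀ i, i < 88811 → P i := stepQ 88810 Q88810 (allL N88810 (tt N114027 F488265) (tt N86469 F384226) (tt N113871 (iv2 F487556)) (tt N54528 F384222) (tt N53055 F384223) (tt N70972 (iv5 F384225)) (tt N53053 (iv6 D191708)) (tt N71856 F384224))
theorem Q88812 : ∀ i, i < 88812 → P i := stepQ 88811 Q88811 (allL N88811 (tt N104215 F444747) (tt N100300 (iv0 F428329)) (tt N105903 (iv2 F452271)) (tt N109754 (iv3 F468457)) (tt N104213 (iv4 F444728)) (tt N91034 (iv5 F391682)) (tt N53054 (iv6 D191709)) (tt N105901 (iv7 F452263)))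
theorem Q88813 : ∀ i, i < 88813 → P i := stepQ 88812 Q88812 (allL N88812 (tt N76412 F384228) (tt N86529 F384229) (tt N97173 (iv2 F415749)) (tt N94046 (iv3 F402964)) (tt N53057 (iv4 D191710)) (tt N94045 (iv5 F402961)) (tt N76367 F384230) (tt N78283 F384227))
theorem Q88814 : ∀ i, i < 88814 → P i := stepQ 88813 Q88813 (allL N88813 (tt N83751 F399770) (tt N98359 F430457) (tt N109755 (iv2 F468463)) (tt N113768 (iv3 F487030)) (tt N76367 F384231) (tt N115037 (iv5 F493154)) (tt N53057 (iv6 D191711)) (tt N76366 F384232))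
theorem Q88815 : ∀ i, i < 88815 → P i := stepQ 88814 Q88814 (allL N88814 (tt N56647 F384235) (tt N97195 F415839) (tt N97194 F415832) (tt N53058 (iv3 D191712)) (tt N53061 F384233) (tt N116292 D219551) (tt N87599 F384234) (tt N97193 F415828))
theorem Q88816 : ∀ i, i < 88816 → P i := stepQ 88815 Q88815 (allL N88815 (tt N105772 (iv1 F451646)) (tt N105764 (iv0 F451591)) (tt N105769 F451623) (tt N116292 (iv3 F499404)) (tt N105081 (iv4 F448696)) (tt N53058 (iv5 D191713)) (tt N106935 (iv6 F456344)) (tt N105770 (iv7 F451628)))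
theorem Q88817 : ∀ i, i < 88817 → P i := stepQ 88816 Q88816 (allL N88816 (tt N83755 F387439) (tt N113593 (iv0 F486200)) (tt N68126 F384236) (tt N63820 F384237) (tt N111729 (iv4 F477703)) (tt N70467 F384238) (tt N53059 (iv6 D191714)) (tt N105783 (iv7 F451698)))
theorem Q88818 : ∀ i, i < 88818 → P i := stepQ 88817 Q88817 (allL N88817 (tt N87156 F384242) (tt N87618 F384243) (tt N87617 (iv2 F384254)) (tt N53060 (iv3 D191715)) (tt N87599 F384239) (tt N104419 (iv5 F445673)) (tt N53061 F384240) (tt N87616 F384241))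
theorem Q88819 : ∀ i, i < 88819 → P i := stepQ 88818 Q88818 (allL N88818 (tt N86792 F384245) (tt N86796 F384246) (tt N103226 (iv2 F440665)) (tt N104419 (iv3 F445677)) (tt N115188 (iv4 F493930)) (tt N53060 (iv5 D191716)) (tt N81566 F384244) (tt N109764 (iv7 F468505)))
theorem Q88820 : ∀ i, i < 88820 → P i := stepQ 88819 Q88819 (allL N88819 (tt N111069 (iv1 F474515)) (tt N53061 (iv0 D191717)) (tt N111062 (iv2 F474473)) (tt N115279 (iv3 F494347)) (tt N86585 F384247) (tt N80060 (iv5 F384248)) (tt N92801 F398292) (tt N104877 (iv7 F447764)))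
theorem Q88821 : ∀ i, i < 88821 → P i := stepQ 88820 Q88820 (allL N88820 (tt N53061 (iv1 D191718)) (tt N111069 F474516) (tt N104877 (iv2 F447761)) (tt N82128 F384251) (tt N114072 (iv4 F488447)) (tt N80061 F384249) (tt N68097 (iv6 F384250)) (tt N111062 (iv7 F474475)))
theorem Q88822 : ∀ i, i < 88822 → P i := stepQ 88821 Q88821 (allL N88821 (tt N111062 (iv1 F474478)) (tt N104877 (iv0 F447765)) (tt N53061 (iv2 D191719)) (tt N104193 F444629) (tt N97194 (iv4 F415834)) (tt N81564 F384252) (tt N87617 F384253) (tt N111069 (iv7 F474514)))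
theorem Q88823 : ∀ i, i < 88823 → P i := stepQ 88822 Q88822 (allL N88822 (tt N77025 (iv1 F384260)) (tt N63482 F384261) (tt N53895 F384256) (tt N76521 F384257) (tt N53068 F384258) (tt N101867 (iv5 F434738)) (tt N53067 (iv6 D191720)) (tt N77024 F384259))
theorem Q88824 : ∀ i, i < 88824 → P i := stepQ 88823 Q88823 (allL N88823 (tt N110060 (iv1 F469788)) (tt N100963 F443307) (tt N82826 F384262) (tt N53074 F384263) (tt N116293 D219552) (tt N53068 (iv5 D191721)) (tt N53071 F384264) (tt N110058 (iv7 F469780)))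
theorem Q88825 : ∀ i, i < 88825 → P i := stepQ 88824 Q88824 (allL N88824 (tt N82717 F384267) (tt N54543 F384268) (tt N82828 F384265) (tt N113725 (iv3 F486854)) (tt N84422 F384269) (tt N53069 (iv5 D191722)) (tt N112371 (iv6 F480778)) (tt N82831 F384266))
theorem Q88826 : ∀ i, i < 88826 → P i := stepQ 88825 Q88825 (allL N88825 (tt N54543 F384272) (tt N82717 F384273) (tt N82831 F384270) (tt N110094 (iv3 F469957)) (tt N84423 F384274) (tt N53070 (iv5 D191723)) (tt N116294 D219553) (tt N82828 F384271))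
theorem Q88827 : ∀ i, i < 88827 → P i := stepQ 88826 Q88826 (allL N88826 (tt N82707 (iv1 F384278)) (tt N53071 (iv0 D191724)) (tt N82833 (iv2 F384276)) (tt N113727 F486866) (tt N113827 (iv4 F487317)) (tt N83501 F384275) (tt N114398 (iv6 F489957)) (tt N82834 (iv7 F384277)))
theorem Q88828 : ∀ i, i < 88828 → P i := stepQ 88827 Q88827 (allL N88827 (tt N53071 (iv1 D191725)) (tt N82707 F384279) (tt N82834 (iv2 F384282)) (tt N116095 (iv3 F498431)) (tt N113828 (iv4 F487324)) (tt N83500 F384281) (tt N112987 F483442) (tt N82833 F384280))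
theorem Q88829 : ∀ i, i < 88829 → P i := stepQ 88828 Q88828 (allL N88828 (tt N84302 F384284) (tt N89249 (iv0 F385784)) (tt N82835 F384283) (tt N105812 (iv3 F451838)) (tt N53071 (iv4 D191726)) (tt N89201 (iv5 F385558)) (tt N116293 (iv6 F499411)) (tt N84170 F384285))
theorem Q88830 : ∀ i, i < 88830 → P i := stepQ 88829 Q88829 (allL N88829 (tt N82834 (iv1 F384290)) (tt N82833 F384291) (tt N82707 F384286) (tt N53078 F384287) (tt N84170 F384288) (tt N53072 F384289) (tt N84169 F384292) (tt N53071 (iv7 D191727)))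
theorem Q88831 : ∀ i, i < 88831 → P i := stepQ 88830 Q88830 (allL N88830 (tt N110093 (iv1 F469948)) (tt N110092 F469947) (tt N89661 (iv2 F387137)) (tt N111353 (iv3 F475967)) (tt N112883 (iv4 F483132)) (tt N53073 (iv5 D191728)) (tt N100368 (iv6 F428628)) (tt N110088 (iv7 F469937)))
theorem Q88832 : ∀ i, i < 88832 → P i := stepQ 88831 Q88831 (allL N88831 (tt N114057 (iv1 F488386)) (tt N114056 F488385) (tt N113612 (iv2 F486303)) (tt N73276 (iv3 F449433)) (tt N53075 (iv4 D191729)) (tt N73273 F449432) (tt N99395 (iv6 F449434)) (tt N113774 (iv7 F487046)))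
theorem Q88833 : ∀ i, i < 88833 → P i := stepQ 88832 Q88832 (allL N88832 (tt N116295 D219554) (tt N116296 D219555) (tt N113613 (iv2 F486306)) (tt N100855 (iv3 F430791)) (tt N99395 F449435) (tt N114032 (iv5 F488292)) (tt N53075 (iv6 D191730)) (tt N116297 D219556))
theorem Q88834 : ∀ i, i < 88834 → P i := stepQ 88833 Q88833 (allL N88833 (tt N106380 F454284) (tt N116174 F498873) (tt N85441 F384293) (tt N116180 F498888) (tt N53076 (iv4 D191731)) (tt N111280 (iv5 F475606)) (tt N114530 (iv6 F490626)) (tt N113776 (iv7 F487054)))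
theorem Q88835 : ∀ i, i < 88835 → P i := stepQ 88834 Q88834 (allL N88834 (tt N116298 D219557) (tt N114743 (iv0 F491619)) (tt N85440 F384294) (tt N100859 (iv3 F430802)) (tt N114530 (iv4 F490622)) (tt N53727 F384295) (tt N53076 (iv6 D191732)) (tt N112770 (iv7 F482581)))
theorem Q88836 : ∀ i, i < 88836 → P i := stepQ 88835 Q88835 (allL N88835 (tt N111284 F475628) (tt N53077 (iv0 D191733)) (tt N113777 F487056) (tt N110029 F469634) (tt N111290 (iv4 F475660)) (tt N111295 (iv5 F475682)) (tt N116299 D219558) (tt N112955 (iv7 F483375)))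
theorem Q88837 : ∀ i, i < 88837 → P i := stepQ 88836 Q88836 (allL N88836 (tt N53077 (iv1 D191734)) (tt N111284 F475627) (tt N112955 (iv2 F483372)) (tt N84300 F471039) (tt N111296 (iv4 F475683)) (tt N111289 (iv5 F475656)) (tt N109762 (iv6 F471038)) (tt N113777 (iv7 F487058)))
theorem Q88838 : ∀ i, i < 88838 → P i := stepQ 88837 Q88837 (allL N88837 (tt N105808 F451826) (tt N105818 (iv0 F451868)) (tt N106508 F454707) (tt N53077 (iv3 D191735)) (tt N105812 F451842) (tt N105813 (iv5 F451846)) (tt N88110 F384296) (tt N106509 (iv7 F454709)))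
theorem Q88839 : ∀ i, i < 88839 → P i := stepQ 88838 Q88838 (allL N88838 (tt N110178 F470291) (tt N111282 F475617) (tt N89840 (iv2 F387697)) (tt N105813 F451847) (tt N111275 (iv4 F475582)) (tt N53077 (iv5 D191736)) (tt N84852 F384297) (tt N111274 (iv7 F475579)))
theorem Q88840 : ∀ i, i < 88840 → P i := stepQ 88839 Q88839 (allL N88839 (tt N112955 F483376) (tt N113777 F487057) (tt N111284 (iv2 F475624)) (tt N106509 F454712) (tt N53078 F384298) (tt N111274 (iv5 F475576)) (tt N107570 F458787) (tt N53077 (iv7 D191737)))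
theorem Q88841 : ∀ i, i < 88841 → P i := stepQ 88840 Q88840 (allL N88840 (tt N73941 (iv1 F384302)) (tt N73937 (iv0 F384301)) (tt N109552 (iv2 F467477)) (tt N84169 F384299) (tt N107570 (iv4 F458786)) (tt N80099 F384300) (tt N53078 (iv6 D191738)) (tt N92600 (iv7 F397580)))
theorem Q88842 : ∀ i, i < 88842 → P i := stepQ 88841 Q88841 (allL N88841 (tt N105992 (iv1 F452658)) (tt N106413 F454337) (tt N83102 F384303) (tt N53079 (iv3 D191739)) (tt N59442 F384304) (tt N103419 (iv5 F441544)) (tt N55351 F384305) (tt N106299 (iv7 F453942)))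
theorem Q88843 : ∀ i, i < 88843 → P i := stepQ 88842 Q88842 (allL N88842 (tt N105078 F448682) (tt N105082 F448707) (tt N53110 F384306) (tt N103419 F441547) (tt N105770 (iv4 F451629)) (tt N53079 (iv5 D191740)) (tt N70373 F384307) (tt N105081 (iv7 F448700)))
theorem Q88844 : ∀ i, i < 88844 → P i := stepQ 88843 Q88843 (allL N88843 (tt N99457 (iv1 F424674)) (tt N53081 (iv0 D191741)) (tt N77314 (iv2 F384313)) (tt N64633 F384315) (tt N77249 (iv4 F384317)) (tt N107938 (iv5 F460373)) (tt N116300 D219559) (tt N64649 (iv7 F384314)))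
theorem Q88845 : ∀ i, i < 88845 → P i := stepQ 88844 Q88844 (allL N88844 (tt N53081 (iv1 D191742)) (tt N99457 (iv0 F424673)) (tt N64649 F384311) (tt N53340 (iv3 F384308)) (tt N77250 (iv4 F384309)) (tt N107939 (iv5 F460380)) (tt N53338 F384310) (tt N77314 F384312))
theorem Q88846 : ∀ i, i < 88846 → P i := stepQ 88845 Q88845 (allL N88845 (tt N64649 (iv1 F384325)) (tt N77314 F384326) (tt N99457 (iv2 F424668)) (tt N64461 F384321) (tt N53083 F384322) (tt N76204 F384323) (tt N80545 F384324) (tt N53081 (iv7 D191743)))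
theorem Q88847 : ∀ i, i < 88847 → P i := stepQ 88846 Q88846 (allL N88846 (tt N89997 (iv1 F388246)) (tt N89996 F388251) (tt N89998 (iv2 F388247)) (tt N90199 (iv3 F388863)) (tt N53082 (iv4 D191744)) (tt N99459 (iv5 F424680)) (tt N53683 F384327) (tt N89123 (iv7 F385256)))
theorem Q88848 : ∀ i, i < 88848 → P i := stepQ 88847 Q88847 (allL N88847 (tt N64379 (iv1 F384329)) (tt N101630 F433622) (tt N89995 (iv2 F388239)) (tt N110403 (iv3 F471415)) (tt N89123 (iv4 F385255)) (tt N53083 F384328) (tt N89122 F385252) (tt N53082 (iv7 D191745)))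
theorem Q88849 : ∀ i, i < 88849 → P i := stepQ 88848 Q88848 (allL N88848 (tt N94143 (iv1 F403409)) (tt N53328 (iv0 F384334)) (tt N54274 F384330) (tt N64291 F384331) (tt N53084 (iv4 D191746)) (tt N99421 (iv5 F424494)) (tt N53088 F384332) (tt N70512 F384333))
theorem Q88850 : ∀ i, i < 88850 → P i := stepQ 88849 Q88849 (allL N88849 (tt N53691 F384338) (tt N53715 (iv0 F384339)) (tt N53713 F384335) (tt N101765 (iv3 F434247)) (tt N53704 F384337) (tt N53084 (iv5 D191747)) (tt N116301 D219560) (tt N53712 F384336))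
theorem Q88851 : ∀ i, i < 88851 → P i := stepQ 88850 Q88850 (allL N88850 (tt N89161 F385400) (tt N116302 D219561) (tt N101091 (iv2 F431630)) (tt N90431 F389629) (tt N53085 (iv4 D191748)) (tt N53709 F384340) (tt N99546 F425090) (tt N90437 (iv7 F389649)))
theorem Q88852 : ∀ i, i < 88852 → P i := stepQ 88851 Q88851 (allL N88851 (tt N88867 (iv1 F384392)) (tt N81874 (iv0 F384343)) (tt N82296 F384341) (tt N89043 F384940) (tt N90437 (iv4 F389650)) (tt N53086 F384342) (tt N107979 F460574) (tt N53085 (iv7 D191749)))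
theorem Q88853 : ∀ i, i < 88853 → P i := stepQ 88852 Q88852 (allL N88852 (tt N80905 F384350) (tt N63533 F384349) (tt N81048 F384344) (tt N64480 F384345) (tt N53087 (iv4 D191750)) (tt N82502 F384348) (tt N70475 F384346) (tt N81049 F384347))
theorem Q88854 : ∀ i, i < 88854 → P i := stepQ 88853 Q88853 (allL N88853 (tt N76946 F384353) (tt N94151 F403449) (tt N82870 F384351) (tt N53089 F384352) (tt N106351 (iv4 F454102)) (tt N53087 (iv5 D191751)) (tt N116303 D219562) (tt N106364 (iv7 F454155)))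
theorem Q88855 : ∀ i, i < 88855 → P i := stepQ 88854 Q88854 (allL N88854 (tt N88859 (iv1 F384360)) (tt N88855 F385280) (tt N107658 (iv2 F459111)) (tt N64481 F384354) (tt N107651 (iv4 F459082)) (tt N53088 (iv5 D191752)) (tt N99420 (iv6 F424491)) (tt N112028 (iv7 F479146)))
theorem Q88856 : ∀ i, i < 88856 → P i := stepQ 88855 Q88855 (allL N88855 (tt N88854 (iv1 F385280)) (tt N88857 (iv0 F384356)) (tt N101360 (iv2 F432775)) (tt N89141 (iv3 F385327)) (tt N53089 (iv4 D191753)) (tt N89130 (iv5 F385283)) (tt N72752 F388431) (tt N89129 F385279))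
theorem Q88857 : ∀ i, i < 88857 → P i := stepQ 88856 Q88856 (allL N88856 (tt N95242 (iv1 F407559)) (tt N99416 (iv0 F424473)) (tt N105642 F451074) (tt N116303 (iv3 F499458)) (tt N72752 (iv4 F388433)) (tt N116301 (iv5 F499448)) (tt N53089 (iv6 D191754)) (tt N105643 (iv7 F451076)))
theorem Q88858 : ∀ i, i < 88858 → P i := stepQ 88857 Q88857 (allL N88857 (tt N88855 F384356) (tt N88859 (iv0 F384724)) (tt N112028 (iv2 F479143)) (tt N54006 F384355) (tt N107659 (iv4 F459120)) (tt N53090 (iv5 D191755)) (tt N116304 D219563) (tt N107658 F459117))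
theorem Q88859 : ∀ i, i < 88859 → P i := stepQ 88858 Q88858 (allL N88858 (tt N109758 F468480) (tt N116300 (iv0 F499444)) (tt N112538 (iv2 F481567)) (tt N82319 F384357) (tt N53092 F384358) (tt N112888 F483148) (tt N53090 (iv6 D191756)) (tt N101779 (iv7 F434310)))
theorem Q88860 : ∀ i, i < 88860 → P i := stepQ 88859 Q88859 (allL N88859 (tt N88857 F384724) (tt N88854 F384360) (tt N89129 (iv2 F385275)) (tt N69566 F384361) (tt N53091 (iv4 D191757)) (tt N69565 F384359) (tt N85994 (iv6 F384362)) (tt N101360 (iv7 F432779)))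
theorem Q88861 : ∀ i, i < 88861 → P i := stepQ 88860 Q88860 (allL N88860 (tt N53724 (iv1 F384367)) (tt N53727 (iv0 F384366)) (tt N85438 F384363) (tt N82874 F384364) (tt N85994 F384365) (tt N116305 D219564) (tt N53091 (iv6 D191758)) (tt N85439 (iv7 F384368)))
theorem Q88862 : ∀ i, i < 88862 → P i := stepQ 88861 Q88861 (allL N88861 (tt N77046 (iv1 F384371)) (tt N64320 (iv0 F384370)) (tt N112539 (iv2 F481573)) (tt N77062 F384369) (tt N82615 F384372) (tt N53092 (iv5 D191759)) (tt N116305 (iv6 F499464)) (tt N101782 (iv7 F434320)))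
theorem Q88863 : ∀ i, i < 88863 → P i := stepQ 88862 Q88862 (allL N88862 (tt N81427 (iv1 F384381)) (tt N81194 (iv0 F384380)) (tt N82875 F384378) (tt N53093 (iv3 D191760)) (tt N106365 (iv4 F454159)) (tt N76333 F384379) (tt N116306 D219565) (tt N106376 (iv7 F454207)))
theorem Q88864 : ∀ i, i < 88864 → P i := stepQ 88863 Q88863 (allL N88863 (tt N113307 (iv1 F484949)) (tt N90055 (iv0 F388430)) (tt N104137 (iv2 F444372)) (tt N90119 F388601) (tt N53093 (iv4 D191761)) (tt N105004 (iv5 F448323)) (tt N109939 F469309) (tt N106378 (iv7 F454217)))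
theorem Q88865 : ∀ i, i < 88865 → P i := stepQ 88864 Q88864 (allL N88864 (tt N107455 F458402) (tt N116307 D219566) (tt N112540 (iv2 F481578)) (tt N116306 (iv3 F499470)) (tt N109939 (iv4 F469311)) (tt N112563 (iv5 F481659)) (tt N53093 (iv6 D191762)) (tt N116308 D219567))
theorem Q88866 : ∀ i, i < 88866 → P i := stepQ 88865 Q88865 (allL N88865 (tt N90055 (iv1 F388429)) (tt N113307 (iv0 F484948)) (tt N106378 (iv2 F454213)) (tt N64631 F384383) (tt N53094 (iv4 D191763)) (tt N64630 F384382) (tt N75983 (iv6 F384384)) (tt N104137 (iv7 F444375)))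
theorem Q88867 : ∀ i, i < 88867 → P i := stepQ 88866 Q88866 (allL N88866 (tt N109611 (iv1 F467733)) (tt N72169 (iv0 F386510)) (tt N109614 F467751) (tt N82879 F384385) (tt N75983 F384386) (tt N62408 F384387) (tt N53094 (iv6 D191764)) (tt N109613 F467745))
theorem Q88868 : ∀ i, i < 88868 → P i := stepQ 88867 Q88867 (allL N88867 (tt N64531 (iv1 F384391)) (tt N88851 F384392) (tt N53710 F384388) (tt N109794 (iv3 F468641)) (tt N53096 F384389) (tt N53690 F384390) (tt N105578 (iv6 F450822)) (tt N53095 (iv7 D191765)))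
theorem Q88869 : ∀ i, i < 88869 → P i := stepQ 88868 Q88868 (allL N88868 (tt N116309 D219568) (tt N116310 D219569) (tt N82891 F384393) (tt N53100 F384394) (tt N114714 (iv4 F491487)) (tt N109612 (iv5 F467737)) (tt N53097 (iv6 D191766)) (tt N116311 D219570))
theorem Q88870 : ∀ i, i < 88870 → P i := stepQ 88869 Q88869 (allL N88869 (tt N53098 (iv1 D191767)) (tt N55071 F384395) (tt N82893 F384400) (tt N113124 (iv3 F484081)) (tt N88274 (iv4 F384398)) (tt N83198 F384397) (tt N82993 (iv6 F384399)) (tt N82892 F384396))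
theorem Q88871 : ∀ i, i < 88871 → P i := stepQ 88870 Q88870 (allL N88870 (tt N53101 (iv1 F384404)) (tt N53099 (iv0 D191768)) (tt N114663 F491268) (tt N105223 F449279) (tt N86320 F384403) (tt N116312 D219571) (tt N109816 (iv6 F468761)) (tt N113311 (iv7 F484962)))
theorem Q88872 : ∀ i, i < 88872 → P i := stepQ 88871 Q88871 (allL N88871 (tt N53099 (iv1 D191769)) (tt N53101 F384405) (tt N113311 (iv2 F484959)) (tt N90040 (iv3 F388388)) (tt N89705 (iv4 F387260)) (tt N113863 (iv5 F487517)) (tt N89135 F387261) (tt N114663 (iv7 F491266)))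
theorem Q88873 : ∀ i, i < 88873 → P i := stepQ 88872 Q88872 (allL N88872 (tt N90146 F388684) (tt N88786 F388685) (tt N90144 F388677) (tt N53099 (iv3 D191770)) (tt N107011 F456641) (tt N107042 (iv5 F456751)) (tt N111288 (iv6 F475651)) (tt N90145 (iv7 F388676)))
theorem Q88874 : ∀ i, i < 88874 → P i := stepQ 88873 Q88873 (allL N88873 (tt N105219 (iv1 F449266)) (tt N105341 F449784) (tt N105768 (iv2 F451615)) (tt N107042 (iv3 F456749)) (tt N105764 (iv4 F451593)) (tt N53099 (iv5 D191771)) (tt N105209 F451596) (tt N106588 (iv7 F454969)))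
theorem Q88875 : ∀ i, i < 88875 → P i := stepQ 88874 Q88874 (allL N88874 (tt N73350 (iv1 F384407)) (tt N106246 F453746) (tt N100015 (iv2 F427201)) (tt N111288 F475653) (tt N53100 F384406) (tt N100014 F427200) (tt N53099 (iv6 D191772)) (tt N108420 (iv7 F462493)))
theorem Q88876 : ∀ i, i < 88876 → P i := stepQ 88875 Q88875 (allL N88875 (tt N53100 (iv1 D191773)) (tt N99515 F424948) (tt N80397 (iv2 F384409)) (tt N53144 F384410) (tt N107483 (iv4 F458479)) (tt N80391 F384408) (tt N105425 (iv6 F450206)) (tt N99510 (iv7 F424929)))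
theorem Q88877 : ∀ i, i < 88877 → P i := stepQ 88876 Q88876 (allL N88876 (tt N80397 (iv1 F384412)) (tt N99510 F424932) (tt N99515 F424947) (tt N116311 (iv3 F499499)) (tt N108420 (iv4 F462492)) (tt N72168 F384411) (tt N112759 F482521) (tt N53100 (iv7 D191774)))
theorem Q88878 : ∀ i, i < 88878 → P i := stepQ 88877 Q88877 (allL N88877 (tt N100331 F428450) (tt N116313 D219572) (tt N116314 D219573) (tt N53101 (iv3 D191775)) (tt N82899 F384413) (tt N105228 F449304) (tt N104202 (iv6 F444674)) (tt N100016 F427211))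
theorem Q88879 : ∀ i, i < 88879 → P i := stepQ 88878 Q88878 (allL N88878 (tt N105341 F449785) (tt N105219 (iv0 F449265)) (tt N106588 F454967) (tt N105228 (iv3 F449305)) (tt N105772 (iv4 F451642)) (tt N53101 (iv5 D191776)) (tt N116315 D219574) (tt N105768 F451620))
theorem Q88880 : ∀ i, i < 88880 → P i := stepQ 88879 Q88879 (allL N88879 (tt N116316 D219575) (tt N116317 D219576) (tt N114664 (iv2 F491269)) (tt N104202 F444673) (tt N53102 F384414) (tt N116318 D219577) (tt N53101 (iv6 D191777)) (tt N109405 (iv7 F466797)))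
theorem Q88881 : ∀ i, i < 88881 → P i := stepQ 88880 Q88880 (allL N88880 (tt N112758 F482518) (tt N105648 (iv0 F451108)) (tt N112759 (iv2 F482522)) (tt N82904 F384415) (tt N109405 (iv4 F466796)) (tt N91062 (iv5 F391804)) (tt N99515 F424950) (tt N53102 (iv7 D191779)))
theorem Q88882 : ∀ i, i < 88882 → P i := stepQ 88881 Q88881 (allL N88881 (tt N99376 F426183) (tt N107317 (iv0 F457943)) (tt N82906 F384416) (tt N53105 F384417) (tt N107401 (iv4 F458223)) (tt N99446 (iv5 F424617)) (tt N53103 (iv6 D191780)) (tt N107322 (iv7 F457960)))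
theorem Q88883 : ∀ i, i < 88883 → P i := stepQ 88882 Q88882 (allL N88882 (tt N53106 (iv1 F384419)) (tt N53104 (iv0 D191781)) (tt N106196 (iv2 F453563)) (tt N105221 (iv3 F449263)) (tt N84894 F384418) (tt N105219 F449264) (tt N106194 F453558) (tt N114666 (iv7 F491282)))
theorem Q88884 : ∀ i, i < 88884 → P i := stepQ 88883 Q88883 (allL N88883 (tt N53104 (iv1 D191782)) (tt N53106 F384420) (tt N114666 F491280) (tt N90059 (iv3 F388447)) (tt N86776 F384421) (tt N105341 (iv5 F449781)) (tt N90055 F388432) (tt N106196 F453569))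
theorem Q88885 : ∀ i, i < 88885 → P i := stepQ 88884 Q88884 (allL N88884 (tt N107253 F457657) (tt N113312 (iv0 F484969)) (tt N106386 (iv2 F454244)) (tt N53104 (iv3 D191783)) (tt N106369 (iv4 F454178)) (tt N88788 (iv5 F454181)) (tt N107402 (iv6 F458226)) (tt N106387 (iv7 F454249)))
theorem Q88886 : ∀ i, i < 88886 → P i := stepQ 88885 Q88885 (allL N88885 (tt N116319 D219578) (tt N116320 D219579) (tt N114667 (iv2 F491284)) (tt N88788 F454182) (tt N114499 (iv4 F490479)) (tt N53104 (iv5 D191784)) (tt N106858 (iv6 F456028)) (tt N107005 (iv7 F456621)))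
theorem Q88887 : ∀ i, i < 88887 → P i := stepQ 88886 Q88886 (allL N88886 (tt N99511 (iv1 F424936)) (tt N90071 F424487) (tt N107485 (iv2 F458484)) (tt N107402 (iv3 F458225)) (tt N53105 F384422) (tt N99419 (iv5 F424486)) (tt N53104 (iv6 D191785)) (tt N73875 F384423))
theorem Q88888 : ∀ i, i < 88888 → P i := stepQ 88887 Q88887 (allL N88887 (tt N99448 (iv1 F424632)) (tt N53105 (iv0 D191786)) (tt N85582 F384429) (tt N69992 (iv3 F384427)) (tt N114484 (iv4 F490421)) (tt N69991 F384424) (tt N72169 F384425) (tt N73880 (iv7 F384428)))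
theorem Q88889 : ∀ i, i < 88889 → P i := stepQ 88888 Q88888 (allL N88888 (tt N53105 (iv1 D191787)) (tt N99448 (iv0 F424631)) (tt N73880 (iv2 F384432)) (tt N53160 (iv3 F384433)) (tt N53720 (iv4 F384434)) (tt N72767 F384431) (tt N53719 F384435) (tt N85582 F384430))
theorem Q88890 : ∀ i, i < 88890 → P i := stepQ 88889 Q88889 (allL N88889 (tt N64846 F384438) (tt N104144 F444403) (tt N104142 (iv2 F444394)) (tt N53106 (iv3 D191788)) (tt N82912 F384436) (tt N116321 D219580) (tt N72506 F384437) (tt N104141 F444388))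
theorem Q88891 : ∀ i, i < 88891 → P i := stepQ 88890 Q88890 (allL N88890 (tt N116320 (iv1 F499538)) (tt N116319 F499533) (tt N107005 (iv2 F456617)) (tt N116321 (iv3 F499546)) (tt N79085 F384440) (tt N53106 (iv5 D191789)) (tt N79084 F384439) (tt N114667 (iv7 F491288)))
theorem Q88892 : ∀ i, i < 88892 → P i := stepQ 88891 Q88891 (allL N88891 (tt N73260 (iv1 F384444)) (tt N73257 F384445) (tt N73874 F384441) (tt N82916 F384442) (tt N72760 F384443) (tt N114484 (iv5 F490422)) (tt N99448 F424633) (tt N53107 (iv7 D191790)))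
theorem Q88893 : ∀ i, i < 88893 → P i := stepQ 88892 Q88892 (allL N88892 (tt N86528 (iv1 F384451)) (tt N85564 F384449) (tt N86301 F384446) (tt N86304 F384450) (tt N53108 (iv4 D191791)) (tt N83719 F384448) (tt N72815 (iv6 F384452)) (tt N73265 F384447))
theorem Q88894 : ∀ i, i < 88894 → P i := stepQ 88893 Q88893 (allL N88893 (tt N82983 F384455) (tt N85837 F384456) (tt N113782 (iv2 F487090)) (tt N57710 F384453) (tt N94045 (iv4 F402960)) (tt N53108 (iv5 D191792)) (tt N57709 (iv6 F384457)) (tt N73266 F384454))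
theorem Q88895 : ∀ i, i < 88895 → P i := stepQ 88894 Q88894 (allL N88894 (tt N114484 (iv1 F490425)) (tt N53720 (iv0 F384462)) (tt N114483 F490416) (tt N59959 F384458) (tt N72815 F384459) (tt N70413 F384460) (tt N53108 (iv6 D191793)) (tt N62407 F384461))
theorem Q88896 : ∀ i, i < 88896 → P i := stepQ 88895 Q88895 (allL N88895 (tt N53110 (iv1 D191794)) (tt N105081 F448701) (tt N105082 (iv2 F448702)) (tt N88678 (iv3 F384465)) (tt N105836 (iv4 F451950)) (tt N85437 F384464) (tt N88751 F384466) (tt N105078 (iv7 F448679)))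
theorem Q88897 : ∀ i, i < 88897 → P i := stepQ 88896 Q88896 (allL N88896 (tt N105764 F451592) (tt N105772 F451645) (tt N105770 (iv2 F451631)) (tt N91034 (iv3 F391681)) (tt N53110 (iv4 D191795)) (tt N109754 (iv5 F468459)) (tt N85973 F384473) (tt N105769 F451625))
theorem Q88898 : ∀ i, i < 88898 → P i := stepQ 88897 Q88897 (allL N88897 (tt N64598 F384469) (tt N70369 F384471) (tt N70373 F384467) (tt N112281 F480333) (tt N85973 (iv4 F384470)) (tt N53708 F384468) (tt N53110 (iv6 D191796)) (tt N70374 F384472))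
theorem Q88899 : ∀ i, i < 88899 → P i := stepQ 88898 Q88898 (allL N88898 (tt N105732 (iv1 F451462)) (tt N53132 (iv0 F384477)) (tt N101842 (iv2 F434610)) (tt N82635 F384474) (tt N68906 F384475) (tt N53111 (iv5 D191797)) (tt N105600 (iv6 F450925)) (tt N82630 F384476))
theorem Q88900 : ∀ i, i < 88900 → P i := stepQ 88899 Q88899 (allL N88899 (tt N101844 F434628) (tt N103842 (iv0 F443054)) (tt N53113 F384478) (tt N70540 F384479) (tt N69274 F384480) (tt N53112 (iv5 D191798)) (tt N116322 D219581) (tt N109493 (iv7 F467258)))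
theorem Q88901 : ∀ i, i < 88901 → P i := stepQ 88900 Q88900 (allL N88900 (tt N109493 (iv1 F467260)) (tt N53113 (iv0 D191799)) (tt N101844 (iv2 F434622)) (tt N76010 (iv3 F384483)) (tt N67709 F384482) (tt N76009 F384481) (tt N75025 (iv6 F384484)) (tt N103842 (iv7 F443053)))
theorem Q88902 : ∀ i, i < 88902 → P i := stepQ 88901 Q88901 (allL N88901 (tt N68964 F384488) (tt N68970 F384487) (tt N69274 F384485) (tt N92280 (iv3 F396562)) (tt N53113 (iv4 D191800)) (tt N67896 F384486) (tt N109164 (iv6 F465641)) (tt N103746 (iv7 F442652)))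
theorem Q88903 : ∀ i, i < 88903 → P i := stepQ 88902 Q88902 (allL N88902 (tt N116323 D219582) (tt N105618 (iv0 F454360)) (tt N116322 (iv2 F499551)) (tt N53117 F384489) (tt N109164 (iv4 F465642)) (tt N104229 (iv5 F444816)) (tt N53113 (iv6 D191801)) (tt N115138 (iv7 F493673)))
theorem Q88904 : ∀ i, i < 88904 → P i := stepQ 88903 Q88903 (allL N88903 (tt N79371 F384494) (tt N103431 (iv0 F441604)) (tt N80717 F384490) (tt N60474 F384491) (tt N53114 (iv4 D191802)) (tt N103354 (iv5 F441247)) (tt N55592 F384492) (tt N80719 F384493))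
theorem Q88905 : ∀ i, i < 88905 → P i := stepQ 88904 Q88904 (allL N88904 (tt N85446 (iv1 F384496)) (tt N53117 (iv0 D191803)) (tt N89786 (iv2 F387558)) (tt N95234 F407531) (tt N86327 (iv4 F384497)) (tt N88982 F384646) (tt N53143 F384495) (tt N89785 (iv7 F387553)))
theorem Q88906 : ∀ i, i < 88906 → P i := stepQ 88905 Q88905 (allL N88905 (tt N53117 (iv1 D191804)) (tt N85446 F384498) (tt N89785 (iv2 F387550)) (tt N99416 (iv3 F424475)) (tt N90446 (iv4 F389675)) (tt N88981 (iv5 F384639)) (tt N90445 F389672) (tt N89786 (iv7 F387560)))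
theorem Q88907 : ∀ i, i < 88907 → P i := stepQ 88906 Q88906 (allL N88906 (tt N96680 (iv1 F413428)) (tt N113767 (iv0 F487026)) (tt N53763 F384499) (tt N104229 (iv3 F444815)) (tt N90129 (iv4 F388630)) (tt N53117 (iv5 D191805)) (tt N53118 F384500) (tt N115140 (iv7 F493682)))
theorem Q88908 : ∀ i, i < 88908 → P i := stepQ 88907 Q88907 (allL N88907 (tt N53135 F384502) (tt N76500 F384503) (tt N103592 (iv2 F442165)) (tt N81427 F384501) (tt N101404 (iv4 F432860)) (tt N53120 (iv5 D191806)) (tt N101400 (iv6 F432855)) (tt N105733 (iv7 F451468)))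
theorem Q88909 : ∀ i, i < 88909 → P i := stepQ 88908 Q88908 (allL N88908 (tt N101881 (iv1 F434795)) (tt N100005 (iv0 F427155)) (tt N53124 F384504) (tt N109494 (iv3 F467262)) (tt N80752 F384505) (tt N116324 D219583) (tt N53121 (iv6 D191807)) (tt N101882 (iv7 F434800)))
theorem Q88910 : ∀ i, i < 88910 → P i := stepQ 88909 Q88909 (allL N88909 (tt N116325 D219584) (tt N116326 D219585) (tt N109782 (iv2 F468587)) (tt N105511 F450522) (tt N53123 (iv4 D191808)) (tt N70389 F384506) (tt N110218 (iv6 F470480)) (tt N109784 (iv7 F468596)))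
theorem Q88911 : ∀ i, i < 88911 → P i := stepQ 88910 Q88910 (allL N88910 (tt N53124 (iv1 D191809)) (tt N101882 F434799) (tt N100005 F427157) (tt N81205 (iv3 F384508)) (tt N70515 (iv4 F384507)) (tt N89402 F386372) (tt N81203 F384509) (tt N101881 (iv7 F434793)))
theorem Q88912 : ∀ i, i < 88912 → P i := stepQ 88911 Q88911 (allL N88911 (tt N116327 D219586) (tt N112069 (iv0 F479344)) (tt N116324 (iv2 F499559)) (tt N53130 F384510) (tt N116328 D219587) (tt N53124 (iv5 D191810)) (tt N115132 (iv6 F493642)) (tt N112110 (iv7 F479527)))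
theorem Q88913 : ∀ i, i < 88913 → P i := stepQ 88912 Q88912 (allL N88912 (tt N104263 (iv1 F445010)) (tt N80772 F384514) (tt N69289 F384511) (tt N53126 F384512) (tt N104251 (iv4 F444938)) (tt N53125 (iv5 D191811)) (tt N96984 (iv6 F414926)) (tt N69263 F384513))
theorem Q88914 : ∀ i, i < 88914 → P i := stepQ 88913 Q88913 (allL N88913 (tt N77599 F384518) (tt N81525 F384519) (tt N69290 F384515) (tt N53127 F384516) (tt N69267 F384517) (tt N109914 F469192) (tt N53125 (iv6 D191812)) (tt N90517 (iv7 F389927)))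
theorem Q88915 : ∀ i, i < 88915 → P i := stepQ 88914 Q88914 (allL N88914 (tt N103431 (iv1 F441605)) (tt N79371 F384522) (tt N80719 F384520) (tt N103259 (iv3 F440839)) (tt N53126 (iv4 D191813)) (tt N103257 F440831) (tt N83566 (iv6 F384523)) (tt N80717 F384521))
theorem Q88916 : ∀ i, i < 88916 → P i := stepQ 88915 Q88915 (allL N88915 (tt N96977 F414889) (tt N70073 (iv0 F384526)) (tt N80033 F384524) (tt N96984 (iv3 F414924)) (tt N83566 F384525) (tt N116329 D219588) (tt N53126 (iv6 D191814)) (tt N96983 (iv7 F414921)))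
theorem Q88917 : ∀ i, i < 88917 → P i := stepQ 88916 Q88916 (allL N88916 (tt N80955 F384528) (tt N80952 F384530) (tt N80721 F384527) (tt N109914 F469191) (tt N56327 F384529) (tt N53127 (iv5 D191815)) (tt N116329 (iv6 F499585)) (tt N90522 (iv7 F389945)))
theorem Q88918 : ∀ i, i < 88918 → P i := stepQ 88917 Q88917 (allL N88917 (tt N105420 F462201) (tt N116330 D219589) (tt N116331 D219590) (tt N53128 (iv3 D191816)) (tt N105511 F450521) (tt N102581 F437776) (tt N84759 F384531) (tt N105592 (iv7 F450889)))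
theorem Q88919 : ∀ i, i < 88919 → P i := stepQ 88918 Q88918 (allL N88918 (tt N89965 (iv1 F388125)) (tt N89963 (iv0 F388117)) (tt N92667 (iv2 F397811)) (tt N116332 D219591) (tt N53130 (iv4 D191817)) (tt N92666 (iv5 F397809)) (tt N115134 (iv6 F493651)) (tt N113890 (iv7 F487651)))
theorem Q88920 : ∀ i, i < 88920 → P i := stepQ 88919 Q88919 (allL N88919 (tt N53541 (iv1 F384534)) (tt N53543 F384535) (tt N88558 F384532) (tt N112110 (iv3 F479526)) (tt N113890 (iv4 F487653)) (tt N53131 F384533) (tt N84436 F384536) (tt N53130 (iv7 D191818)))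
theorem Q88921 : ∀ i, i < 88921 → P i := stepQ 88920 Q88920 (allL N88920 (tt N101842 (iv1 F434616)) (tt N82630 F384538) (tt N53132 (iv2 D191820)) (tt N76500 F384537) (tt N104580 (iv4 F446384)) (tt N76499 (iv5 F384539)) (tt N116333 D219592) (tt N105732 (iv7 F451460)))
theorem Q88922 : ∀ i, i < 88922 → P i := stepQ 88921 Q88921 (allL N88921 (tt N67897 (iv1 F384541)) (tt N67899 F384540) (tt N104580 (iv2 F446382)) (tt N92283 F396569) (tt N53132 (iv4 D191821)) (tt N67741 (iv5 F384542)) (tt N78794 (iv6 F446388)) (tt N104582 (iv7 F446399)))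
theorem Q88923 : ∀ i, i < 88923 → P i := stepQ 88922 Q88922 (allL N88922 (tt N100531 (iv1 F429357)) (tt N89420 (iv0 F386433)) (tt N76499 F384544) (tt N53133 F384545) (tt N103057 (iv4 F439880)) (tt N53132 (iv5 D191822)) (tt N89456 (iv6 F386561)) (tt N88999 F384745))
theorem Q88924 : ∀ i, i < 88924 → P i := stepQ 88923 Q88923 (allL N88923 (tt N116334 D219593) (tt N116335 D219594) (tt N116333 (iv2 F499602)) (tt N53134 F384546) (tt N78794 F446389) (tt N83544 F384547) (tt N53132 (iv6 D191823)) (tt N116336 D219595))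
theorem Q88925 : ∀ i, i < 88925 → P i := stepQ 88924 Q88924 (allL N88924 (tt N113752 (iv1 F486965)) (tt N53134 (iv0 D191824)) (tt N113750 F486960) (tt N95700 (iv3 F409200)) (tt N85606 F387567) (tt N114893 (iv5 F492381)) (tt N53166 F387568) (tt N113751 (iv7 F486964)))
theorem Q88926 : ∀ i, i < 88926 → P i := stepQ 88925 Q88925 (allL N88925 (tt N53134 (iv1 D191825)) (tt N113752 F486957) (tt N113751 F486963) (tt N116307 F499479) (tt N114768 (iv4 F491755)) (tt N114894 (iv5 F492388)) (tt N90962 (iv6 F391391)) (tt N113750 F486962))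
theorem Q88927 : ∀ i, i < 88927 → P i := stepQ 88926 Q88926 (allL N88926 (tt N113751 (iv1 F486952)) (tt N113750 F486956) (tt N113752 (iv2 F486953)) (tt N116336 (iv3 F499614)) (tt N114671 (iv4 F491305)) (tt N54826 F384549) (tt N113754 (iv6 F486971)) (tt N53134 (iv7 D191826)))
theorem Q88928 : ∀ i, i < 88928 → P i := stepQ 88927 Q88927 (allL N88927 (tt N100836 (iv1 F430706)) (tt N112738 (iv0 F482451)) (tt N105627 (iv2 F451019)) (tt N105563 F450745) (tt N53135 (iv4 D191827)) (tt N105613 (iv5 F450978)) (tt N116337 D219596) (tt N105622 (iv7 F451001)))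
theorem Q88929 : ∀ i, i < 88929 → P i := stepQ 88928 Q88928 (allL N88928 (tt N116338 D219597) (tt N116339 D219598) (tt N105734 (iv2 F451470)) (tt N53136 F384550) (tt N116337 (iv4 F499617)) (tt N89429 (iv5 F386460)) (tt N53135 (iv6 D191828)) (tt N116340 D219599))
theorem Q88930 : ∀ i, i < 88930 → P i := stepQ 88929 Q88929 (allL N88929 (tt N113754 (iv1 F486973)) (tt N53136 (iv0 D191829)) (tt N89573 (iv2 F386788)) (tt N109611 (iv3 F467729)) (tt N85590 (iv4 F384857)) (tt N89024 F384855) (tt N114670 F491303) (tt N85584 (iv7 F384856)))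
theorem Q88931 : ∀ i, i < 88931 → P i := stepQ 88930 Q88930 (allL N88930 (tt N53136 (iv1 D191830)) (tt N113754 F486972) (tt N85584 F384552) (tt N59220 F384553) (tt N84906 F384555) (tt N59216 (iv5 F384551)) (tt N53159 F384554) (tt N89573 (iv7 F386789)))
theorem Q88932 : ∀ i, i < 88932 → P i := stepQ 88931 Q88931 (allL N88931 (tt N85584 (iv1 F384773)) (tt N89573 (iv0 F386790)) (tt N113754 (iv2 F486969)) (tt N116340 (iv3 F499626)) (tt N114675 (iv4 F491317)) (tt N89443 (iv5 F386527)) (tt N113752 (iv6 F486955)) (tt N53136 (iv7 D191831)))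
theorem Q88933 : ∀ i, i < 88933 → P i := stepQ 88932 Q88932 (allL N88932 (tt N113757 (iv1 F486980)) (tt N113756 F486979) (tt N53140 F384556) (tt N116341 D219600) (tt N53137 (iv4 D191832)) (tt N116342 D219601) (tt N104606 F446510) (tt N113534 (iv7 F485926)))
theorem Q88934 : ∀ i, i < 88934 → P i := stepQ 88933 Q88933 (allL N88933 (tt N116343 D219602) (tt N116344 D219603) (tt N53141 F384557) (tt N113645 (iv3 F486471)) (tt N104606 (iv4 F446507)) (tt N89558 (iv5 F386763)) (tt N53137 (iv6 D191833)) (tt N116345 D219604))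
theorem Q88935 : ∀ i, i < 88935 → P i := stepQ 88934 Q88934 (allL N88934 (tt N82847 (iv1 F384561)) (tt N82848 F384562) (tt N82856 F384558) (tt N53139 (iv3 D191834)) (tt N116346 D219605) (tt N83511 F384559) (tt N112744 F482473) (tt N82855 F384560))
theorem Q88936 : ∀ i, i < 88936 → P i := stepQ 88935 Q88935 (allL N88935 (tt N113536 (iv1 F485932)) (tt N113535 F485930) (tt N85708 F384564) (tt N116347 D219606) (tt N53139 (iv4 D191835)) (tt N116348 D219607) (tt N116349 D219608) (tt N113513 (iv7 F485858)))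
theorem Q88937 : ∀ i, i < 88937 → P i := stepQ 88936 Q88936 (allL N88936 (tt N85442 F384566) (tt N115135 F493657) (tt N85709 F384565) (tt N112744 (iv3 F482475)) (tt N116349 (iv4 F499660)) (tt N116154 (iv5 F498778)) (tt N53139 (iv6 D191836)) (tt N112748 (iv7 F482486)))
theorem Q88938 : ∀ i, i < 88938 → P i := stepQ 88937 Q88937 (allL N88937 (tt N113534 (iv1 F485928)) (tt N53140 (iv0 D191837)) (tt N113757 F486982) (tt N116350 D219609) (tt N113563 (iv4 F486047)) (tt N116351 D219610) (tt N116352 D219611) (tt N113756 (iv7 F486987)))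
theorem Q88939 : ∀ i, i < 88939 → P i := stepQ 88938 Q88938 (allL N88938 (tt N53140 (iv1 D191838)) (tt N113534 (iv0 F485927)) (tt N113756 F486986) (tt N115003 (iv3 F493006)) (tt N86319 (iv4 F384567)) (tt N116353 D219612) (tt N115001 F492998) (tt N113757 F486985))
theorem Q88940 : ∀ i, i < 88940 → P i := stepQ 88939 Q88939 (allL N88939 (tt N116354 D219613) (tt N116355 D219614) (tt N116342 (iv2 F499628)) (tt N113758 (iv3 F486988)) (tt N116356 D219615) (tt N53140 (iv5 D191839)) (tt N102627 F441862) (tt N113758 (iv7 F486989)))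
theorem Q88941 : ∀ i, i < 88941 → P i := stepQ 88940 Q88940 (allL N88940 (tt N104672 (iv1 F446811)) (tt N104674 (iv0 F446820)) (tt N104606 (iv2 F446504)) (tt N113759 (iv3 F486990)) (tt N53141 F384568) (tt N67513 (iv5 F404035)) (tt N53140 (iv6 D191840)) (tt N104608 (iv7 F446517)))
theorem Q88942 : ∀ i, i < 88942 → P i := stepQ 88941 Q88941 (allL N88941 (tt N116345 (iv1 F499646)) (tt N53141 (iv0 D191841)) (tt N116343 F499633) (tt N82896 F421332) (tt N69097 F421340) (tt N108720 (iv5 F463685)) (tt N116323 F499558) (tt N116344 (iv7 F499638)))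
theorem Q88943 : ∀ i, i < 88943 → P i := stepQ 88942 Q88942 (allL N88942 (tt N53141 (iv1 D191842)) (tt N116345 F499645) (tt N116344 (iv2 F499642)) (tt N105614 (iv3 F450980)) (tt N69099 (iv4 F446538)) (tt N108719 (iv5 F463683)) (tt N105612 F450974) (tt N116343 F499634))
theorem Q88944 : ∀ i, i < 88944 → P i := stepQ 88943 Q88943 (allL N88943 (tt N116344 (iv1 F499637)) (tt N116343 F499635) (tt N116345 (iv2 F499643)) (tt N53145 F384569) (tt N104608 (iv4 F446516)) (tt N89565 (iv5 F386773)) (tt N113760 (iv6 F486996)) (tt N53141 (iv7 D191843)))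
theorem Q88945 : ∀ i, i < 88945 → P i := stepQ 88944 Q88944 (allL N88944 (tt N55073 (iv1 F384575)) (tt N55072 (iv0 F384574)) (tt N54935 F384570) (tt N53142 (iv3 D191844)) (tt N71135 F384571) (tt N113226 (iv5 F484582)) (tt N71136 F384572) (tt N55074 F384573))
theorem Q88946 : ∀ i, i < 88946 → P i := stepQ 88945 Q88945 (allL N88945 (tt N53192 F384578) (tt N53608 F384579) (tt N53612 F384576) (tt N113226 F484584) (tt N116357 D219616) (tt N53142 (iv5 D191845)) (tt N116358 D219617) (tt N53613 F384577))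
theorem Q88947 : ∀ i, i < 88947 → P i := stepQ 88946 Q88946 (allL N88946 (tt N95958 (iv1 F410431)) (tt N53565 F384581) (tt N95959 (iv2 F410435)) (tt N80391 F384580) (tt N103074 (iv4 F439961)) (tt N53144 (iv5 D191846)) (tt N53603 (iv6 F384582)) (tt N95957 (iv7 F410428)))
theorem Q88948 : ∀ i, i < 88948 → P i := stepQ 88947 Q88947 (allL N88947 (tt N86772 F384585) (tt N100519 F429293) (tt N109741 (iv2 F468381)) (tt N54880 F384583) (tt N111078 (iv4 F474557)) (tt N53146 (iv5 D191847)) (tt N104982 (iv6 F448260)) (tt N63226 F384584))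
theorem Q88949 : ∀ i, i < 88949 → P i := stepQ 88948 Q88948 (allL N88948 (tt N59543 F384586) (tt N113874 (iv0 F487571)) (tt N113642 (iv2 F486456)) (tt N59545 (iv3 F412254)) (tt N53147 (iv4 D191848)) (tt N116359 D219618) (tt N101068 (iv6 F431525)) (tt N113643 (iv7 F486462)))
theorem Q88950 : ∀ i, i < 88950 → P i := stepQ 88949 Q88949 (allL N88949 (tt N86275 F431518) (tt N114672 F491309) (tt N105413 (iv2 F450143)) (tt N101066 (iv3 F431517)) (tt N101068 (iv4 F431524)) (tt N102538 F437563) (tt N53147 (iv6 D191849)) (tt N101400 (iv7 F432856)))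
theorem Q88951 : ∀ i, i < 88951 → P i := stepQ 88950 Q88950 (allL N88950 (tt N86737 F384588) (tt N113649 F486487) (tt N53152 F384587) (tt N108883 (iv3 F464359)) (tt N53148 (iv4 D191850)) (tt N113682 (iv5 F486610)) (tt N108877 (iv6 F464317)) (tt N113644 (iv7 F486467)))
theorem Q88952 : ∀ i, i < 88952 → P i := stepQ 88951 Q88951 (allL N88951 (tt N116360 D219619) (tt N70542 F384604) (tt N53153 F384589) (tt N106984 (iv3 F456519)) (tt N108877 F464315) (tt N90950 (iv5 F391355)) (tt N53148 (iv6 D191851)) (tt N108876 (iv7 F464318)))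
theorem Q88953 : ∀ i, i < 88953 → P i := stepQ 88952 Q88952 (allL N88952 (tt N113868 (iv1 F487545)) (tt N113872 (iv0 F487563)) (tt N113647 (iv2 F486479)) (tt N86182 F384590) (tt N53150 (iv4 D191852)) (tt N116361 D219620) (tt N86181 (iv6 F384591)) (tt N110495 (iv7 F471841)))
theorem Q88954 : ∀ i, i < 88954 → P i := stepQ 88953 Q88953 (allL N88953 (tt N109783 F468593) (tt N85444 (iv0 F384594)) (tt N113648 (iv2 F486482)) (tt N85195 F384592) (tt N86181 F384593) (tt N113733 (iv5 F486886)) (tt N53150 (iv6 D191853)) (tt N89625 (iv7 F387005)))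
theorem Q88955 : ∀ i, i < 88955 → P i := stepQ 88954 Q88954 (allL N88954 (tt N113872 (iv1 F487564)) (tt N113868 (iv0 F487544)) (tt N110495 (iv2 F471838)) (tt N96520 (iv3 F422746)) (tt N53151 (iv4 D191854)) (tt N116362 D219621) (tt N96519 F422745) (tt N113647 (iv7 F486481)))
theorem Q88956 : ∀ i, i < 88956 → P i := stepQ 88955 Q88955 (allL N88955 (tt N84759 F450146) (tt N109198 (iv0 F465760)) (tt N110494 (iv2 F471833)) (tt N114648 (iv3 F491189)) (tt N96519 (iv4 F422744)) (tt N89342 (iv5 F386196)) (tt N53151 (iv6 D191855)) (tt N110493 (iv7 F471831)))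
theorem Q88957 : ∀ i, i < 88957 → P i := stepQ 88956 Q88956 (allL N88956 (tt N113644 (iv1 F486469)) (tt N53152 (iv0 D191856)) (tt N86737 (iv2 F384596)) (tt N77482 (iv3 F384597)) (tt N86736 F384595) (tt N116363 D219622) (tt N77480 F384598) (tt N113649 (iv7 F486488)))
theorem Q88958 : ∀ i, i < 88958 → P i := stepQ 88957 Q88957 (allL N88957 (tt N116364 D219623) (tt N115090 (iv0 F493437)) (tt N113682 (iv2 F486609)) (tt N113650 (iv3 F486490)) (tt N113672 (iv4 F486562)) (tt N53152 (iv5 D191857)) (tt N116365 D219624) (tt N113650 (iv7 F486491)))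
theorem Q88959 : ∀ i, i < 88959 → P i := stepQ 88958 Q88958 (allL N88958 (tt N108875 (iv1 F464329)) (tt N108874 F464331) (tt N108877 (iv2 F464316)) (tt N113651 (iv3 F486493)) (tt N53153 F384599) (tt N108867 F464327) (tt N53152 (iv6 D191858)) (tt N108866 (iv7 F464328)))
theorem Q88960 : ∀ i, i < 88960 → P i := stepQ 88959 Q88959 (allL N88959 (tt N108876 F464322) (tt N53153 (iv0 D191859)) (tt N116360 F499707) (tt N109790 (iv3 F468621)) (tt N116366 D219625) (tt N108872 F464323) (tt N109196 F465753) (tt N70542 F464324))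
theorem Q88961 : ∀ i, i < 88961 → P i := stepQ 88960 Q88960 (allL N88960 (tt N53153 (iv1 D191860)) (tt N108876 F464320) (tt N70542 F384601) (tt N115736 (iv3 F496587)) (tt N116367 D219626) (tt N108869 F464303) (tt N70520 (iv6 F384600)) (tt N116360 (iv7 F499709)))
theorem Q88962 : ∀ i, i < 88962 → P i := stepQ 88961 Q88961 (allL N88961 (tt N70542 F384603) (tt N116360 F499708) (tt N108876 F464319) (tt N53156 F384602) (tt N108866 (iv4 F464325)) (tt N90956 (iv5 F391365)) (tt N113654 (iv6 F486501)) (tt N53153 (iv7 D191861)))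
theorem Q88963 : ∀ i, i < 88963 → P i := stepQ 88962 Q88962 (allL N88962 (tt N90923 (iv1 F391283)) (tt N82859 (iv0 F384607)) (tt N88987 (iv2 F384671)) (tt N53154 (iv3 D191862)) (tt N84380 F384606) (tt N100177 (iv5 F427855)) (tt N88790 F384605) (tt N88989 (iv7 F384685)))
theorem Q88964 : ∀ i, i < 88964 → P i := stepQ 88963 Q88963 (allL N88963 (tt N115179 (iv1 F493882)) (tt N86765 F384611) (tt N86835 F384608) (tt N86823 F384610) (tt N53154 (iv4 D191863)) (tt N99811 (iv5 F426332)) (tt N86821 F384609) (tt N111297 (iv7 F475689)))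
theorem Q88965 : ∀ i, i < 88965 → P i := stepQ 88964 Q88964 (allL N88964 (tt N113765 (iv1 F487013)) (tt N104727 (iv0 F447009)) (tt N53158 F384612) (tt N116368 D219627) (tt N53157 (iv4 D191864)) (tt N116369 D219628) (tt N97808 F418381) (tt N113764 (iv7 F487010)))
theorem Q88966 : ∀ i, i < 88966 → P i := stepQ 88965 Q88965 (allL N88965 (tt N113764 (iv1 F487012)) (tt N53158 (iv0 D191865)) (tt N113765 (iv2 F487017)) (tt N67661 (iv3 F404704)) (tt N88258 F384613) (tt N116354 (iv5 F499680)) (tt N67659 F404703) (tt N104727 (iv7 F447008)))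
theorem Q88967 : ∀ i, i < 88967 → P i := stepQ 88966 Q88966 (allL N88966 (tt N53158 (iv1 D191866)) (tt N113764 (iv0 F487011)) (tt N104727 (iv2 F447005)) (tt N116370 D219629) (tt N83824 (iv4 F384614)) (tt N116355 (iv5 F499686)) (tt N67899 (iv6 F403371)) (tt N113765 (iv7 F487014)))
theorem Q88968 : ∀ i, i < 88968 → P i := stepQ 88967 Q88967 (allL N88967 (tt N116371 D219630) (tt N116372 D219631) (tt N116369 (iv2 F499746)) (tt N113766 (iv3 F487018)) (tt N91993 (iv4 F395289)) (tt N53158 (iv5 D191867)) (tt N91992 F395287) (tt N113766 (iv7 F487020)))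
theorem Q88969 : ∀ i, i < 88969 → P i := stepQ 88968 Q88968 (allL N88968 (tt N73507 F406059) (tt N86274 (iv0 F384619)) (tt N69992 F384615) (tt N53159 (iv3 D191868)) (tt N107670 (iv4 F459159)) (tt N59217 F384616) (tt N59220 F384617) (tt N69994 F384618))
theorem Q88970 : ∀ i, i < 88970 → P i := stepQ 88969 Q88969 (allL N88969 (tt N114671 F491307) (tt N86276 (iv0 F384623)) (tt N85595 F384620) (tt N53719 F384621) (tt N84909 F384622) (tt N115133 (iv5 F493644)) (tt N53160 (iv6 D191869)) (tt N114670 (iv7 F491300)))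
theorem Q88971 : ∀ i, i < 88971 → P i := stepQ 88970 Q88970 (allL N88970 (tt N84111 F384625) (tt N105565 F450750) (tt N53163 F384624) (tt N96382 (iv3 F412313)) (tt N53162 (iv4 D191870)) (tt N101906 (iv5 F434898)) (tt N96379 F412309) (tt N113761 (iv7 F487000)))
theorem Q88972 : ∀ i, i < 88972 → P i := stepQ 88971 Q88971 (allL N88971 (tt N96502 F412778) (tt N96500 (iv0 F412772)) (tt N53164 F384626) (tt N109122 (iv3 F465431)) (tt N96379 F412308) (tt N109807 (iv5 F468719)) (tt N53162 (iv6 D191871)) (tt N109112 (iv7 F465394)))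
theorem Q88973 : ∀ i, i < 88973 → P i := stepQ 88972 Q88972 (allL N88972 (tt N113761 (iv1 F487002)) (tt N53163 (iv0 D191872)) (tt N84111 (iv2 F384628)) (tt N96654 (iv3 F413345)) (tt N84102 F384627) (tt N116364 (iv5 F499729)) (tt N100836 (iv6 F430704)) (tt N105565 (iv7 F450749)))
theorem Q88974 : ∀ i, i < 88974 → P i := stepQ 88973 Q88973 (allL N88973 (tt N115598 F495929) (tt N115340 (iv0 F494680)) (tt N101906 (iv2 F434897)) (tt N113762 (iv3 F487003)) (tt N116373 D219632) (tt N53163 (iv5 D191873)) (tt N79233 F384631) (tt N113762 (iv7 F487004)))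
theorem Q88975 : ∀ i, i < 88975 → P i := stepQ 88974 Q88974 (allL N88974 (tt N96653 F413341) (tt N109866 (iv0 F468992)) (tt N96379 (iv2 F412306)) (tt N113763 (iv3 F487006)) (tt N53164 F384629) (tt N79234 (iv5 F384630)) (tt N53163 (iv6 D191874)) (tt N116374 D219633))
theorem Q88976 : ∀ i, i < 88976 → P i := stepQ 88975 Q88975 (allL N88975 (tt N109112 (iv1 F465397)) (tt N53164 (iv0 D191875)) (tt N96502 (iv2 F412780)) (tt N106359 (iv3 F454132)) (tt N59540 F412781) (tt N106356 F454121) (tt N106357 (iv6 F454126)) (tt N96500 F412782))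
theorem Q88977 : ∀ i, i < 88977 → P i := stepQ 88976 Q88976 (allL N88976 (tt N53164 (iv1 D191876)) (tt N109112 F465395) (tt N96500 (iv2 F412771)) (tt N116375 D219634) (tt N59541 (iv4 F412042)) (tt N109863 F468982) (tt N110487 (iv6 F471809)) (tt N96502 (iv7 F412777)))
theorem Q88978 : ∀ i, i < 88978 → P i := stepQ 88977 Q88977 (allL N88977 (tt N96500 (iv1 F412773)) (tt N96502 F412779) (tt N109112 (iv2 F465392)) (tt N53168 F384632) (tt N116374 (iv4 F499768)) (tt N109808 (iv5 F468723)) (tt N109109 (iv6 F465382)) (tt N53164 (iv7 D191877)))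
theorem Q88979 : ∀ i, i < 88979 → P i := stepQ 88978 Q88978 (allL N88978 (tt N115140 (iv1 F493684)) (tt N53763 (iv0 F384997)) (tt N96680 (iv2 F413426)) (tt N107469 (iv3 F458433)) (tt N58237 (iv4 F384651)) (tt N53165 (iv5 D191878)) (tt N116376 D219635) (tt N113767 (iv7 F487025)))
theorem Q88980 : ∀ i, i < 88980 → P i := stepQ 88979 Q88979 (allL N88979 (tt N86278 F387557) (tt N114675 F491320) (tt N90964 (iv2 F391397)) (tt N107470 (iv3 F458436)) (tt N85603 F384633) (tt N89280 F385899) (tt N53165 (iv6 D191879)) (tt N90962 F391392))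
theorem Q88981 : ∀ i, i < 88981 → P i := stepQ 88980 Q88980 (allL N88980 (tt N53763 F387564) (tt N115140 (iv0 F493683)) (tt N113767 (iv2 F487022)) (tt N82301 F384634) (tt N58233 F384635) (tt N53166 (iv5 D191880)) (tt N53797 (iv6 F384636)) (tt N96680 (iv7 F413424)))
theorem Q88982 : ∀ i, i < 88982 → P i := stepQ 88981 Q88981 (allL N88981 (tt N53779 (iv1 F384641)) (tt N53167 (iv0 D191882)) (tt N53777 (iv2 F384640)) (tt N114483 (iv3 F490414)) (tt N58246 F384638) (tt N88905 F384639) (tt N112831 (iv6 F482842)) (tt N53778 (iv7 F384642)))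
theorem Q88983 : ∀ i, i < 88983 → P i := stepQ 88982 Q88982 (allL N88982 (tt N53167 (iv1 D191883)) (tt N53779 F384644) (tt N53778 (iv2 F384650)) (tt N59025 F384648) (tt N58245 F384649) (tt N88904 (iv5 F384646)) (tt N59023 (iv6 F384647)) (tt N53777 F384645))
theorem Q88984 : ∀ i, i < 88984 → P i := stepQ 88983 Q88983 (allL N88983 (tt N85401 F384657) (tt N85405 F384656) (tt N53776 F384652) (tt N85151 F384653) (tt N53167 (iv4 D191884)) (tt N80581 F384655) (tt N53217 F384654) (tt N116377 D219636))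
theorem Q88985 : ∀ i, i < 88985 → P i := stepQ 88984 Q88984 (allL N88984 (tt N53778 (iv1 F384661)) (tt N53777 F384662) (tt N53779 F384658) (tt N109808 (iv3 F468724)) (tt N116377 (iv4 F499782)) (tt N53168 F384659) (tt N53792 F384660) (tt N53167 (iv7 D191885)))
theorem Q88986 : ∀ i, i < 88986 → P i := stepQ 88985 Q88985 (allL N88985 (tt N83912 F384666) (tt N113076 (iv0 F483867)) (tt N85919 F384663) (tt N83760 F384664) (tt N84898 F384667) (tt N53170 (iv5 D191886)) (tt N70183 F411674) (tt N85920 F384665))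
theorem Q88987 : ∀ i, i < 88987 → P i := stepQ 88986 Q88986 (allL N88986 (tt N90637 (iv1 F390348)) (tt N112398 F480935) (tt N112396 F480920) (tt N53171 (iv3 D191887)) (tt N81556 F384670) (tt N53357 F384668) (tt N87517 F384669) (tt N112397 (iv7 F480922)))
theorem Q88988 : ∀ i, i < 88988 → P i := stepQ 88987 Q88987 (allL N88987 (tt N71864 F384675) (tt N72010 F384676) (tt N88962 F384671) (tt N81486 F384672) (tt N53171 (iv4 D191888)) (tt N63339 F384674) (tt N91501 (iv6 F393400)) (tt N88584 F384673))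
theorem Q88989 : ∀ i, i < 88989 → P i := stepQ 88988 Q88988 (allL N88988 (tt N113871 F487562) (tt N71856 (iv0 F384681)) (tt N86469 (iv2 F384680)) (tt N53172 (iv3 D191889)) (tt N78997 F384679) (tt N53360 F384677) (tt N78995 F384678) (tt N114027 (iv7 F488263)))
theorem Q88990 : ∀ i, i < 88990 → P i := stepQ 88989 Q88989 (allL N88989 (tt N72010 F384686) (tt N71864 F384687) (tt N88584 F384682) (tt N83899 F384688) (tt N53172 (iv4 D191890)) (tt N63338 F384683) (tt N82612 F384684) (tt N88962 F384685))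
theorem Q88991 : ∀ i, i < 88991 → P i := stepQ 88990 Q88990 (allL N88990 (tt N77929 F384692) (tt N61854 F384693) (tt N77931 F384689) (tt N101349 (iv3 F432737)) (tt N53174 (iv4 D191891)) (tt N77822 F384690) (tt N113748 (iv6 F486943)) (tt N77821 F384691))
theorem Q88992 : ∀ i, i < 88992 → P i := stepQ 88991 Q88991 (allL N88991 (tt N64380 (iv1 F384700)) (tt N53177 (iv0 D191892)) (tt N53711 (iv2 F384695)) (tt N76941 F384696) (tt N100844 (iv4 F430731)) (tt N116378 D219637) (tt N53690 F384694) (tt N64378 (iv7 F384699)))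
theorem Q88993 : ∀ i, i < 88993 → P i := stepQ 88992 Q88992 (allL N88992 (tt N64378 (iv1 F384705)) (tt N53711 F384706) (tt N64380 F384701) (tt N53755 F384702) (tt N53181 F384703) (tt N101630 (iv5 F433619)) (tt N53705 F384704) (tt N53177 (iv7 D191893)))
theorem Q88994 : ∀ i, i < 88994 → P i := stepQ 88993 Q88993 (allL N88993 (tt N104977 F448233) (tt N79120 (iv0 F384710)) (tt N80616 F384707) (tt N70549 F384708) (tt N53178 (iv4 D191894)) (tt N106797 (iv5 F455720)) (tt N83235 (iv6 F384711)) (tt N80619 F384709))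
theorem Q88995 : ∀ i, i < 88995 → P i := stepQ 88994 Q88994 (allL N88994 (tt N64569 F384715) (tt N77257 (iv0 F384725)) (tt N80617 F384712) (tt N80918 F384713) (tt N95615 (iv4 F408902)) (tt N53178 (iv5 D191895)) (tt N80396 F384716) (tt N80620 F384714))
theorem Q88996 : ∀ i, i < 88996 → P i := stepQ 88995 Q88995 (allL N88995 (tt N53688 (iv1 F384723)) (tt N53705 (iv0 F384722)) (tt N53703 F384717) (tt N76945 F384718) (tt N83235 F384719) (tt N81873 F384720) (tt N53178 (iv6 D191896)) (tt N53702 (iv7 F384721)))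
theorem Q88997 : ∀ i, i < 88997 → P i := stepQ 88996 Q88996 (allL N88996 (tt N79120 F384731) (tt N104977 (iv0 F448232)) (tt N80619 F384727) (tt N70954 F384728) (tt N53179 (iv4 D191897)) (tt N70953 F384730) (tt N113584 (iv6 F486153)) (tt N80616 F384729))
theorem Q88998 : ∀ i, i < 88998 → P i := stepQ 88997 Q88997 (allL N88997 (tt N110428 F471539) (tt N64321 (iv0 F384735)) (tt N80621 F384732) (tt N55339 F384733) (tt N113584 (iv4 F486152)) (tt N81895 F384734) (tt N53179 (iv6 D191898)) (tt N75488 (iv7 F384736)))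
theorem Q88999 : ∀ i, i < 88999 → P i := stepQ 88998 Q88998 (allL N88998 (tt N77269 F384740) (tt N108257 (iv0 F461734)) (tt N83171 F384737) (tt N53184 F384738) (tt N116379 D219638) (tt N53183 (iv5 D191899)) (tt N116380 D219639) (tt N53571 F384739))
theorem Q89000 : ∀ i, i < 89000 → P i := stepQ 88999 Q88999 (allL N88999 (tt N76009 (iv1 F384746)) (tt N94153 (iv0 F403456)) (tt N70536 F384741) (tt N53185 F384742) (tt N78315 F384743) (tt N83927 F384744) (tt N53183 (iv6 D191900)) (tt N88922 (iv7 F384745)))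
theorem Q89001 : ∀ i, i < 89001 → P i := stepQ 89000 Q89000 (allL N89000 (tt N53184 (iv1 D191901)) (tt N53187 F384747) (tt N53563 (iv2 F384750)) (tt N77257 (iv3 F384751)) (tt N116145 (iv4 F498729)) (tt N64563 F384749) (tt N53620 (iv6 F384752)) (tt N53562 F384748))
theorem Q89002 : ∀ i, i < 89002 → P i := stepQ 89001 Q89001 (allL N89001 (tt N54385 F384768) (tt N74621 F384769) (tt N53564 F384766) (tt N116381 D219640) (tt N53184 (iv4 D191902)) (tt N89987 (iv5 F388206)) (tt N115102 (iv6 F493488)) (tt N53576 F384767))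
theorem Q89003 : ∀ i, i < 89003 → P i := stepQ 89002 Q89002 (allL N89002 (tt N95959 (iv1 F410441)) (tt N95957 (iv0 F410429)) (tt N53565 F384770) (tt N116380 (iv3 F499799)) (tt N115102 (iv4 F493487)) (tt N83928 F384771) (tt N53184 (iv6 D191903)) (tt N95958 (iv7 F410432)))
theorem Q89004 : ∀ i, i < 89004 → P i := stepQ 89003 Q89003 (allL N89003 (tt N53186 (iv1 D191904)) (tt N53556 (iv0 F384779)) (tt N53555 F384776) (tt N80917 (iv3 F384775)) (tt N70527 (iv4 F384778)) (tt N110803 (iv5 F473231)) (tt N53745 F384777) (tt N53484 F384774))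
theorem Q89005 : ∀ i, i < 89005 → P i := stepQ 89004 Q89004 (allL N89004 (tt N53484 (iv1 F384783)) (tt N53555 F384782) (tt N53186 (iv2 D191905)) (tt N53569 F384780) (tt N90172 (iv4 F388774)) (tt N116382 D219641) (tt N109781 (iv6 F468584)) (tt N53556 F384781))
theorem Q89006 : ∀ i, i < 89006 → P i := stepQ 89005 Q89005 (allL N89005 (tt N64303 F384786) (tt N90173 F388781) (tt N90172 F388775) (tt N69303 F384784) (tt N53186 (iv4 D191906)) (tt N81004 (iv5 F384787)) (tt N104262 (iv6 F445005)) (tt N53557 F384785))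
theorem Q89007 : ∀ i, i < 89007 → P i := stepQ 89006 Q89006 (allL N89006 (tt N111137 (iv1 F474875)) (tt N112127 (iv0 F479630)) (tt N116382 (iv2 F499804)) (tt N53187 F384788) (tt N110763 (iv4 F473057)) (tt N53186 (iv5 D191907)) (tt N110762 F473054) (tt N53558 F384789))
theorem Q89008 : ∀ i, i < 89008 → P i := stepQ 89007 Q89007 (allL N89007 (tt N104155 F444457) (tt N109779 F468578) (tt N109781 (iv2 F468582)) (tt N53188 F384790) (tt N104262 (iv4 F445003)) (tt N116383 D219642) (tt N53186 (iv6 D191908)) (tt N70539 F384791))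
theorem Q89009 : ∀ i, i < 89009 → P i := stepQ 89008 Q89008 (allL N89008 (tt N74621 F384794) (tt N54385 F384795) (tt N53576 F384792) (tt N81955 F394590) (tt N53187 (iv4 D191909)) (tt N89988 (iv5 F388210)) (tt N81953 (iv6 F394589)) (tt N53564 F384793))
theorem Q89010 : ∀ i, i < 89010 → P i := stepQ 89009 Q89009 (allL N89009 (tt N86234 F384797) (tt N53600 (iv0 F384798)) (tt N53577 F384796) (tt N110762 (iv3 F473053)) (tt N81953 (iv4 F394588)) (tt N114717 (iv5 F491504)) (tt N53187 (iv6 D191910)) (tt N86233 (iv7 F384799)))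
theorem Q89011 : ∀ i, i < 89011 → P i := stepQ 89010 Q89010 (allL N89010 (tt N80880 F384801) (tt N64525 F384802) (tt N53579 F384800) (tt N116383 (iv3 F499811)) (tt N112324 (iv4 F480556)) (tt N53188 (iv5 D191911)) (tt N114717 (iv6 F491502)) (tt N81395 (iv7 F384803)))
theorem Q89012 : ∀ i, i < 89012 → P i := stepQ 89011 Q89011 (allL N89011 (tt N53542 (iv1 F384809)) (tt N53578 F384810) (tt N53580 F384804) (tt N70539 F384805) (tt N81089 F384806) (tt N81395 F384807) (tt N53567 F384808) (tt N53188 (iv7 D191912)))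
theorem Q89013 : ∀ i, i < 89013 → P i := stepQ 89012 Q89012 (allL N89012 (tt N78326 (iv1 F386609)) (tt N76092 F386610) (tt N83172 F384816) (tt N53189 (iv3 D191913)) (tt N110823 (iv4 F473307)) (tt N101084 (iv5 F431600)) (tt N96184 (iv6 F411385)) (tt N53584 F384815))
theorem Q89014 : ∀ i, i < 89014 → P i := stepQ 89013 Q89013 (allL N89013 (tt N107712 (iv1 F459342)) (tt N107711 F459338) (tt N53589 F384821) (tt N107826 (iv3 F459877)) (tt N108986 (iv4 F464775)) (tt N53190 (iv5 D191914)) (tt N114931 (iv6 F492603)) (tt N107699 (iv7 F459282)))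
theorem Q89015 : ∀ i, i < 89015 → P i := stepQ 89014 Q89014 (allL N89014 (tt N74508 F384824) (tt N116384 D219643) (tt N83174 F384822) (tt N116385 D219644) (tt N53192 (iv4 D191915)) (tt N116386 D219645) (tt N116281 (iv6 F499340)) (tt N53614 F384823))
theorem Q89016 : ∀ i, i < 89016 → P i := stepQ 89015 Q89015 (allL N89015 (tt N94618 F405243) (tt N94621 F405260) (tt N94620 F405251) (tt N53193 (iv3 D191916)) (tt N116385 (iv4 F499821)) (tt N86075 F384825) (tt N93293 F400296) (tt N53617 F384826))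
theorem Q89017 : ∀ i, i < 89017 → P i := stepQ 89016 Q89016 (allL N89016 (tt N100044 F427350) (tt N89116 (iv0 F385219)) (tt N83176 F384827) (tt N90004 (iv3 F388268)) (tt N53194 (iv4 D191917)) (tt N116387 D219646) (tt N108990 F464797) (tt N53633 F384828))
theorem Q89018 : ∀ i, i < 89018 → P i := stepQ 89017 Q89017 (allL N89017 (tt N116388 D219647) (tt N116389 D219648) (tt N83178 F384829) (tt N53195 F384830) (tt N108990 F464796) (tt N54696 F384831) (tt N53194 (iv6 D191918)) (tt N116390 D219649))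
theorem Q89019 : ∀ i, i < 89019 → P i := stepQ 89018 Q89018 (allL N89018 (tt N53631 (iv1 F384836)) (tt N53195 (iv0 D191919)) (tt N53629 F391228) (tt N72441 F391229) (tt N114922 (iv4 F492548)) (tt N107959 (iv5 F460477)) (tt N97708 (iv6 F418004)) (tt N53630 F391230))
theorem Q89020 : ∀ i, i < 89020 → P i := stepQ 89019 Q89019 (allL N89019 (tt N53195 (iv1 D191920)) (tt N53631 F384832) (tt N53630 F391225) (tt N107460 (iv3 F458412)) (tt N110436 (iv4 F471587)) (tt N90908 (iv5 F391224)) (tt N107300 (iv6 F457868)) (tt N53629 F391226))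
theorem Q89021 : ∀ i, i < 89021 → P i := stepQ 89020 Q89020 (allL N89020 (tt N53630 (iv1 F384837)) (tt N53629 F384838) (tt N53631 F384833) (tt N116390 (iv3 F499846)) (tt N90007 (iv4 F388275)) (tt N54701 F384834) (tt N53639 F384835) (tt N53195 (iv7 D191921)))
theorem Q89022 : ∀ i, i < 89022 → P i := stepQ 89021 Q89021 (allL N89021 (tt N53485 (iv1 F384843)) (tt N53591 F384842) (tt N53196 (iv2 D191922)) (tt N53632 F384839) (tt N90191 (iv4 F388829)) (tt N53678 F384840) (tt N116391 D219650) (tt N53624 F384841))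
theorem Q89023 : ∀ i, i < 89023 → P i := stepQ 89022 Q89022 (allL N89022 (tt N72827 F384845) (tt N86364 (iv0 F384846)) (tt N90191 F388830) (tt N90010 (iv3 F388288)) (tt N53196 (iv4 D191923)) (tt N116392 D219651) (tt N110797 F473219) (tt N53625 F384844))
theorem Q89024 : ∀ i, i < 89024 → P i := stepQ 89023 Q89023 (allL N89023 (tt N116393 D219652) (tt N110801 (iv0 F473230)) (tt N116391 (iv2 F499851)) (tt N53197 F384847) (tt N110797 (iv4 F473217)) (tt N83766 F384848) (tt N53196 (iv6 D191924)) (tt N116394 D219653))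
theorem Q89025 : ∀ i, i < 89025 → P i := stepQ 89024 Q89024 (allL N89024 (tt N53639 (iv1 F384852)) (tt N53197 (iv0 D191925)) (tt N53637 F384859) (tt N76171 (iv3 F384858)) (tt N110451 (iv4 F471652)) (tt N88929 (iv5 F384855)) (tt N107310 F457911) (tt N53638 F384854))
theorem Q89026 : ∀ i, i < 89026 → P i := stepQ 89025 Q89025 (allL N89025 (tt N53638 (iv1 F384853)) (tt N53637 F384863) (tt N53639 F384849) (tt N116394 (iv3 F499859)) (tt N90013 (iv4 F388293)) (tt N83768 F384850) (tt N53631 F384851) (tt N53197 (iv7 D191926)))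
theorem Q89027 : ∀ i, i < 89027 → P i := stepQ 89026 Q89026 (allL N89026 (tt N115115 (iv1 F493558)) (tt N115114 F493553) (tt N83211 F384868) (tt N113377 (iv3 F485254)) (tt N53198 (iv4 D191927)) (tt N113375 (iv5 F485245)) (tt N116395 D219654) (tt N53642 F384869))
theorem Q89028 : ∀ i, i < 89028 → P i := stepQ 89027 Q89027 (allL N89027 (tt N108407 F462446) (tt N108405 (iv0 F462445)) (tt N83212 F384870) (tt N53200 F384871) (tt N116395 (iv4 F499864)) (tt N113955 (iv5 F487954)) (tt N53198 (iv6 D191928)) (tt N116396 D219655))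
theorem Q89029 : ∀ i, i < 89029 → P i := stepQ 89028 Q89028 (allL N89028 (tt N86155 (iv1 F386857)) (tt N86157 F386859) (tt N77738 F384872) (tt N53199 (iv3 D191929)) (tt N113377 (iv4 F485257)) (tt N91449 (iv5 F393176)) (tt N107752 (iv6 F459560)) (tt N53647 F384873))
theorem Q89030 : ∀ i, i < 89030 → P i := stepQ 89029 Q89029 (allL N89029 (tt N111828 F478186) (tt N101872 (iv0 F434768)) (tt N53655 F384874) (tt N107752 (iv3 F459559)) (tt N53200 F384875) (tt N64617 (iv5 F384876)) (tt N53199 (iv6 D191930)) (tt N112814 (iv7 F482744)))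
theorem Q89031 : ∀ i, i < 89031 → P i := stepQ 89030 Q89030 (allL N89030 (tt N53659 (iv1 F384883)) (tt N53200 (iv0 D191931)) (tt N53656 F384886) (tt N106766 (iv3 F455590)) (tt N89531 (iv4 F386936)) (tt N116293 (iv5 F499410)) (tt N90552 (iv6 F390067)) (tt N53657 F384885))
theorem Q89032 : ∀ i, i < 89032 → P i := stepQ 89031 Q89031 (allL N89031 (tt N53200 (iv1 D191932)) (tt N53659 F384877) (tt N53657 F384880) (tt N116397 D219656) (tt N89532 (iv4 F386717)) (tt N84168 (iv5 F384879)) (tt N53942 (iv6 F384878)) (tt N53656 (iv7 F384887)))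
theorem Q89033 : ∀ i, i < 89033 → P i := stepQ 89032 Q89032 (allL N89032 (tt N53657 (iv1 F384884)) (tt N53656 F384888) (tt N53659 F384881) (tt N116396 (iv3 F499869)) (tt N112814 (iv4 F482740)) (tt N113957 (iv5 F487961)) (tt N53651 F384882) (tt N53200 (iv7 D191933)))
theorem Q89034 : ∀ i, i < 89034 → P i := stepQ 89033 Q89033 (allL N89033 (tt N62208 F384892) (tt N56740 F384893) (tt N62206 F384889) (tt N116398 D219657) (tt N53202 (iv4 D191934)) (tt N57816 F384891) (tt N59593 F384894) (tt N62207 F384890))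
theorem Q89035 : ∀ i, i < 89035 → P i := stepQ 89034 Q89034 (allL N89034 (tt N59959 F384899) (tt N59025 (iv0 F384900)) (tt N62411 F384895) (tt N83084 F384896) (tt N59593 F384897) (tt N86272 F384898) (tt N53202 (iv6 D191935)) (tt N62412 F384901))
theorem Q89036 : ∀ i, i < 89036 → P i := stepQ 89035 Q89035 (allL N89035 (tt N106366 F454166) (tt N106374 F454206) (tt N83086 F384902) (tt N53204 F384903) (tt N107407 (iv4 F458241)) (tt N53203 (iv5 D191936)) (tt N111272 (iv6 F475562)) (tt N89137 (iv7 F385315)))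
theorem Q89037 : ∀ i, i < 89037 → P i := stepQ 89036 Q89036 (allL N89036 (tt N56740 F384907) (tt N62208 F384908) (tt N62207 F384904) (tt N96416 (iv3 F412428)) (tt N53204 (iv4 D191937)) (tt N57817 F384905) (tt N64803 (iv6 F384909)) (tt N62206 F384906))
theorem Q89038 : ∀ i, i < 89038 → P i := stepQ 89037 Q89037 (allL N89037 (tt N107419 (iv1 F458279)) (tt N64406 (iv0 F384913)) (tt N89390 (iv2 F386338)) (tt N111272 F475564) (tt N64803 F384912) (tt N91024 (iv5 F391630)) (tt N53204 (iv6 D191938)) (tt N105259 (iv7 F449426)))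
theorem Q89039 : ∀ i, i < 89039 → P i := stepQ 89038 Q89038 (allL N89038 (tt N103088 F440018) (tt N90386 (iv0 F405363)) (tt N85244 F384918) (tt N53205 (iv3 D191939)) (tt N53226 F384914) (tt N57759 F384915) (tt N80622 F384916) (tt N85243 F384917))
theorem Q89040 : ∀ i, i < 89040 → P i := stepQ 89039 Q89039 (allL N89039 (tt N53746 (iv1 F384922)) (tt N53206 (iv0 D191940)) (tt N53745 (iv2 F384921)) (tt N78730 F384920) (tt N104185 (iv4 F444579)) (tt N101472 (iv5 F433067)) (tt N53555 (iv6 F384924)) (tt N53482 F384923))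
theorem Q89041 : ∀ i, i < 89041 → P i := stepQ 89040 Q89040 (allL N89040 (tt N53745 (iv1 F384929)) (tt N53482 F384928) (tt N53206 (iv2 D191941)) (tt N53734 F384925) (tt N63237 F384926) (tt N116399 D219658) (tt N116400 D219659) (tt N53746 F384927))
theorem Q89042 : ∀ i, i < 89042 → P i := stepQ 89041 Q89041 (allL N89041 (tt N106382 F454227) (tt N112125 (iv0 F479618)) (tt N116399 (iv2 F499888)) (tt N53207 F384930) (tt N104919 (iv4 F447940)) (tt N53206 (iv5 D191942)) (tt N116401 D219660) (tt N53748 F384931))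
theorem Q89043 : ∀ i, i < 89043 → P i := stepQ 89042 Q89042 (allL N89042 (tt N116204 (iv1 F499000)) (tt N116205 (iv0 F499006)) (tt N116400 (iv2 F499894)) (tt N53208 F384932) (tt N57354 F384933) (tt N83983 F384934) (tt N53206 (iv6 D191943)) (tt N88668 (iv7 F384935)))
theorem Q89044 : ∀ i, i < 89044 → P i := stepQ 89043 Q89043 (allL N89043 (tt N53209 (iv1 F384938)) (tt N53207 (iv0 D191944)) (tt N53739 (iv2 F384937)) (tt N88851 (iv3 F384940)) (tt N116402 D219661) (tt N64894 F384936) (tt N109873 F469026) (tt N53740 F384939))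
theorem Q89045 : ∀ i, i < 89045 → P i := stepQ 89044 Q89044 (allL N89044 (tt N72200 F384944) (tt N90118 (iv0 F388595)) (tt N53741 F384941) (tt N113693 (iv3 F486668)) (tt N53207 (iv4 D191945)) (tt N57763 F384943) (tt N111043 (iv6 F474401)) (tt N53753 F384942))
theorem Q89046 : ∀ i, i < 89046 → P i := stepQ 89045 Q89045 (allL N89045 (tt N112831 (iv1 F482845)) (tt N73220 (iv0 F384947)) (tt N53742 F384945) (tt N116401 (iv3 F499901)) (tt N111043 (iv4 F474402)) (tt N83984 F384946) (tt N53207 (iv6 D191946)) (tt N105257 (iv7 F449416)))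
theorem Q89047 : ∀ i, i < 89047 → P i := stepQ 89046 Q89046 (allL N89046 (tt N90118 (iv1 F388596)) (tt N72200 F384951) (tt N53753 F384948) (tt N97155 (iv3 F415698)) (tt N53209 (iv4 D191947)) (tt N57767 F384950) (tt N90715 (iv6 F390614)) (tt N53741 F384949))
theorem Q89048 : ∀ i, i < 89048 → P i := stepQ 89047 Q89047 (allL N89047 (tt N65018 F384954) (tt N81415 F384955) (tt N53756 F384952) (tt N104244 (iv3 F444899)) (tt N54358 F384956) (tt N53210 (iv5 D191948)) (tt N91102 (iv6 F391932)) (tt N88626 F384953))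
theorem Q89049 : ∀ i, i < 89049 → P i := stepQ 89048 Q89048 (allL N89048 (tt N116403 D219662) (tt N101487 F451816) (tt N53760 F384957) (tt N108798 F463999) (tt N90127 (iv4 F388621)) (tt N84436 F384958) (tt N53211 (iv6 D191949)) (tt N116404 D219663))
theorem Q89050 : ∀ i, i < 89050 → P i := stepQ 89049 Q89049 (allL N89049 (tt N53768 (iv1 F384962)) (tt N53212 (iv0 D191950)) (tt N53764 (iv2 F384960)) (tt N90334 (iv3 F389368)) (tt N53273 F384959) (tt N90330 F389348) (tt N116405 D219664) (tt N53765 (iv7 F384961)))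
theorem Q89051 : ∀ i, i < 89051 → P i := stepQ 89050 Q89050 (allL N89050 (tt N53212 (iv1 D191951)) (tt N53768 F384963) (tt N53765 (iv2 F384968)) (tt N57948 F384967) (tt N53274 F384965) (tt N110835 (iv5 F473369)) (tt N57947 (iv6 F384966)) (tt N53764 F384964))
theorem Q89052 : ∀ i, i < 89052 → P i := stepQ 89051 Q89051 (allL N89051 (tt N53765 (iv1 F384973)) (tt N53764 F384974) (tt N53768 F384969) (tt N72215 F384970) (tt N53213 F384971) (tt N72288 F384972) (tt N93261 F400180) (tt N53212 (iv7 D191952)))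
theorem Q89053 : ∀ i, i < 89053 → P i := stepQ 89052 Q89052 (allL N89052 (tt N53801 F384977) (tt N53221 F384978) (tt N53781 F384975) (tt N89140 (iv3 F385322)) (tt N114274 (iv4 F489336)) (tt N53214 (iv5 D191953)) (tt N96699 (iv6 F413516)) (tt N53483 F384976))
theorem Q89054 : ∀ i, i < 89054 → P i := stepQ 89053 Q89053 (allL N89053 (tt N53785 F384984) (tt N53784 F384983) (tt N53216 F384979) (tt N53770 F384980) (tt N85897 F384981) (tt N53215 (iv5 D191954)) (tt N109807 (iv6 F468717)) (tt N53782 F384982))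
theorem Q89055 : ∀ i, i < 89055 → P i := stepQ 89054 Q89054 (allL N89054 (tt N89849 (iv1 F387716)) (tt N89852 F387723) (tt N53789 F384985) (tt N59159 F384986) (tt N53220 F384987) (tt N96015 (iv5 F410642)) (tt N53219 (iv6 D191955)) (tt N93750 (iv7 F401760)))
theorem Q89056 : ∀ i, i < 89056 → P i := stepQ 89055 Q89055 (allL N89055 (tt N53792 (iv1 F384995)) (tt N53220 (iv0 D191956)) (tt N53790 F384999) (tt N107419 (iv3 F458275)) (tt N91700 (iv4 F411218)) (tt N110518 (iv5 F471951)) (tt N107418 F458272) (tt N53791 F384998))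
theorem Q89057 : ∀ i, i < 89057 → P i := stepQ 89056 Q89056 (allL N89056 (tt N53220 (iv1 D191957)) (tt N53792 F384988) (tt N53791 F384991) (tt N79108 F384992) (tt N91701 F411222) (tt N79107 (iv5 F384990)) (tt N53740 (iv6 F384989)) (tt N53790 (iv7 F385000)))
theorem Q89058 : ∀ i, i < 89058 → P i := stepQ 89057 Q89057 (allL N89057 (tt N53791 (iv1 F384996)) (tt N53790 F385001) (tt N53792 F384993) (tt N99763 (iv3 F426115)) (tt N93750 F401762) (tt N91022 (iv5 F391617)) (tt N53779 F384994) (tt N53220 (iv7 D191958)))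
theorem Q89059 : ∀ i, i < 89059 → P i := stepQ 89058 Q89058 (allL N89058 (tt N53800 (iv1 F385002)) (tt N53222 (iv0 D191959)) (tt N53797 (iv2 F385006)) (tt N114887 F492350) (tt N91612 (iv4 F393777)) (tt N111201 (iv5 F475204)) (tt N113767 (iv6 F487028)) (tt N53798 (iv7 F385008)))
theorem Q89060 : ∀ i, i < 89060 → P i := stepQ 89059 Q89059 (allL N89059 (tt N53222 (iv1 D191960)) (tt N53800 F385003) (tt N53798 F385007) (tt N96702 (iv3 F413529)) (tt N77126 (iv4 F385004)) (tt N116406 D219665) (tt N96701 (iv6 F413523)) (tt N53797 F385005))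
theorem Q89061 : ∀ i, i < 89061 → P i := stepQ 89060 Q89060 (allL N89060 (tt N107091 F456927) (tt N106090 (iv0 F453066)) (tt N107093 (iv2 F456935)) (tt N53224 F385009) (tt N61317 F385010) (tt N83988 F385011) (tt N53223 (iv6 D191961)) (tt N107092 F456930))
theorem Q89062 : ∀ i, i < 89062 → P i := stepQ 89061 Q89061 (allL N89061 (tt N53224 (iv1 D191962)) (tt N53806 F385012) (tt N53805 F385017) (tt N85437 (iv3 F385015)) (tt N78459 F385014) (tt N88678 (iv5 F385016)) (tt N116403 (iv6 F499913)) (tt N53804 F385013))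
theorem Q89063 : ∀ i, i < 89063 → P i := stepQ 89062 Q89062 (allL N89062 (tt N53805 (iv1 F385021)) (tt N53804 F385022) (tt N53806 F385018) (tt N107092 F456929) (tt N90152 (iv4 F388708)) (tt N83993 F385019) (tt N53800 F385020) (tt N53224 (iv7 D191963)))
theorem Q89064 : ∀ i, i < 89064 → P i := stepQ 89063 Q89063 (allL N89063 (tt N83030 (iv1 F387074)) (tt N110429 (iv0 F471544)) (tt N83227 F385023) (tt N53228 F385024) (tt N101750 (iv4 F434171)) (tt N53227 (iv5 D191964)) (tt N101750 (iv6 F434170)) (tt N112578 (iv7 F481704)))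
theorem Q89065 : ∀ i, i < 89065 → P i := stepQ 89064 Q89064 (allL N89064 (tt N56924 F385029) (tt N90049 (iv0 F388416)) (tt N53239 F385025) (tt N55137 F385026) (tt N53232 (iv4 D191965)) (tt N85651 (iv5 F385030)) (tt N75834 F385027) (tt N55258 F385028))
theorem Q89066 : ∀ i, i < 89066 → P i := stepQ 89065 Q89065 (allL N89065 (tt N103171 F440397) (tt N103170 F440391) (tt N100130 F427601) (tt N103163 (iv3 F440356)) (tt N53236 (iv4 D191966)) (tt N116407 D219666) (tt N88122 (iv6 F427610)) (tt N103172 (iv7 F440400)))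
theorem Q89067 : ∀ i, i < 89067 → P i := stepQ 89066 Q89066 (allL N89066 (tt N106766 F455594) (tt N116170 F498852) (tt N109620 (iv2 F467777)) (tt N115117 (iv3 F493570)) (tt N88122 F427611) (tt N113960 (iv5 F487973)) (tt N53236 (iv6 D191967)) (tt N106758 (iv7 F455572)))
theorem Q89068 : ∀ i, i < 89068 → P i := stepQ 89067 Q89067 (allL N89067 (tt N107429 F458310) (tt N53998 F385033) (tt N106780 (iv2 F455649)) (tt N57197 F385031) (tt N53237 (iv4 D191968)) (tt N116408 D219667) (tt N106054 (iv6 F452919)) (tt N66875 F385032))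
theorem Q89069 : ∀ i, i < 89069 → P i := stepQ 89068 Q89068 (allL N89068 (tt N53998 F385035) (tt N107429 F458313) (tt N66875 F385034) (tt N116409 D219668) (tt N53238 (iv4 D191969)) (tt N116410 D219669) (tt N116411 D219670) (tt N106780 F455652))
theorem Q89070 : ∀ i, i < 89070 → P i := stepQ 89069 Q89069 (allL N89069 (tt N106776 (iv1 F455630)) (tt N106775 F455639) (tt N106777 (iv2 F455634)) (tt N115119 (iv3 F493580)) (tt N116411 (iv4 F499964)) (tt N114321 (iv5 F489589)) (tt N53238 (iv6 D191970)) (tt N106053 (iv7 F452915)))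
theorem Q89071 : ∀ i, i < 89071 → P i := stepQ 89070 Q89070 (allL N89070 (tt N55258 (iv1 F385039)) (tt N53239 (iv0 D191971)) (tt N56924 (iv2 F385038)) (tt N93897 (iv3 F402329)) (tt N72600 F385037) (tt N83140 F385036) (tt N106056 F452932) (tt N90049 (iv7 F388415)))
theorem Q89072 : ∀ i, i < 89072 → P i := stepQ 89071 Q89071 (allL N89071 (tt N114785 (iv1 F491845)) (tt N102320 (iv0 F436715)) (tt N85651 F385040) (tt N92857 (iv3 F398534)) (tt N78790 F385041) (tt N53239 (iv5 D191972)) (tt N116412 D219671) (tt N98679 (iv7 F421829)))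
theorem Q89073 : ∀ i, i < 89073 → P i := stepQ 89072 Q89072 (allL N89072 (tt N107683 F459219) (tt N116145 (iv0 F498732)) (tt N53943 F385042) (tt N111532 (iv3 F476778)) (tt N53240 (iv4 D191973)) (tt N107712 F459345) (tt N108093 (iv6 F461080)) (tt N53947 F385043))
theorem Q89074 : ∀ i, i < 89074 → P i := stepQ 89073 Q89073 (allL N89073 (tt N85930 F385047) (tt N85928 F385048) (tt N53944 F385044) (tt N83276 F385045) (tt N108093 (iv4 F461079)) (tt N84075 F385046) (tt N53240 (iv6 D191974)) (tt N86336 (iv7 F385049)))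
theorem Q89075 : ∀ i, i < 89075 → P i := stepQ 89074 Q89074 (allL N89074 (tt N101179 (iv1 F432075)) (tt N89166 (iv0 F385418)) (tt N83277 F385050) (tt N53243 F385051) (tt N110528 (iv4 F472004)) (tt N53242 (iv5 D191975)) (tt N116413 D219672) (tt N53941 F385052))
theorem Q89076 : ∀ i, i < 89076 → P i := stepQ 89075 Q89075 (allL N89075 (tt N116145 (iv1 F498733)) (tt N107683 F459220) (tt N53947 F385053) (tt N116414 D219673) (tt N53243 (iv4 D191976)) (tt N107711 (iv5 F459337)) (tt N116415 D219674) (tt N53943 F385054))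
theorem Q89077 : ∀ i, i < 89077 → P i := stepQ 89076 Q89076 (allL N89076 (tt N86251 (iv1 F385058)) (tt N53646 (iv0 F385057)) (tt N53948 F385055) (tt N116413 (iv3 F499972)) (tt N116415 (iv4 F499983)) (tt N83486 F385056) (tt N53243 (iv6 D191977)) (tt N86250 (iv7 F385059)))
theorem Q89078 : ∀ i, i < 89078 → P i := stepQ 89077 Q89077 (allL N89077 (tt N107107 F457006) (tt N113941 (iv0 F487891)) (tt N53952 F385060) (tt N64686 F385061) (tt N57729 (iv4 F385064)) (tt N64683 F385062) (tt N53245 (iv6 D191978)) (tt N84242 (iv7 F385063)))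
theorem Q89079 : ∀ i, i < 89079 → P i := stepQ 89078 Q89078 (allL N89078 (tt N53288 (iv1 F385077)) (tt N77318 (iv0 F385076)) (tt N77320 F385073) (tt N53246 (iv3 D191979)) (tt N82188 (iv4 F385078)) (tt N54256 F385074) (tt N107024 F456688) (tt N53951 F385075))
theorem Q89080 : ∀ i, i < 89080 → P i := stepQ 89079 Q89079 (allL N89079 (tt N106749 (iv1 F455530)) (tt N106741 (iv0 F455500)) (tt N53954 F385079) (tt N107024 (iv3 F456689)) (tt N107708 (iv4 F459322)) (tt N54260 F385080) (tt N53246 (iv6 D191980)) (tt N97704 (iv7 F417982)))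
theorem Q89081 : ∀ i, i < 89081 → P i := stepQ 89080 Q89080 (allL N89080 (tt N58183 F385083) (tt N73060 F402514) (tt N73059 F385081) (tt N53247 (iv3 D191981)) (tt N107710 (iv4 F459336)) (tt N112082 (iv5 F479412)) (tt N53249 F385082) (tt N72928 (iv7 F385084)))
theorem Q89082 : ∀ i, i < 89082 → P i := stepQ 89081 Q89081 (allL N89081 (tt N89441 (iv1 F386525)) (tt N89463 (iv0 F386588)) (tt N53958 F385086) (tt N112082 F479414) (tt N108925 (iv4 F464512)) (tt N53247 (iv5 D191982)) (tt N112645 F481971) (tt N112181 (iv7 F479931)))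
theorem Q89083 : ∀ i, i < 89083 → P i := stepQ 89082 Q89082 (allL N89082 (tt N53956 (iv1 F385091)) (tt N53955 F385092) (tt N53959 F385087) (tt N72928 F385088) (tt N53248 F385089) (tt N112181 (iv5 F479929)) (tt N72926 F385090) (tt N53247 (iv7 D191983)))
theorem Q89084 : ∀ i, i < 89084 → P i := stepQ 89083 Q89083 (allL N89083 (tt N53249 (iv1 D191984)) (tt N72925 F385093) (tt N62209 (iv2 F385095)) (tt N103080 F439985) (tt N96061 (iv4 F410857)) (tt N61162 F385094) (tt N110850 (iv6 F473442)) (tt N89628 (iv7 F387012)))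
theorem Q89085 : ∀ i, i < 89085 → P i := stepQ 89084 Q89084 (allL N89084 (tt N110720 (iv1 F472896)) (tt N83033 (iv0 F385100)) (tt N83272 F385096) (tt N53255 F385097) (tt N72662 F385099) (tt N53253 (iv5 D191985)) (tt N110983 (iv6 F474079)) (tt N77973 F385098))
theorem Q89086 : ∀ i, i < 89086 → P i := stepQ 89085 Q89085 (allL N89085 (tt N96747 F413755) (tt N91952 F395107) (tt N53857 F385101) (tt N54909 F385102) (tt N94953 (iv4 F406483)) (tt N53254 (iv5 D191986)) (tt N94952 F406480) (tt N91938 (iv7 F395030)))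
theorem Q89087 : ∀ i, i < 89087 → P i := stepQ 89086 Q89086 (allL N89086 (tt N89352 (iv1 F387906)) (tt N84379 F385104) (tt N53865 F385103) (tt N116416 D219675) (tt N53255 (iv4 D191987)) (tt N107301 (iv5 F457874)) (tt N113453 F485558) (tt N89351 (iv7 F386221)))
theorem Q89088 : ∀ i, i < 89088 → P i := stepQ 89087 Q89087 (allL N89087 (tt N85476 F385107) (tt N85461 F385108) (tt N53268 F385105) (tt N109393 (iv3 F466736)) (tt N53256 (iv4 D191988)) (tt N116196 (iv5 F498956)) (tt N94558 (iv6 F404963)) (tt N85474 F385106))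
theorem Q89089 : ∀ i, i < 89089 → P i := stepQ 89088 Q89088 (allL N89088 (tt N64498 (iv1 F385114)) (tt N64832 F385115) (tt N64834 F385109) (tt N53275 F385110) (tt N57799 F385111) (tt N53259 F385112) (tt N69698 F385113) (tt N53258 (iv7 D191989)))
theorem Q89090 : ∀ i, i < 89090 → P i := stepQ 89089 Q89089 (allL N89089 (tt N106283 (iv1 F453890)) (tt N76247 F385117) (tt N91457 (iv2 F393216)) (tt N53906 F385116) (tt N116417 D219676) (tt N53260 (iv5 D191990)) (tt N60302 (iv6 F385118)) (tt N114645 (iv7 F491172)))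
theorem Q89091 : ∀ i, i < 89091 → P i := stepQ 89090 Q89090 (allL N89090 (tt N114900 F492426) (tt N116306 (iv0 F499473)) (tt N114647 (iv2 F491182)) (tt N110487 (iv3 F471808)) (tt N53261 (iv4 D191991)) (tt N116111 (iv5 F498525)) (tt N116375 (iv6 F499773)) (tt N114646 (iv7 F491178)))
theorem Q89092 : ∀ i, i < 89092 → P i := stepQ 89091 Q89091 (allL N89091 (tt N113851 F487453) (tt N105037 (iv0 F448503)) (tt N113852 (iv2 F487454)) (tt N95950 F410392) (tt N116375 (iv4 F499772)) (tt N86284 F385133) (tt N53261 (iv6 D191992)) (tt N101338 (iv7 F432699)))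
theorem Q89093 : ∀ i, i < 89093 → P i := stepQ 89092 Q89092 (allL N89092 (tt N91908 (iv1 F394917)) (tt N53348 (iv0 F385138)) (tt N112031 (iv2 F479161)) (tt N53265 F385134) (tt N87012 F385135) (tt N75578 F385136) (tt N53262 (iv6 D191993)) (tt N54459 F385137))
theorem Q89094 : ∀ i, i < 89094 → P i := stepQ 89093 Q89093 (allL N89093 (tt N76247 F385140) (tt N106283 (iv0 F453889)) (tt N114645 (iv2 F491170)) (tt N54913 F385139) (tt N116418 D219677) (tt N53263 (iv5 D191994)) (tt N115109 (iv6 F493521)) (tt N91457 (iv7 F393218)))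
theorem Q89095 : ∀ i, i < 89095 → P i := stepQ 89094 Q89094 (allL N89094 (tt N91914 (iv1 F394946)) (tt N79008 (iv0 F385145)) (tt N54458 F385141) (tt N54914 F385142) (tt N53265 F385143) (tt N114092 (iv5 F488546)) (tt N53263 (iv6 D191995)) (tt N54460 F385144))
theorem Q89096 : ∀ i, i < 89096 → P i := stepQ 89095 Q89095 (allL N89095 (tt N116306 (iv1 F499474)) (tt N114900 (iv0 F492425)) (tt N114646 (iv2 F491177)) (tt N63342 F385146) (tt N53264 (iv4 D191996)) (tt N116110 (iv5 F498515)) (tt N116419 D219678) (tt N114647 (iv7 F491185)))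
theorem Q89097 : ∀ i, i < 89097 → P i := stepQ 89096 Q89096 (allL N89096 (tt N91703 F394099) (tt N101195 (iv0 F432134)) (tt N101052 (iv2 F431461)) (tt N75647 F385147) (tt N116419 (iv4 F500005)) (tt N75645 F385148) (tt N53264 (iv6 D191997)) (tt N101335 (iv7 F432690)))
theorem Q89098 : ∀ i, i < 89098 → P i := stepQ 89097 Q89097 (allL N89097 (tt N113549 F485988) (tt N114888 F492363) (tt N111332 (iv2 F475862)) (tt N110493 (iv3 F471830)) (tt N53266 (iv4 D191998)) (tt N113545 (iv5 F485974)) (tt N116420 D219679) (tt N114648 (iv7 F491191)))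
theorem Q89099 : ∀ i, i < 89099 → P i := stepQ 89098 Q89098 (allL N89098 (tt N116421 D219680) (tt N116422 D219681) (tt N114405 (iv2 F489987)) (tt N112032 (iv3 F479169)) (tt N116420 (iv4 F500009)) (tt N91165 (iv5 F392126)) (tt N53266 (iv6 D191999)) (tt N116423 D219682))
theorem Q89100 : ∀ i, i < 89100 → P i := stepQ 89099 Q89099 (allL N89099 (tt N114888 F492361) (tt N113549 (iv0 F485987)) (tt N114648 (iv2 F491188)) (tt N63319 F385149) (tt N53267 (iv4 D192000)) (tt N113469 (iv5 F485629)) (tt N82888 (iv6 F385150)) (tt N111332 (iv7 F475864)))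
theorem Q89101 : ∀ i, i < 89101 → P i := stepQ 89100 Q89100 (allL N89100 (tt N85465 (iv1 F385153)) (tt N85468 (iv0 F385152)) (tt N113840 F487385) (tt N98393 (iv3 F420759)) (tt N82888 F385151) (tt N115086 (iv5 F493417)) (tt N53267 (iv6 D192001)) (tt N113841 (iv7 F487389)))
theorem Q89102 : ∀ i, i < 89102 → P i := stepQ 89101 Q89101 (allL N89101 (tt N90797 F390905) (tt N90795 (iv0 F390899)) (tt N116196 (iv2 F498954)) (tt N94560 (iv3 F404968)) (tt N112344 (iv4 F480672)) (tt N53268 (iv5 D192002)) (tt N90618 F390296) (tt N90841 (iv7 F391028)))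
theorem Q89103 : ∀ i, i < 89103 → P i := stepQ 89102 Q89102 (allL N89102 (tt N82038 F385158) (tt N80592 F385159) (tt N83253 F385154) (tt N76912 F385155) (tt N53269 (iv4 D192003)) (tt N76135 F385157) (tt N77695 F385160) (tt N54039 F385156))
theorem Q89104 : ∀ i, i < 89104 → P i := stepQ 89103 Q89103 (allL N89103 (tt N71291 F385165) (tt N71294 F385166) (tt N83254 F385161) (tt N53270 F385162) (tt N82581 F385163) (tt N53269 (iv5 D192004)) (tt N115791 (iv6 F496901)) (tt N54040 F385164))
theorem Q89105 : ∀ i, i < 89105 → P i := stepQ 89104 Q89104 (allL N89104 (tt N99434 (iv1 F424560)) (tt N107650 F459077) (tt N83255 F385167) (tt N53271 F385168) (tt N77695 F385169) (tt N84092 F385170) (tt N53269 (iv6 D192005)) (tt N90418 (iv7 F389575)))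
theorem Q89106 : ∀ i, i < 89106 → P i := stepQ 89105 Q89105 (allL N89105 (tt N116402 (iv1 F499910)) (tt N101771 (iv0 F434271)) (tt N54035 F385171) (tt N114784 (iv3 F491839)) (tt N53270 (iv4 D192006)) (tt N56865 F385173) (tt N78460 (iv6 F385174)) (tt N54042 F385172))
theorem Q89107 : ∀ i, i < 89107 → P i := stepQ 89106 Q89106 (allL N89106 (tt N87669 F385178) (tt N87666 F385179) (tt N54036 F385175) (tt N115791 (iv3 F496900)) (tt N78460 F385176) (tt N78404 F385177) (tt N53270 (iv6 D192007)) (tt N112829 (iv7 F482829)))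
theorem Q89108 : ∀ i, i < 89108 → P i := stepQ 89107 Q89107 (allL N89107 (tt N53271 (iv1 D192008)) (tt N54038 F385180) (tt N54037 F385184) (tt N111103 F474683) (tt N89725 (iv4 F387326)) (tt N54258 F385182) (tt N53949 (iv6 F385183)) (tt N53937 F385181))
theorem Q89109 : ∀ i, i < 89109 → P i := stepQ 89108 Q89108 (allL N89108 (tt N101771 (iv1 F434273)) (tt N116402 (iv0 F499909)) (tt N54042 F385185) (tt N78466 (iv3 F385188)) (tt N53272 (iv4 D192009)) (tt N56870 F385186) (tt N96707 (iv6 F413545)) (tt N54035 F385187))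
theorem Q89110 : ∀ i, i < 89110 → P i := stepQ 89109 Q89109 (allL N89109 (tt N71277 F385192) (tt N53303 F385194) (tt N64729 F385189) (tt N53273 (iv3 D192010)) (tt N82574 (iv4 F385193)) (tt N64728 F385190) (tt N111289 (iv6 F475655)) (tt N54047 F385191))
theorem Q89111 : ∀ i, i < 89111 → P i := stepQ 89110 Q89110 (allL N89110 (tt N115751 F496666) (tt N116424 D219683) (tt N54046 F385195) (tt N111289 F475657) (tt N116405 (iv4 F499925)) (tt N84300 F385196) (tt N53273 (iv6 D192011)) (tt N114772 (iv7 F491780)))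
theorem Q89112 : ∀ i, i < 89112 → P i := stepQ 89111 Q89111 (allL N89111 (tt N53277 (iv1 D192012)) (tt N54057 F385197) (tt N54055 F385200) (tt N116422 F500021) (tt N89805 F388651) (tt N90796 (iv5 F390901)) (tt N71203 (iv6 F385199)) (tt N54054 F385198))
theorem Q89113 : ∀ i, i < 89113 → P i := stepQ 89112 Q89112 (allL N89112 (tt N54055 (iv1 F385203)) (tt N54054 F385204) (tt N54057 F385201) (tt N89142 F385335) (tt N89324 (iv4 F386104)) (tt N112329 (iv5 F480587)) (tt N54062 F385202) (tt N53277 (iv7 D192013)))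
theorem Q89114 : ∀ i, i < 89114 → P i := stepQ 89113 Q89113 (allL N89113 (tt N53357 F385208) (tt N115987 (iv0 F497923)) (tt N53868 F385205) (tt N53464 F385206) (tt N116425 D219684) (tt N53278 (iv5 D192014)) (tt N79161 F385207) (tt N115785 (iv7 F496861)))
theorem Q89115 : ∀ i, i < 89115 → P i := stepQ 89114 Q89114 (allL N89114 (tt N64635 F385213) (tt N64656 (iv0 F385214)) (tt N64654 F385209) (tt N53288 F385210) (tt N116426 D219685) (tt N53280 (iv5 D192015)) (tt N53283 F385211) (tt N64653 F385212))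
theorem Q89116 : ∀ i, i < 89116 → P i := stepQ 89115 Q89115 (allL N89115 (tt N91766 F394352) (tt N91289 (iv0 F392574)) (tt N53913 F385215) (tt N54640 F385216) (tt N83155 F385217) (tt N113996 (iv5 F488114)) (tt N53282 (iv6 D192016)) (tt N90889 (iv7 F391181)))
theorem Q89117 : ∀ i, i < 89117 → P i := stepQ 89116 Q89116 (allL N89116 (tt N89016 F385219) (tt N89557 (iv0 F386761)) (tt N63169 F385218) (tt N116427 D219686) (tt N53283 (iv4 D192017)) (tt N108830 (iv5 F464157)) (tt N116426 (iv6 F500042)) (tt N89559 (iv7 F386765)))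
theorem Q89118 : ∀ i, i < 89118 → P i := stepQ 89117 Q89117 (allL N89117 (tt N72529 (iv1 F385225)) (tt N53286 (iv0 D192018)) (tt N71514 (iv2 F385221)) (tt N72600 F385220) (tt N71513 F385222) (tt N106905 (iv5 F456224)) (tt N106907 (iv6 F456233)) (tt N72597 F385223))
theorem Q89119 : ∀ i, i < 89119 → P i := stepQ 89118 Q89118 (allL N89118 (tt N89122 (iv1 F385251)) (tt N54760 F385227) (tt N89993 (iv2 F388234)) (tt N54657 F385226) (tt N53286 (iv4 D192019)) (tt N116428 D219687) (tt N110323 F471050) (tt N89992 F388231))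
theorem Q89120 : ∀ i, i < 89120 → P i := stepQ 89119 Q89119 (allL N89119 (tt N72597 (iv1 F385231)) (tt N71514 F385232) (tt N72529 F385228) (tt N91711 (iv3 F394136)) (tt N89992 (iv4 F388228)) (tt N53287 F385229) (tt N62263 F385230) (tt N53286 (iv7 D192020)))
theorem Q89121 : ∀ i, i < 89121 → P i := stepQ 89120 Q89120 (allL N89120 (tt N64555 F385235) (tt N71666 F385236) (tt N71665 F385233) (tt N116429 D219688) (tt N53288 (iv4 D192021)) (tt N109618 (iv5 F467770)) (tt N53291 F385234) (tt N71442 (iv7 F385248)))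
theorem Q89122 : ∀ i, i < 89122 → P i := stepQ 89121 Q89121 (allL N89121 (tt N77320 (iv1 F385243)) (tt N53951 F385244) (tt N77318 F385238) (tt N64653 F385239) (tt N71442 (iv4 F385246)) (tt N53289 F385241) (tt N71440 F385242) (tt N53288 (iv7 D192022)))
theorem Q89123 : ∀ i, i < 89123 → P i := stepQ 89122 Q89122 (allL N89122 (tt N91048 (iv1 F391752)) (tt N89118 F385251) (tt N53961 F385249) (tt N109602 (iv3 F467680)) (tt N53290 (iv4 D192023)) (tt N116430 D219689) (tt N88847 (iv6 F385252)) (tt N83281 F385250))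
theorem Q89124 : ∀ i, i < 89124 → P i := stepQ 89123 Q89123 (allL N89123 (tt N107034 F456727) (tt N100258 (iv0 F431059)) (tt N53962 F385253) (tt N54096 F385254) (tt N88847 F385255) (tt N108357 (iv5 F462232)) (tt N53290 (iv6 D192024)) (tt N88846 F385256))
theorem Q89125 : ∀ i, i < 89125 → P i := stepQ 89124 Q89124 (allL N89124 (tt N53291 (iv1 D192025)) (tt N63358 F385257) (tt N70916 (iv2 F385260)) (tt N71509 F385261) (tt N72597 F385259) (tt N116431 D219690) (tt N114947 (iv6 F492709)) (tt N71513 F385258))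
theorem Q89126 : ∀ i, i < 89126 → P i := stepQ 89125 Q89125 (allL N89125 (tt N111334 (iv1 F475876)) (tt N71483 F385265) (tt N63354 F385264) (tt N53291 (iv3 D192026)) (tt N116427 (iv4 F500047)) (tt N116432 D219691) (tt N116429 (iv6 F500059)) (tt N111335 (iv7 F475880)))
theorem Q89127 : ∀ i, i < 89127 → P i := stepQ 89126 Q89126 (allL N89126 (tt N71523 F385266) (tt N116433 D219692) (tt N116092 (iv2 F498421)) (tt N116432 (iv3 F500077)) (tt N116434 D219693) (tt N53291 (iv5 D192027)) (tt N116435 D219694) (tt N116436 D219695))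
theorem Q89128 : ∀ i, i < 89128 → P i := stepQ 89127 Q89127 (allL N89127 (tt N70916 (iv1 F385270)) (tt N71513 F385271) (tt N63358 F385267) (tt N111335 (iv3 F475877)) (tt N53292 F385268) (tt N116436 (iv5 F500099)) (tt N70894 F385269) (tt N53291 (iv7 D192028)))
theorem Q89129 : ∀ i, i < 89129 → P i := stepQ 89128 Q89128 (allL N89128 (tt N116437 D219696) (tt N53360 F385274) (tt N53976 F385272) (tt N54075 F385273) (tt N114033 (iv4 F488294)) (tt N53293 (iv5 D192029)) (tt N108398 (iv6 F462411)) (tt N114947 (iv7 F492705)))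
theorem Q89130 : ∀ i, i < 89130 → P i := stepQ 89129 Q89129 (allL N89129 (tt N112028 (iv1 F479148)) (tt N107658 (iv0 F459115)) (tt N88859 F385275) (tt N53303 F385276) (tt N81870 F385278) (tt N53294 (iv5 D192030)) (tt N53297 F385277) (tt N88855 (iv7 F385279)))
theorem Q89131 : ∀ i, i < 89131 → P i := stepQ 89130 Q89130 (allL N89130 (tt N83235 (iv1 F385284)) (tt N54001 F385285) (tt N68274 F385281) (tt N53304 F385282) (tt N89666 (iv4 F387160)) (tt N88855 F385283) (tt N107604 (iv6 F458907)) (tt N53294 (iv7 D192031)))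
theorem Q89132 : ∀ i, i < 89132 → P i := stepQ 89131 Q89131 (allL N89131 (tt N109638 (iv1 F467872)) (tt N114315 (iv0 F489552)) (tt N54010 F385286) (tt N83228 F385287) (tt N114641 (iv4 F491150)) (tt N53295 (iv5 D192032)) (tt N73264 F385288) (tt N83244 F385289))
theorem Q89133 : ∀ i, i < 89133 → P i := stepQ 89132 Q89132 (allL N89132 (tt N114315 F489554) (tt N109638 (iv0 F467871)) (tt N83244 F385291) (tt N53989 F385292) (tt N114642 (iv4 F491158)) (tt N53296 (iv5 D192033)) (tt N109560 (iv6 F467527)) (tt N54010 F385293))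
theorem Q89134 : ∀ i, i < 89134 → P i := stepQ 89133 Q89133 (allL N89133 (tt N77561 (iv1 F385297)) (tt N77564 (iv0 F385298)) (tt N83245 F385294) (tt N53398 F385295) (tt N53668 F385296) (tt N100491 (iv5 F429152)) (tt N53296 (iv6 D192034)) (tt N91047 (iv7 F391749)))
theorem Q89135 : ∀ i, i < 89135 → P i := stepQ 89134 Q89134 (allL N89134 (tt N85122 F385304) (tt N53297 (iv0 D192035)) (tt N54019 F385301) (tt N76713 (iv3 F385300)) (tt N53729 F385299) (tt N114879 (iv5 F492305)) (tt N76711 F385302) (tt N83249 F385303))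
theorem Q89136 : ∀ i, i < 89136 → P i := stepQ 89135 Q89135 (allL N89135 (tt N53297 (iv1 D192036)) (tt N85122 F385305) (tt N83249 F385310) (tt N53991 (iv3 F385308)) (tt N53730 (iv4 F385309)) (tt N84083 F385307) (tt N88871 (iv6 F387261)) (tt N54019 F385306))
theorem Q89137 : ∀ i, i < 89137 → P i := stepQ 89136 Q89136 (allL N89136 (tt N83249 (iv1 F387115)) (tt N54019 F387114) (tt N85122 F385311) (tt N53307 F385312) (tt N89696 (iv4 F387247)) (tt N53298 F385313) (tt N99427 (iv6 F424532)) (tt N53297 (iv7 D192037)))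
theorem Q89138 : ∀ i, i < 89138 → P i := stepQ 89137 Q89137 (allL N89137 (tt N113228 (iv1 F484594)) (tt N71292 (iv0 F427859)) (tt N113223 (iv2 F484562)) (tt N53522 F385314) (tt N72535 (iv4 F385316)) (tt N53299 (iv5 D192038)) (tt N72534 (iv6 F385317)) (tt N89035 F385315))
theorem Q89139 : ∀ i, i < 89139 → P i := stepQ 89138 Q89138 (allL N89138 (tt N113227 (iv1 F484592)) (tt N53300 (iv0 D192039)) (tt N113225 (iv2 F484574)) (tt N72453 F386142) (tt N116091 (iv4 F498414)) (tt N107493 (iv5 F458515)) (tt N116091 (iv6 F498416)) (tt N72595 (iv7 F386143)))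
theorem Q89140 : ∀ i, i < 89140 → P i := stepQ 89139 Q89139 (allL N89139 (tt N83265 F385320) (tt N89142 (iv0 F385334)) (tt N72383 F385318) (tt N114404 F489984) (tt N53300 (iv4 D192041)) (tt N100243 (iv5 F428113)) (tt N72368 F385319) (tt N90141 (iv7 F388668)))
theorem Q89141 : ∀ i, i < 89141 → P i := stepQ 89140 Q89140 (allL N89140 (tt N72595 (iv1 F385324)) (tt N113225 (iv0 F484578)) (tt N113227 (iv2 F484585)) (tt N89052 F385322) (tt N90141 F388669) (tt N53301 F385323) (tt N59645 (iv6 F410210)) (tt N53300 (iv7 D192042)))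
theorem Q89142 : ∀ i, i < 89142 → P i := stepQ 89141 Q89141 (allL N89141 (tt N54047 (iv1 F385330)) (tt N64729 F385331) (tt N71277 F385326) (tt N88855 F385327) (tt N71271 F385328) (tt N53304 F385329) (tt N107603 (iv6 F458899)) (tt N53303 (iv7 D192043)))
theorem Q89143 : ∀ i, i < 89143 → P i := stepQ 89142 Q89142 (allL N89142 (tt N89139 F385334) (tt N107272 F457736) (tt N54058 F385332) (tt N89112 (iv3 F385335)) (tt N53305 (iv4 D192044)) (tt N116438 D219697) (tt N90146 (iv6 F388682)) (tt N83264 F385333))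
theorem Q89144 : ∀ i, i < 89144 → P i := stepQ 89143 Q89143 (allL N89143 (tt N98376 (iv1 F420692)) (tt N53306 (iv0 D192045)) (tt N116091 F498418) (tt N71262 (iv3 F420693)) (tt N113225 (iv4 F484575)) (tt N113480 F485689) (tt N113225 (iv6 F484576)) (tt N113233 (iv7 F484628)))
theorem Q89145 : ∀ i, i < 89145 → P i := stepQ 89144 Q89144 (allL N89144 (tt N53306 (iv1 D192046)) (tt N98376 F420691) (tt N113233 (iv2 F484626)) (tt N116439 D219698) (tt N72595 F385336) (tt N116440 D219699) (tt N116185 (iv6 F498904)) (tt N116091 (iv7 F498420)))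
theorem Q89146 : ∀ i, i < 89146 → P i := stepQ 89145 Q89145 (allL N89145 (tt N89695 F392085) (tt N113257 F484734) (tt N98434 (iv2 F420913)) (tt N53306 (iv3 D192047)) (tt N114678 (iv4 F491330)) (tt N111202 (iv5 F475208)) (tt N71285 F385337) (tt N113256 (iv7 F484730)))
theorem Q89147 : ∀ i, i < 89147 → P i := stepQ 89146 Q89146 (allL N89146 (tt N113233 (iv1 F484630)) (tt N116091 F498419) (tt N98376 F420690) (tt N113256 (iv3 F484728)) (tt N53307 F385338) (tt N111207 (iv5 F475223)) (tt N116441 D219700) (tt N53306 (iv7 D192048)))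
theorem Q89148 : ∀ i, i < 89148 → P i := stepQ 89147 Q89147 (allL N89147 (tt N112871 F483071) (tt N114794 (iv0 F491906)) (tt N98387 F420734) (tt N99427 (iv3 F424531)) (tt N116441 (iv4 F500129)) (tt N71437 F385339) (tt N53307 (iv6 D192049)) (tt N107603 (iv7 F458900)))
theorem Q89149 : ∀ i, i < 89149 → P i := stepQ 89148 Q89148 (allL N89148 (tt N53867 (iv1 F385345)) (tt N64875 (iv0 F385344)) (tt N64652 F385340) (tt N53310 (iv3 D192050)) (tt N88620 F385341) (tt N106834 (iv5 F455894)) (tt N64634 F385342) (tt N53335 F385343))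
theorem Q89150 : ∀ i, i < 89150 → P i := stepQ 89149 Q89149 (allL N89149 (tt N53344 (iv1 F385348)) (tt N53311 (iv0 D192051)) (tt N53341 (iv2 F385349)) (tt N108399 (iv3 F462416)) (tt N63372 F385347) (tt N57462 F385346) (tt N107910 (iv6 F460234)) (tt N53342 (iv7 F385350)))
theorem Q89151 : ∀ i, i < 89151 → P i := stepQ 89150 Q89150 (allL N89150 (tt N53311 (iv1 D192052)) (tt N53344 F385351) (tt N53342 (iv2 F385355)) (tt N100582 (iv3 F429552)) (tt N63371 F385353) (tt N83832 F385354) (tt N104970 (iv6 F448202)) (tt N53341 F385352))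
theorem Q89152 : ∀ i, i < 89152 → P i := stepQ 89151 Q89151 (allL N89151 (tt N83245 F385361) (tt N91047 (iv0 F391750)) (tt N77564 F385356) (tt N53315 F385357) (tt N77625 F385358) (tt N77544 F385359) (tt N53313 (iv6 D192053)) (tt N77561 F385360))
theorem Q89153 : ∀ i, i < 89153 → P i := stepQ 89152 Q89152 (allL N89152 (tt N54734 F385366) (tt N90946 F391335) (tt N53350 F385362) (tt N54724 F385363) (tt N53315 F385364) (tt N76299 F385365) (tt N53314 (iv6 D192054)) (tt N89795 (iv7 F387593)))
theorem Q89154 : ∀ i, i < 89154 → P i := stepQ 89153 Q89153 (allL N89153 (tt N114947 (iv1 F492707)) (tt N53976 (iv0 F385369)) (tt N116437 F500104) (tt N53317 (iv3 D192055)) (tt N89638 (iv4 F387037)) (tt N114027 (iv5 F488261)) (tt N71116 F385367) (tt N53360 F385368))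
theorem Q89155 : ∀ i, i < 89155 → P i := stepQ 89154 Q89154 (allL N89154 (tt N53868 F385371) (tt N115785 (iv0 F496862)) (tt N115987 (iv2 F497918)) (tt N53318 (iv3 D192056)) (tt N89367 F386256) (tt N112397 (iv5 F480924)) (tt N116442 D219701) (tt N53357 F385370))
theorem Q89156 : ∀ i, i < 89156 → P i := stepQ 89155 Q89155 (allL N89155 (tt N99357 F424259) (tt N54538 F390673) (tt N53362 F385372) (tt N116442 (iv3 F500134)) (tt N63336 F385373) (tt N113598 (iv5 F486233)) (tt N53318 (iv6 D192057)) (tt N72702 F385374))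
theorem Q89157 : ∀ i, i < 89157 → P i := stepQ 89156 Q89156 (allL N89156 (tt N83975 (iv1 F385381)) (tt N87697 (iv0 F385380)) (tt N88619 F385375) (tt N74403 F385376) (tt N53322 F385377) (tt N74402 F385378) (tt N53321 (iv6 D192058)) (tt N80453 F385379))
theorem Q89158 : ∀ i, i < 89158 → P i := stepQ 89157 Q89157 (allL N89157 (tt N104150 (iv1 F444429)) (tt N70343 (iv0 F385384)) (tt N104148 F444415) (tt N53326 F385382) (tt N116443 D219702) (tt N53322 (iv5 D192059)) (tt N87349 F385383) (tt N94487 (iv7 F404693)))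
theorem Q89159 : ∀ i, i < 89159 → P i := stepQ 89158 Q89158 (allL N89158 (tt N54247 (iv1 F385389)) (tt N64275 F385390) (tt N64455 F385385) (tt N53327 F385386) (tt N80453 F385387) (tt N94487 (iv5 F404694)) (tt N64822 F385388) (tt N53322 (iv7 D192060)))
theorem Q89160 : ∀ i, i < 89160 → P i := stepQ 89159 Q89159 (allL N89159 (tt N107649 (iv1 F459072)) (tt N113865 F487529) (tt N54255 F385391) (tt N54125 F385392) (tt N106889 (iv4 F456147)) (tt N53325 (iv5 D192061)) (tt N71987 F385394) (tt N64691 F385393))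
theorem Q89161 : ∀ i, i < 89161 → P i := stepQ 89160 Q89160 (allL N89160 (tt N83298 (iv1 F385396)) (tt N54263 F385397) (tt N94147 (iv2 F403423)) (tt N94487 (iv3 F404692)) (tt N105086 (iv4 F448724)) (tt N53327 F385395) (tt N94484 (iv6 F404684)) (tt N53326 (iv7 D192062)))
theorem Q89162 : ∀ i, i < 89162 → P i := stepQ 89161 Q89161 (allL N89161 (tt N89667 (iv1 F387166)) (tt N88850 (iv0 F385400)) (tt N110289 (iv2 F470863)) (tt N53329 F385398) (tt N101043 (iv4 F431426)) (tt N53328 (iv5 D192063)) (tt N85564 F385399) (tt N94144 (iv7 F403413)))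
theorem Q89163 : ∀ i, i < 89163 → P i := stepQ 89162 Q89162 (allL N89162 (tt N85084 F385403) (tt N94006 F402798) (tt N94005 F402792) (tt N101044 (iv3 F431428)) (tt N53329 (iv4 D192064)) (tt N76410 F385402) (tt N85565 F385401) (tt N94004 F402787))
theorem Q89164 : ∀ i, i < 89164 → P i := stepQ 89163 Q89163 (allL N89163 (tt N64875 (iv1 F385407)) (tt N53867 F385406) (tt N53335 (iv2 D192065)) (tt N110290 (iv3 F470871)) (tt N75798 F385404) (tt N106833 (iv5 F455888)) (tt N68396 (iv6 F385414)) (tt N64652 F385405))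
theorem Q89165 : ∀ i, i < 89165 → P i := stepQ 89164 Q89164 (allL N89164 (tt N68398 (iv1 F385412)) (tt N63447 (iv0 F385411)) (tt N68396 F385413) (tt N53337 F385408) (tt N68417 F385409) (tt N100937 (iv5 F431030)) (tt N53335 (iv6 D192066)) (tt N64648 F385410))
theorem Q89166 : ∀ i, i < 89166 → P i := stepQ 89165 Q89165 (allL N89165 (tt N82611 F385415) (tt N89962 F388114) (tt N89960 F388110) (tt N100937 F431031) (tt N116444 D219703) (tt N53337 (iv5 D192067)) (tt N108437 (iv6 F462556)) (tt N89959 F388108))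
theorem Q89167 : ∀ i, i < 89167 → P i := stepQ 89166 Q89166 (allL N89166 (tt N89074 F385418) (tt N76495 F385419) (tt N77317 F385416) (tt N107939 (iv3 F460378)) (tt N106902 (iv4 F456212)) (tt N53340 (iv5 D192068)) (tt N108438 (iv6 F462561)) (tt N77315 F385417))
theorem Q89168 : ∀ i, i < 89168 → P i := stepQ 89167 Q89167 (allL N89167 (tt N110998 (iv1 F474164)) (tt N79161 (iv0 F385421)) (tt N104978 (iv2 F448234)) (tt N53341 (iv3 D192069)) (tt N116445 D219704) (tt N76742 F385420) (tt N116446 D219705) (tt N100582 (iv7 F429553)))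
theorem Q89169 : ∀ i, i < 89169 → P i := stepQ 89168 Q89168 (allL N89168 (tt N107912 (iv1 F460253)) (tt N71627 (iv0 F385423)) (tt N107910 F460235) (tt N116446 (iv3 F500160)) (tt N58545 F385422) (tt N109756 (iv5 F468471)) (tt N53341 (iv6 D192070)) (tt N107911 (iv7 F460241)))
theorem Q89170 : ∀ i, i < 89170 → P i := stepQ 89169 Q89169 (allL N89169 (tt N112476 (iv1 F481242)) (tt N77769 (iv0 F385428)) (tt N110988 (iv2 F474105)) (tt N53343 (iv3 D192071)) (tt N53392 F385424) (tt N82951 F385425) (tt N53365 F385426) (tt N76041 F385427))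
theorem Q89171 : ∀ i, i < 89171 → P i := stepQ 89170 Q89170 (allL N89170 (tt N115987 (iv1 F497924)) (tt N53357 (iv0 F385431)) (tt N115785 (iv2 F496859)) (tt N53405 F385429) (tt N116447 D219706) (tt N53345 (iv5 D192072)) (tt N71483 (iv6 F385432)) (tt N53868 F385430))
theorem Q89172 : ∀ i, i < 89172 → P i := stepQ 89171 Q89171 (allL N89171 (tt N108343 (iv1 F462164)) (tt N54453 F385436) (tt N53347 F385433) (tt N73916 F385434) (tt N90969 (iv4 F391414)) (tt N53346 (iv5 D192073)) (tt N73915 (iv6 F385435)) (tt N91833 (iv7 F394608)))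
theorem Q89173 : ∀ i, i < 89173 → P i := stepQ 89172 Q89172 (allL N89172 (tt N112031 F479167) (tt N54459 (iv0 F385441)) (tt N53348 F385437) (tt N77564 F385438) (tt N55153 F385439) (tt N77563 F385440) (tt N53346 (iv6 D192074)) (tt N91908 (iv7 F394915)))
theorem Q89174 : ∀ i, i < 89174 → P i := stepQ 89173 Q89173 (allL N89173 (tt N91833 F394611) (tt N53347 (iv0 D192075)) (tt N108343 (iv2 F462168)) (tt N53407 F385444) (tt N71944 F385443) (tt N81558 F385442) (tt N106238 (iv6 F453711)) (tt N54453 (iv7 F385445)))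
theorem Q89175 : ∀ i, i < 89175 → P i := stepQ 89174 Q89174 (allL N89174 (tt N53347 (iv1 D192076)) (tt N91833 (iv0 F394609)) (tt N54453 F385978) (tt N54194 (iv3 F385976)) (tt N71943 (iv4 F385447)) (tt N107500 (iv5 F458549)) (tt N90495 (iv6 F389823)) (tt N108343 (iv7 F462165)))
theorem Q89176 : ∀ i, i < 89176 → P i := stepQ 89175 Q89175 (allL N89175 (tt N89277 F385894) (tt N90966 (iv0 F391403)) (tt N90969 F391418) (tt N73612 F385446) (tt N53347 (iv4 D192077)) (tt N116448 D219707) (tt N92473 (iv6 F397116)) (tt N90970 (iv7 F391420)))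
theorem Q89177 : ∀ i, i < 89177 → P i := stepQ 89176 Q89176 (allL N89176 (tt N53348 (iv1 D192078)) (tt N91908 (iv0 F394916)) (tt N54459 F385451) (tt N82774 (iv3 F385449)) (tt N87013 F385452) (tt N62998 F385448) (tt N83373 (iv6 F385450)) (tt N112031 (iv7 F479165)))
theorem Q89178 : ∀ i, i < 89178 → P i := stepQ 89177 Q89177 (allL N89177 (tt N84038 F385457) (tt N100584 F429564) (tt N77563 F385453) (tt N53351 F385454) (tt N76253 F385455) (tt N53348 (iv5 D192079)) (tt N101317 (iv6 F432634)) (tt N78687 (iv7 F385461)))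
theorem Q89179 : ∀ i, i < 89179 → P i := stepQ 89178 Q89178 (allL N89178 (tt N54459 (iv1 F385466)) (tt N112031 (iv0 F479166)) (tt N91908 (iv2 F394913)) (tt N53352 F385462) (tt N55498 F385463) (tt N78687 F385464) (tt N82750 F385465) (tt N53348 (iv7 D192080)))
theorem Q89180 : ∀ i, i < 89180 → P i := stepQ 89179 Q89179 (allL N89179 (tt N53360 F385469) (tt N116437 F500105) (tt N114947 (iv2 F492703)) (tt N53396 F385467) (tt N72171 F385471) (tt N53353 (iv5 D192081)) (tt N70916 (iv6 F385470)) (tt N53976 F385468))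
theorem Q89181 : ∀ i, i < 89181 → P i := stepQ 89180 Q89180 (allL N89180 (tt N84444 (iv1 F385475)) (tt N53355 (iv0 D192082)) (tt N54503 (iv2 F385474)) (tt N55599 F385473) (tt N54746 F385472) (tt N113046 (iv5 F483708)) (tt N83334 F385477) (tt N82766 F385476))
theorem Q89182 : ∀ i, i < 89182 → P i := stepQ 89181 Q89181 (allL N89181 (tt N115785 (iv1 F496863)) (tt N53868 F385478) (tt N53357 (iv2 D192083)) (tt N116437 F500107) (tt N89366 (iv4 F386259)) (tt N112396 (iv5 F480915)) (tt N116449 D219708) (tt N115987 (iv7 F497922)))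
theorem Q89183 : ∀ i, i < 89183 → P i := stepQ 89182 Q89182 (allL N89182 (tt N89264 (iv1 F385840)) (tt N89360 (iv0 F386238)) (tt N89366 F386258) (tt N63154 F385479) (tt N53357 (iv4 D192084)) (tt N108723 (iv5 F463699)) (tt N82310 (iv6 F385480)) (tt N89367 (iv7 F386257)))
theorem Q89184 : ∀ i, i < 89184 → P i := stepQ 89183 Q89183 (allL N89183 (tt N71121 F385483) (tt N116450 D219709) (tt N116449 (iv2 F500175)) (tt N53359 F385481) (tt N82310 F385482) (tt N104975 (iv5 F448222)) (tt N53357 (iv6 D192085)) (tt N104971 (iv7 F448206)))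
theorem Q89185 : ∀ i, i < 89185 → P i := stepQ 89184 Q89184 (allL N89184 (tt N72357 F385486) (tt N72359 F385487) (tt N101469 (iv2 F433053)) (tt N104975 F448223) (tt N71296 F385485) (tt N53359 (iv5 D192086)) (tt N53820 F385484) (tt N101096 (iv7 F431653)))
theorem Q89186 : ∀ i, i < 89186 → P i := stepQ 89185 Q89185 (allL N89185 (tt N53976 F385489) (tt N114947 (iv0 F492706)) (tt N53360 (iv2 D192087)) (tt N115987 (iv3 F497919)) (tt N89639 F387042) (tt N86469 F385488) (tt N71449 F453491) (tt N116437 (iv7 F500106)))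
theorem Q89187 : ∀ i, i < 89187 → P i := stepQ 89186 Q89186 (allL N89186 (tt N85014 F385490) (tt N83282 (iv0 F385491)) (tt N89639 F387041) (tt N107143 F457184) (tt N53360 (iv4 D192088)) (tt N109773 (iv5 F468546)) (tt N107641 (iv6 F459052)) (tt N89638 F387039))
theorem Q89188 : ∀ i, i < 89188 → P i := stepQ 89187 Q89187 (allL N89187 (tt N71444 F385493) (tt N71144 F385494) (tt N71449 (iv2 F453490)) (tt N53362 F385492) (tt N107641 (iv4 F459051)) (tt N108409 (iv5 F462458)) (tt N53360 (iv6 D192089)) (tt N71448 F385516))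
theorem Q89189 : ∀ i, i < 89189 → P i := stepQ 89188 Q89188 (allL N89188 (tt N63770 F385499) (tt N63273 (iv0 F385500)) (tt N63769 F385495) (tt N53361 (iv3 D192090)) (tt N107143 (iv4 F457180)) (tt N77629 F385496) (tt N72703 F385497) (tt N63337 F385498))
theorem Q89190 : ∀ i, i < 89190 → P i := stepQ 89189 Q89189 (allL N89189 (tt N72702 (iv1 F385505)) (tt N53362 (iv0 D192091)) (tt N99357 (iv2 F424256)) (tt N53416 (iv3 F385503)) (tt N82228 F385501) (tt N108425 (iv5 F462508)) (tt N70906 F385502) (tt N54538 F385504))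
theorem Q89191 : ∀ i, i < 89191 → P i := stepQ 89190 Q89190 (allL N89190 (tt N53362 (iv1 D192092)) (tt N72702 F385506) (tt N54538 (iv2 F385509)) (tt N54218 F385508) (tt N82227 F385507) (tt N108424 (iv5 F462505)) (tt N107912 (iv6 F460251)) (tt N99357 (iv7 F424261)))
theorem Q89192 : ∀ i, i < 89192 → P i := stepQ 89191 Q89191 (allL N89191 (tt N111834 (iv1 F478215)) (tt N111827 (iv0 F478178)) (tt N113598 (iv2 F486230)) (tt N108409 F462460) (tt N77045 F385511) (tt N53362 (iv5 D192093)) (tt N77049 F385510) (tt N116451 D219710))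
theorem Q89193 : ∀ i, i < 89193 → P i := stepQ 89192 Q89192 (allL N89192 (tt N54538 F390675) (tt N99357 F424260) (tt N72702 F385512) (tt N71448 (iv3 F385515)) (tt N56118 F385513) (tt N116451 (iv5 F500192)) (tt N72182 F385514) (tt N53362 (iv7 D192094)))
theorem Q89194 : ∀ i, i < 89194 → P i := stepQ 89193 Q89193 (allL N89193 (tt N61376 (iv1 F385518)) (tt N53365 (iv0 D192095)) (tt N63151 (iv2 F385519)) (tt N107141 (iv3 F457168)) (tt N96877 (iv4 F414402)) (tt N81264 F385517) (tt N78082 F385520) (tt N100344 (iv7 F428511)))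
theorem Q89195 : ∀ i, i < 89195 → P i := stepQ 89194 Q89194 (allL N89194 (tt N53365 (iv1 D192096)) (tt N61376 F385521) (tt N100344 (iv2 F428507)) (tt N63119 (iv3 F385524)) (tt N96875 (iv4 F414390)) (tt N81340 F385523) (tt N74312 F385525) (tt N63151 F385522))
theorem Q89196 : ∀ i, i < 89196 → P i := stepQ 89195 Q89195 (allL N89195 (tt N53366 (iv1 D192097)) (tt N82306 F385526) (tt N82319 F385530) (tt N64485 (iv3 F385528)) (tt N100492 (iv4 F429159)) (tt N100064 (iv5 F427410)) (tt N64482 (iv6 F385529)) (tt N54279 F385527))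
theorem Q89197 : ∀ i, i < 89197 → P i := stepQ 89196 Q89196 (allL N89196 (tt N101627 (iv1 F433610)) (tt N106886 F456134) (tt N54356 F385531) (tt N66526 (iv3 F385534)) (tt N53368 (iv4 D192098)) (tt N66525 F385533) (tt N105948 (iv6 F452457)) (tt N54357 F385532))
theorem Q89198 : ∀ i, i < 89198 → P i := stepQ 89197 Q89197 (allL N89197 (tt N53379 (iv1 F385538)) (tt N53369 (iv0 D192099)) (tt N54358 (iv2 F385537)) (tt N91650 (iv3 F393895)) (tt N53756 F385535) (tt N90571 (iv5 F390141)) (tt N60136 (iv6 F385540)) (tt N54359 F385539))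
theorem Q89199 : ∀ i, i < 89199 → P i := stepQ 89198 Q89198 (allL N89198 (tt N89924 F388012) (tt N88633 F385546) (tt N54361 F385543) (tt N74028 F385544) (tt N89952 (iv4 F388091)) (tt N53369 (iv5 D192100)) (tt N108501 (iv6 F462868)) (tt N54380 F385545))
theorem Q89200 : ∀ i, i < 89200 → P i := stepQ 89199 Q89199 (allL N89199 (tt N54366 F385551) (tt N53370 (iv0 D192101)) (tt N54363 (iv2 F385549)) (tt N112950 (iv3 F483344)) (tt N111628 (iv4 F477217)) (tt N84291 F385547) (tt N53402 F385548) (tt N54364 (iv7 F385550)))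
theorem Q89201 : ∀ i, i < 89201 → P i := stepQ 89200 Q89200 (allL N89200 (tt N53370 (iv1 D192102)) (tt N54366 F385552) (tt N54364 (iv2 F385555)) (tt N105020 (iv3 F448415)) (tt N115897 (iv4 F497470)) (tt N84290 F385554) (tt N106278 (iv6 F453861)) (tt N54363 F385553))
theorem Q89202 : ∀ i, i < 89202 → P i := stepQ 89201 Q89201 (allL N89201 (tt N54364 (iv1 F385560)) (tt N54363 F385561) (tt N54366 F385556) (tt N70642 F385557) (tt N95395 (iv4 F408102)) (tt N88828 F385558) (tt N54384 F385559) (tt N53370 (iv7 D192103)))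
theorem Q89203 : ∀ i, i < 89203 → P i := stepQ 89202 Q89202 (allL N89202 (tt N53934 F385566) (tt N53936 F385565) (tt N54367 F385562) (tt N109762 (iv3 F468496)) (tt N116452 D219711) (tt N53371 (iv5 D192104)) (tt N84300 F385563) (tt N54291 F385564))
theorem Q89204 : ∀ i, i < 89204 → P i := stepQ 89203 Q89203 (allL N89203 (tt N66468 (iv1 F385571)) (tt N106221 (iv0 F453623)) (tt N66495 F385567) (tt N110397 (iv3 F471393)) (tt N53375 (iv4 D192105)) (tt N80732 F385570) (tt N80706 F385568) (tt N54339 F385569))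
theorem Q89205 : ∀ i, i < 89205 → P i := stepQ 89204 Q89204 (allL N89204 (tt N81083 (iv1 F385578)) (tt N62138 F385577) (tt N55044 F385572) (tt N53377 F385573) (tt N83226 F385576) (tt N53376 (iv5 D192106)) (tt N54927 F385574) (tt N54347 F385575))
theorem Q89206 : ∀ i, i < 89206 → P i := stepQ 89205 Q89205 (allL N89205 (tt N70936 F385581) (tt N70935 F385582) (tt N54376 F385579) (tt N54581 (iv3 F385583)) (tt N53377 (iv4 D192107)) (tt N89952 (iv5 F388090)) (tt N54578 (iv6 F385584)) (tt N54351 F385580))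
theorem Q89207 : ∀ i, i < 89207 → P i := stepQ 89206 Q89206 (allL N89206 (tt N71342 (iv1 F385591)) (tt N71341 (iv0 F385590)) (tt N54377 F385585) (tt N54927 F385586) (tt N54578 F385587) (tt N55046 (iv5 F385589)) (tt N53377 (iv6 D192108)) (tt N55045 F385588))
theorem Q89208 : ∀ i, i < 89208 → P i := stepQ 89207 Q89207 (allL N89207 (tt N53574 F385596) (tt N53560 F385597) (tt N54378 F385592) (tt N55340 F385593) (tt N74611 F385598) (tt N53378 (iv5 D192109)) (tt N55046 F385594) (tt N81077 F385595))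
theorem Q89209 : ∀ i, i < 89209 → P i := stepQ 89208 Q89208 (allL N89208 (tt N103198 (iv1 F440529)) (tt N81792 (iv0 F385602)) (tt N74030 F385600) (tt N53379 (iv3 D192110)) (tt N110397 (iv4 F471394)) (tt N91627 (iv5 F393834)) (tt N112121 F479593) (tt N54360 F385601))
theorem Q89210 : ∀ i, i < 89210 → P i := stepQ 89209 Q89209 (allL N89209 (tt N88633 F385606) (tt N89924 F388013) (tt N54380 F385603) (tt N91627 F393833) (tt N70937 F385605) (tt N53379 (iv5 D192111)) (tt N116453 D219712) (tt N54361 F385604))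
theorem Q89211 : ∀ i, i < 89211 → P i := stepQ 89210 Q89210 (allL N89210 (tt N90983 (iv1 F391466)) (tt N54477 (iv0 F385609)) (tt N54381 F385607) (tt N112121 F479592) (tt N53380 F385608) (tt N112157 (iv5 F479797)) (tt N53379 (iv6 D192112)) (tt N90981 (iv7 F391456)))
theorem Q89212 : ∀ i, i < 89212 → P i := stepQ 89211 Q89211 (allL N89211 (tt N54384 (iv1 F385614)) (tt N53380 (iv0 D192113)) (tt N54382 (iv2 F385612)) (tt N107266 (iv3 F457706)) (tt N116454 D219713) (tt N53964 F385611) (tt N54470 F385610) (tt N53400 F385613))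
theorem Q89213 : ∀ i, i < 89213 → P i := stepQ 89212 Q89212 (allL N89212 (tt N71651 F385618) (tt N71648 (iv0 F385619)) (tt N54383 F385615) (tt N72427 F385616) (tt N116455 D219714) (tt N53380 (iv5 D192114)) (tt N53382 F385617) (tt N89607 (iv7 F386941)))
theorem Q89214 : ∀ i, i < 89214 → P i := stepQ 89213 Q89213 (allL N89213 (tt N53400 (iv1 F385625)) (tt N54382 F385626) (tt N54384 F385622) (tt N81425 F385623) (tt N90981 (iv4 F391457)) (tt N89607 (iv5 F386940)) (tt N54366 F385624) (tt N53380 (iv7 D192115)))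
theorem Q89215 : ∀ i, i < 89215 → P i := stepQ 89214 Q89214 (allL N89214 (tt N53576 F385629) (tt N53564 F385630) (tt N54385 F385627) (tt N56970 (iv3 F385631)) (tt N53382 (iv4 D192116)) (tt N56969 (iv5 F385632)) (tt N116455 (iv6 F500218)) (tt N74621 F385628))
theorem Q89216 : ∀ i, i < 89216 → P i := stepQ 89215 Q89215 (allL N89215 (tt N53388 (iv1 F385635)) (tt N53384 (iv0 D192117)) (tt N54391 (iv2 F385634)) (tt N87631 F385638) (tt N83919 F385633) (tt N89924 (iv5 F388011)) (tt N55082 (iv6 F385637)) (tt N54392 F385636))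
theorem Q89217 : ∀ i, i < 89217 → P i := stepQ 89216 Q89216 (allL N89216 (tt N90525 (iv1 F389958)) (tt N73628 F385642) (tt N54394 F385639) (tt N74026 F385640) (tt N96236 (iv4 F411648)) (tt N53384 (iv5 D192118)) (tt N116456 D219715) (tt N54401 F385641))
theorem Q89218 : ∀ i, i < 89218 → P i := stepQ 89217 Q89217 (allL N89217 (tt N54399 (iv1 F385646)) (tt N53386 (iv0 D192119)) (tt N54397 (iv2 F385645)) (tt N110996 F474151) (tt N116457 D219716) (tt N85589 F385644) (tt N53417 F385643) (tt N54398 F385647))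
theorem Q89219 : ∀ i, i < 89219 → P i := stepQ 89218 Q89218 (allL N89218 (tt N79608 F385649) (tt N111929 F478716) (tt N107103 F456987) (tt N112847 (iv3 F482939)) (tt N53387 (iv4 D192120)) (tt N79595 F385650) (tt N116458 D219717) (tt N54388 F385648))
theorem Q89220 : ∀ i, i < 89220 → P i := stepQ 89219 Q89219 (allL N89219 (tt N97059 F415266) (tt N71124 (iv0 F385653)) (tt N99860 (iv2 F426584)) (tt N53389 F385651) (tt N116458 (iv4 F500233)) (tt N64667 F385652) (tt N53387 (iv6 D192121)) (tt N99895 (iv7 F426717)))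
theorem Q89221 : ∀ i, i < 89221 → P i := stepQ 89220 Q89220 (allL N89220 (tt N103989 F443678) (tt N55057 (iv0 F385686)) (tt N108653 (iv2 F463371)) (tt N53388 (iv3 D192122)) (tt N112847 (iv4 F482944)) (tt N116459 D219718) (tt N95562 (iv6 F408663)) (tt N54393 F385654))
theorem Q89222 : ∀ i, i < 89222 → P i := stepQ 89221 Q89221 (allL N89221 (tt N73628 F385658) (tt N90525 (iv0 F389957)) (tt N54401 F385655) (tt N116459 (iv3 F500239)) (tt N96235 (iv4 F411639)) (tt N53388 (iv5 D192123)) (tt N64098 F385656) (tt N54394 F385657))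
theorem Q89223 : ∀ i, i < 89223 → P i := stepQ 89222 Q89222 (allL N89222 (tt N54406 (iv1 F385663)) (tt N53389 (iv0 D192124)) (tt N54404 (iv2 F385660)) (tt N108354 (iv3 F462211)) (tt N95445 (iv4 F408207)) (tt N54489 F385659) (tt N71635 F385661) (tt N54405 F385662))
theorem Q89224 : ∀ i, i < 89224 → P i := stepQ 89223 Q89223 (allL N89223 (tt N54405 (iv1 F385668)) (tt N54404 F385669) (tt N54406 F385664) (tt N99895 (iv3 F426716)) (tt N58443 F385665) (tt N84143 F385666) (tt N54399 F385667) (tt N53389 (iv7 D192125)))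
theorem Q89225 : ∀ i, i < 89225 → P i := stepQ 89224 Q89224 (allL N89224 (tt N54421 F385671) (tt N53393 F385709) (tt N54418 F385672) (tt N53390 (iv3 D192126)) (tt N112352 (iv4 F480708)) (tt N106886 (iv5 F456131)) (tt N116460 D219719) (tt N54410 F385670))
theorem Q89226 : ∀ i, i < 89226 → P i := stepQ 89225 Q89225 (allL N89225 (tt N60309 F385675) (tt N90523 (iv0 F389951)) (tt N54408 F385673) (tt N106886 F456136) (tt N107956 (iv4 F460468)) (tt N53390 (iv5 D192127)) (tt N116461 D219720) (tt N54411 F385674))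
theorem Q89227 : ∀ i, i < 89227 → P i := stepQ 89226 Q89226 (allL N89226 (tt N116457 (iv1 F500230)) (tt N71629 (iv0 F386005)) (tt N54409 F385676) (tt N116460 (iv3 F500246)) (tt N113747 (iv4 F486938)) (tt N116462 D219721) (tt N53390 (iv6 D192128)) (tt N95449 (iv7 F408229)))
theorem Q89228 : ∀ i, i < 89228 → P i := stepQ 89227 Q89227 (allL N89227 (tt N109538 F467439) (tt N91471 (iv0 F422663)) (tt N110834 (iv2 F473360)) (tt N53391 (iv3 D192129)) (tt N62167 F385677) (tt N99280 F423917) (tt N62111 F385678) (tt N54407 F385679))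
theorem Q89229 : ∀ i, i < 89229 → P i := stepQ 89228 Q89228 (allL N89228 (tt N90523 (iv1 F389952)) (tt N60309 F385684) (tt N54411 F385681) (tt N99280 F423918) (tt N112354 (iv4 F480714)) (tt N53391 (iv5 D192130)) (tt N80924 F385682) (tt N54408 F385683))
theorem Q89230 : ∀ i, i < 89230 → P i := stepQ 89229 Q89229 (allL N89229 (tt N74171 (iv1 F385703)) (tt N53392 (iv0 D192131)) (tt N76889 (iv2 F385687)) (tt N91492 F393356) (tt N63501 F385685) (tt N97354 F416462) (tt N74157 (iv6 F393595)) (tt N91616 (iv7 F406824)))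
theorem Q89231 : ∀ i, i < 89231 → P i := stepQ 89230 Q89230 (allL N89230 (tt N53392 (iv1 D192132)) (tt N74171 F385696) (tt N91616 F406822) (tt N74190 (iv3 F385691)) (tt N63382 F385690) (tt N97353 (iv5 F416461)) (tt N82131 F385692) (tt N76889 F385689))
theorem Q89232 : ∀ i, i < 89232 → P i := stepQ 89231 Q89231 (allL N89231 (tt N76889 (iv1 F385705)) (tt N91616 F406823) (tt N53392 (iv2 D192133)) (tt N54415 F385693) (tt N110988 (iv4 F474110)) (tt N95338 F407905) (tt N53425 F385694) (tt N74171 (iv7 F385695)))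
theorem Q89233 : ∀ i, i < 89233 → P i := stepQ 89232 Q89232 (allL N89232 (tt N95341 (iv1 F407927)) (tt N59791 F385698) (tt N95338 (iv2 F407907)) (tt N53393 F385697) (tt N107350 (iv4 F458054)) (tt N53392 (iv5 D192134)) (tt N103998 (iv6 F443713)) (tt N95339 (iv7 F407910)))
theorem Q89234 : ∀ i, i < 89234 → P i := stepQ 89233 Q89233 (allL N89233 (tt N91616 F406821) (tt N76889 (iv0 F385704)) (tt N74171 F385699) (tt N53394 F385700) (tt N76041 F385701) (tt N95339 (iv5 F407914)) (tt N63380 F385702) (tt N53392 (iv7 D192135)))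
theorem Q89235 : ∀ i, i < 89235 → P i := stepQ 89234 Q89234 (allL N89234 (tt N53393 (iv1 D192137)) (tt N54421 F385706) (tt N54410 (iv2 F385707)) (tt N110834 (iv3 F473366)) (tt N112351 (iv4 F480704)) (tt N101627 (iv5 F433608)) (tt N96619 (iv6 F413208)) (tt N54418 F385708))
theorem Q89236 : ∀ i, i < 89236 → P i := stepQ 89235 Q89235 (allL N89235 (tt N89952 (iv1 F388089)) (tt N70937 (iv0 F385713)) (tt N54419 F385710) (tt N116463 D219722) (tt N53393 (iv4 D192138)) (tt N54331 F385711) (tt N89956 (iv6 F388099)) (tt N54330 (iv7 F385712)))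
theorem Q89237 : ∀ i, i < 89237 → P i := stepQ 89236 Q89236 (allL N89236 (tt N54410 (iv1 F385718)) (tt N54418 F385719) (tt N54421 F385714) (tt N95339 (iv3 F407913)) (tt N54330 F385715) (tt N53394 F385716) (tt N74189 F385717) (tt N53393 (iv7 D192139)))
theorem Q89238 : ∀ i, i < 89238 → P i := stepQ 89237 Q89237 (allL N89237 (tt N116202 F498988) (tt N116464 D219723) (tt N54473 F385720) (tt N77799 F385721) (tt N53400 F385722) (tt N58244 F385723) (tt N53399 (iv6 D192140)) (tt N116454 (iv7 F500213)))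
theorem Q89239 : ∀ i, i < 89239 → P i := stepQ 89238 Q89238 (allL N89238 (tt N54190 (iv1 F385729)) (tt N54104 (iv0 F385728)) (tt N54187 F385724) (tt N53402 (iv3 D192141)) (tt N71909 F385727) (tt N76918 F385725) (tt N112950 (iv6 F483346)) (tt N54188 F385726))
theorem Q89240 : ∀ i, i < 89240 → P i := stepQ 89239 Q89239 (allL N89239 (tt N53410 (iv1 D192142)) (tt N54480 F385730) (tt N54478 (iv2 F385735)) (tt N62495 (iv3 F385733)) (tt N91320 (iv4 F392718)) (tt N84237 F385732) (tt N55095 F385734) (tt N54479 F385731))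
theorem Q89241 : ∀ i, i < 89241 → P i := stepQ 89240 Q89240 (allL N89240 (tt N54210 (iv1 F388966)) (tt N54110 (iv0 F388954)) (tt N54208 F385736) (tt N53411 (iv3 D192143)) (tt N70217 F385738) (tt N101241 F432365) (tt N101242 (iv6 F432368)) (tt N54209 (iv7 F385741)))
theorem Q89242 : ∀ i, i < 89242 → P i := stepQ 89241 Q89241 (allL N89241 (tt N53413 (iv1 D192144)) (tt N70838 F385742) (tt N71474 (iv2 F385745)) (tt N108241 (iv3 F461647)) (tt N80825 F385744) (tt N113991 (iv5 F488097)) (tt N71467 (iv6 F385746)) (tt N70930 F385743))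
theorem Q89243 : ∀ i, i < 89243 → P i := stepQ 89242 Q89242 (allL N89242 (tt N71474 (iv1 F385751)) (tt N70930 F385752) (tt N70838 F385747) (tt N53418 F385748) (tt N67024 F385749) (tt N113954 (iv5 F487949)) (tt N54509 F385750) (tt N53413 (iv7 D192145)))
theorem Q89244 : ∀ i, i < 89244 → P i := stepQ 89243 Q89243 (allL N89243 (tt N69454 (iv1 F385758)) (tt N69453 F385759) (tt N67022 F385753) (tt N53415 F385754) (tt N66918 F385755) (tt N87239 F385756) (tt N53414 (iv6 D192146)) (tt N67025 F385757))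
theorem Q89245 : ∀ i, i < 89245 → P i := stepQ 89244 Q89244 (allL N89244 (tt N54535 (iv1 F385766)) (tt N53415 (iv0 D192147)) (tt N54532 (iv2 F385761)) (tt N116465 D219724) (tt N84408 (iv4 F390656)) (tt N114155 (iv5 F488781)) (tt N70888 F385760) (tt N54533 (iv7 F385762)))
theorem Q89246 : ∀ i, i < 89246 → P i := stepQ 89245 Q89245 (allL N89245 (tt N53415 (iv1 D192148)) (tt N54535 F385763) (tt N54533 (iv2 F385765)) (tt N116466 D219725) (tt N84409 F385936) (tt N114154 (iv5 F488774)) (tt N108517 F462910) (tt N54532 F385764))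
theorem Q89247 : ∀ i, i < 89247 → P i := stepQ 89246 Q89246 (allL N89246 (tt N111503 (iv1 F476634)) (tt N79640 F390666) (tt N54534 F385767) (tt N87239 F385768) (tt N87992 F385769) (tt N53415 (iv5 D192149)) (tt N113708 (iv6 F486756)) (tt N111502 (iv7 F476623)))
theorem Q89248 : ∀ i, i < 89248 → P i := stepQ 89247 Q89247 (allL N89247 (tt N54533 (iv1 F385774)) (tt N54532 F385775) (tt N54535 F385770) (tt N67025 F385771) (tt N53418 F385772) (tt N111502 (iv5 F476624)) (tt N54516 F385773) (tt N53415 (iv7 D192150)))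
theorem Q89249 : ∀ i, i < 89249 → P i := stepQ 89248 Q89248 (allL N89248 (tt N54556 (iv1 F385794)) (tt N53422 F385792) (tt N54536 F385776) (tt N62652 F385777) (tt N53416 (iv4 D192151)) (tt N87322 F385780) (tt N62651 F385778) (tt N54539 F385779))
theorem Q89250 : ∀ i, i < 89250 → P i := stepQ 89249 Q89249 (allL N89249 (tt N88828 F385784) (tt N54365 (iv0 F385785)) (tt N54537 F385782) (tt N108425 (iv3 F462507)) (tt N89894 (iv4 F387895)) (tt N53416 (iv5 D192152)) (tt N106892 (iv6 F456160)) (tt N54540 F385783))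
theorem Q89251 : ∀ i, i < 89251 → P i := stepQ 89250 Q89250 (allL N89250 (tt N54113 (iv1 F388985)) (tt N54219 F388986) (tt N54218 F385786) (tt N53417 (iv3 D192153)) (tt N107771 F459655) (tt N113971 (iv5 F488020)) (tt N110996 F474152) (tt N54217 F385787))
theorem Q89252 : ∀ i, i < 89252 → P i := stepQ 89251 Q89251 (allL N89251 (tt N53422 F385790) (tt N54556 F385791) (tt N54539 F385788) (tt N116467 D219726) (tt N53417 (iv4 D192154)) (tt N114152 (iv5 F488766)) (tt N116457 (iv6 F500227)) (tt N54536 F385789))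
theorem Q89253 : ∀ i, i < 89253 → P i := stepQ 89252 Q89252 (allL N89252 (tt N54551 (iv1 F385798)) (tt N54420 F385797) (tt N53419 (iv2 D192155)) (tt N54546 F385795) (tt N113297 (iv4 F484901)) (tt N113723 (iv5 F486842)) (tt N69431 (iv6 F385799)) (tt N54552 F385796))
theorem Q89254 : ∀ i, i < 89254 → P i := stepQ 89253 Q89253 (allL N89253 (tt N109612 (iv1 F467741)) (tt N113298 F484909) (tt N113297 (iv2 F484903)) (tt N110861 (iv3 F473487)) (tt N53419 (iv4 D192156)) (tt N116468 D219727) (tt N103955 (iv6 F443515)) (tt N54553 F385800))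
theorem Q89255 : ∀ i, i < 89255 → P i := stepQ 89254 Q89254 (allL N89254 (tt N99704 (iv1 F425822)) (tt N110911 (iv0 F473750)) (tt N54549 F385804) (tt N92211 F396274) (tt N86085 F385806) (tt N53420 (iv5 D192158)) (tt N83815 F385805) (tt N97311 (iv7 F416317)))
theorem Q89256 : ∀ i, i < 89256 → P i := stepQ 89255 Q89255 (allL N89255 (tt N54520 (iv1 F385810)) (tt N54518 F385811) (tt N54550 F385807) (tt N69432 F385808) (tt N113722 (iv4 F486835)) (tt N97311 (iv5 F416316)) (tt N54556 F385809) (tt N53420 (iv7 D192159)))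
theorem Q89257 : ∀ i, i < 89257 → P i := stepQ 89256 Q89256 (allL N89256 (tt N106913 (iv1 F456259)) (tt N77881 (iv0 F415561)) (tt N106912 F456253) (tt N101615 (iv3 F433563)) (tt N53421 (iv4 D192160)) (tt N109481 (iv5 F467189)) (tt N116469 D219728) (tt N54547 F385812))
theorem Q89258 : ∀ i, i < 89258 → P i := stepQ 89257 Q89257 (allL N89257 (tt N116470 D219729) (tt N116471 D219730) (tt N109537 (iv2 F467427)) (tt N53422 F385813) (tt N116469 (iv4 F500292)) (tt N114176 F488851) (tt N53421 (iv6 D192161)) (tt N116472 D219731))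
theorem Q89259 : ∀ i, i < 89259 → P i := stepQ 89258 Q89258 (allL N89258 (tt N87993 (iv1 F388072)) (tt N79635 F385815) (tt N54555 F385814) (tt N114176 F488848) (tt N89945 (iv4 F388069)) (tt N53422 (iv5 D192162)) (tt N113716 (iv6 F486799)) (tt N111483 (iv7 F476552)))
theorem Q89260 : ∀ i, i < 89260 → P i := stepQ 89259 Q89259 (allL N89259 (tt N54539 (iv1 F385818)) (tt N54536 F385819) (tt N54556 F385816) (tt N116472 (iv3 F500310)) (tt N113724 (iv4 F486848)) (tt N111483 (iv5 F476553)) (tt N54550 F385817) (tt N53422 (iv7 D192163)))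
theorem Q89261 : ∀ i, i < 89261 → P i := stepQ 89260 Q89260 (allL N89260 (tt N90684 F390516) (tt N113547 F485973) (tt N54580 F385820) (tt N70923 F385821) (tt N114708 (iv4 F491459)) (tt N53426 (iv5 D192164)) (tt N110383 F471329) (tt N54583 F385822))
theorem Q89262 : ∀ i, i < 89262 → P i := stepQ 89261 Q89261 (allL N89261 (tt N113547 (iv1 F485972)) (tt N90684 (iv0 F390515)) (tt N54583 F385823) (tt N71477 F385824) (tt N114716 (iv4 F491497)) (tt N53427 (iv5 D192165)) (tt N87690 (iv6 F385826)) (tt N54580 F385825))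
theorem Q89263 : ∀ i, i < 89263 → P i := stepQ 89262 Q89262 (allL N89262 (tt N53508 F385831) (tt N53507 F385832) (tt N53431 F385828) (tt N54652 F385829) (tt N116473 D219732) (tt N53430 (iv5 D192166)) (tt N106639 F473101) (tt N53505 F385830))
theorem Q89264 : ∀ i, i < 89264 → P i := stepQ 89263 Q89263 (allL N89263 (tt N53431 (iv1 D192167)) (tt N53505 F385833) (tt N53507 F385836) (tt N57517 (iv3 F385835)) (tt N57540 F385837) (tt N90974 (iv5 F391436)) (tt N57516 F385838) (tt N53508 F385834))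
theorem Q89265 : ∀ i, i < 89265 → P i := stepQ 89264 Q89264 (allL N89264 (tt N94264 F403896) (tt N89182 F385840) (tt N116473 (iv2 F500316)) (tt N90705 (iv3 F390572)) (tt N53431 (iv4 D192168)) (tt N108998 F464831) (tt N100104 F427527) (tt N53509 F385839))
theorem Q89266 : ∀ i, i < 89266 → P i := stepQ 89265 Q89265 (allL N89265 (tt N106640 (iv1 F455122)) (tt N92326 (iv0 F396715)) (tt N106639 F473100) (tt N53432 F385841) (tt N100104 (iv4 F427526)) (tt N83530 F385842) (tt N53431 (iv6 D192169)) (tt N106638 F455118))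
theorem Q89267 : ∀ i, i < 89267 → P i := stepQ 89266 Q89266 (allL N89266 (tt N54659 (iv1 F385843)) (tt N53432 (iv0 D192170)) (tt N54657 (iv2 F385850)) (tt N100184 (iv3 F427888)) (tt N54576 F385844) (tt N116474 D219733) (tt N89556 (iv6 F386758)) (tt N54658 (iv7 F385847)))
theorem Q89268 : ∀ i, i < 89268 → P i := stepQ 89267 Q89267 (allL N89267 (tt N53432 (iv1 D192171)) (tt N54659 F385852) (tt N54658 (iv2 F385855)) (tt N89992 (iv3 F388229)) (tt N54577 F385854) (tt N116475 D219734) (tt N106468 (iv6 F454580)) (tt N54657 F385853))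
theorem Q89269 : ∀ i, i < 89269 → P i := stepQ 89268 Q89268 (allL N89268 (tt N54770 F385859) (tt N54769 F385860) (tt N53438 F385856) (tt N116476 D219735) (tt N53435 (iv4 D192172)) (tt N105422 (iv5 F450187)) (tt N72039 F385857) (tt N54761 F385858))
theorem Q89270 : ∀ i, i < 89270 → P i := stepQ 89269 Q89269 (allL N89269 (tt N73873 F385864) (tt N107001 F456602) (tt N54767 F385861) (tt N80133 F385862) (tt N53436 (iv4 D192173)) (tt N109774 (iv5 F468551)) (tt N115120 (iv6 F493587)) (tt N54764 F385863))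
theorem Q89271 : ∀ i, i < 89271 → P i := stepQ 89270 Q89270 (allL N89270 (tt N116477 D219736) (tt N116478 D219737) (tt N54768 F385865) (tt N80136 F385866) (tt N115120 (iv4 F493585)) (tt N85414 F385867) (tt N53436 (iv6 D192174)) (tt N116479 D219738))
theorem Q89272 : ∀ i, i < 89272 → P i := stepQ 89271 Q89271 (allL N89271 (tt N107001 F456601) (tt N73873 (iv0 F385871)) (tt N54764 F385868) (tt N53944 (iv3 F385872)) (tt N53437 (iv4 D192175)) (tt N90454 (iv5 F389705)) (tt N53941 F385869) (tt N54767 F385870))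
theorem Q89273 : ∀ i, i < 89273 → P i := stepQ 89272 Q89272 (allL N89272 (tt N54761 (iv1 F385876)) (tt N53438 (iv0 D192176)) (tt N54770 (iv2 F385875)) (tt N95977 (iv3 F410501)) (tt N106068 (iv4 F452976)) (tt N94160 (iv5 F403477)) (tt N107187 (iv6 F457403)) (tt N54769 F385877))
theorem Q89274 : ∀ i, i < 89274 → P i := stepQ 89273 Q89273 (allL N89273 (tt N99512 F424938) (tt N116480 D219739) (tt N116481 D219740) (tt N53438 (iv3 D192177)) (tt N53444 F385878) (tt N116310 (iv5 F499493)) (tt N107988 (iv6 F460615)) (tt N54771 F385879))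
theorem Q89275 : ∀ i, i < 89275 → P i := stepQ 89274 Q89274 (allL N89274 (tt N116482 D219741) (tt N99522 (iv0 F451769)) (tt N105422 (iv2 F450185)) (tt N116310 F499494) (tt N105798 (iv4 F451766)) (tt N53438 (iv5 D192178)) (tt N105417 F450167) (tt N54772 F385880))
theorem Q89276 : ∀ i, i < 89276 → P i := stepQ 89275 Q89275 (allL N89275 (tt N70995 (iv1 F385882)) (tt N53439 (iv0 D192179)) (tt N71920 (iv2 F385883)) (tt N116483 D219742) (tt N107000 (iv4 F456593)) (tt N63023 F385881) (tt N116484 D219743) (tt N73863 (iv7 F385884)))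
theorem Q89277 : ∀ i, i < 89277 → P i := stepQ 89276 Q89276 (allL N89276 (tt N53439 (iv1 D192180)) (tt N70995 F385885) (tt N73863 (iv2 F385889)) (tt N55379 F385891) (tt N53643 F385888) (tt N63024 F385887) (tt N53642 (iv6 F385890)) (tt N71920 F385886))
theorem Q89278 : ∀ i, i < 89278 → P i := stepQ 89277 Q89277 (allL N89277 (tt N108999 (iv1 F464838)) (tt N89175 (iv0 F385894)) (tt N71954 F385892) (tt N90667 (iv3 F390458)) (tt N53440 (iv4 D192181)) (tt N108722 (iv5 F463695)) (tt N116485 D219744) (tt N54694 F385893))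
theorem Q89279 : ∀ i, i < 89279 → P i := stepQ 89278 Q89278 (allL N89278 (tt N116486 D219745) (tt N70855 (iv0 F390419)) (tt N71956 F385895) (tt N53441 F385896) (tt N116485 (iv4 F500389)) (tt N83931 F385897) (tt N53440 (iv6 D192182)) (tt N116487 D219746))
theorem Q89280 : ∀ i, i < 89280 → P i := stepQ 89279 Q89279 (allL N89279 (tt N54692 (iv1 F385903)) (tt N53441 (iv0 D192183)) (tt N54690 F391395) (tt N116488 D219747) (tt N115109 (iv4 F493520)) (tt N115081 (iv5 F493388)) (tt N116418 (iv6 F499999)) (tt N54691 F391396))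
theorem Q89281 : ∀ i, i < 89281 → P i := stepQ 89280 Q89280 (allL N89280 (tt N53441 (iv1 D192184)) (tt N54692 F385898) (tt N54691 F391394) (tt N116478 F500346) (tt N115110 (iv4 F493528)) (tt N88979 (iv5 F385899)) (tt N116489 D219748) (tt N54690 (iv7 F391393)))
theorem Q89282 : ∀ i, i < 89282 → P i := stepQ 89281 Q89281 (allL N89281 (tt N54691 (iv1 F385904)) (tt N54690 F385906) (tt N54692 F385900) (tt N116487 (iv3 F500397)) (tt N90670 (iv4 F390463)) (tt N83935 F385901) (tt N54701 F385902) (tt N53441 (iv7 D192185)))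
theorem Q89283 : ∀ i, i < 89283 → P i := stepQ 89282 Q89282 (allL N89282 (tt N54651 (iv1 F385911)) (tt N54650 F385910) (tt N53442 (iv2 D192186)) (tt N54693 F385907) (tt N90289 (iv4 F389237)) (tt N84382 F385908) (tt N116490 D219749) (tt N54685 F385909))
theorem Q89284 : ∀ i, i < 89284 → P i := stepQ 89283 Q89283 (allL N89283 (tt N90286 (iv1 F389236)) (tt N90213 (iv0 F388925)) (tt N90289 F389238) (tt N90671 (iv3 F390467)) (tt N53442 (iv4 D192187)) (tt N116491 D219750) (tt N116492 D219751) (tt N54686 F385912))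
theorem Q89285 : ∀ i, i < 89285 → P i := stepQ 89284 Q89284 (allL N89284 (tt N116493 D219752) (tt N90490 (iv0 F389818)) (tt N116490 (iv2 F500415)) (tt N53443 F385913) (tt N116492 (iv4 F500424)) (tt N53626 F385914) (tt N53442 (iv6 D192188)) (tt N116494 D219753))
theorem Q89286 : ∀ i, i < 89286 → P i := stepQ 89285 Q89285 (allL N89285 (tt N53443 (iv1 D192189)) (tt N54701 F385915) (tt N54700 (iv2 F385919)) (tt N72439 F385918) (tt N116464 (iv4 F500272)) (tt N72438 (iv5 F385917)) (tt N113829 (iv6 F487329)) (tt N54699 F385916))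
theorem Q89287 : ∀ i, i < 89287 → P i := stepQ 89286 Q89286 (allL N89286 (tt N54700 (iv1 F385923)) (tt N54699 F385924) (tt N54701 F385920) (tt N116494 (iv3 F500430)) (tt N90545 (iv4 F391235)) (tt N53631 F385921) (tt N54692 F385922) (tt N53443 (iv7 D192190)))
theorem Q89288 : ∀ i, i < 89288 → P i := stepQ 89287 Q89287 (allL N89287 (tt N53444 (iv1 D192191)) (tt N54782 F385929) (tt N54780 (iv2 F385930)) (tt N71048 (iv3 F385932)) (tt N99526 (iv4 F424987)) (tt N84360 F385931) (tt N79483 (iv6 F385933)) (tt N54781 (iv7 F385937)))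
theorem Q89289 : ∀ i, i < 89289 → P i := stepQ 89288 Q89288 (allL N89288 (tt N54781 (iv1 F385940)) (tt N54780 F385928) (tt N53444 (iv2 D192192)) (tt N54704 F385925) (tt N116481 (iv4 F500363)) (tt N54574 F385926) (tt N96618 (iv6 F413203)) (tt N54782 F385927))
theorem Q89290 : ∀ i, i < 89290 → P i := stepQ 89289 Q89289 (allL N89289 (tt N92529 F397261) (tt N71046 (iv0 F385943)) (tt N96618 (iv2 F413201)) (tt N53445 F385941) (tt N107988 (iv4 F460614)) (tt N58617 (iv5 F385942)) (tt N53444 (iv6 D192193)) (tt N96616 (iv7 F413192)))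
theorem Q89291 : ∀ i, i < 89291 → P i := stepQ 89290 Q89290 (allL N89290 (tt N70981 (iv1 F385948)) (tt N62863 (iv0 F385947)) (tt N70986 (iv2 F385949)) (tt N53446 (iv3 D192194)) (tt N55985 F385944) (tt N62919 F385945) (tt N110102 (iv6 F469998)) (tt N54711 F385946))
theorem Q89292 : ∀ i, i < 89292 → P i := stepQ 89291 Q89291 (allL N89291 (tt N113829 (iv1 F487332)) (tt N112350 (iv0 F480700)) (tt N54710 F385950) (tt N110102 (iv3 F469997)) (tt N58445 F385951) (tt N84423 F385952) (tt N53446 (iv6 D192195)) (tt N116201 (iv7 F498977)))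
theorem Q89293 : ∀ i, i < 89293 → P i := stepQ 89292 Q89292 (allL N89292 (tt N71976 F385954) (tt N71969 F391208) (tt N71974 F385955) (tt N53447 (iv3 D192196)) (tt N93759 (iv4 F401798)) (tt N95635 (iv5 F408965)) (tt N111193 (iv6 F475169)) (tt N54707 F385953))
theorem Q89294 : ∀ i, i < 89294 → P i := stepQ 89293 Q89293 (allL N89293 (tt N116417 (iv1 F499996)) (tt N116418 (iv0 F500001)) (tt N54713 F385956) (tt N111193 F475167) (tt N55280 F385957) (tt N114021 (iv5 F488233)) (tt N53447 (iv6 D192197)) (tt N91431 (iv7 F393104)))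
theorem Q89295 : ∀ i, i < 89295 → P i := stepQ 89294 Q89294 (allL N89294 (tt N54673 F385961) (tt N54672 F385962) (tt N53456 F385958) (tt N116495 D219754) (tt N53452 (iv4 D192198)) (tt N116496 D219755) (tt N70998 F385959) (tt N54663 F385960))
theorem Q89296 : ∀ i, i < 89296 → P i := stepQ 89295 Q89295 (allL N89295 (tt N90210 (iv1 F388914)) (tt N61806 (iv0 F385966)) (tt N54669 F385963) (tt N61783 F385964) (tt N53454 (iv4 D192199)) (tt N113477 (iv5 F485670)) (tt N107494 (iv6 F458522)) (tt N54666 F385965))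
theorem Q89297 : ∀ i, i < 89297 → P i := stepQ 89296 Q89296 (allL N89296 (tt N61806 F385970) (tt N90210 (iv0 F388913)) (tt N54666 F385967) (tt N62098 F385968) (tt N53455 (iv4 D192200)) (tt N116497 D219756) (tt N109962 (iv6 F469393)) (tt N54669 F385969))
theorem Q89298 : ∀ i, i < 89298 → P i := stepQ 89297 Q89297 (allL N89297 (tt N116488 F500407) (tt N70871 (iv0 F385974)) (tt N54667 F385971) (tt N71280 F385972) (tt N109962 (iv4 F469392)) (tt N82273 F385973) (tt N53455 (iv6 D192201)) (tt N116498 D219757))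
theorem Q89299 : ∀ i, i < 89299 → P i := stepQ 89298 Q89298 (allL N89298 (tt N54663 (iv1 F385977)) (tt N53456 (iv0 D192202)) (tt N54673 (iv2 F385979)) (tt N116499 D219758) (tt N54194 F385975) (tt N116500 D219759) (tt N107503 (iv6 F458551)) (tt N54672 (iv7 F385980)))
theorem Q89300 : ∀ i, i < 89300 → P i := stepQ 89299 Q89299 (allL N89299 (tt N53456 (iv1 D192203)) (tt N54663 F385981) (tt N54672 (iv2 F385985)) (tt N62014 (iv3 F385984)) (tt N54195 F385983) (tt N116501 D219760) (tt N116502 D219761) (tt N54673 F385982))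
theorem Q89301 : ∀ i, i < 89301 → P i := stepQ 89300 Q89300 (allL N89300 (tt N116503 D219762) (tt N62021 (iv0 F385989)) (tt N103212 (iv2 F440588)) (tt N53456 (iv3 D192204)) (tt N53458 F385986) (tt N109485 (iv5 F467207)) (tt N61958 F385987) (tt N54674 F385988))
theorem Q89302 : ∀ i, i < 89302 → P i := stepQ 89301 Q89301 (allL N89301 (tt N116504 D219763) (tt N116505 D219764) (tt N116496 (iv2 F500441)) (tt N109485 F467211) (tt N112561 F481652) (tt N53456 (iv5 D192205)) (tt N112606 (iv6 F481810)) (tt N54675 F385991))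
theorem Q89303 : ∀ i, i < 89303 → P i := stepQ 89302 Q89302 (allL N89302 (tt N54704 (iv1 F385994)) (tt N53458 (iv0 D192206)) (tt N54703 (iv2 F385995)) (tt N54976 F385993) (tt N116506 D219765) (tt N75897 F385992) (tt N111111 (iv6 F474720)) (tt N54702 (iv7 F385996)))
theorem Q89304 : ∀ i, i < 89304 → P i := stepQ 89303 Q89303 (allL N89303 (tt N53458 (iv1 D192207)) (tt N54704 F385997) (tt N54702 (iv2 F386000)) (tt N91473 F393278) (tt N116507 D219766) (tt N75896 F385999) (tt N91602 (iv6 F393757)) (tt N54703 F385998))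
theorem Q89305 : ∀ i, i < 89305 → P i := stepQ 89304 Q89304 (allL N89304 (tt N116508 D219767) (tt N93744 (iv0 F401745)) (tt N102861 (iv2 F438983)) (tt N53459 F386001) (tt N61958 F386002) (tt N115807 (iv5 F496996)) (tt N53458 (iv6 D192208)) (tt N103211 (iv7 F440585)))
theorem Q89306 : ∀ i, i < 89306 → P i := stepQ 89305 Q89305 (allL N89305 (tt N71628 F386004) (tt N71624 (iv0 F386006)) (tt N54784 F386003) (tt N115807 (iv3 F496994)) (tt N116509 D219768) (tt N53459 (iv5 D192209)) (tt N113713 (iv6 F486786)) (tt N106885 (iv7 F456128)))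
theorem Q89307 : ∀ i, i < 89307 → P i := stepQ 89306 Q89306 (allL N89306 (tt N116489 F500414) (tt N70873 (iv0 F386011)) (tt N54788 F386007) (tt N71273 (iv3 F386012)) (tt N56941 F386009) (tt N85375 F386010) (tt N53460 (iv6 D192210)) (tt N89750 (iv7 F387419)))
theorem Q89308 : ∀ i, i < 89308 → P i := stepQ 89307 Q89307 (allL N89307 (tt N54795 (iv1 F386015)) (tt N53462 (iv0 D192211)) (tt N54792 (iv2 F386016)) (tt N71970 F391956) (tt N71846 (iv4 F391955)) (tt N105994 (iv5 F452667)) (tt N85429 F386014) (tt N54793 (iv7 F386017)))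
theorem Q89309 : ∀ i, i < 89309 → P i := stepQ 89308 Q89308 (allL N89308 (tt N53462 (iv1 D192212)) (tt N54795 F386018) (tt N54793 (iv2 F386020)) (tt N70982 (iv3 F386024)) (tt N71847 (iv4 F386022)) (tt N102749 (iv5 F438477)) (tt N116510 D219769) (tt N54792 F386019))
theorem Q89310 : ∀ i, i < 89310 → P i := stepQ 89309 Q89309 (allL N89309 (tt N54192 (iv1 F386036)) (tt N53464 (iv0 D192213)) (tt N54108 (iv2 F386033)) (tt N54201 F386034) (tt N89375 (iv4 F386275)) (tt N91681 (iv5 F394022)) (tt N101410 (iv6 F432888)) (tt N54211 F386035))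
theorem Q89311 : ∀ i, i < 89311 → P i := stepQ 89310 Q89310 (allL N89310 (tt N101613 (iv1 F433551)) (tt N101615 (iv0 F433565)) (tt N83274 F386037) (tt N77878 F386039) (tt N53464 (iv4 D192214)) (tt N116504 (iv5 F500491)) (tt N79162 F386038) (tt N114028 (iv7 F488269)))
theorem Q89312 : ∀ i, i < 89312 → P i := stepQ 89311 Q89311 (allL N89311 (tt N54211 (iv1 F386042)) (tt N54108 F386043) (tt N54192 F386040) (tt N115785 (iv3 F496860)) (tt N114028 (iv4 F488266)) (tt N53465 F386041) (tt N116511 D219770) (tt N53464 (iv7 D192215)))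
theorem Q89313 : ∀ i, i < 89313 → P i := stepQ 89312 Q89312 (allL N89312 (tt N112519 (iv1 F481479)) (tt N112037 (iv0 F479194)) (tt N83273 F386044) (tt N109953 (iv3 F469363)) (tt N53466 (iv4 D192216)) (tt N109948 (iv5 F469342)) (tt N64881 F386045) (tt N83356 F386046))
theorem Q89314 : ∀ i, i < 89314 → P i := stepQ 89313 Q89313 (allL N89313 (tt N76630 F386051) (tt N76629 F386052) (tt N63470 F386047) (tt N53468 F386048) (tt N60794 F386049) (tt N53467 (iv5 D192217)) (tt N116512 D219771) (tt N61091 F386050))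
theorem Q89315 : ∀ i, i < 89315 → P i := stepQ 89314 Q89314 (allL N89314 (tt N95241 (iv1 F407552)) (tt N66414 (iv0 F386054)) (tt N95950 F410391) (tt N116512 (iv3 F500543)) (tt N59517 F386053) (tt N95686 (iv5 F409137)) (tt N53468 (iv6 D192218)) (tt N95951 (iv7 F410395)))
theorem Q89316 : ∀ i, i < 89316 → P i := stepQ 89315 Q89315 (allL N89315 (tt N76583 F409311) (tt N107286 (iv0 F457805)) (tt N112032 (iv2 F479168)) (tt N85934 F386055) (tt N85937 F386056) (tt N81948 F386057) (tt N53471 (iv6 D192219)) (tt N114622 (iv7 F491050)))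
theorem Q89317 : ∀ i, i < 89317 → P i := stepQ 89316 Q89316 (allL N89316 (tt N58045 F386060) (tt N69910 F386061) (tt N69908 F386058) (tt N113840 (iv3 F487383)) (tt N96520 (iv4 F412831)) (tt N59561 F386059) (tt N53472 (iv6 D192220)) (tt N69907 (iv7 F386062)))
theorem Q89318 : ∀ i, i < 89318 → P i := stepQ 89317 Q89317 (allL N89317 (tt N110933 (iv1 F473861)) (tt N116513 D219772) (tt N64733 F386063) (tt N54046 F386064) (tt N73011 F386065) (tt N110027 (iv5 F469624)) (tt N53474 (iv6 D192221)) (tt N73008 F386066))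
theorem Q89319 : ∀ i, i < 89319 → P i := stepQ 89318 Q89318 (allL N89318 (tt N55355 F386071) (tt N83110 F386072) (tt N62201 F386067) (tt N86205 F386068) (tt N53475 (iv4 D192222)) (tt N86204 F386070) (tt N62197 F386073) (tt N64732 F386069))
theorem Q89320 : ∀ i, i < 89320 → P i := stepQ 89319 Q89319 (allL N89319 (tt N73006 F386077) (tt N73005 F386078) (tt N62200 F386074) (tt N109767 (iv3 F468515)) (tt N62197 F386075) (tt N73162 F386076) (tt N53475 (iv6 D192223)) (tt N72994 F386079))
theorem Q89321 : ∀ i, i < 89321 → P i := stepQ 89320 Q89320 (allL N89320 (tt N96456 (iv1 F412594)) (tt N80622 (iv0 F386081)) (tt N83261 F386080) (tt N110041 (iv3 F469681)) (tt N101795 (iv4 F434379)) (tt N53476 (iv5 D192224)) (tt N110191 (iv6 F470358)) (tt N96467 F412646))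
theorem Q89322 : ∀ i, i < 89322 → P i := stepQ 89321 Q89321 (allL N89321 (tt N65228 (iv1 F386085)) (tt N65252 F386086) (tt N83262 F386083) (tt N110193 (iv3 F470366)) (tt N53477 F386084) (tt N96467 (iv5 F412642)) (tt N97653 (iv6 F417786)) (tt N53476 (iv7 D192225)))
theorem Q89323 : ∀ i, i < 89323 → P i := stepQ 89322 Q89322 (allL N89322 (tt N53479 (iv1 D192226)) (tt N76714 F386087) (tt N76717 F386096) (tt N107286 (iv3 F457802)) (tt N98250 (iv4 F420174)) (tt N83454 (iv5 F386089)) (tt N107285 (iv6 F457800)) (tt N76715 F386088))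
theorem Q89324 : ∀ i, i < 89324 → P i := stepQ 89323 Q89323 (allL N89323 (tt N76717 (iv1 F386101)) (tt N76715 F386102) (tt N76714 F386097) (tt N54057 F386098) (tt N89821 (iv4 F387632)) (tt N77411 F386099) (tt N55321 F386100) (tt N53479 (iv7 D192227)))
theorem Q89325 : ∀ i, i < 89325 → P i := stepQ 89324 Q89324 (allL N89324 (tt N89809 (iv1 F387615)) (tt N67089 (iv0 F386107)) (tt N82514 F386103) (tt N53480 (iv3 D192228)) (tt N89112 F386104) (tt N55263 F386105) (tt N82512 F386108) (tt N55262 F386106))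
theorem Q89326 : ∀ i, i < 89326 → P i := stepQ 89325 Q89325 (allL N89325 (tt N111023 (iv1 F474307)) (tt N107082 (iv0 F456895)) (tt N55318 F386109) (tt N82512 F386110) (tt N53481 F386111) (tt N82508 (iv5 F386112)) (tt N53480 (iv6 D192229)) (tt N89823 (iv7 F387649)))
theorem Q89327 : ∀ i, i < 89327 → P i := stepQ 89326 Q89326 (allL N89326 (tt N55321 F386128) (tt N53481 (iv0 D192230)) (tt N55319 F394038) (tt N58045 (iv3 F386127)) (tt N96469 (iv4 F412651)) (tt N58044 F386126) (tt N105061 (iv6 F448609)) (tt N55320 F394039))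
theorem Q89328 : ∀ i, i < 89328 → P i := stepQ 89327 Q89327 (allL N89327 (tt N53481 (iv1 D192231)) (tt N55321 F386129) (tt N55320 (iv2 F394040)) (tt N116514 D219773) (tt N96470 (iv4 F412657)) (tt N92027 (iv5 F395425)) (tt N110933 (iv6 F473857)) (tt N55319 (iv7 F394041)))
theorem Q89329 : ∀ i, i < 89329 → P i := stepQ 89328 Q89328 (allL N89328 (tt N55320 (iv1 F386133)) (tt N55319 F386134) (tt N55321 F386130) (tt N90143 (iv3 F388670)) (tt N89823 (iv4 F387648)) (tt N70282 F386131) (tt N76714 F386132) (tt N53481 (iv7 D192232)))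
theorem Q89330 : ∀ i, i < 89330 → P i := stepQ 89329 Q89329 (allL N89329 (tt N110981 (iv1 F474070)) (tt N53761 (iv0 F386138)) (tt N88518 F386135) (tt N80593 F386136) (tt N116515 D219774) (tt N53482 (iv5 D192233)) (tt N53483 F386137) (tt N101472 (iv7 F433068)))
theorem Q89331 : ∀ i, i < 89331 → P i := stepQ 89330 Q89330 (allL N89330 (tt N79027 F386140) (tt N83250 F386141) (tt N85859 F386139) (tt N108835 F464180) (tt N53483 (iv4 D192234)) (tt N112914 (iv5 F483262)) (tt N116515 (iv6 F500562)) (tt N114274 (iv7 F489339)))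
theorem Q89332 : ∀ i, i < 89332 → P i := stepQ 89331 Q89331 (allL N89331 (tt N53581 F386146) (tt N110804 F473240) (tt N88516 F386144) (tt N101743 (iv3 F434137)) (tt N112679 (iv4 F482135)) (tt N53484 (iv5 D192235)) (tt N53485 F386145) (tt N110803 (iv7 F473234)))
theorem Q89333 : ∀ i, i < 89333 → P i := stepQ 89332 Q89332 (allL N89332 (tt N76821 F386147) (tt N115118 (iv0 F493575)) (tt N114401 (iv2 F489966)) (tt N91263 (iv3 F392444)) (tt N53485 (iv4 D192236)) (tt N116516 D219775) (tt N112679 (iv6 F482137)) (tt N114613 (iv7 F491019)))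
theorem Q89334 : ∀ i, i < 89334 → P i := stepQ 89333 Q89333 (allL N89333 (tt N54809 F386152) (tt N83533 F386153) (tt N53491 F386148) (tt N83463 F386149) (tt N77903 F386151) (tt N53486 (iv5 D192237)) (tt N116517 D219776) (tt N53494 F386150))
theorem Q89335 : ∀ i, i < 89335 → P i := stepQ 89334 Q89334 (allL N89334 (tt N83533 F386160) (tt N54809 F386159) (tt N53494 F386155) (tt N88389 F386156) (tt N74084 F386158) (tt N53487 (iv5 D192238)) (tt N116518 D219777) (tt N53491 F386157))
theorem Q89336 : ∀ i, i < 89336 → P i := stepQ 89335 Q89335 (allL N89335 (tt N53498 (iv1 F386164)) (tt N53488 (iv0 D192239)) (tt N53495 (iv2 F386161)) (tt N83466 (iv3 F386163)) (tt N77905 F386165) (tt N89635 (iv5 F387033)) (tt N116519 D219778) (tt N53496 F386162))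
theorem Q89337 : ∀ i, i < 89337 → P i := stepQ 89336 Q89336 (allL N89336 (tt N53496 (iv1 F386169)) (tt N53495 F386170) (tt N53498 F386166) (tt N77930 F386167) (tt N110704 (iv4 F472827)) (tt N53489 F386168) (tt N116520 D219779) (tt N53488 (iv7 D192240)))
theorem Q89338 : ∀ i, i < 89338 → P i := stepQ 89337 Q89337 (allL N89337 (tt N83333 (iv1 F386177)) (tt N83335 (iv0 F386176)) (tt N86016 F386171) (tt N78970 F386172) (tt N53492 F386173) (tt N61738 F386174) (tt N53490 (iv6 D192241)) (tt N78980 F386175))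
theorem Q89339 : ∀ i, i < 89339 → P i := stepQ 89338 Q89338 (allL N89338 (tt N53494 (iv1 F386180)) (tt N53491 (iv0 D192242)) (tt N54809 (iv2 F386179)) (tt N83062 (iv3 F386182)) (tt N99278 (iv4 F423911)) (tt N83996 F386178) (tt N116521 D219780) (tt N83533 F386181))
theorem Q89340 : ∀ i, i < 89340 → P i := stepQ 89339 Q89339 (allL N89339 (tt N83323 F386186) (tt N76831 F386187) (tt N77903 F386183) (tt N116522 D219781) (tt N53491 (iv4 D192243)) (tt N74085 F386184) (tt N116523 D219782) (tt N74084 F386185))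
theorem Q89341 : ∀ i, i < 89341 → P i := stepQ 89340 Q89340 (allL N89340 (tt N116524 D219783) (tt N116117 (iv0 F498557)) (tt N116517 (iv2 F500569)) (tt N113169 (iv3 F484306)) (tt N116523 (iv4 F500600)) (tt N116525 D219784) (tt N53491 (iv6 D192244)) (tt N116526 D219785))
theorem Q89342 : ∀ i, i < 89342 → P i := stepQ 89341 Q89341 (allL N89341 (tt N83896 F386194) (tt N83905 F386195) (tt N83903 F386191) (tt N88588 F386192) (tt N116527 D219786) (tt N53492 (iv5 D192245)) (tt N116525 (iv6 F500611)) (tt N83902 F386193))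
theorem Q89343 : ∀ i, i < 89343 → P i := stepQ 89342 Q89342 (allL N89342 (tt N114261 F500328) (tt N116528 D219787) (tt N116518 (iv2 F500574)) (tt N115433 (iv3 F495171)) (tt N98905 F422743) (tt N88955 F386196) (tt N53494 (iv6 D192246)) (tt N116529 D219788))
theorem Q89344 : ∀ i, i < 89344 → P i := stepQ 89343 Q89343 (allL N89343 (tt N90910 (iv1 F391242)) (tt N83076 (iv0 F386198)) (tt N100277 F428220) (tt N53495 (iv3 D192247)) (tt N83036 F386197) (tt N113163 (iv5 F484277)) (tt N116530 D219789) (tt N100276 F428211))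
theorem Q89345 : ∀ i, i < 89345 → P i := stepQ 89344 Q89344 (allL N89344 (tt N77907 F386201) (tt N77814 F386208) (tt N77905 F386199) (tt N116531 D219790) (tt N53495 (iv4 D192248)) (tt N93640 (iv5 F401399)) (tt N100481 (iv6 F463019)) (tt N77906 F386200))
theorem Q89346 : ∀ i, i < 89346 → P i := stepQ 89345 Q89345 (allL N89345 (tt N116532 D219791) (tt N110765 (iv0 F473073)) (tt N116519 (iv2 F500580)) (tt N116530 (iv3 F500630)) (tt N100481 F463020) (tt N114615 (iv5 F491027)) (tt N53495 (iv6 D192249)) (tt N116533 D219792))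
theorem Q89347 : ∀ i, i < 89347 → P i := stepQ 89346 Q89346 (allL N89346 (tt N77814 F386204) (tt N77907 F386205) (tt N77906 F386202) (tt N107335 (iv3 F458002)) (tt N53496 (iv4 D192250)) (tt N77950 F386206) (tt N90853 (iv6 F391052)) (tt N77905 F386203))
theorem Q89348 : ∀ i, i < 89348 → P i := stepQ 89347 Q89347 (allL N89347 (tt N98865 F422619) (tt N107543 F458705) (tt N107541 (iv2 F465808)) (tt N53497 (iv3 D192251)) (tt N53501 F386209) (tt N94256 F403863) (tt N110817 (iv6 F473286)) (tt N107540 F458698))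
theorem Q89349 : ∀ i, i < 89349 → P i := stepQ 89348 Q89348 (allL N89348 (tt N100271 F428190) (tt N116534 D219793) (tt N116520 (iv2 F500587)) (tt N53503 F386210) (tt N76859 F386211) (tt N54656 F386212) (tt N53498 (iv6 D192252)) (tt N116193 (iv7 F498945)))
theorem Q89350 : ∀ i, i < 89350 → P i := stepQ 89349 Q89349 (allL N89349 (tt N113779 (iv1 F487068)) (tt N101750 (iv0 F434173)) (tt N112552 (iv2 F481625)) (tt N77385 F386213) (tt N53499 (iv4 D192253)) (tt N109771 (iv5 F468536)) (tt N113184 (iv6 F484362)) (tt N112322 (iv7 F480547)))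
theorem Q89351 : ∀ i, i < 89351 → P i := stepQ 89350 Q89350 (allL N89350 (tt N83315 (iv1 F386219)) (tt N72573 (iv0 F386218)) (tt N83314 F386214) (tt N53500 F386215) (tt N113184 (iv4 F484363)) (tt N77688 F386216) (tt N53499 (iv6 D192254)) (tt N83313 (iv7 F386217)))
theorem Q89352 : ∀ i, i < 89352 → P i := stepQ 89351 Q89351 (allL N89351 (tt N53500 (iv1 D192255)) (tt N89896 F387908) (tt N89899 (iv2 F387909)) (tt N110765 (iv3 F473070)) (tt N84195 (iv4 F386223)) (tt N72445 (iv5 F386222)) (tt N106580 (iv6 F454942)) (tt N89086 F386221))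
theorem Q89353 : ∀ i, i < 89353 → P i := stepQ 89352 Q89352 (allL N89352 (tt N89899 (iv1 F387912)) (tt N89086 F387906) (tt N89896 F387902) (tt N83313 F386224) (tt N87056 F386225) (tt N86234 F386226) (tt N90864 (iv6 F391078)) (tt N53500 (iv7 D192256)))
theorem Q89354 : ∀ i, i < 89354 → P i := stepQ 89353 Q89353 (allL N89353 (tt N75132 (iv1 F386234)) (tt N53501 (iv0 D192257)) (tt N113178 (iv2 F484344)) (tt N99919 (iv3 F426824)) (tt N99082 F426822) (tt N99918 (iv5 F426821)) (tt N110769 F473109) (tt N113458 (iv7 F485585)))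
theorem Q89355 : ∀ i, i < 89355 → P i := stepQ 89354 Q89354 (allL N89354 (tt N53501 (iv1 D192258)) (tt N75132 F386230) (tt N113458 (iv2 F485583)) (tt N110348 (iv3 F471164)) (tt N116535 D219794) (tt N96292 (iv5 F411907)) (tt N96294 (iv6 F411909)) (tt N113178 F484349))
theorem Q89356 : ∀ i, i < 89356 → P i := stepQ 89355 Q89355 (allL N89355 (tt N113178 (iv1 F484348)) (tt N113458 (iv0 F485586)) (tt N53501 (iv2 D192259)) (tt N64774 F386227) (tt N107541 F465809) (tt N64773 F386228) (tt N105164 (iv6 F449071)) (tt N75132 (iv7 F386229)))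
theorem Q89357 : ∀ i, i < 89357 → P i := stepQ 89356 Q89356 (allL N89356 (tt N113458 F485587) (tt N113178 (iv0 F484347)) (tt N75132 F386231) (tt N53502 F386232) (tt N107540 F458699) (tt N62758 F386233) (tt N109392 (iv6 F466734)) (tt N53501 (iv7 D192260)))
theorem Q89358 : ∀ i, i < 89358 → P i := stepQ 89357 Q89357 (allL N89357 (tt N90795 (iv1 F453896)) (tt N90797 (iv0 F390904)) (tt N90841 (iv2 F391026)) (tt N109392 (iv3 F466733)) (tt N53503 F386235) (tt N85474 F386236) (tt N53502 (iv6 D192261)) (tt N116196 (iv7 F498957)))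
theorem Q89359 : ∀ i, i < 89359 → P i := stepQ 89358 Q89358 (allL N89358 (tt N112344 F480675) (tt N53503 (iv0 D192262)) (tt N112617 F492393) (tt N116536 D219795) (tt N116110 (iv4 F498516)) (tt N116417 (iv5 F499994)) (tt N89810 F387617) (tt N114025 F492392))
theorem Q89360 : ∀ i, i < 89360 → P i := stepQ 89359 Q89359 (allL N89359 (tt N53503 (iv1 D192263)) (tt N112344 F480676) (tt N114025 F492391) (tt N101505 F492395) (tt N116111 (iv4 F498524)) (tt N116418 (iv5 F499998)) (tt N114265 (iv6 F489300)) (tt N112617 (iv7 F492394)))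
theorem Q89361 : ∀ i, i < 89361 → P i := stepQ 89360 Q89360 (allL N89360 (tt N89182 F386238) (tt N94264 F403899) (tt N53509 F386237) (tt N116537 D219796) (tt N53505 (iv4 D192264)) (tt N108997 (iv5 F464827)) (tt N116197 (iv6 F498963)) (tt N116473 (iv7 F500317)))
theorem Q89362 : ∀ i, i < 89362 → P i := stepQ 89361 Q89361 (allL N89361 (tt N71944 F386241) (tt N71943 (iv0 F386242)) (tt N71946 F386239) (tt N115930 (iv3 F497639)) (tt N53506 (iv4 D192265)) (tt N116538 D219797) (tt N99068 F423220) (tt N55381 F386240))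
theorem Q89363 : ∀ i, i < 89363 → P i := stepQ 89362 Q89362 (allL N89362 (tt N70986 (iv1 F386247)) (tt N54711 F386248) (tt N62863 F386243) (tt N55362 F386244) (tt N99068 (iv4 F423219)) (tt N62862 F386245) (tt N53506 (iv6 D192266)) (tt N70981 F386246))
theorem Q89364 : ∀ i, i < 89364 → P i := stepQ 89363 Q89363 (allL N89363 (tt N116447 (iv1 F500169)) (tt N116425 (iv0 F500039)) (tt N57540 F386249) (tt N102812 (iv3 F438745)) (tt N53507 (iv4 D192267)) (tt N116539 D219798) (tt N57538 (iv6 F386250)) (tt N115353 (iv7 F494747)))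
theorem Q89365 : ∀ i, i < 89365 → P i := stepQ 89364 Q89364 (allL N89364 (tt N101910 F434909) (tt N101909 F434905) (tt N57516 F386251) (tt N83073 F386252) (tt N57538 F386253) (tt N91675 (iv5 F393990)) (tt N53507 (iv6 D192268)) (tt N101911 (iv7 F434914)))
theorem Q89366 : ∀ i, i < 89366 → P i := stepQ 89365 Q89365 (allL N89365 (tt N116425 (iv1 F500040)) (tt N116447 (iv0 F500168)) (tt N115353 (iv2 F494743)) (tt N57546 F386254) (tt N53508 (iv4 D192269)) (tt N94367 F404153) (tt N106503 (iv6 F454682)) (tt N57540 F386255))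
theorem Q89367 : ∀ i, i < 89367 → P i := stepQ 89366 Q89366 (allL N89366 (tt N116473 (iv1 F500319)) (tt N53509 (iv0 D192270)) (tt N89182 (iv2 F386258)) (tt N74301 F403893) (tt N89181 F386259) (tt N74300 (iv5 F403892)) (tt N110822 (iv6 F473304)) (tt N94264 (iv7 F403895)))
theorem Q89368 : ∀ i, i < 89368 → P i := stepQ 89367 Q89367 (allL N89367 (tt N53509 (iv1 D192271)) (tt N116473 (iv0 F500318)) (tt N94264 F403898) (tt N100038 F427326) (tt N89154 (iv4 F386256)) (tt N94261 (iv5 F403900)) (tt N100082 (iv6 F427469)) (tt N89182 F386257))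
theorem Q89369 : ∀ i, i < 89369 → P i := stepQ 89368 Q89368 (allL N89368 (tt N115685 (iv1 F496308)) (tt N116540 D219799) (tt N108708 (iv2 F463639)) (tt N53509 (iv3 D192272)) (tt N53510 F386260) (tt N80407 (iv5 F386261)) (tt N108687 (iv6 F463551)) (tt N90705 (iv7 F390573)))
theorem Q89370 : ∀ i, i < 89370 → P i := stepQ 89369 Q89369 (allL N89369 (tt N109000 F464842) (tt N108992 (iv0 F464808)) (tt N108997 F464828) (tt N80407 F386262) (tt N80408 (iv4 F386263)) (tt N53509 (iv5 D192273)) (tt N108337 (iv6 F462132)) (tt N108998 (iv7 F464829)))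
theorem Q89371 : ∀ i, i < 89371 → P i := stepQ 89370 Q89370 (allL N89370 (tt N83152 (iv1 F386265)) (tt N53510 (iv0 D192274)) (tt N90704 F414385) (tt N63491 F386264) (tt N100081 (iv4 F427464)) (tt N111858 (iv5 F478340)) (tt N82123 (iv6 F386266)) (tt N90703 F414383))
theorem Q89372 : ∀ i, i < 89372 → P i := stepQ 89371 Q89371 (allL N89371 (tt N53510 (iv1 D192275)) (tt N83152 F386270) (tt N90703 (iv2 F414381)) (tt N75901 (iv3 F386272)) (tt N108707 (iv4 F463637)) (tt N75900 F386271) (tt N116541 D219800) (tt N90704 (iv7 F414384)))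
theorem Q89373 : ∀ i, i < 89373 → P i := stepQ 89372 Q89372 (allL N89372 (tt N90704 (iv1 F390571)) (tt N90703 F390570) (tt N53510 (iv2 D192276)) (tt N83161 F386267) (tt N108708 (iv4 F463641)) (tt N83153 F386268) (tt N95369 (iv6 F408002)) (tt N83152 F386269))
theorem Q89374 : ∀ i, i < 89374 → P i := stepQ 89373 Q89373 (allL N89373 (tt N83274 F386273) (tt N114028 F488268) (tt N101615 (iv2 F433562)) (tt N116542 D219801) (tt N53513 (iv4 D192277)) (tt N116543 D219802) (tt N116544 D219803) (tt N101613 (iv7 F433549)))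
theorem Q89375 : ∀ i, i < 89375 → P i := stepQ 89374 Q89374 (allL N89374 (tt N105815 F451852) (tt N105816 F451855) (tt N101616 (iv2 F433567)) (tt N114032 (iv3 F488290)) (tt N116544 (iv4 F500692)) (tt N100855 (iv5 F430792)) (tt N53513 (iv6 D192278)) (tt N105814 F451849))
theorem Q89376 : ∀ i, i < 89376 → P i := stepQ 89375 Q89375 (allL N89375 (tt N54662 (iv1 F386274)) (tt N53514 (iv0 D192279)) (tt N90215 (iv2 F388944)) (tt N116545 D219804) (tt N89309 F386275) (tt N116546 D219805) (tt N70750 (iv6 F404210)) (tt N90340 (iv7 F389387)))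
theorem Q89377 : ∀ i, i < 89377 → P i := stepQ 89376 Q89376 (allL N89376 (tt N116547 D219806) (tt N90315 (iv0 F389326)) (tt N101617 (iv2 F433571)) (tt N105288 F449574) (tt N105307 (iv4 F449640)) (tt N53514 (iv5 D192280)) (tt N109521 (iv6 F467350)) (tt N109823 (iv7 F468797)))
theorem Q89378 : ∀ i, i < 89378 → P i := stepQ 89377 Q89377 (allL N89377 (tt N64548 F386278) (tt N64551 F386279) (tt N94163 (iv2 F403490)) (tt N53519 F386276) (tt N106260 (iv4 F453783)) (tt N53518 (iv5 D192281)) (tt N96200 (iv6 F411462)) (tt N80599 F386277))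
theorem Q89379 : ∀ i, i < 89379 → P i := stepQ 89378 Q89378 (allL N89378 (tt N64573 F386284) (tt N64578 F386285) (tt N72900 F386280) (tt N94277 (iv3 F403926)) (tt N53519 (iv4 D192282)) (tt N58865 F386281) (tt N72919 F386282) (tt N66416 F386283))
theorem Q89380 : ∀ i, i < 89380 → P i := stepQ 89379 Q89379 (allL N89379 (tt N53996 (iv1 F386287)) (tt N53521 (iv0 D192283)) (tt N55075 F386289) (tt N53613 (iv3 F386290)) (tt N103170 (iv4 F440390)) (tt N55074 F386286) (tt N78167 (iv6 F386288)) (tt N113226 (iv7 F484581)))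
theorem Q89381 : ∀ i, i < 89381 → P i := stepQ 89380 Q89380 (allL N89380 (tt N53521 (iv1 D192284)) (tt N53996 F386291) (tt N113226 F484583) (tt N54936 (iv3 F386294)) (tt N103171 (iv4 F440396)) (tt N54935 F386293) (tt N107191 F457412) (tt N55075 F386292))
theorem Q89382 : ∀ i, i < 89382 → P i := stepQ 89381 Q89381 (allL N89381 (tt N84236 F386298) (tt N55294 F386299) (tt N96043 F410774) (tt N65470 F386295) (tt N53521 (iv4 D192285)) (tt N93561 (iv5 F401137)) (tt N66509 F386296) (tt N74210 F386297))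
theorem Q89383 : ∀ i, i < 89383 → P i := stepQ 89382 Q89382 (allL N89382 (tt N53522 (iv1 D192286)) (tt N53529 F386300) (tt N84385 (iv2 F386303)) (tt N85127 (iv3 F386304)) (tt N57970 (iv4 F386305)) (tt N84383 F386302) (tt N70877 (iv6 F386306)) (tt N85328 F386301))
theorem Q89384 : ∀ i, i < 89384 → P i := stepQ 89383 Q89383 (allL N89383 (tt N108014 (iv1 F460731)) (tt N107174 (iv0 F457338)) (tt N53527 F386312) (tt N53996 F386313) (tt N106289 (iv4 F453903)) (tt N53526 (iv5 D192287)) (tt N116548 D219807) (tt N72041 F386314))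
theorem Q89385 : ∀ i, i < 89385 → P i := stepQ 89384 Q89384 (allL N89384 (tt N72041 (iv1 F386315)) (tt N53527 (iv0 D192288)) (tt N108014 (iv2 F460736)) (tt N83198 (iv3 F387970)) (tt N115115 (iv4 F493560)) (tt N113124 (iv5 F484084)) (tt N107186 (iv6 F458262)) (tt N107174 F457342))
theorem Q89386 : ∀ i, i < 89386 → P i := stepQ 89385 Q89385 (allL N89385 (tt N53527 (iv1 D192289)) (tt N72041 F386316) (tt N107174 (iv2 F457335)) (tt N53593 F386318) (tt N115114 (iv4 F493552)) (tt N83842 F386319) (tt N78165 (iv6 F386317)) (tt N108014 (iv7 F460732)))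
theorem Q89387 : ∀ i, i < 89387 → P i := stepQ 89386 Q89386 (allL N89386 (tt N107957 F460473) (tt N116549 D219808) (tt N116548 (iv2 F500704)) (tt N53531 F386320) (tt N73921 F386321) (tt N116550 D219809) (tt N53527 (iv6 D192290)) (tt N73917 F386322))
theorem Q89388 : ∀ i, i < 89388 → P i := stepQ 89387 Q89387 (allL N89387 (tt N83482 (iv1 F386328)) (tt N53528 (iv0 D192291)) (tt N84889 (iv2 F386324)) (tt N83201 F386325) (tt N83497 F386323) (tt N88587 (iv5 F386329)) (tt N84747 F386326) (tt N88386 F386327))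
theorem Q89389 : ∀ i, i < 89389 → P i := stepQ 89388 Q89388 (allL N89388 (tt N110094 (iv1 F469960)) (tt N112883 (iv0 F483134)) (tt N110142 (iv2 F470154)) (tt N53532 F386331) (tt N89662 F387147) (tt N53528 (iv5 D192292)) (tt N116550 (iv6 F500718)) (tt N100871 (iv7 F430829)))
theorem Q89390 : ∀ i, i < 89390 → P i := stepQ 89389 Q89389 (allL N89389 (tt N88386 (iv1 F386336)) (tt N84889 F386337) (tt N83482 F386332) (tt N53533 F386333) (tt N83482 F386334) (tt N100871 (iv5 F430830)) (tt N84753 F386335) (tt N53528 (iv7 D192293)))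
theorem Q89391 : ∀ i, i < 89391 → P i := stepQ 89390 Q89390 (allL N89390 (tt N100978 F431142) (tt N79392 (iv0 F386340)) (tt N89037 F386338) (tt N113224 (iv3 F484570)) (tt N99335 (iv4 F424149)) (tt N69948 F386339) (tt N53529 (iv6 D192294)) (tt N99517 (iv7 F424955)))
theorem Q89392 : ∀ i, i < 89392 → P i := stepQ 89391 Q89391 (allL N89391 (tt N68694 F386344) (tt N68692 (iv0 F386345)) (tt N74209 F386341) (tt N103327 (iv3 F441148)) (tt N53531 F386342) (tt N69817 F386343) (tt N53530 (iv6 D192295)) (tt N95906 (iv7 F410191)))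
theorem Q89393 : ∀ i, i < 89393 → P i := stepQ 89392 Q89392 (allL N89392 (tt N59287 F386349) (tt N78120 F386350) (tt N78118 F386346) (tt N116550 (iv3 F500717)) (tt N116551 D219810) (tt N53531 (iv5 D192296)) (tt N53532 F386347) (tt N78117 F386348))
theorem Q89394 : ∀ i, i < 89394 → P i := stepQ 89393 Q89393 (allL N89393 (tt N112952 (iv1 F483361)) (tt N84328 F386351) (tt N112954 (iv2 F483371)) (tt N88488 F387148) (tt N53532 (iv4 D192297)) (tt N111914 (iv5 F478619)) (tt N116551 (iv6 F500722)) (tt N100873 (iv7 F430840)))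
theorem Q89395 : ∀ i, i < 89395 → P i := stepQ 89394 Q89394 (allL N89394 (tt N53534 (iv1 D192298)) (tt N53539 F386352) (tt N53537 F386356) (tt N64297 (iv3 F386355)) (tt N82364 (iv4 F386354)) (tt N116327 (iv5 F499574)) (tt N116204 (iv6 F499001)) (tt N53536 F386353))
theorem Q89396 : ∀ i, i < 89396 → P i := stepQ 89395 Q89395 (allL N89395 (tt N116552 D219811) (tt N116553 D219812) (tt N53538 F386357) (tt N83169 F386358) (tt N116554 D219813) (tt N53534 (iv5 D192299)) (tt N83896 F386359) (tt N116555 D219814))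
theorem Q89397 : ∀ i, i < 89397 → P i := stepQ 89396 Q89396 (allL N89396 (tt N53537 (iv1 F386364)) (tt N53536 F386365) (tt N53539 F386360) (tt N76924 F386361) (tt N78479 F386362) (tt N116555 (iv5 F500743)) (tt N64385 F386363) (tt N53534 (iv7 D192300)))
theorem Q89398 : ∀ i, i < 89398 → P i := stepQ 89397 Q89397 (allL N89397 (tt N116324 (iv1 F499562)) (tt N112110 (iv0 F479528)) (tt N112069 (iv2 F479341)) (tt N64396 F386366) (tt N116556 D219815) (tt N53536 (iv5 D192301)) (tt N116557 D219816) (tt N116327 (iv7 F499578)))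
theorem Q89399 : ∀ i, i < 89399 → P i := stepQ 89398 Q89398 (allL N89398 (tt N109781 (iv1 F468586)) (tt N70539 (iv0 F386369)) (tt N109779 F468574) (tt N64397 F386367) (tt N67765 F386368) (tt N112515 (iv5 F481454)) (tt N53536 (iv6 D192302)) (tt N104155 (iv7 F444455)))
theorem Q89400 : ∀ i, i < 89400 → P i := stepQ 89399 Q89399 (allL N89399 (tt N112110 (iv1 F479529)) (tt N116324 (iv0 F499561)) (tt N116327 F499575) (tt N113060 (iv3 F483787)) (tt N116558 D219817) (tt N53537 (iv5 D192303)) (tt N114045 (iv6 F488334)) (tt N112069 (iv7 F479343)))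
theorem Q89401 : ∀ i, i < 89401 → P i := stepQ 89400 Q89400 (allL N89400 (tt N88668 (iv1 F447687)) (tt N116400 (iv0 F499898)) (tt N116204 (iv2 F498996)) (tt N110265 (iv3 F470721)) (tt N104863 F447686) (tt N110264 F470717) (tt N53537 (iv6 D192304)) (tt N116205 (iv7 F499005)))
theorem Q89402 : ∀ i, i < 89402 → P i := stepQ 89401 Q89401 (allL N89401 (tt N116555 (iv1 F500745)) (tt N53538 (iv0 D192305)) (tt N116552 F500729) (tt N64399 (iv3 F386371)) (tt N116559 D219818) (tt N65419 F386370) (tt N116560 D219819) (tt N116553 (iv7 F500733)))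
theorem Q89403 : ∀ i, i < 89403 → P i := stepQ 89402 Q89402 (allL N89402 (tt N53538 (iv1 D192306)) (tt N116555 F500744) (tt N116553 F500735) (tt N112283 (iv3 F480345)) (tt N116561 D219820) (tt N88910 (iv5 F386372)) (tt N116562 D219821) (tt N116552 F500730))
theorem Q89404 : ∀ i, i < 89404 → P i := stepQ 89403 Q89403 (allL N89403 (tt N116563 D219822) (tt N116564 D219823) (tt N116554 (iv2 F500737)) (tt N97106 F415490) (tt N53538 (iv4 D192307)) (tt N97105 (iv5 F415492)) (tt N83904 F386373) (tt N116565 D219824))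
theorem Q89405 : ∀ i, i < 89405 → P i := stepQ 89404 Q89404 (allL N89404 (tt N116553 (iv1 F500732)) (tt N116552 (iv0 F500731)) (tt N116555 (iv2 F500741)) (tt N53548 F386374) (tt N116565 (iv4 F500758)) (tt N53539 F386375) (tt N116566 D219825) (tt N53538 (iv7 D192308)))
theorem Q89406 : ∀ i, i < 89406 → P i := stepQ 89405 Q89405 (allL N89405 (tt N112539 F481577) (tt N101782 (iv0 F434322)) (tt N64320 F386376) (tt N53541 F386377) (tt N88582 F386379) (tt N53540 (iv5 D192309)) (tt N83437 (iv6 F421395)) (tt N77046 F386378))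
theorem Q89407 : ∀ i, i < 89407 → P i := stepQ 89406 Q89406 (allL N89406 (tt N80621 (iv1 F386384)) (tt N75488 (iv0 F386383)) (tt N64321 F386380) (tt N53542 F386381) (tt N77047 F386382) (tt N83438 (iv5 F421390)) (tt N53540 (iv6 D192310)) (tt N110428 (iv7 F471536)))
theorem Q89408 : ∀ i, i < 89408 → P i := stepQ 89407 Q89407 (allL N89407 (tt N113857 (iv1 F487490)) (tt N116452 (iv0 F500200)) (tt N88559 F386385) (tt N99783 F426199) (tt N53541 (iv4 D192311)) (tt N98188 (iv5 F419906)) (tt N113953 F487944) (tt N88561 F386386))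
theorem Q89409 : ∀ i, i < 89409 → P i := stepQ 89408 Q89408 (allL N89408 (tt N91143 F392067) (tt N91140 (iv0 F421393)) (tt N88560 F386387) (tt N83437 F421394) (tt N113953 (iv4 F487942)) (tt N83435 (iv5 F421392)) (tt N53541 (iv6 D192312)) (tt N116567 D219826))
theorem Q89410 : ∀ i, i < 89410 → P i := stepQ 89409 Q89409 (allL N89409 (tt N116452 (iv1 F500201)) (tt N113857 (iv0 F487489)) (tt N88561 F386388) (tt N105183 (iv3 F449139)) (tt N53543 (iv4 D192313)) (tt N84715 F386390) (tt N116252 (iv6 F499227)) (tt N88559 F386389))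
theorem Q89411 : ∀ i, i < 89411 → P i := stepQ 89410 Q89410 (allL N89410 (tt N88757 F431901) (tt N84014 (iv0 F386393)) (tt N88562 F386391) (tt N64325 F386392) (tt N116252 (iv4 F499228)) (tt N101141 (iv5 F431899)) (tt N53543 (iv6 D192314)) (tt N88755 (iv7 F386394)))
theorem Q89412 : ∀ i, i < 89412 → P i := stepQ 89411 Q89411 (allL N89411 (tt N77043 F386399) (tt N53700 (iv0 F386398)) (tt N64326 F386395) (tt N53545 (iv3 D192315)) (tt N112998 (iv4 F483490)) (tt N77258 F386396) (tt N116568 D219827) (tt N77048 F386397))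
theorem Q89413 : ∀ i, i < 89413 → P i := stepQ 89412 Q89412 (allL N89412 (tt N84159 F386402) (tt N53939 F386403) (tt N84171 F386400) (tt N101271 (iv3 F432469)) (tt N53545 (iv4 D192316)) (tt N92190 (iv5 F396167)) (tt N90511 F389898) (tt N84172 F386401))
theorem Q89414 : ∀ i, i < 89414 → P i := stepQ 89413 Q89413 (allL N89413 (tt N116136 (iv1 F498669)) (tt N116135 F498667) (tt N88563 F386404) (tt N116568 (iv3 F500774)) (tt N90511 F389897) (tt N53620 F386405) (tt N53545 (iv6 D192317)) (tt N114621 (iv7 F491047)))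
theorem Q89415 : ∀ i, i < 89415 → P i := stepQ 89414 Q89414 (allL N89414 (tt N53939 F386409) (tt N84159 F386410) (tt N84172 F386406) (tt N100589 (iv3 F429582)) (tt N53546 (iv4 D192318)) (tt N84176 F386408) (tt N84037 (iv6 F386411)) (tt N84171 F386407))
theorem Q89416 : ∀ i, i < 89416 → P i := stepQ 89415 Q89415 (allL N89415 (tt N113068 (iv1 F483827)) (tt N113066 (iv0 F483817)) (tt N88564 F386412) (tt N64330 F386413) (tt N84037 F386414) (tt N88628 F386415) (tt N53546 (iv6 D192319)) (tt N84036 F386416))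
theorem Q89417 : ∀ i, i < 89417 → P i := stepQ 89416 Q89416 (allL N89416 (tt N116566 F500766) (tt N116569 D219828) (tt N116570 D219829) (tt N53547 (iv3 D192320)) (tt N97106 (iv4 F415491)) (tt N97098 F419908) (tt N83906 F386417) (tt N116571 D219830))
theorem Q89418 : ∀ i, i < 89418 → P i := stepQ 89417 Q89417 (allL N89417 (tt N98183 (iv1 F419891)) (tt N84734 F386420) (tt N88567 F386418) (tt N97098 (iv3 F419907)) (tt N84716 F386419) (tt N53547 (iv5 D192321)) (tt N98174 (iv6 F419849)) (tt N114082 (iv7 F488508)))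
theorem Q89419 : ∀ i, i < 89419 → P i := stepQ 89418 Q89418 (allL N89418 (tt N54368 (iv1 F386423)) (tt N88565 F386424) (tt N88568 F386421) (tt N116571 (iv3 F500788)) (tt N53548 F386422) (tt N114082 (iv5 F488509)) (tt N116572 D219831) (tt N53547 (iv7 D192322)))
theorem Q89420 : ∀ i, i < 89420 → P i := stepQ 89419 Q89419 (allL N89419 (tt N88580 (iv1 F386428)) (tt N88579 F386429) (tt N88569 F386425) (tt N116566 (iv3 F500762)) (tt N116572 (iv4 F500792)) (tt N84346 F386426) (tt N53548 (iv6 D192323)) (tt N83908 F386427))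
theorem Q89421 : ∀ i, i < 89421 → P i := stepQ 89420 Q89420 (allL N89420 (tt N88922 F386433) (tt N70536 F386434) (tt N76009 F386430) (tt N57690 F386431) (tt N76012 F386432) (tt N101844 (iv5 F434623)) (tt N53551 (iv6 D192324)) (tt N94153 (iv7 F403455)))
theorem Q89422 : ∀ i, i < 89422 → P i := stepQ 89421 Q89421 (allL N89421 (tt N53552 (iv1 D192325)) (tt N75986 F386435) (tt N65170 F386440) (tt N63650 (iv3 F386439)) (tt N54962 F386438) (tt N64428 F386437) (tt N63648 F386441) (tt N64424 F386436))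
theorem Q89423 : ∀ i, i < 89423 → P i := stepQ 89422 Q89422 (allL N89422 (tt N87276 F386446) (tt N91027 (iv0 F391648)) (tt N64401 F386442) (tt N76467 F386443) (tt N75945 F386444) (tt N81397 F386445) (tt N53554 (iv6 D192326)) (tt N115880 (iv7 F497378)))
theorem Q89424 : ∀ i, i < 89424 → P i := stepQ 89423 Q89423 (allL N89423 (tt N110804 (iv1 F473241)) (tt N53581 F390082) (tt N110803 F473233) (tt N94161 (iv3 F403481)) (tt N112678 (iv4 F482130)) (tt N53555 (iv5 D192327)) (tt N99391 (iv6 F424391)) (tt N88516 F386448))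
theorem Q89425 : ∀ i, i < 89425 → P i := stepQ 89424 Q89424 (allL N89424 (tt N90173 (iv1 F388782)) (tt N64303 (iv0 F386451)) (tt N53557 F386449) (tt N104264 (iv3 F445015)) (tt N53556 (iv4 D192328)) (tt N81003 (iv5 F386452)) (tt N69298 F386450) (tt N90172 (iv7 F388773)))
theorem Q89426 : ∀ i, i < 89426 → P i := stepQ 89425 Q89425 (allL N89425 (tt N112127 (iv1 F479631)) (tt N111137 (iv0 F474874)) (tt N53558 F386454) (tt N83171 F386455) (tt N116573 D219832) (tt N53556 (iv5 D192329)) (tt N116574 D219833) (tt N116382 (iv7 F499806)))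
theorem Q89427 : ∀ i, i < 89427 → P i := stepQ 89426 Q89426 (allL N89426 (tt N116382 (iv1 F499808)) (tt N53558 (iv0 D192330)) (tt N112127 (iv2 F479627)) (tt N64551 (iv3 F386457)) (tt N116575 D219834) (tt N64550 F386456) (tt N107958 (iv6 F460475)) (tt N111137 (iv7 F474873)))
theorem Q89428 : ∀ i, i < 89428 → P i := stepQ 89427 Q89427 (allL N89427 (tt N53558 (iv1 D192331)) (tt N116382 (iv0 F499807)) (tt N111137 (iv2 F474871)) (tt N116576 D219835) (tt N116577 D219836) (tt N80839 F386458) (tt N114619 F491039) (tt N112127 (iv7 F479629)))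
theorem Q89429 : ∀ i, i < 89429 → P i := stepQ 89428 Q89428 (allL N89428 (tt N99238 (iv1 F423805)) (tt N99237 F431298) (tt N116573 (iv2 F500797)) (tt N116578 D219837) (tt N53558 (iv4 D192332)) (tt N116579 D219838) (tt N116580 D219839) (tt N110763 F473060))
theorem Q89430 : ∀ i, i < 89430 → P i := stepQ 89429 Q89429 (allL N89429 (tt N116476 F500337) (tt N116581 D219840) (tt N116574 (iv2 F500800)) (tt N53565 F386459) (tt N116580 (iv4 F500830)) (tt N88928 F386460) (tt N53558 (iv6 D192333)) (tt N116582 D219841))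
theorem Q89431 : ∀ i, i < 89431 → P i := stepQ 89430 Q89430 (allL N89430 (tt N81082 (iv1 F386463)) (tt N53559 (iv0 D192334)) (tt N81081 (iv2 F386462)) (tt N77606 F386461) (tt N102396 (iv4 F437049)) (tt N77605 (iv5 F386466)) (tt N75844 (iv6 F386465)) (tt N80938 F386464))
theorem Q89432 : ∀ i, i < 89432 → P i := stepQ 89431 Q89431 (allL N89431 (tt N55044 F386471) (tt N54347 F386472) (tt N62138 F386467) (tt N53560 F386468) (tt N55034 (iv4 F386473)) (tt N53559 (iv5 D192335)) (tt N62137 F386469) (tt N81083 F386470))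
theorem Q89433 : ∀ i, i < 89433 → P i := stepQ 89432 Q89432 (allL N89432 (tt N53560 (iv1 D192336)) (tt N53574 F386475) (tt N81077 (iv2 F386478)) (tt N100498 (iv3 F429198)) (tt N73061 (iv4 F386480)) (tt N54379 F386477) (tt N74571 (iv6 F386479)) (tt N54378 F386476))
theorem Q89434 : ∀ i, i < 89434 → P i := stepQ 89433 Q89433 (allL N89433 (tt N90484 (iv1 F389810)) (tt N73184 F386498) (tt N81078 F386496) (tt N91608 (iv3 F393769)) (tt N53560 (iv4 D192337)) (tt N112297 (iv5 F480417)) (tt N116583 D219842) (tt N81085 F386497))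
theorem Q89435 : ∀ i, i < 89435 → P i := stepQ 89434 Q89434 (allL N89434 (tt N60396 F386503) (tt N60395 (iv0 F386504)) (tt N58806 F386499) (tt N62137 F386500) (tt N116583 (iv4 F500844)) (tt N60383 F386501) (tt N53560 (iv6 D192338)) (tt N60394 F386502))
theorem Q89436 : ∀ i, i < 89436 → P i := stepQ 89435 Q89435 (allL N89435 (tt N80620 (iv1 F386511)) (tt N80617 (iv0 F386508)) (tt N64569 F386505) (tt N53562 (iv3 D192339)) (tt N96906 (iv4 F414544)) (tt N64567 F386506) (tt N82187 (iv6 F386509)) (tt N77257 F386507))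
theorem Q89437 : ∀ i, i < 89437 → P i := stepQ 89436 Q89436 (allL N89436 (tt N53947 F386513) (tt N53943 F386514) (tt N107683 (iv2 F459215)) (tt N74704 (iv3 F388149)) (tt N53562 (iv4 D192340)) (tt N74703 F388150) (tt N107681 F459213) (tt N116145 (iv7 F498731)))
theorem Q89438 : ∀ i, i < 89438 → P i := stepQ 89437 Q89437 (allL N89437 (tt N95956 F410423) (tt N96193 (iv0 F411430)) (tt N90984 (iv2 F391468)) (tt N82187 F386515) (tt N107681 (iv4 F459210)) (tt N88631 F386516) (tt N53562 (iv6 D192341)) (tt N90986 (iv7 F391480)))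
theorem Q89439 : ∀ i, i < 89439 → P i := stepQ 89438 Q89438 (allL N89438 (tt N53943 F386518) (tt N53947 F386519) (tt N116145 (iv2 F498727)) (tt N58180 F386517) (tt N53563 (iv4 D192342)) (tt N93602 (iv5 F401239)) (tt N101872 F434770) (tt N107683 (iv7 F459218)))
theorem Q89440 : ∀ i, i < 89440 → P i := stepQ 89439 Q89439 (allL N89439 (tt N53564 (iv1 D192343)) (tt N53576 F386520) (tt N74621 (iv2 F386523)) (tt N108214 F461522) (tt N54386 F386522) (tt N74620 F386524) (tt N89609 (iv6 F386943)) (tt N54385 F386521))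
theorem Q89441 : ∀ i, i < 89441 → P i := stepQ 89440 Q89440 (allL N89440 (tt N116584 D219843) (tt N116585 D219844) (tt N116586 D219845) (tt N53564 (iv3 D192344)) (tt N116578 (iv4 F500824)) (tt N116587 D219846) (tt N116588 D219847) (tt N81955 (iv7 F394594)))
theorem Q89442 : ∀ i, i < 89442 → P i := stepQ 89441 Q89441 (allL N89441 (tt N89990 (iv1 F388218)) (tt N89081 F386525) (tt N89987 F388207) (tt N116587 (iv3 F500867)) (tt N112298 (iv4 F480425)) (tt N53564 (iv5 D192345)) (tt N116589 D219848) (tt N89988 (iv7 F388209)))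
theorem Q89443 : ∀ i, i < 89443 → P i := stepQ 89442 Q89442 (allL N89442 (tt N114940 (iv1 F492659)) (tt N93330 F400433) (tt N115102 F493490) (tt N116588 (iv3 F500871)) (tt N53565 F386526) (tt N116590 D219849) (tt N53564 (iv6 D192346)) (tt N115103 (iv7 F493493)))
theorem Q89444 : ∀ i, i < 89444 → P i := stepQ 89443 Q89443 (allL N89443 (tt N95957 (iv1 F410430)) (tt N95959 F410440) (tt N95958 F410433) (tt N116582 (iv3 F500838)) (tt N115103 (iv4 F493494)) (tt N88931 F386527) (tt N86233 F386528) (tt N53565 (iv7 D192347)))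
theorem Q89445 : ∀ i, i < 89445 → P i := stepQ 89444 Q89444 (allL N89444 (tt N53584 (iv1 F386533)) (tt N83172 F386532) (tt N78326 F386529) (tt N76094 F386530) (tt N107342 (iv4 F458022)) (tt N53568 (iv5 D192348)) (tt N99398 (iv6 F424407)) (tt N76092 F386531))
theorem Q89446 : ∀ i, i < 89446 → P i := stepQ 89445 Q89445 (allL N89445 (tt N78318 F386536) (tt N57459 (iv0 F386538)) (tt N53570 F386534) (tt N80345 F386537) (tt N53569 (iv4 D192349)) (tt N99493 (iv5 F424837)) (tt N107629 (iv6 F459004)) (tt N83170 F386535))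
theorem Q89447 : ∀ i, i < 89447 → P i := stepQ 89446 Q89446 (allL N89446 (tt N108257 (iv1 F461735)) (tt N77269 F386541) (tt N53571 F386539) (tt N116382 (iv3 F499805)) (tt N116591 D219850) (tt N53569 (iv5 D192350)) (tt N116592 D219851) (tt N83171 F386540))
theorem Q89448 : ∀ i, i < 89448 → P i := stepQ 89447 Q89447 (allL N89447 (tt N109511 (iv1 F467313)) (tt N77067 F386563) (tt N53572 F386542) (tt N109781 (iv3 F468583)) (tt N107629 F459006) (tt N116593 D219852) (tt N53569 (iv6 D192351)) (tt N109776 (iv7 F468562)))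
theorem Q89449 : ∀ i, i < 89449 → P i := stepQ 89448 Q89448 (allL N89448 (tt N107631 F459018) (tt N107624 (iv0 F458985)) (tt N107629 F459005) (tt N74314 F386543) (tt N53572 F386544) (tt N110593 (iv5 F472289)) (tt N53570 (iv6 D192352)) (tt N107630 (iv7 F459009)))
theorem Q89450 : ∀ i, i < 89450 → P i := stepQ 89449 Q89449 (allL N89449 (tt N83171 (iv1 F386547)) (tt N53571 (iv0 D192353)) (tt N108257 (iv2 F461730)) (tt N65185 F386546) (tt N108712 (iv4 F463655)) (tt N65184 F386545) (tt N112161 (iv6 F479825)) (tt N77269 (iv7 F386548)))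
theorem Q89451 : ∀ i, i < 89451 → P i := stepQ 89450 Q89450 (allL N89450 (tt N53571 (iv1 D192354)) (tt N83171 F386549) (tt N77269 (iv2 F386550)) (tt N107101 (iv3 F456970)) (tt N108711 (iv4 F463652)) (tt N77268 (iv5 F386551)) (tt N107100 (iv6 F456967)) (tt N108257 (iv7 F461732)))
theorem Q89452 : ∀ i, i < 89452 → P i := stepQ 89451 Q89451 (allL N89451 (tt N116594 D219853) (tt N116595 D219854) (tt N116591 (iv2 F500885)) (tt N116596 D219855) (tt N53571 (iv4 D192355)) (tt N116597 D219856) (tt N116598 D219857) (tt N116379 (iv7 F499793)))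
theorem Q89453 : ∀ i, i < 89453 → P i := stepQ 89452 Q89452 (allL N89452 (tt N116599 D219858) (tt N116358 (iv0 F499701)) (tt N116592 (iv2 F500890)) (tt N53577 F386552) (tt N116598 (iv4 F500916)) (tt N116600 D219859) (tt N53571 (iv6 D192356)) (tt N116601 D219860))
theorem Q89454 : ∀ i, i < 89454 → P i := stepQ 89453 Q89453 (allL N89453 (tt N109776 F468565) (tt N53572 (iv0 D192357)) (tt N109511 (iv2 F467309)) (tt N75469 F386553) (tt N68289 F386554) (tt N109509 F467306) (tt N68287 F386555) (tt N77067 (iv7 F386556)))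
theorem Q89455 : ∀ i, i < 89455 → P i := stepQ 89454 Q89454 (allL N89454 (tt N53572 (iv1 D192358)) (tt N109776 (iv0 F468564)) (tt N77067 F424191) (tt N63130 F424192) (tt N99341 (iv4 F424190)) (tt N109484 (iv5 F467203)) (tt N63128 F424193) (tt N109511 (iv7 F467311)))
theorem Q89456 : ∀ i, i < 89456 → P i := stepQ 89455 Q89455 (allL N89455 (tt N77418 F386558) (tt N75869 (iv0 F386559)) (tt N116593 (iv2 F500893)) (tt N53579 F386557) (tt N116602 D219861) (tt N53572 (iv5 D192359)) (tt N116600 (iv6 F500924)) (tt N113532 F485915))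
theorem Q89457 : ∀ i, i < 89457 → P i := stepQ 89456 Q89456 (allL N89456 (tt N77067 F386562) (tt N109511 (iv0 F467315)) (tt N109776 (iv2 F468560)) (tt N53580 F386560) (tt N107630 (iv4 F459010)) (tt N113532 (iv5 F485914)) (tt N88922 F386561) (tt N53572 (iv7 D192360)))
theorem Q89458 : ∀ i, i < 89458 → P i := stepQ 89457 Q89457 (allL N89457 (tt N73184 F386566) (tt N90484 (iv0 F389809)) (tt N81085 F386564) (tt N60034 F386567) (tt N53574 (iv4 D192361)) (tt N112298 (iv5 F480424)) (tt N93379 (iv6 F400587)) (tt N81078 F386565))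
theorem Q89459 : ∀ i, i < 89459 → P i := stepQ 89458 Q89458 (allL N89458 (tt N98303 F420424) (tt N81108 (iv0 F386571)) (tt N81086 F386568) (tt N60402 F386569) (tt N93379 F400588) (tt N100652 (iv5 F429855)) (tt N53574 (iv6 D192362)) (tt N60398 F386570))
theorem Q89460 : ∀ i, i < 89460 → P i := stepQ 89459 Q89459 (allL N89459 (tt N81089 (iv1 F386577)) (tt N53575 (iv0 D192363)) (tt N81087 (iv2 F386575)) (tt N108442 (iv3 F462584)) (tt N81384 F386573) (tt N80712 F386572) (tt N80964 F386574) (tt N80953 F386576))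
theorem Q89461 : ∀ i, i < 89461 → P i := stepQ 89460 Q89460 (allL N89460 (tt N54432 F386579) (tt N54426 F386581) (tt N81088 F386578) (tt N91311 (iv3 F392666)) (tt N76615 F386580) (tt N53575 (iv5 D192364)) (tt N100652 (iv6 F429856)) (tt N92653 (iv7 F397774)))
theorem Q89462 : ∀ i, i < 89462 → P i := stepQ 89461 Q89461 (allL N89461 (tt N80953 (iv1 F386586)) (tt N81087 F386587) (tt N81089 F386582) (tt N82039 F386583) (tt N53580 F386584) (tt N92653 (iv5 F397775)) (tt N81080 F386585) (tt N53575 (iv7 D192365)))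
theorem Q89463 : ∀ i, i < 89463 → P i := stepQ 89462 Q89462 (allL N89462 (tt N116603 D219862) (tt N107678 (iv0 F459199)) (tt N116604 D219863) (tt N53576 (iv3 D192366)) (tt N116596 (iv4 F500909)) (tt N116605 D219864) (tt N96517 F412821) (tt N116381 (iv7 F499803)))
theorem Q89464 : ∀ i, i < 89464 → P i := stepQ 89463 Q89463 (allL N89463 (tt N89081 F386588) (tt N89990 F388217) (tt N89988 F388211) (tt N116605 (iv3 F500938)) (tt N112297 (iv4 F480418)) (tt N53576 (iv5 D192367)) (tt N93467 F400810) (tt N89987 F388208))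
theorem Q89465 : ∀ i, i < 89465 → P i := stepQ 89464 Q89464 (allL N89464 (tt N115014 (iv1 F493060)) (tt N89584 (iv0 F386829)) (tt N81953 F394587) (tt N96517 (iv3 F412817)) (tt N53577 F386589) (tt N81952 (iv5 F394586)) (tt N53576 (iv6 D192368)) (tt N115013 (iv7 F493049)))
theorem Q89466 : ∀ i, i < 89466 → P i := stepQ 89465 Q89465 (allL N89465 (tt N107337 (iv1 F458006)) (tt N115431 (iv0 F495161)) (tt N114717 (iv2 F491501)) (tt N116600 (iv3 F500923)) (tt N54588 F386591) (tt N53577 (iv5 D192369)) (tt N53579 F386590) (tt N91166 (iv7 F392131)))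
theorem Q89467 : ∀ i, i < 89467 → P i := stepQ 89466 Q89466 (allL N89466 (tt N53600 (iv1 F386593)) (tt N86234 F386594) (tt N86233 F386592) (tt N116601 (iv3 F500927)) (tt N115013 (iv4 F493051)) (tt N91166 (iv5 F392132)) (tt N95958 F410434) (tt N53577 (iv7 D192370)))
theorem Q89468 : ∀ i, i < 89468 → P i := stepQ 89467 Q89467 (allL N89467 (tt N54434 F386596) (tt N54429 F386597) (tt N112324 (iv2 F480559)) (tt N83364 F386598) (tt N53579 (iv4 D192371)) (tt N105118 (iv5 F448880)) (tt N54588 F386595) (tt N112325 (iv7 F480562)))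
theorem Q89469 : ∀ i, i < 89469 → P i := stepQ 89468 Q89468 (allL N89468 (tt N64525 (iv1 F386601)) (tt N80880 F386602) (tt N81395 F386599) (tt N113532 (iv3 F485913)) (tt N112325 (iv4 F480564)) (tt N53580 F386600) (tt N84745 (iv6 F386603)) (tt N53579 (iv7 D192372)))
theorem Q89470 : ∀ i, i < 89470 → P i := stepQ 89469 Q89469 (allL N89469 (tt N107772 F459659) (tt N107925 (iv0 F460318)) (tt N110643 (iv2 F472558)) (tt N53582 (iv3 D192374)) (tt N110639 (iv4 F472544)) (tt N108922 (iv5 F464499)) (tt N110638 F472541) (tt N89983 (iv7 F388190)))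
theorem Q89471 : ∀ i, i < 89471 → P i := stepQ 89470 Q89470 (allL N89470 (tt N114544 (iv1 F490701)) (tt N107150 F457207) (tt N89982 (iv2 F388186)) (tt N110638 (iv3 F472537)) (tt N53583 F386604) (tt N109644 (iv5 F467901)) (tt N53582 (iv6 D192375)) (tt N96182 (iv7 F411376)))
theorem Q89472 : ∀ i, i < 89472 → P i := stepQ 89471 Q89471 (allL N89471 (tt N76092 (iv1 F386607)) (tt N78326 (iv0 F386608)) (tt N53584 (iv2 D192376)) (tt N110804 (iv3 F473237)) (tt N110824 (iv4 F473312)) (tt N82959 F386605) (tt N116606 D219865) (tt N83172 F386606))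
theorem Q89473 : ∀ i, i < 89473 → P i := stepQ 89472 Q89472 (allL N89472 (tt N100103 F427524) (tt N101189 (iv0 F432107)) (tt N110824 (iv2 F473310)) (tt N116607 D219866) (tt N53584 (iv4 D192377)) (tt N116608 D219867) (tt N116609 D219868) (tt N110823 F473309))
theorem Q89474 : ∀ i, i < 89474 → P i := stepQ 89473 Q89473 (allL N89473 (tt N116278 (iv1 F499326)) (tt N72085 F487102) (tt N116606 (iv2 F500942)) (tt N53586 F386611) (tt N116609 (iv4 F500951)) (tt N113785 (iv5 F487100)) (tt N53584 (iv6 D192378)) (tt N116610 D219869))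
theorem Q89475 : ∀ i, i < 89475 → P i := stepQ 89474 Q89474 (allL N89474 (tt N107873 (iv1 F460071)) (tt N92384 (iv0 F396899)) (tt N107872 F460068) (tt N53585 (iv3 D192379)) (tt N116607 (iv4 F500947)) (tt N108897 (iv5 F464403)) (tt N116611 D219870) (tt N89980 (iv7 F388176)))
theorem Q89476 : ∀ i, i < 89476 → P i := stepQ 89475 Q89475 (allL N89475 (tt N116612 D219871) (tt N96092 (iv0 F411008)) (tt N89985 (iv2 F388196)) (tt N116611 (iv3 F500961)) (tt N53586 F386612) (tt N56390 F386613) (tt N53585 (iv6 D192380)) (tt N116613 D219872))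
theorem Q89477 : ∀ i, i < 89477 → P i := stepQ 89476 Q89476 (allL N89476 (tt N97708 F418005) (tt N92146 F411382) (tt N96183 (iv2 F411377)) (tt N116610 (iv3 F500956)) (tt N116613 (iv4 F500973)) (tt N104267 (iv5 F445029)) (tt N59283 F386614) (tt N53586 (iv7 D192381)))
theorem Q89478 : ∀ i, i < 89478 → P i := stepQ 89477 Q89477 (allL N89477 (tt N107788 F459733) (tt N115028 (iv0 F493111)) (tt N116614 D219873) (tt N53587 (iv3 D192382)) (tt N107964 (iv4 F460504)) (tt N55257 F386618) (tt N94592 (iv6 F405102)) (tt N107706 (iv7 F459312)))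
theorem Q89479 : ∀ i, i < 89479 → P i := stepQ 89478 Q89478 (allL N89478 (tt N107839 (iv1 F459937)) (tt N107854 F460001) (tt N107710 (iv2 F459330)) (tt N55257 (iv3 F386616)) (tt N73059 F386615) (tt N53587 (iv5 D192383)) (tt N55256 (iv6 F386617)) (tt N107707 (iv7 F459316)))
theorem Q89480 : ∀ i, i < 89480 → P i := stepQ 89479 Q89479 (allL N89479 (tt N115063 F493306) (tt N97037 (iv0 F415144)) (tt N104246 (iv2 F444910)) (tt N53588 (iv3 D192384)) (tt N75840 F386619) (tt N93856 F402175) (tt N95863 (iv6 F410005)) (tt N107709 (iv7 F459327)))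
theorem Q89481 : ∀ i, i < 89481 → P i := stepQ 89480 Q89480 (allL N89480 (tt N107854 (iv1 F460002)) (tt N107839 (iv0 F459939)) (tt N107707 (iv2 F459314)) (tt N93856 (iv3 F402171)) (tt N72928 F386620) (tt N53588 (iv5 D192385)) (tt N72927 (iv6 F386621)) (tt N107710 (iv7 F459333)))
theorem Q89482 : ∀ i, i < 89482 → P i := stepQ 89481 Q89481 (allL N89481 (tt N97411 (iv1 F416771)) (tt N97714 (iv0 F418035)) (tt N107708 (iv2 F459321)) (tt N95863 (iv3 F410004)) (tt N53954 F386622) (tt N95862 (iv5 F410001)) (tt N53588 (iv6 D192386)) (tt N94594 (iv7 F405110)))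
theorem Q89483 : ∀ i, i < 89483 → P i := stepQ 89482 Q89482 (allL N89482 (tt N107699 (iv1 F459285)) (tt N53589 (iv0 D192387)) (tt N107712 F459344) (tt N116615 D219874) (tt N93616 (iv4 F401288)) (tt N53943 F386623) (tt N116616 D219875) (tt N107711 F459340))
theorem Q89484 : ∀ i, i < 89484 → P i := stepQ 89483 Q89483 (allL N89483 (tt N53589 (iv1 D192388)) (tt N107699 (iv0 F459284)) (tt N107711 F459339) (tt N90541 F390021) (tt N90553 (iv4 F390071)) (tt N53947 F386624) (tt N95163 F407274) (tt N107712 (iv7 F459343)))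
theorem Q89485 : ∀ i, i < 89485 → P i := stepQ 89484 Q89484 (allL N89484 (tt N112298 (iv1 F480422)) (tt N112297 F480419) (tt N108986 F464778) (tt N116617 D219876) (tt N53589 (iv4 D192389)) (tt N112101 (iv5 F479495)) (tt N81982 (iv6 F419968)) (tt N107713 (iv7 F459347)))
theorem Q89486 : ∀ i, i < 89486 → P i := stepQ 89485 Q89485 (allL N89485 (tt N108835 (iv1 F464178)) (tt N85857 (iv0 F386914)) (tt N108836 (iv2 F464182)) (tt N85871 F386625) (tt N106329 (iv4 F454054)) (tt N53590 (iv5 D192390)) (tt N116618 D219877) (tt N61389 F386626))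
theorem Q89487 : ∀ i, i < 89487 → P i := stepQ 89486 Q89486 (allL N89486 (tt N115118 (iv1 F493576)) (tt N76821 F386627) (tt N114613 (iv2 F491016)) (tt N116619 D219878) (tt N53591 (iv4 D192391)) (tt N107560 (iv5 F458748)) (tt N99088 F423297) (tt N114401 (iv7 F489968)))
theorem Q89488 : ∀ i, i < 89488 → P i := stepQ 89487 Q89487 (allL N89487 (tt N77999 F386629) (tt N110627 F472489) (tt N53595 F386628) (tt N77970 F429071) (tt N53592 (iv4 D192392)) (tt N114636 (iv5 F491126)) (tt N62041 (iv6 F386653)) (tt N110626 (iv7 F472483)))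
theorem Q89489 : ∀ i, i < 89489 → P i := stepQ 89488 Q89488 (allL N89488 (tt N116620 D219879) (tt N107954 (iv0 F460461)) (tt N53596 F386630) (tt N83175 F386631) (tt N62041 (iv4 F386652)) (tt N113818 (iv5 F487269)) (tt N53592 (iv6 D192393)) (tt N116621 D219880))
theorem Q89490 : ∀ i, i < 89490 → P i := stepQ 89489 Q89489 (allL N89489 (tt N100463 (iv1 F429079)) (tt N99967 F426998) (tt N78207 F386632) (tt N116622 D219881) (tt N53593 (iv4 D192394)) (tt N116623 D219882) (tt N78199 F386633) (tt N100462 (iv7 F429074)))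
theorem Q89491 : ∀ i, i < 89491 → P i := stepQ 89490 Q89490 (allL N89490 (tt N55342 F386637) (tt N76288 F386638) (tt N83198 F386639) (tt N53594 (iv3 D192395)) (tt N53914 (iv4 F386636)) (tt N82893 F386634) (tt N116624 D219883) (tt N83199 F386635))
theorem Q89492 : ∀ i, i < 89492 → P i := stepQ 89491 Q89491 (allL N89491 (tt N99967 F426997) (tt N100463 F429080) (tt N100462 F429072) (tt N91462 (iv3 F393236)) (tt N53594 (iv4 D192396)) (tt N116625 D219884) (tt N82112 (iv6 F386641)) (tt N78207 F386640))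
theorem Q89493 : ∀ i, i < 89493 → P i := stepQ 89492 Q89492 (allL N89492 (tt N110762 F473055) (tt N110759 (iv0 F482164)) (tt N114615 (iv2 F491025)) (tt N116624 (iv3 F501030)) (tt N82112 F386642) (tt N116519 (iv5 F500583)) (tt N53594 (iv6 D192397)) (tt N82109 F386643))
theorem Q89494 : ∀ i, i < 89494 → P i := stepQ 89493 Q89493 (allL N89493 (tt N116626 D219885) (tt N81939 F413422) (tt N110037 (iv2 F469662)) (tt N53595 (iv3 D192398)) (tt N53601 F386644) (tt N116627 D219886) (tt N93550 F401110) (tt N110036 (iv7 F469661)))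
theorem Q89495 : ∀ i, i < 89495 → P i := stepQ 89494 Q89494 (allL N89494 (tt N107549 F458729) (tt N90193 (iv0 F388837)) (tt N114636 (iv2 F491125)) (tt N116627 (iv3 F501043)) (tt N114625 (iv4 F491068)) (tt N53595 (iv5 D192399)) (tt N116628 D219887) (tt N114616 (iv7 F491031)))
theorem Q89496 : ∀ i, i < 89496 → P i := stepQ 89495 Q89495 (allL N89495 (tt N62043 F386646) (tt N61787 F386647) (tt N62041 F386651) (tt N93550 (iv3 F401108)) (tt N53596 F386645) (tt N93549 (iv5 F401106)) (tt N53595 (iv6 D192400)) (tt N62042 F386650))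
theorem Q89497 : ∀ i, i < 89497 → P i := stepQ 89496 Q89496 (allL N89496 (tt N116621 (iv1 F501018)) (tt N53596 (iv0 D192401)) (tt N116620 F501010) (tt N72039 F386814) (tt N116629 D219888) (tt N73841 (iv5 F386815)) (tt N116476 (iv6 F500335)) (tt N107954 F460463))
theorem Q89498 : ∀ i, i < 89498 → P i := stepQ 89497 Q89497 (allL N89497 (tt N53596 (iv1 D192402)) (tt N116621 F501017) (tt N107954 (iv2 F460457)) (tt N107966 (iv3 F460515)) (tt N61982 (iv4 F423279)) (tt N116630 D219889) (tt N61991 F423280) (tt N116620 (iv7 F501011)))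
theorem Q89499 : ∀ i, i < 89499 → P i := stepQ 89498 Q89498 (allL N89498 (tt N107954 (iv1 F460462)) (tt N116620 F501012) (tt N116621 (iv2 F501013)) (tt N53604 F386648) (tt N62042 (iv4 F386649)) (tt N97713 (iv5 F418031)) (tt N114620 (iv6 F491042)) (tt N53596 (iv7 D192403)))
theorem Q89500 : ∀ i, i < 89500 → P i := stepQ 89499 Q89499 (allL N89499 (tt N116415 F499987) (tt N108101 F461108) (tt N86153 F386654) (tt N57749 F386655) (tt N53600 F386656) (tt N73089 F386657) (tt N53599 (iv6 D192404)) (tt N57745 F386658))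
theorem Q89501 : ∀ i, i < 89501 → P i := stepQ 89500 Q89500 (allL N89500 (tt N62008 F400252) (tt N108226 (iv0 F461566)) (tt N110038 (iv2 F469664)) (tt N53602 F386659) (tt N93550 F401109) (tt N116631 D219890) (tt N53601 (iv6 D192406)) (tt N107759 (iv7 F459598)))
theorem Q89502 : ∀ i, i < 89502 → P i := stepQ 89501 Q89501 (allL N89501 (tt N107949 (iv1 F460432)) (tt N53602 (iv0 D192407)) (tt N89594 (iv2 F386878)) (tt N59143 F400227) (tt N55102 F386879) (tt N59142 (iv5 F400226)) (tt N114940 (iv6 F492656)) (tt N89596 (iv7 F386886)))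
theorem Q89503 : ∀ i, i < 89503 → P i := stepQ 89502 Q89502 (allL N89502 (tt N53602 (iv1 D192408)) (tt N107949 (iv0 F460433)) (tt N89596 (iv2 F386885)) (tt N93317 (iv3 F400370)) (tt N55103 F386660) (tt N92912 (iv5 F400232)) (tt N93316 F400368) (tt N89594 (iv7 F386877)))
theorem Q89504 : ∀ i, i < 89504 → P i := stepQ 89503 Q89503 (allL N89503 (tt N78226 F417954) (tt N108924 (iv0 F464510)) (tt N97409 (iv2 F416760)) (tt N116631 (iv3 F501065)) (tt N95786 (iv4 F409638)) (tt N53602 (iv5 D192409)) (tt N93518 F401006) (tt N97406 (iv7 F416752)))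
theorem Q89505 : ∀ i, i < 89505 → P i := stepQ 89504 Q89504 (allL N89504 (tt N89596 (iv1 F386888)) (tt N89594 F386890) (tt N107949 (iv2 F460429)) (tt N107759 (iv3 F459596)) (tt N53604 F386661) (tt N97406 (iv5 F416753)) (tt N107757 F459589) (tt N53602 (iv7 D192410)))
theorem Q89506 : ∀ i, i < 89506 → P i := stepQ 89505 Q89505 (allL N89505 (tt N91447 (iv1 F393159)) (tt N53648 (iv0 F386664)) (tt N91444 F393144) (tt N77505 F386662) (tt N53603 (iv4 D192411)) (tt N81130 F386663) (tt N103074 (iv6 F439962)) (tt N91445 (iv7 F393149)))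
theorem Q89507 : ∀ i, i < 89507 → P i := stepQ 89506 Q89506 (allL N89506 (tt N63498 F386669) (tt N83156 F386670) (tt N55269 F386666) (tt N87058 F386667) (tt N108710 (iv4 F463648)) (tt N53605 (iv5 D192412)) (tt N90565 (iv6 F390126)) (tt N83150 F386668))
theorem Q89508 : ∀ i, i < 89508 → P i := stepQ 89507 Q89507 (allL N89507 (tt N83180 F386673) (tt N83179 F386674) (tt N83183 F386671) (tt N77013 F386675) (tt N53606 (iv4 D192413)) (tt N109578 (iv5 F467587)) (tt N92344 (iv6 F396773)) (tt N83167 F386672))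
theorem Q89509 : ∀ i, i < 89509 → P i := stepQ 89508 Q89508 (allL N89508 (tt N54998 F386680) (tt N54997 F386679) (tt N53610 F386676) (tt N55012 F386677) (tt N96844 (iv4 F414229)) (tt N53607 (iv5 D192414)) (tt N97344 (iv6 F416435)) (tt N54996 F386678))
theorem Q89510 : ∀ i, i < 89510 → P i := stepQ 89509 Q89509 (allL N89509 (tt N116384 (iv1 F499816)) (tt N74508 F386683) (tt N53614 F386681) (tt N106463 F472462) (tt N53608 (iv4 D192415)) (tt N116632 D219891) (tt N116633 D219892) (tt N83174 F386682))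
theorem Q89511 : ∀ i, i < 89511 → P i := stepQ 89510 Q89510 (allL N89510 (tt N116634 D219893) (tt N112161 F479828) (tt N53615 F386684) (tt N114614 (iv3 F491024)) (tt N116633 (iv4 F501074)) (tt N113553 (iv5 F486003)) (tt N53608 (iv6 D192416)) (tt N116635 D219894))
theorem Q89512 : ∀ i, i < 89512 → P i := stepQ 89511 Q89511 (allL N89511 (tt N53878 F386690) (tt N53876 (iv0 F386691)) (tt N53905 F386685) (tt N53609 (iv3 D192417)) (tt N55341 F386686) (tt N74189 F386687) (tt N83112 F386688) (tt N53853 F386689))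
theorem Q89513 : ∀ i, i < 89513 → P i := stepQ 89512 Q89512 (allL N89512 (tt N55984 F386693) (tt N96846 F414236) (tt N96844 F414230) (tt N94098 (iv3 F403193)) (tt N53610 (iv4 D192418)) (tt N116636 D219895) (tt N116637 D219896) (tt N54999 F386692))
theorem Q89514 : ∀ i, i < 89514 → P i := stepQ 89513 Q89513 (allL N89513 (tt N97128 F415587) (tt N97342 (iv0 F416432)) (tt N97344 (iv2 F416433)) (tt N54924 F386694) (tt N116637 (iv4 F501090)) (tt N114115 (iv5 F488603)) (tt N53610 (iv6 D192419)) (tt N97332 (iv7 F416385)))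
theorem Q89515 : ∀ i, i < 89515 → P i := stepQ 89514 Q89514 (allL N89514 (tt N109688 (iv1 F468117)) (tt N102733 (iv0 F438405)) (tt N116357 (iv2 F499694)) (tt N77719 F386695) (tt N53612 (iv4 D192420)) (tt N116638 D219897) (tt N116639 D219898) (tt N114080 (iv7 F488497)))
theorem Q89516 : ∀ i, i < 89516 → P i := stepQ 89515 Q89515 (allL N89515 (tt N116592 F500892) (tt N116601 F500928) (tt N116358 (iv2 F499699)) (tt N55099 F386696) (tt N116639 (iv4 F501095)) (tt N83312 F386697) (tt N53612 (iv6 D192421)) (tt N116599 F500921))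
theorem Q89517 : ∀ i, i < 89517 → P i := stepQ 89516 Q89516 (allL N89516 (tt N102733 F438408) (tt N109688 (iv0 F468116)) (tt N114080 (iv2 F488494)) (tt N116640 D219899) (tt N53613 (iv4 D192422)) (tt N116641 D219900) (tt N59279 (iv6 F386700)) (tt N116357 (iv7 F499695)))
theorem Q89518 : ∀ i, i < 89518 → P i := stepQ 89517 Q89517 (allL N89517 (tt N75154 F404116) (tt N75152 (iv0 F386701)) (tt N114079 (iv2 F488487)) (tt N78167 F386698) (tt N59279 F386699) (tt N109133 (iv5 F465492)) (tt N53613 (iv6 D192423)) (tt N95917 (iv7 F410250)))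
theorem Q89519 : ∀ i, i < 89519 → P i := stepQ 89518 Q89518 (allL N89518 (tt N83174 (iv1 F386703)) (tt N53614 (iv0 D192424)) (tt N116384 F499819) (tt N67103 (iv3 F386704)) (tt N74873 F386702) (tt N109584 (iv5 F467603)) (tt N116642 D219901) (tt N74508 (iv7 F386705)))
theorem Q89520 : ∀ i, i < 89520 → P i := stepQ 89519 Q89519 (allL N89519 (tt N53614 (iv1 D192425)) (tt N83174 F386706) (tt N74508 (iv2 F386708)) (tt N109569 (iv3 F467570)) (tt N76295 F386707) (tt N116643 D219902) (tt N96290 F411901) (tt N116384 (iv7 F499817)))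
theorem Q89521 : ∀ i, i < 89521 → P i := stepQ 89520 Q89520 (allL N89520 (tt N116644 D219903) (tt N116645 D219904) (tt N116646 D219905) (tt N53614 (iv3 D192426)) (tt N53617 F386709) (tt N116647 D219906) (tt N116648 D219907) (tt N116385 (iv7 F499823)))
theorem Q89522 : ∀ i, i < 89522 → P i := stepQ 89521 Q89521 (allL N89521 (tt N100102 (iv1 F427520)) (tt N74515 (iv0 F386769)) (tt N116632 (iv2 F501068)) (tt N116647 (iv3 F501130)) (tt N116649 D219908) (tt N53614 (iv5 D192427)) (tt N116650 D219909) (tt N116386 (iv7 F499827)))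
theorem Q89523 : ∀ i, i < 89523 → P i := stepQ 89522 Q89522 (allL N89522 (tt N116651 D219910) (tt N116652 D219911) (tt N116633 (iv2 F501073)) (tt N116648 (iv3 F501132)) (tt N53615 F386710) (tt N94265 (iv5 F403903)) (tt N53614 (iv6 D192428)) (tt N116653 D219912))
theorem Q89524 : ∀ i, i < 89524 → P i := stepQ 89523 Q89523 (allL N89523 (tt N116635 (iv1 F501085)) (tt N53615 (iv0 D192429)) (tt N116634 F501077) (tt N83203 F386718) (tt N92483 F397127) (tt N116654 D219913) (tt N116655 D219914) (tt N112161 (iv7 F479826)))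
theorem Q89525 : ∀ i, i < 89525 → P i := stepQ 89524 Q89524 (allL N89524 (tt N53615 (iv1 D192430)) (tt N116635 F501084) (tt N112161 (iv2 F479823)) (tt N108017 F461737) (tt N116656 D219915) (tt N116161 (iv5 F498809)) (tt N108257 (iv6 F461736)) (tt N116634 (iv7 F501079)))
theorem Q89526 : ∀ i, i < 89526 → P i := stepQ 89525 Q89525 (allL N89525 (tt N116657 D219916) (tt N116164 (iv0 F498826)) (tt N113553 (iv2 F486002)) (tt N53621 F386711) (tt N116658 D219917) (tt N53615 (iv5 D192431)) (tt N53616 F386712) (tt N116659 D219918))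
theorem Q89527 : ∀ i, i < 89527 → P i := stepQ 89526 Q89526 (allL N89526 (tt N112161 F479827) (tt N116634 F501081) (tt N116635 (iv2 F501082)) (tt N53622 F386713) (tt N116653 (iv4 F501156)) (tt N116659 (iv5 F501180)) (tt N107948 (iv6 F460426)) (tt N53615 (iv7 D192432)))
theorem Q89528 : ∀ i, i < 89528 → P i := stepQ 89527 Q89527 (allL N89527 (tt N106560 (iv1 F486010)) (tt N112804 F482690) (tt N113552 (iv2 F485999)) (tt N110887 F473615) (tt N53616 (iv4 D192433)) (tt N110886 (iv5 F473616)) (tt N116658 (iv6 F501176)) (tt N113554 (iv7 F486006)))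
theorem Q89529 : ∀ i, i < 89529 → P i := stepQ 89528 Q89528 (allL N89528 (tt N94620 (iv1 F405253)) (tt N53617 (iv0 D192434)) (tt N94621 (iv2 F405255)) (tt N109355 F466544) (tt N110456 F471673) (tt N89631 (iv5 F405262)) (tt N96507 (iv6 F412791)) (tt N94618 F405254))
theorem Q89530 : ∀ i, i < 89530 → P i := stepQ 89529 Q89529 (allL N89529 (tt N94621 (iv1 F405261)) (tt N94618 F405244) (tt N53617 (iv2 D192435)) (tt N96444 (iv3 F412543)) (tt N116646 (iv4 F501126)) (tt N96440 (iv5 F412529)) (tt N96441 (iv6 F412532)) (tt N94620 (iv7 F405250)))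
theorem Q89531 : ∀ i, i < 89531 → P i := stepQ 89530 Q89530 (allL N89530 (tt N116660 D219919) (tt N111992 (iv0 F478998)) (tt N96441 (iv2 F412530)) (tt N53618 F386714) (tt N116648 (iv4 F501133)) (tt N96437 (iv5 F412515)) (tt N53617 (iv6 D192436)) (tt N116661 D219920))
theorem Q89532 : ∀ i, i < 89532 → P i := stepQ 89531 Q89531 (allL N89531 (tt N107757 (iv1 F459588)) (tt N53618 (iv0 D192437)) (tt N89605 (iv2 F386935)) (tt N111997 (iv3 F479012)) (tt N89030 F386936) (tt N110133 (iv5 F470114)) (tt N116662 D219921) (tt N89609 (iv7 F386944)))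
theorem Q89533 : ∀ i, i < 89533 → P i := stepQ 89532 Q89532 (allL N89532 (tt N53618 (iv1 D192438)) (tt N107757 (iv0 F459587)) (tt N89609 (iv2 F386942)) (tt N74623 F386716) (tt N89031 F386717) (tt N108674 (iv5 F463488)) (tt N74621 (iv6 F386715)) (tt N89605 (iv7 F386934)))
theorem Q89534 : ∀ i, i < 89534 → P i := stepQ 89533 Q89533 (allL N89533 (tt N89609 (iv1 F388183)) (tt N89605 F388185) (tt N107757 (iv2 F459583)) (tt N116661 (iv3 F501188)) (tt N53622 F386719) (tt N82351 F386720) (tt N107949 (iv6 F460430)) (tt N53618 (iv7 D192439)))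
theorem Q89535 : ∀ i, i < 89535 → P i := stepQ 89534 Q89534 (allL N89534 (tt N76289 (iv1 F386725)) (tt N77692 F386726) (tt N77690 F386721) (tt N53620 (iv3 D192440)) (tt N81692 F386722) (tt N116568 (iv5 F500775)) (tt N77257 F386723) (tt N77689 F386724))
theorem Q89536 : ∀ i, i < 89536 → P i := stepQ 89535 Q89535 (allL N89535 (tt N114047 (iv1 F488347)) (tt N53621 (iv0 D192441)) (tt N114046 F488338) (tt N59287 (iv3 F386730)) (tt N64837 F386728) (tt N59286 F386729) (tt N100979 (iv6 F431144)) (tt N107393 (iv7 F458194)))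
theorem Q89537 : ∀ i, i < 89537 → P i := stepQ 89536 Q89536 (allL N89536 (tt N53621 (iv1 D192442)) (tt N114047 F488346) (tt N107393 (iv2 F458192)) (tt N107474 (iv3 F458445)) (tt N111951 (iv4 F478835)) (tt N107310 (iv5 F457914)) (tt N114690 (iv6 F491379)) (tt N114046 (iv7 F488340)))
theorem Q89538 : ∀ i, i < 89538 → P i := stepQ 89537 Q89537 (allL N89537 (tt N107393 F458197) (tt N114046 F488341) (tt N114047 (iv2 F488342)) (tt N116659 (iv3 F501179)) (tt N113059 (iv4 F483784)) (tt N53622 F386731) (tt N113817 (iv6 F487263)) (tt N53621 (iv7 D192443)))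
theorem Q89539 : ∀ i, i < 89539 → P i := stepQ 89538 Q89538 (allL N89538 (tt N107043 (iv1 F456754)) (tt N105198 (iv0 F449177)) (tt N116663 D219922) (tt N53623 (iv3 D192444)) (tt N110887 (iv4 F473612)) (tt N84951 F386732) (tt N64393 F386733) (tt N114048 (iv7 F488350)))
theorem Q89540 : ∀ i, i < 89540 → P i := stepQ 89539 Q89539 (allL N89539 (tt N86364 F386735) (tt N72827 F386736) (tt N53625 F386734) (tt N76848 F422563) (tt N53624 (iv4 D192445)) (tt N116664 D219923) (tt N99258 (iv6 F458721)) (tt N90191 (iv7 F388828)))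
theorem Q89541 : ∀ i, i < 89541 → P i := stepQ 89540 Q89540 (allL N89540 (tt N116665 D219924) (tt N116666 D219925) (tt N53626 F386737) (tt N83178 F386738) (tt N99258 (iv4 F458720)) (tt N116490 (iv5 F500417)) (tt N53624 (iv6 D192446)) (tt N116667 D219926))
theorem Q89542 : ∀ i, i < 89542 → P i := stepQ 89541 Q89541 (allL N89541 (tt N90191 (iv1 F388827)) (tt N53625 (iv0 D192447)) (tt N86364 (iv2 F386740)) (tt N60363 (iv3 F386743)) (tt N72462 F386739) (tt N107549 (iv5 F458728)) (tt N60362 F386741) (tt N72827 F386742))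
theorem Q89543 : ∀ i, i < 89543 → P i := stepQ 89542 Q89542 (allL N89542 (tt N107787 F459730) (tt N116668 D219927) (tt N116669 D219928) (tt N53625 (iv3 D192448)) (tt N53627 F386744) (tt N116670 D219929) (tt N116671 D219930) (tt N90010 (iv7 F388289)))
theorem Q89544 : ∀ i, i < 89544 → P i := stepQ 89543 Q89543 (allL N89543 (tt N116672 D219931) (tt N110793 (iv0 F473206)) (tt N116664 (iv2 F501201)) (tt N116670 (iv3 F501233)) (tt N106330 (iv4 F454060)) (tt N53625 (iv5 D192449)) (tt N106340 (iv6 F454082)) (tt N116392 (iv7 F499854)))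
theorem Q89545 : ∀ i, i < 89545 → P i := stepQ 89544 Q89544 (allL N89544 (tt N99252 (iv1 F431076)) (tt N99259 (iv0 F431075)) (tt N99258 F458719) (tt N116671 (iv3 F501236)) (tt N53626 F386745) (tt N116673 D219932) (tt N53625 (iv6 D192450)) (tt N99257 F458418))
theorem Q89546 : ∀ i, i < 89546 → P i := stepQ 89545 Q89545 (allL N89545 (tt N116667 (iv1 F501224)) (tt N53626 (iv0 D192451)) (tt N116665 (iv2 F501211)) (tt N100944 F431060) (tt N100948 (iv4 F431074)) (tt N116674 D219933) (tt N116675 D219934) (tt N116666 (iv7 F501215)))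
theorem Q89547 : ∀ i, i < 89547 → P i := stepQ 89546 Q89546 (allL N89546 (tt N53626 (iv1 D192452)) (tt N116667 F501223) (tt N116666 (iv2 F501218)) (tt N90486 (iv3 F390048)) (tt N99285 F423942) (tt N90485 F390049) (tt N116676 D219935) (tt N116665 F501210))
theorem Q89548 : ∀ i, i < 89548 → P i := stepQ 89547 Q89547 (allL N89547 (tt N116666 (iv1 F501214)) (tt N116665 (iv0 F501212)) (tt N116667 (iv2 F501221)) (tt N53631 F386746) (tt N99257 (iv4 F458417)) (tt N116494 (iv5 F500431)) (tt N116394 (iv6 F499861)) (tt N53626 (iv7 D192453)))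
theorem Q89549 : ∀ i, i < 89549 → P i := stepQ 89548 Q89548 (allL N89548 (tt N90009 (iv1 F388286)) (tt N53627 (iv0 D192454)) (tt N66895 (iv2 F386747)) (tt N99304 (iv3 F424012)) (tt N76835 F386748) (tt N96443 F412541) (tt N99302 F424004) (tt N90008 (iv7 F388282)))
theorem Q89550 : ∀ i, i < 89550 → P i := stepQ 89549 Q89549 (allL N89549 (tt N66895 (iv1 F388283)) (tt N90008 F388281) (tt N53627 (iv2 D192455)) (tt N90003 (iv3 F388263)) (tt N116669 (iv4 F501228)) (tt N99338 (iv5 F424165)) (tt N99340 (iv6 F424177)) (tt N90009 (iv7 F388285)))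
theorem Q89551 : ∀ i, i < 89551 → P i := stepQ 89550 Q89550 (allL N89550 (tt N72845 F386751) (tt N72842 (iv0 F386752)) (tt N99340 (iv2 F424176)) (tt N53628 F386749) (tt N116671 (iv4 F501237)) (tt N72609 F386750) (tt N53627 (iv6 D192456)) (tt N116677 D219936))
theorem Q89552 : ∀ i, i < 89552 → P i := stepQ 89551 Q89551 (allL N89551 (tt N90007 (iv1 F388279)) (tt N53628 (iv0 D192457)) (tt N71653 (iv2 F390046)) (tt N96094 (iv3 F411016)) (tt N71636 F390045) (tt N94542 F404902) (tt N96092 F411007) (tt N89999 (iv7 F390047)))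
theorem Q89553 : ∀ i, i < 89553 → P i := stepQ 89552 Q89552 (allL N89552 (tt N53628 (iv1 D192458)) (tt N90007 F388278) (tt N89999 F390037) (tt N116678 D219937) (tt N71654 (iv4 F390036)) (tt N94543 F404907) (tt N112636 F481941) (tt N71653 F390038))
theorem Q89554 : ∀ i, i < 89554 → P i := stepQ 89553 Q89553 (allL N89553 (tt N116679 D219938) (tt N116678 (iv0 F501269)) (tt N90006 (iv2 F388272)) (tt N72609 F386753) (tt N93565 (iv4 F401155)) (tt N53628 (iv5 D192459)) (tt N72608 F386754) (tt N116680 D219939))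
theorem Q89555 : ∀ i, i < 89555 → P i := stepQ 89554 Q89554 (allL N89554 (tt N89999 (iv1 F391232)) (tt N71653 (iv0 F391233)) (tt N90007 (iv2 F388274)) (tt N116677 (iv3 F501261)) (tt N53631 F386755) (tt N116680 (iv5 F501277)) (tt N90013 (iv6 F388294)) (tt N53628 (iv7 D192460)))
theorem Q89556 : ∀ i, i < 89556 → P i := stepQ 89555 Q89555 (allL N89555 (tt N95564 (iv1 F408674)) (tt N107945 (iv0 F460415)) (tt N107959 (iv2 F460476)) (tt N101107 (iv3 F431706)) (tt N106735 (iv4 F455474)) (tt N53629 (iv5 D192464)) (tt N97715 (iv6 F418038)) (tt N90908 F391227))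
theorem Q89557 : ∀ i, i < 89557 → P i := stepQ 89556 Q89556 (allL N89556 (tt N107945 (iv1 F460413)) (tt N95564 (iv0 F408672)) (tt N90908 (iv2 F391223)) (tt N71701 F390043) (tt N90784 (iv4 F390851)) (tt N53630 (iv5 D192468)) (tt N89266 F386758) (tt N107959 (iv7 F460479)))
theorem Q89558 : ∀ i, i < 89558 → P i := stepQ 89557 Q89557 (allL N89557 (tt N89116 F386761) (tt N100044 F427352) (tt N53633 F386759) (tt N108765 F463840) (tt N53632 (iv4 D192470)) (tt N116681 D219940) (tt N94273 F438417) (tt N83176 F386760))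
theorem Q89559 : ∀ i, i < 89559 → P i := stepQ 89558 Q89558 (allL N89558 (tt N108717 (iv1 F463675)) (tt N103115 (iv0 F440143)) (tt N53634 F386762) (tt N116391 (iv3 F499852)) (tt N94273 F438416) (tt N88933 F386763) (tt N53632 (iv6 D192471)) (tt N116682 D219941))
theorem Q89560 : ∀ i, i < 89560 → P i := stepQ 89559 Q89559 (allL N89559 (tt N53633 (iv1 D192472)) (tt N83176 F386764) (tt N100044 F427351) (tt N100106 (iv3 F427528)) (tt N72500 F386766) (tt N74515 F386768) (tt N72499 (iv6 F386767)) (tt N89116 F386765))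
theorem Q89561 : ∀ i, i < 89561 → P i := stepQ 89560 Q89560 (allL N89560 (tt N110437 F471593) (tt N102730 (iv0 F438391)) (tt N116683 D219942) (tt N53633 (iv3 D192473)) (tt N53635 F386770) (tt N116684 D219943) (tt N116685 D219944) (tt N90004 (iv7 F388269)))
theorem Q89562 : ∀ i, i < 89562 → P i := stepQ 89561 Q89561 (allL N89561 (tt N100108 F427533) (tt N116686 D219945) (tt N116681 (iv2 F501280)) (tt N116684 (iv3 F501294)) (tt N116687 D219946) (tt N53633 (iv5 D192474)) (tt N94321 F404026) (tt N116387 (iv7 F499832)))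
theorem Q89563 : ∀ i, i < 89563 → P i := stepQ 89562 Q89562 (allL N89562 (tt N74299 F404031) (tt N74301 F404032) (tt N94273 (iv2 F438415)) (tt N116685 (iv3 F501296)) (tt N53634 F386771) (tt N94322 (iv5 F404028)) (tt N53633 (iv6 D192475)) (tt N94272 (iv7 F404034)))
theorem Q89564 : ∀ i, i < 89564 → P i := stepQ 89563 Q89563 (allL N89563 (tt N116682 (iv1 F501291)) (tt N53634 (iv0 D192476)) (tt N108717 (iv2 F463671)) (tt N83208 F386777) (tt N77888 (iv4 F404033)) (tt N116688 D219947) (tt N116689 D219948) (tt N103115 (iv7 F440142)))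
theorem Q89565 : ∀ i, i < 89565 → P i := stepQ 89564 Q89564 (allL N89564 (tt N53634 (iv1 D192477)) (tt N116682 F501290) (tt N103115 F446572) (tt N107119 (iv3 F457064)) (tt N108691 (iv4 F463574)) (tt N104618 (iv5 F446571)) (tt N107117 F457058) (tt N108717 (iv7 F463673)))
theorem Q89566 : ∀ i, i < 89566 → P i := stepQ 89565 Q89565 (allL N89565 (tt N103115 F440144) (tt N108717 (iv0 F463674)) (tt N116682 (iv2 F501286)) (tt N53639 F386772) (tt N94272 F404036) (tt N88943 F386773) (tt N116390 (iv6 F499848)) (tt N53634 (iv7 D192478)))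
theorem Q89567 : ∀ i, i < 89567 → P i := stepQ 89566 Q89566 (allL N89566 (tt N90003 (iv1 F388266)) (tt N53635 (iv0 D192479)) (tt N90002 (iv2 F388259)) (tt N66897 (iv3 F389468)) (tt N108759 (iv4 F463832)) (tt N115043 (iv5 F493187)) (tt N107873 (iv6 F460070)) (tt N90001 F388260))
theorem Q89568 : ∀ i, i < 89568 → P i := stepQ 89567 Q89567 (allL N89567 (tt N90002 (iv1 F388261)) (tt N90001 F388253) (tt N53635 (iv2 D192480)) (tt N90009 (iv3 F388284)) (tt N116683 (iv4 F501293)) (tt N115038 (iv5 F493160)) (tt N115924 F497607) (tt N90003 (iv7 F388265)))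
theorem Q89569 : ∀ i, i < 89569 → P i := stepQ 89568 Q89568 (allL N89568 (tt N54223 F389419) (tt N70210 (iv0 F386775)) (tt N115924 (iv2 F497604)) (tt N53636 F386774) (tt N116685 (iv4 F501297)) (tt N115921 F497596) (tt N53635 (iv6 D192481)) (tt N115928 (iv7 F497628)))
theorem Q89570 : ∀ i, i < 89570 → P i := stepQ 89569 Q89569 (allL N89569 (tt N90013 (iv1 F388296)) (tt N53636 (iv0 D192482)) (tt N86266 (iv2 F386781)) (tt N107768 (iv3 F459641)) (tt N85916 F386782) (tt N116690 D219949) (tt N107765 F459639) (tt N86270 F386783))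
theorem Q89571 : ∀ i, i < 89571 → P i := stepQ 89570 Q89570 (allL N89570 (tt N53636 (iv1 D192483)) (tt N90013 F388295) (tt N86270 (iv2 F386778)) (tt N54226 (iv3 F386780)) (tt N85917 F386776) (tt N116691 D219950) (tt N114544 (iv6 F490703)) (tt N86266 (iv7 F386779)))
theorem Q89572 : ∀ i, i < 89572 → P i := stepQ 89571 Q89571 (allL N89571 (tt N116692 D219951) (tt N112214 F492660) (tt N90012 (iv2 F388291)) (tt N115921 F497595) (tt N112248 (iv4 F480212)) (tt N53636 (iv5 D192484)) (tt N115039 (iv6 F493166)) (tt N115927 (iv7 F497622)))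
theorem Q89573 : ∀ i, i < 89573 → P i := stepQ 89572 Q89572 (allL N89572 (tt N86270 (iv1 F386786)) (tt N86266 F386787) (tt N90013 (iv2 F388292)) (tt N115928 (iv3 F497627)) (tt N53639 F386785) (tt N115927 F497623) (tt N90007 (iv6 F388276)) (tt N53636 (iv7 D192485)))
theorem Q89574 : ∀ i, i < 89574 → P i := stepQ 89573 Q89573 (allL N89573 (tt N88931 F386790) (tt N83928 (iv0 F386791)) (tt N88929 F386788) (tt N96189 (iv3 F411405)) (tt N90656 (iv4 F390423)) (tt N53637 (iv5 D192486)) (tt N114777 (iv6 F491801)) (tt N88930 F386789))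
theorem Q89575 : ∀ i, i < 89575 → P i := stepQ 89574 Q89574 (allL N89574 (tt N71215 F386793) (tt N99908 (iv0 F426770)) (tt N72382 F386792) (tt N100241 (iv3 F428111)) (tt N53640 (iv4 D192487)) (tt N106613 (iv5 F455054)) (tt N71164 (iv6 F386802)) (tt N99915 (iv7 F426804)))
theorem Q89576 : ∀ i, i < 89576 → P i := stepQ 89575 Q89575 (allL N89575 (tt N96208 (iv1 F411501)) (tt N112709 F482294) (tt N72379 F386795) (tt N59307 F386796) (tt N71164 (iv4 F386801)) (tt N76368 F386798) (tt N53640 (iv6 D192488)) (tt N59303 (iv7 F386799)))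
theorem Q89577 : ∀ i, i < 89577 → P i := stepQ 89576 Q89576 (allL N89576 (tt N116413 F499977) (tt N115120 (iv0 F493589)) (tt N115113 (iv2 F493543)) (tt N99799 F426278) (tt N100248 (iv4 F428124)) (tt N83032 F386803) (tt N53641 (iv6 D192489)) (tt N112710 (iv7 F482299)))
theorem Q89578 : ∀ i, i < 89578 → P i := stepQ 89577 Q89577 (allL N89577 (tt N83211 (iv1 F386804)) (tt N53642 (iv0 D192490)) (tt N115114 F493554) (tt N116417 (iv3 F499991)) (tt N107174 (iv4 F457340)) (tt N116536 (iv5 F500658)) (tt N107173 F457341) (tt N115115 (iv7 F493559)))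
theorem Q89579 : ∀ i, i < 89579 → P i := stepQ 89578 Q89578 (allL N89578 (tt N53642 (iv1 D192491)) (tt N83211 F386805) (tt N115115 F493563) (tt N111196 F475181) (tt N108014 F460734) (tt N112614 (iv5 F481848)) (tt N116477 (iv6 F500338)) (tt N115114 F493556))
theorem Q89580 : ∀ i, i < 89580 → P i := stepQ 89579 Q89579 (allL N89579 (tt N70863 F386808) (tt N110417 (iv0 F471480)) (tt N71919 (iv2 F386809)) (tt N53642 (iv3 D192492)) (tt N53647 F386806) (tt N110395 (iv5 F471383)) (tt N55379 F386807) (tt N113377 (iv7 F485256)))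
theorem Q89581 : ∀ i, i < 89581 → P i := stepQ 89580 Q89580 (allL N89580 (tt N116693 D219952) (tt N116694 D219953) (tt N115116 (iv2 F493564)) (tt N110395 F471385) (tt N113299 (iv4 F484912)) (tt N53642 (iv5 D192493)) (tt N116695 D219954) (tt N113375 F485244))
theorem Q89582 : ∀ i, i < 89582 → P i := stepQ 89581 Q89581 (allL N89581 (tt N99914 (iv1 F426802)) (tt N99913 (iv0 F426795)) (tt N107000 F456594) (tt N53651 F386810) (tt N71920 F386811) (tt N73825 F386812) (tt N116396 (iv6 F499871)) (tt N53643 (iv7 D192494)))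
theorem Q89583 : ∀ i, i < 89583 → P i := stepQ 89582 Q89582 (allL N89582 (tt N96204 F411482) (tt N96223 F411576) (tt N91652 (iv2 F393902)) (tt N53646 F386819) (tt N89923 (iv4 F388008)) (tt N54612 F386820) (tt N53644 (iv6 D192495)) (tt N96218 (iv7 F411556)))
theorem Q89584 : ∀ i, i < 89584 → P i := stepQ 89583 Q89583 (allL N89583 (tt N75519 F386824) (tt N77512 F386826) (tt N77510 (iv2 F386825)) (tt N53645 (iv3 D192496)) (tt N86089 F386821) (tt N85876 F386822) (tt N116696 D219955) (tt N77511 F386823))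
theorem Q89585 : ∀ i, i < 89585 → P i := stepQ 89584 Q89584 (allL N89584 (tt N89464 F386829) (tt N100914 (iv0 F430945)) (tt N86118 F386827) (tt N116696 (iv3 F501352)) (tt N53646 F386828) (tt N87069 (iv5 F386830)) (tt N53645 (iv6 D192497)) (tt N112628 F481904))
theorem Q89586 : ∀ i, i < 89586 → P i := stepQ 89585 Q89585 (allL N89585 (tt N53646 (iv1 D192498)) (tt N86251 F386831) (tt N86250 (iv2 F386835)) (tt N75465 (iv3 F386834)) (tt N108101 (iv4 F461104)) (tt N77403 F386833) (tt N86336 (iv6 F386836)) (tt N53948 F386832))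
theorem Q89587 : ∀ i, i < 89587 → P i := stepQ 89586 Q89586 (allL N89586 (tt N86250 (iv1 F386840)) (tt N53948 F386841) (tt N86251 F386837) (tt N96218 (iv3 F411554)) (tt N112628 (iv4 F481901)) (tt N54611 F386838) (tt N86241 F386839) (tt N53646 (iv7 D192499)))
theorem Q89588 : ∀ i, i < 89588 → P i := stepQ 89587 Q89587 (allL N89587 (tt N77738 (iv1 F386843)) (tt N53647 (iv0 D192500)) (tt N86157 (iv2 F386844)) (tt N105384 (iv3 F449992)) (tt N110362 (iv4 F471239)) (tt N86156 F386842) (tt N105383 (iv6 F449990)) (tt N86155 (iv7 F386845)))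
theorem Q89589 : ∀ i, i < 89589 → P i := stepQ 89588 Q89588 (allL N89588 (tt N53647 (iv1 D192501)) (tt N77738 (iv0 F386850)) (tt N86155 (iv2 F386848)) (tt N61168 (iv3 F386849)) (tt N110361 (iv4 F471234)) (tt N61167 F386847) (tt N115350 (iv6 F494725)) (tt N86157 F386846))
theorem Q89590 : ∀ i, i < 89590 → P i := stepQ 89589 Q89589 (allL N89589 (tt N86157 (iv1 F386858)) (tt N86155 (iv0 F386856)) (tt N53647 (iv2 D192502)) (tt N75683 F386851) (tt N71919 F386852) (tt N114991 (iv5 F492953)) (tt N71918 (iv6 F386855)) (tt N77738 F386853))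
theorem Q89591 : ∀ i, i < 89591 → P i := stepQ 89590 Q89590 (allL N89590 (tt N88149 (iv1 F386867)) (tt N75357 (iv0 F386866)) (tt N71918 F386861) (tt N53648 F386862) (tt N55379 F386863) (tt N82235 (iv5 F386865)) (tt N53647 (iv6 D192503)) (tt N71921 (iv7 F386864)))
theorem Q89592 : ∀ i, i < 89592 → P i := stepQ 89591 Q89591 (allL N89591 (tt N97405 (iv1 F416751)) (tt N95796 (iv0 F409699)) (tt N91446 (iv2 F393154)) (tt N82235 F386868) (tt N82236 F386869) (tt N53648 (iv5 D192504)) (tt N108977 (iv6 F464738)) (tt N97410 F416766))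
theorem Q89593 : ∀ i, i < 89593 → P i := stepQ 89592 Q89592 (allL N89592 (tt N91445 (iv1 F393148)) (tt N91444 (iv0 F393147)) (tt N91447 (iv2 F393155)) (tt N71921 F386870) (tt N53651 F386871) (tt N97410 F416767) (tt N112814 F482745) (tt N53648 (iv7 D192505)))
theorem Q89594 : ∀ i, i < 89594 → P i := stepQ 89593 Q89593 (allL N89593 (tt N106043 F452873) (tt N106042 (iv0 F452863)) (tt N106756 F455558) (tt N53649 (iv3 D192506)) (tt N59177 (iv4 F386874)) (tt N73420 (iv5 F386875)) (tt N86341 F386872) (tt N59171 F386873))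
theorem Q89595 : ∀ i, i < 89595 → P i := stepQ 89594 Q89594 (allL N89594 (tt N89504 (iv1 F386890)) (tt N88774 F386889) (tt N89501 F386878) (tt N116697 D219956) (tt N53649 (iv4 D192507)) (tt N93807 (iv5 F401981)) (tt N86344 F386876) (tt N89502 F386877))
theorem Q89596 : ∀ i, i < 89596 → P i := stepQ 89595 Q89595 (allL N89595 (tt N60634 F386884) (tt N60644 F386883) (tt N90415 (iv2 F389566)) (tt N73420 F386880) (tt N116208 (iv4 F499024)) (tt N53649 (iv5 D192508)) (tt N86345 F386881) (tt N88796 F386882))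
theorem Q89597 : ∀ i, i < 89597 → P i := stepQ 89596 Q89596 (allL N89596 (tt N88774 F386887) (tt N89504 F386888) (tt N89502 F386885) (tt N57020 (iv3 F400229)) (tt N53650 (iv4 D192509)) (tt N57019 F400228) (tt N103203 (iv6 F440556)) (tt N89501 F386886))
theorem Q89598 : ∀ i, i < 89598 → P i := stepQ 89597 Q89597 (allL N89597 (tt N86132 (iv1 F386905)) (tt N79042 F386904) (tt N53652 (iv2 D192510)) (tt N84399 F386899) (tt N85622 F386900) (tt N79029 F386901) (tt N79011 F386902) (tt N79036 F386903))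
theorem Q89599 : ∀ i, i < 89599 → P i := stepQ 89598 Q89598 (allL N89598 (tt N86542 F386913) (tt N79013 (iv0 F386911)) (tt N115058 (iv2 F493275)) (tt N53653 (iv3 D192511)) (tt N89867 (iv4 F387798)) (tt N85857 F386906) (tt N112941 (iv6 F483318)) (tt N86408 F386907))
theorem Q89600 : ∀ i, i < 89600 → P i := stepQ 89599 Q89599 (allL N89599 (tt N86889 F386909) (tt N84708 (iv0 F386912)) (tt N114273 (iv2 F489329)) (tt N84392 F386910) (tt N53653 (iv4 D192512)) (tt N98243 (iv5 F420113)) (tt N114256 (iv6 F489255)) (tt N86410 F386908))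
theorem Q89601 : ∀ i, i < 89601 → P i := stepQ 89600 Q89600 (allL N89600 (tt N75683 (iv1 F386915)) (tt N53654 (iv0 D192513)) (tt N77736 (iv2 F386920)) (tt N77500 F392908) (tt N91376 (iv4 F392904)) (tt N85887 (iv5 F396880)) (tt N116698 D219957) (tt N77737 (iv7 F386922)))
theorem Q89602 : ∀ i, i < 89602 → P i := stepQ 89601 Q89601 (allL N89601 (tt N53654 (iv1 D192514)) (tt N75683 F386916) (tt N77737 F386921) (tt N85269 (iv3 F386917)) (tt N85271 (iv4 F386918)) (tt N85888 (iv5 F386923)) (tt N94574 (iv6 F405019)) (tt N77736 F386919))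
theorem Q89603 : ∀ i, i < 89603 → P i := stepQ 89602 Q89602 (allL N89602 (tt N64621 F386926) (tt N64619 F386927) (tt N64617 F386924) (tt N112665 (iv3 F482074)) (tt N80047 F386925) (tt N53655 (iv5 D192515)) (tt N82423 F386928) (tt N64618 (iv7 F386930)))
theorem Q89604 : ∀ i, i < 89604 → P i := stepQ 89603 Q89603 (allL N89603 (tt N101872 (iv1 F434769)) (tt N111828 (iv0 F478185)) (tt N112814 F482742) (tt N81279 F386931) (tt N53659 F386932) (tt N64618 F386933) (tt N91447 (iv6 F393157)) (tt N53655 (iv7 D192516)))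
theorem Q89605 : ∀ i, i < 89605 → P i := stepQ 89604 Q89604 (allL N89604 (tt N107950 F460437) (tt N53917 F411652) (tt N107284 (iv2 F457790)) (tt N53656 (iv3 D192517)) (tt N116456 (iv4 F500222)) (tt N116699 D219958) (tt N96236 F411651) (tt N116397 (iv7 F499879)))
theorem Q89606 : ∀ i, i < 89606 → P i := stepQ 89605 Q89605 (allL N89605 (tt N89533 (iv1 F388185)) (tt N85340 F388184) (tt N89531 F386935) (tt N108935 (iv3 F464560)) (tt N53656 (iv4 D192518)) (tt N101878 (iv5 F434786)) (tt N116700 D219959) (tt N89532 F386934))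
theorem Q89607 : ∀ i, i < 89607 → P i := stepQ 89606 Q89606 (allL N89606 (tt N116133 (iv1 F498657)) (tt N90512 (iv0 F389899)) (tt N116293 (iv2 F499408)) (tt N116699 (iv3 F501370)) (tt N82826 (iv4 F386939)) (tt N53656 (iv5 D192519)) (tt N82835 F386938) (tt N84168 F386937))
theorem Q89608 : ∀ i, i < 89608 → P i := stepQ 89607 Q89607 (allL N89607 (tt N90550 (iv1 F390058)) (tt N90549 (iv0 F390055)) (tt N90552 (iv2 F390064)) (tt N96236 (iv3 F411650)) (tt N116700 (iv4 F501377)) (tt N89213 F386940) (tt N53656 (iv6 D192520)) (tt N89212 F386941))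
theorem Q89609 : ∀ i, i < 89609 → P i := stepQ 89608 Q89608 (allL N89608 (tt N109620 F467781) (tt N106758 (iv0 F455573)) (tt N116170 F498851) (tt N53657 (iv3 D192521)) (tt N116701 D219960) (tt N112804 (iv5 F482689)) (tt N90542 F390026) (tt N106766 (iv7 F455592)))
theorem Q89610 : ∀ i, i < 89610 → P i := stepQ 89609 Q89609 (allL N89609 (tt N85340 F388182) (tt N89533 F388183) (tt N89532 F386942) (tt N116702 D219961) (tt N53657 (iv4 D192522)) (tt N112137 (iv5 F479688)) (tt N89439 F386943) (tt N89531 F386944))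
theorem Q89611 : ∀ i, i < 89611 → P i := stepQ 89610 Q89610 (allL N89610 (tt N90512 (iv1 F389900)) (tt N116133 (iv0 F498656)) (tt N84168 F386945) (tt N112804 (iv3 F482688)) (tt N110058 (iv4 F469781)) (tt N53657 (iv5 D192523)) (tt N53938 F386946) (tt N116293 (iv7 F499412)))
theorem Q89612 : ∀ i, i < 89612 → P i := stepQ 89611 Q89611 (allL N89611 (tt N113957 (iv1 F487963)) (tt N53658 (iv0 D192524)) (tt N113940 (iv2 F487881)) (tt N116703 D219962) (tt N110158 F470224) (tt N115072 (iv5 F493344)) (tt N113715 F486795) (tt N113956 (iv7 F487956)))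
theorem Q89613 : ∀ i, i < 89613 → P i := stepQ 89612 Q89612 (allL N89612 (tt N53658 (iv1 D192525)) (tt N113957 F487962) (tt N113956 F487958) (tt N116155 (iv3 F498783)) (tt N116704 D219963) (tt N114934 (iv5 F492621)) (tt N114736 (iv6 F491724)) (tt N113940 F487885))
theorem Q89614 : ∀ i, i < 89614 → P i := stepQ 89613 Q89613 (allL N89613 (tt N113956 (iv1 F487955)) (tt N113940 (iv0 F487883)) (tt N113957 (iv2 F487959)) (tt N86387 F386947) (tt N84160 F386948) (tt N53659 F386949) (tt N91803 (iv6 F394485)) (tt N53658 (iv7 D192526)))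
theorem Q89615 : ∀ i, i < 89615 → P i := stepQ 89614 Q89614 (allL N89614 (tt N114395 (iv1 F489951)) (tt N55418 (iv0 F386954)) (tt N84165 (iv2 F386953)) (tt N53660 (iv3 D192527)) (tt N86388 F386950) (tt N84961 F386951) (tt N53936 F386952) (tt N91800 (iv7 F394478)))
theorem Q89616 : ∀ i, i < 89616 → P i := stepQ 89615 Q89615 (allL N89615 (tt N85018 F386957) (tt N85022 F386956) (tt N102955 (iv2 F439422)) (tt N116705 D219964) (tt N53661 (iv4 D192528)) (tt N116706 D219965) (tt N74901 F386955) (tt N105881 (iv7 F452163)))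
theorem Q89617 : ∀ i, i < 89617 → P i := stepQ 89616 Q89616 (allL N89616 (tt N63288 F386969) (tt N56086 F386970) (tt N63340 F386965) (tt N56317 F386966) (tt N76486 (iv4 F386976)) (tt N53664 (iv5 D192529)) (tt N76429 F386967) (tt N63341 F386968))
theorem Q89618 : ∀ i, i < 89618 → P i := stepQ 89617 Q89617 (allL N89617 (tt N85130 F386981) (tt N85132 F386980) (tt N115036 (iv2 F493145)) (tt N86297 F386979) (tt N53666 (iv4 D192530)) (tt N114742 (iv5 F491610)) (tt N86296 (iv6 F386982)) (tt N115035 (iv7 F493141)))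
theorem Q89619 : ∀ i, i < 89619 → P i := stepQ 89618 Q89618 (allL N89618 (tt N104972 F448213) (tt N105415 (iv0 F450157)) (tt N115037 (iv2 F493151)) (tt N88455 F386983) (tt N86296 F386984) (tt N109755 (iv5 F468465)) (tt N53666 (iv6 D192531)) (tt N111268 (iv7 F475539)))
theorem Q89620 : ∀ i, i < 89620 → P i := stepQ 89619 Q89619 (allL N89619 (tt N85132 F386986) (tt N85130 F386985) (tt N115035 (iv2 F493138)) (tt N92825 (iv3 F398393)) (tt N53667 (iv4 D192532)) (tt N112969 (iv5 F483397)) (tt N98498 (iv6 F427218)) (tt N115036 (iv7 F493147)))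
theorem Q89621 : ∀ i, i < 89621 → P i := stepQ 89620 Q89620 (allL N89620 (tt N74958 F386988) (tt N63343 (iv0 F386989)) (tt N100019 (iv2 F427226)) (tt N76276 F386987) (tt N98498 F427217) (tt N100017 (iv5 F427214)) (tt N53667 (iv6 D192533)) (tt N115056 (iv7 F493262)))
theorem Q89622 : ∀ i, i < 89622 → P i := stepQ 89621 Q89621 (allL N89621 (tt N85701 F386991) (tt N79043 (iv0 F386992)) (tt N98243 F420118) (tt N53669 (iv3 D192534)) (tt N84792 F386990) (tt N114273 (iv5 F489330)) (tt N110346 (iv6 F471151)) (tt N98244 (iv7 F420120)))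
theorem Q89623 : ∀ i, i < 89623 → P i := stepQ 89622 Q89622 (allL N89622 (tt N109376 (iv1 F466656)) (tt N109375 F466646) (tt N99995 F427104) (tt N110346 (iv3 F471154)) (tt N114739 (iv4 F491600)) (tt N109091 F465294) (tt N53669 (iv6 D192535)) (tt N109377 (iv7 F466658)))
theorem Q89624 : ∀ i, i < 89624 → P i := stepQ 89623 Q89623 (allL N89623 (tt N85011 F386995) (tt N85123 (iv0 F386996)) (tt N76462 F386993) (tt N86739 F386994) (tt N53670 (iv4 D192536)) (tt N116707 D219966) (tt N76326 F386997) (tt N114332 (iv7 F489655)))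
theorem Q89625 : ∀ i, i < 89625 → P i := stepQ 89624 Q89624 (allL N89624 (tt N76324 (iv1 F387003)) (tt N76336 (iv0 F387002)) (tt N76435 F386998) (tt N109072 F465223) (tt N76326 F386999) (tt N76328 F387000) (tt N53670 (iv6 D192537)) (tt N76434 (iv7 F387001)))
theorem Q89626 : ∀ i, i < 89626 → P i := stepQ 89625 Q89625 (allL N89625 (tt N114693 (iv1 F491390)) (tt N86399 (iv0 F387006)) (tt N114692 F491384) (tt N53671 (iv3 D192538)) (tt N53675 F387004) (tt N116708 D219967) (tt N100222 (iv6 F428054)) (tt N88953 F387005))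
theorem Q89627 : ∀ i, i < 89627 → P i := stepQ 89626 Q89626 (allL N89626 (tt N114478 (iv1 F490387)) (tt N114291 (iv0 F489424)) (tt N114495 F490458) (tt N116708 (iv3 F501421)) (tt N107490 (iv4 F458502)) (tt N53671 (iv5 D192539)) (tt N116709 D219968) (tt N114494 (iv7 F490455)))
theorem Q89628 : ∀ i, i < 89628 → P i := stepQ 89627 Q89627 (allL N89627 (tt N75525 F387010) (tt N77529 F412830) (tt N77530 F387007) (tt N53672 (iv3 D192540)) (tt N100222 (iv4 F428053)) (tt N99337 (iv5 F424159)) (tt N53675 F387008) (tt N77531 F387009))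
theorem Q89629 : ∀ i, i < 89629 → P i := stepQ 89628 Q89628 (allL N89628 (tt N86037 F387013) (tt N86045 F387014) (tt N72608 F387011) (tt N99337 (iv3 F424157)) (tt N93564 (iv4 F401150)) (tt N53672 (iv5 D192541)) (tt N90006 (iv6 F388273)) (tt N89083 F387012))
theorem Q89630 : ∀ i, i < 89630 → P i := stepQ 89629 Q89629 (allL N89629 (tt N96686 (iv1 F413449)) (tt N53674 (iv0 D192542)) (tt N96689 (iv2 F413471)) (tt N101361 (iv3 F432780)) (tt N86119 F412282) (tt N104172 (iv5 F444526)) (tt N83754 F387016) (tt N96688 F413475))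
theorem Q89631 : ∀ i, i < 89631 → P i := stepQ 89630 Q89630 (allL N89630 (tt N53674 (iv1 D192543)) (tt N96686 (iv0 F413448)) (tt N96688 F413474) (tt N109375 (iv3 F466645)) (tt N86120 (iv4 F412801)) (tt N104160 (iv5 F444479)) (tt N104760 (iv6 F447146)) (tt N96689 (iv7 F413472)))
theorem Q89632 : ∀ i, i < 89632 → P i := stepQ 89631 Q89631 (allL N89631 (tt N115038 (iv1 F493163)) (tt N53675 (iv0 D192544)) (tt N59480 (iv2 F387020)) (tt N110219 F470487) (tt N114729 (iv4 F491564)) (tt N89528 F405262) (tt N59475 F387021) (tt N114556 (iv7 F490762)))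
theorem Q89633 : ∀ i, i < 89633 → P i := stepQ 89632 Q89632 (allL N89632 (tt N53675 (iv1 D192545)) (tt N115038 F493164) (tt N114556 (iv2 F490759)) (tt N57835 (iv3 F387017)) (tt N89657 (iv4 F387124)) (tt N57834 F387018) (tt N100853 (iv6 F430784)) (tt N59480 F387019))
theorem Q89634 : ∀ i, i < 89634 → P i := stepQ 89633 Q89633 (allL N89633 (tt N59480 F439996) (tt N114556 (iv0 F490763)) (tt N53675 (iv2 D192546)) (tt N99338 (iv3 F424163)) (tt N114692 (iv4 F491386)) (tt N90003 (iv5 F388264)) (tt N77530 F387022) (tt N115038 (iv7 F493162)))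
theorem Q89635 : ∀ i, i < 89635 → P i := stepQ 89634 Q89634 (allL N89634 (tt N86408 F387026) (tt N115058 (iv0 F493279)) (tt N86542 F387023) (tt N74192 F387024) (tt N53677 (iv4 D192547)) (tt N85179 (iv5 F387028)) (tt N86574 (iv6 F387027)) (tt N79013 F387025))
theorem Q89636 : ∀ i, i < 89636 → P i := stepQ 89635 Q89635 (allL N89635 (tt N83883 F387032) (tt N83996 (iv0 F387034)) (tt N84001 F387029) (tt N113018 F483581) (tt N86574 F387030) (tt N89335 F387033) (tt N53677 (iv6 D192548)) (tt N84002 F387031))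
theorem Q89637 : ∀ i, i < 89637 → P i := stepQ 89636 Q89636 (allL N89636 (tt N72171 F387036) (tt N114033 F488297) (tt N110861 (iv2 F473486)) (tt N116710 D219969) (tt N53682 (iv4 D192549)) (tt N116711 D219970) (tt N72156 (iv6 F433559)) (tt N114031 (iv7 F488284)))
theorem Q89638 : ∀ i, i < 89638 → P i := stepQ 89637 Q89637 (allL N89637 (tt N108392 F462386) (tt N110318 (iv0 F471018)) (tt N110859 (iv2 F473473)) (tt N101614 (iv3 F433553)) (tt N72156 F433558) (tt N105584 (iv5 F450840)) (tt N53682 (iv6 D192550)) (tt N106165 (iv7 F453411)))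
theorem Q89639 : ∀ i, i < 89639 → P i := stepQ 89638 Q89638 (allL N89638 (tt N54759 (iv1 F387038)) (tt N53683 (iv0 D192551)) (tt N113325 (iv2 F485034)) (tt N92595 F397550) (tt N89153 F387037) (tt N116712 D219971) (tt N101801 (iv6 F434402)) (tt N89186 (iv7 F387039)))
theorem Q89640 : ∀ i, i < 89640 → P i := stepQ 89639 Q89639 (allL N89639 (tt N53683 (iv1 D192552)) (tt N54759 F387040) (tt N89186 (iv2 F387041)) (tt N94274 F404037) (tt N89185 (iv4 F387042)) (tt N116713 D219972) (tt N106551 (iv6 F454838)) (tt N113325 (iv7 F485031)))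
theorem Q89641 : ∀ i, i < 89641 → P i := stepQ 89640 Q89640 (allL N89640 (tt N85925 (iv1 F387046)) (tt N85924 F387047) (tt N85926 F387043) (tt N82934 F387044) (tt N105797 (iv4 F451761)) (tt N53683 (iv5 D192553)) (tt N115094 (iv6 F493457)) (tt N82928 F387045))
theorem Q89642 : ∀ i, i < 89642 → P i := stepQ 89641 Q89641 (allL N89641 (tt N116115 (iv1 F498545)) (tt N116114 F498541) (tt N54822 F387048) (tt N105005 (iv3 F448329)) (tt N53684 (iv4 D192554)) (tt N101749 F434168) (tt N116714 D219973) (tt N111344 (iv7 F475919)))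
theorem Q89643 : ∀ i, i < 89643 → P i := stepQ 89642 Q89642 (allL N89642 (tt N83553 F457381) (tt N112563 (iv0 F481660)) (tt N54823 F387049) (tt N112518 (iv3 F481468)) (tt N116714 (iv4 F501454)) (tt N85834 F387050) (tt N53684 (iv6 D192555)) (tt N116715 D219974))
theorem Q89644 : ∀ i, i < 89644 → P i := stepQ 89643 Q89643 (allL N89643 (tt N101750 (iv1 F434172)) (tt N113779 (iv0 F487069)) (tt N112322 F480550) (tt N112863 F483024) (tt N53685 (iv4 D192556)) (tt N116716 D219975) (tt N90863 (iv6 F391075)) (tt N112552 (iv7 F481626)))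
theorem Q89645 : ∀ i, i < 89645 → P i := stepQ 89644 Q89644 (allL N89644 (tt N77425 (iv1 F387066)) (tt N77424 F387067) (tt N77182 F387058) (tt N53686 (iv3 D192559)) (tt N83075 F387059) (tt N77181 F387060) (tt N87052 F387061) (tt N77422 F387065))
theorem Q89646 : ∀ i, i < 89646 → P i := stepQ 89645 Q89645 (allL N89645 (tt N77460 (iv1 F387072)) (tt N77459 F387073) (tt N77173 F387068) (tt N77422 F387069) (tt N53687 F387070) (tt N77172 F387071) (tt N116430 (iv6 F500065)) (tt N53686 (iv7 D192560)))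
theorem Q89647 : ∀ i, i < 89647 → P i := stepQ 89646 Q89646 (allL N89646 (tt N116536 F500661) (tt N112614 F481850) (tt N113324 (iv2 F485027)) (tt N83060 F387075) (tt N116430 (iv4 F500067)) (tt N54760 F387076) (tt N53687 (iv6 D192561)) (tt N89994 (iv7 F388237)))
theorem Q89648 : ∀ i, i < 89648 → P i := stepQ 89647 Q89647 (allL N89647 (tt N53705 (iv1 F387081)) (tt N53688 (iv0 D192562)) (tt N53702 (iv2 F387080)) (tt N63994 F387079) (tt N54001 F387078) (tt N81872 F387077) (tt N75488 (iv6 F387083)) (tt N53703 F387082))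
theorem Q89649 : ∀ i, i < 89649 → P i := stepQ 89648 Q89648 (allL N89648 (tt N57460 F387088) (tt N79121 F387087) (tt N53707 F387084) (tt N84144 F387085) (tt N53689 (iv4 D192563)) (tt N90437 (iv5 F389648)) (tt N116717 D219976) (tt N53709 F387086))
theorem Q89650 : ∀ i, i < 89650 → P i := stepQ 89649 Q89649 (allL N89649 (tt N77047 (iv1 F387093)) (tt N101137 (iv0 F431873)) (tt N53708 F387089) (tt N55352 F387090) (tt N116717 (iv4 F501471)) (tt N70373 F387091) (tt N53689 (iv6 D192564)) (tt N78359 F387092))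
theorem Q89651 : ∀ i, i < 89651 → P i := stepQ 89650 Q89650 (allL N89650 (tt N107659 (iv1 F459123)) (tt N107651 F459085) (tt N53714 F387094) (tt N70513 (iv3 F387097)) (tt N53691 (iv4 D192565)) (tt N70512 F387096) (tt N53697 F387095) (tt N99421 (iv7 F424495)))
theorem Q89652 : ∀ i, i < 89652 → P i := stepQ 89651 Q89651 (allL N89651 (tt N83115 (iv1 F387102)) (tt N83114 F387101) (tt N55077 F387098) (tt N53694 F387099) (tt N116718 D219977) (tt N53693 (iv5 D192566)) (tt N98102 (iv6 F419460)) (tt N53717 F387100))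
theorem Q89653 : ∀ i, i < 89653 → P i := stepQ 89652 Q89652 (allL N89652 (tt N105582 (iv1 F450832)) (tt N114482 F490409) (tt N53721 F387103) (tt N114670 F491302) (tt N53694 (iv4 D192567)) (tt N114496 (iv5 F490465)) (tt N109611 (iv6 F467734)) (tt N53719 F387104))
theorem Q89654 : ∀ i, i < 89654 → P i := stepQ 89653 Q89653 (allL N89653 (tt N116719 D219978) (tt N79108 (iv0 F387106)) (tt N53722 F387105) (tt N98102 F419462) (tt N109611 (iv4 F467730)) (tt N91114 (iv5 F391993)) (tt N53694 (iv6 D192568)) (tt N107653 (iv7 F459095)))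
theorem Q89655 : ∀ i, i < 89655 → P i := stepQ 89654 Q89654 (allL N89654 (tt N114887 (iv1 F492349)) (tt N114886 F492348) (tt N53726 F387107) (tt N55359 F387108) (tt N105651 (iv4 F451117)) (tt N83491 F387109) (tt N53695 (iv6 D192569)) (tt N114884 (iv7 F492338)))
theorem Q89656 : ∀ i, i < 89656 → P i := stepQ 89655 Q89655 (allL N89655 (tt N53733 (iv1 F387111)) (tt N53697 (iv0 D192570)) (tt N53729 (iv2 F387116)) (tt N116720 D219979) (tt N54019 F387110) (tt N116721 D219980) (tt N116722 D219981) (tt N53730 (iv7 F387117)))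
theorem Q89657 : ∀ i, i < 89657 → P i := stepQ 89656 Q89656 (allL N89656 (tt N53697 (iv1 D192571)) (tt N53733 F387118) (tt N53730 (iv2 F387123)) (tt N84891 (iv3 F387121)) (tt N83249 F387120) (tt N116723 D219982) (tt N84887 F387122) (tt N53729 F387119))
theorem Q89658 : ∀ i, i < 89658 → P i := stepQ 89657 Q89657 (allL N89657 (tt N114455 F490262) (tt N110443 (iv0 F471619)) (tt N115341 F494684) (tt N53697 (iv3 D192572)) (tt N89632 F387124) (tt N116724 D219983) (tt N70513 F387125) (tt N96515 F412814))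
theorem Q89659 : ∀ i, i < 89659 → P i := stepQ 89658 Q89658 (allL N89658 (tt N109559 F467520) (tt N116725 D219984) (tt N53732 F387126) (tt N116724 (iv3 F501509)) (tt N114494 F490454) (tt N53697 (iv5 D192573)) (tt N112887 F483144) (tt N107490 (iv7 F458501)))
theorem Q89660 : ∀ i, i < 89660 → P i := stepQ 89659 Q89659 (allL N89659 (tt N76987 (iv1 F387128)) (tt N53699 (iv0 D192574)) (tt N76990 (iv2 F387129)) (tt N53931 F387127) (tt N89660 F387133) (tt N112889 (iv5 F483152)) (tt N107648 (iv6 F459065)) (tt N76989 (iv7 F387130)))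
theorem Q89661 : ∀ i, i < 89661 → P i := stepQ 89660 Q89660 (allL N89660 (tt N53699 (iv1 D192575)) (tt N76987 F387131) (tt N76989 F387135) (tt N64371 (iv3 F387134)) (tt N89659 (iv4 F387133)) (tt N83689 (iv5 F387136)) (tt N116716 (iv6 F501466)) (tt N76990 F387132))
theorem Q89662 : ∀ i, i < 89662 → P i := stepQ 89661 Q89661 (allL N89661 (tt N112942 (iv1 F483329)) (tt N114393 (iv0 F489940)) (tt N88830 F387137) (tt N77000 F387138) (tt N88583 F387141) (tt N53699 (iv5 D192576)) (tt N79123 F387139) (tt N76991 F387140))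
theorem Q89663 : ∀ i, i < 89663 → P i := stepQ 89662 Q89662 (allL N89662 (tt N53700 (iv1 D192577)) (tt N77043 F387142) (tt N77048 (iv2 F387146)) (tt N63912 F387145) (tt N89388 (iv4 F387147)) (tt N64921 (iv5 F387144)) (tt N116726 D219985) (tt N64326 F387143))
theorem Q89664 : ∀ i, i < 89664 → P i := stepQ 89663 Q89663 (allL N89663 (tt N72769 F387151) (tt N72797 F387152) (tt N79103 F387149) (tt N105650 (iv3 F451109)) (tt N116301 (iv4 F499447)) (tt N53701 (iv5 D192578)) (tt N53704 F387150) (tt N100000 (iv7 F427126)))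
theorem Q89665 : ∀ i, i < 89665 → P i := stepQ 89664 Q89664 (allL N89664 (tt N64321 F387155) (tt N110428 (iv0 F471537)) (tt N75488 F387153) (tt N109703 (iv3 F468196)) (tt N112027 (iv4 F479141)) (tt N81896 F387156) (tt N53702 (iv6 D192579)) (tt N80621 F387154))
theorem Q89666 : ∀ i, i < 89666 → P i := stepQ 89665 Q89665 (allL N89665 (tt N110265 (iv1 F470725)) (tt N110263 (iv0 F470711)) (tt N83101 F387157) (tt N53708 F387158) (tt N70530 F387159) (tt N112281 (iv5 F480332)) (tt N53706 (iv6 D192580)) (tt N116143 (iv7 F498718)))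
theorem Q89667 : ∀ i, i < 89667 → P i := stepQ 89666 Q89666 (allL N89666 (tt N53709 (iv1 F387162)) (tt N53707 (iv0 D192581)) (tt N57460 (iv2 F387161)) (tt N100567 F429494) (tt N89130 F387160) (tt N107659 (iv5 F459121)) (tt N104977 (iv6 F448230)) (tt N79121 F387163))
theorem Q89668 : ∀ i, i < 89668 → P i := stepQ 89667 Q89667 (allL N89667 (tt N116302 (iv1 F499451)) (tt N89161 F387166) (tt N90437 (iv2 F389647)) (tt N70531 F387164) (tt N82296 F387165) (tt N53707 (iv5 D192582)) (tt N116727 D219986) (tt N101091 (iv7 F431632)))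
theorem Q89669 : ∀ i, i < 89669 → P i := stepQ 89668 Q89668 (allL N89668 (tt N116716 (iv1 F501468)) (tt N109771 (iv0 F468537)) (tt N116717 (iv2 F501469)) (tt N70532 F387167) (tt N53708 F387168) (tt N91152 (iv5 F392100)) (tt N53707 (iv6 D192583)) (tt N116728 D219987))
theorem Q89670 : ∀ i, i < 89670 → P i := stepQ 89669 Q89669 (allL N89669 (tt N53708 (iv1 D192585)) (tt N78359 F387169) (tt N101137 (iv2 F431870)) (tt N53743 F387170) (tt N110428 (iv4 F471538)) (tt N97937 (iv5 F418868)) (tt N110428 (iv6 F471535)) (tt N77047 (iv7 F387171)))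
theorem Q89671 : ∀ i, i < 89671 → P i := stepQ 89670 Q89670 (allL N89670 (tt N101137 F431876) (tt N77047 (iv0 F387176)) (tt N78359 F387173) (tt N116143 F498719) (tt N116728 (iv4 F501527)) (tt N70374 F387174) (tt N64378 F387175) (tt N53708 (iv7 D192586)))
theorem Q89672 : ∀ i, i < 89672 → P i := stepQ 89671 Q89671 (allL N89671 (tt N88629 F387179) (tt N65015 (iv0 F387180)) (tt N116378 (iv2 F499787)) (tt N76922 F387177) (tt N116729 D219988) (tt N53711 (iv5 D192587)) (tt N105585 (iv6 F450844)) (tt N78358 F387178))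
theorem Q89673 : ∀ i, i < 89673 → P i := stepQ 89672 Q89672 (allL N89672 (tt N101766 (iv1 F434251)) (tt N101471 (iv0 F433064)) (tt N83104 F387181) (tt N53712 (iv3 D192588)) (tt N94588 F405086) (tt N70503 F387182) (tt N114939 (iv6 F492650)) (tt N101765 (iv7 F434248)))
theorem Q89674 : ∀ i, i < 89674 → P i := stepQ 89673 Q89673 (allL N89673 (tt N101483 F448709) (tt N116730 D219989) (tt N101781 (iv2 F434315)) (tt N114939 (iv3 F492649)) (tt N112758 (iv4 F482514)) (tt N116731 D219990) (tt N53712 (iv6 D192589)) (tt N115099 (iv7 F493480)))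
theorem Q89675 : ∀ i, i < 89675 → P i := stepQ 89674 Q89674 (allL N89674 (tt N107469 (iv1 F458435)) (tt N96681 (iv0 F413430)) (tt N116301 (iv2 F499446)) (tt N83108 F387183) (tt N79103 F387184) (tt N105642 (iv5 F451070)) (tt N53713 (iv6 D192590)) (tt N105647 (iv7 F451097)))
theorem Q89676 : ∀ i, i < 89676 → P i := stepQ 89675 Q89675 (allL N89675 (tt N99421 F424497) (tt N53714 (iv0 D192591)) (tt N107659 (iv2 F459118)) (tt N57461 F402779) (tt N112028 (iv4 F479144)) (tt N57460 (iv5 F402780)) (tt N115095 (iv6 F493461)) (tt N107651 F459086))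
theorem Q89677 : ∀ i, i < 89677 → P i := stepQ 89676 Q89676 (allL N89676 (tt N107651 F459084) (tt N107659 F459122) (tt N99421 (iv2 F424492)) (tt N54275 F387185) (tt N53715 F387186) (tt N54274 F387187) (tt N99413 (iv6 F424460)) (tt N53714 (iv7 D192592)))
theorem Q89678 : ∀ i, i < 89678 → P i := stepQ 89677 Q89677 (allL N89677 (tt N55360 F387191) (tt N53723 F387192) (tt N83113 F387188) (tt N53781 F387189) (tt N113549 (iv4 F485984)) (tt N53716 (iv5 D192593)) (tt N107461 (iv6 F458421)) (tt N83071 F387190))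
theorem Q89679 : ∀ i, i < 89679 → P i := stepQ 89678 Q89678 (allL N89678 (tt N55077 (iv1 F387194)) (tt N53717 (iv0 D192594)) (tt N83114 F387197) (tt N53785 (iv3 F387195)) (tt N114900 (iv4 F492422)) (tt N82832 F387193) (tt N116732 D219991) (tt N83115 F387196))
theorem Q89680 : ∀ i, i < 89680 → P i := stepQ 89679 Q89679 (allL N89679 (tt N53717 (iv1 D192595)) (tt N55077 F387198) (tt N83115 (iv2 F387200)) (tt N106366 (iv3 F454164)) (tt N116306 (iv4 F499471)) (tt N91668 (iv5 F393956)) (tt N106365 F454162) (tt N83114 F387199))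
theorem Q89681 : ∀ i, i < 89681 → P i := stepQ 89680 Q89680 (allL N89680 (tt N85390 F387203) (tt N106191 F453546) (tt N83116 F387201) (tt N84909 F387202) (tt N53717 (iv4 D192596)) (tt N116113 (iv5 F498535)) (tt N84907 (iv6 F387204)) (tt N116718 (iv7 F501479)))
theorem Q89682 : ∀ i, i < 89682 → P i := stepQ 89681 Q89681 (allL N89681 (tt N115085 F493412) (tt N116733 D219992) (tt N83117 F387205) (tt N53720 F387206) (tt N84907 F387207) (tt N114665 (iv5 F491275)) (tt N53717 (iv6 D192597)) (tt N85579 (iv7 F387208)))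
theorem Q89683 : ∀ i, i < 89683 → P i := stepQ 89682 Q89682 (allL N89682 (tt N114642 (iv1 F491156)) (tt N114641 F491152) (tt N114062 (iv2 F488399)) (tt N116734 D219993) (tt N53718 (iv4 D192598)) (tt N116735 D219994) (tt N116736 D219995) (tt N114481 (iv7 F490404)))
theorem Q89684 : ∀ i, i < 89684 → P i := stepQ 89683 Q89683 (allL N89683 (tt N73258 F387210) (tt N107473 F458444) (tt N107471 (iv2 F458440)) (tt N73275 F387209) (tt N116736 (iv4 F501564)) (tt N113775 (iv5 F487050)) (tt N53718 (iv6 D192599)) (tt N107443 (iv7 F458359)))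
theorem Q89685 : ∀ i, i < 89685 → P i := stepQ 89684 Q89684 (allL N89684 (tt N53721 (iv1 F387211)) (tt N53719 (iv0 D192600)) (tt N114482 F490408) (tt N116737 D219996) (tt N89838 (iv4 F387693)) (tt N114681 (iv5 F491342)) (tt N116738 D219997) (tt N105582 F450833))
theorem Q89686 : ∀ i, i < 89686 → P i := stepQ 89685 Q89685 (allL N89685 (tt N53719 (iv1 D192601)) (tt N53721 F387212) (tt N105582 (iv2 F450830)) (tt N92826 F398398) (tt N90069 F388481) (tt N113507 (iv5 F485825)) (tt N105402 (iv6 F450084)) (tt N114482 (iv7 F490410)))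
theorem Q89687 : ∀ i, i < 89687 → P i := stepQ 89686 Q89686 (allL N89686 (tt N116739 D219998) (tt N116305 (iv0 F499467)) (tt N112777 F482608) (tt N115133 F493649) (tt N114291 (iv4 F489423)) (tt N53719 (iv5 D192602)) (tt N116740 D219999) (tt N114496 (iv7 F490464)))
theorem Q89688 : ∀ i, i < 89688 → P i := stepQ 89687 Q89687 (allL N89687 (tt N53720 (iv1 D192603)) (tt N114484 F490424) (tt N62407 F387216) (tt N53778 (iv3 F387214)) (tt N72812 F387213) (tt N72587 (iv5 F387217)) (tt N62404 (iv6 F387215)) (tt N114483 (iv7 F490417)))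
theorem Q89689 : ∀ i, i < 89689 → P i := stepQ 89688 Q89688 (allL N89688 (tt N62407 (iv1 F387221)) (tt N114483 F490418) (tt N114484 (iv2 F490419)) (tt N85579 F387218) (tt N85582 F387219) (tt N73874 F387220) (tt N107653 (iv6 F459094)) (tt N53720 (iv7 D192604)))
theorem Q89690 : ∀ i, i < 89690 → P i := stepQ 89689 Q89689 (allL N89689 (tt N70249 F387226) (tt N104103 F444193) (tt N104101 (iv2 F444187)) (tt N53721 (iv3 D192605)) (tt N83122 F387224) (tt N110880 (iv5 F473580)) (tt N72177 F387225) (tt N104100 F444182))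
theorem Q89691 : ∀ i, i < 89691 → P i := stepQ 89690 Q89690 (allL N89690 (tt N116305 (iv1 F499468)) (tt N116739 F501576) (tt N114496 (iv2 F490462)) (tt N110880 (iv3 F473579)) (tt N114478 (iv4 F490384)) (tt N53721 (iv5 D192606)) (tt N108731 (iv6 F463741)) (tt N112777 (iv7 F482607)))
theorem Q89692 : ∀ i, i < 89692 → P i := stepQ 89691 Q89691 (allL N89691 (tt N107653 (iv1 F459097)) (tt N53722 (iv0 D192607)) (tt N116719 F501486) (tt N53790 F387229) (tt N108370 (iv4 F462295)) (tt N79109 F387227) (tt N107456 (iv6 F458403)) (tt N79108 (iv7 F387228)))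
theorem Q89693 : ∀ i, i < 89693 → P i := stepQ 89692 Q89692 (allL N89692 (tt N53722 (iv1 D192608)) (tt N107653 (iv0 F459096)) (tt N79108 F387232) (tt N64406 F387233) (tt N108368 (iv4 F462284)) (tt N64404 F387230) (tt N64531 (iv6 F387231)) (tt N116719 (iv7 F501488)))
theorem Q89694 : ∀ i, i < 89694 → P i := stepQ 89693 Q89693 (allL N89693 (tt N79108 (iv1 F387236)) (tt N116719 F501487) (tt N107653 (iv2 F459092)) (tt N83126 F387234) (tt N72169 F387235) (tt N99449 (iv5 F424637)) (tt N114484 (iv6 F490423)) (tt N53722 (iv7 D192609)))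
theorem Q89695 : ∀ i, i < 89695 → P i := stepQ 89694 Q89694 (allL N89694 (tt N83164 (iv1 F387243)) (tt N83163 (iv0 F387241)) (tt N55300 F387237) (tt N53725 F387238) (tt N83221 F387240) (tt N53723 (iv5 D192610)) (tt N113019 (iv6 F483588)) (tt N83165 F387239))
theorem Q89696 : ∀ i, i < 89696 → P i := stepQ 89695 Q89695 (allL N89695 (tt N109888 (iv1 F484731)) (tt N89145 (iv0 F392085)) (tt N83129 F387245) (tt N53726 F387246) (tt N114329 (iv4 F489637)) (tt N90836 (iv5 F392084)) (tt N53723 (iv6 D192611)) (tt N114327 (iv7 F489629)))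
theorem Q89697 : ∀ i, i < 89697 → P i := stepQ 89696 Q89696 (allL N89696 (tt N53727 (iv1 F387249)) (tt N53724 (iv0 D192612)) (tt N85439 (iv2 F387248)) (tt N116741 D220000) (tt N89136 F387247) (tt N116739 (iv5 F501573)) (tt N105643 F451078) (tt N85438 F387250))
theorem Q89698 : ∀ i, i < 89698 → P i := stepQ 89697 Q89697 (allL N89697 (tt N114743 F491620) (tt N116298 F499431) (tt N112770 (iv2 F482578)) (tt N85450 F387251) (tt N114294 (iv4 F489443)) (tt N53724 (iv5 D192613)) (tt N112895 F483176) (tt N85440 F387252))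
theorem Q89699 : ∀ i, i < 89699 → P i := stepQ 89698 Q89698 (allL N89698 (tt N114884 F492340) (tt N53726 (iv0 D192614)) (tt N114887 (iv2 F492352)) (tt N96682 (iv3 F413436)) (tt N107657 (iv4 F459110)) (tt N113462 F485600) (tt N96681 F413432) (tt N114886 (iv7 F492355)))
theorem Q89700 : ∀ i, i < 89700 → P i := stepQ 89699 Q89699 (allL N89699 (tt N53726 (iv1 D192615)) (tt N114884 (iv0 F492339)) (tt N114886 F492356) (tt N53798 F439631) (tt N116742 D220001) (tt N113461 (iv5 F485596)) (tt N105640 (iv6 F457333)) (tt N114887 F492354))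
theorem Q89701 : ∀ i, i < 89701 → P i := stepQ 89700 Q89700 (allL N89700 (tt N110427 F471532) (tt N116743 D220002) (tt N83491 F387253) (tt N90836 F392083) (tt N91156 (iv4 F392106)) (tt N53726 (iv5 D192616)) (tt N54820 F387254) (tt N113543 (iv7 F485955)))
theorem Q89702 : ∀ i, i < 89702 → P i := stepQ 89701 Q89701 (allL N89701 (tt N116744 D220003) (tt N116745 D220004) (tt N116721 (iv2 F501494)) (tt N114424 (iv3 F490083)) (tt N116707 (iv4 F501418)) (tt N53729 (iv5 D192617)) (tt N116746 D220005) (tt N116723 (iv7 F501507)))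
theorem Q89703 : ∀ i, i < 89703 → P i := stepQ 89702 Q89702 (allL N89702 (tt N107657 F491656) (tt N116742 (iv0 F501594)) (tt N116722 (iv2 F501499)) (tt N79000 F387255) (tt N76711 F387256) (tt N116747 D220006) (tt N53729 (iv6 D192618)) (tt N100216 (iv7 F428031)))
theorem Q89704 : ∀ i, i < 89704 → P i := stepQ 89703 Q89703 (allL N89703 (tt N100623 F429754) (tt N116748 D220007) (tt N114477 (iv2 F490379)) (tt N53730 (iv3 D192619)) (tt N116749 D220008) (tt N116750 D220009) (tt N113843 F487406) (tt N116720 (iv7 F501491)))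
theorem Q89705 : ∀ i, i < 89705 → P i := stepQ 89704 Q89704 (allL N89704 (tt N116745 (iv1 F501606)) (tt N116744 F501602) (tt N116723 (iv2 F501503)) (tt N116750 (iv3 F501628)) (tt N114738 (iv4 F491596)) (tt N53730 (iv5 D192620)) (tt N116290 (iv6 F499394)) (tt N116721 (iv7 F501495)))
theorem Q89706 : ∀ i, i < 89706 → P i := stepQ 89705 Q89705 (allL N89705 (tt N85505 F387259) (tt N113870 (iv0 F487554)) (tt N84887 F387257) (tt N113843 (iv3 F487402)) (tt N88871 F387260) (tt N84886 (iv5 F387258)) (tt N53730 (iv6 D192621)) (tt N114498 (iv7 F490474)))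
theorem Q89707 : ∀ i, i < 89707 → P i := stepQ 89706 Q89706 (allL N89706 (tt N85512 (iv1 F387264)) (tt N53731 (iv0 D192622)) (tt N85514 (iv2 F387262)) (tt N113255 (iv3 F484725)) (tt N103051 (iv4 F439855)) (tt N116751 D220010) (tt N113254 F484723) (tt N85501 F387263))
theorem Q89708 : ∀ i, i < 89708 → P i := stepQ 89707 Q89707 (allL N89707 (tt N85514 (iv1 F387269)) (tt N85501 (iv0 F387268)) (tt N53731 (iv2 D192623)) (tt N115341 (iv3 F494682)) (tt N53815 F387265) (tt N116752 D220011) (tt N54278 F387266) (tt N85512 (iv7 F387267)))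
theorem Q89709 : ∀ i, i < 89709 → P i := stepQ 89708 Q89708 (allL N89708 (tt N116753 D220012) (tt N116754 D220013) (tt N116752 (iv2 F501638)) (tt N53732 F387270) (tt N114697 (iv4 F491401)) (tt N53731 (iv5 D192624)) (tt N100063 F427402) (tt N116755 D220014))
theorem Q89710 : ∀ i, i < 89710 → P i := stepQ 89709 Q89709 (allL N89709 (tt N85501 (iv1 F387274)) (tt N85514 F387275) (tt N85512 F387271) (tt N53733 F387272) (tt N53816 F387273) (tt N116755 (iv5 F501654)) (tt N107478 (iv6 F458456)) (tt N53731 (iv7 D192625)))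
theorem Q89711 : ∀ i, i < 89711 → P i := stepQ 89710 Q89710 (allL N89710 (tt N107490 (iv1 F458504)) (tt N53732 (iv0 D192626)) (tt N109559 F469953) (tt N116756 D220015) (tt N112969 F483399) (tt N114641 (iv5 F491149)) (tt N73928 F469954) (tt N116725 (iv7 F501512)))
theorem Q89712 : ∀ i, i < 89712 → P i := stepQ 89711 Q89711 (allL N89711 (tt N53732 (iv1 D192627)) (tt N107490 F458503) (tt N116725 F501515) (tt N116757 D220016) (tt N114742 F491613) (tt N114642 (iv5 F491159)) (tt N116758 D220017) (tt N109559 F469955))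
theorem Q89713 : ∀ i, i < 89713 → P i := stepQ 89712 Q89712 (allL N89712 (tt N114291 F489438) (tt N114478 (iv0 F490386)) (tt N114494 F490452) (tt N113067 (iv3 F483820)) (tt N53732 (iv4 D192628)) (tt N114293 (iv5 F489437)) (tt N88587 F427405) (tt N114495 (iv7 F490456)))
theorem Q89714 : ∀ i, i < 89714 → P i := stepQ 89713 Q89713 (allL N89713 (tt N112889 F483154) (tt N83689 F427406) (tt N112887 F483142) (tt N100063 (iv3 F427403)) (tt N88587 (iv4 F427404)) (tt N101779 (iv5 F434309)) (tt N53732 (iv6 D192629)) (tt N112888 (iv7 F483146)))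
theorem Q89715 : ∀ i, i < 89715 → P i := stepQ 89714 Q89714 (allL N89714 (tt N116725 (iv1 F501511)) (tt N109559 (iv0 F467521)) (tt N107490 (iv2 F458500)) (tt N116755 (iv3 F501652)) (tt N114495 F490459) (tt N53733 F387276) (tt N116759 D220018) (tt N53732 (iv7 D192630)))
theorem Q89716 : ∀ i, i < 89716 → P i := stepQ 89715 Q89715 (allL N89715 (tt N68271 F387279) (tt N57427 F387280) (tt N53735 F387277) (tt N116399 (iv3 F499889)) (tt N98069 (iv4 F419340)) (tt N53734 (iv5 D192631)) (tt N106417 F454354) (tt N63453 F387278))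
theorem Q89717 : ∀ i, i < 89717 → P i := stepQ 89716 Q89716 (allL N89716 (tt N68285 F387283) (tt N68287 (iv0 F387284)) (tt N53736 F387281) (tt N116400 (iv3 F499895)) (tt N98354 (iv4 F420619)) (tt N88674 F387282) (tt N53734 (iv6 D192632)) (tt N106959 (iv7 F456450)))
theorem Q89718 : ∀ i, i < 89718 → P i := stepQ 89717 Q89717 (allL N89717 (tt N106418 (iv1 F454344)) (tt N105991 (iv0 F452653)) (tt N106417 (iv2 F454355)) (tt N53742 F387285) (tt N111759 (iv4 F477826)) (tt N88676 F387286) (tt N53735 (iv6 D192633)) (tt N106314 (iv7 F453987)))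
theorem Q89719 : ∀ i, i < 89719 → P i := stepQ 89718 Q89718 (allL N89718 (tt N106959 (iv1 F456451)) (tt N53736 (iv0 D192634)) (tt N68285 (iv2 F387288)) (tt N76965 (iv3 F387289)) (tt N63450 F387287) (tt N101756 (iv5 F434205)) (tt N76963 (iv6 F387290)) (tt N68287 (iv7 F387291)))
theorem Q89720 : ∀ i, i < 89720 → P i := stepQ 89719 Q89719 (allL N89719 (tt N53736 (iv1 D192635)) (tt N106959 (iv0 F456452)) (tt N68287 (iv2 F387294)) (tt N101135 (iv3 F431857)) (tt N63451 F387293) (tt N101134 F431855) (tt N109511 (iv6 F467314)) (tt N68285 F387292))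
theorem Q89721 : ∀ i, i < 89721 → P i := stepQ 89720 Q89720 (allL N89720 (tt N68287 (iv1 F387298)) (tt N68285 F387299) (tt N106959 (iv2 F456447)) (tt N53744 F387295) (tt N103063 (iv4 F439916)) (tt N83981 F387296) (tt N76926 F387297) (tt N53736 (iv7 D192636)))
theorem Q89722 : ∀ i, i < 89722 → P i := stepQ 89721 Q89721 (allL N89721 (tt N53751 (iv1 F387301)) (tt N53737 (iv0 D192637)) (tt N80960 F387303) (tt N82008 F387304) (tt N93433 (iv4 F400728)) (tt N54433 F387300) (tt N82005 (iv6 F387302)) (tt N80961 (iv7 F387305)))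
theorem Q89723 : ∀ i, i < 89723 → P i := stepQ 89722 Q89722 (allL N89722 (tt N53737 (iv1 D192638)) (tt N53751 F387306) (tt N80961 (iv2 F387309)) (tt N102277 (iv3 F436511)) (tt N93455 (iv4 F400784)) (tt N68484 F387308) (tt N80983 (iv6 F387310)) (tt N80960 F387307))
theorem Q89724 : ∀ i, i < 89724 → P i := stepQ 89723 Q89723 (allL N89723 (tt N81402 F387314) (tt N81359 F387315) (tt N80962 F387311) (tt N96038 (iv3 F410754)) (tt N53737 (iv4 D192639)) (tt N57769 F387313) (tt N82444 (iv6 F387316)) (tt N80966 F387312))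
theorem Q89725 : ∀ i, i < 89725 → P i := stepQ 89724 Q89724 (allL N89724 (tt N65443 F387320) (tt N79282 F387321) (tt N80963 F387317) (tt N66043 F387318) (tt N82444 F387319) (tt N109004 (iv5 F464863)) (tt N53737 (iv6 D192640)) (tt N82456 (iv7 F387322)))
theorem Q89726 : ∀ i, i < 89726 → P i := stepQ 89725 Q89725 (allL N89725 (tt N53738 (iv1 D192641)) (tt N80965 F387323) (tt N80964 F387328) (tt N91340 (iv3 F392805)) (tt N89107 F387326) (tt N65165 F387325) (tt N81087 (iv6 F387327)) (tt N80956 F387324))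
theorem Q89727 : ∀ i, i < 89727 → P i := stepQ 89726 Q89726 (allL N89726 (tt N54042 F387329) (tt N54035 F387330) (tt N116402 (iv2 F499904)) (tt N72292 F387331) (tt N53739 (iv4 D192642)) (tt N78066 (iv5 F387332)) (tt N110080 (iv6 F469884)) (tt N101771 (iv7 F434270)))
theorem Q89728 : ∀ i, i < 89728 → P i := stepQ 89727 Q89727 (allL N89727 (tt N107299 F457866) (tt N109874 F469031) (tt N109873 F469023) (tt N64896 F387333) (tt N110080 (iv4 F469887)) (tt N81400 F387334) (tt N53739 (iv6 D192643)) (tt N107418 (iv7 F458270)))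
theorem Q89729 : ∀ i, i < 89729 → P i := stepQ 89728 Q89728 (allL N89728 (tt N54035 F387335) (tt N54042 F387336) (tt N101771 (iv2 F434268)) (tt N109495 F467269) (tt N53740 (iv4 D192644)) (tt N101770 F434267) (tt N91701 (iv6 F411223)) (tt N116402 (iv7 F499908)))
theorem Q89730 : ∀ i, i < 89730 → P i := stepQ 89729 Q89729 (allL N89729 (tt N53753 (iv1 F387340)) (tt N53741 (iv0 D192645)) (tt N72200 (iv2 F387339)) (tt N94629 (iv3 F405305)) (tt N54436 F387338) (tt N72199 F387337) (tt N116760 D220019) (tt N90118 (iv7 F388593)))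
theorem Q89731 : ∀ i, i < 89731 → P i := stepQ 89730 Q89730 (allL N89730 (tt N96066 F410883) (tt N93752 F410884) (tt N97145 (iv2 F415664)) (tt N53741 (iv3 D192646)) (tt N104925 (iv4 F447972)) (tt N57764 F387341) (tt N110935 (iv6 F473867)) (tt N97155 (iv7 F415699)))
theorem Q89732 : ∀ i, i < 89732 → P i := stepQ 89731 Q89731 (allL N89731 (tt N82450 F387343) (tt N82449 F387345) (tt N111043 (iv2 F474399)) (tt N110935 (iv3 F473865)) (tt N53742 F387342) (tt N82426 (iv5 F387344)) (tt N53741 (iv6 D192647)) (tt N111042 (iv7 F474395)))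
theorem Q89733 : ∀ i, i < 89733 → P i := stepQ 89732 Q89732 (allL N89732 (tt N73220 (iv1 F387347)) (tt N112831 (iv0 F482844)) (tt N105257 (iv2 F449414)) (tt N106314 (iv3 F453985)) (tt N111042 (iv4 F474396)) (tt N88679 F387346) (tt N91101 (iv6 F391923)) (tt N53742 (iv7 D192648)))
theorem Q89734 : ∀ i, i < 89734 → P i := stepQ 89733 Q89733 (allL N89733 (tt N70550 F387352) (tt N75770 F387351) (tt N104185 (iv2 F444577)) (tt N80339 F387348) (tt N53745 (iv4 D192649)) (tt N81500 (iv5 F387353)) (tt N70527 F387349) (tt N88517 F387350))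
theorem Q89735 : ∀ i, i < 89735 → P i := stepQ 89734 Q89734 (allL N89734 (tt N53761 (iv1 F387355)) (tt N110981 (iv0 F474069)) (tt N101472 F433071) (tt N101766 (iv3 F434255)) (tt N116761 D220020) (tt N53745 (iv5 D192650)) (tt N104177 F444549) (tt N88518 F387354))
theorem Q89736 : ∀ i, i < 89736 → P i := stepQ 89735 Q89735 (allL N89735 (tt N112125 (iv1 F479619)) (tt N106382 (iv0 F454226)) (tt N53748 F387356) (tt N63453 F387357) (tt N109868 (iv4 F468998)) (tt N53746 (iv5 D192651)) (tt N106316 (iv6 F453997)) (tt N116399 (iv7 F499891)))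
theorem Q89737 : ∀ i, i < 89737 → P i := stepQ 89736 Q89736 (allL N89736 (tt N70521 F387362) (tt N64386 (iv0 F387361)) (tt N53749 F387358) (tt N63454 F387359) (tt N78480 F387360) (tt N106317 (iv5 F454000)) (tt N53746 (iv6 D192652)) (tt N70543 (iv7 F387363)))
theorem Q89738 : ∀ i, i < 89738 → P i := stepQ 89737 Q89737 (allL N89737 (tt N76910 F387368) (tt N103934 (iv0 F443436)) (tt N63240 F387364) (tt N53747 (iv3 D192653)) (tt N53750 F387365) (tt N64692 F387366) (tt N66909 (iv6 F387369)) (tt N80957 F387367))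
theorem Q89739 : ∀ i, i < 89739 → P i := stepQ 89738 Q89738 (allL N89738 (tt N78482 F387374) (tt N63426 (iv0 F387375)) (tt N78480 F387370) (tt N66909 F387371) (tt N53749 F387372) (tt N63586 F387373) (tt N53747 (iv6 D192654)) (tt N69318 (iv7 F387376)))
theorem Q89740 : ∀ i, i < 89740 → P i := stepQ 89739 Q89739 (allL N89739 (tt N116399 (iv1 F499893)) (tt N53748 (iv0 D192655)) (tt N112125 (iv2 F479613)) (tt N64538 (iv3 F387378)) (tt N116762 D220021) (tt N64537 F387377) (tt N111269 (iv6 F475545)) (tt N106382 (iv7 F454225)))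
theorem Q89741 : ∀ i, i < 89741 → P i := stepQ 89740 Q89740 (allL N89740 (tt N53748 (iv1 D192656)) (tt N116399 (iv0 F499892)) (tt N106382 (iv2 F454221)) (tt N103905 (iv3 F443295)) (tt N61460 F420936) (tt N80864 F387379) (tt N61459 (iv6 F420935)) (tt N112125 (iv7 F479617)))
theorem Q89742 : ∀ i, i < 89742 → P i := stepQ 89741 Q89741 (allL N89741 (tt N64488 F387381) (tt N78295 (iv0 F387383)) (tt N109868 F468999) (tt N86896 (iv3 F387382)) (tt N53748 (iv4 D192657)) (tt N86894 F387380) (tt N114307 (iv6 F489515)) (tt N104919 (iv7 F447939)))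
theorem Q89743 : ∀ i, i < 89743 → P i := stepQ 89742 Q89742 (allL N89742 (tt N106367 F454172) (tt N106371 (iv0 F454191)) (tt N106316 (iv2 F453994)) (tt N53754 F387384) (tt N114307 (iv4 F489513)) (tt N101941 F435033) (tt N53748 (iv6 D192658)) (tt N106354 (iv7 F454113)))
theorem Q89744 : ∀ i, i < 89744 → P i := stepQ 89743 Q89743 (allL N89743 (tt N96167 (iv1 F411320)) (tt N96164 F411314) (tt N106317 (iv2 F453998)) (tt N53756 F387385) (tt N116763 D220022) (tt N53749 (iv5 D192659)) (tt N101941 (iv6 F435031)) (tt N91103 F391944))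
theorem Q89745 : ∀ i, i < 89745 → P i := stepQ 89744 Q89744 (allL N89744 (tt N64386 (iv1 F387390)) (tt N70521 F387391) (tt N70543 F387386) (tt N53757 F387387) (tt N69318 F387388) (tt N91103 (iv5 F391943)) (tt N88668 F387389) (tt N53749 (iv7 D192660)))
theorem Q89746 : ∀ i, i < 89746 → P i := stepQ 89745 Q89745 (allL N89745 (tt N82368 F387396) (tt N103250 (iv0 F440792)) (tt N75845 F387392) (tt N53751 F387393) (tt N65720 F387394) (tt N53750 (iv5 D192661)) (tt N65718 (iv6 F387397)) (tt N80958 F387395))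
theorem Q89747 : ∀ i, i < 89747 → P i := stepQ 89746 Q89746 (allL N89746 (tt N81359 F387401) (tt N81402 F387402) (tt N80966 F387398) (tt N59600 (iv3 F387403)) (tt N53751 (iv4 D192662)) (tt N57765 F387399) (tt N59597 F387404) (tt N80962 F387400))
theorem Q89748 : ∀ i, i < 89748 → P i := stepQ 89747 Q89747 (allL N89747 (tt N102274 F436497) (tt N79288 (iv0 F387410)) (tt N80967 F387407) (tt N65718 F387408) (tt N59597 F387409) (tt N106731 (iv5 F455453)) (tt N53751 (iv6 D192663)) (tt N106826 (iv7 F455860)))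
theorem Q89749 : ∀ i, i < 89749 → P i := stepQ 89748 Q89748 (allL N89748 (tt N116764 D220023) (tt N85091 (iv0 F387414)) (tt N113697 (iv2 F486685)) (tt N53753 (iv3 D192664)) (tt N86896 F387411) (tt N57768 F387412) (tt N85159 (iv6 F387413)) (tt N113693 (iv7 F486669)))
theorem Q89750 : ∀ i, i < 89750 → P i := stepQ 89749 Q89749 (allL N89749 (tt N90717 F390627) (tt N85158 (iv0 F387417)) (tt N90715 F390615) (tt N85159 F387415) (tt N53754 F387416) (tt N114458 (iv5 F490276)) (tt N53753 (iv6 D192665)) (tt N90716 (iv7 F390620)))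
theorem Q89751 : ∀ i, i < 89751 → P i := stepQ 89750 Q89750 (allL N89750 (tt N91100 (iv1 F391918)) (tt N90965 (iv0 F447579)) (tt N91102 (iv2 F391928)) (tt N101941 F435028) (tt N60136 F387420) (tt N53754 (iv5 D192667)) (tt N53756 F387418) (tt N89306 F387419))
theorem Q89752 : ∀ i, i < 89752 → P i := stepQ 89751 Q89751 (allL N89751 (tt N74488 F387422) (tt N61395 F387423) (tt N98368 F420668) (tt N61327 (iv3 F387425)) (tt N53758 (iv4 D192668)) (tt N63418 F387421) (tt N70660 F387424) (tt N98367 F420664))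
theorem Q89753 : ∀ i, i < 89753 → P i := stepQ 89752 Q89752 (allL N89752 (tt N105804 (iv1 F451803)) (tt N104957 (iv0 F448135)) (tt N105921 (iv2 F452355)) (tt N53760 F387432) (tt N70660 F387433) (tt N71457 (iv5 F387435)) (tt N53758 (iv6 D192669)) (tt N70659 (iv7 F387434)))
theorem Q89754 : ∀ i, i < 89754 → P i := stepQ 89753 Q89753 (allL N89753 (tt N98253 F420194) (tt N61225 (iv0 F387437)) (tt N98252 F420186) (tt N53759 (iv3 D192670)) (tt N61327 F387436) (tt N103968 (iv5 F443564)) (tt N97992 (iv6 F419090)) (tt N90128 (iv7 F388622)))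
theorem Q89755 : ∀ i, i < 89755 → P i := stepQ 89754 Q89754 (allL N89754 (tt N111046 F474408) (tt N116765 D220024) (tt N90127 (iv2 F388620)) (tt N97992 (iv3 F419089)) (tt N53760 F387440) (tt N116766 D220025) (tt N53759 (iv6 D192671)) (tt N116767 D220026))
theorem Q89756 : ∀ i, i < 89756 → P i := stepQ 89755 Q89755 (allL N89755 (tt N116404 (iv1 F499923)) (tt N53760 (iv0 D192672)) (tt N116403 F499914) (tt N101078 F431567) (tt N112828 (iv4 F482823)) (tt N116768 D220027) (tt N53805 F387441) (tt N101487 (iv7 F433112)))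
theorem Q89757 : ∀ i, i < 89757 → P i := stepQ 89756 Q89756 (allL N89756 (tt N53760 (iv1 D192673)) (tt N116404 F499922) (tt N101487 (iv2 F499917)) (tt N116730 (iv3 F501540)) (tt N116769 D220028) (tt N116176 (iv5 F498876)) (tt N114012 (iv6 F488197)) (tt N116403 F499916))
theorem Q89758 : ∀ i, i < 89758 → P i := stepQ 89757 Q89757 (allL N89757 (tt N83702 F387445) (tt N84438 F387446) (tt N84436 F387442) (tt N71457 F387443) (tt N113966 (iv4 F488000)) (tt N53760 (iv5 D192674)) (tt N88558 F387444) (tt N84435 (iv7 F387447)))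
theorem Q89759 : ∀ i, i < 89759 → P i := stepQ 89758 Q89758 (allL N89758 (tt N101487 F451815) (tt N116403 F499918) (tt N116404 (iv2 F499919)) (tt N70659 F387448) (tt N116767 (iv4 F501719)) (tt N84435 F387449) (tt N115140 (iv6 F493681)) (tt N53760 (iv7 D192675)))
theorem Q89760 : ∀ i, i < 89760 → P i := stepQ 89759 Q89759 (allL N89759 (tt N85587 F387566) (tt N85596 (iv0 F405590)) (tt N90129 (iv2 F388629)) (tt N105431 F450240) (tt N53763 F387453) (tt N107734 (iv5 F459457)) (tt N53762 (iv6 D192678)) (tt N116770 D220029))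
theorem Q89761 : ∀ i, i < 89761 → P i := stepQ 89760 Q89760 (allL N89760 (tt N113767 (iv1 F487027)) (tt N96680 (iv0 F413427)) (tt N115140 (iv2 F493679)) (tt N109809 F468728) (tt N116770 (iv4 F501733)) (tt N85446 F387454) (tt N116404 (iv6 F499921)) (tt N53763 (iv7 D192680)))
theorem Q89762 : ∀ i, i < 89762 → P i := stepQ 89761 Q89761 (allL N89761 (tt N65232 F404407) (tt N110843 F473422) (tt N90330 (iv2 F389363)) (tt N72202 F387455) (tt N94418 F404404) (tt N53764 (iv5 D192681)) (tt N90328 F389366) (tt N110835 (iv7 F473371)))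
theorem Q89763 : ∀ i, i < 89763 → P i := stepQ 89762 Q89762 (allL N89762 (tt N112828 (iv1 F482826)) (tt N116769 (iv0 F501729)) (tt N116405 (iv2 F499924)) (tt N58329 F387456) (tt N54046 F387457) (tt N116771 D220030) (tt N53764 (iv6 D192682)) (tt N58325 F387458))
theorem Q89764 : ∀ i, i < 89764 → P i := stepQ 89763 Q89763 (allL N89763 (tt N85241 F387461) (tt N71234 (iv0 F387462)) (tt N58332 F387459) (tt N53765 (iv3 D192683)) (tt N107262 (iv4 F457690)) (tt N90335 (iv5 F389373)) (tt N58330 (iv6 F387460)) (tt N90334 F389369))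
theorem Q89765 : ∀ i, i < 89765 → P i := stepQ 89764 Q89764 (allL N89764 (tt N110843 (iv1 F473421)) (tt N65232 (iv0 F387463)) (tt N110835 (iv2 F473367)) (tt N90335 (iv3 F389371)) (tt N94417 (iv4 F404397)) (tt N53765 (iv5 D192684)) (tt N116772 D220031) (tt N90330 (iv7 F389364)))
theorem Q89766 : ∀ i, i < 89766 → P i := stepQ 89765 Q89765 (allL N89765 (tt N58237 (iv1 F387468)) (tt N58233 F387478) (tt N57947 F387464) (tt N58330 F387465) (tt N54048 F387466) (tt N72856 (iv5 F387477)) (tt N53765 (iv6 D192685)) (tt N58323 (iv7 F387467)))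
theorem Q89767 : ∀ i, i < 89767 → P i := stepQ 89766 Q89766 (allL N89766 (tt N101846 (iv1 F434638)) (tt N101845 (iv0 F434632)) (tt N53766 (iv2 D192686)) (tt N72214 F387479) (tt N54278 F387480) (tt N72287 (iv5 F387482)) (tt N53815 F387481) (tt N101793 (iv7 F434372)))
theorem Q89768 : ∀ i, i < 89768 → P i := stepQ 89767 Q89767 (allL N89767 (tt N94356 (iv1 F404121)) (tt N70232 F387488) (tt N72287 F387483) (tt N53767 F387484) (tt N57584 F387486) (tt N53766 (iv5 D192687)) (tt N73476 F387485) (tt N101792 (iv7 F434367)))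
theorem Q89769 : ∀ i, i < 89769 → P i := stepQ 89768 Q89768 (allL N89768 (tt N101845 (iv1 F434633)) (tt N101846 (iv0 F434637)) (tt N101793 (iv2 F434369)) (tt N53768 F387489) (tt N54275 F387490) (tt N101792 F434368) (tt N107700 (iv6 F459291)) (tt N53766 (iv7 D192688)))
theorem Q89770 : ∀ i, i < 89770 → P i := stepQ 89769 Q89769 (allL N89769 (tt N53767 (iv1 D192689)) (tt N72288 F387491) (tt N56870 (iv2 F387494)) (tt N106297 (iv3 F453928)) (tt N56868 (iv4 F387495)) (tt N54042 F387493) (tt N98202 (iv6 F419973)) (tt N56865 F387492))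
theorem Q89771 : ∀ i, i < 89771 → P i := stepQ 89770 Q89770 (allL N89770 (tt N57765 F387499) (tt N57769 F387500) (tt N72334 F387496) (tt N65472 F387501) (tt N53767 (iv4 D192690)) (tt N79889 F387497) (tt N73731 F387498) (tt N93422 (iv7 F400686)))
theorem Q89772 : ∀ i, i < 89772 → P i := stepQ 89771 Q89771 (allL N89771 (tt N56870 (iv1 F387504)) (tt N56865 F387505) (tt N72288 F387502) (tt N101792 (iv3 F434365)) (tt N93422 (iv4 F400687)) (tt N53768 F387503) (tt N108091 (iv6 F461071)) (tt N53767 (iv7 D192691)))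
theorem Q89773 : ∀ i, i < 89773 → P i := stepQ 89772 Q89772 (allL N89772 (tt N106421 F454361) (tt N107816 F459828) (tt N53773 F387506) (tt N109807 (iv3 F468716)) (tt N61388 F387507) (tt N109122 (iv5 F465432)) (tt N53770 (iv6 D192692)) (tt N109121 (iv7 F465427)))
theorem Q89774 : ∀ i, i < 89774 → P i := stepQ 89773 Q89773 (allL N89773 (tt N106394 (iv1 F454271)) (tt N106393 F454267) (tt N105676 (iv2 F451204)) (tt N82739 F387508) (tt N70636 F387509) (tt N82734 F387510) (tt N53771 (iv6 D192693)) (tt N105674 (iv7 F451197)))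
theorem Q89775 : ∀ i, i < 89775 → P i := stepQ 89774 Q89774 (allL N89774 (tt N109121 F465428) (tt N53773 (iv0 D192694)) (tt N106421 F454363) (tt N73489 F387530) (tt N105670 (iv4 F451178)) (tt N116773 D220032) (tt N106418 (iv6 F454365)) (tt N107816 (iv7 F459826)))
theorem Q89776 : ∀ i, i < 89776 → P i := stepQ 89775 Q89775 (allL N89775 (tt N53773 (iv1 D192695)) (tt N109121 F465429) (tt N107816 (iv2 F459824)) (tt N106426 (iv3 F454376)) (tt N105672 (iv4 F451192)) (tt N116774 D220033) (tt N107433 (iv6 F458324)) (tt N106421 F454364))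
theorem Q89777 : ∀ i, i < 89777 → P i := stepQ 89776 Q89776 (allL N89776 (tt N107816 F459827) (tt N106421 (iv0 F454362)) (tt N109121 (iv2 F465423)) (tt N53779 F387512) (tt N76228 F387513) (tt N99761 F426107) (tt N99763 (iv6 F426117)) (tt N53773 (iv7 D192696)))
theorem Q89778 : ∀ i, i < 89778 → P i := stepQ 89777 Q89777 (allL N89777 (tt N116775 D220034) (tt N58208 (iv0 F400301)) (tt N116776 D220035) (tt N53774 (iv3 D192697)) (tt N78872 F387516) (tt N84815 F387514) (tt N116777 D220036) (tt N85156 F387515))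
theorem Q89779 : ∀ i, i < 89779 → P i := stepQ 89778 Q89778 (allL N89778 (tt N114609 F491006) (tt N114611 (iv0 F491011)) (tt N85183 F387517) (tt N116777 (iv3 F501777)) (tt N55324 F387518) (tt N115544 (iv5 F495719)) (tt N53774 (iv6 D192698)) (tt N106199 (iv7 F453588)))
theorem Q89780 : ∀ i, i < 89780 → P i := stepQ 89779 Q89779 (allL N89779 (tt N58708 F387522) (tt N93358 (iv0 F400515)) (tt N100619 (iv2 F429723)) (tt N53775 (iv3 D192699)) (tt N100566 (iv4 F429490)) (tt N58212 F387519) (tt N81875 F387520) (tt N85181 F387521))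
theorem Q89781 : ∀ i, i < 89781 → P i := stepQ 89780 Q89780 (allL N89780 (tt N116377 (iv1 F499786)) (tt N53776 (iv0 D192700)) (tt N85401 (iv2 F387525)) (tt N58205 F387527) (tt N84858 F387523) (tt N94670 (iv5 F405458)) (tt N82450 F387524) (tt N85405 (iv7 F387526)))
theorem Q89782 : ∀ i, i < 89782 → P i := stepQ 89781 Q89781 (allL N89781 (tt N53776 (iv1 D192701)) (tt N116377 F499785) (tt N85405 (iv2 F387531)) (tt N58692 F387532) (tt N84859 F387529) (tt N94951 (iv5 F406471)) (tt N107296 (iv6 F457854)) (tt N85401 F387528))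
theorem Q89783 : ∀ i, i < 89783 → P i := stepQ 89782 Q89782 (allL N89782 (tt N58198 F387537) (tt N58683 (iv0 F387538)) (tt N80581 F387533) (tt N74238 F387534) (tt N87063 F387536) (tt N53776 (iv5 D192702)) (tt N78424 F387535) (tt N96372 (iv7 F412277)))
theorem Q89784 : ∀ i, i < 89784 → P i := stepQ 89783 Q89783 (allL N89783 (tt N85405 (iv1 F387541)) (tt N85401 F387542) (tt N116377 (iv2 F499780)) (tt N76239 F387539) (tt N53779 F387540) (tt N96372 (iv5 F412276)) (tt N93750 (iv6 F401759)) (tt N53776 (iv7 D192703)))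
theorem Q89785 : ∀ i, i < 89785 → P i := stepQ 89784 Q89784 (allL N89784 (tt N62412 F387545) (tt N62411 F387547) (tt N59959 (iv2 F387548)) (tt N53777 (iv3 D192704)) (tt N58716 (iv4 F387549)) (tt N58317 (iv5 F387546)) (tt N67231 F387543) (tt N59025 F387544))
theorem Q89786 : ∀ i, i < 89786 → P i := stepQ 89785 Q89785 (allL N89785 (tt N83922 F387556) (tt N86403 F387555) (tt N88905 F387550) (tt N58317 F387551) (tt N84149 F387554) (tt N53777 (iv5 D192705)) (tt N67230 F387552) (tt N88904 F387553))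
theorem Q89787 : ∀ i, i < 89787 → P i := stepQ 89786 Q89786 (allL N89786 (tt N86403 (iv1 F387565)) (tt N83922 (iv0 F387563)) (tt N88904 F387558) (tt N72587 F387559) (tt N86348 F387561) (tt N53778 (iv5 D192706)) (tt N83767 F387562) (tt N88905 F387560))
theorem Q89788 : ∀ i, i < 89788 → P i := stepQ 89787 Q89787 (allL N89787 (tt N73219 F387572) (tt N73218 F387575) (tt N59023 F387569) (tt N62404 F387570) (tt N72866 F387571) (tt N59022 (iv5 F387573)) (tt N53778 (iv6 D192707)) (tt N73216 F387574))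
theorem Q89789 : ∀ i, i < 89789 → P i := stepQ 89788 Q89788 (allL N89788 (tt N85859 F387579) (tt N114274 F489341) (tt N83250 F387576) (tt N79031 F387577) (tt N54023 F387580) (tt N53780 (iv5 D192708)) (tt N115738 F496594) (tt N79027 F387578))
theorem Q89790 : ∀ i, i < 89790 → P i := stepQ 89789 Q89789 (allL N89789 (tt N104178 (iv1 F444554)) (tt N70742 (iv0 F442948)) (tt N96699 F413517) (tt N107461 (iv3 F458419)) (tt N104311 (iv4 F445179)) (tt N107292 (iv5 F457832)) (tt N53781 (iv6 D192709)) (tt N104177 (iv7 F444547)))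
theorem Q89791 : ∀ i, i < 89791 → P i := stepQ 89790 Q89790 (allL N89790 (tt N109872 F469020) (tt N111269 (iv0 F475548)) (tt N53786 F387581) (tt N76559 F387582) (tt N86213 F387583) (tt N100009 (iv5 F427174)) (tt N53782 (iv6 D192710)) (tt N109115 (iv7 F465407)))
theorem Q89792 : ∀ i, i < 89792 → P i := stepQ 89791 Q89791 (allL N89791 (tt N109883 (iv1 F469070)) (tt N100290 (iv0 F428276)) (tt N109880 F469060) (tt N116732 (iv3 F501550)) (tt N61452 F387587) (tt N107594 (iv5 F458871)) (tt N53785 (iv6 D192713)) (tt N109881 (iv7 F469063)))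
theorem Q89793 : ∀ i, i < 89793 → P i := stepQ 89792 Q89792 (allL N89792 (tt N109115 (iv1 F465410)) (tt N53786 (iv0 D192714)) (tt N109872 (iv2 F469017)) (tt N111275 (iv3 F475581)) (tt N61462 (iv4 F418399)) (tt N103816 (iv5 F442944)) (tt N61461 F418400) (tt N111269 (iv7 F475546)))
theorem Q89794 : ∀ i, i < 89794 → P i := stepQ 89793 Q89793 (allL N89793 (tt N53786 (iv1 D192715)) (tt N109115 (iv0 F465408)) (tt N111269 (iv2 F475543)) (tt N98092 (iv3 F419428)) (tt N105842 (iv4 F451984)) (tt N98089 (iv5 F419416)) (tt N112125 (iv6 F479616)) (tt N109872 F469021))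
theorem Q89795 : ∀ i, i < 89795 → P i := stepQ 89794 Q89794 (allL N89794 (tt N111269 F475549) (tt N109872 (iv0 F469019)) (tt N109115 (iv2 F465404)) (tt N53792 F387588) (tt N97813 (iv4 F418390)) (tt N109110 F465387) (tt N109808 (iv6 F468721)) (tt N53786 (iv7 D192716)))
theorem Q89796 : ∀ i, i < 89796 → P i := stepQ 89795 Q89795 (allL N89795 (tt N54682 F387594) (tt N83087 (iv0 F387595)) (tt N61547 F387589) (tt N53787 (iv3 D192717)) (tt N54721 F387590) (tt N61542 F387591) (tt N87036 F387592) (tt N89152 F387593))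
theorem Q89797 : ∀ i, i < 89797 → P i := stepQ 89796 Q89796 (allL N89796 (tt N53789 (iv1 D192719)) (tt N93750 (iv0 F401761)) (tt N89852 (iv2 F387720)) (tt N90291 (iv3 F389247)) (tt N55330 (iv4 F387718)) (tt N90290 (iv5 F389243)) (tt N90118 (iv6 F388592)) (tt N89849 F387717))
theorem Q89798 : ∀ i, i < 89798 → P i := stepQ 89797 Q89797 (allL N89797 (tt N110939 (iv1 F473884)) (tt N90321 F389350) (tt N96015 (iv2 F410645)) (tt N110938 (iv3 F473876)) (tt N110850 (iv4 F473441)) (tt N53789 (iv5 D192720)) (tt N96061 (iv6 F410859)) (tt N110940 (iv7 F473883)))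
theorem Q89799 : ∀ i, i < 89799 → P i := stepQ 89798 Q89798 (allL N89798 (tt N89852 (iv1 F387724)) (tt N89849 F387725) (tt N93750 (iv2 F401763)) (tt N114587 (iv3 F490887)) (tt N53792 F387597) (tt N110940 (iv5 F473882)) (tt N116377 (iv6 F499784)) (tt N53789 (iv7 D192721)))
theorem Q89800 : ∀ i, i < 89800 → P i := stepQ 89799 Q89799 (allL N89799 (tt N87206 (iv1 F387600)) (tt N87262 F391621) (tt N110518 F471953) (tt N79109 F387598) (tt N113831 (iv4 F487336)) (tt N53790 (iv5 D192723)) (tt N115880 F497382) (tt N79107 F387599))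
theorem Q89801 : ∀ i, i < 89801 → P i := stepQ 89800 Q89800 (allL N89800 (tt N109874 (iv1 F469030)) (tt N107299 (iv0 F457865)) (tt N107418 (iv2 F458273)) (tt N107456 F458404) (tt N110204 (iv4 F470422)) (tt N89812 F387618) (tt N53790 (iv6 D192724)) (tt N109873 (iv7 F469025)))
theorem Q89802 : ∀ i, i < 89802 → P i := stepQ 89801 Q89801 (allL N89801 (tt N106329 (iv1 F454052)) (tt N53795 (iv0 D192725)) (tt N106331 (iv2 F454061)) (tt N83131 (iv3 F394229)) (tt N53847 F387601) (tt N113463 (iv5 F485602)) (tt N116778 D220037) (tt N53845 (iv7 F387602)))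
theorem Q89803 : ∀ i, i < 89803 → P i := stepQ 89802 Q89802 (allL N89802 (tt N110399 F471403) (tt N114625 (iv0 F491069)) (tt N83536 F387603) (tt N53799 F387604) (tt N107560 (iv4 F458747)) (tt N53795 (iv5 D192726)) (tt N54812 F387605) (tt N114635 (iv7 F491120)))
theorem Q89804 : ∀ i, i < 89804 → P i := stepQ 89803 Q89803 (allL N89803 (tt N53845 (iv1 F387607)) (tt N106331 F454064) (tt N106329 (iv2 F454056)) (tt N53800 F387606) (tt N108836 (iv4 F464184)) (tt N114635 (iv5 F491121)) (tt N107092 (iv6 F456931)) (tt N53795 (iv7 D192727)))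
theorem Q89805 : ∀ i, i < 89805 → P i := stepQ 89804 Q89804 (allL N89804 (tt N90151 (iv1 F388706)) (tt N53796 (iv0 D192728)) (tt N90134 (iv2 F388647)) (tt N103733 (iv3 F442617)) (tt N85597 F387608) (tt N103186 (iv5 F440474)) (tt N85596 (iv6 F387609)) (tt N90136 (iv7 F388654)))
theorem Q89806 : ∀ i, i < 89806 → P i := stepQ 89805 Q89805 (allL N89805 (tt N53796 (iv1 D192729)) (tt N90151 F388705) (tt N90136 (iv2 F388652)) (tt N111974 (iv3 F478925)) (tt N89111 (iv4 F388651)) (tt N103185 (iv5 F440468)) (tt N106277 (iv6 F453855)) (tt N90134 F388650))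
theorem Q89807 : ∀ i, i < 89807 → P i := stepQ 89806 Q89806 (allL N89806 (tt N90136 (iv1 F388655)) (tt N90134 (iv0 F388648)) (tt N90151 (iv2 F388701)) (tt N59105 F387610) (tt N53800 F387611) (tt N59104 F387612) (tt N90152 (iv6 F388710)) (tt N53796 (iv7 D192730)))
theorem Q89808 : ∀ i, i < 89808 → P i := stepQ 89807 Q89807 (allL N89807 (tt N104858 F447658) (tt N107316 (iv0 F457940)) (tt N96682 (iv2 F413435)) (tt N53797 (iv3 D192731)) (tt N95698 (iv4 F409189)) (tt N107421 (iv5 F458282)) (tt N82301 F387613) (tt N96702 (iv7 F413531)))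
theorem Q89809 : ∀ i, i < 89809 → P i := stepQ 89808 Q89808 (allL N89808 (tt N109875 (iv1 F469039)) (tt N116779 D220038) (tt N111201 (iv2 F475202)) (tt N107421 F458283) (tt N110409 F471442) (tt N53797 (iv5 D192732)) (tt N114893 (iv6 F492382)) (tt N116406 (iv7 F499933)))
theorem Q89810 : ∀ i, i < 89810 → P i := stepQ 89809 Q89809 (allL N89809 (tt N53809 F387616) (tt N89324 F387615) (tt N77126 F387614) (tt N110503 (iv3 F471874)) (tt N53798 (iv4 D192734)) (tt N103001 (iv5 F439627)) (tt N115047 (iv6 F493210)) (tt N91612 (iv7 F393780)))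
theorem Q89811 : ∀ i, i < 89811 → P i := stepQ 89810 Q89810 (allL N89810 (tt N116779 (iv1 F501787)) (tt N109875 (iv0 F469038)) (tt N116406 (iv2 F499929)) (tt N113461 F485598) (tt N100273 F428195) (tt N53798 (iv5 D192735)) (tt N89358 (iv6 F387617)) (tt N111201 (iv7 F475203)))
theorem Q89812 : ∀ i, i < 89812 → P i := stepQ 89811 Q89811 (allL N89811 (tt N106323 F454027) (tt N107313 (iv0 F457923)) (tt N96701 F413524) (tt N105640 F457334) (tt N115047 (iv4 F493208)) (tt N91100 (iv5 F391920)) (tt N53798 (iv6 D192736)) (tt N116376 (iv7 F499777)))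
theorem Q89813 : ∀ i, i < 89813 → P i := stepQ 89812 Q89812 (allL N89812 (tt N53799 (iv1 D192737)) (tt N106585 F454953) (tt N112348 (iv2 F480687)) (tt N116743 F501598) (tt N109603 (iv4 F467687)) (tt N89800 (iv5 F387618)) (tt N112345 (iv6 F480677)) (tt N112112 F479542))
theorem Q89814 : ∀ i, i < 89814 → P i := stepQ 89813 Q89813 (allL N89813 (tt N112348 (iv1 F480691)) (tt N112112 (iv0 F479540)) (tt N106585 (iv2 F454948)) (tt N114635 F491122) (tt N106576 (iv4 F454924)) (tt N53800 F387619) (tt N88735 F387620) (tt N53799 (iv7 D192738)))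
theorem Q89815 : ∀ i, i < 89815 → P i := stepQ 89814 Q89814 (allL N89814 (tt N109890 (iv1 F469088)) (tt N107047 (iv0 F456766)) (tt N53802 F387621) (tt N107093 (iv3 F456936)) (tt N109814 (iv4 F468751)) (tt N88688 F387622) (tt N53801 (iv6 D192739)) (tt N109813 (iv7 F468747)))
theorem Q89816 : ∀ i, i < 89816 → P i := stepQ 89815 Q89815 (allL N89815 (tt N109813 (iv1 F468749)) (tt N53802 (iv0 D192740)) (tt N109890 F469090) (tt N105095 (iv3 F448766)) (tt N115739 (iv4 F496599)) (tt N105093 F448760) (tt N116780 D220039) (tt N107047 (iv7 F456764)))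
theorem Q89817 : ∀ i, i < 89817 → P i := stepQ 89816 Q89816 (allL N89816 (tt N53802 (iv1 D192741)) (tt N109813 F468748) (tt N107047 (iv2 F456762)) (tt N82890 (iv3 F449310)) (tt N82894 F449311) (tt N107045 (iv5 F456759)) (tt N116781 D220040) (tt N109890 (iv7 F469089)))
theorem Q89818 : ∀ i, i < 89818 → P i := stepQ 89817 Q89817 (allL N89817 (tt N82428 (iv1 F387625)) (tt N82432 F387626) (tt N90152 (iv2 F388707)) (tt N109887 (iv3 F469078)) (tt N53806 F387623) (tt N82517 F387624) (tt N90151 (iv6 F388704)) (tt N53803 (iv7 D192742)))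
theorem Q89819 : ∀ i, i < 89819 → P i := stepQ 89818 Q89818 (allL N89818 (tt N107315 F457936) (tt N115555 (iv0 F495767)) (tt N95999 F410568) (tt N107482 (iv3 F458477)) (tt N107703 (iv4 F459301)) (tt N91021 F391611) (tt N53804 (iv6 D192743)) (tt N114012 (iv7 F488195)))
theorem Q89820 : ∀ i, i < 89820 → P i := stepQ 89819 Q89819 (allL N89819 (tt N92971 F398970) (tt N95199 (iv0 F407377)) (tt N95231 (iv2 F407513)) (tt N53808 F387627) (tt N100620 (iv4 F429729)) (tt N53807 (iv5 D192744)) (tt N95219 (iv6 F407464)) (tt N82446 F387628))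
theorem Q89821 : ∀ i, i < 89821 → P i := stepQ 89820 Q89820 (allL N89820 (tt N114797 F491927) (tt N112374 (iv0 F480790)) (tt N85150 F387629) (tt N95219 (iv3 F407463)) (tt N53830 F387630) (tt N91574 (iv5 F393681)) (tt N53808 (iv6 D192745)) (tt N95212 (iv7 F407442)))
theorem Q89822 : ∀ i, i < 89822 → P i := stepQ 89821 Q89821 (allL N89821 (tt N85239 (iv1 F387635)) (tt N84831 F387634) (tt N53810 (iv2 D192746)) (tt N61324 F387631) (tt N89323 F387632) (tt N95227 (iv5 F407497)) (tt N80564 F387636) (tt N85238 F387633))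
theorem Q89823 : ∀ i, i < 89823 → P i := stepQ 89822 Q89822 (allL N89822 (tt N85250 F387639) (tt N116782 D220041) (tt N95227 (iv2 F407495)) (tt N53811 F387637) (tt N91449 (iv4 F393175)) (tt N53810 (iv5 D192747)) (tt N95223 (iv6 F407481)) (tt N85149 F387638))
theorem Q89824 : ∀ i, i < 89824 → P i := stepQ 89823 Q89823 (allL N89823 (tt N91683 (iv1 F394027)) (tt N91682 F394024) (tt N80564 F387646) (tt N53812 F387647) (tt N89328 F387648) (tt N80563 F387650) (tt N53810 (iv6 D192748)) (tt N89325 F387649))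
theorem Q89825 : ∀ i, i < 89825 → P i := stepQ 89824 Q89824 (allL N89824 (tt N95211 (iv1 F407437)) (tt N95188 F407355) (tt N82445 F387651) (tt N95223 (iv3 F407480)) (tt N53827 F387652) (tt N82442 F387653) (tt N53811 (iv6 D192749)) (tt N95209 (iv7 F407430)))
theorem Q89826 : ∀ i, i < 89826 → P i := stepQ 89825 Q89825 (allL N89825 (tt N53814 (iv1 F387658)) (tt N53813 (iv0 D192750)) (tt N53816 (iv2 F387654)) (tt N77129 F387655) (tt N85512 F387656) (tt N98342 (iv5 F420561)) (tt N116783 D220042) (tt N53815 F387657))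
theorem Q89827 : ∀ i, i < 89827 → P i := stepQ 89826 Q89826 (allL N89826 (tt N85233 (iv1 F387661)) (tt N84833 (iv0 F387660)) (tt N61323 F387659) (tt N53813 (iv3 D192751)) (tt N116784 D220043) (tt N103042 (iv5 F439796)) (tt N113262 (iv6 F484763)) (tt N85232 (iv7 F387662)))
theorem Q89828 : ∀ i, i < 89828 → P i := stepQ 89827 Q89827 (allL N89827 (tt N85309 (iv1 F387668)) (tt N84849 F387667) (tt N61195 F387664) (tt N103042 (iv3 F439795)) (tt N78873 (iv4 F387665)) (tt N53813 (iv5 D192752)) (tt N116785 D220044) (tt N85308 (iv7 F387666)))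
theorem Q89829 : ∀ i, i < 89829 → P i := stepQ 89828 Q89828 (allL N89828 (tt N77124 F402227) (tt N110503 F471879) (tt N93555 (iv2 F401117)) (tt N113262 (iv3 F484760)) (tt N105637 F471880) (tt N77110 F401118) (tt N53813 (iv6 D192753)) (tt N110502 (iv7 F471869)))
theorem Q89830 : ∀ i, i < 89830 → P i := stepQ 89829 Q89829 (allL N89829 (tt N53815 (iv1 F387673)) (tt N53816 F387674) (tt N53814 F387670) (tt N85232 F387671) (tt N112744 F482472) (tt N85308 F387672) (tt N116346 (iv6 F499649)) (tt N53813 (iv7 D192754)))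
theorem Q89831 : ∀ i, i < 89831 → P i := stepQ 89830 Q89830 (allL N89830 (tt N85506 (iv1 F387679)) (tt N85509 (iv0 F387678)) (tt N116346 (iv2 F499647)) (tt N61322 F387675) (tt N82856 F387676) (tt N94760 (iv5 F405838)) (tt N53814 (iv6 D192755)) (tt N85699 (iv7 F387677)))
theorem Q89832 : ∀ i, i < 89832 → P i := stepQ 89831 Q89831 (allL N89831 (tt N105623 F451007) (tt N98219 (iv0 F420035)) (tt N116783 (iv2 F501807)) (tt N53817 F387680) (tt N107478 (iv4 F458454)) (tt N93265 (iv5 F400194)) (tt N53816 (iv6 D192756)) (tt N107700 (iv7 F459292)))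
theorem Q89833 : ∀ i, i < 89833 → P i := stepQ 89832 Q89832 (allL N89832 (tt N78325 F405700) (tt N63468 (iv0 F387682)) (tt N106327 (iv2 F454039)) (tt N53818 (iv3 D192757)) (tt N61308 (iv4 F387681)) (tt N95955 (iv5 F410418)) (tt N105962 (iv6 F452531)) (tt N107314 (iv7 F457928)))
theorem Q89834 : ∀ i, i < 89834 → P i := stepQ 89833 Q89833 (allL N89833 (tt N90132 F388646) (tt N85223 F388741) (tt N90163 (iv2 F388734)) (tt N61189 F387683) (tt N53818 (iv4 D192758)) (tt N53973 F387684) (tt N106280 (iv6 F453872)) (tt N90164 (iv7 F388742)))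
theorem Q89835 : ∀ i, i < 89835 → P i := stepQ 89834 Q89834 (allL N89834 (tt N96701 F413528) (tt N116376 (iv0 F499778)) (tt N107313 (iv2 F457920)) (tt N105962 F452532) (tt N106280 F453870) (tt N84387 F387685) (tt N53818 (iv6 D192759)) (tt N106323 (iv7 F454026)))
theorem Q89836 : ∀ i, i < 89836 → P i := stepQ 89835 Q89835 (allL N89835 (tt N85223 F387687) (tt N90132 F388645) (tt N90164 (iv2 F388746)) (tt N56780 F387686) (tt N53819 (iv4 D192760)) (tt N72926 (iv5 F387688)) (tt N116786 D220045) (tt N90163 (iv7 F388736)))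
theorem Q89837 : ∀ i, i < 89837 → P i := stepQ 89836 Q89836 (allL N89836 (tt N114012 F488198) (tt N95999 (iv0 F410569)) (tt N107315 (iv2 F457932)) (tt N104170 F444521) (tt N116786 (iv4 F501827)) (tt N111339 (iv5 F475899)) (tt N53819 (iv6 D192761)) (tt N115555 (iv7 F495766)))
theorem Q89838 : ∀ i, i < 89838 → P i := stepQ 89837 Q89837 (allL N89837 (tt N72535 F387691) (tt N113229 (iv0 F484605)) (tt N101470 (iv2 F433058)) (tt N76680 F387689) (tt N53820 (iv4 D192762)) (tt N112514 (iv5 F481452)) (tt N71296 F387690) (tt N98447 (iv7 F420941)))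
theorem Q89839 : ∀ i, i < 89839 → P i := stepQ 89838 Q89838 (allL N89838 (tt N83244 (iv1 F387695)) (tt N54010 (iv0 F387694)) (tt N109638 (iv2 F467868)) (tt N53821 (iv3 D192763)) (tt N89684 F387693) (tt N86474 F387692) (tt N107637 F459041) (tt N114315 (iv7 F489551)))
theorem Q89840 : ∀ i, i < 89840 → P i := stepQ 89839 Q89839 (allL N89839 (tt N113229 (iv1 F484604)) (tt N72535 (iv0 F387696)) (tt N98447 (iv2 F420942)) (tt N91162 (iv3 F392116)) (tt N53821 (iv4 D192764)) (tt N91161 (iv5 F392115)) (tt N78976 F387700) (tt N101470 (iv7 F433060)))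
theorem Q89841 : ∀ i, i < 89841 → P i := stepQ 89840 Q89840 (allL N89840 (tt N114654 (iv1 F491222)) (tt N89844 F387709) (tt N88838 F387697) (tt N107637 (iv3 F459042)) (tt N78976 (iv4 F387699)) (tt N83960 F387698) (tt N53821 (iv6 D192765)) (tt N78975 F387701))
theorem Q89842 : ∀ i, i < 89842 → P i := stepQ 89841 Q89841 (allL N89841 (tt N83146 (iv1 F387702)) (tt N53822 (iv0 D192766)) (tt N106373 (iv2 F454197)) (tt N109939 F469308) (tt N106366 F454167) (tt N112319 (iv5 F480531)) (tt N90119 (iv6 F454168)) (tt N114316 (iv7 F489558)))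
theorem Q89843 : ∀ i, i < 89843 → P i := stepQ 89842 Q89842 (allL N89842 (tt N53822 (iv1 D192767)) (tt N83146 F387703) (tt N114316 F489556) (tt N110516 (iv3 F471938)) (tt N106374 (iv4 F454204)) (tt N116787 D220046) (tt N89845 (iv6 F457734)) (tt N106373 F454202))
theorem Q89844 : ∀ i, i < 89844 → P i := stepQ 89843 Q89843 (allL N89843 (tt N107271 (iv1 F457733)) (tt N116788 D220047) (tt N114791 (iv2 F491881)) (tt N83470 F387704) (tt N113269 (iv4 F484798)) (tt N53822 (iv5 D192768)) (tt N83469 (iv6 F387705)) (tt N110414 (iv7 F471461)))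
theorem Q89845 : ∀ i, i < 89845 → P i := stepQ 89844 Q89844 (allL N89844 (tt N89840 (iv1 F387709)) (tt N111274 (iv0 F475578)) (tt N111282 F475616) (tt N85649 F387706) (tt N53823 F387707) (tt N110179 (iv5 F470297)) (tt N53822 (iv6 D192769)) (tt N110178 (iv7 F470294)))
theorem Q89846 : ∀ i, i < 89846 → P i := stepQ 89845 Q89845 (allL N89845 (tt N101245 F432381) (tt N53823 (iv0 D192770)) (tt N111287 (iv2 F475644)) (tt N77637 F426120) (tt N107999 (iv4 F460660)) (tt N77636 (iv5 F426121)) (tt N89842 F457734) (tt N109705 (iv7 F468210)))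
theorem Q89847 : ∀ i, i < 89847 → P i := stepQ 89846 Q89846 (allL N89846 (tt N53823 (iv1 D192771)) (tt N101245 F432383) (tt N109705 (iv2 F468207)) (tt N79114 (iv3 F387713)) (tt N71295 F387711) (tt N76265 F387708) (tt N71294 (iv6 F387710)) (tt N111287 (iv7 F475646)))
theorem Q89848 : ∀ i, i < 89848 → P i := stepQ 89847 Q89847 (allL N89847 (tt N109705 (iv1 F468213)) (tt N111287 (iv0 F475648)) (tt N101245 (iv2 F432379)) (tt N53826 F387714) (tt N110178 F470293) (tt N111300 (iv5 F475703)) (tt N114318 (iv6 F489572)) (tt N53823 (iv7 D192772)))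
theorem Q89849 : ∀ i, i < 89849 → P i := stepQ 89848 Q89848 (allL N89848 (tt N116789 D220048) (tt N54018 F456046) (tt N108784 (iv2 F463913)) (tt N53824 (iv3 D192773)) (tt N116790 D220049) (tt N106860 F456047) (tt N116791 D220050) (tt N91705 (iv7 F394104)))
theorem Q89850 : ∀ i, i < 89850 → P i := stepQ 89849 Q89849 (allL N89849 (tt N89798 (iv1 F387725)) (tt N89054 F387716) (tt N57128 (iv2 F388936)) (tt N116792 D220051) (tt N53824 (iv4 D192774)) (tt N57116 F388931) (tt N108886 (iv6 F464367)) (tt N89796 (iv7 F387717)))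
theorem Q89851 : ∀ i, i < 89851 → P i := stepQ 89850 Q89850 (allL N89850 (tt N114656 F491228) (tt N113268 (iv0 F484795)) (tt N91704 (iv2 F394100)) (tt N116791 (iv3 F501854)) (tt N108886 (iv4 F464366)) (tt N90138 F388660) (tt N53824 (iv6 D192775)) (tt N90617 (iv7 F390290)))
theorem Q89852 : ∀ i, i < 89852 → P i := stepQ 89851 Q89851 (allL N89851 (tt N101052 F431465) (tt N101335 F432692) (tt N101195 (iv2 F432130)) (tt N53825 (iv3 D192776)) (tt N105465 (iv4 F450369)) (tt N61483 F387719) (tt N101009 (iv6 F431250)) (tt N91703 (iv7 F394098)))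
theorem Q89853 : ∀ i, i < 89853 → P i := stepQ 89852 Q89852 (allL N89852 (tt N89054 (iv1 F387723)) (tt N89798 F387724) (tt N89796 F387720) (tt N72629 (iv3 F387726)) (tt N53825 (iv4 D192777)) (tt N57129 F388939) (tt N72627 F387721) (tt N57128 (iv7 F388938)))
theorem Q89854 : ∀ i, i < 89854 → P i := stepQ 89853 Q89853 (allL N89853 (tt N61288 F387729) (tt N53827 (iv0 D192778)) (tt N85147 (iv2 F387728)) (tt N100200 F427961) (tt N94824 F406067) (tt N98294 (iv5 F420370)) (tt N88459 F387727) (tt N85148 (iv7 F387730)))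
theorem Q89855 : ∀ i, i < 89855 → P i := stepQ 89854 Q89854 (allL N89854 (tt N53827 (iv1 D192779)) (tt N61288 F387731) (tt N85148 (iv2 F387737)) (tt N61304 F387735) (tt N58163 F387736) (tt N81437 F387733) (tt N76244 (iv6 F387734)) (tt N85147 F387732))
theorem Q89856 : ∀ i, i < 89856 → P i := stepQ 89855 Q89855 (allL N89855 (tt N85148 (iv1 F387741)) (tt N85147 F387742) (tt N61288 F387738) (tt N91453 (iv3 F393191)) (tt N95209 (iv4 F407431)) (tt N61274 F387739) (tt N85101 F387740) (tt N53827 (iv7 D192780)))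
theorem Q89857 : ∀ i, i < 89857 → P i := stepQ 89856 Q89856 (allL N89856 (tt N88456 F387744) (tt N110379 F471312) (tt N110378 (iv2 F471307)) (tt N100620 F429734) (tt N53828 (iv4 D192781)) (tt N83459 (iv5 F387745)) (tt N116793 D220052) (tt N85145 F387743))
theorem Q89858 : ∀ i, i < 89858 → P i := stepQ 89857 Q89857 (allL N89857 (tt N114454 F490256) (tt N105809 (iv0 F451829)) (tt N114898 (iv2 F492410)) (tt N53830 F387746) (tt N116793 (iv4 F501867)) (tt N85035 F387747) (tt N53828 (iv6 D192782)) (tt N107920 (iv7 F460294)))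
theorem Q89859 : ∀ i, i < 89859 → P i := stepQ 89858 Q89858 (allL N89858 (tt N53830 (iv1 D192783)) (tt N85101 F387748) (tt N85102 (iv2 F387751)) (tt N94157 (iv3 F403470)) (tt N114586 (iv4 F490883)) (tt N90407 (iv5 F394476)) (tt N85095 (iv6 F387750)) (tt N84797 F387749))
theorem Q89860 : ∀ i, i < 89860 → P i := stepQ 89859 Q89859 (allL N89859 (tt N85102 (iv1 F387755)) (tt N84797 F387756) (tt N85101 F387752) (tt N107920 (iv3 F460292)) (tt N95212 (iv4 F407441)) (tt N85037 F387753) (tt N61288 F387754) (tt N53830 (iv7 D192784)))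
theorem Q89861 : ∀ i, i < 89861 → P i := stepQ 89860 Q89860 (allL N89860 (tt N85303 (iv1 F387766)) (tt N53833 (iv0 D192785)) (tt N85301 (iv2 F387764)) (tt N103024 F439723) (tt N95211 (iv4 F407439)) (tt N79064 F387757) (tt N115041 (iv6 F493176)) (tt N85302 (iv7 F387765)))
theorem Q89862 : ∀ i, i < 89862 → P i := stepQ 89861 Q89861 (allL N89861 (tt N53833 (iv1 D192786)) (tt N85303 F387767) (tt N85302 (iv2 F387770)) (tt N107366 (iv3 F458112)) (tt N95188 (iv4 F407353)) (tt N79063 F387769) (tt N104075 (iv6 F444049)) (tt N85301 F387768))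
theorem Q89863 : ∀ i, i < 89863 → P i := stepQ 89862 Q89862 (allL N89862 (tt N85302 (iv1 F387775)) (tt N85301 F387776) (tt N85303 F387771) (tt N76571 F387772) (tt N95035 (iv4 F406745)) (tt N76570 F387773) (tt N85307 F387774) (tt N53833 (iv7 D192787)))
theorem Q89864 : ∀ i, i < 89864 → P i := stepQ 89863 Q89863 (allL N89863 (tt N85784 (iv1 F387780)) (tt N53836 (iv0 D192788)) (tt N85786 (iv2 F387779)) (tt N114875 (iv3 F492281)) (tt N113348 (iv4 F485136)) (tt N85972 F387777) (tt N85818 F387778) (tt N85785 F387781))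
theorem Q89865 : ∀ i, i < 89865 → P i := stepQ 89864 Q89864 (allL N89864 (tt N85307 F387786) (tt N53837 (iv0 D192789)) (tt N78867 (iv2 F387784)) (tt N70636 (iv3 F387785)) (tt N114797 (iv4 F491923)) (tt N70635 F387782) (tt N61125 F387783) (tt N85306 F387787))
theorem Q89866 : ∀ i, i < 89866 → P i := stepQ 89865 Q89865 (allL N89865 (tt N53837 (iv1 D192790)) (tt N85307 F387788) (tt N85306 (iv2 F387790)) (tt N78870 (iv3 F387791)) (tt N112374 (iv4 F480789)) (tt N90405 F389538) (tt N115388 F494941) (tt N78867 F387789))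
theorem Q89867 : ∀ i, i < 89867 → P i := stepQ 89866 Q89866 (allL N89866 (tt N85306 (iv1 F387795)) (tt N78867 F387796) (tt N85307 F387792) (tt N99815 (iv3 F426358)) (tt N96104 (iv4 F411071)) (tt N84954 F387793) (tt N85303 F387794) (tt N53837 (iv7 D192791)))
theorem Q89868 : ∀ i, i < 89868 → P i := stepQ 89867 Q89867 (allL N89867 (tt N53843 (iv1 F387803)) (tt N53840 (iv0 D192792)) (tt N86242 (iv2 F387800)) (tt N72825 F387799) (tt N89598 F387798) (tt N72824 F387797) (tt N82667 F387801) (tt N86252 F387802))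
theorem Q89869 : ∀ i, i < 89869 → P i := stepQ 89868 Q89868 (allL N89868 (tt N86252 (iv1 F387809)) (tt N86242 F387810) (tt N53843 F387804) (tt N72605 F387805) (tt N53842 F387806) (tt N86374 F387807) (tt N83384 F387808) (tt N53840 (iv7 D192793)))
theorem Q89870 : ∀ i, i < 89870 → P i := stepQ 89869 Q89869 (allL N89869 (tt N77664 F387813) (tt N101359 (iv0 F432773)) (tt N85354 F387811) (tt N107318 (iv3 F457945)) (tt N53841 (iv4 D192794)) (tt N116794 D220053) (tt N95020 (iv6 F406677)) (tt N85352 F387812))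
theorem Q89871 : ∀ i, i < 89871 → P i := stepQ 89870 Q89870 (allL N89870 (tt N109885 (iv1 F469075)) (tt N113447 (iv0 F485532)) (tt N106330 (iv2 F454057)) (tt N110360 (iv3 F471229)) (tt N116664 (iv4 F501204)) (tt N53845 (iv5 D192795)) (tt N106321 (iv6 F454020)) (tt N113463 (iv7 F485603)))
theorem Q89872 : ∀ i, i < 89872 → P i := stepQ 89871 Q89871 (allL N89871 (tt N53846 (iv1 D192796)) (tt N105964 (iv0 F452542)) (tt N97350 (iv2 F416455)) (tt N86706 F416444) (tt N99368 (iv4 F424319)) (tt N97346 (iv5 F416442)) (tt N63466 (iv6 F419640)) (tt N106328 (iv7 F454051)))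
theorem Q89873 : ∀ i, i < 89873 → P i := stepQ 89872 Q89872 (allL N89872 (tt N97350 F416459) (tt N106328 F454050) (tt N105964 (iv2 F452540)) (tt N53850 F387814) (tt N105960 (iv4 F452519)) (tt N83801 F387815) (tt N105801 (iv6 F451790)) (tt N53846 (iv7 D192797)))
theorem Q89874 : ∀ i, i < 89874 → P i := stepQ 89873 Q89873 (allL N89873 (tt N105007 F448341) (tt N70444 (iv0 F387818)) (tt N105800 F451781) (tt N53851 F387816) (tt N116778 (iv4 F501782)) (tt N75068 F387817) (tt N53847 (iv6 D192798)) (tt N105801 (iv7 F451785)))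
theorem Q89875 : ∀ i, i < 89875 → P i := stepQ 89874 Q89874 (allL N89874 (tt N105889 F452201) (tt N83237 F387822) (tt N112030 F479158) (tt N53848 (iv3 D192799)) (tt N80872 (iv4 F387820)) (tt N74464 F387821) (tt N74467 F387823) (tt N76670 F387819))
theorem Q89876 : ∀ i, i < 89876 → P i := stepQ 89875 Q89875 (allL N89875 (tt N85227 F387827) (tt N84827 F387837) (tt N85224 F387824) (tt N54049 F387825) (tt N53848 (iv4 D192800)) (tt N107505 (iv5 F458561)) (tt N116795 D220054) (tt N85225 F387826))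
theorem Q89877 : ∀ i, i < 89877 → P i := stepQ 89876 Q89876 (allL N89876 (tt N104917 (iv1 F447931)) (tt N104914 (iv0 F447918)) (tt N104916 F447926) (tt N74464 F387828) (tt N113836 F487364) (tt N53848 (iv5 D192801)) (tt N74461 (iv6 F387829)) (tt N91205 F392254))
theorem Q89878 : ∀ i, i < 89878 → P i := stepQ 89877 Q89877 (allL N89877 (tt N78852 (iv1 F387832)) (tt N98554 (iv0 F421315)) (tt N98555 F421318) (tt N74467 F387830) (tt N116795 (iv4 F501878)) (tt N74462 F387831) (tt N53848 (iv6 D192802)) (tt N98556 (iv7 F421321)))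
theorem Q89879 : ∀ i, i < 89879 → P i := stepQ 89878 Q89878 (allL N89878 (tt N84827 F387835) (tt N85227 F387836) (tt N85225 F387833) (tt N98254 F420198) (tt N53849 (iv4 D192803)) (tt N116796 D220055) (tt N94819 (iv6 F406061)) (tt N85224 F387834))
theorem Q89880 : ∀ i, i < 89880 → P i := stepQ 89879 Q89879 (allL N89879 (tt N104914 F447919) (tt N104917 F447930) (tt N91205 (iv2 F392252)) (tt N94140 (iv3 F403400)) (tt N111071 (iv4 F474526)) (tt N53849 (iv5 D192804)) (tt N83757 F387838) (tt N104916 (iv7 F447927)))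
theorem Q89881 : ∀ i, i < 89881 → P i := stepQ 89880 Q89880 (allL N89880 (tt N68319 (iv1 F387841)) (tt N93336 (iv0 F400464)) (tt N114347 (iv2 F489744)) (tt N105801 F451786) (tt N73002 F387839) (tt N91041 (iv5 F391720)) (tt N53850 (iv6 D192805)) (tt N53851 F387840))
theorem Q89882 : ∀ i, i < 89882 → P i := stepQ 89881 Q89881 (allL N89881 (tt N114347 (iv1 F489750)) (tt N53851 (iv0 D192806)) (tt N93336 (iv2 F400460)) (tt N68329 F387848) (tt N85206 F387846) (tt N68320 F387845) (tt N111184 F475128) (tt N68319 (iv7 F387847)))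
theorem Q89883 : ∀ i, i < 89883 → P i := stepQ 89882 Q89882 (allL N89882 (tt N53851 (iv1 D192807)) (tt N114347 F489749) (tt N68319 F387854) (tt N75543 F387855) (tt N85207 F387852) (tt N68315 (iv5 F387853)) (tt N116797 D220056) (tt N93336 (iv7 F400463)))
theorem Q89884 : ∀ i, i < 89884 → P i := stepQ 89883 Q89883 (allL N89883 (tt N85575 (iv1 F387860)) (tt N77793 F387861) (tt N66691 F387856) (tt N58541 F387857) (tt N91019 F391599) (tt N58540 F387858) (tt N58541 F387859) (tt N53854 (iv7 D192808)))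
theorem Q89885 : ∀ i, i < 89885 → P i := stepQ 89884 Q89884 (allL N89884 (tt N80652 F387864) (tt N80654 F387865) (tt N80651 F387862) (tt N54953 F387863) (tt N116090 (iv4 F498411)) (tt N53855 (iv5 D192809)) (tt N81153 F392611) (tt N80650 (iv7 F387875)))
theorem Q89886 : ∀ i, i < 89886 → P i := stepQ 89885 Q89885 (allL N89885 (tt N53915 F387868) (tt N114330 (iv0 F489646)) (tt N113496 (iv2 F485769)) (tt N54954 F387866) (tt N83202 F387867) (tt N114184 (iv5 F488883)) (tt N53855 (iv6 D192810)) (tt N91595 (iv7 F393739)))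
theorem Q89887 : ∀ i, i < 89887 → P i := stepQ 89886 Q89886 (allL N89886 (tt N80654 F387872) (tt N80652 F387871) (tt N80650 F387873) (tt N54946 F387869) (tt N95271 (iv4 F407658)) (tt N53856 (iv5 D192811)) (tt N95269 F407651) (tt N80651 F387870))
theorem Q89888 : ∀ i, i < 89888 → P i := stepQ 89887 Q89887 (allL N89887 (tt N91938 (iv1 F395031)) (tt N53857 (iv0 D192812)) (tt N96747 (iv2 F413750)) (tt N54956 F387877) (tt N91930 (iv4 F394998)) (tt N88299 F387878) (tt N96805 (iv6 F414037)) (tt N91952 (iv7 F395104)))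
theorem Q89889 : ∀ i, i < 89889 → P i := stepQ 89888 Q89888 (allL N89888 (tt N53857 (iv1 D192813)) (tt N91938 (iv0 F395033)) (tt N91952 (iv2 F395102)) (tt N54947 (iv3 F387879)) (tt N91929 (iv4 F394990)) (tt N112048 (iv5 F479251)) (tt N111443 (iv6 F476392)) (tt N96747 (iv7 F413753)))
theorem Q89890 : ∀ i, i < 89890 → P i := stepQ 89889 Q89889 (allL N89889 (tt N112327 (iv1 F480579)) (tt N53860 (iv0 D192814)) (tt N54437 (iv2 F387880)) (tt N101751 (iv3 F434178)) (tt N54442 F387881) (tt N112024 (iv5 F479125)) (tt N54441 F387882) (tt N112336 (iv7 F480630)))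
theorem Q89891 : ∀ i, i < 89891 → P i := stepQ 89890 Q89890 (allL N89890 (tt N81921 F392070) (tt N110404 (iv0 F471422)) (tt N113453 (iv2 F485559)) (tt N109960 (iv3 F469381)) (tt N53860 (iv4 D192815)) (tt N91146 F392069) (tt N53865 F387884) (tt N113446 (iv7 F485525)))
theorem Q89892 : ∀ i, i < 89892 → P i := stepQ 89891 Q89891 (allL N89891 (tt N112336 (iv1 F480631)) (tt N54437 (iv0 F387888)) (tt N112327 (iv2 F480574)) (tt N64349 F387885) (tt N113446 (iv4 F485523)) (tt N53861 F387886) (tt N71488 (iv6 F387887)) (tt N53860 (iv7 D192816)))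
theorem Q89893 : ∀ i, i < 89893 → P i := stepQ 89892 Q89892 (allL N89892 (tt N77390 F387890) (tt N110384 F471338) (tt N54590 F387889) (tt N116798 D220057) (tt N53862 (iv4 D192817)) (tt N116799 D220058) (tt N87691 F390898) (tt N110383 (iv7 F471326)))
theorem Q89894 : ∀ i, i < 89894 → P i := stepQ 89893 Q89893 (allL N89893 (tt N91130 F392033) (tt N113385 (iv0 F485298)) (tt N54591 F387891) (tt N110812 (iv3 F473266)) (tt N87691 F390897) (tt N116800 D220059) (tt N53862 (iv6 D192818)) (tt N116251 (iv7 F499221)))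
theorem Q89895 : ∀ i, i < 89895 → P i := stepQ 89894 Q89894 (allL N89894 (tt N80677 F387897) (tt N84037 F387896) (tt N54592 F387892) (tt N84078 F387893) (tt N89249 F387895) (tt N53863 (iv5 D192819)) (tt N116800 (iv6 F501910)) (tt N84035 F387894))
theorem Q89896 : ∀ i, i < 89896 → P i := stepQ 89895 Q89895 (allL N89895 (tt N113922 (iv1 F487799)) (tt N72473 (iv0 F393907)) (tt N54612 F387898) (tt N116106 (iv3 F498489)) (tt N54622 F387899) (tt N91652 (iv5 F393904)) (tt N53864 (iv6 D192820)) (tt N54619 F387900))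
theorem Q89897 : ∀ i, i < 89897 → P i := stepQ 89896 Q89896 (allL N89896 (tt N89351 (iv1 F387908)) (tt N53865 (iv0 D192821)) (tt N89352 (iv2 F387902)) (tt N59232 F387903) (tt N83466 F387901) (tt N59228 F387904) (tt N84374 (iv6 F387907)) (tt N84379 F387905))
theorem Q89898 : ∀ i, i < 89898 → P i := stepQ 89897 Q89897 (allL N89897 (tt N110358 F471218) (tt N113274 (iv0 F485159)) (tt N113340 F485106) (tt N53865 (iv3 D192822)) (tt N109953 F469365) (tt N116801 D220060) (tt N109960 (iv6 F469382)) (tt N113341 (iv7 F485107)))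
theorem Q89899 : ∀ i, i < 89899 → P i := stepQ 89898 Q89898 (allL N89898 (tt N95003 (iv1 F406614)) (tt N107300 (iv0 F457871)) (tt N107301 (iv2 F457872)) (tt N116801 (iv3 F501913)) (tt N112634 (iv4 F481928)) (tt N53865 (iv5 D192823)) (tt N107312 (iv6 F457917)) (tt N96496 F412761))
theorem Q89900 : ∀ i, i < 89900 → P i := stepQ 89899 Q89899 (allL N89899 (tt N84379 (iv1 F387911)) (tt N89352 F387912) (tt N89351 F387909) (tt N113341 F485108) (tt N53866 F387910) (tt N96496 (iv5 F412760)) (tt N116779 F501792) (tt N53865 (iv7 D192824)))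
theorem Q89901 : ∀ i, i < 89901 → P i := stepQ 89900 Q89900 (allL N89900 (tt N98994 (iv1 F422974)) (tt N116112 F498532) (tt N71485 F387913) (tt N83357 F387914) (tt N116779 (iv4 F501790)) (tt N54447 F387915) (tt N53866 (iv6 D192825)) (tt N71488 F387916))
theorem Q89902 : ∀ i, i < 89902 → P i := stepQ 89901 Q89901 (allL N89901 (tt N104978 (iv1 F448237)) (tt N100582 (iv0 F429554)) (tt N79161 F387917) (tt N53872 F387918) (tt N116802 D220061) (tt N53867 (iv5 D192826)) (tt N53868 F387919) (tt N110998 (iv7 F474162)))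
theorem Q89903 : ∀ i, i < 89903 → P i := stepQ 89902 Q89902 (allL N89902 (tt N57540 F387920) (tt N115353 (iv0 F494748)) (tt N116425 (iv2 F500034)) (tt N112368 (iv3 F480769)) (tt N53868 (iv4 D192827)) (tt N116803 D220062) (tt N116802 (iv6 F501915)) (tt N116447 (iv7 F500166)))
theorem Q89904 : ∀ i, i < 89904 → P i := stepQ 89903 Q89903 (allL N89903 (tt N53869 (iv1 D192828)) (tt N58541 F387921) (tt N88177 F387926) (tt N66688 (iv3 F387925)) (tt N54485 F387924) (tt N59880 F387923) (tt N91089 (iv6 F391879)) (tt N80253 F387922))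
theorem Q89905 : ∀ i, i < 89905 → P i := stepQ 89904 Q89904 (allL N89904 (tt N54458 (iv1 F387931)) (tt N54460 (iv0 F387930)) (tt N79008 F387927) (tt N55441 F387928) (tt N83072 F387929) (tt N87375 (iv5 F387932)) (tt N53870 (iv6 D192829)) (tt N91914 (iv7 F394944)))
theorem Q89906 : ∀ i, i < 89906 → P i := stepQ 89905 Q89905 (allL N89905 (tt N79496 F387938) (tt N79507 F387939) (tt N53897 F387935) (tt N101182 F432090) (tt N79483 F387936) (tt N53873 (iv5 D192830)) (tt N99526 (iv6 F424988)) (tt N53899 F387937))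
theorem Q89907 : ∀ i, i < 89907 → P i := stepQ 89906 Q89906 (allL N89906 (tt N53904 (iv1 F387943)) (tt N53874 (iv0 D192831)) (tt N53901 (iv2 F387942)) (tt N64635 F387945) (tt N97624 (iv4 F417650)) (tt N64449 F387940) (tt N78096 F387941) (tt N53902 F387944))
theorem Q89908 : ∀ i, i < 89908 → P i := stepQ 89907 Q89907 (allL N89907 (tt N53916 F387951) (tt N53909 F387949) (tt N53906 F387946) (tt N54911 F387947) (tt N83199 F387950) (tt N53876 (iv5 D192832)) (tt N60301 (iv6 F387955)) (tt N53914 F387948))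
theorem Q89909 : ∀ i, i < 89909 → P i := stepQ 89908 Q89908 (allL N89908 (tt N53906 F387961) (tt N53914 F387963) (tt N53909 F387958) (tt N54998 F387964) (tt N53877 (iv4 D192833)) (tt N88274 F387962) (tt N71046 F387959) (tt N53916 F387960))
theorem Q89910 : ∀ i, i < 89910 → P i := stepQ 89909 Q89909 (allL N89909 (tt N53909 F387968) (tt N53916 F387969) (tt N53914 F387965) (tt N114645 (iv3 F491171)) (tt N83198 F387967) (tt N53878 (iv5 D192834)) (tt N116804 D220063) (tt N53906 F387966))
theorem Q89911 : ∀ i, i < 89911 → P i := stepQ 89910 Q89910 (allL N89910 (tt N91595 F393741) (tt N113496 (iv0 F485773)) (tt N53915 F387971) (tt N54458 F387972) (tt N53880 F387973) (tt N90757 (iv5 F390743)) (tt N53878 (iv6 D192835)) (tt N114330 (iv7 F489645)))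
theorem Q89912 : ∀ i, i < 89912 → P i := stepQ 89911 Q89911 (allL N89911 (tt N53914 F387977) (tt N53906 F387978) (tt N53916 F387974) (tt N59113 F387975) (tt N53879 (iv4 D192836)) (tt N108492 (iv5 F462817)) (tt N116805 D220064) (tt N53909 F387976))
theorem Q89913 : ∀ i, i < 89913 → P i := stepQ 89912 Q89912 (allL N89912 (tt N107284 F457793) (tt N116397 (iv0 F499880)) (tt N53917 F387979) (tt N78172 F387980) (tt N116805 (iv4 F501932)) (tt N113950 (iv5 F487928)) (tt N53879 (iv6 D192837)) (tt N107950 (iv7 F460436)))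
theorem Q89914 : ∀ i, i < 89914 → P i := stepQ 89913 Q89913 (allL N89913 (tt N109453 (iv1 F467036)) (tt N75103 (iv0 F387985)) (tt N62766 F387981) (tt N53885 F387982) (tt N62748 F387983) (tt N113923 (iv5 F487804)) (tt N53884 (iv6 D192838)) (tt N62768 F387984))
theorem Q89915 : ∀ i, i < 89915 → P i := stepQ 89914 Q89914 (allL N89914 (tt N96871 F414366) (tt N90674 (iv0 F411203)) (tt N105035 (iv2 F448488)) (tt N81703 F387986) (tt N72417 (iv4 F387987)) (tt N53886 (iv5 D192839)) (tt N72415 (iv6 F387988)) (tt N115512 (iv7 F495573)))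
theorem Q89916 : ∀ i, i < 89916 → P i := stepQ 89915 Q89915 (allL N89915 (tt N96759 F413818) (tt N96756 (iv0 F413795)) (tt N96757 F413797) (tt N64007 F387989) (tt N84279 F387990) (tt N115367 (iv5 F494832)) (tt N53886 (iv6 D192840)) (tt N96758 (iv7 F413811)))
theorem Q89917 : ∀ i, i < 89917 → P i := stepQ 89916 Q89916 (allL N89916 (tt N90674 F391811) (tt N96871 (iv0 F414365)) (tt N115512 (iv2 F495569)) (tt N102870 (iv3 F439028)) (tt N105038 (iv4 F448506)) (tt N53887 (iv5 D192841)) (tt N108289 (iv6 F461907)) (tt N105035 F448492))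
theorem Q89918 : ∀ i, i < 89918 → P i := stepQ 89917 Q89917 (allL N89917 (tt N66652 F387992) (tt N88038 F408259) (tt N95146 (iv2 F407226)) (tt N111790 (iv3 F477987)) (tt N84277 F387991) (tt N94737 F405761) (tt N53887 (iv6 D192842)) (tt N95141 (iv7 F407210)))
theorem Q89919 : ∀ i, i < 89919 → P i := stepQ 89918 Q89918 (allL N89918 (tt N114006 (iv1 F488169)) (tt N53888 (iv0 D192843)) (tt N115067 (iv2 F493322)) (tt N83158 F393295) (tt N107134 (iv4 F457134)) (tt N102993 (iv5 F439587)) (tt N116806 D220065) (tt N115514 (iv7 F495584)))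
theorem Q89920 : ∀ i, i < 89920 → P i := stepQ 89919 Q89919 (allL N89919 (tt N53888 (iv1 D192844)) (tt N114006 (iv0 F488171)) (tt N115514 (iv2 F495581)) (tt N90369 (iv3 F389438)) (tt N107108 (iv4 F457011)) (tt N115771 (iv5 F496785)) (tt N104867 (iv6 F447709)) (tt N115067 (iv7 F493324)))
theorem Q89921 : ∀ i, i < 89921 → P i := stepQ 89920 Q89920 (allL N89920 (tt N115514 F495586) (tt N115067 (iv0 F493326)) (tt N114006 (iv2 F488165)) (tt N68107 F387993) (tt N113298 (iv4 F484907)) (tt N53889 F387994) (tt N90530 F389984) (tt N53888 (iv7 D192845)))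
theorem Q89922 : ∀ i, i < 89922 → P i := stepQ 89921 Q89921 (allL N89921 (tt N53891 (iv1 F387999)) (tt N53890 (iv0 D192846)) (tt N55289 (iv2 F387998)) (tt N63192 F387997) (tt N76288 F387996) (tt N83219 F387995) (tt N111586 (iv6 F477026)) (tt N55288 F388000))
theorem Q89923 : ∀ i, i < 89923 → P i := stepQ 89922 Q89922 (allL N89922 (tt N78190 F388006) (tt N91418 (iv0 F393052)) (tt N59260 F388001) (tt N55142 F388002) (tt N59259 F388003) (tt N84658 F388004) (tt N53890 (iv6 D192847)) (tt N59256 (iv7 F388005)))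
theorem Q89924 : ∀ i, i < 89924 → P i := stepQ 89923 Q89923 (allL N89923 (tt N80936 F388009) (tt N107241 (iv0 F457607)) (tt N55291 F388007) (tt N97154 (iv3 F415694)) (tt N89582 F388008) (tt N115896 (iv5 F497465)) (tt N53891 (iv6 D192848)) (tt N97143 (iv7 F415653)))
theorem Q89925 : ∀ i, i < 89925 → P i := stepQ 89924 Q89924 (allL N89924 (tt N89209 (iv1 F388013)) (tt N89198 (iv0 F388012)) (tt N90529 F389977) (tt N86966 F388010) (tt N91717 (iv4 F394158)) (tt N89215 F388011) (tt N53894 (iv6 D192849)) (tt N90530 (iv7 F389981)))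
theorem Q89926 : ∀ i, i < 89926 → P i := stepQ 89925 Q89925 (allL N89925 (tt N53899 (iv1 F388016)) (tt N53897 (iv0 D192850)) (tt N79496 (iv2 F388017)) (tt N90539 (iv3 F390008)) (tt N64098 F388015) (tt N79484 F388014) (tt N96235 (iv6 F411641)) (tt N79507 (iv7 F388018)))
theorem Q89927 : ∀ i, i < 89927 → P i := stepQ 89926 Q89926 (allL N89926 (tt N53897 (iv1 D192851)) (tt N53899 F388019) (tt N79507 (iv2 F388024)) (tt N53942 (iv3 F388023)) (tt N79486 F388022) (tt N64093 F388021) (tt N116397 (iv6 F499878)) (tt N79496 F388020))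
theorem Q89928 : ∀ i, i < 89928 → P i := stepQ 89927 Q89927 (allL N89927 (tt N101169 (iv1 F432029)) (tt N101171 (iv0 F432038)) (tt N100849 (iv2 F430762)) (tt N53899 F388026) (tt N108713 (iv4 F463658)) (tt N53898 (iv5 D192852)) (tt N107208 (iv6 F457463)) (tt N101182 (iv7 F432089)))
theorem Q89929 : ∀ i, i < 89929 → P i := stepQ 89928 Q89928 (allL N89928 (tt N100615 (iv1 F429712)) (tt N100614 F429721) (tt N100617 (iv2 F429716)) (tt N53900 F388027) (tt N76535 F388028) (tt N101164 (iv5 F432009)) (tt N53898 (iv6 D192853)) (tt N100610 (iv7 F429697)))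
theorem Q89930 : ∀ i, i < 89930 → P i := stepQ 89929 Q89929 (allL N89929 (tt N96218 F411557) (tt N91652 (iv0 F393906)) (tt N96204 F411481) (tt N107208 (iv3 F457462)) (tt N111109 (iv4 F474712)) (tt N116807 D220066) (tt N53899 (iv6 D192854)) (tt N96223 (iv7 F411577)))
theorem Q89931 : ∀ i, i < 89931 → P i := stepQ 89930 Q89930 (allL N89930 (tt N100565 (iv1 F429487)) (tt N53900 (iv0 D192855)) (tt N112024 F479129) (tt N53949 F388029) (tt N112115 (iv4 F479556)) (tt N54437 F388030) (tt N111103 F474684) (tt N84161 (iv7 F388031)))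
theorem Q89932 : ∀ i, i < 89932 → P i := stepQ 89931 Q89931 (allL N89931 (tt N81379 F388033) (tt N86785 F388032) (tt N90603 F390222) (tt N101164 (iv3 F432010)) (tt N54816 (iv4 F388034)) (tt N53900 (iv5 D192856)) (tt N116807 (iv6 F501943)) (tt N90604 (iv7 F390229)))
theorem Q89933 : ∀ i, i < 89933 → P i := stepQ 89932 Q89932 (allL N89932 (tt N84161 (iv1 F388035)) (tt N112024 F479130) (tt N100565 (iv2 F429481)) (tt N100610 (iv3 F429695)) (tt N104812 (iv4 F447416)) (tt N90604 F390231) (tt N100564 (iv6 F429480)) (tt N53900 (iv7 D192857)))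
theorem Q89934 : ∀ i, i < 89934 → P i := stepQ 89933 Q89933 (allL N89933 (tt N64654 (iv1 F388039)) (tt N64653 F388040) (tt N64656 F388036) (tt N53902 (iv3 D192858)) (tt N92435 (iv4 F396999)) (tt N64636 F388037) (tt N92434 F396997) (tt N64635 F388038))
theorem Q89935 : ∀ i, i < 89935 → P i := stepQ 89934 Q89934 (allL N89934 (tt N107109 (iv1 F457015)) (tt N106037 (iv0 F452835)) (tt N99425 (iv2 F424515)) (tt N92434 (iv3 F396996)) (tt N59578 F388041) (tt N105518 (iv5 F450548)) (tt N53902 (iv6 D192859)) (tt N106098 (iv7 F453103)))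
theorem Q89936 : ∀ i, i < 89936 → P i := stepQ 89935 Q89935 (allL N89935 (tt N97040 (iv1 F415162)) (tt N56968 (iv0 F388047)) (tt N74624 F388042) (tt N53903 (iv3 D192860)) (tt N53957 F388043) (tt N79563 F388044) (tt N53924 F388045) (tt N74056 F388046))
theorem Q89937 : ∀ i, i < 89937 → P i := stepQ 89936 Q89936 (allL N89936 (tt N76288 F388052) (tt N55342 F388053) (tt N83199 F388048) (tt N107174 (iv3 F457336)) (tt N53906 (iv4 D192861)) (tt N82892 F388049) (tt N60303 F388050) (tt N83198 F388051))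
theorem Q89938 : ∀ i, i < 89938 → P i := stepQ 89937 Q89937 (allL N89937 (tt N88153 F388056) (tt N115262 F494264) (tt N87880 F388054) (tt N112434 (iv3 F481088)) (tt N115176 (iv4 F493867)) (tt N53907 (iv5 D192862)) (tt N60304 F388055) (tt N114705 (iv7 F491437)))
theorem Q89939 : ∀ i, i < 89939 → P i := stepQ 89938 Q89938 (allL N89938 (tt N116357 (iv1 F499697)) (tt N114080 (iv0 F488498)) (tt N102733 (iv2 F438402)) (tt N76052 F388057) (tt N53912 (iv4 D192863)) (tt N109582 (iv5 F467597)) (tt N116808 D220067) (tt N109688 (iv7 F468115)))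
theorem Q89940 : ∀ i, i < 89940 → P i := stepQ 89939 Q89939 (allL N89939 (tt N108030 (iv1 F460810)) (tt N101184 (iv0 F432093)) (tt N108032 (iv2 F460815)) (tt N53917 F388058) (tt N116808 (iv4 F501948)) (tt N116809 D220068) (tt N53912 (iv6 D192864)) (tt N108029 (iv7 F460809)))
theorem Q89941 : ∀ i, i < 89941 → P i := stepQ 89940 Q89940 (allL N89940 (tt N90889 F391183) (tt N53913 (iv0 D192865)) (tt N91766 (iv2 F394348)) (tt N111276 (iv3 F475589)) (tt N84685 F388059) (tt N116168 (iv5 F498842)) (tt N84683 (iv6 F388060)) (tt N91289 (iv7 F392573)))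
theorem Q89942 : ∀ i, i < 89942 → P i := stepQ 89941 Q89941 (allL N89941 (tt N115974 (iv1 F497859)) (tt N113597 (iv0 F486226)) (tt N113996 (iv2 F488113)) (tt N53918 F388061) (tt N116160 (iv4 F498802)) (tt N53913 (iv5 D192867)) (tt N116809 (iv6 F501953)) (tt N113951 (iv7 F487933)))
theorem Q89943 : ∀ i, i < 89943 → P i := stepQ 89942 Q89942 (allL N89942 (tt N91289 (iv1 F392575)) (tt N91766 F394353) (tt N90889 (iv2 F391178)) (tt N53919 F388062) (tt N91918 (iv4 F394955)) (tt N113951 (iv5 F487931)) (tt N112873 (iv6 F483079)) (tt N53913 (iv7 D192868)))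
theorem Q89944 : ∀ i, i < 89944 → P i := stepQ 89943 Q89943 (allL N89943 (tt N111109 F474716) (tt N97126 (iv0 F415574)) (tt N116804 (iv2 F501923)) (tt N91463 (iv3 F393240)) (tt N116624 (iv4 F501031)) (tt N116810 D220069) (tt N53914 (iv6 D192869)) (tt N60300 F388063))
theorem Q89945 : ∀ i, i < 89945 → P i := stepQ 89944 Q89944 (allL N89944 (tt N114330 (iv1 F489647)) (tt N53915 (iv0 D192870)) (tt N91595 (iv2 F393735)) (tt N55388 (iv3 F388067)) (tt N83201 F388064) (tt N115802 (iv5 F496968)) (tt N81658 (iv6 F388066)) (tt N113496 (iv7 F485772)))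
theorem Q89946 : ∀ i, i < 89946 → P i := stepQ 89945 Q89945 (allL N89945 (tt N88108 F388070) (tt N79310 F388071) (tt N90757 (iv2 F390742)) (tt N84585 F388068) (tt N89258 F388069) (tt N53915 (iv5 D192871)) (tt N116810 (iv6 F501957)) (tt N111455 (iv7 F476433)))
theorem Q89947 : ∀ i, i < 89947 → P i := stepQ 89946 Q89946 (allL N89946 (tt N113496 (iv1 F485774)) (tt N91595 (iv0 F393740)) (tt N114330 (iv2 F489641)) (tt N55363 F388073) (tt N53919 F388074) (tt N111455 (iv5 F476434)) (tt N82817 F388075) (tt N53915 (iv7 D192872)))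
theorem Q89948 : ∀ i, i < 89948 → P i := stepQ 89947 Q89947 (allL N89947 (tt N116461 F500256) (tt N116811 D220070) (tt N116805 (iv2 F501930)) (tt N106116 (iv3 F453193)) (tt N53917 F388076) (tt N115632 (iv5 F496063)) (tt N53916 (iv6 D192873)) (tt N106112 (iv7 F453177)))
theorem Q89949 : ∀ i, i < 89949 → P i := stepQ 89948 Q89948 (allL N89948 (tt N53917 (iv1 D192875)) (tt N107950 F460438) (tt N116397 (iv2 F499875)) (tt N116170 (iv3 F498849)) (tt N79508 F388078) (tt N116134 (iv5 F498662)) (tt N79507 (iv6 F388077)) (tt N107284 (iv7 F457792)))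
theorem Q89950 : ∀ i, i < 89950 → P i := stepQ 89949 Q89949 (allL N89949 (tt N116703 (iv1 F501395)) (tt N116167 F498840) (tt N113950 (iv2 F487925)) (tt N116809 (iv3 F501951)) (tt N84438 F388081) (tt N53917 (iv5 D192876)) (tt N53918 F388079) (tt N84434 (iv7 F388080)))
theorem Q89951 : ∀ i, i < 89951 → P i := stepQ 89950 Q89950 (allL N89950 (tt N116397 F499881) (tt N107284 (iv0 F457794)) (tt N107950 (iv2 F460434)) (tt N108029 (iv3 F460807)) (tt N106112 (iv4 F453176)) (tt N84434 F388082) (tt N106111 F453174) (tt N53917 (iv7 D192877)))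
theorem Q89952 : ∀ i, i < 89952 → P i := stepQ 89951 Q89951 (allL N89951 (tt N84423 F388087) (tt N84422 F388088) (tt N84424 F388083) (tt N116812 D220071) (tt N53918 (iv4 D192878)) (tt N84410 F388086) (tt N84438 F388084) (tt N83700 F388085))
theorem Q89953 : ∀ i, i < 89953 → P i := stepQ 89952 Q89952 (allL N89952 (tt N53920 (iv1 D192879)) (tt N89235 F388089) (tt N90499 F389838) (tt N53963 (iv3 F388092)) (tt N89198 F388091) (tt N89205 F388090) (tt N107319 (iv6 F457946)) (tt N90498 F389833))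
theorem Q89954 : ∀ i, i < 89954 → P i := stepQ 89953 Q89953 (allL N89953 (tt N83167 F388095) (tt N83183 F388096) (tt N83180 F388093) (tt N91285 (iv3 F392550)) (tt N53921 (iv4 D192880)) (tt N108776 (iv5 F463877)) (tt N108716 F463670) (tt N83179 F388094))
theorem Q89955 : ∀ i, i < 89955 → P i := stepQ 89954 Q89954 (allL N89954 (tt N107135 (iv1 F457144)) (tt N107112 (iv0 F457035)) (tt N96191 (iv2 F411415)) (tt N53923 F388097) (tt N108716 (iv4 F463668)) (tt N114710 (iv5 F491468)) (tt N53921 (iv6 D192881)) (tt N107136 (iv7 F457146)))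
theorem Q89956 : ∀ i, i < 89956 → P i := stepQ 89955 Q89955 (allL N89955 (tt N53923 (iv1 D192883)) (tt N90600 F390213) (tt N107108 (iv2 F457009)) (tt N106775 F455629) (tt N115514 (iv4 F495582)) (tt N116813 D220072) (tt N78094 (iv6 F411540)) (tt N107134 (iv7 F457137)))
theorem Q89957 : ∀ i, i < 89957 → P i := stepQ 89956 Q89956 (allL N89956 (tt N107108 F457013) (tt N107134 F457136) (tt N90600 (iv2 F390207)) (tt N107136 (iv3 F457145)) (tt N84274 F388098) (tt N114712 (iv5 F491478)) (tt N89235 F388099) (tt N53923 (iv7 D192884)))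
theorem Q89958 : ∀ i, i < 89958 → P i := stepQ 89957 Q89957 (allL N89957 (tt N87462 F388105) (tt N87464 (iv0 F388106)) (tt N77547 F388100) (tt N61346 F388101) (tt N63721 F388102) (tt N63034 F388103) (tt N53928 (iv6 D192885)) (tt N77557 F388104))
theorem Q89959 : ∀ i, i < 89959 → P i := stepQ 89958 Q89958 (allL N89958 (tt N109699 (iv1 F468177)) (tt N109762 F468498) (tt N109760 (iv2 F468491)) (tt N105335 F449759) (tt N112897 (iv4 F483185)) (tt N53930 (iv5 D192886)) (tt N116814 D220073) (tt N109759 F468483))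
theorem Q89960 : ∀ i, i < 89960 → P i := stepQ 89959 Q89959 (allL N89959 (tt N100592 (iv1 F429601)) (tt N53932 (iv0 D192887)) (tt N110321 (iv2 F471033)) (tt N101185 (iv3 F432095)) (tt N100969 (iv4 F431107)) (tt N76463 F388107) (tt N116815 D220074) (tt N89165 (iv7 F388108)))
theorem Q89961 : ∀ i, i < 89961 → P i := stepQ 89960 Q89960 (allL N89960 (tt N53932 (iv1 D192888)) (tt N100592 (iv0 F429600)) (tt N89165 (iv2 F388110)) (tt N112942 (iv3 F483325)) (tt N100968 (iv4 F431103)) (tt N76464 F388109) (tt N116816 D220075) (tt N110321 (iv7 F471035)))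
theorem Q89962 : ∀ i, i < 89962 → P i := stepQ 89961 Q89961 (allL N89961 (tt N116817 D220076) (tt N116818 D220077) (tt N112882 (iv2 F483126)) (tt N116819 D220078) (tt N53932 (iv4 D192889)) (tt N90863 (iv5 F391076)) (tt N83689 F388111) (tt N116820 D220079))
theorem Q89963 : ∀ i, i < 89963 → P i := stepQ 89962 Q89962 (allL N89962 (tt N89165 (iv1 F388114)) (tt N110321 (iv0 F471036)) (tt N100592 (iv2 F429596)) (tt N53940 F388112) (tt N116820 (iv4 F502000)) (tt N53933 F388113) (tt N100191 (iv6 F427930)) (tt N53932 (iv7 D192890)))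
theorem Q89964 : ∀ i, i < 89964 → P i := stepQ 89963 Q89963 (allL N89963 (tt N88918 F388117) (tt N92838 F398451) (tt N84162 F388115) (tt N109555 (iv3 F467497)) (tt N53934 (iv4 D192891)) (tt N109554 (iv5 F467494)) (tt N116821 D220080) (tt N84164 F388116))
theorem Q89965 : ∀ i, i < 89965 → P i := stepQ 89964 Q89964 (allL N89964 (tt N90732 F390681) (tt N90820 (iv0 F390973)) (tt N84163 F388118) (tt N100066 (iv3 F427411)) (tt N116821 (iv4 F502005)) (tt N54442 F388119) (tt N53934 (iv6 D192892)) (tt N116822 D220081))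
theorem Q89966 : ∀ i, i < 89966 → P i := stepQ 89965 Q89965 (allL N89965 (tt N92838 (iv1 F398450)) (tt N88918 F388125) (tt N84164 F388120) (tt N86386 F388121) (tt N53936 (iv4 D192893)) (tt N84488 F388124) (tt N86388 F388122) (tt N84162 F388123))
theorem Q89967 : ∀ i, i < 89967 → P i := stepQ 89966 Q89966 (allL N89966 (tt N116823 D220082) (tt N114735 (iv0 F491589)) (tt N99940 (iv2 F426896)) (tt N53939 (iv3 D192894)) (tt N116819 (iv4 F501998)) (tt N99823 (iv5 F426399)) (tt N83696 F388127) (tt N99937 (iv7 F426892)))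
theorem Q89968 : ∀ i, i < 89968 → P i := stepQ 89967 Q89967 (allL N89967 (tt N98188 F419905) (tt N84715 (iv0 F388131)) (tt N84174 F388128) (tt N99823 (iv3 F426398)) (tt N84489 F388130) (tt N53939 (iv5 D192895)) (tt N64668 F388129) (tt N99936 (iv7 F426888)))
theorem Q89969 : ∀ i, i < 89969 → P i := stepQ 89968 Q89968 (allL N89968 (tt N84172 (iv1 F388134)) (tt N84171 F388135) (tt N84159 F388132) (tt N99937 (iv3 F426891)) (tt N53940 F388133) (tt N99936 F426889) (tt N116824 D220083) (tt N53939 (iv7 D192896)))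
theorem Q89970 : ∀ i, i < 89970 → P i := stepQ 89969 Q89969 (allL N89969 (tt N84280 (iv1 F388139)) (tt N84173 (iv0 F388140)) (tt N84158 F388136) (tt N100191 (iv3 F427929)) (tt N116824 (iv4 F502021)) (tt N83846 F388137) (tt N53940 (iv6 D192897)) (tt N83697 F388138))
theorem Q89971 : ∀ i, i < 89971 → P i := stepQ 89970 Q89970 (allL N89970 (tt N90262 F423735) (tt N116825 D220084) (tt N90301 (iv2 F389276)) (tt N53943 (iv3 D192898)) (tt N55375 F388141) (tt N116615 (iv5 F500983)) (tt N55374 F388142) (tt N116414 (iv7 F499979)))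
theorem Q89972 : ∀ i, i < 89972 → P i := stepQ 89971 Q89971 (allL N89971 (tt N85928 (iv1 F388146)) (tt N85930 F388147) (tt N86336 F388143) (tt N54767 F388144) (tt N90299 (iv4 F389269)) (tt N90456 (iv5 F389710)) (tt N86250 F388145) (tt N53944 (iv7 D192899)))
theorem Q89973 : ∀ i, i < 89973 → P i := stepQ 89972 Q89972 (allL N89972 (tt N81275 (iv1 F388154)) (tt N74633 (iv0 F388153)) (tt N111533 (iv2 F476782)) (tt N53947 (iv3 D192900)) (tt N80306 F388148) (tt N90541 (iv5 F390020)) (tt N116826 D220085) (tt N111532 (iv7 F476779)))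
theorem Q89974 : ∀ i, i < 89974 → P i := stepQ 89973 Q89973 (allL N89973 (tt N57745 (iv1 F388157)) (tt N86153 (iv0 F388156)) (tt N116415 (iv2 F499981)) (tt N116826 (iv3 F502029)) (tt N53948 F388155) (tt N95164 (iv5 F407278)) (tt N53947 (iv6 D192901)) (tt N108101 (iv7 F461105)))
theorem Q89975 : ∀ i, i < 89975 → P i := stepQ 89974 Q89974 (allL N89974 (tt N53952 (iv1 D192902)) (tt N84242 F388158) (tt N113941 (iv2 F487886)) (tt N78095 F411611) (tt N116796 (iv4 F501884)) (tt N96229 (iv5 F411610)) (tt N115072 (iv6 F493345)) (tt N107107 (iv7 F457004)))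
theorem Q89976 : ∀ i, i < 89976 → P i := stepQ 89975 Q89975 (allL N89975 (tt N113941 (iv1 F487889)) (tt N107107 (iv0 F457005)) (tt N84242 F388159) (tt N109727 (iv3 F468307)) (tt N57728 F388160) (tt N83865 F388161) (tt N97704 F417985) (tt N53952 (iv7 D192903)))
theorem Q89977 : ∀ i, i < 89977 → P i := stepQ 89976 Q89976 (allL N89976 (tt N55340 F388167) (tt N77326 F388168) (tt N77327 F388163) (tt N75840 F388164) (tt N53953 (iv4 D192904)) (tt N66968 F388165) (tt N116827 D220086) (tt N64689 F388166))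
theorem Q89978 : ∀ i, i < 89978 → P i := stepQ 89977 Q89977 (allL N89977 (tt N77409 F388172) (tt N82789 (iv0 F388173)) (tt N77328 F388169) (tt N53954 F388170) (tt N116827 (iv4 F502036)) (tt N77306 F388171) (tt N53953 (iv6 D192905)) (tt N105102 (iv7 F448801)))
theorem Q89979 : ∀ i, i < 89979 → P i := stepQ 89978 Q89978 (allL N89978 (tt N97704 (iv1 F417983)) (tt N53954 (iv0 D192906)) (tt N106749 (iv2 F455526)) (tt N107109 F457016) (tt N93735 F417952) (tt N82776 F388174) (tt N90809 F390938) (tt N106741 (iv7 F455498)))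
theorem Q89980 : ∀ i, i < 89980 → P i := stepQ 89979 Q89979 (allL N89979 (tt N106741 F455501) (tt N106749 F455529) (tt N97704 (iv2 F417980)) (tt N105102 (iv3 F448798)) (tt N94594 (iv4 F405109)) (tt N97700 (iv5 F417961)) (tt N84242 F388175) (tt N53954 (iv7 D192907)))
theorem Q89981 : ∀ i, i < 89981 → P i := stepQ 89980 Q89980 (allL N89980 (tt N116828 D220087) (tt N73057 (iv0 F388177)) (tt N105434 (iv2 F450251)) (tt N53955 (iv3 D192908)) (tt N116829 D220088) (tt N106767 F455596) (tt N94252 F403841) (tt N89474 F388176))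
theorem Q89982 : ∀ i, i < 89982 → P i := stepQ 89981 Q89981 (allL N89981 (tt N74620 F388180) (tt N56969 F388181) (tt N74619 F388178) (tt N106767 (iv3 F455595)) (tt N110137 (iv4 F470133)) (tt N53955 (iv5 D192909)) (tt N85090 F388189) (tt N74581 F388179))
theorem Q89983 : ∀ i, i < 89983 → P i := stepQ 89982 Q89982 (allL N89982 (tt N107505 F458566) (tt N116796 (iv0 F501886)) (tt N89470 F388186) (tt N94252 (iv3 F403837)) (tt N59213 F388187) (tt N85091 F388188) (tt N53955 (iv6 D192910)) (tt N96259 (iv7 F411777)))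
theorem Q89984 : ∀ i, i < 89984 → P i := stepQ 89983 Q89983 (allL N89983 (tt N116830 D220089) (tt N108982 (iv0 F464763)) (tt N116831 D220090) (tt N53956 (iv3 D192911)) (tt N116832 D220091) (tt N116833 D220092) (tt N116834 D220093) (tt N89469 F388190))
theorem Q89985 : ∀ i, i < 89985 → P i := stepQ 89984 Q89984 (allL N89984 (tt N56969 F388193) (tt N74620 F388194) (tt N74581 F388191) (tt N116833 (iv3 F502072)) (tt N112176 (iv4 F479906)) (tt N53956 (iv5 D192912)) (tt N56908 (iv6 F388195)) (tt N74619 F388192))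
theorem Q89986 : ∀ i, i < 89986 → P i := stepQ 89985 Q89985 (allL N89985 (tt N93735 F417953) (tt N106748 (iv0 F455525)) (tt N89475 F388196) (tt N116834 (iv3 F502079)) (tt N88656 F388197) (tt N57137 F388198) (tt N53956 (iv6 D192913)) (tt N116835 D220094))
theorem Q89987 : ∀ i, i < 89987 → P i := stepQ 89986 Q89986 (allL N89986 (tt N66040 (iv1 F388205)) (tt N57157 F388204) (tt N74625 F388199) (tt N53958 F388200) (tt N56839 F388203) (tt N53957 (iv5 D192914)) (tt N56838 F388201) (tt N57063 F388202))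
theorem Q89988 : ∀ i, i < 89988 → P i := stepQ 89987 Q89987 (allL N89987 (tt N112181 (iv1 F479933)) (tt N53958 (iv0 D192915)) (tt N89441 (iv2 F388207)) (tt N116836 D220095) (tt N112173 (iv4 F479889)) (tt N89001 F388206) (tt N112209 F480067) (tt N89463 (iv7 F388208)))
theorem Q89989 : ∀ i, i < 89989 → P i := stepQ 89988 Q89988 (allL N89988 (tt N53958 (iv1 D192916)) (tt N112181 (iv0 F479932)) (tt N89463 (iv2 F388211)) (tt N112630 (iv3 F481909)) (tt N112171 (iv4 F479879)) (tt N89008 F388210) (tt N57145 F390081) (tt N89441 F388209))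
theorem Q89990 : ∀ i, i < 89990 → P i := stepQ 89989 Q89989 (allL N89989 (tt N93616 (iv1 F401291)) (tt N90553 (iv0 F390072)) (tt N108925 F464513) (tt N73075 F388212) (tt N53958 (iv4 D192917)) (tt N93814 F402027) (tt N94519 (iv6 F404808)) (tt N73551 (iv7 F388213)))
theorem Q89991 : ∀ i, i < 89991 → P i := stepQ 89990 Q89990 (allL N89990 (tt N89463 (iv1 F388217)) (tt N89441 F388218) (tt N112181 (iv2 F479927)) (tt N57063 F388214) (tt N73551 F388215) (tt N53959 F388216) (tt N57061 (iv6 F388221)) (tt N53958 (iv7 D192918)))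
theorem Q89992 : ∀ i, i < 89992 → P i := stepQ 89991 Q89991 (allL N89991 (tt N72447 (iv1 F388226)) (tt N72443 (iv0 F388227)) (tt N72926 F388222) (tt N73110 F388223) (tt N53960 F388224) (tt N90164 (iv5 F388743)) (tt N53959 (iv6 D192919)) (tt N53973 F388225))
theorem Q89993 : ∀ i, i < 89993 → P i := stepQ 89992 Q89992 (allL N89992 (tt N83281 (iv1 F388230)) (tt N53961 (iv0 D192920)) (tt N91048 (iv2 F391755)) (tt N89267 F388229) (tt N89119 F388228) (tt N116693 (iv5 F501331)) (tt N99390 (iv6 F424388)) (tt N89118 (iv7 F388231)))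
theorem Q89994 : ∀ i, i < 89994 → P i := stepQ 89993 Q89993 (allL N89993 (tt N53961 (iv1 D192921)) (tt N83281 F388232) (tt N89118 F388234) (tt N71533 (iv3 F388235)) (tt N88380 (iv4 F388233)) (tt N116694 (iv5 F501339)) (tt N101108 (iv6 F431708)) (tt N91048 (iv7 F391753)))
theorem Q89995 : ∀ i, i < 89995 → P i := stepQ 89994 Q89994 (allL N89994 (tt N116837 D220096) (tt N116838 D220097) (tt N116430 (iv2 F500063)) (tt N77175 F388236) (tt N113324 (iv4 F485029)) (tt N53961 (iv5 D192922)) (tt N77173 (iv6 F388238)) (tt N89646 F388237))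
theorem Q89996 : ∀ i, i < 89996 → P i := stepQ 89995 Q89995 (allL N89995 (tt N73905 (iv1 F388244)) (tt N65021 F388245) (tt N88847 F388239) (tt N77176 F388240) (tt N53962 F388241) (tt N65013 F388242) (tt N53961 (iv6 D192923)) (tt N81865 F388243))
theorem Q89997 : ∀ i, i < 89997 → P i := stepQ 89996 Q89996 (allL N89996 (tt N88846 (iv1 F388251)) (tt N53962 (iv0 D192924)) (tt N107034 (iv2 F456724)) (tt N107501 (iv3 F462700)) (tt N99907 (iv4 F426764)) (tt N95526 F408493) (tt N99906 F426762) (tt N100258 (iv7 F428153)))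
theorem Q89998 : ∀ i, i < 89998 → P i := stepQ 89997 Q89997 (allL N89997 (tt N53962 (iv1 D192925)) (tt N88846 F388246) (tt N100258 (iv2 F428152)) (tt N77682 F408897) (tt N108399 (iv4 F462417)) (tt N95614 (iv5 F408896)) (tt N107616 (iv6 F458955)) (tt N107034 (iv7 F456729)))
theorem Q89999 : ∀ i, i < 89999 → P i := stepQ 89998 Q89998 (allL N89998 (tt N100258 (iv1 F431061)) (tt N107034 F456728) (tt N88846 F388247) (tt N53964 F388248) (tt N81865 F388249) (tt N107266 (iv5 F457708)) (tt N85014 F388250) (tt N53962 (iv7 D192926)))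
theorem Q90000 : ∀ i, i < 90000 → P i := stepQ 89999 Q89999 (allL N89999 (tt N53966 F391231) (tt N89554 F391232) (tt N89552 (iv2 F390037)) (tt N90278 (iv3 F389197)) (tt N53963 (iv4 D192927)) (tt N93339 (iv5 F400466)) (tt N112625 (iv6 F481891)) (tt N89551 F390047))
theorem Q90001 : ∀ i, i < 90001 → P i := stepQ 90000 Q90000 (allL N90000 (tt N90843 (iv1 F391033)) (tt N90844 (iv0 F391037)) (tt N106755 (iv2 F455553)) (tt N107319 F457948) (tt N112625 (iv4 F481889)) (tt N85480 F388252) (tt N53963 (iv6 D192928)) (tt N90809 (iv7 F390937)))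
theorem Q90002 : ∀ i, i < 90002 → P i := stepQ 90001 Q90001 (allL N90001 (tt N89567 (iv1 F388253)) (tt N53965 (iv0 D192929)) (tt N57969 (iv2 F388258)) (tt N90385 F389472) (tt N110084 F469912) (tt N114992 (iv5 F492956)) (tt N57968 F388262) (tt N89566 (iv7 F388260)))
theorem Q90003 : ∀ i, i < 90003 → P i := stepQ 90002 Q90002 (allL N90002 (tt N53965 (iv1 D192930)) (tt N89567 F388261) (tt N89566 F388259) (tt N57971 (iv3 F388254)) (tt N74357 F388255) (tt N114993 (iv5 F492964)) (tt N73057 F388256) (tt N57969 F388257))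
theorem Q90004 : ∀ i, i < 90004 → P i := stepQ 90003 Q90003 (allL N90003 (tt N57969 (iv1 F388267)) (tt N89566 F388266) (tt N53965 (iv2 D192931)) (tt N89549 F388263) (tt N116839 D220098) (tt N89633 F388264) (tt N116840 D220099) (tt N89567 F388265))
theorem Q90005 : ∀ i, i < 90005 → P i := stepQ 90004 Q90004 (allL N90004 (tt N116841 D220100) (tt N116842 D220101) (tt N116839 (iv2 F502107)) (tt N89016 F388268) (tt N53965 (iv4 D192932)) (tt N116843 D220102) (tt N74717 (iv6 F409571)) (tt N89560 F388269))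
theorem Q90006 : ∀ i, i < 90006 → P i := stepQ 90005 Q90005 (allL N90005 (tt N90275 F389193) (tt N107675 (iv0 F459185)) (tt N116840 (iv2 F502114)) (tt N53966 F388270) (tt N74717 F409570) (tt N79614 (iv5 F409569)) (tt N53965 (iv6 D192933)) (tt N116844 D220103))
theorem Q90007 : ∀ i, i < 90007 → P i := stepQ 90006 Q90006 (allL N90006 (tt N106754 F455551) (tt N116845 D220104) (tt N89553 F388272) (tt N79614 F409568) (tt N116846 D220105) (tt N53966 (iv5 D192936)) (tt N89628 F388273) (tt N116847 D220106))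
theorem Q90008 : ∀ i, i < 90008 → P i := stepQ 90007 Q90007 (allL N90007 (tt N89552 (iv1 F388278)) (tt N89551 F388279) (tt N89554 F388274) (tt N116844 (iv3 F502136)) (tt N89020 F388275) (tt N116847 (iv5 F502152)) (tt N89572 F388276) (tt N53966 (iv7 D192937)))
theorem Q90009 : ∀ i, i < 90009 → P i := stepQ 90008 Q90008 (allL N90008 (tt N89549 (iv1 F388281)) (tt N53967 (iv0 D192938)) (tt N77037 (iv2 F388280)) (tt N103081 (iv3 F439989)) (tt N98959 F422860) (tt N96545 (iv5 F412929)) (tt N116830 F502057) (tt N89548 F388282))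
theorem Q90010 : ∀ i, i < 90010 → P i := stepQ 90009 Q90009 (allL N90009 (tt N77037 (iv1 F388287)) (tt N89548 F388286) (tt N53967 (iv2 D192939)) (tt N89567 F388284) (tt N109988 (iv4 F469474)) (tt N110040 (iv5 F469676)) (tt N116848 D220107) (tt N89549 F388285))
theorem Q90011 : ∀ i, i < 90011 → P i := stepQ 90010 Q90010 (allL N90010 (tt N116849 D220108) (tt N109834 (iv0 F468834)) (tt N109988 (iv2 F469473)) (tt N89022 F388288) (tt N53967 (iv4 D192940)) (tt N116850 D220109) (tt N116851 D220110) (tt N89542 F388289))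
theorem Q90012 : ∀ i, i < 90012 → P i := stepQ 90011 Q90011 (allL N90011 (tt N94992 F409193) (tt N101604 (iv0 F469674)) (tt N116848 (iv2 F502155)) (tt N53968 F388290) (tt N116851 (iv4 F502170)) (tt N116852 D220111) (tt N53967 (iv6 D192941)) (tt N116853 D220112))
theorem Q90013 : ∀ i, i < 90013 → P i := stepQ 90012 Q90012 (allL N90012 (tt N115104 (iv1 F493500)) (tt N115107 (iv0 F493512)) (tt N89571 F388291) (tt N116852 (iv3 F502173)) (tt N116854 D220113) (tt N53968 (iv5 D192942)) (tt N115012 (iv6 F493046)) (tt N116855 D220114))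
theorem Q90014 : ∀ i, i < 90014 → P i := stepQ 90013 Q90013 (allL N90013 (tt N89570 (iv1 F388295)) (tt N89569 F388296) (tt N89572 F388292) (tt N116853 (iv3 F502177)) (tt N89025 F388293) (tt N116855 (iv5 F502188)) (tt N89554 F388294) (tt N53968 (iv7 D192943)))
theorem Q90015 : ∀ i, i < 90015 → P i := stepQ 90014 Q90014 (allL N90014 (tt N53972 (iv1 F388300)) (tt N53971 F388299) (tt N53969 (iv2 D192944)) (tt N90284 (iv3 F389225)) (tt N85265 F388297) (tt N110500 (iv5 F471863)) (tt N90281 (iv6 F389205)) (tt N53970 F388298))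
theorem Q90016 : ∀ i, i < 90016 → P i := stepQ 90015 Q90015 (allL N90015 (tt N90279 (iv1 F389210)) (tt N90278 F389208) (tt N90281 F389206) (tt N90283 (iv3 F389218)) (tt N90593 (iv4 F390192)) (tt N90281 F389209) (tt N53969 (iv6 D192945)) (tt N90280 (iv7 F389207)))
theorem Q90017 : ∀ i, i < 90017 → P i := stepQ 90016 Q90016 (allL N90016 (tt N62226 F388307) (tt N73111 F388306) (tt N72923 F388301) (tt N53973 F388302) (tt N62614 F388303) (tt N61189 (iv5 F388305)) (tt N53972 (iv6 D192946)) (tt N73110 F388304))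
theorem Q90018 : ∀ i, i < 90018 → P i := stepQ 90017 Q90017 (allL N90017 (tt N72926 (iv1 F388309)) (tt N53973 (iv0 D192947)) (tt N72443 F406004) (tt N57966 (iv3 F388310)) (tt N59466 F388308) (tt N114661 F491259) (tt N116856 D220115) (tt N72447 (iv7 F406001)))
theorem Q90019 : ∀ i, i < 90019 → P i := stepQ 90018 Q90018 (allL N90018 (tt N53973 (iv1 D192948)) (tt N72926 F388311) (tt N72447 (iv2 F406005)) (tt N94987 F406573) (tt N59465 F388312) (tt N112845 (iv5 F482927)) (tt N94985 (iv6 F406574)) (tt N72443 F406008))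
theorem Q90020 : ∀ i, i < 90020 → P i := stepQ 90019 Q90019 (allL N90019 (tt N71440 F388313) (tt N71437 (iv0 F388314)) (tt N102748 (iv2 F438473)) (tt N53974 (iv3 D192949)) (tt N106941 (iv4 F456376)) (tt N108364 (iv5 F462265)) (tt N116857 D220116) (tt N107358 (iv7 F458082)))
theorem Q90021 : ∀ i, i < 90021 → P i := stepQ 90020 Q90020 (allL N90020 (tt N96118 (iv1 F411133)) (tt N105033 (iv0 F448482)) (tt N93268 (iv2 F400211)) (tt N108364 (iv3 F462267)) (tt N93267 (iv4 F400206)) (tt N53974 (iv5 D192950)) (tt N113268 (iv6 F484794)) (tt N107693 (iv7 F459261)))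
theorem Q90022 : ∀ i, i < 90022 → P i := stepQ 90021 Q90021 (allL N90021 (tt N106755 F455555) (tt N90809 (iv0 F390939)) (tt N90844 (iv2 F391034)) (tt N116857 (iv3 F502200)) (tt N93257 (iv4 F400157)) (tt N83467 F388315) (tt N53974 (iv6 D192951)) (tt N90843 (iv7 F391032)))
theorem Q90023 : ∀ i, i < 90023 → P i := stepQ 90022 Q90022 (allL N90022 (tt N115072 F493346) (tt N114934 (iv0 F492622)) (tt N107694 (iv2 F459265)) (tt N81066 F388316) (tt N93259 (iv4 F400163)) (tt N113895 (iv5 F487677)) (tt N53975 (iv6 D192952)) (tt N115071 (iv7 F493338)))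
theorem Q90024 : ∀ i, i < 90024 → P i := stepQ 90023 Q90023 (allL N90023 (tt N110861 (iv1 F473491)) (tt N114031 (iv0 F488286)) (tt N114033 F488296) (tt N59219 F388317) (tt N53976 (iv4 D192953)) (tt N99522 (iv5 F424971)) (tt N108464 (iv6 F462697)) (tt N72171 F388318))
theorem Q90025 : ∀ i, i < 90025 → P i := stepQ 90024 Q90024 (allL N90024 (tt N83304 (iv1 F388325)) (tt N77376 (iv0 F388323)) (tt N77142 F388319) (tt N53981 F388320) (tt N77900 (iv4 F388326)) (tt N53979 (iv5 D192954)) (tt N53980 F388321) (tt N77140 F388322))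
theorem Q90026 : ∀ i, i < 90026 → P i := stepQ 90025 Q90025 (allL N90025 (tt N53981 (iv1 D192955)) (tt N71519 F388327) (tt N54440 F388329) (tt N112336 (iv3 F480628)) (tt N75883 (iv4 F388330)) (tt N75927 (iv5 F388328)) (tt N116858 D220117) (tt N101751 (iv7 F434177)))
theorem Q90027 : ∀ i, i < 90027 → P i := stepQ 90026 Q90026 (allL N90026 (tt N109483 (iv1 F467201)) (tt N109485 (iv0 F467209)) (tt N101752 (iv2 F434179)) (tt N116859 D220118) (tt N53981 (iv4 D192956)) (tt N106913 (iv5 F456257)) (tt N53985 F388331) (tt N109513 (iv7 F467323)))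
theorem Q90028 : ∀ i, i < 90028 → P i := stepQ 90027 Q90027 (allL N90027 (tt N54440 (iv1 F388336)) (tt N101751 F434176) (tt N71519 F388332) (tt N77140 F388333) (tt N109513 (iv4 F467319)) (tt N53982 F388334) (tt N70919 F388335) (tt N53981 (iv7 D192957)))
theorem Q90029 : ∀ i, i < 90029 → P i := stepQ 90028 Q90028 (allL N90028 (tt N62029 F388340) (tt N62027 F388341) (tt N54604 F388337) (tt N116860 D220119) (tt N53983 (iv4 D192958)) (tt N71872 F388338) (tt N116861 D220120) (tt N73617 F388339))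
theorem Q90030 : ∀ i, i < 90030 → P i := stepQ 90029 Q90029 (allL N90029 (tt N116862 D220121) (tt N116863 D220122) (tt N54605 F388342) (tt N114708 (iv3 F491456)) (tt N116861 (iv4 F502219)) (tt N113318 F485002) (tt N53983 (iv6 D192959)) (tt N116864 D220123))
theorem Q90031 : ∀ i, i < 90031 → P i := stepQ 90030 Q90030 (allL N90030 (tt N62023 (iv1 F388346)) (tt N53985 (iv0 D192960)) (tt N62025 (iv2 F388345)) (tt N83427 (iv3 F388348)) (tt N82731 F388344) (tt N61782 F388343) (tt N109514 (iv6 F467325)) (tt N61781 F388347))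
theorem Q90032 : ∀ i, i < 90032 → P i := stepQ 90031 Q90031 (allL N90031 (tt N109928 F469274) (tt N116865 D220124) (tt N116859 (iv2 F502206)) (tt N53985 (iv3 D192961)) (tt N77896 F388349) (tt N77882 F388350) (tt N116859 (iv6 F502209)) (tt N106911 (iv7 F456247)))
theorem Q90033 : ∀ i, i < 90033 → P i := stepQ 90032 Q90032 (allL N90032 (tt N106780 F455653) (tt N66875 F388353) (tt N53998 F388351) (tt N73072 (iv3 F388354)) (tt N53987 (iv4 D192962)) (tt N107513 (iv5 F458606)) (tt N73070 F388352) (tt N107429 (iv7 F458312)))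
theorem Q90034 : ∀ i, i < 90034 → P i := stepQ 90033 Q90033 (allL N90033 (tt N91670 (iv1 F393974)) (tt N61645 F388358) (tt N54012 F388355) (tt N85290 F388356) (tt N53988 (iv4 D192963)) (tt N98677 (iv5 F421817)) (tt N116866 D220125) (tt N54017 F388357))
theorem Q90035 : ∀ i, i < 90035 → P i := stepQ 90034 Q90034 (allL N90034 (tt N114319 F489581) (tt N96143 (iv0 F411231)) (tt N54013 F388359) (tt N83242 F388360) (tt N116866 (iv4 F502248)) (tt N86302 F388361) (tt N53988 (iv6 D192964)) (tt N114659 (iv7 F491242)))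
theorem Q90036 : ∀ i, i < 90036 → P i := stepQ 90035 Q90035 (allL N90035 (tt N61645 F388366) (tt N91670 (iv0 F393973)) (tt N54017 F388364) (tt N116867 D220126) (tt N53989 (iv4 D192965)) (tt N98678 (iv5 F421821)) (tt N116868 D220127) (tt N54012 F388365))
theorem Q90037 : ∀ i, i < 90037 → P i := stepQ 90036 Q90036 (allL N90036 (tt N108784 F463916) (tt N91705 (iv0 F394106)) (tt N54018 F388367) (tt N109560 F467525) (tt N116868 (iv4 F502262)) (tt N113707 (iv5 F486750)) (tt N53989 (iv6 D192966)) (tt N116789 (iv7 F501847)))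
theorem Q90038 : ∀ i, i < 90038 → P i := stepQ 90037 Q90037 (allL N90037 (tt N83098 F388371) (tt N61656 F388372) (tt N54020 F388368) (tt N79030 F388369) (tt N53990 (iv4 D192967)) (tt N111186 (iv5 F475136)) (tt N79032 (iv6 F388373)) (tt N54024 F388370))
theorem Q90039 : ∀ i, i < 90039 → P i := stepQ 90038 Q90038 (allL N90038 (tt N71214 F388377) (tt N61914 (iv0 F388378)) (tt N54022 F388374) (tt N76582 F388375) (tt N79032 F388376) (tt N116104 (iv5 F498477)) (tt N53990 (iv6 D192968)) (tt N71212 (iv7 F388382)))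
theorem Q90040 : ∀ i, i < 90040 → P i := stepQ 90039 Q90039 (allL N90039 (tt N61656 F388385) (tt N83098 F388386) (tt N54024 F388383) (tt N116749 (iv3 F501623)) (tt N53991 (iv4 D192969)) (tt N111187 (iv5 F475145)) (tt N107084 F456903) (tt N54020 F388384))
theorem Q90041 : ∀ i, i < 90041 → P i := stepQ 90040 Q90040 (allL N90040 (tt N70079 F388390) (tt N115750 (iv0 F496660)) (tt N54026 F388387) (tt N88871 F388388) (tt N107084 (iv4 F456900)) (tt N84084 F388389) (tt N53991 (iv6 D192970)) (tt N116869 D220128))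
theorem Q90042 : ∀ i, i < 90042 → P i := stepQ 90041 Q90041 (allL N90041 (tt N116870 D220129) (tt N113533 (iv0 F485924)) (tt N116871 D220130) (tt N53992 (iv3 D192971)) (tt N109393 (iv4 F466737)) (tt N116872 D220131) (tt N109596 (iv6 F467647)) (tt N109390 F466727))
theorem Q90043 : ∀ i, i < 90043 → P i := stepQ 90042 Q90042 (allL N90042 (tt N103728 (iv1 F442606)) (tt N103731 (iv0 F442613)) (tt N54030 F388392) (tt N116872 (iv3 F502286)) (tt N115112 (iv4 F493539)) (tt N53992 (iv5 D192972)) (tt N114408 (iv6 F490000)) (tt N116873 D220132))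
theorem Q90044 : ∀ i, i < 90044 → P i := stepQ 90043 Q90043 (allL N90043 (tt N54028 (iv1 F388395)) (tt N54027 F388396) (tt N54031 F388393) (tt N109390 (iv3 F466723)) (tt N53993 F388394) (tt N116873 (iv5 F502293)) (tt N103855 F443108) (tt N53992 (iv7 D192973)))
theorem Q90045 : ∀ i, i < 90045 → P i := stepQ 90044 Q90044 (allL N90044 (tt N71180 F388399) (tt N99535 (iv0 F425026)) (tt N54032 F388397) (tt N69697 F388398) (tt N103855 (iv4 F443105)) (tt N93857 F402183) (tt N53993 (iv6 D192974)) (tt N106184 (iv7 F453507)))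
theorem Q90046 : ∀ i, i < 90046 → P i := stepQ 90045 Q90045 (allL N90045 (tt N53994 (iv1 D192975)) (tt N76094 F388400) (tt N74630 (iv2 F388402)) (tt N99423 (iv3 F424504)) (tt N74632 F388403) (tt N92606 (iv5 F397613)) (tt N72087 (iv6 F427280)) (tt N76093 F388401))
theorem Q90047 : ∀ i, i < 90047 → P i := stepQ 90046 Q90046 (allL N90046 (tt N74609 F388408) (tt N109590 (iv0 F467618)) (tt N73070 F388405) (tt N74611 F388406) (tt N53994 (iv4 D192976)) (tt N73069 (iv5 F388409)) (tt N53998 F388407) (tt N93758 (iv7 F401797)))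
theorem Q90048 : ∀ i, i < 90048 → P i := stepQ 90047 Q90047 (allL N90047 (tt N55294 F388411) (tt N84236 F388412) (tt N74210 F388410) (tt N116874 D220133) (tt N53996 (iv4 D192977)) (tt N114796 (iv5 F491917)) (tt N116875 D220134) (tt N96043 (iv7 F410772)))
theorem Q90049 : ∀ i, i < 90049 → P i := stepQ 90048 Q90048 (allL N90048 (tt N108018 (iv1 F460753)) (tt N108017 (iv0 F460751)) (tt N108020 (iv2 F460765)) (tt N116548 (iv3 F500705)) (tt N116875 (iv4 F502304)) (tt N113499 (iv5 F485790)) (tt N53996 (iv6 D192978)) (tt N108016 (iv7 F460744)))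
theorem Q90050 : ∀ i, i < 90050 → P i := stepQ 90049 Q90049 (allL N90049 (tt N89064 F388416) (tt N74535 F388417) (tt N57201 F388413) (tt N77110 F388414) (tt N53997 (iv4 D192979)) (tt N113262 (iv5 F484762)) (tt N110945 (iv6 F473904)) (tt N89070 F388415))
theorem Q90051 : ∀ i, i < 90051 → P i := stepQ 90050 Q90050 (allL N90050 (tt N107128 (iv1 F457108)) (tt N107119 (iv0 F457065)) (tt N96187 F411399) (tt N107127 (iv3 F457103)) (tt N110945 (iv4 F473902)) (tt N113075 (iv5 F483860)) (tt N53997 (iv6 D192980)) (tt N107129 (iv7 F457107)))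
theorem Q90052 : ∀ i, i < 90052 → P i := stepQ 90051 Q90051 (allL N90051 (tt N93788 (iv1 F401886)) (tt N56930 (iv0 F388421)) (tt N93790 (iv2 F401894)) (tt N53998 (iv3 D192981)) (tt N55046 F388418) (tt N116760 (iv5 F501681)) (tt N74611 F388419) (tt N74570 F388420))
theorem Q90053 : ∀ i, i < 90053 → P i := stepQ 90052 Q90052 (allL N90052 (tt N103173 (iv1 F440407)) (tt N116407 (iv0 F499941)) (tt N107513 (iv2 F458603)) (tt N116760 (iv3 F501679)) (tt N116873 (iv4 F502292)) (tt N53998 (iv5 D192982)) (tt N94629 F405307) (tt N115112 (iv7 F493540)))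
theorem Q90054 : ∀ i, i < 90054 → P i := stepQ 90053 Q90053 (allL N90053 (tt N106504 F454691) (tt N116163 F498822) (tt N76999 F388422) (tt N116876 D220135) (tt N53999 (iv4 D192983)) (tt N106076 (iv5 F453013)) (tt N84079 F388423) (tt N116162 (iv7 F498816)))
theorem Q90055 : ∀ i, i < 90055 → P i := stepQ 90054 Q90054 (allL N90054 (tt N76998 (iv1 F388426)) (tt N76997 F388427) (tt N77000 F388424) (tt N100558 (iv3 F429456)) (tt N116162 (iv4 F498813)) (tt N54000 F388425) (tt N116823 (iv6 F502015)) (tt N53999 (iv7 D192984)))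
theorem Q90056 : ∀ i, i < 90056 → P i := stepQ 90055 Q90055 (allL N90055 (tt N88863 F388430) (tt N88865 F388429) (tt N101043 (iv2 F431424)) (tt N54002 F388428) (tt N110289 (iv4 F470866)) (tt N54001 (iv5 D192985)) (tt N88883 (iv6 F388432)) (tt N109593 (iv7 F467632)))
theorem Q90057 : ∀ i, i < 90057 → P i := stepQ 90056 Q90056 (allL N90056 (tt N107648 F459066) (tt N114961 (iv0 F492779)) (tt N112027 (iv2 F479139)) (tt N54003 F388434) (tt N75488 F388435) (tt N83624 F388436) (tt N54001 (iv6 D192986)) (tt N113584 (iv7 F486154)))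
theorem Q90058 : ∀ i, i < 90058 → P i := stepQ 90057 Q90057 (allL N90057 (tt N54002 (iv1 D192987)) (tt N54004 F388437) (tt N82334 (iv2 F388440)) (tt N54034 (iv3 F388441)) (tt N71094 (iv4 F388442)) (tt N65392 F388439) (tt N91705 (iv6 F394103)) (tt N82331 F388438))
theorem Q90059 : ∀ i, i < 90059 → P i := stepQ 90058 Q90058 (allL N90058 (tt N92275 (iv1 F396551)) (tt N92274 F396550) (tt N92276 (iv2 F396554)) (tt N69116 (iv3 F388446)) (tt N54002 (iv4 D192988)) (tt N66210 F388444) (tt N103639 (iv6 F442336)) (tt N55853 F388445))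
theorem Q90060 : ∀ i, i < 90060 → P i := stepQ 90059 Q90059 (allL N90059 (tt N101923 (iv1 F434957)) (tt N96122 (iv0 F411149)) (tt N101924 (iv2 F434960)) (tt N88883 F388447) (tt N103639 (iv4 F442335)) (tt N70078 F388448) (tt N54002 (iv6 D192989)) (tt N71134 F388449))
theorem Q90061 : ∀ i, i < 90061 → P i := stepQ 90060 Q90060 (allL N90060 (tt N54003 (iv1 D192990)) (tt N71495 F388450) (tt N100077 (iv2 F427454)) (tt N54037 (iv3 F388453)) (tt N67094 F388452) (tt N103582 (iv5 F442119)) (tt N75923 (iv6 F388454)) (tt N76996 F388451))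
theorem Q90062 : ∀ i, i < 90062 → P i := stepQ 90061 Q90061 (allL N90061 (tt N100077 (iv1 F427458)) (tt N76996 (iv0 F388459)) (tt N71495 F388455) (tt N113584 (iv3 F486151)) (tt N75316 F388456) (tt N70913 F388457) (tt N70954 F388458) (tt N54003 (iv7 D192991)))
theorem Q90063 : ∀ i, i < 90063 → P i := stepQ 90062 Q90062 (allL N90062 (tt N98745 (iv1 F422126)) (tt N76096 F388461) (tt N109594 (iv2 F467635)) (tt N67743 F388462) (tt N54006 (iv4 D192992)) (tt N67742 F388460) (tt N116877 D220136) (tt N104585 (iv7 F446416)))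
theorem Q90064 : ∀ i, i < 90064 → P i := stepQ 90063 Q90063 (allL N90063 (tt N116878 D220137) (tt N116879 D220138) (tt N109595 (iv2 F467641)) (tt N116304 (iv3 F499459)) (tt N116877 (iv4 F502309)) (tt N106204 (iv5 F453596)) (tt N54006 (iv6 D192993)) (tt N116880 D220139))
theorem Q90065 : ∀ i, i < 90065 → P i := stepQ 90064 Q90064 (allL N90064 (tt N76096 F388463) (tt N98745 (iv0 F422127)) (tt N104585 (iv2 F446414)) (tt N103404 F441464) (tt N54007 (iv4 D192994)) (tt N104584 F446412) (tt N105207 F449210) (tt N109594 (iv7 F467638)))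
theorem Q90066 : ∀ i, i < 90066 → P i := stepQ 90065 Q90065 (allL N90065 (tt N70845 F388466) (tt N71186 F388467) (tt N71184 F388464) (tt N76673 F388465) (tt N105207 F449208) (tt N116881 D220140) (tt N54007 (iv6 D192995)) (tt N71183 (iv7 F388468)))
theorem Q90067 : ∀ i, i < 90067 → P i := stepQ 90066 Q90066 (allL N90066 (tt N105143 (iv1 F448978)) (tt N103840 (iv0 F443040)) (tt N57847 (iv2 F388471)) (tt N54008 (iv3 D192996)) (tt N54051 F388469) (tt N103832 (iv5 F443010)) (tt N54029 F388470) (tt N116882 D220141))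
theorem Q90068 : ∀ i, i < 90068 → P i := stepQ 90067 Q90067 (allL N90067 (tt N67699 (iv1 F388474)) (tt N64911 F388475) (tt N103831 (iv2 F443003)) (tt N116882 (iv3 F502328)) (tt N54009 F388472) (tt N61674 F388473) (tt N103854 (iv6 F443098)) (tt N54008 (iv7 D192997)))
theorem Q90069 : ∀ i, i < 90069 → P i := stepQ 90068 Q90068 (allL N90068 (tt N99535 (iv1 F425027)) (tt N71180 (iv0 F388478)) (tt N106184 F453505) (tt N54053 F388476) (tt N103854 (iv4 F443097)) (tt N93855 (iv5 F402166)) (tt N54009 (iv6 D192998)) (tt N54032 F388477))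
theorem Q90070 : ∀ i, i < 90070 → P i := stepQ 90069 Q90069 (allL N90069 (tt N54010 (iv1 D192999)) (tt N83244 F388479) (tt N114315 (iv2 F489548)) (tt N76629 (iv3 F388480)) (tt N89685 (iv4 F388481)) (tt N113864 F487522) (tt N116883 D220142) (tt N109638 (iv7 F467870)))
theorem Q90071 : ∀ i, i < 90071 → P i := stepQ 90070 Q90070 (allL N90070 (tt N114062 (iv1 F488404)) (tt N114481 (iv0 F490405)) (tt N114641 F491153) (tt N62762 (iv3 F388488)) (tt N54010 (iv4 D193000)) (tt N109559 (iv5 F467519)) (tt N62437 F388486) (tt N114642 (iv7 F491157)))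
theorem Q90072 : ∀ i, i < 90072 → P i := stepQ 90071 Q90071 (allL N90071 (tt N88886 (iv1 F424487)) (tt N107609 (iv0 F458939)) (tt N73264 F388482) (tt N54013 F388483) (tt N62437 (iv4 F388485)) (tt N73252 F388484) (tt N54010 (iv6 D193001)) (tt N73384 F388487))
theorem Q90073 : ∀ i, i < 90073 → P i := stepQ 90072 Q90072 (allL N90072 (tt N71141 (iv1 F388492)) (tt N71140 F388493) (tt N71143 F388489) (tt N114649 (iv3 F491195)) (tt N68916 F388490) (tt N113860 (iv5 F487504)) (tt N54011 (iv6 D193002)) (tt N68912 F388491))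
theorem Q90074 : ∀ i, i < 90074 → P i := stepQ 90073 Q90073 (allL N90073 (tt N116884 D220143) (tt N111174 (iv0 F475087)) (tt N75093 F388494) (tt N54012 (iv3 D193003)) (tt N62762 F388495) (tt N114422 (iv5 F490078)) (tt N62761 (iv6 F388496)) (tt N116867 (iv7 F502256)))
theorem Q90075 : ∀ i, i < 90075 → P i := stepQ 90074 Q90074 (allL N90074 (tt N78790 F388497) (tt N83097 F388498) (tt N98677 F421818) (tt N114422 (iv3 F490076)) (tt N116407 (iv4 F499938)) (tt N54012 (iv5 D193004)) (tt N114419 (iv6 F490061)) (tt N98678 (iv7 F421820)))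
theorem Q90076 : ∀ i, i < 90076 → P i := stepQ 90075 Q90075 (allL N90075 (tt N106424 F454371) (tt N116885 D220144) (tt N116866 (iv2 F502246)) (tt N62761 F388499) (tt N54013 F388500) (tt N67762 (iv5 F388501)) (tt N54012 (iv6 D193005)) (tt N75143 (iv7 F388502)))
theorem Q90077 : ∀ i, i < 90077 → P i := stepQ 90076 Q90076 (allL N90076 (tt N114659 (iv1 F491241)) (tt N54013 (iv0 D193006)) (tt N114319 (iv2 F489575)) (tt N113851 (iv3 F487450)) (tt N116886 D220145) (tt N95262 F424022) (tt N101923 F444228) (tt N96143 F449922))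
theorem Q90078 : ∀ i, i < 90078 → P i := stepQ 90077 Q90077 (allL N90077 (tt N96143 (iv1 F411232)) (tt N114319 (iv0 F489580)) (tt N114659 (iv2 F491247)) (tt N73384 F388503) (tt N75143 F388504) (tt N114344 (iv5 F489723)) (tt N116789 F501848) (tt N54013 (iv7 D193008)))
theorem Q90079 : ∀ i, i < 90079 → P i := stepQ 90078 Q90078 (allL N90078 (tt N86093 F388508) (tt N113305 (iv0 F484939)) (tt N83246 F388505) (tt N109562 (iv3 F467534)) (tt N88699 F388507) (tt N54014 (iv5 D193009)) (tt N98347 (iv6 F420587)) (tt N83239 F388506))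
theorem Q90080 : ∀ i, i < 90080 → P i := stepQ 90079 Q90079 (allL N90079 (tt N74801 (iv1 F388513)) (tt N79005 F388514) (tt N79006 F388509) (tt N83333 F388510) (tt N54016 F388511) (tt N98320 (iv5 F420492)) (tt N54014 (iv6 D193010)) (tt N79007 F388512))
theorem Q90081 : ∀ i, i < 90081 → P i := stepQ 90080 Q90080 (allL N90080 (tt N101035 (iv1 F431392)) (tt N101023 (iv0 F431328)) (tt N83248 F388515) (tt N54018 F388516) (tt N111172 F475075) (tt N113881 (iv5 F487604)) (tt N54015 (iv6 D193011)) (tt N101033 (iv7 F431376)))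
theorem Q90082 : ∀ i, i < 90082 → P i := stepQ 90081 Q90081 (allL N90081 (tt N83097 F388517) (tt N78790 F388518) (tt N98678 F421826) (tt N110478 (iv3 F471771)) (tt N103173 (iv4 F440406)) (tt N54017 (iv5 D193012)) (tt N116887 D220146) (tt N98677 F421819))
theorem Q90083 : ∀ i, i < 90083 → P i := stepQ 90082 Q90082 (allL N90082 (tt N116888 D220147) (tt N98532 (iv0 F442397)) (tt N116868 (iv2 F502260)) (tt N111173 (iv3 F475079)) (tt N54018 F388519) (tt N116889 D220148) (tt N54017 (iv6 D193013)) (tt N116890 D220149))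
theorem Q90084 : ∀ i, i < 90084 → P i := stepQ 90083 Q90083 (allL N90083 (tt N54018 (iv1 D193015)) (tt N116789 F501846) (tt N91705 F394105) (tt N101195 (iv3 F432131)) (tt N116891 D220150) (tt N79117 F388520) (tt N82334 (iv6 F388521)) (tt N108784 (iv7 F463915)))
theorem Q90085 : ∀ i, i < 90085 → P i := stepQ 90084 Q90084 (allL N90084 (tt N91705 (iv1 F394107)) (tt N108784 F463917) (tt N116789 F501845) (tt N101033 F431377) (tt N116890 (iv4 F502371)) (tt N113925 (iv5 F487820)) (tt N114659 F491245) (tt N54018 (iv7 D193016)))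
theorem Q90086 : ∀ i, i < 90086 → P i := stepQ 90085 Q90085 (allL N90085 (tt N86822 F388526) (tt N86820 F388525) (tt N114879 (iv2 F492301)) (tt N54021 F388522) (tt N85344 F388524) (tt N54019 (iv5 D193017)) (tt N106904 (iv6 F456219)) (tt N84083 F388523))
theorem Q90087 : ∀ i, i < 90087 → P i := stepQ 90086 Q90086 (allL N90086 (tt N116892 D220151) (tt N116893 D220152) (tt N76711 F388527) (tt N54022 F388528) (tt N116722 (iv4 F501501)) (tt N116894 D220153) (tt N54019 (iv6 D193018)) (tt N116895 D220154))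
theorem Q90088 : ∀ i, i < 90088 → P i := stepQ 90087 Q90087 (allL N90087 (tt N114581 F490862) (tt N114687 (iv0 F491369)) (tt N114441 (iv2 F490184)) (tt N54020 (iv3 D193019)) (tt N116720 (iv4 F501490)) (tt N114552 F490741) (tt N116896 D220155) (tt N116749 (iv7 F501625)))
theorem Q90089 : ∀ i, i < 90089 → P i := stepQ 90088 Q90088 (allL N90088 (tt N61664 F388529) (tt N83096 F388530) (tt N111186 F475141) (tt N114552 F490740) (tt N116410 (iv4 F499958)) (tt N54020 (iv5 D193020)) (tt N114552 F490738) (tt N111187 (iv7 F475144)))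
theorem Q90090 : ∀ i, i < 90090 → P i := stepQ 90089 Q90089 (allL N90089 (tt N106139 (iv1 F453316)) (tt N92255 (iv0 F396487)) (tt N79032 F388531) (tt N116896 (iv3 F502401)) (tt N54022 F388532) (tt N116896 (iv5 F502403)) (tt N54020 (iv6 D193021)) (tt N106138 (iv7 F453310)))
theorem Q90091 : ∀ i, i < 90091 → P i := stepQ 90090 Q90090 (allL N90090 (tt N71212 (iv1 F388537)) (tt N54022 (iv0 D193022)) (tt N71214 (iv2 F388534)) (tt N116421 F500017) (tt N69095 (iv4 F388536)) (tt N116897 D220156) (tt N71186 F388533) (tt N61914 F388535))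
theorem Q90092 : ∀ i, i < 90092 → P i := stepQ 90091 Q90091 (allL N90091 (tt N75908 F388539) (tt N99930 F426873) (tt N116104 (iv2 F498474)) (tt N116894 (iv3 F502392)) (tt N99141 (iv4 F423441)) (tt N54022 (iv5 D193023)) (tt N54602 F388538) (tt N116898 D220157))
theorem Q90093 : ∀ i, i < 90093 → P i := stepQ 90092 Q90092 (allL N90092 (tt N61914 (iv1 F388541)) (tt N71214 F388542) (tt N71212 F388540) (tt N116895 (iv3 F502396)) (tt N106138 F453311) (tt N116898 (iv5 F502412)) (tt N116869 (iv6 F502270)) (tt N54022 (iv7 D193024)))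
theorem Q90094 : ∀ i, i < 90094 → P i := stepQ 90093 Q90093 (allL N90093 (tt N69899 F449244) (tt N116514 (iv0 F500559)) (tt N83251 F388543) (tt N54026 F388544) (tt N115738 F496593) (tt N106898 (iv5 F456192)) (tt N54023 (iv6 D193025)) (tt N76710 F388545))
theorem Q90095 : ∀ i, i < 90095 → P i := stepQ 90094 Q90094 (allL N90094 (tt N103406 (iv1 F441476)) (tt N111322 (iv0 F475816)) (tt N86087 (iv2 F388548)) (tt N54024 (iv3 D193026)) (tt N79031 F388546) (tt N114583 (iv5 F490866)) (tt N116899 D220158) (tt N79030 F388547))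
theorem Q90096 : ∀ i, i < 90096 → P i := stepQ 90095 Q90095 (allL N90095 (tt N83096 (iv1 F388550)) (tt N61664 F388549) (tt N111187 F475147) (tt N114583 F490869) (tt N116408 (iv4 F499947)) (tt N54024 (iv5 D193027)) (tt N116900 D220159) (tt N111186 F475142))
theorem Q90097 : ∀ i, i < 90097 → P i := stepQ 90096 Q90096 (allL N90096 (tt N105275 (iv1 F449511)) (tt N106091 (iv0 F453071)) (tt N107084 F456902) (tt N116899 (iv3 F502417)) (tt N54026 F388551) (tt N116901 D220160) (tt N54024 (iv6 D193028)) (tt N107085 (iv7 F456905)))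
theorem Q90098 : ∀ i, i < 90098 → P i := stepQ 90097 Q90097 (allL N90097 (tt N116869 (iv1 F502272)) (tt N54026 (iv0 D193029)) (tt N70079 (iv2 F388553)) (tt N54060 F388554) (tt N116902 D220161) (tt N70065 F388552) (tt N106177 (iv6 F453468)) (tt N115750 (iv7 F496659)))
theorem Q90099 : ∀ i, i < 90099 → P i := stepQ 90098 Q90098 (allL N90098 (tt N54026 (iv1 D193030)) (tt N116869 F502271) (tt N115750 (iv2 F496657)) (tt N85468 F388557) (tt N116903 D220162) (tt N70080 (iv5 F388556)) (tt N116878 (iv6 F502310)) (tt N70079 F388555))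
theorem Q90100 : ∀ i, i < 90100 → P i := stepQ 90099 Q90099 (allL N90099 (tt N115750 F496661) (tt N70079 (iv0 F449312)) (tt N116869 (iv2 F502266)) (tt N76710 F388558) (tt N107085 (iv4 F456906)) (tt N106899 (iv5 F456200)) (tt N71212 F388559) (tt N54026 (iv7 D193031)))
theorem Q90101 : ∀ i, i < 90101 → P i := stepQ 90100 Q90100 (allL N90100 (tt N69095 F421643) (tt N69068 F441477) (tt N69092 F388561) (tt N54027 (iv3 D193032)) (tt N71262 F441478) (tt N116870 (iv5 F502276)) (tt N54027 F441479) (tt N69093 F388560))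
theorem Q90102 : ∀ i, i < 90102 → P i := stepQ 90101 Q90101 (allL N90101 (tt N67722 F388562) (tt N116904 D220163) (tt N113232 (iv2 F484619)) (tt N116870 (iv3 F502274)) (tt N113262 (iv4 F484761)) (tt N54027 (iv5 D193033)) (tt N116784 (iv6 F501815)) (tt N113235 (iv7 F484642)))
theorem Q90103 : ∀ i, i < 90103 → P i := stepQ 90102 Q90102 (allL N90102 (tt N86099 F388565) (tt N61629 (iv0 F388566)) (tt N111152 (iv2 F474954)) (tt N54028 (iv3 D193035)) (tt N107224 (iv4 F457529)) (tt N85282 F388567) (tt N116905 D220164) (tt N111151 F474949))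
theorem Q90104 : ∀ i, i < 90104 → P i := stepQ 90103 Q90103 (allL N90103 (tt N116904 (iv1 F502435)) (tt N67722 F388569) (tt N113235 (iv2 F484639)) (tt N85282 F388568) (tt N93556 (iv4 F401122)) (tt N54028 (iv5 D193036)) (tt N116906 D220165) (tt N113232 (iv7 F484622)))
theorem Q90105 : ∀ i, i < 90105 → P i := stepQ 90104 Q90104 (allL N90104 (tt N116902 (iv1 F502429)) (tt N116903 (iv0 F502433)) (tt N113236 (iv2 F484645)) (tt N116905 (iv3 F502441)) (tt N72102 F388570) (tt N116907 D220166) (tt N54028 (iv6 D193037)) (tt N116908 D220167))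
theorem Q90106 : ∀ i, i < 90106 → P i := stepQ 90105 Q90105 (allL N90105 (tt N116909 D220168) (tt N54029 (iv0 D193038)) (tt N116784 (iv2 F501813)) (tt N61023 F388572) (tt N61323 F388571) (tt N79050 (iv5 F388573)) (tt N113232 (iv6 F484621)) (tt N98233 (iv7 F420081)))
theorem Q90107 : ∀ i, i < 90107 → P i := stepQ 90106 Q90106 (allL N90106 (tt N54029 (iv1 D193039)) (tt N116909 F502453) (tt N98233 F420085) (tt N116349 (iv3 F499659)) (tt N85232 F388574) (tt N116349 F499662) (tt N116347 F499655) (tt N116784 (iv7 F501816)))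
theorem Q90108 : ∀ i, i < 90108 → P i := stepQ 90107 Q90107 (allL N90107 (tt N116784 (iv1 F501819)) (tt N98233 F420084) (tt N54029 (iv2 D193040)) (tt N116871 (iv3 F502280)) (tt N54067 F388575) (tt N111226 (iv5 F475308)) (tt N57847 F388576) (tt N116909 (iv7 F502454)))
theorem Q90109 : ∀ i, i < 90109 → P i := stepQ 90108 Q90108 (allL N90108 (tt N56349 F420562) (tt N111225 (iv0 F475305)) (tt N111226 F475310) (tt N54030 F388577) (tt N99777 (iv4 F426185)) (tt N54029 (iv5 D193041)) (tt N116910 D220169) (tt N111227 (iv7 F475313)))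
theorem Q90110 : ∀ i, i < 90110 → P i := stepQ 90109 Q90109 (allL N90109 (tt N98233 F420082) (tt N116784 (iv0 F501818)) (tt N116909 F502452) (tt N54031 F388578) (tt N54068 F388579) (tt N111227 (iv5 F475318)) (tt N116911 D220170) (tt N54029 (iv7 D193042)))
theorem Q90111 : ∀ i, i < 90111 → P i := stepQ 90110 Q90110 (allL N90110 (tt N116873 (iv1 F502295)) (tt N54030 (iv0 D193043)) (tt N103728 (iv2 F442602)) (tt N116912 D220171) (tt N114796 (iv4 F491918)) (tt N103654 F442375) (tt N116913 D220172) (tt N103731 (iv7 F442612)))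
theorem Q90112 : ∀ i, i < 90112 → P i := stepQ 90111 Q90111 (allL N90111 (tt N54030 (iv1 D193044)) (tt N116873 F502294) (tt N103731 (iv2 F442611)) (tt N85287 (iv3 F388580)) (tt N93561 (iv4 F401136)) (tt N103655 F442381) (tt N116914 D220173) (tt N103728 (iv7 F442603)))
theorem Q90113 : ∀ i, i < 90113 → P i := stepQ 90112 Q90112 (allL N90112 (tt N116407 (iv1 F499942)) (tt N103173 F440409) (tt N115112 (iv2 F493537)) (tt N107515 (iv3 F458615)) (tt N54030 (iv4 D193045)) (tt N107429 F458311) (tt N116915 D220174) (tt N107513 F458608))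
theorem Q90114 : ∀ i, i < 90114 → P i := stepQ 90113 Q90113 (allL N90113 (tt N103521 F441931) (tt N78859 (iv0 F388582)) (tt N114408 (iv2 F489999)) (tt N116910 (iv3 F502456)) (tt N116915 (iv4 F502476)) (tt N85962 F388581) (tt N54030 (iv6 D193046)) (tt N114371 (iv7 F489848)))
theorem Q90115 : ∀ i, i < 90115 → P i := stepQ 90114 Q90114 (allL N90114 (tt N103731 (iv1 F442614)) (tt N103728 (iv0 F442605)) (tt N116873 (iv2 F502291)) (tt N111227 F475314) (tt N107513 (iv4 F458605)) (tt N54031 F388583) (tt N107512 F458602) (tt N54030 (iv7 D193047)))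
theorem Q90116 : ∀ i, i < 90116 → P i := stepQ 90115 Q90115 (allL N90115 (tt N67701 (iv1 F388587)) (tt N59041 (iv0 F388586)) (tt N103855 F443107) (tt N116911 (iv3 F502459)) (tt N54032 F388584) (tt N71971 (iv5 F388585)) (tt N54031 (iv6 D193048)) (tt N103854 F443101))
theorem Q90117 : ∀ i, i < 90117 → P i := stepQ 90116 Q90116 (allL N90116 (tt N54032 (iv1 D193049)) (tt N106184 F453506) (tt N99535 (iv2 F425023)) (tt N99161 (iv3 F423530)) (tt N104470 (iv4 F445899)) (tt N59168 F388589) (tt N106179 (iv6 F453483)) (tt N71180 F388588))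
theorem Q90118 : ∀ i, i < 90118 → P i := stepQ 90117 Q90117 (allL N90117 (tt N113268 (iv1 F484796)) (tt N114656 (iv0 F491229)) (tt N90617 (iv2 F390288)) (tt N101369 (iv3 F432801)) (tt N107153 (iv4 F457217)) (tt N81381 F388590) (tt N54033 (iv6 D193050)) (tt N91704 (iv7 F394101)))
theorem Q90119 : ∀ i, i < 90119 → P i := stepQ 90118 Q90118 (allL N90118 (tt N89044 F388595) (tt N89046 F388596) (tt N72627 F388591) (tt N105157 (iv3 F449050)) (tt N54034 (iv4 D193051)) (tt N72626 F388594) (tt N89796 F388592) (tt N89729 F388593))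
theorem Q90120 : ∀ i, i < 90120 → P i := stepQ 90119 Q90119 (allL N90119 (tt N54040 (iv1 D193052)) (tt N83254 F388597) (tt N71291 (iv2 F388602)) (tt N88863 (iv3 F388601)) (tt N71286 F388600) (tt N76478 F388599) (tt N89841 F454168) (tt N71294 F388598))
theorem Q90121 : ∀ i, i < 90121 → P i := stepQ 90120 Q90120 (allL N90120 (tt N110188 F470337) (tt N71307 (iv0 F388605)) (tt N113314 (iv2 F484976)) (tt N54042 (iv3 D193053)) (tt N64739 F388603) (tt N106297 (iv5 F453931)) (tt N64738 (iv6 F388604)) (tt N114784 (iv7 F491842)))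
theorem Q90122 : ∀ i, i < 90122 → P i := stepQ 90121 Q90121 (allL N90121 (tt N112832 (iv1 F482846)) (tt N91697 (iv0 F394080)) (tt N96707 (iv2 F413543)) (tt N64738 F388606) (tt N54043 F388607) (tt N96705 F413538) (tt N54042 (iv6 D193054)) (tt N112830 (iv7 F482837)))
theorem Q90123 : ∀ i, i < 90123 → P i := stepQ 90122 Q90122 (allL N90122 (tt N114772 F491782) (tt N54046 (iv0 D193055)) (tt N115751 (iv2 F496662)) (tt N113842 (iv3 F487394)) (tt N112835 (iv4 F482866)) (tt N113947 (iv5 F487908)) (tt N54061 F388696) (tt N116424 (iv7 F500031)))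
theorem Q90124 : ∀ i, i < 90124 → P i := stepQ 90123 Q90123 (allL N90123 (tt N54046 (iv1 D193056)) (tt N114772 (iv0 F491781)) (tt N116424 F500033) (tt N116879 (iv3 F502315)) (tt N116916 D220175) (tt N113944 (iv5 F487903)) (tt N113914 (iv6 F487764)) (tt N115751 (iv7 F496664)))
theorem Q90125 : ∀ i, i < 90125 → P i := stepQ 90124 Q90124 (allL N90124 (tt N83695 F388610) (tt N84301 (iv0 F388611)) (tt N84300 F388608) (tt N110027 (iv3 F469622)) (tt N116703 (iv4 F501390)) (tt N54046 (iv5 D193057)) (tt N54367 F388609) (tt N84299 F388617))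
theorem Q90126 : ∀ i, i < 90126 → P i := stepQ 90125 Q90125 (allL N90125 (tt N116424 (iv1 F500030)) (tt N115751 (iv0 F496665)) (tt N114772 (iv2 F491777)) (tt N73008 F388612) (tt N58325 F388613) (tt N84299 (iv5 F388615)) (tt N58324 F388614) (tt N54046 (iv7 D193058)))
theorem Q90127 : ∀ i, i < 90127 → P i := stepQ 90126 Q90126 (allL N90126 (tt N72367 F388619) (tt N114343 (iv0 F489721)) (tt N109767 (iv2 F468514)) (tt N54048 F388618) (tt N107263 (iv4 F457695)) (tt N109702 (iv5 F468194)) (tt N54047 (iv6 D193059)) (tt N114771 (iv7 F491774)))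
theorem Q90128 : ∀ i, i < 90128 → P i := stepQ 90127 Q90127 (allL N90127 (tt N112835 F482868) (tt N116916 (iv0 F502483)) (tt N89754 F388620) (tt N116795 (iv3 F501877)) (tt N89048 F388621) (tt N116917 D220176) (tt N54049 (iv6 D193060)) (tt N116918 D220177))
theorem Q90129 : ∀ i, i < 90129 → P i := stepQ 90128 Q90128 (allL N90128 (tt N61224 (iv1 F388625)) (tt N98222 (iv0 F420049)) (tt N98254 (iv2 F420199)) (tt N54050 (iv3 D193061)) (tt N78393 F388623) (tt N104869 (iv5 F447721)) (tt N108657 (iv6 F463395)) (tt N89753 F388622))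
theorem Q90130 : ∀ i, i < 90130 → P i := stepQ 90129 Q90129 (allL N90129 (tt N94963 F408260) (tt N95678 F409111) (tt N89759 F388629) (tt N108657 (iv3 F463394)) (tt N88906 F388630) (tt N94950 (iv5 F408255)) (tt N54050 (iv6 D193062)) (tt N114773 (iv7 F491784)))
theorem Q90131 : ∀ i, i < 90131 → P i := stepQ 90130 Q90130 (allL N90130 (tt N57848 (iv1 F388635)) (tt N54051 (iv0 D193063)) (tt N57845 F388633) (tt N101769 (iv3 F434260)) (tt N105203 (iv4 F449194)) (tt N69845 F388631) (tt N116919 D220178) (tt N57846 (iv7 F388632)))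
theorem Q90132 : ∀ i, i < 90132 → P i := stepQ 90131 Q90131 (allL N90131 (tt N57846 (iv1 F388641)) (tt N57845 F388642) (tt N57848 F388638) (tt N54052 F388639) (tt N116882 (iv4 F502329)) (tt N57837 F388640) (tt N93283 F400284) (tt N54051 (iv7 D193064)))
theorem Q90133 : ∀ i, i < 90133 → P i := stepQ 90132 Q90132 (allL N90132 (tt N89835 (iv1 F388645)) (tt N89833 (iv0 F388646)) (tt N94541 (iv2 F404891)) (tt N93283 (iv3 F400282)) (tt N54053 F388643) (tt N93281 F400281) (tt N54052 (iv6 D193065)) (tt N54069 F388644))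
theorem Q90134 : ∀ i, i < 90134 → P i := stepQ 90133 Q90133 (allL N90133 (tt N116423 (iv1 F500029)) (tt N114405 (iv0 F489989)) (tt N116421 F500016) (tt N54054 (iv3 D193066)) (tt N116920 D220179) (tt N116921 D220180) (tt N114345 F489735) (tt N116422 (iv7 F500019)))
theorem Q90135 : ∀ i, i < 90135 → P i := stepQ 90134 Q90134 (allL N90134 (tt N89806 F388648) (tt N54063 (iv0 F388649)) (tt N89804 F388647) (tt N95679 (iv3 F409112)) (tt N54054 (iv4 D193067)) (tt N92879 F398617) (tt N95678 (iv6 F409109)) (tt N89805 (iv7 F388650)))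
theorem Q90136 : ∀ i, i < 90136 → P i := stepQ 90135 Q90135 (allL N90135 (tt N110408 (iv1 F471439)) (tt N90845 F485450) (tt N114778 (iv2 F491806)) (tt N116921 (iv3 F502503)) (tt N90794 F422969) (tt N54054 (iv5 D193068)) (tt N114346 (iv6 F489741)) (tt N90796 F390902))
theorem Q90137 : ∀ i, i < 90137 → P i := stepQ 90136 Q90136 (allL N90136 (tt N54063 F388656) (tt N89806 F388655) (tt N89805 F388652) (tt N116922 D220181) (tt N54055 (iv4 D193069)) (tt N108656 (iv5 F463387)) (tt N71207 F388653) (tt N89804 F388654))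
theorem Q90138 : ∀ i, i < 90138 → P i := stepQ 90137 Q90137 (allL N90137 (tt N90845 F391040) (tt N110408 (iv0 F471438)) (tt N90796 (iv2 F390900)) (tt N71213 F388657) (tt N106579 F454941) (tt N54055 (iv5 D193070)) (tt N71210 F388658) (tt N114778 (iv7 F491809)))
theorem Q90139 : ∀ i, i < 90139 → P i := stepQ 90138 Q90138 (allL N90138 (tt N54056 (iv1 D193071)) (tt N112329 F480592) (tt N112330 (iv2 F480593)) (tt N99930 (iv3 F426871)) (tt N71491 (iv4 F388661)) (tt N89850 (iv5 F388660)) (tt N99927 F426857) (tt N54435 F388659))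
theorem Q90140 : ∀ i, i < 90140 → P i := stepQ 90139 Q90139 (allL N90139 (tt N112347 F480685) (tt N109603 (iv0 F467686)) (tt N111200 (iv2 F475196)) (tt N115116 (iv3 F493565)) (tt N54056 (iv4 D193072)) (tt N103188 (iv5 F440483)) (tt N54596 F388662) (tt N111198 (iv7 F475191)))
theorem Q90141 : ∀ i, i < 90141 → P i := stepQ 90140 Q90140 (allL N90140 (tt N112330 (iv1 F480599)) (tt N54435 (iv0 F388666)) (tt N112329 F480590) (tt N77411 F388663) (tt N111198 (iv4 F475192)) (tt N54057 F388664) (tt N87693 F388665) (tt N54056 (iv7 D193073)))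
theorem Q90142 : ∀ i, i < 90142 → P i := stepQ 90141 Q90141 (allL N90141 (tt N54058 (iv1 D193074)) (tt N83264 F388667) (tt N107272 (iv2 F457735)) (tt N114941 F492666) (tt N89140 (iv4 F388669)) (tt N116788 (iv5 F501838)) (tt N96700 (iv6 F413519)) (tt N89139 F388668))
theorem Q90143 : ∀ i, i < 90143 → P i := stepQ 90142 Q90142 (allL N90142 (tt N116923 D220182) (tt N110363 (iv0 F471245)) (tt N116438 (iv2 F500109)) (tt N90888 (iv3 F391173)) (tt N113317 (iv4 F484995)) (tt N54058 (iv5 D193075)) (tt N113369 (iv6 F485214)) (tt N90884 F391153))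
theorem Q90144 : ∀ i, i < 90144 → P i := stepQ 90143 Q90143 (allL N90143 (tt N90145 (iv1 F388674)) (tt N90144 F388683) (tt N90146 (iv2 F388678)) (tt N89328 F388670) (tt N54059 F388671) (tt N84024 (iv5 F388673)) (tt N54058 (iv6 D193076)) (tt N88786 F388672))
theorem Q90145 : ∀ i, i < 90145 → P i := stepQ 90144 Q90144 (allL N90144 (tt N90143 (iv1 F388683)) (tt N54059 (iv0 D193077)) (tt N88872 (iv2 F388677)) (tt N116924 D220183) (tt N72050 (iv4 F450153)) (tt N105414 F450152) (tt N116925 D220184) (tt N116287 (iv7 F499370)))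
theorem Q90146 : ∀ i, i < 90146 → P i := stepQ 90145 Q90145 (allL N90145 (tt N54059 (iv1 D193078)) (tt N90143 F388674) (tt N116287 F499373) (tt N85413 (iv3 F388675)) (tt N72054 (iv4 F449441)) (tt N113866 (iv5 F487532)) (tt N116926 D220185) (tt N88872 F388676))
theorem Q90147 : ∀ i, i < 90147 → P i := stepQ 90146 Q90146 (allL N90146 (tt N116287 (iv1 F499369)) (tt N88872 (iv0 F388684)) (tt N90143 F388678) (tt N54062 F388679) (tt N88786 F388680) (tt N83013 F388681) (tt N89142 F388682) (tt N54059 (iv7 D193079)))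
theorem Q90148 : ∀ i, i < 90148 → P i := stepQ 90147 Q90147 (allL N90147 (tt N71638 F388688) (tt N78404 F388689) (tt N90419 F389580) (tt N70065 F388686) (tt N68793 F388687) (tt N54060 (iv5 D193080)) (tt N68791 F388690) (tt N90420 (iv7 F389582)))
theorem Q90149 : ∀ i, i < 90149 → P i := stepQ 90148 Q90148 (allL N90148 (tt N107701 F459299) (tt N90712 (iv0 F390608)) (tt N113916 (iv2 F487771)) (tt N106177 F453470) (tt N112837 (iv4 F482877)) (tt N91015 F391569) (tt N54060 (iv6 D193081)) (tt N113914 (iv7 F487761)))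
theorem Q90150 : ∀ i, i < 90150 → P i := stepQ 90149 Q90149 (allL N90149 (tt N78404 F388694) (tt N71638 (iv0 F388697)) (tt N90420 F389584) (tt N85993 F388693) (tt N101884 (iv4 F434810)) (tt N54061 (iv5 D193082)) (tt N84094 F388695) (tt N90419 F389581))
theorem Q90151 : ∀ i, i < 90151 → P i := stepQ 90150 Q90150 (allL N90150 (tt N93790 (iv1 F401898)) (tt N74570 F388700) (tt N56930 F388698) (tt N96061 (iv3 F410856)) (tt N76153 F388699) (tt N54063 (iv5 D193083)) (tt N110938 (iv6 F473879)) (tt N93788 (iv7 F401887)))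
theorem Q90152 : ∀ i, i < 90152 → P i := stepQ 90151 Q90151 (allL N90151 (tt N89805 (iv1 F388705)) (tt N89804 F388706) (tt N89806 F388701) (tt N76692 F388702) (tt N76696 F388703) (tt N93788 (iv5 F401889)) (tt N89817 F388704) (tt N54063 (iv7 D193084)))
theorem Q90153 : ∀ i, i < 90153 → P i := stepQ 90152 Q90152 (allL N90152 (tt N78476 (iv1 F388711)) (tt N78469 F388712) (tt N89817 F388707) (tt N96063 (iv3 F410869)) (tt N89062 F388708) (tt N79235 F388709) (tt N89806 F388710) (tt N54064 (iv7 D193085)))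
theorem Q90154 : ∀ i, i < 90154 → P i := stepQ 90153 Q90153 (allL N90153 (tt N54066 (iv1 F388717)) (tt N54065 (iv0 D193086)) (tt N54068 (iv2 F388713)) (tt N57858 F388714) (tt N116909 (iv4 F502450)) (tt N82260 F388715) (tt N93286 (iv6 F400287)) (tt N54067 F388716))
theorem Q90155 : ∀ i, i < 90155 → P i := stepQ 90154 Q90154 (allL N90154 (tt N54068 F420146) (tt N54067 F420147) (tt N54065 (iv2 D193087)) (tt N70146 F388719) (tt N114552 (iv4 F490737)) (tt N85154 F420148) (tt N116410 (iv6 F499961)) (tt N54066 (iv7 F388718)))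
theorem Q90156 : ∀ i, i < 90156 → P i := stepQ 90155 Q90155 (allL N90155 (tt N114550 (iv1 F490730)) (tt N114297 (iv0 F489460)) (tt N114552 (iv2 F490739)) (tt N114442 (iv3 F490188)) (tt N54065 (iv4 D193088)) (tt N114441 F490186) (tt N111186 F475140) (tt N114551 F490735))
theorem Q90157 : ∀ i, i < 90157 → P i := stepQ 90156 Q90156 (allL N90156 (tt N85155 (iv1 F420155)) (tt N84815 F420154) (tt N85154 (iv2 F420149)) (tt N98249 (iv3 F420167)) (tt N116927 D220186) (tt N54065 (iv5 D193089)) (tt N108319 (iv6 F462043)) (tt N85153 F420153))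
theorem Q90158 : ∀ i, i < 90158 → P i := stepQ 90157 Q90157 (allL N90157 (tt N94965 F420156) (tt N116922 (iv0 F502512)) (tt N116410 (iv2 F499956)) (tt N66876 F388720) (tt N111186 (iv4 F475137)) (tt N66875 (iv5 F388721)) (tt N54065 (iv6 D193090)) (tt N116408 (iv7 F499946)))
theorem Q90159 : ∀ i, i < 90159 → P i := stepQ 90158 Q90158 (allL N90158 (tt N54067 F420144) (tt N54068 F420145) (tt N54066 F388722) (tt N98247 (iv3 F420138)) (tt N114551 (iv4 F490733)) (tt N85153 (iv5 F420157)) (tt N116928 D220187) (tt N54065 (iv7 D193091)))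
theorem Q90160 : ∀ i, i < 90160 → P i := stepQ 90159 Q90159 (allL N90159 (tt N114297 (iv1 F489459)) (tt N114550 (iv0 F490731)) (tt N114551 F490734) (tt N111187 F475146) (tt N54066 (iv4 D193092)) (tt N116749 F501627) (tt N116929 D220188) (tt N114552 (iv7 F490736)))
theorem Q90161 : ∀ i, i < 90161 → P i := stepQ 90160 Q90160 (allL N90160 (tt N84815 F409203) (tt N85155 F409204) (tt N85153 F420152) (tt N58708 F388723) (tt N114782 (iv4 F491829)) (tt N54066 (iv5 D193093)) (tt N58705 (iv6 F388724)) (tt N85154 (iv7 F420151)))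
theorem Q90162 : ∀ i, i < 90162 → P i := stepQ 90161 Q90161 (allL N90161 (tt N112836 (iv1 F482874)) (tt N115131 (iv0 F493639)) (tt N116928 (iv2 F502541)) (tt N58709 F388725) (tt N116929 (iv4 F502548)) (tt N58706 F388726) (tt N54066 (iv6 D193094)) (tt N80567 (iv7 F388727)))
theorem Q90163 : ∀ i, i < 90163 → P i := stepQ 90162 Q90162 (allL N90162 (tt N93342 (iv1 F400469)) (tt N70143 (iv0 F388731)) (tt N93286 (iv2 F400286)) (tt N54069 F388730) (tt N116911 (iv4 F502460)) (tt N70124 (iv5 F388739)) (tt N54068 (iv6 D193097)) (tt N93283 (iv7 F400283)))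
theorem Q90164 : ∀ i, i < 90164 → P i := stepQ 90163 Q90163 (allL N90163 (tt N94541 F404896) (tt N54069 (iv0 D193098)) (tt N89833 F388734) (tt N85206 F388735) (tt N72450 F388737) (tt N86077 (iv5 F388733)) (tt N86080 F388732) (tt N89835 F388736))
theorem Q90165 : ∀ i, i < 90165 → P i := stepQ 90164 Q90164 (allL N90164 (tt N54069 (iv1 D193099)) (tt N94541 (iv0 F404895)) (tt N89835 F388746) (tt N66786 (iv3 F388745)) (tt N72451 F388744) (tt N89991 F388743) (tt N93723 (iv6 F401673)) (tt N89833 F388742))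
theorem Q90166 : ∀ i, i < 90166 → P i := stepQ 90165 Q90165 (allL N90165 (tt N98387 F420733) (tt N107603 (iv0 F458901)) (tt N114794 (iv2 F491901)) (tt N54071 (iv3 D193100)) (tt N107265 (iv4 F457703)) (tt N71896 F388747) (tt N78989 F388750) (tt N112871 (iv7 F483069)))
theorem Q90167 : ∀ i, i < 90167 → P i := stepQ 90166 Q90166 (allL N90166 (tt N113914 (iv1 F487762)) (tt N113916 (iv0 F487775)) (tt N107701 (iv2 F459294)) (tt N78989 (iv3 F388749)) (tt N107698 (iv4 F459277)) (tt N78988 F388748) (tt N54071 (iv6 D193101)) (tt N90712 (iv7 F390607)))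
theorem Q90168 : ∀ i, i < 90168 → P i := stepQ 90167 Q90167 (allL N90167 (tt N54161 F388755) (tt N79139 F388753) (tt N80544 F388751) (tt N108398 (iv3 F462410)) (tt N106781 F455656) (tt N54073 (iv5 D193102)) (tt N54075 F388752) (tt N110046 (iv7 F469713)))
theorem Q90169 : ∀ i, i < 90169 → P i := stepQ 90168 Q90168 (allL N90168 (tt N54100 (iv1 F388759)) (tt N54143 F388760) (tt N54142 F388756) (tt N101114 (iv3 F431746)) (tt N79493 F388757) (tt N110046 (iv5 F469714)) (tt N64347 F388758) (tt N54073 (iv7 D193103)))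
theorem Q90170 : ∀ i, i < 90170 → P i := stepQ 90169 Q90169 (allL N90169 (tt N54075 (iv1 D193104)) (tt N54171 F388761) (tt N54111 F388764) (tt N54211 F388765) (tt N90903 (iv4 F391216)) (tt N82662 (iv5 F388763)) (tt N116930 D220189) (tt N54201 F388762))
theorem Q90171 : ∀ i, i < 90171 → P i := stepQ 90170 Q90170 (allL N90170 (tt N103349 F441223) (tt N110185 F470318) (tt N78246 F388766) (tt N106783 (iv3 F455664)) (tt N54075 (iv4 D193105)) (tt N116931 D220190) (tt N106781 (iv6 F455657)) (tt N110184 (iv7 F470309)))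
theorem Q90172 : ∀ i, i < 90172 → P i := stepQ 90171 Q90171 (allL N90171 (tt N54111 (iv1 F388769)) (tt N54201 F388770) (tt N54171 F388767) (tt N114947 (iv3 F492704)) (tt N110184 (iv4 F470310)) (tt N54076 F388768) (tt N71509 (iv6 F388771)) (tt N54075 (iv7 D193106)))
theorem Q90173 : ∀ i, i < 90173 → P i := stepQ 90172 Q90172 (allL N90172 (tt N54078 (iv1 D193107)) (tt N79289 F388772) (tt N89005 (iv2 F388775)) (tt N100152 (iv3 F427727)) (tt N89004 F388774) (tt N95749 (iv5 F409445)) (tt N111088 (iv6 F474602)) (tt N89424 F388773))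
theorem Q90174 : ∀ i, i < 90174 → P i := stepQ 90173 Q90173 (allL N90173 (tt N89005 (iv1 F388781)) (tt N89424 F388782) (tt N79289 F388776) (tt N77584 F388777) (tt N54082 F388778) (tt N80842 F388779) (tt N83232 F388780) (tt N54078 (iv7 D193108)))
theorem Q90175 : ∀ i, i < 90175 → P i := stepQ 90174 Q90174 (allL N90174 (tt N101001 (iv1 F431210)) (tt N101018 (iv0 F431296)) (tt N100845 (iv2 F430735)) (tt N75828 F388783) (tt N116932 D220191) (tt N54079 (iv5 D193109)) (tt N116933 D220192) (tt N100846 (iv7 F430743)))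
theorem Q90176 : ∀ i, i < 90176 → P i := stepQ 90175 Q90175 (allL N90175 (tt N76986 F388785) (tt N107604 (iv0 F458909)) (tt N75829 F388784) (tt N54080 (iv3 D193110)) (tt N64378 F388786) (tt N107214 (iv5 F457480)) (tt N116728 (iv6 F501529)) (tt N100844 (iv7 F430733)))
theorem Q90177 : ∀ i, i < 90177 → P i := stepQ 90176 Q90176 (allL N90176 (tt N101018 (iv1 F431297)) (tt N101001 (iv0 F431209)) (tt N100846 (iv2 F430741)) (tt N107214 (iv3 F457478)) (tt N116934 D220193) (tt N54080 (iv5 D193111)) (tt N107212 (iv6 F457476)) (tt N100845 (iv7 F430736)))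
theorem Q90178 : ∀ i, i < 90178 → P i := stepQ 90177 Q90177 (allL N90177 (tt N83306 (iv1 F388789)) (tt N81970 F430753) (tt N100847 (iv2 F430747)) (tt N116728 (iv3 F501526)) (tt N70535 F388787) (tt N100904 (iv5 F430903)) (tt N54080 (iv6 D193112)) (tt N70532 F388788))
theorem Q90179 : ∀ i, i < 90179 → P i := stepQ 90178 Q90178 (allL N90178 (tt N58995 (iv1 F388792)) (tt N54081 (iv0 D193113)) (tt N64460 (iv2 F388791)) (tt N75832 F388793) (tt N110678 (iv4 F472729)) (tt N64346 F388790) (tt N105062 (iv6 F448619)) (tt N100848 (iv7 F430756)))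
theorem Q90180 : ∀ i, i < 90180 → P i := stepQ 90179 Q90179 (allL N90179 (tt N54081 (iv1 D193114)) (tt N58995 F388794) (tt N100848 (iv2 F430759)) (tt N76204 (iv3 F388797)) (tt N99042 (iv4 F423124)) (tt N64461 F388796) (tt N105515 (iv6 F450534)) (tt N64460 F388795))
theorem Q90181 : ∀ i, i < 90181 → P i := stepQ 90180 Q90180 (allL N90180 (tt N78004 F388800) (tt N78015 F388801) (tt N78014 F388798) (tt N61817 (iv3 F388803)) (tt N54081 (iv4 D193115)) (tt N116935 D220194) (tt N54091 F388799) (tt N62145 F388802))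
theorem Q90182 : ∀ i, i < 90182 → P i := stepQ 90181 Q90181 (allL N90181 (tt N100848 (iv1 F430755)) (tt N64460 (iv0 F388810)) (tt N58995 F388805) (tt N54094 F388806) (tt N62145 F388807) (tt N54082 F388808) (tt N58993 F388809) (tt N54081 (iv7 D193116)))
theorem Q90183 : ∀ i, i < 90183 → P i := stepQ 90182 Q90182 (allL N90182 (tt N98318 F420483) (tt N76283 F388813) (tt N85849 F388811) (tt N83239 F388812) (tt N101359 (iv4 F432772)) (tt N54083 (iv5 D193117)) (tt N101358 F432771) (tt N109562 (iv7 F467536)))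
theorem Q90184 : ∀ i, i < 90184 → P i := stepQ 90183 Q90183 (allL N90183 (tt N78207 F388814) (tt N100462 F429073) (tt N99967 F426999) (tt N100469 (iv3 F429088)) (tt N54084 (iv4 D193118)) (tt N116936 D220195) (tt N116937 D220196) (tt N100463 (iv7 F429078)))
theorem Q90185 : ∀ i, i < 90185 → P i := stepQ 90184 Q90184 (allL N90184 (tt N70312 (iv1 F423515)) (tt N98797 (iv0 F423514)) (tt N99163 F423542) (tt N106042 (iv3 F452859)) (tt N116937 (iv4 F502591)) (tt N106041 (iv5 F452857)) (tt N54084 (iv6 D193119)) (tt N99164 (iv7 F423545)))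
theorem Q90186 : ∀ i, i < 90186 → P i := stepQ 90185 Q90185 (allL N90185 (tt N111276 (iv1 F475592)) (tt N83020 (iv0 F388818)) (tt N109621 (iv2 F467783)) (tt N54088 F388815) (tt N84940 F388816) (tt N116938 D220197) (tt N54086 (iv6 D193120)) (tt N83334 F388817))
theorem Q90187 : ∀ i, i < 90187 → P i := stepQ 90186 Q90186 (allL N90186 (tt N86379 F403437) (tt N101118 (iv0 F431767)) (tt N115117 (iv2 F493569)) (tt N94148 F403436) (tt N100465 (iv4 F429083)) (tt N116939 D220198) (tt N54087 (iv6 D193121)) (tt N108079 (iv7 F461023)))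
theorem Q90188 : ∀ i, i < 90188 → P i := stepQ 90187 Q90187 (allL N90187 (tt N82622 F388821) (tt N82661 (iv0 F388822)) (tt N82663 F388819) (tt N116938 (iv3 F502597)) (tt N116940 D220199) (tt N54088 (iv5 D193122)) (tt N116939 (iv6 F502602)) (tt N82664 F388820))
theorem Q90189 : ∀ i, i < 90189 → P i := stepQ 90188 Q90188 (allL N90188 (tt N114613 (iv1 F491022)) (tt N114401 (iv0 F489970)) (tt N76821 F388823) (tt N116941 D220200) (tt N54089 (iv4 D193123)) (tt N116942 D220201) (tt N106779 (iv6 F455646)) (tt N115118 (iv7 F493574)))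
theorem Q90190 : ∀ i, i < 90190 → P i := stepQ 90189 Q90189 (allL N90189 (tt N114401 (iv1 F489969)) (tt N114613 (iv0 F491021)) (tt N115118 (iv2 F493573)) (tt N56097 F388824) (tt N54090 (iv4 D193124)) (tt N116943 D220202) (tt N116944 D220203) (tt N76821 F388825))
theorem Q90191 : ∀ i, i < 90191 → P i := stepQ 90190 Q90190 (allL N90190 (tt N115062 F493302) (tt N105063 (iv0 F448622)) (tt N115119 (iv2 F493579)) (tt N56105 F388826) (tt N116944 (iv4 F502627)) (tt N105513 (iv5 F450527)) (tt N54090 (iv6 D193125)) (tt N107146 (iv7 F457196)))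
theorem Q90192 : ∀ i, i < 90192 → P i := stepQ 90191 Q90191 (allL N90191 (tt N54091 (iv1 D193126)) (tt N89541 F388827) (tt N89022 (iv2 F388830)) (tt N109828 F468815) (tt N89021 F388829) (tt N116945 D220204) (tt N116946 D220205) (tt N89539 F388828))
theorem Q90193 : ∀ i, i < 90193 → P i := stepQ 90192 Q90192 (allL N90192 (tt N77747 F388834) (tt N77742 (iv0 F388835)) (tt N62144 F388831) (tt N54091 (iv3 D193127)) (tt N54097 F388832) (tt N116947 D220206) (tt N61817 F388833) (tt N102666 (iv7 F438136)))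
theorem Q90194 : ∀ i, i < 90194 → P i := stepQ 90193 Q90193 (allL N90193 (tt N89494 F388837) (tt N116948 D220207) (tt N107661 (iv2 F459130)) (tt N116947 (iv3 F502644)) (tt N116949 D220208) (tt N54091 (iv5 D193128)) (tt N116950 D220209) (tt N113522 F485894))
theorem Q90195 : ∀ i, i < 90195 → P i := stepQ 90194 Q90194 (allL N90194 (tt N94059 (iv1 F403021)) (tt N60059 (iv0 F388843)) (tt N62142 F388838) (tt N54093 (iv3 D193129)) (tt N61817 F388839) (tt N63506 F388840) (tt N54097 F388841) (tt N62146 F388842))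
theorem Q90196 : ∀ i, i < 90196 → P i := stepQ 90195 Q90195 (allL N90195 (tt N55045 F388847) (tt N54377 (iv0 F388848)) (tt N71342 F388844) (tt N54095 (iv3 D193130)) (tt N109602 (iv4 F467679)) (tt N86391 F388845) (tt N111929 (iv6 F478715)) (tt N71341 F388846))
theorem Q90197 : ∀ i, i < 90197 → P i := stepQ 90196 Q90196 (allL N90196 (tt N101890 F434844) (tt N116951 D220210) (tt N79611 F388849) (tt N111929 (iv3 F478712)) (tt N54096 F388850) (tt N97085 (iv5 F415413)) (tt N54095 (iv6 D193131)) (tt N103114 (iv7 F440140)))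
theorem Q90198 : ∀ i, i < 90198 → P i := stepQ 90197 Q90197 (allL N90197 (tt N83280 F388853) (tt N54096 (iv0 D193132)) (tt N83279 F388855) (tt N96004 (iv3 F410595)) (tt N75422 (iv4 F388852)) (tt N106733 (iv5 F455465)) (tt N82789 F388851) (tt N75421 F388854))
theorem Q90199 : ∀ i, i < 90199 → P i := stepQ 90198 Q90198 (allL N90198 (tt N54096 (iv1 D193133)) (tt N83280 F388857) (tt N75421 F388860) (tt N106768 (iv3 F455597)) (tt N75303 F388861) (tt N90388 (iv5 F389478)) (tt N75313 (iv6 F388859)) (tt N83279 F388858))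
theorem Q90200 : ∀ i, i < 90200 → P i := stepQ 90199 Q90199 (allL N90199 (tt N75421 (iv1 F388865)) (tt N83279 F388866) (tt N83280 F388862) (tt N88846 F388863) (tt N103114 (iv4 F440138)) (tt N115945 (iv5 F497710)) (tt N83285 F388864) (tt N54096 (iv7 D193134)))
theorem Q90201 : ∀ i, i < 90201 → P i := stepQ 90200 Q90200 (allL N90200 (tt N71369 F388869) (tt N102720 F438352) (tt N102722 (iv2 F438357)) (tt N54098 F388867) (tt N114921 (iv4 F492542)) (tt N54097 (iv5 D193135)) (tt N102766 F438551) (tt N55039 F388868))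
theorem Q90202 : ∀ i, i < 90202 → P i := stepQ 90201 Q90201 (allL N90201 (tt N65325 F388873) (tt N102763 (iv0 F438532)) (tt N55032 F388870) (tt N102766 F438549) (tt N54926 F388871) (tt N80770 F388872) (tt N54098 (iv6 D193136)) (tt N111512 (iv7 F476656)))
theorem Q90203 : ∀ i, i < 90203 → P i := stepQ 90202 Q90202 (allL N90202 (tt N78356 F388877) (tt N78360 F388878) (tt N54151 F388874) (tt N74013 (iv3 F388879)) (tt N54099 (iv4 D193137)) (tt N74012 F388876) (tt N116952 D220211) (tt N54158 F388875))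
theorem Q90204 : ∀ i, i < 90204 → P i := stepQ 90203 Q90203 (allL N90203 (tt N112950 F483348) (tt N109553 (iv0 F467488)) (tt N54152 F388880) (tt N65033 F388881) (tt N116952 (iv4 F502670)) (tt N82654 F388882) (tt N54099 (iv6 D193138)) (tt N116953 D220212))
theorem Q90205 : ∀ i, i < 90205 → P i := stepQ 90204 Q90204 (allL N90204 (tt N78360 F388885) (tt N78356 F388886) (tt N54158 F388883) (tt N115029 (iv3 F493113)) (tt N54101 (iv4 D193139)) (tt N109345 (iv5 F466491)) (tt N116954 D220213) (tt N54151 F388884))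
theorem Q90206 : ∀ i, i < 90206 → P i := stepQ 90205 Q90205 (allL N90205 (tt N115945 (iv1 F497713)) (tt N54182 (iv0 F388889)) (tt N54159 F388887) (tt N106829 (iv3 F455870)) (tt N116954 (iv4 F502681)) (tt N77278 F388888) (tt N54101 (iv6 D193140)) (tt N115128 (iv7 F493626)))
theorem Q90207 : ∀ i, i < 90207 → P i := stepQ 90206 Q90206 (allL N90206 (tt N54168 (iv1 F388891)) (tt N54102 (iv0 D193141)) (tt N54164 (iv2 F388893)) (tt N116955 D220214) (tt N76931 F388890) (tt N73573 F388892) (tt N107781 (iv6 F459701)) (tt N54165 (iv7 F388894)))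
theorem Q90208 : ∀ i, i < 90208 → P i := stepQ 90207 Q90207 (allL N90207 (tt N54102 (iv1 D193142)) (tt N54168 F388895) (tt N54165 (iv2 F388899)) (tt N99339 F424171) (tt N76895 F388897) (tt N73574 F388898) (tt N99894 (iv6 F426710)) (tt N54164 F388896))
theorem Q90209 : ∀ i, i < 90209 → P i := stepQ 90208 Q90208 (allL N90208 (tt N77476 F388906) (tt N77474 F388905) (tt N54167 F388904) (tt N54102 (iv3 D193143)) (tt N66890 F388900) (tt N54102 (iv5 F388903)) (tt N54116 F388901) (tt N66905 F388902))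
theorem Q90210 : ∀ i, i < 90210 → P i := stepQ 90209 Q90209 (allL N90209 (tt N54193 (iv1 F388910)) (tt N54103 (iv0 D193144)) (tt N54195 (iv2 F388909)) (tt N108343 F462167) (tt N54672 F388908) (tt N84330 F388907) (tt N116956 D220215) (tt N54194 F388911))
theorem Q90211 : ∀ i, i < 90211 → P i := stepQ 90210 Q90210 (allL N90210 (tt N89296 F388913) (tt N89295 F388914) (tt N90918 F391272) (tt N116018 (iv3 F498081)) (tt N54103 (iv4 D193145)) (tt N116957 D220216) (tt N98819 (iv6 F422468)) (tt N54196 F388912))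
theorem Q90212 : ∀ i, i < 90212 → P i := stepQ 90211 Q90211 (allL N90211 (tt N100602 (iv1 F429655)) (tt N98902 (iv0 F422737)) (tt N101290 (iv2 F432550)) (tt N54104 F388915) (tt N98819 (iv4 F422466)) (tt N69989 F388916) (tt N54103 (iv6 D193146)) (tt N98816 (iv7 F422449)))
theorem Q90213 : ∀ i, i < 90213 → P i := stepQ 90212 Q90212 (allL N90212 (tt N54188 (iv1 F388920)) (tt N54187 F388921) (tt N54190 F388917) (tt N98816 (iv3 F422446)) (tt N106930 (iv4 F456322)) (tt N84133 F388918) (tt N54200 F388919) (tt N54104 (iv7 D193147)))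
theorem Q90214 : ∀ i, i < 90214 → P i := stepQ 90213 Q90213 (allL N90213 (tt N89283 F388925) (tt N90949 (iv0 F391351)) (tt N90951 F391357) (tt N57116 (iv3 F388926)) (tt N54105 (iv4 D193148)) (tt N116792 (iv5 F501860)) (tt N57104 F388923) (tt N54175 F388924))
theorem Q90215 : ∀ i, i < 90215 → P i := stepQ 90214 Q90214 (allL N90214 (tt N116958 D220217) (tt N73499 (iv0 F388932)) (tt N57124 (iv2 F388941)) (tt N54106 (iv3 D193149)) (tt N57116 F388927) (tt N87445 F388928) (tt N57110 F388929) (tt N54185 F388930))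
theorem Q90216 : ∀ i, i < 90216 → P i := stepQ 90215 Q90215 (allL N90215 (tt N76598 F388946) (tt N65012 F388947) (tt N89375 F388944) (tt N110640 (iv3 F472546)) (tt N54108 (iv4 D193150)) (tt N116959 D220218) (tt N82085 (iv6 F388952)) (tt N54212 F388945))
theorem Q90217 : ∀ i, i < 90217 → P i := stepQ 90216 Q90216 (allL N90216 (tt N101326 F432666) (tt N71125 (iv0 F388950)) (tt N101410 (iv2 F432885)) (tt N54110 F388948) (tt N82085 F388951) (tt N85610 F388949) (tt N54108 (iv6 D193151)) (tt N101408 (iv7 F432871)))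
theorem Q90218 : ∀ i, i < 90218 → P i := stepQ 90217 Q90217 (allL N90217 (tt N78074 F388956) (tt N116017 (iv0 F498079)) (tt N107156 (iv2 F457230)) (tt N54109 (iv3 D193152)) (tt N110640 (iv4 F472547)) (tt N108185 (iv5 F461434)) (tt N78058 (iv6 F388957)) (tt N54214 F388955))
theorem Q90219 : ∀ i, i < 90219 → P i := stepQ 90218 Q90218 (allL N90218 (tt N116960 D220219) (tt N94592 F405105) (tt N54207 F388958) (tt N78058 F388959) (tt N54110 F388960) (tt N95258 (iv5 F407609)) (tt N54109 (iv6 D193153)) (tt N95257 (iv7 F407601)))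
theorem Q90220 : ∀ i, i < 90220 → P i := stepQ 90219 Q90219 (allL N90219 (tt N54110 (iv1 D193154)) (tt N54210 F388961) (tt N54209 F388965) (tt N78087 (iv3 F388963)) (tt N70216 (iv4 F388964)) (tt N107262 (iv5 F457691)) (tt N107928 (iv6 F460327)) (tt N54208 F388962))
theorem Q90221 : ∀ i, i < 90221 → P i := stepQ 90220 Q90220 (allL N90220 (tt N54209 (iv1 F388970)) (tt N54208 F388971) (tt N54210 F388967) (tt N101408 (iv3 F432870)) (tt N95257 (iv4 F407599)) (tt N85613 F388968) (tt N54219 F388969) (tt N54110 (iv7 D193155)))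
theorem Q90222 : ∀ i, i < 90222 → P i := stepQ 90221 Q90221 (allL N90221 (tt N84990 F388973) (tt N90898 (iv0 F391212)) (tt N90903 F391217) (tt N116961 D220220) (tt N54111 (iv4 D193156)) (tt N116962 D220221) (tt N116963 D220222) (tt N54202 F388972))
theorem Q90223 : ∀ i, i < 90223 → P i := stepQ 90222 Q90222 (allL N90222 (tt N70902 F388976) (tt N116964 D220223) (tt N116930 (iv2 F502550)) (tt N54113 F388974) (tt N116963 (iv4 F502726)) (tt N82666 F388975) (tt N54111 (iv6 D193157)) (tt N116965 D220224))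
theorem Q90224 : ∀ i, i < 90224 → P i := stepQ 90223 Q90223 (allL N90223 (tt N116966 D220225) (tt N77036 (iv0 F388978)) (tt N116967 D220226) (tt N54112 (iv3 D193158)) (tt N116961 (iv4 F502717)) (tt N112307 F480468) (tt N116968 D220227) (tt N54205 F388977))
theorem Q90225 : ∀ i, i < 90225 → P i := stepQ 90224 Q90224 (allL N90224 (tt N107692 F459256) (tt N107753 F459565) (tt N54216 F388979) (tt N116968 (iv3 F502750)) (tt N54113 F388980) (tt N107749 (iv5 F459545)) (tt N54112 (iv6 D193159)) (tt N107748 (iv7 F459539)))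
theorem Q90226 : ∀ i, i < 90226 → P i := stepQ 90225 Q90225 (allL N90225 (tt N54219 F388983) (tt N54113 (iv0 D193160)) (tt N54217 (iv2 F388982)) (tt N99357 (iv3 F424257)) (tt N94940 (iv4 F406430)) (tt N116969 D220228) (tt N71618 F388981) (tt N54218 F388984))
theorem Q90227 : ∀ i, i < 90227 → P i := stepQ 90226 Q90226 (allL N90226 (tt N54218 (iv1 F388990)) (tt N54217 F388991) (tt N54219 F388987) (tt N116965 (iv3 F502734)) (tt N107748 (iv4 F459537)) (tt N82677 F388988) (tt N54210 F388989) (tt N54113 (iv7 D193161)))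
theorem Q90228 : ∀ i, i < 90228 → P i := stepQ 90227 Q90227 (allL N90227 (tt N115924 (iv1 F497605)) (tt N115928 (iv0 F497629)) (tt N70210 F388992) (tt N54114 (iv3 D193162)) (tt N102812 (iv4 F438746)) (tt N114123 (iv5 F488646)) (tt N70209 (iv6 F388994)) (tt N54223 F388993))
theorem Q90229 : ∀ i, i < 90229 → P i := stepQ 90228 Q90228 (allL N90228 (tt N70217 (iv1 F389000)) (tt N70216 F388999) (tt N54222 F388995) (tt N70209 F388996) (tt N83073 F388997) (tt N94648 (iv5 F405359)) (tt N54114 (iv6 D193163)) (tt N70218 (iv7 F388998)))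
theorem Q90230 : ∀ i, i < 90230 → P i := stepQ 90229 Q90229 (allL N90229 (tt N54169 (iv1 F389001)) (tt N54118 (iv0 D193164)) (tt N54233 F422578) (tt N116970 D220229) (tt N114933 (iv4 F492615)) (tt N109321 (iv5 F466377)) (tt N109310 F466333) (tt N54234 F422579))
theorem Q90231 : ∀ i, i < 90231 → P i := stepQ 90230 Q90230 (allL N90230 (tt N54118 (iv1 D193165)) (tt N54169 F389002) (tt N54234 F422575) (tt N71425 F417153) (tt N110430 (iv4 F471546)) (tt N110355 (iv5 F471204)) (tt N71422 (iv6 F417152)) (tt N54233 F422576))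
theorem Q90232 : ∀ i, i < 90232 → P i := stepQ 90231 Q90231 (allL N90231 (tt N54144 F389006) (tt N65038 F389007) (tt N80532 F389003) (tt N100306 (iv3 F428353)) (tt N83914 F389004) (tt N100147 (iv5 F427695)) (tt N54119 (iv6 D193166)) (tt N80638 F389005))
theorem Q90233 : ∀ i, i < 90233 → P i := stepQ 90232 Q90232 (allL N90232 (tt N64677 F389012) (tt N77298 (iv0 F389013)) (tt N80546 F389009) (tt N75862 F389010) (tt N102458 (iv4 F437296)) (tt N54121 (iv5 D193167)) (tt N105505 (iv6 F450498)) (tt N64467 F389011))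
theorem Q90234 : ∀ i, i < 90234 → P i := stepQ 90233 Q90233 (allL N90233 (tt N64433 (iv1 F389018)) (tt N64459 F389019) (tt N64461 F389014) (tt N54373 F389015) (tt N67011 F389016) (tt N100848 (iv5 F430757)) (tt N54121 (iv6 D193168)) (tt N64346 F389017))
theorem Q90235 : ∀ i, i < 90235 → P i := stepQ 90234 Q90234 (allL N90234 (tt N77298 (iv1 F389024)) (tt N64677 (iv0 F389023)) (tt N64467 F389020) (tt N110424 (iv3 F471514)) (tt N102460 (iv4 F437301)) (tt N54122 (iv5 D193169)) (tt N69727 F389021) (tt N80546 F389022))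
theorem Q90236 : ∀ i, i < 90236 → P i := stepQ 90235 Q90235 (allL N90235 (tt N54123 (iv1 D193170)) (tt N64607 F389025) (tt N80548 F389028) (tt N113574 (iv3 F486092)) (tt N102462 (iv4 F437312)) (tt N80607 (iv5 F389027)) (tt N105214 F449232) (tt N80547 F389026))
theorem Q90237 : ∀ i, i < 90237 → P i := stepQ 90236 Q90236 (allL N90236 (tt N80548 (iv1 F389033)) (tt N80547 F389034) (tt N64607 F389029) (tt N54129 F389030) (tt N102476 (iv4 F437363)) (tt N54124 F389031) (tt N70166 F389032) (tt N54123 (iv7 D193171)))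
theorem Q90238 : ∀ i, i < 90238 → P i := stepQ 90237 Q90237 (allL N90237 (tt N77302 F389040) (tt N77301 F389041) (tt N77305 F389038) (tt N103318 (iv3 F441118)) (tt N54125 (iv4 D193172)) (tt N105934 (iv5 F452415)) (tt N106890 (iv6 F456150)) (tt N64697 F389039))
theorem Q90239 : ∀ i, i < 90239 → P i := stepQ 90238 Q90238 (allL N90238 (tt N86373 F389046) (tt N86371 F389047) (tt N77306 F389042) (tt N71987 F389043) (tt N106890 (iv4 F456149)) (tt N77328 F389044) (tt N54125 (iv6 D193173)) (tt N69795 F389045))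
theorem Q90240 : ∀ i, i < 90240 → P i := stepQ 90239 Q90239 (allL N90239 (tt N82980 F389051) (tt N78406 F389052) (tt N82978 F389048) (tt N60652 F389053) (tt N54126 (iv4 D193174)) (tt N98571 (iv5 F421363)) (tt N60650 F389049) (tt N82979 F389050))
theorem Q90241 : ∀ i, i < 90241 → P i := stepQ 90240 Q90240 (allL N90240 (tt N78406 F389056) (tt N82980 F389057) (tt N82979 F389054) (tt N104417 (iv3 F445665)) (tt N54127 (iv4 D193175)) (tt N98570 (iv5 F421359)) (tt N88776 (iv6 F389058)) (tt N82978 F389055))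
theorem Q90242 : ∀ i, i < 90242 → P i := stepQ 90241 Q90241 (allL N90241 (tt N91686 F394032) (tt N91690 F394055) (tt N83299 F389060) (tt N54265 F389061) (tt N88776 F389062) (tt N64736 F389063) (tt N54127 (iv6 D193176)) (tt N94914 (iv7 F406314)))
theorem Q90243 : ∀ i, i < 90243 → P i := stepQ 90242 Q90242 (allL N90242 (tt N83300 (iv1 F389069)) (tt N66007 F389070) (tt N56537 F389064) (tt N56694 F389065) (tt N54129 F389066) (tt N56690 F389067) (tt N56535 F389068) (tt N54128 (iv7 D193177)))
theorem Q90244 : ∀ i, i < 90244 → P i := stepQ 90243 Q90243 (allL N90243 (tt N79139 F389074) (tt N54161 F389073) (tt N110046 (iv2 F469717)) (tt N54369 F389071) (tt N93899 (iv4 F402339)) (tt N54142 (iv5 D193178)) (tt N70918 (iv6 F389075)) (tt N80544 F389072))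
theorem Q90245 : ∀ i, i < 90245 → P i := stepQ 90244 Q90244 (allL N90244 (tt N65038 (iv1 F389080)) (tt N54144 (iv0 D193179)) (tt N80638 (iv2 F389079)) (tt N68025 F389078) (tt N83917 F389077) (tt N68024 F389076) (tt N63502 (iv6 F389082)) (tt N80532 F389081))
theorem Q90246 : ∀ i, i < 90246 → P i := stepQ 90245 Q90245 (allL N90245 (tt N116763 (iv1 F501704)) (tt N106956 F456440) (tt N79180 F389083) (tt N57144 (iv3 F389085)) (tt N54145 (iv4 D193180)) (tt N79179 F389084) (tt N116971 D220230) (tt N106828 (iv7 F455866)))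
theorem Q90247 : ∀ i, i < 90247 → P i := stepQ 90246 Q90246 (allL N90246 (tt N106065 F452967) (tt N116972 D220231) (tt N106827 (iv2 F455862)) (tt N54152 F389086) (tt N116971 (iv4 F502769)) (tt N116973 D220232) (tt N54145 (iv6 D193181)) (tt N116974 D220233))
theorem Q90248 : ∀ i, i < 90248 → P i := stepQ 90247 Q90247 (allL N90247 (tt N64572 F389091) (tt N54146 (iv0 D193182)) (tt N70514 F389092) (tt N54279 F389088) (tt N70494 F389087) (tt N100895 (iv5 F430878)) (tt N54277 (iv6 F389089)) (tt N64485 (iv7 F389090)))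
theorem Q90249 : ∀ i, i < 90249 → P i := stepQ 90248 Q90248 (allL N90248 (tt N54146 (iv1 D193183)) (tt N64572 F389093) (tt N64485 F389097) (tt N112538 (iv3 F481568)) (tt N70517 (iv4 F389095)) (tt N100894 (iv5 F430875)) (tt N64470 (iv6 F389096)) (tt N70514 F389094))
theorem Q90250 : ∀ i, i < 90250 → P i := stepQ 90249 Q90249 (allL N90249 (tt N80604 F389100) (tt N111353 (iv0 F475970)) (tt N82303 F389098) (tt N54154 F389099) (tt N116564 (iv4 F500756)) (tt N54146 (iv5 D193184)) (tt N116973 (iv6 F502776)) (tt N82652 (iv7 F389101)))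
theorem Q90251 : ∀ i, i < 90251 → P i := stepQ 90250 Q90250 (allL N90250 (tt N64485 (iv1 F389107)) (tt N70514 F389108) (tt N64572 F389102) (tt N54155 F389103) (tt N80841 F389104) (tt N82652 F389105) (tt N64459 F389106) (tt N54146 (iv7 D193185)))
theorem Q90252 : ∀ i, i < 90252 → P i := stepQ 90251 Q90251 (allL N90251 (tt N63432 F389115) (tt N63433 (iv0 F389116)) (tt N63651 F389110) (tt N54148 F389111) (tt N70554 F389114) (tt N54147 (iv5 D193186)) (tt N63832 F389112) (tt N63568 F389113))
theorem Q90253 : ∀ i, i < 90253 → P i := stepQ 90252 Q90252 (allL N90252 (tt N72120 F389121) (tt N108228 F461579) (tt N71904 F389117) (tt N97323 (iv3 F416347)) (tt N54150 (iv4 D193187)) (tt N78153 F389118) (tt N56764 F389119) (tt N78344 F389120))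
theorem Q90254 : ∀ i, i < 90254 → P i := stepQ 90253 Q90253 (allL N90253 (tt N108091 (iv1 F461074)) (tt N73478 (iv0 F389190)) (tt N108129 (iv2 F461228)) (tt N54151 (iv3 D193188)) (tt N57144 F389122) (tt N110436 (iv5 F471588)) (tt N110453 (iv6 F471661)) (tt N115029 (iv7 F493115)))
theorem Q90255 : ∀ i, i < 90255 → P i := stepQ 90254 Q90254 (allL N90254 (tt N106949 (iv1 F459530)) (tt N110549 (iv0 F472096)) (tt N116952 (iv2 F502668)) (tt N110453 (iv3 F471660)) (tt N54152 F389123) (tt N116975 D220234) (tt N54151 (iv6 D193189)) (tt N116976 D220235))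
theorem Q90256 : ∀ i, i < 90256 → P i := stepQ 90255 Q90255 (allL N90255 (tt N116953 (iv1 F502678)) (tt N54152 (iv0 D193190)) (tt N112950 (iv2 F483343)) (tt N80087 (iv3 F389126)) (tt N80090 F389127) (tt N84334 F389125) (tt N54187 F389124) (tt N109553 (iv7 F467487)))
theorem Q90257 : ∀ i, i < 90257 → P i := stepQ 90256 Q90256 (allL N90256 (tt N54152 (iv1 D193191)) (tt N116953 F502677) (tt N109553 (iv2 F467483)) (tt N54364 F389131) (tt N116977 D220236) (tt N84333 (iv5 F389130)) (tt N106282 (iv6 F453884)) (tt N112950 (iv7 F483347)))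
theorem Q90258 : ∀ i, i < 90258 → P i := stepQ 90257 Q90257 (allL N90257 (tt N116969 (iv1 F502758)) (tt N113971 (iv0 F488024)) (tt N82654 F389128) (tt N116973 (iv3 F502775)) (tt N92026 (iv4 F395421)) (tt N54152 (iv5 D193192)) (tt N54154 F389129) (tt N115127 (iv7 F493620)))
theorem Q90259 : ∀ i, i < 90259 → P i := stepQ 90258 Q90258 (allL N90258 (tt N109553 (iv1 F467489)) (tt N112950 F483349) (tt N116953 (iv2 F502673)) (tt N116974 (iv3 F502778)) (tt N116976 (iv4 F502783)) (tt N115127 (iv5 F493621)) (tt N115128 (iv6 F493625)) (tt N54152 (iv7 D193193)))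
theorem Q90260 : ∀ i, i < 90260 → P i := stepQ 90259 Q90259 (allL N90259 (tt N77079 F389134) (tt N76969 F389135) (tt N77075 F389132) (tt N116978 D220237) (tt N54154 (iv4 D193194)) (tt N110933 (iv5 F473859)) (tt N92026 (iv6 F395422)) (tt N77076 F389133))
theorem Q90261 : ∀ i, i < 90261 → P i := stepQ 90260 Q90260 (allL N90260 (tt N98810 F422416) (tt N77850 F389138) (tt N65041 F389136) (tt N107679 (iv3 F459201)) (tt N54156 (iv4 D193195)) (tt N98827 F422483) (tt N116979 D220238) (tt N65032 F389137))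
theorem Q90262 : ∀ i, i < 90262 → P i := stepQ 90261 Q90261 (allL N90261 (tt N107138 (iv1 F457154)) (tt N81426 (iv0 F389143)) (tt N65042 F389139) (tt N54159 F389140) (tt N116979 (iv4 F502796)) (tt N59273 F389141) (tt N54156 (iv6 D193196)) (tt N72432 (iv7 F389142)))
theorem Q90263 : ∀ i, i < 90263 → P i := stepQ 90262 Q90262 (allL N90262 (tt N116980 D220239) (tt N89970 (iv0 F423735)) (tt N116954 (iv2 F502679)) (tt N97027 (iv3 F415101)) (tt N54159 F389144) (tt N97025 F415102) (tt N54158 (iv6 D193197)) (tt N116981 D220240))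
theorem Q90264 : ∀ i, i < 90264 → P i := stepQ 90263 Q90263 (allL N90263 (tt N115128 (iv1 F493628)) (tt N54159 (iv0 D193198)) (tt N115945 (iv2 F497708)) (tt N54382 (iv3 F389146)) (tt N108926 F464518) (tt N83280 (iv5 F389147)) (tt N86752 F389145) (tt N54182 (iv7 F389148)))
theorem Q90265 : ∀ i, i < 90265 → P i := stepQ 90264 Q90264 (allL N90264 (tt N95938 F410350) (tt N96282 (iv0 F411865)) (tt N77278 F389149) (tt N59273 F389150) (tt N66505 F389152) (tt N54159 (iv5 D193199)) (tt N54160 F389151) (tt N72431 (iv7 F389153)))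
theorem Q90266 : ∀ i, i < 90266 → P i := stepQ 90265 Q90265 (allL N90265 (tt N54182 (iv1 F389156)) (tt N115945 F497712) (tt N115128 (iv2 F493624)) (tt N72432 F389154) (tt N116981 (iv4 F502807)) (tt N72431 F389155) (tt N116953 (iv6 F502676)) (tt N54159 (iv7 D193200)))
theorem Q90267 : ∀ i, i < 90267 → P i := stepQ 90266 Q90266 (allL N90266 (tt N83186 F389162) (tt N79369 F389163) (tt N69316 F389157) (tt N66038 F389158) (tt N54160 (iv4 D193201)) (tt N69297 F389161) (tt N66505 F389159) (tt N77275 F389160))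
theorem Q90268 : ∀ i, i < 90268 → P i := stepQ 90267 Q90267 (allL N90267 (tt N110046 (iv1 F469712)) (tt N80544 F389167) (tt N54161 (iv2 D193202)) (tt N79144 F389164) (tt N96505 (iv4 F412788)) (tt N79140 F389165) (tt N71429 (iv6 F389168)) (tt N79139 F389166))
theorem Q90269 : ∀ i, i < 90269 → P i := stepQ 90268 Q90268 (allL N90268 (tt N116982 D220241) (tt N94704 (iv0 F405603)) (tt N96505 (iv2 F412787)) (tt N108903 (iv3 F464434)) (tt N54161 (iv4 D193203)) (tt N80948 F389169) (tt N108902 F464432) (tt N110047 (iv7 F469720)))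
theorem Q90270 : ∀ i, i < 90270 → P i := stepQ 90269 Q90269 (allL N90269 (tt N71432 (iv1 F454749)) (tt N71426 (iv0 F389172)) (tt N71429 F389170) (tt N54163 F389171) (tt N108902 (iv4 F464428)) (tt N115339 (iv5 F494672)) (tt N54161 (iv6 D193204)) (tt N71430 (iv7 F389173)))
theorem Q90271 : ∀ i, i < 90271 → P i := stepQ 90270 Q90270 (allL N90270 (tt N110432 F471563) (tt N110434 F471577) (tt N110433 (iv2 F471570)) (tt N54162 (iv3 D193205)) (tt N108903 (iv4 F464435)) (tt N110989 (iv5 F474114)) (tt N107813 F459811) (tt N110050 (iv7 F469735)))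
theorem Q90272 : ∀ i, i < 90272 → P i := stepQ 90271 Q90271 (allL N90271 (tt N112535 F481554) (tt N112533 (iv0 F481544)) (tt N110995 (iv2 F474143)) (tt N107813 (iv3 F459810)) (tt N54163 F389176) (tt N112811 (iv5 F482726)) (tt N54162 (iv6 D193206)) (tt N115348 (iv7 F494717)))
theorem Q90273 : ∀ i, i < 90273 → P i := stepQ 90272 Q90272 (allL N90272 (tt N110994 (iv1 F474142)) (tt N54163 (iv0 D193207)) (tt N110996 F474148) (tt N107912 (iv3 F460248)) (tt N107780 (iv4 F459699)) (tt N116983 D220242) (tt N54218 F389413) (tt N107909 (iv7 F460229)))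
theorem Q90274 : ∀ i, i < 90274 → P i := stepQ 90273 Q90273 (allL N90273 (tt N54163 (iv1 D193208)) (tt N110994 (iv0 F474141)) (tt N107909 (iv2 F460225)) (tt N54398 F389178) (tt N94854 (iv4 F406164)) (tt N105539 (iv5 F450646)) (tt N70904 (iv6 F389177)) (tt N110996 (iv7 F474150)))
theorem Q90275 : ∀ i, i < 90275 → P i := stepQ 90274 Q90274 (allL N90274 (tt N65277 F389182) (tt N62373 F389183) (tt N73573 F389179) (tt N93366 F407417) (tt N65272 F389181) (tt N54164 (iv5 D193210)) (tt N77494 F389184) (tt N73574 F389180))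
theorem Q90276 : ∀ i, i < 90276 → P i := stepQ 90275 Q90275 (allL N90275 (tt N92406 F415371) (tt N90005 (iv0 F389193)) (tt N116984 D220243) (tt N54165 (iv3 D193212)) (tt N108697 (iv4 F463601)) (tt N72840 F389192) (tt N116985 D220244) (tt N116955 (iv7 F502690)))
theorem Q90277 : ∀ i, i < 90277 → P i := stepQ 90276 Q90276 (allL N90276 (tt N62373 F389188) (tt N65277 F389189) (tt N73574 F389185) (tt N72840 (iv3 F389191)) (tt N65271 F389186) (tt N54165 (iv5 D193213)) (tt N107940 (iv6 F460385)) (tt N73573 F389187))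
theorem Q90278 : ∀ i, i < 90278 → P i := stepQ 90277 Q90277 (allL N90277 (tt N57076 F389195) (tt N107169 (iv0 F457308)) (tt N99894 (iv2 F426708)) (tt N116985 (iv3 F502833)) (tt N76930 F389194) (tt N108920 (iv5 F464488)) (tt N54165 (iv6 D193214)) (tt N116986 D220245))
theorem Q90279 : ∀ i, i < 90279 → P i := stepQ 90278 Q90278 (allL N90278 (tt N90015 (iv1 F389208)) (tt N54166 (iv0 D193215)) (tt N116987 D220246) (tt N89999 F389197) (tt N74028 F389196) (tt N108481 (iv5 F462778)) (tt N108502 (iv6 F462874)) (tt N96094 F411021))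
theorem Q90280 : ∀ i, i < 90280 → P i := stepQ 90279 Q90279 (allL N90279 (tt N54166 (iv1 D193216)) (tt N90015 F389210) (tt N96094 (iv2 F411015)) (tt N116679 (iv3 F501272)) (tt N74031 F389198) (tt N93612 F401272) (tt N57079 (iv6 F401273)) (tt N116987 (iv7 F502844)))
theorem Q90281 : ∀ i, i < 90281 → P i := stepQ 90280 Q90280 (allL N90280 (tt N116987 (iv1 F502845)) (tt N96094 F411020) (tt N54166 (iv2 D193217)) (tt N54167 F389199) (tt N54415 F389200) (tt N54166 (iv5 F389202)) (tt N54228 F389201) (tt N90015 F389207))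
theorem Q90282 : ∀ i, i < 90282 → P i := stepQ 90281 Q90281 (allL N90281 (tt N96094 F411019) (tt N116987 F502846) (tt N90015 (iv2 F389206)) (tt N54168 F389203) (tt N54417 F389204) (tt N90015 (iv5 F389209)) (tt N90014 F389205) (tt N54166 (iv7 D193218)))
theorem Q90283 : ∀ i, i < 90283 → P i := stepQ 90282 Q90282 (allL N90282 (tt N66905 (iv1 F389215)) (tt N54167 (iv0 D193219)) (tt N77476 (iv2 F389213)) (tt N72842 F389216) (tt N75511 F389212) (tt N72120 F389211) (tt N99352 (iv6 F424230)) (tt N77474 F389214))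
theorem Q90284 : ∀ i, i < 90284 → P i := stepQ 90283 Q90283 (allL N90283 (tt N77474 (iv1 F389222)) (tt N77476 F389223) (tt N66905 F389217) (tt N90015 F389218) (tt N63184 F389219) (tt N54168 F389220) (tt N63183 F389221) (tt N54167 (iv7 D193220)))
theorem Q90285 : ∀ i, i < 90285 → P i := stepQ 90284 Q90284 (allL N90284 (tt N66898 (iv1 F389230)) (tt N66897 F389231) (tt N66900 F389224) (tt N90014 F389225) (tt N54169 F389226) (tt N77535 F389227) (tt N54168 (iv6 D193221)) (tt N54232 F389228))
theorem Q90286 : ∀ i, i < 90286 → P i := stepQ 90285 Q90285 (allL N90285 (tt N110185 (iv1 F470317)) (tt N103349 (iv0 F441221)) (tt N110184 F470311) (tt N56808 F389232) (tt N54171 (iv4 D193222)) (tt N93720 (iv5 F401663)) (tt N56922 F389233) (tt N78246 F389234))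
theorem Q90287 : ∀ i, i < 90287 → P i := stepQ 90286 Q90286 (allL N90286 (tt N90949 (iv1 F391352)) (tt N89283 F389236) (tt N54175 F389235) (tt N105155 (iv3 F449038)) (tt N54172 (iv4 D193223)) (tt N105159 (iv5 F449059)) (tt N105152 F449024) (tt N90951 (iv7 F391359)))
theorem Q90288 : ∀ i, i < 90288 → P i := stepQ 90287 Q90287 (allL N90287 (tt N93714 (iv1 F401646)) (tt N59194 (iv0 F391417)) (tt N92902 (iv2 F398711)) (tt N93710 (iv3 F401629)) (tt N54174 (iv4 D193224)) (tt N116988 D220247) (tt N116989 D220248) (tt N93715 (iv7 F401649)))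
theorem Q90289 : ∀ i, i < 90289 → P i := stepQ 90288 Q90288 (allL N90288 (tt N106829 F455872) (tt N116990 D220249) (tt N106067 (iv2 F452971)) (tt N94162 F403489) (tt N116989 (iv4 F502851)) (tt N106778 (iv5 F455643)) (tt N54174 (iv6 D193225)) (tt N116991 D220250))
theorem Q90290 : ∀ i, i < 90290 → P i := stepQ 90289 Q90289 (allL N90289 (tt N54175 (iv1 D193226)) (tt N90951 F391358) (tt N89283 (iv2 F389238)) (tt N105380 (iv3 F449973)) (tt N89282 F389237) (tt N105378 (iv5 F449965)) (tt N116992 D220251) (tt N90949 (iv7 F391350)))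
theorem Q90291 : ∀ i, i < 90291 → P i := stepQ 90290 Q90290 (allL N90290 (tt N57127 (iv1 F389245)) (tt N57061 (iv0 F389241)) (tt N57129 (iv2 F389242)) (tt N54175 (iv3 D193227)) (tt N54185 F389239) (tt N89796 F389243) (tt N57115 (iv6 F389244)) (tt N57116 F389240))
theorem Q90292 : ∀ i, i < 90292 → P i := stepQ 90291 Q90291 (allL N90291 (tt N90904 (iv1 F391221)) (tt N94703 (iv0 F406881)) (tt N105159 (iv2 F449057)) (tt N89796 F389247) (tt N111218 (iv4 F475269)) (tt N54175 (iv5 D193228)) (tt N105157 (iv6 F449051)) (tt N116792 (iv7 F501862)))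
theorem Q90293 : ∀ i, i < 90293 → P i := stepQ 90292 Q90292 (allL N90292 (tt N90997 F391511) (tt N105365 (iv0 F449903)) (tt N105152 (iv2 F449018)) (tt N57115 F389248) (tt N54176 F389249) (tt N105151 (iv5 F449015)) (tt N54175 (iv6 D193229)) (tt N57103 F389250))
theorem Q90294 : ∀ i, i < 90294 → P i := stepQ 90293 Q90293 (allL N90293 (tt N116993 D220252) (tt N57826 (iv0 F389255)) (tt N86751 F389252) (tt N73609 F389253) (tt N54180 F389254) (tt N116994 D220253) (tt N54179 (iv6 D193230)) (tt N110897 (iv7 F473665)))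
theorem Q90295 : ∀ i, i < 90295 → P i := stepQ 90294 Q90294 (allL N90294 (tt N86752 F389257) (tt N54180 (iv0 D193231)) (tt N86749 F470343) (tt N112612 (iv3 F481841)) (tt N101510 F433211) (tt N116793 (iv5 F501868)) (tt N83458 F389256) (tt N86750 F470341))
theorem Q90296 : ∀ i, i < 90296 → P i := stepQ 90295 Q90295 (allL N90295 (tt N54180 (iv1 D193232)) (tt N86752 F389258) (tt N86750 (iv2 F470342)) (tt N106228 F454778) (tt N112536 F481559) (tt N85551 (iv5 F389259)) (tt N106226 (iv6 F454779)) (tt N86749 (iv7 F470344)))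
theorem Q90297 : ∀ i, i < 90297 → P i := stepQ 90296 Q90296 (allL N90296 (tt N86750 (iv1 F389262)) (tt N86749 F389263) (tt N86752 F389260) (tt N107246 (iv3 F457634)) (tt N110897 (iv4 F473664)) (tt N86735 F389261) (tt N115945 (iv6 F497711)) (tt N54180 (iv7 D193233)))
theorem Q90298 : ∀ i, i < 90298 → P i := stepQ 90297 Q90297 (allL N90297 (tt N96088 F410987) (tt N103204 (iv0 F440563)) (tt N73603 F389264) (tt N54181 (iv3 D193234)) (tt N54471 F389265) (tt N87340 F389266) (tt N93610 (iv6 F401256)) (tt N86755 F389267))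
theorem Q90299 : ∀ i, i < 90299 → P i := stepQ 90298 Q90298 (allL N90298 (tt N93935 F402485) (tt N93939 (iv0 F445468)) (tt N114197 (iv2 F488947)) (tt N93610 F401254) (tt N54182 F389268) (tt N102139 (iv5 F435908)) (tt N54181 (iv6 D193235)) (tt N108926 (iv7 F464517)))
theorem Q90300 : ∀ i, i < 90300 → P i := stepQ 90299 Q90299 (allL N90299 (tt N73433 F389272) (tt N73441 (iv0 F389273)) (tt N73439 (iv2 F389274)) (tt N54183 (iv3 D193236)) (tt N89971 F389269) (tt N87987 F389270) (tt N94518 F404806) (tt N73438 F389271))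
theorem Q90301 : ∀ i, i < 90301 → P i := stepQ 90300 Q90300 (allL N90300 (tt N101510 F433212) (tt N112536 (iv0 F481558)) (tt N91742 (iv2 F394276)) (tt N94518 F404805) (tt N82903 F389275) (tt N100545 (iv5 F429425)) (tt N54183 (iv6 D193237)) (tt N106302 (iv7 F453948)))
theorem Q90302 : ∀ i, i < 90302 → P i := stepQ 90301 Q90301 (allL N90301 (tt N116954 F502683) (tt N116981 F502809) (tt N89970 F389276) (tt N108939 F464582) (tt N88032 F389277) (tt N111584 (iv5 F477018)) (tt N54184 (iv6 D193238)) (tt N116980 (iv7 F502803)))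
theorem Q90303 : ∀ i, i < 90303 → P i := stepQ 90302 Q90302 (allL N90302 (tt N57124 (iv1 F389278)) (tt N54185 (iv0 D193239)) (tt N73499 (iv2 F389282)) (tt N116995 D220254) (tt N93706 F401621) (tt N116996 D220255) (tt N112643 (iv6 F481966)) (tt N116958 (iv7 F502707)))
theorem Q90304 : ∀ i, i < 90304 → P i := stepQ 90303 Q90303 (allL N90303 (tt N54185 (iv1 D193240)) (tt N57124 F389287) (tt N116958 F502705) (tt N73483 (iv3 F389279)) (tt N73790 (iv4 F389280)) (tt N81258 F459287) (tt N81244 (iv6 F459286)) (tt N73499 F389281))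
theorem Q90305 : ∀ i, i < 90305 → P i := stepQ 90304 Q90304 (allL N90304 (tt N73499 (iv1 F389288)) (tt N116958 F502706) (tt N54185 (iv2 D193241)) (tt N73522 F389283) (tt N57129 F389284) (tt N87444 F389285) (tt N116997 D220256) (tt N57124 F389286))
theorem Q90306 : ∀ i, i < 90306 → P i := stepQ 90305 Q90305 (allL N90305 (tt N116998 D220257) (tt N109272 (iv0 F466114)) (tt N116997 (iv2 F502886)) (tt N54186 F389289) (tt N57115 F389290) (tt N96115 (iv5 F411126)) (tt N54185 (iv6 D193242)) (tt N57109 F389291))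
theorem Q90307 : ∀ i, i < 90307 → P i := stepQ 90306 Q90306 (allL N90306 (tt N71901 (iv1 F389297)) (tt N55377 F389296) (tt N71909 F389292) (tt N62388 F389293) (tt N54187 (iv4 D193243)) (tt N109258 (iv5 F466037)) (tt N80090 F389294) (tt N71908 F389295))
theorem Q90308 : ∀ i, i < 90308 → P i := stepQ 90307 Q90307 (allL N90307 (tt N55377 F389300) (tt N71901 F389301) (tt N71908 F389298) (tt N96085 F410971) (tt N54188 (iv4 D193244)) (tt N99993 (iv5 F427096)) (tt N77517 (iv6 F389302)) (tt N71909 F389299))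
theorem Q90309 : ∀ i, i < 90309 → P i := stepQ 90308 Q90308 (allL N90308 (tt N83455 F389306) (tt N83458 F389308) (tt N77518 F389303) (tt N54488 F389304) (tt N77517 F389305) (tt N110244 (iv5 F470608)) (tt N54188 (iv6 D193245)) (tt N106282 (iv7 F453885)))
theorem Q90310 : ∀ i, i < 90310 → P i := stepQ 90309 Q90309 (allL N90309 (tt N84133 (iv1 F389312)) (tt N54189 (iv0 D193246)) (tt N84131 (iv2 F389310)) (tt N108330 F462095) (tt N62780 F389309) (tt N110048 (iv5 F469721)) (tt N96281 (iv6 F411862)) (tt N84132 F389311))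
theorem Q90311 : ∀ i, i < 90311 → P i := stepQ 90310 Q90310 (allL N90310 (tt N84132 (iv1 F389316)) (tt N84131 F389317) (tt N84133 F389313) (tt N105144 (iv3 F448981)) (tt N103119 (iv4 F440159)) (tt N54190 F389314) (tt N84130 F389315) (tt N54189 (iv7 D193247)))
theorem Q90312 : ∀ i, i < 90312 → P i := stepQ 90311 Q90311 (allL N90311 (tt N101615 (iv1 F433566)) (tt N101613 (iv0 F433550)) (tt N114028 F488267) (tt N100410 (iv3 F428849)) (tt N54192 (iv4 D193248)) (tt N116505 (iv5 F500502)) (tt N109965 (iv6 F469407)) (tt N83274 F389318))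
theorem Q90313 : ∀ i, i < 90313 → P i := stepQ 90312 Q90312 (allL N90312 (tt N116970 F502766) (tt N116999 D220258) (tt N116511 (iv2 F500536)) (tt N54447 F389319) (tt N109965 (iv4 F469406)) (tt N83357 F389320) (tt N54192 (iv6 D193249)) (tt N71486 F389321))
theorem Q90314 : ∀ i, i < 90314 → P i := stepQ 90313 Q90313 (allL N90313 (tt N112612 F481844) (tt N117000 D220259) (tt N116956 (iv2 F502693)) (tt N54452 F389322) (tt N116502 (iv4 F500482)) (tt N88447 F389323) (tt N54195 (iv6 D193250)) (tt N106239 (iv7 F453714)))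
theorem Q90315 : ∀ i, i < 90315 → P i := stepQ 90314 Q90314 (allL N90314 (tt N117001 D220260) (tt N101532 (iv0 F433271)) (tt N117002 D220261) (tt N54196 (iv3 D193251)) (tt N54198 F389324) (tt N117003 D220262) (tt N73461 F389325) (tt N116018 (iv7 F498082)))
theorem Q90316 : ∀ i, i < 90316 → P i := stepQ 90315 Q90315 (allL N90315 (tt N89376 F389326) (tt N90913 (iv0 F391255)) (tt N98823 (iv2 F422479)) (tt N117003 (iv3 F502919)) (tt N112544 (iv4 F481596)) (tt N54196 (iv5 D193252)) (tt N117004 D220263) (tt N116957 (iv7 F502698)))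
theorem Q90317 : ∀ i, i < 90317 → P i := stepQ 90316 Q90316 (allL N90316 (tt N73523 (iv1 F389331)) (tt N73448 F389330) (tt N54198 (iv2 D193253)) (tt N57124 F389327) (tt N117002 (iv4 F502915)) (tt N115557 (iv5 F495775)) (tt N57122 F389328) (tt N73522 F389329))
theorem Q90318 : ∀ i, i < 90318 → P i := stepQ 90317 Q90317 (allL N90317 (tt N96530 (iv1 F412874)) (tt N96328 (iv0 F412066)) (tt N96538 (iv2 F412907)) (tt N73462 F389332) (tt N96670 (iv4 F413377)) (tt N54199 (iv5 D193254)) (tt N116020 (iv6 F498093)) (tt N96537 F412902))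
theorem Q90319 : ∀ i, i < 90319 → P i := stepQ 90318 Q90318 (allL N90318 (tt N90898 (iv1 F391213)) (tt N84990 F389334) (tt N54202 F389333) (tt N117005 D220264) (tt N54201 (iv4 D193255)) (tt N117006 D220265) (tt N117007 D220266) (tt N90903 (iv7 F391219)))
theorem Q90320 : ∀ i, i < 90320 → P i := stepQ 90319 Q90319 (allL N90319 (tt N71112 (iv1 F432883)) (tt N68867 (iv0 F432881)) (tt N54203 F389335) (tt N101410 (iv3 F432886)) (tt N117007 (iv4 F502941)) (tt N101409 (iv5 F432880)) (tt N54201 (iv6 D193256)) (tt N71111 (iv7 F389357)))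
theorem Q90321 : ∀ i, i < 90321 → P i := stepQ 90320 Q90320 (allL N90320 (tt N54202 (iv1 D193257)) (tt N90903 F391218) (tt N84990 (iv2 F389337)) (tt N94705 (iv3 F406878)) (tt N84985 F389336) (tt N94703 F406879) (tt N94704 F406880) (tt N90898 (iv7 F391211)))
theorem Q90322 : ∀ i, i < 90322 → P i := stepQ 90321 Q90321 (allL N90321 (tt N89797 (iv1 F389350)) (tt N78240 (iv0 F389339)) (tt N117008 D220267) (tt N54202 (iv3 D193258)) (tt N54205 F389338) (tt N112837 (iv5 F482878)) (tt N78227 (iv6 F389351)) (tt N116961 (iv7 F502718)))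
theorem Q90323 : ∀ i, i < 90323 → P i := stepQ 90322 Q90322 (allL N90322 (tt N116491 (iv1 F500422)) (tt N117009 D220268) (tt N117006 (iv2 F502933)) (tt N112837 (iv3 F482876)) (tt N109188 (iv4 F465708)) (tt N54202 (iv5 D193259)) (tt N112836 (iv6 F482871)) (tt N116962 (iv7 F502722)))
theorem Q90324 : ∀ i, i < 90324 → P i := stepQ 90323 Q90323 (allL N90323 (tt N101927 F488275) (tt N117010 D220269) (tt N117007 (iv2 F502939)) (tt N78227 F389352) (tt N54203 F389340) (tt N93463 (iv5 F400799)) (tt N54202 (iv6 D193260)) (tt N117011 D220270))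
theorem Q90325 : ∀ i, i < 90325 → P i := stepQ 90324 Q90324 (allL N90324 (tt N54203 (iv1 D193262)) (tt N71111 F389358) (tt N68867 (iv2 F389359)) (tt N71118 F389360) (tt N74231 F389361) (tt N106243 (iv5 F453730)) (tt N71676 F389362) (tt N71112 F389355))
theorem Q90326 : ∀ i, i < 90326 → P i := stepQ 90325 Q90325 (allL N90325 (tt N68867 (iv1 F432882)) (tt N71112 F432884) (tt N71111 F389356) (tt N54210 F389341) (tt N117011 (iv4 F502962)) (tt N101920 (iv5 F434948)) (tt N116965 (iv6 F502736)) (tt N54203 (iv7 D193263)))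
theorem Q90327 : ∀ i, i < 90327 → P i := stepQ 90326 Q90326 (allL N90326 (tt N116967 (iv1 F502748)) (tt N54205 (iv0 D193264)) (tt N77036 (iv2 F389344)) (tt N110440 (iv3 F471596)) (tt N91702 F394095) (tt N87442 F389349) (tt N77041 F389345) (tt N116966 (iv7 F502743)))
theorem Q90328 : ∀ i, i < 90328 → P i := stepQ 90327 Q90327 (allL N90327 (tt N54205 (iv1 D193265)) (tt N116967 F502749) (tt N116966 F502741) (tt N76175 (iv3 F389342)) (tt N110024 (iv4 F469601)) (tt N87443 (iv5 F389459)) (tt N110434 (iv6 F471576)) (tt N77036 F389343))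
theorem Q90329 : ∀ i, i < 90329 → P i := stepQ 90328 Q90328 (allL N90328 (tt N77036 F419976) (tt N116966 F502742) (tt N54205 (iv2 D193266)) (tt N107156 (iv3 F457231)) (tt N117008 (iv4 F502945)) (tt N112308 F480472) (tt N89761 (iv6 F389366)) (tt N116967 (iv7 F502747)))
theorem Q90330 : ∀ i, i < 90330 → P i := stepQ 90329 Q90329 (allL N90329 (tt N112105 (iv1 F479503)) (tt N108159 (iv0 F461342)) (tt N112308 (iv2 F480473)) (tt N54206 F389346) (tt N115954 (iv4 F497756)) (tt N54205 (iv5 D193267)) (tt N117012 D220271) (tt N112307 F480469))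
theorem Q90331 : ∀ i, i < 90331 → P i := stepQ 90330 Q90330 (allL N90330 (tt N101770 (iv1 F434266)) (tt N78066 F389365) (tt N89761 F389363) (tt N54207 F389347) (tt N78227 F389353) (tt N89049 (iv5 F389348)) (tt N54205 (iv6 D193268)) (tt N89764 F389364))
theorem Q90332 : ∀ i, i < 90332 → P i := stepQ 90331 Q90331 (allL N90331 (tt N108148 F461308) (tt N108147 F491945) (tt N114116 (iv2 F488610)) (tt N117012 (iv3 F502966)) (tt N55025 F389367) (tt N117013 D220272) (tt N54206 (iv6 D193269)) (tt N117014 D220273))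
theorem Q90333 : ∀ i, i < 90333 → P i := stepQ 90332 Q90332 (allL N90332 (tt N95257 F407604) (tt N54207 (iv0 D193270)) (tt N116960 F502714) (tt N57728 F407605) (tt N104963 (iv4 F448164)) (tt N110188 (iv5 F470334)) (tt N109283 (iv6 F466178)) (tt N94592 F407606))
theorem Q90334 : ∀ i, i < 90334 → P i := stepQ 90333 Q90333 (allL N90333 (tt N54207 (iv1 D193271)) (tt N95257 (iv0 F407602)) (tt N94592 F405201) (tt N111130 (iv3 F474834)) (tt N104962 (iv4 F448160)) (tt N71307 (iv5 F405200)) (tt N116614 (iv6 F500981)) (tt N116960 (iv7 F502716)))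
theorem Q90335 : ∀ i, i < 90335 → P i := stepQ 90334 Q90334 (allL N90334 (tt N73004 F389370) (tt N95256 F407596) (tt N95258 (iv2 F407607)) (tt N89049 F389368) (tt N90336 F389375) (tt N54207 (iv5 D193272)) (tt N117013 (iv6 F502971)) (tt N89763 (iv7 F389369)))
theorem Q90336 : ∀ i, i < 90336 → P i := stepQ 90335 Q90335 (allL N90335 (tt N94592 F405104) (tt N116960 F502715) (tt N95257 (iv2 F407597)) (tt N89764 F389371) (tt N54210 F389372) (tt N89763 F389373) (tt N107748 (iv6 F459538)) (tt N54207 (iv7 D193273)))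
theorem Q90337 : ∀ i, i < 90337 → P i := stepQ 90336 Q90336 (allL N90336 (tt N96715 F413588) (tt N109898 F469130) (tt N101241 (iv2 F432361)) (tt N82574 F389374) (tt N90334 (iv4 F389375)) (tt N54208 (iv5 D193274)) (tt N101217 (iv6 F432249)) (tt N107262 (iv7 F457692)))
theorem Q90338 : ∀ i, i < 90338 → P i := stepQ 90337 Q90337 (allL N90337 (tt N54222 F389379) (tt N70218 F389380) (tt N70216 F389376) (tt N93949 (iv3 F402553)) (tt N54209 (iv4 D193275)) (tt N85644 F389378) (tt N93942 (iv6 F402507)) (tt N70217 F389377))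
theorem Q90339 : ∀ i, i < 90339 → P i := stepQ 90338 Q90338 (allL N90338 (tt N109898 F469129) (tt N96715 (iv0 F413587)) (tt N107262 (iv2 F457689)) (tt N54521 F389381) (tt N58332 (iv4 F389383)) (tt N54209 (iv5 D193276)) (tt N58331 F389382) (tt N101241 (iv7 F432364)))
theorem Q90340 : ∀ i, i < 90340 → P i := stepQ 90339 Q90339 (allL N90339 (tt N113323 (iv1 F485026)) (tt N109310 (iv0 F466331)) (tt N107928 (iv2 F460325)) (tt N54522 F389384) (tt N93942 (iv4 F402505)) (tt N95938 (iv5 F410348)) (tt N54209 (iv6 D193277)) (tt N71646 (iv7 F389385)))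
theorem Q90341 : ∀ i, i < 90341 → P i := stepQ 90340 Q90340 (allL N90340 (tt N65012 F389388) (tt N76598 F389389) (tt N54212 F389386) (tt N117015 D220274) (tt N54211 (iv4 D193278)) (tt N117016 D220275) (tt N110708 F482121) (tt N89375 F389387))
theorem Q90342 : ∀ i, i < 90342 → P i := stepQ 90341 Q90341 (allL N90341 (tt N71471 F389391) (tt N117017 D220276) (tt N54213 F389390) (tt N116930 (iv3 F502551)) (tt N110708 F482119) (tt N112036 (iv5 F479190)) (tt N54211 (iv6 D193279)) (tt N117018 D220277))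
theorem Q90343 : ∀ i, i < 90343 → P i := stepQ 90342 Q90342 (allL N90342 (tt N117019 D220278) (tt N110806 (iv0 F485496)) (tt N117020 D220279) (tt N54212 (iv3 D193280)) (tt N54214 F389392) (tt N117021 D220280) (tt N107427 F458300) (tt N110640 (iv7 F472548)))
theorem Q90344 : ∀ i, i < 90344 → P i := stepQ 90343 Q90343 (allL N90343 (tt N116497 (iv1 F500452)) (tt N113477 (iv0 F485673)) (tt N117016 (iv2 F502981)) (tt N117021 (iv3 F503003)) (tt N112554 (iv4 F481633)) (tt N54212 (iv5 D193281)) (tt N117022 D220281) (tt N116959 (iv7 F502709)))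
theorem Q90345 : ∀ i, i < 90345 → P i := stepQ 90344 Q90344 (allL N90344 (tt N110709 (iv1 F472852)) (tt N110608 (iv0 F472377)) (tt N110708 (iv2 F482118)) (tt N107427 F458299) (tt N54213 F389393) (tt N107426 (iv5 F458302)) (tt N54212 (iv6 D193282)) (tt N105891 (iv7 F452211)))
theorem Q90346 : ∀ i, i < 90346 → P i := stepQ 90345 Q90345 (allL N90345 (tt N117018 (iv1 F502997)) (tt N54213 (iv0 D193283)) (tt N71471 (iv2 F389395)) (tt N117023 D220282) (tt N98918 (iv4 F422782)) (tt N111969 (iv5 F478903)) (tt N71469 F389394) (tt N117017 (iv7 F502986)))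
theorem Q90347 : ∀ i, i < 90347 → P i := stepQ 90346 Q90346 (allL N90346 (tt N54213 (iv1 D193284)) (tt N117018 F502996) (tt N117017 (iv2 F502990)) (tt N71474 (iv3 F389397)) (tt N117024 D220283) (tt N111970 F478908) (tt N117025 D220284) (tt N71471 F389396))
theorem Q90348 : ∀ i, i < 90348 → P i := stepQ 90347 Q90347 (allL N90347 (tt N117017 (iv1 F502985)) (tt N71471 (iv0 F448998)) (tt N117018 (iv2 F502992)) (tt N54219 F389398) (tt N105891 (iv4 F452210)) (tt N114003 (iv5 F488149)) (tt N101408 F432875) (tt N54213 (iv7 D193285)))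
theorem Q90349 : ∀ i, i < 90349 → P i := stepQ 90348 Q90348 (allL N90348 (tt N107156 F457233) (tt N54214 (iv0 D193286)) (tt N116017 (iv2 F498073)) (tt N57735 F389399) (tt N77882 F389400) (tt N73535 (iv5 F389402)) (tt N74005 F400554) (tt N78074 (iv7 F389401)))
theorem Q90350 : ∀ i, i < 90350 → P i := stepQ 90349 Q90349 (allL N90349 (tt N54214 (iv1 D193287)) (tt N107156 F457234) (tt N78074 F456244) (tt N111791 (iv3 F477992)) (tt N106910 (iv4 F456243)) (tt N116014 (iv5 F498054)) (tt N99331 F456245) (tt N116017 (iv7 F498076)))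
theorem Q90351 : ∀ i, i < 90351 → P i := stepQ 90350 Q90350 (allL N90350 (tt N116017 (iv1 F498077)) (tt N78074 F389403) (tt N54214 (iv2 D193288)) (tt N116967 (iv3 F502745)) (tt N117020 (iv4 F503001)) (tt N108184 (iv5 F461425)) (tt N94994 F406591) (tt N107156 (iv7 F457232)))
theorem Q90352 : ∀ i, i < 90352 → P i := stepQ 90351 Q90351 (allL N90351 (tt N79433 F406288) (tt N108182 (iv0 F461420)) (tt N108184 (iv2 F461428)) (tt N54215 F389404) (tt N79217 F461429) (tt N54214 (iv5 D193289)) (tt N94906 (iv6 F406284)) (tt N108185 (iv7 F461432)))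
theorem Q90353 : ∀ i, i < 90353 → P i := stepQ 90352 Q90352 (allL N90352 (tt N107748 F459540) (tt N54216 (iv0 D193290)) (tt N107692 (iv2 F459252)) (tt N82051 F458296) (tt N106940 (iv4 F458297)) (tt N95194 (iv5 F459541)) (tt N106939 (iv6 F458298)) (tt N107753 (iv7 F459566)))
theorem Q90354 : ∀ i, i < 90354 → P i := stepQ 90353 Q90353 (allL N90353 (tt N54216 (iv1 D193291)) (tt N107748 F459542) (tt N107753 F459564) (tt N94598 (iv3 F459258)) (tt N113017 (iv4 F483574)) (tt N117026 D220285) (tt N112535 F481555) (tt N107692 F459257))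
theorem Q90355 : ∀ i, i < 90355 → P i := stepQ 90354 Q90354 (allL N90354 (tt N70219 F389406) (tt N54225 F389430) (tt N94940 (iv2 F406428)) (tt N107901 (iv3 F460191)) (tt N54217 (iv4 D193292)) (tt N117027 D220286) (tt N71619 F389405) (tt N107771 (iv7 F459654)))
theorem Q90356 : ∀ i, i < 90356 → P i := stepQ 90355 Q90355 (allL N90355 (tt N115127 F493623) (tt N82654 (iv0 F417154)) (tt N116969 (iv2 F502754)) (tt N54537 F389407) (tt N86026 (iv4 F389408)) (tt N54217 (iv5 D193293)) (tt N113994 (iv6 F488103)) (tt N113971 (iv7 F488022)))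
theorem Q90357 : ∀ i, i < 90357 → P i := stepQ 90356 Q90356 (allL N90356 (tt N54225 (iv1 F389411)) (tt N70219 (iv0 F389410)) (tt N107771 (iv2 F459656)) (tt N82340 F389409) (tt N54218 (iv4 D193294)) (tt N117028 D220287) (tt N107780 F459697) (tt N94940 F406433))
theorem Q90358 : ∀ i, i < 90358 → P i := stepQ 90357 Q90357 (allL N90357 (tt N82654 F389412) (tt N115127 (iv0 F493622)) (tt N113971 (iv2 F488018)) (tt N108424 F462506) (tt N113508 (iv4 F485829)) (tt N54218 (iv5 D193295)) (tt N82692 (iv6 F389414)) (tt N116969 (iv7 F502756)))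
theorem Q90359 : ∀ i, i < 90359 → P i := stepQ 90358 Q90358 (allL N90358 (tt N117029 D220288) (tt N117030 D220289) (tt N114124 (iv2 F488651)) (tt N94506 (iv3 F404754)) (tt N55096 F389415) (tt N94649 (iv5 F405365)) (tt N54221 (iv6 D193296)) (tt N111416 (iv7 F476250)))
theorem Q90360 : ∀ i, i < 90360 → P i := stepQ 90359 Q90359 (allL N90359 (tt N70210 (iv1 F389416)) (tt N54223 (iv0 D193297)) (tt N115928 (iv2 F497626)) (tt N117031 D220290) (tt N92400 F404840) (tt N115926 (iv5 F497617)) (tt N92406 (iv6 F404839)) (tt N115924 F497608))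
theorem Q90361 : ∀ i, i < 90361 → P i := stepQ 90360 Q90360 (allL N90360 (tt N115928 F497630) (tt N115924 (iv0 F497606)) (tt N54223 (iv2 D193299)) (tt N70212 F389417) (tt N102814 (iv4 F438756)) (tt N108215 (iv5 F461525)) (tt N99309 (iv6 F424044)) (tt N70210 F389418))
theorem Q90362 : ∀ i, i < 90362 → P i := stepQ 90361 Q90361 (allL N90361 (tt N92506 (iv1 F438750)) (tt N102811 F438758) (tt N102814 (iv2 F438754)) (tt N115353 (iv3 F494744)) (tt N54223 (iv4 D193300)) (tt N117032 D220291) (tt N108723 (iv6 F463700)) (tt N102812 F438749))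
theorem Q90363 : ∀ i, i < 90363 → P i := stepQ 90362 Q90362 (allL N90362 (tt N64992 F433266) (tt N117033 D220292) (tt N108215 (iv2 F461524)) (tt N54224 F389420) (tt N117034 D220293) (tt N54223 (iv5 D193301)) (tt N111417 (iv6 F476255)) (tt N114123 (iv7 F488647)))
theorem Q90364 : ∀ i, i < 90364 → P i := stepQ 90363 Q90363 (allL N90363 (tt N94805 (iv1 F407151)) (tt N107769 F459646) (tt N99309 (iv2 F424041)) (tt N54225 F389421) (tt N108723 (iv4 F463698)) (tt N91839 F394638) (tt N54223 (iv6 D193302)) (tt N107770 (iv7 F459651)))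
theorem Q90365 : ∀ i, i < 90365 → P i := stepQ 90364 Q90364 (allL N90364 (tt N111393 F476153) (tt N108237 (iv0 F461631)) (tt N64993 F389422) (tt N111417 (iv3 F476253)) (tt N55387 F389423) (tt N79802 (iv5 F389424)) (tt N54224 (iv6 D193303)) (tt N111414 (iv7 F476238)))
theorem Q90366 : ∀ i, i < 90366 → P i := stepQ 90365 Q90365 (allL N90365 (tt N117035 D220294) (tt N111830 (iv0 F478193)) (tt N79803 F389425) (tt N91839 (iv3 F394635)) (tt N81764 (iv4 F389427)) (tt N54225 (iv5 D193305)) (tt N79802 F389426) (tt N117036 D220295))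
theorem Q90367 : ∀ i, i < 90367 → P i := stepQ 90366 Q90366 (allL N90366 (tt N107771 (iv1 F459653)) (tt N94940 (iv0 F406431)) (tt N70219 F389428) (tt N107770 (iv3 F459647)) (tt N106499 (iv4 F454670)) (tt N117036 (iv5 F503075)) (tt N70218 F389429) (tt N54225 (iv7 D193306)))
theorem Q90368 : ∀ i, i < 90368 → P i := stepQ 90367 Q90367 (allL N90367 (tt N54227 (iv1 F389436)) (tt N54226 (iv0 D193307)) (tt N54230 (iv2 F389431)) (tt N66849 F389432) (tt N54557 F389433) (tt N115916 (iv5 F497571)) (tt N66858 F389434) (tt N54228 F389435))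
theorem Q90369 : ∀ i, i < 90369 → P i := stepQ 90368 Q90368 (allL N90368 (tt N54230 (iv1 F389444)) (tt N54228 F389443) (tt N54226 (iv2 D193308)) (tt N107149 (iv3 F457202)) (tt N92647 F397746) (tt N115620 (iv5 F496002)) (tt N103968 (iv6 F443565)) (tt N54227 (iv7 F389437)))
theorem Q90370 : ∀ i, i < 90370 → P i := stepQ 90369 Q90369 (allL N90369 (tt N79971 (iv1 F397741)) (tt N92648 F397752) (tt N92647 (iv2 F397748)) (tt N89919 F389438) (tt N54226 (iv4 D193309)) (tt N111231 (iv5 F475340)) (tt N69440 (iv6 F397742)) (tt N92646 F397740))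
theorem Q90371 : ∀ i, i < 90371 → P i := stepQ 90370 Q90370 (allL N90370 (tt N108234 (iv1 F461614)) (tt N88025 (iv0 F401526)) (tt N115620 F496003) (tt N116691 (iv3 F501321)) (tt N117037 D220296) (tt N54226 (iv5 D193310)) (tt N117038 D220297) (tt N115619 F496000))
theorem Q90372 : ∀ i, i < 90372 → P i := stepQ 90371 Q90371 (allL N90371 (tt N78084 F397744) (tt N93949 F402556) (tt N103968 (iv2 F443563)) (tt N114544 (iv3 F490699)) (tt N69440 F397743) (tt N98252 (iv5 F420184)) (tt N54226 (iv6 D193311)) (tt N103966 (iv7 F443555)))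
theorem Q90373 : ∀ i, i < 90373 → P i := stepQ 90372 Q90372 (allL N90372 (tt N54228 F389441) (tt N54230 F389442) (tt N54227 F389439) (tt N86266 F389440) (tt N92646 (iv4 F397738)) (tt N115619 (iv5 F495997)) (tt N107903 (iv6 F460198)) (tt N54226 (iv7 D193312)))
theorem Q90374 : ∀ i, i < 90374 → P i := stepQ 90373 Q90373 (allL N90373 (tt N117039 D220298) (tt N78077 (iv0 F397754)) (tt N107768 (iv2 F459640)) (tt N54227 (iv3 D193313)) (tt N91568 (iv4 F393679)) (tt N108212 (iv5 F461513)) (tt N107165 F457283) (tt N107149 F457203))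
theorem Q90375 : ∀ i, i < 90375 → P i := stepQ 90374 Q90374 (allL N90374 (tt N92648 (iv1 F397753)) (tt N79971 F389445) (tt N92646 F397739) (tt N87198 (iv3 F389446)) (tt N54227 (iv4 D193314)) (tt N111767 (iv5 F477870)) (tt N99644 F447728) (tt N92647 (iv7 F397745)))
theorem Q90376 : ∀ i, i < 90376 → P i := stepQ 90375 Q90375 (allL N90375 (tt N88025 F389447) (tt N108234 (iv0 F461615)) (tt N115619 F495998) (tt N108212 F461516) (tt N117040 D220299) (tt N54227 (iv5 D193315)) (tt N117041 D220300) (tt N115620 (iv7 F496001)))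
theorem Q90377 : ∀ i, i < 90377 → P i := stepQ 90376 Q90376 (allL N90376 (tt N107901 (iv1 F460193)) (tt N107171 (iv0 F457319)) (tt N107903 (iv2 F460197)) (tt N107165 (iv3 F457279)) (tt N99644 (iv4 F447729)) (tt N112639 (iv5 F481952)) (tt N54227 (iv6 D193316)) (tt N107762 (iv7 F459616)))
theorem Q90378 : ∀ i, i < 90378 → P i := stepQ 90377 Q90377 (allL N90377 (tt N115915 F497569) (tt N115914 F497561) (tt N54229 F389448) (tt N54231 F389449) (tt N117042 D220301) (tt N54228 (iv5 D193317)) (tt N54229 F389450) (tt N115916 (iv7 F497572)))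
theorem Q90379 : ∀ i, i < 90379 → P i := stepQ 90378 Q90378 (allL N90378 (tt N115916 (iv1 F497573)) (tt N54229 (iv0 D193318)) (tt N115915 F497566) (tt N112214 (iv3 F480081)) (tt N117043 D220302) (tt N96088 F410988) (tt N94427 (iv6 F410989)) (tt N115914 F497562))
theorem Q90380 : ∀ i, i < 90380 → P i := stepQ 90379 Q90379 (allL N90379 (tt N54229 (iv1 D193319)) (tt N115916 F497574) (tt N115914 F497563) (tt N117044 D220303) (tt N117045 D220304) (tt N103204 (iv5 F461585)) (tt N117046 D220305) (tt N115915 (iv7 F497564)))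
theorem Q90381 : ∀ i, i < 90381 → P i := stepQ 90380 Q90380 (allL N90380 (tt N117047 D220306) (tt N117048 D220307) (tt N117042 (iv2 F503096)) (tt N87435 F389451) (tt N54229 (iv4 D193320)) (tt N97901 F418721) (tt N117042 (iv6 F503099)) (tt N115917 (iv7 F497576)))
theorem Q90382 : ∀ i, i < 90382 → P i := stepQ 90381 Q90381 (allL N90381 (tt N55391 (iv1 F389454)) (tt N54231 (iv0 D193321)) (tt N110134 (iv2 F470117)) (tt N117049 D220308) (tt N81172 F389453) (tt N73602 F389452) (tt N117050 D220309) (tt N99590 (iv7 F425307)))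
theorem Q90383 : ∀ i, i < 90383 → P i := stepQ 90382 Q90382 (allL N90382 (tt N54231 (iv1 D193322)) (tt N55391 F389455) (tt N99590 (iv2 F425306)) (tt N105366 (iv3 F449904)) (tt N87333 F389457) (tt N73570 F389456) (tt N117051 D220310) (tt N110134 (iv7 F470120)))
theorem Q90384 : ∀ i, i < 90384 → P i := stepQ 90383 Q90383 (allL N90383 (tt N99590 (iv1 F425310)) (tt N110134 (iv0 F470121)) (tt N55391 F389461) (tt N115916 (iv3 F497570)) (tt N87438 F389462) (tt N66849 F389463) (tt N115920 (iv6 F497590)) (tt N54231 (iv7 D193323)))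
theorem Q90385 : ∀ i, i < 90385 → P i := stepQ 90384 Q90384 (allL N90384 (tt N66900 (iv1 F389465)) (tt N54232 (iv0 D193324)) (tt N66897 F389467) (tt N72607 F389464) (tt N99361 (iv4 F424274)) (tt N110482 (iv5 F471786)) (tt N93940 (iv6 F402495)) (tt N66898 (iv7 F389466)))
theorem Q90386 : ∀ i, i < 90386 → P i := stepQ 90385 Q90385 (allL N90385 (tt N54232 (iv1 D193325)) (tt N66900 F389469) (tt N66898 (iv2 F389471)) (tt N90001 (iv3 F389472)) (tt N102673 (iv4 F438155)) (tt N110481 (iv5 F471782)) (tt N94665 (iv6 F405439)) (tt N66897 F389470))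
theorem Q90387 : ∀ i, i < 90387 → P i := stepQ 90386 Q90386 (allL N90386 (tt N89038 F405363) (tt N110219 (iv0 F470486)) (tt N66899 F389473) (tt N86137 F389474) (tt N98247 (iv4 F420139)) (tt N54232 (iv5 D193326)) (tt N115919 (iv6 F497583)) (tt N77535 F389475))
theorem Q90388 : ∀ i, i < 90388 → P i := stepQ 90387 Q90387 (allL N90387 (tt N70918 F394265) (tt N71509 (iv0 F389477)) (tt N71508 F422580) (tt N54233 (iv3 D193328)) (tt N114463 F490311) (tt N110394 (iv5 F471377)) (tt N71675 F453665) (tt N71425 F422577))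
theorem Q90389 : ∀ i, i < 90389 → P i := stepQ 90388 Q90388 (allL N90388 (tt N107928 F460331) (tt N71646 (iv0 F389479)) (tt N109310 (iv2 F466328)) (tt N71675 (iv3 F453666)) (tt N115028 (iv4 F493109)) (tt N90198 F389478) (tt N54233 (iv6 D193329)) (tt N113323 (iv7 F485024)))
theorem Q90390 : ∀ i, i < 90390 → P i := stepQ 90389 Q90389 (allL N90389 (tt N116511 F500541) (tt N71486 (iv0 F389482)) (tt N116999 (iv2 F502903)) (tt N54234 (iv3 D193331)) (tt N76609 F389481) (tt N105666 (iv5 F451161)) (tt N71468 F400889) (tt N116970 (iv7 F502763)))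
theorem Q90391 : ∀ i, i < 90391 → P i := stepQ 90390 Q90390 (allL N90390 (tt N83355 (iv1 F389485)) (tt N77367 (iv0 F389484)) (tt N110355 (iv2 F471201)) (tt N105666 (iv3 F451160)) (tt N90887 (iv4 F391171)) (tt N54234 (iv5 D193332)) (tt N83343 F389483) (tt N109321 (iv7 F466378)))
theorem Q90392 : ∀ i, i < 90392 → P i := stepQ 90391 Q90391 (allL N90391 (tt N70904 F389486) (tt N71618 F389487) (tt N71422 F422574) (tt N71468 (iv3 F400887)) (tt N99311 (iv4 F424052)) (tt N102349 (iv5 F436849)) (tt N54234 (iv6 D193333)) (tt N71617 F422573))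
theorem Q90393 : ∀ i, i < 90393 → P i := stepQ 90392 Q90392 (allL N90392 (tt N64673 F389490) (tt N64672 F389492) (tt N54245 F389488) (tt N111810 (iv3 F478090)) (tt N84953 (iv4 F389491)) (tt N54235 (iv5 D193334)) (tt N105518 (iv6 F450549)) (tt N54249 F389489))
theorem Q90394 : ∀ i, i < 90394 → P i := stepQ 90393 Q90393 (allL N90393 (tt N54236 (iv1 D193335)) (tt N54253 F389493) (tt N54251 F389497) (tt N64278 (iv3 F389495)) (tt N70446 F389498) (tt N78614 (iv5 F389496)) (tt N94913 (iv6 F406307)) (tt N54250 F389494))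
theorem Q90395 : ∀ i, i < 90395 → P i := stepQ 90394 Q90394 (allL N90394 (tt N92160 (iv1 F396035)) (tt N92163 F396042) (tt N54252 F389499) (tt N102846 (iv3 F438913)) (tt N54236 (iv4 D193336)) (tt N114474 (iv5 F490367)) (tt N91782 F394395) (tt N92162 (iv7 F396034)))
theorem Q90396 : ∀ i, i < 90396 → P i := stepQ 90395 Q90395 (allL N90395 (tt N54251 (iv1 F389504)) (tt N54250 F389505) (tt N54253 F389500) (tt N67092 F389501) (tt N92162 (iv4 F396030)) (tt N54237 F389502) (tt N57796 F389503) (tt N54236 (iv7 D193337)))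
theorem Q90397 : ∀ i, i < 90397 → P i := stepQ 90396 Q90396 (allL N90396 (tt N109289 (iv1 F466212)) (tt N59995 F389508) (tt N109287 F466197) (tt N100808 F430572) (tt N81759 F389507) (tt N54238 (iv5 D193338)) (tt N84146 F389506) (tt N109288 (iv7 F466201)))
theorem Q90398 : ∀ i, i < 90398 → P i := stepQ 90397 Q90397 (allL N90397 (tt N54990 F389511) (tt N100420 F428892) (tt N77186 F389509) (tt N100515 (iv3 F429268)) (tt N110928 (iv4 F473832)) (tt N54242 (iv5 D193339)) (tt N98303 (iv6 F420420)) (tt N81107 F389510))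
theorem Q90399 : ∀ i, i < 90399 → P i := stepQ 90398 Q90398 (allL N90398 (tt N100419 F428887) (tt N54243 (iv0 D193340)) (tt N97392 (iv2 F416680)) (tt N80132 F415395) (tt N93803 (iv4 F415393)) (tt N109599 (iv5 F467662)) (tt N97083 F415392) (tt N93800 (iv7 F415394)))
theorem Q90400 : ∀ i, i < 90400 → P i := stepQ 90399 Q90399 (allL N90399 (tt N54243 (iv1 D193341)) (tt N100419 (iv0 F428886)) (tt N93800 (iv2 F401942)) (tt N70534 F389513) (tt N56393 F389515) (tt N70530 (iv5 F389512)) (tt N56392 (iv6 F389514)) (tt N97392 (iv7 F416682)))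
theorem Q90401 : ∀ i, i < 90401 → P i := stepQ 90400 Q90400 (allL N90400 (tt N81490 F389518) (tt N102878 F439071) (tt N112177 (iv2 F479911)) (tt N96138 F411205) (tt N54243 (iv4 D193342)) (tt N114542 (iv5 F490690)) (tt N81242 F389517) (tt N117052 D220311))
theorem Q90402 : ∀ i, i < 90402 → P i := stepQ 90401 Q90401 (allL N90401 (tt N93800 (iv1 F401946)) (tt N97392 F416684) (tt N100419 (iv2 F428883)) (tt N90638 F390354) (tt N117052 (iv4 F503134)) (tt N54244 F389519) (tt N112180 (iv6 F479924)) (tt N54243 (iv7 D193343)))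
theorem Q90403 : ∀ i, i < 90403 → P i := stepQ 90402 Q90402 (allL N90402 (tt N54245 (iv1 D193344)) (tt N54249 F389520) (tt N64672 (iv2 F389522)) (tt N54258 (iv3 F389523)) (tt N85037 (iv4 F389524)) (tt N111103 (iv5 F474681)) (tt N98576 (iv6 F421415)) (tt N64673 F389521))
theorem Q90404 : ∀ i, i < 90404 → P i := stepQ 90403 Q90403 (allL N90403 (tt N114960 F492773) (tt N117053 D220312) (tt N64456 F389525) (tt N54249 F389526) (tt N103600 (iv4 F442191)) (tt N54247 (iv5 D193345)) (tt N69787 F389527) (tt N111810 (iv7 F478092)))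
theorem Q90405 : ∀ i, i < 90405 → P i := stepQ 90404 Q90404 (allL N90404 (tt N69789 F389532) (tt N69788 (iv0 F389533)) (tt N64670 F389528) (tt N69787 F389529) (tt N68186 F389530) (tt N61031 F389531) (tt N54249 (iv6 D193346)) (tt N69790 F389534))
theorem Q90406 : ∀ i, i < 90406 → P i := stepQ 90405 Q90405 (allL N90405 (tt N105802 (iv1 F451791)) (tt N68317 F389540) (tt N70446 F389535) (tt N79056 (iv3 F389537)) (tt N54251 (iv4 D193347)) (tt N89865 (iv5 F389538)) (tt N84946 (iv6 F389539)) (tt N79052 F389536))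
theorem Q90407 : ∀ i, i < 90407 → P i := stepQ 90406 Q90406 (allL N90406 (tt N95905 F410186) (tt N55414 (iv0 F389542)) (tt N94913 (iv2 F406310)) (tt N104143 (iv3 F444396)) (tt N84946 F389541) (tt N103936 (iv5 F443448)) (tt N54251 (iv6 D193348)) (tt N105226 (iv7 F449293)))
theorem Q90408 : ∀ i, i < 90408 → P i := stepQ 90407 Q90407 (allL N90407 (tt N54252 (iv1 D193350)) (tt N92162 F396036) (tt N92163 (iv2 F396037)) (tt N91033 (iv3 F391677)) (tt N112281 F480334) (tt N89858 F394476) (tt N55415 (iv6 F394475)) (tt N92160 (iv7 F396023)))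
theorem Q90409 : ∀ i, i < 90409 → P i := stepQ 90408 Q90408 (allL N90408 (tt N114301 F489484) (tt N114543 F490696) (tt N114474 (iv2 F490366)) (tt N86748 F448076) (tt N112765 (iv4 F482551)) (tt N54252 (iv5 D193351)) (tt N112764 (iv6 F482549)) (tt N105924 (iv7 F452369)))
theorem Q90410 : ∀ i, i < 90410 → P i := stepQ 90409 Q90409 (allL N90409 (tt N62673 (iv1 F389548)) (tt N75670 (iv0 F389547)) (tt N72703 F389543) (tt N77004 F389544) (tt N99432 F424551) (tt N54254 (iv5 D193352)) (tt N63769 F389545) (tt N65289 F389546))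
theorem Q90411 : ∀ i, i < 90411 → P i := stepQ 90410 Q90410 (allL N90410 (tt N64691 (iv1 F389549)) (tt N54255 (iv0 D193353)) (tt N107649 (iv2 F459068)) (tt N117053 F503141) (tt N105451 (iv4 F450322)) (tt N99434 (iv5 F424558)) (tt N117054 D220313) (tt N113865 (iv7 F487530)))
theorem Q90412 : ∀ i, i < 90412 → P i := stepQ 90411 Q90411 (allL N90411 (tt N54255 (iv1 D193354)) (tt N64691 F389550) (tt N113865 F487528) (tt N85983 F389551) (tt N85041 (iv4 F389552)) (tt N107650 (iv5 F459076)) (tt N113186 (iv6 F484374)) (tt N107649 F459073))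
theorem Q90413 : ∀ i, i < 90413 → P i := stepQ 90412 Q90412 (allL N90412 (tt N105470 F450386) (tt N71845 (iv0 F389556)) (tt N84961 F389553) (tt N71794 F389554) (tt N101715 (iv4 F434012)) (tt N84165 F389555) (tt N54257 (iv6 D193355)) (tt N106556 (iv7 F454846)))
theorem Q90414 : ∀ i, i < 90414 → P i := stepQ 90413 Q90413 (allL N90413 (tt N83978 F389561) (tt N83980 F389562) (tt N88651 F389558) (tt N102334 F436779) (tt N54258 (iv4 D193356)) (tt N97480 (iv5 F417025)) (tt N88726 F389559) (tt N88650 F389560))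
theorem Q90415 : ∀ i, i < 90415 → P i := stepQ 90414 Q90414 (allL N90414 (tt N110313 F470994) (tt N112491 (iv0 F481331)) (tt N102405 (iv2 F437097)) (tt N54259 (iv3 D193357)) (tt N108344 (iv4 F462171)) (tt N116222 (iv5 F499101)) (tt N71914 F389563) (tt N104286 (iv7 F445103)))
theorem Q90416 : ∀ i, i < 90416 → P i := stepQ 90415 Q90415 (allL N90415 (tt N54260 (iv1 D193358)) (tt N97700 F417963) (tt N89595 F389566) (tt N105464 (iv3 F450362)) (tt N97533 (iv4 F417284)) (tt N55102 (iv5 F389565)) (tt N105463 F450359) (tt N87667 F389564))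
theorem Q90417 : ∀ i, i < 90417 → P i := stepQ 90416 Q90416 (allL N90416 (tt N60497 F389568) (tt N102412 F437128) (tt N102414 (iv2 F437134)) (tt N54261 (iv3 D193359)) (tt N77303 F389567) (tt N100737 (iv5 F430233)) (tt N93018 (iv6 F399135)) (tt N97697 (iv7 F417945)))
theorem Q90418 : ∀ i, i < 90418 → P i := stepQ 90417 Q90417 (allL N90417 (tt N105409 (iv1 F450122)) (tt N112512 (iv0 F481443)) (tt N108341 (iv2 F462152)) (tt N69861 F389569) (tt N54263 (iv4 D193360)) (tt N117055 D220314) (tt N72021 F389570) (tt N87832 F389571))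
theorem Q90419 : ∀ i, i < 90419 → P i := stepQ 90418 Q90418 (allL N90418 (tt N104146 F444408) (tt N72800 F389577) (tt N78346 F389572) (tt N54264 F389573) (tt N76517 F389576) (tt N54263 (iv5 D193361)) (tt N76516 F389574) (tt N89104 F389575))
theorem Q90420 : ∀ i, i < 90420 → P i := stepQ 90419 Q90419 (allL N90419 (tt N101886 (iv1 F434826)) (tt N54265 (iv0 D193362)) (tt N90147 (iv2 F389580)) (tt N95905 (iv3 F410181)) (tt N82400 F389579) (tt N87671 F389578) (tt N95904 F410179) (tt N90149 (iv7 F389581)))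
theorem Q90421 : ∀ i, i < 90421 → P i := stepQ 90420 Q90420 (allL N90420 (tt N54265 (iv1 D193363)) (tt N101886 (iv0 F434825)) (tt N90149 (iv2 F389584)) (tt N95860 (iv3 F409990)) (tt N82395 (iv4 F389585)) (tt N87672 F389583) (tt N88803 (iv6 F389586)) (tt N90147 F389582))
theorem Q90422 : ∀ i, i < 90422 → P i := stepQ 90421 Q90421 (allL N90421 (tt N115764 (iv1 F496743)) (tt N102251 (iv0 F436376)) (tt N102901 (iv2 F439184)) (tt N54267 (iv3 D193364)) (tt N109439 (iv4 F466966)) (tt N91522 (iv5 F393465)) (tt N116130 (iv6 F498642)) (tt N88670 F389587))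
theorem Q90423 : ∀ i, i < 90423 → P i := stepQ 90422 Q90422 (allL N90422 (tt N65129 F389591) (tt N65131 F389592) (tt N60510 F389588) (tt N91522 (iv3 F393463)) (tt N80669 F389589) (tt N54267 (iv5 D193365)) (tt N111421 (iv6 F476278)) (tt N65128 F389590))
theorem Q90424 : ∀ i, i < 90424 → P i := stepQ 90423 Q90423 (allL N90423 (tt N82400 F389597) (tt N82395 F389598) (tt N88677 F389593) (tt N116130 (iv3 F498637)) (tt N83984 F389594) (tt N78758 (iv5 F389596)) (tt N54267 (iv6 D193366)) (tt N82494 F389595))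
theorem Q90425 : ∀ i, i < 90425 → P i := stepQ 90424 Q90424 (allL N90424 (tt N67429 (iv1 F389599)) (tt N54268 (iv0 D193367)) (tt N92740 (iv2 F398045)) (tt N92710 (iv3 F397933)) (tt N92725 (iv4 F397989)) (tt N117056 D220315) (tt N92708 F397934) (tt N105925 (iv7 F452374)))
theorem Q90426 : ∀ i, i < 90426 → P i := stepQ 90425 Q90425 (allL N90425 (tt N54268 (iv1 D193368)) (tt N67429 F389602) (tt N105925 F452372) (tt N83000 F395406) (tt N92743 (iv4 F398050)) (tt N102894 (iv5 F439154)) (tt N82999 (iv6 F395407)) (tt N92740 (iv7 F398047)))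
theorem Q90427 : ∀ i, i < 90427 → P i := stepQ 90426 Q90426 (allL N90426 (tt N92740 (iv1 F406145)) (tt N105925 F452373) (tt N54268 (iv2 D193369)) (tt N67436 F389600) (tt N97952 F418946) (tt N101511 (iv5 F433215)) (tt N102379 (iv6 F436985)) (tt N67429 F389601))
theorem Q90428 : ∀ i, i < 90428 → P i := stepQ 90427 Q90427 (allL N90427 (tt N80117 (iv1 F389605)) (tt N54269 (iv0 D193370)) (tt N81754 F389609) (tt N65683 (iv3 F389606)) (tt N79598 F389604) (tt N83978 F389603) (tt N65681 F389607) (tt N88665 F389608))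
theorem Q90429 : ∀ i, i < 90429 → P i := stepQ 90428 Q90428 (allL N90428 (tt N54269 (iv1 D193371)) (tt N80117 F389610) (tt N88665 F389615) (tt N87528 F389616) (tt N80672 F389613) (tt N83980 F389612) (tt N80214 (iv6 F389614)) (tt N81754 F389611))
theorem Q90430 : ∀ i, i < 90430 → P i := stepQ 90429 Q90429 (allL N90429 (tt N84145 F389620) (tt N94466 (iv0 F404585)) (tt N54275 F389617) (tt N70491 F389618) (tt N101793 (iv4 F434371)) (tt N54272 (iv5 D193372)) (tt N116881 (iv6 F502323)) (tt N54278 F389619))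
theorem Q90431 : ∀ i, i < 90431 → P i := stepQ 90430 Q90430 (allL N90430 (tt N54283 (iv1 F389622)) (tt N54273 (iv0 D193373)) (tt N54280 (iv2 F389623)) (tt N76523 (iv3 F389624)) (tt N101787 (iv4 F434340)) (tt N76107 F389621) (tt N110203 (iv6 F470415)) (tt N54281 (iv7 F389625)))
theorem Q90432 : ∀ i, i < 90432 → P i := stepQ 90431 Q90431 (allL N90431 (tt N54273 (iv1 D193374)) (tt N54283 F389626) (tt N54281 (iv2 F389630)) (tt N88850 (iv3 F389629)) (tt N109495 (iv4 F467268)) (tt N76066 F389628) (tt N117057 D220316) (tt N54280 F389627))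
theorem Q90433 : ∀ i, i < 90433 → P i := stepQ 90432 Q90432 (allL N90432 (tt N94619 (iv1 F405245)) (tt N94154 (iv0 F403461)) (tt N54282 F389631) (tt N94610 (iv3 F405189)) (tt N54273 (iv4 D193375)) (tt N57753 F389634) (tt N86300 F389632) (tt N82305 F389633))
theorem Q90434 : ∀ i, i < 90434 → P i := stepQ 90433 Q90433 (allL N90433 (tt N54275 (iv1 D193376)) (tt N54278 F389635) (tt N94466 (iv2 F404583)) (tt N54285 (iv3 F389639)) (tt N57773 (iv4 F389638)) (tt N57484 F389637) (tt N71397 (iv6 F389640)) (tt N84145 F389636))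
theorem Q90435 : ∀ i, i < 90435 → P i := stepQ 90434 Q90434 (allL N90434 (tt N105369 (iv1 F449919)) (tt N105368 (iv0 F449916)) (tt N116881 (iv2 F502320)) (tt N99413 F424465) (tt N107700 (iv4 F459289)) (tt N71184 F389641) (tt N54275 (iv6 D193377)) (tt N107478 (iv7 F458457)))
theorem Q90436 : ∀ i, i < 90436 → P i := stepQ 90435 Q90435 (allL N90435 (tt N100562 F429467) (tt N100559 (iv0 F429462)) (tt N70513 F389642) (tt N54278 F389643) (tt N109786 (iv4 F468602)) (tt N54277 (iv5 D193378)) (tt N115341 (iv6 F494683)) (tt N70491 F389644))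
theorem Q90437 : ∀ i, i < 90437 → P i := stepQ 90436 Q90436 (allL N90436 (tt N76995 F389645) (tt N76994 F389646) (tt N100063 F427407) (tt N100895 F430879) (tt N117058 D220317) (tt N54279 (iv5 D193379)) (tt N116752 (iv6 F501639)) (tt N100064 (iv7 F427409)))
theorem Q90438 : ∀ i, i < 90438 → P i := stepQ 90437 Q90437 (allL N90437 (tt N94144 (iv1 F403414)) (tt N110289 (iv0 F470867)) (tt N89667 F389647) (tt N54280 (iv3 D193380)) (tt N88851 F389650) (tt N89648 F389648) (tt N117059 D220318) (tt N88850 F389649))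
theorem Q90439 : ∀ i, i < 90439 → P i := stepQ 90438 Q90438 (allL N90438 (tt N101843 (iv1 F434621)) (tt N82854 F389651) (tt N101787 (iv2 F434337)) (tt N116402 (iv3 F499905)) (tt N54280 (iv4 D193381)) (tt N94258 (iv5 F403870)) (tt N110201 (iv6 F470407)) (tt N109495 (iv7 F467267)))
theorem Q90440 : ∀ i, i < 90440 → P i := stepQ 90439 Q90439 (allL N90439 (tt N113247 F484698) (tt N106531 (iv0 F454788)) (tt N110203 (iv2 F470413)) (tt N117059 (iv3 F503168)) (tt N110201 F470409) (tt N116863 (iv5 F502229)) (tt N54280 (iv6 D193382)) (tt N114775 (iv7 F491791)))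
theorem Q90441 : ∀ i, i < 90441 → P i := stepQ 90440 Q90440 (allL N90440 (tt N82854 F389653) (tt N101843 (iv0 F434620)) (tt N109495 (iv2 F467270)) (tt N72291 (iv3 F389654)) (tt N54281 (iv4 D193383)) (tt N78064 F389652) (tt N96153 F411259) (tt N101787 (iv7 F434339)))
theorem Q90442 : ∀ i, i < 90442 → P i := stepQ 90441 Q90441 (allL N90441 (tt N117060 D220319) (tt N117061 D220320) (tt N117057 (iv2 F503159)) (tt N105721 (iv3 F451410)) (tt N96153 F411260) (tt N96144 F411234) (tt N54281 (iv6 D193384)) (tt N96152 (iv7 F411261)))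
theorem Q90443 : ∀ i, i < 90443 → P i := stepQ 90442 Q90442 (allL N90442 (tt N82305 (iv1 F389657)) (tt N54282 (iv0 D193385)) (tt N94619 F405249) (tt N85091 F389656) (tt N57691 F389655) (tt N94252 (iv5 F403836)) (tt N85089 (iv6 F389658)) (tt N94154 (iv7 F403459)))
theorem Q90444 : ∀ i, i < 90444 → P i := stepQ 90443 Q90443 (allL N90443 (tt N54282 (iv1 D193386)) (tt N82305 F389659) (tt N94154 (iv2 F403458)) (tt N108172 (iv3 F461388)) (tt N63991 F389660) (tt N57616 (iv5 F389661)) (tt N108170 F461383) (tt N94619 (iv7 F405246)))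
theorem Q90445 : ∀ i, i < 90445 → P i := stepQ 90444 Q90444 (allL N90444 (tt N80528 (iv1 F389666)) (tt N71173 (iv0 F389665)) (tt N81430 F389662) (tt N54284 (iv3 D193387)) (tt N117062 D220321) (tt N64419 F389663) (tt N109388 (iv6 F466714)) (tt N81431 F389664))
theorem Q90446 : ∀ i, i < 90446 → P i := stepQ 90445 Q90445 (allL N90445 (tt N70380 F389670) (tt N70378 F389671) (tt N67230 F389667) (tt N70411 (iv3 F389673)) (tt N54284 (iv4 D193388)) (tt N67229 F389668) (tt N88905 (iv6 F389672)) (tt N70414 F389669))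
theorem Q90447 : ∀ i, i < 90447 → P i := stepQ 90446 Q90446 (allL N90446 (tt N90448 F389682) (tt N85484 (iv0 F389678)) (tt N84149 F389674) (tt N109388 (iv3 F466712)) (tt N88905 F389675) (tt N77287 F389676) (tt N54284 (iv6 D193389)) (tt N86348 F389677))
theorem Q90448 : ∀ i, i < 90448 → P i := stepQ 90447 Q90447 (allL N90447 (tt N117063 D220322) (tt N114938 (iv0 F492646)) (tt N105479 (iv2 F450417)) (tt N54286 (iv3 D193390)) (tt N116125 (iv4 F498603)) (tt N105170 F449095) (tt N109135 (iv6 F465503)) (tt N113856 (iv7 F487484)))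
theorem Q90449 : ∀ i, i < 90449 → P i := stepQ 90448 Q90448 (allL N90448 (tt N86327 F389681) (tt N90446 (iv0 F389682)) (tt N113855 (iv2 F487473)) (tt N109135 (iv3 F465502)) (tt N54287 F389680) (tt N109134 (iv5 F465500)) (tt N54286 (iv6 D193391)) (tt N113884 (iv7 F487621)))
theorem Q90450 : ∀ i, i < 90450 → P i := stepQ 90449 Q90449 (allL N90449 (tt N54287 (iv1 D193392)) (tt N85521 F389683) (tt N85402 (iv2 F389688)) (tt N105368 (iv3 F449913)) (tt N70421 F389687) (tt N84858 F389685) (tt N82275 (iv6 F389686)) (tt N85406 F389684))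
theorem Q90451 : ∀ i, i < 90451 → P i := stepQ 90450 Q90450 (allL N90450 (tt N85402 (iv1 F389693)) (tt N85406 F389694) (tt N85521 F389689) (tt N73007 F389690) (tt N113884 (iv4 F487623)) (tt N58324 F389691) (tt N84877 F389692) (tt N54287 (iv7 D193393)))
theorem Q90452 : ∀ i, i < 90452 → P i := stepQ 90451 Q90451 (allL N90451 (tt N114783 F491837) (tt N117064 D220323) (tt N85518 F389695) (tt N109757 (iv3 F468475)) (tt N117065 D220324) (tt N54290 (iv5 D193394)) (tt N54291 F389696) (tt N85520 F389697))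
theorem Q90453 : ∀ i, i < 90453 → P i := stepQ 90452 Q90452 (allL N90452 (tt N88561 F389698) (tt N88559 F389699) (tt N113857 (iv2 F487486)) (tt N99941 (iv3 F473512)) (tt N54291 (iv4 D193395)) (tt N92230 (iv5 F396378)) (tt N117065 (iv6 F503199)) (tt N116452 (iv7 F500199)))
theorem Q90454 : ∀ i, i < 90454 → P i := stepQ 90453 Q90453 (allL N90453 (tt N104009 (iv1 F443773)) (tt N104206 (iv0 F444687)) (tt N76427 F389700) (tt N105538 (iv3 F450639)) (tt N54293 (iv4 D193396)) (tt N76321 F389702) (tt N117066 D220325) (tt N76429 F389701))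
theorem Q90455 : ∀ i, i < 90455 → P i := stepQ 90454 Q90454 (allL N90454 (tt N116713 (iv1 F501451)) (tt N116712 (iv0 F501444)) (tt N76493 F389703) (tt N54294 F389704) (tt N117066 (iv4 F503205)) (tt N89271 F389705) (tt N54293 (iv6 D193397)) (tt N91059 (iv7 F391799)))
theorem Q90456 : ∀ i, i < 90456 → P i := stepQ 90455 Q90455 (allL N90455 (tt N113859 (iv1 F487502)) (tt N54294 (iv0 D193398)) (tt N86267 (iv2 F389707)) (tt N117060 F503174) (tt N115081 (iv4 F493389)) (tt N85916 F389706) (tt N114761 F491722) (tt N85571 F389708))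
theorem Q90457 : ∀ i, i < 90457 → P i := stepQ 90456 Q90456 (allL N90456 (tt N85571 (iv1 F389711)) (tt N86267 F389712) (tt N113859 (iv2 F487496)) (tt N91059 (iv3 F391798)) (tt N85589 F389709) (tt N89971 F389710) (tt N111145 (iv6 F474915)) (tt N54294 (iv7 D193399)))
theorem Q90458 : ∀ i, i < 90458 → P i := stepQ 90457 Q90457 (allL N90457 (tt N54307 (iv1 F389718)) (tt N76074 (iv0 F389717)) (tt N79394 F389713) (tt N56122 F389714) (tt N56123 F389715) (tt N100386 (iv5 F428731)) (tt N54295 (iv6 D193400)) (tt N77609 F389716))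
theorem Q90459 : ∀ i, i < 90459 → P i := stepQ 90458 Q90458 (allL N90458 (tt N65321 F389723) (tt N54310 (iv0 F389724)) (tt N77612 F389719) (tt N68458 F389720) (tt N76025 F389721) (tt N102783 (iv5 F438632)) (tt N54300 (iv6 D193401)) (tt N76565 F389722))
theorem Q90460 : ∀ i, i < 90460 → P i := stepQ 90459 Q90459 (allL N90459 (tt N59538 F389726) (tt N94701 F405594) (tt N59675 F389725) (tt N78185 F389727) (tt N54301 (iv4 D193402)) (tt N94421 (iv5 F404417)) (tt N101495 F433143) (tt N95112 (iv7 F407096)))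
theorem Q90461 : ∀ i, i < 90461 → P i := stepQ 90460 Q90460 (allL N90460 (tt N76722 (iv1 F389732)) (tt N68529 F389733) (tt N82134 F389728) (tt N80120 F389729) (tt N95112 (iv4 F407097)) (tt N54302 F389730) (tt N80118 F389731) (tt N54301 (iv7 D193403)))
theorem Q90462 : ∀ i, i < 90462 → P i := stepQ 90461 Q90461 (allL N90461 (tt N76735 F389737) (tt N76736 F389736) (tt N54309 F389734) (tt N91396 (iv3 F392975)) (tt N117067 D220326) (tt N54303 (iv5 D193404)) (tt N117068 D220327) (tt N54312 F389735))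
theorem Q90463 : ∀ i, i < 90463 → P i := stepQ 90462 Q90462 (allL N90462 (tt N77612 F389742) (tt N76565 (iv0 F389744)) (tt N54310 F389738) (tt N68028 F389739) (tt N63755 F389740) (tt N66366 F389743) (tt N54303 (iv6 D193405)) (tt N65321 F389741))
theorem Q90464 : ∀ i, i < 90464 → P i := stepQ 90463 Q90463 (allL N90463 (tt N76736 F389748) (tt N76735 F389749) (tt N54312 F389745) (tt N100398 (iv3 F428796)) (tt N117069 D220328) (tt N54304 (iv5 D193406)) (tt N66332 F389746) (tt N54309 F389747))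
theorem Q90465 : ∀ i, i < 90465 → P i := stepQ 90464 Q90464 (allL N90464 (tt N111530 (iv1 F476769)) (tt N76749 F389751) (tt N54314 F389750) (tt N110581 (iv3 F472228)) (tt N54305 (iv4 D193407)) (tt N110580 F472226) (tt N100353 (iv6 F428552)) (tt N109906 (iv7 F469156)))
theorem Q90466 : ∀ i, i < 90466 → P i := stepQ 90465 Q90465 (allL N90465 (tt N68536 F389753) (tt N66370 F389754) (tt N106439 (iv2 F454440)) (tt N54309 F389752) (tt N117070 D220329) (tt N54307 (iv5 D193408)) (tt N66290 F389763) (tt N100398 (iv7 F428797)))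
theorem Q90467 : ∀ i, i < 90467 → P i := stepQ 90466 Q90466 (allL N90466 (tt N74718 F389755) (tt N78365 F389756) (tt N117067 (iv2 F503210)) (tt N117071 D220330) (tt N54309 (iv4 D193409)) (tt N111363 (iv5 F476017)) (tt N74262 (iv6 F389761)) (tt N117069 (iv7 F503226)))
theorem Q90468 : ∀ i, i < 90468 → P i := stepQ 90467 Q90467 (allL N90467 (tt N66304 (iv1 F437982)) (tt N71464 (iv0 F389762)) (tt N117068 (iv2 F503217)) (tt N66290 (iv3 F389758)) (tt N74262 F389760) (tt N66323 (iv5 F389759)) (tt N54309 (iv6 D193410)) (tt N66322 F389757))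
theorem Q90469 : ∀ i, i < 90469 → P i := stepQ 90468 Q90468 (allL N90468 (tt N54310 (iv1 D193411)) (tt N65321 F389764) (tt N76565 F389769) (tt N54320 (iv3 F389767)) (tt N75861 (iv4 F389766)) (tt N104125 (iv5 F444308)) (tt N63204 (iv6 F389768)) (tt N77612 F389765))
theorem Q90470 : ∀ i, i < 90470 → P i := stepQ 90469 Q90469 (allL N90469 (tt N66365 F389773) (tt N66364 F389774) (tt N66366 F389770) (tt N104224 (iv3 F444789)) (tt N69980 F389775) (tt N54310 (iv5 D193412)) (tt N66323 F389771) (tt N66229 F389772))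
theorem Q90471 : ∀ i, i < 90471 → P i := stepQ 90470 Q90470 (allL N90470 (tt N78365 F389778) (tt N74718 F389779) (tt N117069 (iv2 F503224)) (tt N91393 (iv3 F392961)) (tt N54312 (iv4 D193413)) (tt N117072 D220331) (tt N77761 F389777) (tt N117067 (iv7 F503212)))
theorem Q90472 : ∀ i, i < 90472 → P i := stepQ 90471 Q90471 (allL N90471 (tt N109908 (iv1 F469163)) (tt N79382 F389781) (tt N109910 (iv2 F469169)) (tt N117073 D220332) (tt N54313 (iv4 D193414)) (tt N94284 F403956) (tt N111604 (iv6 F477125)) (tt N80000 F389780))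
theorem Q90473 : ∀ i, i < 90473 → P i := stepQ 90472 Q90472 (allL N90472 (tt N112506 (iv1 F481412)) (tt N112503 (iv0 F481396)) (tt N109911 (iv2 F469173)) (tt N95769 (iv3 F409551)) (tt N111604 (iv4 F477123)) (tt N95768 F409549) (tt N54313 (iv6 D193415)) (tt N112309 (iv7 F480477)))
theorem Q90474 : ∀ i, i < 90474 → P i := stepQ 90473 Q90473 (allL N90473 (tt N109906 (iv1 F469158)) (tt N54314 (iv0 D193416)) (tt N111530 (iv2 F476765)) (tt N73051 F406445) (tt N76750 F389782) (tt N106318 F454006) (tt N112496 (iv6 F481357)) (tt N76749 (iv7 F389783)))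
theorem Q90475 : ∀ i, i < 90475 → P i := stepQ 90474 Q90474 (allL N90474 (tt N54314 (iv1 D193417)) (tt N109906 (iv0 F469157)) (tt N76749 (iv2 F389785)) (tt N108712 F463656) (tt N63214 F389784) (tt N106070 (iv5 F452988)) (tt N92490 F397147) (tt N111530 (iv7 F476767)))
theorem Q90476 : ∀ i, i < 90476 → P i := stepQ 90475 Q90475 (allL N90475 (tt N107099 F456965) (tt N117074 D220333) (tt N106966 (iv2 F456471)) (tt N54314 (iv3 D193418)) (tt N54329 F389786) (tt N117075 D220334) (tt N90636 (iv6 F390342)) (tt N117076 D220335))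
theorem Q90477 : ∀ i, i < 90477 → P i := stepQ 90476 Q90476 (allL N90476 (tt N116197 (iv1 F498964)) (tt N108709 F463646) (tt N110580 F472225) (tt N117075 (iv3 F503250)) (tt N100932 (iv4 F431015)) (tt N54314 (iv5 D193419)) (tt N96921 (iv6 F414627)) (tt N116199 F498971))
theorem Q90478 : ∀ i, i < 90478 → P i := stepQ 90477 Q90477 (allL N90477 (tt N76749 (iv1 F389788)) (tt N111530 (iv0 F476768)) (tt N109906 (iv2 F469155)) (tt N117076 (iv3 F503253)) (tt N54315 F389787) (tt N116199 (iv5 F498969)) (tt N117077 D220336) (tt N54314 (iv7 D193420)))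
theorem Q90479 : ∀ i, i < 90479 → P i := stepQ 90478 Q90478 (allL N90478 (tt N98074 F463796) (tt N94095 (iv0 F403191)) (tt N109907 (iv2 F469160)) (tt N54332 F389789) (tt N117077 (iv4 F503256)) (tt N109849 (iv5 F468902)) (tt N54315 (iv6 D193421)) (tt N112044 (iv7 F479232)))
theorem Q90480 : ∀ i, i < 90480 → P i := stepQ 90479 Q90479 (allL N90479 (tt N54376 F389793) (tt N54351 F389794) (tt N70935 F389790) (tt N59275 (iv3 F389795)) (tt N54316 (iv4 D193422)) (tt N59267 F389792) (tt N97059 (iv6 F415262)) (tt N70936 F389791))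
theorem Q90481 : ∀ i, i < 90481 → P i := stepQ 90480 Q90480 (allL N90480 (tt N54351 F389799) (tt N54376 F389800) (tt N70936 F389796) (tt N117078 D220337) (tt N54317 (iv4 D193423)) (tt N72422 (iv5 F389801)) (tt N54507 F389797) (tt N70935 F389798))
theorem Q90482 : ∀ i, i < 90482 → P i := stepQ 90481 Q90481 (allL N90481 (tt N54322 (iv1 F389803)) (tt N54318 (iv0 D193424)) (tt N90519 (iv2 F389933)) (tt N108391 (iv3 F462376)) (tt N71610 F389802) (tt N110902 (iv5 F473700)) (tt N98184 F455458) (tt N90521 (iv7 F389941)))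
theorem Q90483 : ∀ i, i < 90483 → P i := stepQ 90482 Q90482 (allL N90482 (tt N54318 (iv1 D193425)) (tt N54322 F389804) (tt N90521 (iv2 F389939)) (tt N106791 (iv3 F455693)) (tt N71611 F389805) (tt N117079 D220338) (tt N106163 (iv6 F453401)) (tt N90519 (iv7 F389934)))
theorem Q90484 : ∀ i, i < 90484 → P i := stepQ 90483 Q90483 (allL N90483 (tt N116203 (iv1 F498995)) (tt N91717 F394161) (tt N112351 (iv2 F480702)) (tt N99462 (iv3 F424689)) (tt N54410 F389806) (tt N54318 (iv5 D193426)) (tt N107032 (iv6 F456716)) (tt N112352 (iv7 F480709)))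
theorem Q90485 : ∀ i, i < 90485 → P i := stepQ 90484 Q90484 (allL N90484 (tt N89457 F389809) (tt N89433 F389810) (tt N79427 F389807) (tt N93951 (iv3 F402564)) (tt N54321 (iv4 D193427)) (tt N107838 (iv5 F459931)) (tt N55260 F389808) (tt N96113 (iv7 F411117)))
theorem Q90486 : ∀ i, i < 90486 → P i := stepQ 90485 Q90485 (allL N90485 (tt N117080 D220339) (tt N117081 D220340) (tt N100264 (iv2 F428169)) (tt N54322 (iv3 D193428)) (tt N93951 (iv4 F402565)) (tt N89546 (iv5 F390049)) (tt N100262 (iv6 F428167)) (tt N96129 F411184))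
theorem Q90487 : ∀ i, i < 90487 → P i := stepQ 90486 Q90486 (allL N90486 (tt N91717 F394160) (tt N116203 (iv0 F498994)) (tt N112352 (iv2 F480706)) (tt N89546 F390048) (tt N54418 F389811) (tt N54322 (iv5 D193429)) (tt N117082 D220341) (tt N112351 (iv7 F480703)))
theorem Q90488 : ∀ i, i < 90488 → P i := stepQ 90487 Q90487 (allL N90487 (tt N100268 F428181) (tt N100267 F428176) (tt N76149 F389812) (tt N100262 (iv3 F428162)) (tt N54323 F389813) (tt N117083 D220342) (tt N54322 (iv6 D193430)) (tt N100269 (iv7 F428186)))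
theorem Q90489 : ∀ i, i < 90489 → P i := stepQ 90488 Q90488 (allL N90488 (tt N54326 (iv1 F389815)) (tt N54324 (iv0 D193431)) (tt N90513 (iv2 F389901)) (tt N91058 (iv3 F391795)) (tt N80708 F389814) (tt N116203 (iv5 F498991)) (tt N109330 (iv6 F466412)) (tt N80707 F389816))
theorem Q90490 : ∀ i, i < 90490 → P i := stepQ 90489 Q90489 (allL N90489 (tt N99508 F424919) (tt N117084 D220343) (tt N112354 (iv2 F480713)) (tt N107058 (iv3 F456804)) (tt N54411 F389817) (tt N54324 (iv5 D193432)) (tt N112285 (iv6 F480357)) (tt N107956 (iv7 F460470)))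
theorem Q90491 : ∀ i, i < 90491 → P i := stepQ 90490 Q90490 (allL N90490 (tt N89284 F389818) (tt N117085 D220344) (tt N117086 D220345) (tt N54326 (iv3 D193433)) (tt N112100 (iv4 F479490)) (tt N117087 D220346) (tt N112098 (iv6 F479482)) (tt N112353 (iv7 F480712)))
theorem Q90492 : ∀ i, i < 90492 → P i := stepQ 90491 Q90491 (allL N90491 (tt N117084 (iv1 F503293)) (tt N99508 F424918) (tt N107956 (iv2 F460471)) (tt N117087 (iv3 F503308)) (tt N54408 F389819) (tt N54326 (iv5 D193434)) (tt N117088 D220347) (tt N112354 (iv7 F480716)))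
theorem Q90493 : ∀ i, i < 90493 → P i := stepQ 90492 Q90492 (allL N90492 (tt N90507 (iv1 F389880)) (tt N71787 (iv0 F409612)) (tt N90509 (iv2 F389885)) (tt N70455 F389820) (tt N103130 (iv4 F440208)) (tt N106559 (iv5 F454859)) (tt N54328 (iv6 D193435)) (tt N72134 F389821))
theorem Q90494 : ∀ i, i < 90494 → P i := stepQ 90493 Q90493 (allL N90493 (tt N117089 D220348) (tt N54329 (iv0 D193436)) (tt N117090 D220349) (tt N108059 (iv3 F460926)) (tt N117091 D220350) (tt N99370 F430768) (tt N101188 (iv6 F432104)) (tt N117092 D220351))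
theorem Q90495 : ∀ i, i < 90495 → P i := stepQ 90494 Q90494 (allL N90494 (tt N54329 (iv1 D193437)) (tt N117089 F503321) (tt N117092 (iv2 F503332)) (tt N117093 D220352) (tt N117094 D220353) (tt N99369 (iv5 F424320)) (tt N117095 D220354) (tt N117090 F503326))
theorem Q90496 : ∀ i, i < 90496 → P i := stepQ 90495 Q90495 (allL N90495 (tt N117090 F503327) (tt N117092 F503335) (tt N54329 (iv2 D193438)) (tt N72622 F389822) (tt N106966 (iv4 F456472)) (tt N72618 (iv5 F389824)) (tt N89174 F389823) (tt N117089 (iv7 F503320)))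
theorem Q90497 : ∀ i, i < 90497 → P i := stepQ 90496 Q90496 (allL N90496 (tt N110529 F472013) (tt N117096 D220355) (tt N72618 F389825) (tt N54330 F389826) (tt N113285 (iv4 F484852)) (tt N54329 (iv5 D193439)) (tt N72616 (iv6 F389827)) (tt N116463 (iv7 F500266)))
theorem Q90498 : ∀ i, i < 90498 → P i := stepQ 90497 Q90497 (allL N90497 (tt N117092 (iv1 F503336)) (tt N117090 (iv0 F503328)) (tt N117089 F503319) (tt N54331 F389828) (tt N117076 (iv4 F503254)) (tt N116463 (iv5 F500264)) (tt N117097 D220356) (tt N54329 (iv7 D193440)))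
theorem Q90499 : ∀ i, i < 90499 → P i := stepQ 90498 Q90498 (allL N90498 (tt N54419 (iv1 F389831)) (tt N54330 (iv0 D193441)) (tt N70937 (iv2 F389832)) (tt N71636 F389834) (tt N54380 F389830) (tt N54351 F389829) (tt N117098 D220357) (tt N89952 (iv7 F389833)))
theorem Q90500 : ∀ i, i < 90500 → P i := stepQ 90499 Q90499 (allL N90499 (tt N54330 (iv1 D193442)) (tt N54419 F389835) (tt N89952 (iv2 F389838)) (tt N70948 (iv3 F389839)) (tt N54361 (iv4 F389840)) (tt N54376 F389837) (tt N72471 (iv6 F393169)) (tt N70937 F389836))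
theorem Q90501 : ∀ i, i < 90501 → P i := stepQ 90500 Q90500 (allL N90500 (tt N71170 F389844) (tt N71178 F389845) (tt N71176 F389841) (tt N117097 (iv3 F503360)) (tt N54332 F389842) (tt N113846 (iv5 F487422)) (tt N54331 (iv6 D193443)) (tt N71175 F389843))
theorem Q90502 : ∀ i, i < 90502 → P i := stepQ 90501 Q90501 (allL N90501 (tt N88477 F389849) (tt N63927 F389850) (tt N54343 F389847) (tt N82321 F389848) (tt N113897 (iv4 F487683)) (tt N54334 (iv5 D193444)) (tt N107104 (iv6 F456990)) (tt N88484 F389851))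
theorem Q90503 : ∀ i, i < 90503 → P i := stepQ 90502 Q90502 (allL N90502 (tt N54342 (iv1 F389857)) (tt N54341 F389858) (tt N54344 F389852) (tt N82306 F389853) (tt N80916 F389854) (tt N88484 F389855) (tt N64450 F389856) (tt N54334 (iv7 D193445)))
theorem Q90504 : ∀ i, i < 90504 → P i := stepQ 90503 Q90503 (allL N90503 (tt N59995 F389862) (tt N109289 F466211) (tt N109288 (iv2 F466206)) (tt N76120 F389859) (tt N81758 F389861) (tt N54335 (iv5 D193446)) (tt N80375 F389860) (tt N109287 F466198))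
theorem Q90505 : ∀ i, i < 90505 → P i := stepQ 90504 Q90504 (allL N90504 (tt N78565 (iv1 F389867)) (tt N54336 (iv0 D193447)) (tt N79764 (iv2 F389866)) (tt N78354 (iv3 F389869)) (tt N112284 (iv4 F480350)) (tt N78353 F389865) (tt N97404 (iv6 F416749)) (tt N79765 F389868))
theorem Q90506 : ∀ i, i < 90506 → P i := stepQ 90505 Q90505 (allL N90505 (tt N80916 (iv1 F389871)) (tt N54337 (iv0 D193448)) (tt N100691 (iv2 F430039)) (tt N79492 F389870) (tt N111971 (iv4 F478909)) (tt N109235 (iv5 F465911)) (tt N88475 (iv6 F389872)) (tt N100690 F430035))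
theorem Q90507 : ∀ i, i < 90507 → P i := stepQ 90506 Q90506 (allL N90506 (tt N80983 F389878) (tt N65414 (iv0 F389879)) (tt N79763 F389873) (tt N82366 F389874) (tt N82358 F389877) (tt N54337 (iv5 D193449)) (tt N65440 F389875) (tt N80778 F389876))
theorem Q90508 : ∀ i, i < 90508 → P i := stepQ 90507 Q90507 (allL N90507 (tt N54340 (iv1 D193451)) (tt N90492 F389880) (tt N106845 (iv2 F455955)) (tt N100087 (iv3 F438430)) (tt N80827 F389881) (tt N117099 D220358) (tt N98991 F422953) (tt N106836 (iv7 F455905)))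
theorem Q90509 : ∀ i, i < 90509 → P i := stepQ 90508 Q90508 (allL N90508 (tt N71473 F389884) (tt N113991 F488098) (tt N107104 (iv2 F456988)) (tt N54365 F389882) (tt N90823 (iv4 F390987)) (tt N54340 (iv5 D193452)) (tt N54343 F389883) (tt N113069 (iv7 F483832)))
theorem Q90510 : ∀ i, i < 90510 → P i := stepQ 90509 Q90509 (allL N90509 (tt N106845 (iv1 F455960)) (tt N106836 (iv0 F455906)) (tt N90492 F389885) (tt N54366 F389886) (tt N67018 F389887) (tt N113069 (iv5 F483831)) (tt N81425 F389888) (tt N54340 (iv7 D193453)))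
theorem Q90511 : ∀ i, i < 90511 → P i := stepQ 90510 Q90510 (allL N90510 (tt N84160 F389892) (tt N100072 (iv0 F427437)) (tt N64837 F389890) (tt N68397 F389891) (tt N114046 (iv4 F488337)) (tt N54342 (iv5 D193454)) (tt N106510 (iv6 F454715)) (tt N111951 (iv7 F478837)))
theorem Q90512 : ∀ i, i < 90512 → P i := stepQ 90511 Q90511 (allL N90511 (tt N54343 (iv1 D193455)) (tt N88484 F389893) (tt N63927 (iv2 F389896)) (tt N100933 (iv3 F431018)) (tt N89413 (iv4 F389897)) (tt N63926 F389895) (tt N89412 (iv6 F389898)) (tt N88477 F389894))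
theorem Q90513 : ∀ i, i < 90513 → P i := stepQ 90512 Q90512 (allL N90512 (tt N89606 F389899) (tt N89610 F389900) (tt N113897 F487685) (tt N112995 (iv3 F483473)) (tt N54343 (iv4 D193456)) (tt N115071 (iv5 F493340)) (tt N90823 F390988) (tt N113895 (iv7 F487676)))
theorem Q90514 : ∀ i, i < 90514 → P i := stepQ 90513 Q90513 (allL N90513 (tt N80301 F389903) (tt N81422 F389904) (tt N90488 F389901) (tt N115947 (iv3 F497722)) (tt N54345 (iv4 D193457)) (tt N117100 D220359) (tt N117101 D220360) (tt N88466 F389902))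
theorem Q90515 : ∀ i, i < 90515 → P i := stepQ 90514 Q90514 (allL N90514 (tt N71153 F389908) (tt N80137 (iv0 F389909)) (tt N75483 F389905) (tt N75680 (iv3 F408981)) (tt N117101 (iv4 F503391)) (tt N75482 F389906) (tt N54345 (iv6 D193458)) (tt N80128 F389907))
theorem Q90516 : ∀ i, i < 90516 → P i := stepQ 90515 Q90515 (allL N90515 (tt N54347 (iv1 D193459)) (tt N55044 F389910) (tt N81083 F389913) (tt N62141 (iv3 F389912)) (tt N55033 (iv4 F389916)) (tt N81082 F389914) (tt N69424 F389915) (tt N62138 F389911))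
theorem Q90517 : ∀ i, i < 90517 → P i := stepQ 90516 Q90516 (allL N90516 (tt N103983 (iv1 F443648)) (tt N69444 F389921) (tt N71577 F389917) (tt N71586 F389918) (tt N54347 (iv4 D193460)) (tt N80930 F389922) (tt N71576 F389919) (tt N83226 F389920))
theorem Q90518 : ∀ i, i < 90518 → P i := stepQ 90517 Q90517 (allL N90517 (tt N101815 F434479) (tt N54348 (iv0 D193461)) (tt N68467 (iv2 F389925)) (tt N54352 F389924) (tt N79759 F389923) (tt N117102 D220361) (tt N68465 F389926) (tt N88913 F389927))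
theorem Q90519 : ∀ i, i < 90519 → P i := stepQ 90518 Q90518 (allL N90518 (tt N81058 F389930) (tt N67898 F389931) (tt N70551 F389928) (tt N54353 F389929) (tt N67462 F389932) (tt N54348 (iv5 D193462)) (tt N97860 (iv6 F418553)) (tt N104416 (iv7 F445660)))
theorem Q90520 : ∀ i, i < 90520 → P i := stepQ 90519 Q90519 (allL N90519 (tt N81421 F389935) (tt N81419 F389936) (tt N90481 F389933) (tt N117103 D220362) (tt N54349 (iv4 D193463)) (tt N117084 (iv5 F503295)) (tt N117104 D220363) (tt N90482 F389934))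
theorem Q90521 : ∀ i, i < 90521 → P i := stepQ 90520 Q90520 (allL N90520 (tt N99896 (iv1 F426726)) (tt N116458 (iv0 F500236)) (tt N106731 (iv2 F455451)) (tt N79618 F389937) (tt N117104 (iv4 F503411)) (tt N80967 F389938) (tt N54349 (iv6 D193464)) (tt N112388 (iv7 F480872)))
theorem Q90522 : ∀ i, i < 90522 → P i := stepQ 90521 Q90521 (allL N90521 (tt N81419 F389942) (tt N81421 F389943) (tt N90482 F389939) (tt N77319 F389940) (tt N54350 (iv4 D193465)) (tt N99508 F424917) (tt N112389 (iv6 F480877)) (tt N90481 F389941))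
theorem Q90523 : ∀ i, i < 90523 → P i := stepQ 90522 Q90522 (allL N90522 (tt N80692 F389946) (tt N76761 F389948) (tt N111824 (iv2 F478154)) (tt N117102 (iv3 F503397)) (tt N56204 F389947) (tt N54352 (iv5 D193466)) (tt N78632 F389944) (tt N88916 F389945))
theorem Q90524 : ∀ i, i < 90524 → P i := stepQ 90523 Q90523 (allL N90523 (tt N89225 F389951) (tt N89228 F389952) (tt N66525 F389949) (tt N107231 (iv3 F457563)) (tt N72422 F389950) (tt N54356 (iv5 D193467)) (tt N66524 F389953) (tt N90587 (iv7 F390176)))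
theorem Q90525 : ∀ i, i < 90525 → P i := stepQ 90524 Q90524 (allL N90524 (tt N108480 (iv1 F462775)) (tt N116459 (iv0 F500243)) (tt N96080 (iv2 F410947)) (tt N54359 (iv3 D193468)) (tt N57086 (iv4 F389955)) (tt N90526 F389966) (tt N57085 F389954) (tt N91650 (iv7 F393896)))
theorem Q90526 : ∀ i, i < 90526 → P i := stepQ 90525 Q90525 (allL N90525 (tt N89221 F389957) (tt N89216 F389958) (tt N90570 (iv2 F390136)) (tt N90526 (iv3 F389967)) (tt N117084 (iv4 F503296)) (tt N54359 (iv5 D193469)) (tt N91418 (iv6 F393051)) (tt N90571 (iv7 F390140)))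
theorem Q90527 : ∀ i, i < 90527 → P i := stepQ 90526 Q90526 (allL N90526 (tt N74030 (iv1 F389962)) (tt N54360 (iv0 D193470)) (tt N81792 (iv2 F389961)) (tt N90525 F389967) (tt N81789 F389963) (tt N90524 (iv5 F389966)) (tt N55068 F389960) (tt N103198 (iv7 F440527)))
theorem Q90528 : ∀ i, i < 90528 → P i := stepQ 90527 Q90527 (allL N90527 (tt N81792 (iv1 F389972)) (tt N103198 (iv0 F440528)) (tt N54360 (iv2 D193471)) (tt N60159 F389968) (tt N66493 F389969) (tt N91628 F393823) (tt N67014 F389970) (tt N74030 F389971))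
theorem Q90529 : ∀ i, i < 90529 → P i := stepQ 90528 Q90528 (allL N90528 (tt N87631 F389974) (tt N91629 F393831) (tt N91628 (iv2 F393824)) (tt N54361 F389973) (tt N91614 (iv4 F406838)) (tt N54360 (iv5 D193472)) (tt N117105 D220364) (tt N91627 (iv7 F393832)))
theorem Q90530 : ∀ i, i < 90530 → P i := stepQ 90529 Q90529 (allL N90529 (tt N54380 (iv1 F389976)) (tt N54361 (iv0 D193473)) (tt N89924 (iv2 F389977)) (tt N100124 (iv3 F427572)) (tt N107491 (iv4 F458507)) (tt N54391 F389975) (tt N87789 (iv6 F389978)) (tt N88633 (iv7 F389979)))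
theorem Q90531 : ∀ i, i < 90531 → P i := stepQ 90530 Q90530 (allL N90530 (tt N54361 (iv1 D193474)) (tt N54380 F389980) (tt N88633 (iv2 F389983)) (tt N103989 (iv3 F443674)) (tt N117100 (iv4 F503384)) (tt N54392 F389982) (tt N89920 (iv6 F389984)) (tt N89924 F389981))
theorem Q90532 : ∀ i, i < 90532 → P i := stepQ 90531 Q90531 (allL N90531 (tt N108738 (iv1 F463763)) (tt N108735 (iv0 F463755)) (tt N108501 F462871) (tt N117105 (iv3 F503415)) (tt N72471 F393170) (tt N111057 (iv5 F474450)) (tt N54361 (iv6 D193475)) (tt N108736 (iv7 F463757)))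
theorem Q90533 : ∀ i, i < 90533 → P i := stepQ 90532 Q90532 (allL N90532 (tt N54362 (iv1 D193476)) (tt N95395 F408107) (tt N95396 (iv2 F408108)) (tt N87999 F389988) (tt N91005 (iv4 F391542)) (tt N87994 F389986) (tt N55086 (iv6 F389987)) (tt N91001 (iv7 F391526)))
theorem Q90534 : ∀ i, i < 90534 → P i := stepQ 90533 Q90533 (allL N90533 (tt N95396 (iv1 F408112)) (tt N91001 F391529) (tt N95395 F408103) (tt N67019 F389989) (tt N54366 F389990) (tt N88165 F389991) (tt N90981 F391458) (tt N54362 (iv7 D193477)))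
theorem Q90535 : ∀ i, i < 90535 → P i := stepQ 90534 Q90534 (allL N90534 (tt N117106 D220365) (tt N116200 (iv0 F498974)) (tt N111628 (iv2 F477214)) (tt N108264 (iv3 F461770)) (tt N54363 (iv4 D193478)) (tt N79305 F389993) (tt N54484 F389992) (tt N115897 (iv7 F497472)))
theorem Q90536 : ∀ i, i < 90536 → P i := stepQ 90535 Q90535 (allL N90535 (tt N116200 F498975) (tt N117106 F503423) (tt N115897 (iv2 F497468)) (tt N114571 (iv3 F490814)) (tt N54364 (iv4 D193479)) (tt N90756 (iv5 F390738)) (tt N106283 (iv6 F453887)) (tt N111628 (iv7 F477216)))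
theorem Q90537 : ∀ i, i < 90537 → P i := stepQ 90536 Q90536 (allL N90536 (tt N88559 F389994) (tt N88561 F389995) (tt N116452 (iv2 F500196)) (tt N113715 (iv3 F486792)) (tt N54367 (iv4 D193480)) (tt N96231 F411617) (tt N116703 (iv6 F501392)) (tt N113857 (iv7 F487487)))
theorem Q90538 : ∀ i, i < 90538 → P i := stepQ 90537 Q90537 (allL N90537 (tt N56203 F389999) (tt N92835 (iv0 F398438)) (tt N92837 F398445) (tt N76959 F389996) (tt N92228 (iv4 F396370)) (tt N54368 (iv5 D193481)) (tt N76950 F389997) (tt N76951 F389998))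
theorem Q90539 : ∀ i, i < 90539 → P i := stepQ 90538 Q90538 (allL N90538 (tt N54375 (iv1 F390006)) (tt N54370 (iv0 D193482)) (tt N54372 (iv2 F390003)) (tt N64346 F390004) (tt N87918 F390001) (tt N75832 F390000) (tt N64345 F390002) (tt N54373 F390005))
theorem Q90540 : ∀ i, i < 90540 → P i := stepQ 90539 Q90539 (allL N90539 (tt N76067 F390010) (tt N76065 F390011) (tt N54374 F390007) (tt N89925 F390008) (tt N96175 (iv4 F411346)) (tt N54370 (iv5 D193483)) (tt N71671 F390009) (tt N109471 (iv7 F467138)))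
theorem Q90541 : ∀ i, i < 90541 → P i := stepQ 90540 Q90540 (allL N90540 (tt N54373 (iv1 F390018)) (tt N54372 F390019) (tt N54375 F390014) (tt N64450 F390015) (tt N56150 F390016) (tt N109471 (iv5 F467139)) (tt N82306 F390017) (tt N54370 (iv7 D193484)))
theorem Q90542 : ∀ i, i < 90542 → P i := stepQ 90541 Q90541 (allL N90541 (tt N109479 (iv1 F467181)) (tt N93713 F401642) (tt N96175 (iv2 F411345)) (tt N89483 (iv3 F390021)) (tt N54374 (iv4 D193485)) (tt N89972 F390020) (tt N96045 (iv6 F410779)) (tt N117107 D220366))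
theorem Q90543 : ∀ i, i < 90543 → P i := stepQ 90542 Q90542 (allL N90542 (tt N76065 (iv1 F390024)) (tt N76067 F390025) (tt N109471 (iv2 F467141)) (tt N54386 F390022) (tt N117107 (iv4 F503426)) (tt N54375 F390023) (tt N89608 (iv6 F390026)) (tt N54374 (iv7 D193486)))
theorem Q90544 : ∀ i, i < 90544 → P i := stepQ 90543 Q90543 (allL N90543 (tt N56973 F390030) (tt N74612 F390031) (tt N74611 F390027) (tt N58184 (iv3 F390032)) (tt N54378 (iv4 D193487)) (tt N58183 F390029) (tt N93790 (iv6 F401896)) (tt N73061 F390028))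
theorem Q90545 : ∀ i, i < 90545 → P i := stepQ 90544 Q90544 (allL N90544 (tt N111106 F474702) (tt N112693 (iv0 F482200)) (tt N116453 (iv2 F500202)) (tt N96093 F411014) (tt N117098 (iv4 F503372)) (tt N115787 F496877) (tt N54380 (iv6 D193488)) (tt N117108 D220367))
theorem Q90546 : ∀ i, i < 90546 → P i := stepQ 90545 Q90545 (allL N90545 (tt N90981 (iv1 F391455)) (tt N54381 (iv0 D193489)) (tt N90983 (iv2 F391462)) (tt N91662 (iv3 F393942)) (tt N89286 F391235) (tt N106715 (iv5 F455373)) (tt N90960 (iv6 F391382)) (tt N54477 F391236))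
theorem Q90547 : ∀ i, i < 90547 → P i := stepQ 90546 Q90546 (allL N90546 (tt N112156 F479796) (tt N95565 (iv0 F408679)) (tt N112157 F479801) (tt N99713 F425872) (tt N117109 D220368) (tt N54381 (iv5 D193490)) (tt N115787 F496878) (tt N112158 (iv7 F479805)))
theorem Q90548 : ∀ i, i < 90548 → P i := stepQ 90547 Q90547 (allL N90547 (tt N54477 (iv1 F390035)) (tt N90983 F391465) (tt N90981 F391459) (tt N60542 F390033) (tt N54384 F390034) (tt N112158 (iv5 F479806)) (tt N95395 (iv6 F408105)) (tt N54381 (iv7 D193491)))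
theorem Q90549 : ∀ i, i < 90549 → P i := stepQ 90548 Q90548 (allL N90548 (tt N116464 (iv1 F500269)) (tt N116202 (iv0 F498987)) (tt N116454 (iv2 F500209)) (tt N108927 (iv3 F464522)) (tt N54382 (iv4 D193492)) (tt N111049 (iv5 F474416)) (tt N115108 (iv6 F493516)) (tt N54473 F390050))
theorem Q90550 : ∀ i, i < 90550 → P i := stepQ 90549 Q90549 (allL N90549 (tt N89607 F390055) (tt N54383 (iv0 D193493)) (tt N71651 (iv2 F390056)) (tt N95938 (iv3 F410346)) (tt N73431 (iv4 F390053)) (tt N54522 F390051) (tt N73430 F390052) (tt N71648 (iv7 F390057)))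
theorem Q90551 : ∀ i, i < 90551 → P i := stepQ 90550 Q90550 (allL N90550 (tt N54383 (iv1 D193494)) (tt N89607 F390058) (tt N71648 F390061) (tt N116729 (iv3 F501531)) (tt N94511 (iv4 F404773)) (tt N71635 (iv5 F390060)) (tt N84244 F390062) (tt N71651 F390059))
theorem Q90552 : ∀ i, i < 90552 → P i := stepQ 90551 Q90551 (allL N90551 (tt N94544 (iv1 F404911)) (tt N117110 D220369) (tt N116455 (iv2 F500216)) (tt N93340 (iv3 F402516)) (tt N54383 (iv4 D193495)) (tt N106754 (iv5 F455550)) (tt N54385 F390063) (tt N116662 (iv7 F501194)))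
theorem Q90553 : ∀ i, i < 90553 → P i := stepQ 90552 Q90552 (allL N90552 (tt N71648 (iv1 F390068)) (tt N71651 F390069) (tt N89607 F390064) (tt N71672 F390065) (tt N116662 (iv4 F501193)) (tt N54384 F390066) (tt N89030 F390067) (tt N54383 (iv7 D193496)))
theorem Q90554 : ∀ i, i < 90554 → P i := stepQ 90553 Q90553 (allL N90553 (tt N89989 F390072) (tt N81098 F390074) (tt N74613 F390070) (tt N54385 (iv3 D193497)) (tt N89483 F390071) (tt N74612 (iv5 F390073)) (tt N93340 F402515) (tt N108214 (iv7 F461519)))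
theorem Q90555 : ∀ i, i < 90555 → P i := stepQ 90554 Q90554 (allL N90554 (tt N74619 F390079) (tt N74581 F390080) (tt N56969 F390075) (tt N74612 F390076) (tt N73060 F390077) (tt N54385 (iv5 D193498)) (tt N93774 (iv6 F401851)) (tt N74620 F390078))
theorem Q90556 : ∀ i, i < 90556 → P i := stepQ 90555 Q90555 (allL N90555 (tt N111929 (iv1 F478717)) (tt N79608 (iv0 F390086)) (tt N54388 F390083) (tt N79592 F390084) (tt N54387 (iv4 D193499)) (tt N79590 F390085) (tt N102685 (iv6 F438197)) (tt N107103 (iv7 F456984)))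
theorem Q90557 : ∀ i, i < 90557 → P i := stepQ 90556 Q90556 (allL N90556 (tt N71772 F390090) (tt N79141 F390091) (tt N54389 F390087) (tt N63103 F390088) (tt N103606 (iv4 F442211)) (tt N54387 (iv5 D193500)) (tt N94465 (iv6 F404579)) (tt N64418 F390089))
theorem Q90558 : ∀ i, i < 90558 → P i := stepQ 90557 Q90557 (allL N90557 (tt N71467 (iv1 F390119)) (tt N70931 (iv0 F390094)) (tt N54390 F390092) (tt N58525 F390093) (tt N102685 (iv4 F438195)) (tt N113845 (iv5 F487416)) (tt N54387 (iv6 D193501)) (tt N71398 (iv7 F390095)))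
theorem Q90559 : ∀ i, i < 90559 → P i := stepQ 90558 Q90558 (allL N90558 (tt N107103 (iv1 F456986)) (tt N54388 (iv0 D193502)) (tt N111929 (iv2 F478711)) (tt N58796 (iv3 F390099)) (tt N77428 F390097) (tt N58795 F390096) (tt N71342 F390100) (tt N79608 (iv7 F390098)))
theorem Q90560 : ∀ i, i < 90560 → P i := stepQ 90559 Q90559 (allL N90559 (tt N55051 F406820) (tt N112386 F480861) (tt N108679 (iv2 F463507)) (tt N54388 (iv3 D193503)) (tt N54393 F390101) (tt N112499 (iv5 F481372)) (tt N67002 F422850) (tt N112847 (iv7 F482941)))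
theorem Q90561 : ∀ i, i < 90561 → P i := stepQ 90560 Q90560 (allL N90560 (tt N65846 F390107) (tt N79596 F390106) (tt N79590 F390104) (tt N112499 (iv3 F481369)) (tt N101995 (iv4 F435277)) (tt N54388 (iv5 D193504)) (tt N65837 F390108) (tt N79595 F390105))
theorem Q90562 : ∀ i, i < 90562 → P i := stepQ 90561 Q90561 (allL N90561 (tt N98118 (iv1 F419532)) (tt N71336 (iv0 F390111)) (tt N102685 (iv2 F438194)) (tt N67002 (iv3 F422848)) (tt N54390 F390109) (tt N75360 F390110) (tt N54388 (iv6 D193505)) (tt N106730 (iv7 F455445)))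
theorem Q90563 : ∀ i, i < 90563 → P i := stepQ 90562 Q90562 (allL N90562 (tt N76116 F390114) (tt N76529 F390115) (tt N103606 (iv2 F442210)) (tt N78627 F390112) (tt N54389 (iv4 D193506)) (tt N109289 (iv5 F466209)) (tt N100622 (iv6 F429744)) (tt N77023 F390113))
theorem Q90564 : ∀ i, i < 90564 → P i := stepQ 90563 Q90563 (allL N90563 (tt N71398 (iv1 F390120)) (tt N54390 (iv0 D193507)) (tt N71467 (iv2 F390116)) (tt N117025 (iv3 F503019)) (tt N98459 (iv4 F420968)) (tt N106241 (iv5 F453721)) (tt N71474 F390117) (tt N70931 F390118))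
theorem Q90565 : ∀ i, i < 90565 → P i := stepQ 90564 Q90564 (allL N90564 (tt N70931 (iv1 F390124)) (tt N71467 F390125) (tt N71398 F390121) (tt N54399 F390122) (tt N106730 (iv4 F455447)) (tt N86347 F390123) (tt N99895 (iv6 F426720)) (tt N54390 (iv7 D193508)))
theorem Q90566 : ∀ i, i < 90566 → P i := stepQ 90565 Q90565 (allL N90565 (tt N58430 F390128) (tt N95574 F408710) (tt N91624 (iv2 F393808)) (tt N54391 (iv3 D193509)) (tt N74286 F425224) (tt N100124 (iv5 F427574)) (tt N89506 F390126) (tt N88632 F390127))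
theorem Q90567 : ∀ i, i < 90567 → P i := stepQ 90566 Q90566 (allL N90566 (tt N91628 (iv1 F393822)) (tt N91627 F393830) (tt N91629 (iv2 F393826)) (tt N54392 (iv3 D193510)) (tt N95049 F406819) (tt N103989 (iv5 F443676)) (tt N54511 F390129) (tt N87631 F390130))
theorem Q90568 : ∀ i, i < 90568 → P i := stepQ 90567 Q90567 (allL N90567 (tt N55057 F416497) (tt N103989 F443679) (tt N54393 (iv2 D193511)) (tt N97360 F416498) (tt N108679 (iv4 F463509)) (tt N108480 (iv5 F462772)) (tt N99666 (iv6 F425655)) (tt N108653 (iv7 F463375)))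
theorem Q90569 : ∀ i, i < 90569 → P i := stepQ 90568 Q90568 (allL N90568 (tt N91650 F393897) (tt N96080 (iv0 F410950)) (tt N108480 (iv2 F462771)) (tt N54394 F390131) (tt N117111 D220370) (tt N54393 (iv5 D193512)) (tt N91637 (iv6 F393855)) (tt N116459 (iv7 F500242)))
theorem Q90570 : ∀ i, i < 90570 → P i := stepQ 90569 Q90569 (allL N90569 (tt N108521 F462926) (tt N99725 F425923) (tt N99666 (iv2 F425653)) (tt N54395 F390132) (tt N67002 F422849) (tt N115574 (iv5 F495833)) (tt N54393 (iv6 D193513)) (tt N108522 (iv7 F462931)))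
theorem Q90571 : ∀ i, i < 90571 → P i := stepQ 90570 Q90570 (allL N90570 (tt N54401 (iv1 F390134)) (tt N54394 (iv0 D193514)) (tt N90525 F390136) (tt N72313 (iv3 F390135)) (tt N110902 (iv4 F473699)) (tt N71818 F390133) (tt N72311 F390137) (tt N73628 F390138))
theorem Q90572 : ∀ i, i < 90572 → P i := stepQ 90571 Q90571 (allL N90571 (tt N54394 (iv1 D193515)) (tt N54401 F390139) (tt N73628 (iv2 F390142)) (tt N103198 (iv3 F440524)) (tt N117079 (iv4 F503269)) (tt N89197 F390141) (tt N73626 (iv6 F390143)) (tt N90525 F390140))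
theorem Q90573 : ∀ i, i < 90573 → P i := stepQ 90572 Q90572 (allL N90572 (tt N117112 D220371) (tt N91651 (iv0 F393901)) (tt N116456 (iv2 F500220)) (tt N91637 F393856) (tt N107284 (iv4 F457791)) (tt N112253 (iv5 F480232)) (tt N54394 (iv6 D193516)) (tt N79508 F390144))
theorem Q90574 : ∀ i, i < 90574 → P i := stepQ 90573 Q90573 (allL N90573 (tt N95561 F408660) (tt N54395 (iv0 D193517)) (tt N108517 F462907) (tt N95570 F455324) (tt N117113 D220372) (tt N117114 D220373) (tt N54533 F390145) (tt N71584 (iv7 F390146)))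
theorem Q90575 : ∀ i, i < 90575 → P i := stepQ 90574 Q90574 (allL N90574 (tt N54395 (iv1 D193518)) (tt N95561 F408661) (tt N71584 F390148) (tt N93926 (iv3 F402450)) (tt N114674 (iv4 F491315)) (tt N117115 D220374) (tt N70887 (iv6 F390147)) (tt N108517 (iv7 F462909)))
theorem Q90576 : ∀ i, i < 90576 → P i := stepQ 90575 Q90575 (allL N90575 (tt N90669 F390462) (tt N112248 F480215) (tt N108518 (iv2 F462911)) (tt N115574 F495834) (tt N73440 F390149) (tt N54395 (iv5 D193519)) (tt N112253 (iv6 F480233)) (tt N112092 F479459))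
theorem Q90577 : ∀ i, i < 90577 → P i := stepQ 90576 Q90576 (allL N90576 (tt N71584 (iv1 F390152)) (tt N108517 F462908) (tt N95561 (iv2 F408654)) (tt N108522 (iv3 F462928)) (tt N54399 F390150) (tt N112092 (iv5 F479458)) (tt N58443 F390151) (tt N54395 (iv7 D193520)))
theorem Q90578 : ∀ i, i < 90578 → P i := stepQ 90577 Q90577 (allL N90577 (tt N107911 (iv1 F460240)) (tt N107910 (iv0 F460237)) (tt N107912 (iv2 F460247)) (tt N54397 (iv3 D193521)) (tt N91531 F393514) (tt N107268 F457720) (tt N54538 F390153) (tt N71627 F390154))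
theorem Q90579 : ∀ i, i < 90579 → P i := stepQ 90578 Q90578 (allL N90578 (tt N95449 (iv1 F408231)) (tt N54409 F408232) (tt N116457 (iv2 F500226)) (tt N74159 (iv3 F390157)) (tt N54397 (iv4 D193522)) (tt N115585 (iv5 F495869)) (tt N54539 F390155) (tt N71629 F390156))
theorem Q90580 : ∀ i, i < 90580 → P i := stepQ 90579 Q90579 (allL N90579 (tt N84906 F390160) (tt N85590 (iv0 F390161)) (tt N85589 F390158) (tt N107268 (iv3 F457721)) (tt N113859 (iv4 F487498)) (tt N54397 (iv5 D193523)) (tt N113978 (iv6 F488046)) (tt N71632 F390159))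
theorem Q90581 : ∀ i, i < 90581 → P i := stepQ 90580 Q90580 (allL N90580 (tt N54409 F390164) (tt N95449 F408230) (tt N71629 F390162) (tt N117116 D220375) (tt N54398 (iv4 D193524)) (tt N117117 D220376) (tt N70905 F390163) (tt N116457 (iv7 F500228)))
theorem Q90582 : ∀ i, i < 90582 → P i := stepQ 90581 Q90581 (allL N90581 (tt N104970 (iv1 F448204)) (tt N99902 (iv0 F426749)) (tt N82575 (iv2 F390167)) (tt N54405 (iv3 D193525)) (tt N82221 (iv4 F390168)) (tt N84265 F390165) (tt N54517 F390166) (tt N108354 (iv7 F462212)))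
theorem Q90583 : ∀ i, i < 90583 → P i := stepQ 90582 Q90582 (allL N90582 (tt N110834 (iv1 F473365)) (tt N54407 (iv0 D193526)) (tt N91471 F422922) (tt N54929 F422923) (tt N98985 F422921) (tt N91471 F422924) (tt N54918 F422925) (tt N109538 (iv7 F467437)))
theorem Q90584 : ∀ i, i < 90584 → P i := stepQ 90583 Q90583 (allL N90583 (tt N54407 (iv1 D193527)) (tt N110834 (iv0 F473364)) (tt N109538 (iv2 F467433)) (tt N91481 F422926) (tt N101640 F433668) (tt N109538 (iv5 F467436)) (tt N54545 F422927) (tt N91471 F422928))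
theorem Q90585 : ∀ i, i < 90585 → P i := stepQ 90584 Q90584 (allL N90584 (tt N91471 (iv1 F423923)) (tt N109538 (iv0 F467438)) (tt N54407 (iv2 D193528)) (tt N54418 F390169) (tt N62163 F390170) (tt N99281 F423922) (tt N117118 D220377) (tt N110834 (iv7 F473363)))
theorem Q90586 : ∀ i, i < 90586 → P i := stepQ 90585 Q90585 (allL N90585 (tt N98842 (iv1 F423205)) (tt N78049 (iv0 F423204)) (tt N99281 F423920) (tt N54408 F390171) (tt N99064 F423203) (tt N54407 (iv5 D193529)) (tt N117119 D220378) (tt N99280 F423916))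
theorem Q90587 : ∀ i, i < 90587 → P i := stepQ 90586 Q90586 (allL N90586 (tt N117120 D220379) (tt N117121 D220380) (tt N117118 (iv2 F503486)) (tt N54409 F390172) (tt N98889 (iv4 F422705)) (tt N117122 D220381) (tt N54407 (iv6 D193530)) (tt N117123 D220382))
theorem Q90588 : ∀ i, i < 90588 → P i := stepQ 90587 Q90587 (allL N90587 (tt N54411 (iv1 F390175)) (tt N54408 (iv0 D193531)) (tt N60309 (iv2 F390174)) (tt N73664 F390178) (tt N96216 (iv4 F411542)) (tt N71840 F390173) (tt N60295 (iv6 F390177)) (tt N90523 F390176))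
theorem Q90589 : ∀ i, i < 90589 → P i := stepQ 90588 Q90588 (allL N90588 (tt N106112 F453178) (tt N116805 (iv0 F501934)) (tt N116461 (iv2 F500252)) (tt N117119 (iv3 F503490)) (tt N117088 (iv4 F503313)) (tt N117124 D220383) (tt N54408 (iv6 D193532)) (tt N116811 (iv7 F501962)))
theorem Q90590 : ∀ i, i < 90590 → P i := stepQ 90589 Q90589 (allL N90589 (tt N90653 (iv1 F390410)) (tt N115065 F493316) (tt N116462 (iv2 F500257)) (tt N117122 (iv3 F503501)) (tt N115104 (iv4 F493499)) (tt N54409 (iv5 D193534)) (tt N117124 (iv6 F503510)) (tt N81159 F390182))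
theorem Q90591 : ∀ i, i < 90591 → P i := stepQ 90590 Q90590 (allL N90590 (tt N71629 (iv1 F390180)) (tt N116457 (iv0 F500229)) (tt N95449 (iv2 F408227)) (tt N117123 (iv3 F503505)) (tt N106470 F454591) (tt N81159 (iv5 F390181)) (tt N59828 F390179) (tt N54409 (iv7 D193535)))
theorem Q90592 : ∀ i, i < 90592 → P i := stepQ 90591 Q90591 (allL N90591 (tt N96612 (iv1 F413176)) (tt N71034 (iv0 F390185)) (tt N96619 F413207) (tt N54412 F390183) (tt N107032 (iv4 F456717)) (tt N59830 (iv5 F390184)) (tt N54410 (iv6 D193536)) (tt N95447 (iv7 F408218)))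
theorem Q90593 : ∀ i, i < 90593 → P i := stepQ 90592 Q90592 (allL N90592 (tt N79257 (iv1 F390190)) (tt N79483 (iv0 F390189)) (tt N80924 F390186) (tt N116202 (iv3 F498984)) (tt N112285 (iv4 F480359)) (tt N59831 F390187) (tt N54411 (iv6 D193537)) (tt N80921 (iv7 F390188)))
theorem Q90594 : ∀ i, i < 90594 → P i := stepQ 90593 Q90593 (allL N90593 (tt N54414 (iv1 F390194)) (tt N54413 (iv0 D193538)) (tt N54417 (iv2 F390193)) (tt N74171 (iv3 F390196)) (tt N90015 F390192) (tt N74048 F390191) (tt N55011 (iv6 F390197)) (tt N54415 F390195))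
theorem Q90595 : ∀ i, i < 90595 → P i := stepQ 90594 Q90594 (allL N90594 (tt N99333 F424142) (tt N117125 D220384) (tt N107798 (iv2 F459765)) (tt N117126 D220385) (tt N54413 (iv4 D193539)) (tt N73469 (iv5 F401482)) (tt N107794 (iv6 F459749)) (tt N93662 F401481))
theorem Q90596 : ∀ i, i < 90596 → P i := stepQ 90595 Q90595 (allL N90595 (tt N117127 D220386) (tt N117116 (iv0 F503483)) (tt N107797 (iv2 F459761)) (tt N74127 (iv3 F414066)) (tt N107794 F459753) (tt N117128 D220387) (tt N54413 (iv6 D193540)) (tt N95352 (iv7 F407971)))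
theorem Q90597 : ∀ i, i < 90597 → P i := stepQ 90596 Q90596 (allL N90596 (tt N54993 F392525) (tt N54929 F392526) (tt N55052 F390198) (tt N54414 (iv3 D193541)) (tt N80237 (iv4 F390199)) (tt N93835 (iv5 F402085)) (tt N95334 (iv6 F407895)) (tt N55053 (iv7 F390200)))
theorem Q90598 : ∀ i, i < 90598 → P i := stepQ 90597 Q90597 (allL N90597 (tt N117125 (iv1 F503514)) (tt N99333 F424141) (tt N93662 (iv2 F401478)) (tt N117129 D220388) (tt N54414 (iv4 D193542)) (tt N73470 (iv5 F398665)) (tt N92890 F398664) (tt N107798 (iv7 F459767)))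
theorem Q90599 : ∀ i, i < 90599 → P i := stepQ 90598 Q90598 (allL N90598 (tt N57080 F390206) (tt N95351 F407966) (tt N59789 F390204) (tt N95334 (iv3 F407891)) (tt N92890 (iv4 F398662)) (tt N59788 F390205) (tt N54414 (iv6 D193543)) (tt N93659 (iv7 F401468)))
theorem Q90600 : ∀ i, i < 90600 → P i := stepQ 90599 Q90599 (allL N90599 (tt N117130 D220389) (tt N62647 (iv0 F393171)) (tt N116460 (iv2 F500245)) (tt N117118 (iv3 F503487)) (tt N117082 (iv4 F503283)) (tt N111460 (iv5 F476453)) (tt N54418 (iv6 D193544)) (tt N117131 D220390))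
theorem Q90601 : ∀ i, i < 90601 → P i := stepQ 90600 Q90600 (allL N90600 (tt N89955 (iv1 F390213)) (tt N86265 (iv0 F390214)) (tt N89956 F390207) (tt N59223 F390208) (tt N54420 F390209) (tt N86329 (iv5 F390211)) (tt N54419 (iv6 D193545)) (tt N72178 F390210))
theorem Q90602 : ∀ i, i < 90602 → P i := stepQ 90601 Q90601 (allL N90601 (tt N116111 (iv1 F498522)) (tt N116110 F498519) (tt N112343 (iv2 F480665)) (tt N114889 (iv3 F492364)) (tt N54423 (iv4 D193546)) (tt N114888 (iv5 F492362)) (tt N54424 F390216) (tt N54586 F390217))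
theorem Q90603 : ∀ i, i < 90603 → P i := stepQ 90602 Q90602 (allL N90602 (tt N81915 F431882) (tt N113456 F485576) (tt N105575 (iv2 F450802)) (tt N54424 (iv3 D193547)) (tt N72573 F390218) (tt N92151 (iv5 F396004)) (tt N114889 (iv6 F492365)) (tt N54445 F390219))
theorem Q90604 : ∀ i, i < 90604 → P i := stepQ 90603 Q90603 (allL N90603 (tt N75906 (iv1 F390221)) (tt N54425 (iv0 D193548)) (tt N89931 (iv2 F390222)) (tt N64350 (iv3 F390223)) (tt N88423 (iv4 F390236)) (tt N80598 F390220) (tt N114022 (iv6 F488235)) (tt N64885 F390224))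
theorem Q90605 : ∀ i, i < 90605 → P i := stepQ 90604 Q90604 (allL N90604 (tt N54425 (iv1 D193549)) (tt N75906 F390228) (tt N64885 (iv2 F390230)) (tt N117132 D220391) (tt N88424 (iv4 F390232)) (tt N89932 (iv5 F390231)) (tt N114715 F491493) (tt N89931 F390229))
theorem Q90606 : ∀ i, i < 90606 → P i := stepQ 90605 Q90605 (allL N90605 (tt N77384 (iv1 F390241)) (tt N77308 F390242) (tt N77158 F390238) (tt N54427 (iv3 D193550)) (tt N110242 (iv4 F470594)) (tt N76490 F390239) (tt N110382 (iv6 F471324)) (tt N76489 F390240))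
theorem Q90607 : ∀ i, i < 90607 → P i := stepQ 90606 Q90606 (allL N90606 (tt N101085 (iv1 F431607)) (tt N112111 (iv0 F479534)) (tt N110351 F471179) (tt N117133 D220392) (tt N54428 (iv4 D193551)) (tt N114435 (iv5 F490147)) (tt N114259 F489275) (tt N77389 F390243))
theorem Q90608 : ∀ i, i < 90608 → P i := stepQ 90607 Q90607 (allL N90607 (tt N54429 (iv1 D193552)) (tt N54434 F390244) (tt N112325 F480565) (tt N117134 D220393) (tt N81395 F390245) (tt N114381 (iv5 F489888)) (tt N91168 (iv6 F392134)) (tt N112324 (iv7 F480560)))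
theorem Q90609 : ∀ i, i < 90609 → P i := stepQ 90608 Q90608 (allL N90608 (tt N54595 F390248) (tt N87693 F390252) (tt N87691 (iv2 F390896)) (tt N54429 (iv3 D193553)) (tt N54591 F390246) (tt N113039 (iv5 F483678)) (tt N54590 (iv6 F390256)) (tt N87690 F390247))
theorem Q90610 : ∀ i, i < 90610 → P i := stepQ 90609 Q90609 (allL N90609 (tt N71481 (iv1 F390261)) (tt N71480 F390260) (tt N71482 F390257) (tt N113039 (iv3 F483676)) (tt N60962 F390258) (tt N54429 (iv5 D193554)) (tt N113038 (iv6 F483674)) (tt N71475 F390259))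
theorem Q90611 : ∀ i, i < 90611 → P i := stepQ 90610 Q90610 (allL N90610 (tt N114022 (iv1 F488238)) (tt N114020 (iv0 F488230)) (tt N112326 (iv2 F480568)) (tt N54590 F390262) (tt N54430 F390263) (tt N72472 (iv5 F457952)) (tt N54429 (iv6 D193555)) (tt N114718 (iv7 F491511)))
theorem Q90612 : ∀ i, i < 90612 → P i := stepQ 90611 Q90611 (allL N90611 (tt N99927 (iv1 F426859)) (tt N54430 (iv0 D193556)) (tt N77361 (iv2 F390265)) (tt N110248 (iv3 F470631)) (tt N110249 (iv4 F470632)) (tt N83857 F390264) (tt N54598 (iv6 F390267)) (tt N84214 (iv7 F390266)))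
theorem Q90613 : ∀ i, i < 90613 → P i := stepQ 90612 Q90612 (allL N90612 (tt N54430 (iv1 D193557)) (tt N99927 F426858) (tt N84214 (iv2 F390270)) (tt N77152 (iv3 F390271)) (tt N110376 (iv4 F471297)) (tt N83856 F390269) (tt N90684 (iv6 F390514)) (tt N77361 F390268))
theorem Q90614 : ∀ i, i < 90614 → P i := stepQ 90613 Q90613 (allL N90613 (tt N75851 (iv1 F390273)) (tt N54431 (iv0 D193558)) (tt N75893 F390279) (tt N116115 F498548) (tt N99140 F423440) (tt N109476 (iv5 F467165)) (tt N116863 F502230) (tt N75892 F390277))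
theorem Q90615 : ∀ i, i < 90615 → P i := stepQ 90614 Q90614 (allL N90614 (tt N54431 (iv1 D193559)) (tt N75851 F390274) (tt N75892 (iv2 F390276)) (tt N77143 (iv3 F430752)) (tt N109505 (iv4 F467296)) (tt N76068 F390275) (tt N110387 (iv6 F471352)) (tt N75893 (iv7 F390278)))
theorem Q90616 : ∀ i, i < 90616 → P i := stepQ 90615 Q90615 (allL N90615 (tt N117135 D220394) (tt N117136 D220395) (tt N75907 F390280) (tt N71506 F390281) (tt N54431 (iv4 D193560)) (tt N76795 (iv5 F390283)) (tt N71527 (iv6 F390284)) (tt N75894 F390282))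
theorem Q90617 : ∀ i, i < 90617 → P i := stepQ 90616 Q90616 (allL N90616 (tt N116898 (iv1 F502415)) (tt N116104 (iv0 F498479)) (tt N75908 F390285) (tt N54435 F390286) (tt N71527 F390287) (tt N98452 (iv5 F422883)) (tt N54431 (iv6 D193561)) (tt N99930 (iv7 F426872)))
theorem Q90618 : ∀ i, i < 90618 → P i := stepQ 90617 Q90617 (allL N90617 (tt N117137 D220396) (tt N114790 (iv0 F491878)) (tt N90117 F390288) (tt N98452 F422884) (tt N116760 (iv4 F501680)) (tt N54435 (iv5 D193562)) (tt N54436 F390289) (tt N89850 F390290))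
theorem Q90619 : ∀ i, i < 90619 → P i := stepQ 90618 Q90618 (allL N90618 (tt N54441 (iv1 F390294)) (tt N54438 (iv0 D193563)) (tt N88615 (iv2 F390293)) (tt N94590 (iv3 F405094)) (tt N81394 F390292) (tt N71481 F390291) (tt N89101 (iv6 F390296)) (tt N83921 F390295))
theorem Q90620 : ∀ i, i < 90620 → P i := stepQ 90619 Q90619 (allL N90619 (tt N113429 F485461) (tt N117138 D220397) (tt N112332 (iv2 F480606)) (tt N112337 (iv3 F480635)) (tt N54439 F390297) (tt N91801 (iv5 F394481)) (tt N54438 (iv6 D193564)) (tt N112338 (iv7 F480642)))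
theorem Q90621 : ∀ i, i < 90621 → P i := stepQ 90620 Q90620 (allL N90620 (tt N54439 (iv1 D193565)) (tt N112335 F480626) (tt N112334 (iv2 F480619)) (tt N83308 F450617) (tt N112991 (iv4 F483450)) (tt N105534 (iv5 F450616)) (tt N114323 (iv6 F489604)) (tt N112333 F480614))
theorem Q90622 : ∀ i, i < 90622 → P i := stepQ 90621 Q90621 (allL N90621 (tt N75850 F390300) (tt N75886 (iv0 F390301)) (tt N75883 F390298) (tt N76800 F390311) (tt N54440 (iv4 D193566)) (tt N99196 F423655) (tt N117139 D220398) (tt N75882 F390299))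
theorem Q90623 : ∀ i, i < 90623 → P i := stepQ 90622 Q90622 (allL N90622 (tt N117140 D220399) (tt N113438 (iv0 F498498)) (tt N116858 (iv2 F502203)) (tt N54442 F390302) (tt N117139 (iv4 F503588)) (tt N100066 (iv5 F427412)) (tt N54440 (iv6 D193567)) (tt N117141 D220400))
theorem Q90624 : ∀ i, i < 90624 → P i := stepQ 90623 Q90623 (allL N90623 (tt N71501 F390310) (tt N71503 (iv0 F390309)) (tt N99214 (iv2 F423712)) (tt N54441 (iv3 D193568)) (tt N76800 (iv4 F390308)) (tt N76765 F390307) (tt N101751 (iv6 F434174)) (tt N112331 (iv7 F480602)))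
theorem Q90625 : ∀ i, i < 90625 → P i := stepQ 90624 Q90624 (allL N90624 (tt N112065 F479326) (tt N105489 (iv0 F450447)) (tt N98576 (iv2 F421412)) (tt N76765 (iv3 F390306)) (tt N85039 F390303) (tt N54441 (iv5 D193569)) (tt N64672 F390305) (tt N84963 F390304))
theorem Q90626 : ∀ i, i < 90626 → P i := stepQ 90625 Q90625 (allL N90625 (tt N54442 (iv1 D193570)) (tt N112337 (iv0 F480637)) (tt N83075 (iv2 F390313)) (tt N113427 (iv3 F485451)) (tt N77182 (iv4 F390314)) (tt N84313 F390316) (tt N54614 F390315) (tt N77426 F390312))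
theorem Q90627 : ∀ i, i < 90627 → P i := stepQ 90626 Q90626 (allL N90626 (tt N83075 (iv1 F390317)) (tt N77426 F390318) (tt N112337 (iv2 F480634)) (tt N117141 (iv3 F503595)) (tt N112336 F480633) (tt N116822 (iv5 F502009)) (tt N112335 (iv6 F480625)) (tt N54442 (iv7 D193571)))
theorem Q90628 : ∀ i, i < 90628 → P i := stepQ 90627 Q90627 (allL N90627 (tt N117142 D220401) (tt N117143 D220402) (tt N116099 (iv2 F498450)) (tt N54443 (iv3 D193572)) (tt N112523 (iv4 F481494)) (tt N114380 F489883) (tt N113209 (iv6 F484491)) (tt N112340 (iv7 F480650)))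
theorem Q90629 : ∀ i, i < 90629 → P i := stepQ 90628 Q90628 (allL N90628 (tt N98574 (iv1 F421378)) (tt N92236 (iv0 F396401)) (tt N98577 F421429) (tt N116102 (iv3 F498464)) (tt N85987 F390320) (tt N54444 (iv5 D193574)) (tt N77213 (iv6 F390322)) (tt N85042 F390321))
theorem Q90630 : ∀ i, i < 90630 → P i := stepQ 90629 Q90629 (allL N90629 (tt N77422 (iv1 F421381)) (tt N77182 (iv0 F421380)) (tt N77425 F421426) (tt N81837 F433175) (tt N83435 (iv4 F421382)) (tt N109328 (iv5 F466406)) (tt N54444 (iv6 D193575)) (tt N77424 (iv7 F421428)))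
theorem Q90631 : ∀ i, i < 90631 → P i := stepQ 90630 Q90630 (allL N90630 (tt N54445 (iv1 D193577)) (tt N105575 (iv0 F450806)) (tt N81915 F418874) (tt N88613 F418872) (tt N107619 (iv4 F458959)) (tt N88731 (iv5 F418871)) (tt N77459 (iv6 F418873)) (tt N113456 (iv7 F485575)))
theorem Q90632 : ∀ i, i < 90632 → P i := stepQ 90631 Q90631 (allL N90631 (tt N113456 (iv1 F485577)) (tt N81915 F431883) (tt N54445 (iv2 D193578)) (tt N110241 F470592) (tt N83315 F390323) (tt N69914 F390339) (tt N54630 F390324) (tt N105575 (iv7 F450804)))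
theorem Q90633 : ∀ i, i < 90633 → P i := stepQ 90632 Q90632 (allL N90632 (tt N69996 F390326) (tt N92153 F395989) (tt N69914 (iv2 F390338)) (tt N54446 F390325) (tt N105787 (iv4 F451715)) (tt N54445 (iv5 D193579)) (tt N69747 F390337) (tt N92151 (iv7 F396005)))
theorem Q90634 : ∀ i, i < 90634 → P i := stepQ 90633 Q90633 (allL N90633 (tt N60963 (iv1 F390327)) (tt N54446 (iv0 D193580)) (tt N112341 F480653) (tt N117144 D220403) (tt N105319 (iv4 F449691)) (tt N101085 (iv5 F431605)) (tt N117145 D220404) (tt N109142 (iv7 F465543)))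
theorem Q90635 : ∀ i, i < 90635 → P i := stepQ 90634 Q90634 (allL N90634 (tt N54446 (iv1 D193581)) (tt N60963 F390328) (tt N109142 (iv2 F465537)) (tt N72012 F390331) (tt N84930 F390329) (tt N112111 (iv5 F479532)) (tt N60925 (iv6 F390330)) (tt N112341 (iv7 F480655)))
theorem Q90636 : ∀ i, i < 90636 → P i := stepQ 90635 Q90635 (allL N90635 (tt N105317 (iv1 F449682)) (tt N69756 (iv0 F390334)) (tt N112342 (iv2 F480658)) (tt N69747 (iv3 F390335)) (tt N55406 F390332) (tt N54632 F390333) (tt N54446 (iv6 D193582)) (tt N69915 (iv7 F390336)))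
theorem Q90637 : ∀ i, i < 90637 → P i := stepQ 90636 Q90636 (allL N90636 (tt N71946 F390344) (tt N55381 (iv0 F390345)) (tt N71943 F390340) (tt N80643 F390341) (tt N54453 (iv4 D193583)) (tt N117146 D220405) (tt N90475 F390342) (tt N71944 F390343))
theorem Q90638 : ∀ i, i < 90638 → P i := stepQ 90637 Q90637 (allL N90637 (tt N88104 F391416) (tt N88986 F390348) (tt N107500 (iv2 F458546)) (tt N54454 F390346) (tt N110539 (iv4 F472054)) (tt N54453 (iv5 D193584)) (tt N107499 (iv6 F458542)) (tt N81558 F390347))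
theorem Q90639 : ∀ i, i < 90639 → P i := stepQ 90638 Q90638 (allL N90638 (tt N66246 (iv1 F390352)) (tt N54455 (iv0 D193585)) (tt N81051 (iv2 F390351)) (tt N90401 (iv3 F390354)) (tt N54977 F390350) (tt N80647 F390349) (tt N117147 D220406) (tt N80756 F390353))
theorem Q90640 : ∀ i, i < 90640 → P i := stepQ 90639 Q90639 (allL N90639 (tt N81051 (iv1 F390361)) (tt N80756 F390360) (tt N54455 (iv2 D193586)) (tt N66247 F390357) (tt N54480 F390358) (tt N111930 (iv5 F478720)) (tt N66460 (iv6 F390362)) (tt N66246 F390359))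
theorem Q90641 : ∀ i, i < 90641 → P i := stepQ 90640 Q90640 (allL N90640 (tt N66459 F390367) (tt N60092 (iv0 F390369)) (tt N66460 F390363) (tt N54456 F390364) (tt N54481 F390365) (tt N60358 F390368) (tt N54455 (iv6 D193587)) (tt N66451 F390366))
theorem Q90642 : ∀ i, i < 90642 → P i := stepQ 90641 Q90641 (allL N90641 (tt N80967 F390374) (tt N106826 F455859) (tt N79288 F390370) (tt N60358 F390371) (tt N59492 F390373) (tt N54456 (iv5 D193588)) (tt N78636 F390372) (tt N102274 (iv7 F436495)))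
theorem Q90643 : ∀ i, i < 90643 → P i := stepQ 90642 Q90642 (allL N90642 (tt N106846 (iv1 F455961)) (tt N73591 (iv0 F390378)) (tt N74923 F390375) (tt N100772 (iv3 F430397)) (tt N54457 (iv4 D193589)) (tt N86070 F390377) (tt N54462 F390376) (tt N106838 (iv7 F455918)))
theorem Q90644 : ∀ i, i < 90644 → P i := stepQ 90643 Q90643 (allL N90643 (tt N54460 (iv1 F390381)) (tt N54458 (iv0 D193590)) (tt N91914 (iv2 F394941)) (tt N55018 F390380) (tt N87032 F390379) (tt N87413 (iv5 F390384)) (tt N83587 (iv6 F390383)) (tt N79008 F390382))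
theorem Q90645 : ∀ i, i < 90645 → P i := stepQ 90644 Q90644 (allL N90644 (tt N111306 (iv1 F475740)) (tt N113832 (iv0 F487344)) (tt N114092 (iv2 F488545)) (tt N90757 F390745) (tt N113901 (iv4 F487696)) (tt N54458 (iv5 D193591)) (tt N117148 D220407) (tt N114706 (iv7 F491443)))
theorem Q90646 : ∀ i, i < 90646 → P i := stepQ 90645 Q90645 (allL N90645 (tt N113832 (iv1 F487345)) (tt N111306 (iv0 F475739)) (tt N114706 (iv2 F491440)) (tt N84584 F390385) (tt N113902 (iv4 F487699)) (tt N54460 (iv5 D193592)) (tt N113656 (iv6 F486510)) (tt N114092 (iv7 F488547)))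
theorem Q90647 : ∀ i, i < 90647 → P i := stepQ 90646 Q90646 (allL N90646 (tt N77563 (iv1 F390389)) (tt N78687 (iv0 F390388)) (tt N100584 (iv2 F429560)) (tt N54461 (iv3 D193593)) (tt N107601 (iv4 F458895)) (tt N83833 F390386) (tt N62763 (iv6 F390390)) (tt N84038 F390387))
theorem Q90648 : ∀ i, i < 90648 → P i := stepQ 90647 Q90647 (allL N90647 (tt N84275 (iv1 F396169)) (tt N98094 F419437) (tt N84176 F390391) (tt N62763 F390392) (tt N56201 F390393) (tt N84172 (iv5 F390394)) (tt N54461 (iv6 D193594)) (tt N92190 (iv7 F396168)))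
theorem Q90649 : ∀ i, i < 90649 → P i := stepQ 90648 Q90648 (allL N90648 (tt N54462 (iv1 D193595)) (tt N84246 F390395) (tt N84248 F390399) (tt N73597 (iv3 F390398)) (tt N98542 (iv4 F421252)) (tt N84817 F390397) (tt N98290 (iv6 F420355)) (tt N84249 F390396))
theorem Q90650 : ∀ i, i < 90650 → P i := stepQ 90649 Q90649 (allL N90649 (tt N73565 F390403) (tt N63141 F390404) (tt N73580 F390400) (tt N54463 (iv3 D193596)) (tt N54465 F390401) (tt N103921 (iv5 F443385)) (tt N107237 (iv6 F457587)) (tt N73599 F390402))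
theorem Q90651 : ∀ i, i < 90651 → P i := stepQ 90650 Q90650 (allL N90650 (tt N84362 F390407) (tt N102973 F439517) (tt N84199 F390405) (tt N102979 (iv3 F439532)) (tt N54723 F390406) (tt N115679 (iv5 F496277)) (tt N54466 (iv6 D193597)) (tt N110596 (iv7 F472308)))
theorem Q90652 : ∀ i, i < 90652 → P i := stepQ 90651 Q90651 (allL N90651 (tt N115108 (iv1 F493519)) (tt N54467 (iv0 D193598)) (tt N115109 F493524) (tt N116804 (iv3 F501924)) (tt N54690 F391390) (tt N117148 (iv5 F503636)) (tt N114645 F491176) (tt N115110 (iv7 F493527)))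
theorem Q90653 : ∀ i, i < 90653 → P i := stepQ 90652 Q90652 (allL N90652 (tt N54467 (iv1 D193599)) (tt N115108 (iv0 F493518)) (tt N115110 (iv2 F493531)) (tt N117149 D220408) (tt N54691 F390408) (tt N117150 D220409) (tt N106276 F453852) (tt N115109 F493525))
theorem Q90654 : ∀ i, i < 90654 → P i := stepQ 90653 Q90653 (allL N90653 (tt N112091 F479455) (tt N90589 F390410) (tt N112241 (iv2 F480190)) (tt N87329 F390409) (tt N87331 (iv4 F390411)) (tt N54467 (iv5 D193600)) (tt N115679 (iv6 F496278)) (tt N112240 F480187))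
theorem Q90655 : ∀ i, i < 90655 → P i := stepQ 90654 Q90654 (allL N90654 (tt N115110 (iv1 F493526)) (tt N115109 F493522) (tt N115108 (iv2 F493513)) (tt N76249 F390412) (tt N54470 F390413) (tt N112240 F480188) (tt N116454 (iv6 F500212)) (tt N54467 (iv7 D193601)))
theorem Q90656 : ∀ i, i < 90656 → P i := stepQ 90655 Q90655 (allL N90655 (tt N90960 (iv1 F391384)) (tt N54475 (iv0 F390418)) (tt N55088 F390414) (tt N60141 F390415) (tt N54468 (iv4 D193602)) (tt N108526 (iv5 F462948)) (tt N55083 F390416) (tt N60139 F390417))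
theorem Q90657 : ∀ i, i < 90657 → P i := stepQ 90656 Q90656 (allL N90656 (tt N85589 F390425) (tt N71632 F390424) (tt N85590 F390420) (tt N71434 F390421) (tt N89573 F390423) (tt N54468 (iv5 D193603)) (tt N85600 F390426) (tt N84906 F390422))
theorem Q90658 : ∀ i, i < 90658 → P i := stepQ 90657 Q90657 (allL N90657 (tt N54475 F390430) (tt N90960 F391383) (tt N60139 F390427) (tt N55097 (iv3 F390431)) (tt N54469 (iv4 D193604)) (tt N112277 (iv5 F480317)) (tt N60138 F390428) (tt N55088 F390429))
theorem Q90659 : ∀ i, i < 90659 → P i := stepQ 90658 Q90658 (allL N90658 (tt N54471 (iv1 D193605)) (tt N99575 (iv0 F425242)) (tt N106110 (iv2 F453161)) (tt N54919 F390434) (tt N73465 (iv4 F390438)) (tt N54570 (iv5 F390435)) (tt N73464 (iv6 F390436)) (tt N54981 F390432))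
theorem Q90660 : ∀ i, i < 90660 → P i := stepQ 90659 Q90659 (allL N90659 (tt N54981 F390442) (tt N106110 F453166) (tt N54471 (iv2 D193606)) (tt N73600 F390439) (tt N73603 F390440) (tt N87452 (iv5 F390441)) (tt N108929 (iv6 F464536)) (tt N99575 (iv7 F425241)))
theorem Q90661 : ∀ i, i < 90661 → P i := stepQ 90660 Q90660 (allL N90660 (tt N90769 F390789) (tt N87118 (iv0 F390448)) (tt N87452 F390444) (tt N54472 F390445) (tt N100203 (iv4 F427979)) (tt N54471 (iv5 D193607)) (tt N87450 F390447) (tt N84198 F390446))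
theorem Q90662 : ∀ i, i < 90662 → P i := stepQ 90661 Q90661 (allL N90661 (tt N93956 (iv1 F402586)) (tt N93960 (iv0 F402610)) (tt N108929 (iv2 F464533)) (tt N54473 F390449) (tt N93610 (iv4 F401255)) (tt N91877 (iv5 F394797)) (tt N54471 (iv6 D193608)) (tt N108927 (iv7 F464523)))
theorem Q90663 : ∀ i, i < 90663 → P i := stepQ 90662 Q90662 (allL N90662 (tt N116454 (iv1 F500215)) (tt N54473 (iv0 D193609)) (tt N116202 (iv2 F498983)) (tt N117151 D220410) (tt N54699 F405136) (tt N117152 D220411) (tt N101627 (iv6 F433606)) (tt N116464 (iv7 F500270)))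
theorem Q90664 : ∀ i, i < 90664 → P i := stepQ 90663 Q90663 (allL N90663 (tt N54473 (iv1 D193610)) (tt N116454 (iv0 F500214)) (tt N116464 F500273) (tt N80921 F431685) (tt N54700 F431686) (tt N80920 F431687) (tt N117106 (iv6 F503422)) (tt N116202 F498989))
theorem Q90665 : ∀ i, i < 90665 → P i := stepQ 90664 Q90664 (allL N90664 (tt N111050 (iv1 F474427)) (tt N80925 (iv0 F394801)) (tt N58244 F390450) (tt N91877 F394800) (tt N58240 (iv4 F390452)) (tt N54473 (iv5 D193611)) (tt N58238 F390451) (tt N111049 (iv7 F474421)))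
theorem Q90666 : ∀ i, i < 90666 → P i := stepQ 90665 Q90665 (allL N90665 (tt N90979 (iv1 F391452)) (tt N54474 (iv0 D193612)) (tt N90978 (iv2 F391444)) (tt N73623 F390453) (tt N92552 (iv4 F397347)) (tt N88530 (iv5 F390456)) (tt N73622 (iv6 F390454)) (tt N59812 F390455))
theorem Q90667 : ∀ i, i < 90667 → P i := stepQ 90666 Q90666 (allL N90666 (tt N90978 (iv1 F391448)) (tt N59812 F390457) (tt N54474 (iv2 D193614)) (tt N90957 (iv3 F391366)) (tt N92513 (iv4 F397202)) (tt N110906 (iv5 F473721)) (tt N91663 (iv6 F393946)) (tt N90979 (iv7 F391451)))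
theorem Q90668 : ∀ i, i < 90668 → P i := stepQ 90667 Q90667 (allL N90667 (tt N91315 (iv1 F392691)) (tt N71062 (iv0 F390459)) (tt N92513 F397201) (tt N89277 F390458) (tt N54474 (iv4 D193615)) (tt N112865 (iv5 F483032)) (tt N117153 D220412) (tt N90971 (iv7 F391425)))
theorem Q90669 : ∀ i, i < 90669 → P i := stepQ 90668 Q90668 (allL N90668 (tt N110538 F472051) (tt N97229 F472052) (tt N91663 (iv2 F393945)) (tt N54475 F390460) (tt N117153 (iv4 F503658)) (tt N117154 D220413) (tt N54474 (iv6 D193616)) (tt N117155 D220414))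
theorem Q90670 : ∀ i, i < 90670 → P i := stepQ 90669 Q90669 (allL N90669 (tt N81168 F408659) (tt N90575 (iv0 F390462)) (tt N90959 (iv2 F391377)) (tt N117154 (iv3 F503662)) (tt N116855 (iv4 F502187)) (tt N54475 (iv5 D193617)) (tt N87263 F390461) (tt N116854 (iv7 F502185)))
theorem Q90671 : ∀ i, i < 90671 → P i := stepQ 90670 Q90670 (allL N90670 (tt N60139 (iv1 F390464)) (tt N55088 F390465) (tt N90960 (iv2 F391380)) (tt N117155 (iv3 F503665)) (tt N89281 F390463) (tt N116854 (iv5 F502181)) (tt N90983 (iv6 F391464)) (tt N54475 (iv7 D193618)))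
theorem Q90672 : ∀ i, i < 90672 → P i := stepQ 90671 Q90671 (allL N90671 (tt N55214 F390469) (tt N55204 F390470) (tt N57089 F390466) (tt N89283 F390467) (tt N54476 (iv4 D193619)) (tt N110905 (iv5 F473715)) (tt N117156 D220415) (tt N57090 F390468))
theorem Q90673 : ∀ i, i < 90673 → P i := stepQ 90672 Q90672 (allL N90672 (tt N108932 F464553) (tt N79506 (iv0 F390473)) (tt N112502 (iv2 F481387)) (tt N54477 F390471) (tt N117156 (iv4 F503669)) (tt N79564 F390472) (tt N54476 (iv6 D193620)) (tt N91662 (iv7 F393944)))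
theorem Q90674 : ∀ i, i < 90674 → P i := stepQ 90673 Q90673 (allL N90673 (tt N106702 (iv1 F455337)) (tt N106716 F455381) (tt N90982 (iv2 F391460)) (tt N79564 F390474) (tt N101663 F433750) (tt N54477 (iv5 D193621)) (tt N87000 F390475) (tt N106715 F455374))
theorem Q90675 : ∀ i, i < 90675 → P i := stepQ 90674 Q90674 (allL N90674 (tt N89914 F411203) (tt N89916 (iv0 F391811)) (tt N110032 (iv2 F469645)) (tt N54478 (iv3 D193623)) (tt N91066 F391810) (tt N109241 (iv5 F465946)) (tt N91654 (iv6 F393916)) (tt N112124 (iv7 F479611)))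
theorem Q90676 : ∀ i, i < 90676 → P i := stepQ 90675 Q90675 (allL N90675 (tt N69308 F390477) (tt N91269 (iv0 F392472)) (tt N91320 (iv2 F392720)) (tt N75434 F390478) (tt N54478 (iv4 D193624)) (tt N100487 (iv5 F429128)) (tt N75426 (iv6 F390479)) (tt N91319 (iv7 F392715)))
theorem Q90677 : ∀ i, i < 90677 → P i := stepQ 90676 Q90676 (allL N90676 (tt N54934 F390483) (tt N55097 (iv0 F390484)) (tt N55095 F390480) (tt N91654 F393915) (tt N75426 F390481) (tt N87291 F390482) (tt N54478 (iv6 D193625)) (tt N55094 (iv7 F390485)))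
theorem Q90678 : ∀ i, i < 90678 → P i := stepQ 90677 Q90677 (allL N90677 (tt N91269 (iv1 F392473)) (tt N69308 (iv0 F390489)) (tt N91319 F392713) (tt N69337 F390486) (tt N54479 (iv4 D193626)) (tt N80295 F390487) (tt N73208 (iv6 F390488)) (tt N91320 (iv7 F392717)))
theorem Q90679 : ∀ i, i < 90679 → P i := stepQ 90678 Q90678 (allL N90678 (tt N112121 (iv1 F479588)) (tt N91965 (iv0 F395161)) (tt N112122 (iv2 F479595)) (tt N59837 F390490) (tt N73208 F390491) (tt N59834 F390492) (tt N54479 (iv6 D193627)) (tt N111528 (iv7 F476754)))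
theorem Q90680 : ∀ i, i < 90680 → P i := stepQ 90679 Q90679 (allL N90679 (tt N73706 (iv1 F390498)) (tt N55066 (iv0 F390497)) (tt N54481 F390493) (tt N67152 F390494) (tt N66460 F390495) (tt N95560 (iv5 F408652)) (tt N54480 (iv6 D193628)) (tt N66454 F390496))
theorem Q90681 : ∀ i, i < 90681 → P i := stepQ 90680 Q90680 (allL N90680 (tt N66454 (iv1 F390502)) (tt N54481 (iv0 D193629)) (tt N73706 (iv2 F390500)) (tt N117157 D220416) (tt N103148 (iv4 F440300)) (tt N87815 F390499) (tt N103147 F440297) (tt N55066 F390501))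
theorem Q90682 : ∀ i, i < 90682 → P i := stepQ 90681 Q90681 (allL N90681 (tt N55066 (iv1 F390508)) (tt N73706 F390509) (tt N66454 F390503) (tt N54483 F390504) (tt N66451 F390505) (tt N59909 F390506) (tt N66449 F390507) (tt N54481 (iv7 D193630)))
theorem Q90683 : ∀ i, i < 90683 → P i := stepQ 90682 Q90682 (allL N90682 (tt N113915 F487770) (tt N110305 (iv0 F470948)) (tt N113883 (iv2 F487615)) (tt N76389 F390510) (tt N91089 F391884) (tt N90735 (iv5 F390690)) (tt N54485 (iv6 D193631)) (tt N113709 (iv7 F486763)))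
theorem Q90684 : ∀ i, i < 90684 → P i := stepQ 90683 Q90683 (allL N90683 (tt N91457 (iv1 F393219)) (tt N114645 (iv0 F491173)) (tt N76247 F390511) (tt N55014 F390512) (tt N54488 F390513) (tt N111842 (iv5 F478258)) (tt N54486 (iv6 D193632)) (tt N106283 (iv7 F453888)))
theorem Q90685 : ∀ i, i < 90685 → P i := stepQ 90684 Q90684 (allL N90684 (tt N89261 F390515) (tt N89260 (iv0 F390516)) (tt N90790 (iv2 F390882)) (tt N110244 (iv3 F470606)) (tt N117158 D220417) (tt N54488 (iv5 D193633)) (tt N90612 F390514) (tt N90791 (iv7 F390885)))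
theorem Q90686 : ∀ i, i < 90686 → P i := stepQ 90685 Q90685 (allL N90685 (tt N84279 F411394) (tt N114781 (iv0 F491825)) (tt N84264 F390517) (tt N108355 (iv3 F462218)) (tt N81651 F390518) (tt N84244 F390519) (tt N54489 (iv6 D193634)) (tt N111294 (iv7 F475676)))
theorem Q90687 : ∀ i, i < 90687 → P i := stepQ 90686 Q90686 (allL N90686 (tt N54716 F390523) (tt N59882 F390524) (tt N84266 F390520) (tt N111001 (iv3 F474177)) (tt N54490 (iv4 D193635)) (tt N59756 F390522) (tt N101235 (iv6 F432338)) (tt N79847 F390521))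
theorem Q90688 : ∀ i, i < 90688 → P i := stepQ 90687 Q90687 (allL N90687 (tt N66669 F390529) (tt N66668 F390531) (tt N66639 F390525) (tt N54491 (iv3 D193636)) (tt N100772 (iv4 F430396)) (tt N58640 F390526) (tt N54493 F390527) (tt N66670 F390528))
theorem Q90689 : ∀ i, i < 90689 → P i := stepQ 90688 Q90688 (allL N90688 (tt N117159 D220418) (tt N109504 (iv0 F467293)) (tt N54502 F390532) (tt N83531 F390533) (tt N106927 (iv4 F456308)) (tt N113081 (iv5 F483890)) (tt N54495 (iv6 D193637)) (tt N117160 D220419))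
theorem Q90690 : ∀ i, i < 90690 → P i := stepQ 90689 Q90689 (allL N90689 (tt N109482 F467193) (tt N100438 (iv0 F428978)) (tt N83479 F390534) (tt N107492 (iv3 F458510)) (tt N99149 (iv4 F423475)) (tt N83092 F390535) (tt N54499 (iv6 D193638)) (tt N106342 (iv7 F454089)))
theorem Q90691 : ∀ i, i < 90691 → P i := stepQ 90690 Q90690 (allL N90690 (tt N88389 (iv1 F390540)) (tt N88385 (iv0 F390539)) (tt N88601 F390536) (tt N54500 (iv3 D193639)) (tt N107030 (iv4 F456706)) (tt N88597 F390537) (tt N107030 (iv6 F456709)) (tt N83477 F390538))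
theorem Q90692 : ∀ i, i < 90692 → P i := stepQ 90691 Q90691 (allL N90691 (tt N99933 F426882) (tt N100417 F455080) (tt N106926 (iv2 F456305)) (tt N54501 (iv3 D193640)) (tt N83067 F390541) (tt N77880 F390542) (tt N117161 D220420) (tt N77879 F390543))
theorem Q90693 : ∀ i, i < 90693 → P i := stepQ 90692 Q90692 (allL N90692 (tt N117162 D220421) (tt N117163 D220422) (tt N106927 (iv2 F456307)) (tt N117161 (iv3 F503699)) (tt N54502 F390544) (tt N117164 D220423) (tt N54501 (iv6 D193641)) (tt N117161 (iv7 F503701)))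
theorem Q90694 : ∀ i, i < 90694 → P i := stepQ 90693 Q90693 (allL N90693 (tt N117160 (iv1 F503698)) (tt N54502 (iv0 D193642)) (tt N117159 (iv2 F503689)) (tt N112550 F503692) (tt N117165 D220424) (tt N117166 D220425) (tt N117167 D220426) (tt N109504 (iv7 F503690)))
theorem Q90695 : ∀ i, i < 90695 → P i := stepQ 90694 Q90694 (allL N90694 (tt N54502 (iv1 D193643)) (tt N117160 F503697) (tt N109504 (iv2 F467291)) (tt N102882 (iv3 F439085)) (tt N106628 (iv4 F455094)) (tt N94467 (iv5 F404589)) (tt N94468 (iv6 F404592)) (tt N117159 F503688))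
theorem Q90696 : ∀ i, i < 90696 → P i := stepQ 90695 Q90695 (allL N90695 (tt N109504 (iv1 F467294)) (tt N117159 F503691) (tt N117160 (iv2 F503693)) (tt N83068 F390545) (tt N117161 (iv4 F503700)) (tt N114825 (iv5 F492077)) (tt N83067 F390546) (tt N54502 (iv7 D193644)))
theorem Q90697 : ∀ i, i < 90697 → P i := stepQ 90696 Q90696 (allL N90696 (tt N54504 (iv1 D193645)) (tt N104272 (iv0 F445057)) (tt N67650 F390548) (tt N104308 (iv3 F445163)) (tt N67652 (iv4 F390547)) (tt N102376 F436974) (tt N104598 (iv6 F446472)) (tt N104309 (iv7 F445171)))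
theorem Q90698 : ∀ i, i < 90698 → P i := stepQ 90697 Q90697 (allL N90697 (tt N104309 (iv1 F445172)) (tt N67650 F390549) (tt N54504 (iv2 D193646)) (tt N115746 (iv3 F496636)) (tt N102822 (iv4 F438806)) (tt N115746 (iv5 F496638)) (tt N102821 F438803) (tt N104272 (iv7 F445056)))
theorem Q90699 : ∀ i, i < 90699 → P i := stepQ 90698 Q90698 (allL N90698 (tt N101408 (iv1 F432873)) (tt N101410 (iv0 F432889)) (tt N101326 (iv2 F432661)) (tt N54506 (iv3 D193647)) (tt N106676 (iv4 F455241)) (tt N72430 F390550) (tt N79153 (iv6 F390552)) (tt N71125 F390551))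
theorem Q90700 : ∀ i, i < 90700 → P i := stepQ 90699 Q90699 (allL N90699 (tt N99860 (iv1 F426588)) (tt N99895 (iv0 F426719)) (tt N71124 F390554) (tt N79153 F390555) (tt N57303 F390556) (tt N98110 (iv5 F419489)) (tt N54506 (iv6 D193648)) (tt N97059 (iv7 F415263)))
theorem Q90701 : ∀ i, i < 90701 → P i := stepQ 90700 Q90700 (allL N90700 (tt N116449 (iv1 F500180)) (tt N104971 (iv0 F448207)) (tt N116450 (iv2 F500188)) (tt N54507 (iv3 D193649)) (tt N57537 F390558) (tt N106233 (iv5 F453694)) (tt N117078 (iv6 F503263)) (tt N71121 F390557))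
theorem Q90702 : ∀ i, i < 90702 → P i := stepQ 90701 Q90701 (allL N90701 (tt N54508 (iv1 D193650)) (tt N68911 F390559) (tt N71129 (iv2 F390562)) (tt N104976 (iv3 F448226)) (tt N81194 (iv4 F390563)) (tt N61910 F390561) (tt N113847 F487429) (tt N71128 F390560))
theorem Q90703 : ∀ i, i < 90703 → P i := stepQ 90702 Q90702 (allL N90702 (tt N71129 (iv1 F390568)) (tt N71128 F390569) (tt N68911 F390564) (tt N54525 F390565) (tt N63974 F390566) (tt N54509 F390567) (tt N114653 (iv6 F491216)) (tt N54508 (iv7 D193651)))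
theorem Q90704 : ∀ i, i < 90704 → P i := stepQ 90703 Q90703 (allL N90703 (tt N89372 (iv1 F390570)) (tt N54510 (iv0 D193652)) (tt N89371 F414381) (tt N96875 (iv3 F414388)) (tt N110105 (iv4 F470009)) (tt N96874 (iv5 F414380)) (tt N108751 (iv6 F463810)) (tt N89370 (iv7 F414383)))
theorem Q90705 : ∀ i, i < 90705 → P i := stepQ 90704 Q90704 (allL N90704 (tt N54510 (iv1 D193653)) (tt N89372 F390571) (tt N89370 (iv2 F414385)) (tt N103973 (iv3 F443594)) (tt N117168 D220427) (tt N109491 (iv5 F467244)) (tt N59916 F414386) (tt N89371 F414384))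
theorem Q90706 : ∀ i, i < 90706 → P i := stepQ 90705 Q90705 (allL N90705 (tt N91328 F392757) (tt N90761 (iv0 F390761)) (tt N113270 (iv2 F484801)) (tt N89264 F390572) (tt N54510 (iv4 D193654)) (tt N76049 F390574) (tt N91391 (iv6 F392960)) (tt N89368 F390573))
theorem Q90707 : ∀ i, i < 90707 → P i := stepQ 90706 Q90706 (allL N90706 (tt N55222 F390577) (tt N55220 F390578) (tt N95057 (iv2 F406868)) (tt N84990 F390575) (tt N54511 (iv4 D193655)) (tt N95047 F406802) (tt N95049 (iv6 F406816)) (tt N87200 F390576))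
theorem Q90708 : ∀ i, i < 90708 → P i := stepQ 90707 Q90707 (allL N90707 (tt N84389 (iv1 F390597)) (tt N83886 F390582) (tt N84386 F390579) (tt N94214 (iv3 F403728)) (tt N54513 (iv4 D193656)) (tt N106323 (iv5 F454025)) (tt N59912 F390580) (tt N84387 F390581))
theorem Q90709 : ∀ i, i < 90709 → P i := stepQ 90708 Q90708 (allL N90708 (tt N103967 (iv1 F443562)) (tt N117169 D220428) (tt N101926 (iv2 F434970)) (tt N54514 (iv3 D193657)) (tt N59057 F390586) (tt N82600 F390585) (tt N93938 (iv6 F402490)) (tt N97172 (iv7 F415747)))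
theorem Q90710 : ∀ i, i < 90710 → P i := stepQ 90709 Q90709 (allL N90709 (tt N83886 F390589) (tt N84389 F390590) (tt N84387 F390587) (tt N117170 D220429) (tt N54514 (iv4 D193658)) (tt N107313 (iv5 F457922)) (tt N107945 (iv6 F460411)) (tt N84386 F390588))
theorem Q90711 : ∀ i, i < 90711 → P i := stepQ 90710 Q90710 (allL N90710 (tt N71586 (iv1 F390601)) (tt N71594 (iv0 F390600)) (tt N71592 F390598) (tt N93938 (iv3 F402491)) (tt N107945 (iv4 F460414)) (tt N112156 (iv5 F479793)) (tt N54514 (iv6 D193659)) (tt N71591 F390599))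
theorem Q90712 : ∀ i, i < 90712 → P i := stepQ 90711 Q90711 (allL N90711 (tt N95147 (iv1 F407232)) (tt N95264 F407630) (tt N94779 (iv2 F405897)) (tt N64732 F390603) (tt N54519 (iv4 D193660)) (tt N86206 F390604) (tt N117171 D220430) (tt N86205 F390605))
theorem Q90713 : ∀ i, i < 90713 → P i := stepQ 90712 Q90712 (allL N90712 (tt N90148 F390608) (tt N117172 D220431) (tt N101236 (iv2 F432342)) (tt N107264 (iv3 F457699)) (tt N117171 (iv4 F503739)) (tt N84151 F390606) (tt N54519 (iv6 D193661)) (tt N90166 F390607))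
theorem Q90714 : ∀ i, i < 90714 → P i := stepQ 90713 Q90713 (allL N90713 (tt N54562 F390609) (tt N107159 (iv0 F457248)) (tt N94412 (iv2 F404365)) (tt N54520 (iv3 D193662)) (tt N93949 (iv4 F402554)) (tt N112432 (iv5 F481077)) (tt N93948 F402551) (tt N106108 (iv7 F453153)))
theorem Q90715 : ∀ i, i < 90715 → P i := stepQ 90714 Q90714 (allL N90714 (tt N117173 D220432) (tt N112120 (iv0 F479586)) (tt N71650 F390610) (tt N93948 (iv3 F402546)) (tt N54522 F390611) (tt N108960 (iv5 F464678)) (tt N54520 (iv6 D193663)) (tt N71647 F390612))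
theorem Q90716 : ∀ i, i < 90716 → P i := stepQ 90715 Q90715 (allL N90715 (tt N71138 F390617) (tt N54524 (iv0 D193664)) (tt N89749 (iv2 F390615)) (tt N109648 (iv3 F467917)) (tt N85374 (iv4 F390616)) (tt N86057 F390613) (tt N89046 F390614) (tt N114506 (iv7 F490506)))
theorem Q90717 : ∀ i, i < 90717 → P i := stepQ 90716 Q90716 (allL N90716 (tt N54524 (iv1 D193665)) (tt N71138 F390619) (tt N114506 (iv2 F490509)) (tt N85317 (iv3 F390621)) (tt N85375 (iv4 F390622)) (tt N101366 (iv5 F432793)) (tt N112015 (iv6 F479085)) (tt N89749 F390620))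
theorem Q90718 : ∀ i, i < 90718 → P i := stepQ 90717 Q90717 (allL N90717 (tt N114506 (iv1 F490505)) (tt N89749 (iv0 F390627)) (tt N71138 F390623) (tt N63975 F390624) (tt N54525 F390625) (tt N64849 F390626) (tt N114528 (iv6 F490615)) (tt N54524 (iv7 D193666)))
theorem Q90719 : ∀ i, i < 90719 → P i := stepQ 90718 Q90718 (allL N90718 (tt N71147 (iv1 F390631)) (tt N71146 F390630) (tt N54531 F390628) (tt N112384 (iv3 F480846)) (tt N109408 (iv4 F466811)) (tt N54527 (iv5 D193667)) (tt N109410 (iv6 F466823)) (tt N70839 F390629))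
theorem Q90720 : ∀ i, i < 90720 → P i := stepQ 90719 Q90719 (allL N90719 (tt N116930 (iv1 F502555)) (tt N116965 F502737) (tt N116964 F502730) (tt N54530 (iv3 D193668)) (tt N93877 (iv4 F402245)) (tt N117174 D220433) (tt N71432 F390632) (tt N70902 F390633))
theorem Q90721 : ∀ i, i < 90721 → P i := stepQ 90720 Q90720 (allL N90720 (tt N71456 F390636) (tt N71455 (iv0 F390637)) (tt N71145 F390634) (tt N117174 (iv3 F503756)) (tt N105920 (iv4 F452353)) (tt N54530 (iv5 D193669)) (tt N117175 D220434) (tt N70903 F390635))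
theorem Q90722 : ∀ i, i < 90722 → P i := stepQ 90721 Q90721 (allL N90721 (tt N70839 (iv1 F390641)) (tt N54531 (iv0 D193670)) (tt N71147 F390643) (tt N108412 (iv3 F462468)) (tt N117176 D220435) (tt N71216 F390640) (tt N117177 D220436) (tt N71146 (iv7 F390642)))
theorem Q90723 : ∀ i, i < 90723 → P i := stepQ 90722 Q90722 (allL N90722 (tt N54531 (iv1 D193671)) (tt N70839 F390644) (tt N71146 (iv2 F390647)) (tt N117178 D220437) (tt N117179 D220438) (tt N70962 F390646) (tt N99824 (iv6 F426401)) (tt N71147 F390645))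
theorem Q90724 : ∀ i, i < 90724 → P i := stepQ 90723 Q90723 (allL N90723 (tt N117180 D220439) (tt N117181 D220440) (tt N109408 (iv2 F466810)) (tt N110176 F470285) (tt N54531 (iv4 D193672)) (tt N104060 (iv5 F443973)) (tt N101274 F432487) (tt N71148 F390648))
theorem Q90725 : ∀ i, i < 90725 → P i := stepQ 90724 Q90724 (allL N90724 (tt N115901 F497495) (tt N113273 (iv0 F484815)) (tt N93918 (iv2 F402431)) (tt N54532 (iv3 D193673)) (tt N59101 (iv4 F390650)) (tt N115951 (iv5 F497743)) (tt N59100 F390649) (tt N116466 (iv7 F500278)))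
theorem Q90726 : ∀ i, i < 90726 → P i := stepQ 90725 Q90725 (allL N90725 (tt N84410 F390657) (tt N83891 F390654) (tt N84408 F390655) (tt N117182 D220441) (tt N54532 (iv4 D193674)) (tt N113068 (iv5 F483825)) (tt N71579 F390652) (tt N84409 F390653))
theorem Q90727 : ∀ i, i < 90727 → P i := stepQ 90726 Q90726 (allL N90726 (tt N108751 F463812) (tt N108553 (iv0 F500298)) (tt N117183 D220442) (tt N54533 (iv3 D193675)) (tt N117184 D220443) (tt N115952 (iv5 F497746)) (tt N95570 (iv6 F455325)) (tt N116465 (iv7 F500275)))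
theorem Q90728 : ∀ i, i < 90728 → P i := stepQ 90727 Q90727 (allL N90727 (tt N83891 (iv1 F390661)) (tt N84410 F390660) (tt N84409 F390658) (tt N117185 D220444) (tt N54533 (iv4 D193676)) (tt N113066 (iv5 F483816)) (tt N117113 (iv6 F503464)) (tt N84408 F390659))
theorem Q90729 : ∀ i, i < 90729 → P i := stepQ 90728 Q90728 (allL N90728 (tt N79640 (iv1 F390665)) (tt N111503 F476633) (tt N111502 F476626) (tt N60248 F390662) (tt N55510 F390663) (tt N54535 F390664) (tt N104036 (iv6 F443895)) (tt N54534 (iv7 D193677)))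
theorem Q90730 : ∀ i, i < 90730 → P i := stepQ 90729 Q90729 (allL N90729 (tt N117186 D220445) (tt N54567 F443604) (tt N74161 F390667) (tt N54536 (iv3 D193678)) (tt N107901 (iv4 F460192)) (tt N115949 (iv5 F497734)) (tt N71623 F390668) (tt N116467 (iv7 F500284)))
theorem Q90731 : ∀ i, i < 90731 → P i := stepQ 90730 Q90730 (allL N90730 (tt N75959 (iv1 F390674)) (tt N56127 (iv0 F390672)) (tt N82227 F390669) (tt N107170 (iv3 F457310)) (tt N54538 (iv4 D193681)) (tt N69665 (iv5 F390671)) (tt N91531 (iv6 F393511)) (tt N82228 F390670))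
theorem Q90732 : ∀ i, i < 90732 → P i := stepQ 90731 Q90731 (allL N90731 (tt N108437 (iv1 F462558)) (tt N117187 D220446) (tt N108424 (iv2 F462504)) (tt N54540 F390676) (tt N75974 F390677) (tt N54538 (iv5 D193682)) (tt N113977 (iv6 F488043)) (tt N108425 (iv7 F462509)))
theorem Q90733 : ∀ i, i < 90733 → P i := stepQ 90732 Q90732 (allL N90732 (tt N113893 (iv1 F487670)) (tt N89964 (iv0 F390681)) (tt N113892 F487663) (tt N82672 F390678) (tt N84285 F390679) (tt N54599 F390680) (tt N54541 (iv6 D193683)) (tt N113002 (iv7 F483509)))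
theorem Q90734 : ∀ i, i < 90734 → P i := stepQ 90733 Q90733 (allL N90733 (tt N113598 (iv1 F486236)) (tt N116451 F500194) (tt N111827 (iv2 F478174)) (tt N54542 (iv3 D193684)) (tt N73926 (iv4 F390683)) (tt N73848 F390682) (tt N109734 (iv6 F468341)) (tt N111834 (iv7 F478213)))
theorem Q90735 : ∀ i, i < 90735 → P i := stepQ 90734 Q90734 (allL N90734 (tt N84284 F390687) (tt N84283 F390688) (tt N83693 F390684) (tt N84076 (iv3 F390689)) (tt N54542 (iv4 D193685)) (tt N80676 F390686) (tt N117188 D220447) (tt N84034 F390685))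
theorem Q90736 : ∀ i, i < 90736 → P i := stepQ 90735 Q90735 (allL N90735 (tt N113714 F486790) (tt N113715 (iv0 F486794)) (tt N113936 (iv2 F487873)) (tt N109734 (iv3 F468340)) (tt N117188 (iv4 F503827)) (tt N90682 F390690) (tt N54542 (iv6 D193686)) (tt N113935 (iv7 F487867)))
theorem Q90737 : ∀ i, i < 90737 → P i := stepQ 90736 Q90736 (allL N90736 (tt N82831 (iv1 F390694)) (tt N82828 F390695) (tt N82717 F390691) (tt N113497 (iv3 F485777)) (tt N54544 F390692) (tt N83197 F390693) (tt N113967 (iv6 F488005)) (tt N54543 (iv7 D193687)))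
theorem Q90738 : ∀ i, i < 90738 → P i := stepQ 90737 Q90737 (allL N90737 (tt N77881 F415562) (tt N106913 F456260) (tt N54547 F390696) (tt N112671 (iv3 F482103)) (tt N54546 (iv4 D193689)) (tt N101132 (iv5 F431845)) (tt N77868 (iv6 F390700)) (tt N106912 (iv7 F456251)))
theorem Q90739 : ∀ i, i < 90739 → P i := stepQ 90738 Q90738 (allL N90738 (tt N97216 F415938) (tt N115712 (iv0 F496456)) (tt N54548 F390697) (tt N69431 F390698) (tt N77868 F390699) (tt N97308 (iv5 F416310)) (tt N54546 (iv6 D193690)) (tt N103953 (iv7 F443510)))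
theorem Q90740 : ∀ i, i < 90740 → P i := stepQ 90739 Q90739 (allL N90739 (tt N106912 (iv1 F456255)) (tt N54547 (iv0 D193691)) (tt N77881 (iv2 F390701)) (tt N106910 (iv3 F456240)) (tt N101754 (iv4 F434197)) (tt N109513 (iv5 F467318)) (tt N98956 (iv6 F422855)) (tt N106913 (iv7 F456258)))
theorem Q90741 : ∀ i, i < 90741 → P i := stepQ 90740 Q90740 (allL N90740 (tt N77869 (iv1 F390705)) (tt N68094 (iv0 F390704)) (tt N77868 F390702) (tt N106167 (iv3 F453417)) (tt N54548 F390703) (tt N97209 (iv5 F415902)) (tt N54547 (iv6 D193692)) (tt N77867 F390712))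
theorem Q90742 : ∀ i, i < 90742 → P i := stepQ 90741 Q90741 (allL N90741 (tt N103953 (iv1 F443512)) (tt N54548 (iv0 D193693)) (tt N97216 (iv2 F415936)) (tt N103951 (iv3 F443499)) (tt N62119 F390706) (tt N111117 (iv5 F474748)) (tt N62115 (iv6 F390707)) (tt N115712 (iv7 F496454)))
theorem Q90743 : ∀ i, i < 90743 → P i := stepQ 90742 Q90742 (allL N90742 (tt N54548 (iv1 D193694)) (tt N103953 F443511) (tt N115712 (iv2 F496450)) (tt N60123 F415907) (tt N77975 F415908) (tt N88205 F415909) (tt N91606 F415910) (tt N97216 (iv7 F415935)))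
theorem Q90744 : ∀ i, i < 90744 → P i := stepQ 90743 Q90743 (allL N90743 (tt N115688 F496324) (tt N88233 (iv0 F413631)) (tt N97308 (iv2 F416309)) (tt N54549 F390708) (tt N97241 (iv4 F416035)) (tt N54548 (iv5 D193695)) (tt N87861 F390709) (tt N115767 (iv7 F496761)))
theorem Q90745 : ∀ i, i < 90745 → P i := stepQ 90744 Q90744 (allL N90744 (tt N115712 (iv1 F496455)) (tt N97216 F423632) (tt N103953 (iv2 F443509)) (tt N54550 F390710) (tt N77867 (iv4 F390711)) (tt N115767 (iv5 F496759)) (tt N116472 (iv6 F500313)) (tt N54548 (iv7 D193696)))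
theorem Q90746 : ∀ i, i < 90746 → P i := stepQ 90745 Q90745 (allL N90745 (tt N97311 (iv1 F416320)) (tt N54549 (iv0 D193697)) (tt N99704 (iv2 F425817)) (tt N72317 (iv3 F390714)) (tt N104028 (iv4 F443864)) (tt N71202 F390713) (tt N54899 (iv6 F390715)) (tt N110911 (iv7 F473748)))
theorem Q90747 : ∀ i, i < 90747 → P i := stepQ 90746 Q90746 (allL N90746 (tt N54549 (iv1 D193698)) (tt N97311 (iv0 F416321)) (tt N110911 (iv2 F473746)) (tt N97164 (iv3 F415719)) (tt N60272 F390716) (tt N71201 (iv5 F390717)) (tt N60269 (iv6 F390718)) (tt N99704 (iv7 F425820)))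
theorem Q90748 : ∀ i, i < 90748 → P i := stepQ 90747 Q90747 (allL N90747 (tt N110911 (iv1 F473751)) (tt N99704 (iv0 F425821)) (tt N97311 (iv2 F416319)) (tt N115767 (iv3 F496758)) (tt N86083 F390720) (tt N54550 F390721) (tt N112470 F481220) (tt N54549 (iv7 D193699)))
theorem Q90749 : ∀ i, i < 90749 → P i := stepQ 90748 Q90748 (allL N90748 (tt N113298 (iv1 F484910)) (tt N109612 (iv0 F467740)) (tt N54553 F390722) (tt N117189 D220448) (tt N54552 (iv4 D193700)) (tt N117190 D220449) (tt N117191 D220450) (tt N113297 (iv7 F484900)))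
theorem Q90750 : ∀ i, i < 90750 → P i := stepQ 90749 Q90749 (allL N90749 (tt N74142 (iv1 F390737)) (tt N69466 F390736) (tt N54554 F390723) (tt N109537 (iv3 F467428)) (tt N117191 (iv4 F503836)) (tt N117192 D220451) (tt N54552 (iv6 D193701)) (tt N74147 (iv7 F390728)))
theorem Q90751 : ∀ i, i < 90751 → P i := stepQ 90750 Q90750 (allL N90750 (tt N113297 (iv1 F484899)) (tt N54553 (iv0 D193702)) (tt N113298 (iv2 F484905)) (tt N72168 F427805) (tt N114006 (iv4 F488170)) (tt N116311 (iv5 F499500)) (tt N116203 (iv6 F498992)) (tt N109612 (iv7 F467739)))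
theorem Q90752 : ∀ i, i < 90752 → P i := stepQ 90751 Q90751 (allL N90751 (tt N117193 D220452) (tt N117194 D220453) (tt N117190 (iv2 F503834)) (tt N114034 (iv3 F488300)) (tt N114652 F491211) (tt N54553 (iv5 D193703)) (tt N114491 (iv6 F490445)) (tt N116468 (iv7 F500288)))
theorem Q90753 : ∀ i, i < 90753 → P i := stepQ 90752 Q90752 (allL N90752 (tt N72578 F457316) (tt N117195 D220454) (tt N117191 (iv2 F503835)) (tt N110868 (iv3 F473525)) (tt N54554 F390724) (tt N114066 (iv5 F488414)) (tt N54553 (iv6 D193704)) (tt N117196 D220455))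
theorem Q90754 : ∀ i, i < 90754 → P i := stepQ 90753 Q90753 (allL N90753 (tt N54554 (iv1 D193705)) (tt N74147 F390727) (tt N69466 (iv2 F390726)) (tt N110963 (iv3 F473984)) (tt N110882 (iv4 F473590)) (tt N117197 D220456) (tt N117130 (iv6 F503543)) (tt N74142 F390725))
theorem Q90755 : ∀ i, i < 90755 → P i := stepQ 90754 Q90754 (allL N90754 (tt N110969 F474011) (tt N117198 D220457) (tt N117192 (iv2 F503841)) (tt N54555 F390730) (tt N116917 (iv4 F502488)) (tt N54554 (iv5 D193706)) (tt N114013 (iv6 F488200)) (tt N117199 D220458))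
theorem Q90756 : ∀ i, i < 90756 → P i := stepQ 90755 Q90755 (allL N90755 (tt N69466 F390734) (tt N74142 F390735) (tt N74147 F390731) (tt N54556 F390732) (tt N117196 (iv4 F503861)) (tt N117199 (iv5 F503877)) (tt N69432 F390733) (tt N54554 (iv7 D193707)))
theorem Q90757 : ∀ i, i < 90757 → P i := stepQ 90756 Q90756 (allL N90756 (tt N111483 (iv1 F476551)) (tt N54555 (iv0 D193708)) (tt N87993 (iv2 F390739)) (tt N114182 (iv3 F488875)) (tt N84571 F390740) (tt N90535 F390738) (tt N111487 (iv6 F476572)) (tt N79635 F390741))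
theorem Q90758 : ∀ i, i < 90758 → P i := stepQ 90757 Q90757 (allL N90757 (tt N111487 (iv1 F476574)) (tt N79254 F390744) (tt N89945 F390742) (tt N90644 (iv3 F390745)) (tt N54555 (iv4 D193709)) (tt N89910 F390743) (tt N114015 (iv6 F488206)) (tt N111486 (iv7 F476566)))
theorem Q90759 : ∀ i, i < 90759 → P i := stepQ 90758 Q90758 (allL N90758 (tt N79635 (iv1 F390747)) (tt N87993 F390748) (tt N111483 F476555) (tt N117199 (iv3 F503876)) (tt N111486 F476568) (tt N54556 F390746) (tt N117200 D220459) (tt N54555 (iv7 D193710)))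
theorem Q90760 : ∀ i, i < 90760 → P i := stepQ 90759 Q90759 (allL N90759 (tt N111791 (iv1 F477995)) (tt N78075 (iv0 F390751)) (tt N54560 F390749) (tt N113219 (iv3 F484541)) (tt N54558 (iv4 D193711)) (tt N108191 (iv5 F461459)) (tt N78061 F390756) (tt N54565 F390750))
theorem Q90761 : ∀ i, i < 90761 → P i := stepQ 90760 Q90760 (allL N90760 (tt N106108 F453155) (tt N94412 (iv0 F404369)) (tt N54562 F390752) (tt N54988 F390753) (tt N78061 (iv4 F390754)) (tt N99705 (iv5 F425828)) (tt N54558 (iv6 D193712)) (tt N107159 (iv7 F457246)))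
theorem Q90762 : ∀ i, i < 90762 → P i := stepQ 90761 Q90761 (allL N90761 (tt N90705 F390761) (tt N108708 (iv0 F463643)) (tt N115685 (iv2 F496302)) (tt N94370 (iv3 F404165)) (tt N54559 (iv4 D193713)) (tt N74313 F390760) (tt N94368 (iv6 F404158)) (tt N116540 (iv7 F500678)))
theorem Q90763 : ∀ i, i < 90763 → P i := stepQ 90762 Q90762 (allL N90762 (tt N103998 (iv1 F443715)) (tt N74187 F390766) (tt N54984 F390762) (tt N54563 F390763) (tt N116540 (iv4 F500680)) (tt N115684 (iv5 F496298)) (tt N110962 F473983) (tt N54559 (iv7 D193714)))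
theorem Q90764 : ∀ i, i < 90764 → P i := stepQ 90763 Q90763 (allL N90763 (tt N54565 F390770) (tt N54560 (iv0 D193715)) (tt N111791 (iv2 F477991)) (tt N57734 (iv3 F390768)) (tt N56186 F390767) (tt N73537 F390771) (tt N74196 (iv6 F390769)) (tt N78075 F390772))
theorem Q90765 : ∀ i, i < 90765 → P i := stepQ 90764 Q90764 (allL N90764 (tt N54560 (iv1 D193716)) (tt N54565 F390773) (tt N78075 (iv2 F390774)) (tt N116017 (iv3 F498074)) (tt N111792 (iv4 F478000)) (tt N116015 F498062) (tt N117125 F503518) (tt N111791 (iv7 F477996)))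
theorem Q90766 : ∀ i, i < 90766 → P i := stepQ 90765 Q90765 (allL N90765 (tt N110440 F471598) (tt N110447 F471628) (tt N110445 (iv2 F473397)) (tt N54560 (iv3 D193717)) (tt N94370 (iv4 F404166)) (tt N117201 D220460) (tt N94369 F404164) (tt N110444 F471621))
theorem Q90767 : ∀ i, i < 90767 → P i := stepQ 90766 Q90766 (allL N90766 (tt N108107 F461138) (tt N108190 (iv0 F461457)) (tt N108191 F461460) (tt N117201 (iv3 F503881)) (tt N102506 (iv4 F437464)) (tt N54560 (iv5 D193718)) (tt N117202 D220461) (tt N108192 (iv7 F461462)))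
theorem Q90768 : ∀ i, i < 90768 → P i := stepQ 90767 Q90767 (allL N90767 (tt N78075 (iv1 F390777)) (tt N111791 (iv0 F477994)) (tt N54565 F390775) (tt N110444 (iv3 F471620)) (tt N54563 F390776) (tt N108192 F461465) (tt N99318 F431955) (tt N54560 (iv7 D193719)))
theorem Q90769 : ∀ i, i < 90769 → P i := stepQ 90768 Q90768 (allL N90768 (tt N66777 F390783) (tt N110286 (iv0 F470847)) (tt N78894 F390778) (tt N80714 F390779) (tt N54561 (iv4 D193720)) (tt N56160 F390781) (tt N61082 F390780) (tt N79931 (iv7 F390782)))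
theorem Q90770 : ∀ i, i < 90770 → P i := stepQ 90769 Q90769 (allL N90769 (tt N113908 (iv1 F487731)) (tt N90660 (iv0 F390789)) (tt N54566 F390784) (tt N115684 (iv3 F496296)) (tt N79931 F390785) (tt N54563 F390786) (tt N79930 F390787) (tt N54561 (iv7 D193721)))
theorem Q90771 : ∀ i, i < 90771 → P i := stepQ 90770 Q90770 (allL N90770 (tt N94412 F404370) (tt N106108 (iv0 F453154)) (tt N107159 (iv2 F457243)) (tt N69435 F390790) (tt N78062 F390791) (tt N98283 (iv5 F420312)) (tt N117186 (iv6 F503817)) (tt N54562 (iv7 D193723)))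
theorem Q90772 : ∀ i, i < 90772 → P i := stepQ 90771 Q90771 (allL N90771 (tt N74161 F390793) (tt N116467 (iv0 F500285)) (tt N54567 F390792) (tt N110962 (iv3 F473979)) (tt N99318 F431954) (tt N114225 (iv5 F489081)) (tt N54563 (iv6 D193724)) (tt N117186 (iv7 F503820)))
theorem Q90773 : ∀ i, i < 90773 → P i := stepQ 90772 Q90772 (allL N90772 (tt N77686 F390796) (tt N77685 F390797) (tt N54985 F390794) (tt N110507 (iv3 F471896)) (tt N54564 (iv4 D193725)) (tt N103101 (iv5 F440077)) (tt N110044 (iv6 F469700)) (tt N54987 F390795))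
theorem Q90774 : ∀ i, i < 90774 → P i := stepQ 90773 Q90773 (allL N90773 (tt N113221 (iv1 F484554)) (tt N91737 (iv0 F394257)) (tt N113220 F484547) (tt N54565 (iv3 D193726)) (tt N110507 (iv4 F471897)) (tt N112860 (iv5 F483007)) (tt N110506 F471895) (tt N113219 (iv7 F484544)))
theorem Q90775 : ∀ i, i < 90775 → P i := stepQ 90774 Q90774 (allL N90774 (tt N108190 (iv1 F461458)) (tt N108107 (iv0 F461137)) (tt N108192 F461463) (tt N112860 (iv3 F483005)) (tt N117203 D220462) (tt N54565 (iv5 D193727)) (tt N112859 (iv6 F483000)) (tt N108191 F461461))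
theorem Q90776 : ∀ i, i < 90776 → P i := stepQ 90775 Q90775 (allL N90775 (tt N99316 (iv1 F424075)) (tt N94599 (iv0 F405130)) (tt N99318 (iv2 F431953)) (tt N110506 (iv3 F471891)) (tt N54567 F390798) (tt N94998 (iv5 F411368)) (tt N54565 (iv6 D193728)) (tt N99317 F424078))
theorem Q90777 : ∀ i, i < 90777 → P i := stepQ 90776 Q90776 (allL N90776 (tt N110286 F470848) (tt N66777 (iv0 F390804)) (tt N79931 F390799) (tt N70463 F390800) (tt N54566 (iv4 D193729)) (tt N56159 F390803) (tt N61067 F390801) (tt N78894 F390802))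
theorem Q90778 : ∀ i, i < 90778 → P i := stepQ 90777 Q90777 (allL N90777 (tt N54567 (iv1 D193731)) (tt N117186 F503819) (tt N116467 (iv2 F500282)) (tt N74165 (iv3 F443602)) (tt N107171 (iv4 F457317)) (tt N117204 D220463) (tt N117127 F503527) (tt N74161 F443603))
theorem Q90779 : ∀ i, i < 90779 → P i := stepQ 90778 Q90778 (allL N90778 (tt N116467 F500286) (tt N74161 (iv0 F434502)) (tt N117186 F503818) (tt N67028 F390805) (tt N99317 (iv4 F424076)) (tt N114179 (iv5 F488862)) (tt N107159 (iv6 F457245)) (tt N54567 (iv7 D193732)))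
theorem Q90780 : ∀ i, i < 90780 → P i := stepQ 90779 Q90779 (allL N90779 (tt N97902 (iv1 F418723)) (tt N78946 F390809) (tt N70831 F390806) (tt N74900 F390807) (tt N102505 (iv4 F437458)) (tt N54571 (iv5 D193733)) (tt N97899 (iv6 F418714)) (tt N64198 F390808))
theorem Q90781 : ∀ i, i < 90781 → P i := stepQ 90780 Q90780 (allL N90780 (tt N64199 (iv1 F390815)) (tt N61504 F390816) (tt N64200 F390810) (tt N61522 F390811) (tt N54572 F390812) (tt N66816 (iv5 F390814)) (tt N54571 (iv6 D193734)) (tt N56285 F390813))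
theorem Q90782 : ∀ i, i < 90782 → P i := stepQ 90781 Q90781 (allL N90781 (tt N55011 (iv1 F390821)) (tt N54573 (iv0 D193735)) (tt N54925 (iv2 F390820)) (tt N55027 (iv3 F390823)) (tt N97036 (iv4 F415135)) (tt N86390 F390819) (tt N93945 (iv6 F402530)) (tt N55036 F390822))
theorem Q90783 : ∀ i, i < 90783 → P i := stepQ 90782 Q90782 (allL N90782 (tt N77805 (iv1 F390827)) (tt N106806 (iv0 F455759)) (tt N91012 (iv2 F391558)) (tt N73399 F390824) (tt N75121 F390825) (tt N58242 F390826) (tt N54574 (iv6 D193736)) (tt N106808 (iv7 F455767)))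
theorem Q90784 : ∀ i, i < 90784 → P i := stepQ 90783 Q90783 (allL N90783 (tt N81557 F390849) (tt N113064 (iv0 F483813)) (tt N113934 (iv2 F487856)) (tt N83149 F390846) (tt N84194 F390848) (tt N54576 (iv5 D193737)) (tt N84193 (iv6 F390850)) (tt N87101 F390847))
theorem Q90785 : ∀ i, i < 90785 → P i := stepQ 90784 Q90784 (allL N90784 (tt N71650 (iv1 F390853)) (tt N71647 (iv0 F390852)) (tt N112120 (iv2 F479581)) (tt N91465 (iv3 F393246)) (tt N89556 F390851) (tt N95153 (iv5 F407245)) (tt N54576 (iv6 D193738)) (tt N117173 (iv7 F503755)))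
theorem Q90786 : ∀ i, i < 90786 → P i := stepQ 90785 Q90785 (allL N90785 (tt N72604 F390856) (tt N74189 F390859) (tt N74139 F390854) (tt N54577 (iv3 D193739)) (tt N91711 (iv4 F394137)) (tt N84055 (iv5 F390857)) (tt N62644 (iv6 F390858)) (tt N74188 F390855))
theorem Q90787 : ∀ i, i < 90787 → P i := stepQ 90786 Q90786 (allL N90786 (tt N113064 F483814) (tt N81557 (iv0 F390864)) (tt N87101 F390860) (tt N84055 F390861) (tt N80682 F390862) (tt N54577 (iv5 D193740)) (tt N80680 F390863) (tt N113934 (iv7 F487860)))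
theorem Q90788 : ∀ i, i < 90788 → P i := stepQ 90787 Q90787 (allL N90787 (tt N70905 (iv1 F396256)) (tt N62651 F396255) (tt N71621 F390865) (tt N62644 F390866) (tt N106468 (iv4 F454578)) (tt N91251 (iv5 F392407)) (tt N54577 (iv6 D193741)) (tt N71622 (iv7 F390867)))
theorem Q90789 : ∀ i, i < 90789 → P i := stepQ 90788 Q90788 (allL N90788 (tt N71490 (iv1 F390871)) (tt N71489 F390872) (tt N71491 F390868) (tt N54580 F390869) (tt N112330 (iv4 F480595)) (tt N54578 (iv5 D193742)) (tt N114718 (iv6 F491510)) (tt N71477 F390870))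
theorem Q90790 : ∀ i, i < 90790 → P i := stepQ 90789 Q90789 (allL N90789 (tt N71592 F390877) (tt N71591 (iv0 F390878)) (tt N71594 F390873) (tt N83226 F390874) (tt N54581 F390875) (tt N95162 (iv5 F407270)) (tt N54579 (iv6 D193743)) (tt N71586 F390876))
theorem Q90791 : ∀ i, i < 90791 → P i := stepQ 90790 Q90790 (allL N90790 (tt N54583 (iv1 F390880)) (tt N54580 (iv0 D193744)) (tt N90684 F390882) (tt N78825 F390883) (tt N110377 (iv4 F471301)) (tt N71209 F390879) (tt N84214 (iv6 F390881)) (tt N113547 (iv7 F485969)))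
theorem Q90792 : ∀ i, i < 90792 → P i := stepQ 90791 Q90791 (allL N90791 (tt N54580 (iv1 D193745)) (tt N54583 F390884) (tt N113547 (iv2 F485967)) (tt N83355 (iv3 F390887)) (tt N113546 F485965) (tt N71208 F390886) (tt N54599 (iv6 F390888)) (tt N90684 F390885))
theorem Q90793 : ∀ i, i < 90793 → P i := stepQ 90792 Q90792 (allL N90792 (tt N114715 (iv1 F491491)) (tt N114650 (iv0 F491201)) (tt N114716 (iv2 F491495)) (tt N116864 (iv3 F502234)) (tt N54583 (iv4 D193746)) (tt N83128 F390889) (tt N116251 (iv6 F499218)) (tt N114708 (iv7 F491458)))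
theorem Q90794 : ∀ i, i < 90794 → P i := stepQ 90793 Q90793 (allL N90793 (tt N87693 F390893) (tt N54595 (iv0 F390894)) (tt N87690 F390890) (tt N70915 F390891) (tt N116251 (iv4 F499217)) (tt N70911 F390892) (tt N54583 (iv6 D193747)) (tt N87691 (iv7 F390895)))
theorem Q90795 : ∀ i, i < 90795 → P i := stepQ 90794 Q90794 (allL N90794 (tt N71488 (iv1 F422971)) (tt N71485 (iv0 F422970)) (tt N98994 (iv2 F422972)) (tt N54584 (iv3 D193748)) (tt N90135 (iv4 F422969)) (tt N98993 F422968) (tt N117205 D220464) (tt N116112 (iv7 F498530)))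
theorem Q90796 : ∀ i, i < 90796 → P i := stepQ 90795 Q90795 (allL N90795 (tt N89101 F390899) (tt N89357 F453896) (tt N106284 (iv2 F453892)) (tt N114719 F491516) (tt N54584 (iv4 D193749)) (tt N116718 (iv5 F501477)) (tt N116112 (iv6 F498529)) (tt N116113 (iv7 F498536)))
theorem Q90797 : ∀ i, i < 90797 → P i := stepQ 90796 Q90796 (allL N90796 (tt N113472 F485648) (tt N113426 (iv0 F485449)) (tt N90137 F390900) (tt N117205 (iv3 F503897)) (tt N116112 (iv4 F498531)) (tt N89111 F390901) (tt N54584 (iv6 D193750)) (tt N90135 (iv7 F390902)))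
theorem Q90798 : ∀ i, i < 90798 → P i := stepQ 90797 Q90797 (allL N90797 (tt N89357 F390904) (tt N89101 (iv0 F390905)) (tt N116113 (iv2 F498534)) (tt N117206 D220465) (tt N54585 (iv4 D193751)) (tt N83116 F390903) (tt N117207 D220466) (tt N106284 (iv7 F453893)))
theorem Q90799 : ∀ i, i < 90799 → P i := stepQ 90798 Q90798 (allL N90798 (tt N114323 F489606) (tt N113921 (iv0 F487798)) (tt N114719 (iv2 F491518)) (tt N106293 (iv3 F453915)) (tt N117207 (iv4 F503911)) (tt N85600 F390906) (tt N54585 (iv6 D193752)) (tt N85599 (iv7 F390907)))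
theorem Q90800 : ∀ i, i < 90800 → P i := stepQ 90799 Q90799 (allL N90799 (tt N112343 (iv1 F480669)) (tt N54586 (iv0 D193753)) (tt N116110 F498520) (tt N117208 D220467) (tt N112617 F481860) (tt N114646 (iv5 F491179)) (tt N113473 F485653) (tt N116111 (iv7 F498523)))
theorem Q90801 : ∀ i, i < 90801 → P i := stepQ 90800 Q90800 (allL N90800 (tt N54586 (iv1 D193754)) (tt N112343 F480668) (tt N116111 F498526) (tt N107274 (iv3 F484593)) (tt N114025 (iv4 F488251)) (tt N114647 (iv5 F491184)) (tt N117209 D220468) (tt N116110 F498521))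
theorem Q90802 : ∀ i, i < 90802 → P i := stepQ 90801 Q90801 (allL N90801 (tt N117210 D220469) (tt N117211 D220470) (tt N114890 (iv2 F492368)) (tt N54586 (iv3 D193755)) (tt N83448 F390908) (tt N108067 (iv5 F460970)) (tt N54587 F390909) (tt N114889 (iv7 F492366)))
theorem Q90803 : ∀ i, i < 90803 → P i := stepQ 90802 Q90802 (allL N90802 (tt N114648 (iv1 F491193)) (tt N111332 (iv0 F475865)) (tt N113549 (iv2 F485983)) (tt N108067 (iv3 F460969)) (tt N83113 F390910) (tt N54586 (iv5 D193756)) (tt N107283 (iv6 F457789)) (tt N114888 (iv7 F492360)))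
theorem Q90804 : ∀ i, i < 90804 → P i := stepQ 90803 Q90803 (allL N90803 (tt N54630 (iv1 F390912)) (tt N54587 (iv0 D193757)) (tt N54629 (iv2 F390913)) (tt N72259 (iv3 F390914)) (tt N117212 D220471) (tt N72252 F390911) (tt N72255 (iv6 F390915)) (tt N54628 (iv7 F390916)))
theorem Q90805 : ∀ i, i < 90805 → P i := stepQ 90804 Q90804 (allL N90804 (tt N54587 (iv1 D193758)) (tt N54630 (iv0 F390922)) (tt N54628 F390919) (tt N83881 F390920) (tt N117213 D220472) (tt N77555 (iv5 F390918)) (tt N83877 F390921) (tt N54629 F390917))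
theorem Q90806 : ∀ i, i < 90806 → P i := stepQ 90805 Q90805 (allL N90805 (tt N54629 (iv1 F390928)) (tt N54628 F390927) (tt N54587 (iv2 D193759)) (tt N113028 F483614) (tt N83433 F390924) (tt N72798 F390925) (tt N114890 (iv6 F492370)) (tt N54630 F390926))
theorem Q90807 : ∀ i, i < 90807 → P i := stepQ 90806 Q90806 (allL N90806 (tt N91288 F392568) (tt N83027 F390932) (tt N83360 F390929) (tt N54589 (iv3 D193760)) (tt N83539 (iv4 F390931)) (tt N84192 F390930) (tt N114406 (iv6 F489994)) (tt N107547 (iv7 F458724)))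
theorem Q90808 : ∀ i, i < 90808 → P i := stepQ 90807 Q90807 (allL N90807 (tt N115431 (iv1 F495162)) (tt N107337 (iv0 F458007)) (tt N91166 (iv2 F392129)) (tt N117214 D220473) (tt N54589 (iv4 D193761)) (tt N86233 F390933) (tt N84744 (iv6 F390934)) (tt N114717 (iv7 F491503)))
theorem Q90809 : ∀ i, i < 90809 → P i := stepQ 90808 Q90808 (allL N90808 (tt N112328 F480586) (tt N54607 (iv0 F390936)) (tt N91165 (iv2 F392121)) (tt N114406 (iv3 F489993)) (tt N84744 F390935) (tt N114405 (iv5 F489991)) (tt N54589 (iv6 D193762)) (tt N91168 (iv7 F392135)))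
theorem Q90810 : ∀ i, i < 90810 → P i := stepQ 90809 Q90809 (allL N90809 (tt N90021 F390939) (tt N109318 (iv0 F466361)) (tt N116799 (iv2 F501901)) (tt N72472 F457951) (tt N112635 (iv4 F481932)) (tt N54590 (iv5 D193763)) (tt N89978 (iv6 F390938)) (tt N90000 F390937))
theorem Q90811 : ∀ i, i < 90811 → P i := stepQ 90810 Q90810 (allL N90810 (tt N54591 (iv1 D193764)) (tt N116251 F499220) (tt N113385 (iv2 F485296)) (tt N117215 D220474) (tt N91133 (iv4 F392046)) (tt N117216 D220475) (tt N71489 (iv6 F392035)) (tt N91130 F392034))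
theorem Q90812 : ∀ i, i < 90812 → P i := stepQ 90811 Q90811 (allL N90811 (tt N116268 (iv1 F499282)) (tt N116266 (iv0 F499276)) (tt N116800 (iv2 F501908)) (tt N54600 F390940) (tt N84320 (iv4 F390942)) (tt N54591 (iv5 D193765)) (tt N54592 F390941) (tt N117217 D220476))
theorem Q90813 : ∀ i, i < 90813 → P i := stepQ 90812 Q90812 (allL N90812 (tt N113385 (iv1 F485299)) (tt N91130 F485300) (tt N116251 F499219) (tt N54601 F390943) (tt N87690 F390944) (tt N117217 (iv5 F503952)) (tt N114716 (iv6 F491499)) (tt N54591 (iv7 D193766)))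
theorem Q90814 : ∀ i, i < 90814 → P i := stepQ 90813 Q90813 (allL N90813 (tt N54592 (iv1 D193767)) (tt N84035 F390945) (tt N84037 (iv2 F390948)) (tt N115530 (iv3 F495656)) (tt N88564 F390950) (tt N80678 F390947) (tt N84172 (iv6 F390949)) (tt N80677 F390946))
theorem Q90815 : ∀ i, i < 90815 → P i := stepQ 90814 Q90814 (allL N90814 (tt N87691 (iv1 F390953)) (tt N87690 F390954) (tt N87693 F390951) (tt N90883 F391150) (tt N90885 (iv4 F391154)) (tt N84030 F390952) (tt N112329 (iv6 F480589)) (tt N54595 (iv7 D193768)))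
theorem Q90816 : ∀ i, i < 90816 → P i := stepQ 90815 Q90815 (allL N90815 (tt N79110 F390958) (tt N117218 D220477) (tt N116695 (iv2 F501344)) (tt N54596 (iv3 D193769)) (tt N83345 F390955) (tt N73900 F390956) (tt N115116 (iv6 F493566)) (tt N87694 F390957))
theorem Q90817 : ∀ i, i < 90817 → P i := stepQ 90816 Q90816 (allL N90816 (tt N109096 F465322) (tt N109209 (iv0 F465795)) (tt N101306 (iv2 F432599)) (tt N54597 (iv3 D193770)) (tt N107537 (iv4 F458691)) (tt N84720 F390959) (tt N117219 D220478) (tt N91129 (iv7 F392029)))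
theorem Q90818 : ∀ i, i < 90818 → P i := stepQ 90817 Q90817 (allL N90817 (tt N71477 F390963) (tt N71491 F390964) (tt N71490 F390960) (tt N117219 (iv3 F503960)) (tt N84741 F390961) (tt N71784 F390962) (tt N54597 (iv6 D193771)) (tt N71489 (iv7 F390965)))
theorem Q90819 : ∀ i, i < 90819 → P i := stepQ 90818 Q90818 (allL N90818 (tt N113379 F485271) (tt N83024 F390967) (tt N83354 F390966) (tt N54598 (iv3 D193772)) (tt N77402 F390971) (tt N117220 D220479) (tt N110248 (iv6 F470628)) (tt N113380 (iv7 F485274)))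
theorem Q90820 : ∀ i, i < 90820 → P i := stepQ 90819 Q90819 (allL N90819 (tt N77421 F390972) (tt N54815 F390969) (tt N113378 (iv2 F485260)) (tt N75472 F390970) (tt N54598 (iv4 D193773)) (tt N75471 F390968) (tt N110249 (iv6 F470633)) (tt N113548 (iv7 F485980)))
theorem Q90821 : ∀ i, i < 90821 → P i := stepQ 90820 Q90820 (allL N90820 (tt N89964 F390973) (tt N113893 F487669) (tt N113002 (iv2 F483511)) (tt N117220 (iv3 F503969)) (tt N105946 (iv4 F452452)) (tt N54598 (iv5 D193774)) (tt N113935 F487865) (tt N113892 (iv7 F487664)))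
theorem Q90822 : ∀ i, i < 90822 → P i := stepQ 90821 Q90821 (allL N90821 (tt N54815 (iv1 F390976)) (tt N77421 F390975) (tt N113548 (iv2 F485976)) (tt N81896 F390974) (tt N54599 (iv4 D193775)) (tt N109703 (iv5 F468198)) (tt N113546 F485966) (tt N113378 (iv7 F485263)))
theorem Q90823 : ∀ i, i < 90823 → P i := stepQ 90822 Q90822 (allL N90822 (tt N84314 (iv1 F390980)) (tt N54600 (iv0 D193776)) (tt N82838 (iv2 F390978)) (tt N117221 D220480) (tt N106559 F454860) (tt N77426 F390977) (tt N117222 D220481) (tt N84313 (iv7 F390979)))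
theorem Q90824 : ∀ i, i < 90824 → P i := stepQ 90823 Q90823 (allL N90823 (tt N54600 (iv1 D193777)) (tt N84314 F390982) (tt N84313 F390986) (tt N82708 (iv3 F390984)) (tt N90508 F390987) (tt N83075 (iv5 F390985)) (tt N90512 (iv6 F390988)) (tt N82838 F390983))
theorem Q90825 : ∀ i, i < 90825 → P i := stepQ 90824 Q90824 (allL N90824 (tt N84313 (iv1 F390992)) (tt N82838 F390993) (tt N84314 F390989) (tt N117217 (iv3 F503950)) (tt N114972 (iv4 F492842)) (tt N54601 F390990) (tt N84308 F390991) (tt N54600 (iv7 D193778)))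
theorem Q90826 : ∀ i, i < 90826 → P i := stepQ 90825 Q90825 (allL N90825 (tt N83019 F392097) (tt N110426 F471529) (tt N83325 F390994) (tt N54602 (iv3 D193779)) (tt N116115 (iv4 F498547)) (tt N106904 (iv5 F456218)) (tt N116894 (iv6 F502393)) (tt N112564 (iv7 F481666)))
theorem Q90827 : ∀ i, i < 90827 → P i := stepQ 90826 Q90826 (allL N90826 (tt N70915 F390998) (tt N71507 F391000) (tt N71505 F390995) (tt N83324 F390996) (tt N99139 (iv4 F423434)) (tt N84085 F390997) (tt N54603 (iv6 D193780)) (tt N71504 (iv7 F449838)))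
theorem Q90828 : ∀ i, i < 90828 → P i := stepQ 90827 Q90827 (allL N90827 (tt N117223 D220482) (tt N117224 D220483) (tt N99928 (iv2 F426860)) (tt N54604 (iv3 D193781)) (tt N54606 F391001) (tt N100359 (iv5 F428585)) (tt N117225 D220484) (tt N99926 (iv7 F426850)))
theorem Q90829 : ∀ i, i < 90829 → P i := stepQ 90828 Q90828 (allL N90828 (tt N117226 D220485) (tt N117227 D220486) (tt N116861 (iv2 F502217)) (tt N117225 (iv3 F503994)) (tt N54605 F391002) (tt N76859 F391003) (tt N54604 (iv6 D193782)) (tt N117228 D220487))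
theorem Q90830 : ∀ i, i < 90830 → P i := stepQ 90829 Q90829 (allL N90829 (tt N116864 (iv1 F502239)) (tt N54605 (iv0 D193783)) (tt N116862 (iv2 F502226)) (tt N117229 D220488) (tt N117162 (iv4 F504005)) (tt N114775 F491792) (tt N117230 D220489) (tt N116863 (iv7 F502228)))
theorem Q90831 : ∀ i, i < 90831 → P i := stepQ 90830 Q90830 (allL N90830 (tt N54605 (iv1 D193784)) (tt N116864 F502238) (tt N116863 (iv2 F502231)) (tt N113418 F485404) (tt N117163 (iv4 F503702)) (tt N110203 (iv5 F470418)) (tt N75893 (iv6 F467162)) (tt N116862 F502225))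
theorem Q90832 : ∀ i, i < 90832 → P i := stepQ 90831 Q90831 (allL N90831 (tt N116863 (iv1 F502227)) (tt N116862 F502232) (tt N116864 (iv2 F502233)) (tt N54610 F391004) (tt N117228 (iv4 F504013)) (tt N114322 (iv5 F489599)) (tt N116105 (iv6 F498485)) (tt N54605 (iv7 D193785)))
theorem Q90833 : ∀ i, i < 90833 → P i := stepQ 90832 Q90832 (allL N90832 (tt N116104 F498480) (tt N116898 F502414) (tt N99930 (iv2 F426870)) (tt N54607 F391005) (tt N117225 (iv4 F503995)) (tt N98453 (iv5 F458930)) (tt N54606 (iv6 D193786)) (tt N75908 F391006))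
theorem Q90834 : ∀ i, i < 90834 → P i := stepQ 90833 Q90833 (allL N90833 (tt N54607 (iv1 D193787)) (tt N112328 (iv0 F480585)) (tt N91168 (iv2 F392133)) (tt N81947 F432719) (tt N84745 F391007) (tt N116423 (iv5 F500026)) (tt N112325 F480566) (tt N91165 (iv7 F392122)))
theorem Q90835 : ∀ i, i < 90835 → P i := stepQ 90834 Q90834 (allL N90834 (tt N114627 (iv1 F491082)) (tt N72470 F457973) (tt N114721 (iv2 F491523)) (tt N98453 F458931) (tt N117231 D220490) (tt N54607 (iv5 D193788)) (tt N115359 (iv6 F494783)) (tt N117232 D220491))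
theorem Q90836 : ∀ i, i < 90836 → P i := stepQ 90835 Q90835 (allL N90835 (tt N91168 (iv1 F392137)) (tt N91165 (iv0 F392123)) (tt N112328 (iv2 F480580)) (tt N75908 F391008) (tt N54610 F391009) (tt N117232 (iv5 F504032)) (tt N75906 F391010) (tt N54607 (iv7 D193789)))
theorem Q90837 : ∀ i, i < 90837 → P i := stepQ 90836 Q90836 (allL N90836 (tt N114260 (iv1 F489282)) (tt N54825 (iv0 F392108)) (tt N113213 (iv2 F484507)) (tt N89700 (iv3 F392083)) (tt N54608 (iv4 D193790)) (tt N89695 F392084) (tt N91148 F392080) (tt N114259 (iv7 F489271)))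
theorem Q90838 : ∀ i, i < 90838 → P i := stepQ 90837 Q90837 (allL N90837 (tt N83029 F391014) (tt N109604 (iv0 F467691)) (tt N77397 F391011) (tt N54609 (iv3 D193791)) (tt N100254 (iv4 F428137)) (tt N76486 F391012) (tt N76489 F391013) (tt N111146 (iv7 F474923)))
theorem Q90839 : ∀ i, i < 90839 → P i := stepQ 90838 Q90838 (allL N90838 (tt N54825 F391015) (tt N114260 F489281) (tt N114259 F489273) (tt N110352 (iv3 F471182)) (tt N54609 (iv4 D193792)) (tt N113257 (iv5 F484733)) (tt N110351 (iv6 F471180)) (tt N113213 (iv7 F484511)))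
theorem Q90840 : ∀ i, i < 90840 → P i := stepQ 90839 Q90839 (allL N90839 (tt N54619 (iv1 F391017)) (tt N54612 (iv0 D193793)) (tt N113922 (iv2 F487803)) (tt N72482 (iv3 F391023)) (tt N84372 F391016) (tt N72474 (iv5 F391024)) (tt N113429 (iv6 F485459)) (tt N72473 F391022))
theorem Q90841 : ∀ i, i < 90841 → P i := stepQ 90840 Q90840 (allL N90840 (tt N54612 (iv1 D193794)) (tt N54619 F391018) (tt N72473 F391021) (tt N117233 D220492) (tt N84371 F391019) (tt N72468 (iv5 F391020)) (tt N114897 (iv6 F492406)) (tt N113922 (iv7 F487800)))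
theorem Q90842 : ∀ i, i < 90842 → P i := stepQ 90841 Q90841 (allL N90841 (tt N106284 F453895) (tt N116113 (iv0 F498537)) (tt N89357 F391026) (tt N101301 (iv3 F432581)) (tt N84376 F391027) (tt N85386 (iv5 F391029)) (tt N54613 (iv6 D193795)) (tt N89101 F391028))
theorem Q90843 : ∀ i, i < 90843 → P i := stepQ 90842 Q90842 (allL N90842 (tt N110412 (iv1 F471459)) (tt N83032 (iv0 F458962)) (tt N83402 F391030) (tt N54614 (iv3 D193796)) (tt N83398 F391031) (tt N117234 D220493) (tt N113427 (iv6 F485453)) (tt N110413 (iv7 F471458)))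
theorem Q90844 : ∀ i, i < 90844 → P i := stepQ 90843 Q90843 (allL N90843 (tt N116799 (iv1 F501907)) (tt N90000 F391033) (tt N109318 F466364) (tt N117234 (iv3 F504041)) (tt N117235 D220494) (tt N54614 (iv5 D193797)) (tt N117236 D220495) (tt N90021 F391032))
theorem Q90845 : ∀ i, i < 90845 → P i := stepQ 90844 Q90844 (allL N90844 (tt N90000 F391037) (tt N116799 (iv0 F501906)) (tt N90021 F391034) (tt N83404 F391035) (tt N72867 F391036) (tt N54615 (iv5 D193798)) (tt N72865 F391038) (tt N109318 (iv7 F466360)))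
theorem Q90846 : ∀ i, i < 90846 → P i := stepQ 90845 Q90845 (allL N90845 (tt N90135 (iv1 F485450)) (tt N90137 (iv0 F391040)) (tt N113472 (iv2 F485643)) (tt N83405 F391039) (tt N113471 (iv4 F485638)) (tt N117137 (iv5 F503576)) (tt N54615 (iv6 D193799)) (tt N113426 (iv7 F485448)))
theorem Q90847 : ∀ i, i < 90847 → P i := stepQ 90846 Q90846 (allL N90846 (tt N54616 (iv1 D193800)) (tt N54617 F391041) (tt N100427 (iv2 F428927)) (tt N101296 (iv3 F432575)) (tt N117237 D220496) (tt N99847 (iv5 F426505)) (tt N71501 (iv6 F391042)) (tt N100424 (iv7 F428911)))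
theorem Q90848 : ∀ i, i < 90848 → P i := stepQ 90847 Q90847 (allL N90847 (tt N100427 (iv1 F428931)) (tt N100424 (iv0 F428913)) (tt N54617 F391043) (tt N54622 F391044) (tt N99176 (iv4 F423581)) (tt N62905 F391045) (tt N116109 (iv6 F498512)) (tt N54616 (iv7 D193801)))
theorem Q90849 : ∀ i, i < 90849 → P i := stepQ 90848 Q90848 (allL N90848 (tt N116108 (iv1 F498504)) (tt N116107 (iv0 F498502)) (tt N116109 (iv2 F498509)) (tt N54619 F391046) (tt N99183 F423619) (tt N96219 (iv5 F411562)) (tt N54617 (iv6 D193802)) (tt N116106 (iv7 F498491)))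
theorem Q90850 : ∀ i, i < 90850 → P i := stepQ 90849 Q90849 (allL N90849 (tt N110366 F471257) (tt N54627 (iv0 F391047)) (tt N110246 (iv2 F470616)) (tt N99411 (iv3 F424450)) (tt N54620 (iv4 D193803)) (tt N99410 F424451) (tt N114720 (iv6 F491519)) (tt N110367 (iv7 F471261)))
theorem Q90851 : ∀ i, i < 90851 → P i := stepQ 90850 Q90850 (allL N90850 (tt N112317 (iv1 F480520)) (tt N54623 (iv0 D193804)) (tt N109199 (iv2 F465762)) (tt N84371 F391048) (tt N117238 D220497) (tt N85824 (iv5 F391049)) (tt N114896 (iv6 F492403)) (tt N114026 (iv7 F488258)))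
theorem Q90852 : ∀ i, i < 90852 → P i := stepQ 90851 Q90851 (allL N90851 (tt N54623 (iv1 D193805)) (tt N112317 (iv0 F480519)) (tt N114026 F488256) (tt N109208 (iv3 F465791)) (tt N117239 D220498) (tt N85825 (iv5 F411698)) (tt N117143 F503605) (tt N109199 (iv7 F465764)))
theorem Q90853 : ∀ i, i < 90853 → P i := stepQ 90852 Q90852 (allL N90852 (tt N109199 F465765) (tt N114026 F488257) (tt N54623 (iv2 D193806)) (tt N112321 (iv3 F480544)) (tt N110703 (iv4 F472823)) (tt N88523 F391050) (tt N88524 F391051) (tt N112317 (iv7 F480518)))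
theorem Q90854 : ∀ i, i < 90854 → P i := stepQ 90853 Q90853 (allL N90853 (tt N110569 F472184) (tt N117240 D220499) (tt N110703 (iv2 F472822)) (tt N112519 (iv3 F481475)) (tt N54623 (iv4 D193807)) (tt N110742 (iv5 F472974)) (tt N89346 F391052) (tt N112555 (iv7 F481635)))
theorem Q90855 : ∀ i, i < 90855 → P i := stepQ 90854 Q90854 (allL N90854 (tt N112321 (iv1 F480543)) (tt N54625 (iv0 D193808)) (tt N81839 (iv2 F391054)) (tt N99951 F426929) (tt N75846 F391053) (tt N100755 F430309) (tt N113222 (iv6 F484558)) (tt N100759 (iv7 F430331)))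
theorem Q90856 : ∀ i, i < 90856 → P i := stepQ 90855 Q90855 (allL N90855 (tt N54625 (iv1 D193809)) (tt N112321 (iv0 F480542)) (tt N100759 (iv2 F430329)) (tt N101050 (iv3 F431451)) (tt N64928 (iv4 F391056)) (tt N98106 (iv5 F419475)) (tt N63322 F427920) (tt N81839 F391055))
theorem Q90857 : ∀ i, i < 90857 → P i := stepQ 90856 Q90856 (allL N90856 (tt N81839 (iv1 F391058)) (tt N100759 (iv0 F430334)) (tt N54625 (iv2 D193810)) (tt N112317 (iv3 F480517)) (tt N77386 F391057) (tt N101100 F431674) (tt N107415 F458263) (tt N112321 (iv7 F480541)))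
theorem Q90858 : ∀ i, i < 90858 → P i := stepQ 90857 Q90857 (allL N90857 (tt N99946 F426914) (tt N107003 (iv0 F456609)) (tt N101100 (iv2 F431671)) (tt N54626 F391062) (tt N78944 (iv4 F391063)) (tt N54625 (iv5 D193811)) (tt N78943 F391064) (tt N109728 (iv7 F468314)))
theorem Q90859 : ∀ i, i < 90859 → P i := stepQ 90858 Q90858 (allL N90858 (tt N107399 F458217) (tt N107417 F458268) (tt N107415 (iv2 F458265)) (tt N54627 F391065) (tt N112323 (iv4 F480552)) (tt N110900 (iv5 F473687)) (tt N54625 (iv6 D193812)) (tt N107414 F458260))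
theorem Q90860 : ∀ i, i < 90860 → P i := stepQ 90859 Q90859 (allL N90859 (tt N92194 F396190) (tt N98181 F419881) (tt N97297 (iv2 F416268)) (tt N78943 F391066) (tt N54832 F391067) (tt N97291 F416247) (tt N54626 (iv6 D193813)) (tt N78923 (iv7 F391068)))
theorem Q90861 : ∀ i, i < 90861 → P i := stepQ 90860 Q90860 (allL N90860 (tt N117241 D220500) (tt N112123 (iv0 F479606)) (tt N97298 (iv2 F416274)) (tt N110900 (iv3 F473686)) (tt N97293 (iv4 F416255)) (tt N54627 (iv5 D193814)) (tt N97291 (iv6 F416248)) (tt N113293 (iv7 F484887)))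
theorem Q90862 : ∀ i, i < 90862 → P i := stepQ 90861 Q90861 (allL N90861 (tt N110367 (iv1 F471262)) (tt N110246 (iv0 F470619)) (tt N110366 F471255) (tt N107414 (iv3 F458258)) (tt N90864 F391081) (tt N113293 (iv5 F484886)) (tt N87056 F391069) (tt N54627 (iv7 D193815)))
theorem Q90863 : ∀ i, i < 90863 → P i := stepQ 90862 Q90862 (allL N90862 (tt N101050 (iv1 F431455)) (tt N69995 (iv0 F391074)) (tt N81889 F391070) (tt N54628 (iv3 D193816)) (tt N117242 D220501) (tt N72260 F391071) (tt N80627 F391072) (tt N72259 F391073))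
theorem Q90864 : ∀ i, i < 90864 → P i := stepQ 90863 Q90863 (allL N90863 (tt N117243 D220502) (tt N117244 D220503) (tt N117213 (iv2 F503932)) (tt N117245 D220504) (tt N54628 (iv4 D193817)) (tt N89961 F391076) (tt N89643 F391075) (tt N117212 (iv7 F503929)))
theorem Q90865 : ∀ i, i < 90865 → P i := stepQ 90864 Q90864 (allL N90864 (tt N84372 (iv1 F391082)) (tt N84371 F391083) (tt N84374 (iv2 F391080)) (tt N54629 (iv3 D193818)) (tt N90861 (iv4 F391081)) (tt N83882 F391077) (tt N89352 F391078) (tt N83881 F391079))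
theorem Q90866 : ∀ i, i < 90866 → P i := stepQ 90865 Q90865 (allL N90865 (tt N117244 (iv1 F504086)) (tt N117243 F504083) (tt N117212 (iv2 F503927)) (tt N113474 (iv3 F485655)) (tt N54629 (iv4 D193819)) (tt N117246 D220505) (tt N113342 (iv6 F485111)) (tt N117213 (iv7 F503936)))
theorem Q90867 : ∀ i, i < 90867 → P i := stepQ 90866 Q90866 (allL N90866 (tt N76467 (iv1 F391090)) (tt N79111 F391089) (tt N54631 F391084) (tt N76957 F391085) (tt N63087 F391088) (tt N54630 (iv5 D193820)) (tt N69913 F391086) (tt N72798 F391087))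
theorem Q90868 : ∀ i, i < 90868 → P i := stepQ 90867 Q90867 (allL N90867 (tt N54631 (iv1 D193821)) (tt N72798 F391091) (tt N79111 (iv2 F391095)) (tt N115880 F497381) (tt N76468 F391093) (tt N117218 (iv5 F503956)) (tt N79109 (iv6 F391094)) (tt N76467 F391092))
theorem Q90869 : ∀ i, i < 90869 → P i := stepQ 90868 Q90868 (allL N90868 (tt N69769 F391101) (tt N69982 (iv0 F391102)) (tt N69913 F391096) (tt N54632 F391097) (tt N72771 F391098) (tt N69747 F391099) (tt N54631 (iv6 D193822)) (tt N69917 F391100))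
theorem Q90870 : ∀ i, i < 90870 → P i := stepQ 90869 Q90869 (allL N90869 (tt N81520 (iv1 F391104)) (tt N54632 (iv0 D193823)) (tt N114255 (iv2 F489247)) (tt N101838 (iv3 F434591)) (tt N69524 F391103) (tt N97934 F418856) (tt N117247 D220506) (tt N104070 (iv7 F444031)))
theorem Q90871 : ∀ i, i < 90871 → P i := stepQ 90870 Q90870 (allL N90870 (tt N54632 (iv1 D193824)) (tt N81520 F391105) (tt N104070 (iv2 F444028)) (tt N61548 F391108) (tt N61559 F391106) (tt N104068 (iv5 F444017)) (tt N61546 (iv6 F391107)) (tt N114255 (iv7 F489251)))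
theorem Q90872 : ∀ i, i < 90872 → P i := stepQ 90871 Q90871 (allL N90871 (tt N104070 (iv1 F444033)) (tt N114255 (iv0 F489252)) (tt N81520 F391109) (tt N69917 F391110) (tt N81531 F391111) (tt N69915 F391112) (tt N72768 F391113) (tt N54632 (iv7 D193825)))
theorem Q90873 : ∀ i, i < 90873 → P i := stepQ 90872 Q90872 (allL N90872 (tt N83033 F391118) (tt N110720 (iv0 F472895)) (tt N77973 F391114) (tt N54634 F391115) (tt N72663 F391116) (tt N54633 (iv5 D193826)) (tt N117248 D220507) (tt N83272 F391117))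
theorem Q90874 : ∀ i, i < 90874 → P i := stepQ 90873 Q90873 (allL N90873 (tt N112037 (iv1 F479195)) (tt N112519 (iv0 F481478)) (tt N83356 F391119) (tt N117249 D220508) (tt N54634 (iv4 D193827)) (tt N117250 D220509) (tt N117251 D220510) (tt N83273 F391120))
theorem Q90875 : ∀ i, i < 90875 → P i := stepQ 90874 Q90874 (allL N90874 (tt N110013 (iv1 F469561)) (tt N83457 F469563) (tt N83357 F391121) (tt N117248 (iv3 F504108)) (tt N117251 (iv4 F504122)) (tt N116511 (iv5 F500538)) (tt N54634 (iv6 D193828)) (tt N64879 F391122))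
theorem Q90876 : ∀ i, i < 90876 → P i := stepQ 90875 Q90875 (allL N90875 (tt N83366 F391125) (tt N83365 F391126) (tt N54639 F391123) (tt N117252 D220511) (tt N54635 (iv4 D193829)) (tt N112561 (iv5 F481651)) (tt N113352 (iv6 F485150)) (tt N83358 F391124))
theorem Q90877 : ∀ i, i < 90877 → P i := stepQ 90876 Q90876 (allL N90876 (tt N83027 (iv1 F391129)) (tt N91288 (iv0 F392567)) (tt N107547 (iv2 F458722)) (tt N54637 (iv3 D193830)) (tt N83540 F391128) (tt N111989 (iv5 F478981)) (tt N117253 D220512) (tt N83360 F391127))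
theorem Q90878 : ∀ i, i < 90878 → P i := stepQ 90877 Q90877 (allL N90877 (tt N112517 (iv1 F481465)) (tt N54806 F391132) (tt N83363 F391130) (tt N117254 D220513) (tt N54637 (iv4 D193831)) (tt N117255 D220514) (tt N117256 D220515) (tt N83361 F391131))
theorem Q90879 : ∀ i, i < 90879 → P i := stepQ 90878 Q90878 (allL N90878 (tt N70010 F406335) (tt N70005 F406336) (tt N83364 F391133) (tt N117253 (iv3 F504126)) (tt N117256 (iv4 F504138)) (tt N95137 (iv5 F407193)) (tt N54637 (iv6 D193832)) (tt N105664 (iv7 F451154)))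
theorem Q90880 : ∀ i, i < 90880 → P i := stepQ 90879 Q90879 (allL N90879 (tt N54806 F391136) (tt N112517 (iv0 F481464)) (tt N83361 F391134) (tt N117257 D220516) (tt N54638 (iv4 D193833)) (tt N117258 D220517) (tt N112572 F481695) (tt N83363 F391135))
theorem Q90881 : ∀ i, i < 90881 → P i := stepQ 90880 Q90880 (allL N90880 (tt N64872 F391138) (tt N81949 (iv0 F391139)) (tt N81948 F391137) (tt N91165 (iv3 F392125)) (tt N112572 (iv4 F481694)) (tt N112032 (iv5 F479171)) (tt N54638 (iv6 D193834)) (tt N81947 (iv7 F432718)))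
theorem Q90882 : ∀ i, i < 90882 → P i := stepQ 90881 Q90881 (allL N90881 (tt N54639 (iv1 D193835)) (tt N83358 F391140) (tt N83365 (iv2 F391143)) (tt N113434 F485479) (tt N81881 F391142) (tt N113434 (iv5 F485478)) (tt N117259 D220518) (tt N83366 F391141))
theorem Q90883 : ∀ i, i < 90883 → P i := stepQ 90882 Q90882 (allL N90882 (tt N105307 (iv1 F449644)) (tt N81893 F391145) (tt N112561 F481653) (tt N113355 (iv3 F485155)) (tt N116496 (iv4 F500443)) (tt N54639 (iv5 D193836)) (tt N112604 F481800) (tt N83368 F391144))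
theorem Q90884 : ∀ i, i < 90884 → P i := stepQ 90883 Q90883 (allL N90883 (tt N107027 (iv1 F456697)) (tt N100260 F428158) (tt N113369 (iv2 F485210)) (tt N90814 (iv3 F391150)) (tt N54642 (iv4 D193837)) (tt N113158 (iv5 F484259)) (tt N116438 (iv6 F500111)) (tt N83339 F391149))
theorem Q90885 : ∀ i, i < 90885 → P i := stepQ 90884 Q90884 (allL N90884 (tt N112319 F480532) (tt N116787 (iv0 F501834)) (tt N113317 (iv2 F484992)) (tt N54644 F391151) (tt N116438 (iv4 F500113)) (tt N83265 F391152) (tt N54642 (iv6 D193838)) (tt N90142 (iv7 F391153)))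
theorem Q90886 : ∀ i, i < 90886 → P i := stepQ 90885 Q90885 (allL N90885 (tt N115432 F495168) (tt N115755 F496688) (tt N115756 (iv2 F496689)) (tt N54643 (iv3 D193839)) (tt N90814 F391154) (tt N92030 (iv5 F395437)) (tt N110542 F472063) (tt N83341 F391155))
theorem Q90887 : ∀ i, i < 90887 → P i := stepQ 90886 Q90886 (allL N90886 (tt N110401 F471410) (tt N102674 (iv0 F438161)) (tt N83347 F391156) (tt N110542 (iv3 F472061)) (tt N54644 F391157) (tt N105976 (iv5 F452591)) (tt N54643 (iv6 D193840)) (tt N106947 (iv7 F456403)))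
theorem Q90888 : ∀ i, i < 90888 → P i := stepQ 90887 Q90887 (allL N90887 (tt N54644 (iv1 D193841)) (tt N77411 F391158) (tt N77372 F391170) (tt N97815 (iv3 F418401)) (tt N90390 F391171) (tt N85663 (iv5 F391161)) (tt N77154 (iv6 F391160)) (tt N77164 F391159))
theorem Q90889 : ∀ i, i < 90889 → P i := stepQ 90888 Q90888 (allL N90888 (tt N77372 (iv1 F391176)) (tt N77164 F391177) (tt N77411 F391172) (tt N90142 F391173) (tt N106947 (iv4 F456404)) (tt N76714 F391174) (tt N83344 F391175) (tt N54644 (iv7 D193842)))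
theorem Q90890 : ∀ i, i < 90890 → P i := stepQ 90889 Q90889 (allL N90889 (tt N88384 F391182) (tt N89940 (iv0 F391183)) (tt N89942 F391178) (tt N54645 (iv3 D193843)) (tt N83528 F391179) (tt N107441 (iv5 F458352)) (tt N84704 F391180) (tt N89115 F391181))
theorem Q90891 : ∀ i, i < 90891 → P i := stepQ 90890 Q90890 (allL N90890 (tt N88596 F391186) (tt N64318 F391187) (tt N88594 F391184) (tt N117260 D220519) (tt N54647 (iv4 D193844)) (tt N100984 (iv5 F431152)) (tt N117261 D220520) (tt N82695 F391185))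
theorem Q90892 : ∀ i, i < 90892 → P i := stepQ 90891 Q90891 (allL N90891 (tt N117262 D220521) (tt N105552 (iv0 F450708)) (tt N116122 (iv2 F498586)) (tt N54649 F391188) (tt N117261 (iv4 F504158)) (tt N85534 F391189) (tt N54647 (iv6 D193845)) (tt N117263 D220522))
theorem Q90893 : ∀ i, i < 90893 → P i := stepQ 90892 Q90892 (allL N90892 (tt N107392 (iv1 F483403)) (tt N117264 D220523) (tt N117265 D220524) (tt N54648 (iv3 D193846)) (tt N117260 (iv4 F504155)) (tt N83046 F391190) (tt N117263 (iv6 F504171)) (tt N82696 F391191))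
theorem Q90894 : ∀ i, i < 90894 → P i := stepQ 90893 Q90893 (allL N90893 (tt N82693 (iv1 F391197)) (tt N82692 (iv0 F391196)) (tt N82691 F391192) (tt N117263 (iv3 F504169)) (tt N54649 F391193) (tt N84777 F391194) (tt N54648 (iv6 D193847)) (tt N54649 F391195))
theorem Q90895 : ∀ i, i < 90895 → P i := stepQ 90894 Q90894 (allL N90894 (tt N82691 (iv1 F391199)) (tt N54649 (iv0 D193848)) (tt N82692 (iv2 F439751)) (tt N85522 F439753) (tt N113072 (iv4 F483847)) (tt N103033 (iv5 F439764)) (tt N113971 (iv6 F488021)) (tt N82693 (iv7 F439752)))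
theorem Q90896 : ∀ i, i < 90896 → P i := stepQ 90895 Q90895 (allL N90895 (tt N54649 (iv1 D193849)) (tt N82691 F391200) (tt N82693 F439749) (tt N117266 D220525) (tt N113071 (iv4 F483839)) (tt N103031 (iv5 F439745)) (tt N117267 D220526) (tt N82692 F439750))
theorem Q90897 : ∀ i, i < 90897 → P i := stepQ 90896 Q90896 (allL N90896 (tt N93715 (iv1 F401650)) (tt N92902 (iv0 F398709)) (tt N93714 (iv2 F401645)) (tt N81490 F391201) (tt N54651 (iv4 D193850)) (tt N117268 D220527) (tt N93649 F401431) (tt N59194 F391202))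
theorem Q90898 : ∀ i, i < 90898 → P i := stepQ 90897 Q90897 (allL N90897 (tt N54707 (iv1 F391207)) (tt N71974 F391209) (tt N71976 F391203) (tt N81491 F391204) (tt N93649 (iv4 F401430)) (tt N88527 F391205) (tt N54651 (iv6 D193851)) (tt N71969 F391206))
theorem Q90899 : ∀ i, i < 90899 → P i := stepQ 90898 Q90898 (allL N90898 (tt N90221 F391212) (tt N90318 F391213) (tt N54655 F391210) (tt N117269 D220528) (tt N54652 (iv4 D193852)) (tt N114421 (iv5 F490070)) (tt N115757 (iv6 F496698)) (tt N90320 F391211))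
theorem Q90900 : ∀ i, i < 90900 → P i := stepQ 90899 Q90899 (allL N90899 (tt N100262 (iv1 F428165)) (tt N96148 (iv0 F411250)) (tt N54656 F391214) (tt N106639 (iv3 F473102)) (tt N115757 (iv4 F496696)) (tt N116520 (iv5 F500590)) (tt N54652 (iv6 D193853)) (tt N100261 (iv7 F428161)))
theorem Q90901 : ∀ i, i < 90901 → P i := stepQ 90900 Q90900 (allL N90900 (tt N117270 D220529) (tt N114038 (iv0 F488312)) (tt N112370 (iv2 F480775)) (tt N100230 (iv3 F428077)) (tt N93875 F424529) (tt N113730 (iv5 F486876)) (tt N54653 (iv6 D193854)) (tt N106490 (iv7 F454657)))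
theorem Q90902 : ∀ i, i < 90902 → P i := stepQ 90901 Q90901 (allL N90901 (tt N110184 F470313) (tt N78246 (iv0 F391215)) (tt N103349 (iv2 F441218)) (tt N101199 (iv3 F432156)) (tt N54654 (iv4 D193855)) (tt N117271 D220530) (tt N74229 (iv6 F441216)) (tt N110185 (iv7 F470316)))
theorem Q90903 : ∀ i, i < 90903 → P i := stepQ 90902 Q90902 (allL N90902 (tt N114029 F488276) (tt N117272 D220531) (tt N103348 (iv2 F441214)) (tt N111439 (iv3 F476369)) (tt N74229 F441215) (tt N106371 (iv5 F454189)) (tt N54654 (iv6 D193856)) (tt N103347 (iv7 F441217)))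
theorem Q90904 : ∀ i, i < 90904 → P i := stepQ 90903 Q90903 (allL N90903 (tt N90320 (iv1 F391218)) (tt N54655 (iv0 D193857)) (tt N90221 (iv2 F391217)) (tt N117273 D220532) (tt N90169 F391216) (tt N117274 D220533) (tt N117275 D220534) (tt N90318 F391219))
theorem Q90905 : ∀ i, i < 90905 → P i := stepQ 90904 Q90904 (allL N90904 (tt N116915 F502480) (tt N90291 F391221) (tt N114421 (iv2 F490069)) (tt N93748 F401754) (tt N75096 F391220) (tt N54655 (iv5 D193858)) (tt N116775 F501768) (tt N114402 (iv7 F489974)))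
theorem Q90906 : ∀ i, i < 90906 → P i := stepQ 90905 Q90905 (allL N90905 (tt N54656 (iv1 D193859)) (tt N100261 F428160) (tt N96148 (iv2 F411247)) (tt N100269 (iv3 F428184)) (tt N93870 (iv4 F402225)) (tt N117276 D220535) (tt N93869 F402226) (tt N100262 (iv7 F428164)))
theorem Q90907 : ∀ i, i < 90907 → P i := stepQ 90906 Q90906 (allL N90906 (tt N96148 (iv1 F411251)) (tt N100262 F428166) (tt N100261 F428159) (tt N54659 F391222) (tt N91604 (iv4 F393761)) (tt N116193 (iv5 F498944)) (tt N113746 (iv6 F486933)) (tt N54656 (iv7 D193860)))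
theorem Q90908 : ∀ i, i < 90908 → P i := stepQ 90907 Q90907 (allL N90907 (tt N91009 (iv1 F391552)) (tt N116118 (iv0 F498567)) (tt N116474 (iv2 F500321)) (tt N116428 (iv3 F500052)) (tt N113469 (iv4 F485628)) (tt N54657 (iv5 D193861)) (tt N113468 F485626) (tt N116475 (iv7 F500331)))
theorem Q90909 : ∀ i, i < 90909 → P i := stepQ 90908 Q90908 (allL N90908 (tt N106714 (iv1 F455371)) (tt N106713 (iv0 F455367)) (tt N89556 F391223) (tt N110323 (iv3 F471051)) (tt N112120 (iv4 F479584)) (tt N89019 F391224) (tt N54657 (iv6 D193862)) (tt N89555 (iv7 F391227)))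
theorem Q90910 : ∀ i, i < 90910 → P i := stepQ 90909 Q90909 (allL N90909 (tt N116118 F498568) (tt N91009 (iv0 F452670)) (tt N116475 (iv2 F500329)) (tt N105301 (iv3 F449625)) (tt N113545 F485971) (tt N54658 (iv5 D193863)) (tt N88732 F391237) (tt N116474 (iv7 F500324)))
theorem Q90911 : ∀ i, i < 90911 → P i := stepQ 90910 Q90910 (allL N90910 (tt N113185 (iv1 F484371)) (tt N89343 F391242) (tt N63368 F391238) (tt N54661 F391239) (tt N105424 (iv4 F450198)) (tt N54660 (iv5 D193864)) (tt N63293 F391240) (tt N81834 F391241))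
theorem Q90912 : ∀ i, i < 90912 → P i := stepQ 90911 Q90911 (allL N90911 (tt N81891 F391245) (tt N81890 F391246) (tt N81894 F391243) (tt N105308 (iv3 F449646)) (tt N54661 (iv4 D193865)) (tt N105307 F449643) (tt N117277 D220536) (tt N81842 F391244))
theorem Q90913 : ∀ i, i < 90913 → P i := stepQ 90912 Q90912 (allL N90912 (tt N81942 (iv1 F391251)) (tt N81941 F391252) (tt N71534 F391247) (tt N63293 F391248) (tt N117277 (iv4 F504241)) (tt N63292 F391249) (tt N54661 (iv6 D193866)) (tt N64931 F391250))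
theorem Q90914 : ∀ i, i < 90914 → P i := stepQ 90913 Q90913 (allL N90913 (tt N90315 F391255) (tt N116547 F500702) (tt N109823 (iv2 F468794)) (tt N62068 F391253) (tt N81893 F391254) (tt N54662 (iv5 D193867)) (tt N106649 (iv6 F455143)) (tt N101617 (iv7 F433573)))
theorem Q90915 : ∀ i, i < 90915 → P i := stepQ 90914 Q90914 (allL N90914 (tt N117278 D220537) (tt N109921 (iv0 F469231)) (tt N117279 D220538) (tt N54663 (iv3 D193868)) (tt N116476 (iv4 F500334)) (tt N117280 D220539) (tt N116629 (iv6 F501050)) (tt N116495 (iv7 F500437)))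
theorem Q90916 : ∀ i, i < 90916 → P i := stepQ 90915 Q90915 (allL N90915 (tt N116505 (iv1 F500500)) (tt N116504 F500493) (tt N54675 F391256) (tt N117280 (iv3 F504259)) (tt N83368 F391257) (tt N54663 (iv5 D193869)) (tt N116865 F502243) (tt N116496 (iv7 F500445)))
theorem Q90917 : ∀ i, i < 90917 → P i := stepQ 90916 Q90916 (allL N90916 (tt N61979 (iv1 F391262)) (tt N98901 F422732) (tt N54676 F391258) (tt N116629 (iv3 F501049)) (tt N54664 F391259) (tt N61964 (iv5 F391263)) (tt N54663 (iv6 D193870)) (tt N70997 F391260))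
theorem Q90918 : ∀ i, i < 90918 → P i := stepQ 90917 Q90917 (allL N90917 (tt N54680 (iv1 F391267)) (tt N54664 (iv0 D193871)) (tt N54677 (iv2 F391266)) (tt N71812 F391264) (tt N117281 D220540) (tt N63957 F391265) (tt N101625 (iv6 F433600)) (tt N54678 F391268))
theorem Q90919 : ∀ i, i < 90919 → P i := stepQ 90918 Q90918 (allL N90918 (tt N54666 (iv1 D193872)) (tt N54669 F391269) (tt N90210 (iv2 F391272)) (tt N117282 D220541) (tt N81880 F391271) (tt N116547 (iv5 F500700)) (tt N108122 F461209) (tt N61806 F391270))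
theorem Q90920 : ∀ i, i < 90920 → P i := stepQ 90919 Q90919 (allL N90919 (tt N116959 (iv1 F502711)) (tt N117016 (iv0 F502983)) (tt N116497 (iv2 F500448)) (tt N62029 F391273) (tt N113434 (iv4 F485480)) (tt N54666 (iv5 D193873)) (tt N117283 D220542) (tt N113477 (iv7 F485672)))
theorem Q90921 : ∀ i, i < 90921 → P i := stepQ 90920 Q90920 (allL N90920 (tt N116498 (iv1 F500459)) (tt N54667 (iv0 D193874)) (tt N116488 (iv2 F500402)) (tt N116477 F500340) (tt N117284 D220543) (tt N104845 F450886) (tt N111196 F475182) (tt N70871 (iv7 F450887)))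
theorem Q90922 : ∀ i, i < 90922 → P i := stepQ 90921 Q90921 (allL N90921 (tt N54667 (iv1 D193875)) (tt N116498 F500458) (tt N70871 F433560) (tt N54691 F447578) (tt N117285 D220544) (tt N104846 F447576) (tt N70868 (iv6 F433556)) (tt N116488 (iv7 F500405)))
theorem Q90923 : ∀ i, i < 90923 → P i := stepQ 90922 Q90922 (allL N90922 (tt N70871 (iv1 F391277)) (tt N116488 (iv0 F500406)) (tt N116498 (iv2 F500453)) (tt N70850 F391274) (tt N110616 (iv4 F472412)) (tt N82274 F391275) (tt N73994 F391276) (tt N54667 (iv7 D193876)))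
theorem Q90924 : ∀ i, i < 90924 → P i := stepQ 90923 Q90923 (allL N90923 (tt N88584 F391282) (tt N88962 F391283) (tt N71864 F391278) (tt N54670 F391279) (tt N71864 F391280) (tt N54668 (iv5 D193877)) (tt N106611 (iv6 F455048)) (tt N72010 F391281))
theorem Q90925 : ∀ i, i < 90925 → P i := stepQ 90924 Q90924 (allL N90924 (tt N72065 F391287) (tt N117286 D220545) (tt N71865 F391284) (tt N54671 F391285) (tt N73614 F391286) (tt N106612 (iv5 F455051)) (tt N54668 (iv6 D193878)) (tt N117287 D220546))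
theorem Q90926 : ∀ i, i < 90926 → P i := stepQ 90925 Q90925 (allL N90925 (tt N117016 (iv1 F502984)) (tt N116959 (iv0 F502710)) (tt N113477 (iv2 F485668)) (tt N109919 (iv3 F469214)) (tt N113433 F485474) (tt N54669 (iv5 D193879)) (tt N113477 (iv6 F485671)) (tt N116497 (iv7 F500451)))
theorem Q90927 : ∀ i, i < 90927 → P i := stepQ 90926 Q90926 (allL N90926 (tt N101654 F433714) (tt N107287 (iv0 F457808)) (tt N107494 (iv2 F458520)) (tt N109920 (iv3 F469221)) (tt N54671 F391288) (tt N107494 (iv5 F458523)) (tt N54669 (iv6 D193880)) (tt N117288 D220547))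
theorem Q90928 : ∀ i, i < 90928 → P i := stepQ 90927 Q90927 (allL N90927 (tt N72439 (iv1 F391291)) (tt N62571 F391292) (tt N73994 F391289) (tt N117287 (iv3 F504292)) (tt N117288 (iv4 F504300)) (tt N73999 F391290) (tt N116498 (iv6 F500457)) (tt N54671 (iv7 D193881)))
theorem Q90929 : ∀ i, i < 90929 → P i := stepQ 90928 Q90928 (allL N90928 (tt N61777 F391293) (tt N117289 D220548) (tt N106686 (iv2 F455273)) (tt N54672 (iv3 D193882)) (tt N117290 D220549) (tt N106622 F455279) (tt N77945 (iv6 F455284)) (tt N116499 (iv7 F500463)))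
theorem Q90930 : ∀ i, i < 90930 → P i := stepQ 90929 Q90929 (allL N90929 (tt N113435 (iv1 F485485)) (tt N117291 D220550) (tt N116501 (iv2 F500475)) (tt N106622 (iv3 F455288)) (tt N117258 (iv4 F504146)) (tt N54672 (iv5 D193883)) (tt N106621 F455289) (tt N116500 (iv7 F500470)))
theorem Q90931 : ∀ i, i < 90931 → P i := stepQ 90930 Q90930 (allL N90930 (tt N117284 (iv1 F504278)) (tt N117285 (iv0 F504283)) (tt N116502 (iv2 F500480)) (tt N77945 (iv3 F455283)) (tt N116956 (iv4 F502694)) (tt N117292 D220551) (tt N54672 (iv6 D193884)) (tt N106687 (iv7 F455290)))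
theorem Q90932 : ∀ i, i < 90932 → P i := stepQ 90931 Q90931 (allL N90931 (tt N117291 (iv1 F504314)) (tt N113435 (iv0 F485484)) (tt N116500 (iv2 F500467)) (tt N63625 F391294) (tt N117255 (iv4 F504133)) (tt N54673 (iv5 D193885)) (tt N116500 (iv6 F500469)) (tt N116501 (iv7 F500478)))
theorem Q90933 : ∀ i, i < 90933 → P i := stepQ 90932 Q90932 (allL N90932 (tt N101629 F433617) (tt N73995 (iv0 F391297)) (tt N107503 (iv2 F458550)) (tt N63607 F391295) (tt N81426 F391296) (tt N107503 (iv5 F458552)) (tt N54673 (iv6 D193886)) (tt N117293 D220552))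
theorem Q90934 : ∀ i, i < 90934 → P i := stepQ 90933 Q90933 (allL N90933 (tt N103212 F440594) (tt N54674 (iv0 D193887)) (tt N62021 (iv2 F391301)) (tt N109927 (iv3 F469264)) (tt N102874 (iv4 F439040)) (tt N109526 (iv5 F467373)) (tt N110717 (iv6 F472881)) (tt N116503 (iv7 F500490)))
theorem Q90935 : ∀ i, i < 90935 → P i := stepQ 90934 Q90934 (allL N90934 (tt N54674 (iv1 D193888)) (tt N103212 F440593) (tt N116503 F500488) (tt N61779 (iv3 F391298)) (tt N71828 (iv4 F391299)) (tt N109525 (iv5 F467366)) (tt N117294 D220553) (tt N62021 F391300))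
theorem Q90936 : ∀ i, i < 90936 → P i := stepQ 90935 Q90935 (allL N90935 (tt N62021 F391304) (tt N116503 F500489) (tt N54674 (iv2 D193889)) (tt N117279 (iv3 F504252)) (tt N54704 F391302) (tt N109483 (iv5 F467199)) (tt N62506 F391303) (tt N103212 (iv7 F440592)))
theorem Q90937 : ∀ i, i < 90937 → P i := stepQ 90936 Q90936 (allL N90936 (tt N116496 (iv1 F500447)) (tt N54675 (iv0 D193890)) (tt N116505 F500505) (tt N117295 D220554) (tt N109948 F469343) (tt N114028 F488271) (tt N109947 (iv6 F469344)) (tt N116504 F500495))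
theorem Q90938 : ∀ i, i < 90938 → P i := stepQ 90937 Q90937 (allL N90937 (tt N54675 (iv1 D193891)) (tt N116496 (iv0 F500446)) (tt N116504 (iv2 F500496)) (tt N117237 (iv3 F504064)) (tt N117250 (iv4 F504118)) (tt N83274 F391305) (tt N106922 (iv6 F456293)) (tt N116505 (iv7 F500501)))
theorem Q90939 : ∀ i, i < 90939 → P i := stepQ 90938 Q90938 (allL N90938 (tt N81893 F391308) (tt N105307 (iv0 F449642)) (tt N83368 F391306) (tt N109510 (iv3 F467307)) (tt N54675 (iv4 D193892)) (tt N83358 F391307) (tt N117296 D220555) (tt N112561 (iv7 F481650)))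
theorem Q90940 : ∀ i, i < 90940 → P i := stepQ 90939 Q90939 (allL N90939 (tt N116859 F502211) (tt N106911 (iv0 F456250)) (tt N116865 (iv2 F502244)) (tt N62528 F391309) (tt N117296 (iv4 F504335)) (tt N62525 F391310) (tt N54675 (iv6 D193893)) (tt N109928 (iv7 F469273)))
theorem Q90941 : ∀ i, i < 90941 → P i := stepQ 90940 Q90940 (allL N90940 (tt N70997 (iv1 F391317)) (tt N54676 (iv0 D193894)) (tt N61979 (iv2 F391311)) (tt N61976 (iv3 F423187)) (tt N100602 (iv4 F429653)) (tt N93492 (iv5 F400907)) (tt N112588 (iv6 F481733)) (tt N98901 (iv7 F422730)))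
theorem Q90942 : ∀ i, i < 90942 → P i := stepQ 90941 Q90941 (allL N90941 (tt N98901 (iv1 F422731)) (tt N61979 (iv0 F391318)) (tt N70997 F391312) (tt N62497 F391313) (tt N54680 F391314) (tt N61963 F391315) (tt N70993 F391316) (tt N54676 (iv7 D193895)))
theorem Q90943 : ∀ i, i < 90943 → P i := stepQ 90942 Q90942 (allL N90942 (tt N61801 F422452) (tt N108122 (iv0 F461207)) (tt N117281 (iv2 F504263)) (tt N56997 F391319) (tt N54677 (iv4 D193896)) (tt N107516 (iv5 F458621)) (tt N113423 (iv6 F485436)) (tt N61993 F391320))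
theorem Q90944 : ∀ i, i < 90944 → P i := stepQ 90943 Q90943 (allL N90943 (tt N73996 F431737) (tt N79421 (iv0 F391322)) (tt N101625 F433601) (tt N70963 F391321) (tt N113423 F485438) (tt N117297 D220556) (tt N54677 (iv6 D193897)) (tt N101626 (iv7 F433602)))
theorem Q90945 : ∀ i, i < 90945 → P i := stepQ 90944 Q90944 (allL N90944 (tt N108122 (iv1 F461208)) (tt N61801 F422453) (tt N61993 F391323) (tt N62087 F391324) (tt N54678 (iv4 D193898)) (tt N117298 D220557) (tt N99966 (iv6 F426992)) (tt N117281 (iv7 F504267)))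
theorem Q90946 : ∀ i, i < 90946 → P i := stepQ 90945 Q90945 (allL N90945 (tt N54679 (iv1 D193899)) (tt N69770 F391325) (tt N62858 F391328) (tt N71995 (iv3 F391327)) (tt N64772 F391329) (tt N101110 (iv5 F431719)) (tt N64405 F391330) (tt N69985 F391326))
theorem Q90947 : ∀ i, i < 90947 → P i := stepQ 90946 Q90946 (allL N90946 (tt N89152 (iv1 F391335)) (tt N61547 F391334) (tt N54682 (iv2 D193900)) (tt N55369 F391331) (tt N54682 (iv4 F391336)) (tt N114008 (iv5 F488174)) (tt N84881 F391332) (tt N83087 F391333))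
theorem Q90948 : ∀ i, i < 90948 → P i := stepQ 90947 Q90947 (allL N90947 (tt N84346 (iv1 F391341)) (tt N54719 (iv0 F391340)) (tt N84345 F391346) (tt N54684 (iv3 D193901)) (tt N54720 F391337) (tt N117299 D220558) (tt N69993 F391338) (tt N64408 F391339))
theorem Q90949 : ∀ i, i < 90949 → P i := stepQ 90948 Q90948 (allL N90948 (tt N105242 (iv1 F449359)) (tt N105240 (iv0 F449345)) (tt N64411 F391347) (tt N117299 (iv3 F504352)) (tt N116183 (iv4 F498894)) (tt N54684 (iv5 D193902)) (tt N112740 (iv6 F482458)) (tt N64409 F391348))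
theorem Q90950 : ∀ i, i < 90950 → P i := stepQ 90949 Q90949 (allL N90949 (tt N90213 F391351) (tt N90286 F391352) (tt N54686 F391349) (tt N117300 D220559) (tt N54685 (iv4 D193903)) (tt N117009 (iv5 F502953)) (tt N117301 D220560) (tt N90289 F391350))
theorem Q90951 : ∀ i, i < 90951 → P i := stepQ 90950 Q90950 (allL N90950 (tt N117302 D220561) (tt N71275 F391386) (tt N54687 F391353) (tt N71956 F391354) (tt N117301 (iv4 F504362)) (tt N88951 F391355) (tt N54685 (iv6 D193904)) (tt N117303 D220562))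
theorem Q90952 : ∀ i, i < 90952 → P i := stepQ 90951 Q90951 (allL N90951 (tt N90289 (iv1 F391358)) (tt N54686 (iv0 D193905)) (tt N90213 (iv2 F391357)) (tt N93777 (iv3 F401861)) (tt N71755 F391356) (tt N116915 (iv5 F502477)) (tt N71754 F391360) (tt N90286 F391359))
theorem Q90953 : ∀ i, i < 90953 → P i := stepQ 90952 Q90952 (allL N90952 (tt N117006 (iv1 F502937)) (tt N116962 (iv0 F502724)) (tt N117009 (iv2 F502955)) (tt N93747 (iv3 F401750)) (tt N117304 D220563) (tt N54686 (iv5 D193906)) (tt N117305 D220564) (tt N116491 (iv7 F500421)))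
theorem Q90954 : ∀ i, i < 90954 → P i := stepQ 90953 Q90953 (allL N90953 (tt N117306 D220565) (tt N93452 (iv0 F466434)) (tt N117301 (iv2 F504361)) (tt N91597 (iv3 F393744)) (tt N54687 F391361) (tt N106529 (iv5 F464326)) (tt N54686 (iv6 D193907)) (tt N117307 D220566))
theorem Q90955 : ∀ i, i < 90955 → P i := stepQ 90954 Q90954 (allL N90954 (tt N117303 (iv1 F504373)) (tt N54687 (iv0 D193908)) (tt N117302 F504363) (tt N71282 F391362) (tt N117308 D220567) (tt N117309 D220568) (tt N109635 (iv6 F467859)) (tt N71275 (iv7 F391363)))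
theorem Q90956 : ∀ i, i < 90956 → P i := stepQ 90955 Q90955 (allL N90955 (tt N54687 (iv1 D193909)) (tt N117303 F504372) (tt N71275 F473669) (tt N117310 D220569) (tt N65483 F473670) (tt N117311 D220570) (tt N65481 F473671) (tt N117302 (iv7 F504365)))
theorem Q90957 : ∀ i, i < 90957 → P i := stepQ 90956 Q90956 (allL N90956 (tt N71275 F391385) (tt N117302 F504367) (tt N117303 (iv2 F504368)) (tt N54692 F391364) (tt N117307 (iv4 F504385)) (tt N88961 F391365) (tt N116494 (iv6 F500432)) (tt N54687 (iv7 D193910)))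
theorem Q90958 : ∀ i, i < 90958 → P i := stepQ 90957 Q90957 (allL N90957 (tt N81703 (iv1 F391370)) (tt N81705 F391369) (tt N54688 (iv2 D193911)) (tt N90666 F391366) (tt N91553 (iv4 F393617)) (tt N78188 F391367) (tt N55297 (iv6 F391371)) (tt N87797 F391368))
theorem Q90959 : ∀ i, i < 90959 → P i := stepQ 90958 Q90958 (allL N90958 (tt N55144 F391375) (tt N55299 F391376) (tt N55297 F391372) (tt N54689 F391373) (tt N91597 F393743) (tt N88054 F391374) (tt N54688 (iv6 D193912)) (tt N55296 (iv7 F393384)))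
theorem Q90960 : ∀ i, i < 90960 → P i := stepQ 90959 Q90959 (allL N90959 (tt N112092 F479460) (tt N108518 (iv0 F462915)) (tt N90669 F391377) (tt N88054 F391378) (tt N115927 (iv4 F497621)) (tt N54689 (iv5 D193913)) (tt N88053 F391379) (tt N112248 (iv7 F480216)))
theorem Q90961 : ∀ i, i < 90961 → P i := stepQ 90960 Q90960 (allL N90960 (tt N90657 (iv1 F391383)) (tt N90655 F391384) (tt N90670 F391380) (tt N55296 F393385) (tt N54692 F391381) (tt N112248 (iv5 F480213)) (tt N90545 F391382) (tt N54689 (iv7 D193914)))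
theorem Q90962 : ∀ i, i < 90962 → P i := stepQ 90961 Q90961 (allL N90961 (tt N116479 (iv1 F500356)) (tt N54768 F484889) (tt N116477 F500339) (tt N54690 (iv3 D193916)) (tt N107186 (iv4 F457402)) (tt N117312 D220571) (tt N115115 (iv6 F493562)) (tt N116478 (iv7 F500344)))
theorem Q90963 : ∀ i, i < 90963 → P i := stepQ 90962 Q90962 (allL N90962 (tt N115082 (iv1 F493399)) (tt N85430 F391389) (tt N115081 F493391) (tt N117312 (iv3 F504409)) (tt N86267 F391388) (tt N54690 (iv5 D193918)) (tt N88925 F391391) (tt N88979 (iv7 F391392)))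
theorem Q90964 : ∀ i, i < 90964 → P i := stepQ 90963 Q90963 (allL N90963 (tt N54713 F488252) (tt N91431 F488253) (tt N116418 (iv2 F499997)) (tt N115115 F493561) (tt N114645 (iv4 F491174)) (tt N114025 F488254) (tt N54690 (iv6 D193919)) (tt N116417 (iv7 F499993)))
theorem Q90965 : ∀ i, i < 90965 → P i := stepQ 90964 Q90964 (allL N90964 (tt N85430 F391399) (tt N115082 F493398) (tt N88979 F391397) (tt N104846 F447574) (tt N85571 F391398) (tt N54691 (iv5 D193921)) (tt N83943 F391400) (tt N115081 (iv7 F493392)))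
theorem Q90966 : ∀ i, i < 90966 → P i := stepQ 90965 Q90965 (allL N90965 (tt N89750 F447579) (tt N54788 F447580) (tt N116489 (iv2 F500408)) (tt N70868 F447581) (tt N106276 (iv4 F453847)) (tt N117313 D220572) (tt N54691 (iv6 D193922)) (tt N70873 F447582))
theorem Q90967 : ∀ i, i < 90967 → P i := stepQ 90966 Q90966 (allL N90966 (tt N89175 F391403) (tt N108999 (iv0 F464839)) (tt N54694 F391401) (tt N93687 (iv3 F401568)) (tt N54693 (iv4 D193923)) (tt N92387 F396905) (tt N117314 D220573) (tt N71954 F391402))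
theorem Q90968 : ∀ i, i < 90968 → P i := stepQ 90967 Q90967 (allL N90967 (tt N83932 (iv1 F391410)) (tt N55308 (iv0 F391409)) (tt N54695 F391404) (tt N84382 F391405) (tt N84564 F391407) (tt N54693 (iv5 D193924)) (tt N83177 F391408) (tt N71955 F391406))
theorem Q90969 : ∀ i, i < 90969 → P i := stepQ 90968 Q90968 (allL N90968 (tt N72126 F391413) (tt N117315 D220574) (tt N54696 F391411) (tt N116490 (iv3 F500416)) (tt N117314 (iv4 F504424)) (tt N83178 F391412) (tt N54693 (iv6 D193925)) (tt N117316 D220575))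
theorem Q90970 : ∀ i, i < 90970 → P i := stepQ 90969 Q90969 (allL N90969 (tt N71954 (iv1 F391415)) (tt N54694 (iv0 D193926)) (tt N89175 (iv2 F391418)) (tt N107355 (iv3 F458073)) (tt N89171 F391414) (tt N109000 (iv5 F464841)) (tt N96841 (iv6 F414217)) (tt N108999 (iv7 F464837)))
theorem Q90971 : ∀ i, i < 90971 → P i := stepQ 90970 Q90970 (allL N90970 (tt N54694 (iv1 D193927)) (tt N71954 F391419) (tt N108999 (iv2 F464833)) (tt N55978 F391422) (tt N73835 (iv4 F391421)) (tt N108992 (iv5 F464807)) (tt N55976 F391423) (tt N89175 F391420))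
theorem Q90972 : ∀ i, i < 90972 → P i := stepQ 90971 Q90971 (allL N90971 (tt N55992 F391446) (tt N106123 F453231) (tt N106121 F453220) (tt N54694 (iv3 D193928)) (tt N54697 F391424) (tt N108724 (iv5 F463709)) (tt N117317 D220576) (tt N90667 F391425))
theorem Q90973 : ∀ i, i < 90973 → P i := stepQ 90972 Q90972 (allL N90972 (tt N57557 F391428) (tt N108723 F463703) (tt N92387 (iv2 F396903)) (tt N108724 (iv3 F463706)) (tt N72980 F391426) (tt N54694 (iv5 D193929)) (tt N72978 (iv6 F391427)) (tt N108722 (iv7 F463692)))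
theorem Q90974 : ∀ i, i < 90974 → P i := stepQ 90973 Q90973 (allL N90973 (tt N117091 F503331) (tt N117094 (iv0 F503344)) (tt N117314 (iv2 F504422)) (tt N117317 (iv3 F504437)) (tt N54696 F391429) (tt N117318 D220577) (tt N54694 (iv6 D193930)) (tt N117319 D220578))
theorem Q90975 : ∀ i, i < 90975 → P i := stepQ 90974 Q90974 (allL N90974 (tt N54695 (iv1 D193931)) (tt N71955 F391430) (tt N55308 F391435) (tt N71866 (iv3 F391433)) (tt N88370 F391432) (tt N89263 F391436) (tt N55306 (iv6 F391434)) (tt N83932 F391431))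
theorem Q90976 : ∀ i, i < 90976 → P i := stepQ 90975 Q90975 (allL N90975 (tt N117316 (iv1 F504436)) (tt N54696 (iv0 D193932)) (tt N72126 (iv2 F391438)) (tt N110299 (iv3 F470916)) (tt N117320 D220579) (tt N110296 (iv5 F470905)) (tt N71935 F391437) (tt N117315 (iv7 F504426)))
theorem Q90977 : ∀ i, i < 90977 → P i := stepQ 90976 Q90976 (allL N90976 (tt N54696 (iv1 D193933)) (tt N117316 F504435) (tt N117315 (iv2 F504428)) (tt N71869 (iv3 F391440)) (tt N102270 (iv4 F436476)) (tt N106800 (iv5 F455736)) (tt N117321 D220580) (tt N72126 F391439))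
theorem Q90978 : ∀ i, i < 90978 → P i := stepQ 90977 Q90977 (allL N90977 (tt N117315 (iv1 F504425)) (tt N72126 (iv0 F391467)) (tt N117316 (iv2 F504431)) (tt N54701 F391441) (tt N117319 (iv4 F504444)) (tt N116390 (iv5 F499847)) (tt N116487 (iv6 F500399)) (tt N54696 (iv7 D193934)))
theorem Q90979 : ∀ i, i < 90979 → P i := stepQ 90978 Q90978 (allL N90978 (tt N54697 (iv1 D193935)) (tt N90666 F391448) (tt N90665 F391444) (tt N75921 F391445) (tt N106125 (iv4 F453239)) (tt N75920 (iv5 F391443)) (tt N96840 (iv6 F414209)) (tt N58449 F391442))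
theorem Q90980 : ∀ i, i < 90980 → P i := stepQ 90979 Q90979 (allL N90979 (tt N58449 (iv1 F391453)) (tt N90665 F391452) (tt N54697 (iv2 D193936)) (tt N87797 F391449) (tt N106121 (iv4 F453219)) (tt N87796 F391450) (tt N117322 D220581) (tt N90666 F391451))
theorem Q90981 : ∀ i, i < 90981 → P i := stepQ 90980 Q90980 (allL N90980 (tt N95367 F414303) (tt N117323 D220582) (tt N117322 (iv2 F504456)) (tt N54698 F391454) (tt N117317 (iv4 F504438)) (tt N96859 (iv5 F414302)) (tt N54697 (iv6 D193937)) (tt N117324 D220583))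
theorem Q90982 : ∀ i, i < 90982 → P i := stepQ 90981 Q90981 (allL N90981 (tt N54698 (iv1 D193938)) (tt N90545 F391455) (tt N90547 (iv2 F391459)) (tt N91848 (iv3 F394669)) (tt N89213 F391457) (tt N91846 (iv5 F394663)) (tt N90533 (iv6 F391458)) (tt N89210 F391456))
theorem Q90983 : ∀ i, i < 90983 → P i := stepQ 90982 Q90982 (allL N90982 (tt N71593 F391461) (tt N95162 (iv0 F407272)) (tt N90673 F391460) (tt N96859 (iv3 F414300)) (tt N112012 (iv4 F479070)) (tt N54698 (iv5 D193939)) (tt N95139 F407206) (tt N112010 (iv7 F479057)))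
theorem Q90984 : ∀ i, i < 90984 → P i := stepQ 90983 Q90983 (allL N90983 (tt N90547 (iv1 F391465)) (tt N89210 F391466) (tt N90545 F391462) (tt N117324 (iv3 F504464)) (tt N54701 F391463) (tt N112010 F479058) (tt N90670 F391464) (tt N54698 (iv7 D193940)))
theorem Q90985 : ∀ i, i < 90985 → P i := stepQ 90984 Q90984 (allL N90984 (tt N73213 F391472) (tt N96266 (iv0 F411803)) (tt N89437 F391468) (tt N59051 F391469) (tt N72850 (iv4 F391473)) (tt N54699 (iv5 D193942)) (tt N79425 F391470) (tt N72438 F391471))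
theorem Q90986 : ∀ i, i < 90986 → P i := stepQ 90985 Q90985 (allL N90985 (tt N54766 F391477) (tt N110528 F472007) (tt N73992 F391474) (tt N54700 (iv3 D193943)) (tt N64548 (iv4 F391475)) (tt N73248 F391476) (tt N117325 D220584) (tt N110527 (iv7 F472000)))
theorem Q90987 : ∀ i, i < 90987 → P i := stepQ 90986 Q90986 (allL N90986 (tt N96266 (iv1 F411804)) (tt N73213 (iv0 F391481)) (tt N72438 F391478) (tt N73248 F391479) (tt N110989 (iv4 F474113)) (tt N54700 (iv5 D193945)) (tt N85341 (iv6 F391482)) (tt N89437 F391480))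
theorem Q90988 : ∀ i, i < 90988 → P i := stepQ 90987 Q90987 (allL N90987 (tt N116201 (iv1 F498976)) (tt N54710 F411805) (tt N113829 (iv2 F487327)) (tt N117325 (iv3 F504468)) (tt N117106 (iv4 F503421)) (tt N112063 (iv5 F479316)) (tt N54700 (iv6 D193946)) (tt N112350 (iv7 F480699)))
theorem Q90989 : ∀ i, i < 90989 → P i := stepQ 90988 Q90988 (allL N90988 (tt N54919 (iv1 F391488)) (tt N54920 (iv0 F391487)) (tt N54977 (iv2 F391486)) (tt N54702 (iv3 D193947)) (tt N81051 F391485) (tt N87122 F391483) (tt N55024 (iv6 F391489)) (tt N54976 F391484))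
theorem Q90990 : ∀ i, i < 90990 → P i := stepQ 90989 Q90989 (allL N90989 (tt N109517 (iv1 F467340)) (tt N62097 (iv0 F391491)) (tt N116507 (iv2 F500512)) (tt N62061 F391490) (tt N54702 (iv4 D193948)) (tt N117135 (iv5 F503564)) (tt N110787 F473174) (tt N116506 (iv7 F500508)))
theorem Q90991 : ∀ i, i < 90991 → P i := stepQ 90990 Q90990 (allL N90990 (tt N91463 F393241) (tt N117149 (iv0 F503641)) (tt N91602 (iv2 F393756)) (tt N55024 F391492) (tt N110787 (iv4 F473172)) (tt N116002 (iv5 F497994)) (tt N54702 (iv6 D193949)) (tt N117326 D220585))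
theorem Q90992 : ∀ i, i < 90992 → P i := stepQ 90991 Q90991 (allL N90991 (tt N62097 F391493) (tt N109517 (iv0 F467341)) (tt N116506 (iv2 F500506)) (tt N117327 D220586) (tt N54703 (iv4 D193950)) (tt N117136 (iv5 F503573)) (tt N116579 (iv6 F500828)) (tt N116507 (iv7 F500515)))
theorem Q90993 : ∀ i, i < 90993 → P i := stepQ 90992 Q90992 (allL N90992 (tt N117151 F503649) (tt N117328 D220587) (tt N111111 (iv2 F474718)) (tt N91551 (iv3 F393613)) (tt N116579 (iv4 F500826)) (tt N92558 (iv5 F397368)) (tt N54703 (iv6 D193951)) (tt N111110 (iv7 F474717)))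
theorem Q90994 : ∀ i, i < 90994 → P i := stepQ 90993 Q90993 (allL N90993 (tt N107521 (iv1 F458651)) (tt N98874 (iv0 F422660)) (tt N54705 F391494) (tt N96618 (iv3 F413202)) (tt N62506 F391495) (tt N75396 F391496) (tt N54704 (iv6 D193952)) (tt N62505 (iv7 F391497)))
theorem Q90995 : ∀ i, i < 90995 → P i := stepQ 90994 Q90994 (allL N90994 (tt N54705 (iv1 D193953)) (tt N62505 F391498) (tt N98874 (iv2 F422656)) (tt N85638 F391501) (tt N62085 F391499) (tt N91513 (iv5 F393438)) (tt N85637 (iv6 F391500)) (tt N107521 (iv7 F458649)))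
theorem Q90996 : ∀ i, i < 90996 → P i := stepQ 90995 Q90995 (allL N90995 (tt N98874 (iv1 F422661)) (tt N107521 (iv0 F458650)) (tt N62505 F391502) (tt N54706 F391503) (tt N62497 F391504) (tt N58614 F391505) (tt N103211 (iv6 F440584)) (tt N54705 (iv7 D193954)))
theorem Q90997 : ∀ i, i < 90997 → P i := stepQ 90996 Q90996 (allL N90996 (tt N71969 (iv1 F391509)) (tt N71976 F391508) (tt N54707 (iv2 D193955)) (tt N70986 F391506) (tt N93760 F401805) (tt N82461 (iv5 F391510)) (tt N117329 D220588) (tt N71974 F391507))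
theorem Q90998 : ∀ i, i < 90998 → P i := stepQ 90997 Q90997 (allL N90997 (tt N93757 (iv1 F401794)) (tt N90292 (iv0 F391511)) (tt N93760 (iv2 F401806)) (tt N59137 F391522) (tt N54707 (iv4 D193956)) (tt N99490 (iv5 F424827)) (tt N117330 D220589) (tt N93759 F401800))
theorem Q90999 : ∀ i, i < 90999 → P i := stepQ 90998 Q90998 (allL N90998 (tt N75290 F391514) (tt N75286 (iv0 F391516)) (tt N82461 F391512) (tt N54709 F391513) (tt N59854 F391515) (tt N54707 (iv5 D193957)) (tt N100809 (iv6 F430577)) (tt N95635 (iv7 F408967)))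
theorem Q91000 : ∀ i, i < 91000 → P i := stepQ 90999 Q90999 (allL N90999 (tt N117331 D220590) (tt N117332 D220591) (tt N117329 (iv2 F504483)) (tt N54710 F391517) (tt N117330 (iv4 F504489)) (tt N117333 D220592) (tt N54707 (iv6 D193958)) (tt N117334 D220593))
theorem Q91001 : ∀ i, i < 91001 → P i := stepQ 91000 Q91000 (allL N91000 (tt N96798 (iv1 F413998)) (tt N96797 F413994) (tt N58379 F391518) (tt N54708 (iv3 D193959)) (tt N59137 F391521) (tt N58378 F391519) (tt N115904 (iv6 F497511)) (tt N55282 F391520))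
theorem Q91002 : ∀ i, i < 91002 → P i := stepQ 91001 Q91001 (allL N91001 (tt N90533 (iv1 F391529)) (tt N88046 (iv0 F391527)) (tt N58445 F391523) (tt N115904 (iv3 F497508)) (tt N54710 F391524) (tt N79640 F391525) (tt N54708 (iv6 D193960)) (tt N90532 F391526))
theorem Q91003 : ∀ i, i < 91003 → P i := stepQ 91002 Q91002 (allL N91002 (tt N54709 (iv1 D193961)) (tt N54712 F391530) (tt N63025 F391534) (tt N64558 (iv3 F391533)) (tt N58541 F391532) (tt N95563 (iv5 F408666)) (tt N91019 (iv6 F391602)) (tt N64556 F391531))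
theorem Q91004 : ∀ i, i < 91004 → P i := stepQ 91003 Q91003 (allL N91003 (tt N73936 F391536) (tt N104327 (iv0 F445271)) (tt N109413 (iv2 F466841)) (tt N100809 (iv3 F430576)) (tt N59852 F391535) (tt N117335 D220594) (tt N54709 (iv6 D193962)) (tt N113720 (iv7 F486826)))
theorem Q91005 : ∀ i, i < 91005 → P i := stepQ 91004 Q91004 (allL N91004 (tt N83700 F391539) (tt N84424 F391540) (tt N84423 F391537) (tt N117333 (iv3 F504503)) (tt N82831 F391538) (tt N54710 (iv5 D193964)) (tt N117335 (iv6 F504514)) (tt N84422 (iv7 F391541)))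
theorem Q91006 : ∀ i, i < 91006 → P i := stepQ 91005 Q91005 (allL N91005 (tt N112350 (iv1 F480701)) (tt N113829 (iv0 F487331)) (tt N116201 F498982) (tt N117334 (iv3 F504508)) (tt N90532 F391542) (tt N84422 F391543) (tt N91431 (iv6 F393103)) (tt N54710 (iv7 D193965)))
theorem Q91007 : ∀ i, i < 91007 → P i := stepQ 91006 Q91006 (allL N91006 (tt N62863 (iv1 F391548)) (tt N70981 F391547) (tt N54711 (iv2 D193966)) (tt N71974 F391544) (tt N96842 (iv4 F414219)) (tt N62920 F391545) (tt N71259 (iv6 F454017)) (tt N70986 F391546))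
theorem Q91008 : ∀ i, i < 91008 → P i := stepQ 91007 Q91007 (allL N91007 (tt N71253 (iv1 F391551)) (tt N71261 (iv0 F391550)) (tt N71259 F454015) (tt N54713 F391549) (tt N96843 (iv4 F414225)) (tt N117336 D220595) (tt N54711 (iv6 D193967)) (tt N71258 F391555))
theorem Q91009 : ∀ i, i < 91009 → P i := stepQ 91008 Q91008 (allL N91008 (tt N91431 (iv1 F393106)) (tt N54713 (iv0 D193968)) (tt N116417 (iv2 F499990)) (tt N70875 (iv3 F416304)) (tt N91457 (iv4 F393220)) (tt N112617 (iv5 F481859)) (tt N70873 F416303) (tt N116418 (iv7 F500000)))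
theorem Q91010 : ∀ i, i < 91010 → P i := stepQ 91009 Q91009 (allL N91009 (tt N90909 F452670) (tt N90907 F391552) (tt N114021 (iv2 F488232)) (tt N117336 (iv3 F504519)) (tt N114650 (iv4 F491200)) (tt N54713 (iv5 D193970)) (tt N113718 (iv6 F486808)) (tt N91144 (iv7 F433009)))
theorem Q91011 : ∀ i, i < 91011 → P i := stepQ 91010 Q91010 (allL N91010 (tt N116418 (iv1 F500002)) (tt N116417 (iv0 F499995)) (tt N91431 (iv2 F393102)) (tt N71258 (iv3 F391554)) (tt N83224 F391553) (tt N91144 F433008) (tt N116201 (iv6 F498981)) (tt N54713 (iv7 D193971)))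
theorem Q91012 : ∀ i, i < 91012 → P i := stepQ 91011 Q91011 (allL N91011 (tt N95448 (iv1 F408222)) (tt N95446 (iv0 F408214)) (tt N58579 F391556) (tt N112675 (iv3 F482122)) (tt N58576 F391557) (tt N54714 (iv5 D193972)) (tt N106713 (iv6 F455365)) (tt N91117 (iv7 F392004)))
theorem Q91013 : ∀ i, i < 91013 → P i := stepQ 91012 Q91012 (allL N91012 (tt N110601 (iv1 F472333)) (tt N71719 (iv0 F391562)) (tt N90782 F391558) (tt N54716 (iv3 D193973)) (tt N69993 F391559) (tt N59884 F391560) (tt N54720 F391561) (tt N95151 (iv7 F407239)))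
theorem Q91014 : ∀ i, i < 91014 → P i := stepQ 91013 Q91013 (allL N91013 (tt N54719 (iv1 D193974)) (tt N84346 F391563) (tt N64408 F391567) (tt N77044 (iv3 F391565)) (tt N75928 (iv4 F391566)) (tt N117337 D220596) (tt N96260 (iv6 F411783)) (tt N84345 F391564))
theorem Q91015 : ∀ i, i < 91015 → P i := stepQ 91014 Q91014 (allL N91014 (tt N84202 (iv1 F391575)) (tt N54723 (iv0 D193975)) (tt N84200 F432175) (tt N109403 F466790) (tt N114010 (iv4 F488182)) (tt N117172 (iv5 F503746)) (tt N117338 D220597) (tt N84201 F432173))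
theorem Q91016 : ∀ i, i < 91016 → P i := stepQ 91015 Q91015 (allL N91015 (tt N54723 (iv1 D193976)) (tt N84202 F391568) (tt N84201 (iv2 F432172)) (tt N105330 (iv3 F449740)) (tt N114011 (iv4 F488190)) (tt N90148 (iv5 F391569)) (tt N77290 (iv6 F391570)) (tt N84200 (iv7 F432174)))
theorem Q91017 : ∀ i, i < 91017 → P i := stepQ 91016 Q91016 (allL N91016 (tt N84201 (iv1 F391576)) (tt N84200 F391577) (tt N84202 F391571) (tt N85665 F391572) (tt N110596 (iv4 F472307)) (tt N55331 F391573) (tt N84148 F391574) (tt N54723 (iv7 D193977)))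
theorem Q91018 : ∀ i, i < 91018 → P i := stepQ 91017 Q91017 (allL N91017 (tt N100791 (iv1 F430491)) (tt N88663 F391581) (tt N74761 F391578) (tt N100792 (iv3 F430492)) (tt N54727 (iv4 D193978)) (tt N68513 F391580) (tt N74760 F391582) (tt N84353 F391579))
theorem Q91019 : ∀ i, i < 91019 → P i := stepQ 91018 Q91018 (allL N91018 (tt N75027 (iv1 F391588)) (tt N75026 F391596) (tt N62738 F391583) (tt N54728 F391584) (tt N74760 F391585) (tt N83938 F391586) (tt N54727 (iv6 D193979)) (tt N75028 (iv7 F391587)))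
theorem Q91020 : ∀ i, i < 91020 → P i := stepQ 91019 Q91019 (allL N91019 (tt N54728 (iv1 D193980)) (tt N62742 F391597) (tt N75042 F391601) (tt N64377 (iv3 F391600)) (tt N89883 (iv4 F391599)) (tt N105427 (iv5 F450214)) (tt N91002 F391602) (tt N64374 F391598))
theorem Q91021 : ∀ i, i < 91021 → P i := stepQ 91020 Q91020 (allL N91020 (tt N84358 (iv1 F391613)) (tt N54732 (iv0 D193981)) (tt N84357 F391606) (tt N69950 F391603) (tt N84362 F391604) (tt N117339 D220598) (tt N84350 (iv6 F391605)) (tt N69944 (iv7 F391607)))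
theorem Q91022 : ∀ i, i < 91022 → P i := stepQ 91021 Q91021 (allL N91021 (tt N54732 (iv1 D193982)) (tt N84358 F391608) (tt N69944 F391612) (tt N108432 (iv3 F462529)) (tt N102973 (iv4 F439516)) (tt N89818 (iv5 F391611)) (tt N69939 (iv6 F391610)) (tt N84357 F391609))
theorem Q91023 : ∀ i, i < 91023 → P i := stepQ 91022 Q91022 (allL N91022 (tt N69944 (iv1 F391619)) (tt N84357 F391620) (tt N84358 F391614) (tt N62744 F391615) (tt N87794 F391616) (tt N89057 F391617) (tt N62742 F391618) (tt N54732 (iv7 D193983)))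
theorem Q91024 : ∀ i, i < 91024 → P i := stepQ 91023 Q91023 (allL N91023 (tt N101099 F431670) (tt N88519 F391625) (tt N112314 (iv2 F480505)) (tt N54735 F391622) (tt N84713 F391624) (tt N54734 (iv5 D193984)) (tt N84712 (iv6 F391626)) (tt N84349 F391623))
theorem Q91025 : ∀ i, i < 91025 → P i := stepQ 91024 Q91024 (allL N91024 (tt N69950 F391633) (tt N69751 (iv0 F391632)) (tt N69948 F391627) (tt N84712 F391628) (tt N84714 F391629) (tt N89037 F391630) (tt N54735 (iv6 D193985)) (tt N69949 F391631))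
theorem Q91026 : ∀ i, i < 91026 → P i := stepQ 91025 Q91025 (allL N91025 (tt N78696 (iv1 F391637)) (tt N78695 F391638) (tt N65349 F391634) (tt N54737 (iv3 D193986)) (tt N65346 F391636) (tt N104321 (iv5 F445232)) (tt N114881 (iv6 F492319)) (tt N78697 F391635))
theorem Q91027 : ∀ i, i < 91027 → P i := stepQ 91026 Q91026 (allL N91026 (tt N84257 F391643) (tt N83867 (iv0 F391645)) (tt N84255 F391639) (tt N82215 F391640) (tt N54737 (iv4 D193987)) (tt N117340 D220599) (tt N87968 (iv6 F391644)) (tt N84256 F391641))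
theorem Q91028 : ∀ i, i < 91028 → P i := stepQ 91027 Q91027 (allL N91027 (tt N89422 F391648) (tt N100971 F431113) (tt N87969 F391646) (tt N114881 (iv3 F492316)) (tt N87968 F391647) (tt N113721 (iv5 F486831)) (tt N54737 (iv6 D193988)) (tt N88036 F391649))
theorem Q91029 : ∀ i, i < 91029 → P i := stepQ 91028 Q91028 (allL N91028 (tt N83867 F391654) (tt N84257 (iv0 F391655)) (tt N84256 F391650) (tt N63996 F391651) (tt N54738 (iv4 D193989)) (tt N116089 (iv5 F498405)) (tt N66652 F391652) (tt N84255 F391653))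
theorem Q91030 : ∀ i, i < 91030 → P i := stepQ 91029 Q91029 (allL N91029 (tt N85022 F391657) (tt N85018 F391658) (tt N105881 (iv2 F452159)) (tt N86018 (iv3 F391659)) (tt N54739 (iv4 D193990)) (tt N117341 D220600) (tt N70588 F391656) (tt N102955 (iv7 F439424)))
theorem Q91031 : ∀ i, i < 91031 → P i := stepQ 91030 Q91030 (allL N91030 (tt N105796 (iv1 F451759)) (tt N79062 (iv0 F391664)) (tt N54745 F391660) (tt N61732 F391661) (tt N70763 F391662) (tt N113675 (iv5 F486582)) (tt N54740 (iv6 D193991)) (tt N61727 F391663))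
theorem Q91032 : ∀ i, i < 91032 → P i := stepQ 91031 Q91031 (allL N91031 (tt N93204 F422106) (tt N84915 (iv0 F391667)) (tt N114944 F492687) (tt N54742 (iv3 D193992)) (tt N60494 F391665) (tt N114256 (iv5 F489257)) (tt N60493 F391666) (tt N114945 (iv7 F492690)))
theorem Q91033 : ∀ i, i < 91033 → P i := stepQ 91032 Q91032 (allL N91032 (tt N84396 F391672) (tt N83874 F391671) (tt N84395 F391668) (tt N114256 (iv3 F489254)) (tt N106900 (iv4 F456206)) (tt N54742 (iv5 D193993)) (tt N84392 F391669) (tt N84394 F391670))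
theorem Q91034 : ∀ i, i < 91034 → P i := stepQ 91033 Q91033 (allL N91033 (tt N60912 (iv1 F391678)) (tt N60911 F391676) (tt N60914 F391673) (tt N90407 F391677) (tt N54743 (iv4 D193994)) (tt N94157 (iv5 F403472)) (tt N91799 F394474) (tt N60909 F391674))
theorem Q91035 : ∀ i, i < 91035 → P i := stepQ 91034 Q91034 (allL N91034 (tt N70757 F391684) (tt N70763 F391685) (tt N70761 F391680) (tt N88896 F391681) (tt N91799 (iv4 F394471)) (tt N88811 F391682) (tt N54743 (iv6 D193995)) (tt N70760 F391683))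
theorem Q91036 : ∀ i, i < 91036 → P i := stepQ 91035 Q91035 (allL N91035 (tt N69195 (iv1 F391690)) (tt N69194 F391691) (tt N69197 F391686) (tt N54744 (iv3 D193996)) (tt N54752 F391687) (tt N113641 (iv5 F486452)) (tt N86915 (iv6 F391689)) (tt N69189 F391688))
theorem Q91037 : ∀ i, i < 91037 → P i := stepQ 91036 Q91036 (allL N91036 (tt N85923 F391705) (tt N105797 F451763) (tt N105798 (iv2 F451764)) (tt N113641 (iv3 F486451)) (tt N105422 (iv4 F450186)) (tt N54744 (iv5 D193997)) (tt N105421 (iv6 F450184)) (tt N105790 (iv7 F451730)))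
theorem Q91038 : ∀ i, i < 91038 → P i := stepQ 91037 Q91037 (allL N91037 (tt N70761 (iv1 F391711)) (tt N70760 (iv0 F391710)) (tt N70763 F391706) (tt N86915 F391707) (tt N54745 F391708) (tt N113639 (iv5 F486439)) (tt N54744 (iv6 D193998)) (tt N70757 F391709))
theorem Q91039 : ∀ i, i < 91039 → P i := stepQ 91038 Q91038 (allL N91038 (tt N61727 (iv1 F391716)) (tt N54745 (iv0 D193999)) (tt N105796 (iv2 F451753)) (tt N92748 (iv3 F398065)) (tt N104046 F443922) (tt N105776 (iv5 F451655)) (tt N105789 (iv6 F451724)) (tt N79062 F391718))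
theorem Q91040 : ∀ i, i < 91040 → P i := stepQ 91039 Q91039 (allL N91039 (tt N79062 (iv1 F391717)) (tt N105796 F451758) (tt N61727 F391712) (tt N54755 F391713) (tt N70757 F391714) (tt N109385 (iv5 F466696)) (tt N61725 F391715) (tt N54745 (iv7 D194000)))
theorem Q91041 : ∀ i, i < 91041 → P i := stepQ 91040 Q91040 (allL N91040 (tt N102617 F437917) (tt N117342 D220601) (tt N114949 (iv2 F492717)) (tt N104731 (iv3 F447027)) (tt N54748 (iv4 D194001)) (tt N117343 D220602) (tt N109128 (iv6 F465460)) (tt N86913 F391719))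
theorem Q91042 : ∀ i, i < 91042 → P i := stepQ 91041 Q91041 (allL N91041 (tt N97859 (iv1 F418550)) (tt N85002 (iv0 F391722)) (tt N92788 F398236) (tt N97799 (iv3 F418351)) (tt N104754 (iv4 F447111)) (tt N89880 F391720) (tt N86916 F391721) (tt N54749 (iv7 D194002)))
theorem Q91043 : ∀ i, i < 91043 → P i := stepQ 91042 Q91042 (allL N91042 (tt N67363 F391725) (tt N97746 F418134) (tt N97562 (iv2 F417386)) (tt N65123 F391723) (tt N54750 (iv4 D194003)) (tt N65122 F391724) (tt N68740 (iv6 F391729)) (tt N92109 F395760))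
theorem Q91044 : ∀ i, i < 91044 → P i := stepQ 91043 Q91043 (allL N91043 (tt N97825 (iv1 F418431)) (tt N92125 F417379) (tt N97275 (iv2 F416163)) (tt N54751 F391726) (tt N68740 F391728) (tt N60189 F391727) (tt N54750 (iv6 D194004)) (tt N92790 (iv7 F398242)))
theorem Q91045 : ∀ i, i < 91045 → P i := stepQ 91044 Q91044 (allL N91044 (tt N66613 (iv1 F391734)) (tt N66612 (iv0 F391732)) (tt N66614 F391730) (tt N54754 (iv3 D194005)) (tt N117344 D220603) (tt N92031 (iv5 F395441)) (tt N68321 (iv6 F391733)) (tt N66608 F391731))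
theorem Q91046 : ∀ i, i < 91046 → P i := stepQ 91045 Q91045 (allL N91045 (tt N69366 F391737) (tt N93123 F399587) (tt N93124 (iv2 F399583)) (tt N92031 (iv3 F395439)) (tt N86445 F391736) (tt N54754 (iv5 D194006)) (tt N109696 (iv6 F468158)) (tt N86628 F391735))
theorem Q91047 : ∀ i, i < 91047 → P i := stepQ 91046 Q91046 (allL N91046 (tt N69197 (iv1 F391744)) (tt N69189 (iv0 F391743)) (tt N69194 F391738) (tt N68321 F391739) (tt N67823 F391740) (tt N86202 F391742) (tt N54754 (iv6 D194007)) (tt N69195 F391741))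
theorem Q91048 : ∀ i, i < 91048 → P i := stepQ 91047 Q91047 (allL N91047 (tt N89151 F391750) (tt N79001 F391751) (tt N75626 F391745) (tt N83460 F391746) (tt N54757 (iv4 D194008)) (tt N77554 F391747) (tt N84861 F391748) (tt N89133 F391749))
theorem Q91049 : ∀ i, i < 91049 → P i := stepQ 91048 Q91048 (allL N91048 (tt N54760 (iv1 D194009)) (tt N89122 F391752) (tt N89992 F391755) (tt N100185 F427895) (tt N72529 (iv4 F391754)) (tt N116434 (iv5 F500087)) (tt N72528 F391756) (tt N89993 F391753))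
theorem Q91050 : ∀ i, i < 91050 → P i := stepQ 91049 Q91049 (allL N91049 (tt N116574 F500803) (tt N116582 F500842) (tt N116581 (iv2 F500836)) (tt N54761 (iv3 D194010)) (tt N116495 (iv4 F500435)) (tt N113652 (iv5 F486496)) (tt N95908 (iv6 F410200)) (tt N116476 (iv7 F500336)))
theorem Q91051 : ∀ i, i < 91051 → P i := stepQ 91050 Q91050 (allL N91050 (tt N99522 (iv1 F451770)) (tt N116482 F500372) (tt N54772 F391757) (tt N113652 (iv3 F486495)) (tt N105790 (iv4 F451731)) (tt N54761 (iv5 D194011)) (tt N109789 (iv6 F468618)) (tt N105422 (iv7 F450189)))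
theorem Q91052 : ∀ i, i < 91052 → P i := stepQ 91051 Q91051 (allL N91051 (tt N54762 (iv1 D194012)) (tt N54776 F391758) (tt N54774 F391761) (tt N71739 (iv3 F391760)) (tt N73871 F391762) (tt N105587 (iv5 F450855)) (tt N100943 F431053) (tt N54773 F391759))
theorem Q91053 : ∀ i, i < 91053 → P i := stepQ 91052 Q91052 (allL N91052 (tt N71911 F391769) (tt N85033 (iv0 F391768)) (tt N54775 F391764) (tt N68349 F391765) (tt N99106 (iv4 F423359)) (tt N54762 (iv5 D194013)) (tt N54763 F391766) (tt N70994 F391767))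
theorem Q91054 : ∀ i, i < 91054 → P i := stepQ 91053 Q91053 (allL N91053 (tt N104856 F447652) (tt N117345 D220604) (tt N54778 F391770) (tt N70610 F391771) (tt N54763 (iv4 D194014)) (tt N93992 (iv5 F402739)) (tt N99106 (iv6 F423360)) (tt N102424 F437182))
theorem Q91055 : ∀ i, i < 91055 → P i := stepQ 91054 Q91054 (allL N91054 (tt N54767 (iv1 F391777)) (tt N54764 (iv0 D194015)) (tt N107001 (iv2 F456598)) (tt N73879 (iv3 F391778)) (tt N71854 F391776) (tt N85925 F391775) (tt N99913 (iv6 F426792)) (tt N73873 (iv7 F391779)))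
theorem Q91056 : ∀ i, i < 91056 → P i := stepQ 91055 Q91055 (allL N91055 (tt N54764 (iv1 D194016)) (tt N54767 F391780) (tt N73873 (iv2 F391782)) (tt N99365 (iv3 F424304)) (tt N71767 (iv4 F391783)) (tt N85924 (iv5 F391781)) (tt N71765 F391784) (tt N107001 (iv7 F456600)))
theorem Q91057 : ∀ i, i < 91057 → P i := stepQ 91056 Q91056 (allL N91056 (tt N78997 F391789) (tt N85019 (iv0 F391790)) (tt N84404 F391785) (tt N79011 F391786) (tt N54765 (iv4 D194017)) (tt N91794 (iv5 F394457)) (tt N84399 F391787) (tt N84403 F391788))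
theorem Q91058 : ∀ i, i < 91058 → P i := stepQ 91057 Q91057 (allL N91057 (tt N110528 (iv1 F472008)) (tt N54766 (iv0 D194018)) (tt N110527 F471998) (tt N62571 (iv3 F391792)) (tt N64551 (iv4 F391793)) (tt N62570 F391791) (tt N101115 (iv6 F431753)) (tt N73992 (iv7 F391794)))
theorem Q91059 : ∀ i, i < 91059 → P i := stepQ 91058 Q91058 (allL N91058 (tt N73992 (iv1 F391797)) (tt N110527 F472001) (tt N110528 (iv2 F472002)) (tt N90488 F391795) (tt N83277 F391796) (tt N107125 (iv5 F457095)) (tt N116479 (iv6 F500354)) (tt N54766 (iv7 D194019)))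
theorem Q91060 : ∀ i, i < 91060 → P i := stepQ 91059 Q91059 (allL N91059 (tt N109136 (iv1 F465510)) (tt N109773 F468549) (tt N109774 (iv2 F468550)) (tt N90456 F391798) (tt N100232 (iv4 F428087)) (tt N54767 (iv5 D194020)) (tt N78765 (iv6 F391800)) (tt N90454 F391799))
theorem Q91061 : ∀ i, i < 91061 → P i := stepQ 91060 Q91060 (allL N91060 (tt N115113 F493548) (tt N112710 (iv0 F482301)) (tt N115120 (iv2 F493584)) (tt N86250 F391801) (tt N54768 F391802) (tt N113381 F485282) (tt N54767 (iv6 D194021)) (tt N116413 (iv7 F499975)))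
theorem Q91062 : ∀ i, i < 91062 → P i := stepQ 91061 Q91061 (allL N91061 (tt N54768 (iv1 D194023)) (tt N116479 F500355) (tt N116478 (iv2 F500348)) (tt N70871 F460542) (tt N107175 F460543) (tt N107970 F460544) (tt N70869 F460545) (tt N116477 F500341))
theorem Q91063 : ∀ i, i < 91063 → P i := stepQ 91062 Q91062 (allL N91062 (tt N116478 (iv1 F500343)) (tt N116477 (iv0 F500342)) (tt N116479 (iv2 F500350)) (tt N71236 F391803) (tt N116413 (iv4 F499973)) (tt N88880 F391804) (tt N110528 (iv6 F472006)) (tt N54768 (iv7 D194024)))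
theorem Q91064 : ∀ i, i < 91064 → P i := stepQ 91063 Q91063 (allL N91063 (tt N95979 (iv1 F410504)) (tt N95971 (iv0 F410480)) (tt N93711 (iv2 F401634)) (tt N54769 (iv3 D194025)) (tt N93710 F401633) (tt N94155 (iv5 F403464)) (tt N76072 F391805) (tt N95977 (iv7 F410498)))
theorem Q91065 : ∀ i, i < 91065 → P i := stepQ 91064 Q91064 (allL N91064 (tt N94159 (iv1 F403474)) (tt N94158 F403479) (tt N94160 (iv2 F403475)) (tt N95953 (iv3 F410407)) (tt N60913 F391806) (tt N54770 (iv5 D194026)) (tt N66578 (iv6 F391807)) (tt N94149 (iv7 F403441)))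
theorem Q91066 : ∀ i, i < 91066 → P i := stepQ 91065 Q91065 (allL N91065 (tt N116481 (iv1 F500366)) (tt N54771 (iv0 D194027)) (tt N116480 (iv2 F500361)) (tt N80396 F391808) (tt N96871 (iv4 F414367)) (tt N117346 D220605) (tt N80918 (iv6 F391809)) (tt N99512 (iv7 F424937)))
theorem Q91067 : ∀ i, i < 91067 → P i := stepQ 91066 Q91066 (allL N91066 (tt N54771 (iv1 D194028)) (tt N116481 F500367) (tt N99512 F466353) (tt N109315 (iv3 F466350)) (tt N90674 (iv4 F391810)) (tt N117347 D220606) (tt N109314 F466346) (tt N116480 (iv7 F500357)))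
theorem Q91068 : ∀ i, i < 91068 → P i := stepQ 91067 Q91067 (allL N91067 (tt N116480 F500362) (tt N99512 F424939) (tt N54771 (iv2 D194029)) (tt N116581 F500834) (tt N54782 F391812) (tt N116309 (iv5 F499486)) (tt N99506 (iv6 F424909)) (tt N116481 (iv7 F500365)))
theorem Q91069 : ∀ i, i < 91069 → P i := stepQ 91068 Q91068 (allL N91068 (tt N116311 (iv1 F499502)) (tt N82891 (iv0 F421258)) (tt N116309 F499487) (tt N54772 F391813) (tt N105807 (iv4 F451818)) (tt N54771 (iv5 D194030)) (tt N117348 D220607) (tt N116310 (iv7 F499492)))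
theorem Q91070 : ∀ i, i < 91070 → P i := stepQ 91069 Q91069 (allL N91069 (tt N105422 (iv1 F450190)) (tt N54772 (iv0 D194031)) (tt N99522 (iv2 F424973)) (tt N105629 F453837) (tt N117341 (iv4 F504551)) (tt N114033 (iv5 F488293)) (tt N106272 (iv6 F453836)) (tt N116482 (iv7 F500373)))
theorem Q91071 : ∀ i, i < 91071 → P i := stepQ 91070 Q91070 (allL N91070 (tt N54772 (iv1 D194032)) (tt N105422 (iv0 F450188)) (tt N116482 F500371) (tt N72172 F391816) (tt N116706 (iv4 F501412)) (tt N72171 F391814) (tt N84757 (iv6 F391815)) (tt N99522 (iv7 F424972)))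
theorem Q91072 : ∀ i, i < 91072 → P i := stepQ 91071 Q91071 (allL N91071 (tt N85199 F451787) (tt N95235 (iv0 F407535)) (tt N109789 F468619) (tt N117348 (iv3 F504595)) (tt N105792 F451741) (tt N107953 (iv5 F460453)) (tt N54772 (iv6 D194033)) (tt N105419 (iv7 F450176)))
theorem Q91073 : ∀ i, i < 91073 → P i := stepQ 91072 Q91072 (allL N91072 (tt N71762 F391820) (tt N71765 (iv0 F391821)) (tt N71896 F391817) (tt N58997 F391818) (tt N54773 (iv4 D194034)) (tt N114794 (iv5 F491903)) (tt N96208 (iv6 F411499)) (tt N73871 F391819))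
theorem Q91074 : ∀ i, i < 91074 → P i := stepQ 91073 Q91073 (allL N91073 (tt N71000 F391824) (tt N92154 (iv0 F395993)) (tt N71897 F391822) (tt N60923 F391823) (tt N109033 (iv4 F465015)) (tt N54773 (iv5 D194035)) (tt N85423 (iv6 F391825)) (tt N105587 (iv7 F450856)))
theorem Q91075 : ∀ i, i < 91075 → P i := stepQ 91074 Q91074 (allL N91074 (tt N70869 F391829) (tt N107173 (iv0 F457331)) (tt N71227 F391826) (tt N71283 F391827) (tt N96208 (iv4 F411498)) (tt N85424 F391828) (tt N54773 (iv6 D194036)) (tt N117349 D220608))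
theorem Q91076 : ∀ i, i < 91076 → P i := stepQ 91075 Q91075 (allL N91075 (tt N71765 F391832) (tt N71762 (iv0 F391833)) (tt N73871 F391830) (tt N93263 (iv3 F400185)) (tt N54774 (iv4 D194037)) (tt N112871 (iv5 F483068)) (tt N106752 (iv6 F455541)) (tt N71896 F391831))
theorem Q91077 : ∀ i, i < 91077 → P i := stepQ 91076 Q91076 (allL N91076 (tt N92154 (iv1 F395996)) (tt N71000 (iv0 F406302)) (tt N105587 (iv2 F450852)) (tt N70989 F391834) (tt N109091 (iv4 F465291)) (tt N54774 (iv5 D194038)) (tt N82974 F391835) (tt N71897 F391836))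
theorem Q91078 : ∀ i, i < 91078 → P i := stepQ 91077 Q91077 (allL N91077 (tt N70994 F391841) (tt N54775 (iv0 D194039)) (tt N71911 (iv2 F391838)) (tt N72000 F391837) (tt N74884 (iv4 F391839)) (tt N106432 (iv5 F454408)) (tt N94478 F404647) (tt N85033 (iv7 F391840)))
theorem Q91079 : ∀ i, i < 91079 → P i := stepQ 91078 Q91078 (allL N91078 (tt N54775 (iv1 D194040)) (tt N70994 F391842) (tt N85033 F391845) (tt N70990 (iv3 F391844)) (tt N114340 (iv4 F489699)) (tt N102671 (iv5 F438149)) (tt N85045 F391846) (tt N71911 F391843))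
theorem Q91080 : ∀ i, i < 91080 → P i := stepQ 91079 Q91079 (allL N91079 (tt N106856 (iv1 F456018)) (tt N71446 F391848) (tt N99106 F423362) (tt N117350 D220609) (tt N54775 (iv4 D194041)) (tt N85201 (iv5 F452072)) (tt N54778 F391847) (tt N106857 (iv7 F456025)))
theorem Q91081 : ∀ i, i < 91081 → P i := stepQ 91080 Q91080 (allL N91080 (tt N85033 (iv1 F391852)) (tt N71911 F391853) (tt N70994 F391849) (tt N54795 F391850) (tt N106857 (iv4 F456020)) (tt N54776 F391851) (tt N73864 (iv6 F391854)) (tt N54775 (iv7 D194042)))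
theorem Q91082 : ∀ i, i < 91082 → P i := stepQ 91081 Q91081 (allL N91081 (tt N105896 F452239) (tt N105900 F452259) (tt N83968 F391856) (tt N105766 F451606) (tt N54777 (iv4 D194043)) (tt N104209 F444705) (tt N117351 D220610) (tt N83966 F391857))
theorem Q91083 : ∀ i, i < 91083 → P i := stepQ 91082 Q91082 (allL N91082 (tt N113459 F485593) (tt N88731 (iv0 F418875)) (tt N83969 F391858) (tt N98574 F421379) (tt N117351 (iv4 F504615)) (tt N110368 (iv5 F471266)) (tt N54777 (iv6 D194044)) (tt N114885 (iv7 F492345)))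
theorem Q91084 : ∀ i, i < 91084 → P i := stepQ 91083 Q91083 (allL N91083 (tt N102424 F437180) (tt N54778 (iv0 D194045)) (tt N104856 (iv2 F447653)) (tt N117352 D220611) (tt N106895 (iv4 F456170)) (tt N110977 (iv5 F474043)) (tt N55814 F437181) (tt N117345 (iv7 F504575)))
theorem Q91085 : ∀ i, i < 91085 → P i := stepQ 91084 Q91084 (allL N91084 (tt N54778 (iv1 D194046)) (tt N102424 F437183) (tt N117345 (iv2 F504579)) (tt N104852 (iv3 F447627)) (tt N84082 (iv4 F391859)) (tt N113589 (iv5 F486177)) (tt N97050 (iv6 F447632)) (tt N104856 (iv7 F447650)))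
theorem Q91086 : ∀ i, i < 91086 → P i := stepQ 91085 Q91085 (allL N91085 (tt N55827 F391861) (tt N61576 F391863) (tt N61575 F391864) (tt N54778 (iv3 D194047)) (tt N54796 F391860) (tt N56600 (iv5 F391862)) (tt N117350 (iv6 F504609)) (tt N60839 F391865))
theorem Q91087 : ∀ i, i < 91087 → P i := stepQ 91086 Q91086 (allL N91086 (tt N93993 F410114) (tt N76408 F391868) (tt N93992 F402740) (tt N56600 F391867) (tt N95891 (iv4 F410111)) (tt N54778 (iv5 D194048)) (tt N95890 F410109) (tt N92961 (iv7 F398932)))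
theorem Q91088 : ∀ i, i < 91088 → P i := stepQ 91087 Q91087 (allL N91087 (tt N117345 (iv1 F504574)) (tt N104856 (iv0 F447651)) (tt N102424 (iv2 F437176)) (tt N60839 F391869) (tt N54779 F391870) (tt N92961 (iv5 F398931)) (tt N60837 (iv6 F391871)) (tt N54778 (iv7 D194049)))
theorem Q91089 : ∀ i, i < 91089 → P i := stepQ 91088 Q91088 (allL N91088 (tt N95902 (iv1 F410163)) (tt N87048 (iv0 F391877)) (tt N58940 F391872) (tt N54797 F391873) (tt N60837 F391874) (tt N69982 F391875) (tt N54779 (iv6 D194050)) (tt N73864 F391876))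
theorem Q91090 : ∀ i, i < 91090 → P i := stepQ 91089 Q91089 (allL N91089 (tt N84361 (iv1 F391883)) (tt N83887 (iv0 F391882)) (tt N84360 F391878) (tt N93724 (iv3 F401675)) (tt N90682 (iv4 F391884)) (tt N54780 (iv5 D194051)) (tt N89903 F391879) (tt N84359 F391880))
theorem Q91091 : ∀ i, i < 91091 → P i := stepQ 91090 Q91090 (allL N91090 (tt N69695 F391885) (tt N99525 F424983) (tt N99504 F424900) (tt N99532 (iv3 F425006)) (tt N54781 (iv4 D194052)) (tt N109220 (iv5 F465832)) (tt N96223 F415577) (tt N99526 (iv7 F424989)))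
theorem Q91092 : ∀ i, i < 91092 → P i := stepQ 91091 Q91091 (allL N91091 (tt N83887 (iv1 F391891)) (tt N84361 F391892) (tt N84359 F391886) (tt N87473 F391887) (tt N84216 (iv4 F391890)) (tt N54781 (iv5 D194053)) (tt N84215 F391889) (tt N84360 F391888))
theorem Q91093 : ∀ i, i < 91093 → P i := stepQ 91092 Q91092 (allL N91092 (tt N116804 F501929) (tt N60300 (iv0 F391893)) (tt N97126 F415573) (tt N97342 (iv3 F416431)) (tt N96223 (iv4 F415575)) (tt N111882 (iv5 F478476)) (tt N54781 (iv6 D194054)) (tt N111109 (iv7 F474714)))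
theorem Q91094 : ∀ i, i < 91094 → P i := stepQ 91093 Q91093 (allL N91093 (tt N62646 (iv1 F393168)) (tt N74141 (iv0 F391897)) (tt N74143 F391894) (tt N54784 F391895) (tt N114547 (iv4 F490712)) (tt N54783 (iv5 D194055)) (tt N113932 (iv6 F487850)) (tt N74144 F391896))
theorem Q91095 : ∀ i, i < 91095 → P i := stepQ 91094 Q91094 (allL N91094 (tt N106885 (iv1 F456130)) (tt N54784 (iv0 D194056)) (tt N71628 (iv2 F391899)) (tt N61595 F391900) (tt N106873 (iv4 F456088)) (tt N70905 F391898) (tt N114850 (iv6 F492175)) (tt N71624 F391901))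
theorem Q91096 : ∀ i, i < 91096 → P i := stepQ 91095 Q91095 (allL N91095 (tt N106698 (iv1 F455331)) (tt N106694 (iv0 F455311)) (tt N116509 (iv2 F500525)) (tt N117353 D220612) (tt N54784 (iv4 D194057)) (tt N117354 D220613) (tt N113933 (iv6 F487855)) (tt N117355 D220614))
theorem Q91097 : ∀ i, i < 91097 → P i := stepQ 91096 Q91096 (allL N91096 (tt N71624 (iv1 F391904)) (tt N71628 F391905) (tt N106885 (iv2 F456126)) (tt N74144 F391902) (tt N117355 (iv4 F504633)) (tt N54785 F391903) (tt N96944 (iv6 F414714)) (tt N54784 (iv7 D194058)))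
theorem Q91098 : ∀ i, i < 91098 → P i := stepQ 91097 Q91097 (allL N91097 (tt N58447 F391908) (tt N96840 F414210) (tt N93740 (iv2 F401728)) (tt N54786 (iv3 D194059)) (tt N55990 F391906) (tt N108548 (iv5 F463038)) (tt N97137 (iv6 F415628)) (tt N71817 F391907))
theorem Q91099 : ∀ i, i < 91099 → P i := stepQ 91098 Q91098 (allL N91098 (tt N67142 F391912) (tt N71585 (iv0 F391913)) (tt N71587 F391909) (tt N108548 F463039) (tt N117356 D220615) (tt N54786 (iv5 D194060)) (tt N86792 F391910) (tt N71588 F391911))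
theorem Q91100 : ∀ i, i < 91100 → P i := stepQ 91099 Q91099 (allL N91099 (tt N70910 F391917) (tt N71633 F391916) (tt N71640 F391914) (tt N115833 (iv3 F497138)) (tt N54787 (iv4 D194061)) (tt N117357 D220616) (tt N112819 F482776) (tt N71641 F391915))
theorem Q91101 : ∀ i, i < 91101 → P i := stepQ 91100 Q91100 (allL N91100 (tt N54788 (iv1 D194063)) (tt N89750 F391918) (tt N70873 (iv2 F413525)) (tt N107173 (iv3 F457328)) (tt N60302 (iv4 F391919)) (tt N89811 F391920) (tt N116417 (iv6 F499992)) (tt N116489 (iv7 F500412)))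
theorem Q91102 : ∀ i, i < 91102 → P i := stepQ 91101 Q91101 (allL N91101 (tt N84388 F391924) (tt N85376 F391925) (tt N85375 F391921) (tt N71247 F391922) (tt N114506 (iv4 F490507)) (tt N54788 (iv5 D194064)) (tt N89732 F391923) (tt N85374 F391926))
theorem Q91103 : ∀ i, i < 91103 → P i := stepQ 91102 Q91102 (allL N91102 (tt N70873 (iv1 F391934)) (tt N116489 (iv0 F500413)) (tt N89750 F391928) (tt N70851 (iv3 F391936)) (tt N56942 F391930) (tt N85374 F391931) (tt N89047 F391932) (tt N54788 (iv7 D194065)))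
theorem Q91104 : ∀ i, i < 91104 → P i := stepQ 91103 Q91103 (allL N91103 (tt N72059 (iv1 F391945)) (tt N113745 (iv0 F486926)) (tt N71932 F391941) (tt N54791 F391942) (tt N93741 (iv4 F401735)) (tt N89744 F391943) (tt N54789 (iv6 D194066)) (tt N89743 (iv7 F391944)))
theorem Q91105 : ∀ i, i < 91105 → P i := stepQ 91104 Q91104 (allL N91104 (tt N71585 F391949) (tt N67142 (iv0 F391950)) (tt N71588 F391946) (tt N87161 F391947) (tt N117358 D220617) (tt N54790 (iv5 D194067)) (tt N104880 (iv6 F447778)) (tt N71587 F391948))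
theorem Q91106 : ∀ i, i < 91106 → P i := stepQ 91105 Q91105 (allL N91105 (tt N70958 F391952) (tt N71841 F391953) (tt N71846 F391954) (tt N117359 D220618) (tt N54792 (iv4 D194068)) (tt N106745 (iv5 F455515)) (tt N103290 (iv6 F441007)) (tt N71847 F391951))
theorem Q91107 : ∀ i, i < 91107 → P i := stepQ 91106 Q91106 (allL N91106 (tt N71973 F391964) (tt N71968 (iv0 F391963)) (tt N71949 F391957) (tt N54793 (iv3 D194069)) (tt N117360 D220619) (tt N96056 (iv5 F410839)) (tt N114377 (iv6 F489871)) (tt N71970 F391958))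
theorem Q91108 : ∀ i, i < 91108 → P i := stepQ 91107 Q91107 (allL N91107 (tt N71841 F391961) (tt N70958 F391962) (tt N71847 F391959) (tt N117361 D220620) (tt N54793 (iv4 D194070)) (tt N106744 (iv5 F455511)) (tt N117362 D220621) (tt N71846 F391960))
theorem Q91109 : ∀ i, i < 91109 → P i := stepQ 91108 Q91108 (allL N91108 (tt N88647 F452681) (tt N88730 F452683) (tt N116510 (iv2 F500528)) (tt N114377 F489870) (tt N117362 (iv4 F504672)) (tt N112989 (iv5 F483828)) (tt N54793 (iv6 D194071)) (tt N103289 (iv7 F441003)))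
theorem Q91110 : ∀ i, i < 91110 → P i := stepQ 91109 Q91109 (allL N91109 (tt N68661 F391968) (tt N68660 F391969) (tt N68663 F391965) (tt N54794 (iv3 D194072)) (tt N117350 (iv4 F504607)) (tt N97741 (iv5 F418124)) (tt N54796 F391966) (tt N68658 (iv7 F391967)))
theorem Q91111 : ∀ i, i < 91111 → P i := stepQ 91110 Q91110 (allL N91110 (tt N97448 F416944) (tt N97718 (iv0 F418051)) (tt N115747 (iv2 F496642)) (tt N97741 F418125) (tt N117363 D220622) (tt N54794 (iv5 D194073)) (tt N115747 (iv6 F496644)) (tt N117364 D220623))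
theorem Q91112 : ∀ i, i < 91112 → P i := stepQ 91111 Q91111 (allL N91111 (tt N71625 (iv1 F391975)) (tt N71630 F391976) (tt N56499 F391971) (tt N68658 F391972) (tt N54795 F391973) (tt N117364 (iv5 F504679)) (tt N56497 F391974) (tt N54794 (iv7 D194074)))
theorem Q91113 : ∀ i, i < 91113 → P i := stepQ 91112 Q91112 (allL N91112 (tt N68647 (iv1 F391983)) (tt N68646 F391982) (tt N54796 (iv2 D194075)) (tt N56492 F391977) (tt N61575 F391978) (tt N56492 F391979) (tt N68663 F391980) (tt N56491 F391981))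
theorem Q91114 : ∀ i, i < 91114 → P i := stepQ 91113 Q91113 (allL N91113 (tt N87255 F391990) (tt N87253 F391989) (tt N84470 F391986) (tt N54800 F391987) (tt N108449 (iv4 F462626)) (tt N54798 (iv5 D194076)) (tt N117365 D220624) (tt N84397 F391988))
theorem Q91115 : ∀ i, i < 91115 → P i := stepQ 91114 Q91114 (allL N91114 (tt N100003 (iv1 F427143)) (tt N108432 F462533) (tt N75666 F391991) (tt N117365 (iv3 F504683)) (tt N63053 F391992) (tt N89653 F391993) (tt N54800 (iv6 D194077)) (tt N72806 F391994))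
theorem Q91116 : ∀ i, i < 91116 → P i := stepQ 91115 Q91115 (allL N91115 (tt N59285 F391999) (tt N96185 (iv0 F411389)) (tt N82095 F391995) (tt N75050 F391996) (tt N96756 (iv4 F413792)) (tt N59289 F391998) (tt N54802 (iv6 D194078)) (tt N75153 F391997))
theorem Q91117 : ∀ i, i < 91117 → P i := stepQ 91116 Q91116 (allL N91116 (tt N106993 (iv1 F456560)) (tt N106991 (iv0 F456549)) (tt N99836 (iv2 F426453)) (tt N54803 (iv3 D194079)) (tt N58511 F392000) (tt N117366 D220625) (tt N115554 (iv6 F495759)) (tt N82096 F392001))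
theorem Q91118 : ∀ i, i < 91118 → P i := stepQ 91117 Q91117 (allL N91117 (tt N73902 F392005) (tt N95563 F408669) (tt N59912 F392002) (tt N117366 (iv3 F504688)) (tt N59911 F392003) (tt N54803 (iv5 D194080)) (tt N84386 (iv6 F392006)) (tt N91011 F392004))
theorem Q91119 : ∀ i, i < 91119 → P i := stepQ 91118 Q91118 (allL N91118 (tt N70427 F392010) (tt N70429 F392011) (tt N88603 F392007) (tt N83476 F392008) (tt N113401 (iv4 F485340)) (tt N68263 F392009) (tt N54804 (iv6 D194081)) (tt N104859 (iv7 F447662)))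
theorem Q91120 : ∀ i, i < 91120 → P i := stepQ 91119 Q91119 (allL N91119 (tt N88385 (iv1 F392015)) (tt N88389 F392016) (tt N83477 F392012) (tt N54805 (iv3 D194082)) (tt N107029 (iv4 F456703)) (tt N84351 F392013) (tt N112576 (iv6 F481697)) (tt N88601 F392014))
theorem Q91121 : ∀ i, i < 91121 → P i := stepQ 91120 Q91120 (allL N91120 (tt N117367 D220626) (tt N117368 D220627) (tt N117369 D220628) (tt N54806 (iv3 D194083)) (tt N54814 F392017) (tt N117370 D220629) (tt N110692 F472776) (tt N109973 F469435))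
theorem Q91122 : ∀ i, i < 91122 → P i := stepQ 91121 Q91121 (allL N91121 (tt N117250 (iv1 F504120)) (tt N109948 (iv0 F469345)) (tt N112544 (iv2 F481595)) (tt N117370 (iv3 F504705)) (tt N98823 (iv4 F422480)) (tt N54806 (iv5 D194084)) (tt N117371 D220630) (tt N112549 (iv7 F481612)))
theorem Q91123 : ∀ i, i < 91123 → P i := stepQ 91122 Q91122 (allL N91122 (tt N113383 F485288) (tt N113386 (iv0 F485301)) (tt N112545 (iv2 F481597)) (tt N110692 F472775) (tt N54807 F392018) (tt N110690 (iv5 F472777)) (tt N54806 (iv6 D194085)) (tt N117372 D220631))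
theorem Q91124 : ∀ i, i < 91124 → P i := stepQ 91123 Q91123 (allL N91123 (tt N112548 (iv1 F481611)) (tt N54807 (iv0 D194086)) (tt N112546 F481601) (tt N83480 (iv3 F482594)) (tt N117373 D220632) (tt N100866 F430821) (tt N100972 (iv6 F431116)) (tt N112547 (iv7 F481604)))
theorem Q91125 : ∀ i, i < 91125 → P i := stepQ 91124 Q91124 (allL N91124 (tt N54807 (iv1 D194087)) (tt N112548 F481610) (tt N112547 F481606) (tt N117374 D220633) (tt N117375 D220634) (tt N100865 (iv5 F430820)) (tt N117376 D220635) (tt N112546 F481602))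
theorem Q91126 : ∀ i, i < 91126 → P i := stepQ 91125 Q91125 (allL N91125 (tt N112591 F481743) (tt N110872 (iv0 F473548)) (tt N88593 F392019) (tt N54818 F392020) (tt N117377 D220636) (tt N54807 (iv5 D194088)) (tt N54808 F392021) (tt N117378 D220637))
theorem Q91127 : ∀ i, i < 91127 → P i := stepQ 91126 Q91126 (allL N91126 (tt N112547 (iv1 F481603)) (tt N112546 F481607) (tt N112548 (iv2 F481608)) (tt N54819 F392022) (tt N117372 (iv4 F504712)) (tt N117378 (iv5 F504740)) (tt N112551 (iv6 F481622)) (tt N54807 (iv7 D194089)))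
theorem Q91128 : ∀ i, i < 91128 → P i := stepQ 91127 Q91127 (allL N91127 (tt N88443 F392025) (tt N112951 (iv0 F483355)) (tt N88592 F392023) (tt N105191 (iv3 F449157)) (tt N54808 (iv4 D194090)) (tt N117379 D220638) (tt N117377 (iv6 F504737)) (tt N84979 F392024))
theorem Q91129 : ∀ i, i < 91129 → P i := stepQ 91128 Q91128 (allL N91128 (tt N107017 F456654) (tt N117380 D220639) (tt N116521 (iv2 F500592)) (tt N54811 F392026) (tt N109998 (iv4 F469503)) (tt N84000 F392027) (tt N54809 (iv6 D194091)) (tt N109889 (iv7 F469087)))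
theorem Q91130 : ∀ i, i < 91130 → P i := stepQ 91129 Q91129 (allL N91129 (tt N77665 F392030) (tt N101162 (iv0 F432589)) (tt N101350 (iv2 F432740)) (tt N54810 (iv3 D194092)) (tt N113349 (iv4 F485139)) (tt N85808 F392028) (tt N117381 D220640) (tt N90816 F392029))
theorem Q91131 : ∀ i, i < 91131 → P i := stepQ 91130 Q91130 (allL N91130 (tt N90812 (iv1 F485300)) (tt N89893 (iv0 F392033)) (tt N88734 F392031) (tt N117381 (iv3 F504754)) (tt N54811 F392032) (tt N116172 (iv5 F498860)) (tt N54810 (iv6 D194093)) (tt N90810 (iv7 F392034)))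
theorem Q91132 : ∀ i, i < 91132 → P i := stepQ 91131 Q91131 (allL N91131 (tt N88735 (iv1 F392044)) (tt N54811 (iv0 D194094)) (tt N88732 (iv2 F392041)) (tt N117382 D220641) (tt N112985 F483682) (tt N105251 F449396) (tt N116475 (iv6 F500330)) (tt N88733 (iv7 F392042)))
theorem Q91133 : ∀ i, i < 91133 → P i := stepQ 91132 Q91132 (allL N91132 (tt N54811 (iv1 D194095)) (tt N88735 F392036) (tt N88733 F392043) (tt N70429 F392038) (tt N112990 (iv4 F483439)) (tt N70428 (iv5 F392037)) (tt N113470 (iv6 F485632)) (tt N88732 F392039))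
theorem Q91134 : ∀ i, i < 91134 → P i := stepQ 91133 Q91133 (allL N91133 (tt N88733 (iv1 F392048)) (tt N88732 F392049) (tt N88735 F392045) (tt N109889 (iv3 F469085)) (tt N90810 F392046) (tt N84007 F392047) (tt N106585 (iv6 F454951)) (tt N54811 (iv7 D194096)))
theorem Q91135 : ∀ i, i < 91135 → P i := stepQ 91134 Q91134 (allL N91134 (tt N114258 (iv1 F489268)) (tt N54814 (iv0 D194097)) (tt N114257 F489262) (tt N91141 (iv3 F486820)) (tt N117383 D220642) (tt N113719 F486819) (tt N91139 F486822) (tt N114018 (iv7 F488218)))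
theorem Q91136 : ∀ i, i < 91136 → P i := stepQ 91135 Q91135 (allL N91135 (tt N54814 (iv1 D194098)) (tt N114258 F489269) (tt N114018 (iv2 F488216)) (tt N117384 D220643) (tt N117385 D220644) (tt N114017 F488215) (tt N117386 D220645) (tt N114257 (iv7 F489260)))
theorem Q91137 : ∀ i, i < 91137 → P i := stepQ 91136 Q91136 (allL N91136 (tt N114257 F489263) (tt N114018 (iv0 F488219)) (tt N54814 (iv2 D194099)) (tt N100756 (iv3 F430311)) (tt N117369 (iv4 F504702)) (tt N85826 F392051) (tt N88607 (iv6 F392052)) (tt N114258 (iv7 F489267)))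
theorem Q91138 : ∀ i, i < 91138 → P i := stepQ 91137 Q91137 (allL N91137 (tt N116383 (iv1 F499814)) (tt N109780 (iv0 F468581)) (tt N88607 F392053) (tt N54815 F392054) (tt N110692 (iv4 F472774)) (tt N77202 F392055) (tt N54814 (iv6 D194100)) (tt N88609 (iv7 F392056)))
theorem Q91139 : ∀ i, i < 91139 → P i := stepQ 91138 Q91138 (allL N91138 (tt N113548 (iv1 F485982)) (tt N113378 (iv0 F485264)) (tt N77421 F392057) (tt N88609 F392058) (tt N54819 F392059) (tt N77180 F392060) (tt N114260 (iv6 F489280)) (tt N54815 (iv7 D194101)))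
theorem Q91140 : ∀ i, i < 91140 → P i := stepQ 91139 Q91139 (allL N91139 (tt N116526 (iv1 F500613)) (tt N116517 (iv0 F500573)) (tt N116524 F500605) (tt N54816 (iv3 D194102)) (tt N113353 (iv4 F485151)) (tt N117387 D220646) (tt N91134 (iv6 F486822)) (tt N116117 (iv7 F498556)))
theorem Q91141 : ∀ i, i < 91141 → P i := stepQ 91140 Q91140 (allL N91140 (tt N89408 F421393) (tt N116171 F498857) (tt N116116 (iv2 F498550)) (tt N117387 (iv3 F504778)) (tt N117388 D220647) (tt N54816 (iv5 D194103)) (tt N117389 D220648) (tt N114050 F488356))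
theorem Q91142 : ∀ i, i < 91142 → P i := stepQ 91141 Q91141 (allL N91141 (tt N112345 (iv1 F486813)) (tt N100970 (iv0 F431111)) (tt N84369 F392061) (tt N91134 F486820) (tt N116807 (iv4 F501942)) (tt N83880 F392062) (tt N54816 (iv6 D194104)) (tt N84366 (iv7 F392063)))
theorem Q91143 : ∀ i, i < 91143 → P i := stepQ 91142 Q91142 (allL N91142 (tt N83063 F392065) (tt N83551 F469399) (tt N83549 F392066) (tt N54817 (iv3 D194105)) (tt N101453 (iv4 F433011)) (tt N113009 (iv5 F483540)) (tt N106333 F454072) (tt N83550 F392064))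
theorem Q91144 : ∀ i, i < 91144 → P i := stepQ 91143 Q91143 (allL N91143 (tt N116171 (iv1 F498858)) (tt N89408 (iv0 F392067)) (tt N114050 (iv2 F488352)) (tt N113009 F483543) (tt N113063 (iv4 F483806)) (tt N54817 (iv5 D194106)) (tt N113062 (iv6 F483803)) (tt N116116 (iv7 F498553)))
theorem Q91145 : ∀ i, i < 91145 → P i := stepQ 91144 Q91144 (allL N91144 (tt N116474 (iv1 F500327)) (tt N116475 (iv0 F500332)) (tt N116118 (iv2 F498563)) (tt N106333 (iv3 F454070)) (tt N101452 (iv4 F433006)) (tt N91010 (iv5 F433008)) (tt N54817 (iv6 D194107)) (tt N91009 F433009))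
theorem Q91146 : ∀ i, i < 91146 → P i := stepQ 91145 Q91145 (allL N91145 (tt N88573 (iv1 F392074)) (tt N54818 (iv0 D194108)) (tt N88571 F479486) (tt N117390 D220649) (tt N112099 (iv4 F479485)) (tt N112582 (iv5 F481718)) (tt N117391 D220650) (tt N88572 (iv7 F479489)))
theorem Q91147 : ∀ i, i < 91147 → P i := stepQ 91146 Q91146 (allL N91146 (tt N54818 (iv1 D194109)) (tt N88573 F392068) (tt N88572 F479488) (tt N113494 (iv3 F485762)) (tt N113985 (iv4 F488066)) (tt N89890 (iv5 F392069)) (tt N116136 F498673) (tt N88571 F479487))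
theorem Q91148 : ∀ i, i < 91148 → P i := stepQ 91147 Q91147 (allL N91147 (tt N88572 (iv1 F392075)) (tt N88571 F392076) (tt N88573 F392071) (tt N117378 (iv3 F504739)) (tt N106573 (iv4 F454911)) (tt N54819 F392072) (tt N84982 F392073) (tt N54818 (iv7 D194110)))
theorem Q91149 : ∀ i, i < 91149 → P i := stepQ 91148 Q91148 (allL N91148 (tt N83463 (iv1 F392081)) (tt N83462 (iv0 F392082)) (tt N83064 F392077) (tt N54820 (iv3 D194111)) (tt N77403 F392079) (tt N113019 (iv5 F483587)) (tt N90836 (iv6 F392080)) (tt N83485 F392078))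
theorem Q91150 : ∀ i, i < 91150 → P i := stepQ 91149 Q91149 (allL N91149 (tt N77256 F392090) (tt N77458 F392091) (tt N81896 F392086) (tt N75489 F392087) (tt N54820 (iv4 D194112)) (tt N75488 F392089) (tt N91156 F392104) (tt N81895 F392088))
theorem Q91151 : ∀ i, i < 91151 → P i := stepQ 91150 Q91150 (allL N91150 (tt N77458 F392095) (tt N77256 F392096) (tt N81895 F392092) (tt N113378 (iv3 F485261)) (tt N54821 (iv4 D194113)) (tt N80621 F392094) (tt N107183 (iv6 F457394)) (tt N81896 F392093))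
theorem Q91152 : ∀ i, i < 91152 → P i := stepQ 91151 Q91151 (allL N91151 (tt N117382 F504763) (tt N105298 (iv0 F449624)) (tt N110368 (iv2 F471264)) (tt N77362 F392098) (tt N107183 (iv4 F457395)) (tt N83969 F392099) (tt N54821 (iv6 D194114)) (tt N117392 D220651))
theorem Q91153 : ∀ i, i < 91153 → P i := stepQ 91152 Q91152 (allL N91152 (tt N111344 F475921) (tt N54822 (iv0 D194115)) (tt N116115 (iv2 F498549)) (tt N77144 (iv3 F392102)) (tt N83325 F392101) (tt N89668 F392100) (tt N117393 D220652) (tt N116114 (iv7 F498544)))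
theorem Q91154 : ∀ i, i < 91154 → P i := stepQ 91153 Q91153 (allL N91153 (tt N54822 (iv1 D194116)) (tt N111344 (iv0 F475920)) (tt N116114 (iv2 F498543)) (tt N75892 F467370) (tt N112564 (iv4 F481663)) (tt N109473 F467371) (tt N117394 D220653) (tt N116115 (iv7 F498546)))
theorem Q91155 : ∀ i, i < 91155 → P i := stepQ 91154 Q91154 (allL N91154 (tt N117395 D220654) (tt N116894 (iv0 F502394)) (tt N116714 (iv2 F501453)) (tt N112319 (iv3 F480529)) (tt N54823 F392103) (tt N109939 (iv5 F469312)) (tt N54822 (iv6 D194117)) (tt N117396 D220655))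
theorem Q91156 : ∀ i, i < 91156 → P i := stepQ 91155 Q91155 (allL N91155 (tt N116715 (iv1 F501462)) (tt N54823 (iv0 D194118)) (tt N83553 (iv2 F392109)) (tt N117158 (iv3 F503680)) (tt N113492 (iv4 F485750)) (tt N116308 (iv5 F499483)) (tt N117397 D220656) (tt N112563 (iv7 F481662)))
theorem Q91157 : ∀ i, i < 91157 → P i := stepQ 91156 Q91156 (allL N91156 (tt N54823 (iv1 D194119)) (tt N116715 F501461) (tt N112563 (iv2 F481657)) (tt N83069 F392105) (tt N89700 F392106) (tt N112540 (iv5 F481581)) (tt N91149 (iv6 F392104)) (tt N83553 (iv7 F392107)))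
theorem Q91158 : ∀ i, i < 91158 → P i := stepQ 91157 Q91157 (allL N91157 (tt N112563 (iv1 F481661)) (tt N83553 (iv0 F460974)) (tt N116715 (iv2 F501457)) (tt N54828 F392110) (tt N117396 (iv4 F504819)) (tt N85841 F392111) (tt N115406 (iv6 F495033)) (tt N54823 (iv7 D194120)))
theorem Q91159 : ∀ i, i < 91159 → P i := stepQ 91158 Q91158 (allL N91158 (tt N100756 (iv1 F430315)) (tt N54824 (iv0 D194121)) (tt N100762 (iv2 F430349)) (tt N108800 (iv3 F464005)) (tt N94166 (iv4 F403506)) (tt N76375 (iv5 F403507)) (tt N66581 F403508) (tt N100761 F430343))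
theorem Q91160 : ∀ i, i < 91160 → P i := stepQ 91159 Q91159 (allL N91159 (tt N54824 (iv1 D194122)) (tt N100756 F430316) (tt N100761 (iv2 F430344)) (tt N81904 (iv3 F432607)) (tt N81898 F392112) (tt N107185 (iv5 F457399)) (tt N117398 D220657) (tt N100762 (iv7 F430346)))
theorem Q91161 : ∀ i, i < 91161 → P i := stepQ 91160 Q91160 (allL N91160 (tt N100762 (iv1 F430345)) (tt N100761 F430341) (tt N54824 (iv2 D194123)) (tt N114258 (iv3 F489264)) (tt N77384 F392113) (tt N100757 (iv5 F430319)) (tt N117399 D220658) (tt N100756 (iv7 F430314)))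
theorem Q91162 : ∀ i, i < 91162 → P i := stepQ 91161 Q91161 (allL N91161 (tt N113480 F485688) (tt N116440 (iv0 F500126)) (tt N117399 (iv2 F504833)) (tt N54825 F392114) (tt N112319 (iv4 F480530)) (tt N89839 F392115) (tt N54824 (iv6 D194124)) (tt N117400 D220659))
theorem Q91163 : ∀ i, i < 91163 → P i := stepQ 91162 Q91162 (allL N91162 (tt N117401 D220660) (tt N117402 D220661) (tt N109870 (iv2 F469007)) (tt N89839 F392116) (tt N116737 (iv4 F501567)) (tt N54825 (iv5 D194125)) (tt N98105 F419468) (tt N117403 D220662))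
theorem Q91164 : ∀ i, i < 91164 → P i := stepQ 91163 Q91163 (allL N91163 (tt N114259 (iv1 F489270)) (tt N113213 (iv0 F484512)) (tt N114260 (iv2 F489276)) (tt N117400 (iv3 F504840)) (tt N54828 F392117) (tt N117403 (iv5 F504855)) (tt N77421 F392118) (tt N54825 (iv7 D194126)))
theorem Q91165 : ∀ i, i < 91165 → P i := stepQ 91164 Q91164 (allL N91164 (tt N83546 F392128) (tt N83531 F485851) (tt N83543 F392120) (tt N54826 (iv3 D194127)) (tt N117404 D220663) (tt N116336 (iv5 F499616)) (tt N117405 D220664) (tt N83544 F392119))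
theorem Q91166 : ∀ i, i < 91166 → P i := stepQ 91165 Q91165 (allL N91165 (tt N90835 F392123) (tt N85487 (iv0 F392127)) (tt N90808 F392121) (tt N90880 F392125) (tt N54826 (iv4 D194128)) (tt N89098 F392126) (tt N85478 (iv6 F392124)) (tt N90833 F392122))
theorem Q91167 : ∀ i, i < 91167 → P i := stepQ 91166 Q91166 (allL N91166 (tt N113470 (iv1 F485635)) (tt N113468 (iv0 F485624)) (tt N90807 F392129) (tt N117405 (iv3 F504864)) (tt N85478 F392130) (tt N89466 F392132) (tt N54826 (iv6 D194129)) (tt N89465 F392131))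
theorem Q91168 : ∀ i, i < 91168 → P i := stepQ 91167 Q91167 (allL N91167 (tt N116518 F500578) (tt N116529 F500627) (tt N116528 (iv2 F500622)) (tt N54827 (iv3 D194130)) (tt N116947 (iv4 F502645)) (tt N105735 F451472) (tt N105736 (iv6 F451474)) (tt N114261 (iv7 F489284)))
theorem Q91169 : ∀ i, i < 91169 → P i := stepQ 91168 Q91168 (allL N91168 (tt N85487 F392136) (tt N90835 F392137) (tt N90833 F392133) (tt N116949 (iv3 F502655)) (tt N54827 (iv4 D194131)) (tt N117406 D220665) (tt N90607 F392134) (tt N90808 F392135))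
theorem Q91170 : ∀ i, i < 91170 → P i := stepQ 91169 Q91169 (allL N91169 (tt N55019 (iv1 F392143)) (tt N55018 F392142) (tt N54829 (iv2 D194132)) (tt N55389 F392138) (tt N54830 F392139) (tt N111303 (iv5 F475723)) (tt N83593 F392140) (tt N55013 F392141))
theorem Q91171 : ∀ i, i < 91171 → P i := stepQ 91170 Q91170 (allL N91170 (tt N63056 F392150) (tt N62785 F392149) (tt N54835 F392144) (tt N79986 F392145) (tt N66678 F392148) (tt N54834 (iv5 D194133)) (tt N75790 F392146) (tt N66720 F392147))
theorem Q91172 : ∀ i, i < 91172 → P i := stepQ 91171 Q91171 (allL N91171 (tt N76957 (iv1 F392156)) (tt N54836 (iv0 D194134)) (tt N63660 (iv2 F392155)) (tt N99770 (iv3 F426154)) (tt N101696 (iv4 F433913)) (tt N113370 (iv5 F485217)) (tt N76956 (iv6 F392158)) (tt N65172 F392157))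
theorem Q91173 : ∀ i, i < 91173 → P i := stepQ 91172 Q91172 (allL N91172 (tt N63660 (iv1 F392163)) (tt N65172 F392162) (tt N54836 (iv2 D194135)) (tt N72798 F392159) (tt N67006 F392160) (tt N113028 (iv5 F483609)) (tt N72796 (iv6 F392164)) (tt N76957 F392161))
theorem Q91174 : ∀ i, i < 91174 → P i := stepQ 91173 Q91173 (allL N91173 (tt N75742 (iv1 F392169)) (tt N108069 F460985) (tt N72796 F392165) (tt N54837 F392166) (tt N75248 F392167) (tt N110269 (iv5 F470745)) (tt N54836 (iv6 D194136)) (tt N81521 F392168))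
theorem Q91175 : ∀ i, i < 91175 → P i := stepQ 91174 Q91174 (allL N91174 (tt N72768 (iv1 F392172)) (tt N54837 (iv0 D194137)) (tt N107323 (iv2 F457963)) (tt N98516 (iv3 F421185)) (tt N56205 F392170) (tt N107317 (iv5 F457942)) (tt N56203 (iv6 F392171)) (tt N108066 (iv7 F460964)))
theorem Q91176 : ∀ i, i < 91176 → P i := stepQ 91175 Q91175 (allL N91175 (tt N54837 (iv1 D194138)) (tt N72768 F392173) (tt N108066 F460967) (tt N75745 (iv3 F392176)) (tt N74434 F392174) (tt N99376 F424346) (tt N112315 (iv6 F480508)) (tt N107323 (iv7 F457965)))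
theorem Q91177 : ∀ i, i < 91177 → P i := stepQ 91176 Q91176 (allL N91176 (tt N92196 (iv1 F396201)) (tt N69699 F396202) (tt N107283 (iv2 F457787)) (tt N110269 F470746) (tt N107461 (iv4 F458420)) (tt N54837 (iv5 D194139)) (tt N113549 (iv6 F485985)) (tt N107282 F457783))
theorem Q91178 : ∀ i, i < 91178 → P i := stepQ 91177 Q91177 (allL N91177 (tt N108066 (iv1 F460963)) (tt N107323 F457969) (tt N72768 F392177) (tt N81521 F392178) (tt N54840 F392179) (tt N107282 (iv5 F457779)) (tt N81520 F392180) (tt N54837 (iv7 D194140)))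
theorem Q91179 : ∀ i, i < 91179 → P i := stepQ 91178 Q91178 (allL N91178 (tt N108605 (iv1 F463221)) (tt N86856 F392182) (tt N115358 (iv2 F494775)) (tt N92234 (iv3 F396389)) (tt N99719 (iv4 F425900)) (tt N54838 (iv5 D194141)) (tt N104126 (iv6 F444313)) (tt N85755 F392181))
theorem Q91180 : ∀ i, i < 91180 → P i := stepQ 91179 Q91179 (allL N91179 (tt N86481 F392183) (tt N93099 F399496) (tt N104935 (iv2 F448016)) (tt N54839 (iv3 D194142)) (tt N117407 D220666) (tt N105003 (iv5 F448318)) (tt N97254 (iv6 F416094)) (tt N109564 (iv7 F467546)))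
theorem Q91181 : ∀ i, i < 91181 → P i := stepQ 91180 Q91180 (allL N91180 (tt N86856 F392185) (tt N108605 (iv0 F463220)) (tt N85755 F392184) (tt N105003 (iv3 F448317)) (tt N108734 (iv4 F463750)) (tt N54839 (iv5 D194143)) (tt N85739 F392186) (tt N115358 (iv7 F494777)))
theorem Q91182 : ∀ i, i < 91182 → P i := stepQ 91181 Q91181 (allL N91181 (tt N115157 (iv1 F493774)) (tt N98472 (iv0 F421032)) (tt N96227 (iv2 F411596)) (tt N97254 (iv3 F416092)) (tt N96225 (iv4 F411584)) (tt N97253 (iv5 F416088)) (tt N54839 (iv6 D194144)) (tt N96230 (iv7 F411613)))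
theorem Q91183 : ∀ i, i < 91183 → P i := stepQ 91182 Q91182 (allL N91182 (tt N54841 (iv1 D194145)) (tt N111539 F476816) (tt N78475 F392190) (tt N59327 (iv3 F392188)) (tt N59728 (iv4 F392189)) (tt N115131 (iv5 F493637)) (tt N94678 (iv6 F405491)) (tt N59448 F392187))
theorem Q91184 : ∀ i, i < 91184 → P i := stepQ 91183 Q91183 (allL N91183 (tt N59448 (iv1 F392193)) (tt N78475 F392192) (tt N54841 (iv2 D194146)) (tt N111522 (iv3 F476710)) (tt N54845 F392191) (tt N112017 (iv5 F479097)) (tt N94834 F406098) (tt N111539 (iv7 F476814)))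
theorem Q91185 : ∀ i, i < 91185 → P i := stepQ 91184 Q91184 (allL N91184 (tt N85712 (iv1 F392196)) (tt N84553 (iv0 F392197)) (tt N111722 F477665) (tt N54843 (iv3 D194148)) (tt N79638 F392195) (tt N114815 (iv5 F492020)) (tt N92006 (iv6 F395333)) (tt N111718 (iv7 F477642)))
theorem Q91186 : ∀ i, i < 91186 → P i := stepQ 91185 Q91185 (allL N91185 (tt N117408 D220667) (tt N111036 F474367) (tt N111021 F474298) (tt N114561 (iv3 F490778)) (tt N54843 (iv4 D194149)) (tt N114560 (iv5 F490776)) (tt N65490 F435086) (tt N111719 (iv7 F477648)))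
theorem Q91187 : ∀ i, i < 91187 → P i := stepQ 91186 Q91186 (allL N91186 (tt N108279 (iv1 F461844)) (tt N100730 (iv0 F443828)) (tt N111720 (iv2 F477650)) (tt N92006 F395335) (tt N65490 (iv4 F435085)) (tt N92005 (iv5 F395336)) (tt N54843 (iv6 D194151)) (tt N111450 (iv7 F476419)))
theorem Q91188 : ∀ i, i < 91188 → P i := stepQ 91187 Q91187 (allL N91187 (tt N96773 F417179) (tt N106815 (iv0 F455804)) (tt N106817 F455813) (tt N54844 (iv3 D194153)) (tt N97511 (iv4 F417178)) (tt N104007 F443837) (tt N111451 (iv6 F476421)) (tt N106818 (iv7 F455814)))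
theorem Q91189 : ∀ i, i < 91189 → P i := stepQ 91188 Q91188 (allL N91188 (tt N111036 F474366) (tt N117408 F504887) (tt N111719 (iv2 F477646)) (tt N80558 (iv3 F392199)) (tt N54844 (iv4 D194154)) (tt N117409 D220668) (tt N111383 (iv6 F476101)) (tt N111021 (iv7 F474297)))
theorem Q91190 : ∀ i, i < 91190 → P i := stepQ 91189 Q91189 (allL N91189 (tt N87082 (iv1 F392204)) (tt N55516 F392203) (tt N54846 F392200) (tt N83771 F392201) (tt N94834 F406095) (tt N114215 (iv5 F489030)) (tt N54845 (iv6 D194157)) (tt N87081 F392202))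
theorem Q91191 : ∀ i, i < 91191 → P i := stepQ 91190 Q91190 (allL N91190 (tt N54846 (iv1 D194158)) (tt N87081 F392206) (tt N55516 (iv2 F392208)) (tt N91823 (iv3 F394556)) (tt N117410 D220669) (tt N87250 (iv5 F392209)) (tt N111580 F477001) (tt N87082 F392207))
theorem Q91192 : ∀ i, i < 91192 → P i := stepQ 91191 Q91191 (allL N91191 (tt N84545 F392212) (tt N95664 (iv0 F443834)) (tt N114215 F489032) (tt N54847 F392210) (tt N87284 (iv4 F392211)) (tt N54846 (iv5 D194159)) (tt N112457 (iv6 F481176)) (tt N111565 (iv7 F476948)))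
theorem Q91193 : ∀ i, i < 91193 → P i := stepQ 91192 Q91192 (allL N91192 (tt N88190 (iv1 F392214)) (tt N68015 F392215) (tt N96738 (iv2 F413694)) (tt N54849 (iv3 D194160)) (tt N96984 (iv4 F414925)) (tt N87606 (iv5 F392216)) (tt N104251 (iv6 F444939)) (tt N83778 F392213))
theorem Q91194 : ∀ i, i < 91194 → P i := stepQ 91193 Q91193 (allL N91193 (tt N85676 F392227) (tt N102076 F435614) (tt N83776 F392224) (tt N83566 F392228) (tt N54849 (iv4 D194161)) (tt N86708 F392225) (tt N103259 (iv6 F440840)) (tt N83779 F392226))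
theorem Q91195 : ∀ i, i < 91195 → P i := stepQ 91194 Q91194 (allL N91194 (tt N97626 F417663) (tt N106805 (iv0 F455755)) (tt N83777 F392229) (tt N104251 F444941) (tt N103259 (iv4 F440842)) (tt N97355 (iv5 F416466)) (tt N54849 (iv6 D194162)) (tt N103396 (iv7 F441430)))
theorem Q91196 : ∀ i, i < 91196 → P i := stepQ 91195 Q91195 (allL N91195 (tt N111078 F474560) (tt N109740 F468380) (tt N54857 F392230) (tt N115492 (iv3 F495474)) (tt N54855 (iv4 D194163)) (tt N116373 (iv5 F499765)) (tt N117411 D220670) (tt N111081 (iv7 F474577)))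
theorem Q91197 : ∀ i, i < 91197 → P i := stepQ 91196 Q91196 (allL N91196 (tt N99749 (iv1 F426051)) (tt N99751 (iv0 F426060)) (tt N54858 F392231) (tt N79967 F392232) (tt N117411 (iv4 F504900)) (tt N79925 F392233) (tt N54855 (iv6 D194164)) (tt N100295 (iv7 F428297)))
theorem Q91198 : ∀ i, i < 91198 → P i := stepQ 91197 Q91197 (allL N91197 (tt N54857 (iv1 D194166)) (tt N111081 F474576) (tt N109740 (iv2 F468375)) (tt N111664 (iv3 F477372)) (tt N63226 (iv4 F392234)) (tt N113681 (iv5 F486605)) (tt N63225 F392235) (tt N111078 (iv7 F474558)))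
theorem Q91199 : ∀ i, i < 91199 → P i := stepQ 91198 Q91198 (allL N91198 (tt N115394 (iv1 F494971)) (tt N115395 (iv0 F494975)) (tt N116373 (iv2 F499763)) (tt N112425 (iv3 F481035)) (tt N101906 F434899) (tt N54857 (iv5 D194167)) (tt N101905 (iv6 F434900)) (tt N113619 (iv7 F486331)))
theorem Q91200 : ∀ i, i < 91200 → P i := stepQ 91199 Q91199 (allL N91199 (tt N86791 F426036) (tt N73644 F426044) (tt N117411 (iv2 F504898)) (tt N112426 (iv3 F481038)) (tt N54858 F392236) (tt N115729 (iv5 F496550)) (tt N54857 (iv6 D194168)) (tt N117412 D220671))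
theorem Q91201 : ∀ i, i < 91201 → P i := stepQ 91200 Q91200 (allL N91200 (tt N100295 (iv1 F428299)) (tt N54858 (iv0 D194169)) (tt N99749 (iv2 F426045)) (tt N76437 (iv3 F392239)) (tt N60343 (iv4 F392240)) (tt N75237 F392237) (tt N60342 F392238) (tt N99751 (iv7 F426058)))
theorem Q91202 : ∀ i, i < 91202 → P i := stepQ 91201 Q91201 (allL N91201 (tt N54858 (iv1 D194170)) (tt N100295 (iv0 F428298)) (tt N99751 (iv2 F426056)) (tt N86710 F392245) (tt N99574 (iv4 F425236)) (tt N75238 (iv5 F392244)) (tt N61104 (iv6 F392243)) (tt N99749 (iv7 F426048)))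
theorem Q91203 : ∀ i, i < 91203 → P i := stepQ 91202 Q91202 (allL N91202 (tt N99751 (iv1 F426059)) (tt N99749 (iv0 F426049)) (tt N100295 (iv2 F428295)) (tt N54863 F392246) (tt N117412 (iv4 F504907)) (tt N79924 F392247) (tt N113622 (iv6 F486342)) (tt N54858 (iv7 D194171)))
theorem Q91204 : ∀ i, i < 91204 → P i := stepQ 91203 Q91203 (allL N91203 (tt N79899 (iv1 F399405)) (tt N78929 (iv0 F399404)) (tt N105011 (iv2 F448354)) (tt N54860 (iv3 D194172)) (tt N104013 (iv4 F443788)) (tt N109069 (iv5 F465204)) (tt N104133 F444355) (tt N99736 F425982))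
theorem Q91205 : ∀ i, i < 91205 → P i := stepQ 91204 Q91204 (allL N91204 (tt N109841 F468857) (tt N75235 (iv0 F392251)) (tt N76128 F392248) (tt N109069 (iv3 F465203)) (tt N76132 F392249) (tt N54860 (iv5 D194173)) (tt N79065 F392250) (tt N98117 (iv7 F419527)))
theorem Q91206 : ∀ i, i < 91206 → P i := stepQ 91205 Q91205 (allL N91205 (tt N69479 F400392) (tt N117413 D220672) (tt N89879 F392252) (tt N104133 (iv3 F444354)) (tt N115368 (iv4 F494841)) (tt N86899 F392253) (tt N54860 (iv6 D194174)) (tt N89876 (iv7 F392254)))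
theorem Q91207 : ∀ i, i < 91207 → P i := stepQ 91206 Q91206 (allL N91206 (tt N75235 F392259) (tt N109841 (iv0 F468856)) (tt N98117 (iv2 F419524)) (tt N76129 F392255) (tt N67099 F392257) (tt N54861 (iv5 D194175)) (tt N85790 F392258) (tt N76128 F392256))
theorem Q91208 : ∀ i, i < 91208 → P i := stepQ 91207 Q91207 (allL N91207 (tt N108601 F463211) (tt N99687 (iv0 F425750)) (tt N99735 (iv2 F425970)) (tt N105015 (iv3 F448382)) (tt N105030 (iv4 F448468)) (tt N55776 (iv5 F392260)) (tt N54861 (iv6 D194176)) (tt N108607 (iv7 F463230)))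
theorem Q91209 : ∀ i, i < 91209 → P i := stepQ 91208 Q91208 (allL N91208 (tt N77185 F392264) (tt N78623 F392263) (tt N82202 F392261) (tt N94099 (iv3 F403197)) (tt N54862 (iv4 D194177)) (tt N82200 (iv5 F392265)) (tt N54864 F392262) (tt N98302 (iv7 F420415)))
theorem Q91210 : ∀ i, i < 91210 → P i := stepQ 91209 Q91209 (allL N91209 (tt N84704 F392271) (tt N87764 (iv0 F392272)) (tt N87830 F392268) (tt N54865 (iv3 D194178)) (tt N55000 F392269) (tt N116285 (iv5 F499358)) (tt N55438 F392270) (tt N92011 (iv7 F395348)))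
theorem Q91211 : ∀ i, i < 91211 → P i := stepQ 91210 Q91210 (allL N91210 (tt N71849 F392275) (tt N113037 (iv0 F483666)) (tt N73883 F392273) (tt N116285 (iv3 F499356)) (tt N105900 (iv4 F452257)) (tt N54865 (iv5 D194179)) (tt N71766 F392274) (tt N105899 (iv7 F452254)))
theorem Q91212 : ∀ i, i < 91212 → P i := stepQ 91211 Q91211 (allL N91211 (tt N86840 F392278) (tt N86661 F392279) (tt N54870 F392276) (tt N94017 F402835) (tt N54868 (iv4 D194180)) (tt N117414 D220673) (tt N115222 F494092) (tt N86839 F392277))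
theorem Q91213 : ∀ i, i < 91213 → P i := stepQ 91212 Q91212 (allL N91212 (tt N104227 F444805) (tt N110526 (iv0 F471993)) (tt N54871 F392280) (tt N86858 F392281) (tt N115222 (iv4 F494090)) (tt N86063 F392282) (tt N54868 (iv6 D194181)) (tt N100521 (iv7 F429303)))
theorem Q91214 : ∀ i, i < 91214 → P i := stepQ 91213 Q91213 (allL N91213 (tt N68440 F392287) (tt N68439 F392288) (tt N68441 F392283) (tt N70771 F392284) (tt N113780 (iv4 F487072)) (tt N84453 F392285) (tt N54869 (iv6 D194182)) (tt N68429 F392286))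
theorem Q91215 : ∀ i, i < 91215 → P i := stepQ 91214 Q91214 (allL N91214 (tt N54870 (iv1 D194183)) (tt N86839 F392290) (tt N86661 (iv2 F392293)) (tt N104936 (iv3 F448021)) (tt N83786 F392292) (tt N68439 (iv5 F392294)) (tt N109735 F468347) (tt N86840 F392291))
theorem Q91216 : ∀ i, i < 91216 → P i := stepQ 91215 Q91215 (allL N91215 (tt N114075 (iv1 F488470)) (tt N95891 F410113) (tt N117414 (iv2 F504918)) (tt N96942 (iv3 F414702)) (tt N94131 (iv4 F403359)) (tt N54870 (iv5 D194184)) (tt N100301 (iv6 F428332)) (tt N86842 F392297))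
theorem Q91217 : ∀ i, i < 91217 → P i := stepQ 91216 Q91216 (allL N91216 (tt N100521 (iv1 F429305)) (tt N54871 (iv0 D194186)) (tt N104227 (iv2 F444806)) (tt N111005 (iv3 F474197)) (tt N88808 (iv4 F429306)) (tt N109685 (iv5 F468099)) (tt N88807 F429307) (tt N110526 (iv7 F471992)))
theorem Q91218 : ∀ i, i < 91218 → P i := stepQ 91217 Q91217 (allL N91217 (tt N54871 (iv1 D194187)) (tt N100521 F429304) (tt N110526 (iv2 F471988)) (tt N63417 (iv3 F392299)) (tt N76454 F392302) (tt N109054 (iv5 F465127)) (tt N78287 F398986) (tt N104227 (iv7 F444803)))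
theorem Q91219 : ∀ i, i < 91219 → P i := stepQ 91218 Q91218 (allL N91218 (tt N110526 (iv1 F471994)) (tt N104227 (iv0 F444804)) (tt N100521 (iv2 F429299)) (tt N54874 F392303) (tt N109749 (iv4 F468431)) (tt N86066 F392304) (tt N76360 F392305) (tt N54871 (iv7 D194188)))
theorem Q91220 : ∀ i, i < 91220 → P i := stepQ 91219 Q91219 (allL N91219 (tt N86060 F392308) (tt N85080 (iv0 F392309)) (tt N86058 F392306) (tt N113329 (iv3 F485060)) (tt N117415 D220674) (tt N54872 (iv5 D194189)) (tt N117416 D220675) (tt N86059 F392307))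
theorem Q91221 : ∀ i, i < 91221 → P i := stepQ 91220 Q91220 (allL N91220 (tt N85759 F392313) (tt N104126 (iv0 F444314)) (tt N86865 F392310) (tt N87655 F392311) (tt N108608 (iv4 F463231)) (tt N83670 F392312) (tt N54872 (iv6 D194190)) (tt N105930 (iv7 F452397)))
theorem Q91222 : ∀ i, i < 91222 → P i := stepQ 91221 Q91221 (allL N91221 (tt N85080 F392316) (tt N86060 F392317) (tt N86059 F392314) (tt N114280 (iv3 F489368)) (tt N117417 D220676) (tt N54873 (iv5 D194191)) (tt N85878 F392318) (tt N86058 F392315))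
theorem Q91223 : ∀ i, i < 91223 → P i := stepQ 91222 Q91222 (allL N91222 (tt N86802 F392325) (tt N56428 (iv0 F392326)) (tt N86800 F392324) (tt N104017 F447617) (tt N112434 (iv4 F481089)) (tt N117418 D220677) (tt N54873 (iv6 D194192)) (tt N86801 (iv7 F392327)))
theorem Q91224 : ∀ i, i < 91224 → P i := stepQ 91223 Q91223 (allL N91223 (tt N79355 F392332) (tt N68616 F392333) (tt N54881 F392328) (tt N104299 (iv3 F445127)) (tt N54878 (iv4 D194193)) (tt N79677 F392331) (tt N79896 F392329) (tt N86857 F392330))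
theorem Q91225 : ∀ i, i < 91225 → P i := stepQ 91224 Q91224 (allL N91224 (tt N68738 F392338) (tt N86708 F392339) (tt N68825 F392335) (tt N80221 F392340) (tt N54880 (iv4 D194194)) (tt N80220 F392337) (tt N104281 (iv6 F445085)) (tt N68711 F392336))
theorem Q91226 : ∀ i, i < 91226 → P i := stepQ 91225 Q91225 (allL N91225 (tt N92235 (iv1 F396399)) (tt N92237 F396408) (tt N86853 F392341) (tt N115157 (iv3 F493771)) (tt N75250 F392343) (tt N54882 (iv5 D194195)) (tt N98307 (iv6 F420440)) (tt N86855 F392342))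
theorem Q91227 : ∀ i, i < 91227 → P i := stepQ 91226 Q91226 (allL N91226 (tt N85094 F392348) (tt N86806 (iv0 F392347)) (tt N85231 F392344) (tt N114917 (iv3 F492520)) (tt N112427 (iv4 F481044)) (tt N84829 F392345) (tt N54882 (iv6 D194196)) (tt N85229 (iv7 F392346)))
theorem Q91228 : ∀ i, i < 91228 → P i := stepQ 91227 Q91227 (allL N91227 (tt N86771 F392353) (tt N100517 (iv0 F429283)) (tt N104881 (iv2 F447781)) (tt N54883 (iv3 D194197)) (tt N68103 (iv4 F392351)) (tt N80480 F392349) (tt N73783 F392352) (tt N86851 F392350))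
theorem Q91229 : ∀ i, i < 91229 → P i := stepQ 91228 Q91228 (allL N91228 (tt N115358 (iv1 F494779)) (tt N85755 (iv0 F419733)) (tt N86856 F392354) (tt N73783 F392355) (tt N97287 (iv4 F416223)) (tt N73962 F392356) (tt N54883 (iv6 D194198)) (tt N108605 (iv7 F463218)))
theorem Q91230 : ∀ i, i < 91230 → P i := stepQ 91229 Q91229 (allL N91229 (tt N115214 F494056) (tt N115278 F494344) (tt N115286 F494387) (tt N54888 (iv3 D194199)) (tt N106870 (iv4 F456082)) (tt N54890 F392357) (tt N106869 F456079) (tt N86546 F392358))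
theorem Q91231 : ∀ i, i < 91231 → P i := stepQ 91230 Q91230 (allL N91230 (tt N100293 (iv1 F428291)) (tt N117419 D220678) (tt N54891 F392359) (tt N106869 (iv3 F456077)) (tt N54889 F392360) (tt N97459 (iv5 F436262)) (tt N54888 (iv6 D194200)) (tt N117420 D220679))
theorem Q91232 : ∀ i, i < 91232 → P i := stepQ 91231 Q91231 (allL N91231 (tt N54889 (iv1 D194201)) (tt N54894 F392361) (tt N54893 (iv2 F392364)) (tt N76320 (iv3 F392365)) (tt N115317 (iv4 F494558)) (tt N76307 F392363) (tt N86498 F392366) (tt N54892 F392362))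
theorem Q91233 : ∀ i, i < 91233 → P i := stepQ 91232 Q91232 (allL N91232 (tt N54893 (iv1 F392371)) (tt N54892 F392372) (tt N54894 F392367) (tt N73781 F392368) (tt N117420 (iv4 F504955)) (tt N73780 F392369) (tt N86550 F392370) (tt N54889 (iv7 D194202)))
theorem Q91234 : ∀ i, i < 91234 → P i := stepQ 91233 Q91233 (allL N91233 (tt N112051 (iv1 F479266)) (tt N54890 (iv0 D194203)) (tt N112057 (iv2 F479290)) (tt N117421 D220680) (tt N116085 (iv4 F498384)) (tt N86641 F413685) (tt N117422 D220681) (tt N112056 F479282))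
theorem Q91235 : ∀ i, i < 91235 → P i := stepQ 91234 Q91234 (allL N91234 (tt N54890 (iv1 D194204)) (tt N112051 (iv0 F479265)) (tt N112056 F479280) (tt N115277 (iv3 F494336)) (tt N87651 (iv4 F392373)) (tt N86642 (iv5 F474468)) (tt N115276 F494333) (tt N112057 (iv7 F479287)))
theorem Q91236 : ∀ i, i < 91236 → P i := stepQ 91235 Q91235 (allL N91235 (tt N112057 (iv1 F479286)) (tt N112056 F479279) (tt N54890 (iv2 D194205)) (tt N115286 (iv3 F494386)) (tt N54897 F392374) (tt N115286 (iv5 F494384)) (tt N117423 D220682) (tt N112051 (iv7 F479264)))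
theorem Q91237 : ∀ i, i < 91237 → P i := stepQ 91236 Q91236 (allL N91236 (tt N117356 (iv1 F504641)) (tt N117358 (iv0 F504649)) (tt N117423 (iv2 F504970)) (tt N54891 F392375) (tt N54898 F392376) (tt N117424 D220683) (tt N54890 (iv6 D194206)) (tt N117425 D220684))
theorem Q91238 : ∀ i, i < 91238 → P i := stepQ 91237 Q91237 (allL N91237 (tt N117420 (iv1 F504958)) (tt N54891 (iv0 D194207)) (tt N100293 (iv2 F428286)) (tt N117426 D220685) (tt N56650 F392377) (tt N117427 D220686) (tt N56649 (iv6 F392378)) (tt N117419 (iv7 F504950)))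
theorem Q91239 : ∀ i, i < 91239 → P i := stepQ 91238 Q91238 (allL N91238 (tt N54891 (iv1 D194208)) (tt N117420 F504957) (tt N117419 F504952) (tt N100293 (iv3 F428287)) (tt N86692 F392379) (tt N102127 (iv5 F435869)) (tt N100294 (iv6 F428293)) (tt N100293 (iv7 F428289)))
theorem Q91240 : ∀ i, i < 91240 → P i := stepQ 91239 Q91239 (allL N91239 (tt N97452 (iv1 F465964)) (tt N97460 (iv0 F465963)) (tt N97459 F436263) (tt N117424 (iv3 F504975)) (tt N117428 D220687) (tt N54891 (iv5 D194209)) (tt N97459 F436264) (tt N97458 F494467))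
theorem Q91241 : ∀ i, i < 91241 → P i := stepQ 91240 Q91240 (allL N91240 (tt N117419 (iv1 F504949)) (tt N100293 (iv0 F428290)) (tt N117420 (iv2 F504953)) (tt N117425 (iv3 F504976)) (tt N54894 F392380) (tt N97458 (iv5 F494466)) (tt N86714 F392381) (tt N54891 (iv7 D194210)))
theorem Q91242 : ∀ i, i < 91242 → P i := stepQ 91241 Q91241 (allL N91241 (tt N115319 (iv1 F494572)) (tt N86554 F392386) (tt N86501 F392382) (tt N117429 D220688) (tt N54892 (iv4 D194211)) (tt N117430 D220689) (tt N76308 F392383) (tt N115317 (iv7 F494557)))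
theorem Q91243 : ∀ i, i < 91243 → P i := stepQ 91242 Q91242 (allL N91242 (tt N86554 F392385) (tt N115319 F494571) (tt N115317 F494559) (tt N106707 F455348) (tt N54893 (iv4 D194212)) (tt N117431 D220690) (tt N117432 D220691) (tt N86501 F392384))
theorem Q91244 : ∀ i, i < 91244 → P i := stepQ 91243 Q91243 (allL N91243 (tt N86497 (iv1 F392391)) (tt N86496 F392392) (tt N86498 F392387) (tt N69493 F392388) (tt N117432 (iv4 F505002)) (tt N85115 F392389) (tt N54893 (iv6 D194213)) (tt N69490 F392390))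
theorem Q91245 : ∀ i, i < 91245 → P i := stepQ 91244 Q91244 (allL N91244 (tt N88294 (iv1 F392396)) (tt N88298 (iv0 F392395)) (tt N88297 (iv2 F399041)) (tt N54895 (iv3 D194215)) (tt N69507 (iv4 F396241)) (tt N106815 (iv5 F455803)) (tt N69505 F396242) (tt N88296 (iv7 F415866)))
theorem Q91246 : ∀ i, i < 91246 → P i := stepQ 91245 Q91245 (allL N91245 (tt N88366 F392394) (tt N106710 (iv0 F455389)) (tt N112054 (iv2 F479271)) (tt N113592 (iv3 F486193)) (tt N54895 (iv4 D194216)) (tt N115248 (iv5 F494206)) (tt N117433 D220692) (tt N112052 (iv7 F479268)))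
theorem Q91247 : ∀ i, i < 91247 → P i := stepQ 91246 Q91246 (allL N91246 (tt N97310 F416314) (tt N105254 (iv0 F449406)) (tt N112055 (iv2 F479273)) (tt N69505 (iv3 F396243)) (tt N117433 (iv4 F505009)) (tt N105289 (iv5 F449575)) (tt N54895 (iv6 D194218)) (tt N113930 (iv7 F487839)))
theorem Q91248 : ∀ i, i < 91248 → P i := stepQ 91247 Q91247 (allL N91247 (tt N96890 (iv1 F414466)) (tt N87527 (iv0 F392402)) (tt N96774 (iv2 F413864)) (tt N54896 (iv3 D194220)) (tt N86902 F392399) (tt N96736 F413675) (tt N86901 (iv6 F392401)) (tt N96741 (iv7 F413714)))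
theorem Q91249 : ∀ i, i < 91249 → P i := stepQ 91248 Q91248 (allL N91248 (tt N106710 F455351) (tt N88366 (iv0 F414467)) (tt N112052 (iv2 F479267)) (tt N86590 (iv3 F392398)) (tt N54896 (iv4 D194221)) (tt N115249 (iv5 F494207)) (tt N86589 F392400) (tt N112054 (iv7 F479272)))
theorem Q91250 : ∀ i, i < 91250 → P i := stepQ 91249 Q91249 (allL N91249 (tt N112458 F481179) (tt N115282 (iv0 F494366)) (tt N112053 (iv2 F479269)) (tt N86901 F392403) (tt N86589 F392404) (tt N117434 D220693) (tt N54896 (iv6 D194222)) (tt N113670 (iv7 F486556)))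
theorem Q91251 : ∀ i, i < 91251 → P i := stepQ 91250 Q91250 (allL N91250 (tt N99573 F425234) (tt N92207 F396254) (tt N54898 F392405) (tt N111119 (iv3 F474764)) (tt N117423 (iv4 F504972)) (tt N99696 F425784) (tt N54897 (iv6 D194223)) (tt N106734 (iv7 F455470)))
theorem Q91252 : ∀ i, i < 91252 → P i := stepQ 91251 Q91251 (allL N91251 (tt N92207 F396252) (tt N99573 (iv0 F425233)) (tt N106734 (iv2 F455467)) (tt N54900 F392406) (tt N117425 (iv4 F504977)) (tt N90787 F392407) (tt N112059 (iv6 F479298)) (tt N54898 (iv7 D194225)))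
theorem Q91253 : ∀ i, i < 91253 → P i := stepQ 91252 Q91252 (allL N91252 (tt N54905 (iv1 F392412)) (tt N54902 (iv0 D194226)) (tt N87157 (iv2 F392411)) (tt N60197 F392410) (tt N74775 F392409) (tt N72466 F392408) (tt N85463 (iv6 F392414)) (tt N78537 F392413))
theorem Q91254 : ∀ i, i < 91254 → P i := stepQ 91253 Q91253 (allL N91253 (tt N54903 (iv1 D194227)) (tt N54906 F392415) (tt N98353 (iv2 F420612)) (tt N76306 (iv3 F392416)) (tt N92195 (iv4 F396192)) (tt N114547 (iv5 F490713)) (tt N113712 F486783) (tt N92203 (iv7 F396230)))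
theorem Q91255 : ∀ i, i < 91255 → P i := stepQ 91254 Q91254 (allL N91254 (tt N63956 F392422) (tt N62999 F392421) (tt N62939 F392417) (tt N85574 F392418) (tt N54906 (iv4 D194228)) (tt N107480 (iv5 F458466)) (tt N62936 F392419) (tt N75577 F392420))
theorem Q91256 : ∀ i, i < 91256 → P i := stepQ 91255 Q91255 (allL N91255 (tt N115004 F493015) (tt N91414 (iv0 F393031)) (tt N60237 F392423) (tt N83154 F392424) (tt N110619 (iv4 F472431)) (tt N54910 (iv5 D194229)) (tt N60233 (iv6 F392425)) (tt N91460 (iv7 F393231)))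
theorem Q91257 : ∀ i, i < 91257 → P i := stepQ 91256 Q91256 (allL N91256 (tt N71546 F401173) (tt N109940 F469318) (tt N91458 (iv2 F393221)) (tt N78207 F392426) (tt N54911 (iv4 D194230)) (tt N117435 D220694) (tt N60212 (iv6 F392427)) (tt N91462 (iv7 F393237)))
theorem Q91258 : ∀ i, i < 91258 → P i := stepQ 91257 Q91257 (allL N91257 (tt N91589 F413630) (tt N99274 (iv0 F423902)) (tt N91459 (iv2 F393225)) (tt N60301 F392428) (tt N60212 F392429) (tt N87882 F392430) (tt N54911 (iv6 D194231)) (tt N60297 (iv7 F392432)))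
theorem Q91259 : ∀ i, i < 91259 → P i := stepQ 91258 Q91258 (allL N91258 (tt N91414 F393032) (tt N115004 (iv0 F493014)) (tt N91460 (iv2 F393229)) (tt N63774 F392433) (tt N110985 (iv4 F474087)) (tt N54912 (iv5 D194232)) (tt N117436 D220695) (tt N60237 F392434))
theorem Q91260 : ∀ i, i < 91260 → P i := stepQ 91259 Q91259 (allL N91259 (tt N91760 F394335) (tt N91807 (iv0 F394504)) (tt N91461 (iv2 F393232)) (tt N87012 F392435) (tt N54914 F392436) (tt N115851 (iv5 F497234)) (tt N54912 (iv6 D194233)) (tt N91832 (iv7 F394605)))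
theorem Q91261 : ∀ i, i < 91261 → P i := stepQ 91260 Q91260 (allL N91260 (tt N109940 F469317) (tt N71546 (iv0 F401172)) (tt N91462 (iv2 F393235)) (tt N117437 D220696) (tt N54913 (iv4 D194234)) (tt N117438 D220697) (tt N110716 F482156) (tt N91458 (iv7 F393222)))
theorem Q91262 : ∀ i, i < 91262 → P i := stepQ 91261 Q91261 (allL N91261 (tt N117326 (iv1 F504475)) (tt N91602 (iv0 F393758)) (tt N91463 (iv2 F393239)) (tt N115109 F493523) (tt N110716 (iv4 F482157)) (tt N114094 (iv5 F488550)) (tt N54913 (iv6 D194235)) (tt N117149 (iv7 F503640)))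
theorem Q91263 : ∀ i, i < 91263 → P i := stepQ 91262 Q91262 (allL N91262 (tt N74189 (iv1 F392441)) (tt N72604 (iv0 F392442)) (tt N74188 F392437) (tt N54915 (iv3 D194236)) (tt N87051 F392440) (tt N81537 F392438) (tt N78640 F392443) (tt N74139 F392439))
theorem Q91264 : ∀ i, i < 91264 → P i := stepQ 91263 Q91263 (allL N91263 (tt N74199 F392445) (tt N98956 F422857) (tt N91464 (iv2 F393242)) (tt N89332 F392444) (tt N54915 (iv4 D194237)) (tt N117439 D220698) (tt N99040 (iv6 F423118)) (tt N91466 (iv7 F393249)))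
theorem Q91265 : ∀ i, i < 91265 → P i := stepQ 91264 Q91264 (allL N91264 (tt N91606 (iv1 F393767)) (tt N62114 (iv0 F392450)) (tt N91465 (iv2 F393245)) (tt N78640 F392448) (tt N99040 F423117) (tt N78639 F392449) (tt N54915 (iv6 D194238)) (tt N78652 (iv7 F392451)))
theorem Q91266 : ∀ i, i < 91266 → P i := stepQ 91265 Q91265 (allL N91265 (tt N98956 (iv1 F422856)) (tt N74199 (iv0 F392452)) (tt N91466 (iv2 F393247)) (tt N106469 (iv3 F454585)) (tt N54916 (iv4 D194239)) (tt N117440 D220699) (tt N74079 F392458) (tt N91464 (iv7 F393243)))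
theorem Q91267 : ∀ i, i < 91267 → P i := stepQ 91266 Q91266 (allL N91266 (tt N106440 F454449) (tt N74040 (iv0 F392459)) (tt N74137 F392453) (tt N71621 F392454) (tt N74079 (iv4 F392456)) (tt N87105 F392455) (tt N54916 (iv6 D194240)) (tt N98883 (iv7 F422689)))
theorem Q91268 : ∀ i, i < 91268 → P i := stepQ 91267 Q91267 (allL N91267 (tt N62144 F392465) (tt N102666 (iv0 F438137)) (tt N77742 F392466) (tt N54917 (iv3 D194241)) (tt N54928 F392463) (tt N110019 (iv5 F469581)) (tt N100422 (iv6 F428902)) (tt N77747 F392464))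
theorem Q91269 : ∀ i, i < 91269 → P i := stepQ 91268 Q91268 (allL N91268 (tt N109999 (iv1 F469508)) (tt N109837 (iv0 F468843)) (tt N91469 (iv2 F393258)) (tt N110019 (iv3 F469580)) (tt N106651 (iv4 F455150)) (tt N54917 (iv5 D194242)) (tt N106633 (iv6 F455108)) (tt N98983 (iv7 F422907)))
theorem Q91270 : ∀ i, i < 91270 → P i := stepQ 91269 Q91269 (allL N91269 (tt N90675 F392472) (tt N90677 F392473) (tt N54982 F392468) (tt N100351 (iv3 F428541)) (tt N54920 (iv4 D194244)) (tt N68584 F392469) (tt N71044 F392470) (tt N54978 F392471))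
theorem Q91271 : ∀ i, i < 91271 → P i := stepQ 91270 Q91270 (allL N91270 (tt N78549 F392479) (tt N111930 F478724) (tt N54991 F392474) (tt N69053 F392475) (tt N75222 F392478) (tt N54921 (iv5 D194245)) (tt N86378 F392476) (tt N78560 F392477))
theorem Q91272 : ∀ i, i < 91272 → P i := stepQ 91271 Q91271 (allL N91271 (tt N55053 (iv1 F392483)) (tt N55052 (iv0 F392482)) (tt N54993 F392480) (tt N109538 (iv3 F467434)) (tt N112386 (iv4 F480857)) (tt N91481 (iv5 F393309)) (tt N54922 (iv6 D194246)) (tt N54929 F392481))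
theorem Q91273 : ∀ i, i < 91273 → P i := stepQ 91272 Q91272 (allL N91272 (tt N91437 (iv1 F393126)) (tt N75676 (iv0 F392488)) (tt N55022 F392484) (tt N94095 (iv3 F403179)) (tt N54924 F392485) (tt N64720 F392486) (tt N54923 (iv6 D194247)) (tt N82182 F392487))
theorem Q91274 : ∀ i, i < 91274 → P i := stepQ 91273 Q91273 (allL N91273 (tt N55026 (iv1 F392496)) (tt N54924 (iv0 D194248)) (tt N55023 F392499) (tt N117326 (iv3 F504472)) (tt N112732 F482412) (tt N116004 (iv5 F498001)) (tt N91886 F394835) (tt N55024 F392498))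
theorem Q91275 : ∀ i, i < 91275 → P i := stepQ 91274 Q91274 (allL N91274 (tt N54924 (iv1 D194249)) (tt N55026 F392489) (tt N55024 F392492) (tt N91483 (iv3 F393317)) (tt N117147 (iv4 F503629)) (tt N87427 (iv5 F392491)) (tt N54977 (iv6 F392490)) (tt N55023 (iv7 F392500)))
theorem Q91276 : ∀ i, i < 91276 → P i := stepQ 91275 Q91275 (allL N91275 (tt N55024 (iv1 F392497)) (tt N55023 F392501) (tt N55026 F392493) (tt N97332 (iv3 F416384)) (tt N82182 F392494) (tt N114119 (iv5 F488625)) (tt N55010 F392495) (tt N54924 (iv7 D194250)))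
theorem Q91277 : ∀ i, i < 91277 → P i := stepQ 91276 Q91276 (allL N91276 (tt N99332 (iv1 F424137)) (tt N74196 F392504) (tt N97036 (iv2 F415134)) (tt N114921 F492544) (tt N54925 (iv4 D194251)) (tt N117441 D220700) (tt N56966 F392502) (tt N55037 F392503))
theorem Q91278 : ∀ i, i < 91278 → P i := stepQ 91277 Q91277 (allL N91277 (tt N55035 (iv1 F392514)) (tt N54926 (iv0 D194252)) (tt N55033 (iv2 F392506)) (tt N91485 (iv3 F393328)) (tt N81083 F392505) (tt N91934 F395015) (tt N93165 (iv6 F399753)) (tt N55034 (iv7 F392507)))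
theorem Q91279 : ∀ i, i < 91279 → P i := stepQ 91278 Q91278 (allL N91278 (tt N54926 (iv1 D194253)) (tt N55035 F392508) (tt N55034 (iv2 F392513)) (tt N62114 F392511) (tt N62138 F392512) (tt N91850 (iv5 F394678)) (tt N62112 (iv6 F392510)) (tt N55033 F392509))
theorem Q91280 : ∀ i, i < 91280 → P i := stepQ 91279 Q91279 (allL N91279 (tt N55034 (iv1 F392518)) (tt N55033 F392519) (tt N55035 F392515) (tt N93946 (iv3 F402537)) (tt N111512 (iv4 F476654)) (tt N55478 F392516) (tt N55043 F392517) (tt N54926 (iv7 D194254)))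
theorem Q91281 : ∀ i, i < 91281 → P i := stepQ 91280 Q91280 (allL N91280 (tt N54929 (iv1 D194256)) (tt N54993 F392521) (tt N55053 F392523) (tt N95341 (iv3 F407923)) (tt N81787 (iv4 F392522)) (tt N108255 (iv5 F461719)) (tt N117442 D220701) (tt N55052 F392524))
theorem Q91282 : ∀ i, i < 91282 → P i := stepQ 91281 Q91281 (allL N91281 (tt N112732 F482413) (tt N117147 (iv0 F503632)) (tt N55093 F392527) (tt N57392 F392528) (tt N54934 F392529) (tt N64712 F392531) (tt N54933 (iv6 D194257)) (tt N57389 F392530))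
theorem Q91283 : ∀ i, i < 91283 → P i := stepQ 91282 Q91282 (allL N91282 (tt N55097 (iv1 F392534)) (tt N54934 (iv0 D194258)) (tt N55094 (iv2 F392533)) (tt N72330 F392532) (tt N91378 (iv4 F392916)) (tt N115886 (iv5 F497415)) (tt N111528 (iv6 F476753)) (tt N55095 F392535))
theorem Q91284 : ∀ i, i < 91284 → P i := stepQ 91283 Q91283 (allL N91283 (tt N83187 F392539) (tt N107180 (iv0 F457374)) (tt N55099 F392536) (tt N107191 F457411) (tt N75463 F392537) (tt N77379 F392538) (tt N54936 (iv6 D194259)) (tt N83310 (iv7 F392541)))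
theorem Q91285 : ∀ i, i < 91285 → P i := stepQ 91284 Q91284 (allL N91284 (tt N61391 F392548) (tt N61390 F392547) (tt N61394 F392542) (tt N85994 F392543) (tt N61228 F392544) (tt N54937 (iv5 D194260)) (tt N69566 F392545) (tt N61364 F392546))
theorem Q91286 : ∀ i, i < 91286 → P i := stepQ 91285 Q91285 (allL N91285 (tt N108820 (iv1 F464120)) (tt N63167 F392551) (tt N74186 F392549) (tt N89953 F392550) (tt N54939 (iv4 D194261)) (tt N108831 F464161) (tt N108833 (iv6 F464172)) (tt N108819 (iv7 F464115)))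
theorem Q91287 : ∀ i, i < 91287 → P i := stepQ 91286 Q91286 (allL N91286 (tt N55452 F392555) (tt N59878 F392556) (tt N54944 F392552) (tt N80651 F392553) (tt N97204 (iv4 F415887)) (tt N54940 (iv5 D194262)) (tt N95605 (iv6 F408856)) (tt N54946 F392554))
theorem Q91288 : ∀ i, i < 91288 → P i := stepQ 91287 Q91287 (allL N91287 (tt N59878 F392563) (tt N55452 F392562) (tt N54946 F392557) (tt N54955 F392558) (tt N65828 F392561) (tt N54941 (iv5 D194263)) (tt N59682 F392559) (tt N54944 F392560))
theorem Q91289 : ∀ i, i < 91289 → P i := stepQ 91288 Q91288 (allL N91288 (tt N90876 F392567) (tt N90806 (iv0 F392568)) (tt N88383 F392564) (tt N81897 F392565) (tt N77927 F392566) (tt N54943 (iv5 D194264)) (tt N117443 D220702) (tt N113173 (iv7 F484323)))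
theorem Q91290 : ∀ i, i < 91290 → P i := stepQ 91289 Q91289 (allL N91289 (tt N89115 F392574) (tt N89942 F392575) (tt N88384 F392570) (tt N78991 F392571) (tt N54945 F392572) (tt N116121 (iv5 F498583)) (tt N54943 (iv6 D194265)) (tt N89940 F392573))
theorem Q91291 : ∀ i, i < 91291 → P i := stepQ 91290 Q91290 (allL N91290 (tt N65698 F392578) (tt N74248 F392579) (tt N97204 (iv2 F415883)) (tt N60134 F392580) (tt N54944 (iv4 D194266)) (tt N57356 F392577) (tt N94275 (iv6 F403917)) (tt N65828 F392576))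
theorem Q91292 : ∀ i, i < 91292 → P i := stepQ 91291 Q91291 (allL N91291 (tt N95504 F408392) (tt N95503 (iv0 F408388)) (tt N95605 F408857) (tt N67402 F392581) (tt N94275 F403920) (tt N96815 (iv5 F414087)) (tt N54944 (iv6 D194267)) (tt N95295 (iv7 F407763)))
theorem Q91293 : ∀ i, i < 91293 → P i := stepQ 91292 Q91292 (allL N91292 (tt N74248 F392585) (tt N65698 F392586) (tt N65828 F392582) (tt N95273 (iv3 F407669)) (tt N54946 (iv4 D194268)) (tt N57357 F392583) (tt N59965 F392584) (tt N97204 (iv7 F415885)))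
theorem Q91294 : ∀ i, i < 91294 → P i := stepQ 91293 Q91293 (allL N91293 (tt N58387 (iv1 F392590)) (tt N58386 F392591) (tt N58465 F392587) (tt N111443 F476390) (tt N55882 F392588) (tt N114104 (iv5 F488575)) (tt N54947 (iv6 D194269)) (tt N55880 F392589))
theorem Q91295 : ∀ i, i < 91295 → P i := stepQ 91294 Q91294 (allL N91294 (tt N96850 (iv1 F414249)) (tt N58479 (iv0 F392594)) (tt N91513 (iv2 F393435)) (tt N54949 F392592) (tt N58860 F392593) (tt N98874 (iv5 F422659)) (tt N54948 (iv6 D194270)) (tt N96806 (iv7 F414045)))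
theorem Q91296 : ∀ i, i < 91296 → P i := stepQ 91295 Q91295 (allL N91295 (tt N75365 F392599) (tt N75364 (iv0 F392600)) (tt N75366 F392595) (tt N58882 F392596) (tt N54951 F392597) (tt N102396 (iv5 F437050)) (tt N54950 (iv6 D194271)) (tt N58880 F392598))
theorem Q91297 : ∀ i, i < 91297 → P i := stepQ 91296 Q91296 (allL N91296 (tt N66690 (iv1 F392602)) (tt N54951 (iv0 D194272)) (tt N91527 (iv2 F393494)) (tt N101668 (iv3 F433771)) (tt N75386 F392601) (tt N91882 (iv5 F394815)) (tt N100699 (iv6 F430079)) (tt N91528 (iv7 F393496)))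
theorem Q91298 : ∀ i, i < 91298 → P i := stepQ 91297 Q91297 (allL N91297 (tt N54951 (iv1 D194273)) (tt N66690 F392603) (tt N91528 (iv2 F393499)) (tt N55450 F392606) (tt N75385 F392604) (tt N91885 (iv5 F394830)) (tt N68808 (iv6 F392605)) (tt N91527 (iv7 F393493)))
theorem Q91299 : ∀ i, i < 91299 → P i := stepQ 91298 Q91298 (allL N91298 (tt N91889 (iv1 F394842)) (tt N55488 (iv0 F392609)) (tt N67402 F392607) (tt N81153 (iv3 F392610)) (tt N67193 F392608) (tt N110965 (iv5 F473993)) (tt N54953 (iv6 D194274)) (tt N91888 (iv7 F394888)))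
theorem Q91300 : ∀ i, i < 91300 → P i := stepQ 91299 Q91299 (allL N91299 (tt N91944 F395064) (tt N92002 (iv0 F395326)) (tt N91949 (iv2 F395089)) (tt N59682 F392612) (tt N65829 F392613) (tt N74183 F392614) (tt N54955 (iv6 D194275)) (tt N92001 (iv7 F395320)))
theorem Q91301 : ∀ i, i < 91301 → P i := stepQ 91300 Q91300 (allL N91300 (tt N112404 F480965) (tt N111451 (iv0 F476422)) (tt N91954 (iv2 F395114)) (tt N58465 F392615) (tt N85673 F392616) (tt N111304 (iv5 F475728)) (tt N54957 (iv6 D194276)) (tt N96802 (iv7 F414023)))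
theorem Q91302 : ∀ i, i < 91302 → P i := stepQ 91301 Q91301 (allL N91301 (tt N91950 (iv1 F395095)) (tt N54958 (iv0 D194277)) (tt N86981 (iv2 F392623)) (tt N80372 F392625) (tt N86969 F392618) (tt N81533 F392617) (tt N117444 D220703) (tt N86984 (iv7 F392624)))
theorem Q91303 : ∀ i, i < 91303 → P i := stepQ 91302 Q91302 (allL N91302 (tt N54958 (iv1 D194278)) (tt N91950 (iv0 F395096)) (tt N86984 (iv2 F392628)) (tt N97489 F417068) (tt N86970 F392627) (tt N97489 (iv5 F417067)) (tt N117445 D220704) (tt N86981 F392626))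
theorem Q91304 : ∀ i, i < 91304 → P i := stepQ 91303 Q91303 (allL N91303 (tt N65628 F392632) (tt N97117 (iv0 F415521)) (tt N80414 F392629) (tt N54958 (iv3 D194279)) (tt N54961 F392630) (tt N80413 F392631) (tt N96097 (iv6 F411034)) (tt N91955 (iv7 F395118)))
theorem Q91305 : ∀ i, i < 91305 → P i := stepQ 91304 Q91304 (allL N91304 (tt N80700 F392636) (tt N58892 F392637) (tt N91524 (iv2 F393474)) (tt N79530 F392633) (tt N54959 (iv4 D194280)) (tt N81334 F392635) (tt N79664 F392634) (tt N91512 (iv7 F393430)))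
theorem Q91306 : ∀ i, i < 91306 → P i := stepQ 91305 Q91305 (allL N91305 (tt N84652 (iv1 F392643)) (tt N84651 F392644) (tt N84653 F392638) (tt N85718 F392639) (tt N87457 F392640) (tt N88029 F392641) (tt N87077 F392642) (tt N54960 (iv7 D194281)))
theorem Q91307 : ∀ i, i < 91307 → P i := stepQ 91306 Q91306 (allL N91306 (tt N54961 (iv1 D194282)) (tt N91963 F395157) (tt N91961 F395150) (tt N85727 (iv3 F392645)) (tt N97116 F415516) (tt N99669 (iv5 F425669)) (tt N85725 F392646) (tt N91962 (iv7 F395149)))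
theorem Q91308 : ∀ i, i < 91308 → P i := stepQ 91307 Q91307 (allL N91307 (tt N91962 (iv1 F395152)) (tt N91961 F395143) (tt N54961 (iv2 D194283)) (tt N91516 (iv3 F393442)) (tt N80414 F392647) (tt N108531 (iv5 F462969)) (tt N97500 (iv6 F417125)) (tt N91963 (iv7 F395155)))
theorem Q91309 : ∀ i, i < 91309 → P i := stepQ 91308 Q91308 (allL N91308 (tt N105024 F448439) (tt N63060 F392651) (tt N99744 (iv2 F426016)) (tt N98151 (iv3 F419720)) (tt N54964 (iv4 D194284)) (tt N74960 F392650) (tt N80485 F392648) (tt N75552 F392649))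
theorem Q91310 : ∀ i, i < 91310 → P i := stepQ 91309 Q91309 (allL N91309 (tt N92560 F397381) (tt N75955 (iv0 F392657)) (tt N87463 (iv2 F392656)) (tt N54967 (iv3 D194285)) (tt N58548 F392653) (tt N66722 F392654) (tt N76137 F392655) (tt N92577 (iv7 F397455)))
theorem Q91311 : ∀ i, i < 91311 → P i := stepQ 91310 Q91310 (allL N91310 (tt N75223 F392662) (tt N68582 F392663) (tt N75221 F392658) (tt N75659 F392659) (tt N78560 F392661) (tt N54969 (iv5 D194286)) (tt N76587 F392664) (tt N75222 F392660))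
theorem Q91312 : ∀ i, i < 91312 → P i := stepQ 91311 Q91311 (allL N91311 (tt N75211 F392669) (tt N63440 (iv0 F392670)) (tt N54973 F392665) (tt N89460 F392666) (tt N54972 (iv4 D194287)) (tt N80313 F392668) (tt N64019 F392671) (tt N59999 F392667))
theorem Q91313 : ∀ i, i < 91313 → P i := stepQ 91312 Q91312 (allL N91312 (tt N87361 (iv1 F403137)) (tt N94084 F403136) (tt N54975 F392672) (tt N111774 (iv3 F477905)) (tt N64019 F392673) (tt N115822 (iv5 F497080)) (tt N54972 (iv6 D194288)) (tt N58490 F392674))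
theorem Q91314 : ∀ i, i < 91314 → P i := stepQ 91313 Q91313 (allL N91313 (tt N59999 (iv1 F392679)) (tt N54973 (iv0 D194289)) (tt N75211 (iv2 F392678)) (tt N64218 F392677) (tt N83153 F392676) (tt N63441 F392675) (tt N74826 (iv6 F392681)) (tt N63440 F392680))
theorem Q91315 : ∀ i, i < 91315 → P i := stepQ 91314 Q91314 (allL N91314 (tt N80314 F392686) (tt N80309 (iv0 F392688)) (tt N80313 F392682) (tt N75223 F392683) (tt N68559 F392687) (tt N54973 (iv5 D194290)) (tt N64273 F392684) (tt N75212 F392685))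
theorem Q91316 : ∀ i, i < 91316 → P i := stepQ 91315 Q91315 (allL N91315 (tt N106121 (iv1 F453217)) (tt N90667 F392691) (tt N106123 (iv2 F453228)) (tt N108044 (iv3 F460862)) (tt N54974 (iv4 D194291)) (tt N108052 (iv5 F460890)) (tt N55991 F392689) (tt N55992 F392690))
theorem Q91317 : ∀ i, i < 91317 → P i := stepQ 91316 Q91316 (allL N91316 (tt N58490 (iv1 F392693)) (tt N54975 (iv0 D194292)) (tt N87361 (iv2 F392699)) (tt N87403 (iv3 F392694)) (tt N77980 F392692) (tt N88204 (iv5 F392695)) (tt N87351 F392698) (tt N94084 (iv7 F403133)))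
theorem Q91318 : ∀ i, i < 91318 → P i := stepQ 91317 Q91317 (allL N91317 (tt N54975 (iv1 D194293)) (tt N58490 F392700) (tt N94084 (iv2 F403132)) (tt N83817 (iv3 F392706)) (tt N94081 (iv4 F403120)) (tt N83814 F392702) (tt N111721 (iv6 F477657)) (tt N87361 F392701))
theorem Q91319 : ∀ i, i < 91319 → P i := stepQ 91318 Q91318 (allL N91318 (tt N108944 (iv1 F464610)) (tt N91935 (iv0 F395019)) (tt N91883 (iv2 F394817)) (tt N111111 (iv3 F474719)) (tt N80755 F392707) (tt N55555 F392708) (tt N54976 (iv6 D194294)) (tt N91886 (iv7 F394833)))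
theorem Q91320 : ∀ i, i < 91320 → P i := stepQ 91319 Q91319 (allL N91319 (tt N54982 (iv1 F392711)) (tt N54978 (iv0 D194295)) (tt N90677 (iv2 F392713)) (tt N66422 (iv3 F392714)) (tt N87754 F392709) (tt N66941 F392710) (tt N107943 (iv6 F460403)) (tt N90675 F392715))
theorem Q91321 : ∀ i, i < 91321 → P i := stepQ 91320 Q91320 (allL N91320 (tt N54978 (iv1 D194296)) (tt N54982 F392716) (tt N90675 F392720) (tt N66566 (iv3 F392719)) (tt N89239 F392718) (tt N103890 (iv5 F443232)) (tt N75676 F392721) (tt N90677 F392717))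
theorem Q91322 : ∀ i, i < 91322 → P i := stepQ 91321 Q91321 (allL N91321 (tt N66417 F392725) (tt N66552 F392726) (tt N82184 F392722) (tt N112043 (iv3 F479224)) (tt N54979 F392723) (tt N67585 F392724) (tt N54978 (iv6 D194297)) (tt N82183 (iv7 F392727)))
theorem Q91323 : ∀ i, i < 91323 → P i := stepQ 91322 Q91322 (allL N91322 (tt N108271 (iv1 F461810)) (tt N54979 (iv0 D194298)) (tt N66447 (iv2 F392730)) (tt N116508 (iv3 F500520)) (tt N66242 F392728) (tt N84694 F392729) (tt N55008 (iv6 F392732)) (tt N66443 (iv7 F392731)))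
theorem Q91324 : ∀ i, i < 91324 → P i := stepQ 91323 Q91323 (allL N91323 (tt N54979 (iv1 D194299)) (tt N108271 (iv0 F461809)) (tt N66443 (iv2 F392735)) (tt N59117 (iv3 F392736)) (tt N66243 F392737) (tt N84693 F392734) (tt N117446 D220705) (tt N66447 F392733))
theorem Q91325 : ∀ i, i < 91325 → P i := stepQ 91324 Q91324 (allL N91324 (tt N66443 (iv1 F392741)) (tt N66447 F392742) (tt N108271 (iv2 F461804)) (tt N55988 F392738) (tt N82183 F392739) (tt N115824 (iv5 F497095)) (tt N55987 F392740) (tt N54979 (iv7 D194300)))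
theorem Q91326 : ∀ i, i < 91326 → P i := stepQ 91325 Q91325 (allL N91325 (tt N73530 (iv1 F392748)) (tt N73446 (iv0 F392746)) (tt N73529 F392743) (tt N116128 (iv3 F498624)) (tt N54981 (iv4 D194301)) (tt N117447 D220706) (tt N66512 F392744) (tt N73465 F392745))
theorem Q91327 : ∀ i, i < 91327 → P i := stepQ 91326 Q91326 (allL N91326 (tt N66428 F392749) (tt N111807 (iv0 F478075)) (tt N112042 (iv2 F479217)) (tt N54982 (iv3 D194302)) (tt N116128 (iv4 F498623)) (tt N104799 (iv5 F447337)) (tt N112310 (iv6 F480485)) (tt N104798 F447334))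
theorem Q91328 : ∀ i, i < 91328 → P i := stepQ 91327 Q91327 (allL N91327 (tt N77717 F392755) (tt N77715 (iv0 F392753)) (tt N71044 F392750) (tt N112310 F480483) (tt N54983 F392751) (tt N71037 F392752) (tt N54982 (iv6 D194303)) (tt N77716 (iv7 F392754)))
theorem Q91329 : ∀ i, i < 91329 → P i := stepQ 91328 Q91328 (allL N91328 (tt N108708 F463642) (tt N90705 (iv0 F392757)) (tt N116540 F500681) (tt N102816 (iv3 F438776)) (tt N54984 (iv4 D194304)) (tt N74311 F392756) (tt N102813 (iv6 F438752)) (tt N115685 (iv7 F496305)))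
theorem Q91330 : ∀ i, i < 91330 → P i := stepQ 91329 Q91329 (allL N91329 (tt N62640 F392774) (tt N110963 F473988) (tt N110962 F473980) (tt N54986 F392758) (tt N102813 F438753) (tt N114180 (iv5 F488867)) (tt N54984 (iv6 D194305)) (tt N103960 (iv7 F443532)))
theorem Q91331 : ∀ i, i < 91331 → P i := stepQ 91330 Q91330 (allL N91330 (tt N54987 (iv1 F392762)) (tt N54985 (iv0 D194306)) (tt N77686 (iv2 F392761)) (tt N103091 F440022) (tt N68107 F392760) (tt N68583 F392759) (tt N81830 (iv6 F392764)) (tt N77685 F392763))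
theorem Q91332 : ∀ i, i < 91332 → P i := stepQ 91331 Q91331 (allL N91331 (tt N81477 F392767) (tt N102728 F438385) (tt N80637 (iv2 F392768)) (tt N54985 (iv3 D194307)) (tt N102816 (iv4 F438777)) (tt N63502 F392765) (tt N102815 F438774) (tt N80640 F392766))
theorem Q91333 : ∀ i, i < 91333 → P i := stepQ 91332 Q91332 (allL N91332 (tt N67044 F392772) (tt N66934 F392773) (tt N110044 F469701) (tt N102815 (iv3 F438771)) (tt N54986 F392769) (tt N66717 F392770) (tt N54985 (iv6 D194308)) (tt N82150 F392771))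
theorem Q91334 : ∀ i, i < 91334 → P i := stepQ 91333 Q91333 (allL N91333 (tt N67028 (iv1 F392778)) (tt N54986 (iv0 D194309)) (tt N67031 (iv2 F392777)) (tt N116470 (iv3 F500297)) (tt N66921 F392776) (tt N66708 F392775) (tt N55042 F392780) (tt N66920 F392779))
theorem Q91335 : ∀ i, i < 91335 → P i := stepQ 91334 Q91334 (allL N91334 (tt N94064 F403040) (tt N116142 (iv0 F498711)) (tt N112478 (iv2 F481250)) (tt N54987 (iv3 D194310)) (tt N113219 (iv4 F484540)) (tt N112074 (iv5 F479370)) (tt N82151 F392783) (tt N110507 (iv7 F471899)))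
theorem Q91336 : ∀ i, i < 91336 → P i := stepQ 91335 Q91335 (allL N91335 (tt N93165 (iv1 F399756)) (tt N103951 (iv0 F443503)) (tt N82148 F392784) (tt N107159 (iv3 F457244)) (tt N65323 F392785) (tt N108638 (iv5 F463317)) (tt N67028 F392786) (tt N54988 (iv7 D194311)))
theorem Q91337 : ∀ i, i < 91337 → P i := stepQ 91336 Q91336 (allL N91336 (tt N81107 F392789) (tt N77186 F392790) (tt N54990 (iv2 D194312)) (tt N77743 F392787) (tt N91574 (iv4 F393680)) (tt N105724 F451426) (tt N55048 F392788) (tt N100420 (iv7 F428891)))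
theorem Q91338 : ∀ i, i < 91338 → P i := stepQ 91337 Q91337 (allL N91337 (tt N105722 F451416) (tt N105725 F451431) (tt N105724 (iv2 F451427)) (tt N54991 F392791) (tt N111103 (iv4 F474682)) (tt N54990 (iv5 D194313)) (tt N112115 (iv6 F479557)) (tt N105723 F451421))
theorem Q91339 : ∀ i, i < 91339 → P i := stepQ 91338 Q91338 (allL N91338 (tt N77186 (iv1 F392793)) (tt N81107 F392794) (tt N100420 (iv2 F428888)) (tt N54992 F392792) (tt N91575 (iv4 F393684)) (tt N105723 (iv5 F451418)) (tt N117448 D220707) (tt N54990 (iv7 D194314)))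
theorem Q91340 : ∀ i, i < 91340 → P i := stepQ 91339 Q91339 (allL N91339 (tt N78560 F392800) (tt N54991 (iv0 D194315)) (tt N78549 (iv2 F392797)) (tt N63256 F392798) (tt N69312 F392799) (tt N66246 F392795) (tt N63254 F392796) (tt N111930 (iv7 F478722)))
theorem Q91341 : ∀ i, i < 91341 → P i := stepQ 91340 Q91340 (allL N91340 (tt N68582 F392803) (tt N75223 F392804) (tt N75222 F392801) (tt N89725 F392805) (tt N54991 (iv4 D194316)) (tt N75341 F392802) (tt N112129 F479644) (tt N75221 (iv7 F392806)))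
theorem Q91342 : ∀ i, i < 91342 → P i := stepQ 91341 Q91341 (allL N91341 (tt N111930 (iv1 F478723)) (tt N78549 (iv0 F392811)) (tt N78560 F392807) (tt N105723 F451420) (tt N75221 F392808) (tt N54992 F392809) (tt N78554 F392810) (tt N54991 (iv7 D194317)))
theorem Q91343 : ∀ i, i < 91343 → P i := stepQ 91342 Q91342 (allL N91342 (tt N108679 F463512) (tt N112847 (iv0 F482942)) (tt N112386 (iv2 F480855)) (tt N117448 (iv3 F505085)) (tt N54993 F392812) (tt N112381 (iv5 F480829)) (tt N54992 (iv6 D194318)) (tt N55051 F392813))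
theorem Q91344 : ∀ i, i < 91344 → P i := stepQ 91343 Q91343 (allL N91343 (tt N63167 F392816) (tt N108820 F464121) (tt N108819 F464113) (tt N55903 F392814) (tt N54995 (iv4 D194319)) (tt N117449 D220708) (tt N107351 (iv6 F458059)) (tt N74186 F392815))
theorem Q91345 : ∀ i, i < 91345 → P i := stepQ 91344 Q91344 (allL N91344 (tt N59791 F392819) (tt N95341 F407926) (tt N95339 (iv2 F407912)) (tt N74048 F392817) (tt N107351 (iv4 F458056)) (tt N74171 F392818) (tt N54995 (iv6 D194320)) (tt N95338 F407906))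
theorem Q91346 : ∀ i, i < 91346 → P i := stepQ 91345 Q91345 (allL N91345 (tt N96846 (iv1 F414237)) (tt N55984 F392821) (tt N54999 F392820) (tt N94363 (iv3 F404138)) (tt N54996 (iv4 D194321)) (tt N116649 (iv5 F501139)) (tt N94362 F404133) (tt N96844 (iv7 F414228)))
theorem Q91347 : ∀ i, i < 91347 → P i := stepQ 91346 Q91346 (allL N91346 (tt N63160 F392825) (tt N76053 F392826) (tt N76052 F392822) (tt N57590 F392823) (tt N54997 (iv4 D194322)) (tt N117450 D220709) (tt N117451 D220710) (tt N55901 F392824))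
theorem Q91348 : ∀ i, i < 91348 → P i := stepQ 91347 Q91347 (allL N91347 (tt N106114 (iv1 F453179)) (tt N106113 F453187) (tt N106116 (iv2 F453192)) (tt N91594 (iv3 F393730)) (tt N117451 (iv4 F505106)) (tt N114103 (iv5 F488571)) (tt N54997 (iv6 D194323)) (tt N71045 F392827))
theorem Q91349 : ∀ i, i < 91349 → P i := stepQ 91348 Q91348 (allL N91348 (tt N76053 F392831) (tt N63160 (iv0 F392832)) (tt N55901 F392828) (tt N109688 (iv3 F468113)) (tt N54998 (iv4 D194324)) (tt N117452 D220711) (tt N55855 F392829) (tt N76052 F392830))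
theorem Q91350 : ∀ i, i < 91350 → P i := stepQ 91349 Q91349 (allL N91349 (tt N96844 (iv1 F414227)) (tt N54999 (iv0 D194325)) (tt N96846 (iv2 F414233)) (tt N117453 D220712) (tt N55277 F392833) (tt N117454 D220713) (tt N93584 (iv6 F401211)) (tt N55984 (iv7 F392834)))
theorem Q91351 : ∀ i, i < 91351 → P i := stepQ 91350 Q91350 (allL N91350 (tt N117455 D220714) (tt N109573 (iv0 F472616)) (tt N116649 (iv2 F501138)) (tt N92374 F396855) (tt N116632 (iv4 F501070)) (tt N54999 (iv5 D194326)) (tt N117456 D220715) (tt N116636 (iv7 F501086)))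
theorem Q91352 : ∀ i, i < 91352 → P i := stepQ 91351 Q91351 (allL N91351 (tt N117457 D220716) (tt N97237 F416017) (tt N91580 (iv2 F393694)) (tt N77752 F392835) (tt N55002 (iv4 D194327)) (tt N117458 D220717) (tt N107529 (iv6 F458674)) (tt N98875 F422666))
theorem Q91353 : ∀ i, i < 91353 → P i := stepQ 91352 Q91352 (allL N91352 (tt N117119 F503491) (tt N117459 D220718) (tt N91581 (iv2 F393695)) (tt N55004 F392836) (tt N107529 (iv4 F458673)) (tt N84587 F392837) (tt N55002 (iv6 D194328)) (tt N107526 (iv7 F458668)))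
theorem Q91354 : ∀ i, i < 91354 → P i := stepQ 91353 Q91353 (allL N91353 (tt N81127 (iv1 F392842)) (tt N55004 (iv0 D194329)) (tt N67048 (iv2 F392840)) (tt N117460 D220719) (tt N66922 F392839) (tt N88057 F392838) (tt N91621 (iv6 F393793)) (tt N67056 F392841))
theorem Q91355 : ∀ i, i < 91355 → P i := stepQ 91354 Q91354 (allL N91354 (tt N67056 (iv1 F392847)) (tt N67048 F392848) (tt N81127 F392843) (tt N107526 (iv3 F458666)) (tt N67012 F392844) (tt N84592 F392845) (tt N71043 F392846) (tt N55004 (iv7 D194330)))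
theorem Q91356 : ∀ i, i < 91356 → P i := stepQ 91355 Q91355 (allL N91355 (tt N66922 F392852) (tt N66923 (iv0 F392853)) (tt N63777 F392849) (tt N77699 F392850) (tt N83220 F392851) (tt N102987 (iv5 F439557)) (tt N55005 (iv6 D194331)) (tt N67047 F392854))
theorem Q91357 : ∀ i, i < 91357 → P i := stepQ 91356 Q91356 (allL N91356 (tt N66325 (iv1 F392856)) (tt N66327 F392855) (tt N55006 (iv2 D194332)) (tt N103184 F440464) (tt N94204 (iv4 F403690)) (tt N92380 (iv5 F396883)) (tt N94203 F403688) (tt N92379 (iv7 F396876)))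
theorem Q91358 : ∀ i, i < 91358 → P i := stepQ 91357 Q91357 (allL N91357 (tt N112734 F482428) (tt N110771 (iv0 F473119)) (tt N94203 (iv2 F403685)) (tt N55007 F392857) (tt N94201 (iv4 F403676)) (tt N99560 (iv5 F425162)) (tt N55006 (iv6 D194333)) (tt N82181 (iv7 F392858)))
theorem Q91359 : ∀ i, i < 91359 → P i := stepQ 91358 Q91358 (allL N91358 (tt N60297 F392860) (tt N91459 (iv0 F393228)) (tt N91589 (iv2 F393712)) (tt N55008 (iv3 D194334)) (tt N77983 F392859) (tt N116039 (iv5 F498185)) (tt N116508 (iv6 F500521)) (tt N99274 (iv7 F423901)))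
theorem Q91360 : ∀ i, i < 91360 → P i := stepQ 91359 Q91359 (allL N91359 (tt N87121 F392863) (tt N87485 F392864) (tt N87483 F392861) (tt N116039 (iv3 F498184)) (tt N104882 (iv4 F447789)) (tt N55008 (iv5 D194335)) (tt N114819 F492049) (tt N87482 F392862))
theorem Q91361 : ∀ i, i < 91361 → P i := stepQ 91360 Q91360 (allL N91360 (tt N87485 F392867) (tt N87121 F392868) (tt N87482 F392865) (tt N91592 (iv3 F393723)) (tt N98124 (iv4 F419565)) (tt N55009 (iv5 D194336)) (tt N74043 F392869) (tt N87483 F392866))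
theorem Q91362 : ∀ i, i < 91362 → P i := stepQ 91361 Q91361 (allL N91361 (tt N91618 F393788) (tt N91621 (iv0 F393794)) (tt N99282 (iv2 F423924)) (tt N91593 (iv3 F393728)) (tt N110396 (iv4 F471387)) (tt N96071 (iv5 F410908)) (tt N55009 (iv6 D194337)) (tt N117446 (iv7 F505075)))
theorem Q91363 : ∀ i, i < 91363 → P i := stepQ 91362 Q91362 (allL N91362 (tt N72301 F392872) (tt N114572 F490822) (tt N55016 F392870) (tt N109349 (iv3 F466512)) (tt N55012 (iv4 D194338)) (tt N96390 F412358) (tt N110892 (iv6 F473644)) (tt N70235 F392871))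
theorem Q91364 : ∀ i, i < 91364 → P i := stepQ 91363 Q91363 (allL N91363 (tt N107238 (iv1 F457593)) (tt N115111 (iv0 F493535)) (tt N55017 F392873) (tt N97344 (iv3 F416434)) (tt N110892 F473641) (tt N115653 (iv5 F496163)) (tt N55012 (iv6 D194339)) (tt N97335 (iv7 F416404)))
theorem Q91365 : ∀ i, i < 91365 → P i := stepQ 91364 Q91364 (allL N91364 (tt N77511 F392877) (tt N77510 F392878) (tt N75519 F392874) (tt N77517 F392875) (tt N55014 (iv4 D194340)) (tt N114908 (iv5 F492472)) (tt N96085 (iv6 F410973)) (tt N77512 F392876))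
theorem Q91366 : ∀ i, i < 91366 → P i := stepQ 91365 Q91365 (allL N91365 (tt N117460 F505150) (tt N108951 (iv0 F464630)) (tt N114571 (iv2 F490813)) (tt N76248 F392879) (tt N77514 F392880) (tt N88156 F392881) (tt N55015 (iv6 D194341)) (tt N106109 (iv7 F453158)))
theorem Q91367 : ∀ i, i < 91367 → P i := stepQ 91366 Q91366 (allL N91366 (tt N70235 (iv1 F392883)) (tt N55016 (iv0 D194342)) (tt N72301 (iv2 F392884)) (tt N109941 (iv3 F469320)) (tt N55275 F392882) (tt N117461 D220720) (tt N93652 F401441) (tt N114572 (iv7 F490823)))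
theorem Q91368 : ∀ i, i < 91368 → P i := stepQ 91367 Q91367 (allL N91367 (tt N55016 (iv1 D194343)) (tt N70235 F392885) (tt N114572 F490821) (tt N57816 (iv3 F392888)) (tt N55274 F392887) (tt N116398 (iv5 F499884)) (tt N101152 F431960) (tt N72301 F392886))
theorem Q91369 : ∀ i, i < 91369 → P i := stepQ 91368 Q91368 (allL N91368 (tt N115758 (iv1 F496703)) (tt N96695 (iv0 F413506)) (tt N96390 (iv2 F412357)) (tt N110545 (iv3 F472071)) (tt N114577 (iv4 F490845)) (tt N55016 (iv5 D194344)) (tt N95991 F412356) (tt N114573 (iv7 F490827)))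
theorem Q91370 : ∀ i, i < 91370 → P i := stepQ 91369 Q91369 (allL N91369 (tt N108943 F464605) (tt N73532 (iv0 F404513)) (tt N110892 (iv2 F473643)) (tt N110546 (iv3 F472077)) (tt N55017 F392889) (tt N96402 (iv5 F412355)) (tt N55016 (iv6 D194345)) (tt N70230 F392890))
theorem Q91371 : ∀ i, i < 91371 → P i := stepQ 91370 Q91370 (allL N91370 (tt N97335 (iv1 F416406)) (tt N55017 (iv0 D194346)) (tt N107238 (iv2 F466465)) (tt N115108 (iv3 F493514)) (tt N108928 (iv4 F464529)) (tt N117462 D220721) (tt N108927 F464527) (tt N115111 (iv7 F493534)))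
theorem Q91372 : ∀ i, i < 91372 → P i := stepQ 91371 Q91371 (allL N91371 (tt N55017 (iv1 D194347)) (tt N97335 F416405) (tt N115111 (iv2 F493532)) (tt N76250 (iv3 F466467)) (tt N110896 (iv4 F473658)) (tt N115635 (iv5 F496074)) (tt N99575 F466468) (tt N107238 F466466))
theorem Q91373 : ∀ i, i < 91373 → P i := stepQ 91372 Q91372 (allL N91372 (tt N116023 F498106) (tt N117463 D220722) (tt N115653 (iv2 F496160)) (tt N55025 F392891) (tt N115857 (iv4 F497263)) (tt N55017 (iv5 D194348)) (tt N55020 F392892) (tt N117464 D220723))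
theorem Q91374 : ∀ i, i < 91374 → P i := stepQ 91373 Q91373 (allL N91373 (tt N115111 F493536) (tt N107238 (iv0 F457592)) (tt N97335 (iv2 F416402)) (tt N55026 F392893) (tt N70230 F392894) (tt N117464 (iv5 F505167)) (tt N70228 F392895) (tt N55017 (iv7 D194349)))
theorem Q91375 : ∀ i, i < 91375 → P i := stepQ 91374 Q91374 (allL N91374 (tt N79951 F392896) (tt N79939 F392897) (tt N111766 (iv2 F477861)) (tt N115954 F497757) (tt N55020 (iv4 D194350)) (tt N98122 (iv5 F419552)) (tt N115857 F497261) (tt N111769 (iv7 F477877)))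
theorem Q91376 : ∀ i, i < 91376 → P i := stepQ 91375 Q91375 (allL N91375 (tt N103184 (iv1 F440461)) (tt N55021 (iv0 D194351)) (tt N77526 (iv2 F392900)) (tt N57383 F392898) (tt N72307 F392899) (tt N66315 (iv5 F392903)) (tt N66397 (iv6 F392902)) (tt N77522 F392901))
theorem Q91377 : ∀ i, i < 91377 → P i := stepQ 91376 Q91376 (allL N91376 (tt N77526 (iv1 F392907)) (tt N77522 F392906) (tt N55021 (iv2 D194352)) (tt N92379 (iv3 F396875)) (tt N89600 F392904) (tt N77981 F392905) (tt N117465 D220724) (tt N103184 (iv7 F440462)))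
theorem Q91378 : ∀ i, i < 91378 → P i := stepQ 91377 Q91377 (allL N91377 (tt N109305 F466304) (tt N117466 D220725) (tt N117465 (iv2 F505168)) (tt N55022 F392912) (tt N110546 (iv4 F472078)) (tt N87359 (iv5 F392925)) (tt N55021 (iv6 D194353)) (tt N117467 D220726))
theorem Q91379 : ∀ i, i < 91379 → P i := stepQ 91378 Q91378 (allL N91378 (tt N82182 (iv1 F392930)) (tt N55022 (iv0 D194354)) (tt N91437 (iv2 F393124)) (tt N63075 (iv3 F392914)) (tt N91282 F392916) (tt N109267 (iv5 F466081)) (tt N79370 F392913) (tt N75676 (iv7 F392915)))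
theorem Q91380 : ∀ i, i < 91380 → P i := stepQ 91379 Q91379 (allL N91379 (tt N66844 F392921) (tt N83303 F392923) (tt N64720 F392918) (tt N87359 F392924) (tt N64699 (iv4 F392922)) (tt N55022 (iv5 D194356)) (tt N82159 F392919) (tt N64716 (iv7 F392920)))
theorem Q91381 : ∀ i, i < 91381 → P i := stepQ 91380 Q91380 (allL N91380 (tt N75676 (iv1 F392931)) (tt N91437 F393129) (tt N82182 F392926) (tt N117467 (iv3 F505181)) (tt N55026 F392927) (tt N64716 F392928) (tt N65332 F392929) (tt N55022 (iv7 D194357)))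
theorem Q91382 : ∀ i, i < 91382 → P i := stepQ 91381 Q91381 (allL N91381 (tt N57389 F392941) (tt N55093 (iv0 F392940)) (tt N112732 (iv2 F482409)) (tt N81094 (iv3 F392939)) (tt N55023 (iv4 D194359)) (tt N114807 (iv5 F491974)) (tt N81092 F392938) (tt N117147 (iv7 F503631)))
theorem Q91383 : ∀ i, i < 91383 → P i := stepQ 91382 Q91382 (allL N91382 (tt N114805 (iv1 F491963)) (tt N116003 F497999) (tt N116004 (iv2 F498000)) (tt N91600 (iv3 F393747)) (tt N117468 D220727) (tt N55023 (iv5 D194360)) (tt N111905 (iv6 F478569)) (tt N87427 F392935))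
theorem Q91384 : ∀ i, i < 91384 → P i := stepQ 91383 Q91383 (allL N91383 (tt N91935 (iv1 F395020)) (tt N108944 (iv0 F464609)) (tt N91886 (iv2 F394832)) (tt N91601 (iv3 F393753)) (tt N81092 (iv4 F392937)) (tt N55556 F392936) (tt N55023 (iv6 D194361)) (tt N91883 (iv7 F394820)))
theorem Q91385 : ∀ i, i < 91385 → P i := stepQ 91384 Q91384 (allL N91384 (tt N55093 (iv1 F392947)) (tt N57389 F392945) (tt N117147 (iv2 F503627)) (tt N77758 F392946) (tt N55024 (iv4 D194362)) (tt N81513 F392948) (tt N81051 F392944) (tt N112732 (iv7 F482411)))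
theorem Q91386 : ∀ i, i < 91386 → P i := stepQ 91385 Q91385 (allL N91385 (tt N114119 (iv1 F488628)) (tt N55025 (iv0 D194363)) (tt N114117 F488614) (tt N84621 (iv3 F440193)) (tt N117029 (iv4 F503044)) (tt N67003 F392949) (tt N114114 (iv6 F488600)) (tt N114118 (iv7 F488618)))
theorem Q91387 : ∀ i, i < 91387 → P i := stepQ 91386 Q91386 (allL N91386 (tt N55025 (iv1 D194364)) (tt N114119 F488627) (tt N114118 (iv2 F488620)) (tt N116060 (iv3 F498273)) (tt N117030 (iv4 F503049)) (tt N106442 (iv5 F454461)) (tt N116036 F498171) (tt N114117 F488615))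
theorem Q91388 : ∀ i, i < 91388 → P i := stepQ 91387 Q91387 (allL N91387 (tt N114118 (iv1 F488617)) (tt N114117 (iv0 F488616)) (tt N114119 (iv2 F488623)) (tt N117464 (iv3 F505166)) (tt N117014 (iv4 F502975)) (tt N55026 F392950) (tt N114122 (iv6 F488642)) (tt N55025 (iv7 D194365)))
theorem Q91389 : ∀ i, i < 91389 → P i := stepQ 91388 Q91388 (allL N91388 (tt N108710 F463651) (tt N83157 F392952) (tt N55028 F392951) (tt N110437 (iv3 F471592)) (tt N55027 (iv4 D194366)) (tt N116687 (iv5 F501304)) (tt N93691 (iv6 F401580)) (tt N116054 (iv7 F498256)))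
theorem Q91390 : ∀ i, i < 91390 → P i := stepQ 91389 Q91389 (allL N91389 (tt N103961 F443541) (tt N62662 (iv0 F392955)) (tt N55029 F392953) (tt N93945 (iv3 F402525)) (tt N93691 (iv4 F401579)) (tt N91973 (iv5 F395194)) (tt N55027 (iv6 D194367)) (tt N74114 F392954))
theorem Q91391 : ∀ i, i < 91391 → P i := stepQ 91390 Q91390 (allL N91390 (tt N116054 (iv1 F498258)) (tt N55028 (iv0 D194368)) (tt N108710 (iv2 F463647)) (tt N95327 F407867) (tt N55269 F392956) (tt N117455 (iv5 F505127)) (tt N108688 (iv6 F463563)) (tt N83157 (iv7 F392957)))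
theorem Q91392 : ∀ i, i < 91392 → P i := stepQ 91391 Q91391 (allL N91391 (tt N55028 (iv1 D194369)) (tt N116054 (iv0 F498257)) (tt N83157 F392959) (tt N100104 (iv3 F427525)) (tt N83150 (iv4 F392958)) (tt N109573 (iv5 F467583)) (tt N90705 F392960) (tt N108710 (iv7 F463649)))
theorem Q91393 : ∀ i, i < 91393 → P i := stepQ 91392 Q91392 (allL N91392 (tt N92501 (iv1 F397183)) (tt N117469 D220728) (tt N116687 (iv2 F501303)) (tt N102740 (iv3 F438440)) (tt N116681 (iv4 F501283)) (tt N55028 (iv5 D194370)) (tt N117470 D220729) (tt N116061 (iv7 F498276)))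
theorem Q91394 : ∀ i, i < 91394 → P i := stepQ 91393 Q91393 (allL N91393 (tt N93694 (iv1 F401590)) (tt N55970 (iv0 F392963)) (tt N93691 F401578) (tt N90470 F392961) (tt N55029 F392962) (tt N112510 (iv5 F481429)) (tt N55028 (iv6 D194371)) (tt N93692 F401577))
theorem Q91395 : ∀ i, i < 91395 → P i := stepQ 91394 Q91394 (allL N91394 (tt N62662 (iv1 F392969)) (tt N103961 (iv0 F443540)) (tt N74114 F392964) (tt N55035 F392965) (tt N93692 (iv4 F401575)) (tt N81588 F392966) (tt N62637 F392967) (tt N55029 (iv7 D194373)))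
theorem Q91396 : ∀ i, i < 91396 → P i := stepQ 91395 Q91395 (allL N91395 (tt N111512 (iv1 F476658)) (tt N55032 (iv0 D194374)) (tt N65325 (iv2 F392974)) (tt N65188 F392971) (tt N68101 F392970) (tt N79367 F392973) (tt N65324 F392972) (tt N102763 (iv7 F438531)))
theorem Q91397 : ∀ i, i < 91397 → P i := stepQ 91396 Q91396 (allL N91396 (tt N102763 (iv1 F438533)) (tt N65325 (iv0 F392978)) (tt N111512 (iv2 F476652)) (tt N90461 F392975) (tt N55035 F392976) (tt N80769 F392977) (tt N102758 F438506) (tt N55032 (iv7 D194375)))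
theorem Q91398 : ∀ i, i < 91398 → P i := stepQ 91397 Q91397 (allL N91397 (tt N78652 F392981) (tt N91465 (iv0 F408673)) (tt N91606 (iv2 F393765)) (tt N55033 (iv3 D194376)) (tt N62118 F392979) (tt N112038 (iv5 F479200)) (tt N115712 (iv6 F496453)) (tt N62114 F392980))
theorem Q91399 : ∀ i, i < 91399 → P i := stepQ 91398 Q91398 (allL N91398 (tt N55429 (iv1 F392983)) (tt N91936 F395024) (tt N91934 F395014) (tt N112038 (iv3 F479197)) (tt N55450 F392982) (tt N55033 (iv5 D194377)) (tt N93155 (iv6 F399697)) (tt N91850 F394679))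
theorem Q91400 : ∀ i, i < 91400 → P i := stepQ 91399 Q91399 (allL N91399 (tt N91936 (iv1 F395025)) (tt N55429 F392985) (tt N91850 (iv2 F394676)) (tt N79523 (iv3 F392987)) (tt N55449 F392984) (tt N55034 (iv5 D194378)) (tt N55539 F392986) (tt N91934 (iv7 F395011)))
theorem Q91401 : ∀ i, i < 91401 → P i := stepQ 91400 Q91400 (allL N91400 (tt N59781 (iv1 F392993)) (tt N95334 (iv0 F407893)) (tt N62112 F392989) (tt N91609 (iv3 F393771)) (tt N62137 F392990) (tt N58369 F392991) (tt N55034 (iv6 D194379)) (tt N71041 (iv7 F392992)))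
theorem Q91402 : ∀ i, i < 91402 → P i := stepQ 91401 Q91401 (allL N91401 (tt N96629 F421796) (tt N99334 (iv0 F424144)) (tt N107793 (iv2 F459747)) (tt N114989 (iv3 F492945)) (tt N117471 D220730) (tt N55037 (iv5 D194380)) (tt N101414 F432903) (tt N117441 (iv7 F505042)))
theorem Q91403 : ∀ i, i < 91403 → P i := stepQ 91402 Q91402 (allL N91402 (tt N74111 (iv1 F392997)) (tt N55038 (iv0 D194381)) (tt N62653 (iv2 F392996)) (tt N70905 F392995) (tt N94941 (iv4 F406435)) (tt N61595 F392994) (tt N117116 (iv6 F503482)) (tt N71623 F392998))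
theorem Q91404 : ∀ i, i < 91404 → P i := stepQ 91403 Q91403 (allL N91403 (tt N55039 (iv1 D194382)) (tt N102722 F438361) (tt N71369 F393000) (tt N77683 F393001) (tt N99337 (iv4 F424158)) (tt N60078 (iv5 F392999)) (tt N60081 F393002) (tt N102720 (iv7 F438351)))
theorem Q91405 : ∀ i, i < 91405 → P i := stepQ 91404 Q91404 (allL N91404 (tt N69173 F393004) (tt N102761 (iv0 F438521)) (tt N102635 (iv2 F437971)) (tt N102688 (iv3 F438207)) (tt N97655 (iv4 F417797)) (tt N55040 (iv5 D194383)) (tt N97654 F417795) (tt N69326 F393009))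
theorem Q91406 : ∀ i, i < 91406 → P i := stepQ 91405 Q91405 (allL N91405 (tt N67602 (iv1 F393007)) (tt N102633 (iv0 F437962)) (tt N102758 (iv2 F438507)) (tt N71356 F393005) (tt N55043 F393006) (tt N69326 (iv5 F393008)) (tt N111512 (iv6 F476655)) (tt N55040 (iv7 D194384)))
theorem Q91407 : ∀ i, i < 91407 → P i := stepQ 91406 Q91406 (allL N91406 (tt N117442 F505051) (tt N117472 D220731) (tt N106442 (iv2 F454458)) (tt N74039 F393011) (tt N67004 F393012) (tt N114118 F488619) (tt N55041 (iv6 D194385)) (tt N67003 F393013))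
theorem Q91408 : ∀ i, i < 91408 → P i := stepQ 91407 Q91407 (allL N91407 (tt N74137 F393015) (tt N98883 F422691) (tt N74040 F393014) (tt N55042 (iv3 D194386)) (tt N102664 (iv4 F438125)) (tt N116046 (iv5 F498224)) (tt N116470 (iv6 F500299)) (tt N106440 (iv7 F454447)))
theorem Q91409 : ∀ i, i < 91409 → P i := stepQ 91408 Q91408 (allL N91408 (tt N55047 (iv1 F393019)) (tt N55046 (iv0 D194387)) (tt N55050 (iv2 F393018)) (tt N75684 (iv3 F393021)) (tt N77113 F393016) (tt N75682 F393017) (tt N101667 (iv6 F433766)) (tt N55048 F393020))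
theorem Q91410 : ∀ i, i < 91410 → P i := stepQ 91409 Q91409 (allL N91409 (tt N117473 D220732) (tt N110588 F472260) (tt N101667 (iv2 F433764)) (tt N55051 F393022) (tt N81725 F393023) (tt N81001 (iv5 F393024)) (tt N55050 (iv6 D194388)) (tt N117448 (iv7 F505088)))
theorem Q91411 : ∀ i, i < 91411 → P i := stepQ 91410 Q91410 (allL N91410 (tt N81782 F407477) (tt N109600 (iv0 F467671)) (tt N115121 (iv2 F493591)) (tt N81001 F393026) (tt N102022 (iv4 F435391)) (tt N55051 (iv5 D194390)) (tt N102021 (iv6 F435388)) (tt N112381 (iv7 F480830)))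
theorem Q91412 : ∀ i, i < 91412 → P i := stepQ 91411 Q91411 (allL N91411 (tt N93745 F407899) (tt N91593 (iv0 F393729)) (tt N93835 F402086) (tt N95340 (iv3 F407916)) (tt N93742 (iv4 F402087)) (tt N55052 (iv5 D194391)) (tt N95336 (iv6 F407898)) (tt N108255 (iv7 F461720)))
theorem Q91413 : ∀ i, i < 91413 → P i := stepQ 91412 Q91412 (allL N91412 (tt N67003 F440314) (tt N106442 F454463) (tt N117442 (iv2 F505045)) (tt N107797 (iv3 F459762)) (tt N111597 (iv4 F477089)) (tt N115662 F496197) (tt N55053 (iv6 D194392)) (tt N117472 (iv7 F505204)))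
theorem Q91414 : ∀ i, i < 91414 → P i := stepQ 91413 Q91413 (allL N91413 (tt N74029 F393028) (tt N105867 (iv0 F452087)) (tt N93569 (iv2 F401175)) (tt N91631 (iv3 F393839)) (tt N57207 F393027) (tt N97252 F416083) (tt N55059 (iv6 D194394)) (tt N96079 (iv7 F410945)))
theorem Q91415 : ∀ i, i < 91415 → P i := stepQ 91414 Q91414 (allL N91414 (tt N91255 F393031) (tt N91258 (iv0 F393032)) (tt N91632 (iv2 F393840)) (tt N55060 (iv3 D194395)) (tt N77951 F393029) (tt N88342 F393030) (tt N95378 F408046) (tt N93568 (iv7 F401170)))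
theorem Q91416 : ∀ i, i < 91416 → P i := stepQ 91415 Q91415 (allL N91415 (tt N84665 F393037) (tt N84663 (iv0 F393038)) (tt N82595 F393033) (tt N55062 (iv3 D194396)) (tt N82595 F393034) (tt N87620 F393035) (tt N91909 (iv6 F394920)) (tt N83730 F393036))
theorem Q91417 : ∀ i, i < 91417 → P i := stepQ 91416 Q91416 (allL N91416 (tt N67019 (iv1 F393045)) (tt N67014 F393046) (tt N103147 (iv2 F440292)) (tt N73707 F393041) (tt N81237 F393042) (tt N87209 F393043) (tt N73706 F393044) (tt N55064 (iv7 D194397)))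
theorem Q91418 : ∀ i, i < 91418 → P i := stepQ 91417 Q91417 (allL N91417 (tt N96610 F413168) (tt N96604 (iv0 F413148)) (tt N73705 F393047) (tt N55066 F393048) (tt N91712 (iv4 F394142)) (tt N87812 F393049) (tt N55065 (iv6 D194398)) (tt N117157 (iv7 F503676)))
theorem Q91419 : ∀ i, i < 91419 → P i := stepQ 91418 Q91418 (allL N91418 (tt N89922 F393052) (tt N60144 F393053) (tt N72311 F393050) (tt N55068 (iv3 D194399)) (tt N97296 (iv4 F416264)) (tt N104880 (iv5 F447777)) (tt N90525 F393051) (tt N96220 (iv7 F411564)))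
theorem Q91420 : ∀ i, i < 91420 → P i := stepQ 91419 Q91419 (allL N91419 (tt N83842 F393058) (tt N113124 (iv0 F484085)) (tt N72598 F393054) (tt N55073 (iv3 D194400)) (tt N72598 F393055) (tt N72597 F393056) (tt N82846 F393057) (tt N106905 (iv7 F456223)))
theorem Q91421 : ∀ i, i < 91421 → P i := stepQ 91420 Q91420 (allL N91420 (tt N100130 F427602) (tt N103172 F440401) (tt N103170 F440392) (tt N103186 F440477) (tt N55075 (iv4 D194401)) (tt N103733 (iv5 F442619)) (tt N95920 (iv6 F410264)) (tt N103171 (iv7 F440395)))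
theorem Q91422 : ∀ i, i < 91422 → P i := stepQ 91421 Q91421 (allL N91421 (tt N77261 (iv1 F393063)) (tt N55076 (iv0 D194402)) (tt N65326 (iv2 F393061)) (tt N107176 (iv3 F457345)) (tt N57378 F393059) (tt N103122 (iv5 F440175)) (tt N66418 F393060) (tt N82185 F393062))
theorem Q91423 : ∀ i, i < 91423 → P i := stepQ 91422 Q91422 (allL N91422 (tt N82185 (iv1 F393068)) (tt N65326 F393069) (tt N77261 F393064) (tt N78168 F393065) (tt N110420 (iv4 F471492)) (tt N65181 F393066) (tt N83310 F393067) (tt N55076 (iv7 D194403)))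
theorem Q91424 : ∀ i, i < 91424 → P i := stepQ 91423 Q91423 (allL N91423 (tt N106191 F453545) (tt N85390 F393071) (tt N116718 (iv2 F501475)) (tt N106270 (iv3 F453824)) (tt N55077 (iv4 D194404)) (tt N106284 (iv5 F453894)) (tt N106242 (iv6 F453728)) (tt N83116 F393070))
theorem Q91425 : ∀ i, i < 91425 → P i := stepQ 91424 Q91424 (allL N91424 (tt N98105 F419469) (tt N98092 (iv0 F421011)) (tt N98102 F419461) (tt N55079 F393072) (tt N106242 (iv4 F453725)) (tt N98468 F421010) (tt N55077 (iv6 D194405)) (tt N98103 (iv7 F419463)))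
theorem Q91426 : ∀ i, i < 91426 → P i := stepQ 91425 Q91425 (allL N91425 (tt N114462 (iv1 F490303)) (tt N114278 (iv0 F489354)) (tt N114461 (iv2 F490296)) (tt N55078 (iv3 D194406)) (tt N106270 (iv4 F453825)) (tt N91585 (iv5 F393706)) (tt N106269 (iv6 F453821)) (tt N83120 F393073))
theorem Q91427 : ∀ i, i < 91427 → P i := stepQ 91426 Q91426 (allL N91426 (tt N85662 (iv1 F426492)) (tt N64724 F425305) (tt N83123 F393074) (tt N106269 (iv3 F453818)) (tt N55079 F393075) (tt N117474 D220733) (tt N55078 (iv6 D194407)) (tt N106267 F453810))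
theorem Q91428 : ∀ i, i < 91428 → P i := stepQ 91427 Q91427 (allL N91427 (tt N83126 F393085) (tt N55079 (iv0 D194408)) (tt N83124 F393080) (tt N85359 (iv3 F393077)) (tt N73494 F393079) (tt N76956 F393076) (tt N85357 (iv6 F393082)) (tt N76955 (iv7 F393078)))
theorem Q91429 : ∀ i, i < 91429 → P i := stepQ 91428 Q91428 (allL N91428 (tt N55079 (iv1 D194409)) (tt N83126 F393086) (tt N76955 F393090) (tt N106427 (iv3 F454382)) (tt N73493 F393091) (tt N65174 (iv5 F393089)) (tt N65175 (iv6 F393088)) (tt N83124 F393087))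
theorem Q91430 : ∀ i, i < 91430 → P i := stepQ 91429 Q91429 (allL N91429 (tt N76955 (iv1 F393094)) (tt N83124 F393095) (tt N83126 F393092) (tt N98103 F419465) (tt N106267 (iv4 F453808)) (tt N109294 (iv5 F466237)) (tt N83121 F393093) (tt N55079 (iv7 D194410)))
theorem Q91431 : ∀ i, i < 91431 → P i := stepQ 91430 Q91430 (allL N91430 (tt N55080 (iv1 D194411)) (tt N83222 F393096) (tt N87315 (iv2 F393101)) (tt N77712 F393100) (tt N72617 (iv4 F393098)) (tt N91623 (iv5 F393803)) (tt N87231 (iv6 F393099)) (tt N87316 F393097))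
theorem Q91432 : ∀ i, i < 91432 → P i := stepQ 91431 Q91431 (allL N91431 (tt N90963 (iv1 F488253)) (tt N91008 F393106) (tt N91010 F393102) (tt N117475 D220734) (tt N55086 (iv4 D194412)) (tt N116118 (iv5 F498565)) (tt N91005 F393103) (tt N89293 F393104))
theorem Q91433 : ∀ i, i < 91433 → P i := stepQ 91432 Q91432 (allL N91432 (tt N98992 F422961) (tt N98991 (iv0 F422955)) (tt N98995 (iv2 F422975)) (tt N55087 (iv3 D194413)) (tt N55092 F393107) (tt N116112 (iv5 F498528)) (tt N106232 (iv6 F453689)) (tt N98993 F422965))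
theorem Q91434 : ∀ i, i < 91434 → P i := stepQ 91433 Q91433 (allL N91433 (tt N117114 (iv1 F503475)) (tt N117115 (iv0 F503479)) (tt N108526 (iv2 F462947)) (tt N55096 F393108) (tt N94501 (iv4 F404724)) (tt N55088 (iv5 D194414)) (tt N55090 F393109) (tt N112277 (iv7 F480318)))
theorem Q91435 : ∀ i, i < 91435 → P i := stepQ 91434 Q91434 (allL N91434 (tt N83528 F393115) (tt N83527 (iv0 F393116)) (tt N55504 F393110) (tt N55089 (iv3 D194415)) (tt N83066 F393111) (tt N87241 F393112) (tt N83572 F393113) (tt N83529 F393114))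
theorem Q91436 : ∀ i, i < 91436 → P i := stepQ 91435 Q91435 (allL N91435 (tt N85362 F393117) (tt N115652 (iv0 F496158)) (tt N115541 (iv2 F495701)) (tt N94504 (iv3 F404741)) (tt N55090 (iv4 D194416)) (tt N94500 (iv5 F404721)) (tt N94501 (iv6 F404723)) (tt N101553 (iv7 F433375)))
theorem Q91437 : ∀ i, i < 91437 → P i := stepQ 91436 Q91436 (allL N91436 (tt N117147 F503633) (tt N112732 F482415) (tt N57389 F393120) (tt N98466 (iv3 F420999)) (tt N55097 F393121) (tt N64711 F393122) (tt N57388 F393123) (tt N55093 (iv7 D194417)))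
theorem Q91438 : ∀ i, i < 91438 → P i := stepQ 91437 Q91437 (allL N91437 (tt N91380 (iv1 F393129)) (tt N91272 F393126) (tt N91378 F393124) (tt N75309 F393127) (tt N55094 (iv4 D194418)) (tt N75307 (iv5 F393128)) (tt N103152 (iv6 F440321)) (tt N75426 F393125))
theorem Q91439 : ∀ i, i < 91439 → P i := stepQ 91438 Q91438 (allL N91438 (tt N115885 (iv1 F497407)) (tt N115884 (iv0 F497405)) (tt N115886 (iv2 F497412)) (tt N78494 F393130) (tt N108149 (iv4 F461315)) (tt N55094 (iv5 D194419)) (tt N78493 F393131) (tt N87291 F393132))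
theorem Q91440 : ∀ i, i < 91440 → P i := stepQ 91439 Q91439 (allL N91439 (tt N97221 (iv1 F415960)) (tt N55096 (iv0 D194420)) (tt N115579 F495853) (tt N111904 (iv3 F478562)) (tt N114801 (iv4 F491943)) (tt N108521 (iv5 F462925)) (tt N111902 F478563) (tt N115580 (iv7 F495856)))
theorem Q91441 : ∀ i, i < 91441 → P i := stepQ 91440 Q91440 (allL N91440 (tt N55096 (iv1 D194421)) (tt N97221 F415959) (tt N115580 F495858) (tt N99727 (iv3 F425925)) (tt N114802 (iv4 F491948)) (tt N99725 (iv5 F425921)) (tt N117476 D220735) (tt N115579 F495854))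
theorem Q91442 : ∀ i, i < 91442 → P i := stepQ 91441 Q91441 (allL N91441 (tt N115580 (iv1 F495855)) (tt N115579 F495852) (tt N97221 (iv2 F415954)) (tt N112277 (iv3 F480315)) (tt N111416 (iv4 F476249)) (tt N55097 F393133) (tt N111415 (iv6 F476247)) (tt N55096 (iv7 D194422)))
theorem Q91443 : ∀ i, i < 91443 → P i := stepQ 91442 Q91442 (allL N91442 (tt N107180 (iv1 F457376)) (tt N83187 (iv0 F393138)) (tt N83310 F393134) (tt N116599 (iv3 F500918)) (tt N75464 F393135) (tt N77380 F393136) (tt N77261 F393137) (tt N55099 (iv7 D194423)))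
theorem Q91444 : ∀ i, i < 91444 → P i := stepQ 91443 Q91443 (allL N91443 (tt N117477 D220736) (tt N117478 D220737) (tt N86074 F393139) (tt N110558 (iv3 F472135)) (tt N85866 F393140) (tt N111549 (iv5 F476869)) (tt N55100 (iv6 D194424)) (tt N117479 D220738))
theorem Q91445 : ∀ i, i < 91445 → P i := stepQ 91444 Q91444 (allL N91444 (tt N89592 F393147) (tt N55101 (iv0 D194425)) (tt N89505 (iv2 F393144)) (tt N56750 F393143) (tt N73223 F393142) (tt N81253 F393141) (tt N73441 (iv6 F393145)) (tt N56745 (iv7 F393146)))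
theorem Q91446 : ∀ i, i < 91446 → P i := stepQ 91445 Q91445 (allL N91445 (tt N55101 (iv1 D194426)) (tt N89592 F393148) (tt N56745 (iv2 F393151)) (tt N62344 (iv3 F393152)) (tt N73217 F393150) (tt N112207 (iv5 F480058)) (tt N56743 (iv6 F393153)) (tt N89505 F393149))
theorem Q91447 : ∀ i, i < 91447 → P i := stepQ 91446 Q91446 (allL N91446 (tt N60397 F416755) (tt N116583 (iv0 F500847)) (tt N89591 F393154) (tt N110560 (iv3 F472142)) (tt N112073 (iv4 F479363)) (tt N55101 (iv5 D194427)) (tt N111549 (iv6 F476866)) (tt N117480 D220739))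
theorem Q91448 : ∀ i, i < 91448 → P i := stepQ 91447 Q91447 (allL N91447 (tt N56745 (iv1 F393158)) (tt N89505 F393159) (tt N89592 F393155) (tt N110561 (iv3 F472147)) (tt N55104 F393156) (tt N117480 (iv5 F505253)) (tt N89603 F393157) (tt N55101 (iv7 D194428)))
theorem Q91449 : ∀ i, i < 91449 → P i := stepQ 91448 Q91448 (allL N91448 (tt N73231 F393162) (tt N73297 F393174) (tt N73296 F393172) (tt N55102 (iv3 D194429)) (tt N108289 (iv4 F461905)) (tt N105464 (iv5 F450363)) (tt N105038 (iv6 F448508)) (tt N72420 F393161))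
theorem Q91450 : ∀ i, i < 91450 → P i := stepQ 91449 Q91449 (allL N91449 (tt N117481 D220740) (tt N109653 (iv0 F467939)) (tt N110548 (iv2 F472087)) (tt N55105 (iv3 D194430)) (tt N89822 F393175) (tt N89028 F393176) (tt N59609 F393178) (tt N86073 F393177))
theorem Q91451 : ∀ i, i < 91451 → P i := stepQ 91450 Q91450 (allL N91450 (tt N117482 D220741) (tt N59583 (iv0 F395005)) (tt N86069 F393179) (tt N59609 F393180) (tt N55106 F393181) (tt N101155 (iv5 F431973)) (tt N55105 (iv6 D194431)) (tt N112833 (iv7 F482854)))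
theorem Q91452 : ∀ i, i < 91452 → P i := stepQ 91451 Q91451 (allL N91451 (tt N86072 (iv1 F393189)) (tt N55106 (iv0 D194432)) (tt N86070 (iv2 F393183)) (tt N74863 (iv3 F393184)) (tt N96427 (iv4 F412477)) (tt N74923 F393182) (tt N113879 F487591) (tt N86071 (iv7 F393185)))
theorem Q91453 : ∀ i, i < 91453 → P i := stepQ 91452 Q91452 (allL N91452 (tt N55106 (iv1 D194433)) (tt N86072 F393186) (tt N86071 (iv2 F393188)) (tt N98050 (iv3 F427975)) (tt N96426 (iv4 F412473)) (tt N106838 (iv5 F455916)) (tt N98048 F427976) (tt N86070 F393187))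
theorem Q91454 : ∀ i, i < 91454 → P i := stepQ 91453 Q91453 (allL N91453 (tt N86071 (iv1 F393194)) (tt N86070 F393195) (tt N86072 F393190) (tt N89855 F393191) (tt N112833 (iv4 F482852)) (tt N84493 F393192) (tt N86047 F393193) (tt N55106 (iv7 D194434)))
theorem Q91455 : ∀ i, i < 91455 → P i := stepQ 91454 Q91454 (allL N91454 (tt N95379 F408051) (tt N87729 F393200) (tt N59714 F393196) (tt N87703 F393197) (tt N80700 F393199) (tt N55107 (iv5 D194435)) (tt N59713 F393198) (tt N91829 (iv7 F394577)))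
theorem Q91456 : ∀ i, i < 91456 → P i := stepQ 91455 Q91455 (allL N91455 (tt N74847 F393206) (tt N72735 (iv0 F393207)) (tt N75930 F393201) (tt N83871 F393202) (tt N73817 F393203) (tt N87865 F393205) (tt N55109 (iv6 D194436)) (tt N73815 F393204))
theorem Q91457 : ∀ i, i < 91457 → P i := stepQ 91456 Q91456 (allL N91456 (tt N76795 F428505) (tt N110645 (iv0 F472569)) (tt N75932 F393212) (tt N117483 D220742) (tt N55111 (iv4 D194437)) (tt N75886 F393215) (tt N55121 F393213) (tt N75885 F393214))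
theorem Q91458 : ∀ i, i < 91458 → P i := stepQ 91457 Q91457 (allL N91457 (tt N100127 F427589) (tt N90683 F393219) (tt N89089 F393216) (tt N55115 F393217) (tt N91008 F393220) (tt N55113 (iv5 D194438)) (tt N97305 (iv6 F416301)) (tt N89093 F393218))
theorem Q91459 : ∀ i, i < 91459 → P i := stepQ 91458 Q91458 (allL N91458 (tt N106659 (iv1 F455189)) (tt N77951 F393223) (tt N91256 F393221) (tt N105986 (iv3 F452633)) (tt N55115 (iv4 D194439)) (tt N117484 D220743) (tt N77919 (iv6 F393224)) (tt N91260 F393222))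
theorem Q91460 : ∀ i, i < 91460 → P i := stepQ 91459 Q91459 (allL N91459 (tt N91358 F393228) (tt N96069 (iv0 F410901)) (tt N91257 F393225) (tt N97305 (iv3 F416298)) (tt N77919 F393226) (tt N87111 F393227) (tt N55115 (iv6 D194440)) (tt N97206 (iv7 F415895)))
theorem Q91461 : ∀ i, i < 91461 → P i := stepQ 91460 Q91460 (allL N91460 (tt N91632 (iv1 F393843)) (tt N93568 (iv0 F401171)) (tt N91258 F393229) (tt N59818 F393230) (tt N117457 (iv4 F505135)) (tt N55116 (iv5 D194441)) (tt N97235 (iv6 F416008)) (tt N91255 F393231))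
theorem Q91462 : ∀ i, i < 91462 → P i := stepQ 91461 Q91461 (allL N91461 (tt N91909 F394923) (tt N112817 F482764) (tt N91259 F393232) (tt N83527 F393233) (tt N55118 F393234) (tt N115507 F495550) (tt N55116 (iv6 D194442)) (tt N91735 (iv7 F394248)))
theorem Q91463 : ∀ i, i < 91463 → P i := stepQ 91462 Q91462 (allL N91462 (tt N77951 F393238) (tt N106659 F455190) (tt N91260 F393235) (tt N89491 F393236) (tt N55117 (iv4 D194443)) (tt N110000 (iv5 F469511)) (tt N112683 (iv6 F482161)) (tt N91256 F393237))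
theorem Q91464 : ∀ i, i < 91464 → P i := stepQ 91463 Q91463 (allL N91463 (tt N117485 D220744) (tt N90990 (iv0 F393241)) (tt N91261 F393239) (tt N89943 F393240) (tt N112683 (iv4 F482160)) (tt N114170 (iv5 F488834)) (tt N55117 (iv6 D194444)) (tt N97295 (iv7 F416261)))
theorem Q91465 : ∀ i, i < 91465 → P i := stepQ 91464 Q91464 (allL N91464 (tt N108650 (iv1 F463359)) (tt N61888 (iv0 F393244)) (tt N91263 F393242) (tt N117486 D220745) (tt N55119 (iv4 D194445)) (tt N117487 D220746) (tt N117488 D220747) (tt N91265 F393243))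
theorem Q91466 : ∀ i, i < 91466 → P i := stepQ 91465 Q91465 (allL N91465 (tt N91397 F408673) (tt N99218 (iv0 F423734)) (tt N91264 F393245) (tt N90784 F393246) (tt N117488 (iv4 F505297)) (tt N91831 (iv5 F394598)) (tt N55119 (iv6 D194446)) (tt N99234 (iv7 F423788)))
theorem Q91467 : ∀ i, i < 91467 → P i := stepQ 91466 Q91466 (allL N91466 (tt N61888 F393250) (tt N108650 F463360) (tt N91265 F393247) (tt N114613 (iv3 F491017)) (tt N55120 (iv4 D194447)) (tt N109983 (iv5 F469456)) (tt N61849 F393248) (tt N91263 F393249))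
theorem Q91468 : ∀ i, i < 91468 → P i := stepQ 91467 Q91467 (allL N91467 (tt N55121 (iv1 D194448)) (tt N76838 F393251) (tt N76606 (iv2 F393255)) (tt N76849 F393256) (tt N74088 F393253) (tt N117489 D220748) (tt N74087 (iv6 F393254)) (tt N76839 F393252))
theorem Q91469 : ∀ i, i < 91469 → P i := stepQ 91468 Q91468 (allL N91468 (tt N117490 D220749) (tt N117491 D220750) (tt N110555 (iv2 F472120)) (tt N55121 (iv3 D194449)) (tt N55138 F393257) (tt N117492 D220751) (tt N117483 (iv6 F505271)) (tt N117493 D220752))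
theorem Q91470 : ∀ i, i < 91470 → P i := stepQ 91469 Q91469 (allL N91469 (tt N76852 F416019) (tt N117494 D220753) (tt N91268 F393258) (tt N117492 (iv3 F505315)) (tt N98983 (iv4 F422908)) (tt N55121 (iv5 D194450)) (tt N98982 F422910) (tt N106651 (iv7 F455152)))
theorem Q91471 : ∀ i, i < 91471 → P i := stepQ 91470 Q91470 (allL N91470 (tt N76606 (iv1 F393261)) (tt N76839 F393262) (tt N76838 F393259) (tt N117493 (iv3 F505317)) (tt N55122 F393260) (tt N106651 (iv5 F455151)) (tt N99229 (iv6 F423768)) (tt N55121 (iv7 D194451)))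
theorem Q91472 : ∀ i, i < 91472 → P i := stepQ 91471 Q91471 (allL N91471 (tt N89227 F422663) (tt N90584 F423923) (tt N90582 (iv2 F422922)) (tt N55140 F393264) (tt N99229 F423767) (tt N90582 (iv5 F422924)) (tt N55122 (iv6 D194452)) (tt N90583 (iv7 F422928)))
theorem Q91473 : ∀ i, i < 91473 → P i := stepQ 91472 Q91472 (allL N91472 (tt N61430 F393272) (tt N61329 (iv0 F393273)) (tt N61431 F393267) (tt N55124 (iv3 D194453)) (tt N63392 F393268) (tt N72353 F393269) (tt N79069 F393270) (tt N55212 F393271))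
theorem Q91474 : ∀ i, i < 91474 → P i := stepQ 91473 Q91473 (allL N91473 (tt N55125 (iv1 D194454)) (tt N55128 F393274) (tt N55203 (iv2 F393277)) (tt N89303 (iv3 F393278)) (tt N96139 (iv4 F411208)) (tt N66709 F393276) (tt N55247 (iv6 F393279)) (tt N55202 F393275))
theorem Q91475 : ∀ i, i < 91475 → P i := stepQ 91474 Q91474 (allL N91474 (tt N75246 F393285) (tt N77509 (iv0 F393286)) (tt N55213 F393280) (tt N74708 F393281) (tt N55129 F393282) (tt N65238 F393283) (tt N55127 (iv6 D194455)) (tt N65237 F393284))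
theorem Q91476 : ∀ i, i < 91476 → P i := stepQ 91475 Q91475 (allL N91475 (tt N95057 (iv1 F406873)) (tt N87200 F393290) (tt N55220 F393287) (tt N59064 F393288) (tt N55130 (iv4 D194456)) (tt N117495 D220754) (tt N93536 (iv6 F401071)) (tt N55222 F393289))
theorem Q91477 : ∀ i, i < 91477 → P i := stepQ 91476 Q91476 (allL N91476 (tt N55227 (iv1 F393294)) (tt N55131 (iv0 D194457)) (tt N55223 (iv2 F393292)) (tt N108849 F464242) (tt N83158 F393291) (tt N108918 (iv5 F464479)) (tt N108847 (iv6 F464243)) (tt N55224 (iv7 F393293)))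
theorem Q91478 : ∀ i, i < 91478 → P i := stepQ 91477 Q91477 (allL N91477 (tt N55131 (iv1 D194458)) (tt N55227 F393296) (tt N55224 (iv2 F393299)) (tt N110078 F469873) (tt N83159 F393298) (tt N117496 D220755) (tt N117497 D220756) (tt N55223 F393297))
theorem Q91479 : ∀ i, i < 91479 → P i := stepQ 91478 Q91478 (allL N91478 (tt N107842 F459959) (tt N56806 (iv0 F393301)) (tt N117498 D220757) (tt N55131 (iv3 D194459)) (tt N117483 (iv4 F505269)) (tt N107160 (iv5 F457252)) (tt N55138 F393300) (tt N117499 D220758))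
theorem Q91480 : ∀ i, i < 91480 → P i := stepQ 91479 Q91479 (allL N91479 (tt N96140 (iv1 F411215)) (tt N101773 F434279) (tt N55226 F393302) (tt N107160 (iv3 F457257)) (tt N117500 D220759) (tt N55131 (iv5 D194460)) (tt N114501 (iv6 F490491)) (tt N110205 (iv7 F470430)))
theorem Q91481 : ∀ i, i < 91481 → P i := stepQ 91480 Q91480 (allL N91480 (tt N55224 (iv1 F393305)) (tt N55223 F393306) (tt N55227 F393303) (tt N117499 (iv3 F505351)) (tt N55132 F393304) (tt N110205 (iv5 F470424)) (tt N117501 D220760) (tt N55131 (iv7 D194461)))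
theorem Q91482 : ∀ i, i < 91482 → P i := stepQ 91481 Q91481 (allL N91481 (tt N55267 (iv1 F393311)) (tt N55266 F393312) (tt N55228 F393307) (tt N90583 (iv3 F422926)) (tt N117501 (iv4 F505368)) (tt N91271 F393309) (tt N55132 (iv6 D194462)) (tt N55140 F393310))
theorem Q91483 : ∀ i, i < 91483 → P i := stepQ 91482 Q91482 (allL N91482 (tt N55248 (iv1 F393321)) (tt N55134 (iv0 D194463)) (tt N55246 (iv2 F393319)) (tt N117485 F505285) (tt N117502 D220761) (tt N111520 F476703) (tt N111521 (iv6 F476706)) (tt N55247 F393320))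
theorem Q91484 : ∀ i, i < 91484 → P i := stepQ 91483 Q91483 (allL N91483 (tt N55134 (iv1 D194464)) (tt N55248 F393313) (tt N55247 F393316) (tt N91274 F393317) (tt N117503 D220762) (tt N88164 (iv5 F393315)) (tt N55203 (iv6 F393314)) (tt N55246 (iv7 F393318)))
theorem Q91485 : ∀ i, i < 91485 → P i := stepQ 91484 Q91484 (allL N91484 (tt N55247 (iv1 F393326)) (tt N55246 F393327) (tt N55248 F393322) (tt N72316 F393323) (tt N96021 (iv4 F410672)) (tt N84540 F393324) (tt N55237 F393325) (tt N55134 (iv7 D194465)))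
theorem Q91486 : ∀ i, i < 91486 → P i := stepQ 91485 Q91485 (allL N91485 (tt N55255 (iv1 F393330)) (tt N55136 (iv0 D194466)) (tt N55252 (iv2 F393331)) (tt N91277 F393328) (tt N112172 (iv4 F479884)) (tt N100697 (iv5 F430071)) (tt N60216 F393329) (tt N55253 (iv7 F393332)))
theorem Q91487 : ∀ i, i < 91487 → P i := stepQ 91486 Q91486 (allL N91486 (tt N55136 (iv1 D194467)) (tt N55255 F393333) (tt N55253 (iv2 F393335)) (tt N99218 (iv3 F423731)) (tt N97025 (iv4 F415092)) (tt N100699 (iv5 F430081)) (tt N99217 F423729) (tt N55252 F393334))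
theorem Q91488 : ∀ i, i < 91488 → P i := stepQ 91487 Q91487 (allL N91487 (tt N112172 F479887) (tt N97025 F415093) (tt N55257 F393336) (tt N75834 F393337) (tt N79566 F393338) (tt N116614 (iv5 F500980)) (tt N55137 (iv6 D194468)) (tt N108840 (iv7 F464213)))
theorem Q91489 : ∀ i, i < 91489 → P i := stepQ 91488 Q91488 (allL N91488 (tt N56921 (iv1 F393343)) (tt N56918 (iv0 F393342)) (tt N55138 (iv2 D194469)) (tt N55261 F393339) (tt N110555 (iv4 F472121)) (tt N82516 F393340) (tt N117498 (iv6 F505346)) (tt N56919 (iv7 F393341)))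
theorem Q91490 : ∀ i, i < 91490 → P i := stepQ 91489 Q91489 (allL N91489 (tt N56918 (iv1 F393347)) (tt N56921 F393348) (tt N56919 F393344) (tt N55139 F393345) (tt N117493 (iv4 F505318)) (tt N55317 F393346) (tt N65008 (iv6 F393349)) (tt N55138 (iv7 D194470)))
theorem Q91491 : ∀ i, i < 91491 → P i := stepQ 91490 Q91490 (allL N91490 (tt N106057 F471399) (tt N117504 D220763) (tt N55265 F393350) (tt N65008 F393351) (tt N55140 F393352) (tt N65007 F393353) (tt N55139 (iv6 D194471)) (tt N117501 (iv7 F505370)))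
theorem Q91492 : ∀ i, i < 91492 → P i := stepQ 91491 Q91491 (allL N91491 (tt N55228 (iv1 F393354)) (tt N55140 (iv0 D194472)) (tt N55266 F406827) (tt N74037 (iv3 F406829)) (tt N95063 (iv4 F406905)) (tt N111598 (iv5 F477096)) (tt N104866 (iv6 F447703)) (tt N55267 F406828))
theorem Q91493 : ∀ i, i < 91493 → P i := stepQ 91492 Q91492 (allL N91492 (tt N55140 (iv1 D194473)) (tt N55228 F393355) (tt N55267 F406825) (tt N89229 (iv3 F393356)) (tt N95062 (iv4 F406898)) (tt N103150 (iv5 F440311)) (tt N108484 (iv6 F462787)) (tt N55266 F406826))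
theorem Q91494 : ∀ i, i < 91494 → P i := stepQ 91493 Q91493 (allL N91493 (tt N55287 (iv1 F393369)) (tt N55142 (iv0 D194474)) (tt N55285 (iv2 F393359)) (tt N56941 (iv3 F393360)) (tt N59067 F393357) (tt N93000 (iv5 F399080)) (tt N59134 F393358) (tt N55286 (iv7 F393361)))
theorem Q91495 : ∀ i, i < 91495 → P i := stepQ 91494 Q91494 (allL N91494 (tt N55142 (iv1 D194475)) (tt N55287 F393364) (tt N55286 F393368) (tt N117505 D220764) (tt N59066 (iv4 F393366)) (tt N88357 (iv5 F393367)) (tt N111599 (iv6 F477103)) (tt N55285 F393365))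
theorem Q91496 : ∀ i, i < 91496 → P i := stepQ 91495 Q91495 (allL N91495 (tt N55286 (iv1 F393374)) (tt N55285 F393375) (tt N55287 F393370) (tt N59256 F393371) (tt N96030 (iv4 F410718)) (tt N84661 F393372) (tt N55299 F393373) (tt N55142 (iv7 D194476)))
theorem Q91497 : ∀ i, i < 91497 → P i := stepQ 91496 Q91496 (allL N91496 (tt N117502 (iv1 F505378)) (tt N117503 (iv0 F505383)) (tt N55295 F393376) (tt N114476 (iv3 F490376)) (tt N55144 F393377) (tt N117506 D220765) (tt N55143 (iv6 D194477)) (tt N117507 D220766))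
theorem Q91498 : ∀ i, i < 91498 → P i := stepQ 91497 Q91497 (allL N91497 (tt N55299 (iv1 F393380)) (tt N55144 (iv0 D194478)) (tt N55296 F393383) (tt N117508 D220767) (tt N91596 (iv4 F393931)) (tt N111499 F476615) (tt N111500 (iv6 F476617)) (tt N55297 F393382))
theorem Q91499 : ∀ i, i < 91499 → P i := stepQ 91498 Q91498 (allL N91498 (tt N55297 (iv1 F393381)) (tt N55296 F393386) (tt N55299 F393378) (tt N97141 (iv3 F415643)) (tt N117507 (iv4 F505405)) (tt N91923 (iv5 F394968)) (tt N55287 F393379) (tt N55144 (iv7 D194479)))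
theorem Q91500 : ∀ i, i < 91500 → P i := stepQ 91499 Q91499 (allL N91499 (tt N55145 (iv1 D194480)) (tt N55312 F393391) (tt N55310 F393390) (tt N114879 (iv3 F492302)) (tt N105325 (iv4 F449723)) (tt N76713 F393388) (tt N83326 (iv6 F393389)) (tt N55311 F393387))
theorem Q91501 : ∀ i, i < 91501 → P i := stepQ 91500 Q91500 (allL N91500 (tt N55311 (iv1 F393398)) (tt N55310 F393397) (tt N55145 (iv2 D194481)) (tt N55315 F393392) (tt N84411 F393393) (tt N85641 F393394) (tt N86754 F393395) (tt N55312 F393396))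
theorem Q91502 : ∀ i, i < 91502 → P i := stepQ 91501 Q91501 (allL N91501 (tt N91669 F393968) (tt N107493 (iv0 F458518)) (tt N88790 F393399) (tt N91668 (iv3 F393958)) (tt N55147 (iv4 D194482)) (tt N106366 (iv5 F454165)) (tt N88987 F393400) (tt N88789 F393401))
theorem Q91503 : ∀ i, i < 91503 → P i := stepQ 91502 Q91502 (allL N91502 (tt N91840 (iv1 F394639)) (tt N87817 F393404) (tt N55157 F393402) (tt N87907 F393403) (tt N55150 (iv4 D194483)) (tt N109353 F466530) (tt N116028 (iv6 F498127)) (tt N91838 (iv7 F394629)))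
theorem Q91504 : ∀ i, i < 91504 → P i := stepQ 91503 Q91503 (allL N91503 (tt N95128 F407150) (tt N111991 F478993) (tt N91836 (iv2 F394618)) (tt N111995 (iv3 F479006)) (tt N55152 (iv4 D194484)) (tt N116660 (iv5 F501182)) (tt N101525 (iv6 F433252)) (tt N91834 (iv7 F394613)))
theorem Q91505 : ∀ i, i < 91505 → P i := stepQ 91504 Q91504 (allL N91504 (tt N91899 (iv1 F394863)) (tt N55481 (iv0 F393405)) (tt N91837 (iv2 F394622)) (tt N111569 (iv3 F476961)) (tt N101525 (iv4 F433251)) (tt N114084 (iv5 F488518)) (tt N55152 (iv6 D194485)) (tt N91898 (iv7 F394859)))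
theorem Q91506 : ∀ i, i < 91506 → P i := stepQ 91505 Q91505 (allL N91505 (tt N55170 (iv1 F393410)) (tt N55164 (iv0 F393411)) (tt N55167 F393406) (tt N55155 (iv3 D194486)) (tt N91815 (iv4 F394532)) (tt N84560 F393407) (tt N59786 (iv6 F393409)) (tt N55168 F393408))
theorem Q91507 : ∀ i, i < 91507 → P i := stepQ 91506 Q91506 (allL N91506 (tt N58108 F393413) (tt N96437 (iv0 F412517)) (tt N82009 F393412) (tt N117036 (iv3 F503073)) (tt N55155 (iv4 D194487)) (tt N107770 (iv5 F459649)) (tt N57994 (iv6 F393414)) (tt N91839 (iv7 F394636)))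
theorem Q91508 : ∀ i, i < 91508 → P i := stepQ 91507 Q91507 (allL N91507 (tt N109386 (iv1 F466705)) (tt N111482 F476549) (tt N73686 F393415) (tt N59786 F393416) (tt N57994 F393417) (tt N73650 F393418) (tt N55155 (iv6 D194488)) (tt N73688 F393419))
theorem Q91509 : ∀ i, i < 91509 → P i := stepQ 91508 Q91508 (allL N91508 (tt N96437 (iv1 F412518)) (tt N58108 (iv0 F393423)) (tt N91839 (iv2 F394634)) (tt N63882 F393420) (tt N55156 (iv4 D194489)) (tt N99309 (iv5 F424043)) (tt N63883 F393421) (tt N82009 F393422))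
theorem Q91510 : ∀ i, i < 91510 → P i := stepQ 91509 Q91509 (allL N91509 (tt N55157 (iv1 D194490)) (tt N91838 (iv0 F394631)) (tt N87817 (iv2 F393425)) (tt N101151 F431949) (tt N87816 F393424) (tt N117509 D220768) (tt N111701 (iv6 F477572)) (tt N91840 (iv7 F394640)))
theorem Q91511 : ∀ i, i < 91511 → P i := stepQ 91510 Q91510 (allL N91510 (tt N72857 F393427) (tt N112242 (iv0 F480196)) (tt N107895 (iv2 F460154)) (tt N55157 (iv3 D194491)) (tt N55160 F393426) (tt N110452 (iv5 F471659)) (tt N95924 (iv6 F410284)) (tt N91841 (iv7 F394644)))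
theorem Q91512 : ∀ i, i < 91512 → P i := stepQ 91511 Q91511 (allL N91511 (tt N106972 (iv1 F456486)) (tt N108949 F464626) (tt N109353 F466532) (tt N110452 (iv3 F471658)) (tt N117510 D220769) (tt N55157 (iv5 D194492)) (tt N109351 (iv6 F466534)) (tt N91842 (iv7 F394646)))
theorem Q91513 : ∀ i, i < 91513 → P i := stepQ 91512 Q91512 (allL N91512 (tt N82350 F393431) (tt N60068 F393433) (tt N81336 F393428) (tt N74395 F393429) (tt N55158 (iv4 D194493)) (tt N81333 F393432) (tt N59980 (iv6 F393434)) (tt N91304 F393430))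
theorem Q91514 : ∀ i, i < 91514 → P i := stepQ 91513 Q91513 (allL N91513 (tt N59827 F393439) (tt N75600 (iv0 F393440)) (tt N91294 F393435) (tt N55159 F393436) (tt N59980 F393437) (tt N90994 F393438) (tt N55158 (iv6 D194494)) (tt N95444 (iv7 F408202)))
theorem Q91515 : ∀ i, i < 91515 → P i := stepQ 91514 Q91514 (allL N91514 (tt N91845 (iv1 F394660)) (tt N55160 (iv0 D194495)) (tt N91844 (iv2 F394655)) (tt N95462 (iv3 F408273)) (tt N107764 (iv4 F459624)) (tt N111470 F476487) (tt N95459 F408261) (tt N91843 F394656))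
theorem Q91516 : ∀ i, i < 91516 → P i := stepQ 91515 Q91515 (allL N91515 (tt N55160 (iv1 D194496)) (tt N91845 F394661) (tt N91843 F394654) (tt N81169 (iv3 F393441)) (tt N107767 F459634) (tt N111469 (iv5 F476481)) (tt N111075 (iv6 F474542)) (tt N91844 (iv7 F394652)))
theorem Q91517 : ∀ i, i < 91517 → P i := stepQ 91516 Q91516 (allL N91516 (tt N91844 F394653) (tt N91843 F394648) (tt N55160 (iv2 D194497)) (tt N91307 F393442) (tt N107895 (iv4 F460156)) (tt N114191 (iv5 F488920)) (tt N107894 F460153) (tt N91845 (iv7 F394659)))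
theorem Q91518 : ∀ i, i < 91518 → P i := stepQ 91517 Q91517 (allL N91517 (tt N55168 (iv1 F393448)) (tt N55167 F393449) (tt N55170 F393443) (tt N59706 F393444) (tt N66601 F393445) (tt N55165 F393446) (tt N71712 F393447) (tt N55164 (iv7 D194498)))
theorem Q91519 : ∀ i, i < 91519 → P i := stepQ 91518 Q91518 (allL N91518 (tt N103375 F441344) (tt N111862 (iv0 F478370)) (tt N79745 F393450) (tt N111009 (iv3 F474227)) (tt N55166 (iv4 D194499)) (tt N103372 (iv5 F441345)) (tt N117511 D220770) (tt N112393 (iv7 F480900)))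
theorem Q91520 : ∀ i, i < 91520 → P i := stepQ 91519 Q91519 (allL N91519 (tt N96789 F413955) (tt N58489 (iv0 F393452)) (tt N96793 (iv2 F413974)) (tt N91835 (iv3 F394615)) (tt N117511 (iv4 F505428)) (tt N88295 F393451) (tt N55166 (iv6 D194500)) (tt N96792 (iv7 F413976)))
theorem Q91521 : ∀ i, i < 91521 → P i := stepQ 91520 Q91520 (allL N91520 (tt N66601 (iv1 F393456)) (tt N55169 (iv0 D194501)) (tt N87727 (iv2 F393454)) (tt N101713 F434005) (tt N55425 F393453) (tt N117512 D220771) (tt N66583 F393457) (tt N87730 (iv7 F393455)))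
theorem Q91522 : ∀ i, i < 91522 → P i := stepQ 91521 Q91521 (allL N91521 (tt N55169 (iv1 D194502)) (tt N66601 F393458) (tt N87730 (iv2 F393461)) (tt N97904 (iv3 F418732)) (tt N55424 F393460) (tt N97903 F418729) (tt N97518 (iv6 F418165)) (tt N87727 F393459))
theorem Q91523 : ∀ i, i < 91523 → P i := stepQ 91522 Q91522 (allL N91522 (tt N87730 (iv1 F393466)) (tt N87727 F393467) (tt N66601 F393462) (tt N90422 F393463) (tt N55170 F393464) (tt N90421 F393465) (tt N117513 D220772) (tt N55169 (iv7 D194503)))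
theorem Q91524 : ∀ i, i < 91524 → P i := stepQ 91523 Q91523 (allL N91523 (tt N71709 (iv1 F393472)) (tt N71708 F393473) (tt N71712 F393468) (tt N55176 F393469) (tt N117513 (iv4 F505441)) (tt N55536 F393470) (tt N55170 (iv6 D194504)) (tt N71710 F393471))
theorem Q91525 : ∀ i, i < 91525 → P i := stepQ 91524 Q91524 (allL N91524 (tt N60068 F393479) (tt N82350 F393480) (tt N91304 F393474) (tt N81345 F393475) (tt N55172 (iv4 D194505)) (tt N81337 F393478) (tt N72110 F393476) (tt N81336 F393477))
theorem Q91526 : ∀ i, i < 91526 → P i := stepQ 91525 Q91525 (allL N91525 (tt N64133 (iv1 F393484)) (tt N55173 (iv0 D194506)) (tt N79654 (iv2 F393483)) (tt N79632 (iv3 F393486)) (tt N82466 F393481) (tt N102978 (iv5 F439525)) (tt N84702 F393482) (tt N79655 F393485))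
theorem Q91527 : ∀ i, i < 91527 → P i := stepQ 91526 Q91526 (allL N91526 (tt N60100 (iv1 F393488)) (tt N55174 (iv0 D194507)) (tt N95787 (iv2 F409648)) (tt N109275 (iv3 F466129)) (tt N116219 (iv4 F499081)) (tt N109274 (iv5 F466124)) (tt N60086 F393487) (tt N95840 (iv7 F409886)))
theorem Q91528 : ∀ i, i < 91528 → P i := stepQ 91527 Q91527 (allL N91527 (tt N59693 (iv1 F393491)) (tt N55176 (iv0 D194508)) (tt N91296 F393494) (tt N55539 (iv3 F393492)) (tt N79525 F393489) (tt N91905 (iv5 F394897)) (tt N79523 F393490) (tt N91297 F393493))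
theorem Q91529 : ∀ i, i < 91529 → P i := stepQ 91528 Q91528 (allL N91528 (tt N55176 (iv1 D194509)) (tt N59693 F393495) (tt N91297 F393499) (tt N81012 (iv3 F393500)) (tt N68543 F393497) (tt N91873 (iv5 F394783)) (tt N68542 (iv6 F393498)) (tt N91296 F393496))
theorem Q91530 : ∀ i, i < 91530 → P i := stepQ 91529 Q91529 (allL N91529 (tt N64779 (iv1 F393506)) (tt N67093 F393507) (tt N77373 F393501) (tt N55178 F393502) (tt N77647 F393503) (tt N56112 F393504) (tt N55177 (iv6 D194510)) (tt N56140 F393505))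
theorem Q91531 : ∀ i, i < 91531 → P i := stepQ 91530 Q91530 (allL N91530 (tt N117514 D220773) (tt N98399 F420788) (tt N87823 F393508) (tt N55183 (iv3 D194511)) (tt N78691 F393509) (tt N107237 (iv5 F457589)) (tt N74768 F393510) (tt N99832 (iv7 F426438)))
theorem Q91532 : ∀ i, i < 91532 → P i := stepQ 91531 Q91531 (allL N91531 (tt N73127 (iv1 F393515)) (tt N55184 (iv0 D194512)) (tt N73129 (iv2 F393512)) (tt N108626 (iv3 F463268)) (tt N90577 (iv4 F393514)) (tt N92561 (iv5 F397382)) (tt N90730 F393511) (tt N73122 F393513))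
theorem Q91533 : ∀ i, i < 91533 → P i := stepQ 91532 Q91532 (allL N91532 (tt N117515 D220774) (tt N58532 F393518) (tt N108681 (iv2 F463520)) (tt N105739 (iv3 F451478)) (tt N55184 (iv4 D194513)) (tt N76513 F393517) (tt N76514 F393516) (tt N117516 D220775))
theorem Q91534 : ∀ i, i < 91534 → P i := stepQ 91533 Q91533 (allL N91533 (tt N73122 (iv1 F393522)) (tt N73129 F393523) (tt N73127 F393519) (tt N55195 F393520) (tt N117516 (iv4 F505462)) (tt N55185 F393521) (tt N101865 (iv6 F434730)) (tt N55184 (iv7 D194514)))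
theorem Q91535 : ∀ i, i < 91535 → P i := stepQ 91534 Q91534 (allL N91534 (tt N55817 (iv1 F393526)) (tt N55186 (iv0 D194515)) (tt N72694 (iv2 F393525)) (tt N73142 F393529) (tt N92588 (iv4 F397513)) (tt N62307 F393524) (tt N74823 (iv6 F393528)) (tt N72772 F393527))
theorem Q91536 : ∀ i, i < 91536 → P i := stepQ 91535 Q91535 (allL N91535 (tt N72694 (iv1 F393536)) (tt N72772 F393535) (tt N55186 (iv2 D194516)) (tt N81700 F393530) (tt N55801 F393531) (tt N62443 F393532) (tt N76122 F393533) (tt N55817 F393534))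
theorem Q91537 : ∀ i, i < 91537 → P i := stepQ 91536 Q91536 (allL N91536 (tt N55187 (iv1 D194517)) (tt N55190 F393537) (tt N65372 F393542) (tt N71276 (iv3 F393540)) (tt N110198 (iv4 F470390)) (tt N66637 F393539) (tt N65367 (iv6 F393541)) (tt N66636 F393538))
theorem Q91538 : ∀ i, i < 91538 → P i := stepQ 91537 Q91537 (allL N91537 (tt N55189 (iv1 D194518)) (tt N81700 F393547) (tt N74809 (iv2 F393544)) (tt N117514 (iv3 F505448)) (tt N99838 (iv4 F426462)) (tt N117517 D220776) (tt N66644 (iv6 F393545)) (tt N81679 F393543))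
theorem Q91539 : ∀ i, i < 91539 → P i := stepQ 91538 Q91538 (allL N91538 (tt N81679 (iv1 F393551)) (tt N74809 F393550) (tt N55189 (iv2 D194519)) (tt N55817 F393548) (tt N117518 D220777) (tt N72278 (iv5 F393552)) (tt N105279 F449531) (tt N81700 F393549))
theorem Q91540 : ∀ i, i < 91540 → P i := stepQ 91539 Q91539 (allL N91539 (tt N79119 F393555) (tt N84221 (iv0 F393556)) (tt N117518 (iv2 F505474)) (tt N83872 F393553) (tt N55189 (iv4 D194520)) (tt N117519 D220778) (tt N73710 (iv6 F393568)) (tt N81701 F393554))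
theorem Q91541 : ∀ i, i < 91541 → P i := stepQ 91540 Q91540 (allL N91540 (tt N57675 F393561) (tt N109810 (iv0 F468734)) (tt N72278 F393557) (tt N55190 F393558) (tt N76816 F393560) (tt N55189 (iv5 D194521)) (tt N73168 (iv6 F393562)) (tt N81702 F393559))
theorem Q91542 : ∀ i, i < 91542 → P i := stepQ 91541 Q91541 (allL N91541 (tt N105277 F449523) (tt N105280 F449537) (tt N105279 (iv2 F449532)) (tt N55191 F393565) (tt N73710 F393567) (tt N73169 F393566) (tt N55189 (iv6 D194522)) (tt N99500 (iv7 F424879)))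
theorem Q91543 : ∀ i, i < 91543 → P i := stepQ 91542 Q91542 (allL N91542 (tt N77105 F393575) (tt N63199 F393576) (tt N77102 F393572) (tt N117520 D220779) (tt N55190 (iv4 D194523)) (tt N110136 (iv5 F470130)) (tt N73173 F393573) (tt N77103 F393574))
theorem Q91544 : ∀ i, i < 91544 → P i := stepQ 91543 Q91543 (allL N91543 (tt N72738 F393581) (tt N117517 (iv0 F505471)) (tt N62303 F393577) (tt N55193 (iv3 D194524)) (tt N99006 (iv4 F423012)) (tt N80467 F393578) (tt N62301 F393579) (tt N81707 F393580))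
theorem Q91545 : ∀ i, i < 91545 → P i := stepQ 91544 Q91544 (allL N91544 (tt N74690 (iv1 F393586)) (tt N55194 (iv0 D194525)) (tt N74692 (iv2 F393584)) (tt N117521 D220780) (tt N62582 F393582) (tt N117522 D220781) (tt N74676 F393583) (tt N62580 F393585))
theorem Q91546 : ∀ i, i < 91546 → P i := stepQ 91545 Q91545 (allL N91545 (tt N74558 F401025) (tt N74554 (iv0 F393588)) (tt N74555 F393598) (tt N55194 (iv3 D194526)) (tt N105739 F451480) (tt N117523 D220782) (tt N81665 F393587) (tt N74556 (iv7 F393597)))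
theorem Q91547 : ∀ i, i < 91547 → P i := stepQ 91546 Q91546 (allL N91546 (tt N110200 (iv1 F470404)) (tt N100123 (iv0 F427569)) (tt N81711 F393589) (tt N117523 (iv3 F505503)) (tt N110205 (iv4 F470425)) (tt N55194 (iv5 D194527)) (tt N59608 F406158) (tt N117500 (iv7 F505360)))
theorem Q91548 : ∀ i, i < 91548 → P i := stepQ 91547 Q91547 (allL N91547 (tt N62580 (iv1 F393592)) (tt N74692 F393593) (tt N74690 F393590) (tt N74556 F393596) (tt N55195 F393591) (tt N117500 (iv5 F505358)) (tt N106946 (iv6 F456398)) (tt N55194 (iv7 D194528)))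
theorem Q91549 : ∀ i, i < 91549 → P i := stepQ 91548 Q91548 (allL N91548 (tt N84135 F393604) (tt N84134 (iv0 F393605)) (tt N84137 F393599) (tt N76542 F393600) (tt N55196 (iv4 D194529)) (tt N74527 F393601) (tt N74528 F393602) (tt N76538 F393603))
theorem Q91550 : ∀ i, i < 91550 → P i := stepQ 91549 Q91549 (allL N91549 (tt N110602 (iv1 F472335)) (tt N55199 (iv0 D194530)) (tt N88098 (iv2 F393608)) (tt N79959 (iv3 F393611)) (tt N80862 F393607) (tt N68453 F393606) (tt N79957 F393609) (tt N71728 F393610))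
theorem Q91551 : ∀ i, i < 91551 → P i := stepQ 91550 Q91550 (allL N91550 (tt N96141 (iv1 F411228)) (tt N96136 F411196) (tt N96138 F411204) (tt N92898 (iv3 F398699)) (tt N55202 (iv4 D194531)) (tt N117524 D220783) (tt N117525 D220784) (tt N96139 (iv7 F411207)))
theorem Q91552 : ∀ i, i < 91552 → P i := stepQ 91551 Q91551 (allL N91551 (tt N117526 D220785) (tt N117527 D220786) (tt N75416 F393612) (tt N90992 F393613) (tt N117525 (iv4 F505513)) (tt N66705 F393614) (tt N55202 (iv6 D194532)) (tt N111521 (iv7 F476707)))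
theorem Q91553 : ∀ i, i < 91553 → P i := stepQ 91552 Q91552 (allL N91552 (tt N96136 F411195) (tt N96141 F411227) (tt N96139 F411209) (tt N117052 (iv3 F503133)) (tt N55203 (iv4 D194533)) (tt N117528 D220787) (tt N117503 (iv6 F505380)) (tt N96138 F411206))
theorem Q91554 : ∀ i, i < 91554 → P i := stepQ 91553 Q91553 (allL N91553 (tt N55204 (iv1 D194534)) (tt N55214 F393615) (tt N57090 (iv2 F393618)) (tt N117529 D220788) (tt N90957 F393617) (tt N110197 (iv5 F470388)) (tt N91664 (iv6 F393948)) (tt N57089 F393616))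
theorem Q91555 : ∀ i, i < 91555 → P i := stepQ 91554 Q91554 (allL N91554 (tt N71726 (iv1 F393624)) (tt N79956 (iv0 F393625)) (tt N55211 F393620) (tt N84269 F393621) (tt N78846 F393622) (tt N77786 F393623) (tt N55208 (iv6 D194535)) (tt N97677 (iv7 F417880)))
theorem Q91556 : ∀ i, i < 91556 → P i := stepQ 91555 Q91555 (allL N91555 (tt N61043 F393629) (tt N63395 (iv0 F393630)) (tt N63393 (iv2 F393656)) (tt N55209 (iv3 D194536)) (tt N55212 F393627) (tt N110942 (iv5 F473888)) (tt N108339 (iv6 F462142)) (tt N63392 F393628))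
theorem Q91557 : ∀ i, i < 91557 → P i := stepQ 91556 Q91556 (allL N91556 (tt N73593 F393634) (tt N61066 (iv0 F393633)) (tt N78846 F393631) (tt N108339 (iv3 F462141)) (tt N55211 F393632) (tt N98204 (iv5 F419981)) (tt N55209 (iv6 D194537)) (tt N79953 (iv7 F393635)))
theorem Q91558 : ∀ i, i < 91558 → P i := stepQ 91557 Q91557 (allL N91557 (tt N97677 (iv1 F417882)) (tt N55211 (iv0 D194538)) (tt N71726 (iv2 F393637)) (tt N110601 (iv3 F472328)) (tt N100773 (iv4 F430404)) (tt N71725 F393636) (tt N104939 (iv6 F448033)) (tt N79956 F393638))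
theorem Q91559 : ∀ i, i < 91559 → P i := stepQ 91558 Q91558 (allL N91558 (tt N79956 (iv1 F393642)) (tt N71726 F393643) (tt N97677 (iv2 F417878)) (tt N55218 F393639) (tt N79953 F393640) (tt N77785 F393641) (tt N100647 (iv6 F429832)) (tt N55211 (iv7 D194539)))
theorem Q91560 : ∀ i, i < 91560 → P i := stepQ 91559 Q91559 (allL N91559 (tt N55212 (iv1 D194540)) (tt N61431 (iv0 F393650)) (tt N61430 F393648) (tt N74965 (iv3 F393646)) (tt N61333 (iv4 F393645)) (tt N74686 F393649) (tt N61402 (iv6 F393647)) (tt N61329 F393644))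
theorem Q91561 : ∀ i, i < 91561 → P i := stepQ 91560 Q91560 (allL N91560 (tt N61329 (iv1 F393654)) (tt N61430 F393653) (tt N55212 (iv2 D194541)) (tt N99559 (iv3 F425156)) (tt N63393 F393655) (tt N72354 F393651) (tt N99557 F425146) (tt N61431 F393652))
theorem Q91562 : ∀ i, i < 91562 → P i := stepQ 91561 Q91561 (allL N91561 (tt N65236 F393660) (tt N65235 F393661) (tt N65238 F393657) (tt N108340 (iv3 F462146)) (tt N73014 (iv4 F393662)) (tt N55213 (iv5 D194542)) (tt N65260 F393658) (tt N65212 F393659))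
theorem Q91563 : ∀ i, i < 91563 → P i := stepQ 91562 Q91562 (allL N91562 (tt N95058 (iv1 F406888)) (tt N95047 (iv0 F406801)) (tt N95056 F406864) (tt N57095 F393663) (tt N110200 (iv4 F470400)) (tt N55214 (iv5 D194543)) (tt N65278 F393664) (tt N57091 F393665))
theorem Q91564 : ∀ i, i < 91564 → P i := stepQ 91563 Q91563 (allL N91563 (tt N87456 (iv1 F393670)) (tt N81624 F393669) (tt N92000 (iv2 F395314)) (tt N65694 F393666) (tt N59833 F393668) (tt N55215 (iv5 D194544)) (tt N55217 F393667) (tt N91946 (iv7 F395078)))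
theorem Q91565 : ∀ i, i < 91565 → P i := stepQ 91564 Q91564 (allL N91564 (tt N93747 (iv1 F401752)) (tt N93349 (iv0 F400493)) (tt N117495 (iv2 F505327)) (tt N108314 F462029) (tt N74691 F393671) (tt N55220 (iv5 D194545)) (tt N94866 (iv6 F406804)) (tt N110183 (iv7 F470307)))
theorem Q91566 : ∀ i, i < 91566 → P i := stepQ 91565 Q91565 (allL N91565 (tt N59101 F393673) (tt N93921 F402436) (tt N93536 F401073) (tt N93889 F402292) (tt N55221 F393672) (tt N115575 (iv5 F495837)) (tt N55220 (iv6 D194546)) (tt N93919 (iv7 F407861)))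
theorem Q91567 : ∀ i, i < 91567 → P i := stepQ 91566 Q91566 (allL N91566 (tt N103138 (iv1 F440249)) (tt N93907 (iv0 F402378)) (tt N60219 F393674) (tt N78260 F393675) (tt N93919 (iv4 F407859)) (tt N84610 F393676) (tt N60218 F393677) (tt N55221 (iv7 D194547)))
theorem Q91568 : ∀ i, i < 91568 → P i := stepQ 91567 Q91567 (allL N91567 (tt N93349 (iv1 F400494)) (tt N93747 (iv0 F401751)) (tt N110183 (iv2 F470305)) (tt N59063 F393678) (tt N117522 (iv4 F505497)) (tt N55222 (iv5 D194548)) (tt N117530 D220789) (tt N117495 (iv7 F505330)))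
theorem Q91569 : ∀ i, i < 91569 → P i := stepQ 91568 Q91568 (allL N91568 (tt N110024 F469604) (tt N91702 (iv0 F394096)) (tt N110077 F469869) (tt N55223 (iv3 D194549)) (tt N90373 F393679) (tt N107702 (iv5 F461514)) (tt N108964 F464698) (tt N110078 (iv7 F469872)))
theorem Q91570 : ∀ i, i < 91570 → P i := stepQ 91569 Q91569 (allL N91569 (tt N101426 F432945) (tt N117531 D220790) (tt N108918 (iv2 F464478)) (tt N107702 F461515) (tt N93886 (iv4 F402280)) (tt N55223 (iv5 D194550)) (tt N110846 F473425) (tt N117496 (iv7 F505336)))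
theorem Q91571 : ∀ i, i < 91571 → P i := stepQ 91570 Q91570 (allL N91570 (tt N97008 F464701) (tt N79456 (iv0 F464702)) (tt N108847 F464245) (tt N108964 (iv3 F464699)) (tt N115513 (iv4 F495578)) (tt N117532 D220791) (tt N55223 (iv6 D194551)) (tt N108967 F464710))
theorem Q91572 : ∀ i, i < 91572 → P i := stepQ 91571 Q91571 (allL N91571 (tt N78244 F406875) (tt N106783 (iv0 F455665)) (tt N115073 (iv2 F493347)) (tt N55224 (iv3 D194552)) (tt N106775 (iv4 F455628)) (tt N117533 D220792) (tt N74220 (iv6 F406876)) (tt N108849 (iv7 F464241)))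
theorem Q91573 : ∀ i, i < 91573 → P i := stepQ 91572 Q91572 (allL N91572 (tt N117531 (iv1 F505547)) (tt N101426 (iv0 F432944)) (tt N117496 (iv2 F505333)) (tt N117533 (iv3 F505560)) (tt N108919 (iv4 F464481)) (tt N55224 (iv5 D194553)) (tt N95196 (iv6 F407369)) (tt N108918 F464480))
theorem Q91574 : ∀ i, i < 91574 → P i := stepQ 91573 Q91573 (allL N91573 (tt N97120 F463417) (tt N95276 F463418) (tt N117497 (iv2 F505338)) (tt N74220 F406877) (tt N115515 (iv4 F495590)) (tt N117534 D220793) (tt N55224 (iv6 D194554)) (tt N117535 D220794))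
theorem Q91575 : ∀ i, i < 91575 → P i := stepQ 91574 Q91574 (allL N91574 (tt N110076 (iv1 F469866)) (tt N101199 (iv0 F432159)) (tt N55225 (iv2 D194555)) (tt N117498 (iv3 F505344)) (tt N91336 F393680) (tt N89820 F393681) (tt N55261 F393682) (tt N110186 (iv7 F470320)))
theorem Q91576 : ∀ i, i < 91576 → P i := stepQ 91575 Q91575 (allL N91575 (tt N101199 (iv1 F432158)) (tt N110076 (iv0 F469864)) (tt N110186 F470322) (tt N55227 F393683) (tt N91338 F393684) (tt N114469 (iv5 F490341)) (tt N101685 F433861) (tt N55225 (iv7 D194556)))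
theorem Q91577 : ∀ i, i < 91577 → P i := stepQ 91576 Q91576 (allL N91576 (tt N55226 (iv1 D194557)) (tt N110205 F470429) (tt N101773 (iv2 F434276)) (tt N96153 (iv3 F411257)) (tt N108318 (iv4 F462040)) (tt N96141 (iv5 F411226)) (tt N72291 (iv6 F393685)) (tt N96140 F411216))
theorem Q91578 : ∀ i, i < 91578 → P i := stepQ 91577 Q91577 (allL N91577 (tt N100123 F427570) (tt N110200 (iv0 F470403)) (tt N117500 (iv2 F505357)) (tt N86074 F393686) (tt N55226 (iv4 D194558)) (tt N74690 F393688) (tt N86073 F393687) (tt N81711 (iv7 F393689)))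
theorem Q91579 : ∀ i, i < 91579 → P i := stepQ 91578 Q91578 (allL N91578 (tt N101773 (iv1 F434280)) (tt N96140 (iv0 F411214)) (tt N110205 F470428) (tt N114469 (iv3 F490340)) (tt N81711 F393690) (tt N55227 F393691) (tt N117536 D220795) (tt N55226 (iv7 D194559)))
theorem Q91580 : ∀ i, i < 91580 → P i := stepQ 91579 Q91579 (allL N91579 (tt N117504 (iv1 F505385)) (tt N106057 (iv0 F452935)) (tt N117501 (iv2 F505366)) (tt N101685 (iv3 F433857)) (tt N55228 F393692) (tt N117537 D220796) (tt N55227 (iv6 D194560)) (tt N55265 F393693))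
theorem Q91581 : ∀ i, i < 91581 → P i := stepQ 91580 Q91580 (allL N91580 (tt N110985 (iv1 F474092)) (tt N110619 (iv0 F472433)) (tt N91351 F393694) (tt N114798 (iv3 F491929)) (tt N55230 (iv4 D194561)) (tt N109982 (iv5 F469458)) (tt N117538 D220797) (tt N99201 (iv7 F423679)))
theorem Q91582 : ∀ i, i < 91582 → P i := stepQ 91581 Q91581 (allL N91581 (tt N117539 D220798) (tt N117540 D220799) (tt N91352 F393695) (tt N55231 F393696) (tt N117538 (iv4 F505594)) (tt N87339 F393697) (tt N55230 (iv6 D194562)) (tt N117541 D220800))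
theorem Q91583 : ∀ i, i < 91583 → P i := stepQ 91582 Q91582 (allL N91582 (tt N85629 F393700) (tt N55231 (iv0 D194563)) (tt N85627 F415741) (tt N74036 (iv3 F393699)) (tt N93823 (iv4 F402046)) (tt N108623 (iv5 F463256)) (tt N74034 F393698) (tt N85628 (iv7 F415740)))
theorem Q91584 : ∀ i, i < 91584 → P i := stepQ 91583 Q91583 (allL N91583 (tt N55231 (iv1 D194564)) (tt N85629 F393701) (tt N85628 (iv2 F415742)) (tt N100505 F429225) (tt N114199 F488953) (tt N116013 (iv5 F498050)) (tt N117527 F505527) (tt N85627 F415743))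
theorem Q91585 : ∀ i, i < 91585 → P i := stepQ 91584 Q91584 (allL N91584 (tt N85628 (iv1 F393704)) (tt N85627 F393705) (tt N85629 F393702) (tt N117541 (iv3 F505609)) (tt N112204 (iv4 F480040)) (tt N87344 F393703) (tt N96073 F410917) (tt N55231 (iv7 D194565)))
theorem Q91586 : ∀ i, i < 91586 → P i := stepQ 91585 Q91585 (allL N91585 (tt N117542 D220801) (tt N114470 F490348) (tt N117543 D220802) (tt N55232 (iv3 D194566)) (tt N117475 (iv4 F505222)) (tt N91425 F393706) (tt N117544 D220803) (tt N91640 (iv7 F393861)))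
theorem Q91587 : ∀ i, i < 91587 → P i := stepQ 91586 Q91586 (allL N91586 (tt N93823 F402047) (tt N114199 (iv0 F488954)) (tt N91636 (iv2 F393853)) (tt N117544 (iv3 F505619)) (tt N87999 F393707) (tt N117545 D220804) (tt N55232 (iv6 D194567)) (tt N96083 (iv7 F410963)))
theorem Q91588 : ∀ i, i < 91588 → P i := stepQ 91587 Q91587 (allL N91587 (tt N117546 D220805) (tt N117547 D220806) (tt N117548 D220807) (tt N55233 (iv3 D194568)) (tt N92500 (iv4 F397180)) (tt N91729 (iv5 F394214)) (tt N92499 F397178) (tt N91635 (iv7 F393852)))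
theorem Q91589 : ∀ i, i < 91589 → P i := stepQ 91588 Q91588 (allL N91588 (tt N96022 (iv1 F410678)) (tt N95727 (iv0 F409332)) (tt N56859 F393708) (tt N58150 F393709) (tt N67242 F393711) (tt N55234 (iv5 D194569)) (tt N58148 F393710) (tt N96020 (iv7 F410666)))
theorem Q91590 : ∀ i, i < 91590 → P i := stepQ 91589 Q91589 (allL N91589 (tt N97206 (iv1 F415896)) (tt N91257 (iv0 F413630)) (tt N91358 F393712) (tt N55235 (iv3 D194570)) (tt N77995 F393713) (tt N88233 (iv5 F393714)) (tt N96072 (iv6 F410912)) (tt N96069 (iv7 F410900)))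
theorem Q91591 : ∀ i, i < 91591 → P i := stepQ 91590 Q91590 (allL N91590 (tt N56452 F393719) (tt N88217 F393718) (tt N88216 F393715) (tt N88233 F393716) (tt N88234 F393720) (tt N55235 (iv5 D194571)) (tt N115722 (iv6 F496514)) (tt N88215 F393717))
theorem Q91592 : ∀ i, i < 91592 → P i := stepQ 91591 Q91591 (allL N91591 (tt N55284 F393721) (tt N96030 (iv0 F410720)) (tt N93407 F400656) (tt N112719 (iv3 F482339)) (tt N55236 (iv4 D194572)) (tt N103455 (iv5 F441714)) (tt N108301 (iv6 F461966)) (tt N96042 (iv7 F410770)))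
theorem Q91593 : ∀ i, i < 91593 → P i := stepQ 91592 Q91592 (allL N91592 (tt N88217 (iv1 F393727)) (tt N56452 F393725) (tt N88215 F393722) (tt N91360 F393723) (tt N117549 D220808) (tt N55236 (iv5 D194573)) (tt N84693 F393726) (tt N88216 F393724))
theorem Q91594 : ∀ i, i < 91594 → P i := stepQ 91593 Q91593 (allL N91593 (tt N91411 F393729) (tt N74034 F402088) (tt N96070 (iv2 F410903)) (tt N91361 F393728) (tt N108301 (iv4 F461965)) (tt N117446 (iv5 F505074)) (tt N55236 (iv6 D194574)) (tt N96071 (iv7 F410909)))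
theorem Q91595 : ∀ i, i < 91595 → P i := stepQ 91594 Q91594 (allL N91594 (tt N74036 F393733) (tt N69138 F393734) (tt N96068 (iv2 F410890)) (tt N91347 F393730) (tt N56936 F393731) (tt N87412 F393732) (tt N55240 (iv6 D194575)) (tt N96075 (iv7 F410925)))
theorem Q91596 : ∀ i, i < 91596 → P i := stepQ 91595 Q91595 (allL N91595 (tt N89946 F393740) (tt N89910 (iv0 F393741)) (tt N89944 F393735) (tt N55242 (iv3 D194576)) (tt N83501 F393736) (tt N88157 F393737) (tt N85453 F393738) (tt N89885 F393739))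
theorem Q91597 : ∀ i, i < 91597 → P i := stepQ 91596 Q91596 (allL N91596 (tt N96021 F410677) (tt N55245 (iv0 D194577)) (tt N91660 (iv2 F393930)) (tt N117550 D220809) (tt N91497 F393931) (tt N117551 D220810) (tt N117552 D220811) (tt N91664 (iv7 F393949)))
theorem Q91598 : ∀ i, i < 91598 → P i := stepQ 91597 Q91597 (allL N91597 (tt N55245 (iv1 D194578)) (tt N96021 (iv0 F410675)) (tt N91664 (iv2 F393947)) (tt N90953 F393744) (tt N90958 (iv4 F393743)) (tt N117553 D220812) (tt N57090 F393745) (tt N91660 (iv7 F393927)))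
theorem Q91599 : ∀ i, i < 91599 → P i := stepQ 91598 Q91598 (allL N91598 (tt N117554 D220813) (tt N93928 (iv0 F402458)) (tt N110191 (iv2 F470356)) (tt N93525 F401033) (tt N117555 D220814) (tt N55245 (iv5 D194579)) (tt N83261 F393746) (tt N96023 (iv7 F410686)))
theorem Q91600 : ∀ i, i < 91600 → P i := stepQ 91599 Q91599 (allL N91599 (tt N117507 (iv1 F505409)) (tt N55295 F393752) (tt N117502 (iv2 F505373)) (tt N112179 (iv3 F479918)) (tt N55246 (iv4 D194580)) (tt N110469 (iv5 F488678)) (tt N112178 F479917) (tt N117503 (iv7 F505381)))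
theorem Q91601 : ∀ i, i < 91601 → P i := stepQ 91600 Q91600 (allL N91600 (tt N114086 (iv1 F488538)) (tt N84577 (iv0 F393749)) (tt N111520 (iv2 F476698)) (tt N91382 F393747) (tt N84604 (iv4 F393751)) (tt N55246 (iv5 D194581)) (tt N80271 F393750) (tt N88164 F393748))
theorem Q91602 : ∀ i, i < 91602 → P i := stepQ 91601 Q91601 (allL N91601 (tt N117527 (iv1 F505523)) (tt N117526 F505520) (tt N111521 (iv2 F476704)) (tt N91383 F393753) (tt N112178 (iv4 F479915)) (tt N75417 F393754) (tt N55246 (iv6 D194582)) (tt N75416 F393755))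
theorem Q91603 : ∀ i, i < 91603 → P i := stepQ 91602 Q91602 (allL N91602 (tt N91261 F393758) (tt N97295 F416262) (tt N90990 F393756) (tt N55247 (iv3 D194583)) (tt N110775 (iv4 F473141)) (tt N115638 (iv5 F496085)) (tt N89303 F393757) (tt N117485 (iv7 F505284)))
theorem Q91604 : ∀ i, i < 91604 → P i := stepQ 91603 Q91603 (allL N91603 (tt N55295 F393913) (tt N117507 F505408) (tt N117503 (iv2 F505379)) (tt N64806 (iv3 F393759)) (tt N55247 (iv4 D194584)) (tt N64805 F393760) (tt N96139 F411210) (tt N117502 (iv7 F505375)))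
theorem Q91605 : ∀ i, i < 91605 → P i := stepQ 91604 Q91604 (allL N91604 (tt N117556 D220815) (tt N114463 (iv0 F490310)) (tt N117557 D220816) (tt N55250 (iv3 D194585)) (tt N90906 F393761) (tt N83267 F393762) (tt N116982 F502817) (tt N87705 F393763))
theorem Q91606 : ∀ i, i < 91606 → P i := stepQ 91605 Q91605 (allL N91605 (tt N95063 (iv1 F406903)) (tt N95062 F406899) (tt N91626 (iv2 F393816)) (tt N116982 (iv3 F502813)) (tt N87631 F393764) (tt N95050 (iv5 F406840)) (tt N55250 (iv6 D194586)) (tt N95049 (iv7 F406817)))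
theorem Q91607 : ∀ i, i < 91607 → P i := stepQ 91606 Q91606 (allL N91606 (tt N99234 (iv1 F423787)) (tt N91264 F393767) (tt N91397 F393765) (tt N55252 (iv3 D194587)) (tt N99220 (iv4 F423743)) (tt N80843 F393766) (tt N90742 (iv6 F415910)) (tt N99218 (iv7 F423733)))
theorem Q91608 : ∀ i, i < 91608 → P i := stepQ 91607 Q91607 (allL N91607 (tt N108840 F464214) (tt N55257 (iv0 F393768)) (tt N112172 (iv2 F479883)) (tt N95279 (iv3 F407698)) (tt N55252 (iv4 D194588)) (tt N116981 (iv5 F502808)) (tt N95276 F407691) (tt N97025 (iv7 F415091)))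
theorem Q91609 : ∀ i, i < 91609 → P i := stepQ 91608 Q91608 (allL N91608 (tt N55257 F393770) (tt N108840 F464215) (tt N97025 (iv2 F415090)) (tt N89433 F393769) (tt N55253 (iv4 D194589)) (tt N116954 (iv5 F502682)) (tt N117558 D220817) (tt N112172 (iv7 F479885)))
theorem Q91610 : ∀ i, i < 91610 → P i := stepQ 91609 Q91609 (allL N91609 (tt N87079 (iv1 F393773)) (tt N104866 (iv0 F447705)) (tt N99217 (iv2 F423724)) (tt N91400 F393771) (tt N117558 (iv4 F505689)) (tt N87456 F393772) (tt N55253 (iv6 D194590)) (tt N97121 (iv7 F415537)))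
theorem Q91611 : ∀ i, i < 91611 → P i := stepQ 91610 Q91610 (allL N91610 (tt N97025 (iv1 F415094)) (tt N112172 (iv0 F479886)) (tt N108840 (iv2 F464210)) (tt N107707 (iv3 F459315)) (tt N109309 (iv4 F466325)) (tt N107706 F459313) (tt N73727 F393774) (tt N55257 (iv7 D194591)))
theorem Q91612 : ∀ i, i < 91612 → P i := stepQ 91611 Q91611 (allL N91611 (tt N93269 F400220) (tt N85635 F393775) (tt N110080 (iv2 F469882)) (tt N110201 (iv3 F470406)) (tt N109873 (iv4 F469022)) (tt N55260 (iv5 D194592)) (tt N116402 (iv6 F499907)) (tt N110204 (iv7 F470421)))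
theorem Q91613 : ∀ i, i < 91613 → P i := stepQ 91612 Q91612 (allL N91612 (tt N82514 (iv1 F393779)) (tt N55262 (iv0 D194593)) (tt N67089 (iv2 F393778)) (tt N110212 (iv3 F470454)) (tt N89058 F393777) (tt N67088 F393776) (tt N94741 (iv6 F405780)) (tt N89809 F393780))
theorem Q91614 : ∀ i, i < 91614 → P i := stepQ 91613 Q91613 (allL N91613 (tt N117501 F505372) (tt N55265 (iv0 D194594)) (tt N106057 (iv2 F452937)) (tt N106786 (iv3 F455678)) (tt N108479 F462770) (tt N111369 (iv5 F476040)) (tt N99470 F424727) (tt N117504 (iv7 F505386)))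
theorem Q91615 : ∀ i, i < 91615 → P i := stepQ 91614 Q91614 (allL N91614 (tt N55265 (iv1 D194595)) (tt N117501 (iv0 F505371)) (tt N117504 (iv2 F505389)) (tt N106058 (iv3 F452939)) (tt N90528 F406838) (tt N97497 F417110) (tt N108973 (iv6 F464726)) (tt N106057 F452936))
theorem Q91616 : ∀ i, i < 91616 → P i := stepQ 91615 Q91615 (allL N91615 (tt N117559 D220818) (tt N100543 (iv0 F429409)) (tt N65007 F393781) (tt N65053 F393782) (tt N81671 (iv4 F393784)) (tt N55265 (iv5 D194596)) (tt N82508 F393783) (tt N117537 (iv7 F505590)))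
theorem Q91617 : ∀ i, i < 91617 → P i := stepQ 91616 Q91616 (allL N91616 (tt N89231 (iv1 F406823)) (tt N89233 (iv0 F406821)) (tt N89230 (iv2 F406822)) (tt N55266 (iv3 D194598)) (tt N100125 (iv4 F427582)) (tt N108268 (iv5 F461791)) (tt N112695 (iv6 F482209)) (tt N89229 F406824))
theorem Q91618 : ∀ i, i < 91618 → P i := stepQ 91617 Q91617 (allL N91617 (tt N95049 (iv1 F406818)) (tt N91626 (iv0 F393825)) (tt N95063 F406909) (tt N80355 F393786) (tt N55266 (iv4 D194599)) (tt N96452 (iv5 F412578)) (tt N99499 (iv6 F424874)) (tt N95062 F406902))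
theorem Q91619 : ∀ i, i < 91619 → P i := stepQ 91618 Q91618 (allL N91618 (tt N102818 F438790) (tt N91361 (iv0 F393788)) (tt N111598 (iv2 F477094)) (tt N108268 (iv3 F461792)) (tt N79552 F393787) (tt N55266 (iv5 D194600)) (tt N117560 D220819) (tt N103150 F440312))
theorem Q91620 : ∀ i, i < 91620 → P i := stepQ 91619 Q91619 (allL N91619 (tt N99217 (iv1 F423728)) (tt N97121 (iv0 F415538)) (tt N104866 F447707) (tt N112695 (iv3 F482208)) (tt N99499 (iv4 F424873)) (tt N87080 F393789) (tt N55266 (iv6 D194601)) (tt N87079 (iv7 F393790)))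
theorem Q91621 : ∀ i, i < 91621 → P i := stepQ 91620 Q91620 (allL N91620 (tt N91626 F393819) (tt N95049 (iv0 F406833)) (tt N95062 F406900) (tt N74533 F406831) (tt N55267 (iv4 D194604)) (tt N93841 F406834) (tt N93521 (iv6 F406837)) (tt N95063 (iv7 F406904)))
theorem Q91622 : ∀ i, i < 91622 → P i := stepQ 91621 Q91621 (allL N91621 (tt N91361 F393794) (tt N102818 (iv0 F438789)) (tt N103150 (iv2 F440308)) (tt N97357 F416478) (tt N79555 F393792) (tt N55267 (iv5 D194605)) (tt N91353 F393793) (tt N111598 (iv7 F477098)))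
theorem Q91623 : ∀ i, i < 91623 → P i := stepQ 91622 Q91622 (allL N91622 (tt N83150 (iv1 F393797)) (tt N55269 (iv0 D194607)) (tt N63498 (iv2 F393799)) (tt N74088 F393796) (tt N100099 (iv4 F427513)) (tt N87931 F393795) (tt N74086 (iv6 F393798)) (tt N83156 (iv7 F393800)))
theorem Q91624 : ∀ i, i < 91624 → P i := stepQ 91623 Q91623 (allL N91623 (tt N55269 (iv1 D194608)) (tt N83150 F393801) (tt N83156 (iv2 F393806)) (tt N63457 (iv3 F393804)) (tt N74506 F393805) (tt N91430 F393803) (tt N58586 (iv6 F393807)) (tt N63498 F393802))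
theorem Q91625 : ∀ i, i < 91625 → P i := stepQ 91624 Q91624 (allL N91624 (tt N58585 F393811) (tt N95371 F408016) (tt N90565 F393808) (tt N55271 F393809) (tt N108688 (iv4 F463559)) (tt N63500 F393810) (tt N55269 (iv6 D194609)) (tt N95369 (iv7 F408005)))
theorem Q91626 : ∀ i, i < 91626 → P i := stepQ 91625 Q91625 (allL N91625 (tt N93782 F401871) (tt N73072 (iv0 F393814)) (tt N112775 (iv2 F482599)) (tt N55270 (iv3 D194610)) (tt N95327 F407866) (tt N83134 F393812) (tt N58177 (iv6 F393815)) (tt N83162 F393813))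
theorem Q91627 : ∀ i, i < 91627 → P i := stepQ 91626 Q91626 (allL N91626 (tt N91617 F393825) (tt N91620 (iv0 F393819)) (tt N91605 F393816) (tt N58177 F393817) (tt N55271 F393818) (tt N58162 F393820) (tt N55270 (iv6 D194611)) (tt N58161 (iv7 F393821)))
theorem Q91628 : ∀ i, i < 91628 → P i := stepQ 91627 Q91627 (allL N91627 (tt N90566 (iv1 F393830)) (tt N55271 (iv0 D194612)) (tt N108479 (iv2 F462764)) (tt N89209 (iv3 F393833)) (tt N106057 (iv4 F452934)) (tt N89208 F393834) (tt N95303 (iv6 F407789)) (tt N90528 F393832))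
theorem Q91629 : ∀ i, i < 91629 → P i := stepQ 91628 Q91628 (allL N91628 (tt N55271 (iv1 D194613)) (tt N90566 F393822) (tt N90528 F393824) (tt N97170 (iv3 F415731)) (tt N117504 (iv4 F505387)) (tt N90527 (iv5 F393823)) (tt N117561 D220820) (tt N108479 (iv7 F462767)))
theorem Q91630 : ∀ i, i < 91630 → P i := stepQ 91629 Q91629 (allL N91629 (tt N90528 (iv1 F393831)) (tt N108479 (iv0 F462768)) (tt N90566 F393826) (tt N95369 (iv3 F408004)) (tt N58161 F393827) (tt N81831 F393828) (tt N83161 F393829) (tt N55271 (iv7 D194614)))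
theorem Q91631 : ∀ i, i < 91631 → P i := stepQ 91630 Q91630 (allL N91630 (tt N72139 F393838) (tt N97170 (iv0 F415733)) (tt N74208 F393835) (tt N74052 F393836) (tt N99333 (iv4 F424140)) (tt N74052 F393837) (tt N55272 (iv6 D194615)) (tt N108478 (iv7 F462758)))
theorem Q91632 : ∀ i, i < 91632 → P i := stepQ 91631 Q91631 (allL N91631 (tt N108476 F462754) (tt N117562 D220821) (tt N115005 (iv2 F493016)) (tt N91413 F393839) (tt N101152 (iv4 F431961)) (tt N114869 (iv5 F492252)) (tt N55274 (iv6 D194616)) (tt N117563 D220822))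
theorem Q91633 : ∀ i, i < 91633 → P i := stepQ 91632 Q91632 (allL N91632 (tt N60237 F393842) (tt N91460 F393843) (tt N91414 F393840) (tt N55275 (iv3 D194617)) (tt N109940 (iv4 F469316)) (tt N87621 F393841) (tt N96830 (iv6 F414167)) (tt N115004 (iv7 F493013)))
theorem Q91634 : ∀ i, i < 91634 → P i := stepQ 91633 Q91633 (allL N91633 (tt N93673 (iv1 F401519)) (tt N67138 (iv0 F393844)) (tt N92533 F397283) (tt N96830 (iv3 F414163)) (tt N93652 (iv4 F401440)) (tt N91814 (iv5 F394529)) (tt N55275 (iv6 D194618)) (tt N108474 (iv7 F462746)))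
theorem Q91635 : ∀ i, i < 91635 → P i := stepQ 91634 Q91634 (allL N91634 (tt N58451 (iv1 F393849)) (tt N58450 F393850) (tt N58453 F393845) (tt N55279 F393846) (tt N93584 (iv4 F401210)) (tt N87314 F393847) (tt N55277 (iv6 D194619)) (tt N58381 F393848))
theorem Q91636 : ∀ i, i < 91636 → P i := stepQ 91635 Q91635 (allL N91635 (tt N117564 D220823) (tt N117565 D220824) (tt N117566 D220825) (tt N55278 (iv3 D194620)) (tt N117453 (iv4 F505119)) (tt N83122 F393851) (tt N117567 D220826) (tt N91587 F393852))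
theorem Q91637 : ∀ i, i < 91637 → P i := stepQ 91636 Q91636 (allL N91636 (tt N114787 F491862) (tt N104371 F445466) (tt N91586 F393853) (tt N117567 (iv3 F505741)) (tt N55279 F393854) (tt N117568 D220827) (tt N55278 (iv6 D194621)) (tt N117569 D220828))
theorem Q91638 : ∀ i, i < 91638 → P i := stepQ 91637 Q91637 (allL N91637 (tt N115904 (iv1 F497513)) (tt N55279 (iv0 D194622)) (tt N115903 F497503) (tt N90572 (iv3 F393856)) (tt N112203 F480038) (tt N117570 D220829) (tt N90568 F393855) (tt N111585 F477024))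
theorem Q91639 : ∀ i, i < 91639 → P i := stepQ 91638 Q91638 (allL N91638 (tt N55279 (iv1 D194623)) (tt N115904 F497512) (tt N111585 (iv2 F477020)) (tt N117562 F505712) (tt N112202 (iv4 F480445)) (tt N115913 (iv5 F497557)) (tt N111583 (iv6 F477017)) (tt N115903 (iv7 F497504)))
theorem Q91640 : ∀ i, i < 91640 → P i := stepQ 91639 Q91639 (allL N91639 (tt N111585 F477023) (tt N115903 F497505) (tt N115904 (iv2 F497507)) (tt N58381 F393857) (tt N117569 (iv4 F505753)) (tt N87321 F393858) (tt N58379 F393859) (tt N55279 (iv7 D194624)))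
theorem Q91641 : ∀ i, i < 91641 → P i := stepQ 91640 Q91640 (allL N91640 (tt N117571 D220830) (tt N117572 D220831) (tt N117573 D220832) (tt N55281 (iv3 D194625)) (tt N111193 F475168) (tt N83120 F393860) (tt N93759 F401804) (tt N91585 F393861))
theorem Q91642 : ∀ i, i < 91642 → P i := stepQ 91641 Q91641 (allL N91641 (tt N59139 F393866) (tt N59135 (iv0 F393864)) (tt N59136 F393862) (tt N93759 F401799) (tt N55282 F393863) (tt N99494 (iv5 F424845)) (tt N55281 (iv6 D194626)) (tt N59137 (iv7 F393865)))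
theorem Q91643 : ∀ i, i < 91643 → P i := stepQ 91642 Q91642 (allL N91642 (tt N58379 (iv1 F393869)) (tt N55282 (iv0 D194627)) (tt N96797 F413996) (tt N93673 (iv3 F401520)) (tt N101775 (iv4 F434286)) (tt N58555 F393867) (tt N81705 F393868) (tt N96798 (iv7 F413999)))
theorem Q91644 : ∀ i, i < 91644 → P i := stepQ 91643 Q91643 (allL N91643 (tt N55282 (iv1 D194628)) (tt N58379 F393870) (tt N96798 (iv2 F414003)) (tt N105031 (iv3 F448472)) (tt N96108 (iv4 F411094)) (tt N58554 F393871) (tt N93739 F401727) (tt N96797 F413997))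
theorem Q91645 : ∀ i, i < 91645 → P i := stepQ 91644 Q91644 (allL N91644 (tt N55283 (iv1 D194629)) (tt N109631 F467844) (tt N67084 (iv2 F401828)) (tt N93426 F401832) (tt N98199 (iv4 F419946)) (tt N61296 F398539) (tt N96114 (iv6 F411120)) (tt N109632 (iv7 F467849)))
theorem Q91646 : ∀ i, i < 91646 → P i := stepQ 91645 Q91645 (allL N91645 (tt N72334 (iv1 F393877)) (tt N93422 F400689) (tt N57769 F393872) (tt N55284 F393873) (tt N57767 F393874) (tt N80962 (iv5 F393875)) (tt N55283 (iv6 D194630)) (tt N57765 (iv7 F393876)))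
theorem Q91647 : ∀ i, i < 91647 → P i := stepQ 91646 Q91646 (allL N91646 (tt N93407 F400658) (tt N96042 F410769) (tt N96030 (iv2 F410717)) (tt N57765 F393878) (tt N55287 F393879) (tt N59600 F393880) (tt N117507 (iv6 F505407)) (tt N55284 (iv7 D194631)))
theorem Q91648 : ∀ i, i < 91648 → P i := stepQ 91647 Q91647 (allL N91647 (tt N60230 F393881) (tt N82173 (iv0 F393882)) (tt N97137 (iv2 F415626)) (tt N55285 (iv3 D194632)) (tt N94331 (iv4 F404065)) (tt N117574 D220833) (tt N93740 (iv6 F401730)) (tt N117505 (iv7 F505394)))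
theorem Q91649 : ∀ i, i < 91649 → P i := stepQ 91648 Q91648 (allL N91648 (tt N111943 (iv1 F478793)) (tt N97160 (iv0 F415714)) (tt N93000 (iv2 F399077)) (tt N117574 (iv3 F505785)) (tt N56560 F393884) (tt N55285 (iv5 D194633)) (tt N117575 D220834) (tt N88357 F393883))
theorem Q91650 : ∀ i, i < 91650 → P i := stepQ 91649 Q91649 (allL N91649 (tt N97160 (iv1 F415715)) (tt N111943 (iv0 F478792)) (tt N88357 F393891) (tt N69494 F393892) (tt N56561 F393893) (tt N55286 (iv5 D194634)) (tt N82609 F393894) (tt N93000 (iv7 F399079)))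
theorem Q91651 : ∀ i, i < 91651 → P i := stepQ 91650 Q91650 (allL N91650 (tt N108477 F462756) (tt N90568 (iv0 F393897)) (tt N111599 (iv2 F477100)) (tt N89197 F393895) (tt N93443 (iv4 F400755)) (tt N103198 (iv5 F440526)) (tt N55286 (iv6 D194635)) (tt N90524 F393896))
theorem Q91652 : ∀ i, i < 91652 → P i := stepQ 91651 Q91651 (allL N91651 (tt N90572 F393901) (tt N111578 (iv0 F476991)) (tt N111586 F477027) (tt N83220 F393898) (tt N83200 F393899) (tt N87238 F393900) (tt N55289 (iv6 D194636)) (tt N111587 (iv7 F477029)))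
theorem Q91653 : ∀ i, i < 91653 → P i := stepQ 91652 Q91652 (allL N91652 (tt N89929 F393906) (tt N72268 F411483) (tt N89582 F393902) (tt N115059 (iv3 F493282)) (tt N55291 F393903) (tt N89895 F393904) (tt N55290 (iv6 D194637)) (tt N59258 F393905))
theorem Q91654 : ∀ i, i < 91654 → P i := stepQ 91653 Q91653 (allL N91653 (tt N97143 F415656) (tt N55291 (iv0 D194638)) (tt N80936 (iv2 F393910)) (tt N76252 (iv3 F393911)) (tt N107182 (iv4 F457382)) (tt N80254 (iv5 F393912)) (tt N80255 F393909) (tt N107241 (iv7 F457606)))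
theorem Q91655 : ∀ i, i < 91655 → P i := stepQ 91654 Q91654 (allL N91654 (tt N55291 (iv1 D194639)) (tt N97143 F415654) (tt N107241 (iv2 F457605)) (tt N90676 (iv3 F393915)) (tt N109314 (iv4 F466344)) (tt N111059 (iv5 F474460)) (tt N90674 F393916) (tt N80936 F393914))
theorem Q91656 : ∀ i, i < 91656 → P i := stepQ 91655 Q91655 (allL N91655 (tt N117576 D220835) (tt N117577 D220836) (tt N115896 (iv2 F497462)) (tt N55298 F393917) (tt N84210 F393919) (tt N55291 (iv5 D194640)) (tt N55293 F393918) (tt N117578 D220837))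
theorem Q91657 : ∀ i, i < 91657 → P i := stepQ 91656 Q91656 (allL N91656 (tt N107241 (iv1 F457608)) (tt N80936 F415655) (tt N97143 (iv2 F415650)) (tt N55299 F393920) (tt N59258 F393921) (tt N117578 (iv5 F505811)) (tt N59256 F393922) (tt N55291 (iv7 D194641)))
theorem Q91658 : ∀ i, i < 91658 → P i := stepQ 91657 Q91657 (allL N91657 (tt N93413 F400665) (tt N96039 F410764) (tt N96041 (iv2 F410761)) (tt N55295 F393923) (tt N115059 (iv4 F493283)) (tt N105512 (iv5 F450525)) (tt N55294 (iv6 D194642)) (tt N96032 (iv7 F410729)))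
theorem Q91659 : ∀ i, i < 91659 → P i := stepQ 91658 Q91658 (allL N91658 (tt N117579 D220838) (tt N108975 (iv0 F464729)) (tt N117506 (iv2 F505397)) (tt N105512 (iv3 F450523)) (tt N78069 (iv4 F393925)) (tt N55295 (iv5 D194643)) (tt N78068 F393924) (tt N117580 D220839))
theorem Q91660 : ∀ i, i < 91660 → P i := stepQ 91659 Q91659 (allL N91659 (tt N117503 (iv1 F505384)) (tt N117502 (iv0 F505377)) (tt N117507 (iv2 F505403)) (tt N96032 (iv3 F410728)) (tt N55299 F393926) (tt N117580 (iv5 F505823)) (tt N96030 F410722) (tt N55295 (iv7 D194644)))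
theorem Q91661 : ∀ i, i < 91661 → P i := stepQ 91660 Q91660 (allL N91660 (tt N59070 F393928) (tt N77100 (iv0 F393929)) (tt N91596 F393930) (tt N117307 (iv3 F504384)) (tt N55296 (iv4 D194645)) (tt N110484 (iv5 F471798)) (tt N117581 D220840) (tt N91597 F393927))
theorem Q91662 : ∀ i, i < 91662 → P i := stepQ 91661 Q91661 (allL N91661 (tt N114111 (iv1 F488598)) (tt N84603 (iv0 F393935)) (tt N111499 (iv2 F476611)) (tt N112248 F480217) (tt N84497 F393933) (tt N55296 (iv5 D194646)) (tt N80260 F393934) (tt N88054 F393932))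
theorem Q91663 : ∀ i, i < 91663 → P i := stepQ 91662 Q91662 (allL N91662 (tt N111583 (iv1 F477016)) (tt N100696 (iv0 F430066)) (tt N111500 (iv2 F476616)) (tt N90545 F393942) (tt N117581 (iv4 F505827)) (tt N80261 F393943) (tt N55296 (iv6 D194647)) (tt N90672 F393944))
theorem Q91664 : ∀ i, i < 91664 → P i := stepQ 91663 Q91663 (allL N91663 (tt N96847 F473725) (tt N117582 D220841) (tt N90668 F393945) (tt N55297 (iv3 D194648)) (tt N117583 D220842) (tt N115522 (iv5 F495620)) (tt N90666 F393946) (tt N117508 (iv7 F505411)))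
theorem Q91665 : ∀ i, i < 91665 → P i := stepQ 91664 Q91664 (allL N91664 (tt N77100 (iv1 F393950)) (tt N59070 F393951) (tt N91597 F393947) (tt N117584 D220843) (tt N55297 (iv4 D194649)) (tt N110485 F471802) (tt N91553 F393948) (tt N91596 F393949))
theorem Q91666 : ∀ i, i < 91666 → P i := stepQ 91665 Q91665 (allL N91665 (tt N91923 (iv1 F394972)) (tt N55298 (iv0 D194650)) (tt N91921 (iv2 F410811)) (tt N117585 D220844) (tt N111897 (iv4 F478551)) (tt N117586 D220845) (tt N114208 F488992) (tt N91922 F410810))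
theorem Q91667 : ∀ i, i < 91667 → P i := stepQ 91666 Q91666 (allL N91666 (tt N55298 (iv1 D194651)) (tt N91923 F394971) (tt N91922 F410808) (tt N117587 D220846) (tt N111896 (iv4 F478549)) (tt N96050 (iv5 F410807)) (tt N88434 (iv6 F393952)) (tt N91921 (iv7 F410809)))
theorem Q91668 : ∀ i, i < 91668 → P i := stepQ 91667 Q91667 (allL N91667 (tt N91922 (iv1 F394966)) (tt N91921 F394970) (tt N91923 (iv2 F394967)) (tt N117578 (iv3 F505809)) (tt N84558 F393953) (tt N55299 F393954) (tt N84557 F393955) (tt N55298 (iv7 D194652)))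
theorem Q91669 : ∀ i, i < 91669 → P i := stepQ 91668 Q91668 (allL N91668 (tt N83165 (iv1 F393961)) (tt N55300 (iv0 D194653)) (tt N83164 (iv2 F393960)) (tt N91501 F393958) (tt N81557 F393957) (tt N89679 F393956) (tt N81486 F393959) (tt N83163 F393962))
theorem Q91670 : ∀ i, i < 91670 → P i := stepQ 91669 Q91669 (allL N91669 (tt N88586 F393967) (tt N91501 (iv0 F393968)) (tt N85327 F393963) (tt N55302 (iv3 D194654)) (tt N85327 F393964) (tt N83093 F393965) (tt N82796 F393966) (tt N115060 (iv7 F493291)))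
theorem Q91671 : ∀ i, i < 91671 → P i := stepQ 91670 Q91670 (allL N91670 (tt N90035 F393973) (tt N90033 F393974) (tt N78792 F393969) (tt N83097 F393970) (tt N55304 (iv4 D194655)) (tt N83096 F393971) (tt N98621 F453290) (tt N69809 F393972))
theorem Q91672 : ∀ i, i < 91672 → P i := stepQ 91671 Q91671 (allL N91671 (tt N71312 F393979) (tt N71311 F393980) (tt N71314 F393975) (tt N55305 F393976) (tt N98621 F453289) (tt N84228 F393977) (tt N55304 (iv6 D194656)) (tt N70883 F393978))
theorem Q91673 : ∀ i, i < 91673 → P i := stepQ 91672 Q91672 (allL N91672 (tt N110161 (iv1 F470230)) (tt N55305 (iv0 D194657)) (tt N107968 (iv2 F460525)) (tt N117588 D220847) (tt N108309 F462002) (tt N78329 F432309) (tt N102759 F438512) (tt N82658 (iv7 F432310)))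
theorem Q91674 : ∀ i, i < 91674 → P i := stepQ 91673 Q91673 (allL N91673 (tt N55305 (iv1 D194658)) (tt N110161 (iv0 F470229)) (tt N82658 (iv2 F393982)) (tt N107973 (iv3 F460557)) (tt N108310 F462009) (tt N82619 F393981) (tt N83452 (iv6 F393983)) (tt N107968 (iv7 F460529)))
theorem Q91675 : ∀ i, i < 91675 → P i := stepQ 91674 Q91674 (allL N91674 (tt N82658 (iv1 F393987)) (tt N107968 (iv0 F460530)) (tt N110161 (iv2 F470225)) (tt N70883 F393985) (tt N110079 (iv4 F469879)) (tt N110070 (iv5 F469834)) (tt N70882 F393986) (tt N55305 (iv7 D194659)))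
theorem Q91676 : ∀ i, i < 91676 → P i := stepQ 91675 Q91675 (allL N91675 (tt N71250 F393991) (tt N71247 (iv0 F393992)) (tt N70880 F393988) (tt N55309 F393989) (tt N98137 (iv4 F419638)) (tt N89364 F393990) (tt N55307 (iv6 D194660)) (tt N71308 (iv7 F393994)))
theorem Q91677 : ∀ i, i < 91677 → P i := stepQ 91676 Q91676 (allL N91676 (tt N55309 (iv1 D194661)) (tt N70882 F393996) (tt N71229 F393999) (tt N113835 (iv3 F487355)) (tt N94610 (iv4 F405191)) (tt N70859 (iv5 F393998)) (tt N113237 (iv6 F484655)) (tt N71226 F393997))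
theorem Q91678 : ∀ i, i < 91678 → P i := stepQ 91677 Q91677 (allL N91677 (tt N71229 (iv1 F394003)) (tt N71226 F394004) (tt N70882 F394001) (tt N71308 F394002) (tt N110188 (iv4 F470333)) (tt N104964 (iv5 F448172)) (tt N110161 F470231) (tt N55309 (iv7 D194662)))
theorem Q91679 : ∀ i, i < 91679 → P i := stepQ 91678 Q91678 (allL N91678 (tt N88700 F394005) (tt N86472 F394006) (tt N105325 (iv2 F449721)) (tt N115058 (iv3 F493276)) (tt N55310 (iv4 D194663)) (tt N114274 (iv5 F489337)) (tt N98733 (iv6 F422075)) (tt N112914 (iv7 F483260)))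
theorem Q91680 : ∀ i, i < 91680 → P i := stepQ 91679 Q91679 (allL N91679 (tt N86820 F394011) (tt N86822 F394012) (tt N84083 F394007) (tt N55311 (iv3 D194664)) (tt N83947 F394008) (tt N83249 F394009) (tt N82798 F394010) (tt N114879 (iv7 F492304)))
theorem Q91681 : ∀ i, i < 91681 → P i := stepQ 91680 Q91680 (allL N91680 (tt N88111 F394016) (tt N108637 (iv0 F463313)) (tt N98392 (iv2 F420752)) (tt N55313 (iv3 D194665)) (tt N63499 F394013) (tt N63472 F394014) (tt N82802 F394015) (tt N98394 (iv7 F420762)))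
theorem Q91682 : ∀ i, i < 91682 → P i := stepQ 91681 Q91681 (allL N91681 (tt N81494 F394021) (tt N84330 (iv0 F394023)) (tt N55316 F394017) (tt N86754 F394018) (tt N80628 F394019) (tt N89309 F394022) (tt N55315 (iv6 D194666)) (tt N80625 F394020))
theorem Q91683 : ∀ i, i < 91683 → P i := stepQ 91682 Q91682 (allL N91682 (tt N89823 (iv1 F394024)) (tt N55318 (iv0 D194667)) (tt N111023 (iv2 F474302)) (tt N117409 (iv3 F504890)) (tt N83136 (iv4 F394025)) (tt N80558 (iv5 F395379)) (tt N117589 D220848) (tt N107082 (iv7 F456893)))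
theorem Q91684 : ∀ i, i < 91684 → P i := stepQ 91683 Q91683 (allL N91683 (tt N55318 (iv1 D194668)) (tt N89823 F394027) (tt N107082 (iv2 F456892)) (tt N114299 (iv3 F489467)) (tt N83137 F394028) (tt N80559 F394056) (tt N73010 (iv6 F394057)) (tt N111023 (iv7 F474305)))
theorem Q91685 : ∀ i, i < 91685 → P i := stepQ 91684 Q91684 (allL N91684 (tt N76710 (iv1 F449278)) (tt N83251 (iv0 F434955)) (tt N69899 (iv2 F394037)) (tt N55319 (iv3 D194670)) (tt N76700 F394030) (tt N69892 F394036) (tt N117590 D220849) (tt N116514 (iv7 F500558)))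
theorem Q91686 : ∀ i, i < 91686 → P i := stepQ 91685 Q91685 (allL N91685 (tt N94719 F405658) (tt N83268 (iv0 F412602)) (tt N96469 (iv2 F412649)) (tt N103047 (iv3 F439831)) (tt N55319 (iv4 D194671)) (tt N96457 (iv5 F412595)) (tt N117591 D220850) (tt N96470 (iv7 F412656)))
theorem Q91687 : ∀ i, i < 91687 → P i := stepQ 91686 Q91686 (allL N91686 (tt N113332 (iv1 F485077)) (tt N90241 (iv0 F394032)) (tt N58044 (iv2 F394033)) (tt N69892 (iv3 F394034)) (tt N67412 (iv4 F394035)) (tt N55319 (iv5 D194672)) (tt N58052 F394031) (tt N92027 (iv7 F395424)))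
theorem Q91688 : ∀ i, i < 91688 → P i := stepQ 91687 Q91687 (allL N91687 (tt N64721 F394042) (tt N64717 (iv0 F432227)) (tt N105061 (iv2 F448613)) (tt N117590 (iv3 F505872)) (tt N117591 (iv4 F505877)) (tt N101213 (iv5 F432225)) (tt N55319 (iv6 D194673)) (tt N114808 (iv7 F491978)))
theorem Q91689 : ∀ i, i < 91689 → P i := stepQ 91688 Q91688 (allL N91688 (tt N69908 (iv1 F394046)) (tt N69907 F394047) (tt N69910 (iv2 F394044)) (tt N55320 (iv3 D194674)) (tt N117592 D220851) (tt N58046 (iv5 F394045)) (tt N64840 (iv6 F394048)) (tt N58045 F394043))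
theorem Q91690 : ∀ i, i < 91690 → P i := stepQ 91689 Q91689 (allL N91689 (tt N83268 F394049) (tt N94719 (iv0 F405657)) (tt N96470 (iv2 F412653)) (tt N112006 (iv3 F479044)) (tt N55320 (iv4 D194675)) (tt N96458 (iv5 F412608)) (tt N77087 (iv6 F394050)) (tt N96469 (iv7 F412650)))
theorem Q91691 : ∀ i, i < 91691 → P i := stepQ 91690 Q91690 (allL N91690 (tt N90241 (iv1 F394055)) (tt N113332 F485076) (tt N92027 (iv2 F395423)) (tt N58046 F394051) (tt N67419 (iv4 F394054)) (tt N55320 (iv5 D194676)) (tt N69863 F394053) (tt N58044 F394052))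
theorem Q91692 : ∀ i, i < 91692 → P i := stepQ 91691 Q91691 (allL N91691 (tt N73008 (iv1 F432423)) (tt N64733 (iv0 F394061)) (tt N110933 (iv2 F473856)) (tt N64840 F394058) (tt N77087 F394059) (tt N77075 (iv5 F394060)) (tt N55320 (iv6 D194677)) (tt N116513 (iv7 F500549)))
theorem Q91693 : ∀ i, i < 91693 → P i := stepQ 91692 Q91692 (allL N91692 (tt N83116 F394064) (tt N116718 (iv0 F501480)) (tt N106191 (iv2 F453542)) (tt N100566 (iv3 F429489)) (tt N55322 (iv4 D194678)) (tt N101452 (iv5 F433007)) (tt N84051 F394062) (tt N85390 F394063))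
theorem Q91694 : ∀ i, i < 91694 → P i := stepQ 91693 Q91693 (allL N91693 (tt N67721 F394068) (tt N67720 F394069) (tt N67723 F394065) (tt N78872 F394066) (tt N55323 (iv4 D194679)) (tt N116904 (iv5 F502437)) (tt N104460 (iv6 F445850)) (tt N67668 F394067))
theorem Q91695 : ∀ i, i < 91695 → P i := stepQ 91694 Q91694 (allL N91694 (tt N85394 (iv1 F394071)) (tt N55324 (iv0 D194680)) (tt N85392 F446151) (tt N85648 F394073) (tt N73437 (iv4 F394072)) (tt N110075 (iv5 F469860)) (tt N73436 F394070) (tt N85393 F446149))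
theorem Q91696 : ∀ i, i < 91696 → P i := stepQ 91695 Q91695 (allL N91695 (tt N55324 (iv1 D194681)) (tt N85394 F394074) (tt N85393 (iv2 F446150)) (tt N111282 (iv3 F475618)) (tt N114792 (iv4 F491890)) (tt N117222 (iv5 F503977)) (tt N114790 (iv6 F491876)) (tt N85392 (iv7 F446152)))
theorem Q91697 : ∀ i, i < 91697 → P i := stepQ 91696 Q91696 (allL N91696 (tt N95227 F407498) (tt N85149 (iv0 F394077)) (tt N116782 F501805) (tt N55325 (iv3 D194682)) (tt N103087 (iv4 F440012)) (tt N84841 F394075) (tt N101421 F432930) (tt N85250 F394076))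
theorem Q91698 : ∀ i, i < 91698 → P i := stepQ 91697 Q91697 (allL N91697 (tt N90121 F394080) (tt N82421 (iv0 F394081)) (tt N85249 F394078) (tt N101421 (iv3 F432929)) (tt N84388 F394079) (tt N101419 (iv5 F432920)) (tt N55325 (iv6 D194683)) (tt N114999 (iv7 F492988)))
theorem Q91699 : ∀ i, i < 91699 → P i := stepQ 91698 Q91698 (allL N91698 (tt N103042 (iv1 F439798)) (tt N61200 (iv0 F394084)) (tt N103041 F439800) (tt N55326 (iv3 D194684)) (tt N106265 (iv4 F453798)) (tt N84849 F394082) (tt N106264 F453796) (tt N85248 F394083))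
theorem Q91700 : ∀ i, i < 91700 → P i := stepQ 91699 Q91699 (allL N91699 (tt N73437 F394087) (tt N114792 (iv0 F491893)) (tt N85251 F394085) (tt N106264 (iv3 F453797)) (tt N84437 F394086) (tt N117593 D220852) (tt N55326 (iv6 D194685)) (tt N117594 D220853))
theorem Q91701 : ∀ i, i < 91701 → P i := stepQ 91700 Q91700 (allL N91700 (tt N85254 (iv1 F394089)) (tt N55328 (iv0 D194686)) (tt N85252 (iv2 F411217)) (tt N77116 (iv3 F394090)) (tt N89055 F411218) (tt N108298 (iv5 F461955)) (tt N77115 F394088) (tt N85253 (iv7 F411220)))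
theorem Q91702 : ∀ i, i < 91702 → P i := stepQ 91701 Q91701 (allL N91701 (tt N55328 (iv1 D194687)) (tt N85254 F394091) (tt N85253 F411221) (tt N117595 D220854) (tt N89056 (iv4 F411222)) (tt N108325 (iv5 F462066)) (tt N89728 F411223) (tt N85252 F411219))
theorem Q91703 : ∀ i, i < 91703 → P i := stepQ 91702 Q91702 (allL N91702 (tt N91568 F394096) (tt N117596 D220855) (tt N76972 F394092) (tt N77091 F394093) (tt N90326 (iv4 F394095)) (tt N55328 (iv5 D194688)) (tt N76979 F394094) (tt N95157 (iv7 F407262)))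
theorem Q91704 : ∀ i, i < 91704 → P i := stepQ 91703 Q91703 (allL N91703 (tt N64799 (iv1 F432136)) (tt N89096 (iv0 F394099)) (tt N115359 (iv2 F494780)) (tt N55329 (iv3 D194689)) (tt N106241 F453723) (tt N64791 F394097) (tt N114721 (iv6 F491525)) (tt N89851 F394098))
theorem Q91705 : ∀ i, i < 91705 → P i := stepQ 91704 Q91704 (allL N91704 (tt N114790 (iv1 F491880)) (tt N117137 F503580) (tt N89850 F394100) (tt N114721 (iv3 F491524)) (tt N93789 F401893) (tt N112330 (iv5 F480596)) (tt N55329 (iv6 D194690)) (tt N90117 F394101))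
theorem Q91706 : ∀ i, i < 91706 → P i := stepQ 91705 Q91705 (allL N91705 (tt N90036 F394106) (tt N90084 F394107) (tt N90083 (iv2 F394105)) (tt N55330 (iv3 D194691)) (tt N106157 (iv4 F453383)) (tt N74388 F394102) (tt N90057 F394103) (tt N89848 F394104))
theorem Q91707 : ∀ i, i < 91707 → P i := stepQ 91706 Q91706 (allL N91706 (tt N78351 F394113) (tt N76921 F394114) (tt N78350 F394108) (tt N86166 F394109) (tt N55333 (iv4 D194692)) (tt N77473 F394110) (tt N55334 F394111) (tt N77472 F394112))
theorem Q91708 : ∀ i, i < 91708 → P i := stepQ 91707 Q91707 (allL N91707 (tt N86262 F394119) (tt N86261 (iv0 F394120)) (tt N86264 (iv2 F394121)) (tt N55334 (iv3 D194693)) (tt N85918 F394115) (tt N87331 F394116) (tt N86166 F394117) (tt N85915 F394118))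
theorem Q91709 : ∀ i, i < 91709 → P i := stepQ 91708 Q91708 (allL N91708 (tt N112285 (iv1 F480361)) (tt N116576 (iv0 F500816)) (tt N80918 F394123) (tt N55336 F394124) (tt N80937 F394126) (tt N55335 (iv5 D194694)) (tt N116480 F500360) (tt N80935 F394125))
theorem Q91710 : ∀ i, i < 91710 → P i := stepQ 91709 Q91709 (allL N91709 (tt N69316 F394130) (tt N77275 F394131) (tt N79369 F394127) (tt N107943 (iv3 F460401)) (tt N55336 (iv4 D194695)) (tt N76561 F394128) (tt N66422 (iv6 F394132)) (tt N83186 F394129))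
theorem Q91711 : ∀ i, i < 91711 → P i := stepQ 91710 Q91710 (allL N91710 (tt N109548 (iv1 F467459)) (tt N95974 (iv0 F410495)) (tt N83185 F394133) (tt N116480 F500359) (tt N66422 F394134) (tt N108450 (iv5 F462635)) (tt N55336 (iv6 D194696)) (tt N109315 (iv7 F466352)))
theorem Q91712 : ∀ i, i < 91712 → P i := stepQ 91711 Q91711 (allL N91711 (tt N76199 F394139) (tt N55346 F394140) (tt N83196 F394135) (tt N89119 F394136) (tt N90785 F394137) (tt N55341 (iv5 D194697)) (tt N99389 (iv6 F424381)) (tt N83070 F394138))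
theorem Q91713 : ∀ i, i < 91713 → P i := stepQ 91712 Q91712 (allL N91712 (tt N107988 F460616) (tt N107966 (iv0 F460517)) (tt N107967 (iv2 F460519)) (tt N55344 F394141) (tt N91417 F394142) (tt N83005 F394143) (tt N55342 (iv6 D194698)) (tt N107989 (iv7 F460619)))
theorem Q91714 : ∀ i, i < 91714 → P i := stepQ 91713 Q91713 (allL N91713 (tt N60372 F394148) (tt N66233 (iv0 F394149)) (tt N63783 F394144) (tt N77715 F394145) (tt N55344 F394146) (tt N79558 F394147) (tt N55343 (iv6 D194699)) (tt N97372 (iv7 F416571)))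
theorem Q91715 : ∀ i, i < 91715 → P i := stepQ 91714 Q91714 (allL N91714 (tt N83195 (iv1 F394154)) (tt N55344 (iv0 D194700)) (tt N83193 (iv2 F415400)) (tt N116280 (iv3 F499334)) (tt N109549 (iv4 F467465)) (tt N113144 (iv5 F484176)) (tt N109548 F467466) (tt N83194 (iv7 F415403)))
theorem Q91716 : ∀ i, i < 91716 → P i := stepQ 91715 Q91715 (allL N91715 (tt N55344 (iv1 D194701)) (tt N83195 F394150) (tt N83194 F415401) (tt N95961 (iv3 F410450)) (tt N97398 (iv4 F416720)) (tt N108035 (iv5 F460822)) (tt N95960 (iv6 F410448)) (tt N83193 F415399))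
theorem Q91717 : ∀ i, i < 91717 → P i := stepQ 91716 Q91716 (allL N91716 (tt N83194 (iv1 F394155)) (tt N83193 F394156) (tt N83195 F394151) (tt N107989 (iv3 F460617)) (tt N97372 F416573) (tt N83009 F394152) (tt N83204 F394153) (tt N55344 (iv7 D194702)))
theorem Q91718 : ∀ i, i < 91718 → P i := stepQ 91717 Q91717 (allL N91717 (tt N90483 (iv1 F394161)) (tt N90486 (iv0 F394160)) (tt N107491 (iv2 F458505)) (tt N55347 F394157) (tt N89924 F394158) (tt N88466 F394159) (tt N55346 (iv6 D194703)) (tt N117100 (iv7 F503385)))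
theorem Q91719 : ∀ i, i < 91719 → P i := stepQ 91718 Q91718 (allL N91718 (tt N79529 (iv1 F394166)) (tt N55347 (iv0 D194704)) (tt N83205 (iv2 F424282)) (tt N116388 (iv3 F499834)) (tt N101890 (iv4 F434843)) (tt N117597 D220856) (tt N110302 F470934) (tt N83206 (iv7 F424284)))
theorem Q91720 : ∀ i, i < 91720 → P i := stepQ 91719 Q91719 (allL N91719 (tt N55347 (iv1 D194705)) (tt N79529 F394162) (tt N83206 F424283) (tt N71693 F424280) (tt N116951 (iv4 F502663)) (tt N71692 (iv5 F424278)) (tt N107453 F458393) (tt N83205 F424281))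
theorem Q91721 : ∀ i, i < 91721 → P i := stepQ 91720 Q91720 (allL N91720 (tt N83206 (iv1 F394167)) (tt N83205 F394168) (tt N79529 F394163) (tt N117100 (iv3 F503383)) (tt N79528 F394164) (tt N115947 (iv5 F497723)) (tt N83209 F394165) (tt N55347 (iv7 D194706)))
theorem Q91722 : ∀ i, i < 91722 → P i := stepQ 91721 Q91721 (allL N91721 (tt N83209 (iv1 F394172)) (tt N55348 (iv0 D194707)) (tt N83208 (iv2 F394170)) (tt N107128 F457105) (tt N77195 F394169) (tt N103038 F439781) (tt N107438 F458347) (tt N77194 F394171))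
theorem Q91723 : ∀ i, i < 91723 → P i := stepQ 91722 Q91722 (allL N91722 (tt N77194 (iv1 F394177)) (tt N83208 F394178) (tt N83209 F394173) (tt N76172 F394174) (tt N66943 F394175) (tt N112907 (iv5 F483228)) (tt N79529 F394176) (tt N55348 (iv7 D194708)))
theorem Q91724 : ∀ i, i < 91724 → P i := stepQ 91723 Q91723 (allL N91723 (tt N68394 F394183) (tt N64820 F394184) (tt N61655 F394179) (tt N111182 (iv3 F475115)) (tt N55349 (iv4 D194709)) (tt N63425 F394182) (tt N55350 F394180) (tt N63424 F394181))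
theorem Q91725 : ∀ i, i < 91725 → P i := stepQ 91724 Q91724 (allL N91724 (tt N55354 (iv1 F394188)) (tt N55351 (iv0 D194710)) (tt N65225 (iv2 F394187)) (tt N64907 (iv3 F394190)) (tt N101258 (iv4 F432431)) (tt N64905 F394186) (tt N113465 (iv6 F485609)) (tt N65175 F394189))
theorem Q91726 : ∀ i, i < 91726 → P i := stepQ 91725 Q91725 (allL N91725 (tt N77201 F394193) (tt N103905 (iv0 F443297)) (tt N109794 (iv2 F468640)) (tt N55354 F394191) (tt N94585 (iv4 F405065)) (tt N55353 (iv5 D194711)) (tt N106296 (iv6 F453925)) (tt N83100 F394192))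
theorem Q91727 : ∀ i, i < 91727 → P i := stepQ 91726 Q91726 (allL N91726 (tt N64702 F394196) (tt N64744 F394197) (tt N64741 F394194) (tt N105695 (iv3 F451293)) (tt N55354 (iv4 D194712)) (tt N107162 (iv5 F457266)) (tt N94531 F404866) (tt N64740 F394195))
theorem Q91728 : ∀ i, i < 91728 → P i := stepQ 91727 Q91727 (allL N91727 (tt N59656 F394201) (tt N86158 (iv0 F394202)) (tt N78068 F394198) (tt N86143 (iv3 F394204)) (tt N78067 F394200) (tt N55355 (iv5 D194713)) (tt N117506 (iv6 F505399)) (tt N107161 (iv7 F457262)))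
theorem Q91729 : ∀ i, i < 91729 → P i := stepQ 91728 Q91728 (allL N91728 (tt N62201 (iv1 F394212)) (tt N64732 F394213) (tt N83110 F394210) (tt N112762 (iv3 F482531)) (tt N55356 F394211) (tt N107161 (iv5 F457260)) (tt N94728 (iv6 F405698)) (tt N55355 (iv7 D194714)))
theorem Q91730 : ∀ i, i < 91730 → P i := stepQ 91729 Q91729 (allL N91729 (tt N107155 F457522) (tt N72638 (iv0 F444184)) (tt N107154 F457223) (tt N55357 (iv3 D194715)) (tt N104100 (iv4 F444178)) (tt N91587 F394214) (tt N108225 (iv6 F461561)) (tt N83122 F394215))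
theorem Q91731 : ∀ i, i < 91731 → P i := stepQ 91730 Q91730 (allL N91730 (tt N73487 (iv1 F394220)) (tt N73489 F394221) (tt N83121 F394216) (tt N114484 (iv3 F490420)) (tt N62518 F394217) (tt N82916 F394218) (tt N83126 F394219) (tt N55358 (iv7 D194716)))
theorem Q91732 : ∀ i, i < 91732 → P i := stepQ 91731 Q91731 (allL N91731 (tt N83133 (iv1 F394228)) (tt N55359 (iv0 D194717)) (tt N83131 F394225) (tt N105979 (iv3 F452605)) (tt N73001 F394222) (tt N110359 (iv5 F471219)) (tt N73000 (iv6 F394223)) (tt N83132 (iv7 F394224)))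
theorem Q91733 : ∀ i, i < 91733 → P i := stepQ 91732 Q91732 (allL N91732 (tt N83132 (iv1 F394235)) (tt N83131 F394236) (tt N83133 F394231) (tt N114884 (iv3 F492336)) (tt N66810 F394232) (tt N83494 F394233) (tt N83138 F394234) (tt N55359 (iv7 D194718)))
theorem Q91734 : ∀ i, i < 91734 → P i := stepQ 91733 Q91733 (allL N91733 (tt N83138 (iv1 F394240)) (tt N55361 (iv0 D194719)) (tt N83136 (iv2 F394238)) (tt N107091 (iv3 F456925)) (tt N111023 (iv4 F474304)) (tt N105273 (iv5 F449501)) (tt N109312 (iv6 F466338)) (tt N83137 F394239))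
theorem Q91735 : ∀ i, i < 91735 → P i := stepQ 91734 Q91734 (allL N91734 (tt N83137 (iv1 F394244)) (tt N83136 F394245) (tt N83138 F394241) (tt N114324 (iv3 F489608)) (tt N113319 (iv4 F485005)) (tt N87041 F394242) (tt N83133 F394243) (tt N55361 (iv7 D194720)))
theorem Q91736 : ∀ i, i < 91736 → P i := stepQ 91735 Q91735 (allL N91735 (tt N91807 (iv1 F394505)) (tt N91760 (iv0 F394334)) (tt N91832 (iv2 F394602)) (tt N91918 (iv3 F394956)) (tt N55363 (iv4 D194721)) (tt N115850 (iv5 F497225)) (tt N82818 F394247) (tt N91461 F394248))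
theorem Q91737 : ∀ i, i < 91737 → P i := stepQ 91736 Q91736 (allL N91736 (tt N76149 (iv1 F394252)) (tt N100269 F428187) (tt N100267 F428177) (tt N55366 F394249) (tt N81126 F394250) (tt N83468 F394251) (tt N55364 (iv6 D194722)) (tt N100268 (iv7 F428178)))
theorem Q91738 : ∀ i, i < 91738 → P i := stepQ 91737 Q91737 (allL N91737 (tt N90773 F394257) (tt N117598 D220857) (tt N86260 F394253) (tt N55365 (iv3 D194723)) (tt N81538 F394254) (tt N87323 F394255) (tt N86259 (iv6 F394258)) (tt N83074 F394256))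
theorem Q91739 : ∀ i, i < 91739 → P i := stepQ 91738 Q91738 (allL N91738 (tt N86161 (iv1 F394264)) (tt N86160 F394266) (tt N85914 F394259) (tt N86259 F394260) (tt N55366 F394261) (tt N86154 (iv5 F394263)) (tt N55365 (iv6 D194724)) (tt N86159 F394262))
theorem Q91740 : ∀ i, i < 91740 → P i := stepQ 91739 Q91739 (allL N91739 (tt N86162 (iv1 F394268)) (tt N55366 (iv0 D194725)) (tt N99361 (iv2 F424285)) (tt N106640 (iv3 F455121)) (tt N66897 F394267) (tt N110401 (iv5 F471408)) (tt N106793 (iv6 F455701)) (tt N102673 (iv7 F438158)))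
theorem Q91741 : ∀ i, i < 91741 → P i := stepQ 91740 Q91740 (allL N91740 (tt N103189 F440491) (tt N117310 (iv0 F504401)) (tt N80136 F394269) (tt N55373 F394270) (tt N80128 F394271) (tt N87639 F394272) (tt N55371 (iv6 D194726)) (tt N117101 (iv7 F503393)))
theorem Q91742 : ∀ i, i < 91742 → P i := stepQ 91741 Q91741 (allL N91741 (tt N108124 F461216) (tt N117599 D220858) (tt N108099 (iv2 F461099)) (tt N55372 (iv3 D194727)) (tt N80127 F394273) (tt N87304 F394274) (tt N117600 D220859) (tt N88464 F394275))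
theorem Q91743 : ∀ i, i < 91743 → P i := stepQ 91742 Q91742 (allL N91742 (tt N115350 (iv1 F494729)) (tt N81861 (iv0 F470338)) (tt N90300 F394276) (tt N117600 (iv3 F505933)) (tt N55373 F394277) (tt N111390 (iv5 F476134)) (tt N55372 (iv6 D194728)) (tt N117601 D220860))
theorem Q91744 : ∀ i, i < 91744 → P i := stepQ 91743 Q91743 (allL N91743 (tt N71236 (iv1 F394280)) (tt N55373 (iv0 D194729)) (tt N71238 (iv2 F394278)) (tt N116486 (iv3 F500393)) (tt N116993 (iv4 F502865)) (tt N117602 D220861) (tt N110417 (iv6 F471482)) (tt N71231 F394279))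
theorem Q91745 : ∀ i, i < 91745 → P i := stepQ 91744 Q91744 (allL N91744 (tt N71231 (iv1 F405230)) (tt N71238 F405229) (tt N71236 F394281) (tt N117101 (iv3 F503390)) (tt N117601 (iv4 F505939)) (tt N87644 F394282) (tt N115947 (iv6 F497724)) (tt N55373 (iv7 D194730)))
theorem Q91746 : ∀ i, i < 91746 → P i := stepQ 91745 Q91745 (allL N91745 (tt N115947 (iv1 F497726)) (tt N55375 (iv0 D194731)) (tt N110299 (iv2 F470915)) (tt N71021 (iv3 F394284)) (tt N93935 F402486) (tt N101747 (iv5 F434155)) (tt N71020 F394283) (tt N115946 (iv7 F497715)))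
theorem Q91747 : ∀ i, i < 91747 → P i := stepQ 91746 Q91746 (allL N91746 (tt N55375 (iv1 D194732)) (tt N115947 F497725) (tt N115946 (iv2 F497719)) (tt N117315 (iv3 F504429)) (tt N93939 F445469) (tt N110300 (iv5 F470922)) (tt N117603 D220862) (tt N110299 F470920))
theorem Q91748 : ∀ i, i < 91748 → P i := stepQ 91747 Q91747 (allL N91747 (tt N115946 (iv1 F497714)) (tt N110299 (iv0 F470918)) (tt N115947 (iv2 F497721)) (tt N110528 (iv3 F472003)) (tt N116414 (iv4 F499978)) (tt N79529 F394285) (tt N71236 F394286) (tt N55375 (iv7 D194733)))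
theorem Q91749 : ∀ i, i < 91749 → P i := stepQ 91748 Q91748 (allL N91748 (tt N57073 (iv1 F394291)) (tt N57077 (iv0 F394290)) (tt N57075 F394287) (tt N105154 (iv3 F449033)) (tt N102998 (iv4 F439607)) (tt N55377 (iv5 D194734)) (tt N87298 F394288) (tt N57074 F394289))
theorem Q91750 : ∀ i, i < 91750 → P i := stepQ 91749 Q91749 (allL N91749 (tt N71964 F394295) (tt N81491 (iv0 F394298)) (tt N116483 (iv2 F500375)) (tt N55378 (iv3 D194735)) (tt N71744 F394294) (tt N61146 F394292) (tt N112667 (iv6 F482089)) (tt N71917 F394293))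
theorem Q91751 : ∀ i, i < 91751 → P i := stepQ 91750 Q91750 (allL N91750 (tt N75357 F394302) (tt N88149 F394301) (tt N71921 F394299) (tt N112668 (iv3 F482094)) (tt N55378 (iv4 D194736)) (tt N108984 (iv5 F464768)) (tt N107750 (iv6 F459550)) (tt N71918 F394300))
theorem Q91752 : ∀ i, i < 91752 → P i := stepQ 91751 Q91751 (allL N91751 (tt N117603 F505954) (tt N72121 (iv0 F394304)) (tt N71922 F394303) (tt N112667 (iv3 F482088)) (tt N107750 F459551) (tt N112900 (iv5 F483201)) (tt N55378 (iv6 D194737)) (tt N113014 (iv7 F483560)))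
theorem Q91753 : ∀ i, i < 91753 → P i := stepQ 91752 Q91752 (allL N91752 (tt N62875 (iv1 F394306)) (tt N55380 (iv0 D194738)) (tt N62874 (iv2 F394312)) (tt N117604 D220863) (tt N75344 F394305) (tt N99892 (iv5 F426701)) (tt N112703 F482256) (tt N62873 (iv7 F394314)))
theorem Q91754 : ∀ i, i < 91754 → P i := stepQ 91753 Q91753 (allL N91753 (tt N55380 (iv1 D194739)) (tt N62875 F394307) (tt N62873 F394313) (tt N73802 (iv3 F394309)) (tt N66997 F394308) (tt N99893 (iv5 F426705)) (tt N66996 F394310) (tt N62874 F394311))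
theorem Q91755 : ∀ i, i < 91755 → P i := stepQ 91754 Q91754 (allL N91754 (tt N55381 (iv1 D194740)) (tt N71946 F394315) (tt N71944 (iv2 F394317)) (tt N117290 (iv3 F504310)) (tt N108343 F462166) (tt N117605 D220864) (tt N94289 (iv6 F503368)) (tt N71943 F394316))
theorem Q91756 : ∀ i, i < 91756 → P i := stepQ 91755 Q91755 (allL N91755 (tt N108154 F461321) (tt N117606 D220865) (tt N55947 F394318) (tt N55381 (iv3 D194741)) (tt N55382 F394319) (tt N92505 (iv5 F438762)) (tt N55945 F394320) (tt N115930 (iv7 F497640)))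
theorem Q91757 : ∀ i, i < 91757 → P i := stepQ 91756 Q91756 (allL N91756 (tt N116803 (iv1 F501921)) (tt N116648 F501137) (tt N71945 F394321) (tt N92505 F438764) (tt N117607 D220866) (tt N55381 (iv5 D194742)) (tt N117608 D220867) (tt N116538 (iv7 F500672)))
theorem Q91758 : ∀ i, i < 91758 → P i := stepQ 91757 Q91757 (allL N91757 (tt N73546 (iv1 F394322)) (tt N55382 (iv0 D194743)) (tt N105359 F449876) (tt N101533 (iv3 F433461)) (tt N117609 D220868) (tt N101590 (iv5 F433470)) (tt N117610 D220869) (tt N101530 F433460))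
theorem Q91759 : ∀ i, i < 91759 → P i := stepQ 91758 Q91758 (allL N91758 (tt N55382 (iv1 D194744)) (tt N73546 F394323) (tt N101530 (iv2 F433458)) (tt N117611 D220870) (tt N117612 D220871) (tt N101580 F433457) (tt N94526 (iv6 F433459)) (tt N105359 (iv7 F449878)))
theorem Q91760 : ∀ i, i < 91760 → P i := stepQ 91759 Q91759 (allL N91759 (tt N71906 (iv1 F394329)) (tt N71905 F394327) (tt N56765 F394324) (tt N105357 (iv3 F449869)) (tt N59506 F394325) (tt N55383 (iv5 D194745)) (tt N115935 (iv6 F497668)) (tt N71900 F394326))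
theorem Q91761 : ∀ i, i < 91761 → P i := stepQ 91760 Q91760 (allL N91760 (tt N91735 F394334) (tt N91259 (iv0 F394335)) (tt N91909 (iv2 F394918)) (tt N55384 (iv3 D194746)) (tt N91909 (iv4 F394919)) (tt N115441 (iv5 F495213)) (tt N82595 F394333) (tt N112817 (iv7 F482761)))
theorem Q91762 : ∀ i, i < 91762 → P i := stepQ 91761 Q91761 (allL N91761 (tt N85768 F394339) (tt N85774 F394340) (tt N55386 F394336) (tt N84182 F394337) (tt N117613 D220872) (tt N55385 (iv5 D194747)) (tt N104994 (iv6 F448294)) (tt N87943 F394338))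
theorem Q91763 : ∀ i, i < 91763 → P i := stepQ 91762 Q91762 (allL N91762 (tt N88154 F394341) (tt N88155 F394342) (tt N117613 (iv2 F505996)) (tt N117034 (iv3 F503064)) (tt N55386 (iv4 D194748)) (tt N117614 D220873) (tt N117615 D220874) (tt N114521 (iv7 F490574)))
theorem Q91764 : ∀ i, i < 91764 → P i := stepQ 91763 Q91763 (allL N91763 (tt N104992 (iv1 F448285)) (tt N104991 F448295) (tt N104994 (iv2 F448291)) (tt N55387 F394343) (tt N117615 (iv4 F506010)) (tt N87632 F394344) (tt N55386 (iv6 D194749)) (tt N95744 (iv7 F409416)))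
theorem Q91765 : ∀ i, i < 91765 → P i := stepQ 91764 Q91764 (allL N91764 (tt N55387 (iv1 D194750)) (tt N111415 (iv0 F476245)) (tt N115572 (iv2 F495826)) (tt N117616 D220875) (tt N96657 (iv4 F418210)) (tt N87653 (iv5 F394346)) (tt N112249 (iv6 F480221)) (tt N87972 F394345))
theorem Q91766 : ∀ i, i < 91766 → P i := stepQ 91765 Q91765 (allL N91765 (tt N115572 (iv1 F495831)) (tt N87972 (iv0 F415958)) (tt N111415 (iv2 F476242)) (tt N95744 (iv3 F409414)) (tt N111414 (iv4 F476240)) (tt N87635 F394347) (tt N97221 (iv6 F415956)) (tt N55387 (iv7 D194751)))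
theorem Q91767 : ∀ i, i < 91767 → P i := stepQ 91766 Q91766 (allL N91766 (tt N89942 (iv1 F394353)) (tt N89115 (iv0 F394352)) (tt N89940 F394348) (tt N83497 F394349) (tt N55388 (iv4 D194752)) (tt N113599 (iv5 F486237)) (tt N83581 F394350) (tt N88384 F394351))
theorem Q91768 : ∀ i, i < 91768 → P i := stepQ 91767 Q91767 (allL N91767 (tt N88085 F394357) (tt N88087 F394356) (tt N55390 F394354) (tt N111303 F475725) (tt N112219 (iv4 F480108)) (tt N55389 (iv5 D194753)) (tt N115703 (iv6 F496409)) (tt N88105 F394355))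
theorem Q91769 : ∀ i, i < 91769 → P i := stepQ 91768 Q91768 (allL N91768 (tt N87228 F394358) (tt N112218 (iv0 F480105)) (tt N112219 F480109) (tt N79217 (iv3 F461430)) (tt N55390 (iv4 D194754)) (tt N117617 D220876) (tt N115704 (iv6 F496413)) (tt N112220 (iv7 F480110)))
theorem Q91770 : ∀ i, i < 91770 → P i := stepQ 91769 Q91769 (allL N91769 (tt N115908 (iv1 F497536)) (tt N115907 (iv0 F497531)) (tt N115920 (iv2 F497587)) (tt N55392 F394359) (tt N55395 F394360) (tt N66903 F394361) (tt N55391 (iv6 D194755)) (tt N55392 F394362))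
theorem Q91771 : ∀ i, i < 91771 → P i := stepQ 91770 Q91770 (allL N91770 (tt N115920 (iv1 F497592)) (tt N55392 (iv0 D194756)) (tt N115907 (iv2 F497526)) (tt N101579 (iv3 F433454)) (tt N87325 F474445) (tt N117618 D220877) (tt N101577 F433451) (tt N115908 (iv7 F497534)))
theorem Q91772 : ∀ i, i < 91772 → P i := stepQ 91771 Q91771 (allL N91771 (tt N55392 (iv1 D194757)) (tt N115920 F497591) (tt N115908 (iv2 F497533)) (tt N79200 (iv3 F394368)) (tt N87326 F394363) (tt N117619 D220878) (tt N79199 F394369) (tt N115907 (iv7 F497529)))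
theorem Q91773 : ∀ i, i < 91773 → P i := stepQ 91772 Q91772 (allL N91772 (tt N117620 D220879) (tt N117621 D220880) (tt N115919 (iv2 F497580)) (tt N66903 F394364) (tt N80574 F394367) (tt N55392 (iv5 D194758)) (tt N66899 F394365) (tt N66903 F394366))
theorem Q91774 : ∀ i, i < 91774 → P i := stepQ 91773 Q91773 (allL N91773 (tt N115993 (iv1 F497950)) (tt N115976 (iv0 F497871)) (tt N111403 (iv2 F476199)) (tt N55393 (iv3 D194760)) (tt N64984 (iv4 F394371)) (tt N108584 F463155) (tt N111401 (iv6 F476190)) (tt N96576 (iv7 F413056)))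
theorem Q91775 : ∀ i, i < 91775 → P i := stepQ 91774 Q91774 (allL N91774 (tt N110450 F471650) (tt N87440 (iv0 F394374)) (tt N115599 F495931) (tt N79195 F394372) (tt N55393 (iv4 D194761)) (tt N96656 (iv5 F413347)) (tt N79194 (iv6 F394373)) (tt N96587 (iv7 F413089)))
theorem Q91776 : ∀ i, i < 91776 → P i := stepQ 91775 Q91775 (allL N91775 (tt N88269 (iv1 F435370)) (tt N88317 (iv0 F430181)) (tt N116012 (iv2 F498039)) (tt N108584 (iv3 F463156)) (tt N117622 D220881) (tt N55393 (iv5 D194762)) (tt N104415 (iv6 F445655)) (tt N85694 F394384))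
theorem Q91777 : ∀ i, i < 91777 → P i := stepQ 91776 Q91776 (allL N91776 (tt N87429 F394377) (tt N111905 (iv0 F478571)) (tt N114227 (iv2 F489092)) (tt N111401 (iv3 F476189)) (tt N79194 F394375) (tt N81576 F394376) (tt N55393 (iv6 D194763)) (tt N100549 (iv7 F429430)))
theorem Q91778 : ∀ i, i < 91778 → P i := stepQ 91777 Q91777 (allL N91777 (tt N87414 (iv1 F443930)) (tt N95657 (iv0 F409026)) (tt N117623 D220882) (tt N55394 (iv3 D194765)) (tt N117624 D220883) (tt N117625 D220884) (tt N108619 (iv6 F496123)) (tt N116011 (iv7 F498036)))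
theorem Q91779 : ∀ i, i < 91779 → P i := stepQ 91778 Q91778 (allL N91778 (tt N87440 F394379) (tt N110450 (iv0 F471649)) (tt N96587 F413091) (tt N115031 F496269) (tt N55394 (iv4 D194766)) (tt N96644 F413303) (tt N96647 (iv6 F413319)) (tt N115599 (iv7 F495933)))
theorem Q91780 : ∀ i, i < 91780 → P i := stepQ 91779 Q91779 (allL N91779 (tt N88317 F476724) (tt N88269 (iv0 F435368)) (tt N85694 (iv2 F394381)) (tt N117625 (iv3 F506060)) (tt N104390 (iv4 F445553)) (tt N55394 (iv5 D194767)) (tt N85683 F394380) (tt N116012 (iv7 F498041)))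
theorem Q91781 : ∀ i, i < 91781 → P i := stepQ 91780 Q91780 (allL N91780 (tt N115475 (iv1 F495385)) (tt N115477 F495384) (tt N96663 (iv2 F413358)) (tt N108619 F496124) (tt N96647 F413320) (tt N115686 (iv5 F496310)) (tt N55394 (iv6 D194768)) (tt N115708 (iv7 F496432)))
theorem Q91782 : ∀ i, i < 91782 → P i := stepQ 91781 Q91781 (allL N91781 (tt N105844 F451997) (tt N105847 F452011) (tt N104046 (iv2 F443918)) (tt N55398 F394387) (tt N105796 (iv4 F451755)) (tt N76423 F394388) (tt N55396 (iv6 D194769)) (tt N105845 (iv7 F452003)))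
theorem Q91783 : ∀ i, i < 91783 → P i := stepQ 91782 Q91782 (allL N91782 (tt N55398 (iv1 D194770)) (tt N83004 F394389) (tt N80688 (iv2 F394394)) (tt N83626 (iv3 F394392)) (tt N80679 F394391) (tt N86616 (iv5 F394393)) (tt N90394 (iv6 F394395)) (tt N86587 F394390))
theorem Q91784 : ∀ i, i < 91784 → P i := stepQ 91783 Q91783 (allL N91783 (tt N80688 (iv1 F394400)) (tt N86587 F394401) (tt N83004 F394396) (tt N105845 (iv3 F452000)) (tt N83003 F394397) (tt N86438 F394398) (tt N86129 F394399) (tt N55398 (iv7 D194771)))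
theorem Q91785 : ∀ i, i < 91785 → P i := stepQ 91784 Q91784 (allL N91784 (tt N85998 (iv1 F394406)) (tt N60932 F394405) (tt N55399 (iv2 D194772)) (tt N91794 (iv3 F394455)) (tt N92710 (iv4 F397930)) (tt N79011 F394402) (tt N55762 F394403) (tt N86017 F394404))
theorem Q91786 : ∀ i, i < 91786 → P i := stepQ 91785 Q91785 (allL N91785 (tt N72029 F394411) (tt N117145 (iv0 F503616)) (tt N86128 F394407) (tt N83009 F394408) (tt N55401 F394409) (tt N107989 (iv5 F460618)) (tt N55400 (iv6 D194773)) (tt N83005 F394410))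
theorem Q91787 : ∀ i, i < 91787 → P i := stepQ 91786 Q91786 (allL N91786 (tt N55401 (iv1 D194774)) (tt N86129 F394412) (tt N86127 F394415) (tt N97545 (iv3 F417332)) (tt N113038 (iv4 F483669)) (tt N96622 (iv5 F413216)) (tt N60962 (iv6 F394414)) (tt N60848 F394413))
theorem Q91788 : ∀ i, i < 91788 → P i := stepQ 91787 Q91787 (allL N91787 (tt N86127 (iv1 F394421)) (tt N60848 F394422) (tt N86129 F394416) (tt N55761 F394417) (tt N83005 F394418) (tt N85880 F394419) (tt N83004 F394420) (tt N55401 (iv7 D194775)))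
theorem Q91789 : ∀ i, i < 91789 → P i := stepQ 91788 Q91788 (allL N91788 (tt N117626 D220885) (tt N95900 F442849) (tt N69868 F394423) (tt N55402 (iv3 D194776)) (tt N102599 (iv4 F437851)) (tt N113614 (iv5 F486311)) (tt N105571 (iv6 F450785)) (tt N91795 (iv7 F394463)))
theorem Q91790 : ∀ i, i < 91790 → P i := stepQ 91789 Q91789 (allL N91789 (tt N70934 F394427) (tt N113038 (iv0 F483672)) (tt N91796 (iv2 F394464)) (tt N69871 F394424) (tt N85966 F394425) (tt N73231 (iv5 F394428)) (tt N55403 (iv6 D194777)) (tt N73298 F394426))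
theorem Q91791 : ∀ i, i < 91791 → P i := stepQ 91790 Q91790 (allL N91790 (tt N70064 (iv1 F394430)) (tt N55404 (iv0 D194778)) (tt N70061 (iv2 F394431)) (tt N105570 (iv3 F450778)) (tt N103909 (iv4 F443317)) (tt N117627 D220886) (tt N84081 F394429) (tt N70062 (iv7 F394434)))
theorem Q91792 : ∀ i, i < 91792 → P i := stepQ 91791 Q91791 (allL N91791 (tt N55404 (iv1 D194779)) (tt N70064 F394437) (tt N70062 F394440) (tt N111264 (iv3 F475516)) (tt N69203 (iv4 F394439)) (tt N88541 F441294) (tt N70939 F394441) (tt N70061 F394438))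
theorem Q91793 : ∀ i, i < 91793 → P i := stepQ 91792 Q91792 (allL N91792 (tt N58957 (iv1 F394449)) (tt N55405 (iv0 D194780)) (tt N58047 (iv2 F394448)) (tt N69850 F394446) (tt N70013 F394445) (tt N84724 F394444) (tt N71480 F394447) (tt N58958 F394450))
theorem Q91794 : ∀ i, i < 91794 → P i := stepQ 91793 Q91793 (allL N91793 (tt N69756 F394454) (tt N105317 (iv0 F449681)) (tt N69915 F394451) (tt N67405 F394452) (tt N55407 (iv4 D194781)) (tt N81520 F394453) (tt N104386 (iv6 F445535)) (tt N112342 (iv7 F480662)))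
theorem Q91795 : ∀ i, i < 91795 → P i := stepQ 91794 Q91794 (allL N91794 (tt N85012 (iv1 F394461)) (tt N85013 F394460) (tt N55409 (iv2 D194782)) (tt N91784 F394455) (tt N70626 F394456) (tt N91056 F394457) (tt N74858 F394458) (tt N85015 F394459))
theorem Q91796 : ∀ i, i < 91796 → P i := stepQ 91795 Q91795 (allL N91795 (tt N103537 (iv1 F441978)) (tt N105184 F449148) (tt N103794 (iv2 F442844)) (tt N55411 (iv3 D194783)) (tt N103796 (iv4 F442857)) (tt N84433 F394462) (tt N107019 F456660) (tt N91788 F394463))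
theorem Q91797 : ∀ i, i < 91797 → P i := stepQ 91796 Q91796 (allL N91796 (tt N97930 F418842) (tt N106038 F452840) (tt N91789 F394464) (tt N107019 (iv3 F456658)) (tt N84428 F394465) (tt N106111 (iv5 F453170)) (tt N55411 (iv6 D194784)) (tt N106036 (iv7 F452832)))
theorem Q91798 : ∀ i, i < 91798 → P i := stepQ 91797 Q91797 (allL N91797 (tt N71796 F394468) (tt N105334 F449754) (tt N105336 (iv2 F449761)) (tt N55413 F394466) (tt N111947 (iv4 F478818)) (tt N55412 (iv5 D194785)) (tt N117628 D220887) (tt N83696 F394467))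
theorem Q91799 : ∀ i, i < 91799 → P i := stepQ 91798 Q91798 (allL N91798 (tt N117629 D220888) (tt N117630 D220889) (tt N84281 F394469) (tt N117628 (iv3 F506078)) (tt N83697 F394470) (tt N101376 (iv5 F432810)) (tt N55413 (iv6 D194786)) (tt N116824 (iv7 F502022)))
theorem Q91800 : ∀ i, i < 91800 → P i := stepQ 91799 Q91799 (allL N91799 (tt N92169 (iv1 F396068)) (tt N85017 F396077) (tt N92170 (iv2 F396072)) (tt N55415 (iv3 D194787)) (tt N91034 F394471) (tt N76422 F394472) (tt N91033 (iv6 F394474)) (tt N74893 F394473))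
theorem Q91801 : ∀ i, i < 91801 → P i := stepQ 91800 Q91800 (allL N91800 (tt N84974 F394479) (tt N91803 F394486) (tt N91802 F394483) (tt N55417 (iv3 D194788)) (tt N92030 (iv4 F395436)) (tt N85989 F394477) (tt N113893 (iv6 F487668)) (tt N89614 F394478))
theorem Q91802 : ∀ i, i < 91802 → P i := stepQ 91801 Q91801 (allL N91801 (tt N116252 (iv1 F499229)) (tt N117216 (iv0 F503947)) (tt N114383 (iv2 F489899)) (tt N113893 (iv3 F487665)) (tt N55418 F394480) (tt N90619 F394481) (tt N55417 (iv6 D194789)) (tt N113889 (iv7 F487649)))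
theorem Q91803 : ∀ i, i < 91803 → P i := stepQ 91802 Q91802 (allL N91802 (tt N55418 (iv1 D194790)) (tt N114395 F489950) (tt N91800 (iv2 F394483)) (tt N106557 (iv3 F454850)) (tt N116270 (iv4 F499292)) (tt N106556 (iv5 F454849)) (tt N116822 (iv6 F502010)) (tt N84165 F394482))
theorem Q91804 : ∀ i, i < 91804 → P i := stepQ 91803 Q91803 (allL N91803 (tt N91800 (iv1 F394486)) (tt N84165 F394487) (tt N114395 (iv2 F489947)) (tt N92029 (iv3 F395431)) (tt N113889 (iv4 F487647)) (tt N84095 F394484) (tt N89613 F394485) (tt N55418 (iv7 D194791)))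
theorem Q91805 : ∀ i, i < 91805 → P i := stepQ 91804 Q91804 (allL N91804 (tt N55421 (iv1 F394490)) (tt N55419 (iv0 D194792)) (tt N84563 (iv2 F394489)) (tt N87799 (iv3 F394492)) (tt N111677 (iv4 F477433)) (tt N84562 F394488) (tt N71604 (iv6 F394493)) (tt N87722 F394491))
theorem Q91806 : ∀ i, i < 91806 → P i := stepQ 91805 Q91805 (allL N91805 (tt N91855 (iv1 F394713)) (tt N112392 (iv0 F480895)) (tt N87725 F394494) (tt N67200 F394495) (tt N55419 (iv4 D194793)) (tt N116213 (iv5 F499049)) (tt N67198 (iv6 F394497)) (tt N87723 F394496))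
theorem Q91807 : ∀ i, i < 91807 → P i := stepQ 91806 Q91806 (allL N91806 (tt N117631 D220890) (tt N113510 (iv0 F485845)) (tt N87726 F394498) (tt N103239 (iv3 F440721)) (tt N67198 F394499) (tt N86884 F394500) (tt N55419 (iv6 D194794)) (tt N67388 (iv7 F394501)))
theorem Q91808 : ∀ i, i < 91808 → P i := stepQ 91807 Q91807 (allL N91807 (tt N91259 F394504) (tt N91735 F394505) (tt N112817 (iv2 F482757)) (tt N55422 F394502) (tt N112817 (iv4 F482759)) (tt N87185 (iv5 F394503)) (tt N55420 (iv6 D194795)) (tt N91909 (iv7 F394921)))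
theorem Q91809 : ∀ i, i < 91809 → P i := stepQ 91808 Q91808 (allL N91808 (tt N112392 (iv1 F480896)) (tt N91855 (iv0 F394712)) (tt N87723 F394507) (tt N79739 F394508) (tt N55421 (iv4 D194796)) (tt N97750 F418156) (tt N97751 (iv6 F418161)) (tt N87725 F394509))
theorem Q91810 : ∀ i, i < 91810 → P i := stepQ 91809 Q91809 (allL N91809 (tt N55561 (iv1 F395249)) (tt N91881 F395247) (tt N87724 F394510) (tt N101726 (iv3 F434054)) (tt N97751 (iv4 F418160)) (tt N87186 F394511) (tt N55421 (iv6 D194797)) (tt N91880 (iv7 F394807)))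
theorem Q91811 : ∀ i, i < 91811 → P i := stepQ 91810 Q91810 (allL N91810 (tt N87732 F394514) (tt N82561 F394515) (tt N55426 F394512) (tt N112534 (iv3 F481546)) (tt N55423 (iv4 D194798)) (tt N114449 (iv5 F490223)) (tt N111591 (iv6 F477056)) (tt N87711 F394513))
theorem Q91812 : ∀ i, i < 91812 → P i := stepQ 91811 Q91811 (allL N91811 (tt N106722 F455409) (tt N117632 D220891) (tt N55427 F394516) (tt N80789 F394517) (tt N111591 (iv4 F477053)) (tt N83718 F394518) (tt N55423 (iv6 D194799)) (tt N81032 (iv7 F394519)))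
theorem Q91813 : ∀ i, i < 91813 → P i := stepQ 91812 Q91812 (allL N91812 (tt N115775 (iv1 F496806)) (tt N111629 F477220) (tt N87731 F394520) (tt N100714 F430150) (tt N97518 F418166) (tt N87945 F394521) (tt N55424 (iv6 D194800)) (tt N111619 (iv7 F477183)))
theorem Q91814 : ∀ i, i < 91814 → P i := stepQ 91813 Q91813 (allL N91813 (tt N91829 (iv1 F394578)) (tt N59714 (iv0 F394524)) (tt N95379 (iv2 F408047)) (tt N55425 (iv3 D194801)) (tt N80042 (iv4 F394523)) (tt N114151 (iv5 F488760)) (tt N59803 (iv6 F394525)) (tt N87729 F394522))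
theorem Q91815 : ∀ i, i < 91815 → P i := stepQ 91814 Q91814 (allL N91814 (tt N87459 F409918) (tt N103328 (iv0 F441158)) (tt N87728 F394526) (tt N59803 F394527) (tt N66583 F394528) (tt N91633 F394529) (tt N55425 (iv6 D194802)) (tt N95375 (iv7 F408031)))
theorem Q91816 : ∀ i, i < 91816 → P i := stepQ 91815 Q91815 (allL N91815 (tt N55426 (iv1 D194803)) (tt N87711 F394530) (tt N82561 (iv2 F394533)) (tt N112475 F481234) (tt N91505 F394532) (tt N104374 (iv5 F445479)) (tt N96817 (iv6 F414099)) (tt N87732 F394531))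
theorem Q91817 : ∀ i, i < 91817 → P i := stepQ 91816 Q91816 (allL N91816 (tt N104271 (iv1 F445053)) (tt N104270 (iv0 F445047)) (tt N67342 F394537) (tt N55426 (iv3 D194804)) (tt N55428 F394534) (tt N67181 (iv5 F394536)) (tt N93957 (iv6 F402589)) (tt N67344 F394535))
theorem Q91818 : ∀ i, i < 91818 → P i := stepQ 91817 Q91817 (allL N91817 (tt N111678 (iv1 F477442)) (tt N102391 (iv0 F437027)) (tt N114449 (iv2 F490221)) (tt N67181 F394538) (tt N67791 F394540) (tt N55426 (iv5 D194805)) (tt N83010 (iv6 F394541)) (tt N67343 F394539))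
theorem Q91819 : ∀ i, i < 91819 → P i := stepQ 91818 Q91818 (allL N91818 (tt N100683 F429997) (tt N97843 (iv0 F418472)) (tt N111591 F477054) (tt N93957 (iv3 F402588)) (tt N55427 F394542) (tt N86959 F394543) (tt N55426 (iv6 D194806)) (tt N101986 (iv7 F435228)))
theorem Q91820 : ∀ i, i < 91820 → P i := stepQ 91819 Q91819 (allL N91819 (tt N81032 (iv1 F394551)) (tt N55427 (iv0 D194807)) (tt N106722 (iv2 F455405)) (tt N115417 (iv3 F495096)) (tt N117633 D220892) (tt N81023 F395248) (tt N62668 F394544) (tt N117632 (iv7 F506102)))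
theorem Q91821 : ∀ i, i < 91821 → P i := stepQ 91820 Q91820 (allL N91820 (tt N55427 (iv1 D194808)) (tt N81032 F394545) (tt N117632 (iv2 F506107)) (tt N81783 (iv3 F394546)) (tt N117634 D220893) (tt N81022 (iv5 F394547)) (tt N117635 D220894) (tt N106722 F455410))
theorem Q91822 : ∀ i, i < 91822 → P i := stepQ 91821 Q91821 (allL N91821 (tt N117632 (iv1 F506101)) (tt N106722 (iv0 F455408)) (tt N81032 F394548) (tt N55432 F394549) (tt N101986 (iv4 F435229)) (tt N115415 (iv5 F495081)) (tt N87721 F394550) (tt N55427 (iv7 D194809)))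
theorem Q91823 : ∀ i, i < 91823 → P i := stepQ 91822 Q91822 (allL N91822 (tt N87761 (iv1 F394553)) (tt N55428 (iv0 D194810)) (tt N87760 (iv2 F394552)) (tt N81160 (iv3 F414080)) (tt N97845 (iv4 F418482)) (tt N110967 (iv5 F474005)) (tt N111060 (iv6 F474465)) (tt N87759 F394554))
theorem Q91824 : ∀ i, i < 91824 → P i := stepQ 91823 Q91823 (allL N91823 (tt N87760 (iv1 F394561)) (tt N87759 F394560) (tt N55428 (iv2 D194811)) (tt N91190 F394556) (tt N67342 F394557) (tt N88074 F394558) (tt N102138 (iv6 F435905)) (tt N87761 F394559))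
theorem Q91825 : ∀ i, i < 91825 → P i := stepQ 91824 Q91824 (allL N91824 (tt N93947 F402542) (tt N93969 (iv0 F402653)) (tt N102138 (iv2 F435902)) (tt N55429 F394562) (tt N93957 (iv4 F402593)) (tt N93960 (iv5 F402608)) (tt N55428 (iv6 D194812)) (tt N101991 (iv7 F435255)))
theorem Q91826 : ∀ i, i < 91826 → P i := stepQ 91825 Q91825 (allL N91825 (tt N91883 (iv1 F394821)) (tt N91886 (iv0 F394834)) (tt N91935 (iv2 F395016)) (tt N93960 (iv3 F402607)) (tt N67057 F394564) (tt N55429 (iv5 D194813)) (tt N67056 F394563) (tt N108944 (iv7 F464608)))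
theorem Q91827 : ∀ i, i < 91827 → P i := stepQ 91826 Q91826 (allL N91826 (tt N91934 (iv1 F395010)) (tt N91850 F394681) (tt N91936 (iv2 F395021)) (tt N101991 (iv3 F435253)) (tt N55432 F394565) (tt N108944 (iv5 F464607)) (tt N84566 F394566) (tt N55429 (iv7 D194814)))
theorem Q91828 : ∀ i, i < 91828 → P i := stepQ 91827 Q91827 (allL N91827 (tt N91849 (iv1 F394675)) (tt N55538 (iv0 F394569)) (tt N78641 F394567) (tt N59796 F394568) (tt N55430 (iv4 D194815)) (tt N104871 (iv5 F447733)) (tt N55430 F394570) (tt N91847 (iv7 F394664)))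
theorem Q91829 : ∀ i, i < 91829 → P i := stepQ 91828 Q91828 (allL N91828 (tt N81574 F394574) (tt N111632 (iv0 F477229)) (tt N91937 (iv2 F395026)) (tt N79842 F394571) (tt N79869 F394572) (tt N92801 (iv5 F398291)) (tt N55431 (iv6 D194816)) (tt N79869 F394573))
theorem Q91830 : ∀ i, i < 91830 → P i := stepQ 91829 Q91829 (allL N91829 (tt N86983 F394579) (tt N91813 F394578) (tt N91939 (iv2 F395034)) (tt N87005 F394575) (tt N82350 F394576) (tt N55433 (iv5 D194817)) (tt N95594 (iv6 F408816)) (tt N91454 F394577))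
theorem Q91831 : ∀ i, i < 91831 → P i := stepQ 91830 Q91830 (allL N91830 (tt N80651 (iv1 F394583)) (tt N80650 F394584) (tt N80654 F394580) (tt N55435 (iv3 D194818)) (tt N81952 (iv4 F394585)) (tt N84193 F394581) (tt N95153 F407247) (tt N80652 F394582))
theorem Q91832 : ∀ i, i < 91832 → P i := stepQ 91831 Q91831 (allL N91831 (tt N78650 F394600) (tt N78649 (iv0 F394601)) (tt N78639 F394596) (tt N95153 (iv3 F407249)) (tt N78740 F394597) (tt N91465 F394598) (tt N55435 (iv6 D194819)) (tt N78651 F394599))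
theorem Q91833 : ∀ i, i < 91833 → P i := stepQ 91832 Q91832 (allL N91832 (tt N112817 F482763) (tt N91909 (iv0 F394922)) (tt N91735 F394602) (tt N87762 F394603) (tt N55437 (iv4 D194820)) (tt N115506 (iv5 F495544)) (tt N84663 F394604) (tt N91259 F394605))
theorem Q91834 : ∀ i, i < 91834 → P i := stepQ 91833 Q91833 (allL N91833 (tt N89174 F394609) (tt N89173 (iv0 F394611)) (tt N73835 F394606) (tt N71767 F394607) (tt N108999 (iv4 F464836)) (tt N55438 (iv5 D194821)) (tt N71764 (iv6 F394610)) (tt N89171 F394608))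
theorem Q91835 : ∀ i, i < 91835 → P i := stepQ 91834 Q91834 (allL N91834 (tt N96559 F412989) (tt N112862 F483020) (tt N80552 F394612) (tt N117636 D220895) (tt N55439 (iv4 D194822)) (tt N117637 D220896) (tt N107731 (iv6 F459439)) (tt N91503 F394613))
theorem Q91836 : ∀ i, i < 91836 → P i := stepQ 91835 Q91835 (allL N91835 (tt N73682 F394617) (tt N91947 F395084) (tt N81547 F394614) (tt N91519 F394615) (tt N107731 F459437) (tt N87512 F394616) (tt N55439 (iv6 D194823)) (tt N91997 F461852))
theorem Q91837 : ∀ i, i < 91837 → P i := stepQ 91836 Q91836 (allL N91836 (tt N112862 F483019) (tt N96559 F412988) (tt N91503 F394618) (tt N64283 F394619) (tt N55440 (iv4 D194824)) (tt N108996 (iv5 F464824)) (tt N64944 (iv6 F394621)) (tt N80552 F394620))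
theorem Q91838 : ∀ i, i < 91838 → P i := stepQ 91837 Q91837 (allL N91837 (tt N55486 F394627) (tt N91891 F394860) (tt N91504 F394622) (tt N65144 F394623) (tt N64944 F394624) (tt N87249 F394625) (tt N55440 (iv6 D194825)) (tt N79465 (iv7 F394626)))
theorem Q91839 : ∀ i, i < 91839 → P i := stepQ 91838 Q91838 (allL N91838 (tt N91509 F394631) (tt N87023 F394632) (tt N55445 F394628) (tt N80409 (iv3 F394633)) (tt N55442 (iv4 D194826)) (tt N80408 F394630) (tt N95597 (iv6 F408833)) (tt N91502 F394629))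
theorem Q91840 : ∀ i, i < 91840 → P i := stepQ 91839 Q91839 (allL N91839 (tt N59423 F394637) (tt N94974 F406556) (tt N91508 F394634) (tt N90365 F394635) (tt N55443 (iv4 D194827)) (tt N90363 (iv5 F394638)) (tt N94886 F406245) (tt N91506 F394636))
theorem Q91841 : ∀ i, i < 91841 → P i := stepQ 91840 Q91840 (allL N91840 (tt N55445 (iv1 D194828)) (tt N91502 F394639) (tt N87023 (iv2 F394642)) (tt N94811 (iv3 F406040)) (tt N87022 F394641) (tt N107807 (iv5 F459787)) (tt N94809 F406039) (tt N91509 F394640))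
theorem Q91842 : ∀ i, i < 91842 → P i := stepQ 91841 Q91841 (allL N91841 (tt N94993 F406583) (tt N107687 (iv0 F459235)) (tt N107688 F459238) (tt N55445 (iv3 D194829)) (tt N55447 F394643) (tt N115829 (iv5 F497123)) (tt N106787 F455682) (tt N91510 F394644))
theorem Q91843 : ∀ i, i < 91843 → P i := stepQ 91842 Q91842 (allL N91842 (tt N81280 F394647) (tt N117607 (iv0 F505974)) (tt N80408 F394645) (tt N115829 (iv3 F497122)) (tt N108997 (iv4 F464826)) (tt N55445 (iv5 D194830)) (tt N106763 (iv6 F455583)) (tt N91511 F394646))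
theorem Q91844 : ∀ i, i < 91844 → P i := stepQ 91843 Q91843 (allL N91843 (tt N91516 (iv1 F394648)) (tt N55447 (iv0 D194831)) (tt N91515 (iv2 F394654)) (tt N96827 F414155) (tt N101145 (iv4 F431923)) (tt N79327 F459628) (tt N111689 (iv6 F477499)) (tt N91514 (iv7 F394656)))
theorem Q91845 : ∀ i, i < 91845 → P i := stepQ 91844 Q91844 (allL N91844 (tt N55447 (iv1 D194832)) (tt N91516 (iv0 F394653)) (tt N91514 F394655) (tt N87003 (iv3 F394649)) (tt N101146 F431926) (tt N79328 F394650) (tt N87002 F394651) (tt N91515 F394652))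
theorem Q91846 : ∀ i, i < 91846 → P i := stepQ 91845 Q91845 (allL N91845 (tt N91515 (iv1 F394661)) (tt N91514 F394660) (tt N55447 (iv2 D194833)) (tt N91963 (iv3 F395153)) (tt N107688 (iv4 F459236)) (tt N88169 F394658) (tt N112158 (iv6 F479810)) (tt N91516 F394659))
theorem Q91847 : ∀ i, i < 91847 → P i := stepQ 91846 Q91846 (allL N91846 (tt N95565 F408681) (tt N112156 (iv0 F479795)) (tt N112158 (iv2 F479809)) (tt N55448 F394662) (tt N106787 (iv4 F455681)) (tt N90981 F394663) (tt N55447 (iv6 D194834)) (tt N112157 F479803))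
theorem Q91848 : ∀ i, i < 91848 → P i := stepQ 91847 Q91847 (allL N91847 (tt N55448 (iv1 D194835)) (tt N91966 F395166) (tt N79501 F394668) (tt N58413 (iv3 F394667)) (tt N55519 F394665) (tt N69444 F394666) (tt N111746 (iv6 F477767)) (tt N91827 F394664))
theorem Q91849 : ∀ i, i < 91849 → P i := stepQ 91848 Q91848 (allL N91848 (tt N112122 (iv1 F479601)) (tt N111528 (iv0 F476756)) (tt N91965 (iv2 F395159)) (tt N90981 F394669) (tt N67020 F394671) (tt N55448 (iv5 D194836)) (tt N67019 F394670) (tt N112121 (iv7 F479589)))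
theorem Q91850 : ∀ i, i < 91850 → P i := stepQ 91849 Q91849 (allL N91849 (tt N79501 (iv1 F394674)) (tt N91827 F394675) (tt N91966 (iv2 F395163)) (tt N112157 (iv3 F479799)) (tt N55451 F394672) (tt N112121 (iv5 F479590)) (tt N58377 F394673) (tt N55448 (iv7 D194837)))
theorem Q91851 : ∀ i, i < 91851 → P i := stepQ 91850 Q91850 (allL N91850 (tt N91826 (iv1 F394681)) (tt N55517 (iv0 F394680)) (tt N91399 F394676) (tt N99235 (iv3 F423795)) (tt N55539 F394677) (tt N91278 F394678) (tt N55449 (iv6 D194838)) (tt N91398 (iv7 F394679)))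
theorem Q91852 : ∀ i, i < 91852 → P i := stepQ 91851 Q91851 (allL N91851 (tt N92006 F395334) (tt N92009 (iv0 F395342)) (tt N91968 (iv2 F395175)) (tt N68808 F394682) (tt N93155 (iv4 F399699)) (tt N56643 F394683) (tt N55450 (iv6 D194839)) (tt N56641 (iv7 F394684)))
theorem Q91853 : ∀ i, i < 91853 → P i := stepQ 91852 Q91852 (allL N91852 (tt N111104 F474692) (tt N97367 (iv0 F416538)) (tt N87537 F394685) (tt N59925 F394686) (tt N55454 F394687) (tt N67910 (iv5 F394689)) (tt N55453 (iv6 D194840)) (tt N65877 F394688))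
theorem Q91854 : ∀ i, i < 91854 → P i := stepQ 91853 Q91853 (allL N91853 (tt N78665 (iv1 F394702)) (tt N80064 F394703) (tt N81606 F394697) (tt N59872 F394698) (tt N65877 F394699) (tt N87136 F394700) (tt N59870 F394701) (tt N55454 (iv7 D194841)))
theorem Q91855 : ∀ i, i < 91855 → P i := stepQ 91854 Q91854 (allL N91854 (tt N81551 (iv1 F394709)) (tt N80138 F394708) (tt N55455 (iv2 D194842)) (tt N59878 F394705) (tt N115763 (iv4 F496733)) (tt N74195 F394706) (tt N59876 (iv6 F394710)) (tt N81550 F394707))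
theorem Q91856 : ∀ i, i < 91856 → P i := stepQ 91855 Q91855 (allL N91855 (tt N91808 F394712) (tt N91805 F394713) (tt N115763 (iv2 F496737)) (tt N81754 (iv3 F394714)) (tt N55455 (iv4 D194843)) (tt N88652 F394715) (tt N81752 F394716) (tt N87528 F394711))
theorem Q91857 : ∀ i, i < 91857 → P i := stepQ 91856 Q91856 (allL N91856 (tt N62666 F394722) (tt N62665 F394724) (tt N59876 F394717) (tt N55457 F394718) (tt N81752 F394719) (tt N57219 F394720) (tt N55455 (iv6 D194844)) (tt N57218 F394721))
theorem Q91858 : ∀ i, i < 91858 → P i := stepQ 91857 Q91857 (allL N91857 (tt N78567 F394729) (tt N80673 F394730) (tt N79598 F394725) (tt N55456 (iv3 D194845)) (tt N81754 F394726) (tt N88664 F394727) (tt N79596 (iv6 F394731)) (tt N80672 F394728))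
theorem Q91859 : ∀ i, i < 91859 → P i := stepQ 91858 Q91858 (allL N91858 (tt N75216 F394735) (tt N79603 (iv0 F394736)) (tt N65848 F394732) (tt N79596 F394733) (tt N55457 F394734) (tt N112170 (iv5 F479871)) (tt N55456 (iv6 D194846)) (tt N79604 F394737))
theorem Q91860 : ∀ i, i < 91860 → P i := stepQ 91859 Q91859 (allL N91859 (tt N75417 (iv1 F394744)) (tt N66705 F394745) (tt N59870 F394739) (tt N57218 F394740) (tt N79604 F394741) (tt N57216 F394742) (tt N81606 F394743) (tt N55457 (iv7 D194847)))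
theorem Q91861 : ∀ i, i < 91861 → P i := stepQ 91860 Q91860 (allL N91860 (tt N82114 (iv1 F394746)) (tt N55459 (iv0 D194848)) (tt N91970 (iv2 F403037)) (tt N80112 (iv3 F403038)) (tt N117638 D220897) (tt N109852 (iv5 F468914)) (tt N102286 (iv6 F436558)) (tt N91969 F403036))
theorem Q91862 : ∀ i, i < 91862 → P i := stepQ 91861 Q91861 (allL N91861 (tt N55459 (iv1 D194849)) (tt N82114 F394747) (tt N91969 F403034) (tt N97104 (iv3 F415483)) (tt N95590 (iv4 F408796)) (tt N94063 (iv5 F403032)) (tt N75399 (iv6 F394748)) (tt N91970 (iv7 F403035)))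
theorem Q91863 : ∀ i, i < 91863 → P i := stepQ 91862 Q91862 (allL N91862 (tt N79469 F394750) (tt N117639 D220898) (tt N95603 (iv2 F408853)) (tt N55462 (iv3 D194850)) (tt N65646 F394749) (tt N97139 (iv5 F415631)) (tt N95601 F408850) (tt N97483 (iv7 F417040)))
theorem Q91864 : ∀ i, i < 91864 → P i := stepQ 91863 Q91863 (allL N91863 (tt N91967 (iv1 F395173)) (tt N81618 (iv0 F394752)) (tt N95541 F408567) (tt N95601 (iv3 F408849)) (tt N80733 F394751) (tt N91907 (iv5 F394909)) (tt N55462 (iv6 D194851)) (tt N91906 F394906))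
theorem Q91865 : ∀ i, i < 91865 → P i := stepQ 91864 Q91864 (allL N91864 (tt N91974 (iv1 F395196)) (tt N87010 F394756) (tt N55465 F394753) (tt N72985 (iv3 F394757)) (tt N55464 (iv4 D194852)) (tt N72980 F394755) (tt N81590 F394754) (tt N91972 (iv7 F395189)))
theorem Q91866 : ∀ i, i < 91866 → P i := stepQ 91865 Q91865 (allL N91865 (tt N55465 (iv1 D194853)) (tt N91972 (iv0 F395190)) (tt N87010 F394759) (tt N108670 (iv3 F463473)) (tt N87006 (iv4 F394758)) (tt N117607 (iv5 F505972)) (tt N117640 D220899) (tt N91974 (iv7 F395197)))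
theorem Q91867 : ∀ i, i < 91867 → P i := stepQ 91866 Q91866 (allL N91866 (tt N96722 F413608) (tt N112233 (iv0 F480162)) (tt N117641 D220900) (tt N55465 (iv3 D194854)) (tt N55467 F394760) (tt N117642 D220901) (tt N114564 F490795) (tt N91975 (iv7 F395201)))
theorem Q91868 : ∀ i, i < 91868 → P i := stepQ 91867 Q91867 (allL N91867 (tt N115429 (iv1 F495151)) (tt N117509 (iv0 F505418)) (tt N72980 F394761) (tt N117642 (iv3 F506167)) (tt N92387 (iv4 F396904)) (tt N55465 (iv5 D194855)) (tt N72977 (iv6 F394762)) (tt N91976 (iv7 F395203)))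
theorem Q91869 : ∀ i, i < 91869 → P i := stepQ 91868 Q91868 (allL N91868 (tt N117643 D220902) (tt N112840 (iv0 F482896)) (tt N81590 F394763) (tt N114564 (iv3 F490791)) (tt N55466 F394764) (tt N117644 D220903) (tt N55465 (iv6 D194856)) (tt N81586 (iv7 F394765)))
theorem Q91870 : ∀ i, i < 91870 → P i := stepQ 91869 Q91869 (allL N91869 (tt N81026 (iv1 F394766)) (tt N55467 (iv0 D194857)) (tt N91979 F395213) (tt N117645 D220904) (tt N80555 (iv4 F431910)) (tt N88168 (iv5 F394768)) (tt N117646 D220905) (tt N87068 F394767))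
theorem Q91871 : ∀ i, i < 91871 → P i := stepQ 91870 Q91870 (allL N91870 (tt N91979 (iv1 F395210)) (tt N87068 F394771) (tt N55467 (iv2 D194858)) (tt N91984 (iv3 F395250)) (tt N117641 (iv4 F506162)) (tt N111471 (iv5 F476493)) (tt N111890 F478527) (tt N81026 F394770))
theorem Q91872 : ∀ i, i < 91872 → P i := stepQ 91871 Q91871 (allL N91871 (tt N80576 (iv1 F394775)) (tt N79317 (iv0 F394774)) (tt N111890 (iv2 F478528)) (tt N55468 F394772) (tt N114564 (iv4 F490790)) (tt N112273 (iv5 F480303)) (tt N55467 (iv6 D194859)) (tt N81021 F394773))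
theorem Q91873 : ∀ i, i < 91873 → P i := stepQ 91872 Q91872 (allL N91872 (tt N114824 (iv1 F492073)) (tt N114815 F492023) (tt N68809 F394776) (tt N78669 F394777) (tt N68802 F394779) (tt N55469 (iv5 D194860)) (tt N68801 F394780) (tt N81623 F394778))
theorem Q91874 : ∀ i, i < 91874 → P i := stepQ 91873 Q91873 (allL N91873 (tt N55489 (iv1 F394784)) (tt N91893 F394846) (tt N91885 (iv2 F394827)) (tt N78670 F394781) (tt N55556 F394782) (tt N91528 F394783) (tt N55469 (iv6 D194861)) (tt N91882 (iv7 F394814)))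
theorem Q91875 : ∀ i, i < 91875 → P i := stepQ 91874 Q91874 (allL N91874 (tt N77788 F394786) (tt N102398 (iv0 F437065)) (tt N55474 F394785) (tt N91973 (iv3 F395193)) (tt N93967 (iv4 F402637)) (tt N93945 F402531) (tt N55472 (iv6 D194862)) (tt N108937 (iv7 F464574)))
theorem Q91876 : ∀ i, i < 91876 → P i := stepQ 91875 Q91875 (allL N91875 (tt N86934 F394790) (tt N95821 F409801) (tt N60120 F394787) (tt N55473 (iv3 D194863)) (tt N55475 F394788) (tt N60118 (iv5 F394791)) (tt N102359 F436894) (tt N60449 F394789))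
theorem Q91877 : ∀ i, i < 91877 → P i := stepQ 91876 Q91876 (allL N91876 (tt N105878 F452147) (tt N112382 F480839) (tt N80499 F394792) (tt N60118 F394793) (tt N60503 (iv4 F394795)) (tt N55473 (iv5 D194864)) (tt N93968 (iv6 F402643)) (tt N60447 F394794))
theorem Q91878 : ∀ i, i < 91878 → P i := stepQ 91877 Q91877 (allL N91877 (tt N108937 (iv1 F464575)) (tt N55474 (iv0 D194865)) (tt N77788 (iv2 F394799)) (tt N90664 (iv3 F394800)) (tt N65690 F394796) (tt N90661 F394797) (tt N77787 F394798) (tt N102398 (iv7 F437064)))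
theorem Q91879 : ∀ i, i < 91879 → P i := stepQ 91878 Q91878 (allL N91878 (tt N55474 (iv1 D194866)) (tt N108937 (iv0 F464576)) (tt N102398 (iv2 F437063)) (tt N59869 (iv3 F394804)) (tt N65688 F394803) (tt N117647 D220906) (tt N95659 (iv6 F409030)) (tt N77788 F394802))
theorem Q91880 : ∀ i, i < 91880 → P i := stepQ 91879 Q91879 (allL N91879 (tt N102398 (iv1 F437066)) (tt N77788 (iv0 F394806)) (tt N108937 (iv2 F464570)) (tt N55478 F394805) (tt N93964 (iv4 F402625)) (tt N93946 (iv5 F402538)) (tt N91982 (iv6 F395237)) (tt N55474 (iv7 D194867)))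
theorem Q91881 : ∀ i, i < 91881 → P i := stepQ 91880 Q91880 (allL N91880 (tt N55475 (iv1 D194868)) (tt N91984 F395254) (tt N91983 F395246) (tt N81996 (iv3 F394808)) (tt N97481 (iv4 F417030)) (tt N114110 (iv5 F488590)) (tt N103400 (iv6 F441446)) (tt N91809 F394807))
theorem Q91882 : ∀ i, i < 91882 → P i := stepQ 91881 Q91881 (allL N91881 (tt N91809 (iv1 F395247)) (tt N91983 F395241) (tt N55475 (iv2 D194869)) (tt N81026 F394809) (tt N60120 F394810) (tt N97131 (iv5 F415600)) (tt N81025 F394811) (tt N91984 (iv7 F395252)))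
theorem Q91883 : ∀ i, i < 91883 → P i := stepQ 91882 Q91882 (allL N91882 (tt N91907 (iv1 F394912)) (tt N55482 F394816) (tt N91905 F394898) (tt N75398 F394812) (tt N55476 (iv4 D194870)) (tt N91296 F394815) (tt N75397 F394813) (tt N91873 F394814))
theorem Q91884 : ∀ i, i < 91884 → P i := stepQ 91883 Q91883 (allL N91883 (tt N117560 F505704) (tt N91825 F394821) (tt N91318 F394817) (tt N75416 F394818) (tt N103132 F440218) (tt N55476 (iv5 D194871)) (tt N88186 F394819) (tt N91383 F394820))
theorem Q91885 : ∀ i, i < 91885 → P i := stepQ 91884 Q91884 (allL N91884 (tt N78639 F394825) (tt N78651 F394826) (tt N78649 F394822) (tt N55477 (iv3 D194872)) (tt N79332 (iv4 F394824)) (tt N117648 D220907) (tt N100673 (iv6 F429957)) (tt N78650 F394823))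
theorem Q91886 : ∀ i, i < 91886 → P i := stepQ 91885 Q91885 (allL N91885 (tt N55482 F394829) (tt N91907 F394911) (tt N91873 F394827) (tt N79333 F394828) (tt N55477 (iv4 D194873)) (tt N91297 F394830) (tt N55563 (iv6 F394831)) (tt N91905 (iv7 F394899)))
theorem Q91887 : ∀ i, i < 91887 → P i := stepQ 91886 Q91886 (allL N91886 (tt N91825 F394834) (tt N117560 (iv0 F505703)) (tt N91383 F394832) (tt N117648 (iv3 F506205)) (tt N103133 (iv4 F440224)) (tt N55477 (iv5 D194874)) (tt N91273 (iv6 F394835)) (tt N91318 F394833))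
theorem Q91888 : ∀ i, i < 91888 → P i := stepQ 91887 Q91887 (allL N91887 (tt N78504 (iv1 F394840)) (tt N55487 (iv0 F394839)) (tt N80270 F394836) (tt N100673 F429955) (tt N55563 F394837) (tt N115664 (iv5 F496209)) (tt N55477 (iv6 D194875)) (tt N88185 F394838))
theorem Q91889 : ∀ i, i < 91889 → P i := stepQ 91888 Q91888 (allL N91888 (tt N91903 (iv1 F394892)) (tt N55479 (iv0 D194876)) (tt N91902 (iv2 F394886)) (tt N111976 (iv3 F478937)) (tt N103256 (iv4 F440822)) (tt N88072 F394887) (tt N117649 D220908) (tt N91298 F394888))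
theorem Q91890 : ∀ i, i < 91890 → P i := stepQ 91889 Q91889 (allL N91889 (tt N91902 F394884) (tt N91298 F394842) (tt N55479 (iv2 D194877)) (tt N91899 (iv3 F394861)) (tt N67346 F394841) (tt N104904 (iv5 F447869)) (tt N111876 (iv6 F478450)) (tt N91903 (iv7 F394891)))
theorem Q91891 : ∀ i, i < 91891 → P i := stepQ 91890 Q91890 (allL N91890 (tt N111861 (iv1 F478362)) (tt N60612 (iv0 F394844)) (tt N111876 (iv2 F478448)) (tt N55480 F394843) (tt N104354 (iv4 F445396)) (tt N114126 (iv5 F488662)) (tt N55479 (iv6 D194878)) (tt N111065 (iv7 F474495)))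
theorem Q91892 : ∀ i, i < 91892 → P i := stepQ 91891 Q91891 (allL N91891 (tt N91837 (iv1 F394860)) (tt N91898 F394858) (tt N55481 (iv2 D194879)) (tt N91903 (iv3 F394889)) (tt N117650 D220909) (tt N95664 (iv5 F409044)) (tt N95540 (iv6 F408559)) (tt N91899 (iv7 F394862)))
theorem Q91893 : ∀ i, i < 91893 → P i := stepQ 91892 Q91892 (allL N91892 (tt N115424 F495127) (tt N103351 (iv0 F441233)) (tt N117650 (iv2 F506216)) (tt N95164 (iv3 F407276)) (tt N55481 (iv4 D194880)) (tt N116826 (iv5 F502031)) (tt N95161 (iv6 F407268)) (tt N91900 (iv7 F394866)))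
theorem Q91894 : ∀ i, i < 91894 → P i := stepQ 91893 Q91893 (allL N91893 (tt N91873 (iv1 F394846)) (tt N91905 F394900) (tt N91907 (iv2 F394907)) (tt N95542 (iv3 F408569)) (tt N80930 F394845) (tt N95541 (iv5 F408566)) (tt N91901 (iv6 F394870)) (tt N55482 (iv7 D194881)))
theorem Q91895 : ∀ i, i < 91895 → P i := stepQ 91894 Q91894 (allL N91894 (tt N84506 F394847) (tt N111852 (iv0 F478313)) (tt N91986 (iv2 F395257)) (tt N111456 (iv3 F476437)) (tt N103833 (iv4 F443014)) (tt N55483 (iv5 D194882)) (tt N100674 (iv6 F429959)) (tt N91988 (iv7 F395268)))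
theorem Q91896 : ∀ i, i < 91896 → P i := stepQ 91895 Q91895 (allL N91895 (tt N91990 (iv1 F395280)) (tt N55485 (iv0 D194883)) (tt N91991 F395283) (tt N65150 (iv3 F394849)) (tt N117651 D220910) (tt N64247 F394848) (tt N117652 D220911) (tt N80169 (iv7 F394850)))
theorem Q91897 : ∀ i, i < 91897 → P i := stepQ 91896 Q91896 (allL N91896 (tt N55485 (iv1 D194884)) (tt N91990 (iv0 F395279)) (tt N80169 F394852) (tt N117653 D220912) (tt N117654 D220913) (tt N80167 (iv5 F394851)) (tt N117655 D220914) (tt N91991 (iv7 F395282)))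
theorem Q91898 : ∀ i, i < 91898 → P i := stepQ 91897 Q91897 (allL N91897 (tt N117656 D220915) (tt N117657 D220916) (tt N105863 (iv2 F452060)) (tt N88167 F394853) (tt N55485 (iv4 D194885)) (tt N70832 F394855) (tt N88167 F394854) (tt N91992 (iv7 F395285)))
theorem Q91899 : ∀ i, i < 91899 → P i := stepQ 91898 Q91898 (allL N91898 (tt N91891 (iv1 F394858)) (tt N55486 (iv0 D194886)) (tt N79465 (iv2 F394857)) (tt N117639 F506152) (tt N107779 (iv4 F459691)) (tt N87248 F394856) (tt N91997 (iv6 F461854)) (tt N91504 F394859))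
theorem Q91900 : ∀ i, i < 91900 → P i := stepQ 91899 Q91899 (allL N91899 (tt N79465 (iv1 F394864)) (tt N91504 F394863) (tt N55486 (iv2 D194887)) (tt N91889 F394861) (tt N117658 D220917) (tt N114142 (iv5 F488727)) (tt N80244 (iv6 F394878)) (tt N91891 F394862))
theorem Q91901 : ∀ i, i < 91901 → P i := stepQ 91900 Q91900 (allL N91900 (tt N101875 F434779) (tt N117640 (iv0 F506160)) (tt N117658 (iv2 F506251)) (tt N88371 F394865) (tt N55486 (iv4 D194888)) (tt N109326 (iv5 F466399)) (tt N101894 (iv6 F434859)) (tt N91892 F394866))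
theorem Q91902 : ∀ i, i < 91902 → P i := stepQ 91901 Q91901 (allL N91901 (tt N88185 (iv1 F394871)) (tt N80270 F394872) (tt N78504 F394867) (tt N80243 (iv3 F394874)) (tt N78502 F394868) (tt N84531 F394869) (tt N91893 F394870) (tt N55487 (iv7 D194889)))
theorem Q91903 : ∀ i, i < 91903 → P i := stepQ 91902 Q91902 (allL N91902 (tt N55488 (iv1 D194890)) (tt N91889 (iv0 F394884)) (tt N91888 F394886) (tt N95295 (iv3 F407761)) (tt N67403 F394881) (tt N74155 (iv5 F394882)) (tt N92001 F395322) (tt N67402 F394880))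
theorem Q91904 : ∀ i, i < 91904 → P i := stepQ 91903 Q91903 (allL N91903 (tt N67402 (iv1 F394893)) (tt N91888 F394892) (tt N55488 (iv2 D194891)) (tt N91891 F394889) (tt N103242 (iv4 F440742)) (tt N69464 F394890) (tt N106095 F453088) (tt N91889 F394891))
theorem Q91905 : ∀ i, i < 91905 → P i := stepQ 91904 Q91904 (allL N91904 (tt N106093 F453080) (tt N95598 (iv0 F408837)) (tt N106095 (iv2 F453089)) (tt N55489 F394894) (tt N92094 F395714) (tt N106106 (iv5 F453135)) (tt N55488 (iv6 D194892)) (tt N106094 F453084))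
theorem Q91906 : ∀ i, i < 91906 → P i := stepQ 91905 Q91905 (allL N91905 (tt N91893 (iv1 F394900)) (tt N55489 (iv0 D194893)) (tt N91882 (iv2 F394898)) (tt N91967 (iv3 F395169)) (tt N55555 F394895) (tt N91527 F394897) (tt N87456 F394896) (tt N91885 F394899))
theorem Q91907 : ∀ i, i < 91907 → P i := stepQ 91906 Q91906 (allL N91906 (tt N79333 F394904) (tt N71038 F394905) (tt N58604 F394901) (tt N106106 (iv3 F453139)) (tt N80773 F394903) (tt N55489 (iv5 D194894)) (tt N79342 F394902) (tt N91863 (iv7 F394906)))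
theorem Q91908 : ∀ i, i < 91908 → P i := stepQ 91907 Q91907 (allL N91907 (tt N91885 (iv1 F394911)) (tt N91882 F394912) (tt N91893 F394907) (tt N106094 (iv3 F453082)) (tt N78506 F394908) (tt N91863 F394909) (tt N78504 F394910) (tt N55489 (iv7 D194895)))
theorem Q91909 : ∀ i, i < 91909 → P i := stepQ 91908 Q91908 (allL N91908 (tt N89176 F394916) (tt N89092 F394917) (tt N89178 F394913) (tt N79001 F394914) (tt N55490 (iv4 D194896)) (tt N109095 (iv5 F465314)) (tt N92011 (iv6 F395347)) (tt N89172 F394915))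
theorem Q91910 : ∀ i, i < 91910 → P i := stepQ 91909 Q91909 (allL N91909 (tt N91832 F394922) (tt N91461 (iv0 F394923)) (tt N91760 F394918) (tt N55494 (iv3 D194897)) (tt N91760 F394919) (tt N111310 (iv5 F475752)) (tt N91415 F394920) (tt N91807 F394921))
theorem Q91911 : ∀ i, i < 91911 → P i := stepQ 91910 Q91910 (allL N91910 (tt N79018 F394928) (tt N79020 F394929) (tt N55496 F394924) (tt N87301 F394925) (tt N87493 F394927) (tt N55495 (iv5 D194898)) (tt N108563 (iv6 F463075)) (tt N87180 F394926))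
theorem Q91912 : ∀ i, i < 91912 → P i := stepQ 91911 Q91911 (allL N91911 (tt N79958 F394932) (tt N79955 F394933) (tt N87493 F394930) (tt N114216 (iv3 F489036)) (tt N55496 (iv4 D194899)) (tt N87489 F394931) (tt N117659 D220918) (tt N91919 (iv7 F394963)))
theorem Q91913 : ∀ i, i < 91913 → P i := stepQ 91912 Q91912 (allL N91912 (tt N117660 D220919) (tt N117661 D220920) (tt N108563 (iv2 F463074)) (tt N55497 F394934) (tt N117659 (iv4 F506260)) (tt N84679 F394935) (tt N55496 (iv6 D194900)) (tt N108561 (iv7 F463069)))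
theorem Q91914 : ∀ i, i < 91914 → P i := stepQ 91913 Q91913 (allL N91913 (tt N88058 (iv1 F394939)) (tt N87210 F394940) (tt N84557 F394936) (tt N108561 (iv3 F463067)) (tt N79771 F394937) (tt N84682 F394938) (tt N91923 (iv6 F394969)) (tt N55497 (iv7 D194901)))
theorem Q91915 : ∀ i, i < 91915 → P i := stepQ 91914 Q91914 (allL N91914 (tt N85456 (iv1 F394945)) (tt N89094 F394946) (tt N90643 F394941) (tt N55498 (iv3 D194902)) (tt N87821 F394942) (tt N113833 (iv5 F487346)) (tt N87836 F394943) (tt N89904 F394944))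
theorem Q91916 : ∀ i, i < 91916 → P i := stepQ 91915 Q91915 (allL N91915 (tt N58658 (iv1 F409024)) (tt N104836 (iv0 F447531)) (tt N95434 F408185) (tt N55502 (iv3 D194903)) (tt N95313 (iv4 F408184)) (tt N96778 (iv5 F413887)) (tt N58467 F394951) (tt N95437 F408183))
theorem Q91917 : ∀ i, i < 91917 → P i := stepQ 91916 Q91916 (allL N91916 (tt N66704 (iv1 F394950)) (tt N80271 (iv0 F394949)) (tt N111514 F476667) (tt N58467 (iv3 F394948)) (tt N115548 (iv4 F495723)) (tt N58466 F394947) (tt N55502 (iv6 D194904)) (tt N111513 (iv7 F476663)))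
theorem Q91918 : ∀ i, i < 91918 → P i := stepQ 91917 Q91917 (allL N91917 (tt N88158 F394953) (tt N108620 F488899) (tt N117662 D220921) (tt N55503 (iv3 D194905)) (tt N111641 (iv4 F477273)) (tt N74130 F394952) (tt N111636 (iv6 F477244)) (tt N115643 (iv7 F496111)))
theorem Q91919 : ∀ i, i < 91919 → P i := stepQ 91918 Q91918 (allL N91918 (tt N83529 (iv1 F394959)) (tt N55504 (iv0 D194906)) (tt N83528 (iv2 F394958)) (tt N91735 F394956) (tt N89942 F394955) (tt N88062 F394954) (tt N82590 F394957) (tt N83527 F394960))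
theorem Q91920 : ∀ i, i < 91920 → P i := stepQ 91919 Q91919 (allL N91919 (tt N98128 (iv1 F419587)) (tt N98130 (iv0 F419596)) (tt N111782 F477950) (tt N114143 (iv3 F488732)) (tt N55507 (iv4 D194907)) (tt N79930 F394962) (tt N114225 (iv6 F489082)) (tt N91911 F394963))
theorem Q91921 : ∀ i, i < 91921 → P i := stepQ 91920 Q91920 (allL N91920 (tt N108508 (iv1 F462896)) (tt N108496 (iv0 F462846)) (tt N108506 F462886) (tt N55508 F394964) (tt N114225 (iv4 F489080)) (tt N86092 F394965) (tt N55507 (iv6 D194908)) (tt N108507 (iv7 F462889)))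
theorem Q91922 : ∀ i, i < 91922 → P i := stepQ 91921 Q91921 (allL N91921 (tt N91667 (iv1 F394970)) (tt N55508 (iv0 D194909)) (tt N91665 F410811) (tt N117663 D220922) (tt N114208 (iv4 F488990)) (tt N117664 D220923) (tt N111897 (iv6 F478553)) (tt N91666 F410809))
theorem Q91923 : ∀ i, i < 91923 → P i := stepQ 91922 Q91922 (allL N91922 (tt N55508 (iv1 D194910)) (tt N91667 F394966) (tt N91666 (iv2 F410808)) (tt N117115 (iv3 F503478)) (tt N114209 (iv4 F489001)) (tt N93926 (iv5 F402452)) (tt N116119 (iv6 F498570)) (tt N91665 (iv7 F410810)))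
theorem Q91924 : ∀ i, i < 91924 → P i := stepQ 91923 Q91923 (allL N91923 (tt N91666 (iv1 F394971)) (tt N91665 F394972) (tt N91667 F394967) (tt N108507 (iv3 F462892)) (tt N111684 (iv4 F477469)) (tt N91498 F394968) (tt N91913 F394969) (tt N55508 (iv7 D194911)))
theorem Q91925 : ∀ i, i < 91925 → P i := stepQ 91924 Q91924 (allL N91924 (tt N117665 D220924) (tt N117616 (iv0 F506019)) (tt N115578 (iv2 F495844)) (tt N55511 F394973) (tt N104036 F443896) (tt N83576 F394974) (tt N55510 (iv6 D194912)) (tt N114149 (iv7 F488752)))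
theorem Q91926 : ∀ i, i < 91926 → P i := stepQ 91925 Q91925 (allL N91925 (tt N81952 F394977) (tt N64355 F394978) (tt N81951 F394975) (tt N74235 (iv3 F400577)) (tt N55512 (iv4 D194913)) (tt N112635 (iv5 F481931)) (tt N74234 F400579) (tt N81950 F394976))
theorem Q91927 : ∀ i, i < 91927 → P i := stepQ 91926 Q91926 (allL N91926 (tt N96605 F413154) (tt N91999 (iv0 F413160)) (tt N87017 F394979) (tt N95551 (iv3 F408624)) (tt N74234 (iv4 F400580)) (tt N114707 (iv5 F491452)) (tt N55512 (iv6 D194914)) (tt N117646 (iv7 F506194)))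
theorem Q91928 : ∀ i, i < 91928 → P i := stepQ 91927 Q91927 (allL N91927 (tt N87071 (iv1 F394986)) (tt N73089 (iv0 F394984)) (tt N55515 F394980) (tt N81859 F394983) (tt N55513 (iv4 D194915)) (tt N117235 (iv5 F504046)) (tt N81230 F394981) (tt N87060 F394982))
theorem Q91929 : ∀ i, i < 91929 → P i := stepQ 91928 Q91928 (allL N91928 (tt N112155 F479787) (tt N112400 (iv0 F480942)) (tt N79641 F394987) (tt N115789 (iv3 F496887)) (tt N78448 F394988) (tt N87267 F394989) (tt N55514 (iv6 D194916)) (tt N112822 (iv7 F482791)))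
theorem Q91930 : ∀ i, i < 91930 → P i := stepQ 91929 Q91929 (allL N91929 (tt N87060 (iv1 F394991)) (tt N55515 (iv0 D194917)) (tt N87071 F394995) (tt N57748 (iv3 F394992)) (tt N89888 F394990) (tt N57745 F394993) (tt N95450 (iv6 F408234)) (tt N73089 F394994))
theorem Q91931 : ∀ i, i < 91931 → P i := stepQ 91930 Q91930 (allL N91930 (tt N55515 (iv1 D194918)) (tt N87060 F394996) (tt N73089 F395000) (tt N103079 (iv3 F439978)) (tt N89887 F394998) (tt N86153 F395001) (tt N73088 (iv6 F394999)) (tt N87071 F394997))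
theorem Q91932 : ∀ i, i < 91932 → P i := stepQ 91931 Q91931 (allL N91931 (tt N117666 D220925) (tt N117667 D220926) (tt N117410 (iv2 F504893)) (tt N55515 (iv3 D194919)) (tt N55516 F395006) (tt N110421 (iv5 F471500)) (tt N112135 F479680) (tt N87072 F395007))
theorem Q91933 : ∀ i, i < 91933 → P i := stepQ 91932 Q91932 (allL N91932 (tt N72953 (iv1 F406613)) (tt N117668 D220927) (tt N117235 (iv2 F504045)) (tt N110421 (iv3 F471497)) (tt N109318 (iv4 F466362)) (tt N55515 (iv5 D194920)) (tt N101160 F432000) (tt N72867 F395008))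
theorem Q91934 : ∀ i, i < 91934 → P i := stepQ 91933 Q91933 (allL N91933 (tt N99708 F425844) (tt N100692 (iv0 F430044)) (tt N111580 (iv2 F477002)) (tt N55517 F395009) (tt N112135 (iv4 F479678)) (tt N117669 D220928) (tt N55516 (iv6 D194921)) (tt N111579 F476996))
theorem Q91935 : ∀ i, i < 91935 → P i := stepQ 91934 Q91934 (allL N91934 (tt N55517 (iv1 D194922)) (tt N91826 F395010) (tt N91398 (iv2 F395014)) (tt N100697 (iv3 F430068)) (tt N55540 F395012) (tt N91277 (iv5 F395015)) (tt N56641 (iv6 F395013)) (tt N91399 F395011))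
theorem Q91936 : ∀ i, i < 91936 → P i := stepQ 91935 Q91935 (allL N91935 (tt N91318 F395019) (tt N91383 F395020) (tt N91825 F395016) (tt N117669 (iv3 F506321)) (tt N76730 F395018) (tt N55517 (iv5 D194923)) (tt N87220 F395017) (tt N117560 (iv7 F505702)))
theorem Q91937 : ∀ i, i < 91937 → P i := stepQ 91936 Q91936 (allL N91936 (tt N91398 (iv1 F395024)) (tt N91399 F395025) (tt N91826 F395021) (tt N111579 (iv3 F476992)) (tt N55520 F395022) (tt N117560 (iv5 F505701)) (tt N87080 F395023) (tt N55517 (iv7 D194924)))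
theorem Q91938 : ∀ i, i < 91938 → P i := stepQ 91937 Q91937 (allL N91937 (tt N93149 F399679) (tt N93141 F399652) (tt N91828 F395026) (tt N95301 (iv3 F407783)) (tt N111746 (iv4 F477765)) (tt N93157 (iv5 F399708)) (tt N55519 (iv6 D194925)) (tt N111746 (iv7 F477768)))
theorem Q91939 : ∀ i, i < 91939 → P i := stepQ 91938 Q91938 (allL N91938 (tt N89888 F395033) (tt N89887 F395031) (tt N81010 F395027) (tt N55523 F395028) (tt N81967 F395032) (tt N55521 (iv5 D194926)) (tt N65061 F395029) (tt N89085 F395030))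
theorem Q91940 : ∀ i, i < 91940 → P i := stepQ 91939 Q91939 (allL N91939 (tt N87729 F395038) (tt N95379 F408052) (tt N91829 F395034) (tt N58891 F395035) (tt N58892 F395036) (tt N55522 (iv5 D194927)) (tt N95466 (iv6 F408289)) (tt N59714 F395037))
theorem Q91941 : ∀ i, i < 91941 → P i := stepQ 91940 Q91940 (allL N91940 (tt N81013 F395044) (tt N81012 (iv0 F395045)) (tt N65060 F395039) (tt N65061 F395040) (tt N65064 F395041) (tt N65060 F395042) (tt N55523 (iv6 D194928)) (tt N81014 F395043))
theorem Q91942 : ∀ i, i < 91942 → P i := stepQ 91941 Q91941 (allL N91941 (tt N55524 (iv1 D194929)) (tt N87027 F395046) (tt N82519 F395052) (tt N66046 (iv3 F395050)) (tt N82370 F395049) (tt N75612 F395048) (tt N66045 (iv6 F395051)) (tt N82376 F395047))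
theorem Q91943 : ∀ i, i < 91943 → P i := stepQ 91942 Q91942 (allL N91942 (tt N82113 (iv1 F395055)) (tt N55525 (iv0 D194930)) (tt N91995 F395300) (tt N58615 F395054) (tt N77588 F395053) (tt N107228 (iv5 F457547)) (tt N58614 (iv6 F395056)) (tt N91994 (iv7 F395295)))
theorem Q91944 : ∀ i, i < 91944 → P i := stepQ 91943 Q91943 (allL N91943 (tt N55525 (iv1 D194931)) (tt N82113 F395057) (tt N91994 (iv2 F395296)) (tt N110594 (iv3 F472296)) (tt N77589 F395058) (tt N82176 (iv5 F395059)) (tt N92557 F397365) (tt N91995 (iv7 F395298)))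
theorem Q91945 : ∀ i, i < 91945 → P i := stepQ 91944 Q91944 (allL N91944 (tt N117649 F506215) (tt N91299 (iv0 F395064)) (tt N92527 (iv2 F397244)) (tt N55526 (iv3 D194932)) (tt N67292 (iv4 F395063)) (tt N59121 F395066) (tt N59123 F395065) (tt N55576 F395062))
theorem Q91946 : ∀ i, i < 91946 → P i := stepQ 91945 Q91945 (allL N91945 (tt N56643 F395072) (tt N56634 F395071) (tt N55574 F395067) (tt N59121 F395068) (tt N56289 F395070) (tt N55526 (iv5 D194933)) (tt N59119 F395073) (tt N55578 F395069))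
theorem Q91947 : ∀ i, i < 91947 → P i := stepQ 91946 Q91946 (allL N91946 (tt N71039 (iv1 F395080)) (tt N75397 (iv0 F395079)) (tt N55575 F395074) (tt N59123 F395075) (tt N58625 F395076) (tt N59120 F395077) (tt N55526 (iv6 D194934)) (tt N91563 F395078))
theorem Q91948 : ∀ i, i < 91948 → P i := stepQ 91947 Q91947 (allL N91947 (tt N91835 (iv1 F395084)) (tt N108280 (iv0 F461850)) (tt N108281 (iv2 F461855)) (tt N55527 (iv3 D194935)) (tt N65482 (iv4 F395083)) (tt N87501 F395081) (tt N109306 (iv6 F466308)) (tt N55572 F395082))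
theorem Q91949 : ∀ i, i < 91949 → P i := stepQ 91948 Q91948 (allL N91948 (tt N82352 F395087) (tt N86938 F395088) (tt N86936 F395085) (tt N111849 (iv3 F478297)) (tt N55529 (iv4 D194936)) (tt N103254 (iv5 F440811)) (tt N102142 F435926) (tt N86937 F395086))
theorem Q91950 : ∀ i, i < 91950 → P i := stepQ 91949 Q91949 (allL N91949 (tt N92527 F397250) (tt N55576 (iv0 F395090)) (tt N91299 F395089) (tt N112046 (iv3 F479240)) (tt N102142 (iv4 F435924)) (tt N108490 (iv5 F462811)) (tt N55529 (iv6 D194937)) (tt N117649 (iv7 F506213)))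
theorem Q91951 : ∀ i, i < 91951 → P i := stepQ 91950 Q91950 (allL N91950 (tt N91302 F395096) (tt N91301 F395095) (tt N55535 F395091) (tt N82551 F395092) (tt N55532 (iv4 D194938)) (tt N67337 F395094) (tt N117670 D220929) (tt N87906 F395093))
theorem Q91952 : ∀ i, i < 91952 → P i := stepQ 91951 Q91951 (allL N91951 (tt N71706 F395101) (tt N111115 (iv0 F474738)) (tt N55536 F395097) (tt N71716 F395098) (tt N117670 (iv4 F506328)) (tt N71712 F395099) (tt N55532 (iv6 D194939)) (tt N71711 F395100))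
theorem Q91953 : ∀ i, i < 91953 → P i := stepQ 91952 Q91952 (allL N91952 (tt N89085 (iv1 F395107)) (tt N81010 (iv0 F395106)) (tt N89888 F395102) (tt N55533 (iv3 D194940)) (tt N87071 F395105) (tt N87409 F395103) (tt N111031 (iv6 F474348)) (tt N89887 F395104))
theorem Q91954 : ∀ i, i < 91954 → P i := stepQ 91953 Q91953 (allL N91953 (tt N65641 F395110) (tt N65640 F395111) (tt N65643 F395108) (tt N97777 F418271) (tt N55533 (iv4 D194941)) (tt N67490 (iv5 F395112)) (tt N79673 F395113) (tt N65635 F395109))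
theorem Q91955 : ∀ i, i < 91955 → P i := stepQ 91954 Q91954 (allL N91954 (tt N111477 (iv1 F489091)) (tt N114226 (iv0 F489089)) (tt N91300 F395114) (tt N111031 (iv3 F474347)) (tt N79673 F395115) (tt N87411 F395116) (tt N55533 (iv6 D194942)) (tt N114809 (iv7 F491984)))
theorem Q91956 : ∀ i, i < 91956 → P i := stepQ 91955 Q91955 (allL N91955 (tt N82529 F395119) (tt N60412 F395121) (tt N102090 F435673) (tt N55535 (iv3 D194943)) (tt N55537 F395117) (tt N60536 (iv5 F395120)) (tt N111924 F478683) (tt N91303 F395118))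
theorem Q91957 : ∀ i, i < 91957 → P i := stepQ 91956 Q91956 (allL N91956 (tt N67340 F395126) (tt N67180 F395127) (tt N67337 F395122) (tt N60536 F395123) (tt N66629 F395124) (tt N55535 (iv5 D194944)) (tt N60534 (iv6 F395128)) (tt N67338 F395125))
theorem Q91958 : ∀ i, i < 91958 → P i := stepQ 91957 Q91957 (allL N91957 (tt N102136 F435898) (tt N97616 (iv0 F417614)) (tt N117670 (iv2 F506326)) (tt N111924 F478682) (tt N55536 F395129) (tt N117633 (iv5 F506111)) (tt N55535 (iv6 D194945)) (tt N117671 D220930))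
theorem Q91959 : ∀ i, i < 91959 → P i := stepQ 91958 Q91958 (allL N91958 (tt N71711 F395133) (tt N55536 (iv0 D194946)) (tt N71706 (iv2 F395131)) (tt N79295 F395130) (tt N97842 F418465) (tt N79294 (iv5 F395132)) (tt N93947 (iv6 F402540)) (tt N111115 (iv7 F474736)))
theorem Q91960 : ∀ i, i < 91960 → P i := stepQ 91959 Q91959 (allL N91959 (tt N55536 (iv1 D194947)) (tt N71711 F395134) (tt N111115 (iv2 F474734)) (tt N59694 (iv3 F395136)) (tt N93963 (iv4 F402618)) (tt N106107 (iv5 F453145)) (tt N117672 D220931) (tt N71706 F395135))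
theorem Q91961 : ∀ i, i < 91961 → P i := stepQ 91960 Q91960 (allL N91960 (tt N111115 (iv1 F474737)) (tt N71706 (iv0 F395141)) (tt N71711 F395137) (tt N55541 F395138) (tt N117671 (iv4 F506333)) (tt N71710 F395139) (tt N71723 F395140) (tt N55536 (iv7 D194948)))
theorem Q91962 : ∀ i, i < 91962 → P i := stepQ 91961 Q91961 (allL N91961 (tt N91307 (iv1 F395143)) (tt N55537 (iv0 D194949)) (tt N91306 (iv2 F395150)) (tt N81165 (iv3 F418495)) (tt N65651 F395142) (tt N74073 (iv5 F395145)) (tt N106719 F455396) (tt N65650 (iv7 F395144)))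
theorem Q91963 : ∀ i, i < 91963 → P i := stepQ 91962 Q91962 (allL N91962 (tt N55537 (iv1 D194950)) (tt N91307 F395152) (tt N65650 F395151) (tt N80165 (iv3 F395147)) (tt N65513 F395146) (tt N114205 (iv5 F488976)) (tt N87719 F395148) (tt N91306 F395149))
theorem Q91964 : ∀ i, i < 91964 → P i := stepQ 91963 Q91963 (allL N91963 (tt N91306 (iv1 F395157)) (tt N65650 F395156) (tt N55537 (iv2 D194951)) (tt N91845 F395153) (tt N102090 (iv4 F435671)) (tt N87394 F395154) (tt N97617 F417618) (tt N91307 F395155))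
theorem Q91965 : ∀ i, i < 91965 → P i := stepQ 91964 Q91964 (allL N91964 (tt N62668 (iv1 F395611)) (tt N62671 F395610) (tt N97617 (iv2 F417615)) (tt N55538 F395158) (tt N111924 (iv4 F478681)) (tt N92068 (iv5 F395609)) (tt N55537 (iv6 D194952)) (tt N97622 (iv7 F417641)))
theorem Q91966 : ∀ i, i < 91966 → P i := stepQ 91965 Q91965 (allL N91965 (tt N90678 F395161) (tt N80932 F395162) (tt N91848 F395159) (tt N92068 F395608) (tt N103093 (iv4 F440035)) (tt N55538 (iv5 D194953)) (tt N87386 F395160) (tt N97621 (iv7 F417637)))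
theorem Q91967 : ∀ i, i < 91967 → P i := stepQ 91966 Q91966 (allL N91966 (tt N91847 (iv1 F395166)) (tt N78641 F395167) (tt N91849 F395163) (tt N97622 (iv3 F417639)) (tt N55541 F395164) (tt N97621 F417638) (tt N59772 F395165) (tt N55538 (iv7 D194954)))
theorem Q91968 : ∀ i, i < 91968 → P i := stepQ 91967 Q91967 (allL N91967 (tt N58604 F395174) (tt N91863 F395173) (tt N71038 F395168) (tt N91905 F395169) (tt N79334 F395170) (tt N55539 (iv5 D194955)) (tt N58369 F395171) (tt N79333 F395172))
theorem Q91969 : ∀ i, i < 91969 → P i := stepQ 91968 Q91968 (allL N91968 (tt N93164 (iv1 F399745)) (tt N93163 (iv0 F399741)) (tt N91851 F395175) (tt N79856 F395176) (tt N56641 F395177) (tt N60187 F395178) (tt N55540 (iv6 D194956)) (tt N93155 (iv7 F399698)))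
theorem Q91970 : ∀ i, i < 91970 → P i := stepQ 91969 Q91969 (allL N91969 (tt N76541 (iv1 F395180)) (tt N55544 (iv0 D194957)) (tt N91861 (iv2 F403034)) (tt N81993 (iv3 F395181)) (tt N112650 (iv4 F481994)) (tt N82034 F395179) (tt N97365 (iv6 F416524)) (tt N91860 (iv7 F403036)))
theorem Q91971 : ∀ i, i < 91971 → P i := stepQ 91970 Q91970 (allL N91970 (tt N55544 (iv1 D194958)) (tt N76541 F395182) (tt N91860 F403037) (tt N65883 (iv3 F395183)) (tt N112651 (iv4 F482000)) (tt N117673 D220932) (tt N65881 F395184) (tt N91861 F403035))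
theorem Q91972 : ∀ i, i < 91972 → P i := stepQ 91971 Q91971 (allL N91971 (tt N96793 (iv1 F413971)) (tt N96792 F413970) (tt N58489 F395185) (tt N55548 (iv3 D194959)) (tt N67387 F395186) (tt N104001 F443732) (tt N58487 F395187) (tt N96789 (iv7 F413954)))
theorem Q91973 : ∀ i, i < 91973 → P i := stepQ 91972 Q91972 (allL N91972 (tt N91865 F395190) (tt N87807 F395191) (tt N55551 F395188) (tt N101129 (iv3 F431827)) (tt N55550 (iv4 D194960)) (tt N107163 (iv5 F457271)) (tt N101127 F431822) (tt N91864 F395189))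
theorem Q91974 : ∀ i, i < 91974 → P i := stepQ 91973 Q91973 (allL N91973 (tt N79482 F395195) (tt N99710 F425857) (tt N55552 F395192) (tt N91874 F395193) (tt N101127 (iv4 F431820)) (tt N91389 F395194) (tt N55550 (iv6 D194961)) (tt N108574 (iv7 F463112)))
theorem Q91975 : ∀ i, i < 91975 → P i := stepQ 91974 Q91974 (allL N91974 (tt N55551 (iv1 D194962)) (tt N91864 F395196) (tt N87807 (iv2 F395199)) (tt N74233 F400575) (tt N87804 F395198) (tt N108949 (iv5 F464624)) (tt N74232 (iv6 F400578)) (tt N91865 F395197))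
theorem Q91976 : ∀ i, i < 91976 → P i := stepQ 91975 Q91975 (allL N91975 (tt N117674 D220933) (tt N117675 D220934) (tt N112139 (iv2 F479700)) (tt N55551 (iv3 D194963)) (tt N55553 F395200) (tt N112642 (iv5 F481961)) (tt N59585 (iv6 F395202)) (tt N91866 F395201))
theorem Q91977 : ∀ i, i < 91977 → P i := stepQ 91976 Q91976 (allL N91976 (tt N107808 (iv1 F459789)) (tt N107807 F459788) (tt N107163 F457273) (tt N112642 (iv3 F481960)) (tt N94263 F403901) (tt N55551 (iv5 D194964)) (tt N112640 (iv6 F481955)) (tt N91867 F395203))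
theorem Q91978 : ∀ i, i < 91978 → P i := stepQ 91977 Q91977 (allL N91977 (tt N111600 F477110) (tt N111437 (iv0 F476363)) (tt N101127 (iv2 F431819)) (tt N59585 F395204) (tt N55552 F395205) (tt N81223 (iv5 F395206)) (tt N55551 (iv6 D194965)) (tt N112141 (iv7 F479710)))
theorem Q91979 : ∀ i, i < 91979 → P i := stepQ 91978 Q91978 (allL N91978 (tt N108574 F463113) (tt N55552 (iv0 D194966)) (tt N79482 (iv2 F395208)) (tt N77802 F395209) (tt N112025 (iv4 F479133)) (tt N102869 (iv5 F439022)) (tt N77801 F395207) (tt N99710 (iv7 F425854)))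
theorem Q91980 : ∀ i, i < 91980 → P i := stepQ 91979 Q91979 (allL N91979 (tt N55553 (iv1 D194967)) (tt N91870 F395210) (tt N91869 (iv2 F395213)) (tt N79473 (iv3 F395212)) (tt N101143 F431907) (tt N114190 F488914) (tt N115428 (iv6 F495143)) (tt N87801 F395211))
theorem Q91981 : ∀ i, i < 91981 → P i := stepQ 91980 Q91980 (allL N91980 (tt N80739 F395217) (tt N67339 F395218) (tt N55559 F395214) (tt N82343 F395215) (tt N55558 (iv4 D194968)) (tt N82342 (iv5 F395219)) (tt N102177 (iv6 F436049)) (tt N80738 F395216))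
theorem Q91982 : ∀ i, i < 91982 → P i := stepQ 91981 Q91981 (allL N91981 (tt N88467 F395234) (tt N88470 (iv0 F395233)) (tt N102177 (iv2 F436047)) (tt N80420 F395231) (tt N55560 F395232) (tt N97488 (iv5 F417065)) (tt N55559 (iv6 D194969)) (tt N112857 (iv7 F482991)))
theorem Q91983 : ∀ i, i < 91983 → P i := stepQ 91982 Q91982 (allL N91982 (tt N86961 (iv1 F395238)) (tt N86958 F395239) (tt N102140 F435914) (tt N55564 F395235) (tt N112857 (iv4 F482992)) (tt N88298 F395236) (tt N91879 F395237) (tt N55560 (iv7 D194970)))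
theorem Q91984 : ∀ i, i < 91984 → P i := stepQ 91983 Q91983 (allL N91983 (tt N91881 (iv1 F395241)) (tt N55561 (iv0 D194971)) (tt N91880 (iv2 F395246)) (tt N103383 (iv3 F441382)) (tt N67389 F395240) (tt N87393 (iv5 F395244)) (tt N67388 (iv6 F395243)) (tt N87724 F395245))
theorem Q91985 : ∀ i, i < 91985 → P i := stepQ 91984 Q91984 (allL N91984 (tt N91880 (iv1 F395254)) (tt N87724 F395253) (tt N55561 (iv2 D194972)) (tt N91870 F395250) (tt N58845 F395251) (tt N108528 (iv5 F462956)) (tt N115411 (iv6 F495061)) (tt N91881 F395252))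
theorem Q91986 : ∀ i, i < 91986 → P i := stepQ 91985 Q91985 (allL N91985 (tt N111465 F476468) (tt N115778 (iv0 F496824)) (tt N115411 (iv2 F495059)) (tt N55562 F395255) (tt N80420 F395256) (tt N115848 (iv5 F497217)) (tt N55561 (iv6 D194973)) (tt N111053 (iv7 F474434)))
theorem Q91987 : ∀ i, i < 91987 → P i := stepQ 91986 Q91986 (allL N91986 (tt N114101 (iv1 F488563)) (tt N84589 (iv0 F395260)) (tt N91894 F395257) (tt N65146 F395258) (tt N105942 (iv4 F452438)) (tt N55565 (iv5 D194974)) (tt N107080 (iv6 F456885)) (tt N81151 F395259))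
theorem Q91988 : ∀ i, i < 91988 → P i := stepQ 91987 Q91987 (allL N91987 (tt N81154 (iv1 F395263)) (tt N81153 F395266) (tt N80538 F395261) (tt N55566 (iv3 D194975)) (tt N80557 (iv4 F395264)) (tt N117676 D220935) (tt N80541 (iv6 F395265)) (tt N81015 F395262))
theorem Q91989 : ∀ i, i < 91989 → P i := stepQ 91988 Q91988 (allL N91988 (tt N84589 F395270) (tt N114101 F488564) (tt N81151 F395267) (tt N117676 (iv3 F506362)) (tt N70707 F395269) (tt N55566 (iv5 D194976)) (tt N104740 (iv6 F447066)) (tt N91894 F395268))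
theorem Q91990 : ∀ i, i < 91990 → P i := stepQ 91989 Q91989 (allL N91989 (tt N100673 (iv1 F429953)) (tt N66696 (iv0 F395275)) (tt N78489 F395271) (tt N80541 F395272) (tt N70083 F395273) (tt N115942 (iv5 F497697)) (tt N55566 (iv6 D194977)) (tt N72095 F395274))
theorem Q91991 : ∀ i, i < 91991 → P i := stepQ 91990 Q91990 (allL N91990 (tt N91896 F395279) (tt N91895 F395280) (tt N55568 F395276) (tt N87438 F395277) (tt N105943 (iv4 F452444)) (tt N55567 (iv5 D194978)) (tt N113566 (iv6 F486061)) (tt N87436 F395278))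
theorem Q91992 : ∀ i, i < 91992 → P i := stepQ 91991 Q91991 (allL N91991 (tt N55568 (iv1 D194979)) (tt N87436 F395281) (tt N91895 (iv2 F395283)) (tt N112243 (iv3 F480198)) (tt N117677 D220936) (tt N100803 (iv5 F430546)) (tt N117678 D220937) (tt N91896 F395282))
theorem Q91993 : ∀ i, i < 91993 → P i := stepQ 91992 Q91992 (allL N91992 (tt N117679 D220938) (tt N117680 D220939) (tt N105943 (iv2 F452443)) (tt N87388 F395284) (tt N55568 (iv4 D194980)) (tt N70708 F395286) (tt N88967 (iv6 F395287)) (tt N91897 F395285))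
theorem Q91994 : ∀ i, i < 91994 → P i := stepQ 91993 Q91993 (allL N91993 (tt N116010 (iv1 F498030)) (tt N114833 (iv0 F492111)) (tt N113566 (iv2 F486059)) (tt N55570 F395288) (tt N88967 F395289) (tt N110916 (iv5 F473773)) (tt N55568 (iv6 D194981)) (tt N87389 F395290))
theorem Q91995 : ∀ i, i < 91995 → P i := stepQ 91994 Q91994 (allL N91994 (tt N81553 (iv1 F395293)) (tt N55569 (iv0 D194982)) (tt N91943 F395296) (tt N59883 F395292) (tt N79376 F395291) (tt N110909 (iv5 F473738)) (tt N59881 (iv6 F395294)) (tt N91942 F395295))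
theorem Q91996 : ∀ i, i < 91996 → P i := stepQ 91995 Q91995 (allL N91995 (tt N55569 (iv1 D194983)) (tt N81553 F395297) (tt N91942 (iv2 F395300)) (tt N106097 (iv3 F453095)) (tt N82372 F395299) (tt N101822 (iv5 F434515)) (tt N81627 (iv6 F395301)) (tt N91943 F395298))
theorem Q91997 : ∀ i, i < 91997 → P i := stepQ 91996 Q91996 (allL N91996 (tt N83599 F395307) (tt N83598 F395306) (tt N83600 F395302) (tt N110916 (iv3 F473771)) (tt N60169 F395303) (tt N55570 (iv5 D194984)) (tt N55571 F395304) (tt N83595 F395305))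
theorem Q91998 : ∀ i, i < 91998 → P i := stepQ 91997 Q91997 (allL N91997 (tt N108281 (iv1 F461860)) (tt N55572 (iv0 D194985)) (tt N108280 (iv2 F461851)) (tt N96792 F461853) (tt N117681 D220940) (tt N115699 (iv5 F496386)) (tt N91898 F461854) (tt N91835 (iv7 F461852)))
theorem Q91999 : ∀ i, i < 91999 → P i := stepQ 91998 Q91998 (allL N91998 (tt N103350 (iv1 F441229)) (tt N74232 (iv0 F413161)) (tt N65487 F395310) (tt N94742 (iv3 F405783)) (tt N55572 (iv4 D194986)) (tt N65484 (iv5 F395309)) (tt N94739 F405775) (tt N65482 F395308))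
theorem Q92000 : ∀ i, i < 92000 → P i := stepQ 91999 Q91999 (allL N91999 (tt N91926 F413160) (tt N115428 F495144) (tt N95142 (iv2 F407213)) (tt N55573 (iv3 D194987)) (tt N94742 (iv4 F405784)) (tt N78518 F395313) (tt N94740 F405776) (tt N113509 (iv7 F485837)))
theorem Q92001 : ∀ i, i < 92001 → P i := stepQ 92000 Q92000 (allL N92000 (tt N75397 (iv1 F395318)) (tt N71039 F395319) (tt N91563 F395314) (tt N95144 (iv3 F407219)) (tt N58624 F395315) (tt N85671 F395316) (tt N87454 F395317) (tt N55575 (iv7 D194988)))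
theorem Q92002 : ∀ i, i < 92002 → P i := stepQ 92001 Q92001 (allL N92001 (tt N55576 (iv1 D194989)) (tt N92527 F397249) (tt N117649 (iv2 F506210)) (tt N58371 (iv3 F395321)) (tt N60682 F395323) (tt N108645 (iv5 F463343)) (tt N91902 (iv6 F395322)) (tt N91299 F395320))
theorem Q92003 : ∀ i, i < 92003 → P i := stepQ 92002 Q92002 (allL N92002 (tt N91299 F395326) (tt N117649 (iv0 F506214)) (tt N55576 (iv2 D194990)) (tt N108281 (iv3 F461856)) (tt N67294 F395324) (tt N92528 (iv5 F397254)) (tt N60610 F395325) (tt N92527 (iv7 F397248)))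
theorem Q92004 : ∀ i, i < 92004 → P i := stepQ 92003 Q92003 (allL N92003 (tt N92526 (iv1 F397240)) (tt N92525 F397256) (tt N92528 (iv2 F397251)) (tt N55578 F395327) (tt N66530 (iv4 F395329)) (tt N55576 (iv5 D194991)) (tt N87127 (iv6 F395330)) (tt N59121 F395328))
theorem Q92005 : ∀ i, i < 92005 → P i := stepQ 92004 Q92004 (allL N92004 (tt N67388 F395331) (tt N87726 (iv0 F395332)) (tt N117631 F506097) (tt N55577 (iv3 D194992)) (tt N103381 (iv4 F441374)) (tt N93159 (iv5 F399721)) (tt N96907 (iv6 F414551)) (tt N113510 (iv7 F485844)))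
theorem Q92006 : ∀ i, i < 92006 → P i := stepQ 92005 Q92005 (allL N92005 (tt N115699 (iv1 F496389)) (tt N108636 (iv0 F463309)) (tt N115697 F496372) (tt N55580 (iv3 D194993)) (tt N104023 (iv4 F443826)) (tt N91186 F395336) (tt N108273 F461820) (tt N115698 (iv7 F496377)))
theorem Q92007 : ∀ i, i < 92007 → P i := stepQ 92006 Q92006 (allL N92006 (tt N93155 (iv1 F399701)) (tt N91851 (iv0 F395334)) (tt N93164 F399749) (tt N91186 (iv3 F395335)) (tt N111632 (iv4 F477227)) (tt N55580 (iv5 D194994)) (tt N91184 F395333) (tt N93163 F399744))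
theorem Q92008 : ∀ i, i < 92008 → P i := stepQ 92007 Q92007 (allL N92007 (tt N108489 F462807) (tt N115689 (iv0 F496330)) (tt N85697 F395337) (tt N108273 F461819) (tt N104022 (iv4 F443823)) (tt N85684 F395338) (tt N55580 (iv6 D194995)) (tt N85693 (iv7 F395339)))
theorem Q92009 : ∀ i, i < 92009 → P i := stepQ 92008 Q92008 (allL N92008 (tt N108490 F462812) (tt N108645 F463344) (tt N87491 (iv2 F395341)) (tt N55581 (iv3 D194996)) (tt N87488 F395340) (tt N103336 (iv5 F441189)) (tt N117682 D220941) (tt N108643 F463337))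
theorem Q92010 : ∀ i, i < 92010 → P i := stepQ 92009 Q92009 (allL N92009 (tt N91851 F395342) (tt N93155 (iv0 F399700)) (tt N93163 F399742) (tt N103336 (iv3 F441190)) (tt N81574 (iv4 F395344)) (tt N55581 (iv5 D194997)) (tt N81572 F395343) (tt N93164 (iv7 F399746)))
theorem Q92011 : ∀ i, i < 92011 → P i := stepQ 92010 Q92010 (allL N92010 (tt N115471 F495349) (tt N112439 (iv0 F481122)) (tt N115687 (iv2 F496321)) (tt N117682 (iv3 F506393)) (tt N95865 (iv4 F410011)) (tt N115708 (iv5 F496429)) (tt N55581 (iv6 D194998)) (tt N115686 F496315))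
theorem Q92012 : ∀ i, i < 92012 → P i := stepQ 92011 Q92011 (allL N92011 (tt N82772 F395349) (tt N112873 (iv0 F483081)) (tt N82750 F395345) (tt N84444 F395346) (tt N55584 (iv4 D194999)) (tt N103775 F442766) (tt N91908 F395347) (tt N91209 F395348))
theorem Q92013 : ∀ i, i < 92013 → P i := stepQ 92012 Q92012 (allL N92012 (tt N86668 (iv1 F395351)) (tt N55588 (iv0 D195000)) (tt N92931 (iv2 F398815)) (tt N86666 (iv3 F399008)) (tt N104352 (iv4 F445383)) (tt N87151 F395350) (tt N111247 (iv6 F475417)) (tt N92932 (iv7 F398816)))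
theorem Q92014 : ∀ i, i < 92014 → P i := stepQ 92013 Q92013 (allL N92013 (tt N55588 (iv1 D195001)) (tt N86668 F395352) (tt N92932 F398810) (tt N100299 (iv3 F428323)) (tt N104353 (iv4 F445390)) (tt N87152 (iv5 F395353)) (tt N98158 (iv6 F419768)) (tt N92931 F398814))
theorem Q92015 : ∀ i, i < 92015 → P i := stepQ 92014 Q92014 (allL N92014 (tt N111817 F478138) (tt N102884 (iv0 F439095)) (tt N60471 F395360) (tt N55591 (iv3 D195002)) (tt N79306 F395361) (tt N68734 F395362) (tt N83779 F395363) (tt N82385 F395364))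
theorem Q92016 : ∀ i, i < 92016 → P i := stepQ 92015 Q92015 (allL N92015 (tt N65900 (iv1 F395369)) (tt N55596 (iv0 D195003)) (tt N66048 (iv2 F395366)) (tt N60604 (iv3 F395368)) (tt N102368 (iv4 F436938)) (tt N60603 F395365) (tt N117683 D220942) (tt N66050 F395367))
theorem Q92017 : ∀ i, i < 92017 → P i := stepQ 92016 Q92016 (allL N92016 (tt N66050 (iv1 F395374)) (tt N66048 F395375) (tt N65900 F395370) (tt N55746 F395371) (tt N65999 F395372) (tt N55597 F395373) (tt N104347 (iv6 F445353)) (tt N55596 (iv7 D195004)))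
theorem Q92018 : ∀ i, i < 92018 → P i := stepQ 92017 Q92017 (allL N92017 (tt N82780 (iv1 F395378)) (tt N55601 (iv0 D195005)) (tt N82779 F395388) (tt N93208 (iv3 F399972)) (tt N67210 F395376) (tt N87826 F395377) (tt N67208 (iv6 F395381)) (tt N82778 (iv7 F395380)))
theorem Q92019 : ∀ i, i < 92019 → P i := stepQ 92018 Q92018 (allL N92018 (tt N55601 (iv1 D195006)) (tt N82780 (iv0 F395386)) (tt N82778 (iv2 F395383)) (tt N67494 (iv3 F395384)) (tt N102369 (iv4 F436943)) (tt N67461 F395382) (tt N67464 (iv6 F395385)) (tt N82779 (iv7 F395387)))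
theorem Q92020 : ∀ i, i < 92020 → P i := stepQ 92019 Q92019 (allL N92019 (tt N82779 (iv1 F395394)) (tt N82778 F395393) (tt N55601 (iv2 D195007)) (tt N78401 F395390) (tt N113053 (iv4 F483749)) (tt N78396 F395391) (tt N88681 (iv6 F395395)) (tt N82780 F395392))
theorem Q92021 : ∀ i, i < 92021 → P i := stepQ 92020 Q92020 (allL N92020 (tt N111683 (iv1 F477466)) (tt N93066 F417354) (tt N88681 F395396) (tt N55602 F395397) (tt N103445 (iv4 F441672)) (tt N60495 F395398) (tt N55601 (iv6 D195008)) (tt N102375 (iv7 F436970)))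
theorem Q92022 : ∀ i, i < 92022 → P i := stepQ 92021 Q92021 (allL N92021 (tt N78408 F395410) (tt N55602 (iv0 D195009)) (tt N78407 F395408) (tt N67991 (iv3 F395404)) (tt N72100 F395399) (tt N111675 (iv5 F477424)) (tt N72098 (iv6 F395403)) (tt N67984 (iv7 F395405)))
theorem Q92023 : ∀ i, i < 92023 → P i := stepQ 92022 Q92022 (allL N92022 (tt N55602 (iv1 D195010)) (tt N78408 F395411) (tt N67984 F395415) (tt N102391 (iv3 F437026)) (tt N83001 (iv4 F395413)) (tt N111680 (iv5 F477447)) (tt N67982 (iv6 F395414)) (tt N78407 F395412))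
theorem Q92024 : ∀ i, i < 92024 → P i := stepQ 92023 Q92023 (allL N92023 (tt N67984 (iv1 F395419)) (tt N78407 F395420) (tt N78408 F395416) (tt N102375 (iv3 F436968)) (tt N55605 F395417) (tt N107751 (iv5 F459557)) (tt N82785 F395418) (tt N55602 (iv7 D195011)))
theorem Q92025 : ∀ i, i < 92025 → P i := stepQ 92024 Q92024 (allL N92024 (tt N105071 (iv1 F448650)) (tt N105070 F448658) (tt N105073 (iv2 F448654)) (tt N55603 (iv3 D195012)) (tt N117684 D220943) (tt N117685 D220944) (tt N105215 (iv6 F449237)) (tt N105069 F448648))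
theorem Q92026 : ∀ i, i < 92026 → P i := stepQ 92025 Q92025 (allL N92025 (tt N103251 (iv1 F440794)) (tt N80423 (iv0 F418137)) (tt N103253 (iv2 F440802)) (tt N97572 (iv3 F417417)) (tt N55603 (iv4 D195013)) (tt N102249 F436363) (tt N97509 F417169) (tt N103248 (iv7 F440779)))
theorem Q92027 : ∀ i, i < 92027 → P i := stepQ 92026 Q92026 (allL N92026 (tt N105179 (iv1 F449123)) (tt N105178 F449122) (tt N105181 (iv2 F449124)) (tt N117685 (iv3 F506409)) (tt N90257 F395421) (tt N55603 (iv5 D195014)) (tt N90259 F395422) (tt N105172 (iv7 F449104)))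
theorem Q92028 : ∀ i, i < 92028 → P i := stepQ 92027 Q92027 (allL N92027 (tt N83299 F395426) (tt N94914 F406313) (tt N91690 F395423) (tt N105215 (iv3 F449236)) (tt N97509 (iv4 F417164)) (tt N89327 F395425) (tt N55603 (iv6 D195015)) (tt N91686 F395424))
theorem Q92029 : ∀ i, i < 92029 → P i := stepQ 92028 Q92028 (allL N92028 (tt N105177 F449119) (tt N55604 (iv0 D195016)) (tt N76873 (iv2 F395428)) (tt N117686 D220945) (tt N82677 F395429) (tt N101215 (iv5 F432238)) (tt N76868 F395427) (tt N82674 F395430))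
theorem Q92030 : ∀ i, i < 92030 → P i := stepQ 92029 Q92029 (allL N92029 (tt N82674 (iv1 F395434)) (tt N76873 F395435) (tt N105177 (iv2 F449116)) (tt N91803 F395431) (tt N112900 (iv4 F483202)) (tt N55605 F395432) (tt N86387 F395433) (tt N55604 (iv7 D195017)))
theorem Q92031 : ∀ i, i < 92031 → P i := stepQ 92030 Q92030 (allL N92030 (tt N113816 (iv1 F487258)) (tt N116141 (iv0 F498704)) (tt N116270 (iv2 F499294)) (tt N55606 (iv3 D195018)) (tt N91800 F395436) (tt N90885 F395437) (tt N113013 (iv6 F483553)) (tt N86388 F395438))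
theorem Q92032 : ∀ i, i < 92032 → P i := stepQ 92031 Q92031 (allL N92031 (tt N70766 F395442) (tt N68371 (iv0 F395443)) (tt N92973 (iv2 F398978)) (tt N91045 F395439) (tt N55607 (iv4 D195019)) (tt N91044 F395441) (tt N101049 (iv6 F431446)) (tt N69564 F395440))
theorem Q92033 : ∀ i, i < 92033 → P i := stepQ 92032 Q92032 (allL N92032 (tt N78924 (iv1 F395453)) (tt N55608 (iv0 D195020)) (tt N86709 F395456) (tt N99749 (iv3 F426046)) (tt N86591 F395458) (tt N92841 F398462) (tt N92981 F411625) (tt N86710 F395455))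
theorem Q92034 : ∀ i, i < 92034 → P i := stepQ 92033 Q92033 (allL N92033 (tt N55608 (iv1 D195021)) (tt N78924 F395444) (tt N86710 F395446) (tt N109384 (iv3 F466688)) (tt N86592 (iv4 F395448)) (tt N59265 (iv5 F395445)) (tt N109382 (iv6 F466677)) (tt N86709 (iv7 F395457)))
theorem Q92035 : ∀ i, i < 92035 → P i := stepQ 92034 Q92034 (allL N92034 (tt N86710 (iv1 F395454)) (tt N86709 F395459) (tt N78924 F395449) (tt N79899 F395450) (tt N115163 (iv4 F493803)) (tt N61027 F395451) (tt N86726 F395452) (tt N55608 (iv7 D195022)))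
theorem Q92036 : ∀ i, i < 92036 → P i := stepQ 92035 Q92035 (allL N92035 (tt N55682 F395464) (tt N60328 (iv0 F395465)) (tt N60420 F395460) (tt N58529 F395461) (tt N101992 (iv4 F435261)) (tt N58527 F395462) (tt N55610 (iv6 D195023)) (tt N55643 F395463))
theorem Q92037 : ∀ i, i < 92037 → P i := stepQ 92036 Q92036 (allL N92036 (tt N67393 F395470) (tt N97651 (iv0 F417780)) (tt N56221 (iv2 F395468)) (tt N55612 (iv3 D195025)) (tt N56219 F395467) (tt N65560 F395476) (tt N65563 F395477) (tt N56226 (iv7 F395469)))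
theorem Q92038 : ∀ i, i < 92038 → P i := stepQ 92037 Q92037 (allL N92037 (tt N95140 (iv1 F407209)) (tt N96854 (iv0 F414271)) (tt N87717 F395478) (tt N96866 F414350) (tt N55612 (iv4 D195026)) (tt N61116 F395480) (tt N71602 (iv6 F395481)) (tt N87716 F395479))
theorem Q92039 : ∀ i, i < 92039 → P i := stepQ 92038 Q92038 (allL N92038 (tt N102121 (iv1 F435841)) (tt N65569 (iv0 F413739)) (tt N102114 (iv2 F435797)) (tt N65560 F395482) (tt N104421 (iv4 F445681)) (tt N55612 (iv5 D195027)) (tt N65558 (iv6 F395483)) (tt N102111 (iv7 F435783)))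
theorem Q92040 : ∀ i, i < 92040 → P i := stepQ 92039 Q92039 (allL N92039 (tt N93913 F402414) (tt N96893 (iv0 F414478)) (tt N99712 F425864) (tt N65563 F395485) (tt N71602 F395486) (tt N65559 F395487) (tt N55612 (iv6 D195028)) (tt N97609 (iv7 F417585)))
theorem Q92041 : ∀ i, i < 92041 → P i := stepQ 92040 Q92040 (allL N92040 (tt N96854 F414273) (tt N95140 (iv0 F407208)) (tt N87716 F395488) (tt N58635 F395491) (tt N55613 (iv4 D195030)) (tt N87708 F395490) (tt N115778 (iv6 F496821)) (tt N87717 F395489))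
theorem Q92042 : ∀ i, i < 92042 → P i := stepQ 92041 Q92041 (allL N92041 (tt N65569 F395492) (tt N102121 F435842) (tt N102111 (iv2 F435781)) (tt N115779 (iv3 F496826)) (tt N104422 (iv4 F445683)) (tt N55613 (iv5 D195031)) (tt N60674 (iv6 F395493)) (tt N102114 (iv7 F435799)))
theorem Q92043 : ∀ i, i < 92043 → P i := stepQ 92042 Q92042 (allL N92042 (tt N68668 (iv1 F395499)) (tt N68670 (iv0 F395498)) (tt N102105 (iv2 F435746)) (tt N55616 F395496) (tt N102073 (iv4 F435602)) (tt N55674 F395497) (tt N55615 (iv6 D195034)) (tt N102227 (iv7 F436274)))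
theorem Q92044 : ∀ i, i < 92044 → P i := stepQ 92043 Q92043 (allL N92043 (tt N60438 (iv1 F395507)) (tt N55616 (iv0 D195035)) (tt N60436 F395517) (tt N102206 (iv3 F436179)) (tt N65815 (iv4 F395516)) (tt N68660 (iv5 F395515)) (tt N117687 D220946) (tt N60437 F395514))
theorem Q92045 : ∀ i, i < 92045 → P i := stepQ 92044 Q92044 (allL N92044 (tt N55616 (iv1 D195036)) (tt N60438 F395501) (tt N60437 F395503) (tt N117688 D220947) (tt N65816 (iv4 F395504)) (tt N68661 (iv5 F395502)) (tt N117689 D220948) (tt N60436 (iv7 F395519)))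
theorem Q92046 : ∀ i, i < 92046 → P i := stepQ 92045 Q92045 (allL N92045 (tt N60437 (iv1 F395508)) (tt N60436 F395520) (tt N60438 F395505) (tt N102227 F436276) (tt N102071 (iv4 F435594)) (tt N55678 F395506) (tt N102071 (iv6 F435596)) (tt N55616 (iv7 D195037)))
theorem Q92047 : ∀ i, i < 92047 → P i := stepQ 92046 Q92046 (allL N92046 (tt N92113 F395802) (tt N59673 (iv0 F395527)) (tt N95287 (iv2 F407734)) (tt N57961 F395523) (tt N64259 F395524) (tt N60368 F395525) (tt N55620 (iv6 D195038)) (tt N60368 F395526))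
theorem Q92048 : ∀ i, i < 92048 → P i := stepQ 92047 Q92047 (allL N92047 (tt N88771 F395532) (tt N93972 F402669) (tt N80749 F395528) (tt N55623 (iv3 D195039)) (tt N64343 (iv4 F395530)) (tt N97633 (iv5 F417700)) (tt N64342 F395531) (tt N60485 F395529))
theorem Q92049 : ∀ i, i < 92049 → P i := stepQ 92048 Q92048 (allL N92048 (tt N96975 (iv1 F414881)) (tt N109598 F467658) (tt N60482 F395533) (tt N58853 F395535) (tt N55623 (iv4 D195040)) (tt N100595 (iv5 F429617)) (tt N80177 (iv6 F395536)) (tt N60486 F395534))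
theorem Q92050 : ∀ i, i < 92050 → P i := stepQ 92049 Q92049 (allL N92049 (tt N60410 F395545) (tt N75453 (iv0 F395543)) (tt N60484 F395537) (tt N64342 F395538) (tt N80177 F395539) (tt N111015 (iv5 F474264)) (tt N55623 (iv6 D195041)) (tt N80191 F395540))
theorem Q92051 : ∀ i, i < 92051 → P i := stepQ 92050 Q92050 (allL N92050 (tt N100671 (iv1 F429947)) (tt N55625 (iv0 D195042)) (tt N68799 (iv2 F395548)) (tt N86943 F395549) (tt N80082 F395550) (tt N68788 F395547) (tt N80286 F395551) (tt N104795 (iv7 F447313)))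
theorem Q92052 : ∀ i, i < 92052 → P i := stepQ 92051 Q92051 (allL N92051 (tt N102884 (iv1 F439096)) (tt N111817 (iv0 F478137)) (tt N82385 F395552) (tt N55629 (iv3 D195043)) (tt N58468 F395553) (tt N68741 F395554) (tt N103261 (iv6 F440850)) (tt N60471 F395555))
theorem Q92053 : ∀ i, i < 92053 → P i := stepQ 92052 Q92052 (allL N92052 (tt N65832 F395558) (tt N65826 (iv0 F395559)) (tt N60474 F395556) (tt N103261 (iv3 F440849)) (tt N55630 F395557) (tt N97748 (iv5 F418143)) (tt N55629 (iv6 D195044)) (tt N96779 (iv7 F413893)))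
theorem Q92054 : ∀ i, i < 92054 → P i := stepQ 92053 Q92053 (allL N92053 (tt N93975 F412426) (tt N115414 (iv0 F495076)) (tt N87453 (iv2 F395564)) (tt N55631 (iv3 D195045)) (tt N71724 F395563) (tt N87915 F395560) (tt N87906 F395561) (tt N60450 F395562))
theorem Q92055 : ∀ i, i < 92055 → P i := stepQ 92054 Q92054 (allL N92054 (tt N107898 (iv1 F460177)) (tt N96414 (iv0 F412425)) (tt N60455 F395565) (tt N116028 (iv3 F498126)) (tt N55631 (iv4 D195046)) (tt N109354 (iv5 F466537)) (tt N87907 F395566) (tt N60451 F395567))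
theorem Q92056 : ∀ i, i < 92056 → P i := stepQ 92055 Q92055 (allL N92055 (tt N96414 (iv1 F412427)) (tt N107898 F460178) (tt N60451 F395568) (tt N95923 (iv3 F410279)) (tt N55632 (iv4 D195047)) (tt N110455 (iv5 F471668)) (tt N117690 D220949) (tt N60455 F395569))
theorem Q92057 : ∀ i, i < 92057 → P i := stepQ 92056 Q92056 (allL N92056 (tt N93619 F401300) (tt N81791 (iv0 F395574)) (tt N60453 F395570) (tt N67475 F395571) (tt N117690 (iv4 F506437)) (tt N67472 F395572) (tt N55632 (iv6 D195048)) (tt N108957 (iv7 F464658)))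
theorem Q92058 : ∀ i, i < 92058 → P i := stepQ 92057 Q92057 (allL N92057 (tt N112534 F481551) (tt N102086 (iv0 F435657)) (tt N55634 F395575) (tt N60490 F395576) (tt N96315 (iv4 F411983)) (tt N104276 (iv5 F445069)) (tt N55633 (iv6 D195049)) (tt N117691 D220950))
theorem Q92059 : ∀ i, i < 92059 → P i := stepQ 92058 Q92058 (allL N92058 (tt N117691 (iv1 F506447)) (tt N55634 (iv0 D195050)) (tt N112534 (iv2 F481545)) (tt N67342 F395577) (tt N101507 F433878) (tt N67341 (iv5 F395578)) (tt N102120 (iv6 F435836)) (tt N102086 F435659))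
theorem Q92060 : ∀ i, i < 92060 → P i := stepQ 92059 Q92059 (allL N92059 (tt N55634 (iv1 D195051)) (tt N117691 F506446) (tt N102086 (iv2 F435654)) (tt N87711 (iv3 F395579)) (tt N101508 F433196) (tt N92751 F418938) (tt N57953 (iv6 F405937)) (tt N112534 (iv7 F481548)))
theorem Q92061 : ∀ i, i < 92061 → P i := stepQ 92060 Q92060 (allL N92060 (tt N104278 F445080) (tt N104275 (iv0 F445068)) (tt N104276 F445070) (tt N55635 F395580) (tt N115343 (iv4 F494693)) (tt N55634 (iv5 D195052)) (tt N102381 (iv6 F436993)) (tt N104277 (iv7 F445072)))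
theorem Q92062 : ∀ i, i < 92062 → P i := stepQ 92061 Q92061 (allL N92061 (tt N102086 (iv1 F435658)) (tt N112534 (iv0 F481550)) (tt N117691 (iv2 F506442)) (tt N55636 F395581) (tt N94615 F405220) (tt N104277 F445074) (tt N60465 F395582) (tt N55634 (iv7 D195053)))
theorem Q92063 : ∀ i, i < 92063 → P i := stepQ 92062 Q92062 (allL N92062 (tt N60509 (iv1 F395587)) (tt N55635 (iv0 D195054)) (tt N60506 F395588) (tt N81743 (iv3 F395584)) (tt N97850 (iv4 F418503)) (tt N65691 F395583) (tt N66626 (iv6 F395585)) (tt N60507 (iv7 F395586)))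
theorem Q92064 : ∀ i, i < 92064 → P i := stepQ 92063 Q92063 (allL N92063 (tt N55635 (iv1 D195055)) (tt N60509 F395592) (tt N60507 F395595) (tt N66630 (iv3 F395596)) (tt N97851 (iv4 F418508)) (tt N60571 (iv5 F395594)) (tt N93003 (iv6 F399096)) (tt N60506 F395593))
theorem Q92065 : ∀ i, i < 92065 → P i := stepQ 92064 Q92064 (allL N92064 (tt N102904 (iv1 F439200)) (tt N102906 (iv0 F439212)) (tt N60508 F395597) (tt N117692 D220951) (tt N55635 (iv4 D195056)) (tt N117693 D220952) (tt N102383 (iv6 F436999)) (tt N117694 D220953))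
theorem Q92066 : ∀ i, i < 92066 → P i := stepQ 92065 Q92065 (allL N92065 (tt N60507 (iv1 F395600)) (tt N60506 F395601) (tt N60509 F395598) (tt N104277 F445073) (tt N117694 (iv4 F506458)) (tt N55636 F395599) (tt N103475 F441789) (tt N55635 (iv7 D195057)))
theorem Q92067 : ∀ i, i < 92067 → P i := stepQ 92066 Q92066 (allL N92066 (tt N100530 F429351) (tt N109304 F466298) (tt N94174 (iv2 F403546)) (tt N102333 (iv3 F436774)) (tt N77795 F395602) (tt N117695 D220954) (tt N55637 (iv6 D195058)) (tt N109303 (iv7 F466288)))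
theorem Q92068 : ∀ i, i < 92068 → P i := stepQ 92067 Q92067 (allL N92067 (tt N58778 F395604) (tt N97081 F415383) (tt N94175 (iv2 F403549)) (tt N79560 F395603) (tt N111609 (iv4 F477144)) (tt N55638 (iv5 D195059)) (tt N117695 (iv6 F506465)) (tt N97080 (iv7 F415377)))
theorem Q92069 : ∀ i, i < 92069 → P i := stepQ 92068 Q92068 (allL N92068 (tt N66539 F395607) (tt N94452 F404526) (tt N60542 F395605) (tt N91965 (iv3 F395608)) (tt N55641 (iv4 D195060)) (tt N91964 F395609) (tt N105867 (iv6 F452084)) (tt N60547 F395606))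
theorem Q92070 : ∀ i, i < 92070 → P i := stepQ 92069 Q92069 (allL N92069 (tt N55666 F395689) (tt N111866 (iv0 F478393)) (tt N102106 (iv2 F435751)) (tt N55642 (iv3 D195061)) (tt N58608 F395613) (tt N117696 D220955) (tt N101981 (iv6 F435209)) (tt N60540 F395614))
theorem Q92071 : ∀ i, i < 92071 → P i := stepQ 92070 Q92070 (allL N92070 (tt N57249 F395617) (tt N67280 F395618) (tt N60545 F395615) (tt N117696 (iv3 F506471)) (tt N97608 (iv4 F417580)) (tt N55642 (iv5 D195062)) (tt N67302 F395619) (tt N60541 F395616))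
theorem Q92072 : ∀ i, i < 92072 → P i := stepQ 92071 Q92071 (allL N92071 (tt N97134 (iv1 F415618)) (tt N60681 (iv0 F395622)) (tt N60546 F395620) (tt N101981 (iv3 F435204)) (tt N55643 F395621) (tt N101980 (iv5 F435202)) (tt N55642 (iv6 D195063)) (tt N101992 (iv7 F435263)))
theorem Q92073 : ∀ i, i < 92073 → P i := stepQ 92072 Q92072 (allL N92072 (tt N60684 F395626) (tt N94117 (iv0 F403288)) (tt N60576 F395623) (tt N112392 (iv3 F480892)) (tt N55645 F395624) (tt N60770 F395625) (tt N55644 (iv6 D195064)) (tt N96895 (iv7 F414488)))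
theorem Q92074 : ∀ i, i < 92074 → P i := stepQ 92073 Q92073 (allL N92073 (tt N102142 (iv1 F435921)) (tt N60682 (iv0 F395630)) (tt N60605 F395627) (tt N67413 F395628) (tt N102960 (iv4 F439453)) (tt N74665 F395629) (tt N55648 (iv6 D195065)) (tt N101983 (iv7 F435217)))
theorem Q92075 : ∀ i, i < 92075 → P i := stepQ 92074 Q92074 (allL N92074 (tt N66039 (iv1 F395635)) (tt N55651 (iv0 D195066)) (tt N74651 (iv2 F395634)) (tt N79572 F395632) (tt N109308 (iv4 F466315)) (tt N56975 F395631) (tt N78399 F395633) (tt N74653 F395636))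
theorem Q92076 : ∀ i, i < 92076 → P i := stepQ 92075 Q92075 (allL N92075 (tt N60588 F395641) (tt N60587 F395640) (tt N55657 F395637) (tt N60607 F395638) (tt N67628 F395643) (tt N55656 (iv5 D195067)) (tt N67627 (iv6 F395642)) (tt N60586 F395639))
theorem Q92077 : ∀ i, i < 92077 → P i := stepQ 92076 Q92076 (allL N92076 (tt N112003 (iv1 F479034)) (tt N102119 (iv0 F435831)) (tt N55658 F395644) (tt N60608 F395645) (tt N58272 F395646) (tt N88328 F395647) (tt N55656 (iv6 D195068)) (tt N111860 (iv7 F478355)))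
theorem Q92078 : ∀ i, i < 92078 → P i := stepQ 92077 Q92077 (allL N92077 (tt N73419 F395654) (tt N117697 D220956) (tt N67628 F395649) (tt N55705 F395650) (tt N55657 (iv4 D195069)) (tt N71605 F395652) (tt N67626 (iv6 F395653)) (tt N60589 F395651))
theorem Q92079 : ∀ i, i < 92079 → P i := stepQ 92078 Q92078 (allL N92078 (tt N68955 F395659) (tt N68958 F395660) (tt N67627 F395655) (tt N55659 F395656) (tt N67626 F395657) (tt N104376 (iv5 F445488)) (tt N55657 (iv6 D195070)) (tt N68656 F395658))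
theorem Q92080 : ∀ i, i < 92080 → P i := stepQ 92079 Q92079 (allL N92079 (tt N111860 F478358) (tt N55658 (iv0 D195071)) (tt N112003 (iv2 F479029)) (tt N79731 (iv3 F430661)) (tt N100827 (iv4 F430660)) (tt N102065 F435575) (tt N117698 D220957) (tt N102119 F435833))
theorem Q92081 : ∀ i, i < 92081 → P i := stepQ 92080 Q92080 (allL N92080 (tt N55658 (iv1 D195072)) (tt N111860 F478357) (tt N102119 (iv2 F435828)) (tt N97615 F418240) (tt N100826 (iv4 F430655)) (tt N102066 F435576) (tt N97598 (iv6 F418239)) (tt N112003 (iv7 F479032)))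
theorem Q92082 : ∀ i, i < 92082 → P i := stepQ 92081 Q92081 (allL N92081 (tt N93078 (iv1 F399384)) (tt N88229 (iv0 F395666)) (tt N88328 F395661) (tt N55660 F395662) (tt N87772 F395664) (tt N55658 (iv5 D195073)) (tt N104376 (iv6 F445489)) (tt N87769 F395663))
theorem Q92083 : ∀ i, i < 92083 → P i := stepQ 92082 Q92082 (allL N92082 (tt N67382 F395671) (tt N67198 F395672) (tt N55675 F395667) (tt N60623 F395668) (tt N96789 (iv4 F413953)) (tt N67234 F395669) (tt N55662 (iv6 D195074)) (tt N67387 F395670))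
theorem Q92084 : ∀ i, i < 92084 → P i := stepQ 92083 Q92083 (allL N92083 (tt N66047 (iv1 F416552)) (tt N60600 F416553) (tt N101996 (iv2 F435282)) (tt N55663 (iv3 D195075)) (tt N97629 (iv4 F417677)) (tt N93679 (iv5 F401537)) (tt N79571 (iv6 F395675)) (tt N55668 F395674))
theorem Q92085 : ∀ i, i < 92085 → P i := stepQ 92084 Q92084 (allL N92084 (tt N96907 F414555) (tt N97583 (iv0 F417465)) (tt N55665 F395676) (tt N58571 F395678) (tt N55663 (iv4 D195076)) (tt N92891 (iv5 F398667)) (tt N112147 (iv6 F479740)) (tt N55669 F395677))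
theorem Q92086 : ∀ i, i < 92086 → P i := stepQ 92085 Q92085 (allL N92085 (tt N60540 F435757) (tt N102106 (iv0 F435755)) (tt N55666 F395679) (tt N79571 F395680) (tt N112147 (iv4 F479738)) (tt N117699 D220958) (tt N55663 (iv6 D195077)) (tt N111866 (iv7 F478392)))
theorem Q92087 : ∀ i, i < 92087 → P i := stepQ 92086 Q92086 (allL N92086 (tt N55664 (iv1 D195078)) (tt N101999 F435301) (tt N60583 F395683) (tt N60639 (iv3 F395682)) (tt N65662 F395684) (tt N117700 D220959) (tt N97651 (iv6 F417778)) (tt N67395 F395681))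
theorem Q92088 : ∀ i, i < 92088 → P i := stepQ 92087 Q92087 (allL N92087 (tt N102343 (iv1 F436822)) (tt N60538 (iv0 F395688)) (tt N101998 (iv2 F435291)) (tt N55666 F395686) (tt N60597 F395687) (tt N102185 (iv5 F436082)) (tt N55664 (iv6 D195079)) (tt N102342 (iv7 F436812)))
theorem Q92089 : ∀ i, i < 92089 → P i := stepQ 92088 Q92088 (allL N92088 (tt N55669 (iv1 F395693)) (tt N55665 (iv0 D195080)) (tt N96907 (iv2 F414549)) (tt N59567 (iv3 F395692)) (tt N65967 F395691) (tt N67138 F395690) (tt N117631 (iv6 F506096)) (tt N97583 (iv7 F417464)))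
theorem Q92090 : ∀ i, i < 92090 → P i := stepQ 92089 Q92089 (allL N92089 (tt N55665 (iv1 D195081)) (tt N55669 F395694) (tt N97583 (iv2 F417461)) (tt N58555 (iv3 F395696)) (tt N65980 F395695) (tt N93673 (iv5 F401517)) (tt N96854 (iv6 F414269)) (tt N96907 (iv7 F414552)))
theorem Q92091 : ∀ i, i < 92091 → P i := stepQ 92090 Q92090 (allL N92090 (tt N58573 F395698) (tt N65703 F395699) (tt N96914 (iv2 F414584)) (tt N55665 (iv3 D195082)) (tt N101993 (iv4 F435266)) (tt N62669 F395697) (tt N81023 (iv6 F395702)) (tt N68090 F395700))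
theorem Q92092 : ∀ i, i < 92092 → P i := stepQ 92091 Q92091 (allL N92091 (tt N112078 F479392) (tt N81027 (iv0 F436897)) (tt N112147 F479741) (tt N81023 F395703) (tt N55666 F395704) (tt N115417 (iv5 F495091)) (tt N55665 (iv6 D195083)) (tt N112148 (iv7 F479743)))
theorem Q92093 : ∀ i, i < 92093 → P i := stepQ 92092 Q92092 (allL N92092 (tt N97583 (iv1 F417466)) (tt N96907 (iv0 F414554)) (tt N55669 F395705) (tt N68090 F395706) (tt N55667 F395707) (tt N68088 F395708) (tt N88469 (iv6 F395709)) (tt N55665 (iv7 D195084)))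
theorem Q92094 : ∀ i, i < 92094 → P i := stepQ 92093 Q92093 (allL N92093 (tt N111866 F478394) (tt N55666 (iv0 D195085)) (tt N60540 (iv2 F395710)) (tt N60637 F395711) (tt N106106 (iv4 F453136)) (tt N117701 D220960) (tt N78400 F395712) (tt N102106 (iv7 F435754)))
theorem Q92095 : ∀ i, i < 92095 → P i := stepQ 92094 Q92094 (allL N92094 (tt N112504 F481402) (tt N112489 (iv0 F481321)) (tt N117699 (iv2 F506489)) (tt N102185 F436084) (tt N91904 (iv4 F395714)) (tt N55666 (iv5 D195086)) (tt N67347 F395713) (tt N117702 D220961))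
theorem Q92096 : ∀ i, i < 92096 → P i := stepQ 92095 Q92095 (allL N92095 (tt N102106 (iv1 F435756)) (tt N60540 F435758) (tt N111866 (iv2 F478389)) (tt N102342 F436816) (tt N112148 (iv4 F479744)) (tt N117702 (iv5 F506511)) (tt N104424 (iv6 F445693)) (tt N55666 (iv7 D195087)))
theorem Q92097 : ∀ i, i < 92097 → P i := stepQ 92096 Q92096 (allL N92096 (tt N86676 (iv1 F395719)) (tt N60577 (iv0 F395718)) (tt N55670 F395715) (tt N93088 (iv3 F399428)) (tt N88469 F395716) (tt N68629 F395717) (tt N55667 (iv6 D195088)) (tt N104424 (iv7 F445690)))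
theorem Q92098 : ∀ i, i < 92098 → P i := stepQ 92097 Q92097 (allL N92097 (tt N101996 F435284) (tt N55668 (iv0 D195089)) (tt N60600 (iv2 F395722)) (tt N59938 F395721) (tt N59939 F395720) (tt N92765 F398129) (tt N95668 (iv6 F409056)) (tt N66047 F395723))
theorem Q92099 : ∀ i, i < 92099 → P i := stepQ 92098 Q92098 (allL N92098 (tt N93664 (iv1 F401485)) (tt N93663 F401484) (tt N68088 F395724) (tt N95382 (iv3 F408067)) (tt N92892 (iv4 F398671)) (tt N55669 (iv5 D195090)) (tt N68086 F395725) (tt N92891 F398669))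
theorem Q92100 : ∀ i, i < 92100 → P i := stepQ 92099 Q92099 (allL N92099 (tt N92752 (iv1 F398073)) (tt N67345 (iv0 F395730)) (tt N55674 F395726) (tt N60649 F395727) (tt N56007 F395728) (tt N102105 (iv5 F435748)) (tt N55671 (iv6 D195091)) (tt N67506 F395729))
theorem Q92101 : ∀ i, i < 92101 → P i := stepQ 92100 Q92100 (allL N92100 (tt N102890 F439135) (tt N117700 (iv0 F506499)) (tt N117703 D220962) (tt N55672 (iv3 D195092)) (tt N92613 F397650) (tt N102025 (iv5 F435409)) (tt N67365 F395731) (tt N60936 F395732))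
theorem Q92102 : ∀ i, i < 92102 → P i := stepQ 92101 Q92101 (allL N92101 (tt N92765 F398130) (tt N102924 F439289) (tt N117704 D220963) (tt N55673 (iv3 D195093)) (tt N105324 (iv4 F449716)) (tt N102885 (iv5 F439098)) (tt N93040 (iv6 F399240)) (tt N60937 F395733))
theorem Q92103 : ∀ i, i < 92103 → P i := stepQ 92102 Q92102 (allL N92102 (tt N55674 (iv1 D195094)) (tt N67506 F395734) (tt N67345 (iv2 F395736)) (tt N60878 (iv3 F395737)) (tt N60880 F395735) (tt N93027 (iv5 F399161)) (tt N67182 (iv6 F395738)) (tt N92752 (iv7 F398069)))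
theorem Q92104 : ∀ i, i < 92104 → P i := stepQ 92103 Q92103 (allL N92103 (tt N55675 (iv1 D195095)) (tt N67387 F395739) (tt N67198 F395743) (tt N67411 (iv3 F395741)) (tt N87726 (iv4 F395742)) (tt N67197 (iv5 F395745)) (tt N87725 F395744) (tt N67382 F395740))
theorem Q92105 : ∀ i, i < 92105 → P i := stepQ 92104 Q92104 (allL N92104 (tt N56698 (iv1 F400026)) (tt N67236 F400025) (tt N67234 F395748) (tt N55679 F395749) (tt N104449 (iv4 F445810)) (tt N55675 (iv5 D195096)) (tt N60940 F395750) (tt N67235 (iv7 F395751)))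
theorem Q92106 : ∀ i, i < 92106 → P i := stepQ 92105 Q92105 (allL N92105 (tt N92729 F398003) (tt N102208 (iv0 F436195)) (tt N117705 D220964) (tt N55676 (iv3 D195098)) (tt N117706 D220965) (tt N102164 (iv5 F435995)) (tt N103458 (iv6 F441723)) (tt N60676 (iv7 F395768)))
theorem Q92107 : ∀ i, i < 92107 → P i := stepQ 92106 Q92106 (allL N92106 (tt N104314 (iv1 F445198)) (tt N102147 (iv0 F435939)) (tt N60674 (iv2 F395774)) (tt N102164 (iv3 F435993)) (tt N117707 D220966) (tt N55676 (iv5 D195099)) (tt N102111 F435786) (tt N60677 (iv7 F395770)))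
theorem Q92108 : ∀ i, i < 92108 → P i := stepQ 92107 Q92107 (allL N92107 (tt N102889 F439128) (tt N104809 F447402) (tt N101708 (iv2 F433980)) (tt N55677 (iv3 D195102)) (tt N66448 F395756) (tt N102187 (iv5 F436092)) (tt N67990 (iv6 F395757)) (tt N60673 F395776))
theorem Q92109 : ∀ i, i < 92109 → P i := stepQ 92108 Q92108 (allL N92108 (tt N102147 F435940) (tt N104314 (iv0 F445199)) (tt N60677 (iv2 F395781)) (tt N102187 (iv3 F436091)) (tt N117708 D220967) (tt N55677 (iv5 D195103)) (tt N102000 (iv6 F435304)) (tt N60674 F395777))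
theorem Q92110 : ∀ i, i < 92110 → P i := stepQ 92109 Q92109 (allL N92109 (tt N67179 (iv1 F395762)) (tt N83985 (iv0 F395761)) (tt N60678 F395763) (tt N67990 F395758) (tt N85941 F395759) (tt N97855 (iv5 F418526)) (tt N55677 (iv6 D195104)) (tt N91042 (iv7 F395760)))
theorem Q92111 : ∀ i, i < 92111 → P i := stepQ 92110 Q92110 (allL N92110 (tt N60439 (iv1 F395785)) (tt N55679 (iv0 D195105)) (tt N60685 (iv2 F395786)) (tt N57256 (iv3 F395787)) (tt N67530 F395784) (tt N65832 F395783) (tt N57255 (iv6 F395788)) (tt N60686 (iv7 F395789)))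
theorem Q92112 : ∀ i, i < 92112 → P i := stepQ 92111 Q92111 (allL N92111 (tt N55679 (iv1 D195106)) (tt N60439 F395790) (tt N60686 (iv2 F395794)) (tt N103229 (iv3 F440676)) (tt N67531 F395793) (tt N65826 F395792) (tt N117709 D220968) (tt N60685 F395791))
theorem Q92113 : ∀ i, i < 92113 → P i := stepQ 92112 Q92112 (allL N92112 (tt N102392 (iv1 F437033)) (tt N102394 (iv0 F437043)) (tt N60687 F395795) (tt N102585 F437796) (tt N55679 (iv4 D195107)) (tt N97478 (iv5 F417012)) (tt N60948 F395796) (tt N97755 (iv7 F418180)))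
theorem Q92114 : ∀ i, i < 92114 → P i := stepQ 92113 Q92113 (allL N92113 (tt N94664 F405436) (tt N92046 (iv0 F395802)) (tt N58362 F395797) (tt N55681 F395798) (tt N79723 F395799) (tt N55680 (iv5 D195108)) (tt N56956 F395800) (tt N60404 F395801))
theorem Q92115 : ∀ i, i < 92115 → P i := stepQ 92114 Q92114 (allL N92114 (tt N56704 F395808) (tt N58848 F395809) (tt N60690 F395803) (tt N79724 F395804) (tt N55681 (iv4 D195109)) (tt N66019 F395807) (tt N58834 F395805) (tt N60693 F395806))
theorem Q92116 : ∀ i, i < 92116 → P i := stepQ 92115 Q92115 (allL N92115 (tt N58848 F395814) (tt N56704 F395815) (tt N60693 F395810) (tt N104564 (iv3 F446289)) (tt N55683 (iv4 D195110)) (tt N66020 F395813) (tt N56975 F395811) (tt N60690 F395812))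
theorem Q92117 : ∀ i, i < 92117 → P i := stepQ 92116 Q92116 (allL N92116 (tt N55688 (iv1 F395820)) (tt N55687 F395821) (tt N55689 F395816) (tt N56734 F395817) (tt N96736 (iv4 F413670)) (tt N66148 F395818) (tt N58856 F395819) (tt N55685 (iv7 D195111)))
theorem Q92118 : ∀ i, i < 92118 → P i := stepQ 92117 Q92117 (allL N92117 (tt N65827 F395824) (tt N95745 (iv0 F409420)) (tt N102019 (iv2 F435371)) (tt N58767 F395822) (tt N59732 F395823) (tt N95418 (iv5 F408154)) (tt N55688 (iv6 D195112)) (tt N95418 (iv7 F408155)))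
theorem Q92119 : ∀ i, i < 92119 → P i := stepQ 92118 Q92118 (allL N92118 (tt N102885 F439101) (tt N111816 (iv0 F478129)) (tt N95848 (iv2 F409936)) (tt N55690 (iv3 D195113)) (tt N60475 F395825) (tt N97680 (iv5 F417886)) (tt N79537 (iv6 F395827)) (tt N60760 F395826))
theorem Q92120 : ∀ i, i < 92120 → P i := stepQ 92119 Q92119 (allL N92119 (tt N117710 D220969) (tt N74647 (iv0 F395831)) (tt N60763 F395828) (tt N79537 F395829) (tt N115415 (iv4 F495080)) (tt N79536 (iv5 F395830)) (tt N55690 (iv6 D195114)) (tt N102102 (iv7 F435733)))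
theorem Q92121 : ∀ i, i < 92121 → P i := stepQ 92120 Q92120 (allL N92120 (tt N103424 F441567) (tt N66491 (iv0 F395834)) (tt N103805 (iv2 F442894)) (tt N70049 F395832) (tt N55699 F395833) (tt N101704 (iv5 F433965)) (tt N55698 (iv6 D195115)) (tt N103809 (iv7 F442919)))
theorem Q92122 : ∀ i, i < 92122 → P i := stepQ 92121 Q92121 (allL N92121 (tt N111209 (iv1 F475235)) (tt N98241 (iv0 F420104)) (tt N60741 (iv2 F395860)) (tt N111212 F475248) (tt N117711 D220970) (tt N55700 (iv5 D195119)) (tt N117712 D220971) (tt N60745 (iv7 F395855)))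
theorem Q92123 : ∀ i, i < 92123 → P i := stepQ 92122 Q92122 (allL N92122 (tt N56278 (iv1 F395840)) (tt N67942 (iv0 F395839)) (tt N60742 (iv2 F395837)) (tt N60815 (iv3 F395838)) (tt N97554 (iv4 F417361)) (tt N60813 F395836) (tt N55700 (iv6 D195120)) (tt N92635 (iv7 F397711)))
theorem Q92124 : ∀ i, i < 92124 → P i := stepQ 92123 Q92123 (allL N92123 (tt N56254 F406143) (tt N117713 D220972) (tt N111323 (iv2 F475818)) (tt N55701 (iv3 D195121)) (tt N103368 (iv4 F441313)) (tt N115336 (iv5 F494657)) (tt N115702 (iv6 F496406)) (tt N60739 F395861))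
theorem Q92125 : ∀ i, i < 92125 → P i := stepQ 92124 Q92124 (allL N92124 (tt N98241 (iv1 F420105)) (tt N111209 (iv0 F475234)) (tt N60745 F395862) (tt N115336 F494659) (tt N117714 D220973) (tt N55701 (iv5 D195122)) (tt N66813 F395864) (tt N60741 F395863))
theorem Q92126 : ∀ i, i < 92126 → P i := stepQ 92125 Q92125 (allL N92125 (tt N91043 (iv1 F417379)) (tt N92637 (iv0 F417378)) (tt N60746 F395869) (tt N115702 (iv3 F496404)) (tt N97557 (iv4 F417375)) (tt N115701 (iv5 F496401)) (tt N55701 (iv6 D195123)) (tt N117715 D220974))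
theorem Q92127 : ∀ i, i < 92127 → P i := stepQ 92126 Q92126 (allL N92126 (tt N111002 F474184) (tt N96064 (iv0 F410876)) (tt N60749 F395870) (tt N117716 D220975) (tt N55702 (iv4 D195124)) (tt N117717 D220976) (tt N55704 F395871) (tt N117718 D220977))
theorem Q92128 : ∀ i, i < 92128 → P i := stepQ 92127 Q92127 (allL N92127 (tt N60748 (iv1 F395874)) (tt N60747 F395875) (tt N60750 F395872) (tt N104764 (iv3 F447160)) (tt N117718 (iv4 F506599)) (tt N55703 F395873) (tt N92989 (iv6 F399030)) (tt N55702 (iv7 D195125)))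
theorem Q92129 : ∀ i, i < 92129 → P i := stepQ 92128 Q92128 (allL N92128 (tt N110483 (iv1 F471796)) (tt N117719 D220978) (tt N117720 D220979) (tt N55704 (iv3 D195126)) (tt N114466 (iv4 F490323)) (tt N60751 F395876) (tt N117716 (iv6 F506592)) (tt N76235 F395877))
theorem Q92130 : ∀ i, i < 92130 → P i := stepQ 92129 Q92129 (allL N92129 (tt N92665 F397807) (tt N56332 (iv0 F395881)) (tt N60812 F395878) (tt N104162 (iv3 F444492)) (tt N56404 F395879) (tt N56440 F395880) (tt N55706 (iv6 D195127)) (tt N92664 (iv7 F397802)))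
theorem Q92131 : ∀ i, i < 92131 → P i := stepQ 92130 Q92130 (allL N92130 (tt N56243 F395885) (tt N70729 (iv0 F395887)) (tt N104161 (iv2 F444481)) (tt N55707 (iv3 D195128)) (tt N67259 F395886) (tt N102528 (iv5 F437518)) (tt N74913 F409942) (tt N60809 F395884))
theorem Q92132 : ∀ i, i < 92132 → P i := stepQ 92131 Q92131 (allL N92131 (tt N104166 F444511) (tt N97790 (iv0 F418318)) (tt N60816 F395888) (tt N74913 (iv3 F409943)) (tt N97643 (iv4 F417743)) (tt N117721 D220980) (tt N55707 (iv6 D195129)) (tt N117722 D220981))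
theorem Q92133 : ∀ i, i < 92133 → P i := stepQ 92132 Q92132 (allL N92132 (tt N103893 (iv1 F443250)) (tt N69192 (iv0 F395891)) (tt N103896 F443258) (tt N92937 (iv3 F398836)) (tt N55710 F395889) (tt N101398 (iv5 F432850)) (tt N55709 (iv6 D195130)) (tt N86029 F395890))
theorem Q92134 : ∀ i, i < 92134 → P i := stepQ 92133 Q92133 (allL N92133 (tt N61576 (iv1 F395897)) (tt N55827 (iv0 F395896)) (tt N60839 F395892) (tt N56483 F395893) (tt N56491 F395894) (tt N56601 F395895) (tt N55711 (iv6 D195131)) (tt N61575 F395898))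
theorem Q92135 : ∀ i, i < 92135 → P i := stepQ 92134 Q92134 (allL N92134 (tt N111180 (iv1 F475106)) (tt N97785 (iv0 F418297)) (tt N60840 F395899) (tt N106857 (iv3 F456021)) (tt N68658 F395900) (tt N98040 (iv5 F419272)) (tt N55712 (iv6 D195132)) (tt N117350 (iv7 F504610)))
theorem Q92136 : ∀ i, i < 92136 → P i := stepQ 92135 Q92135 (allL N92135 (tt N97788 F418309) (tt N116705 (iv0 F501406)) (tt N60855 F395901) (tt N86002 F395902) (tt N102938 (iv4 F439342)) (tt N92166 F396055) (tt N55714 (iv6 D195133)) (tt N61567 F395903))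
theorem Q92137 : ∀ i, i < 92137 → P i := stepQ 92136 Q92136 (allL N92136 (tt N73422 F395907) (tt N73420 (iv0 F395908)) (tt N106859 (iv2 F456032)) (tt N55717 (iv3 D195134)) (tt N86006 F395904) (tt N71661 F395905) (tt N77166 F395906) (tt N99827 (iv7 F426412)))
theorem Q92138 : ∀ i, i < 92138 → P i := stepQ 92137 Q92137 (allL N92137 (tt N55730 (iv1 F395911)) (tt N55718 (iv0 D195135)) (tt N55725 (iv2 F395912)) (tt N87835 F395914) (tt N56252 F395910) (tt N73254 F395909) (tt N105233 F449329) (tt N55726 (iv7 F395913)))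
theorem Q92139 : ∀ i, i < 92139 → P i := stepQ 92138 Q92138 (allL N92138 (tt N55718 (iv1 D195136)) (tt N55730 F395915) (tt N55726 (iv2 F395919)) (tt N107031 (iv3 F456711)) (tt N57437 F395917) (tt N73253 F395918) (tt N83961 (iv6 F395920)) (tt N55725 F395916))
theorem Q92140 : ∀ i, i < 92140 → P i := stepQ 92139 Q92139 (allL N92139 (tt N65293 F395925) (tt N107994 (iv0 F460637)) (tt N55728 F395921) (tt N68351 F395922) (tt N56068 F395924) (tt N55718 (iv5 D195137)) (tt N72487 F395926) (tt N56067 F395923))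
theorem Q92141 : ∀ i, i < 92141 → P i := stepQ 92140 Q92140 (allL N92140 (tt N55733 (iv1 F395931)) (tt N55719 (iv0 D195138)) (tt N55731 (iv2 F395930)) (tt N69216 F395928) (tt N71502 F395927) (tt N99797 (iv5 F426260)) (tt N61733 F395929) (tt N55732 F395932))
theorem Q92142 : ∀ i, i < 92142 → P i := stepQ 92141 Q92141 (allL N92141 (tt N99255 (iv1 F423852)) (tt N73311 (iv0 F395936)) (tt N71658 F395933) (tt N55720 (iv3 D195139)) (tt N75707 F395934) (tt N73394 F395935) (tt N117723 D220982) (tt N105568 (iv7 F450769)))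
theorem Q92143 : ∀ i, i < 92143 → P i := stepQ 92142 Q92142 (allL N92142 (tt N105883 F452172) (tt N117724 D220983) (tt N111264 (iv2 F475515)) (tt N117723 (iv3 F506629)) (tt N55721 F395937) (tt N117725 D220984) (tt N55720 (iv6 D195140)) (tt N117726 D220985))
theorem Q92144 : ∀ i, i < 92144 → P i := stepQ 92143 Q92143 (allL N92143 (tt N55721 (iv1 D195141)) (tt N70776 F395938) (tt N70778 (iv2 F395940)) (tt N55738 (iv3 F395941)) (tt N88751 (iv4 F395942)) (tt N117727 D220986) (tt N105836 (iv6 F451952)) (tt N60915 F395939))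
theorem Q92145 : ∀ i, i < 92145 → P i := stepQ 92144 Q92144 (allL N92144 (tt N70778 (iv1 F395946)) (tt N60915 F395947) (tt N70776 F395943) (tt N75711 F395944) (tt N117726 (iv4 F506644)) (tt N98526 F421209) (tt N83973 F395945) (tt N55721 (iv7 D195142)))
theorem Q92146 : ∀ i, i < 92146 → P i := stepQ 92145 Q92145 (allL N92145 (tt N83828 F395951) (tt N86817 F395954) (tt N105566 (iv2 F450752)) (tt N71657 F395948) (tt N55724 F395949) (tt N85491 F395950) (tt N55723 (iv6 D195143)) (tt N84086 (iv7 F395955)))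
theorem Q92147 : ∀ i, i < 92147 → P i := stepQ 92146 Q92146 (allL N92146 (tt N89476 (iv1 F411382)) (tt N88656 F395961) (tt N88773 F395958) (tt N55728 F395959) (tt N117728 D220987) (tt N55727 (iv5 D195144)) (tt N117729 D220988) (tt N60654 F395960))
theorem Q92148 : ∀ i, i < 92148 → P i := stepQ 92147 Q92147 (allL N92147 (tt N70381 F395965) (tt N104323 (iv0 F445246)) (tt N70428 F395962) (tt N55729 F395963) (tt N55749 F395964) (tt N88733 F395966) (tt N55727 (iv6 D195145)) (tt N105251 (iv7 F449391)))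
theorem Q92149 : ∀ i, i < 92149 → P i := stepQ 92148 Q92148 (allL N92148 (tt N55728 (iv1 D195146)) (tt N56067 F395967) (tt N107994 (iv2 F460633)) (tt N77274 F395972) (tt N56042 F395970) (tt N56049 F395969) (tt N62285 (iv6 F395971)) (tt N65293 F395968))
theorem Q92150 : ∀ i, i < 92150 → P i := stepQ 92149 Q92149 (allL N92149 (tt N62278 F395975) (tt N72574 F395976) (tt N72487 F395973) (tt N117729 (iv3 F506662)) (tt N62307 F395974) (tt N117730 D220989) (tt N55728 (iv6 D195147)) (tt N72572 F395977))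
theorem Q92151 : ∀ i, i < 92151 → P i := stepQ 92150 Q92150 (allL N92150 (tt N107994 (iv1 F460638)) (tt N65293 (iv0 F395982)) (tt N56067 F395978) (tt N60654 F395979) (tt N56056 F395980) (tt N55730 F395981) (tt N77677 (iv6 F395983)) (tt N55728 (iv7 D195148)))
theorem Q92152 : ∀ i, i < 92152 → P i := stepQ 92151 Q92151 (allL N92151 (tt N70426 (iv1 F395988)) (tt N55729 (iv0 D195149)) (tt N70364 (iv2 F396006)) (tt N81410 (iv3 F396003)) (tt N109037 (iv4 F465035)) (tt N90602 F396004) (tt N70170 (iv6 F396007)) (tt N90632 F396005))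
theorem Q92153 : ∀ i, i < 92153 → P i := stepQ 92152 Q92152 (allL N92152 (tt N110368 F471269) (tt N117392 F504802) (tt N105298 (iv2 F449622)) (tt N88733 F395985) (tt N117731 D220990) (tt N55729 (iv5 D195151)) (tt N117730 (iv6 F506670)) (tt N117382 (iv7 F504761)))
theorem Q92154 : ∀ i, i < 92154 → P i := stepQ 92153 Q92153 (allL N92153 (tt N90632 (iv1 F395989)) (tt N70364 F395990) (tt N70426 F395986) (tt N105251 F449394) (tt N55733 F395987) (tt N117382 (iv5 F504759)) (tt N106079 (iv6 F453029)) (tt N55729 (iv7 D195152)))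
theorem Q92155 : ∀ i, i < 92155 → P i := stepQ 92154 Q92154 (allL N92154 (tt N91073 F395993) (tt N91076 F395996) (tt N102845 (iv2 F438907)) (tt N60655 F395991) (tt N55734 F395992) (tt N72526 F395997) (tt N55730 (iv6 D195153)) (tt N106079 (iv7 F453030)))
theorem Q92156 : ∀ i, i < 92156 → P i := stepQ 92155 Q92155 (allL N92155 (tt N117732 D220991) (tt N109043 F465074) (tt N71502 F395999) (tt N105397 (iv3 F450054)) (tt N55731 (iv4 D195154)) (tt N117733 D220992) (tt N98734 (iv6 F422077)) (tt N105832 (iv7 F451928)))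
theorem Q92157 : ∀ i, i < 92157 → P i := stepQ 92156 Q92156 (allL N92156 (tt N109043 F465073) (tt N117732 F506681) (tt N105832 (iv2 F451925)) (tt N70052 F396000) (tt N55732 (iv4 D195155)) (tt N117734 D220993) (tt N70051 F396001) (tt N71502 F396002))
theorem Q92158 : ∀ i, i < 92158 → P i := stepQ 92157 Q92157 (allL N92157 (tt N109062 (iv1 F465162)) (tt N71498 (iv0 F396012)) (tt N105865 (iv2 F452067)) (tt N55760 F396010) (tt N106079 (iv4 F453027)) (tt N98501 (iv5 F421141)) (tt N55733 (iv6 D195156)) (tt N55734 F396011))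
theorem Q92159 : ∀ i, i < 92159 → P i := stepQ 92158 Q92158 (allL N92158 (tt N105865 F452073) (tt N55734 (iv0 D195157)) (tt N71498 (iv2 F396014)) (tt N74841 F405876) (tt N71497 F396013) (tt N114534 (iv5 F490648)) (tt N105834 (iv6 F451940)) (tt N109062 (iv7 F465163)))
theorem Q92160 : ∀ i, i < 92160 → P i := stepQ 92159 Q92159 (allL N92159 (tt N60926 F396018) (tt N60925 F396019) (tt N55736 F396015) (tt N105587 (iv3 F450853)) (tt N55735 (iv4 D195158)) (tt N71739 F396016) (tt N105586 F450850) (tt N60923 F396017))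
theorem Q92161 : ∀ i, i < 92161 → P i := stepQ 92160 Q92160 (allL N92160 (tt N70798 F396024) (tt N90394 F396035) (tt N55737 F396020) (tt N60909 F396021) (tt N105586 (iv4 F450848)) (tt N84797 F396022) (tt N55735 (iv6 D195159)) (tt N90407 F396023))
theorem Q92162 : ∀ i, i < 92162 → P i := stepQ 92161 Q92161 (allL N92161 (tt N105407 F450113) (tt N81191 (iv0 F396028)) (tt N105586 (iv2 F450847)) (tt N71894 F396026) (tt N55737 F396027) (tt N110031 (iv5 F469642)) (tt N55736 (iv6 D195160)) (tt N82976 (iv7 F396029)))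
theorem Q92163 : ∀ i, i < 92163 → P i := stepQ 92162 Q92162 (allL N92162 (tt N90407 (iv1 F396036)) (tt N55737 (iv0 D195161)) (tt N70798 (iv2 F396033)) (tt N103891 (iv3 F443236)) (tt N90395 F396030) (tt N85214 F396031) (tt N70796 F396032) (tt N90394 F396034))
theorem Q92164 : ∀ i, i < 92164 → P i := stepQ 92163 Q92163 (allL N92163 (tt N90394 (iv1 F396042)) (tt N70798 F396043) (tt N90407 F396037) (tt N55740 F396038) (tt N82976 F396039) (tt N85102 F396040) (tt N60930 F396041) (tt N55737 (iv7 D195162)))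
theorem Q92165 : ∀ i, i < 92165 → P i := stepQ 92164 Q92164 (allL N92164 (tt N98338 (iv1 F420545)) (tt N105821 F451886) (tt N60917 F396044) (tt N117727 (iv3 F506648)) (tt N117735 D220994) (tt N55738 (iv5 D195163)) (tt N78392 (iv6 F396046)) (tt N60916 F396045))
theorem Q92166 : ∀ i, i < 92166 → P i := stepQ 92165 Q92165 (allL N92165 (tt N70788 (iv1 F396050)) (tt N60972 F396051) (tt N60918 F396048) (tt N105836 (iv3 F451949)) (tt N102896 (iv4 F439165)) (tt N108780 (iv5 F463893)) (tt N55738 (iv6 D195164)) (tt N70786 F396049))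
theorem Q92167 : ∀ i, i < 92167 → P i := stepQ 92166 Q92166 (allL N92166 (tt N55739 (iv1 D195165)) (tt N60922 F396052) (tt N60920 F396056) (tt N100164 (iv3 F427779)) (tt N96064 (iv4 F410875)) (tt N92135 (iv5 F396055)) (tt N84803 (iv6 F396054)) (tt N60919 F396053))
theorem Q92168 : ∀ i, i < 92168 → P i := stepQ 92167 Q92167 (allL N92167 (tt N60920 (iv1 F396061)) (tt N60919 F396062) (tt N60922 F396057) (tt N85102 F396058) (tt N108103 (iv4 F461114)) (tt N55740 F396059) (tt N76234 F396060) (tt N55739 (iv7 D195166)))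
theorem Q92169 : ∀ i, i < 92169 → P i := stepQ 92168 Q92168 (allL N92168 (tt N70763 (iv1 F396067)) (tt N70757 (iv0 F396066)) (tt N70760 F396063) (tt N102378 (iv3 F436978)) (tt N55742 F396064) (tt N117736 D220995) (tt N55741 (iv6 D195167)) (tt N70761 F396065))
theorem Q92170 : ∀ i, i < 92170 → P i := stepQ 92169 Q92169 (allL N92169 (tt N55742 (iv1 D195168)) (tt N91799 F396068) (tt N98744 (iv2 F422118)) (tt N75715 F396071) (tt N70691 F396069) (tt N98281 (iv5 F420306)) (tt N70690 (iv6 F396070)) (tt N109052 (iv7 F465120)))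
theorem Q92171 : ∀ i, i < 92171 → P i := stepQ 92170 Q92170 (allL N92170 (tt N98744 (iv1 F422122)) (tt N109052 F465119) (tt N91799 F396072) (tt N55745 F396073) (tt N70761 F396074) (tt N78289 F396075) (tt N60914 F396076) (tt N55742 (iv7 D195169)))
theorem Q92172 : ∀ i, i < 92172 → P i := stepQ 92171 Q92171 (allL N92171 (tt N72066 F396081) (tt N71010 F396082) (tt N72068 F396078) (tt N55747 (iv3 D195170)) (tt N106742 (iv4 F455503)) (tt N93623 (iv5 F401312)) (tt N84023 F396079) (tt N60650 F396080))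
theorem Q92173 : ∀ i, i < 92173 → P i := stepQ 92172 Q92172 (allL N92172 (tt N67504 (iv1 F396092)) (tt N55749 (iv0 D195171)) (tt N67328 (iv2 F396085)) (tt N114955 (iv3 F492747)) (tt N105534 (iv4 F450614)) (tt N88747 F396083) (tt N65615 F396084) (tt N93048 (iv7 F399263)))
theorem Q92174 : ∀ i, i < 92174 → P i := stepQ 92173 Q92173 (allL N92173 (tt N87684 F396088) (tt N101715 (iv0 F434014)) (tt N104434 (iv2 F445742)) (tt N55752 F396086) (tt N103289 (iv4 F441002)) (tt N55749 (iv5 D195172)) (tt N60661 F396087) (tt N117362 (iv7 F504674)))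
theorem Q92175 : ∀ i, i < 92175 → P i := stepQ 92174 Q92174 (allL N92174 (tt N93048 (iv1 F399265)) (tt N67328 F399267) (tt N67504 F396089) (tt N55753 F396090) (tt N105251 (iv4 F449392)) (tt N117362 (iv5 F504673)) (tt N60658 F396091) (tt N55749 (iv7 D195173)))
theorem Q92176 : ∀ i, i < 92176 → P i := stepQ 92175 Q92175 (allL N92175 (tt N68027 (iv1 F396097)) (tt N68031 F396098) (tt N67979 (iv2 F396096)) (tt N55750 (iv3 D195174)) (tt N80691 F396093) (tt N93070 (iv5 F399358)) (tt N67356 F396094) (tt N60944 F396095))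
theorem Q92177 : ∀ i, i < 92177 → P i := stepQ 92176 Q92176 (allL N92176 (tt N92699 (iv1 F397905)) (tt N88746 F396101) (tt N60942 F396099) (tt N93070 (iv3 F399357)) (tt N98613 (iv4 F421579)) (tt N55750 (iv5 D195175)) (tt N117737 D220996) (tt N60945 F396100))
theorem Q92178 : ∀ i, i < 92178 → P i := stepQ 92177 Q92177 (allL N92177 (tt N102926 (iv1 F439298)) (tt N117738 D220997) (tt N97816 (iv2 F418404)) (tt N55751 (iv3 D195176)) (tt N102487 (iv4 F437410)) (tt N60499 F396108) (tt N93032 (iv6 F399190)) (tt N60941 F396102))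
theorem Q92179 : ∀ i, i < 92179 → P i := stepQ 92178 Q92178 (allL N92178 (tt N88746 F396106) (tt N92699 F397906) (tt N60945 F396103) (tt N60499 (iv3 F396107)) (tt N71085 F396105) (tt N55751 (iv5 D195177)) (tt N71083 (iv6 F396111)) (tt N60942 F396104))
theorem Q92180 : ∀ i, i < 92180 → P i := stepQ 92179 Q92179 (allL N92179 (tt N60949 (iv1 F396125)) (tt N55752 (iv0 D195178)) (tt N60946 (iv2 F396116)) (tt N97552 (iv3 F417355)) (tt N97568 (iv4 F417402)) (tt N56331 F396115) (tt N68719 (iv6 F396117)) (tt N60947 (iv7 F396118)))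
theorem Q92181 : ∀ i, i < 92181 → P i := stepQ 92180 Q92180 (allL N92180 (tt N55752 (iv1 D195179)) (tt N60949 F396119) (tt N60947 (iv2 F396121)) (tt N97905 (iv3 F418737)) (tt N98603 (iv4 F421530)) (tt N56340 (iv5 F396122)) (tt N97903 F418730) (tt N60946 F396120))
theorem Q92182 : ∀ i, i < 92182 → P i := stepQ 92181 Q92181 (allL N92181 (tt N98625 (iv1 F421632)) (tt N98624 F421629) (tt N60948 F396127) (tt N105493 (iv3 F450458)) (tt N55752 (iv4 D195180)) (tt N61539 F396128) (tt N60687 F396129) (tt N61538 (iv7 F396130)))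
theorem Q92183 : ∀ i, i < 92183 → P i := stepQ 92182 Q92182 (allL N92182 (tt N60947 (iv1 F396134)) (tt N60946 F396135) (tt N60949 F396131) (tt N117362 (iv3 F504671)) (tt N61538 F396132) (tt N55753 F396133) (tt N117361 F504669) (tt N55752 (iv7 D195181)))
theorem Q92184 : ∀ i, i < 92184 → P i := stepQ 92183 Q92183 (allL N92183 (tt N104389 (iv1 F445545)) (tt N67498 (iv0 F396138)) (tt N67410 (iv2 F396139)) (tt N55755 (iv3 D195182)) (tt N72070 F396136) (tt N102892 (iv5 F439144)) (tt N67187 F396140) (tt N60965 F396137))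
theorem Q92185 : ∀ i, i < 92185 → P i := stepQ 92184 Q92184 (allL N92184 (tt N98569 (iv1 F421357)) (tt N93038 F399232) (tt N60956 F396141) (tt N102892 (iv3 F439147)) (tt N98619 (iv4 F421613)) (tt N55755 (iv5 D195183)) (tt N83012 (iv6 F396143)) (tt N56716 F396142))
theorem Q92186 : ∀ i, i < 92186 → P i := stepQ 92185 Q92185 (allL N92185 (tt N67207 F399233) (tt N102250 F436370) (tt N60957 F396144) (tt N67187 F396145) (tt N55757 F396146) (tt N108962 (iv5 F464685)) (tt N55755 (iv6 D195184)) (tt N67404 F396147))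
theorem Q92187 : ∀ i, i < 92187 → P i := stepQ 92186 Q92186 (allL N92186 (tt N77304 F396150) (tt N105934 (iv0 F452417)) (tt N92766 (iv2 F398131)) (tt N55759 (iv3 D195185)) (tt N92732 (iv4 F398012)) (tt N82980 (iv5 F396151)) (tt N88257 F396148) (tt N60955 F396149))
theorem Q92188 : ∀ i, i < 92188 → P i := stepQ 92187 Q92187 (allL N92187 (tt N93038 F399230) (tt N98569 (iv0 F421356)) (tt N56716 F396152) (tt N82980 F396153) (tt N98616 (iv4 F421595)) (tt N55759 (iv5 D195186)) (tt N56713 (iv6 F396155)) (tt N60956 F396154))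
theorem Q92189 : ∀ i, i < 92189 → P i := stepQ 92188 Q92188 (allL N92188 (tt N97919 (iv1 F418804)) (tt N111154 (iv0 F474965)) (tt N60971 F396156) (tt N85880 F396157) (tt N117739 D220998) (tt N55761 (iv5 D195187)) (tt N86136 F396158) (tt N60973 F396159))
theorem Q92190 : ∀ i, i < 92190 → P i := stepQ 92189 Q92189 (allL N92189 (tt N111154 F474966) (tt N97919 (iv0 F418805)) (tt N60973 F396160) (tt N86113 F396161) (tt N111155 (iv4 F474969)) (tt N55762 (iv5 D195188)) (tt N79029 F396162) (tt N60971 F396163))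
theorem Q92191 : ∀ i, i < 92191 → P i := stepQ 92190 Q92190 (allL N92190 (tt N96231 F411616) (tt N92230 (iv0 F396379)) (tt N61042 F396164) (tt N64746 F396165) (tt N55766 F396166) (tt N89412 F396167) (tt N55765 (iv6 D195189)) (tt N90647 F396168))
theorem Q92192 : ∀ i, i < 92192 → P i := stepQ 92191 Q92191 (allL N92191 (tt N55769 (iv1 D195190)) (tt N56303 F396170) (tt N56304 F396175) (tt N76266 (iv3 F396174)) (tt N63764 F396172) (tt N84707 F396173) (tt N56306 (iv6 F396176)) (tt N56299 F396171))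
theorem Q92193 : ∀ i, i < 92193 → P i := stepQ 92192 Q92192 (allL N92192 (tt N85854 F396179) (tt N109399 (iv0 F466768)) (tt N109400 F466773) (tt N55770 F396177) (tt N109400 (iv4 F466771)) (tt N55769 (iv5 D195191)) (tt N84911 (iv6 F396180)) (tt N61014 F396178))
theorem Q92194 : ∀ i, i < 92194 → P i := stepQ 92193 Q92193 (allL N92193 (tt N62384 (iv1 F396185)) (tt N102964 (iv0 F439472)) (tt N88228 F396181) (tt N55771 F396182) (tt N73774 F396183) (tt N93201 (iv5 F399948)) (tt N55769 (iv6 D195192)) (tt N73772 F396184))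
theorem Q92195 : ∀ i, i < 92195 → P i := stepQ 92194 Q92194 (allL N92194 (tt N81298 F396189) (tt N90859 (iv0 F396190)) (tt N61144 F396186) (tt N72163 F396187) (tt N86031 F396188) (tt N72162 (iv5 F396191)) (tt N55774 (iv6 D195193)) (tt N107177 (iv7 F457355)))
theorem Q92196 : ∀ i, i < 92196 → P i := stepQ 92195 Q92195 (allL N92195 (tt N55775 (iv1 D195194)) (tt N105042 F448529) (tt N99446 (iv2 F424615)) (tt N77219 (iv3 F396193)) (tt N91253 F396192) (tt N82906 F396194) (tt N87033 F396195) (tt N107652 (iv7 F459089)))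
theorem Q92197 : ∀ i, i < 92197 → P i := stepQ 92196 Q92196 (allL N92196 (tt N105040 (iv1 F448515)) (tt N91176 F396201) (tt N72425 F396196) (tt N63299 F396197) (tt N72421 F396199) (tt N55775 (iv5 D195195)) (tt N76335 F396198) (tt N105039 (iv7 F448514)))
theorem Q92198 : ∀ i, i < 92198 → P i := stepQ 92197 Q92197 (allL N92197 (tt N99446 (iv1 F424621)) (tt N107652 F459091) (tt N105042 (iv2 F448523)) (tt N63300 F396203) (tt N55777 F396204) (tt N105039 (iv5 F448513)) (tt N61148 F396205) (tt N55775 (iv7 D195196)))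
theorem Q92199 : ∀ i, i < 92199 → P i := stepQ 92198 Q92198 (allL N92198 (tt N62939 F396209) (tt N75577 (iv0 F396210)) (tt N62999 F396206) (tt N63895 F396207) (tt N55776 (iv4 D195197)) (tt N105036 (iv5 F448494)) (tt N101337 (iv6 F432697)) (tt N63956 F396208))
theorem Q92200 : ∀ i, i < 92200 → P i := stepQ 92199 Q92199 (allL N92199 (tt N98088 F419412) (tt N111234 F475353) (tt N98116 (iv2 F419519)) (tt N108801 (iv3 F464012)) (tt N101337 (iv4 F432696)) (tt N85790 F396211) (tt N55776 (iv6 D195198)) (tt N98115 (iv7 F419515)))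
theorem Q92201 : ∀ i, i < 92201 → P i := stepQ 92200 Q92200 (allL N92200 (tt N55778 (iv1 D195199)) (tt N55779 F396212) (tt N61110 F396217) (tt N99687 (iv3 F425746)) (tt N62617 F396215) (tt N56210 F396214) (tt N57211 (iv6 F396216)) (tt N56209 F396213))
theorem Q92202 : ∀ i, i < 92202 → P i := stepQ 92201 Q92201 (allL N92201 (tt N74160 F396221) (tt N61595 F396222) (tt N61119 F396218) (tt N74123 (iv3 F396223)) (tt N55779 (iv4 D195200)) (tt N73467 F396219) (tt N96794 (iv6 F413979)) (tt N61111 F396220))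
theorem Q92203 : ∀ i, i < 92203 → P i := stepQ 92202 Q92202 (allL N92202 (tt N94014 (iv1 F402824)) (tt N58935 (iv0 F396227)) (tt N61282 F396224) (tt N104918 (iv3 F447933)) (tt N97272 (iv4 F416153)) (tt N55781 (iv5 D195201)) (tt N56283 F396225) (tt N86837 F396226))
theorem Q92204 : ∀ i, i < 92204 → P i := stepQ 92203 Q92203 (allL N92203 (tt N88437 F396231) (tt N80022 F396232) (tt N73962 F396228) (tt N55783 (iv3 D195202)) (tt N107652 (iv4 F459088)) (tt N86856 F396229) (tt N98461 (iv6 F420975)) (tt N91253 F396230))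
theorem Q92205 : ∀ i, i < 92205 → P i := stepQ 92204 Q92204 (allL N92204 (tt N98582 (iv1 F421452)) (tt N98575 (iv0 F421410)) (tt N98579 F421438) (tt N73782 F396233) (tt N117740 D220999) (tt N55784 (iv5 D195203)) (tt N114916 (iv6 F492515)) (tt N98580 (iv7 F421441)))
theorem Q92206 : ∀ i, i < 92206 → P i := stepQ 92205 Q92205 (allL N92205 (tt N68392 F396237) (tt N79983 F396244) (tt N61244 F396234) (tt N74483 F396235) (tt N108473 (iv4 F462741)) (tt N64194 F396236) (tt N55786 (iv6 D195204)) (tt N104014 (iv7 F443793)))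
theorem Q92207 : ∀ i, i < 92207 → P i := stepQ 92206 Q92206 (allL N92206 (tt N97256 F416100) (tt N104941 F448044) (tt N61254 F396245) (tt N74486 F396246) (tt N78536 F396247) (tt N78920 F396248) (tt N55790 (iv6 D195205)) (tt N88473 F396249))
theorem Q92208 : ∀ i, i < 92208 → P i := stepQ 92207 Q92207 (allL N92207 (tt N91250 (iv1 F396254)) (tt N91251 (iv0 F396252)) (tt N71839 F396250) (tt N55791 (iv3 D195206)) (tt N115195 (iv4 F493968)) (tt N70956 F396253) (tt N55793 F396251) (tt N71837 (iv7 F396257)))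
theorem Q92209 : ∀ i, i < 92209 → P i := stepQ 92208 Q92208 (allL N92208 (tt N73666 F396262) (tt N73665 F396263) (tt N61256 F396258) (tt N70956 F396259) (tt N93304 (iv4 F400324)) (tt N55791 (iv5 D195207)) (tt N60313 F396260) (tt N71836 F396261))
theorem Q92210 : ∀ i, i < 92210 → P i := stepQ 92209 Q92209 (allL N92209 (tt N60286 (iv1 F396269)) (tt N60283 F396270) (tt N61257 F396264) (tt N71837 F396265) (tt N55792 F396266) (tt N71836 F396267) (tt N60312 F396268) (tt N55791 (iv7 D195208)))
theorem Q92211 : ∀ i, i < 92211 → P i := stepQ 92210 Q92210 (allL N92210 (tt N60305 (iv1 F396271)) (tt N55793 (iv0 D195209)) (tt N60307 (iv2 F396279)) (tt N116040 F498194) (tt N115295 (iv4 F494438)) (tt N68066 (iv5 F396272)) (tt N115294 (iv6 F494436)) (tt N60306 F396273))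
theorem Q92212 : ∀ i, i < 92212 → P i := stepQ 92211 Q92211 (allL N92211 (tt N55793 (iv1 D195210)) (tt N60305 (iv0 F396277)) (tt N60306 F396276) (tt N89254 (iv3 F396274)) (tt N117741 D221000) (tt N68067 (iv5 F396275)) (tt N113688 (iv6 F486641)) (tt N60307 (iv7 F396278)))
theorem Q92213 : ∀ i, i < 92213 → P i := stepQ 92212 Q92212 (allL N92212 (tt N60307 (iv1 F396287)) (tt N60306 F396286) (tt N55793 (iv2 D195211)) (tt N61261 F396282) (tt N115194 (iv4 F493960)) (tt N60295 F396283) (tt N71839 F396284) (tt N60305 F396285))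
theorem Q92214 : ∀ i, i < 92214 → P i := stepQ 92213 Q92213 (allL N92213 (tt N55800 (iv1 D195212)) (tt N55812 F396289) (tt N55810 F396294) (tt N76253 F396295) (tt N76298 F396291) (tt N74871 (iv5 F396292)) (tt N73724 (iv6 F396293)) (tt N55809 F396290))
theorem Q92215 : ∀ i, i < 92215 → P i := stepQ 92214 Q92214 (allL N92214 (tt N98290 (iv1 F420357)) (tt N61264 (iv0 F396297)) (tt N98289 F420348) (tt N55801 (iv3 D195213)) (tt N98094 (iv4 F419434)) (tt N86011 F396298) (tt N117742 D221001) (tt N55816 F396296))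
theorem Q92216 : ∀ i, i < 92216 → P i := stepQ 92215 Q92215 (allL N92215 (tt N61565 F396302) (tt N86003 F396358) (tt N55814 F396299) (tt N86011 F396300) (tt N106896 (iv4 F456177)) (tt N55801 (iv5 D195214)) (tt N104856 (iv6 F447649)) (tt N55818 F396301))
theorem Q92217 : ∀ i, i < 92217 → P i := stepQ 92216 Q92216 (allL N92216 (tt N61491 (iv1 F396308)) (tt N62817 (iv0 F396307)) (tt N55815 F396303) (tt N117742 (iv3 F506738)) (tt N76122 F396304) (tt N57277 F396306) (tt N55801 (iv6 D195215)) (tt N74926 F396305))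
theorem Q92218 : ∀ i, i < 92218 → P i := stepQ 92217 Q92217 (allL N92217 (tt N86003 (iv1 F396359)) (tt N61565 F396311) (tt N55818 F396309) (tt N100776 (iv3 F430416)) (tt N117743 D221002) (tt N55802 (iv5 D195216)) (tt N97049 (iv6 F415214)) (tt N55814 F396310))
theorem Q92219 : ∀ i, i < 92219 → P i := stepQ 92218 Q92218 (allL N92218 (tt N74829 (iv1 F396317)) (tt N66658 F396318) (tt N67055 F396312) (tt N74785 F396313) (tt N55807 F396314) (tt N64517 F396315) (tt N67052 F396316) (tt N55805 (iv7 D195217)))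
theorem Q92220 : ∀ i, i < 92220 → P i := stepQ 92219 Q92219 (allL N92219 (tt N74926 (iv1 F396324)) (tt N55815 F396325) (tt N61491 F396319) (tt N61420 F396320) (tt N57422 F396321) (tt N63390 F396322) (tt N55806 (iv6 D195218)) (tt N62817 F396323))
theorem Q92221 : ∀ i, i < 92221 → P i := stepQ 92220 Q92220 (allL N92220 (tt N74959 F396330) (tt N56087 (iv0 F396331)) (tt N56307 F396326) (tt N63260 F396327) (tt N55809 (iv4 D195219)) (tt N117351 (iv5 F504616)) (tt N69639 F396328) (tt N76298 F396329))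
theorem Q92222 : ∀ i, i < 92222 → P i := stepQ 92221 Q92221 (allL N92221 (tt N56087 F396336) (tt N74959 F396337) (tt N76298 F396332) (tt N56301 F396333) (tt N55810 (iv4 D195220)) (tt N117744 D221003) (tt N73725 F396334) (tt N56307 F396335))
theorem Q92223 : ∀ i, i < 92223 → P i := stepQ 92222 Q92222 (allL N92222 (tt N72766 F396340) (tt N62306 F396341) (tt N72763 F396338) (tt N117745 D221004) (tt N55811 (iv4 D195221)) (tt N116435 (iv5 F500094)) (tt N109618 F467773) (tt N72764 F396339))
theorem Q92224 : ∀ i, i < 92224 → P i := stepQ 92223 Q92223 (allL N92223 (tt N114445 (iv1 F490209)) (tt N109438 (iv0 F466962)) (tt N100775 (iv2 F430413)) (tt N55814 F396342) (tt N117746 D221005) (tt N55813 (iv5 D195222)) (tt N117352 (iv6 F504622)) (tt N100776 (iv7 F430417)))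
theorem Q92225 : ∀ i, i < 92225 → P i := stepQ 92224 Q92224 (allL N92224 (tt N61497 F396350) (tt N100774 F430411) (tt N69506 F396343) (tt N55815 F396344) (tt N111773 (iv4 F477899)) (tt N60251 F396345) (tt N55813 (iv6 D195223)) (tt N69502 (iv7 F396349)))
theorem Q92226 : ∀ i, i < 92226 → P i := stepQ 92225 Q92225 (allL N92225 (tt N55818 (iv1 F396354)) (tt N55814 (iv0 D195224)) (tt N61565 (iv2 F396355)) (tt N61436 (iv3 F396356)) (tt N113459 (iv4 F485590)) (tt N62789 F396353) (tt N104949 (iv6 F448095)) (tt N86003 F396357))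
theorem Q92227 : ∀ i, i < 92227 → P i := stepQ 92226 Q92226 (allL N92226 (tt N55814 (iv1 D195225)) (tt N55818 F396360) (tt N86003 (iv2 F396365)) (tt N55825 F396363) (tt N88731 F396427) (tt N74868 (iv5 F396362)) (tt N60856 F396364) (tt N61565 F396361))
theorem Q92228 : ∀ i, i < 92228 → P i := stepQ 92227 Q92227 (allL N92227 (tt N109368 (iv1 F466610)) (tt N114954 (iv0 F492744)) (tt N106896 (iv2 F456175)) (tt N112917 (iv3 F483272)) (tt N55814 (iv4 D195226)) (tt N117747 D221006) (tt N106895 F456174) (tt N117743 (iv7 F506746)))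
theorem Q92229 : ∀ i, i < 92229 → P i := stepQ 92228 Q92228 (allL N92228 (tt N55816 (iv1 D195228)) (tt N98289 F420351) (tt N98290 (iv2 F420352)) (tt N55820 F396369) (tt N90537 F396370) (tt N78611 F396367) (tt N84248 (iv6 F396368)) (tt N61264 F396366))
theorem Q92230 : ∀ i, i < 92230 → P i := stepQ 92229 Q92229 (allL N92229 (tt N61264 (iv1 F396375)) (tt N98290 F420356) (tt N55816 (iv2 D195229)) (tt N75992 F396371) (tt N84275 (iv4 F396374)) (tt N86012 F396372) (tt N86781 F396373) (tt N98289 (iv7 F420349)))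
theorem Q92231 : ∀ i, i < 92231 → P i := stepQ 92230 Q92230 (allL N92230 (tt N92190 F396379) (tt N84176 F396380) (tt N84275 F396376) (tt N117518 (iv3 F505475)) (tt N55816 (iv4 D195230)) (tt N90452 F396378) (tt N75134 F396377) (tt N98094 (iv7 F419438)))
theorem Q92232 : ∀ i, i < 92232 → P i := stepQ 92231 Q92231 (allL N92231 (tt N66550 F396384) (tt N106995 F456572) (tt N81704 F396381) (tt N105279 F449530) (tt N55819 F396382) (tt N101864 (iv5 F434724)) (tt N55817 (iv6 D195231)) (tt N76127 F396383))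
theorem Q92233 : ∀ i, i < 92233 → P i := stepQ 92232 Q92232 (allL N92232 (tt N114954 (iv1 F492745)) (tt N109368 (iv0 F466609)) (tt N117743 (iv2 F506744)) (tt N106897 (iv3 F456181)) (tt N55818 (iv4 D195232)) (tt N117748 D221007) (tt N116320 (iv6 F499543)) (tt N106896 F456178))
theorem Q92234 : ∀ i, i < 92234 → P i := stepQ 92233 Q92233 (allL N92233 (tt N97051 F415222) (tt N78956 (iv0 F396387)) (tt N97049 F415215) (tt N68255 F396385) (tt N116320 (iv4 F499541)) (tt N86534 (iv5 F396386)) (tt N55818 (iv6 D195233)) (tt N97050 (iv7 F415218)))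
theorem Q92235 : ∀ i, i < 92235 → P i := stepQ 92234 Q92234 (allL N92234 (tt N75561 F396393) (tt N75566 (iv0 F396394)) (tt N76398 F396388) (tt N91178 F396389) (tt N76318 F396392) (tt N55819 (iv5 D195234)) (tt N86534 F396390) (tt N76395 F396391))
theorem Q92236 : ∀ i, i < 92236 → P i := stepQ 92235 Q92235 (allL N92235 (tt N61481 F396398) (tt N91225 F396399) (tt N55823 F396395) (tt N61544 F396396) (tt N76130 F396397) (tt N95893 (iv5 F410120)) (tt N55821 (iv6 D195235)) (tt N112360 (iv7 F480738)))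
theorem Q92237 : ∀ i, i < 92237 → P i := stepQ 92236 Q92236 (allL N92236 (tt N90628 F396401) (tt N84958 F396402) (tt N114435 (iv2 F490146)) (tt N82997 F396403) (tt N55822 (iv4 D195236)) (tt N110351 (iv5 F471175)) (tt N114078 (iv6 F488483)) (tt N61583 F396400))
theorem Q92238 : ∀ i, i < 92238 → P i := stepQ 92237 Q92237 (allL N92237 (tt N91225 (iv1 F396408)) (tt N61481 F396409) (tt N112360 (iv2 F480734)) (tt N55829 F396404) (tt N76131 F396405) (tt N57281 F396406) (tt N61586 F396407) (tt N55823 (iv7 D195237)))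
theorem Q92239 : ∀ i, i < 92239 → P i := stepQ 92238 Q92238 (allL N92238 (tt N56340 F396415) (tt N56331 F396416) (tt N61566 F396412) (tt N67508 F396413) (tt N55824 (iv4 D195238)) (tt N98016 (iv5 F419177)) (tt N103300 (iv6 F441043)) (tt N61568 F396414))
theorem Q92240 : ∀ i, i < 92240 → P i := stepQ 92239 Q92239 (allL N92239 (tt N116705 F501407) (tt N97788 F418310) (tt N61567 F396417) (tt N68171 F396418) (tt N103300 (iv4 F441042)) (tt N78383 F396419) (tt N55824 (iv6 D195239)) (tt N60855 F396420))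
theorem Q92241 : ∀ i, i < 92241 → P i := stepQ 92240 Q92240 (allL N92240 (tt N56331 F396424) (tt N56340 F396425) (tt N61568 F396421) (tt N87683 F396426) (tt N55825 (iv4 D195240)) (tt N92628 F397684) (tt N60594 F396422) (tt N61566 F396423))
theorem Q92242 : ∀ i, i < 92242 → P i := stepQ 92241 Q92241 (allL N92241 (tt N55833 (iv1 F396429)) (tt N55826 (iv0 D195241)) (tt N61570 (iv2 F396430)) (tt N117749 D221008) (tt N56197 F396428) (tt N93240 (iv5 F400082)) (tt N110281 (iv6 F470816)) (tt N61571 (iv7 F396431)))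
theorem Q92243 : ∀ i, i < 92243 → P i := stepQ 92242 Q92242 (allL N92242 (tt N55826 (iv1 D195242)) (tt N55833 F396432) (tt N61571 (iv2 F396435)) (tt N68721 F396438) (tt N56198 F396434) (tt N68720 (iv5 F396437)) (tt N60530 (iv6 F396436)) (tt N61570 F396433))
theorem Q92244 : ∀ i, i < 92244 → P i := stepQ 92243 Q92243 (allL N92243 (tt N110279 (iv1 F470809)) (tt N113164 (iv0 F484285)) (tt N115405 F495027) (tt N55826 (iv3 D195243)) (tt N82997 F396439) (tt N110335 (iv5 F471099)) (tt N103390 F441407) (tt N61591 F396440))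
theorem Q92245 : ∀ i, i < 92245 → P i := stepQ 92244 Q92244 (allL N92244 (tt N92783 (iv1 F398208)) (tt N56167 F396444) (tt N61573 F396441) (tt N110335 (iv3 F471101)) (tt N98625 (iv4 F421635)) (tt N55826 (iv5 D195244)) (tt N68726 F396442) (tt N61592 F396443))
theorem Q92246 : ∀ i, i < 92246 → P i := stepQ 92245 Q92245 (allL N92245 (tt N62856 (iv1 F396449)) (tt N71995 (iv0 F396450)) (tt N71997 F396445) (tt N111213 (iv3 F475250)) (tt N55832 F396446) (tt N71811 F396447) (tt N55830 (iv6 D195245)) (tt N71966 (iv7 F396448)))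
theorem Q92247 : ∀ i, i < 92247 → P i := stepQ 92246 Q92246 (allL N92246 (tt N55831 (iv1 D195246)) (tt N61543 F396451) (tt N61549 (iv2 F396455)) (tt N114445 (iv3 F490205)) (tt N85023 F396454) (tt N63307 F396453) (tt N85022 (iv6 F396456)) (tt N61550 F396452))
theorem Q92248 : ∀ i, i < 92248 → P i := stepQ 92247 Q92247 (allL N92247 (tt N76315 F396460) (tt N76313 F396461) (tt N76384 F396457) (tt N55834 F396458) (tt N105016 (iv4 F448388)) (tt N55832 (iv5 D195247)) (tt N108778 (iv6 F463885)) (tt N76385 F396459))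
theorem Q92249 : ∀ i, i < 92249 → P i := stepQ 92248 Q92248 (allL N92248 (tt N113147 (iv1 F484191)) (tt N113148 (iv0 F484197)) (tt N92815 (iv2 F398353)) (tt N55833 (iv3 D195248)) (tt N92805 (iv4 F398304)) (tt N77302 (iv5 F396463)) (tt N108779 (iv6 F463891)) (tt N61572 F396462))
theorem Q92250 : ∀ i, i < 92250 → P i := stepQ 92249 Q92249 (allL N92249 (tt N56167 F396467) (tt N92783 F398207) (tt N61592 F396464) (tt N77302 F396465) (tt N98624 (iv4 F421628)) (tt N55833 (iv5 D195249)) (tt N104907 F447880) (tt N61573 F396466))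
theorem Q92251 : ∀ i, i < 92251 → P i := stepQ 92250 Q92250 (allL N92250 (tt N69881 (iv1 F396468)) (tt N55835 (iv0 D195250)) (tt N69880 (iv2 F396475)) (tt N102552 (iv3 F437626)) (tt N101839 (iv4 F434596)) (tt N94630 (iv5 F405310)) (tt N117750 D221009) (tt N69879 F396473))
theorem Q92252 : ∀ i, i < 92252 → P i := stepQ 92251 Q92251 (allL N92251 (tt N55835 (iv1 D195251)) (tt N69881 (iv0 F396472)) (tt N69879 F396470) (tt N93237 (iv3 F400079)) (tt N69934 (iv4 F396469)) (tt N94634 (iv5 F405322)) (tt N66106 F396471) (tt N69880 (iv7 F396474)))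
theorem Q92253 : ∀ i, i < 92253 → P i := stepQ 92252 Q92252 (allL N92252 (tt N69880 (iv1 F396480)) (tt N69879 F396479) (tt N55835 (iv2 D195252)) (tt N67381 F396476) (tt N69738 F396477) (tt N117751 D221010) (tt N116258 (iv6 F499253)) (tt N69881 F396478))
theorem Q92254 : ∀ i, i < 92254 → P i := stepQ 92253 Q92253 (allL N92253 (tt N94636 F434545) (tt N94638 (iv0 F405326)) (tt N117751 (iv2 F506778)) (tt N55836 F396481) (tt N101828 (iv4 F434544)) (tt N55835 (iv5 D195253)) (tt N117752 D221011) (tt N69882 F396482))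
theorem Q92255 : ∀ i, i < 92255 → P i := stepQ 92254 Q92254 (allL N92254 (tt N116253 F499234) (tt N116259 F499257) (tt N116258 (iv2 F499252)) (tt N55837 F396483) (tt N69740 F396484) (tt N98533 (iv5 F455985)) (tt N55835 (iv6 D195254)) (tt N104714 (iv7 F446960)))
theorem Q92256 : ∀ i, i < 92256 → P i := stepQ 92255 Q92255 (allL N92255 (tt N90089 F396487) (tt N98628 F421644) (tt N71077 F396485) (tt N117752 (iv3 F506786)) (tt N70864 F396486) (tt N98688 (iv5 F421855)) (tt N55836 (iv6 D195255)) (tt N111175 (iv7 F475090)))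
theorem Q92257 : ∀ i, i < 92257 → P i := stepQ 92256 Q92256 (allL N92256 (tt N68998 F396489) (tt N103499 F441870) (tt N71078 F396488) (tt N98533 F455986) (tt N117753 D221012) (tt N55837 (iv5 D195256)) (tt N98688 F421859) (tt N103498 F441867))
theorem Q92258 : ∀ i, i < 92258 → P i := stepQ 92257 Q92257 (allL N92257 (tt N55838 (iv1 D195257)) (tt N67381 F396495) (tt N67384 (iv2 F396493)) (tt N66136 (iv3 F396494)) (tt N98015 (iv4 F419172)) (tt N98662 F421782) (tt N98014 F419169) (tt N66129 F396492))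
theorem Q92259 : ∀ i, i < 92259 → P i := stepQ 92258 Q92258 (allL N92258 (tt N66129 (iv1 F396500)) (tt N67384 F396499) (tt N55838 (iv2 D195258)) (tt N69881 F396496) (tt N67197 F396497) (tt N117754 D221013) (tt N117755 D221014) (tt N67381 F396498))
theorem Q92260 : ∀ i, i < 92260 → P i := stepQ 92259 Q92259 (allL N92259 (tt N103750 (iv1 F442671)) (tt N106126 (iv0 F453245)) (tt N117754 (iv2 F506798)) (tt N55839 F396501) (tt N117756 D221015) (tt N55838 (iv5 D195259)) (tt N117757 D221016) (tt N67385 F396502))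
theorem Q92261 : ∀ i, i < 92261 → P i := stepQ 92260 Q92260 (allL N92260 (tt N117758 D221017) (tt N117759 D221018) (tt N117755 (iv2 F506804)) (tt N55840 F396503) (tt N67199 F396504) (tt N116228 F499132) (tt N55838 (iv6 D195260)) (tt N117760 D221019))
theorem Q92262 : ∀ i, i < 92262 → P i := stepQ 92261 Q92261 (allL N92261 (tt N106250 (iv1 F453767)) (tt N75585 (iv0 F442906)) (tt N69884 F396505) (tt N117757 (iv3 F506817)) (tt N70856 F396506) (tt N103602 (iv5 F442198)) (tt N55839 (iv6 D195261)) (tt N117761 D221020))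
theorem Q92263 : ∀ i, i < 92263 → P i := stepQ 92262 Q92262 (allL N92262 (tt N68984 F396509) (tt N68982 F396510) (tt N69885 F396507) (tt N116228 (iv3 F499131)) (tt N80284 F396508) (tt N55840 (iv5 D195262)) (tt N103602 F442197) (tt N103561 (iv7 F442046)))
theorem Q92264 : ∀ i, i < 92264 → P i := stepQ 92263 Q92263 (allL N92263 (tt N67803 (iv1 F396514)) (tt N67855 F396515) (tt N67889 F396511) (tt N117760 (iv3 F506835)) (tt N60369 F396512) (tt N103561 (iv5 F442047)) (tt N71079 F396513) (tt N55840 (iv7 D195263)))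
theorem Q92265 : ∀ i, i < 92265 → P i := stepQ 92264 Q92264 (allL N92264 (tt N104716 (iv1 F446971)) (tt N75734 (iv0 F419050)) (tt N104440 (iv2 F445775)) (tt N102617 (iv3 F437913)) (tt N75709 F396516) (tt N61648 F396517) (tt N55841 (iv6 D195264)) (tt N104715 (iv7 F446964)))
theorem Q92266 : ∀ i, i < 92266 → P i := stepQ 92265 Q92265 (allL N92265 (tt N102551 F437624) (tt N102552 (iv0 F437628)) (tt N102499 (iv2 F437443)) (tt N55842 (iv3 D195265)) (tt N66205 F396518) (tt N117762 D221021) (tt N106137 (iv6 F453309)) (tt N102507 (iv7 F437467)))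
theorem Q92267 : ∀ i, i < 92267 → P i := stepQ 92266 Q92266 (allL N92266 (tt N68871 F396521) (tt N98637 (iv0 F421677)) (tt N98696 (iv2 F421887)) (tt N117762 (iv3 F506846)) (tt N78807 F396519) (tt N55842 (iv5 D195266)) (tt N98707 (iv6 F421944)) (tt N78804 F396520))
theorem Q92268 : ∀ i, i < 92268 → P i := stepQ 92267 Q92267 (allL N92267 (tt N67890 (iv1 F396523)) (tt N113139 (iv0 F484148)) (tt N104439 (iv2 F445769)) (tt N106137 (iv3 F453304)) (tt N70695 F396522) (tt N106132 (iv5 F453281)) (tt N55842 (iv6 D195267)) (tt N106131 (iv7 F453274)))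
theorem Q92269 : ∀ i, i < 92269 → P i := stepQ 92268 Q92268 (allL N92268 (tt N98620 (iv1 F421620)) (tt N104442 F445790) (tt N55844 F396524) (tt N92281 (iv3 F396567)) (tt N93117 (iv4 F399561)) (tt N55843 (iv5 D195268)) (tt N98660 (iv6 F421771)) (tt N104441 (iv7 F445783)))
theorem Q92270 : ∀ i, i < 92270 → P i := stepQ 92269 Q92269 (allL N92269 (tt N104441 (iv1 F445785)) (tt N55844 (iv0 D195269)) (tt N98620 (iv2 F421615)) (tt N92286 F396580) (tt N92831 (iv4 F398412)) (tt N67670 F396525) (tt N61536 F396526) (tt N104442 (iv7 F445791)))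
theorem Q92271 : ∀ i, i < 92271 → P i := stepQ 92270 Q92270 (allL N92270 (tt N61534 (iv1 F396530)) (tt N85865 (iv0 F396529)) (tt N93117 (iv2 F399559)) (tt N106193 (iv3 F453552)) (tt N55844 (iv4 D195270)) (tt N56425 (iv5 F396527)) (tt N78782 F396528) (tt N93115 (iv7 F399548)))
theorem Q92272 : ∀ i, i < 92272 → P i := stepQ 92271 Q92271 (allL N92271 (tt N71071 F396535) (tt N78791 (iv0 F396534)) (tt N98660 (iv2 F421770)) (tt N55847 F396531) (tt N78782 F396532) (tt N66129 F396533) (tt N55844 (iv6 D195271)) (tt N98662 (iv7 F421780)))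
theorem Q92273 : ∀ i, i < 92273 → P i := stepQ 92272 Q92272 (allL N92272 (tt N94630 F439892) (tt N94634 F421953) (tt N117763 D221022) (tt N55845 (iv3 D195272)) (tt N117764 D221023) (tt N61668 F396545) (tt N114420 F490066) (tt N69807 F396546))
theorem Q92274 : ∀ i, i < 92274 → P i := stepQ 92273 Q92273 (allL N92273 (tt N98622 (iv1 F421624)) (tt N98593 (iv0 F421488)) (tt N71073 F396547) (tt N114420 (iv3 F490067)) (tt N70883 F396548) (tt N117765 D221024) (tt N55845 (iv6 D195273)) (tt N98621 (iv7 F453288)))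
theorem Q92275 : ∀ i, i < 92275 → P i := stepQ 92274 Q92274 (allL N92274 (tt N90058 (iv1 F396550)) (tt N55847 (iv0 D195274)) (tt N92286 F396578) (tt N117766 D221025) (tt N71327 F396549) (tt N104583 (iv5 F446404)) (tt N117767 D221026) (tt N92287 (iv7 F396582)))
theorem Q92276 : ∀ i, i < 92276 → P i := stepQ 92275 Q92275 (allL N92275 (tt N55847 (iv1 D195275)) (tt N90058 F396551) (tt N92287 (iv2 F396585)) (tt N104442 (iv3 F445788)) (tt N71328 F396553) (tt N75087 F396552) (tt N98056 (iv6 F421606)) (tt N92286 F396579))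
theorem Q92277 : ∀ i, i < 92277 → P i := stepQ 92276 Q92276 (allL N92276 (tt N92287 (iv1 F396581)) (tt N92286 F396577) (tt N90058 F396554) (tt N98662 F421781) (tt N76082 F396555) (tt N66136 F396556) (tt N104447 (iv6 F445804)) (tt N55847 (iv7 D195276)))
theorem Q92278 : ∀ i, i < 92278 → P i := stepQ 92277 Q92277 (allL N92277 (tt N104357 (iv1 F445413)) (tt N104380 (iv0 F445511)) (tt N56714 F396557) (tt N55848 (iv3 D195277)) (tt N56713 F396558) (tt N117768 D221027) (tt N98616 F421596) (tt N56718 F396559))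
theorem Q92279 : ∀ i, i < 92279 → P i := stepQ 92278 Q92278 (allL N92278 (tt N104485 F445976) (tt N67680 F442299) (tt N103627 (iv2 F442296)) (tt N117768 (iv3 F506870)) (tt N109458 (iv4 F467061)) (tt N55848 (iv5 D195278)) (tt N98686 (iv6 F421847)) (tt N103626 (iv7 F442288)))
theorem Q92280 : ∀ i, i < 92280 → P i := stepQ 92279 Q92279 (allL N92279 (tt N104149 (iv1 F444421)) (tt N69111 (iv0 F421597)) (tt N103628 (iv2 F442300)) (tt N98616 (iv3 F421593)) (tt N82961 F396560) (tt N98615 F421591) (tt N55848 (iv6 D195279)) (tt N82960 F396561))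
theorem Q92281 : ∀ i, i < 92281 → P i := stepQ 92280 Q92280 (allL N92280 (tt N67680 F396565) (tt N104485 (iv0 F445975)) (tt N103626 (iv2 F442285)) (tt N88901 F396562) (tt N75124 (iv4 F396564)) (tt N55849 (iv5 D195280)) (tt N75083 F396563) (tt N103627 (iv7 F442297)))
theorem Q92282 : ∀ i, i < 92282 → P i := stepQ 92281 Q92281 (allL N92281 (tt N103632 (iv1 F442317)) (tt N103631 F442312) (tt N55851 F396566) (tt N92268 F396567) (tt N94486 F404691) (tt N55850 (iv5 D195281)) (tt N69120 F396568) (tt N103629 (iv7 F442303)))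
theorem Q92283 : ∀ i, i < 92283 → P i := stepQ 92282 Q92282 (allL N92282 (tt N103629 (iv1 F442305)) (tt N55851 (iv0 D195282)) (tt N103632 (iv2 F442321)) (tt N117769 D221028) (tt N115079 (iv4 F493380)) (tt N68881 (iv5 F442310)) (tt N98534 F492378) (tt N103631 F442316))
theorem Q92284 : ∀ i, i < 92284 → P i := stepQ 92283 Q92283 (allL N92283 (tt N55851 (iv1 D195283)) (tt N103629 F442304) (tt N103631 F442315) (tt N88921 (iv3 F396569)) (tt N85425 F396570) (tt N68882 F396571) (tt N111174 (iv6 F475084)) (tt N103632 (iv7 F442318)))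
theorem Q92285 : ∀ i, i < 92285 → P i := stepQ 92284 Q92284 (allL N92284 (tt N70339 F396573) (tt N105456 F450595) (tt N94486 (iv2 F404690)) (tt N117770 D221029) (tt N55851 (iv4 D195284)) (tt N70326 (iv5 F396572)) (tt N103720 F442580) (tt N94490 (iv7 F404699)))
theorem Q92286 : ∀ i, i < 92286 → P i := stepQ 92285 Q92285 (allL N92285 (tt N117771 D221030) (tt N116883 (iv0 F502337)) (tt N117772 D221031) (tt N55852 (iv3 D195285)) (tt N117770 (iv4 F506875)) (tt N61908 F396574) (tt N109593 (iv6 F467631)) (tt N71133 F396575))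
theorem Q92287 : ∀ i, i < 92287 → P i := stepQ 92286 Q92286 (allL N92286 (tt N92276 (iv1 F396577)) (tt N55853 (iv0 D195286)) (tt N92274 (iv2 F396578)) (tt N92269 (iv3 F396580)) (tt N64589 F396576) (tt N103659 (iv5 F442394)) (tt N98532 (iv6 F421229)) (tt N92275 (iv7 F396579)))
theorem Q92288 : ∀ i, i < 92288 → P i := stepQ 92287 Q92287 (allL N92287 (tt N55853 (iv1 D195287)) (tt N92276 F396581) (tt N92275 F396585) (tt N117773 D221032) (tt N64907 F396583) (tt N75692 (iv5 F396584)) (tt N61649 (iv6 F421610)) (tt N92274 F396582))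
theorem Q92289 : ∀ i, i < 92289 → P i := stepQ 92288 Q92288 (allL N92288 (tt N55916 (iv1 F396588)) (tt N55854 (iv0 D195288)) (tt N55915 (iv2 F396587)) (tt N56962 F396586) (tt N99320 (iv4 F424080)) (tt N92432 (iv5 F403886)) (tt N117774 D221033) (tt N55914 F396589))
theorem Q92290 : ∀ i, i < 92290 → P i := stepQ 92289 Q92289 (allL N92289 (tt N55915 (iv1 F396595)) (tt N55914 F396594) (tt N55854 (iv2 D195289)) (tt N55897 F396591) (tt N57968 F396592) (tt N92425 (iv5 F396975)) (tt N110084 F469913) (tt N55916 F396593))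
theorem Q92291 : ∀ i, i < 92291 → P i := stepQ 92290 Q92290 (allL N92290 (tt N108022 (iv1 F460774)) (tt N105047 F448553) (tt N92425 (iv2 F396973)) (tt N55855 F396596) (tt N105053 (iv4 F448574)) (tt N55854 (iv5 D195290)) (tt N109688 (iv6 F468114)) (tt N55917 F396597))
theorem Q92292 : ∀ i, i < 92292 → P i := stepQ 92291 Q92291 (allL N92291 (tt N110085 (iv1 F469921)) (tt N108813 (iv0 F464079)) (tt N110084 (iv2 F469914)) (tt N55856 F396598) (tt N57969 F396599) (tt N117775 D221034) (tt N55854 (iv6 D195291)) (tt N74357 (iv7 F396600)))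
theorem Q92293 : ∀ i, i < 92293 → P i := stepQ 92292 Q92292 (allL N92292 (tt N94321 (iv1 F404025)) (tt N94324 (iv0 F404042)) (tt N55904 F396601) (tt N117775 (iv3 F506902)) (tt N117776 D221035) (tt N55856 (iv5 D195292)) (tt N117452 (iv6 F505115)) (tt N74358 F396602))
theorem Q92294 : ∀ i, i < 92294 → P i := stepQ 92293 Q92293 (allL N92293 (tt N55897 (iv1 F396606)) (tt N55857 (iv0 D195293)) (tt N55896 (iv2 F396605)) (tt N61868 F396604) (tt N106034 (iv4 F452822)) (tt N69032 F396603) (tt N112798 (iv6 F482663)) (tt N55895 F396607))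
theorem Q92295 : ∀ i, i < 92295 → P i := stepQ 92294 Q92294 (allL N92294 (tt N117777 D221036) (tt N94234 (iv0 F403795)) (tt N108024 (iv2 F460783)) (tt N55859 F396608) (tt N66352 F396609) (tt N117778 D221037) (tt N55857 (iv6 D195294)) (tt N74716 (iv7 F396610)))
theorem Q92296 : ∀ i, i < 92296 → P i := stepQ 92295 Q92295 (allL N92295 (tt N95400 F410928) (tt N95404 (iv0 F445467)) (tt N55919 F396611) (tt N92426 (iv3 F396980)) (tt N71045 F396612) (tt N117779 D221038) (tt N55858 (iv6 D195295)) (tt N117451 (iv7 F505108)))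
theorem Q92297 : ∀ i, i < 92297 → P i := stepQ 92296 Q92296 (allL N92296 (tt N55923 (iv1 F396616)) (tt N55859 (iv0 D195296)) (tt N55920 (iv2 F396615)) (tt N101193 (iv3 F432121)) (tt N56944 F396613) (tt N117608 (iv5 F505978)) (tt N71937 F396614) (tt N55921 F396617))
theorem Q92298 : ∀ i, i < 92298 → P i := stepQ 92297 Q92297 (allL N92297 (tt N117780 D221039) (tt N117781 D221040) (tt N55922 F396618) (tt N117778 (iv3 F506919)) (tt N116844 (iv4 F502137)) (tt N55859 (iv5 D195297)) (tt N117779 (iv6 F506927)) (tt N74717 F396619))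
theorem Q92299 : ∀ i, i < 92299 → P i := stepQ 92298 Q92298 (allL N92298 (tt N55945 (iv1 F396622)) (tt N55860 (iv0 D195298)) (tt N55944 (iv2 F396621)) (tt N57047 F396620) (tt N93762 (iv4 F401809)) (tt N108022 (iv5 F460776)) (tt N99733 F425967) (tt N55943 F396623))
theorem Q92300 : ∀ i, i < 92300 → P i := stepQ 92299 Q92299 (allL N92299 (tt N55944 (iv1 F396628)) (tt N55943 F396627) (tt N55860 (iv2 D195299)) (tt N55930 F396624) (tt N56757 F396625) (tt N94225 F403759) (tt N117782 D221041) (tt N55945 F396626))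
theorem Q92301 : ∀ i, i < 92301 → P i := stepQ 92300 Q92300 (allL N92300 (tt N92386 (iv1 F403884)) (tt N92388 F400473) (tt N94225 (iv2 F403756)) (tt N55861 F396629) (tt N105524 (iv4 F450572)) (tt N55860 (iv5 D195300)) (tt N94223 F403752) (tt N55946 F396630))
theorem Q92302 : ∀ i, i < 92302 → P i := stepQ 92301 Q92301 (allL N92301 (tt N117783 D221042) (tt N108337 (iv0 F462133)) (tt N117782 (iv2 F506944)) (tt N55862 F396631) (tt N56759 F396632) (tt N92417 (iv5 F396948)) (tt N55860 (iv6 D195301)) (tt N106961 (iv7 F456459)))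
theorem Q92303 : ∀ i, i < 92303 → P i := stepQ 92302 Q92302 (allL N92302 (tt N57539 F396636) (tt N82309 F396637) (tt N55934 F396633) (tt N94223 (iv3 F403750)) (tt N69437 F396634) (tt N57567 F396635) (tt N55861 (iv6 D195302)) (tt N94226 (iv7 F403766)))
theorem Q92304 : ∀ i, i < 92304 → P i := stepQ 92303 Q92303 (allL N92303 (tt N95576 F408723) (tt N95579 F408732) (tt N55948 F396638) (tt N55920 F396639) (tt N62662 F396640) (tt N117784 D221043) (tt N55865 (iv6 D195303)) (tt N94227 (iv7 F403779)))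
theorem Q92305 : ∀ i, i < 92305 → P i := stepQ 92304 Q92304 (allL N92304 (tt N55952 (iv1 F396646)) (tt N55866 (iv0 D195304)) (tt N55949 (iv2 F396642)) (tt N74267 F396647) (tt N57032 F396641) (tt N74264 (iv5 F396644)) (tt N102269 F436473) (tt N55950 (iv7 F396643)))
theorem Q92306 : ∀ i, i < 92306 → P i := stepQ 92305 Q92305 (allL N92305 (tt N55866 (iv1 D195305)) (tt N55952 F396648) (tt N55950 (iv2 F396651)) (tt N106102 (iv3 F453114)) (tt N57033 F396650) (tt N94248 (iv5 F403827)) (tt N94195 (iv6 F403656)) (tt N55949 F396649))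
theorem Q92307 : ∀ i, i < 92307 → P i := stepQ 92306 Q92306 (allL N92306 (tt N92496 F397163) (tt N77728 F396655) (tt N55951 F396652) (tt N71945 F396653) (tt N81273 F396654) (tt N55866 (iv5 D195306)) (tt N117784 (iv6 F506955)) (tt N81272 (iv7 F396656)))
theorem Q92308 : ∀ i, i < 92308 → P i := stepQ 92307 Q92307 (allL N92307 (tt N55950 (iv1 F396662)) (tt N55949 F396663) (tt N55952 F396657) (tt N71946 F396658) (tt N55868 F396659) (tt N81272 F396660) (tt N55937 F396661) (tt N55866 (iv7 D195307)))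
theorem Q92309 : ∀ i, i < 92309 → P i := stepQ 92308 Q92308 (allL N92308 (tt N55873 (iv1 F396673)) (tt N55871 F396675) (tt N55869 (iv2 D195308)) (tt N117785 D221044) (tt N105352 (iv4 F449841)) (tt N94364 (iv5 F404141)) (tt N55979 F396664) (tt N55870 (iv7 F396665)))
theorem Q92310 : ∀ i, i < 92310 → P i := stepQ 92309 Q92309 (allL N92309 (tt N71770 F396669) (tt N66384 F396668) (tt N105352 (iv2 F449839)) (tt N82183 F396666) (tt N55869 (iv4 D195309)) (tt N104658 (iv5 F446730)) (tt N55982 F396667) (tt N112043 (iv7 F479227)))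
theorem Q92311 : ∀ i, i < 92311 → P i := stepQ 92310 Q92310 (allL N92310 (tt N55871 (iv1 F396674)) (tt N55873 (iv0 F396672)) (tt N55870 F396670) (tt N55991 F396671) (tt N112043 (iv4 F479225)) (tt N94374 (iv5 F404175)) (tt N108044 (iv6 F460864)) (tt N55869 (iv7 D195310)))
theorem Q92312 : ∀ i, i < 92312 → P i := stepQ 92311 Q92311 (allL N92311 (tt N101856 F434693) (tt N99052 (iv0 F423154)) (tt N117786 D221045) (tt N55870 (iv3 D195311)) (tt N73475 F396676) (tt N116609 (iv5 F500952)) (tt N117787 D221046) (tt N117785 (iv7 F506963)))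
theorem Q92313 : ∀ i, i < 92313 → P i := stepQ 92312 Q92312 (allL N92312 (tt N66384 (iv1 F438371)) (tt N71770 F396677) (tt N112043 (iv2 F479223)) (tt N66378 F396678) (tt N55870 (iv4 D195312)) (tt N104851 (iv5 F447621)) (tt N100352 (iv6 F447321)) (tt N105352 (iv7 F449840)))
theorem Q92314 : ∀ i, i < 92314 → P i := stepQ 92313 Q92313 (allL N92313 (tt N92335 (iv1 F396743)) (tt N94373 F404176) (tt N94374 (iv2 F404173)) (tt N116609 F500953) (tt N116611 (iv4 F500962)) (tt N55870 (iv5 D195313)) (tt N116607 (iv6 F500954)) (tt N94364 F404142))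
theorem Q92315 : ∀ i, i < 92315 → P i := stepQ 92314 Q92314 (allL N92314 (tt N93695 (iv1 F447323)) (tt N108042 F460857) (tt N108044 (iv2 F460861)) (tt N117787 (iv3 F506971)) (tt N100352 F447322) (tt N117788 D221047) (tt N55870 (iv6 D195314)) (tt N108040 (iv7 F460849)))
theorem Q92316 : ∀ i, i < 92316 → P i := stepQ 92315 Q92315 (allL N92315 (tt N106118 (iv1 F453210)) (tt N106117 F453202) (tt N55872 F396679) (tt N55979 F396680) (tt N96131 (iv4 F411188)) (tt N55871 (iv5 D195315)) (tt N117785 (iv6 F506962)) (tt N106119 (iv7 F453213)))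
theorem Q92317 : ∀ i, i < 92317 → P i := stepQ 92316 Q92316 (allL N92316 (tt N106119 (iv1 F453214)) (tt N55872 (iv0 D195316)) (tt N106118 F453209) (tt N99055 (iv3 F438373)) (tt N117789 D221048) (tt N74261 F438372) (tt N117790 D221049) (tt N106117 F453205))
theorem Q92318 : ∀ i, i < 92318 → P i := stepQ 92317 Q92317 (allL N92317 (tt N55872 (iv1 D195317)) (tt N106119 F453215) (tt N106117 F453204) (tt N117791 D221050) (tt N117792 D221051) (tt N74262 F396681) (tt N106970 (iv6 F456481)) (tt N106118 (iv7 F453206)))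
theorem Q92319 : ∀ i, i < 92319 → P i := stepQ 92318 Q92318 (allL N92318 (tt N110463 F471701) (tt N110468 F471722) (tt N96131 (iv2 F411187)) (tt N66510 F396682) (tt N55872 (iv4 D195318)) (tt N66509 F396683) (tt N73466 (iv6 F396684)) (tt N93656 (iv7 F401460)))
theorem Q92320 : ∀ i, i < 92320 → P i := stepQ 92319 Q92319 (allL N92319 (tt N99052 F423156) (tt N101856 (iv0 F434691)) (tt N117785 (iv2 F506960)) (tt N55874 F396685) (tt N73466 F396686) (tt N94208 (iv5 F403708)) (tt N55872 (iv6 D195319)) (tt N117786 (iv7 F506968)))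
theorem Q92321 : ∀ i, i < 92321 → P i := stepQ 92320 Q92320 (allL N92320 (tt N92442 (iv1 F397008)) (tt N111604 F477126) (tt N100702 (iv2 F430090)) (tt N55875 F396687) (tt N66260 F396688) (tt N117793 D221052) (tt N55873 (iv6 D195320)) (tt N94209 (iv7 F403712)))
theorem Q92322 : ∀ i, i < 92322 → P i := stepQ 92321 Q92321 (allL N92321 (tt N55991 F396692) (tt N55874 (iv0 D195321)) (tt N55989 F396693) (tt N70975 F396690) (tt N71817 F396689) (tt N99057 (iv5 F423171)) (tt N117794 D221053) (tt N55990 (iv7 F396691)))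
theorem Q92323 : ∀ i, i < 92323 → P i := stepQ 92322 Q92322 (allL N92322 (tt N55874 (iv1 D195322)) (tt N55991 F396695) (tt N55990 (iv2 F396697)) (tt N55958 (iv3 F396698)) (tt N93740 (iv4 F401729)) (tt N99054 (iv5 F423163)) (tt N94331 (iv6 F404066)) (tt N55989 F396696))
theorem Q92324 : ∀ i, i < 92324 → P i := stepQ 92323 Q92323 (allL N92323 (tt N55990 (iv1 F396701)) (tt N55989 F396702) (tt N55991 F396699) (tt N117786 (iv3 F506966)) (tt N74017 F396700) (tt N94212 (iv5 F403717)) (tt N106123 (iv6 F453230)) (tt N55874 (iv7 D195323)))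
theorem Q92325 : ∀ i, i < 92325 → P i := stepQ 92324 Q92324 (allL N92324 (tt N94407 (iv1 F404330)) (tt N94406 F404327) (tt N55995 F396703) (tt N117793 (iv3 F507000)) (tt N74733 F396704) (tt N55875 (iv5 D195324)) (tt N106122 (iv6 F453223)) (tt N94213 (iv7 F403724)))
theorem Q92326 : ∀ i, i < 92326 → P i := stepQ 92325 Q92325 (allL N92325 (tt N66350 (iv1 F396712)) (tt N66349 F396711) (tt N55876 (iv2 D195325)) (tt N66274 F396707) (tt N55897 F396708) (tt N71005 F396709) (tt N117795 D221054) (tt N66351 F396710))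
theorem Q92327 : ∀ i, i < 92327 → P i := stepQ 92326 Q92326 (allL N92326 (tt N89265 F396715) (tt N117796 D221055) (tt N117795 (iv2 F507010)) (tt N55877 F396713) (tt N55899 F396714) (tt N117797 D221056) (tt N55876 (iv6 D195326)) (tt N71531 (iv7 F396716)))
theorem Q92328 : ∀ i, i < 92328 → P i := stepQ 92327 Q92327 (allL N92327 (tt N71220 F396720) (tt N71223 F396721) (tt N66276 F396717) (tt N117797 (iv3 F507022)) (tt N106620 (iv4 F455073)) (tt N55877 (iv5 D195327)) (tt N71008 F396718) (tt N71532 F396719))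
theorem Q92329 : ∀ i, i < 92329 → P i := stepQ 92328 Q92328 (allL N92328 (tt N55879 (iv1 D195328)) (tt N96805 F414040) (tt N58481 F396725) (tt N96850 (iv3 F414245)) (tt N59468 (iv4 F396724)) (tt N99230 (iv5 F423770)) (tt N106809 F455776) (tt N96804 (iv7 F414028)))
theorem Q92330 : ∀ i, i < 92330 → P i := stepQ 92329 Q92329 (allL N92329 (tt N96804 (iv1 F414033)) (tt N58481 F396726) (tt N55879 (iv2 D195329)) (tt N92530 (iv3 F397264)) (tt N95925 (iv4 F410290)) (tt N92529 F397262) (tt N111442 F476386) (tt N96805 (iv7 F414038)))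
theorem Q92331 : ∀ i, i < 92331 → P i := stepQ 92330 Q92330 (allL N92330 (tt N78446 F396728) (tt N111444 F476399) (tt N111442 (iv2 F476387)) (tt N55880 F396727) (tt N95926 (iv4 F410296)) (tt N111984 (iv5 F478964)) (tt N55879 (iv6 D195330)) (tt N111443 (iv7 F476389)))
theorem Q92332 : ∀ i, i < 92332 → P i := stepQ 92331 Q92331 (allL N92331 (tt N58661 F396729) (tt N58664 F396730) (tt N96803 (iv2 F414024)) (tt N111984 F478965) (tt N117798 D221057) (tt N55880 (iv5 D195331)) (tt N106115 (iv6 F453191)) (tt N114104 (iv7 F488576)))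
theorem Q92333 : ∀ i, i < 92333 → P i := stepQ 92332 Q92332 (allL N92332 (tt N95745 (iv1 F409422)) (tt N65827 (iv0 F396732)) (tt N95418 (iv2 F408151)) (tt N60700 F396731) (tt N95309 (iv4 F407808)) (tt N102019 (iv5 F435374)) (tt N55881 (iv6 D195332)) (tt N102019 (iv7 F435375)))
theorem Q92334 : ∀ i, i < 92334 → P i := stepQ 92333 Q92333 (allL N92333 (tt N73423 (iv1 F396733)) (tt N55883 (iv0 D195333)) (tt N74262 (iv2 F396738)) (tt N99673 (iv3 F425693)) (tt N117068 (iv4 F503219)) (tt N106117 (iv5 F453203)) (tt N117067 (iv6 F503216)) (tt N74261 (iv7 F396740)))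
theorem Q92335 : ∀ i, i < 92335 → P i := stepQ 92334 Q92334 (allL N92334 (tt N55883 (iv1 D195334)) (tt N73423 F396734) (tt N74261 F396739) (tt N117799 D221058) (tt N66322 (iv4 F396735)) (tt N106118 (iv5 F453207)) (tt N66331 F396736) (tt N74262 F396737))
theorem Q92336 : ∀ i, i < 92336 → P i := stepQ 92335 Q92335 (allL N92335 (tt N57617 (iv1 F404144)) (tt N92313 F396743) (tt N107576 (iv2 F458815)) (tt N55884 F396741) (tt N108664 (iv4 F463439)) (tt N55883 (iv5 D195335)) (tt N117800 D221059) (tt N74263 F396742))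
theorem Q92337 : ∀ i, i < 92337 → P i := stepQ 92336 Q92336 (allL N92336 (tt N107588 F463146) (tt N107578 (iv0 F458827)) (tt N107577 (iv2 F458821)) (tt N55885 F396744) (tt N66283 F396745) (tt N113362 (iv5 F485182)) (tt N55883 (iv6 D195336)) (tt N107586 (iv7 F458856)))
theorem Q92338 : ∀ i, i < 92338 → P i := stepQ 92337 Q92337 (allL N92337 (tt N117801 D221060) (tt N117802 D221061) (tt N60116 F396746) (tt N117800 (iv3 F507035)) (tt N58421 F396747) (tt N117803 D221062) (tt N55884 (iv6 D195337)) (tt N108587 (iv7 F463167)))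
theorem Q92339 : ∀ i, i < 92339 → P i := stepQ 92338 Q92338 (allL N92338 (tt N55885 (iv1 D195338)) (tt N60115 F396748) (tt N60113 (iv2 F396751)) (tt N117804 D221063) (tt N58393 F396750) (tt N117805 D221064) (tt N74728 (iv6 F396752)) (tt N60112 F396749))
theorem Q92340 : ∀ i, i < 92340 → P i := stepQ 92339 Q92339 (allL N92339 (tt N110715 (iv1 F472877)) (tt N57601 F396754) (tt N60114 F396753) (tt N113362 (iv3 F485179)) (tt N100814 (iv4 F430601)) (tt N55885 (iv5 D195339)) (tt N117803 (iv6 F507050)) (tt N110713 (iv7 F472865)))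
theorem Q92341 : ∀ i, i < 92341 → P i := stepQ 92340 Q92340 (allL N92340 (tt N60113 (iv1 F396758)) (tt N60112 F396759) (tt N60115 F396755) (tt N107586 F458857) (tt N55888 F396756) (tt N110713 (iv5 F472866)) (tt N74268 F396757) (tt N55885 (iv7 D195340)))
theorem Q92342 : ∀ i, i < 92342 → P i := stepQ 92341 Q92341 (allL N92341 (tt N94271 (iv1 F403914)) (tt N55891 (iv0 F396763)) (tt N60108 F396760) (tt N117806 D221065) (tt N55886 (iv4 D195341)) (tt N117807 D221066) (tt N74371 F396761) (tt N60110 F396762))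
theorem Q92343 : ∀ i, i < 92343 → P i := stepQ 92342 Q92342 (allL N92342 (tt N55891 F396767) (tt N94271 F403913) (tt N60110 F396764) (tt N117808 D221067) (tt N55887 (iv4 D195342)) (tt N117809 D221068) (tt N71941 F396765) (tt N60108 F396766))
theorem Q92344 : ∀ i, i < 92344 → P i := stepQ 92343 Q92343 (allL N92343 (tt N72491 (iv1 F396769)) (tt N55889 (iv0 D195343)) (tt N72490 (iv2 F396777)) (tt N106431 (iv3 F454406)) (tt N110990 (iv4 F474120)) (tt N73819 F396768) (tt N101190 (iv6 F432110)) (tt N72489 (iv7 F396770)))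
theorem Q92345 : ∀ i, i < 92345 → P i := stepQ 92344 Q92344 (allL N92344 (tt N55889 (iv1 D195344)) (tt N72491 (iv0 F396775)) (tt N72489 F396772) (tt N102305 F436636) (tt N72547 (iv4 F396771)) (tt N73818 F396774) (tt N89507 F396773) (tt N72490 (iv7 F396776)))
theorem Q92346 : ∀ i, i < 92346 → P i := stepQ 92345 Q92345 (allL N92345 (tt N72490 (iv1 F396782)) (tt N72489 F396781) (tt N55889 (iv2 D195345)) (tt N74116 F396778) (tt N58130 F396779) (tt N74494 (iv5 F396783)) (tt N117810 D221069) (tt N72491 F396780))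
theorem Q92347 : ∀ i, i < 92347 → P i := stepQ 92346 Q92346 (allL N92346 (tt N105046 (iv1 F448547)) (tt N105048 (iv0 F448555)) (tt N74494 F396785) (tt N55890 F396786) (tt N69062 F396788) (tt N55889 (iv5 D195346)) (tt N72741 (iv6 F396789)) (tt N72492 F396787))
theorem Q92348 : ∀ i, i < 92348 → P i := stepQ 92347 Q92347 (allL N92347 (tt N117811 D221070) (tt N117812 D221071) (tt N117810 (iv2 F507081)) (tt N55891 F396790) (tt N58125 F396791) (tt N117813 D221072) (tt N55889 (iv6 D195347)) (tt N117814 D221073))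
theorem Q92349 : ∀ i, i < 92349 → P i := stepQ 92348 Q92348 (allL N92348 (tt N108575 F463117) (tt N108582 F463145) (tt N92422 (iv2 F396960)) (tt N72741 F396792) (tt N58583 F396793) (tt N117815 D221074) (tt N55890 (iv6 D195348)) (tt N108580 F463140))
theorem Q92350 : ∀ i, i < 92350 → P i := stepQ 92349 Q92349 (allL N92349 (tt N117816 D221075) (tt N57576 F396794) (tt N95321 (iv2 F407843)) (tt N117813 (iv3 F507088)) (tt N117817 D221076) (tt N55891 (iv5 D195349)) (tt N117815 (iv6 F507095)) (tt N117818 D221077))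
theorem Q92351 : ∀ i, i < 92351 → P i := stepQ 92350 Q92350 (allL N92350 (tt N60110 (iv1 F396797)) (tt N60108 F396798) (tt N94271 (iv2 F403910)) (tt N117814 (iv3 F507091)) (tt N56947 F396795) (tt N117818 (iv5 F507109)) (tt N72497 F396796) (tt N55891 (iv7 D195350)))
theorem Q92352 : ∀ i, i < 92352 → P i := stepQ 92351 Q92351 (allL N92351 (tt N55892 (iv1 D195351)) (tt N74116 F396803) (tt N74119 (iv2 F396804)) (tt N107574 (iv3 F458805)) (tt N95581 (iv4 F408747)) (tt N99076 (iv5 F423251)) (tt N95579 F408738) (tt N74120 (iv7 F396805)))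
theorem Q92353 : ∀ i, i < 92353 → P i := stepQ 92352 Q92352 (allL N92352 (tt N74120 (iv1 F396807)) (tt N74119 F396802) (tt N55892 (iv2 D195352)) (tt N72491 F396799) (tt N62638 F396800) (tt N96257 (iv5 F411770)) (tt N117819 D221078) (tt N74116 F396801))
theorem Q92354 : ∀ i, i < 92354 → P i := stepQ 92353 Q92353 (allL N92353 (tt N92551 F397345) (tt N60320 F404256) (tt N96257 F411769) (tt N55893 F396808) (tt N94390 (iv4 F404223)) (tt N55892 (iv5 D195353)) (tt N117820 D221079) (tt N74121 F396809))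
theorem Q92355 : ∀ i, i < 92355 → P i := stepQ 92354 Q92354 (allL N92354 (tt N117821 D221080) (tt N117822 D221081) (tt N117819 (iv2 F507112)) (tt N55894 F396810) (tt N62640 F396811) (tt N117823 D221082) (tt N55892 (iv6 D195354)) (tt N94269 (iv7 F403908)))
theorem Q92356 : ∀ i, i < 92356 → P i := stepQ 92355 Q92355 (allL N92355 (tt N117824 D221083) (tt N117825 D221084) (tt N72494 F396812) (tt N117820 (iv3 F507118)) (tt N58585 F396813) (tt N116379 (iv5 F499794)) (tt N55893 (iv6 D195355)) (tt N116597 (iv7 F500913)))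
theorem Q92357 : ∀ i, i < 92357 → P i := stepQ 92356 Q92356 (allL N92356 (tt N104721 (iv1 F446983)) (tt N104725 (iv0 F447000)) (tt N72496 F396814) (tt N117823 (iv3 F507132)) (tt N116380 (iv4 F499800)) (tt N55894 (iv5 D195356)) (tt N116379 F499797) (tt N94270 (iv7 F403909)))
theorem Q92358 : ∀ i, i < 92358 → P i := stepQ 92357 Q92357 (allL N92357 (tt N107574 (iv1 F458807)) (tt N74303 (iv0 F396818)) (tt N61864 (iv2 F396817)) (tt N55895 (iv3 D195357)) (tt N61766 F396816) (tt N99880 (iv5 F426660)) (tt N117826 D221085) (tt N61868 F396815))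
theorem Q92359 : ∀ i, i < 92359 → P i := stepQ 92358 Q92358 (allL N92358 (tt N117827 D221086) (tt N117808 F507076) (tt N106564 (iv2 F454878)) (tt N117826 (iv3 F507152)) (tt N106562 (iv4 F454869)) (tt N117828 D221087) (tt N55895 (iv6 D195358)) (tt N117829 D221088))
theorem Q92360 : ∀ i, i < 92360 → P i := stepQ 92359 Q92359 (allL N92359 (tt N106429 F454394) (tt N106431 (iv0 F454404)) (tt N102705 (iv2 F438279)) (tt N55896 (iv3 D195359)) (tt N102704 (iv4 F438278)) (tt N106963 (iv5 F456465)) (tt N92452 F404356) (tt N106563 (iv7 F454875)))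
theorem Q92361 : ∀ i, i < 92361 → P i := stepQ 92360 Q92360 (allL N92360 (tt N106577 F500049) (tt N117830 D221089) (tt N55899 F396819) (tt N110084 (iv3 F469915)) (tt N117795 (iv4 F507012)) (tt N100113 (iv5 F438449)) (tt N55897 (iv6 D195361)) (tt N117831 D221090))
theorem Q92362 : ∀ i, i < 92362 → P i := stepQ 92361 Q92361 (allL N92361 (tt N117831 (iv1 F507175)) (tt N55899 (iv0 D195362)) (tt N106577 (iv2 F454931)) (tt N108815 (iv3 F464092)) (tt N100251 F428133) (tt N117832 D221091) (tt N94237 (iv6 F472360)) (tt N117830 (iv7 F507166)))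
theorem Q92363 : ∀ i, i < 92363 → P i := stepQ 92362 Q92362 (allL N92362 (tt N55899 (iv1 D195363)) (tt N117831 F507174) (tt N117830 (iv2 F507169)) (tt N102729 (iv3 F438387)) (tt N100250 (iv4 F428131)) (tt N117833 D221092) (tt N117072 (iv6 F503245)) (tt N106577 (iv7 F454929)))
theorem Q92364 : ∀ i, i < 92364 → P i := stepQ 92363 Q92363 (allL N92363 (tt N100048 F427368) (tt N100114 F427538) (tt N100113 (iv2 F438448)) (tt N55904 F396820) (tt N117834 D221093) (tt N55899 (iv5 D195364)) (tt N92373 F396853) (tt N100112 F464786))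
theorem Q92365 : ∀ i, i < 92365 → P i := stepQ 92364 Q92364 (allL N92364 (tt N117830 (iv1 F507165)) (tt N106577 (iv0 F454930)) (tt N117831 (iv2 F507170)) (tt N55905 F396821) (tt N71531 F396822) (tt N100112 (iv5 F464784)) (tt N74716 F396823) (tt N55899 (iv7 D195365)))
theorem Q92366 : ∀ i, i < 92366 → P i := stepQ 92365 Q92365 (allL N92365 (tt N73819 F396827) (tt N73818 F396830) (tt N73404 (iv2 F396828)) (tt N55900 (iv3 D195366)) (tt N62392 F396826) (tt N55926 F396824) (tt N63146 (iv6 F396829)) (tt N69704 F396825))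
theorem Q92367 : ∀ i, i < 92367 → P i := stepQ 92366 Q92366 (allL N92366 (tt N106124 F453237) (tt N92444 (iv0 F397011)) (tt N95319 (iv2 F407838)) (tt N63146 F396831) (tt N59812 F396832) (tt N108832 (iv5 F464166)) (tt N55900 (iv6 D195367)) (tt N92552 (iv7 F397348)))
theorem Q92368 : ∀ i, i < 92368 → P i := stepQ 92367 Q92367 (allL N92367 (tt N55901 (iv1 D195368)) (tt N76052 F396833) (tt N63160 F396836) (tt N102747 (iv3 F438469)) (tt N59818 (iv4 F396835)) (tt N117835 D221094) (tt N117836 D221095) (tt N76053 F396834))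
theorem Q92369 : ∀ i, i < 92369 → P i := stepQ 92368 Q92368 (allL N92368 (tt N100100 (iv1 F427517)) (tt N110576 (iv0 F472208)) (tt N117452 (iv2 F505112)) (tt N92373 F396852) (tt N116643 (iv4 F501111)) (tt N55901 (iv5 D195369)) (tt N55904 F396837) (tt N117450 (iv7 F505100)))
theorem Q92370 : ∀ i, i < 92370 → P i := stepQ 92369 Q92369 (allL N92369 (tt N57592 F396839) (tt N102742 F438445) (tt N95333 (iv2 F407885)) (tt N113286 (iv3 F484854)) (tt N99631 (iv4 F425502)) (tt N55902 (iv5 D195370)) (tt N99630 F425500) (tt N72611 F396838))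
theorem Q92371 : ∀ i, i < 92371 → P i := stepQ 92370 Q92370 (allL N92370 (tt N102742 (iv1 F438446)) (tt N57592 F396841) (tt N72611 F396840) (tt N117449 (iv3 F505092)) (tt N100101 (iv4 F427518)) (tt N55903 (iv5 D195371)) (tt N63170 (iv6 F396842)) (tt N95333 (iv7 F407887)))
theorem Q92372 : ∀ i, i < 92372 → P i := stepQ 92371 Q92371 (allL N92371 (tt N74370 F396846) (tt N74371 (iv0 F396847)) (tt N72612 F396843) (tt N107351 F458058) (tt N61826 F396844) (tt N63171 F396845) (tt N55903 (iv6 D195372)) (tt N94247 (iv7 F403825)))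
theorem Q92373 : ∀ i, i < 92373 → P i := stepQ 92372 Q92372 (allL N92372 (tt N74358 (iv1 F396849)) (tt N55904 (iv0 D195373)) (tt N94321 (iv2 F404022)) (tt N113288 F484865) (tt N117470 (iv4 F505195)) (tt N66335 F396848) (tt N116681 (iv6 F501281)) (tt N94324 (iv7 F404041)))
theorem Q92374 : ∀ i, i < 92374 → P i := stepQ 92373 Q92373 (allL N92373 (tt N55904 (iv1 D195374)) (tt N74358 F396850) (tt N94324 (iv2 F404040)) (tt N92368 (iv3 F396852)) (tt N117837 D221096) (tt N66336 F396851) (tt N92363 (iv6 F396853)) (tt N94321 (iv7 F404023)))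
theorem Q92375 : ∀ i, i < 92375 → P i := stepQ 92374 Q92374 (allL N92374 (tt N77762 F404053) (tt N108826 (iv0 F464145)) (tt N117776 (iv2 F506906)) (tt N91350 (iv3 F396855)) (tt N55904 (iv4 D195375)) (tt N77726 F396854) (tt N116643 (iv6 F501112)) (tt N117838 D221097))
theorem Q92376 : ∀ i, i < 92376 → P i := stepQ 92375 Q92375 (allL N92375 (tt N94324 (iv1 F404043)) (tt N94321 (iv0 F404024)) (tt N74358 F396856) (tt N100112 F464785) (tt N117838 (iv4 F507201)) (tt N55905 F396857) (tt N116843 (iv6 F502132)) (tt N55904 (iv7 D195376)))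
theorem Q92377 : ∀ i, i < 92377 → P i := stepQ 92376 Q92376 (allL N92376 (tt N77761 F396861) (tt N66331 (iv0 F396862)) (tt N63124 F396858) (tt N55906 (iv3 D195377)) (tt N63800 F396859) (tt N108826 (iv5 F464143)) (tt N94251 (iv6 F403835)) (tt N74359 F396860))
theorem Q92378 : ∀ i, i < 92378 → P i := stepQ 92377 Q92377 (allL N92377 (tt N57604 F396866) (tt N74364 F396867) (tt N62591 F396863) (tt N108826 (iv3 F464142)) (tt N77727 F396865) (tt N55906 (iv5 D195378)) (tt N117839 D221098) (tt N74360 F396864))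
theorem Q92379 : ∀ i, i < 92379 → P i := stepQ 92378 Q92378 (allL N92378 (tt N57385 (iv1 F396873)) (tt N55908 (iv0 D195379)) (tt N57382 (iv2 F396871)) (tt N77522 F396870) (tt N57787 F396869) (tt N66329 F396868) (tt N100389 (iv6 F428750)) (tt N57383 F396872))
theorem Q92380 : ∀ i, i < 92380 → P i := stepQ 92379 Q92379 (allL N92379 (tt N71370 F396877) (tt N71368 F396878) (tt N57384 F396874) (tt N91376 F396875) (tt N77725 F396879) (tt N55908 (iv5 D195380)) (tt N114876 (iv6 F492288)) (tt N91356 F396876))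
theorem Q92381 : ∀ i, i < 92381 → P i := stepQ 92380 Q92380 (allL N92380 (tt N57383 (iv1 F396885)) (tt N57382 F396886) (tt N57385 F396881) (tt N97077 F415361) (tt N55909 F396882) (tt N91356 F396883) (tt N57372 F396884) (tt N55908 (iv7 D195381)))
theorem Q92382 : ∀ i, i < 92382 → P i := stepQ 92381 Q92381 (allL N92381 (tt N57968 (iv1 F396889)) (tt N55911 (iv0 D195382)) (tt N57967 (iv2 F405999)) (tt N72447 F396888) (tt N117840 D221099) (tt N93289 (iv5 F406022)) (tt N117841 D221100) (tt N57966 (iv7 F406000)))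
theorem Q92383 : ∀ i, i < 92383 → P i := stepQ 92382 Q92382 (allL N92382 (tt N55911 (iv1 D195383)) (tt N57968 F396894) (tt N57966 F405997) (tt N81963 F400474) (tt N98843 (iv4 F422540)) (tt N93290 F400471) (tt N81960 (iv6 F400472)) (tt N57967 F405998))
theorem Q92384 : ∀ i, i < 92384 → P i := stepQ 92383 Q92383 (allL N92383 (tt N57967 (iv1 F396895)) (tt N57966 F396893) (tt N55911 (iv2 D195384)) (tt N58077 F396890) (tt N55916 F396891) (tt N105376 (iv5 F449957)) (tt N116828 (iv6 F502043)) (tt N57968 F396892))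
theorem Q92385 : ∀ i, i < 92385 → P i := stepQ 92384 Q92384 (allL N92384 (tt N89474 F396899) (tt N105434 (iv0 F450253)) (tt N116828 F502044) (tt N55912 F396896) (tt N55918 F396897) (tt N116992 (iv5 F502861)) (tt N55911 (iv6 D195385)) (tt N73057 F396898))
theorem Q92386 : ∀ i, i < 92386 → P i := stepQ 92385 Q92385 (allL N92385 (tt N95083 F406976) (tt N73557 (iv0 F396902)) (tt N58079 F396900) (tt N116992 (iv3 F502859)) (tt N107861 (iv4 F460035)) (tt N55912 (iv5 D195386)) (tt N105380 (iv6 F449974)) (tt N73058 F396901))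
theorem Q92387 : ∀ i, i < 92387 → P i := stepQ 92386 Q92386 (allL N92386 (tt N92431 (iv1 F403888)) (tt N92300 F403884) (tt N92433 F403882) (tt N102311 (iv3 F436663)) (tt N72085 (iv4 F432129)) (tt N55914 (iv5 D195387)) (tt N117842 D221101) (tt N92432 (iv7 F403887)))
theorem Q92388 : ∀ i, i < 92388 → P i := stepQ 92387 Q92387 (allL N92387 (tt N94261 F403890) (tt N74300 F403891) (tt N90972 F396903) (tt N102312 (iv3 F436669)) (tt N91867 F396904) (tt N90966 (iv5 F396905)) (tt N55914 (iv6 D195388)) (tt N94263 F403902))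
theorem Q92389 : ∀ i, i < 92389 → P i := stepQ 92388 Q92388 (allL N92388 (tt N92300 (iv1 F400473)) (tt N92431 F403762) (tt N92432 F403885) (tt N92546 F397329) (tt N116278 (iv4 F499324)) (tt N55915 (iv5 D195389)) (tt N117843 D221102) (tt N92433 F403883))
theorem Q92390 : ∀ i, i < 92390 → P i := stepQ 92389 Q92389 (allL N92389 (tt N117806 F507064) (tt N117844 D221103) (tt N117774 (iv2 F506899)) (tt N107573 (iv3 F458801)) (tt N99321 (iv4 F424089)) (tt N110180 (iv5 F470299)) (tt N55915 (iv6 D195390)) (tt N117845 D221104))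
theorem Q92391 : ∀ i, i < 92391 → P i := stepQ 92390 Q92390 (allL N92390 (tt N107836 (iv1 F459930)) (tt N94259 F403874) (tt N55918 F396906) (tt N108024 (iv3 F460784)) (tt N116828 (iv4 F502042)) (tt N117846 D221105) (tt N55916 (iv6 D195391)) (tt N117847 D221106))
theorem Q92392 : ∀ i, i < 92392 → P i := stepQ 92391 Q92391 (allL N92391 (tt N92425 (iv1 F396978)) (tt N55917 (iv0 D195392)) (tt N105047 (iv2 F448549)) (tt N117848 D221107) (tt N95965 (iv4 F410465)) (tt N55943 F400470) (tt N92411 (iv6 F403810)) (tt N108022 (iv7 F460775)))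
theorem Q92393 : ∀ i, i < 92393 → P i := stepQ 92392 Q92392 (allL N92392 (tt N55917 (iv1 D195393)) (tt N92425 F396977) (tt N108022 F460777) (tt N107575 F458814) (tt N116280 (iv4 F499333)) (tt N55944 F405340) (tt N108692 (iv6 F463578)) (tt N105047 F448552))
theorem Q92394 : ∀ i, i < 92394 → P i := stepQ 92393 Q92393 (allL N92393 (tt N116656 F501169) (tt N92483 (iv0 F453189)) (tt N108023 (iv2 F460780)) (tt N55919 F396907) (tt N108029 (iv4 F460808)) (tt N117849 D221108) (tt N55917 (iv6 D195394)) (tt N116808 (iv7 F501949)))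
theorem Q92395 : ∀ i, i < 92395 → P i := stepQ 92394 Q92394 (allL N92394 (tt N117847 (iv1 F507247)) (tt N55918 (iv0 D195395)) (tt N107836 (iv2 F459926)) (tt N107855 F460008) (tt N96130 F459927) (tt N117850 D221109) (tt N96133 F459928) (tt N94259 F459929))
theorem Q92396 : ∀ i, i < 92396 → P i := stepQ 92395 Q92395 (allL N92395 (tt N55918 (iv1 D195396)) (tt N117847 F507246) (tt N94259 (iv2 F403871)) (tt N92519 (iv3 F397218)) (tt N101788 (iv4 F434345)) (tt N92518 F397219) (tt N94183 (iv6 F403596)) (tt N107836 (iv7 F459923)))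
theorem Q92397 : ∀ i, i < 92397 → P i := stepQ 92396 Q92396 (allL N92396 (tt N107892 F463603) (tt N117851 D221110) (tt N117846 (iv2 F507237)) (tt N55922 F396908) (tt N117852 D221111) (tt N55918 (iv5 D195397)) (tt N117849 (iv6 F507255)) (tt N117853 D221112))
theorem Q92398 : ∀ i, i < 92398 → P i := stepQ 92397 Q92397 (allL N92397 (tt N94259 F403873) (tt N107836 (iv0 F459924)) (tt N117847 (iv2 F507242)) (tt N55923 F396909) (tt N73057 F396910) (tt N117853 (iv5 F507278)) (tt N74357 F396911) (tt N55918 (iv7 D195398)))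
theorem Q92399 : ∀ i, i < 92399 → P i := stepQ 92398 Q92398 (allL N92398 (tt N117451 (iv1 F505110)) (tt N55919 (iv0 D195399)) (tt N95400 (iv2 F472285)) (tt N117854 D221113) (tt N95305 F472287) (tt N117855 D221114) (tt N117856 D221115) (tt N95404 (iv7 F472286)))
theorem Q92400 : ∀ i, i < 92400 → P i := stepQ 92399 Q92399 (allL N92399 (tt N55919 (iv1 D195400)) (tt N117451 F505109) (tt N95404 F472283) (tt N110592 (iv3 F472281)) (tt N95306 (iv4 F472282)) (tt N117857 D221116) (tt N117858 D221117) (tt N95400 F472284))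
theorem Q92401 : ∀ i, i < 92401 → P i := stepQ 92400 Q92400 (allL N92400 (tt N112801 F482677) (tt N117859 D221118) (tt N117779 (iv2 F506925)) (tt N117849 (iv3 F507254)) (tt N90359 (iv4 F404840)) (tt N55919 (iv5 D195401)) (tt N55922 F396912) (tt N117860 D221119))
theorem Q92402 : ∀ i, i < 92402 → P i := stepQ 92401 Q92401 (allL N92401 (tt N95404 (iv1 F445470)) (tt N95400 (iv0 F462117)) (tt N117451 (iv2 F505104)) (tt N116808 (iv3 F501947)) (tt N106116 (iv4 F453194)) (tt N117860 (iv5 F507319)) (tt N76052 F396913) (tt N55919 (iv7 D195402)))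
theorem Q92403 : ∀ i, i < 92403 → P i := stepQ 92402 Q92402 (allL N92402 (tt N82316 F404340) (tt N117861 D221120) (tt N117608 (iv2 F505977)) (tt N117784 (iv3 F506954)) (tt N117862 D221121) (tt N55920 (iv5 D195403)) (tt N71945 F396914) (tt N94229 (iv7 F403784)))
theorem Q92404 : ∀ i, i < 92404 → P i := stepQ 92403 Q92403 (allL N92403 (tt N117861 (iv1 F507322)) (tt N82316 (iv0 F404339)) (tt N94229 (iv2 F403783)) (tt N101192 (iv3 F432118)) (tt N108128 (iv4 F461225)) (tt N55921 (iv5 D195404)) (tt N117863 D221122) (tt N117608 (iv7 F505981)))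
theorem Q92405 : ∀ i, i < 92405 → P i := stepQ 92404 Q92404 (allL N92404 (tt N74717 (iv1 F396918)) (tt N55922 (iv0 D195405)) (tt N117780 (iv2 F506936)) (tt N111615 F506937) (tt N117864 D221123) (tt N94303 F403985) (tt N117865 D221124) (tt N117781 (iv7 F506939)))
theorem Q92406 : ∀ i, i < 92406 → P i := stepQ 92405 Q92405 (allL N92405 (tt N55922 (iv1 D195406)) (tt N74717 F396915) (tt N117781 (iv2 F506943)) (tt N74265 (iv3 F436475)) (tt N117866 D221125) (tt N102269 (iv5 F436469)) (tt N74263 F436474) (tt N117780 (iv7 F506935)))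
theorem Q92407 : ∀ i, i < 92407 → P i := stepQ 92406 Q92406 (allL N92406 (tt N107675 (iv1 F459186)) (tt N90275 (iv0 F415371)) (tt N116844 (iv2 F502135)) (tt N107676 F459190) (tt N55922 (iv4 D195407)) (tt N79613 (iv5 F404838)) (tt N90359 F404839) (tt N116840 (iv7 F502118)))
theorem Q92408 : ∀ i, i < 92408 → P i := stepQ 92407 Q92407 (allL N92407 (tt N117781 (iv1 F506938)) (tt N117780 F506933) (tt N74717 F396916) (tt N117853 (iv3 F507276)) (tt N116840 (iv4 F502116)) (tt N55923 F396917) (tt N116839 F502113) (tt N55922 (iv7 D195408)))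
theorem Q92409 : ∀ i, i < 92409 → P i := stepQ 92408 Q92408 (allL N92408 (tt N117067 (iv1 F503215)) (tt N117069 (iv0 F503227)) (tt N78365 F396919) (tt N55924 (iv3 D195409)) (tt N66373 F396920) (tt N106960 (iv5 F456454)) (tt N77858 F396921) (tt N74718 F396922))
theorem Q92410 : ∀ i, i < 92410 → P i := stepQ 92409 Q92409 (allL N92409 (tt N74725 (iv1 F396926)) (tt N74724 F396927) (tt N62699 F396923) (tt N106960 F456457) (tt N79616 F396925) (tt N55924 (iv5 D195410)) (tt N117867 D221126) (tt N74719 F396924))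
theorem Q92411 : ∀ i, i < 92411 → P i := stepQ 92410 Q92410 (allL N92410 (tt N69703 (iv1 F396929)) (tt N55926 (iv0 D195411)) (tt N69702 (iv2 F410462)) (tt N66254 F396928) (tt N117868 D221127) (tt N107344 (iv5 F458030)) (tt N74295 F438103) (tt N69701 F410461))
theorem Q92412 : ∀ i, i < 92412 → P i := stepQ 92411 Q92411 (allL N92411 (tt N55926 (iv1 D195412)) (tt N69703 (iv0 F396931)) (tt N69701 F410458) (tt N108302 F461970) (tt N59030 (iv4 F396930)) (tt N107345 (iv5 F458038)) (tt N92391 F403810) (tt N69702 (iv7 F410460)))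
theorem Q92413 : ∀ i, i < 92413 → P i := stepQ 92412 Q92412 (allL N92412 (tt N69702 (iv1 F396936)) (tt N69701 F396935) (tt N55926 (iv2 D195413)) (tt N95316 (iv3 F407829)) (tt N62250 F396932) (tt N73404 F396933) (tt N117869 D221128) (tt N69703 F396934))
theorem Q92414 : ∀ i, i < 92414 → P i := stepQ 92413 Q92413 (allL N92413 (tt N117870 D221129) (tt N117871 D221130) (tt N117869 (iv2 F507357)) (tt N55927 F396937) (tt N62252 F396938) (tt N117094 F503345) (tt N55926 (iv6 D195414)) (tt N94281 (iv7 F403944)))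
theorem Q92415 : ∀ i, i < 92415 → P i := stepQ 92414 Q92414 (allL N92414 (tt N82317 F396940) (tt N74735 F396939) (tt N95320 (iv2 F407841)) (tt N117094 (iv3 F503343)) (tt N111932 (iv4 F478733)) (tt N55927 (iv5 D195415)) (tt N108832 F464167) (tt N94282 (iv7 F403946)))
theorem Q92416 : ∀ i, i < 92416 → P i := stepQ 92415 Q92415 (allL N92415 (tt N99204 (iv1 F423692)) (tt N56015 (iv0 F396943)) (tt N61967 (iv2 F396944)) (tt N55928 (iv3 D195416)) (tt N61774 F396942) (tt N92421 (iv5 F396958)) (tt N117872 D221131) (tt N61970 F396941))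
theorem Q92417 : ∀ i, i < 92417 → P i := stepQ 92416 Q92416 (allL N92416 (tt N108991 (iv1 F464803)) (tt N72125 (iv0 F396947)) (tt N71940 F396945) (tt N117872 (iv3 F507367)) (tt N106832 (iv4 F455883)) (tt N80000 F396946) (tt N55928 (iv6 D195417)) (tt N94284 (iv7 F403955)))
theorem Q92418 : ∀ i, i < 92418 → P i := stepQ 92417 Q92417 (allL N92417 (tt N66250 F396950) (tt N66254 F438072) (tt N102775 (iv2 F438590)) (tt N55929 (iv3 D195418)) (tt N102724 (iv4 F438370)) (tt N92301 F396948) (tt N94285 (iv6 F403960)) (tt N71938 F396949))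
theorem Q92419 : ∀ i, i < 92419 → P i := stepQ 92418 Q92418 (allL N92418 (tt N106840 (iv1 F455932)) (tt N108342 (iv0 F462162)) (tt N55932 F396951) (tt N117782 (iv3 F506945)) (tt N70981 F396952) (tt N92541 F397312) (tt N55930 (iv6 D195419)) (tt N99068 (iv7 F423218)))
theorem Q92420 : ∀ i, i < 92420 → P i := stepQ 92419 Q92419 (allL N92419 (tt N99068 (iv1 F423222)) (tt N55932 (iv0 D195420)) (tt N106840 (iv2 F455927)) (tt N108578 (iv3 F463128)) (tt N106839 F455926) (tt N98908 F423223) (tt N117873 D221132) (tt N108342 (iv7 F462160)))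
theorem Q92421 : ∀ i, i < 92421 → P i := stepQ 92420 Q92420 (allL N92420 (tt N55932 (iv1 D195421)) (tt N99068 F423221) (tt N108342 (iv2 F462158)) (tt N72711 (iv3 F396955)) (tt N106835 (iv4 F455898)) (tt N72710 F396953) (tt N100089 F427484) (tt N106840 (iv7 F455929)))
theorem Q92422 : ∀ i, i < 92422 → P i := stepQ 92421 Q92421 (allL N92421 (tt N108342 (iv1 F462163)) (tt N106840 (iv0 F455931)) (tt N99068 (iv2 F423217)) (tt N55937 F396956) (tt N62863 F396957) (tt N92415 F396958) (tt N71946 F396959) (tt N55932 (iv7 D195422)))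
theorem Q92423 : ∀ i, i < 92423 → P i := stepQ 92422 Q92422 (allL N92422 (tt N74122 F396962) (tt N117874 D221133) (tt N92348 F396960) (tt N108579 (iv3 F463134)) (tt N58438 F396961) (tt N117875 D221134) (tt N55933 (iv6 D195423)) (tt N117876 D221135))
theorem Q92424 : ∀ i, i < 92424 → P i := stepQ 92423 Q92423 (allL N92423 (tt N94226 (iv1 F403767)) (tt N55934 (iv0 D195424)) (tt N57539 (iv2 F396966)) (tt N65374 F396965) (tt N59915 F396964) (tt N57538 F396963) (tt N117821 (iv6 F507122)) (tt N82309 (iv7 F396967)))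
theorem Q92425 : ∀ i, i < 92425 → P i := stepQ 92424 Q92424 (allL N92424 (tt N55934 (iv1 D195425)) (tt N94226 F403768) (tt N82309 F396970) (tt N57503 (iv3 F396969)) (tt N59916 (iv4 F403769)) (tt N57502 F396971) (tt N117168 (iv6 F503723)) (tt N57539 F396968))
theorem Q92426 : ∀ i, i < 92426 → P i := stepQ 92425 Q92425 (allL N92425 (tt N92392 (iv1 F396977)) (tt N92391 F396978) (tt N92290 F396973) (tt N55935 (iv3 D195426)) (tt N73228 F396974) (tt N92289 F396975) (tt N94323 (iv6 F404039)) (tt N73300 F396976))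
theorem Q92427 : ∀ i, i < 92427 → P i := stepQ 92426 Q92426 (allL N92426 (tt N69108 (iv1 F396983)) (tt N69114 (iv0 F396982)) (tt N73302 F396979) (tt N92295 F396980) (tt N61957 F396981) (tt N94272 (iv5 F403915)) (tt N55936 (iv6 D195427)) (tt N94322 (iv7 F404029)))
theorem Q92428 : ∀ i, i < 92428 → P i := stepQ 92427 Q92427 (allL N92427 (tt N102563 F437676) (tt N104639 F446649) (tt N66517 F396984) (tt N109152 (iv3 F465589)) (tt N55939 (iv4 D195428)) (tt N103701 (iv5 F442527)) (tt N66403 F396985) (tt N102631 (iv7 F437951)))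
theorem Q92429 : ∀ i, i < 92429 → P i := stepQ 92428 Q92428 (allL N92428 (tt N93571 F401186) (tt N104647 (iv0 F446677)) (tt N74275 F396986) (tt N95017 (iv3 F406655)) (tt N71439 (iv4 F406657)) (tt N55940 (iv5 D195429)) (tt N117877 D221136) (tt N66516 F396987))
theorem Q92430 : ∀ i, i < 92430 → P i := stepQ 92429 Q92429 (allL N92429 (tt N108027 (iv1 F460801)) (tt N94405 F404325) (tt N99058 (iv2 F423174)) (tt N99501 (iv3 F424881)) (tt N55941 F396989) (tt N110677 (iv5 F472722)) (tt N55940 (iv6 D195430)) (tt N74373 F396990))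
theorem Q92431 : ∀ i, i < 92431 → P i := stepQ 92430 Q92430 (allL N92430 (tt N108302 (iv1 F461967)) (tt N92916 (iv0 F398754)) (tt N57045 F396991) (tt N55943 (iv3 D195431)) (tt N56369 F396992) (tt N117848 (iv5 F507249)) (tt N94311 (iv6 F404001)) (tt N57047 F396993))
theorem Q92432 : ∀ i, i < 92432 → P i := stepQ 92431 Q92431 (allL N92431 (tt N92388 (iv1 F403762)) (tt N92386 F403888) (tt N55946 F396994) (tt N71937 F396995) (tt N101194 (iv4 F432127)) (tt N55945 (iv5 D195435)) (tt N101193 (iv6 F432123)) (tt N94225 (iv7 F403760)))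
theorem Q92433 : ∀ i, i < 92433 → P i := stepQ 92432 Q92432 (allL N92432 (tt N94225 (iv1 F403763)) (tt N55946 (iv0 D195436)) (tt N92388 (iv2 F403885)) (tt N93595 (iv3 F403889)) (tt N107073 (iv4 F456852)) (tt N92288 F403886) (tt N117812 F507087) (tt N92386 F403887))
theorem Q92434 : ∀ i, i < 92434 → P i := stepQ 92433 Q92433 (allL N92433 (tt N55946 (iv1 D195437)) (tt N94225 F403761) (tt N92386 (iv2 F403882)) (tt N108037 F460836) (tt N107065 (iv4 F456833)) (tt N72978 F403878) (tt N117318 (iv6 F504441)) (tt N92388 (iv7 F403883)))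
theorem Q92435 : ∀ i, i < 92435 → P i := stepQ 92434 Q92434 (allL N92434 (tt N105523 (iv1 F450576)) (tt N105522 F450571) (tt N101194 (iv2 F432125)) (tt N89934 F396996) (tt N55946 (iv4 D195438)) (tt N106999 (iv5 F456586)) (tt N89933 (iv6 F396997)) (tt N105524 (iv7 F450575)))
theorem Q92436 : ∀ i, i < 92436 → P i := stepQ 92435 Q92435 (allL N92435 (tt N101191 (iv1 F432113)) (tt N101190 (iv0 F432112)) (tt N101193 (iv2 F432120)) (tt N55948 F396998) (tt N89933 F396999) (tt N117878 D221137) (tt N55946 (iv6 D195439)) (tt N101172 (iv7 F432042)))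
theorem Q92437 : ∀ i, i < 92437 → P i := stepQ 92436 Q92436 (allL N92436 (tt N115930 F497643) (tt N55947 (iv0 D195440)) (tt N108154 (iv2 F461324)) (tt N107717 F459372) (tt N108153 F461325) (tt N117879 D221138) (tt N107724 (iv6 F459401)) (tt N117606 (iv7 F505967)))
theorem Q92438 : ∀ i, i < 92438 → P i := stepQ 92437 Q92437 (allL N92437 (tt N55947 (iv1 D195441)) (tt N115930 (iv0 F497642)) (tt N117606 (iv2 F505970)) (tt N100069 (iv3 F427427)) (tt N108137 (iv4 F461263)) (tt N117184 F503809) (tt N117880 D221139) (tt N108154 (iv7 F461318)))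
theorem Q92439 : ∀ i, i < 92439 → P i := stepQ 92438 Q92438 (allL N92438 (tt N56953 F414459) (tt N92507 F414460) (tt N92505 F438763) (tt N55951 F397000) (tt N103149 (iv4 F440305)) (tt N55947 (iv5 D195442)) (tt N117878 (iv6 F507394)) (tt N92504 (iv7 F438765)))
theorem Q92440 : ∀ i, i < 92440 → P i := stepQ 92439 Q92439 (allL N92439 (tt N117606 (iv1 F505966)) (tt N108154 (iv0 F461319)) (tt N115930 (iv2 F497638)) (tt N55952 F397001) (tt N73546 F397002) (tt N92504 F438769) (tt N106961 F456461) (tt N55947 (iv7 D195443)))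
theorem Q92441 : ∀ i, i < 92441 → P i := stepQ 92440 Q92440 (allL N92440 (tt N94227 (iv1 F403781)) (tt N55948 (iv0 D195444)) (tt N95576 (iv2 F408719)) (tt N77767 (iv3 F397004)) (tt N95531 (iv4 F408512)) (tt N77763 F397003) (tt N108820 (iv6 F464118)) (tt N95579 (iv7 F408730)))
theorem Q92442 : ∀ i, i < 92442 → P i := stepQ 92441 Q92441 (allL N92441 (tt N55948 (iv1 D195445)) (tt N94227 F403780) (tt N95579 (iv2 F408729)) (tt N74307 (iv3 F397005)) (tt N95532 F408518) (tt N111614 (iv5 F477160)) (tt N74119 F397006) (tt N95576 (iv7 F408722)))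
theorem Q92443 : ∀ i, i < 92443 → P i := stepQ 92442 Q92442 (allL N92442 (tt N79587 (iv1 F403713)) (tt N92320 F397008) (tt N117784 (iv2 F506953)) (tt N117878 (iv3 F507392)) (tt N103144 (iv4 F440276)) (tt N55948 (iv5 D195446)) (tt N55951 F397007) (tt N117881 D221140))
theorem Q92444 : ∀ i, i < 92444 → P i := stepQ 92443 Q92443 (allL N92443 (tt N95579 (iv1 F408733)) (tt N95576 F408724) (tt N94227 (iv2 F403776)) (tt N101172 (iv3 F432044)) (tt N103961 (iv4 F443538)) (tt N117881 (iv5 F507406)) (tt N94226 F403772) (tt N55948 (iv7 D195447)))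
theorem Q92445 : ∀ i, i < 92445 → P i := stepQ 92444 Q92444 (allL N92444 (tt N92366 F397011) (tt N106125 F453241) (tt N74283 F397009) (tt N55949 (iv3 D195448)) (tt N66531 F397010) (tt N74278 (iv5 F397013)) (tt N117882 D221141) (tt N106102 (iv7 F453115)))
theorem Q92446 : ∀ i, i < 92446 → P i := stepQ 92445 Q92445 (allL N92445 (tt N94250 (iv1 F403833)) (tt N66441 F397017) (tt N74264 F397014) (tt N74278 F397015) (tt N73424 F397016) (tt N55949 (iv5 D195449)) (tt N73423 (iv6 F397018)) (tt N94248 (iv7 F403826)))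
theorem Q92447 : ∀ i, i < 92447 → P i := stepQ 92446 Q92446 (allL N92446 (tt N94408 F404341) (tt N102254 (iv0 F436394)) (tt N102269 F436471) (tt N117882 (iv3 F507411)) (tt N57044 F397019) (tt N117781 (iv5 F506940)) (tt N55949 (iv6 D195450)) (tt N94303 (iv7 F403984)))
theorem Q92448 : ∀ i, i < 92448 → P i := stepQ 92447 Q92447 (allL N92447 (tt N74295 (iv1 F397024)) (tt N74294 F397027) (tt N74297 (iv2 F397022)) (tt N55950 (iv3 D195451)) (tt N62425 F397020) (tt N74268 (iv5 F397023)) (tt N94299 (iv6 F403982)) (tt N74267 F397021))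
theorem Q92449 : ∀ i, i < 92449 → P i := stepQ 92448 Q92448 (allL N92448 (tt N66441 F397030) (tt N94250 F403832) (tt N94248 F403828) (tt N74268 F397028) (tt N104862 (iv4 F447675)) (tt N55950 (iv5 D195452)) (tt N107586 F458858) (tt N74264 F397029))
theorem Q92450 : ∀ i, i < 92450 → P i := stepQ 92449 Q92449 (allL N92449 (tt N81272 (iv1 F397034)) (tt N55951 (iv0 D195453)) (tt N92496 (iv2 F397159)) (tt N108333 (iv3 F462112)) (tt N77731 F397032) (tt N57544 F397031) (tt N72722 F397035) (tt N77728 (iv7 F397033)))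
theorem Q92451 : ∀ i, i < 92451 → P i := stepQ 92450 Q92450 (allL N92450 (tt N55951 (iv1 D195454)) (tt N81272 F397036) (tt N77728 (iv2 F397039)) (tt N102732 (iv3 F438397)) (tt N77724 F397038) (tt N57543 F397037) (tt N77723 (iv6 F397040)) (tt N92496 F397162))
theorem Q92452 : ∀ i, i < 92452 → P i := stepQ 92451 Q92451 (allL N92451 (tt N77728 (iv1 F397044)) (tt N92496 F397164) (tt N81272 F397041) (tt N92504 F438768) (tt N76733 F397042) (tt N55952 F397043) (tt N76739 (iv6 F397045)) (tt N55951 (iv7 D195455)))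
theorem Q92453 : ∀ i, i < 92453 → P i := stepQ 92452 Q92452 (allL N92452 (tt N110659 (iv1 F472634)) (tt N77860 F397049) (tt N93696 (iv2 F401592)) (tt N82324 F397046) (tt N81269 F397048) (tt N55953 (iv5 D195456)) (tt N92359 (iv6 F404356)) (tt N66542 F397047))
theorem Q92454 : ∀ i, i < 92454 → P i := stepQ 92453 Q92453 (allL N92453 (tt N93850 F402141) (tt N96889 (iv0 F414457)) (tt N93697 (iv2 F401595)) (tt N82317 F397050) (tt N55954 F397051) (tt N93586 F401215) (tt N55953 (iv6 D195457)) (tt N74740 F397052))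
theorem Q92455 : ∀ i, i < 92455 → P i := stepQ 92454 Q92454 (allL N92454 (tt N108044 F460865) (tt N108040 F460850) (tt N108042 F460856) (tt N55955 (iv3 D195458)) (tt N66434 F397053) (tt N94241 (iv5 F429270)) (tt N94307 (iv6 F403991)) (tt N93695 (iv7 F401591)))
theorem Q92456 : ∀ i, i < 92456 → P i := stepQ 92455 Q92455 (allL N92455 (tt N77860 F397056) (tt N110659 F472633) (tt N66542 F397054) (tt N94241 F429271) (tt N77596 F397055) (tt N55955 (iv5 D195459)) (tt N114877 (iv6 F492294)) (tt N93696 (iv7 F401593)))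
theorem Q92457 : ∀ i, i < 92457 → P i := stepQ 92456 Q92456 (allL N92456 (tt N92915 (iv1 F398752)) (tt N57135 (iv0 F397060)) (tt N59130 F397057) (tt N71930 F397058) (tt N55957 (iv4 D195460)) (tt N57117 F397059) (tt N96411 (iv6 F412398)) (tt N92914 F398749))
theorem Q92458 : ∀ i, i < 92458 → P i := stepQ 92457 Q92457 (allL N92457 (tt N93576 (iv1 F401194)) (tt N55983 (iv0 F397064)) (tt N93577 F401199) (tt N55964 F397062) (tt N92889 (iv4 F398657)) (tt N55957 (iv5 D195461)) (tt N93690 (iv6 F401573)) (tt N55961 F397063))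
theorem Q92459 : ∀ i, i < 92459 → P i := stepQ 92458 Q92458 (allL N92458 (tt N96903 (iv1 F414534)) (tt N93849 (iv0 F402137)) (tt N93680 (iv2 F401539)) (tt N71933 F397066) (tt N96411 (iv4 F412401)) (tt N107723 (iv5 F459396)) (tt N55957 (iv6 D195462)) (tt N94330 (iv7 F404062)))
theorem Q92460 : ∀ i, i < 92460 → P i := stepQ 92459 Q92459 (allL N92459 (tt N55983 F397068) (tt N93576 F401195) (tt N55961 F397067) (tt N99054 (iv3 F423161)) (tt N92885 (iv4 F398649)) (tt N55958 (iv5 D195463)) (tt N55959 (iv6 F397069)) (tt N93577 (iv7 F401197)))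
theorem Q92461 : ∀ i, i < 92461 → P i := stepQ 92460 Q92460 (allL N92460 (tt N93684 (iv1 F401559)) (tt N93683 F401555) (tt N55960 F397070) (tt N96923 (iv3 F414629)) (tt N117883 D221142) (tt N55959 (iv5 D195465)) (tt N77861 F397092) (tt N93681 (iv7 F401547)))
theorem Q92462 : ∀ i, i < 92462 → P i := stepQ 92461 Q92461 (allL N92461 (tt N93681 (iv1 F401548)) (tt N55960 (iv0 D195466)) (tt N93684 F401562) (tt N69036 F397071) (tt N103343 (iv4 F441205)) (tt N56948 (iv5 F401187)) (tt N73054 F405736) (tt N93683 F401558))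
theorem Q92463 : ∀ i, i < 92463 → P i := stepQ 92462 Q92462 (allL N92462 (tt N55960 (iv1 D195467)) (tt N93681 F401550) (tt N93683 F401557) (tt N94211 (iv3 F404248)) (tt N99478 (iv4 F424767)) (tt N56949 F397072) (tt N117884 D221143) (tt N93684 (iv7 F401560)))
theorem Q92464 : ∀ i, i < 92464 → P i := stepQ 92463 Q92463 (allL N92463 (tt N117885 D221144) (tt N117886 D221145) (tt N117883 (iv2 F507415)) (tt N96006 (iv3 F410604)) (tt N55960 (iv4 D195468)) (tt N101523 (iv5 F433243)) (tt N95731 F409357) (tt N93685 (iv7 F401563)))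
theorem Q92465 : ∀ i, i < 92465 → P i := stepQ 92464 Q92464 (allL N92464 (tt N56813 F397093) (tt N77863 F397094) (tt N77861 (iv2 F397089)) (tt N55962 F397073) (tt N95731 (iv4 F409356)) (tt N71377 (iv5 F397083)) (tt N55960 (iv6 D195469)) (tt N77862 (iv7 F397086)))
theorem Q92466 : ∀ i, i < 92466 → P i := stepQ 92465 Q92465 (allL N92465 (tt N93577 (iv1 F401196)) (tt N55961 (iv0 D195470)) (tt N55983 (iv2 F397075)) (tt N96842 (iv3 F414218)) (tt N117887 D221146) (tt N58397 F397074) (tt N117888 D221147) (tt N93576 (iv7 F401193)))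
theorem Q92467 : ∀ i, i < 92467 → P i := stepQ 92466 Q92466 (allL N92466 (tt N96926 (iv1 F414650)) (tt N55962 (iv0 D195471)) (tt N96925 F414642) (tt N82311 F403774) (tt N69435 F403773) (tt N82310 (iv5 F403775)) (tt N117032 (iv6 F503058)) (tt N94368 (iv7 F404155)))
theorem Q92468 : ∀ i, i < 92468 → P i := stepQ 92467 Q92467 (allL N92467 (tt N55962 (iv1 D195472)) (tt N96926 F414649) (tt N94368 (iv2 F404157)) (tt N101855 F434683) (tt N69436 (iv4 F397095)) (tt N117889 D221148) (tt N115685 (iv6 F496304)) (tt N96925 (iv7 F414644)))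
theorem Q92469 : ∀ i, i < 92469 → P i := stepQ 92468 Q92468 (allL N92468 (tt N72350 F397081) (tt N94361 (iv0 F404136)) (tt N71246 F397076) (tt N71377 F397082) (tt N70852 (iv4 F397078)) (tt N55962 (iv5 D195473)) (tt N55963 F397077) (tt N71249 F397079))
theorem Q92470 : ∀ i, i < 92470 → P i := stepQ 92469 Q92469 (allL N92469 (tt N94368 (iv1 F404159)) (tt N96925 F414645) (tt N96926 (iv2 F414646)) (tt N77862 F397097) (tt N96910 (iv4 F414566)) (tt N71249 F397098) (tt N93694 (iv6 F401588)) (tt N55962 (iv7 D195474)))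
theorem Q92471 : ∀ i, i < 92471 → P i := stepQ 92470 Q92470 (allL N92470 (tt N117785 F506965) (tt N117786 F506970) (tt N101856 (iv2 F434687)) (tt N55965 (iv3 D195475)) (tt N56756 F397100) (tt N105052 (iv5 F448573)) (tt N69040 F397099) (tt N99052 (iv7 F423152)))
theorem Q92472 : ∀ i, i < 92472 → P i := stepQ 92471 Q92471 (allL N92471 (tt N96842 (iv1 F414222)) (tt N55985 (iv0 F397109)) (tt N73808 F397106) (tt N105052 (iv3 F448571)) (tt N73831 F397108) (tt N55965 (iv5 D195476)) (tt N69039 F397107) (tt N96841 (iv7 F414216)))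
theorem Q92473 : ∀ i, i < 92473 → P i := stepQ 92472 Q92472 (allL N92472 (tt N99364 (iv1 F424302)) (tt N55973 (iv0 F397111)) (tt N105051 F448567) (tt N55966 (iv3 D195477)) (tt N99152 (iv4 F423488)) (tt N73812 (iv5 F397112)) (tt N117890 D221149) (tt N73811 F397110))
theorem Q92474 : ∀ i, i < 92474 → P i := stepQ 92473 Q92473 (allL N92473 (tt N55985 F397117) (tt N96842 F414223) (tt N96841 F414214) (tt N73812 F397113) (tt N73834 (iv4 F397115)) (tt N55966 (iv5 D195478)) (tt N89175 F397116) (tt N73808 F397114))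
theorem Q92475 : ∀ i, i < 92475 → P i := stepQ 92474 Q92474 (allL N92474 (tt N94403 F423810) (tt N117891 D221150) (tt N99053 (iv2 F423157)) (tt N117890 (iv3 F507457)) (tt N99151 (iv4 F423484)) (tt N117892 D221151) (tt N55966 (iv6 D195479)) (tt N94338 (iv7 F404080)))
theorem Q92476 : ∀ i, i < 92476 → P i := stepQ 92475 Q92475 (allL N92475 (tt N96922 (iv1 F414633)) (tt N96921 F414624) (tt N55968 F397118) (tt N93681 (iv3 F401546)) (tt N99586 (iv4 F425292)) (tt N55967 (iv5 D195480)) (tt N117893 D221152) (tt N96923 (iv7 F414631)))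
theorem Q92477 : ∀ i, i < 92477 → P i := stepQ 92476 Q92476 (allL N92476 (tt N107348 F458050) (tt N117894 D221153) (tt N55969 F397119) (tt N93682 (iv3 F401552)) (tt N98785 (iv4 F422313)) (tt N117895 D221154) (tt N55967 (iv6 D195481)) (tt N117896 D221155))
theorem Q92478 : ∀ i, i < 92478 → P i := stepQ 92477 Q92477 (allL N92477 (tt N96923 (iv1 F414632)) (tt N55968 (iv0 D195482)) (tt N96922 (iv2 F422549)) (tt N117897 D221156) (tt N63005 F397123) (tt N61821 (iv5 F397124)) (tt N117898 D221157) (tt N96921 (iv7 F422545)))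
theorem Q92479 : ∀ i, i < 92479 → P i := stepQ 92478 Q92478 (allL N92478 (tt N55968 (iv1 D195483)) (tt N96923 F414634) (tt N96921 F422550) (tt N101857 (iv3 F434698)) (tt N101173 (iv4 F432046)) (tt N61822 F397120) (tt N110580 (iv6 F472223)) (tt N96922 F422548))
theorem Q92480 : ∀ i, i < 92480 → P i := stepQ 92479 Q92479 (allL N92479 (tt N99879 (iv1 F426655)) (tt N99858 (iv0 F426578)) (tt N99586 (iv2 F425291)) (tt N58579 F397121) (tt N55968 (iv4 D195484)) (tt N62860 F397122) (tt N102754 (iv6 F438494)) (tt N96920 (iv7 F414622)))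
theorem Q92481 : ∀ i, i < 92481 → P i := stepQ 92480 Q92480 (allL N92480 (tt N117899 D221158) (tt N108699 (iv0 F463608)) (tt N117893 (iv2 F507470)) (tt N55970 F397125) (tt N102754 (iv4 F438493)) (tt N117870 (iv5 F507359)) (tt N55968 (iv6 D195485)) (tt N117900 D221159))
theorem Q92482 : ∀ i, i < 92482 → P i := stepQ 92481 Q92481 (allL N92481 (tt N117896 (iv1 F507489)) (tt N55969 (iv0 D195486)) (tt N107348 (iv2 F473160)) (tt N117609 F505982) (tt N99208 F473256) (tt N107343 F473161) (tt N117901 D221160) (tt N117894 (iv7 F507475)))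
theorem Q92483 : ∀ i, i < 92483 → P i := stepQ 92482 Q92482 (allL N92482 (tt N55969 (iv1 D195487)) (tt N117896 F507488) (tt N117894 F507476) (tt N107357 (iv3 F473158)) (tt N99209 (iv4 F473163)) (tt N107349 F473157) (tt N94339 F473156) (tt N107348 (iv7 F473159)))
theorem Q92484 : ∀ i, i < 92484 → P i := stepQ 92483 Q92483 (allL N92483 (tt N92393 F453189) (tt N117902 D221161) (tt N117895 (iv2 F507478)) (tt N55971 F397126) (tt N89523 (iv4 F397127)) (tt N55969 (iv5 D195488)) (tt N117870 (iv6 F507362)) (tt N117903 D221162))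
theorem Q92485 : ∀ i, i < 92485 → P i := stepQ 92484 Q92484 (allL N92484 (tt N117894 (iv1 F507474)) (tt N107348 (iv0 F463687)) (tt N117896 (iv2 F507483)) (tt N55972 F397128) (tt N98788 (iv4 F422319)) (tt N117903 (iv5 F507517)) (tt N99057 (iv6 F423172)) (tt N55969 (iv7 D195489)))
theorem Q92486 : ∀ i, i < 92486 → P i := stepQ 92485 Q92485 (allL N92485 (tt N55970 (iv1 D195490)) (tt N93694 F401589) (tt N93692 F401576) (tt N117904 D221163) (tt N74114 (iv4 F397129)) (tt N117905 D221164) (tt N74112 F397130) (tt N93691 (iv7 F401581)))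
theorem Q92487 : ∀ i, i < 92487 → P i := stepQ 92486 Q92486 (allL N92486 (tt N117906 D221165) (tt N117907 D221166) (tt N93693 (iv2 F401583)) (tt N117870 (iv3 F507361)) (tt N81779 (iv4 F397132)) (tt N55970 (iv5 D195491)) (tt N55971 F397131) (tt N111603 (iv7 F477120)))
theorem Q92488 : ∀ i, i < 92488 → P i := stepQ 92487 Q92487 (allL N92487 (tt N93692 (iv1 F401574)) (tt N93691 F401582) (tt N93694 (iv2 F401586)) (tt N117900 (iv3 F507500)) (tt N58589 F397133) (tt N111603 (iv5 F477121)) (tt N96926 (iv6 F414648)) (tt N55970 (iv7 D195492)))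
theorem Q92489 : ∀ i, i < 92489 → P i := stepQ 92488 Q92488 (allL N92488 (tt N80795 (iv1 F397136)) (tt N55971 (iv0 D195493)) (tt N93698 F401599) (tt N100089 (iv3 F427481)) (tt N81271 F397135) (tt N57548 F397134) (tt N72711 (iv6 F397137)) (tt N78253 (iv7 F397138)))
theorem Q92490 : ∀ i, i < 92490 → P i := stepQ 92489 Q92489 (allL N92489 (tt N55971 (iv1 D195494)) (tt N80795 F397139) (tt N78253 (iv2 F397142)) (tt N117908 D221167) (tt N81270 F397141) (tt N57547 F397140) (tt N102725 (iv6 F438374)) (tt N93698 (iv7 F401601)))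
theorem Q92491 : ∀ i, i < 92491 → P i := stepQ 92490 Q92490 (allL N92490 (tt N78253 (iv1 F397146)) (tt N93698 F401600) (tt N80795 F397143) (tt N117903 (iv3 F507515)) (tt N77592 F397144) (tt N55972 F397145) (tt N90474 (iv6 F397147)) (tt N55971 (iv7 D195495)))
theorem Q92492 : ∀ i, i < 92492 → P i := stepQ 92491 Q92491 (allL N92491 (tt N55973 (iv1 D195496)) (tt N99364 (iv0 F424301)) (tt N73811 (iv2 F397150)) (tt N101856 (iv3 F434688)) (tt N73214 (iv4 F397149)) (tt N55975 F397148) (tt N94354 (iv6 F404115)) (tt N105051 (iv7 F448569)))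
theorem Q92493 : ∀ i, i < 92493 → P i := stepQ 92492 Q92492 (allL N92492 (tt N113277 F484829) (tt N117791 (iv0 F506992)) (tt N105052 (iv2 F448570)) (tt N55975 F397151) (tt N99366 (iv4 F424308)) (tt N101856 (iv5 F434690)) (tt N55973 (iv6 D195497)) (tt N108028 (iv7 F460804)))
theorem Q92494 : ∀ i, i < 92494 → P i := stepQ 92493 Q92493 (allL N92493 (tt N101863 (iv1 F434718)) (tt N79876 F397155) (tt N79624 F397152) (tt N94050 (iv3 F402984)) (tt N55977 (iv4 D195498)) (tt N96946 (iv5 F414726)) (tt N80001 F397153) (tt N73809 F397154))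
theorem Q92495 : ∀ i, i < 92495 → P i := stepQ 92494 Q92494 (allL N92494 (tt N100089 F427483) (tt N100041 (iv0 F427339)) (tt N100085 F427477) (tt N108992 (iv3 F464806)) (tt N111000 (iv4 F474172)) (tt N55978 (iv5 D195499)) (tt N108991 (iv6 F464801)) (tt N100086 (iv7 F427478)))
theorem Q92496 : ∀ i, i < 92496 → P i := stepQ 92495 Q92495 (allL N92495 (tt N58773 F397158) (tt N97069 (iv0 F415313)) (tt N55982 F397156) (tt N105354 (iv3 F449851)) (tt N55979 (iv4 D195500)) (tt N57294 F397157) (tt N105352 F449842) (tt N95748 (iv7 F409438)))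
theorem Q92497 : ∀ i, i < 92497 → P i := stepQ 92496 Q92496 (allL N92496 (tt N92451 (iv1 F397164)) (tt N92306 (iv0 F397163)) (tt N92449 F397159) (tt N99058 (iv3 F423175)) (tt N80794 F397160) (tt N66439 (iv5 F397161)) (tt N55981 (iv6 D195501)) (tt N92450 (iv7 F397162)))
theorem Q92498 : ∀ i, i < 92498 → P i := stepQ 92497 Q92497 (allL N92497 (tt N95748 (iv1 F409440)) (tt N55982 (iv0 D195502)) (tt N58773 (iv2 F397167)) (tt N71782 F397168) (tt N74304 F397166) (tt N58772 F397165) (tt N66327 F397169) (tt N97069 (iv7 F415312)))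
theorem Q92499 : ∀ i, i < 92499 → P i := stepQ 92498 Q92498 (allL N92498 (tt N77715 F397174) (tt N77717 (iv0 F397175)) (tt N77716 (iv2 F397176)) (tt N55982 (iv3 D195503)) (tt N55987 F397170) (tt N71040 F397171) (tt N82183 F397172) (tt N71044 F397173))
theorem Q92500 : ∀ i, i < 92500 → P i := stepQ 92499 Q92499 (allL N92499 (tt N117909 D221168) (tt N117910 D221169) (tt N117887 (iv2 F507438)) (tt N59136 F397177) (tt N55983 (iv4 D195504)) (tt N108226 (iv5 F461565)) (tt N91587 (iv6 F397178)) (tt N93578 (iv7 F401201)))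
theorem Q92501 : ∀ i, i < 92501 → P i := stepQ 92500 Q92500 (allL N92500 (tt N71373 F397181) (tt N112769 (iv0 F482576)) (tt N117888 (iv2 F507444)) (tt N55984 F397179) (tt N91587 F397180) (tt N117911 D221170) (tt N55983 (iv6 D195505)) (tt N117453 (iv7 F505120)))
theorem Q92502 : ∀ i, i < 92502 → P i := stepQ 92501 Q92501 (allL N92501 (tt N117912 D221171) (tt N91392 F397183) (tt N96845 (iv2 F414231)) (tt N117911 (iv3 F507553)) (tt N116641 (iv4 F501104)) (tt N55984 (iv5 D195506)) (tt N58399 F397182) (tt N117454 (iv7 F505124)))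
theorem Q92503 : ∀ i, i < 92503 → P i := stepQ 92502 Q92502 (allL N92502 (tt N73808 (iv1 F397186)) (tt N96841 F414215) (tt N55985 (iv2 D195507)) (tt N93576 (iv3 F401192)) (tt N70986 F397184) (tt N74271 F397185) (tt N110115 (iv6 F470058)) (tt N96842 (iv7 F414221)))
theorem Q92504 : ∀ i, i < 92504 → P i := stepQ 92503 Q92503 (allL N92503 (tt N110113 (iv1 F470047)) (tt N92555 (iv0 F462552)) (tt N110115 (iv2 F470055)) (tt N55986 F397187) (tt N110102 (iv4 F469999)) (tt N110083 (iv5 F469907)) (tt N55985 (iv6 D195508)) (tt N110082 F469900))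
theorem Q92505 : ∀ i, i < 92505 → P i := stepQ 92504 Q92504 (allL N92504 (tt N93584 (iv1 F401214)) (tt N55986 (iv0 D195509)) (tt N93582 F438767) (tt N92451 (iv3 F438768)) (tt N106113 (iv4 F453184)) (tt N92439 (iv5 F438769)) (tt N109909 (iv6 F469168)) (tt N92438 F438765))
theorem Q92506 : ∀ i, i < 92506 → P i := stepQ 92505 Q92505 (allL N92505 (tt N55986 (iv1 D195510)) (tt N93584 F401213) (tt N92438 (iv2 F438763)) (tt N91756 (iv3 F438764)) (tt N106114 (iv4 F453180)) (tt N91755 F438762) (tt N117913 D221172) (tt N93582 (iv7 F438766)))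
theorem Q92507 : ∀ i, i < 92507 → P i := stepQ 92506 Q92506 (allL N92506 (tt N66440 F403634) (tt N90361 F438750) (tt N93583 (iv2 F401207)) (tt N110083 (iv3 F469905)) (tt N110447 (iv4 F471625)) (tt N55986 (iv5 D195511)) (tt N74273 F397188) (tt N110081 (iv7 F469894)))
theorem Q92508 : ∀ i, i < 92508 → P i := stepQ 92507 Q92507 (allL N92507 (tt N92438 (iv1 F414460)) (tt N93582 F401212) (tt N93584 (iv2 F401209)) (tt N110082 (iv3 F469896)) (tt N58453 F397189) (tt N110081 (iv5 F469892)) (tt N96846 (iv6 F414235)) (tt N55986 (iv7 D195512)))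
theorem Q92509 : ∀ i, i < 92509 → P i := stepQ 92508 Q92508 (allL N92508 (tt N62639 F404257) (tt N74117 F397193) (tt N74123 F397190) (tt N115824 (iv3 F497094)) (tt N114244 F489185) (tt N55988 (iv5 D195513)) (tt N58373 F397191) (tt N74124 F397192))
theorem Q92510 : ∀ i, i < 92510 → P i := stepQ 92509 Q92509 (allL N92509 (tt N96840 (iv1 F414211)) (tt N58447 (iv0 F397198)) (tt N71817 F397196) (tt N59131 F397197) (tt N55989 (iv4 D195514)) (tt N87628 (iv5 F397199)) (tt N101823 (iv6 F434518)) (tt N93740 (iv7 F401731)))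
theorem Q92511 : ∀ i, i < 92511 → P i := stepQ 92510 Q92510 (allL N92510 (tt N99056 (iv1 F423166)) (tt N99055 F423173) (tt N99057 (iv2 F423168)) (tt N93577 F401200) (tt N99060 (iv4 F423184)) (tt N55989 (iv5 D195515)) (tt N117896 (iv6 F507487)) (tt N99054 F423164))
theorem Q92512 : ∀ i, i < 92512 → P i := stepQ 92511 Q92511 (allL N92511 (tt N117913 F507567) (tt N117914 D221173) (tt N117794 (iv2 F507004)) (tt N93680 (iv3 F401540)) (tt N101823 F434520) (tt N107869 (iv5 F460064)) (tt N55989 (iv6 D195516)) (tt N117915 D221174))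
theorem Q92513 : ∀ i, i < 92513 → P i := stepQ 92512 Q92512 (allL N92512 (tt N94199 F403673) (tt N94362 F404137) (tt N94331 (iv2 F404064)) (tt N71246 F397200) (tt N97137 (iv4 F415627)) (tt N96924 (iv5 F414637)) (tt N55990 (iv6 D195517)) (tt N97336 (iv7 F416409)))
theorem Q92514 : ∀ i, i < 92514 → P i := stepQ 92513 Q92513 (allL N92513 (tt N106123 (iv1 F453232)) (tt N55992 (iv0 D195518)) (tt N90667 (iv2 F397201)) (tt N93688 F401569) (tt N90666 F397202) (tt N108726 (iv5 F463720)) (tt N117583 (iv6 F505838)) (tt N106121 (iv7 F453218)))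
theorem Q92515 : ∀ i, i < 92515 → P i := stepQ 92514 Q92514 (allL N92514 (tt N100033 F427303) (tt N80407 F427304) (tt N106122 (iv2 F453222)) (tt N108043 (iv3 F460858)) (tt N77782 F397204) (tt N55992 (iv5 D195519)) (tt N55995 F397203) (tt N108052 (iv7 F460891)))
theorem Q92516 : ∀ i, i < 92516 → P i := stepQ 92515 Q92515 (allL N92515 (tt N94330 F404063) (tt N93680 F401542) (tt N96903 (iv2 F414532)) (tt N55993 (iv3 D195520)) (tt N58179 F397205) (tt N93600 (iv5 F401236)) (tt N117916 D221175) (tt N93849 (iv7 F402136)))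
theorem Q92517 : ∀ i, i < 92517 → P i := stepQ 92516 Q92516 (allL N92516 (tt N73186 F397207) (tt N72712 F397209) (tt N94404 (iv2 F404318)) (tt N93600 (iv3 F401235)) (tt N74699 (iv4 F397208)) (tt N55993 (iv5 D195521)) (tt N105048 (iv6 F448557)) (tt N74709 F397206))
theorem Q92518 : ∀ i, i < 92518 → P i := stepQ 92517 Q92517 (allL N92517 (tt N99058 F423177) (tt N74373 (iv0 F397211)) (tt N94405 (iv2 F404322)) (tt N117916 (iv3 F507582)) (tt N71080 F397210) (tt N105049 (iv5 F448559)) (tt N55993 (iv6 D195522)) (tt N108027 (iv7 F460798)))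
theorem Q92519 : ∀ i, i < 92519 → P i := stepQ 92518 Q92518 (allL N92518 (tt N99053 (iv1 F423159)) (tt N94338 (iv0 F423080)) (tt N117891 F507465) (tt N55994 (iv3 D195523)) (tt N78051 F397212) (tt N92395 (iv5 F397219)) (tt N117917 D221176) (tt N94403 (iv7 F404317)))
theorem Q92520 : ∀ i, i < 92520 → P i := stepQ 92519 Q92519 (allL N92519 (tt N72712 F397214) (tt N73186 F397215) (tt N74709 F397213) (tt N92395 F397218) (tt N65246 F397216) (tt N55994 (iv5 D195524)) (tt N65245 (iv6 F397217)) (tt N94404 (iv7 F404319)))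
theorem Q92521 : ∀ i, i < 92521 → P i := stepQ 92520 Q92520 (allL N92520 (tt N74740 (iv1 F397221)) (tt N93697 (iv0 F401597)) (tt N93850 (iv2 F402138)) (tt N117917 (iv3 F507587)) (tt N78050 F397220) (tt N94312 (iv5 F404004)) (tt N55994 (iv6 D195525)) (tt N96889 (iv7 F414455)))
theorem Q92522 : ∀ i, i < 92522 → P i := stepQ 92521 Q92521 (allL N92521 (tt N55995 (iv1 D195527)) (tt N94213 (iv0 F403726)) (tt N94406 F404328) (tt N117918 D221177) (tt N107252 (iv4 F457653)) (tt N74367 F397223) (tt N94460 (iv6 F404559)) (tt N94407 (iv7 F404331)))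
theorem Q92523 : ∀ i, i < 92523 → P i := stepQ 92522 Q92522 (allL N92522 (tt N60895 F397229) (tt N103327 (iv0 F441151)) (tt N72123 F397224) (tt N55998 F397225) (tt N71019 F397226) (tt N56506 F397227) (tt N55996 (iv6 D195528)) (tt N69104 F397228))
theorem Q92524 : ∀ i, i < 92524 → P i := stepQ 92523 Q92523 (allL N92523 (tt N94284 F403957) (tt N71940 (iv0 F397232)) (tt N108991 (iv2 F464798)) (tt N55997 (iv3 D195529)) (tt N71018 F397230) (tt N100535 (iv5 F429380)) (tt N100085 F429381) (tt N72125 F397231))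
theorem Q92525 : ∀ i, i < 92525 → P i := stepQ 92524 Q92524 (allL N92524 (tt N73302 (iv1 F397236)) (tt N94322 (iv0 F404030)) (tt N69114 F397233) (tt N100085 (iv3 F429382)) (tt N55998 F397234) (tt N105056 (iv5 F448590)) (tt N55997 (iv6 D195530)) (tt N69108 (iv7 F397235)))
theorem Q92526 : ∀ i, i < 92526 → P i := stepQ 92525 Q92525 (allL N92525 (tt N92003 (iv1 F397256)) (tt N56000 (iv0 D195531)) (tt N86871 (iv2 F397239)) (tt N95297 F407771) (tt N71824 F397237) (tt N117672 (iv5 F506339)) (tt N86870 F397238) (tt N96074 (iv7 F410920)))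
theorem Q92527 : ∀ i, i < 92527 → P i := stepQ 92526 Q92526 (allL N92526 (tt N56000 (iv1 D195532)) (tt N92003 F397240) (tt N96074 F410921) (tt N86873 (iv3 F397242)) (tt N71825 (iv4 F397243)) (tt N108961 (iv5 F464682)) (tt N112432 (iv6 F481078)) (tt N86871 F397241))
theorem Q92528 : ∀ i, i < 92528 → P i := stepQ 92527 Q92527 (allL N92527 (tt N92001 (iv1 F397249)) (tt N91949 (iv0 F397250)) (tt N91944 F397244) (tt N73682 F397245) (tt N67359 F397247) (tt N56000 (iv5 D195533)) (tt N56003 F397246) (tt N92002 F397248))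
theorem Q92529 : ∀ i, i < 92529 → P i := stepQ 92528 Q92528 (allL N92528 (tt N96074 (iv1 F410919)) (tt N86871 (iv0 F397257)) (tt N92003 F397251) (tt N73683 F397252) (tt N87127 F397253) (tt N92002 F397254) (tt N66530 F397255) (tt N56000 (iv7 D195534)))
theorem Q92530 : ∀ i, i < 92530 → P i := stepQ 92529 Q92529 (allL N92529 (tt N97288 (iv1 F416232)) (tt N89289 (iv0 F397261)) (tt N71059 F397258) (tt N56002 (iv3 D195535)) (tt N73231 F397259) (tt N92329 (iv5 F397262)) (tt N117919 D221178) (tt N73293 F397260))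
theorem Q92531 : ∀ i, i < 92531 → P i := stepQ 92530 Q92530 (allL N92530 (tt N65619 F397266) (tt N65618 F397267) (tt N59776 F397263) (tt N92329 F397264) (tt N65500 (iv4 F397268)) (tt N56002 (iv5 D195536)) (tt N114809 (iv6 F491983)) (tt N65620 F397265))
theorem Q92532 : ∀ i, i < 92532 → P i := stepQ 92531 Q92531 (allL N92531 (tt N69138 F397270) (tt N74036 (iv0 F397271)) (tt N96075 (iv2 F410922)) (tt N117919 (iv3 F507596)) (tt N69468 F397269) (tt N97219 (iv5 F415946)) (tt N56002 (iv6 D195537)) (tt N96068 (iv7 F410892)))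
theorem Q92533 : ∀ i, i < 92533 → P i := stepQ 92532 Q92532 (allL N92532 (tt N65532 F397274) (tt N117920 D221179) (tt N96076 (iv2 F410930)) (tt N58133 F397275) (tt N56003 (iv4 D195538)) (tt N117689 (iv5 F506432)) (tt N67359 F397272) (tt N65736 F397273))
theorem Q92534 : ∀ i, i < 92534 → P i := stepQ 92533 Q92533 (allL N92533 (tt N96087 (iv1 F410985)) (tt N74025 (iv0 F397284)) (tt N91633 (iv2 F397283)) (tt N56006 (iv3 D195539)) (tt N93272 (iv4 F400237)) (tt N87728 F397281) (tt N86090 F397282) (tt N96078 (iv7 F410939)))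
theorem Q92535 : ∀ i, i < 92535 → P i := stepQ 92534 Q92534 (allL N92534 (tt N102421 (iv1 F437167)) (tt N66498 (iv0 F397288)) (tt N66377 F397285) (tt N56010 F397286) (tt N93640 (iv4 F401397)) (tt N68609 F397287) (tt N56008 (iv6 D195540)) (tt N96067 (iv7 F410887)))
theorem Q92536 : ∀ i, i < 92536 → P i := stepQ 92535 Q92535 (allL N92535 (tt N59813 F397289) (tt N62096 F397291) (tt N95376 (iv2 F408033)) (tt N56009 (iv3 D195541)) (tt N93638 (iv4 F401387)) (tt N59804 (iv5 F397290)) (tt N117921 D221180) (tt N95378 (iv7 F408044)))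
theorem Q92537 : ∀ i, i < 92537 → P i := stepQ 92536 Q92536 (allL N92536 (tt N95393 (iv1 F408097)) (tt N59809 F397293) (tt N95392 F408089) (tt N59804 F397292) (tt N102131 (iv4 F435880)) (tt N56009 (iv5 D195542)) (tt N100713 F430146) (tt N95377 (iv7 F408037)))
theorem Q92538 : ∀ i, i < 92538 → P i := stepQ 92537 Q92537 (allL N92537 (tt N105867 (iv1 F452088)) (tt N74029 (iv0 F397295)) (tt N96079 (iv2 F410943)) (tt N117921 (iv3 F507608)) (tt N56010 F397294) (tt N97251 (iv5 F416077)) (tt N56009 (iv6 D195543)) (tt N93569 (iv7 F401178)))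
theorem Q92539 : ∀ i, i < 92539 → P i := stepQ 92538 Q92538 (allL N92538 (tt N67882 F397300) (tt N67795 F397299) (tt N66403 F397296) (tt N102839 (iv3 F438883)) (tt N56011 (iv4 D195544)) (tt N94955 (iv5 F406495)) (tt N66517 F397297) (tt N66405 F397298))
theorem Q92540 : ∀ i, i < 92540 → P i := stepQ 92539 Q92539 (allL N92539 (tt N108064 F460955) (tt N80478 (iv0 F403562)) (tt N99198 (iv2 F423661)) (tt N56019 F397301) (tt N94177 (iv4 F403559)) (tt N62725 (iv5 F397303)) (tt N56013 (iv6 D195545)) (tt N75917 F397302))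
theorem Q92541 : ∀ i, i < 92541 → P i := stepQ 92540 Q92540 (allL N92540 (tt N74816 F397306) (tt N99830 F426430) (tt N99199 (iv2 F423667)) (tt N56020 F397304) (tt N105293 (iv4 F449597)) (tt N56014 (iv5 D195547)) (tt N62725 F397305) (tt N99829 (iv7 F426421)))
theorem Q92542 : ∀ i, i < 92542 → P i := stepQ 92541 Q92541 (allL N92541 (tt N56015 (iv1 D195548)) (tt N99204 (iv0 F423693)) (tt N61970 (iv2 F397310)) (tt N102775 (iv3 F438591)) (tt N61773 F397309) (tt N92418 (iv5 F397312)) (tt N57531 (iv6 F397311)) (tt N61967 F397308))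
theorem Q92543 : ∀ i, i < 92543 → P i := stepQ 92542 Q92542 (allL N92542 (tt N61967 (iv1 F397315)) (tt N61970 F397314) (tt N56015 (iv2 D195549)) (tt N71068 F397313) (tt N99150 (iv4 F423479)) (tt N94231 (iv5 F403788)) (tt N71067 F397317) (tt N99204 (iv7 F423691)))
theorem Q92544 : ∀ i, i < 92544 → P i := stepQ 92543 Q92543 (allL N92543 (tt N98919 (iv1 F422784)) (tt N98910 F426656) (tt N94231 (iv2 F403786)) (tt N56016 F397318) (tt N106186 (iv4 F453515)) (tt N56015 (iv5 D195550)) (tt N94187 F403614) (tt N99206 (iv7 F423696)))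
theorem Q92545 : ∀ i, i < 92545 → P i := stepQ 92544 Q92544 (allL N92544 (tt N108578 F463133) (tt N98887 (iv0 F422701)) (tt N71067 F397319) (tt N56017 F397320) (tt N99193 (iv4 F423645)) (tt N71066 F397321) (tt N56015 (iv6 D195551)) (tt N108082 (iv7 F461034)))
theorem Q92546 : ∀ i, i < 92546 → P i := stepQ 92545 Q92545 (allL N92545 (tt N56024 (iv1 F397324)) (tt N56016 (iv0 D195552)) (tt N108037 (iv2 F460837)) (tt N93591 (iv3 F401225)) (tt N85732 F397323) (tt N62585 F397322) (tt N111438 (iv6 F476365)) (tt N74682 (iv7 F397325)))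
theorem Q92547 : ∀ i, i < 92547 → P i := stepQ 92546 Q92546 (allL N92546 (tt N56016 (iv1 D195553)) (tt N56024 F397326) (tt N74682 (iv2 F397328)) (tt N92388 (iv3 F397329)) (tt N108332 (iv4 F462108)) (tt N72709 F397327) (tt N117922 D221181) (tt N108037 (iv7 F460833)))
theorem Q92548 : ∀ i, i < 92548 → P i := stepQ 92547 Q92547 (allL N92547 (tt N95752 (iv1 F409461)) (tt N72726 F397332) (tt N57296 F397330) (tt N81826 (iv3 F397333)) (tt N56016 (iv4 D195554)) (tt N57295 F397331) (tt N106187 (iv6 F453522)) (tt N95750 (iv7 F409450)))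
theorem Q92549 : ∀ i, i < 92549 → P i := stepQ 92548 Q92548 (allL N92548 (tt N82326 F403621) (tt N82325 F403808) (tt N59281 F397334) (tt N94187 (iv3 F403615)) (tt N106187 (iv4 F453521)) (tt N59280 F397335) (tt N56016 (iv6 D195555)) (tt N94232 (iv7 F403789)))
theorem Q92550 : ∀ i, i < 92550 → P i := stepQ 92549 Q92549 (allL N92549 (tt N108334 F462122) (tt N108335 (iv0 F462125)) (tt N96761 (iv2 F413825)) (tt N58510 F397336) (tt N56019 F397337) (tt N117923 D221182) (tt N56018 (iv6 D195556)) (tt N75922 F397338))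
theorem Q92551 : ∀ i, i < 92551 → P i := stepQ 92550 Q92550 (allL N92550 (tt N108338 (iv1 F462139)) (tt N108339 (iv0 F462144)) (tt N108039 (iv2 F460841)) (tt N117924 D221183) (tt N56020 (iv4 D195557)) (tt N63466 F397341) (tt N62726 F397339) (tt N79922 F397340))
theorem Q92552 : ∀ i, i < 92552 → P i := stepQ 92551 Q92551 (allL N92551 (tt N97326 (iv1 F416356)) (tt N92353 (iv0 F397345)) (tt N97327 (iv2 F416362)) (tt N56024 F397342) (tt N67148 F397344) (tt N56023 (iv5 D195558)) (tt N108434 F462545) (tt N59282 F397343))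
theorem Q92553 : ∀ i, i < 92553 → P i := stepQ 92552 Q92552 (allL N92552 (tt N74283 F397349) (tt N106102 (iv0 F453116)) (tt N106125 (iv2 F453238)) (tt N56025 F397346) (tt N90665 F397347) (tt N108435 (iv5 F462549)) (tt N56023 (iv6 D195559)) (tt N92366 F397348))
theorem Q92554 : ∀ i, i < 92554 → P i := stepQ 92553 Q92553 (allL N92553 (tt N113276 F484827) (tt N107879 (iv0 F460091)) (tt N108038 (iv2 F460839)) (tt N108434 (iv3 F462541)) (tt N79997 F397350) (tt N106957 (iv5 F456442)) (tt N56024 (iv6 D195560)) (tt N109905 (iv7 F469153)))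
theorem Q92555 : ∀ i, i < 92555 → P i := stepQ 92554 Q92554 (allL N92554 (tt N82322 (iv1 F397352)) (tt N56025 (iv0 D195561)) (tt N100068 F427421) (tt N108154 (iv3 F461317)) (tt N77001 F397351) (tt N117925 D221184) (tt N94407 F404334) (tt N100069 (iv7 F427424)))
theorem Q92556 : ∀ i, i < 92556 → P i := stepQ 92555 Q92555 (allL N92555 (tt N92503 F462552) (tt N77008 F397353) (tt N100070 (iv2 F427428)) (tt N108435 (iv3 F462547)) (tt N108436 (iv4 F462555)) (tt N56025 (iv5 D195562)) (tt N106957 F456445) (tt N100078 (iv7 F427459)))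
theorem Q92557 : ∀ i, i < 92557 → P i := stepQ 92556 Q92556 (allL N92556 (tt N78362 (iv1 F397359)) (tt N66653 (iv0 F397358)) (tt N58508 F397354) (tt N56026 (iv3 D195563)) (tt N100151 (iv4 F427721)) (tt N58634 F397355) (tt N75925 F397356) (tt N78361 F397357))
theorem Q92558 : ∀ i, i < 92558 → P i := stepQ 92557 Q92557 (allL N92557 (tt N66693 (iv1 F397362)) (tt N56030 (iv0 D195564)) (tt N59881 (iv2 F397361)) (tt N77791 (iv3 F397364)) (tt N96946 (iv4 F414725)) (tt N72732 F397360) (tt N91943 (iv6 F397365)) (tt N66695 F397363))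
theorem Q92559 : ∀ i, i < 92559 → P i := stepQ 92558 Q92558 (allL N92558 (tt N78651 F397370) (tt N78639 (iv0 F397371)) (tt N78650 F397366) (tt N66705 F397367) (tt N95749 (iv4 F409443)) (tt N90992 F397368) (tt N56030 (iv6 D195565)) (tt N78649 F397369))
theorem Q92560 : ∀ i, i < 92560 → P i := stepQ 92559 Q92559 (allL N92559 (tt N98549 F421290) (tt N98723 F422020) (tt N66580 F397372) (tt N60826 F397373) (tt N74912 F397374) (tt N86914 F397375) (tt N56034 (iv6 D195566)) (tt N98722 (iv7 F422019)))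
theorem Q92561 : ∀ i, i < 92561 → P i := stepQ 92560 Q92560 (allL N92560 (tt N56077 F397380) (tt N91309 (iv0 F397381)) (tt N56072 F397376) (tt N66687 F397377) (tt N56036 F397378) (tt N74823 F397379) (tt N56035 (iv6 D195567)) (tt N109086 (iv7 F465261)))
theorem Q92562 : ∀ i, i < 92562 → P i := stepQ 92561 Q92561 (allL N92561 (tt N56078 (iv1 F397387)) (tt N56036 (iv0 D195568)) (tt N56079 (iv2 F397385)) (tt N74456 F397383) (tt N99871 (iv4 F426626)) (tt N91531 F397382) (tt N56070 F397384) (tt N56080 F397386))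
theorem Q92563 : ∀ i, i < 92563 → P i := stepQ 92562 Q92562 (allL N92562 (tt N56080 (iv1 F397392)) (tt N56079 F397393) (tt N56078 F397388) (tt N66637 F397389) (tt N109086 (iv4 F465259)) (tt N71276 F397390) (tt N56060 F397391) (tt N56036 (iv7 D195569)))
theorem Q92564 : ∀ i, i < 92564 → P i := stepQ 92563 Q92563 (allL N92563 (tt N106935 (iv1 F456345)) (tt N97978 (iv0 F419044)) (tt N74973 F397394) (tt N85960 F397395) (tt N105997 (iv4 F452687)) (tt N63349 F397396) (tt N56037 (iv6 D195570)) (tt N106535 (iv7 F454796)))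
theorem Q92565 : ∀ i, i < 92565 → P i := stepQ 92564 Q92564 (allL N92564 (tt N78954 F397399) (tt N75750 F397400) (tt N74875 F397397) (tt N107021 (iv3 F456665)) (tt N56038 (iv4 D195571)) (tt N107140 (iv5 F457161)) (tt N106590 F454977) (tt N74972 F397398))
theorem Q92566 : ∀ i, i < 92566 → P i := stepQ 92565 Q92565 (allL N92565 (tt N109037 (iv1 F465037)) (tt N100022 (iv0 F427243)) (tt N74876 F397401) (tt N60730 F397402) (tt N106590 (iv4 F454975)) (tt N56087 F397403) (tt N56038 (iv6 D195572)) (tt N109415 (iv7 F466855)))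
theorem Q92567 : ∀ i, i < 92567 → P i := stepQ 92566 Q92566 (allL N92566 (tt N104763 F456591) (tt N73884 (iv0 F397404)) (tt N115801 (iv2 F496962)) (tt N56040 (iv3 D195573)) (tt N109053 (iv4 F465121)) (tt N110864 F473504) (tt N115800 F496961) (tt N107993 (iv7 F460632)))
theorem Q92568 : ∀ i, i < 92568 → P i := stepQ 92567 Q92567 (allL N92567 (tt N58940 F397407) (tt N73864 F397408) (tt N87048 F397405) (tt N115800 (iv3 F496955)) (tt N56041 F397406) (tt N105079 (iv5 F448685)) (tt N56040 (iv6 D195574)) (tt N95902 (iv7 F410164)))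
theorem Q92569 : ∀ i, i < 92569 → P i := stepQ 92568 Q92568 (allL N92568 (tt N56051 (iv1 F397412)) (tt N56042 (iv0 D195575)) (tt N65295 (iv2 F397411)) (tt N98382 (iv3 F420712)) (tt N107140 (iv4 F457162)) (tt N56062 F397409) (tt N74321 F397410) (tt N65294 F397413))
theorem Q92570 : ∀ i, i < 92570 → P i := stepQ 92569 Q92569 (allL N92569 (tt N100773 (iv1 F430408)) (tt N61496 (iv0 F397416)) (tt N100772 F430398) (tt N56046 (iv3 D195576)) (tt N66639 F397414) (tt N117926 D221185) (tt N92796 (iv6 F398268)) (tt N66659 F397415))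
theorem Q92571 : ∀ i, i < 92571 → P i := stepQ 92570 Q92570 (allL N92570 (tt N62788 F397419) (tt N62784 F397420) (tt N74863 F397417) (tt N117926 (iv3 F507634)) (tt N98045 F419286) (tt N56046 (iv5 D195577)) (tt N117927 D221186) (tt N66660 F397418))
theorem Q92572 : ∀ i, i < 92572 → P i := stepQ 92571 Q92571 (allL N92571 (tt N59310 (iv1 F397424)) (tt N62725 F397425) (tt N105278 F449526) (tt N56053 F397421) (tt N75150 F397422) (tt N109531 (iv5 F467398)) (tt N74805 F397423) (tt N56047 (iv7 D195578)))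
theorem Q92573 : ∀ i, i < 92573 → P i := stepQ 92572 Q92572 (allL N92572 (tt N106887 (iv1 F456142)) (tt N114450 (iv0 F490232)) (tt N56246 F397426) (tt N113143 (iv3 F484168)) (tt N56048 (iv4 D195579)) (tt N102234 (iv5 F436292)) (tt N113142 F484166) (tt N56242 F397427))
theorem Q92574 : ∀ i, i < 92574 → P i := stepQ 92573 Q92573 (allL N92573 (tt N56057 (iv1 D195580)) (tt N56071 F397428) (tt N56070 F397434) (tt N65090 (iv3 F397432)) (tt N78710 F397431) (tt N69658 F397430) (tt N56079 (iv6 F397433)) (tt N56069 F397429))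
theorem Q92575 : ∀ i, i < 92575 → P i := stepQ 92574 Q92574 (allL N92574 (tt N83301 (iv1 F397438)) (tt N62701 (iv0 F397439)) (tt N75428 F397435) (tt N56058 (iv3 D195581)) (tt N75035 F397437) (tt N109469 (iv5 F467128)) (tt N103058 (iv6 F439891)) (tt N56075 F397436))
theorem Q92576 : ∀ i, i < 92576 → P i := stepQ 92575 Q92575 (allL N92575 (tt N92598 (iv1 F397567)) (tt N74878 F397443) (tt N56074 F397440) (tt N68286 F397444) (tt N56058 (iv4 D195582)) (tt N68284 F397442) (tt N109601 (iv6 F467675)) (tt N56076 F397441))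
theorem Q92577 : ∀ i, i < 92577 → P i := stepQ 92576 Q92576 (allL N92576 (tt N74878 F397449) (tt N92598 (iv0 F397566)) (tt N56076 F397445) (tt N63851 F397446) (tt N56059 (iv4 D195583)) (tt N63850 F397448) (tt N72333 (iv6 F397450)) (tt N56074 F397447))
theorem Q92578 : ∀ i, i < 92578 → P i := stepQ 92577 Q92577 (allL N92577 (tt N109086 (iv1 F465263)) (tt N56072 (iv0 F397456)) (tt N56077 F397451) (tt N65099 F397452) (tt N72333 F397453) (tt N76123 F397454) (tt N56059 (iv6 D195584)) (tt N91309 F397455))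
theorem Q92579 : ∀ i, i < 92579 → P i := stepQ 92578 Q92578 (allL N92578 (tt N74420 (iv1 F397460)) (tt N56066 (iv0 D195585)) (tt N74453 (iv2 F397459)) (tt N66684 F397458) (tt N79149 F397457) (tt N99226 (iv5 F423754)) (tt N111944 F478799) (tt N74489 F397461))
theorem Q92580 : ∀ i, i < 92580 → P i := stepQ 92579 Q92579 (allL N92579 (tt N74453 (iv1 F397468)) (tt N74489 F397467) (tt N56066 (iv2 D195586)) (tt N75379 F397462) (tt N76925 F397463) (tt N73392 F397464) (tt N64624 F397465) (tt N74420 F397466))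
theorem Q92581 : ∀ i, i < 92581 → P i := stepQ 92580 Q92580 (allL N92580 (tt N111944 (iv1 F478794)) (tt N81677 F397472) (tt N65106 F397469) (tt N56070 (iv3 D195587)) (tt N99872 (iv4 F426631)) (tt N69663 F397470) (tt N74456 F397471) (tt N99944 (iv7 F426903)))
theorem Q92582 : ∀ i, i < 92582 → P i := stepQ 92581 Q92581 (allL N92581 (tt N62701 (iv1 F397476)) (tt N83301 F397475) (tt N56075 (iv2 D195588)) (tt N75308 F397473) (tt N75036 (iv4 F397477)) (tt N109467 (iv5 F467115)) (tt N84232 (iv6 F397478)) (tt N75428 F397474))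
theorem Q92583 : ∀ i, i < 92583 → P i := stepQ 92582 Q92582 (allL N92582 (tt N62744 F397481) (tt N63046 F397482) (tt N75036 F397479) (tt N99959 (iv3 F426960)) (tt N56075 (iv4 D195589)) (tt N109844 (iv5 F468870)) (tt N99957 F426956) (tt N75035 F397480))
theorem Q92584 : ∀ i, i < 92584 → P i := stepQ 92583 Q92583 (allL N92583 (tt N100999 (iv1 F431201)) (tt N74492 (iv0 F397486)) (tt N84232 F397483) (tt N56077 F397484) (tt N99957 (iv4 F426951)) (tt N84223 F397485) (tt N56075 (iv6 D195590)) (tt N109592 (iv7 F467627)))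
theorem Q92585 : ∀ i, i < 92585 → P i := stepQ 92584 Q92584 (allL N92584 (tt N74455 F397492) (tt N74458 F397493) (tt N74457 F397487) (tt N56080 (iv3 D195591)) (tt N75044 F397488) (tt N74156 F397489) (tt N88191 F397490) (tt N74456 F397491))
theorem Q92586 : ∀ i, i < 92586 → P i := stepQ 92585 Q92585 (allL N92585 (tt N66757 (iv1 F397498)) (tt N56082 (iv0 D195592)) (tt N66759 (iv2 F397497)) (tt N64179 F397496) (tt N75229 F397495) (tt N64177 F397494) (tt N74482 (iv6 F397500)) (tt N61353 F397499))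
theorem Q92587 : ∀ i, i < 92587 → P i := stepQ 92586 Q92586 (allL N92586 (tt N74482 F397505) (tt N61247 (iv0 F397506)) (tt N74469 F397501) (tt N62556 F397502) (tt N56083 (iv4 D195593)) (tt N61452 F397504) (tt N104242 (iv6 F444888)) (tt N63809 F397503))
theorem Q92588 : ∀ i, i < 92588 → P i := stepQ 92587 Q92587 (allL N92587 (tt N76496 F397509) (tt N78762 F397510) (tt N63342 F397507) (tt N110488 (iv3 F471811)) (tt N56086 (iv4 D195594)) (tt N117928 D221187) (tt N106361 (iv6 F454145)) (tt N63348 F397508))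
theorem Q92589 : ∀ i, i < 92589 → P i := stepQ 92588 Q92588 (allL N92588 (tt N76298 (iv1 F397515)) (tt N56307 F397516) (tt N74959 F397511) (tt N56335 F397512) (tt N91534 F397513) (tt N109415 (iv5 F466851)) (tt N74889 F397514) (tt N56087 (iv7 D195595)))
theorem Q92590 : ∀ i, i < 92590 → P i := stepQ 92589 Q92589 (allL N92589 (tt N87648 (iv1 F397523)) (tt N87159 (iv0 F397524)) (tt N76469 F397517) (tt N60174 F397518) (tt N110977 (iv4 F474042)) (tt N76329 F397519) (tt N56091 (iv6 D195596)) (tt N87647 F397520))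
theorem Q92591 : ∀ i, i < 92591 → P i := stepQ 92590 Q92590 (allL N92590 (tt N76594 F397529) (tt N76595 F397530) (tt N76791 F397526) (tt N116944 (iv3 F502626)) (tt N56096 (iv4 D195597)) (tt N99596 (iv5 F425325)) (tt N56097 F397527) (tt N76790 F397528))
theorem Q92592 : ∀ i, i < 92592 → P i := stepQ 92591 Q92591 (allL N92591 (tt N63384 F397533) (tt N62990 F397534) (tt N63688 F397531) (tt N116943 (iv3 F502621)) (tt N109877 (iv4 F469046)) (tt N56097 (iv5 D195598)) (tt N117929 D221188) (tt N63687 F397532))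
theorem Q92593 : ∀ i, i < 92593 → P i := stepQ 92592 Q92592 (allL N92592 (tt N62808 F397538) (tt N62822 (iv0 F397539)) (tt N74860 F397535) (tt N93321 (iv3 F400389)) (tt N62784 F397536) (tt N62787 F397537) (tt N56099 (iv6 D195599)) (tt N74864 (iv7 F397540)))
theorem Q92594 : ∀ i, i < 92594 → P i := stepQ 92593 Q92593 (allL N92593 (tt N113126 (iv1 F484099)) (tt N84899 (iv0 F397543)) (tt N111190 (iv2 F475155)) (tt N76579 F397541) (tt N114331 (iv4 F489649)) (tt N85921 F397542) (tt N56100 (iv6 D195600)) (tt N113125 (iv7 F484093)))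
theorem Q92595 : ∀ i, i < 92595 → P i := stepQ 92594 Q92594 (allL N92594 (tt N76162 (iv1 F397546)) (tt N56105 (iv0 D195601)) (tt N107143 F457181) (tt N107135 F457141) (tt N63769 F397545) (tt N108077 (iv5 F461017)) (tt N99432 (iv6 F424553)) (tt N82164 (iv7 F397547)))
theorem Q92596 : ∀ i, i < 92596 → P i := stepQ 92595 Q92595 (allL N92595 (tt N56105 (iv1 D195602)) (tt N76162 F397548) (tt N82164 F397552) (tt N89638 (iv3 F397550)) (tt N63337 (iv4 F397549)) (tt N108063 (iv5 F460948)) (tt N65290 (iv6 F397551)) (tt N107143 (iv7 F457183)))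
theorem Q92597 : ∀ i, i < 92597 → P i := stepQ 92596 Q92596 (allL N92596 (tt N108362 (iv1 F462258)) (tt N108371 F462302) (tt N107144 (iv2 F457186)) (tt N105513 F450529) (tt N114676 (iv4 F491323)) (tt N56105 (iv5 D195603)) (tt N88806 F397553) (tt N107147 (iv7 F457197)))
theorem Q92598 : ∀ i, i < 92598 → P i := stepQ 92597 Q92597 (allL N92597 (tt N76201 F397559) (tt N76204 F397560) (tt N77676 F397554) (tt N64654 F397555) (tt N63357 F397556) (tt N76986 F397557) (tt N56107 (iv6 D195604)) (tt N82168 F397558))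
theorem Q92599 : ∀ i, i < 92599 → P i := stepQ 92598 Q92598 (allL N92598 (tt N92576 F397566) (tt N92575 F397567) (tt N56141 F397561) (tt N75569 F397562) (tt N72375 F397563) (tt N56114 (iv5 D195605)) (tt N72378 F397564) (tt N56135 F397565))
theorem Q92600 : ∀ i, i < 92600 → P i := stepQ 92599 Q92599 (allL N92599 (tt N56120 (iv1 D195606)) (tt N75956 F397568) (tt N64410 F397572) (tt N84345 (iv3 F397571)) (tt N63530 F397570) (tt N116740 (iv5 F501582)) (tt N72767 F397573) (tt N77044 F397569))
theorem Q92601 : ∀ i, i < 92601 → P i := stepQ 92600 Q92600 (allL N92600 (tt N108387 (iv1 F462366)) (tt N108389 (iv0 F462374)) (tt N77045 F397577) (tt N88565 F397578) (tt N113598 (iv4 F486232)) (tt N56120 (iv5 D195607)) (tt N77043 F397579) (tt N88840 F397580))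
theorem Q92602 : ∀ i, i < 92602 → P i := stepQ 92601 Q92601 (allL N92601 (tt N66038 F397585) (tt N66035 F397586) (tt N66427 F397581) (tt N100386 F428733) (tt N70964 F397582) (tt N56122 (iv5 D195608)) (tt N66238 F397583) (tt N77610 F397584))
theorem Q92603 : ∀ i, i < 92603 → P i := stepQ 92602 Q92602 (allL N92602 (tt N78129 F397590) (tt N74594 F397591) (tt N65385 F397587) (tt N56127 F397588) (tt N99626 (iv4 F425471)) (tt N56126 (iv5 D195609)) (tt N65383 F397589) (tt N99426 (iv7 F424521)))
theorem Q92604 : ∀ i, i < 92604 → P i := stepQ 92603 Q92603 (allL N92603 (tt N63756 F397597) (tt N75261 F397598) (tt N75444 F397592) (tt N74832 F397593) (tt N56132 (iv4 D195610)) (tt N75311 F397596) (tt N64049 F397594) (tt N75446 F397595))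
theorem Q92605 : ∀ i, i < 92605 → P i := stepQ 92604 Q92604 (allL N92604 (tt N63752 F397604) (tt N63751 F397603) (tt N77648 F397599) (tt N74390 F397600) (tt N56140 (iv4 D195611)) (tt N109803 (iv5 F468691)) (tt N75114 F397601) (tt N77647 F397602))
theorem Q92606 : ∀ i, i < 92606 → P i := stepQ 92605 Q92605 (allL N92605 (tt N64597 F397607) (tt N64596 F397608) (tt N56146 F397605) (tt N106488 (iv3 F454644)) (tt N102681 (iv4 F438185)) (tt N56143 (iv5 D195612)) (tt N102680 (iv6 F438182)) (tt N64592 F397606))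
theorem Q92607 : ∀ i, i < 92607 → P i := stepQ 92606 Q92606 (allL N92606 (tt N63098 (iv1 F397615)) (tt N64431 (iv0 F397614)) (tt N56147 F397609) (tt N64542 F397610) (tt N56144 F397611) (tt N90045 F397613) (tt N56143 (iv6 D195613)) (tt N64429 F397612))
theorem Q92608 : ∀ i, i < 92608 → P i := stepQ 92607 Q92607 (allL N92607 (tt N64592 (iv1 F397618)) (tt N56146 (iv0 D195614)) (tt N64597 (iv2 F397619)) (tt N88660 (iv3 F397621)) (tt N86014 F397617) (tt N72118 F397616) (tt N71924 (iv6 F397622)) (tt N64596 (iv7 F397620)))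
theorem Q92609 : ∀ i, i < 92609 → P i := stepQ 92608 Q92608 (allL N92608 (tt N56146 (iv1 D195615)) (tt N64592 F397628) (tt N64596 (iv2 F397633)) (tt N65204 (iv3 F397632)) (tt N76784 F397631) (tt N72117 F397630) (tt N76783 (iv6 F397634)) (tt N64597 F397629))
theorem Q92610 : ∀ i, i < 92610 → P i := stepQ 92609 Q92609 (allL N92609 (tt N63611 F397639) (tt N63620 (iv0 F397640)) (tt N67039 F397636) (tt N56149 (iv3 D195616)) (tt N99846 (iv4 F426498)) (tt N100071 (iv5 F427431)) (tt N62727 F397637) (tt N67038 F397638))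
theorem Q92611 : ∀ i, i < 92611 → P i := stepQ 92610 Q92610 (allL N92610 (tt N63612 F397646) (tt N67042 (iv0 F397647)) (tt N67041 F397641) (tt N56150 (iv3 D195617)) (tt N80915 F397642) (tt N81685 F397643) (tt N81340 F397644) (tt N63105 F397645))
theorem Q92612 : ∀ i, i < 92612 → P i := stepQ 92611 Q92611 (allL N92611 (tt N117930 D221189) (tt N104637 (iv0 F446636)) (tt N117931 D221190) (tt N56155 (iv3 D195618)) (tt N92729 (iv4 F398002)) (tt N56156 F397648) (tt N111795 (iv6 F478012)) (tt N92702 (iv7 F397917)))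
theorem Q92613 : ∀ i, i < 92613 → P i := stepQ 92612 Q92612 (allL N92612 (tt N92694 (iv1 F397895)) (tt N56156 (iv0 D195619)) (tt N92701 (iv2 F397914)) (tt N109131 F465479) (tt N98006 (iv4 F419145)) (tt N111241 (iv5 F475384)) (tt N117932 D221191) (tt N92700 F397915))
theorem Q92614 : ∀ i, i < 92614 → P i := stepQ 92613 Q92613 (allL N92613 (tt N56156 (iv1 D195620)) (tt N92694 (iv0 F397894)) (tt N92700 F397913) (tt N69156 (iv3 F397649)) (tt N92100 (iv4 F397650)) (tt N111242 (iv5 F475393)) (tt N69155 F397651) (tt N92701 (iv7 F397912)))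
theorem Q92615 : ∀ i, i < 92615 → P i := stepQ 92614 Q92614 (allL N92614 (tt N92701 (iv1 F397910)) (tt N92700 F397909) (tt N56156 (iv2 D195621)) (tt N117931 (iv3 F507658)) (tt N56165 F397652) (tt N117931 (iv5 F507660)) (tt N103314 (iv6 F441101)) (tt N92694 (iv7 F397893)))
theorem Q92616 : ∀ i, i < 92616 → P i := stepQ 92615 Q92615 (allL N92615 (tt N70825 (iv1 F397656)) (tt N68759 (iv0 F397655)) (tt N103314 (iv2 F441100)) (tt N56157 F397653) (tt N56166 F397654) (tt N117933 D221192) (tt N56156 (iv6 D195622)) (tt N103764 (iv7 F442733)))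
theorem Q92617 : ∀ i, i < 92617 → P i := stepQ 92616 Q92616 (allL N92616 (tt N111797 (iv1 F478022)) (tt N56157 (iv0 D195623)) (tt N111258 (iv2 F475483)) (tt N69148 (iv3 F397658)) (tt N75700 F397657) (tt N117934 D221193) (tt N69147 (iv6 F397659)) (tt N103837 (iv7 F443028)))
theorem Q92618 : ∀ i, i < 92618 → P i := stepQ 92617 Q92617 (allL N92617 (tt N56157 (iv1 D195624)) (tt N111797 F478021) (tt N103837 (iv2 F443025)) (tt N117935 D221194) (tt N100778 (iv4 F430431)) (tt N117936 D221195) (tt N103836 F443024) (tt N111258 (iv7 F475485)))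
theorem Q92619 : ∀ i, i < 92619 → P i := stepQ 92618 Q92618 (allL N92618 (tt N117937 D221196) (tt N117938 D221197) (tt N111796 (iv2 F478014)) (tt N117933 (iv3 F507671)) (tt N116015 (iv4 F498064)) (tt N56157 (iv5 D195625)) (tt N111796 (iv6 F478015)) (tt N117939 D221198))
theorem Q92620 : ∀ i, i < 92620 → P i := stepQ 92619 Q92619 (allL N92619 (tt N103837 (iv1 F443030)) (tt N111258 F475487) (tt N111797 (iv2 F478018)) (tt N103764 (iv3 F442731)) (tt N56161 F397660) (tt N117939 (iv5 F507696)) (tt N117940 D221199) (tt N56157 (iv7 D195626)))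
theorem Q92621 : ∀ i, i < 92621 → P i := stepQ 92620 Q92620 (allL N92620 (tt N117941 D221200) (tt N96393 (iv0 F418709)) (tt N97894 (iv2 F418685)) (tt N92703 (iv3 F397918)) (tt N56162 F397661) (tt N117942 D221201) (tt N56158 (iv6 D195627)) (tt N117940 (iv7 F507700)))
theorem Q92622 : ∀ i, i < 92622 → P i := stepQ 92621 Q92621 (allL N92621 (tt N84930 F397665) (tt N105319 F449694) (tt N70440 F397662) (tt N56160 (iv3 D195628)) (tt N106574 (iv4 F454916)) (tt N80714 F397663) (tt N67943 F397664) (tt N105318 (iv7 F449687)))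
theorem Q92623 : ∀ i, i < 92623 → P i := stepQ 92622 Q92622 (allL N92622 (tt N97901 F418722) (tt N102505 F437460) (tt N68853 F397666) (tt N103630 (iv3 F442307)) (tt N56160 (iv4 D195629)) (tt N117203 (iv5 F503887)) (tt N68851 F397667) (tt N102494 (iv7 F437429)))
theorem Q92624 : ∀ i, i < 92624 → P i := stepQ 92623 Q92623 (allL N92623 (tt N97896 (iv1 F418692)) (tt N97895 (iv0 F418691)) (tt N97897 (iv2 F418697)) (tt N56175 F397668) (tt N117940 (iv4 F507699)) (tt N66801 F397669) (tt N56161 (iv6 D195630)) (tt N56162 F397670))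
theorem Q92625 : ∀ i, i < 92625 → P i := stepQ 92624 Q92624 (allL N92624 (tt N97897 (iv1 F418702)) (tt N56162 (iv0 D195631)) (tt N97895 F418689) (tt N70770 F397671) (tt N103876 (iv4 F443178)) (tt N104175 (iv5 F444535)) (tt N70768 F397672) (tt N97896 (iv7 F418693)))
theorem Q92626 : ∀ i, i < 92626 → P i := stepQ 92625 Q92625 (allL N92625 (tt N56162 (iv1 D195632)) (tt N97897 F418701) (tt N97896 (iv2 F418695)) (tt N84428 F397674) (tt N109028 (iv4 F464994)) (tt N98245 (iv5 F420126)) (tt N84427 (iv6 F397673)) (tt N97895 F418690))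
theorem Q92627 : ∀ i, i < 92627 → P i := stepQ 92626 Q92626 (allL N92626 (tt N88770 (iv1 F397680)) (tt N88769 (iv0 F397679)) (tt N88772 (iv2 F397677)) (tt N56163 (iv3 D195633)) (tt N60653 F397676) (tt N93972 (iv5 F402667)) (tt N88750 (iv6 F397678)) (tt N84020 F397675))
theorem Q92628 : ∀ i, i < 92628 → P i := stepQ 92627 Q92627 (allL N92627 (tt N117943 D221202) (tt N117944 D221203) (tt N92698 (iv2 F397901)) (tt N104593 F446450) (tt N56163 (iv4 D195634)) (tt N104591 (iv5 F446451)) (tt N117945 D221204) (tt N92696 (iv7 F397899)))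
theorem Q92629 : ∀ i, i < 92629 → P i := stepQ 92628 Q92628 (allL N92628 (tt N60945 F397683) (tt N60942 F397685) (tt N92699 (iv2 F397903)) (tt N88750 F397681) (tt N117945 (iv4 F507721)) (tt N92240 (iv5 F397684)) (tt N56163 (iv6 D195635)) (tt N88746 F397682))
theorem Q92630 : ∀ i, i < 92630 → P i := stepQ 92629 Q92629 (allL N92629 (tt N104427 F445713) (tt N102345 F439253) (tt N88768 F397686) (tt N56164 (iv3 D195636)) (tt N117946 D221205) (tt N93975 (iv5 F402673)) (tt N88767 (iv6 F397687)) (tt N92697 (iv7 F397900)))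
theorem Q92631 : ∀ i, i < 92631 → P i := stepQ 92630 Q92630 (allL N92630 (tt N117944 (iv1 F507715)) (tt N117943 F507713) (tt N92696 (iv2 F397898)) (tt N109024 (iv3 F464984)) (tt N56164 (iv4 D195637)) (tt N111260 (iv5 F475495)) (tt N117947 D221206) (tt N92698 (iv7 F397902)))
theorem Q92632 : ∀ i, i < 92632 → P i := stepQ 92631 Q92631 (allL N92631 (tt N88744 (iv1 F397692)) (tt N88743 (iv0 F397690)) (tt N84019 F397688) (tt N88767 F397689) (tt N117947 (iv4 F507733)) (tt N113792 (iv5 F487132)) (tt N56164 (iv6 D195638)) (tt N88745 (iv7 F397691)))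
theorem Q92633 : ∀ i, i < 92633 → P i := stepQ 92632 Q92632 (allL N92632 (tt N61592 (iv1 F397696)) (tt N61573 F397697) (tt N92783 (iv2 F398203)) (tt N68669 F397693) (tt N92833 (iv4 F398427)) (tt N56168 F397694) (tt N68667 F397695) (tt N56167 (iv7 D195639)))
theorem Q92634 : ∀ i, i < 92634 → P i := stepQ 92633 Q92633 (allL N92633 (tt N70832 F397699) (tt N70830 (iv0 F397700)) (tt N102620 (iv2 F437925)) (tt N98014 (iv3 F419168)) (tt N56169 (iv4 D195640)) (tt N117948 D221207) (tt N66136 (iv6 F397701)) (tt N66137 F397698))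
theorem Q92635 : ∀ i, i < 92635 → P i := stepQ 92634 Q92634 (allL N92634 (tt N74780 (iv1 F397708)) (tt N84994 (iv0 F397707)) (tt N69220 F397702) (tt N56171 F397703) (tt N66136 F397704) (tt N63411 F397706) (tt N56169 (iv6 D195641)) (tt N66135 F397705))
theorem Q92636 : ∀ i, i < 92636 → P i := stepQ 92635 Q92635 (allL N92635 (tt N66134 (iv1 F397710)) (tt N56174 (iv0 D195642)) (tt N92786 F398224) (tt N66150 (iv3 F397712)) (tt N93072 (iv4 F399362)) (tt N68310 F397709) (tt N97825 (iv6 F418429)) (tt N92122 F397711))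
theorem Q92637 : ∀ i, i < 92637 → P i := stepQ 92636 Q92636 (allL N92636 (tt N117721 F506620) (tt N98702 (iv0 F421916)) (tt N92789 (iv2 F398237)) (tt N105673 F451195) (tt N117757 (iv4 F506818)) (tt N56176 (iv5 D195644)) (tt N117756 (iv6 F506816)) (tt N92792 (iv7 F398253)))
theorem Q92638 : ∀ i, i < 92638 → P i := stepQ 92637 Q92637 (allL N92637 (tt N92125 F417378) (tt N97825 F418430) (tt N92790 (iv2 F398239)) (tt N70600 (iv3 F398245)) (tt N68739 F397713) (tt N60190 F397714) (tt N56176 (iv6 D195645)) (tt N97275 (iv7 F416166)))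
theorem Q92639 : ∀ i, i < 92639 → P i := stepQ 92638 Q92638 (allL N92638 (tt N98702 F421917) (tt N117721 (iv0 F506619)) (tt N92792 (iv2 F398252)) (tt N84910 F397715) (tt N117949 D221208) (tt N56177 (iv5 D195646)) (tt N79046 F397716) (tt N92789 (iv7 F398238)))
theorem Q92640 : ∀ i, i < 92640 → P i := stepQ 92639 Q92639 (allL N92639 (tt N92657 (iv1 F397787)) (tt N98158 F419769) (tt N79947 F397717) (tt N73749 F397718) (tt N117950 D221209) (tt N56178 (iv5 D195647)) (tt N61076 F397719) (tt N93130 (iv7 F399612)))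
theorem Q92641 : ∀ i, i < 92641 → P i := stepQ 92640 Q92640 (allL N92640 (tt N84772 F397723) (tt N98297 (iv0 F420387)) (tt N98299 (iv2 F420394)) (tt N75758 F397720) (tt N56181 F397721) (tt N75756 F397722) (tt N56180 (iv6 D195648)) (tt N95839 (iv7 F409882)))
theorem Q92642 : ∀ i, i < 92642 → P i := stepQ 92641 Q92641 (allL N92641 (tt N98205 (iv1 F419983)) (tt N98204 F419982) (tt N66776 F397724) (tt N73159 F397725) (tt N117951 D221210) (tt N56182 (iv5 D195649)) (tt N92862 (iv6 F398559)) (tt N98203 (iv7 F419980)))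
theorem Q92643 : ∀ i, i < 92643 → P i := stepQ 92642 Q92642 (allL N92642 (tt N79931 F397730) (tt N78894 (iv0 F397729)) (tt N66777 F397726) (tt N73160 F397727) (tt N86973 F397728) (tt N92650 (iv5 F397763)) (tt N56182 (iv6 D195650)) (tt N110286 (iv7 F470846)))
theorem Q92644 : ∀ i, i < 92644 → P i := stepQ 92643 Q92643 (allL N92643 (tt N87942 (iv1 F397732)) (tt N104933 (iv0 F448011)) (tt N111773 (iv2 F477902)) (tt N96757 (iv3 F413800)) (tt N69506 F397731) (tt N108473 (iv5 F462742)) (tt N56184 (iv6 D195651)) (tt N111772 F477896))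
theorem Q92645 : ∀ i, i < 92645 → P i := stepQ 92644 Q92644 (allL N92644 (tt N71831 F397735) (tt N102871 F439030) (tt N102870 F439024) (tt N81705 F397733) (tt N93674 (iv4 F401523)) (tt N56185 (iv5 D195652)) (tt N93673 F401521) (tt N67141 F397734))
theorem Q92646 : ∀ i, i < 92646 → P i := stepQ 92645 Q92645 (allL N92645 (tt N115495 F495497) (tt N108320 (iv0 F462049)) (tt N111790 (iv2 F477986)) (tt N81706 F397737) (tt N100777 (iv4 F430422)) (tt N96854 (iv5 F414268)) (tt N56185 (iv6 D195653)) (tt N115494 (iv7 F495487)))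
theorem Q92647 : ∀ i, i < 92647 → P i := stepQ 92646 Q92646 (allL N92646 (tt N111792 (iv1 F478004)) (tt N56186 (iv0 D195654)) (tt N90374 (iv2 F397739)) (tt N115067 (iv3 F493323)) (tt N90372 F397738) (tt N117952 D221211) (tt N104893 F447833) (tt N90369 (iv7 F397740)))
theorem Q92648 : ∀ i, i < 92648 → P i := stepQ 92647 Q92647 (allL N92647 (tt N56186 (iv1 D195655)) (tt N111792 F478003) (tt N90369 F397748) (tt N83159 (iv3 F397747)) (tt N90368 (iv4 F397746)) (tt N102994 (iv5 F439593)) (tt N68085 (iv6 F415164)) (tt N90374 F397745))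
theorem Q92649 : ∀ i, i < 92649 → P i := stepQ 92648 Q92648 (allL N92648 (tt N90369 (iv1 F397752)) (tt N90374 F397753) (tt N111792 (iv2 F477998)) (tt N60128 F397749) (tt N78075 F397750) (tt N56187 F397751) (tt N108478 F462762) (tt N56186 (iv7 D195656)))
theorem Q92650 : ∀ i, i < 92650 → P i := stepQ 92649 Q92649 (allL N92649 (tt N75238 F397759) (tt N75237 F397760) (tt N75240 F397755) (tt N56190 F397756) (tt N75232 F397757) (tt N97277 (iv5 F416174)) (tt N56188 (iv6 D195657)) (tt N74433 F397758))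
theorem Q92651 : ∀ i, i < 92651 → P i := stepQ 92650 Q92650 (allL N92650 (tt N56192 (iv1 F397764)) (tt N56189 (iv0 D195658)) (tt N92843 (iv2 F398468)) (tt N92813 F398348) (tt N117953 D221212) (tt N92642 F397763) (tt N104955 (iv6 F448129)) (tt N84923 F397770))
theorem Q92652 : ∀ i, i < 92652 → P i := stepQ 92651 Q92651 (allL N92651 (tt N56189 (iv1 D195659)) (tt N56192 F397765) (tt N84923 (iv2 F397769)) (tt N56198 (iv3 F397766)) (tt N114448 (iv4 F490220)) (tt N85771 (iv5 F397767)) (tt N66634 F397768) (tt N92843 (iv7 F398470)))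
theorem Q92653 : ∀ i, i < 92653 → P i := stepQ 92652 Q92652 (allL N92652 (tt N117954 D221213) (tt N117955 D221214) (tt N111793 (iv2 F478005)) (tt N96996 (iv3 F414969)) (tt N56189 (iv4 D195660)) (tt N117047 (iv5 F503115)) (tt N96994 F414964) (tt N111794 (iv7 F478010)))
theorem Q92654 : ∀ i, i < 92654 → P i := stepQ 92653 Q92653 (allL N92653 (tt N78886 F397776) (tt N80710 F397777) (tt N75185 F397771) (tt N59999 F397772) (tt N56191 (iv4 D195661)) (tt N89461 F397775) (tt N59998 F397773) (tt N89460 F397774))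
theorem Q92655 : ∀ i, i < 92655 → P i := stepQ 92654 Q92654 (allL N92654 (tt N117955 (iv1 F507772)) (tt N117954 F507769) (tt N111794 (iv2 F478007)) (tt N117956 D221215) (tt N56192 (iv4 D195662)) (tt N117048 F503118) (tt N109444 F466991) (tt N111793 (iv7 F478006)))
theorem Q92656 : ∀ i, i < 92656 → P i := stepQ 92655 Q92655 (allL N92655 (tt N78902 F397779) (tt N56675 (iv0 F397780)) (tt N68203 F397778) (tt N109153 F465600) (tt N109444 (iv4 F466986)) (tt N117957 D221216) (tt N56192 (iv6 D195663)) (tt N78911 (iv7 F397781)))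
theorem Q92657 : ∀ i, i < 92657 → P i := stepQ 92656 Q92656 (allL N92656 (tt N74431 (iv1 F397786)) (tt N56193 (iv0 D195664)) (tt N74693 (iv2 F397784)) (tt N56208 F397783) (tt N115495 (iv4 F495494)) (tt N56651 F397782) (tt N98082 (iv6 F419382)) (tt N85776 F397785))
theorem Q92658 : ∀ i, i < 92658 → P i := stepQ 92657 Q92657 (allL N92657 (tt N61117 F397788) (tt N92639 F397787) (tt N108797 (iv2 F463995)) (tt N112358 (iv3 F480728)) (tt N102075 (iv4 F435609)) (tt N56193 (iv5 D195665)) (tt N117957 (iv6 F507783)) (tt N111777 (iv7 F477920)))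
theorem Q92659 : ∀ i, i < 92659 → P i := stepQ 92658 Q92658 (allL N92658 (tt N85776 (iv1 F397792)) (tt N74693 F397793) (tt N74431 F397789) (tt N75233 F397790) (tt N58488 F397791) (tt N111777 F477921) (tt N97276 (iv6 F416170)) (tt N56193 (iv7 D195666)))
theorem Q92660 : ∀ i, i < 92660 → P i := stepQ 92659 Q92659 (allL N92659 (tt N92849 (iv1 F398504)) (tt N56195 (iv0 D195667)) (tt N76666 (iv2 F397795)) (tt N81405 (iv3 F397796)) (tt N117958 D221217) (tt N76572 F397794) (tt N109185 (iv6 F465699)) (tt N84956 (iv7 F397797)))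
theorem Q92661 : ∀ i, i < 92661 → P i := stepQ 92660 Q92660 (allL N92660 (tt N117959 D221218) (tt N109180 F465683) (tt N109843 (iv2 F468864)) (tt N117960 D221219) (tt N56195 (iv4 D195668)) (tt N117657 (iv5 F506249)) (tt N102483 F437392) (tt N92851 (iv7 F398510)))
theorem Q92662 : ∀ i, i < 92662 → P i := stepQ 92661 Q92661 (allL N92661 (tt N92807 (iv1 F398315)) (tt N92805 (iv0 F398305)) (tt N92813 F398347) (tt N56197 (iv3 D195669)) (tt N113145 (iv4 F484181)) (tt N61180 F397799) (tt N117961 D221220) (tt N92814 (iv7 F398350)))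
theorem Q92663 : ∀ i, i < 92663 → P i := stepQ 92662 Q92662 (allL N92662 (tt N97907 (iv1 F418750)) (tt N97880 F418649) (tt N92844 (iv2 F398475)) (tt N117961 (iv3 F507799)) (tt N110281 (iv4 F470815)) (tt N60747 F397800) (tt N56197 (iv6 D195670)) (tt N66633 F397801))
theorem Q92664 : ∀ i, i < 92664 → P i := stepQ 92663 Q92663 (allL N92663 (tt N102384 (iv1 F437003)) (tt N60501 F419198) (tt N102382 F436995) (tt N56199 (iv3 D195671)) (tt N117960 (iv4 F507795)) (tt N98021 (iv5 F419194)) (tt N104306 (iv6 F445156)) (tt N92855 (iv7 F398527)))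
theorem Q92665 : ∀ i, i < 92665 → P i := stepQ 92664 Q92664 (allL N92664 (tt N56200 (iv1 D195672)) (tt N92847 F398487) (tt N92846 F398482) (tt N104005 (iv3 F443751)) (tt N92927 (iv4 F398790)) (tt N56611 F397803) (tt N97891 (iv6 F418680)) (tt N92129 F397802))
theorem Q92666 : ∀ i, i < 92666 → P i := stepQ 92665 Q92665 (allL N92665 (tt N92846 (iv1 F398479)) (tt N92129 (iv0 F397807)) (tt N92847 (iv2 F398483)) (tt N70764 F397804) (tt N67366 F397805) (tt N93195 (iv5 F399914)) (tt N57262 F397806) (tt N56200 (iv7 D195673)))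
theorem Q92667 : ∀ i, i < 92667 → P i := stepQ 92666 Q92666 (allL N92666 (tt N76951 F397810) (tt N92837 F398446) (tt N56203 F397808) (tt N95834 (iv3 F409865)) (tt N56202 (iv4 D195674)) (tt N88918 F397809) (tt N107323 (iv6 F457968)) (tt N92835 (iv7 F398437)))
theorem Q92668 : ∀ i, i < 92668 → P i := stepQ 92667 Q92667 (allL N92667 (tt N84164 F397813) (tt N84162 F397814) (tt N88918 F397811) (tt N98515 (iv3 F421184)) (tt N83925 F397812) (tt N56203 (iv5 D195675)) (tt N114691 (iv6 F491381)) (tt N92838 (iv7 F398448)))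
theorem Q92669 : ∀ i, i < 92669 → P i := stepQ 92668 Q92668 (allL N92668 (tt N68196 F397818) (tt N60775 (iv0 F397819)) (tt N68198 F397815) (tt N56207 F397816) (tt N78632 F397817) (tt N103901 (iv5 F443277)) (tt N56204 (iv6 D195676)) (tt N68197 (iv7 F397820)))
theorem Q92670 : ∀ i, i < 92670 → P i := stepQ 92669 Q92669 (allL N92669 (tt N102374 F436966) (tt N104368 (iv0 F445453)) (tt N115780 (iv2 F496831)) (tt N56206 (iv3 D195677)) (tt N117102 (iv4 F503400)) (tt N98023 (iv5 F419203)) (tt N87045 (iv6 F397827)) (tt N92845 (iv7 F398478)))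
theorem Q92671 : ∀ i, i < 92671 → P i := stepQ 92670 Q92670 (allL N92670 (tt N65717 (iv1 F397825)) (tt N60052 (iv0 F397824)) (tt N74376 F397821) (tt N87045 F397826) (tt N56207 F397822) (tt N111817 (iv5 F478134)) (tt N56206 (iv6 D195678)) (tt N74377 F397823))
theorem Q92672 : ∀ i, i < 92672 → P i := stepQ 92671 Q92671 (allL N92671 (tt N97824 (iv1 F418427)) (tt N104008 (iv0 F443767)) (tt N92856 (iv2 F398528)) (tt N103901 F443279) (tt N74059 (iv4 F397830)) (tt N56207 (iv5 D195679)) (tt N56209 F397829) (tt N97257 (iv7 F416104)))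
theorem Q92673 : ∀ i, i < 92673 → P i := stepQ 92672 Q92672 (allL N92672 (tt N56213 (iv1 F397836)) (tt N56212 F397837) (tt N56214 F397831) (tt N58253 F397832) (tt N77800 F397833) (tt N58988 F397834) (tt N65937 F397835) (tt N56211 (iv7 D195680)))
theorem Q92674 : ∀ i, i < 92674 → P i := stepQ 92673 Q92673 (allL N92673 (tt N95941 (iv1 F410368)) (tt N94449 (iv0 F404521)) (tt N66032 F397838) (tt N64573 F397839) (tt N76846 F397840) (tt N56212 (iv5 D195681)) (tt N102421 (iv6 F437164)) (tt N95747 F409435))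
theorem Q92675 : ∀ i, i < 92675 → P i := stepQ 92674 Q92674 (allL N92674 (tt N94449 (iv1 F404522)) (tt N95941 (iv0 F410367)) (tt N95747 (iv2 F409430)) (tt N57409 F397841) (tt N62156 F397844) (tt N56213 (iv5 D195682)) (tt N57407 F397842) (tt N66032 F397843))
theorem Q92676 : ∀ i, i < 92676 → P i := stepQ 92675 Q92675 (allL N92675 (tt N94442 F404491) (tt N66533 F397848) (tt N65933 F397845) (tt N117526 (iv3 F505518)) (tt N56215 (iv4 D195683)) (tt N96818 (iv5 F414105)) (tt N60160 F397846) (tt N65930 F397847))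
theorem Q92677 : ∀ i, i < 92677 → P i := stepQ 92676 Q92676 (allL N92676 (tt N97579 (iv1 F417444)) (tt N65965 (iv0 F397850)) (tt N97388 (iv2 F416658)) (tt N56219 (iv3 D195684)) (tt N96866 F414349) (tt N102905 (iv5 F439203)) (tt N96894 F414485) (tt N56225 F397849))
theorem Q92678 : ∀ i, i < 92678 → P i := stepQ 92677 Q92677 (allL N92677 (tt N60446 F397853) (tt N93976 (iv0 F402679)) (tt N56222 F397851) (tt N102905 (iv3 F439202)) (tt N109441 (iv4 F466975)) (tt N56219 (iv5 D195685)) (tt N102903 F439194) (tt N56227 F397852))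
theorem Q92679 : ∀ i, i < 92679 → P i := stepQ 92678 Q92678 (allL N92678 (tt N65929 (iv1 F397857)) (tt N60599 (iv0 F397856)) (tt N56223 F397854) (tt N96894 (iv3 F414481)) (tt N65563 F397855) (tt N96893 F414479) (tt N56219 (iv6 D195686)) (tt N80444 (iv7 F397858)))
theorem Q92680 : ∀ i, i < 92680 → P i := stepQ 92679 Q92679 (allL N92679 (tt N56220 (iv1 D195687)) (tt N97391 F416678) (tt N65947 F397862) (tt N58265 (iv3 F397861)) (tt N60630 F397863) (tt N71643 F397860) (tt N96635 (iv6 F413271)) (tt N97387 (iv7 F416656)))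
theorem Q92681 : ∀ i, i < 92681 → P i := stepQ 92680 Q92680 (allL N92680 (tt N101982 F435213) (tt N95668 (iv0 F409058)) (tt N102113 (iv2 F435792)) (tt N56221 (iv3 D195688)) (tt N97385 (iv4 F416640)) (tt N95812 (iv5 F409769)) (tt N82539 F397864) (tt N97397 (iv7 F416713)))
theorem Q92682 : ∀ i, i < 92682 → P i := stepQ 92681 Q92681 (allL N92681 (tt N97651 F417781) (tt N67393 (iv0 F397867)) (tt N56226 F397865) (tt N97397 (iv3 F416712)) (tt N56224 F397866) (tt N95815 (iv5 F409773)) (tt N111815 (iv6 F478122)) (tt N56221 (iv7 D195689)))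
theorem Q92683 : ∀ i, i < 92683 → P i := stepQ 92682 Q92682 (allL N92682 (tt N56227 (iv1 F397873)) (tt N56222 (iv0 D195690)) (tt N60446 (iv2 F397868)) (tt N65983 F397869) (tt N103696 (iv4 F442516)) (tt N60445 F397870) (tt N116235 (iv6 F499163)) (tt N93976 (iv7 F402678)))
theorem Q92684 : ∀ i, i < 92684 → P i := stepQ 92683 Q92683 (allL N92683 (tt N117962 D221221) (tt N117963 D221222) (tt N109441 (iv2 F466973)) (tt N103792 (iv3 F442836)) (tt N56222 (iv4 D195691)) (tt N117964 D221223) (tt N103790 F442830) (tt N117965 D221224))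
theorem Q92685 : ∀ i, i < 92685 → P i := stepQ 92684 Q92684 (allL N92684 (tt N93976 F402680) (tt N60446 F397874) (tt N56227 F397871) (tt N97400 (iv3 F416738)) (tt N117965 (iv4 F507822)) (tt N56224 F397872) (tt N117966 D221225) (tt N56222 (iv7 D195692)))
theorem Q92686 : ∀ i, i < 92686 → P i := stepQ 92685 Q92685 (allL N92685 (tt N60599 (iv1 F397877)) (tt N65929 F397878) (tt N80444 F397875) (tt N112284 (iv3 F480351)) (tt N65962 F397876) (tt N93913 (iv5 F402413)) (tt N93249 (iv6 F400118)) (tt N56223 (iv7 D195693)))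
theorem Q92687 : ∀ i, i < 92687 → P i := stepQ 92686 Q92686 (allL N92686 (tt N97388 F416661) (tt N56225 (iv0 D195694)) (tt N65965 (iv2 F397881)) (tt N65980 F397880) (tt N60609 F397879) (tt N93668 (iv5 F401499)) (tt N102002 (iv6 F435314)) (tt N97579 (iv7 F417443)))
theorem Q92688 : ∀ i, i < 92688 → P i := stepQ 92687 Q92687 (allL N92687 (tt N65965 (iv1 F414334)) (tt N97579 F417445) (tt N56225 (iv2 D195695)) (tt N97391 (iv3 F416676)) (tt N96864 F414333) (tt N93102 F399505) (tt N111463 (iv6 F476459)) (tt N97388 (iv7 F416664)))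
theorem Q92689 : ∀ i, i < 92689 → P i := stepQ 92688 Q92688 (allL N92688 (tt N93225 F417087) (tt N87915 (iv0 F397888)) (tt N93102 (iv2 F399504)) (tt N56227 F397882) (tt N117967 D221226) (tt N56225 (iv5 D195696)) (tt N56401 F397887) (tt N102905 (iv7 F439204)))
theorem Q92690 : ∀ i, i < 92690 → P i := stepQ 92689 Q92689 (allL N92689 (tt N104354 F445397) (tt N117968 D221227) (tt N111463 (iv2 F476458)) (tt N56228 F397883) (tt N80241 (iv4 F397885)) (tt N87591 (iv5 F397884)) (tt N56225 (iv6 D195697)) (tt N102133 (iv7 F435886)))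
theorem Q92691 : ∀ i, i < 92691 → P i := stepQ 92690 Q92690 (allL N92690 (tt N95814 (iv1 F409771)) (tt N95813 F409774) (tt N95815 (iv2 F409772)) (tt N102111 (iv3 F435782)) (tt N97003 (iv4 F414984)) (tt N56226 (iv5 D195698)) (tt N102164 (iv6 F435996)) (tt N65560 F397889))
theorem Q92692 : ∀ i, i < 92692 → P i := stepQ 92691 Q92691 (allL N92691 (tt N115416 F495090) (tt N115777 (iv0 F496817)) (tt N111815 (iv2 F478119)) (tt N102112 (iv3 F435788)) (tt N56228 F397890) (tt N103458 F441721) (tt N56226 (iv6 D195699)) (tt N97610 (iv7 F417591)))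
theorem Q92693 : ∀ i, i < 92693 → P i := stepQ 92692 Q92692 (allL N92692 (tt N117963 (iv1 F507811)) (tt N117962 (iv0 F507810)) (tt N117965 (iv2 F507820)) (tt N109443 (iv3 F466980)) (tt N56227 (iv4 D195700)) (tt N97744 (iv5 F418129)) (tt N117969 D221228) (tt N109441 F466976))
theorem Q92694 : ∀ i, i < 92694 → P i := stepQ 92693 Q92693 (allL N92693 (tt N97642 F417742) (tt N103690 F442491) (tt N117966 (iv2 F507824)) (tt N56401 F397891) (tt N117969 (iv4 F507842)) (tt N93006 (iv5 F399100)) (tt N56227 (iv6 D195701)) (tt N93103 (iv7 F399506)))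
theorem Q92695 : ∀ i, i < 92695 → P i := stepQ 92694 Q92694 (allL N92694 (tt N92613 F397894) (tt N92612 F397895) (tt N56232 F397892) (tt N117970 D221229) (tt N56229 (iv4 D195702)) (tt N117970 F507849) (tt N117971 D221230) (tt N92614 F397893))
theorem Q92696 : ∀ i, i < 92696 → P i := stepQ 92695 Q92695 (allL N92695 (tt N117972 D221231) (tt N116214 (iv0 F499057)) (tt N56233 F397896) (tt N65991 F397897) (tt N117971 (iv4 F507854)) (tt N97469 F416987) (tt N56229 (iv6 D195703)) (tt N102241 (iv7 F436325)))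
theorem Q92697 : ∀ i, i < 92697 → P i := stepQ 92696 Q92696 (allL N92696 (tt N117973 D221232) (tt N107063 (iv0 F487283)) (tt N92630 F397898) (tt N113820 (iv3 F487278)) (tt N56230 (iv4 D195704)) (tt N105750 (iv5 F451525)) (tt N113819 F487276) (tt N92627 F397899))
theorem Q92698 : ∀ i, i < 92698 → P i := stepQ 92697 Q92697 (allL N92697 (tt N93668 (iv1 F401501)) (tt N97505 F417146) (tt N116283 (iv2 F499344)) (tt N56231 (iv3 D195705)) (tt N117974 D221233) (tt N97485 (iv5 F417047)) (tt N68756 (iv6 F397908)) (tt N92629 F397900))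
theorem Q92699 : ∀ i, i < 92699 → P i := stepQ 92698 Q92698 (allL N92698 (tt N107063 (iv1 F487284)) (tt N117973 F507864) (tt N92627 F397901) (tt N117975 D221234) (tt N56231 (iv4 D195706)) (tt N105751 (iv5 F451532)) (tt N117976 D221235) (tt N92630 F397902))
theorem Q92700 : ∀ i, i < 92700 → P i := stepQ 92699 Q92699 (allL N92699 (tt N92178 (iv1 F397906)) (tt N92176 F397905) (tt N92628 F397903) (tt N68756 F397907) (tt N117976 (iv4 F507878)) (tt N61568 (iv5 F397904)) (tt N56231 (iv6 D195707)) (tt N98016 (iv7 F419176)))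
theorem Q92701 : ∀ i, i < 92701 → P i := stepQ 92700 Q92700 (allL N92700 (tt N92614 (iv1 F397909)) (tt N56232 (iv0 D195708)) (tt N92613 (iv2 F397913)) (tt N104635 (iv3 F446626)) (tt N117703 (iv4 F506516)) (tt N98065 (iv5 F445765)) (tt N104634 F446624) (tt N92612 (iv7 F397915)))
theorem Q92702 : ∀ i, i < 92702 → P i := stepQ 92701 Q92701 (allL N92701 (tt N56232 (iv1 D195709)) (tt N92614 F397910) (tt N92612 F397914) (tt N104639 (iv3 F446644)) (tt N60936 (iv4 F397911)) (tt N98066 (iv5 F419332)) (tt N104362 (iv6 F445432)) (tt N92613 F397912))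
theorem Q92703 : ∀ i, i < 92703 → P i := stepQ 92702 Q92702 (allL N92702 (tt N111238 (iv1 F475372)) (tt N103697 (iv0 F442522)) (tt N117970 (iv2 F507845)) (tt N60818 F397916) (tt N97670 F417860) (tt N56232 (iv5 D195710)) (tt N97669 (iv6 F417862)) (tt N92611 F397917))
theorem Q92704 : ∀ i, i < 92704 → P i := stepQ 92703 Q92703 (allL N92703 (tt N109143 F465546) (tt N117977 D221236) (tt N117971 (iv2 F507852)) (tt N92620 F397918) (tt N56233 F397919) (tt N98049 (iv5 F419291)) (tt N56232 (iv6 D195711)) (tt N117978 D221237))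
theorem Q92705 : ∀ i, i < 92705 → P i := stepQ 92704 Q92704 (allL N92704 (tt N102241 F436327) (tt N56233 (iv0 D195712)) (tt N117972 F507859) (tt N71640 F418044) (tt N117979 D221238) (tt N102129 F435872) (tt N112858 (iv6 F482998)) (tt N116214 (iv7 F499056)))
theorem Q92706 : ∀ i, i < 92706 → P i := stepQ 92705 Q92705 (allL N92705 (tt N56233 (iv1 D195713)) (tt N102241 (iv0 F436326)) (tt N116214 (iv2 F499054)) (tt N97578 F419215) (tt N117980 D221239) (tt N102123 (iv5 F435849)) (tt N97576 (iv6 F419214)) (tt N117972 (iv7 F507861)))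
theorem Q92707 : ∀ i, i < 92707 → P i := stepQ 92706 Q92706 (allL N92706 (tt N116214 (iv1 F499058)) (tt N117972 F507860) (tt N102241 (iv2 F436323)) (tt N56236 F397920) (tt N117978 (iv4 F507889)) (tt N97470 (iv5 F416995)) (tt N68722 F397921) (tt N56233 (iv7 D195714)))
theorem Q92708 : ∀ i, i < 92708 → P i := stepQ 92707 Q92707 (allL N92707 (tt N117981 D221240) (tt N102179 (iv0 F436061)) (tt N66010 F397922) (tt N102160 F435976) (tt N117982 D221241) (tt N56234 (iv5 D195715)) (tt N102184 (iv6 F436080)) (tt N66013 F397923))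
theorem Q92709 : ∀ i, i < 92709 → P i := stepQ 92708 Q92708 (allL N92708 (tt N97543 F417324) (tt N114430 (iv0 F490119)) (tt N56253 (iv2 F397926)) (tt N56235 (iv3 D195716)) (tt N56248 F397924) (tt N117983 D221242) (tt N90424 (iv6 F397934)) (tt N56255 F397925))
theorem Q92710 : ∀ i, i < 92710 → P i := stepQ 92709 Q92709 (allL N92709 (tt N102179 (iv1 F436062)) (tt N117981 F507900) (tt N66013 F397927) (tt N117983 (iv3 F507910)) (tt N117984 D221243) (tt N56235 (iv5 D195717)) (tt N95813 (iv6 F409770)) (tt N66010 F397928))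
theorem Q92711 : ∀ i, i < 92711 → P i := stepQ 92710 Q92710 (allL N92710 (tt N85942 (iv1 F397932)) (tt N67421 (iv0 F397931)) (tt N66014 F397929) (tt N90424 F397933) (tt N91784 F397930) (tt N117985 D221244) (tt N56235 (iv6 D195718)) (tt N114966 (iv7 F492807)))
theorem Q92712 : ∀ i, i < 92712 → P i := stepQ 92711 Q92711 (allL N92711 (tt N56258 F397937) (tt N56257 F397938) (tt N56262 F397935) (tt N97670 (iv3 F417858)) (tt N56239 (iv4 D195719)) (tt N92760 (iv5 F398101)) (tt N97668 F417857) (tt N56250 F397936))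
theorem Q92713 : ∀ i, i < 92713 → P i := stepQ 92712 Q92712 (allL N92712 (tt N66003 (iv1 F417299)) (tt N97536 (iv0 F417297)) (tt N56266 F397939) (tt N60819 F397940) (tt N97668 (iv4 F417855)) (tt N61199 F397941) (tt N56239 (iv6 D195720)) (tt N97547 (iv7 F417341)))
theorem Q92714 : ∀ i, i < 92714 → P i := stepQ 92713 Q92713 (allL N92713 (tt N114450 (iv1 F490233)) (tt N106887 (iv0 F456141)) (tt N56242 F397942) (tt N102015 (iv3 F435350)) (tt N56240 (iv4 D195721)) (tt N102014 F435347) (tt N105763 (iv6 F451585)) (tt N56246 F397943))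
theorem Q92715 : ∀ i, i < 92715 → P i := stepQ 92714 Q92714 (allL N92714 (tt N60982 F397946) (tt N57258 F397947) (tt N60861 F397944) (tt N65817 (iv3 F397948)) (tt N56241 (iv4 D195722)) (tt N65786 (iv5 F397949)) (tt N65789 F397945) (tt N97874 (iv7 F418622)))
theorem Q92716 : ∀ i, i < 92716 → P i := stepQ 92715 Q92715 (allL N92715 (tt N56246 (iv1 F397952)) (tt N56242 (iv0 D195723)) (tt N114450 (iv2 F490228)) (tt N106063 (iv3 F452960)) (tt N60850 F397951) (tt N117986 D221245) (tt N88250 (iv6 F397953)) (tt N106887 (iv7 F456140)))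
theorem Q92717 : ∀ i, i < 92717 → P i := stepQ 92716 Q92716 (allL N92716 (tt N56242 (iv1 D195724)) (tt N56246 F397954) (tt N106887 (iv2 F456137)) (tt N102821 (iv3 F438800)) (tt N60860 F397955) (tt N117987 D221246) (tt N115746 (iv6 F496639)) (tt N114450 (iv7 F490231)))
theorem Q92718 : ∀ i, i < 92718 → P i := stepQ 92717 Q92717 (allL N92717 (tt N56417 F397958) (tt N113057 (iv0 F483775)) (tt N102239 (iv2 F436310)) (tt N56242 (iv3 D195725)) (tt N87049 F397956) (tt N102237 F436306) (tt N69774 (iv6 F397957)) (tt N113143 (iv7 F484171)))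
theorem Q92719 : ∀ i, i < 92719 → P i := stepQ 92718 Q92718 (allL N92718 (tt N102154 F435950) (tt N102233 F436287) (tt N102014 (iv2 F435348)) (tt N102237 (iv3 F436302)) (tt N92759 F398100) (tt N56242 (iv5 D195726)) (tt N65888 F397962) (tt N102234 (iv7 F436294)))
theorem Q92720 : ∀ i, i < 92720 → P i := stepQ 92719 Q92719 (allL N92719 (tt N70813 F397963) (tt N70804 F397964) (tt N105763 (iv2 F451583)) (tt N69774 F397959) (tt N56243 F397960) (tt N65889 (iv5 F397961)) (tt N56242 (iv6 D195727)) (tt N102404 (iv7 F437094)))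
theorem Q92721 : ∀ i, i < 92721 → P i := stepQ 92720 Q92720 (allL N92720 (tt N70729 (iv1 F397971)) (tt N56243 (iv0 D195728)) (tt N60809 (iv2 F397966)) (tt N60817 F397967) (tt N67260 F397965) (tt N103357 (iv5 F441261)) (tt N117988 D221247) (tt N104161 (iv7 F444485)))
theorem Q92722 : ∀ i, i < 92722 → P i := stepQ 92721 Q92721 (allL N92721 (tt N104161 F444487) (tt N60809 (iv0 F397972)) (tt N70729 F397968) (tt N70622 F397969) (tt N102404 (iv4 F437095)) (tt N70729 F397970) (tt N102939 F439352) (tt N56243 (iv7 D195729)))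
theorem Q92723 : ∀ i, i < 92723 → P i := stepQ 92722 Q92722 (allL N92722 (tt N57258 F397976) (tt N60982 F397977) (tt N97874 F418620) (tt N56420 F397973) (tt N56245 (iv4 D195730)) (tt N92759 (iv5 F398099)) (tt N85848 F397974) (tt N60861 F397975))
theorem Q92724 : ∀ i, i < 92724 → P i := stepQ 92723 Q92723 (allL N92723 (tt N86007 F397982) (tt N86021 (iv0 F397981)) (tt N113142 (iv2 F484160)) (tt N102236 (iv3 F436300)) (tt N56247 F397980) (tt N117989 D221248) (tt N56246 (iv6 D195733)) (tt N114432 (iv7 F490132)))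
theorem Q92725 : ∀ i, i < 92725 → P i := stepQ 92724 Q92724 (allL N92724 (tt N60831 (iv1 F397986)) (tt N102940 F439356) (tt N102939 F439348) (tt N70731 F397983) (tt N114432 (iv4 F490128)) (tt N83647 F397984) (tt N70729 F397985) (tt N56247 (iv7 D195734)))
theorem Q92726 : ∀ i, i < 92726 → P i := stepQ 92725 Q92725 (allL N92725 (tt N60739 F419058) (tt N111323 (iv0 F475822)) (tt N56254 F397987) (tt N70626 F397988) (tt N90424 F397989) (tt N103034 (iv5 F439769)) (tt N56248 (iv6 D195735)) (tt N117713 (iv7 F506575)))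
theorem Q92727 : ∀ i, i < 92727 → P i := stepQ 92726 Q92726 (allL N92726 (tt N114430 (iv1 F490120)) (tt N97543 F417325) (tt N56255 F397990) (tt N80427 F397991) (tt N56249 (iv4 D195736)) (tt N102193 (iv5 F436119)) (tt N80426 (iv6 F397993)) (tt N56253 F397992))
theorem Q92728 : ∀ i, i < 92728 → P i := stepQ 92727 Q92727 (allL N92727 (tt N102933 (iv1 F439320)) (tt N60790 (iv0 F397998)) (tt N56256 F397994) (tt N74405 F397995) (tt N80426 F397996) (tt N56625 F397997) (tt N56249 (iv6 D195737)) (tt N102932 (iv7 F439312)))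
theorem Q92729 : ∀ i, i < 92729 → P i := stepQ 92728 Q92728 (allL N92728 (tt N56250 (iv1 D195738)) (tt N56262 F397999) (tt N56258 (iv2 F398001)) (tt N113157 (iv3 F484250)) (tt N93139 (iv4 F399648)) (tt N117990 D221249) (tt N113156 F484246) (tt N56257 F398000))
theorem Q92730 : ∀ i, i < 92730 → P i := stepQ 92729 Q92729 (allL N92729 (tt N97002 (iv1 F414983)) (tt N92105 (iv0 F398003)) (tt N97743 (iv2 F418128)) (tt N56250 (iv3 D195739)) (tt N92611 F398002) (tt N102006 (iv5 F435331)) (tt N98013 F419167) (tt N97670 F417861))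
theorem Q92731 : ∀ i, i < 92731 → P i := stepQ 92730 Q92730 (allL N92730 (tt N97940 (iv1 F418891)) (tt N102210 (iv0 F436205)) (tt N56260 F398004) (tt N102006 (iv3 F435329)) (tt N92762 (iv4 F398113)) (tt N56250 (iv5 D195740)) (tt N102012 (iv6 F435336)) (tt N92760 (iv7 F398110)))
theorem Q92732 : ∀ i, i < 92732 → P i := stepQ 92731 Q92731 (allL N92731 (tt N56690 F398009) (tt N70819 (iv0 F398008)) (tt N56261 F398005) (tt N98013 (iv3 F419165)) (tt N56251 F398006) (tt N77237 (iv5 F398007)) (tt N56250 (iv6 D195741)) (tt N77236 F398010))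
theorem Q92733 : ∀ i, i < 92733 → P i := stepQ 92732 Q92732 (allL N92732 (tt N56265 F398017) (tt N56251 (iv0 D195742)) (tt N56263 (iv2 F398014)) (tt N74881 (iv3 F398015)) (tt N92186 F398012) (tt N80488 F398011) (tt N80475 F398013) (tt N56264 (iv7 F398016)))
theorem Q92734 : ∀ i, i < 92734 → P i := stepQ 92733 Q92733 (allL N92733 (tt N56251 (iv1 D195743)) (tt N56265 F398018) (tt N56264 (iv2 F398021)) (tt N100022 (iv3 F427239)) (tt N98031 (iv4 F419233)) (tt N66573 F398020) (tt N103414 (iv6 F441513)) (tt N56263 F398019))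
theorem Q92735 : ∀ i, i < 92735 → P i := stepQ 92734 Q92734 (allL N92734 (tt N56264 (iv1 F398026)) (tt N56263 F398027) (tt N56265 F398022) (tt N79977 F398023) (tt N77236 F398024) (tt N56302 F398025) (tt N97547 F417343) (tt N56251 (iv7 D195744)))
theorem Q92736 : ∀ i, i < 92736 → P i := stepQ 92735 Q92735 (allL N92735 (tt N70735 F398031) (tt N115225 (iv0 F494108)) (tt N74404 F398028) (tt N56254 F398029) (tt N105233 F449328) (tt N76281 F398030) (tt N56252 (iv6 D195745)) (tt N105235 (iv7 F449335)))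
theorem Q92737 : ∀ i, i < 92737 → P i := stepQ 92736 Q92736 (allL N92736 (tt N56255 (iv1 F398033)) (tt N56253 (iv0 D195746)) (tt N97543 (iv2 F417321)) (tt N71633 (iv3 F398034)) (tt N60846 F398032) (tt N102154 (iv5 F435949)) (tt N65949 F398035) (tt N114430 (iv7 F490118)))
theorem Q92738 : ∀ i, i < 92738 → P i := stepQ 92737 Q92737 (allL N92737 (tt N56253 (iv1 D195747)) (tt N56255 F398036) (tt N114430 (iv2 F490115)) (tt N103441 (iv3 F441650)) (tt N60859 (iv4 F398037)) (tt N102233 (iv5 F436286)) (tt N98030 F419231) (tt N97543 F417323))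
theorem Q92739 : ∀ i, i < 92739 → P i := stepQ 92738 Q92738 (allL N92738 (tt N82788 F398041) (tt N82787 (iv0 F398042)) (tt N66012 F398038) (tt N56253 (iv3 D195748)) (tt N87835 F398039) (tt N102116 (iv5 F435813)) (tt N103251 F440800) (tt N80427 F398040))
theorem Q92740 : ∀ i, i < 92740 → P i := stepQ 92739 Q92739 (allL N92739 (tt N117991 D221250) (tt N117992 D221251) (tt N117983 (iv2 F507909)) (tt N102116 (iv3 F435810)) (tt N92753 (iv4 F398076)) (tt N56253 (iv5 D195749)) (tt N94850 F406139) (tt N102193 (iv7 F436120)))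
theorem Q92741 : ∀ i, i < 92741 → P i := stepQ 92740 Q92740 (allL N92740 (tt N70802 F406142) (tt N90426 F406145) (tt N90424 F398045) (tt N103251 F440797) (tt N56254 F398046) (tt N94851 (iv5 F406141)) (tt N56253 (iv6 D195750)) (tt N90425 F398047))
theorem Q92742 : ∀ i, i < 92742 → P i := stepQ 92741 Q92741 (allL N92741 (tt N117713 (iv1 F506574)) (tt N56254 (iv0 D195751)) (tt N60739 (iv2 F406147)) (tt N75735 F406148) (tt N103360 (iv4 F441277)) (tt N115335 (iv5 F494647)) (tt N102528 (iv6 F437519)) (tt N111323 (iv7 F475821)))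
theorem Q92743 : ∀ i, i < 92743 → P i := stepQ 92742 Q92742 (allL N92742 (tt N107921 F460300) (tt N115042 (iv0 F493185)) (tt N103034 (iv2 F439767)) (tt N76281 F398048) (tt N116983 (iv4 F502822)) (tt N56254 (iv5 D195753)) (tt N56318 F398049) (tt N117993 D221252))
theorem Q92744 : ∀ i, i < 92744 → P i := stepQ 92743 Q92743 (allL N92743 (tt N111323 F475824) (tt N60739 (iv0 F398051)) (tt N117713 (iv2 F506578)) (tt N105235 (iv3 F449333)) (tt N90425 F398050) (tt N117993 (iv5 F507965)) (tt N102932 F439315) (tt N56254 (iv7 D195754)))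
theorem Q92745 : ∀ i, i < 92745 → P i := stepQ 92744 Q92744 (allL N92744 (tt N117992 (iv1 F507958)) (tt N117991 F507954) (tt N102193 (iv2 F436116)) (tt N66010 F398052) (tt N92750 (iv4 F398067)) (tt N56255 (iv5 D195755)) (tt N102175 (iv6 F436043)) (tt N117983 (iv7 F507911)))
theorem Q92746 : ∀ i, i < 92746 → P i := stepQ 92745 Q92745 (allL N92745 (tt N113152 F484224) (tt N112820 (iv0 F482782)) (tt N80426 F398053) (tt N66011 F398054) (tt N56256 F398055) (tt N80425 (iv5 F398056)) (tt N56255 (iv6 D195756)) (tt N113153 (iv7 F484229)))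
theorem Q92747 : ∀ i, i < 92747 → P i := stepQ 92746 Q92746 (allL N92746 (tt N56256 (iv1 D195757)) (tt N102932 F439311) (tt N60790 (iv2 F398064)) (tt N75738 F398061) (tt N56688 (iv4 F398063)) (tt N87555 (iv5 F398060)) (tt N56687 F398062) (tt N102933 (iv7 F439319)))
theorem Q92748 : ∀ i, i < 92748 → P i := stepQ 92747 Q92747 (allL N92747 (tt N92974 (iv1 F443757)) (tt N104006 F443756) (tt N56625 F398057) (tt N79093 F398058) (tt N112412 (iv4 F480990)) (tt N56256 (iv5 D195758)) (tt N56619 F398059) (tt N117994 D221253))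
theorem Q92749 : ∀ i, i < 92749 → P i := stepQ 92748 Q92748 (allL N92748 (tt N60790 (iv1 F398066)) (tt N102933 F439321) (tt N102932 F439310) (tt N91038 F398065) (tt N113153 (iv4 F484226)) (tt N117994 (iv5 F507972)) (tt N117713 (iv6 F506579)) (tt N56256 (iv7 D195759)))
theorem Q92750 : ∀ i, i < 92750 → P i := stepQ 92749 Q92749 (allL N92749 (tt N102244 F436343) (tt N102246 F436353) (tt N103374 (iv2 F441334)) (tt N56257 (iv3 D195760)) (tt N109103 (iv4 F465356)) (tt N117995 D221254) (tt N103373 (iv6 F441332)) (tt N113157 (iv7 F484255)))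
theorem Q92751 : ∀ i, i < 92751 → P i := stepQ 92750 Q92750 (allL N92750 (tt N117996 D221255) (tt N97875 (iv0 F418624)) (tt N97950 (iv2 F418932)) (tt N117995 (iv3 F507977)) (tt N92744 F398067) (tt N56257 (iv5 D195761)) (tt N65743 F418937) (tt N117990 (iv7 F507948)))
theorem Q92752 : ∀ i, i < 92752 → P i := stepQ 92751 Q92751 (allL N92751 (tt N103360 F441278) (tt N103368 F441314) (tt N97951 (iv2 F418939)) (tt N103373 (iv3 F441330)) (tt N97949 (iv4 F418928)) (tt N92059 (iv5 F418938)) (tt N56257 (iv6 D195762)) (tt N103369 (iv7 F441318)))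
theorem Q92753 : ∀ i, i < 92753 → P i := stepQ 92752 Q92752 (allL N92752 (tt N68847 (iv1 F398072)) (tt N92099 F398073) (tt N65712 (iv2 F398070)) (tt N56258 (iv3 D195763)) (tt N56679 F398068) (tt N65522 (iv5 F398074)) (tt N56529 (iv6 F398071)) (tt N92102 F398069))
theorem Q92754 : ∀ i, i < 92754 → P i := stepQ 92753 Q92753 (allL N92753 (tt N97875 (iv1 F418625)) (tt N117996 F507986) (tt N117990 (iv2 F507944)) (tt N65522 F398075) (tt N92739 F398076) (tt N56258 (iv5 D195764)) (tt N59606 (iv6 F398077)) (tt N97950 (iv7 F418934)))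
theorem Q92755 : ∀ i, i < 92755 → P i := stepQ 92754 Q92754 (allL N92754 (tt N102934 (iv1 F439328)) (tt N56688 F418281) (tt N113156 (iv2 F484243)) (tt N56529 F398078) (tt N97947 (iv4 F418917)) (tt N59607 F398079) (tt N56258 (iv6 D195765)) (tt N68744 (iv7 F398080)))
theorem Q92756 : ∀ i, i < 92756 → P i := stepQ 92755 Q92755 (allL N92755 (tt N65780 (iv1 F398083)) (tt N56259 (iv0 D195766)) (tt N65999 (iv2 F398082)) (tt N97710 (iv3 F418016)) (tt N65900 F398081) (tt N65902 (iv5 F398085)) (tt N97551 (iv6 F417351)) (tt N65998 F398084))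
theorem Q92757 : ∀ i, i < 92757 → P i := stepQ 92756 Q92756 (allL N92756 (tt N65999 (iv1 F398089)) (tt N65998 F398088) (tt N56259 (iv2 D195767)) (tt N97743 F418126) (tt N56270 F398086) (tt N65782 F398090) (tt N117989 (iv6 F507940)) (tt N65780 F398087))
theorem Q92758 : ∀ i, i < 92758 → P i := stepQ 92757 Q92757 (allL N92757 (tt N65778 F398096) (tt N65777 F398095) (tt N65782 F398091) (tt N56260 F398092) (tt N65752 F398093) (tt N56259 (iv5 D195768)) (tt N102234 (iv6 F436293)) (tt N65769 F398094))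
theorem Q92759 : ∀ i, i < 92759 → P i := stepQ 92758 Q92758 (allL N92758 (tt N114392 (iv1 F489935)) (tt N113578 (iv0 F486114)) (tt N117989 (iv2 F507937)) (tt N56261 F398097) (tt N56271 F398098) (tt N113142 (iv5 F484162)) (tt N56259 (iv6 D195769)) (tt N102403 (iv7 F437090)))
theorem Q92760 : ∀ i, i < 92760 → P i := stepQ 92759 Q92759 (allL N92759 (tt N56260 (iv1 D195770)) (tt N92760 (iv0 F398102)) (tt N102210 (iv2 F436200)) (tt N92946 (iv3 F398862)) (tt N92718 (iv4 F398100)) (tt N92722 F398099) (tt N102197 (iv6 F436140)) (tt N97940 (iv7 F418889)))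
theorem Q92761 : ∀ i, i < 92761 → P i := stepQ 92760 Q92760 (allL N92760 (tt N92759 F398102) (tt N65786 F398103) (tt N92762 (iv2 F398111)) (tt N102098 (iv3 F435710)) (tt N56260 (iv4 D195771)) (tt N92711 F398101) (tt N102097 F435706) (tt N92730 F398110))
theorem Q92762 : ∀ i, i < 92762 → P i := stepQ 92761 Q92761 (allL N92761 (tt N65791 F435708) (tt N102166 (iv0 F436004)) (tt N102012 F435338) (tt N102234 (iv3 F436290)) (tt N102097 (iv4 F435707)) (tt N113143 (iv5 F484170)) (tt N56260 (iv6 D195772)) (tt N102237 (iv7 F436303)))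
theorem Q92763 : ∀ i, i < 92763 → P i := stepQ 92762 Q92762 (allL N92762 (tt N102210 F436206) (tt N97940 (iv0 F418890)) (tt N92760 F398111) (tt N65769 F398112) (tt N92730 F398113) (tt N56262 F398114) (tt N117997 D221256) (tt N56260 (iv7 D195773)))
theorem Q92764 : ∀ i, i < 92764 → P i := stepQ 92763 Q92763 (allL N92763 (tt N77236 (iv1 F398121)) (tt N56261 (iv0 D195774)) (tt N56690 (iv2 F398118)) (tt N56539 F398119) (tt N70822 F398116) (tt N56537 F398115) (tt N56680 F398117) (tt N70819 F398120))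
theorem Q92765 : ∀ i, i < 92765 → P i := stepQ 92764 Q92764 (allL N92764 (tt N70819 (iv1 F398125)) (tt N56690 F398126) (tt N77236 F398122) (tt N102403 (iv3 F437088)) (tt N56265 F398123) (tt N65206 F398124) (tt N98007 (iv6 F419150)) (tt N56261 (iv7 D195775)))
theorem Q92766 : ∀ i, i < 92766 → P i := stepQ 92765 Q92765 (allL N92765 (tt N98008 (iv1 F419151)) (tt N92101 (iv0 F398130)) (tt N97668 (iv2 F417853)) (tt N66000 F398127) (tt N56266 F398128) (tt N92097 (iv5 F398129)) (tt N56262 (iv6 D195776)) (tt N98007 F419149))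
theorem Q92767 : ∀ i, i < 92767 → P i := stepQ 92766 Q92766 (allL N92766 (tt N97546 F417338) (tt N98030 F419225) (tt N92186 F398131) (tt N68767 F398134) (tt N56263 (iv4 D195777)) (tt N69253 F398133) (tt N68764 F398132) (tt N98031 (iv7 F419236)))
theorem Q92768 : ∀ i, i < 92768 → P i := stepQ 92767 Q92767 (allL N92767 (tt N61180 F398140) (tt N77240 F398139) (tt N66573 F398135) (tt N83843 F398136) (tt N66572 F398137) (tt N56264 (iv5 D195778)) (tt N88200 F398141) (tt N80488 F398138))
theorem Q92769 : ∀ i, i < 92769 → P i := stepQ 92768 Q92768 (allL N92768 (tt N97536 (iv1 F417298)) (tt N66003 (iv0 F398144)) (tt N97547 F417342) (tt N56279 F398142) (tt N98007 (iv4 F419147)) (tt N113109 (iv5 F484008)) (tt N56265 (iv6 D195779)) (tt N56266 F398143))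
theorem Q92770 : ∀ i, i < 92770 → P i := stepQ 92769 Q92769 (allL N92769 (tt N97547 (iv1 F417340)) (tt N56266 (iv0 D195780)) (tt N66003 (iv2 F398146)) (tt N106935 (iv3 F456343)) (tt N66002 F398145) (tt N117998 D221257) (tt N116292 (iv6 F499407)) (tt N97536 (iv7 F417296)))
theorem Q92771 : ∀ i, i < 92771 → P i := stepQ 92770 Q92770 (allL N92770 (tt N85547 (iv1 F398151)) (tt N74916 (iv0 F398150)) (tt N61199 F398147) (tt N56282 F398148) (tt N109450 (iv4 F467018)) (tt N56266 (iv5 D195781)) (tt N56267 F398149) (tt N113109 (iv7 F484010)))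
theorem Q92772 : ∀ i, i < 92772 → P i := stepQ 92771 Q92771 (allL N92771 (tt N103035 (iv1 F439771)) (tt N98440 (iv0 F420926)) (tt N61198 F398152) (tt N109451 (iv3 F467023)) (tt N56267 (iv4 D195782)) (tt N110151 (iv5 F470192)) (tt N109450 F467021) (tt N56319 F398153))
theorem Q92773 : ∀ i, i < 92773 → P i := stepQ 92772 Q92772 (allL N92772 (tt N92893 (iv1 F398682)) (tt N68833 (iv0 F398159)) (tt N68730 (iv2 F398157)) (tt N56268 (iv3 D195783)) (tt N56519 F398156) (tt N74659 F398154) (tt N56518 (iv6 F398158)) (tt N65992 F398155))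
theorem Q92774 : ∀ i, i < 92774 → P i := stepQ 92773 Q92773 (allL N92773 (tt N65991 F398163) (tt N66001 F398164) (tt N65996 F398160) (tt N102180 (iv3 F436064)) (tt N56268 (iv4 D195784)) (tt N65765 F398162) (tt N103243 (iv6 F440747)) (tt N65993 F398161))
theorem Q92775 : ∀ i, i < 92775 → P i := stepQ 92774 Q92774 (allL N92774 (tt N56553 F398168) (tt N97555 (iv0 F417367)) (tt N65997 F398165) (tt N56518 F398166) (tt N103243 (iv4 F440745)) (tt N112866 (iv5 F483039)) (tt N56268 (iv6 D195785)) (tt N68725 F398167))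
theorem Q92776 : ∀ i, i < 92776 → P i := stepQ 92775 Q92775 (allL N92775 (tt N103444 (iv1 F441670)) (tt N97541 (iv0 F417318)) (tt N102762 (iv2 F438523)) (tt N56269 (iv3 D195786)) (tt N102634 (iv4 F437966)) (tt N74660 F398169) (tt N84097 F398180) (tt N65995 F398170))
theorem Q92777 : ∀ i, i < 92777 → P i := stepQ 92776 Q92776 (allL N92776 (tt N66001 F398174) (tt N65991 F398175) (tt N65993 F398171) (tt N117999 D221258) (tt N56269 (iv4 D195787)) (tt N65760 F398172) (tt N102172 (iv6 F436028)) (tt N65996 F398173))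
theorem Q92778 : ∀ i, i < 92778 → P i := stepQ 92777 Q92777 (allL N92777 (tt N67418 F398178) (tt N103270 (iv0 F440905)) (tt N65994 F398176) (tt N84097 (iv3 F398179)) (tt N102172 (iv4 F436029)) (tt N80429 F398177) (tt N56269 (iv6 D195788)) (tt N103273 (iv7 F440920)))
theorem Q92779 : ∀ i, i < 92779 → P i := stepQ 92778 Q92778 (allL N92778 (tt N103265 F440877) (tt N56564 (iv0 F398184)) (tt N56271 F398181) (tt N67262 F398182) (tt N117989 (iv4 F507939)) (tt N67261 F398183) (tt N56270 (iv6 D195789)) (tt N103276 (iv7 F440936)))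
theorem Q92780 : ∀ i, i < 92780 → P i := stepQ 92779 Q92779 (allL N92779 (tt N56271 (iv1 D195790)) (tt N103276 F440935) (tt N56564 F398186) (tt N68772 (iv3 F398185)) (tt N103265 (iv4 F440873)) (tt N56684 (iv5 F398188)) (tt N56548 F398187) (tt N103265 (iv7 F440875)))
theorem Q92781 : ∀ i, i < 92781 → P i := stepQ 92780 Q92780 (allL N92780 (tt N114352 F489776) (tt N102941 (iv0 F439358)) (tt N67261 F398189) (tt N56272 F398190) (tt N83648 (iv4 F398192)) (tt N56271 (iv5 D195791)) (tt N65908 F398191) (tt N84774 F398193))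
theorem Q92782 : ∀ i, i < 92782 → P i := stepQ 92781 Q92781 (allL N92781 (tt N56564 (iv1 F398197)) (tt N103265 (iv0 F440876)) (tt N103276 F440934) (tt N56273 F398194) (tt N102403 (iv4 F437089)) (tt N84774 F398195) (tt N66001 F398196) (tt N56271 (iv7 D195792)))
theorem Q92783 : ∀ i, i < 92783 → P i := stepQ 92782 Q92782 (allL N92782 (tt N97568 F417404) (tt N98603 (iv0 F421532)) (tt N67532 F398198) (tt N67787 F398199) (tt N56272 (iv4 D195793)) (tt N78861 F398201) (tt N66021 F398200) (tt N78860 (iv7 F398202)))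
theorem Q92784 : ∀ i, i < 92784 → P i := stepQ 92783 Q92783 (allL N92783 (tt N92249 (iv1 F398207)) (tt N92244 F398208) (tt N92632 F398203) (tt N84774 F398204) (tt N78860 F398205) (tt N56273 F398206) (tt N102242 (iv6 F436330)) (tt N56272 (iv7 D195794)))
theorem Q92785 : ∀ i, i < 92785 → P i := stepQ 92784 Q92784 (allL N92784 (tt N56276 (iv1 D195795)) (tt N67355 F398209) (tt N85943 F398214) (tt N56683 (iv3 F398211)) (tt N98033 (iv4 F419243)) (tt N85778 (iv5 F398213)) (tt N83612 (iv6 F398212)) (tt N60793 F398210))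
theorem Q92786 : ∀ i, i < 92786 → P i := stepQ 92785 Q92785 (allL N92785 (tt N56277 (iv1 D195796)) (tt N75062 F398216) (tt N75063 (iv2 F398219)) (tt N109415 (iv3 F466852)) (tt N70827 (iv4 F398220)) (tt N56335 F398218) (tt N75069 (iv6 F398221)) (tt N60730 F398217))
theorem Q92787 : ∀ i, i < 92787 → P i := stepQ 92786 Q92786 (allL N92786 (tt N67942 (iv1 F398225)) (tt N56278 (iv0 D195797)) (tt N92635 (iv2 F398224)) (tt N103357 (iv3 F441260)) (tt N56555 F398223) (tt N60817 F398222) (tt N117715 (iv6 F506588)) (tt N60742 F398226))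
theorem Q92788 : ∀ i, i < 92788 → P i := stepQ 92787 Q92787 (allL N92787 (tt N78879 (iv1 F398230)) (tt N78878 F398231) (tt N78862 F398227) (tt N113109 (iv3 F484007)) (tt N111228 (iv4 F475321)) (tt N56279 (iv5 D195798)) (tt N56323 F398228) (tt N56282 F398229))
theorem Q92789 : ∀ i, i < 92789 → P i := stepQ 92788 Q92788 (allL N92788 (tt N74879 F398233) (tt N60782 (iv0 F398234)) (tt N91041 (iv2 F398236)) (tt N56280 (iv3 D195799)) (tt N105713 (iv4 F451377)) (tt N114347 (iv5 F489747)) (tt N67947 F398235) (tt N85951 F398232))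
theorem Q92790 : ∀ i, i < 92790 → P i := stepQ 92789 Q92789 (allL N92789 (tt N97890 F418679) (tt N111189 (iv0 F475153)) (tt N92636 F398237) (tt N114347 (iv3 F489745)) (tt N118000 D221259) (tt N56280 (iv5 D195800)) (tt N115386 (iv6 F494930)) (tt N92638 F398238))
theorem Q92791 : ∀ i, i < 92791 → P i := stepQ 92790 Q92790 (allL N92790 (tt N60746 (iv1 F418412)) (tt N117715 F506589) (tt N92637 F398239) (tt N67947 F398240) (tt N60675 F398241) (tt N60274 F398243) (tt N56280 (iv6 D195801)) (tt N91043 F398242))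
theorem Q92792 : ∀ i, i < 92792 → P i := stepQ 92791 Q92791 (allL N92791 (tt N60728 F398250) (tt N75069 (iv0 F398251)) (tt N75068 F398247) (tt N56281 (iv3 D195802)) (tt N118001 D221260) (tt N105800 (iv5 F451778)) (tt N85961 (iv6 F398249)) (tt N75067 (iv7 F415799)))
theorem Q92793 : ∀ i, i < 92793 → P i := stepQ 92792 Q92792 (allL N92792 (tt N111189 F475154) (tt N97890 (iv0 F418678)) (tt N92638 F398252) (tt N105800 F451782) (tt N118002 D221261) (tt N56281 (iv5 D195803)) (tt N85938 F398254) (tt N92636 F398253))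
theorem Q92794 : ∀ i, i < 92794 → P i := stepQ 92793 Q92793 (allL N92793 (tt N83612 (iv1 F398259)) (tt N60789 F398260) (tt N85941 F398255) (tt N85961 F398256) (tt N60678 F398257) (tt N97906 (iv5 F418743)) (tt N56281 (iv6 D195804)) (tt N85940 (iv7 F398258)))
theorem Q92795 : ∀ i, i < 92795 → P i := stepQ 92794 Q92794 (allL N92794 (tt N78862 (iv1 F398261)) (tt N56282 (iv0 D195805)) (tt N78878 F418646) (tt N104167 (iv3 F444514)) (tt N98692 (iv4 F421868)) (tt N104166 (iv5 F444512)) (tt N98240 (iv6 F420100)) (tt N78879 F418644))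
theorem Q92796 : ∀ i, i < 92796 → P i := stepQ 92795 Q92795 (allL N92795 (tt N56282 (iv1 D195806)) (tt N78862 F398262) (tt N78879 (iv2 F418643)) (tt N105672 (iv3 F451186)) (tt N98693 (iv4 F421873)) (tt N97790 (iv5 F418319)) (tt N103023 F439717) (tt N78878 (iv7 F418645)))
theorem Q92797 : ∀ i, i < 92797 → P i := stepQ 92796 Q92796 (allL N92796 (tt N56285 (iv1 D195807)) (tt N64200 F398263) (tt N64199 F398267) (tt N61502 (iv3 F398266)) (tt N78840 F398265) (tt N93389 (iv5 F400620)) (tt N92569 F398268) (tt N61504 F398264))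
theorem Q92798 : ∀ i, i < 92798 → P i := stepQ 92797 Q92797 (allL N92797 (tt N61458 F398273) (tt N76222 F398274) (tt N61266 F398269) (tt N61276 F398270) (tt N118003 D221262) (tt N56287 (iv5 D195808)) (tt N85190 F398271) (tt N61294 F398272))
theorem Q92799 : ∀ i, i < 92799 → P i := stepQ 92798 Q92798 (allL N92798 (tt N73964 F398280) (tt N73963 F398281) (tt N61339 F398275) (tt N58916 F398276) (tt N59119 F398277) (tt N56288 (iv5 D195809)) (tt N56289 F398278) (tt N73677 F398279))
theorem Q92800 : ∀ i, i < 92800 → P i := stepQ 92799 Q92799 (allL N92799 (tt N61343 (iv1 F398285)) (tt N56289 (iv0 D195810)) (tt N61341 (iv2 F398284)) (tt N56594 F398283) (tt N93157 (iv4 F399709)) (tt N56603 F398282) (tt N86838 F398287) (tt N61342 F398286))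
theorem Q92801 : ∀ i, i < 92801 → P i := stepQ 92800 Q92800 (allL N92800 (tt N96058 (iv1 F410847)) (tt N88435 F398289) (tt N93160 (iv2 F399724)) (tt N105030 (iv3 F448467)) (tt N56290 (iv4 D195811)) (tt N93739 (iv5 F401721)) (tt N56292 F398288) (tt N96137 (iv7 F411199)))
theorem Q92802 : ∀ i, i < 92802 → P i := stepQ 92801 Q92801 (allL N92801 (tt N93153 (iv1 F399691)) (tt N56292 (iv0 D195812)) (tt N93157 F399711) (tt N111717 (iv3 F477635)) (tt N61341 F398290) (tt N91828 F398291) (tt N88819 (iv6 F398292)) (tt N93158 (iv7 F399714)))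
theorem Q92803 : ∀ i, i < 92803 → P i := stepQ 92802 Q92802 (allL N92802 (tt N56292 (iv1 D195813)) (tt N93153 (iv0 F399690)) (tt N93158 (iv2 F399718)) (tt N96862 F414321) (tt N61342 F398293) (tt N111746 (iv5 F477766)) (tt N69443 (iv6 F398294)) (tt N93157 F399712))
theorem Q92804 : ∀ i, i < 92804 → P i := stepQ 92803 Q92803 (allL N92803 (tt N66803 F398298) (tt N79045 F398299) (tt N85710 F398295) (tt N85439 F398296) (tt N56294 (iv4 D195814)) (tt N113026 (iv5 F483604)) (tt N109565 (iv6 F467552)) (tt N82874 F398297))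
theorem Q92805 : ∀ i, i < 92805 → P i := stepQ 92804 Q92804 (allL N92804 (tt N118004 D221263) (tt N118005 D221264) (tt N114750 (iv2 F491658)) (tt N113969 (iv3 F488012)) (tt N118006 D221265) (tt N56297 (iv5 D195815)) (tt N82684 F398300) (tt N113330 (iv7 F485064)))
theorem Q92806 : ∀ i, i < 92806 → P i := stepQ 92805 Q92805 (allL N92805 (tt N92661 F398305) (tt N110287 (iv0 F470853)) (tt N56308 F398301) (tt N76302 F398302) (tt N92248 F398304) (tt N56300 (iv5 D195816)) (tt N105774 (iv6 F451649)) (tt N56312 F398303))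
theorem Q92807 : ∀ i, i < 92807 → P i := stepQ 92806 Q92806 (allL N92806 (tt N61074 (iv1 F398312)) (tt N73595 (iv0 F398311)) (tt N56309 F398306) (tt N76303 F398307) (tt N73589 F398308) (tt N56645 F398310) (tt N56300 (iv6 D195817)) (tt N87584 F398309))
theorem Q92808 : ∀ i, i < 92808 → P i := stepQ 92807 Q92807 (allL N92807 (tt N110287 (iv1 F470854)) (tt N92661 F398315) (tt N56312 F398313) (tt N117744 (iv3 F506749)) (tt N98572 (iv4 F421367)) (tt N56301 (iv5 D195818)) (tt N93983 (iv6 F402704)) (tt N56308 F398314))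
theorem Q92809 : ∀ i, i < 92809 → P i := stepQ 92808 Q92808 (allL N92808 (tt N109399 (iv1 F466769)) (tt N85854 F398320) (tt N61014 F398316) (tt N79978 F398317) (tt N61014 F398319) (tt N56303 (iv5 D195819)) (tt N83735 F398318) (tt N109400 (iv7 F466775)))
theorem Q92810 : ∀ i, i < 92810 → P i := stepQ 92809 Q92809 (allL N92809 (tt N76264 F398327) (tt N56305 (iv0 D195820)) (tt N61053 (iv2 F398323)) (tt N67095 F398322) (tt N64173 (iv4 F398325)) (tt N80485 F398321) (tt N74886 (iv6 F424855)) (tt N76263 (iv7 F398324)))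
theorem Q92811 : ∀ i, i < 92811 → P i := stepQ 92810 Q92810 (allL N92810 (tt N56305 (iv1 D195821)) (tt N76264 F398328) (tt N76263 F398332) (tt N61039 (iv3 F398330)) (tt N64174 F398333) (tt N75556 (iv5 F398331)) (tt N96233 (iv6 F411630)) (tt N61053 F398329))
theorem Q92812 : ∀ i, i < 92812 → P i := stepQ 92811 Q92811 (allL N92811 (tt N76263 (iv1 F398338)) (tt N61053 F398339) (tt N76264 F398334) (tt N56306 F398335) (tt N100764 (iv4 F430355)) (tt N63761 F398336) (tt N76266 F398337) (tt N56305 (iv7 D195822)))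
theorem Q92813 : ∀ i, i < 92813 → P i := stepQ 92812 Q92812 (allL N92812 (tt N75535 F398342) (tt N85984 F398343) (tt N117351 (iv2 F504613)) (tt N56308 F398340) (tt N83969 (iv4 F398344)) (tt N56307 (iv5 D195823)) (tt N83968 F398341) (tt N117744 (iv7 F506752)))
theorem Q92814 : ∀ i, i < 92814 → P i := stepQ 92813 Q92813 (allL N92813 (tt N56312 (iv1 F398346)) (tt N56308 (iv0 D195824)) (tt N92661 (iv2 F398347)) (tt N92650 (iv3 F398348)) (tt N102381 (iv4 F436994)) (tt N73160 F398345) (tt N115343 F494695) (tt N110287 (iv7 F470852)))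
theorem Q92815 : ∀ i, i < 92815 → P i := stepQ 92814 Q92814 (allL N92814 (tt N56308 (iv1 D195825)) (tt N56312 F398349) (tt N110287 (iv2 F470850)) (tt N56330 (iv3 F398351)) (tt N113333 (iv4 F485079)) (tt N98210 (iv5 F420005)) (tt N60831 F398352) (tt N92661 F398350))
theorem Q92816 : ∀ i, i < 92816 → P i := stepQ 92815 Q92815 (allL N92815 (tt N98571 F421366) (tt N98570 F421361) (tt N92248 F398353) (tt N86946 F398354) (tt N56308 (iv4 D195826)) (tt N77231 F398355) (tt N86945 (iv6 F398356)) (tt N98572 (iv7 F421369)))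
theorem Q92817 : ∀ i, i < 92817 → P i := stepQ 92816 Q92816 (allL N92816 (tt N117988 F507936) (tt N118007 D221266) (tt N105774 (iv2 F451648)) (tt N83968 F398357) (tt N86945 F398358) (tt N87579 F398359) (tt N56308 (iv6 D195827)) (tt N87578 (iv7 F398360)))
theorem Q92818 : ∀ i, i < 92818 → P i := stepQ 92817 Q92817 (allL N92817 (tt N56309 (iv1 D195828)) (tt N87584 F398361) (tt N73595 F398366) (tt N56333 (iv3 F398364)) (tt N62460 F398363) (tt N103987 (iv5 F443664)) (tt N62382 (iv6 F398365)) (tt N61074 F398362))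
theorem Q92819 : ∀ i, i < 92819 → P i := stepQ 92818 Q92818 (allL N92818 (tt N73595 (iv1 F398372)) (tt N61074 F398373) (tt N87584 F398367) (tt N69633 F398368) (tt N73401 F398369) (tt N56644 F398370) (tt N73771 F398371) (tt N56309 (iv7 D195829)))
theorem Q92820 : ∀ i, i < 92820 → P i := stepQ 92819 Q92819 (allL N92819 (tt N93985 (iv1 F402712)) (tt N93171 (iv0 F399792)) (tt N93983 F402705) (tt N98549 (iv3 F421288)) (tt N98573 (iv4 F421371)) (tt N115487 (iv5 F495446)) (tt N56312 (iv6 D195830)) (tt N93984 (iv7 F402707)))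
theorem Q92821 : ∀ i, i < 92821 → P i := stepQ 92820 Q92820 (allL N92820 (tt N80146 F398376) (tt N103039 F439788) (tt N103040 (iv2 F439789)) (tt N56323 F398374) (tt N103116 (iv4 F440145)) (tt N56314 (iv5 D195831)) (tt N113109 (iv6 F484009)) (tt N56316 F398375))
theorem Q92822 : ∀ i, i < 92822 → P i := stepQ 92821 Q92821 (allL N92821 (tt N56316 (iv1 D195832)) (tt N103040 F439793) (tt N80146 (iv2 F398378)) (tt N76277 (iv3 F398379)) (tt N88458 (iv4 F398380)) (tt N80141 F398377) (tt N88457 F398381) (tt N103039 (iv7 F439787)))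
theorem Q92823 : ∀ i, i < 92823 → P i := stepQ 92822 Q92822 (allL N92822 (tt N113094 (iv1 F483955)) (tt N108450 (iv0 F462636)) (tt N103038 (iv2 F439779)) (tt N116688 (iv3 F501307)) (tt N56316 (iv4 D195833)) (tt N83208 F398383) (tt N56319 F398382) (tt N103116 (iv7 F440146)))
theorem Q92824 : ∀ i, i < 92824 → P i := stepQ 92823 Q92823 (allL N92823 (tt N114973 (iv1 F492851)) (tt N118003 (iv0 F508031)) (tt N103031 (iv2 F439743)) (tt N85559 F398384) (tt N56317 (iv4 D195834)) (tt N82693 F398385) (tt N70270 (iv6 F398387)) (tt N103033 (iv7 F439763)))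
theorem Q92825 : ∀ i, i < 92825 → P i := stepQ 92824 Q92824 (allL N92824 (tt N87600 F398391) (tt N82923 (iv0 F398392)) (tt N103032 (iv2 F439754)) (tt N76429 F398388) (tt N70270 F398389) (tt N56631 F398390) (tt N56317 (iv6 D195835)) (tt N105538 (iv7 F450641)))
theorem Q92826 : ∀ i, i < 92826 → P i := stepQ 92825 Q92825 (allL N92825 (tt N118003 (iv1 F508032)) (tt N114973 (iv0 F492850)) (tt N103033 (iv2 F439762)) (tt N89619 F398393) (tt N56318 (iv4 D195836)) (tt N82692 F398394) (tt N116983 (iv6 F502820)) (tt N103031 (iv7 F439744)))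
theorem Q92827 : ∀ i, i < 92827 → P i := stepQ 92826 Q92826 (allL N92826 (tt N61198 (iv1 F398397)) (tt N56319 (iv0 D195837)) (tt N98440 (iv2 F420924)) (tt N89685 (iv3 F398398)) (tt N85073 F398396) (tt N83515 F398395) (tt N86729 (iv6 F398399)) (tt N103035 (iv7 F439772)))
theorem Q92828 : ∀ i, i < 92828 → P i := stepQ 92827 Q92827 (allL N92827 (tt N56319 (iv1 D195838)) (tt N61198 F398400) (tt N103035 F439774) (tt N118008 D221267) (tt N85074 F398401) (tt N83514 F398402) (tt N118009 D221268) (tt N98440 (iv7 F420925)))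
theorem Q92829 : ∀ i, i < 92829 → P i := stepQ 92828 Q92828 (allL N92828 (tt N118010 D221269) (tt N118011 D221270) (tt N118012 D221271) (tt N56319 (iv3 D195839)) (tt N56349 F398403) (tt N118013 D221272) (tt N116688 F501312) (tt N109451 F467025))
theorem Q92830 : ∀ i, i < 92830 → P i := stepQ 92829 Q92829 (allL N92829 (tt N110159 (iv1 F470219)) (tt N114831 (iv0 F492103)) (tt N103037 (iv2 F439777)) (tt N118013 (iv3 F508084)) (tt N98225 (iv4 F420056)) (tt N56319 (iv5 D195840)) (tt N113498 F485787) (tt N110151 F470193))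
theorem Q92831 : ∀ i, i < 92831 → P i := stepQ 92830 Q92830 (allL N92830 (tt N61001 F398407) (tt N76627 F398409) (tt N76626 F398404) (tt N56321 (iv3 D195841)) (tt N104200 (iv4 F444666)) (tt N76637 F398405) (tt N78293 (iv6 F398408)) (tt N76625 F398406))
theorem Q92832 : ∀ i, i < 92832 → P i := stepQ 92831 Q92831 (allL N92831 (tt N85296 F398415) (tt N85295 (iv0 F398416)) (tt N78858 F398410) (tt N78293 F398411) (tt N92269 F398412) (tt N78292 F398413) (tt N56321 (iv6 D195842)) (tt N85285 F398414))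
theorem Q92833 : ∀ i, i < 92833 → P i := stepQ 92832 Q92832 (allL N92832 (tt N69071 F398421) (tt N69103 F398422) (tt N69101 F398419) (tt N56322 (iv3 D195843)) (tt N116688 (iv4 F501308)) (tt N67534 (iv5 F398418)) (tt N56349 F398417) (tt N67533 F398420))
theorem Q92834 : ∀ i, i < 92834 → P i := stepQ 92833 Q92833 (allL N92833 (tt N98603 (iv1 F421533)) (tt N97568 (iv0 F417403)) (tt N78860 F398425) (tt N67534 F398426) (tt N92632 F398427) (tt N56322 (iv5 D195844)) (tt N67724 F398428) (tt N67532 F398429))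
theorem Q92835 : ∀ i, i < 92835 → P i := stepQ 92834 Q92834 (allL N92834 (tt N61533 (iv1 F398434)) (tt N61530 F398435) (tt N78861 F398430) (tt N67533 F398431) (tt N56323 F398432) (tt N67532 F398433) (tt N111228 (iv6 F475323)) (tt N56322 (iv7 D195845)))
theorem Q92836 : ∀ i, i < 92836 → P i := stepQ 92835 Q92835 (allL N92835 (tt N90537 F398438) (tt N61048 F398439) (tt N56326 F398436) (tt N97101 (iv3 F415476)) (tt N56325 (iv4 D195846)) (tt N113890 (iv5 F487652)) (tt N118014 D221273) (tt N92666 F398437))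
theorem Q92837 : ∀ i, i < 92837 → P i := stepQ 92836 Q92836 (allL N92836 (tt N61060 F398442) (tt N96234 F411636) (tt N56328 F398440) (tt N76620 F398441) (tt N118014 (iv4 F508089)) (tt N93007 (iv5 F399103)) (tt N56325 (iv6 D195847)) (tt N96232 (iv7 F411623)))
theorem Q92838 : ∀ i, i < 92838 → P i := stepQ 92837 Q92837 (allL N92837 (tt N92666 (iv1 F398446)) (tt N56326 (iv0 D195848)) (tt N90537 (iv2 F398445)) (tt N80099 F398444) (tt N98290 (iv4 F420354)) (tt N84169 F398443) (tt N98542 F421257) (tt N61048 F398447))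
theorem Q92839 : ∀ i, i < 92839 → P i := stepQ 92838 Q92838 (allL N92838 (tt N89963 (iv1 F398451)) (tt N89965 F398450) (tt N113890 F487654) (tt N98594 (iv3 F421491)) (tt N88558 F398449) (tt N56326 (iv5 D195849)) (tt N113966 F487998) (tt N92667 F398448))
theorem Q92840 : ∀ i, i < 92840 → P i := stepQ 92839 Q92839 (allL N92839 (tt N107123 F457083) (tt N118015 D221274) (tt N118014 (iv2 F508087)) (tt N98595 (iv3 F421493)) (tt N56328 F398452) (tt N104865 (iv5 F447695)) (tt N56326 (iv6 D195850)) (tt N118016 D221275))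
theorem Q92841 : ∀ i, i < 92841 → P i := stepQ 92840 Q92840 (allL N92840 (tt N69361 F398455) (tt N69367 (iv0 F398458)) (tt N69365 F398453) (tt N56332 F398454) (tt N116329 (iv4 F499584)) (tt N86688 F398456) (tt N56327 (iv6 D195851)) (tt N69364 F398491))
theorem Q92842 : ∀ i, i < 92842 → P i := stepQ 92841 Q92841 (allL N92841 (tt N56328 (iv1 D195852)) (tt N96232 F411624) (tt N96234 (iv2 F411632)) (tt N62726 (iv3 F398461)) (tt N96215 (iv4 F411536)) (tt N92032 (iv5 F398462)) (tt N117924 (iv6 F507625)) (tt N61060 F398460))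
theorem Q92843 : ∀ i, i < 92843 → P i := stepQ 92842 Q92842 (allL N92842 (tt N96234 (iv1 F411637)) (tt N61060 (iv0 F398467)) (tt N96232 F411621) (tt N56334 F398463) (tt N118016 (iv4 F508103)) (tt N56666 F398464) (tt N74772 F398465) (tt N56328 (iv7 D195853)))
theorem Q92844 : ∀ i, i < 92844 → P i := stepQ 92843 Q92843 (allL N92843 (tt N79975 (iv1 F398471)) (tt N79974 (iv0 F398472)) (tt N92650 F398468) (tt N56329 (iv3 D195854)) (tt N118017 D221276) (tt N66777 F398469) (tt N111221 (iv6 F475283)) (tt N92651 F398470))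
theorem Q92845 : ∀ i, i < 92845 → P i := stepQ 92844 Q92844 (allL N92844 (tt N102944 (iv1 F439365)) (tt N97791 F418323) (tt N92662 F398475) (tt N111221 (iv3 F475282)) (tt N98021 F419197) (tt N66779 F398476) (tt N56329 (iv6 D195855)) (tt N60830 F398477))
theorem Q92846 : ∀ i, i < 92846 → P i := stepQ 92845 Q92845 (allL N92845 (tt N109925 (iv1 F469256)) (tt N112866 (iv0 F483041)) (tt N118018 D221277) (tt N56331 (iv3 D195856)) (tt N109914 (iv4 F469195)) (tt N97552 F417356) (tt N103388 F441396) (tt N92669 F398478))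
theorem Q92847 : ∀ i, i < 92847 → P i := stepQ 92846 Q92846 (allL N92846 (tt N56332 (iv1 D195857)) (tt N92665 F398479) (tt N92664 (iv2 F398482)) (tt N118007 F508056) (tt N93098 (iv4 F399488)) (tt N56439 F398481) (tt N117722 (iv6 F506625)) (tt N60812 F398480))
theorem Q92848 : ∀ i, i < 92848 → P i := stepQ 92847 Q92847 (allL N92847 (tt N92664 (iv1 F398487)) (tt N60812 F398488) (tt N92665 F398483) (tt N69364 (iv3 F398489)) (tt N68646 F398484) (tt N87589 F398485) (tt N60807 F398486) (tt N56332 (iv7 D195858)))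
theorem Q92849 : ∀ i, i < 92849 → P i := stepQ 92848 Q92848 (allL N92848 (tt N61005 F398494) (tt N76542 (iv0 F398497)) (tt N56337 F398492) (tt N58864 F398496) (tt N56336 (iv4 D195859)) (tt N58861 F398495) (tt N99605 (iv6 F425380)) (tt N76540 F398493))
theorem Q92850 : ∀ i, i < 92850 → P i := stepQ 92849 Q92849 (allL N92849 (tt N75101 F398501) (tt N92659 F398504) (tt N56338 F398498) (tt N85956 F398499) (tt N118019 D221278) (tt N56336 (iv5 D195860)) (tt N75075 (iv6 F398502)) (tt N76619 F398500))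
theorem Q92851 : ∀ i, i < 92851 → P i := stepQ 92850 Q92850 (allL N92850 (tt N61728 F398507) (tt N61011 (iv0 F398508)) (tt N56339 F398505) (tt N74773 F398506) (tt N99605 (iv4 F425379)) (tt N98146 (iv5 F419691)) (tt N56336 (iv6 D195861)) (tt N70466 (iv7 F398509)))
theorem Q92852 : ∀ i, i < 92852 → P i := stepQ 92851 Q92851 (allL N92851 (tt N114418 F490058) (tt N118020 D221279) (tt N118019 (iv2 F508117)) (tt N118021 D221280) (tt N56338 (iv4 D195862)) (tt N117680 (iv5 F506383)) (tt N118022 D221281) (tt N92660 F398510))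
theorem Q92853 : ∀ i, i < 92853 → P i := stepQ 92852 Q92852 (allL N92852 (tt N75077 F398514) (tt N60799 (iv0 F398513)) (tt N75075 F398511) (tt N56341 F398512) (tt N118022 (iv4 F508137)) (tt N105778 (iv5 F451664)) (tt N56338 (iv6 D195863)) (tt N75076 (iv7 F398515)))
theorem Q92854 : ∀ i, i < 92854 → P i := stepQ 92853 Q92853 (allL N92853 (tt N73663 F398519) (tt N73667 F398520) (tt N98146 F419694) (tt N56343 F398518) (tt N99564 (iv4 F425184)) (tt N56339 (iv5 D195864)) (tt N105778 (iv6 F451666)) (tt N98147 (iv7 F419696)))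
theorem Q92855 : ∀ i, i < 92855 → P i := stepQ 92854 Q92854 (allL N92854 (tt N61011 (iv1 F398525)) (tt N61728 F398526) (tt N70466 F398521) (tt N56344 F398522) (tt N81436 F398523) (tt N98147 (iv5 F419697)) (tt N79920 F398524) (tt N56339 (iv7 D195865)))
theorem Q92856 : ∀ i, i < 92856 → P i := stepQ 92855 Q92855 (allL N92855 (tt N66008 F418742) (tt N97560 (iv0 F418741)) (tt N97558 (iv2 F418740)) (tt N56340 (iv3 D195866)) (tt N118021 (iv4 F508130)) (tt N97905 F418739) (tt N103457 (iv6 F441718)) (tt N92663 F398527))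
theorem Q92857 : ∀ i, i < 92857 → P i := stepQ 92856 Q92856 (allL N92856 (tt N115701 F496400) (tt N104913 (iv0 F447912)) (tt N92671 F398528) (tt N105778 F451669) (tt N108493 (iv4 F462823)) (tt N56341 (iv5 D195867)) (tt N56343 F398529) (tt N93905 (iv7 F402363)))
theorem Q92858 : ∀ i, i < 92858 → P i := stepQ 92857 Q92857 (allL N92857 (tt N61296 F398537) (tt N61292 F398538) (tt N85615 F398533) (tt N89071 F398534) (tt N56345 (iv4 D195868)) (tt N76977 F398535) (tt N94499 F404719) (tt N78866 F398536))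
theorem Q92859 : ∀ i, i < 92859 → P i := stepQ 92858 Q92858 (allL N92858 (tt N83821 F398543) (tt N83819 F398544) (tt N86032 F398540) (tt N56346 F398541) (tt N94499 F404718) (tt N69479 F398542) (tt N56345 (iv6 D195869)) (tt N115388 (iv7 F494937)))
theorem Q92860 : ∀ i, i < 92860 → P i := stepQ 92859 Q92859 (allL N92859 (tt N78865 (iv1 F398553)) (tt N56346 (iv0 D195870)) (tt N78863 (iv2 F398546)) (tt N92987 F399028) (tt N98655 (iv4 F421753)) (tt N114251 (iv5 F489224)) (tt N85295 F398545) (tt N78864 (iv7 F398547)))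
theorem Q92861 : ∀ i, i < 92861 → P i := stepQ 92860 Q92860 (allL N92860 (tt N56346 (iv1 D195871)) (tt N78865 F398548) (tt N78864 (iv2 F398552)) (tt N82923 F398551) (tt N98656 (iv4 F421755)) (tt N97203 (iv5 F415879)) (tt N82921 (iv6 F398550)) (tt N78863 F398549))
theorem Q92862 : ∀ i, i < 92862 → P i := stepQ 92861 Q92861 (allL N92861 (tt N78864 (iv1 F398557)) (tt N78863 F398558) (tt N78865 F398554) (tt N115388 F494940) (tt N106127 (iv4 F453250)) (tt N69481 F398555) (tt N78870 F398556) (tt N56346 (iv7 D195872)))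
theorem Q92863 : ∀ i, i < 92863 → P i := stepQ 92862 Q92862 (allL N92862 (tt N78870 (iv1 F398568)) (tt N56348 (iv0 D195873)) (tt N78868 (iv2 F398560)) (tt N107921 (iv3 F460298)) (tt N98668 F460301) (tt N104955 (iv5 F448130)) (tt N92641 F398559) (tt N78869 (iv7 F398561)))
theorem Q92864 : ∀ i, i < 92864 → P i := stepQ 92863 Q92863 (allL N92863 (tt N56348 (iv1 D195874)) (tt N78870 F398562) (tt N78869 F398567) (tt N60748 F398566) (tt N98669 (iv4 F421801)) (tt N84919 (iv5 F398565)) (tt N84846 (iv6 F398564)) (tt N78868 F398563))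
theorem Q92865 : ∀ i, i < 92865 → P i := stepQ 92864 Q92864 (allL N92864 (tt N78869 (iv1 F398573)) (tt N78868 F398574) (tt N78870 F398569) (tt N70634 F398570) (tt N106129 (iv4 F453265)) (tt N70633 F398571) (tt N78865 F398572) (tt N56348 (iv7 D195875)))
theorem Q92866 : ∀ i, i < 92866 → P i := stepQ 92865 Q92865 (allL N92865 (tt N111225 (iv1 F475307)) (tt N56349 (iv0 D195876)) (tt N111227 (iv2 F475316)) (tt N106159 (iv3 F453391)) (tt N99778 F426186) (tt N116909 (iv5 F502449)) (tt N106158 F453390) (tt N111226 F475311))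
theorem Q92867 : ∀ i, i < 92867 → P i := stepQ 92866 Q92866 (allL N92866 (tt N111227 (iv1 F475312)) (tt N111226 F475309) (tt N56349 (iv2 D195878)) (tt N78873 F398575) (tt N118012 (iv4 F508080)) (tt N111224 (iv5 F475295)) (tt N69101 F398576) (tt N111225 (iv7 F475304)))
theorem Q92868 : ∀ i, i < 92868 → P i := stepQ 92867 Q92867 (allL N92867 (tt N56819 (iv1 F398579)) (tt N56357 (iv0 D195879)) (tt N56818 F398581) (tt N57655 F398578) (tt N118023 D221282) (tt N58728 F398577) (tt N118024 D221283) (tt N56817 (iv7 F398580)))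
theorem Q92869 : ∀ i, i < 92869 → P i := stepQ 92868 Q92868 (allL N92868 (tt N56357 (iv1 D195880)) (tt N56819 F398582) (tt N56817 F398586) (tt N111531 (iv3 F476771)) (tt N94257 (iv4 F403867)) (tt N58727 F398584) (tt N56965 (iv6 F398585)) (tt N56818 F398583))
theorem Q92870 : ∀ i, i < 92870 → P i := stepQ 92869 Q92869 (allL N92869 (tt N56363 (iv1 F398592)) (tt N56362 (iv0 D195881)) (tt N56366 (iv2 F398587)) (tt N56862 F398588) (tt N81453 F398589) (tt N81034 F398590) (tt N93795 (iv6 F401918)) (tt N56364 F398591))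
theorem Q92871 : ∀ i, i < 92871 → P i := stepQ 92870 Q92870 (allL N92870 (tt N56366 (iv1 F398610)) (tt N56364 F398611) (tt N56362 (iv2 D195882)) (tt N96951 (iv3 F414747)) (tt N82193 F398606) (tt N96949 F414746) (tt N118025 D221284) (tt N56363 (iv7 F398593)))
theorem Q92872 : ∀ i, i < 92872 → P i := stepQ 92871 Q92871 (allL N92871 (tt N72341 (iv1 F398595)) (tt N109904 (iv0 F469149)) (tt N95918 (iv2 F410256)) (tt N56362 (iv3 D195883)) (tt N78168 F398594) (tt N96323 F412032) (tt N118026 D221285) (tt N95920 (iv7 F410265)))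
theorem Q92873 : ∀ i, i < 92873 → P i := stepQ 92872 Q92872 (allL N92872 (tt N82204 (iv1 F398615)) (tt N82200 F398596) (tt N82193 (iv2 F398607)) (tt N110420 (iv3 F471491)) (tt N56362 (iv4 D195884)) (tt N75250 (iv5 F398597)) (tt N79441 F415050) (tt N82199 F398608))
theorem Q92874 : ∀ i, i < 92874 → P i := stepQ 92873 Q92873 (allL N92873 (tt N118027 D221286) (tt N74234 (iv0 F412036)) (tt N96949 (iv2 F414741)) (tt N96323 (iv3 F412034)) (tt N106097 (iv4 F453096)) (tt N56362 (iv5 D195885)) (tt N96322 F412035) (tt N118028 D221287))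
theorem Q92875 : ∀ i, i < 92875 → P i := stepQ 92874 Q92874 (allL N92874 (tt N118029 D221288) (tt N96027 (iv0 F415052)) (tt N118025 (iv2 F508154)) (tt N118026 (iv3 F508159)) (tt N79441 (iv4 F415051)) (tt N115015 (iv5 F493063)) (tt N56362 (iv6 D195886)) (tt N118030 D221289))
theorem Q92876 : ∀ i, i < 92876 → P i := stepQ 92875 Q92875 (allL N92875 (tt N56364 (iv1 F398613)) (tt N56366 F398612) (tt N56363 F398598) (tt N95920 (iv3 F410262)) (tt N82199 F398614) (tt N118028 (iv5 F508172)) (tt N103186 (iv6 F440476)) (tt N56362 (iv7 D195887)))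
theorem Q92877 : ∀ i, i < 92877 → P i := stepQ 92876 Q92876 (allL N92876 (tt N106460 (iv1 F454550)) (tt N96018 F410656) (tt N118031 D221290) (tt N56363 (iv3 D195888)) (tt N118032 D221291) (tt N58685 F398628) (tt N117546 F505629) (tt N96951 (iv7 F414748)))
theorem Q92878 : ∀ i, i < 92878 → P i := stepQ 92877 Q92877 (allL N92877 (tt N82200 (iv1 F398602)) (tt N82204 (iv0 F398601)) (tt N82199 (iv2 F398603)) (tt N65335 F398600) (tt N56363 (iv4 D195889)) (tt N75251 F398599) (tt N77721 (iv6 F398604)) (tt N82193 (iv7 F398605)))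
theorem Q92879 : ∀ i, i < 92879 → P i := stepQ 92878 Q92878 (allL N92878 (tt N74234 F398629) (tt N118027 F508168) (tt N118028 (iv2 F508169)) (tt N58685 (iv3 F398627)) (tt N95152 (iv4 F407243)) (tt N56363 (iv5 D195890)) (tt N58683 F398626) (tt N96949 (iv7 F414744)))
theorem Q92880 : ∀ i, i < 92880 → P i := stepQ 92879 Q92879 (allL N92879 (tt N74213 F398618) (tt N103016 (iv0 F439685)) (tt N103186 F440475) (tt N117546 (iv3 F505628)) (tt N77721 F398616) (tt N90134 (iv5 F398617)) (tt N56363 (iv6 D195891)) (tt N103185 F440471))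
theorem Q92881 : ∀ i, i < 92881 → P i := stepQ 92880 Q92880 (allL N92880 (tt N82406 (iv1 F398623)) (tt N101964 F435110) (tt N56365 F398619) (tt N56873 F398620) (tt N81037 F398621) (tt N56364 (iv5 D195892)) (tt N93753 (iv6 F401777)) (tt N81034 F398622))
theorem Q92882 : ∀ i, i < 92882 → P i := stepQ 92881 Q92881 (allL N92881 (tt N81034 (iv1 F398624)) (tt N56365 (iv0 D195893)) (tt N82406 F398630) (tt N109903 (iv3 F469143)) (tt N112428 (iv4 F481049)) (tt N94414 (iv5 F404378)) (tt N82404 (iv6 F398625)) (tt N101964 (iv7 F435111)))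
theorem Q92883 : ∀ i, i < 92883 → P i := stepQ 92882 Q92882 (allL N92882 (tt N56365 (iv1 D195894)) (tt N81034 F398631) (tt N101964 F435109) (tt N64150 (iv3 F398633)) (tt N79840 F398634) (tt N94415 F404384) (tt N64149 F398635) (tt N82406 F398632))
theorem Q92884 : ∀ i, i < 92884 → P i := stepQ 92883 Q92883 (allL N92883 (tt N81036 (iv1 F398639)) (tt N81035 F398640) (tt N81037 F398636) (tt N101962 (iv3 F435099)) (tt N56365 (iv4 D195895)) (tt N86850 F398637) (tt N93819 (iv6 F402033)) (tt N80792 F398638))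
theorem Q92885 : ∀ i, i < 92885 → P i := stepQ 92884 Q92884 (allL N92884 (tt N70040 F398646) (tt N71081 F398645) (tt N61955 F398641) (tt N57023 F398642) (tt N104724 (iv4 F446993)) (tt N56367 (iv5 D195896)) (tt N57018 F398643) (tt N61956 F398644))
theorem Q92886 : ∀ i, i < 92886 → P i := stepQ 92885 Q92885 (allL N92885 (tt N108121 F461202) (tt N99556 (iv0 F425141)) (tt N56371 F398647) (tt N57004 F398648) (tt N92459 F398649) (tt N73039 F398650) (tt N56370 (iv6 D195897)) (tt N99483 (iv7 F424790)))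
theorem Q92887 : ∀ i, i < 92887 → P i := stepQ 92886 Q92886 (allL N92886 (tt N99483 F424793) (tt N56371 (iv0 D195898)) (tt N108121 (iv2 F461197)) (tt N75282 F398651) (tt N108336 (iv4 F462127)) (tt N99463 F424696) (tt N76215 (iv6 F398652)) (tt N99556 (iv7 F425140)))
theorem Q92888 : ∀ i, i < 92888 → P i := stepQ 92887 Q92887 (allL N92887 (tt N56371 (iv1 D195899)) (tt N99483 (iv0 F424791)) (tt N99556 (iv2 F425143)) (tt N118033 D221292) (tt N118034 D221293) (tt N99477 (iv5 F424756)) (tt N107866 F460051) (tt N108121 (iv7 F461200)))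
theorem Q92889 : ∀ i, i < 92889 → P i := stepQ 92888 Q92888 (allL N92888 (tt N101515 F433223) (tt N107685 (iv0 F459227)) (tt N73039 F398653) (tt N56372 F398654) (tt N93500 F400953) (tt N56371 (iv5 D195900)) (tt N60035 F398655) (tt N99018 (iv7 F423056)))
theorem Q92890 : ∀ i, i < 92890 → P i := stepQ 92889 Q92889 (allL N92889 (tt N99556 F425142) (tt N108121 (iv0 F461201)) (tt N99483 (iv2 F424787)) (tt N56373 F398656) (tt N92457 F398657) (tt N99018 (iv5 F423055)) (tt N57052 F398658) (tt N56371 (iv7 D195901)))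
theorem Q92891 : ∀ i, i < 92891 → P i := stepQ 92890 Q92890 (allL N92890 (tt N56372 (iv1 D195902)) (tt N57016 F398659) (tt N57014 (iv2 F398663)) (tt N118035 D221294) (tt N90598 F398662) (tt N57240 F398661) (tt N90597 (iv6 F398664)) (tt N57013 F398660))
theorem Q92892 : ∀ i, i < 92892 → P i := stepQ 92891 Q92891 (allL N92891 (tt N96090 (iv1 F410999)) (tt N96093 (iv0 F411011)) (tt N57015 F398666) (tt N95556 (iv3 F408638)) (tt N56372 (iv4 D195903)) (tt N92084 F398667) (tt N60039 F398668) (tt N92098 (iv7 F398669)))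
theorem Q92893 : ∀ i, i < 92893 → P i := stepQ 92892 Q92892 (allL N92892 (tt N57014 (iv1 F398674)) (tt N57013 F398675) (tt N57016 F398670) (tt N99018 (iv3 F423054)) (tt N92098 F398671) (tt N56373 F398672) (tt N72210 F398673) (tt N56372 (iv7 D195904)))
theorem Q92894 : ∀ i, i < 92894 → P i := stepQ 92893 Q92893 (allL N92893 (tt N67371 F398681) (tt N92772 F398682) (tt N57022 F398676) (tt N60459 F398677) (tt N56374 (iv4 D195905)) (tt N60519 F398680) (tt N73294 F398678) (tt N57027 F398679))
theorem Q92895 : ∀ i, i < 92895 → P i := stepQ 92894 Q92894 (allL N92894 (tt N93754 F401782) (tt N61803 F398695) (tt N57003 F398683) (tt N62075 F398685) (tt N56379 (iv4 D195906)) (tt N118036 D221295) (tt N96726 (iv6 F413626)) (tt N57000 F398684))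
theorem Q92896 : ∀ i, i < 92896 → P i := stepQ 92895 Q92895 (allL N92895 (tt N66558 (iv1 F398690)) (tt N58902 (iv0 F398689)) (tt N73732 F398686) (tt N56380 (iv3 D195907)) (tt N92909 (iv4 F398737)) (tt N73731 F398687) (tt N111374 (iv6 F476068)) (tt N57002 F398688))
theorem Q92897 : ∀ i, i < 92897 → P i := stepQ 92896 Q92896 (allL N92896 (tt N61803 F398694) (tt N93754 (iv0 F401781)) (tt N57000 F398691) (tt N61784 F398693) (tt N56380 (iv4 D195908)) (tt N118037 D221296) (tt N111366 F476036) (tt N57003 F398692))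
theorem Q92898 : ∀ i, i < 92898 → P i := stepQ 92897 Q92897 (allL N92897 (tt N118038 D221297) (tt N101344 (iv0 F432709)) (tt N56382 F398696) (tt N57049 F398697) (tt N62006 F398698) (tt N95170 (iv5 F407295)) (tt N56381 (iv6 D195909)) (tt N99484 (iv7 F424798)))
theorem Q92899 : ∀ i, i < 92899 → P i := stepQ 92898 Q92898 (allL N92898 (tt N99484 F424802) (tt N56382 (iv0 D195910)) (tt N118038 F508230) (tt N91550 F398699) (tt N117327 (iv4 F504477)) (tt N101429 (iv5 F432955)) (tt N107790 (iv6 F459737)) (tt N101344 F432711))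
theorem Q92900 : ∀ i, i < 92900 → P i := stepQ 92899 Q92899 (allL N92899 (tt N56382 (iv1 D195911)) (tt N99484 (iv0 F424799)) (tt N101344 (iv2 F432706)) (tt N112373 F480785) (tt N118039 D221298) (tt N82277 F413598) (tt N96719 (iv6 F413597)) (tt N118038 (iv7 F508232)))
theorem Q92901 : ∀ i, i < 92901 → P i := stepQ 92900 Q92900 (allL N92900 (tt N95206 (iv1 F407411)) (tt N95219 F407465) (tt N95170 (iv2 F407294)) (tt N56385 F398700) (tt N105591 (iv4 F450874)) (tt N56382 (iv5 D195912)) (tt N65919 F398701) (tt N72212 F398702))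
theorem Q92902 : ∀ i, i < 92902 → P i := stepQ 92901 Q92901 (allL N92901 (tt N101344 F432710) (tt N118038 F508231) (tt N99484 (iv2 F424794)) (tt N56386 F398703) (tt N62013 F398704) (tt N72212 F398705) (tt N57007 F398706) (tt N56382 (iv7 D195913)))
theorem Q92903 : ∀ i, i < 92903 → P i := stepQ 92902 Q92902 (allL N92902 (tt N90896 F398709) (tt N58904 (iv0 F398710)) (tt N90287 F398711) (tt N56383 (iv3 D195914)) (tt N70970 F398707) (tt N118040 D221299) (tt N108956 (iv6 F464656)) (tt N57056 F398708))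
theorem Q92904 : ∀ i, i < 92904 → P i := stepQ 92903 Q92903 (allL N92903 (tt N107714 (iv1 F459355)) (tt N56810 F398716) (tt N57054 F398712) (tt N118040 (iv3 F508239)) (tt N66784 F398715) (tt N56383 (iv5 D195915)) (tt N61314 F398713) (tt N57057 F398714))
theorem Q92905 : ∀ i, i < 92905 → P i := stepQ 92904 Q92904 (allL N92904 (tt N59178 F400445) (tt N59190 F400446) (tt N59188 F401627) (tt N56384 (iv3 D195916)) (tt N62415 F398717) (tt N105628 F451026) (tt N94115 (iv6 F403279)) (tt N57053 F398718))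
theorem Q92906 : ∀ i, i < 92906 → P i := stepQ 92905 Q92905 (allL N92905 (tt N56810 F398721) (tt N107714 (iv0 F459353)) (tt N57057 F398719) (tt N105628 (iv3 F451023)) (tt N98220 (iv4 F420037)) (tt N56384 (iv5 D195917)) (tt N105626 (iv6 F451017)) (tt N57054 F398720))
theorem Q92907 : ∀ i, i < 92907 → P i := stepQ 92906 Q92906 (allL N92906 (tt N57059 (iv1 F398727)) (tt N57058 F398728) (tt N57060 F398722) (tt N72212 F398723) (tt N66815 F398724) (tt N56386 F398725) (tt N72211 F398726) (tt N56385 (iv7 D195918)))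
theorem Q92908 : ∀ i, i < 92908 → P i := stepQ 92907 Q92907 (allL N92907 (tt N56388 (iv1 D195919)) (tt N73758 F398730) (tt N57072 F398734) (tt N57117 (iv3 F398733)) (tt N59168 F398735) (tt N71930 F398732) (tt N109904 (iv6 F469147)) (tt N73759 F398731))
theorem Q92909 : ∀ i, i < 92909 → P i := stepQ 92908 Q92908 (allL N92908 (tt N103174 F440414) (tt N106757 (iv0 F455565)) (tt N95967 (iv2 F410469)) (tt N56390 F398736) (tt N95961 (iv4 F410451)) (tt N116611 (iv5 F500963)) (tt N56388 (iv6 D195920)) (tt N108015 (iv7 F460738)))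
theorem Q92910 : ∀ i, i < 92910 → P i := stepQ 92909 Q92909 (allL N92909 (tt N56392 (iv1 F398738)) (tt N56389 (iv0 D195921)) (tt N93797 F401929) (tt N65873 (iv3 F398740)) (tt N92895 F398737) (tt N104754 (iv5 F447114)) (tt N112089 F479447) (tt N82203 F398739))
theorem Q92911 : ∀ i, i < 92911 → P i := stepQ 92910 Q92910 (allL N92910 (tt N71738 F398741) (tt N102657 F438094) (tt N102652 (iv2 F438061)) (tt N56389 (iv3 D195922)) (tt N95960 (iv4 F410442)) (tt N117697 (iv5 F506479)) (tt N97398 F416724) (tt N93798 (iv7 F401933)))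
theorem Q92912 : ∀ i, i < 92912 → P i := stepQ 92911 Q92911 (allL N92911 (tt N67739 F398744) (tt N102825 F438820) (tt N73421 F398742) (tt N117697 F506481) (tt N85211 F398743) (tt N56389 (iv5 D195923)) (tt N97403 (iv6 F416747)) (tt N93799 (iv7 F401938)))
theorem Q92913 : ∀ i, i < 92913 → P i := stepQ 92912 Q92912 (allL N92912 (tt N93808 (iv1 F401991)) (tt N56390 (iv0 D195924)) (tt N57019 (iv2 F400230)) (tt N57113 F400231) (tt N101885 (iv4 F434818)) (tt N89502 F400232) (tt N103016 (iv6 F439683)) (tt N93807 (iv7 F401980)))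
theorem Q92914 : ∀ i, i < 92914 → P i := stepQ 92913 Q92913 (allL N92913 (tt N93807 (iv1 F401979)) (tt N57019 F401986) (tt N93808 (iv2 F401987)) (tt N108015 (iv3 F460737)) (tt N97083 (iv4 F415390)) (tt N116613 (iv5 F500974)) (tt N93803 (iv6 F401962)) (tt N56390 (iv7 D195926)))
theorem Q92915 : ∀ i, i < 92915 → P i := stepQ 92914 Q92914 (allL N92914 (tt N93804 (iv1 F401968)) (tt N56391 (iv0 D195927)) (tt N57082 (iv2 F398748)) (tt N57100 F398746) (tt N57035 F398747) (tt N93629 (iv5 F401345)) (tt N106460 (iv6 F454548)) (tt N92456 (iv7 F398749)))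
theorem Q92916 : ∀ i, i < 92916 → P i := stepQ 92915 Q92915 (allL N92915 (tt N57082 (iv1 F398753)) (tt N92456 F398752) (tt N56391 (iv2 D195928)) (tt N73758 F398751) (tt N93701 F401614) (tt N93883 (iv5 F402268)) (tt N95070 F406949) (tt N93804 (iv7 F401967)))
theorem Q92917 : ∀ i, i < 92917 → P i := stepQ 92916 Q92916 (allL N92916 (tt N92430 F398754) (tt N73738 (iv0 F398755)) (tt N93701 (iv2 F401615)) (tt N102656 (iv3 F438087)) (tt N56391 (iv4 D195929)) (tt N118041 D221300) (tt N118042 D221301) (tt N93700 F401612))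
theorem Q92918 : ∀ i, i < 92918 → P i := stepQ 92917 Q92917 (allL N92917 (tt N105380 F449976) (tt N117529 (iv0 F505538)) (tt N95070 (iv2 F406948)) (tt N56393 F398756) (tt N118042 (iv4 F508249)) (tt N73515 (iv5 F398757)) (tt N56391 (iv6 D195930)) (tt N95067 (iv7 F406936)))
theorem Q92919 : ∀ i, i < 92919 → P i := stepQ 92918 Q92918 (allL N92918 (tt N102825 F438819) (tt N67739 F398762) (tt N93799 (iv2 F401937)) (tt N67615 F398758) (tt N85213 F398759) (tt N56392 (iv5 D195931)) (tt N67613 F398760) (tt N73421 F398761))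
theorem Q92920 : ∀ i, i < 92920 → P i := stepQ 92919 Q92919 (allL N92919 (tt N56393 (iv1 D195932)) (tt N93803 F401963) (tt N57068 F401952) (tt N57127 F401953) (tt N101197 (iv4 F432146)) (tt N118043 D221302) (tt N118029 (iv6 F508180)) (tt N93801 F401954))
theorem Q92921 : ∀ i, i < 92921 → P i := stepQ 92920 Q92920 (allL N92920 (tt N57068 F401925) (tt N93801 F401955) (tt N93803 (iv2 F401961)) (tt N95067 F406937) (tt N97392 (iv4 F416681)) (tt N95066 (iv5 F406938)) (tt N93808 (iv6 F401989)) (tt N56393 (iv7 D195933)))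
theorem Q92922 : ∀ i, i < 92922 → P i := stepQ 92921 Q92921 (allL N92921 (tt N93388 (iv1 F400618)) (tt N57206 F398767) (tt N57165 F398763) (tt N94734 F405726) (tt N56395 (iv4 D195934)) (tt N59092 F398766) (tt N67309 F398764) (tt N57173 F398765))
theorem Q92923 : ∀ i, i < 92923 → P i := stepQ 92922 Q92922 (allL N92922 (tt N57206 F398772) (tt N93388 (iv0 F400615)) (tt N57173 F398768) (tt N95220 F407471) (tt N56397 (iv4 D195935)) (tt N59093 F398771) (tt N57178 F398769) (tt N57165 F398770))
theorem Q92924 : ∀ i, i < 92924 → P i := stepQ 92923 Q92923 (allL N92923 (tt N68618 (iv1 F398778)) (tt N68617 F398777) (tt N56399 (iv2 D195936)) (tt N68626 F398773) (tt N68179 F398774) (tt N88213 F398775) (tt N93678 (iv6 F401534)) (tt N68619 F398776))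
theorem Q92925 : ∀ i, i < 92925 → P i := stepQ 92924 Q92924 (allL N92924 (tt N98063 F419326) (tt N103517 (iv0 F441917)) (tt N93104 (iv2 F399507)) (tt N67544 F398779) (tt N56400 (iv4 D195937)) (tt N67543 F398780) (tt N102906 (iv6 F439210)) (tt N93101 (iv7 F399502)))
theorem Q92926 : ∀ i, i < 92926 → P i := stepQ 92925 Q92925 (allL N92925 (tt N103517 F441918) (tt N98063 (iv0 F419325)) (tt N93101 (iv2 F399500)) (tt N66153 F398782) (tt N56401 (iv4 D195938)) (tt N78900 F398781) (tt N117967 (iv6 F507831)) (tt N93104 (iv7 F399509)))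
theorem Q92927 : ∀ i, i < 92927 → P i := stepQ 92926 Q92926 (allL N92926 (tt N93098 (iv1 F399491)) (tt N56404 (iv0 D195940)) (tt N67370 (iv2 F398785)) (tt N86951 F398788) (tt N74385 F398784) (tt N65612 F398783) (tt N74383 (iv6 F398787)) (tt N67373 F398786))
theorem Q92928 : ∀ i, i < 92928 → P i := stepQ 92927 Q92927 (allL N92927 (tt N67373 (iv1 F398792)) (tt N67370 F398793) (tt N93098 (iv2 F399487)) (tt N113802 F487172) (tt N92664 F398790) (tt N56405 F398791) (tt N102235 F436299) (tt N56404 (iv7 D195941)))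
theorem Q92929 : ∀ i, i < 92929 → P i := stepQ 92928 Q92928 (allL N92928 (tt N118044 D221303) (tt N104911 (iv0 F447900)) (tt N115412 (iv2 F495065)) (tt N56407 (iv3 D195942)) (tt N68917 F398794) (tt N66618 F398795) (tt N87850 F398796) (tt N68644 F398797))
theorem Q92930 : ∀ i, i < 92930 → P i := stepQ 92929 Q92929 (allL N92929 (tt N115749 F496655) (tt N118045 D221304) (tt N103926 (iv2 F443401)) (tt N56408 (iv3 D195943)) (tt N68213 F398798) (tt N97727 (iv5 F418091)) (tt N108323 (iv6 F462058)) (tt N68643 F398799))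
theorem Q92931 : ∀ i, i < 92931 → P i := stepQ 92930 Q92930 (allL N92930 (tt N67508 (iv1 F398802)) (tt N67507 (iv0 F398803)) (tt N68645 F398800) (tt N108323 (iv3 F462057)) (tt N56409 F398801) (tt N104435 (iv5 F445746)) (tt N56408 (iv6 D195944)) (tt N97520 (iv7 F417231)))
theorem Q92932 : ∀ i, i < 92932 → P i := stepQ 92931 Q92931 (allL N92931 (tt N83596 (iv1 F398805)) (tt N56410 (iv0 D195945)) (tt N92012 F398815) (tt N104228 F444813) (tt N104279 (iv4 F445081)) (tt N87594 F398804) (tt N105328 (iv6 F449732)) (tt N92013 (iv7 F398814)))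
theorem Q92933 : ∀ i, i < 92933 → P i := stepQ 92932 Q92932 (allL N92932 (tt N56410 (iv1 D195946)) (tt N83596 F398806) (tt N92013 (iv2 F398810)) (tt N113637 (iv3 F486420)) (tt N104280 (iv4 F445082)) (tt N87593 (iv5 F398807)) (tt N111777 F477922) (tt N92012 F398816))
theorem Q92934 : ∀ i, i < 92934 → P i := stepQ 92933 Q92933 (allL N92933 (tt N56411 (iv1 D195947)) (tt N69608 F398817) (tt N69607 F398821) (tt N104211 F444714) (tt N83601 (iv4 F398819)) (tt N69503 (iv5 F398820)) (tt N118046 D221305) (tt N69606 F398818))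
theorem Q92935 : ∀ i, i < 92935 → P i := stepQ 92934 Q92934 (allL N92934 (tt N104935 F448020) (tt N109564 F467548) (tt N93099 (iv2 F399493)) (tt N61741 F398822) (tt N77803 F398825) (tt N56412 (iv5 D195948)) (tt N61740 F398823) (tt N86481 F398824))
theorem Q92936 : ∀ i, i < 92936 → P i := stepQ 92935 Q92935 (allL N92935 (tt N56500 F398829) (tt N68659 (iv0 F398830)) (tt N68665 F398826) (tt N103465 (iv3 F441744)) (tt N56413 (iv4 D195949)) (tt N101971 (iv5 F435151)) (tt N86674 F398827) (tt N68664 F398828))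
theorem Q92937 : ∀ i, i < 92937 → P i := stepQ 92936 Q92936 (allL N92936 (tt N109564 F467547) (tt N104935 (iv0 F448019)) (tt N86481 F398831) (tt N76399 F398832) (tt N77804 F398834) (tt N56413 (iv5 D195950)) (tt N64201 F398833) (tt N93099 (iv7 F399495)))
theorem Q92938 : ∀ i, i < 92938 → P i := stepQ 92937 Q92937 (allL N92937 (tt N113149 F484204) (tt N103589 (iv0 F442152)) (tt N71913 F398835) (tt N92132 F398836) (tt N56414 (iv4 D195951)) (tt N86730 F398838) (tt N65972 F398837) (tt N93091 (iv7 F399443)))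
theorem Q92939 : ∀ i, i < 92939 → P i := stepQ 92938 Q92938 (allL N92938 (tt N88250 (iv1 F399456)) (tt N88248 F417722) (tt N97637 (iv2 F417719)) (tt N56415 (iv3 D195952)) (tt N98058 (iv4 F419307)) (tt N114818 (iv5 F492039)) (tt N118047 D221306) (tt N93093 (iv7 F399455)))
theorem Q92940 : ∀ i, i < 92940 → P i := stepQ 92939 Q92939 (allL N92939 (tt N103589 (iv1 F442154)) (tt N113149 (iv0 F484203)) (tt N93091 (iv2 F399441)) (tt N94477 (iv3 F404644)) (tt N56415 (iv4 D195953)) (tt N86729 F398844) (tt N114968 (iv6 F492819)) (tt N71913 F398843))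
theorem Q92941 : ∀ i, i < 92941 → P i := stepQ 92940 Q92940 (allL N92940 (tt N97591 (iv1 F417504)) (tt N97590 F417503) (tt N93092 (iv2 F399447)) (tt N118047 (iv3 F508277)) (tt N114968 (iv4 F492818)) (tt N117698 (iv5 F506487)) (tt N56415 (iv6 D195954)) (tt N97585 (iv7 F417475)))
theorem Q92942 : ∀ i, i < 92942 → P i := stepQ 92941 Q92941 (allL N92941 (tt N113143 F484173) (tt N102239 F436316) (tt N56417 F398845) (tt N93105 (iv3 F399512)) (tt N86371 F398846) (tt N118048 D221307) (tt N56416 (iv6 D195955)) (tt N113057 (iv7 F483774)))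
theorem Q92943 : ∀ i, i < 92943 → P i := stepQ 92942 Q92942 (allL N92942 (tt N113057 F483776) (tt N56417 (iv0 D195956)) (tt N113143 (iv2 F484167)) (tt N102013 (iv3 F435342)) (tt N77238 (iv4 F398848)) (tt N102012 F435339) (tt N77237 F398847) (tt N102239 (iv7 F436312)))
theorem Q92944 : ∀ i, i < 92944 → P i := stepQ 92943 Q92943 (allL N92943 (tt N102047 (iv1 F435815)) (tt N65766 (iv0 F398851)) (tt N118048 (iv2 F508282)) (tt N56418 F398849) (tt N60417 F398850) (tt N56417 (iv5 D195957)) (tt N104420 (iv6 F445679)) (tt N65727 (iv7 F398852)))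
theorem Q92945 : ∀ i, i < 92945 → P i := stepQ 92944 Q92944 (allL N92944 (tt N102239 F436315) (tt N113143 (iv0 F484172)) (tt N113057 (iv2 F483771)) (tt N56419 F398853) (tt N86373 F398854) (tt N65727 F398855) (tt N93097 (iv6 F399485)) (tt N56417 (iv7 D195958)))
theorem Q92946 : ∀ i, i < 92946 → P i := stepQ 92945 Q92945 (allL N92945 (tt N65749 (iv1 F398858)) (tt N56418 (iv0 D195959)) (tt N65751 (iv2 F398857)) (tt N118049 D221308) (tt N101989 (iv4 F435243)) (tt N67352 F398856) (tt N65707 (iv6 F398860)) (tt N60419 F398859))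
theorem Q92947 : ∀ i, i < 92947 → P i := stepQ 92946 Q92946 (allL N92946 (tt N102227 (iv1 F436273)) (tt N102105 F435750) (tt N68668 F398861) (tt N92759 F398862) (tt N65813 F398864) (tt N56420 (iv5 D195960)) (tt N65811 F398865) (tt N68670 F398863))
theorem Q92948 : ∀ i, i < 92948 → P i := stepQ 92947 Q92947 (allL N92947 (tt N68131 F398870) (tt N93997 F402756) (tt N93996 (iv2 F402754)) (tt N56605 F398866) (tt N56423 F398867) (tt N74925 F398868) (tt N56422 (iv6 D195961)) (tt N76391 F398869))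
theorem Q92949 : ∀ i, i < 92949 → P i := stepQ 92948 Q92948 (allL N92948 (tt N104212 (iv1 F444722)) (tt N56423 (iv0 D195962)) (tt N94138 (iv2 F403388)) (tt N60996 F398871) (tt N94132 (iv4 F403364)) (tt N86065 F398873) (tt N76410 F398872) (tt N100301 (iv7 F428333)))
theorem Q92950 : ∀ i, i < 92950 → P i := stepQ 92949 Q92949 (allL N92949 (tt N56423 (iv1 D195963)) (tt N104212 F444721) (tt N100301 (iv2 F428330)) (tt N69492 (iv3 F398874)) (tt N94142 (iv4 F403405)) (tt N86064 (iv5 F398875)) (tt N117414 (iv6 F504921)) (tt N94138 (iv7 F403394)))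
theorem Q92951 : ∀ i, i < 92951 → P i := stepQ 92950 Q92950 (allL N92950 (tt N100301 F428335) (tt N94138 (iv0 F403390)) (tt N104212 (iv2 F444717)) (tt N56426 F398876) (tt N76391 F398877) (tt N77674 F398878) (tt N76390 F398879) (tt N56423 (iv7 D195964)))
theorem Q92952 : ∀ i, i < 92952 → P i := stepQ 92951 Q92951 (allL N92951 (tt N76404 F398885) (tt N57271 F398892) (tt N76438 (iv2 F398886)) (tt N56424 (iv3 D195966)) (tt N63814 F398884) (tt N114480 (iv5 F490396)) (tt N86539 F421743) (tt N76439 (iv7 F398887)))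
theorem Q92953 : ∀ i, i < 92953 → P i := stepQ 92952 Q92952 (allL N92952 (tt N68642 (iv1 F398899)) (tt N56490 F398882) (tt N68640 F398898) (tt N63816 F398883) (tt N56424 (iv4 D195967)) (tt N56508 F398881) (tt N106142 (iv6 F453326)) (tt N68641 (iv7 F398895)))
theorem Q92954 : ∀ i, i < 92954 → P i := stepQ 92953 Q92953 (allL N92953 (tt N85865 F398900) (tt N61534 F398901) (tt N93115 (iv2 F399547)) (tt N114480 F490398) (tt N104441 (iv4 F445782)) (tt N56424 (iv5 D195968)) (tt N114763 (iv6 F491731)) (tt N93117 (iv7 F399562)))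
theorem Q92955 : ∀ i, i < 92955 → P i := stepQ 92954 Q92954 (allL N92954 (tt N95897 F410145) (tt N76415 (iv0 F398903)) (tt N93116 (iv2 F399551)) (tt N86539 (iv3 F421744)) (tt N106142 (iv4 F453327)) (tt N76233 F398902) (tt N56424 (iv6 D195969)) (tt N114073 (iv7 F488454)))
theorem Q92956 : ∀ i, i < 92956 → P i := stepQ 92955 Q92955 (allL N92955 (tt N95871 F410030) (tt N61360 (iv0 F398909)) (tt N95878 F410066) (tt N56425 (iv3 D195970)) (tt N115370 (iv4 F494852)) (tt N106193 F453555) (tt N104089 (iv6 F444122)) (tt N93114 (iv7 F399544)))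
theorem Q92957 : ∀ i, i < 92957 → P i := stepQ 92956 Q92956 (allL N92956 (tt N56490 F398908) (tt N68642 F398907) (tt N68641 F398904) (tt N69249 F398910) (tt N56425 (iv4 D195971)) (tt N56509 F398906) (tt N118050 D221309) (tt N68640 F398905))
theorem Q92958 : ∀ i, i < 92958 → P i := stepQ 92957 Q92957 (allL N92957 (tt N69602 F398916) (tt N57282 (iv0 F398917)) (tt N93118 (iv2 F399569)) (tt N104089 (iv3 F444117)) (tt N118050 (iv4 F508296)) (tt N104088 F444114) (tt N56425 (iv6 D195972)) (tt N95892 (iv7 F410116)))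
theorem Q92959 : ∀ i, i < 92959 → P i := stepQ 92958 Q92958 (allL N92958 (tt N56428 (iv1 D195973)) (tt N86802 F398918) (tt N86801 (iv2 F398921)) (tt N105933 (iv3 F452410)) (tt N87877 F398920) (tt N105929 (iv5 F452392)) (tt N105930 (iv6 F452396)) (tt N86800 F398919))
theorem Q92960 : ∀ i, i < 92960 → P i := stepQ 92959 Q92959 (allL N92959 (tt N70474 (iv1 F398924)) (tt N60887 (iv0 F398923)) (tt N95867 F410015) (tt N56429 (iv3 D195974)) (tt N115772 (iv4 F496790)) (tt N69380 F398922) (tt N115696 F496368) (tt N93012 (iv7 F399116)))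
theorem Q92961 : ∀ i, i < 92961 → P i := stepQ 92960 Q92960 (allL N92960 (tt N86858 (iv1 F398929)) (tt N79894 (iv0 F398928)) (tt N86862 F398925) (tt N115696 F496367) (tt N68736 F398926) (tt N61625 F398927) (tt N56429 (iv6 D195975)) (tt N86861 (iv7 F398930)))
theorem Q92962 : ∀ i, i < 92962 → P i := stepQ 92961 Q92961 (allL N92961 (tt N57265 F398933) (tt N109743 F468399) (tt N109742 F468394) (tt N56430 (iv3 D195976)) (tt N104995 (iv4 F448298)) (tt N91087 F398931) (tt N118051 D221310) (tt N91086 F398932))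
theorem Q92963 : ∀ i, i < 92963 → P i := stepQ 92962 Q92962 (allL N92962 (tt N111262 F475509) (tt N105002 (iv0 F448314)) (tt N93119 (iv2 F399572)) (tt N118051 (iv3 F508301)) (tt N97692 (iv4 F417924)) (tt N97917 (iv5 F418796)) (tt N56430 (iv6 D195977)) (tt N118052 D221311))
theorem Q92964 : ∀ i, i < 92964 → P i := stepQ 92963 Q92963 (allL N92963 (tt N68717 (iv1 F398953)) (tt N56513 F398952) (tt N68714 F398936) (tt N68818 F398934) (tt N56432 (iv4 D195978)) (tt N97887 (iv5 F418666)) (tt N109733 (iv6 F468338)) (tt N68715 F398935))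
theorem Q92965 : ∀ i, i < 92965 → P i := stepQ 92964 Q92964 (allL N92964 (tt N85221 (iv1 F398942)) (tt N85217 (iv0 F398941)) (tt N85220 F398943) (tt N109064 (iv3 F465174)) (tt N93728 (iv4 F401696)) (tt N56432 (iv5 D195979)) (tt N93727 F401694) (tt N78384 F398940))
theorem Q92966 : ∀ i, i < 92966 → P i := stepQ 92965 Q92965 (allL N92965 (tt N95868 F410022) (tt N95870 F410024) (tt N95869 F420328) (tt N56433 (iv3 D195980)) (tt N117574 (iv4 F505788)) (tt N98325 (iv5 F420507)) (tt N98411 (iv6 F420853)) (tt N93120 (iv7 F399576)))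
theorem Q92967 : ∀ i, i < 92967 → P i := stepQ 92966 Q92966 (allL N92966 (tt N56513 F398950) (tt N68717 F398951) (tt N68715 F398946) (tt N56560 (iv3 F398949)) (tt N56433 (iv4 D195981)) (tt N104493 (iv5 F446012)) (tt N68815 F398947) (tt N68714 F398948))
theorem Q92968 : ∀ i, i < 92968 → P i := stepQ 92967 Q92967 (allL N92967 (tt N76234 (iv1 F398962)) (tt N56434 (iv0 D195982)) (tt N76232 (iv2 F399558)) (tt N109713 F468239) (tt N114595 (iv4 F490930)) (tt N114073 (iv5 F488455)) (tt N104926 (iv6 F447978)) (tt N76233 F399557))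
theorem Q92969 : ∀ i, i < 92969 → P i := stepQ 92968 Q92968 (allL N92968 (tt N56434 (iv1 D195983)) (tt N76234 F398954) (tt N76233 F399554) (tt N106313 (iv3 F453984)) (tt N118053 D221312) (tt N93116 (iv5 F399553)) (tt N118054 D221313) (tt N76232 (iv7 F399556)))
theorem Q92970 : ∀ i, i < 92970 → P i := stepQ 92969 Q92969 (allL N92969 (tt N118055 D221314) (tt N105608 (iv0 F450961)) (tt N76231 F398955) (tt N63984 F398956) (tt N56434 (iv4 D195984)) (tt N64862 F398958) (tt N56436 F398957) (tt N118056 D221315))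
theorem Q92971 : ∀ i, i < 92971 → P i := stepQ 92970 Q92970 (allL N92970 (tt N76233 (iv1 F398963)) (tt N76232 F398964) (tt N76234 F398959) (tt N94006 (iv3 F402795)) (tt N118056 (iv4 F508330)) (tt N56435 F398960) (tt N60922 F398961) (tt N56434 (iv7 D195985)))
theorem Q92972 : ∀ i, i < 92972 → P i := stepQ 92971 Q92971 (allL N92971 (tt N58307 F398969) (tt N89819 (iv0 F398970)) (tt N112843 (iv2 F482916)) (tt N56436 (iv3 D195986)) (tt N63985 F398965) (tt N58282 F398966) (tt N63984 F398967) (tt N66579 F398968))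
theorem Q92973 : ∀ i, i < 92973 → P i := stepQ 92972 Q92972 (allL N92972 (tt N68146 F398976) (tt N68278 F398977) (tt N78301 F398971) (tt N85285 F398972) (tt N68271 F398975) (tt N56437 (iv5 D195987)) (tt N84840 F398973) (tt N78293 F398974))
theorem Q92974 : ∀ i, i < 92974 → P i := stepQ 92973 Q92973 (allL N92973 (tt N70033 (iv1 F398983)) (tt N98360 F420641) (tt N92031 F398978) (tt N56441 F398979) (tt N83726 F398980) (tt N66614 F398981) (tt N78296 F398982) (tt N56438 (iv7 D195988)))
theorem Q92975 : ∀ i, i < 92975 → P i := stepQ 92974 Q92974 (allL N92974 (tt N93145 F439316) (tt N92747 F443757) (tt N93144 F399661) (tt N56439 (iv3 D195989)) (tt N115471 (iv4 F495345)) (tt N118007 (iv5 F508054)) (tt N115470 F495342) (tt N93126 (iv7 F399599)))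
theorem Q92976 : ∀ i, i < 92976 → P i := stepQ 92975 Q92975 (allL N92975 (tt N85297 (iv1 F398990)) (tt N78292 (iv0 F398989)) (tt N93125 (iv2 F399588)) (tt N115470 (iv3 F495339)) (tt N60567 F398987) (tt N78806 F398988) (tt N56439 (iv6 D195990)) (tt N98699 (iv7 F421901)))
theorem Q92977 : ∀ i, i < 92977 → P i := stepQ 92976 Q92976 (allL N92976 (tt N104084 (iv1 F444093)) (tt N111247 (iv0 F475419)) (tt N93127 (iv2 F399602)) (tt N104913 (iv3 F447909)) (tt N102357 (iv4 F436883)) (tt N102530 (iv5 F437530)) (tt N56440 (iv6 D195992)) (tt N118057 D221316))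
theorem Q92978 : ∀ i, i < 92978 → P i := stepQ 92977 Q92977 (allL N92977 (tt N69489 F398996) (tt N76308 F398997) (tt N86492 F398993) (tt N118058 D221317) (tt N56442 (iv4 D195993)) (tt N115200 (iv5 F493988)) (tt N86579 F398994) (tt N86491 F398995))
theorem Q92979 : ∀ i, i < 92979 → P i := stepQ 92978 Q92978 (allL N92978 (tt N109697 (iv1 F468165)) (tt N93998 (iv0 F402760)) (tt N56446 F398998) (tt N68270 F398999) (tt N86517 F399000) (tt N85086 F399001) (tt N56443 (iv6 D195994)) (tt N109696 (iv7 F468161)))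
theorem Q92980 : ∀ i, i < 92980 → P i := stepQ 92979 Q92979 (allL N92979 (tt N86666 (iv1 F399006)) (tt N86665 (iv0 F399005)) (tt N86667 F399002) (tt N97180 (iv3 F415780)) (tt N115199 (iv4 F493984)) (tt N60258 F399003) (tt N56444 (iv6 D195995)) (tt N83750 F399004))
theorem Q92981 : ∀ i, i < 92981 → P i := stepQ 92980 Q92980 (allL N92980 (tt N115216 F494066) (tt N118059 D221318) (tt N86517 F399009) (tt N104297 F445124) (tt N56446 F399010) (tt N114515 F490544) (tt N56445 (iv6 D195996)) (tt N115268 (iv7 F494290)))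
theorem Q92982 : ∀ i, i < 92982 → P i := stepQ 92981 Q92981 (allL N92981 (tt N56446 (iv1 D195997)) (tt N109696 F468160) (tt N93998 F411626) (tt N97346 F416443) (tt N115187 (iv4 F493925)) (tt N86706 F411627) (tt N92032 (iv6 F411625)) (tt N109697 (iv7 F468164)))
theorem Q92983 : ∀ i, i < 92983 → P i := stepQ 92982 Q92982 (allL N92982 (tt N86210 F399014) (tt N115171 (iv0 F493838)) (tt N85086 F399011) (tt N56450 F399012) (tt N114592 (iv4 F490915)) (tt N56446 (iv5 D195998)) (tt N56447 F399013) (tt N115323 (iv7 F494583)))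
theorem Q92984 : ∀ i, i < 92984 → P i := stepQ 92983 Q92983 (allL N92983 (tt N93998 F402761) (tt N109697 F468166) (tt N109696 F468159) (tt N56451 F399015) (tt N115268 F494293) (tt N115323 (iv5 F494585)) (tt N93124 (iv6 F399586)) (tt N56446 (iv7 D195999)))
theorem Q92985 : ∀ i, i < 92985 → P i := stepQ 92984 Q92984 (allL N92984 (tt N86034 F399019) (tt N86036 F399020) (tt N85085 F399016) (tt N109653 (iv3 F467938)) (tt N56447 (iv4 D196000)) (tt N77465 F399018) (tt N114592 F490916) (tt N85097 F399017))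
theorem Q92986 : ∀ i, i < 92986 → P i := stepQ 92985 Q92985 (allL N92985 (tt N103029 (iv1 F439735)) (tt N86680 F399026) (tt N93129 (iv2 F399608)) (tt N98160 (iv3 F419775)) (tt N93718 (iv4 F401658)) (tt N56448 (iv5 D196001)) (tt N93717 F401656) (tt N61185 F399025))
theorem Q92987 : ∀ i, i < 92987 → P i := stepQ 92986 Q92986 (allL N92986 (tt N93146 (iv1 F399685)) (tt N93152 (iv0 F399684)) (tt N93151 (iv2 F414520)) (tt N56449 (iv3 D196002)) (tt N115689 (iv4 F496327)) (tt N103028 F439734) (tt N103987 (iv6 F443667)) (tt N93128 (iv7 F399604)))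
theorem Q92988 : ∀ i, i < 92988 → P i := stepQ 92987 Q92987 (allL N92987 (tt N93134 (iv1 F399632)) (tt N56450 (iv0 D196003)) (tt N93131 (iv2 F399616)) (tt N92859 (iv3 F399028)) (tt N118055 (iv4 F508323)) (tt N104793 (iv5 F447300)) (tt N86189 F399027) (tt N93132 (iv7 F399621)))
theorem Q92989 : ∀ i, i < 92989 → P i := stepQ 92988 Q92988 (allL N92988 (tt N56450 (iv1 D196004)) (tt N93134 F399631) (tt N93132 (iv2 F399624)) (tt N82924 (iv3 F399618)) (tt N105608 (iv4 F450959)) (tt N93177 (iv5 F399820)) (tt N82922 F399619) (tt N93131 F399617))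
theorem Q92990 : ∀ i, i < 92990 → P i := stepQ 92989 Q92989 (allL N92989 (tt N93132 (iv1 F399620)) (tt N93131 F399625) (tt N93134 (iv2 F399628)) (tt N115323 F494586) (tt N109656 (iv4 F467962)) (tt N56451 F399029) (tt N92127 F399030) (tt N56450 (iv7 D196005)))
theorem Q92991 : ∀ i, i < 92991 → P i := stepQ 92990 Q92990 (allL N92990 (tt N88219 (iv1 F399032)) (tt N56453 (iv0 D196006)) (tt N69501 (iv2 F399033)) (tt N113930 (iv3 F487838)) (tt N60250 F399031) (tt N98131 F419602) (tt N115465 (iv6 F495320)) (tt N69505 (iv7 F399034)))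
theorem Q92992 : ∀ i, i < 92992 → P i := stepQ 92991 Q92991 (allL N92991 (tt N56453 (iv1 D196007)) (tt N88219 F399035) (tt N69505 (iv2 F399040)) (tt N60173 (iv3 F399038)) (tt N60251 F399037) (tt N106816 (iv5 F455808)) (tt N88297 F399039) (tt N69501 F399036))
theorem Q92993 : ∀ i, i < 92993 → P i := stepQ 92992 Q92992 (allL N92992 (tt N111764 (iv1 F477856)) (tt N60180 (iv0 F399044)) (tt N75239 (iv2 F399043)) (tt N56454 (iv3 D196008)) (tt N96938 (iv4 F414682)) (tt N74433 F399042) (tt N96937 F414680) (tt N97277 (iv7 F416175)))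
theorem Q92994 : ∀ i, i < 92994 → P i := stepQ 92993 Q92993 (allL N92993 (tt N97262 F416125) (tt N81452 F416126) (tt N97269 F444739) (tt N56455 (iv3 D196009)) (tt N81662 F399051) (tt N109841 (iv5 F468854)) (tt N81660 (iv6 F399050)) (tt N97268 (iv7 F444736)))
theorem Q92995 : ∀ i, i < 92995 → P i := stepQ 92994 Q92994 (allL N92994 (tt N83733 (iv1 F399049)) (tt N60201 (iv0 F399045)) (tt N97278 (iv2 F416181)) (tt N81660 F399046) (tt N88472 F399047) (tt N104832 (iv5 F447515)) (tt N56455 (iv6 D196010)) (tt N97283 (iv7 F416200)))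
theorem Q92996 : ∀ i, i < 92996 → P i := stepQ 92995 Q92995 (allL N92995 (tt N64820 F399057) (tt N68394 F399058) (tt N63424 F399052) (tt N61660 F399053) (tt N63456 F399054) (tt N56457 (iv5 D196011)) (tt N63469 F399055) (tt N61655 F399056))
theorem Q92997 : ∀ i, i < 92997 → P i := stepQ 92996 Q92996 (allL N92996 (tt N86698 F399060) (tt N115190 (iv0 F493942)) (tt N115360 (iv2 F494787)) (tt N104290 (iv3 F445107)) (tt N56463 F399059) (tt N118059 (iv5 F508348)) (tt N56462 (iv6 D196012)) (tt N118060 D221319))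
theorem Q92998 : ∀ i, i < 92998 → P i := stepQ 92997 Q92997 (allL N92997 (tt N56463 (iv1 D196013)) (tt N63423 F399061) (tt N85315 (iv2 F399064)) (tt N108277 (iv3 F461832)) (tt N118061 D221320) (tt N84843 F399063) (tt N115325 (iv6 F494599)) (tt N85318 F399062))
theorem Q92999 : ∀ i, i < 92999 → P i := stepQ 92998 Q92998 (allL N92998 (tt N85315 (iv1 F399068)) (tt N85318 F399069) (tt N63423 F399066) (tt N56465 F399067) (tt N118060 (iv4 F508354)) (tt N111185 (iv5 F475133)) (tt N93176 (iv6 F399815)) (tt N56463 (iv7 D196014)))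
theorem Q93000 : ∀ i, i < 93000 → P i := stepQ 92999 Q92999 (allL N92999 (tt N85285 F399072) (tt N78858 (iv0 F399074)) (tt N85296 F399070) (tt N97284 (iv3 F416205)) (tt N118062 D221321) (tt N56464 (iv5 D196015)) (tt N112912 (iv6 F483251)) (tt N85295 F399071))
theorem Q93001 : ∀ i, i < 93001 → P i := stepQ 93000 Q93000 (allL N93000 (tt N97281 (iv1 F416193)) (tt N116082 F498369) (tt N91648 F399077) (tt N68151 F399078) (tt N56467 (iv4 D196016)) (tt N91493 F399080) (tt N93081 (iv6 F399395)) (tt N91649 F399079))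
theorem Q93002 : ∀ i, i < 93002 → P i := stepQ 93001 Q93001 (allL N93001 (tt N56469 (iv1 D196017)) (tt N87892 F399081) (tt N68620 (iv2 F399083)) (tt N104351 (iv3 F445376)) (tt N109251 (iv4 F465996)) (tt N68619 (iv5 F399084)) (tt N88304 (iv6 F399085)) (tt N88213 F399082))
theorem Q93003 : ∀ i, i < 93003 → P i := stepQ 93002 Q93002 (allL N93002 (tt N118063 D221322) (tt N111779 (iv0 F477934)) (tt N60616 F399086) (tt N67627 F399087) (tt N67629 F399089) (tt N56470 (iv5 D196018)) (tt N60607 F399088) (tt N93182 (iv7 F399841)))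
theorem Q93004 : ∀ i, i < 93004 → P i := stepQ 93003 Q93003 (allL N93003 (tt N111779 (iv1 F477935)) (tt N118063 F508375) (tt N93182 (iv2 F399837)) (tt N56488 F399094) (tt N68992 F399095) (tt N56471 (iv5 D196019)) (tt N92063 F399096) (tt N60616 F399097))
theorem Q93005 : ∀ i, i < 93005 → P i := stepQ 93004 Q93004 (allL N93004 (tt N93057 (iv1 F399319)) (tt N93055 (iv0 F399306)) (tt N93184 (iv2 F399849)) (tt N102422 (iv3 F437169)) (tt N56472 (iv4 D196020)) (tt N98064 (iv5 F419329)) (tt N93089 (iv6 F399433)) (tt N93209 (iv7 F399978)))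
theorem Q93006 : ∀ i, i < 93006 → P i := stepQ 93005 Q93005 (allL N93005 (tt N86894 F399099) (tt N100661 (iv0 F429897)) (tt N104086 (iv2 F444100)) (tt N93198 (iv3 F399928)) (tt N56474 (iv4 D196021)) (tt N104176 (iv5 F444542)) (tt N70769 F399098) (tt N93192 (iv7 F399883)))
theorem Q93007 : ∀ i, i < 93007 → P i := stepQ 93006 Q93006 (allL N93006 (tt N115311 (iv1 F494518)) (tt N93062 (iv0 F399340)) (tt N93217 (iv2 F400002)) (tt N56475 (iv3 D196022)) (tt N93198 (iv4 F399929)) (tt N92693 F399100) (tt N56726 F399101) (tt N93194 (iv7 F399909)))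
theorem Q93008 : ∀ i, i < 93008 → P i := stepQ 93007 Q93007 (allL N93007 (tt N61141 F399104) (tt N93186 F399863) (tt N56476 (iv2 D196023)) (tt N76641 F399102) (tt N115169 (iv4 F493828)) (tt N92836 F399103) (tt N104826 (iv6 F447486)) (tt N93187 (iv7 F399868)))
theorem Q93009 : ∀ i, i < 93009 → P i := stepQ 93008 Q93008 (allL N93008 (tt N115182 F493905) (tt N115252 (iv0 F494219)) (tt N115169 (iv2 F493826)) (tt N104344 (iv3 F445342)) (tt N56476 (iv4 D196024)) (tt N97309 (iv5 F447696)) (tt N115168 F493825) (tt N93188 (iv7 F399871)))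
theorem Q93010 : ∀ i, i < 93010 → P i := stepQ 93009 Q93009 (allL N93009 (tt N104293 F445115) (tt N104403 (iv0 F445619)) (tt N104404 F445623) (tt N56477 (iv3 D196025)) (tt N104344 F445341) (tt N88666 F399105) (tt N88373 F399106) (tt N93190 (iv7 F399877)))
theorem Q93011 : ∀ i, i < 93011 → P i := stepQ 93010 Q93010 (allL N93010 (tt N97821 (iv1 F418419)) (tt N97884 (iv0 F418660)) (tt N70768 F399107) (tt N104822 (iv3 F447463)) (tt N103874 (iv4 F443168)) (tt N56481 (iv5 D196026)) (tt N97895 (iv6 F418688)) (tt N93197 (iv7 F399926)))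
theorem Q93012 : ∀ i, i < 93012 → P i := stepQ 93011 Q93011 (allL N93011 (tt N62871 (iv1 F399112)) (tt N56482 (iv0 D196027)) (tt N68609 (iv2 F399111)) (tt N64601 F399110) (tt N60869 F399109) (tt N66377 F399108) (tt N102531 (iv6 F437537)) (tt N68651 F399113))
theorem Q93013 : ∀ i, i < 93013 → P i := stepQ 93012 Q93012 (allL N93012 (tt N58908 F399117) (tt N97966 F419001) (tt N97964 (iv2 F418989)) (tt N56601 F399114) (tt N87767 (iv4 F399118)) (tt N56483 (iv5 D196028)) (tt N70698 F399115) (tt N92959 F399116))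
theorem Q93014 : ∀ i, i < 93014 → P i := stepQ 93013 Q93013 (allL N93013 (tt N60896 F399121) (tt N102531 (iv0 F437539)) (tt N102425 (iv2 F437184)) (tt N60013 F399119) (tt N69376 F399120) (tt N95806 (iv5 F409748)) (tt N56485 (iv6 D196029)) (tt N95806 (iv7 F409749)))
theorem Q93015 : ∀ i, i < 93015 → P i := stepQ 93014 Q93014 (allL N93014 (tt N68602 (iv1 F399123)) (tt N56487 (iv0 D196030)) (tt N68601 (iv2 F399124)) (tt N104493 (iv3 F446013)) (tt N103319 (iv4 F441121)) (tt N56560 F399122) (tt N113049 (iv6 F483723)) (tt N68600 (iv7 F399125)))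
theorem Q93016 : ∀ i, i < 93016 → P i := stepQ 93015 Q93015 (allL N93015 (tt N56487 (iv1 D196031)) (tt N68602 F399126) (tt N68600 (iv2 F399130)) (tt N60566 (iv3 F399129)) (tt N103311 (iv4 F441091)) (tt N56561 F399128) (tt N102362 (iv6 F436911)) (tt N68601 F399127))
theorem Q93017 : ∀ i, i < 93017 → P i := stepQ 93016 Q93016 (allL N93016 (tt N113049 (iv1 F483727)) (tt N113047 (iv0 F483716)) (tt N103420 (iv2 F441548)) (tt N56493 (iv3 D196032)) (tt N97514 (iv4 F417204)) (tt N97510 (iv5 F417174)) (tt N118064 D221323) (tt N68648 F399131))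
theorem Q93018 : ∀ i, i < 93018 → P i := stepQ 93017 Q93017 (allL N93017 (tt N93250 (iv1 F400126)) (tt N93251 (iv0 F400133)) (tt N68650 F399132) (tt N118064 (iv3 F508377)) (tt N56494 F399133) (tt N104428 (iv5 F445714)) (tt N56493 (iv6 D196033)) (tt N97517 (iv7 F417220)))
theorem Q93019 : ∀ i, i < 93019 → P i := stepQ 93018 Q93018 (allL N93018 (tt N103293 (iv1 F441018)) (tt N103294 (iv0 F441024)) (tt N105471 (iv2 F450387)) (tt N56496 (iv3 D196034)) (tt N105111 (iv4 F448842)) (tt N88327 F399134) (tt N90416 F399135) (tt N66061 F399136))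
theorem Q93020 : ∀ i, i < 93020 → P i := stepQ 93019 Q93019 (allL N93019 (tt N68638 F399140) (tt N68637 F399141) (tt N56498 F399137) (tt N68642 F399138) (tt N115273 (iv4 F494318)) (tt N56497 (iv5 D196035)) (tt N118065 D221324) (tt N68636 F399139))
theorem Q93021 : ∀ i, i < 93021 → P i := stepQ 93020 Q93020 (allL N93020 (tt N68636 (iv1 F399143)) (tt N56498 (iv0 D196036)) (tt N68638 (iv2 F399144)) (tt N105536 (iv3 F450627)) (tt N118066 D221325) (tt N56523 F399142) (tt N118067 D221326) (tt N68637 (iv7 F399145)))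
theorem Q93022 : ∀ i, i < 93022 → P i := stepQ 93021 Q93021 (allL N93021 (tt N56498 (iv1 D196037)) (tt N68636 F399146) (tt N68637 (iv2 F399149)) (tt N116041 (iv3 F498200)) (tt N118068 D221327) (tt N56524 F399148) (tt N118069 D221328) (tt N68638 F399147))
theorem Q93023 : ∀ i, i < 93023 → P i := stepQ 93022 Q93022 (allL N93022 (tt N115271 (iv1 F494308)) (tt N115275 F494328) (tt N115273 F494319) (tt N56649 F399150) (tt N56498 (iv4 D196038)) (tt N118070 D221329) (tt N117426 (iv6 F504982)) (tt N68639 F399151))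
theorem Q93024 : ∀ i, i < 93024 → P i := stepQ 93023 Q93023 (allL N93023 (tt N111656 F477333) (tt N111656 (iv0 F477332)) (tt N118065 (iv2 F508381)) (tt N56500 F399152) (tt N117426 (iv4 F504981)) (tt N118071 D221330) (tt N56498 (iv6 D196039)) (tt N118065 (iv7 F508383)))
theorem Q93025 : ∀ i, i < 93025 → P i := stepQ 93024 Q93024 (allL N93024 (tt N97718 (iv1 F418052)) (tt N97448 (iv0 F416945)) (tt N117364 (iv2 F504677)) (tt N56501 F399153) (tt N117354 (iv4 F504631)) (tt N56499 (iv5 D196040)) (tt N118071 (iv6 F508417)) (tt N115747 (iv7 F496645)))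
theorem Q93026 : ∀ i, i < 93026 → P i := stepQ 93025 Q93025 (allL N93025 (tt N102183 (iv1 F436077)) (tt N118072 D221331) (tt N68666 F399154) (tt N118071 (iv3 F508416)) (tt N102032 (iv4 F435453)) (tt N56500 (iv5 D196041)) (tt N56501 F399155) (tt N118073 D221332))
theorem Q93027 : ∀ i, i < 93027 → P i := stepQ 93026 Q93026 (allL N93026 (tt N68665 (iv1 F399159)) (tt N68664 F399160) (tt N68659 F399156) (tt N118065 (iv3 F508382)) (tt N56653 F399157) (tt N118073 (iv5 F508426)) (tt N68642 F399158) (tt N56500 (iv7 D196042)))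
theorem Q93028 : ∀ i, i < 93028 → P i := stepQ 93027 Q93027 (allL N93027 (tt N65711 (iv1 F399166)) (tt N56501 (iv0 D196043)) (tt N65713 (iv2 F399163)) (tt N97950 (iv3 F418933)) (tt N65631 F399162) (tt N92102 F399161) (tt N65679 (iv6 F399165)) (tt N65522 F399164))
theorem Q93029 : ∀ i, i < 93029 → P i := stepQ 93028 Q93028 (allL N93028 (tt N65679 (iv1 F435238)) (tt N65519 F399168) (tt N65676 F399167) (tt N118074 D221333) (tt N56501 (iv4 D196044)) (tt N117920 (iv5 F507603)) (tt N102032 (iv6 F435454)) (tt N65677 (iv7 F399169)))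
theorem Q93030 : ∀ i, i < 93030 → P i := stepQ 93029 Q93029 (allL N93029 (tt N65522 (iv1 F399173)) (tt N65713 F399174) (tt N65711 F399170) (tt N115747 (iv3 F496643)) (tt N65677 F399171) (tt N56502 F399172) (tt N97741 F418123) (tt N56501 (iv7 D196045)))
theorem Q93031 : ∀ i, i < 93031 → P i := stepQ 93030 Q93030 (allL N93030 (tt N65638 F399178) (tt N103309 F441083) (tt N68672 F399175) (tt N65783 F399176) (tt N117689 (iv4 F506431)) (tt N56503 (iv5 D196046)) (tt N65816 F399179) (tt N68675 F399177))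
theorem Q93032 : ∀ i, i < 93032 → P i := stepQ 93031 Q93031 (allL N93031 (tt N103327 F441153) (tt N60895 (iv0 F399184)) (tt N69104 F399180) (tt N94482 (iv3 F404668)) (tt N71814 F399182) (tt N56505 (iv5 D196047)) (tt N95587 (iv6 F408782)) (tt N72123 F399181))
theorem Q93033 : ∀ i, i < 93033 → P i := stepQ 93032 Q93032 (allL N93032 (tt N56686 F399842) (tt N56664 (iv0 F399192)) (tt N69246 F399187) (tt N56508 (iv3 D196048)) (tt N66114 F399188) (tt N63816 F399189) (tt N92177 F399190) (tt N66128 F399191))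
theorem Q93034 : ∀ i, i < 93034 → P i := stepQ 93033 Q93033 (allL N93033 (tt N68736 F399197) (tt N68735 F399199) (tt N56511 F399193) (tt N68701 F399194) (tt N78927 F399198) (tt N56510 (iv5 D196049)) (tt N68750 F399195) (tt N68733 F399196))
theorem Q93035 : ∀ i, i < 93035 → P i := stepQ 93034 Q93034 (allL N93034 (tt N56567 (iv1 F399208)) (tt N68815 (iv0 F399207)) (tt N68750 F399200) (tt N56513 F399201) (tt N60993 F399202) (tt N56542 F399203) (tt N56511 (iv6 D196050)) (tt N68754 (iv7 F399206)))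
theorem Q93036 : ∀ i, i < 93036 → P i := stepQ 93035 Q93035 (allL N93035 (tt N68831 (iv1 F418108)) (tt N103397 F441435) (tt N68751 F399212) (tt N56516 F399213) (tt N118075 D221334) (tt N56512 (iv5 D196051)) (tt N56542 F399214) (tt N97733 (iv7 F418106)))
theorem Q93037 : ∀ i, i < 93037 → P i := stepQ 93036 Q93036 (allL N93036 (tt N104675 (iv1 F446826)) (tt N56550 (iv0 F399238)) (tt N68716 F399215) (tt N56542 F399216) (tt N93236 (iv4 F400074)) (tt N56513 (iv5 D196052)) (tt N56516 F399217) (tt N68752 (iv7 F399218)))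
theorem Q93038 : ∀ i, i < 93038 → P i := stepQ 93037 Q93037 (allL N93037 (tt N68715 (iv1 F399226)) (tt N68714 F399227) (tt N68717 F399221) (tt N68754 F399222) (tt N56617 F399223) (tt N68752 F399224) (tt N68743 F399225) (tt N56513 (iv7 D196053)))
theorem Q93039 : ∀ i, i < 93039 → P i := stepQ 93038 Q93038 (allL N93038 (tt N92184 (iv1 F399232)) (tt N92187 (iv0 F399230)) (tt N93240 F400083) (tt N56514 (iv3 D196054)) (tt N69096 F399228) (tt N61570 F399231) (tt N102078 (iv6 F435622)) (tt N68720 F399229))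
theorem Q93040 : ∀ i, i < 93040 → P i := stepQ 93039 Q93039 (allL N93039 (tt N103303 (iv1 F441055)) (tt N103301 (iv0 F441049)) (tt N68719 F399234) (tt N61570 F399235) (tt N118076 D221335) (tt N56514 (iv5 D196055)) (tt N60946 F399236) (tt N68721 F399237))
theorem Q93041 : ∀ i, i < 93041 → P i := stepQ 93040 Q93040 (allL N93040 (tt N56684 (iv1 F399242)) (tt N103277 (iv0 F440945)) (tt N113573 (iv2 F486081)) (tt N56515 (iv3 D196056)) (tt N70023 F399239) (tt N118077 D221336) (tt N92101 F399240) (tt N68718 F399241))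
theorem Q93042 : ∀ i, i < 93042 → P i := stepQ 93041 Q93041 (allL N93041 (tt N103301 (iv1 F441050)) (tt N103303 (iv0 F441054)) (tt N68721 F399243) (tt N118077 (iv3 F508445)) (tt N118078 D221337) (tt N56515 (iv5 D196057)) (tt N117512 (iv6 F505435)) (tt N68719 F399244))
theorem Q93043 : ∀ i, i < 93043 → P i := stepQ 93042 Q93042 (allL N93042 (tt N56516 (iv1 D196058)) (tt N68724 F399245) (tt N68722 (iv2 F399248)) (tt N103276 F440938) (tt N104384 (iv4 F445527)) (tt N67263 F399247) (tt N102241 (iv6 F436324)) (tt N67262 F399246))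
theorem Q93044 : ∀ i, i < 93044 → P i := stepQ 93043 Q93043 (allL N93043 (tt N104561 (iv1 F446273)) (tt N118079 D221338) (tt N68723 F399249) (tt N118080 D221339) (tt N56516 (iv4 D196059)) (tt N108863 (iv5 F464290)) (tt N93236 F400076) (tt N108862 (iv7 F464285)))
theorem Q93045 : ∀ i, i < 93045 → P i := stepQ 93044 Q93044 (allL N93044 (tt N68722 (iv1 F399252)) (tt N67262 F399253) (tt N68724 F399250) (tt N97733 (iv3 F418105)) (tt N108862 (iv4 F464284)) (tt N56517 F399251) (tt N97748 F418145) (tt N56516 (iv7 D196060)))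
theorem Q93046 : ∀ i, i < 93046 → P i := stepQ 93045 Q93045 (allL N93045 (tt N103297 (iv1 F441036)) (tt N103298 (iv0 F441039)) (tt N68729 F399254) (tt N112866 (iv3 F483037)) (tt N118081 D221340) (tt N56518 (iv5 D196061)) (tt N104906 (iv6 F447874)) (tt N68726 F399255))
theorem Q93047 : ∀ i, i < 93047 → P i := stepQ 93046 Q93046 (allL N93046 (tt N71001 F399259) (tt N71003 (iv0 F399260)) (tt N95903 (iv2 F410168)) (tt N66174 F399256) (tt N94912 (iv4 F406299)) (tt N69034 F399258) (tt N56520 (iv6 D196062)) (tt N69110 F399257))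
theorem Q93048 : ∀ i, i < 93048 → P i := stepQ 93047 Q93047 (allL N93047 (tt N103268 (iv1 F440894)) (tt N56682 (iv0 F399344)) (tt N103267 F440885) (tt N56524 (iv3 D196063)) (tt N93063 (iv4 F399342)) (tt N116041 (iv5 F498197)) (tt N114392 F489936) (tt N68699 F399261))
theorem Q93049 : ∀ i, i < 93049 → P i := stepQ 93048 Q93048 (allL N93048 (tt N68841 F399264) (tt N92174 F399265) (tt N68698 F399262) (tt N114392 (iv3 F489933)) (tt N105167 (iv4 F449077)) (tt N113811 (iv5 F487228)) (tt N56524 (iv6 D196064)) (tt N92172 F399263))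
theorem Q93050 : ∀ i, i < 93050 → P i := stepQ 93049 Q93049 (allL N93049 (tt N68704 F399271) (tt N68703 F399272) (tt N56526 F399268) (tt N68733 F399269) (tt N114603 (iv4 F490968)) (tt N56525 (iv5 D196065)) (tt N97705 F417989) (tt N68701 F399270))
theorem Q93051 : ∀ i, i < 93051 → P i := stepQ 93050 Q93050 (allL N93050 (tt N68819 (iv1 F399279)) (tt N56565 (iv0 F399278)) (tt N68766 F399273) (tt N68817 F399274) (tt N87605 F399277) (tt N56533 (iv5 D196066)) (tt N69233 F399275) (tt N68763 F399276))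
theorem Q93052 : ∀ i, i < 93052 → P i := stepQ 93051 Q93051 (allL N93051 (tt N56539 (iv1 D196067)) (tt N68760 F399281) (tt N68758 (iv2 F399285)) (tt N69324 (iv3 F399284)) (tt N118079 (iv4 F508455)) (tt N67248 F399283) (tt N102246 (iv6 F436350)) (tt N67247 F399282))
theorem Q93053 : ∀ i, i < 93053 → P i := stepQ 93052 Q93052 (allL N93052 (tt N103314 (iv1 F441103)) (tt N103764 F442732) (tt N68759 F399286) (tt N70829 F399287) (tt N56539 (iv4 D196068)) (tt N108895 (iv5 F464396)) (tt N69078 F399288) (tt N70825 (iv7 F399289)))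
theorem Q93054 : ∀ i, i < 93054 → P i := stepQ 93053 Q93053 (allL N93053 (tt N68758 (iv1 F399295)) (tt N67247 F399296) (tt N68760 F399290) (tt N70819 F399291) (tt N70825 F399292) (tt N56540 F399293) (tt N70818 F399294) (tt N56539 (iv7 D196069)))
theorem Q93055 : ∀ i, i < 93055 → P i := stepQ 93054 Q93054 (allL N93054 (tt N68773 (iv1 F399300)) (tt N68790 (iv0 F399301)) (tt N68789 (iv2 F399299)) (tt N56541 (iv3 D196070)) (tt N68685 F399298) (tt N115272 (iv5 F494312)) (tt N103257 (iv6 F440828)) (tt N68748 F399297))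
theorem Q93056 : ∀ i, i < 93056 → P i := stepQ 93055 Q93055 (allL N93055 (tt N93004 F399306) (tt N70584 F399307) (tt N68753 F399302) (tt N67549 F399303) (tt N56541 (iv4 D196071)) (tt N67776 F399305) (tt N103258 (iv6 F440836)) (tt N68749 F399304))
theorem Q93057 : ∀ i, i < 93057 → P i := stepQ 93056 Q93056 (allL N93056 (tt N68815 F399311) (tt N56567 F399312) (tt N68754 F399308) (tt N115272 (iv3 F494310)) (tt N60994 F399310) (tt N56541 (iv5 D196072)) (tt N86708 (iv6 F399313)) (tt N68750 F399309))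
theorem Q93058 : ∀ i, i < 93058 → P i := stepQ 93057 Q93057 (allL N93057 (tt N70584 F399317) (tt N93004 F399319) (tt N68749 F399314) (tt N66091 F399318) (tt N56542 (iv4 D196073)) (tt N78945 F399315) (tt N118075 (iv6 F508436)) (tt N68753 F399316))
theorem Q93059 : ∀ i, i < 93059 → P i := stepQ 93058 Q93058 (allL N93058 (tt N97574 (iv1 F417429)) (tt N102005 (iv0 F435326)) (tt N78397 F399320) (tt N56547 F399321) (tt N102491 (iv4 F437419)) (tt N60468 F399322) (tt N68757 F399323) (tt N56545 (iv7 D196074)))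
theorem Q93060 : ∀ i, i < 93060 → P i := stepQ 93059 Q93059 (allL N93059 (tt N70650 (iv1 F399327)) (tt N68761 (iv0 F399328)) (tt N97554 (iv2 F417359)) (tt N56549 (iv3 D196075)) (tt N60742 F399324) (tt N97645 (iv5 F417750)) (tt N60740 (iv6 F399326)) (tt N56555 F399325))
theorem Q93061 : ∀ i, i < 93061 → P i := stepQ 93060 Q93060 (allL N93060 (tt N68725 F399333) (tt N65997 (iv0 F399332)) (tt N56553 F399329) (tt N60740 F399330) (tt N105868 (iv4 F452091)) (tt N69248 F399331) (tt N56549 (iv6 D196076)) (tt N97555 (iv7 F417366)))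
theorem Q93062 : ∀ i, i < 93062 → P i := stepQ 93061 Q93061 (allL N93061 (tt N56550 (iv1 D196077)) (tt N104675 (iv0 F446825)) (tt N68752 F399337) (tt N68789 (iv3 F399336)) (tt N93237 F400078) (tt N68717 F399335) (tt N97749 (iv6 F418153)) (tt N68716 F399334))
theorem Q93063 : ∀ i, i < 93063 → P i := stepQ 93062 Q93062 (allL N93062 (tt N93006 F399340) (tt N86677 (iv0 F399341)) (tt N106142 (iv2 F453324)) (tt N56552 F399338) (tt N93116 (iv4 F399552)) (tt N56550 (iv5 D196078)) (tt N68640 F399339) (tt N106146 (iv7 F453342)))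
theorem Q93064 : ∀ i, i < 93064 → P i := stepQ 93063 Q93063 (allL N93063 (tt N56556 F399345) (tt N56551 (iv0 D196079)) (tt N102079 (iv2 F435625)) (tt N69854 (iv3 F399343)) (tt N93047 F399342) (tt N111672 (iv5 F477409)) (tt N113578 (iv6 F486112)) (tt N103365 (iv7 F441298)))
theorem Q93065 : ∀ i, i < 93065 → P i := stepQ 93064 Q93064 (allL N93064 (tt N98015 F419174) (tt N103379 F441366) (tt N103359 (iv2 F441269)) (tt N56551 (iv3 D196080)) (tt N103393 F441418) (tt N118082 D221341) (tt N97004 (iv6 F414991)) (tt N103378 (iv7 F441354)))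
theorem Q93066 : ∀ i, i < 93066 → P i := stepQ 93065 Q93065 (allL N93065 (tt N96639 F413284) (tt N103366 (iv0 F441306)) (tt N102212 (iv2 F436215)) (tt N118082 (iv3 F508469)) (tt N96022 F410682) (tt N56551 (iv5 D196081)) (tt N111841 (iv6 F478251)) (tt N118083 D221342))
theorem Q93067 : ∀ i, i < 93067 → P i := stepQ 93066 Q93066 (allL N93066 (tt N92020 (iv1 F417354)) (tt N97551 (iv0 F417353)) (tt N105868 (iv2 F452089)) (tt N97004 F414988) (tt N56553 F399346) (tt N79757 (iv5 F399347)) (tt N56551 (iv6 D196082)) (tt N116221 (iv7 F499098)))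
theorem Q93068 : ∀ i, i < 93068 → P i := stepQ 93067 Q93067 (allL N93067 (tt N103365 (iv1 F441299)) (tt N102079 (iv0 F435627)) (tt N56556 F399348) (tt N103378 F441355) (tt N56554 F399349) (tt N118083 (iv5 F508478)) (tt N113052 (iv6 F483746)) (tt N56551 (iv7 D196083)))
theorem Q93069 : ∀ i, i < 93069 → P i := stepQ 93068 Q93068 (allL N93068 (tt N103572 (iv1 F442086)) (tt N93244 (iv0 F400094)) (tt N69247 F399350) (tt N68640 F399351) (tt N104411 (iv4 F445649)) (tt N68732 F399352) (tt N56552 (iv6 D196084)) (tt N69249 (iv7 F399353)))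
theorem Q93070 : ∀ i, i < 93070 → P i := stepQ 93069 Q93069 (allL N93069 (tt N97555 F417368) (tt N56553 (iv0 D196085)) (tt N68725 (iv2 F399354)) (tt N68785 F399355) (tt N101714 (iv4 F434009)) (tt N109925 (iv5 F469255)) (tt N103273 (iv6 F440925)) (tt N65997 F399356))
theorem Q93071 : ∀ i, i < 93071 → P i := stepQ 93070 Q93070 (allL N93070 (tt N65997 (iv1 F399359)) (tt N68725 F399360) (tt N97555 (iv2 F417365)) (tt N92176 F399357) (tt N116221 (iv4 F499094)) (tt N92175 F399358) (tt N102178 F436055) (tt N56553 (iv7 D196086)))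
theorem Q93072 : ∀ i, i < 93072 → P i := stepQ 93071 Q93071 (allL N93071 (tt N102172 F436031) (tt N68747 F417144) (tt N56558 F399361) (tt N106147 (iv3 F453345)) (tt N113052 (iv4 F483742)) (tt N60462 (iv5 F399469)) (tt N56554 (iv6 D196087)) (tt N102178 (iv7 F436054)))
theorem Q93073 : ∀ i, i < 93073 → P i := stepQ 93072 Q93072 (allL N93072 (tt N68761 (iv1 F399364)) (tt N70650 F399363) (tt N56555 (iv2 D196088)) (tt N104675 (iv3 F446823)) (tt N92635 F399362) (tt N97644 (iv5 F417745)) (tt N113154 F484236) (tt N97554 F417362))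
theorem Q93074 : ∀ i, i < 93074 → P i := stepQ 93073 Q93073 (allL N93073 (tt N66011 F399367) (tt N80422 F399368) (tt N113154 (iv2 F484237)) (tt N56558 F399365) (tt N117715 (iv4 F506586)) (tt N86947 F399366) (tt N56555 (iv6 D196089)) (tt N97557 (iv7 F417376)))
theorem Q93075 : ∀ i, i < 93075 → P i := stepQ 93074 Q93074 (allL N93074 (tt N103366 F441307) (tt N96639 (iv0 F413285)) (tt N118083 (iv2 F508475)) (tt N65907 F399371) (tt N95727 (iv4 F409330)) (tt N56556 (iv5 D196090)) (tt N111675 (iv6 F477425)) (tt N102212 (iv7 F436213)))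
theorem Q93076 : ∀ i, i < 93076 → P i := stepQ 93075 Q93075 (allL N93075 (tt N56558 (iv1 D196092)) (tt N102178 F436053) (tt N68747 F399373) (tt N68798 (iv3 F399372)) (tt N103273 (iv4 F440922)) (tt N102173 (iv5 F436035)) (tt N101714 F434010) (tt N102172 (iv7 F436032)))
theorem Q93077 : ∀ i, i < 93077 → P i := stepQ 93076 Q93076 (allL N93076 (tt N60465 F399376) (tt N60457 (iv0 F399377)) (tt N60462 F399470) (tt N86947 F399374) (tt N78429 (iv4 F399375)) (tt N56558 (iv5 D196093)) (tt N101542 (iv6 F433315)) (tt N60463 (iv7 F399472)))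
theorem Q93078 : ∀ i, i < 93078 → P i := stepQ 93077 Q93077 (allL N93077 (tt N68747 (iv1 F417143)) (tt N102172 (iv0 F436030)) (tt N102178 F436052) (tt N97557 (iv3 F417374)) (tt N113051 (iv4 F483734)) (tt N60463 F399475) (tt N97555 F417370) (tt N56558 (iv7 D196094)))
theorem Q93079 : ∀ i, i < 93079 → P i := stepQ 93078 Q93078 (allL N93078 (tt N88349 F399383) (tt N92081 F399384) (tt N56563 F399379) (tt N68802 F399380) (tt N82819 F399381) (tt N102053 (iv5 F435527)) (tt N56559 (iv6 D196095)) (tt N83608 F399382))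
theorem Q93080 : ∀ i, i < 93080 → P i := stepQ 93079 Q93079 (allL N93079 (tt N68766 F399388) (tt N68763 (iv0 F399390)) (tt N56565 F399385) (tt N68815 F399386) (tt N117575 (iv4 F505793)) (tt N56578 (iv5 F399389)) (tt N56560 (iv6 D196096)) (tt N68819 F399387))
theorem Q93081 : ∀ i, i < 93081 → P i := stepQ 93080 Q93080 (allL N93080 (tt N68718 (iv1 F440946)) (tt N113573 (iv0 F486083)) (tt N56684 F399391) (tt N56572 F399392) (tt N114348 (iv4 F489753)) (tt N56564 (iv5 D196097)) (tt N56681 F399393) (tt N103277 (iv7 F440942)))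
theorem Q93082 : ∀ i, i < 93082 → P i := stepQ 93081 Q93081 (allL N93081 (tt N103208 F440573) (tt N115731 (iv0 F496565)) (tt N117575 (iv2 F505791)) (tt N56595 F399394) (tt N56565 (iv4 D196098)) (tt N87629 (iv5 F399397)) (tt N93000 F399395) (tt N68820 F399396))
theorem Q93083 : ∀ i, i < 93083 → P i := stepQ 93082 Q93082 (allL N93082 (tt N68754 (iv1 F399403)) (tt N68750 F399402) (tt N56567 (iv2 D196099)) (tt N68819 F399398) (tt N64191 F399399) (tt N56588 F399400) (tt N116064 (iv6 F498291)) (tt N68815 F399401))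
theorem Q93084 : ∀ i, i < 93084 → P i := stepQ 93083 Q93083 (allL N93083 (tt N102075 F435610) (tt N102072 F435600) (tt N116064 (iv2 F498289)) (tt N56568 F399406) (tt N98478 F421063) (tt N104317 (iv5 F445211)) (tt N56567 (iv6 D196100)) (tt N109733 (iv7 F468339)))
theorem Q93085 : ∀ i, i < 93085 → P i := stepQ 93084 Q93084 (allL N93084 (tt N68824 F399412) (tt N56568 (iv0 D196101)) (tt N65795 (iv2 F399409)) (tt N111653 (iv3 F477317)) (tt N56651 F399407) (tt N57957 (iv5 F399410)) (tt N57959 F399408) (tt N68822 (iv7 F399411)))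
theorem Q93086 : ∀ i, i < 93086 → P i := stepQ 93085 Q93085 (allL N93085 (tt N56568 (iv1 D196102)) (tt N68824 F399413) (tt N68822 F399417) (tt N116045 (iv3 F498216)) (tt N56652 F399415) (tt N65796 (iv5 F399418)) (tt N86672 (iv6 F399416)) (tt N65795 F399414))
theorem Q93087 : ∀ i, i < 93087 → P i := stepQ 93086 Q93086 (allL N93086 (tt N118084 D221343) (tt N118085 D221344) (tt N68823 F399420) (tt N104317 F445215) (tt N118086 D221345) (tt N56568 (iv5 D196103)) (tt N56590 F399421) (tt N118087 D221346))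
theorem Q93088 : ∀ i, i < 93088 → P i := stepQ 93087 Q93087 (allL N93087 (tt N68822 (iv1 F399425)) (tt N65795 F399426) (tt N68824 F399422) (tt N109733 (iv3 F468337)) (tt N56585 F399423) (tt N118087 (iv5 F508506)) (tt N68818 F399424) (tt N56568 (iv7 D196104)))
theorem Q93089 : ∀ i, i < 93089 → P i := stepQ 93088 Q93088 (allL N93088 (tt N103422 F441557) (tt N102344 (iv0 F436826)) (tt N68829 F399427) (tt N92096 F399428) (tt N65535 (iv4 F399431)) (tt N56570 (iv5 D196105)) (tt N65533 F399429) (tt N68826 F399430))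
theorem Q93090 : ∀ i, i < 93090 → P i := stepQ 93089 Q93089 (allL N93089 (tt N103483 (iv1 F441817)) (tt N103482 F441815) (tt N68839 F399432) (tt N113575 (iv3 F486095)) (tt N56572 (iv4 D196106)) (tt N67501 F399434) (tt N93004 F399433) (tt N103286 (iv7 F440992)))
theorem Q93091 : ∀ i, i < 93091 → P i := stepQ 93090 Q93090 (allL N93090 (tt N70715 F399440) (tt N60351 F399439) (tt N69468 F399435) (tt N61957 F399436) (tt N96075 (iv4 F410924)) (tt N56573 (iv5 D196107)) (tt N60323 F399437) (tt N56936 F399438))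
theorem Q93092 : ∀ i, i < 93092 → P i := stepQ 93091 Q93091 (allL N93091 (tt N106943 (iv1 F456380)) (tt N104094 (iv0 F444147)) (tt N92939 F399441) (tt N86029 F399442) (tt N56576 (iv4 D196108)) (tt N82925 F399444) (tt N86027 (iv6 F399445)) (tt N92937 F399443))
theorem Q93093 : ∀ i, i < 93093 → P i := stepQ 93092 Q93092 (allL N93092 (tt N66596 F399451) (tt N103569 (iv0 F442076)) (tt N92940 F399447) (tt N60532 F399448) (tt N86027 F399449) (tt N103421 (iv5 F441550)) (tt N56576 (iv6 D196109)) (tt N60524 F399450))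
theorem Q93094 : ∀ i, i < 93094 → P i := stepQ 93093 Q93093 (allL N93093 (tt N104061 (iv1 F443990)) (tt N103568 (iv0 F442068)) (tt N60561 F399452) (tt N56577 (iv3 D196110)) (tt N97876 (iv4 F418626)) (tt N88210 F399453) (tt N60558 F399454) (tt N92938 F399455))
theorem Q93095 : ∀ i, i < 93095 → P i := stepQ 93094 Q93094 (allL N93094 (tt N80429 F399460) (tt N103390 (iv0 F441406)) (tt N56579 F399457) (tt N88721 F399458) (tt N70277 F399459) (tt N113049 (iv5 F483725)) (tt N56578 (iv6 D196111)) (tt N82813 (iv7 F399461)))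
theorem Q93096 : ∀ i, i < 93096 → P i := stepQ 93095 Q93095 (allL N93095 (tt N56579 (iv1 D196112)) (tt N82813 F399462) (tt N103390 (iv2 F441401)) (tt N103429 (iv3 F441589)) (tt N82986 (iv4 F399464)) (tt N103273 (iv5 F440921)) (tt N115405 (iv6 F495026)) (tt N80429 F399463))
theorem Q93097 : ∀ i, i < 93097 → P i := stepQ 93096 Q93096 (allL N93096 (tt N68648 F399468) (tt N103420 (iv0 F441549)) (tt N113049 (iv2 F483722)) (tt N56580 F399465) (tt N86918 F399467) (tt N56579 (iv5 D196113)) (tt N68601 F399466) (tt N113047 (iv7 F483714)))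
theorem Q93098 : ∀ i, i < 93098 → P i := stepQ 93097 Q93097 (allL N93097 (tt N103390 (iv1 F441405)) (tt N80429 (iv0 F399486)) (tt N82813 F399482) (tt N56581 F399483) (tt N70284 F399484) (tt N113047 (iv5 F483715)) (tt N92944 F399485) (tt N56579 (iv7 D196114)))
theorem Q93099 : ∀ i, i < 93099 → P i := stepQ 93098 Q93098 (allL N93098 (tt N61574 (iv1 F399490)) (tt N92926 F399491) (tt N92927 F399487) (tt N113047 (iv3 F483718)) (tt N92846 F399488) (tt N56581 F399489) (tt N118088 D221347) (tt N56580 (iv7 D196115)))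
theorem Q93100 : ∀ i, i < 93100 → P i := stepQ 93099 Q93099 (allL N93099 (tt N91179 (iv1 F399496)) (tt N100777 (iv0 F430424)) (tt N92934 F399493) (tt N108353 (iv3 F462205)) (tt N71735 F399494) (tt N56583 (iv5 D196116)) (tt N98004 (iv6 F419138)) (tt N92936 F399495))
theorem Q93101 : ∀ i, i < 93101 → P i := stepQ 93100 Q93100 (allL N93100 (tt N87660 (iv1 F399499)) (tt N113931 F487846) (tt N110857 (iv2 F473462)) (tt N56586 (iv3 D196117)) (tt N68598 F399498) (tt N93190 (iv5 F399876)) (tt N118089 D221348) (tt N88666 F399497))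
theorem Q93102 : ∀ i, i < 93102 → P i := stepQ 93101 Q93101 (allL N93101 (tt N118090 D221349) (tt N104614 (iv0 F446549)) (tt N92925 F399500) (tt N67780 F399501) (tt N56586 (iv4 D196118)) (tt N69010 F399503) (tt N118091 D221350) (tt N92924 F399502))
theorem Q93103 : ∀ i, i < 93103 → P i := stepQ 93102 Q93102 (allL N93102 (tt N97493 F417092) (tt N96096 (iv0 F417052)) (tt N92688 F399504) (tt N118089 (iv3 F508518)) (tt N118091 (iv4 F508533)) (tt N92687 (iv5 F399505)) (tt N56586 (iv6 D196119)) (tt N97848 (iv7 F418499)))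
theorem Q93104 : ∀ i, i < 93104 → P i := stepQ 93103 Q93103 (allL N93103 (tt N97887 (iv1 F446015)) (tt N104493 F446014) (tt N115312 (iv2 F494524)) (tt N56587 (iv3 D196120)) (tt N118092 D221351) (tt N93194 (iv5 F399907)) (tt N97849 (iv6 F418502)) (tt N92693 F399506))
theorem Q93105 : ∀ i, i < 93105 → P i := stepQ 93104 Q93104 (allL N93104 (tt N104614 F446550) (tt N118090 F508528) (tt N92924 F399507) (tt N66081 F399510) (tt N56587 (iv4 D196121)) (tt N75702 F399508) (tt N97567 F417401) (tt N92925 F399509))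
theorem Q93106 : ∀ i, i < 93106 → P i := stepQ 93105 Q93105 (allL N93105 (tt N104438 F445763) (tt N117359 (iv0 F504655)) (tt N56589 F399511) (tt N92941 F399512) (tt N102501 (iv4 F437451)) (tt N102125 F435860) (tt N56588 (iv6 D196122)) (tt N118093 D221352))
theorem Q93107 : ∀ i, i < 93107 → P i := stepQ 93106 Q93106 (allL N93106 (tt N118093 (iv1 F508547)) (tt N56589 (iv0 D196123)) (tt N104438 (iv2 F445759)) (tt N71847 F399513) (tt N111242 (iv4 F475397)) (tt N102225 (iv5 F436267)) (tt N67505 F399514) (tt N117359 (iv7 F504654)))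
theorem Q93108 : ∀ i, i < 93108 → P i := stepQ 93107 Q93107 (allL N93107 (tt N56589 (iv1 D196124)) (tt N118093 F508546) (tt N117359 (iv2 F504650)) (tt N102070 (iv3 F435589)) (tt N111241 (iv4 F475385)) (tt N102069 (iv5 F435585)) (tt N67235 (iv6 F403295)) (tt N104438 (iv7 F445762)))
theorem Q93109 : ∀ i, i < 93109 → P i := stepQ 93108 Q93108 (allL N93108 (tt N65578 F435438) (tt N102004 F435439) (tt N102125 (iv2 F435861)) (tt N56590 F399515) (tt N102029 (iv4 F435437)) (tt N56589 (iv5 D196125)) (tt N104317 (iv6 F445213)) (tt N102124 (iv7 F435854)))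
theorem Q93110 : ∀ i, i < 93110 → P i := stepQ 93109 Q93109 (allL N93109 (tt N117359 F504656) (tt N104438 (iv0 F445767)) (tt N118093 (iv2 F508542)) (tt N56591 F399516) (tt N103667 (iv4 F442424)) (tt N102124 (iv5 F435851)) (tt N88722 F399517) (tt N56589 (iv7 D196126)))
theorem Q93111 : ∀ i, i < 93111 → P i := stepQ 93110 Q93110 (allL N93110 (tt N65707 F399521) (tt N58138 F399522) (tt N65517 F399518) (tt N65664 (iv3 F399528)) (tt N56590 (iv4 D196127)) (tt N65516 F399519) (tt N118086 (iv6 F508498)) (tt N65706 F399520))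
theorem Q93112 : ∀ i, i < 93112 → P i := stepQ 93111 Q93111 (allL N93111 (tt N86484 (iv1 F399530)) (tt N56595 (iv0 D196128)) (tt N60264 (iv2 F399531)) (tt N93150 (iv3 F399680)) (tt N60260 F399529) (tt N115364 (iv5 F494815)) (tt N93148 F399674) (tt N60263 (iv7 F399532)))
theorem Q93113 : ∀ i, i < 93113 → P i := stepQ 93112 Q93112 (allL N93112 (tt N56595 (iv1 D196129)) (tt N86484 F399533) (tt N60263 (iv2 F399537)) (tt N60245 (iv3 F399536)) (tt N60259 F399535) (tt N115363 (iv5 F494806)) (tt N81582 (iv6 F399538)) (tt N60264 F399534))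
theorem Q93114 : ∀ i, i < 93114 → P i := stepQ 93113 Q93113 (allL N93113 (tt N109764 (iv1 F468506)) (tt N103226 (iv0 F440662)) (tt N86792 F399539) (tt N87629 F399540) (tt N86523 F399543) (tt N56595 (iv5 D196130)) (tt N71587 F399541) (tt N86796 F399542))
theorem Q93115 : ∀ i, i < 93115 → P i := stepQ 93114 Q93114 (allL N93114 (tt N73679 F399545) (tt N58917 (iv0 F399546)) (tt N98365 F420655) (tt N56597 (iv3 D196131)) (tt N118094 D221353) (tt N101921 (iv5 F434952)) (tt N118095 D221354) (tt N92955 F399544))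
theorem Q93116 : ∀ i, i < 93116 → P i := stepQ 93115 Q93115 (allL N93115 (tt N98530 (iv1 F421227)) (tt N61614 (iv0 F399550)) (tt N92953 F399547) (tt N101921 (iv3 F434951)) (tt N68852 F399549) (tt N56597 (iv5 D196132)) (tt N118096 D221355) (tt N92270 F399548))
theorem Q93117 : ∀ i, i < 93117 → P i := stepQ 93116 Q93116 (allL N93116 (tt N94023 F402854) (tt N84460 (iv0 F399555)) (tt N92954 F399551) (tt N118095 (iv3 F508554)) (tt N93062 F399552) (tt N92968 F399553) (tt N56597 (iv6 D196133)) (tt N109649 (iv7 F467923)))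
theorem Q93118 : ∀ i, i < 93118 → P i := stepQ 93117 Q93117 (allL N93117 (tt N61614 (iv1 F399568)) (tt N98530 F421226) (tt N92270 F399559) (tt N85139 F399560) (tt N92268 F399561) (tt N56598 (iv5 D196134)) (tt N61637 (iv6 F399563)) (tt N92953 F399562))
theorem Q93119 : ∀ i, i < 93119 → P i := stepQ 93118 Q93118 (allL N93118 (tt N94018 F402840) (tt N58934 (iv0 F399571)) (tt N92957 F399569) (tt N86839 F399570) (tt N104299 (iv4 F445128)) (tt N118097 D221356) (tt N56598 (iv6 D196135)) (tt N94017 (iv7 F402834)))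
theorem Q93120 : ∀ i, i < 93120 → P i := stepQ 93119 Q93119 (allL N93119 (tt N103464 F441742) (tt N103467 (iv0 F441755)) (tt N92962 F399572) (tt N70698 F399573) (tt N87768 F399574) (tt N70695 F399575) (tt N56601 (iv6 D196136)) (tt N115375 (iv7 F494880)))
theorem Q93121 : ∀ i, i < 93121 → P i := stepQ 93120 Q93120 (allL N93120 (tt N98284 F420324) (tt N58910 F420325) (tt N108247 (iv2 F461671)) (tt N56604 (iv3 D196137)) (tt N99569 (iv4 F425217)) (tt N106324 (iv5 F454029)) (tt N99568 F425214) (tt N92965 F399576))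
theorem Q93122 : ∀ i, i < 93122 → P i := stepQ 93121 Q93121 (allL N93121 (tt N118046 F508275) (tt N118098 D221357) (tt N76387 F399577) (tt N99568 F425213) (tt N104356 (iv4 F445405)) (tt N76030 F399578) (tt N56604 (iv6 D196138)) (tt N100771 (iv7 F430395)))
theorem Q93123 : ∀ i, i < 93123 → P i := stepQ 93122 Q93122 (allL N93122 (tt N86043 F399581) (tt N68135 F399582) (tt N86502 F399579) (tt N118099 D221358) (tt N56609 (iv4 D196139)) (tt N118100 D221359) (tt N115309 (iv6 F494508)) (tt N83953 F399580))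
theorem Q93124 : ∀ i, i < 93124 → P i := stepQ 93123 Q93123 (allL N93123 (tt N91045 (iv1 F399587)) (tt N56610 (iv0 D196140)) (tt N104828 (iv2 F447492)) (tt N109057 (iv3 F465140)) (tt N118101 D221360) (tt N104821 (iv5 F447456)) (tt N86725 F447482) (tt N104820 F447452))
theorem Q93125 : ∀ i, i < 93125 → P i := stepQ 93124 Q93124 (allL N93124 (tt N104820 (iv1 F447450)) (tt N104828 F447495) (tt N91045 F399583) (tt N56613 F399584) (tt N115161 (iv4 F493793)) (tt N60785 F399585) (tt N92983 F399586) (tt N56610 (iv7 D196141)))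
theorem Q93126 : ∀ i, i < 93126 → P i := stepQ 93125 Q93125 (allL N93125 (tt N68737 F399590) (tt N78927 (iv0 F399592)) (tt N92975 F399588) (tt N103055 (iv3 F439869)) (tt N65977 F399589) (tt N61659 F399591) (tt N56611 (iv6 D196142)) (tt N110979 (iv7 F474054)))
theorem Q93127 : ∀ i, i < 93127 → P i := stepQ 93126 Q93126 (allL N93126 (tt N56625 F399600) (tt N117994 F507974) (tt N104006 (iv2 F443753)) (tt N56612 (iv3 D196143)) (tt N87535 F399598) (tt N97882 (iv5 F418656)) (tt N87534 (iv6 F399601)) (tt N92974 F399599))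
theorem Q93128 : ∀ i, i < 93128 → P i := stepQ 93127 Q93127 (allL N93127 (tt N117957 (iv1 F507785)) (tt N105328 (iv0 F449734)) (tt N92976 F399602) (tt N87534 F399603) (tt N97649 (iv4 F417768)) (tt N97884 (iv5 F418659)) (tt N56612 (iv6 D196144)) (tt N118102 D221361))
theorem Q93129 : ∀ i, i < 93129 → P i := stepQ 93128 Q93128 (allL N93128 (tt N118103 D221362) (tt N56631 (iv0 F399605)) (tt N103999 (iv2 F443717)) (tt N56614 (iv3 D196145)) (tt N87524 (iv4 F399607)) (tt N105625 (iv5 F451009)) (tt N87523 F399606) (tt N92986 F399604))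
theorem Q93130 : ∀ i, i < 93130 → P i := stepQ 93129 Q93129 (allL N93129 (tt N98217 (iv1 F420028)) (tt N98216 F420025) (tt N92985 F399608) (tt N105625 (iv3 F451012)) (tt N105626 (iv4 F451013)) (tt N56614 (iv5 D196146)) (tt N98220 (iv6 F420039)) (tt N66782 F399609))
theorem Q93131 : ∀ i, i < 93131 → P i := stepQ 93130 Q93130 (allL N93130 (tt N111777 (iv1 F477919)) (tt N108797 (iv0 F463993)) (tt N61117 F399610) (tt N87523 F399611) (tt N93247 (iv4 F400108)) (tt N61115 F399613) (tt N56614 (iv6 D196147)) (tt N92639 F399612))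
theorem Q93132 : ∀ i, i < 93132 → P i := stepQ 93131 Q93131 (allL N93131 (tt N92989 (iv1 F399625)) (tt N56616 (iv0 D196148)) (tt N92987 F399616) (tt N87600 (iv3 F399615)) (tt N105443 (iv4 F450289)) (tt N86679 F399614) (tt N97285 (iv6 F416213)) (tt N92988 (iv7 F399617)))
theorem Q93133 : ∀ i, i < 93133 → P i := stepQ 93132 Q93132 (allL N93132 (tt N56616 (iv1 D196149)) (tt N92989 F399620) (tt N92988 F399624) (tt N78864 (iv3 F399623)) (tt N109646 (iv4 F467909)) (tt N86678 F399622) (tt N113114 (iv6 F484032)) (tt N92987 F399621))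
theorem Q93134 : ∀ i, i < 93134 → P i := stepQ 93133 Q93133 (allL N93133 (tt N114595 F490934) (tt N118053 (iv0 F508315)) (tt N76236 F399626) (tt N101222 (iv3 F432267)) (tt N56616 (iv4 D196150)) (tt N101796 (iv5 F434385)) (tt N56618 F399627) (tt N101220 F432262))
theorem Q93135 : ∀ i, i < 93135 → P i := stepQ 93134 Q93134 (allL N93134 (tt N92988 (iv1 F399631)) (tt N92987 F399632) (tt N92989 F399628) (tt N101025 (iv3 F431339)) (tt N101220 (iv4 F432260)) (tt N56617 F399629) (tt N60750 F399630) (tt N56616 (iv7 D196151)))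
theorem Q93136 : ∀ i, i < 93136 → P i := stepQ 93135 Q93135 (allL N93135 (tt N98248 F420164) (tt N98249 F420170) (tt N101270 (iv2 F432463)) (tt N56618 (iv3 D196152)) (tt N101223 (iv4 F432275)) (tt N76235 F399633) (tt N101222 (iv6 F432270)) (tt N60751 F399634))
theorem Q93137 : ∀ i, i < 93137 → P i := stepQ 93136 Q93136 (allL N93136 (tt N87158 F399637) (tt N86483 F399638) (tt N56624 F399635) (tt N112413 (iv3 F480996)) (tt N56619 (iv4 D196153)) (tt N111632 (iv5 F477230)) (tt N112412 F480993) (tt N56630 F399636))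
theorem Q93138 : ∀ i, i < 93138 → P i := stepQ 93137 Q93137 (allL N93137 (tt N115714 (iv1 F496469)) (tt N115480 (iv0 F495405)) (tt N57435 F399639) (tt N56625 F399640) (tt N109744 (iv4 F468402)) (tt N74405 F399641) (tt N56620 (iv6 D196154)) (tt N113151 (iv7 F484214)))
theorem Q93139 : ∀ i, i < 93139 → P i := stepQ 93138 Q93138 (allL N93138 (tt N115204 F494006) (tt N105933 F452413) (tt N95865 (iv2 F410009)) (tt N68367 F399642) (tt N115687 (iv4 F496318)) (tt N113579 F486119) (tt N56622 (iv6 D196155)) (tt N118104 D221363))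
theorem Q93140 : ∀ i, i < 93140 → P i := stepQ 93139 Q93139 (allL N93139 (tt N60859 F399646) (tt N60846 F399647) (tt N60871 F399643) (tt N60882 F399644) (tt N92728 F399648) (tt N56623 (iv5 D196156)) (tt N113579 F486120) (tt N60877 F399645))
theorem Q93141 : ∀ i, i < 93141 → P i := stepQ 93140 Q93140 (allL N93140 (tt N86884 F399649) (tt N104889 F447819) (tt N118105 D221364) (tt N56624 (iv3 D196157)) (tt N98661 F421779) (tt N118106 D221365) (tt N118107 D221366) (tt N97249 F416073))
theorem Q93142 : ∀ i, i < 93142 → P i := stepQ 93141 Q93141 (allL N93141 (tt N91937 (iv1 F399652)) (tt N79869 (iv0 F399651)) (tt N111632 (iv2 F477226)) (tt N118106 (iv3 F508628)) (tt N93164 (iv4 F399748)) (tt N56624 (iv5 D196158)) (tt N81560 F399650) (tt N81574 (iv7 F399653)))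
theorem Q93143 : ∀ i, i < 93143 → P i := stepQ 93142 Q93142 (allL N93142 (tt N115462 (iv1 F495308)) (tt N87653 (iv0 F474479)) (tt N112412 (iv2 F480994)) (tt N118107 (iv3 F508635)) (tt N56625 F399654) (tt N118108 D221367) (tt N56624 (iv6 D196159)) (tt N118109 D221368))
theorem Q93144 : ∀ i, i < 93144 → P i := stepQ 93143 Q93143 (allL N93143 (tt N86483 (iv1 F399658)) (tt N87158 F399659) (tt N56630 F399655) (tt N97249 (iv3 F416071)) (tt N56626 F399656) (tt N81574 F399657) (tt N97248 F416069) (tt N56624 (iv7 D196160)))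
theorem Q93145 : ∀ i, i < 93145 → P i := stepQ 93144 Q93144 (allL N93144 (tt N117994 (iv1 F507975)) (tt N56625 (iv0 D196161)) (tt N92974 (iv2 F399661)) (tt N69474 (iv3 F399662)) (tt N87478 (iv4 F399663)) (tt N109060 (iv5 F465152)) (tt N87477 F399660) (tt N104006 (iv7 F443754)))
theorem Q93146 : ∀ i, i < 93146 → P i := stepQ 93145 Q93145 (allL N93145 (tt N104006 (iv1 F443755)) (tt N92974 (iv0 F439316)) (tt N117994 (iv2 F507969)) (tt N113151 (iv3 F484213)) (tt N118109 (iv4 F508647)) (tt N102932 F439314) (tt N118103 (iv6 F508609)) (tt N56625 (iv7 D196162)))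
theorem Q93147 : ∀ i, i < 93147 → P i := stepQ 93146 Q93146 (allL N93146 (tt N103999 F443721) (tt N92986 F399685) (tt N56631 F399669) (tt N57446 F399670) (tt N97248 (iv4 F416066)) (tt N103032 (iv5 F439757)) (tt N56626 (iv6 D196163)) (tt N118103 (iv7 F508612)))
theorem Q93148 : ∀ i, i < 93148 → P i := stepQ 93147 Q93147 (allL N93147 (tt N115700 F496396) (tt N115023 (iv0 F493089)) (tt N104022 (iv2 F443821)) (tt N95868 (iv3 F410018)) (tt N85697 F399671) (tt N105542 F450659) (tt N56629 (iv6 D196164)) (tt N118110 D221369))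
theorem Q93149 : ∀ i, i < 93149 → P i := stepQ 93148 Q93148 (allL N93148 (tt N118111 D221370) (tt N85464 (iv0 F399672)) (tt N97267 (iv2 F416138)) (tt N56630 (iv3 D196165)) (tt N97262 (iv4 F416123)) (tt N81035 F399673) (tt N93111 (iv6 F399674)) (tt N112413 (iv7 F480998)))
theorem Q93150 : ∀ i, i < 93150 → P i := stepQ 93149 Q93149 (allL N93149 (tt N79869 F399677) (tt N91937 (iv0 F399679)) (tt N81574 F399675) (tt N81035 F399676) (tt N93163 (iv4 F399740)) (tt N56630 (iv5 D196166)) (tt N78656 F399678) (tt N111632 (iv7 F477228)))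
theorem Q93151 : ∀ i, i < 93151 → P i := stepQ 93150 Q93150 (allL N93150 (tt N87629 F399682) (tt N104879 (iv0 F447775)) (tt N97248 (iv2 F416065)) (tt N93111 F399680) (tt N56631 F399681) (tt N104392 F445566) (tt N56630 (iv6 D196167)) (tt N97264 (iv7 F416133)))
theorem Q93152 : ∀ i, i < 93152 → P i := stepQ 93151 Q93151 (allL N93151 (tt N56631 (iv1 D196168)) (tt N118103 F508611) (tt N92986 F414520) (tt N69480 (iv3 F414519)) (tt N114819 (iv4 F492045)) (tt N108231 (iv5 F461595)) (tt N104882 F447794) (tt N103999 (iv7 F443719)))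
theorem Q93153 : ∀ i, i < 93153 → P i := stepQ 93152 Q93152 (allL N93152 (tt N92986 F399684) (tt N103999 (iv0 F443720)) (tt N118103 F508610) (tt N76321 F399683) (tt N97264 (iv4 F416132)) (tt N105538 (iv5 F450640)) (tt N117994 (iv6 F507973)) (tt N56631 (iv7 D196169)))
theorem Q93154 : ∀ i, i < 93154 → P i := stepQ 93153 Q93153 (allL N93153 (tt N92802 F399690) (tt N92801 F399691) (tt N56638 F399686) (tt N104196 (iv3 F444642)) (tt N56633 (iv4 D196170)) (tt N83526 F399687) (tt N86992 F399688) (tt N56636 F399689))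
theorem Q93155 : ∀ i, i < 93155 → P i := stepQ 93154 Q93154 (allL N93154 (tt N107228 (iv1 F457549)) (tt N82176 (iv0 F399695)) (tt N111726 (iv2 F477684)) (tt N56634 (iv3 D196171)) (tt N57638 F399692) (tt N101813 (iv5 F434466)) (tt N87572 F399693) (tt N78261 F399694))
theorem Q93156 : ∀ i, i < 93156 → P i := stepQ 93155 Q93155 (allL N93155 (tt N92009 F399700) (tt N92006 F399701) (tt N56641 F399696) (tt N101813 F434464) (tt N91851 F399699) (tt N56634 (iv5 D196172)) (tt N91398 F399697) (tt N91968 F399698))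
theorem Q93157 : ∀ i, i < 93157 → P i := stepQ 93156 Q93156 (allL N93156 (tt N56645 (iv1 F399706)) (tt N56644 F399707) (tt N56646 F399702) (tt N60278 F399703) (tt N87147 F399704) (tt N75267 F399705) (tt N97195 (iv6 F415838)) (tt N56635 (iv7 D196173)))
theorem Q93158 : ∀ i, i < 93158 → P i := stepQ 93157 Q93157 (allL N93157 (tt N56638 (iv1 F399710)) (tt N56636 (iv0 D196174)) (tt N92801 (iv2 F399711)) (tt N95553 F408629) (tt N92799 F399709) (tt N91937 F399708) (tt N111062 (iv6 F474474)) (tt N92802 (iv7 F399712)))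
theorem Q93159 : ∀ i, i < 93159 → P i := stepQ 93158 Q93158 (allL N93158 (tt N56636 (iv1 D196175)) (tt N56638 F399713) (tt N92802 F399718) (tt N79870 F399719) (tt N86487 F399715) (tt N79869 (iv5 F399716)) (tt N68100 (iv6 F399717)) (tt N92801 F399714))
theorem Q93160 : ∀ i, i < 93160 → P i := stepQ 93159 Q93159 (allL N93159 (tt N104199 (iv1 F444663)) (tt N68096 (iv0 F399723)) (tt N98278 (iv2 F420296)) (tt N56636 (iv3 D196176)) (tt N68132 F399720) (tt N92004 F399721) (tt N74024 (iv6 F399722)) (tt N104196 (iv7 F444643)))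
theorem Q93161 : ∀ i, i < 93161 → P i := stepQ 93160 Q93160 (allL N93160 (tt N93917 (iv1 F402429)) (tt N93925 (iv0 F402448)) (tt N92800 F399724) (tt N74024 F399725) (tt N56637 F399726) (tt N74023 F399727) (tt N56636 (iv6 D196177)) (tt N98271 (iv7 F420270)))
theorem Q93162 : ∀ i, i < 93162 → P i := stepQ 93161 Q93161 (allL N93161 (tt N60285 (iv1 F399733)) (tt N74694 F399734) (tt N73164 F399730) (tt N98266 (iv3 F420244)) (tt N98271 (iv4 F420268)) (tt N73147 F399731) (tt N87130 F399732) (tt N56637 (iv7 D196178)))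
theorem Q93163 : ∀ i, i < 93163 → P i := stepQ 93162 Q93162 (allL N93162 (tt N104252 (iv1 F444944)) (tt N104251 F444940) (tt N69314 F399735) (tt N56641 F399736) (tt N69296 F399737) (tt N56640 (iv5 D196179)) (tt N100697 (iv6 F430069)) (tt N68808 F399738))
theorem Q93164 : ∀ i, i < 93164 → P i := stepQ 93163 Q93163 (allL N93163 (tt N91968 F399741) (tt N56641 (iv0 D196180)) (tt N92009 (iv2 F399742)) (tt N111450 (iv3 F476417)) (tt N93149 F399740) (tt N87519 F399739) (tt N84651 (iv6 F399743)) (tt N92006 (iv7 F399744)))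
theorem Q93165 : ∀ i, i < 93165 → P i := stepQ 93164 Q93164 (allL N93164 (tt N56641 (iv1 D196181)) (tt N91968 F399745) (tt N92006 (iv2 F399749)) (tt N118112 D221371) (tt N93141 F399748) (tt N87518 F399747) (tt N111722 (iv6 F477664)) (tt N92009 F399746))
theorem Q93166 : ∀ i, i < 93166 → P i := stepQ 93165 Q93165 (allL N93165 (tt N87484 F399757) (tt N91335 F399756) (tt N87573 F399751) (tt N60216 F399752) (tt N68058 F399755) (tt N56642 (iv5 D196182)) (tt N91277 F399753) (tt N75259 F399754))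
theorem Q93167 : ∀ i, i < 93167 → P i := stepQ 93166 Q93166 (allL N93166 (tt N96775 F413873) (tt N87606 (iv0 F399763)) (tt N81617 F399758) (tt N68809 F399759) (tt N56647 F399760) (tt N80064 F399761) (tt N56643 (iv6 D196183)) (tt N87571 F399762))
theorem Q93168 : ∀ i, i < 93168 → P i := stepQ 93167 Q93167 (allL N93167 (tt N64205 F399768) (tt N79092 (iv0 F399771)) (tt N79090 F399764) (tt N56645 (iv3 D196184)) (tt N83751 F399765) (tt N76303 F399766) (tt N105775 (iv6 F451653)) (tt N79089 F399767))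
theorem Q93169 : ∀ i, i < 93169 → P i := stepQ 93168 Q93168 (allL N93168 (tt N87557 (iv1 F399897)) (tt N87555 F399781) (tt N87579 F399778) (tt N105775 (iv3 F451652)) (tt N113596 (iv4 F486218)) (tt N105774 F451651) (tt N56645 (iv6 D196185)) (tt N87150 F399779))
theorem Q93170 : ∀ i, i < 93170 → P i := stepQ 93169 Q93169 (allL N93169 (tt N97194 (iv1 F415830)) (tt N97193 (iv0 F415829)) (tt N97195 (iv2 F415835)) (tt N56672 F399782) (tt N87571 F399783) (tt N118113 D221372) (tt N56646 (iv6 D196186)) (tt N56647 F399784))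
theorem Q93171 : ∀ i, i < 93171 → P i := stepQ 93170 Q93170 (allL N93170 (tt N97195 (iv1 F415840)) (tt N56647 (iv0 D196187)) (tt N97193 F415827) (tt N105903 (iv3 F452272)) (tt N111069 (iv4 F474512)) (tt N105902 F452269) (tt N86766 F399785) (tt N97194 (iv7 F415831)))
theorem Q93172 : ∀ i, i < 93172 → P i := stepQ 93171 Q93171 (allL N93171 (tt N92819 F399792) (tt N87649 F399789) (tt N57259 F399786) (tt N56675 F399787) (tt N118045 (iv4 F508266)) (tt N56647 (iv5 D196188)) (tt N56648 F399788) (tt N118113 (iv7 F508675)))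
theorem Q93173 : ∀ i, i < 93173 → P i := stepQ 93172 Q93172 (allL N93172 (tt N60861 F399795) (tt N97874 F418621) (tt N57258 F399793) (tt N111243 (iv3 F475398)) (tt N56648 (iv4 D196189)) (tt N117996 (iv5 F507983)) (tt N118045 F508267) (tt N60982 F399794))
theorem Q93174 : ∀ i, i < 93174 → P i := stepQ 93173 Q93173 (allL N93173 (tt N86788 (iv1 F399798)) (tt N56649 (iv0 D196190)) (tt N86490 (iv2 F399799)) (tt N115280 (iv3 F494353)) (tt N69483 F399797) (tt N86520 F399796) (tt N86586 (iv6 F399800)) (tt N86488 (iv7 F399801)))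
theorem Q93175 : ∀ i, i < 93175 → P i := stepQ 93174 Q93174 (allL N93174 (tt N56649 (iv1 D196191)) (tt N86788 F399802) (tt N86488 (iv2 F399805)) (tt N86526 (iv3 F399806)) (tt N69482 F399804) (tt N86521 (iv5 F399807)) (tt N118114 D221373) (tt N86490 F399803))
theorem Q93176 : ∀ i, i < 93176 → P i := stepQ 93175 Q93175 (allL N93175 (tt N86428 F399811) (tt N86526 F399812) (tt N86523 F399808) (tt N118070 (iv3 F508409)) (tt N86792 F399810) (tt N56649 (iv5 D196192)) (tt N117356 (iv6 F504639)) (tt N86522 F399809))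
theorem Q93177 : ∀ i, i < 93177 → P i := stepQ 93176 Q93176 (allL N93176 (tt N85789 (iv1 F399816)) (tt N86693 F399817) (tt N86692 F399813) (tt N56653 F399814) (tt N117419 (iv4 F504951)) (tt N95838 (iv5 F409874)) (tt N92998 F399815) (tt N56650 (iv7 D196193)))
theorem Q93178 : ∀ i, i < 93178 → P i := stepQ 93177 Q93177 (allL N93177 (tt N86681 (iv1 F399932)) (tt N86670 (iv0 F399822)) (tt N86678 F399818) (tt N87508 F399819) (tt N93235 (iv4 F400072)) (tt N92988 F399820) (tt N56655 (iv6 D196194)) (tt N86679 F399821))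
theorem Q93179 : ∀ i, i < 93179 → P i := stepQ 93178 Q93178 (allL N93178 (tt N104785 (iv1 F447261)) (tt N104784 (iv0 F447255)) (tt N68805 F399823) (tt N67150 F399824) (tt N56658 (iv4 D196195)) (tt N87019 F399826) (tt N66453 F399827) (tt N68803 F399825))
theorem Q93180 : ∀ i, i < 93180 → P i := stepQ 93179 Q93179 (allL N93179 (tt N111674 F477421) (tt N116045 (iv0 F498220)) (tt N68806 F399828) (tt N103201 (iv3 F440543)) (tt N66453 F399829) (tt N118115 D221374) (tt N56658 (iv6 D196196)) (tt N103201 (iv7 F440545)))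
theorem Q93181 : ∀ i, i < 93181 → P i := stepQ 93180 Q93180 (allL N93180 (tt N68706 (iv1 F399832)) (tt N115272 (iv0 F494314)) (tt N111669 (iv2 F477394)) (tt N56659 (iv3 D196197)) (tt N118116 D221375) (tt N87660 F399830) (tt N111669 (iv6 F477396)) (tt N68804 F399831))
theorem Q93182 : ∀ i, i < 93182 → P i := stepQ 93181 Q93181 (allL N93181 (tt N104784 (iv1 F447256)) (tt N104785 (iv0 F447260)) (tt N68803 F399833) (tt N95634 (iv3 F408963)) (tt N56659 (iv4 D196198)) (tt N87020 F399834) (tt N82949 F399835) (tt N68805 F399836))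
theorem Q93183 : ∀ i, i < 93183 → P i := stepQ 93182 Q93182 (allL N93182 (tt N97690 (iv1 F417914)) (tt N97689 F417912) (tt N93003 F399837) (tt N69046 F399838) (tt N69048 F399839) (tt N56663 (iv5 D196199)) (tt N60507 F399840) (tt N93002 F399841))
theorem Q93184 : ∀ i, i < 93184 → P i := stepQ 93183 Q93183 (allL N93183 (tt N56664 (iv1 D196200)) (tt N56686 F399843) (tt N66128 F399848) (tt N67816 (iv3 F399847)) (tt N66113 F399846) (tt N63818 F399845) (tt N103379 (iv6 F441363)) (tt N69246 F399844))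
theorem Q93185 : ∀ i, i < 93185 → P i := stepQ 93184 Q93184 (allL N93184 (tt N68749 F399854) (tt N68753 F399853) (tt N93004 F399849) (tt N67771 F399850) (tt N56664 (iv4 D196201)) (tt N78901 F399852) (tt N68839 F399851) (tt N70584 (iv7 F399855)))
theorem Q93186 : ∀ i, i < 93186 → P i := stepQ 93185 Q93185 (allL N93185 (tt N66128 (iv1 F399859)) (tt N69246 F399860) (tt N56686 F399856) (tt N103268 (iv3 F440889)) (tt N70584 F399857) (tt N56665 F399858) (tt N103468 (iv6 F441759)) (tt N56664 (iv7 D196202)))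
theorem Q93187 : ∀ i, i < 93187 → P i := stepQ 93186 Q93186 (allL N93186 (tt N93007 (iv1 F399863)) (tt N56666 (iv0 D196203)) (tt N86722 (iv2 F399862)) (tt N79092 (iv3 F399865)) (tt N114519 (iv4 F490563)) (tt N61029 F399861) (tt N86463 (iv6 F399866)) (tt N61028 F399864))
theorem Q93188 : ∀ i, i < 93188 → P i := stepQ 93187 Q93187 (allL N93187 (tt N86722 (iv1 F399870)) (tt N61028 F399869) (tt N56666 (iv2 D196204)) (tt N79901 F399867) (tt N118117 D221376) (tt N96232 (iv5 F411620)) (tt N114662 (iv6 F491263)) (tt N93007 F399868))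
theorem Q93189 : ∀ i, i < 93189 → P i := stepQ 93188 Q93188 (allL N93188 (tt N115290 F494410) (tt N118114 (iv0 F508683)) (tt N118117 (iv2 F508691)) (tt N115210 F494036) (tt N56666 (iv4 D196205)) (tt N115295 (iv5 F494439)) (tt N115269 (iv6 F494294)) (tt N93008 F399871))
theorem Q93190 : ∀ i, i < 93190 → P i := stepQ 93189 Q93189 (allL N93189 (tt N113699 F486698) (tt N86704 (iv0 F399875)) (tt N114662 (iv2 F491261)) (tt N56668 F399872) (tt N115269 F494295) (tt N83748 F399873) (tt N56666 (iv6 D196206)) (tt N87587 (iv7 F399874)))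
theorem Q93191 : ∀ i, i < 93191 → P i := stepQ 93190 Q93190 (allL N93190 (tt N68792 F399878) (tt N118069 (iv0 F508406)) (tt N118118 D221377) (tt N56667 (iv3 D196207)) (tt N115210 F494035) (tt N93100 F399876) (tt N115270 (iv6 F494299)) (tt N93009 F399877))
theorem Q93192 : ∀ i, i < 93192 → P i := stepQ 93191 Q93191 (allL N93191 (tt N118050 F508299) (tt N115372 (iv0 F494864)) (tt N87591 F399879) (tt N115270 (iv3 F494298)) (tt N56668 F399880) (tt N111463 (iv5 F476460)) (tt N56667 (iv6 D196208)) (tt N87588 F399881))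
theorem Q93193 : ∀ i, i < 93193 → P i := stepQ 93192 Q93192 (allL N93192 (tt N69485 F399885) (tt N115389 F494949) (tt N86452 F399882) (tt N86670 F399887) (tt N56669 (iv4 D196209)) (tt N83237 F399884) (tt N83785 (iv6 F399886)) (tt N93005 F399883))
theorem Q93194 : ∀ i, i < 93194 → P i := stepQ 93193 Q93193 (allL N93193 (tt N83804 F399894) (tt N74447 (iv0 F399893)) (tt N86451 F399888) (tt N56671 F399889) (tt N83785 F399890) (tt N70032 F399891) (tt N56669 (iv6 D196210)) (tt N86711 (iv7 F399892)))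
theorem Q93195 : ∀ i, i < 93195 → P i := stepQ 93194 Q93194 (allL N93194 (tt N106142 (iv1 F453328)) (tt N106146 (iv0 F453344)) (tt N86677 (iv2 F399910)) (tt N56670 (iv3 D196211)) (tt N86670 F399906) (tt N93103 F399907) (tt N86669 F399908) (tt N93006 F399909))
theorem Q93196 : ∀ i, i < 93196 → P i := stepQ 93195 Q93195 (allL N93195 (tt N60792 (iv1 F399916)) (tt N60788 F399917) (tt N87589 F399911) (tt N86711 F399912) (tt N60578 F399913) (tt N92665 F399914) (tt N87586 F399915) (tt N56671 (iv7 D196212)))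
theorem Q93197 : ∀ i, i < 93197 → P i := stepQ 93196 Q93196 (allL N93196 (tt N78911 (iv1 F399921)) (tt N68203 (iv0 F399922)) (tt N78902 F399918) (tt N118113 (iv3 F508672)) (tt N111244 (iv4 F475403)) (tt N56672 (iv5 D196213)) (tt N60988 F399919) (tt N56675 F399920))
theorem Q93198 : ∀ i, i < 93198 → P i := stepQ 93197 Q93197 (allL N93197 (tt N102530 F437533) (tt N105907 F452288) (tt N70037 F399923) (tt N85965 F399924) (tt N113139 (iv4 F484145)) (tt N56673 (iv5 D196214)) (tt N85964 F399925) (tt N93010 F399926))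
theorem Q93199 : ∀ i, i < 93199 → P i := stepQ 93198 Q93198 (allL N93198 (tt N86679 (iv1 F399931)) (tt N86678 (iv0 F399933)) (tt N86681 F399927) (tt N93005 F399928) (tt N93006 F399929) (tt N103029 (iv5 F439737)) (tt N56674 (iv6 D196215)) (tt N86670 F399930))
theorem Q93200 : ∀ i, i < 93200 → P i := stepQ 93199 Q93199 (allL N93199 (tt N56675 (iv1 D196216)) (tt N78902 F399934) (tt N78911 (iv2 F399936)) (tt N61680 (iv3 F399937)) (tt N67569 F399939) (tt N105328 (iv5 F449731)) (tt N70604 (iv6 F399938)) (tt N68203 F399935))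
theorem Q93201 : ∀ i, i < 93201 → P i := stepQ 93200 Q93200 (allL N93200 (tt N74211 F399943) (tt N66513 F399944) (tt N93234 (iv2 F400063)) (tt N73050 (iv3 F399945)) (tt N56677 (iv4 D196217)) (tt N93880 (iv5 F402256)) (tt N73047 F399941) (tt N59203 F399942))
theorem Q93202 : ∀ i, i < 93202 → P i := stepQ 93201 Q93201 (allL N93201 (tt N80475 F399949) (tt N111670 (iv0 F477405)) (tt N56683 F399946) (tt N66070 F399950) (tt N56681 (iv4 D196218)) (tt N92193 F399948) (tt N114348 (iv6 F489754)) (tt N56687 F399947))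
theorem Q93203 : ∀ i, i < 93203 → P i := stepQ 93202 Q93202 (allL N93202 (tt N56682 (iv1 D196219)) (tt N103268 F440893) (tt N68699 F399952) (tt N69250 (iv3 F399951)) (tt N67329 F399953) (tt N111870 (iv5 F478417)) (tt N103365 (iv6 F441297)) (tt N103267 (iv7 F440886)))
theorem Q93204 : ∀ i, i < 93204 → P i := stepQ 93203 Q93203 (allL N93203 (tt N103445 (iv1 F441671)) (tt N102295 (iv0 F436603)) (tt N68814 F399954) (tt N56684 F399955) (tt N103266 (iv4 F440880)) (tt N68772 F399956) (tt N56682 (iv6 D196220)) (tt N103423 (iv7 F441562)))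
theorem Q93205 : ∀ i, i < 93205 → P i := stepQ 93204 Q93204 (allL N93204 (tt N114349 (iv1 F489756)) (tt N91031 (iv0 F422106)) (tt N114348 (iv2 F489751)) (tt N83612 F399957) (tt N56684 F399958) (tt N83611 (iv5 F399959)) (tt N56683 (iv6 D196221)) (tt N85944 F399960))
theorem Q93206 : ∀ i, i < 93206 → P i := stepQ 93205 Q93205 (allL N93205 (tt N111670 (iv1 F477406)) (tt N80475 (iv0 F399966)) (tt N56687 F399961) (tt N60793 F399962) (tt N56685 F399963) (tt N74695 F399964) (tt N60790 F399965) (tt N56683 (iv7 D196222)))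
theorem Q93207 : ∀ i, i < 93207 → P i := stepQ 93206 Q93206 (allL N93206 (tt N103277 (iv1 F440944)) (tt N56684 (iv0 D196223)) (tt N68718 (iv2 F399967)) (tt N93240 F400085) (tt N83649 F399968) (tt N117749 (iv5 F506772)) (tt N103387 (iv6 F441393)) (tt N113573 (iv7 F486082)))
theorem Q93208 : ∀ i, i < 93208 → P i := stepQ 93207 Q93207 (allL N93207 (tt N113573 F486085) (tt N68718 (iv0 F399970)) (tt N103277 (iv2 F440939)) (tt N103423 (iv3 F441559)) (tt N85944 F399969) (tt N103265 (iv5 F440874)) (tt N102934 (iv6 F439326)) (tt N56684 (iv7 D196224)))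
theorem Q93209 : ∀ i, i < 93209 → P i := stepQ 93208 Q93208 (allL N93208 (tt N113156 (iv1 F484248)) (tt N68744 (iv0 F399975)) (tt N56688 F399971) (tt N92017 F399972) (tt N60790 F399973) (tt N60710 (iv5 F399974)) (tt N56685 (iv6 D196225)) (tt N102934 (iv7 F439327)))
theorem Q93210 : ∀ i, i < 93210 → P i := stepQ 93209 Q93209 (allL N93209 (tt N68753 F399979) (tt N68749 F399980) (tt N70584 F399976) (tt N104741 (iv3 F447071)) (tt N56686 (iv4 D196226)) (tt N60987 F399977) (tt N111246 (iv6 F475414)) (tt N93004 F399978))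
theorem Q93211 : ∀ i, i < 93211 → P i := stepQ 93210 Q93210 (allL N93210 (tt N103471 (iv1 F441773)) (tt N97564 (iv0 F417395)) (tt N103468 (iv2 F441757)) (tt N56688 F399981) (tt N111246 (iv4 F475413)) (tt N67483 F399982) (tt N56686 (iv6 D196227)) (tt N67482 F399983))
theorem Q93212 : ∀ i, i < 93212 → P i := stepQ 93211 Q93211 (allL N93211 (tt N56688 (iv1 D196229)) (tt N102934 (iv0 F439329)) (tt N68744 (iv2 F422232)) (tt N93243 F422233) (tt N98768 F422231) (tt N111008 (iv5 F474219)) (tt N103369 (iv6 F441317)) (tt N113156 (iv7 F484245)))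
theorem Q93213 : ∀ i, i < 93213 → P i := stepQ 93212 Q93212 (allL N93212 (tt N60713 F399987) (tt N60709 F418280) (tt N60710 F399984) (tt N67483 F399985) (tt N94870 (iv4 F406198)) (tt N56688 (iv5 D196230)) (tt N102052 (iv6 F435519)) (tt N60711 (iv7 F399986)))
theorem Q93214 : ∀ i, i < 93214 → P i := stepQ 93213 Q93213 (allL N93213 (tt N68744 (iv1 F399990)) (tt N113156 F484247) (tt N102934 (iv2 F439323)) (tt N67482 F399988) (tt N102933 F439322) (tt N60711 F399989) (tt N103277 (iv6 F440941)) (tt N56688 (iv7 D196231)))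
theorem Q93215 : ∀ i, i < 93215 → P i := stepQ 93214 Q93214 (allL N93214 (tt N115372 F494865) (tt N118050 (iv0 F508298)) (tt N87588 (iv2 F399993)) (tt N56691 (iv3 D196232)) (tt N87586 F399992) (tt N102133 (iv5 F435885)) (tt N60578 (iv6 F399994)) (tt N87591 F399991))
theorem Q93216 : ∀ i, i < 93216 → P i := stepQ 93215 Q93215 (allL N93215 (tt N86674 F400000) (tt N86673 F400001) (tt N86460 F399995) (tt N60578 F399996) (tt N85763 F399997) (tt N60577 F399998) (tt N56691 (iv6 D196233)) (tt N86669 F399999))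
theorem Q93217 : ∀ i, i < 93217 → P i := stepQ 93216 Q93216 (allL N93216 (tt N118067 (iv1 F508396)) (tt N111868 (iv0 F478404)) (tt N115270 (iv2 F494297)) (tt N56692 (iv3 D196234)) (tt N114606 (iv4 F490986)) (tt N97401 F416744) (tt N118118 (iv6 F508701)) (tt N93248 (iv7 F400111)))
theorem Q93218 : ∀ i, i < 93218 → P i := stepQ 93217 Q93217 (allL N93217 (tt N106146 (iv1 F453343)) (tt N106142 (iv0 F453329)) (tt N93006 F400002) (tt N118118 (iv3 F508698)) (tt N86681 F400003) (tt N117966 (iv5 F507826)) (tt N56692 (iv6 D196235)) (tt N86677 F400004))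
theorem Q93219 : ∀ i, i < 93219 → P i := stepQ 93218 Q93218 (allL N93218 (tt N68757 (iv1 F400006)) (tt N56694 (iv0 D196236)) (tt N68755 (iv2 F400007)) (tt N98016 F419179) (tt N103483 (iv4 F441818)) (tt N67508 F400005) (tt N103263 F440864) (tt N68756 (iv7 F400008)))
theorem Q93220 : ∀ i, i < 93220 → P i := stepQ 93219 Q93219 (allL N93219 (tt N56694 (iv1 D196237)) (tt N68757 F400009) (tt N68756 (iv2 F400012)) (tt N113812 (iv3 F487235)) (tt N103482 (iv4 F441814)) (tt N67507 F400011) (tt N116283 (iv6 F499347)) (tt N68755 F400010))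
theorem Q93221 : ∀ i, i < 93221 → P i := stepQ 93220 Q93220 (allL N93220 (tt N104433 (iv1 F445741)) (tt N103813 (iv0 F442934)) (tt N66179 F400013) (tt N102476 (iv3 F437362)) (tt N56694 (iv4 D196238)) (tt N102575 (iv5 F437728)) (tt N66177 F400014) (tt N102574 (iv7 F437722)))
theorem Q93222 : ∀ i, i < 93222 → P i := stepQ 93221 Q93221 (allL N93221 (tt N97517 (iv1 F417222)) (tt N68650 F400017) (tt N93250 (iv2 F400120)) (tt N97736 (iv3 F418112)) (tt N56695 (iv4 D196239)) (tt N68837 F400016) (tt N68936 F400015) (tt N93251 (iv7 F400130)))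
theorem Q93223 : ∀ i, i < 93223 → P i := stepQ 93222 Q93222 (allL N93222 (tt N68650 F400020) (tt N97517 (iv0 F417221)) (tt N93251 (iv2 F400128)) (tt N113164 (iv3 F484281)) (tt N56696 (iv4 D196240)) (tt N68838 F400019) (tt N68606 F400018) (tt N93250 (iv7 F400123)))
theorem Q93224 : ∀ i, i < 93224 → P i := stepQ 93223 Q93223 (allL N93223 (tt N67236 (iv1 F400022)) (tt N56698 (iv0 D196241)) (tt N67235 (iv2 F400023)) (tt N103290 (iv3 F441011)) (tt N118119 D221378) (tt N67387 F400021) (tt N117359 (iv6 F504653)) (tt N67234 (iv7 F400024)))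
theorem Q93225 : ∀ i, i < 93225 → P i := stepQ 93224 Q93224 (allL N93224 (tt N67235 (iv1 F400030)) (tt N67234 F400029) (tt N56698 (iv2 D196242)) (tt N67289 F400027) (tt N98713 (iv4 F421968)) (tt N103279 (iv5 F440955)) (tt N97493 (iv6 F417091)) (tt N67236 F400028))
theorem Q93226 : ∀ i, i < 93226 → P i := stepQ 93225 Q93225 (allL N93225 (tt N97848 (iv1 F418501)) (tt N92688 (iv0 F417087)) (tt N97493 (iv2 F417088)) (tt N56699 F400031) (tt N97686 (iv4 F417897)) (tt N97492 F417086) (tt N56698 (iv6 D196243)) (tt N96096 (iv7 F411030)))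
theorem Q93227 : ∀ i, i < 93227 → P i := stepQ 93226 Q93226 (allL N93226 (tt N74659 F400033) (tt N95349 (iv0 F407954)) (tt N67290 F400032) (tt N97492 (iv3 F417082)) (tt N96796 (iv4 F413989)) (tt N56699 (iv5 D196244)) (tt N103283 (iv6 F440975)) (tt N96097 (iv7 F411035)))
theorem Q93228 : ∀ i, i < 93228 → P i := stepQ 93227 Q93227 (allL N93227 (tt N118120 D221379) (tt N102473 F437354) (tt N66193 F400034) (tt N66202 F400035) (tt N56701 (iv4 D196245)) (tt N97754 F418177) (tt N114363 F489813) (tt N68000 F400036))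
theorem Q93229 : ∀ i, i < 93229 → P i := stepQ 93228 Q93228 (allL N93228 (tt N114449 (iv1 F490227)) (tt N67343 (iv0 F400039)) (tt N102391 (iv2 F437025)) (tt N67963 F400037) (tt N114363 (iv4 F489811)) (tt N81552 F400038) (tt N56701 (iv6 D196246)) (tt N111678 (iv7 F477439)))
theorem Q93230 : ∀ i, i < 93230 → P i := stepQ 93229 Q93229 (allL N93229 (tt N67981 (iv1 F400044)) (tt N67326 F400045) (tt N67985 F400040) (tt N56702 (iv3 D196247)) (tt N69964 (iv4 F400043)) (tt N60691 F400041) (tt N88775 (iv6 F443353)) (tt N67982 F400042))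
theorem Q93231 : ∀ i, i < 93231 → P i := stepQ 93230 Q93230 (allL N93230 (tt N102473 F437355) (tt N118120 F508715) (tt N68000 F400046) (tt N66197 F400047) (tt N56702 (iv4 D196248)) (tt N97753 F418174) (tt N118121 D221380) (tt N66193 F400048))
theorem Q93232 : ∀ i, i < 93232 → P i := stepQ 93231 Q93231 (allL N93231 (tt N67365 F435412) (tt N118122 D221381) (tt N68007 F400049) (tt N88775 F443355) (tt N118121 (iv4 F508720)) (tt N116284 (iv5 F499351)) (tt N56702 (iv6 D196249)) (tt N118123 D221382))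
theorem Q93233 : ∀ i, i < 93233 → P i := stepQ 93232 Q93232 (allL N93232 (tt N70727 (iv1 F400052)) (tt N56707 (iv0 D196250)) (tt N70725 (iv2 F400058)) (tt N111907 F478582) (tt N67480 F400050) (tt N115826 (iv5 F497108)) (tt N94781 F405910) (tt N70726 F400054))
theorem Q93234 : ∀ i, i < 93234 → P i := stepQ 93233 Q93233 (allL N93233 (tt N56707 (iv1 D196251)) (tt N70727 F400059) (tt N70726 F400062) (tt N117445 (iv3 F505066)) (tt N67481 (iv4 F400061)) (tt N115825 (iv5 F497099)) (tt N97489 (iv6 F417069)) (tt N70725 F400060))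
theorem Q93235 : ∀ i, i < 93235 → P i := stepQ 93234 Q93234 (allL N93234 (tt N96176 (iv1 F411347)) (tt N57012 F400066) (tt N93200 F400063) (tt N112304 (iv3 F480453)) (tt N56709 (iv4 D196252)) (tt N74548 F400065) (tt N95033 (iv6 F406735)) (tt N57163 F400064))
theorem Q93236 : ∀ i, i < 93236 → P i := stepQ 93235 Q93235 (allL N93235 (tt N68627 (iv1 F400073)) (tt N104351 F445382) (tt N56715 F400068) (tt N85690 F400069) (tt N93177 F400072) (tt N56713 (iv5 D196253)) (tt N88254 F400070) (tt N56719 F400071))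
theorem Q93237 : ∀ i, i < 93237 → P i := stepQ 93236 Q93236 (allL N93236 (tt N56718 (iv1 F400075)) (tt N56714 (iv0 D196254)) (tt N104357 (iv2 F445409)) (tt N102443 (iv3 F437259)) (tt N93036 F400074) (tt N118124 D221383) (tt N93043 (iv6 F400076)) (tt N104380 (iv7 F445509)))
theorem Q93238 : ∀ i, i < 93238 → P i := stepQ 93237 Q93237 (allL N93237 (tt N56714 (iv1 D196255)) (tt N56718 F400077) (tt N104380 (iv2 F445506)) (tt N92251 F400079) (tt N93061 (iv4 F400078)) (tt N118125 D221384) (tt N102473 (iv6 F437353)) (tt N104357 (iv7 F445412)))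
theorem Q93239 : ∀ i, i < 93239 → P i := stepQ 93238 Q93238 (allL N93238 (tt N118126 D221385) (tt N118127 D221386) (tt N117768 (iv2 F506869)) (tt N103879 (iv3 F443192)) (tt N96394 (iv4 F412320)) (tt N56714 (iv5 D196256)) (tt N114312 (iv6 F489539)) (tt N104790 (iv7 F447291)))
theorem Q93240 : ∀ i, i < 93240 → P i := stepQ 93239 Q93239 (allL N93239 (tt N118128 D221387) (tt N117945 F507725) (tt N98616 (iv2 F421592)) (tt N103880 (iv3 F443196)) (tt N56716 F400080) (tt N61535 (iv5 F400081)) (tt N56714 (iv6 D196257)) (tt N98619 (iv7 F421614)))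
theorem Q93241 : ∀ i, i < 93241 → P i := stepQ 93240 Q93240 (allL N93240 (tt N60956 (iv1 F400084)) (tt N56716 (iv0 D196258)) (tt N93038 (iv2 F400083)) (tt N93206 (iv3 F400085)) (tt N104705 (iv4 F446932)) (tt N92241 F400082) (tt N118122 F508728) (tt N98569 (iv7 F421355)))
theorem Q93242 : ∀ i, i < 93242 → P i := stepQ 93241 Q93241 (allL N93241 (tt N118127 (iv1 F508743)) (tt N118126 F508742) (tt N104790 (iv2 F447289)) (tt N103626 (iv3 F442286)) (tt N96387 (iv4 F433089)) (tt N56718 (iv5 D196259)) (tt N96386 F433090) (tt N117768 (iv7 F506871)))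
theorem Q93243 : ∀ i, i < 93243 → P i := stepQ 93242 Q93242 (allL N93242 (tt N118129 D221388) (tt N104749 (iv0 F447101)) (tt N104791 (iv2 F447292)) (tt N82759 F400086) (tt N56720 F400087) (tt N104547 (iv5 F446216)) (tt N56718 (iv6 D196260)) (tt N82969 (iv7 F400088)))
theorem Q93244 : ∀ i, i < 93244 → P i := stepQ 93243 Q93243 (allL N93243 (tt N56720 (iv1 D196261)) (tt N83012 F400089) (tt N83010 F400092) (tt N93211 (iv3 F422233)) (tt N106149 F453353) (tt N78398 (iv5 F400091)) (tt N114449 (iv6 F490224)) (tt N83011 F400090))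
theorem Q93245 : ∀ i, i < 93245 → P i := stepQ 93244 Q93244 (allL N93244 (tt N93068 F400094) (tt N100523 (iv0 F429319)) (tt N88236 (iv2 F400096)) (tt N56722 (iv3 D196262)) (tt N87896 F400095) (tt N67587 F400093) (tt N58929 (iv6 F400097)) (tt N94010 (iv7 F402812)))
theorem Q93246 : ∀ i, i < 93246 → P i := stepQ 93245 Q93245 (allL N93245 (tt N79893 F400100) (tt N79896 F400102) (tt N94013 (iv2 F402819)) (tt N58929 F400098) (tt N79949 F400099) (tt N97689 (iv5 F417911)) (tt N56722 (iv6 D196263)) (tt N79948 (iv7 F400103)))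
theorem Q93247 : ∀ i, i < 93247 → P i := stepQ 93246 Q93246 (allL N93246 (tt N104400 F445606) (tt N104291 F445111) (tt N104399 F445601) (tt N56723 (iv3 D196264)) (tt N88290 F400104) (tt N104283 (iv5 F445089)) (tt N88289 (iv6 F400106)) (tt N94012 (iv7 F402818)))
theorem Q93248 : ∀ i, i < 93248 → P i := stepQ 93247 Q93247 (allL N93247 (tt N102220 F436245) (tt N102221 (iv0 F440984)) (tt N94011 (iv2 F402816)) (tt N88289 F400107) (tt N93130 F400108) (tt N118085 F508492) (tt N56723 (iv6 D196265)) (tt N117950 (iv7 F507751)))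
theorem Q93249 : ∀ i, i < 93249 → P i := stepQ 93248 Q93248 (allL N93248 (tt N104406 F445630) (tt N104296 (iv0 F445122)) (tt N115716 (iv2 F496475)) (tt N56725 (iv3 D196266)) (tt N86619 F400109) (tt N118130 D221389) (tt N88372 F400110) (tt N93216 F400111))
theorem Q93250 : ∀ i, i < 93250 → P i := stepQ 93249 Q93249 (allL N93249 (tt N79351 F400115) (tt N60569 F400117) (tt N87901 F400113) (tt N118130 (iv3 F508760)) (tt N87781 (iv4 F400116)) (tt N56725 (iv5 D196267)) (tt N92685 F400118) (tt N87902 F400114))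
theorem Q93251 : ∀ i, i < 93251 → P i := stepQ 93250 Q93250 (allL N93250 (tt N67284 F400125) (tt N93017 F400126) (tt N93221 F400120) (tt N86929 F400121) (tt N56728 (iv4 D196268)) (tt N67500 F400124) (tt N67245 F400122) (tt N93222 F400123))
theorem Q93252 : ∀ i, i < 93252 → P i := stepQ 93251 Q93251 (allL N93251 (tt N93017 F400133) (tt N67284 F400132) (tt N93222 F400128) (tt N60671 (iv3 F400134)) (tt N56729 (iv4 D196269)) (tt N60668 F400131) (tt N60767 F400129) (tt N93221 F400130))
theorem Q93253 : ∀ i, i < 93253 → P i := stepQ 93252 Q93252 (allL N93252 (tt N72856 (iv1 F400137)) (tt N56731 (iv0 D196270)) (tt N72855 (iv2 F400136)) (tt N102088 (iv3 F435666)) (tt N81033 F400140) (tt N85398 F400135) (tt N80975 (iv6 F400139)) (tt N72854 F400138))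
theorem Q93254 : ∀ i, i < 93254 → P i := stepQ 93253 Q93253 (allL N93253 (tt N72855 (iv1 F400145)) (tt N72854 F400144) (tt N56731 (iv2 D196271)) (tt N60697 F400141) (tt N96740 (iv4 F413706)) (tt N58323 F400142) (tt N111712 (iv6 F477614)) (tt N72856 F400143))
theorem Q93255 : ∀ i, i < 93255 → P i := stepQ 93254 Q93254 (allL N93254 (tt N101541 F433319) (tt N118131 D221390) (tt N111712 (iv2 F477612)) (tt N56732 F400146) (tt N78496 F400147) (tt N118132 D221391) (tt N56731 (iv6 D196272)) (tt N96786 (iv7 F413935)))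
theorem Q93256 : ∀ i, i < 93256 → P i := stepQ 93255 Q93255 (allL N93255 (tt N73534 F400150) (tt N58669 F400151) (tt N60699 F400148) (tt N118132 (iv3 F508772)) (tt N118133 D221392) (tt N56732 (iv5 D196273)) (tt N58328 F400149) (tt N96588 (iv7 F413095)))
theorem Q93257 : ∀ i, i < 93257 → P i := stepQ 93256 Q93256 (allL N93256 (tt N72958 F400155) (tt N106515 (iv0 F454737)) (tt N102669 (iv2 F438145)) (tt N56735 (iv3 D196274)) (tt N71912 F400154) (tt N59507 F400152) (tt N118134 D221393) (tt N72860 F400153))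
theorem Q93258 : ∀ i, i < 93258 → P i := stepQ 93257 Q93257 (allL N93257 (tt N117668 (iv1 F506313)) (tt N72953 F406612) (tt N72867 F400156) (tt N118134 (iv3 F508782)) (tt N90021 F400157) (tt N87060 F400158) (tt N56735 (iv6 D196275)) (tt N117235 (iv7 F504047)))
theorem Q93259 : ∀ i, i < 93259 → P i := stepQ 93258 Q93258 (allL N93258 (tt N106438 (iv1 F454437)) (tt N72966 (iv0 F400161)) (tt N104651 (iv2 F446698)) (tt N56736 (iv3 D196276)) (tt N67633 F400159) (tt N108095 (iv5 F461088)) (tt N100373 (iv6 F428653)) (tt N72864 F400160))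
theorem Q93260 : ∀ i, i < 93260 → P i := stepQ 93259 Q93259 (allL N93259 (tt N57808 (iv1 F400165)) (tt N101159 (iv0 F431993)) (tt N72863 F400162) (tt N100373 (iv3 F428652)) (tt N90022 F400163) (tt N82511 F400164) (tt N56736 (iv6 D196277)) (tt N101160 (iv7 F431997)))
theorem Q93261 : ∀ i, i < 93261 → P i := stepQ 93260 Q93260 (allL N93260 (tt N72870 F400171) (tt N72452 F400172) (tt N56738 F400167) (tt N62197 F400168) (tt N85387 F400173) (tt N56737 (iv5 D196278)) (tt N86205 F400169) (tt N72868 F400170))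
theorem Q93262 : ∀ i, i < 93262 → P i := stepQ 93261 Q93261 (allL N93261 (tt N72868 (iv1 F400177)) (tt N56738 (iv0 D196279)) (tt N72870 (iv2 F400176)) (tt N59438 F400175) (tt N59044 F400174) (tt N56741 F400179) (tt N89051 (iv6 F400180)) (tt N72452 F400178))
theorem Q93263 : ∀ i, i < 93263 → P i := stepQ 93262 Q93262 (allL N93262 (tt N72957 F400183) (tt N118135 D221394) (tt N108466 (iv2 F462709)) (tt N56739 (iv3 D196280)) (tt N61890 F400181) (tt N107223 (iv5 F457523)) (tt N99612 F425419) (tt N62203 F400182))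
theorem Q93264 : ∀ i, i < 93264 → P i := stepQ 93263 Q93263 (allL N93263 (tt N93328 (iv1 F400424)) (tt N72418 (iv0 F400188)) (tt N73430 F400184) (tt N91075 F400185) (tt N56741 (iv4 D196281)) (tt N85387 F400187) (tt N71651 F400189) (tt N73428 F400186))
theorem Q93265 : ∀ i, i < 93265 → P i := stepQ 93264 Q93264 (allL N93264 (tt N110989 F474117) (tt N72850 (iv0 F400193)) (tt N73431 F400190) (tt N78360 F400191) (tt N71651 F400192) (tt N107217 (iv5 F457489)) (tt N56741 (iv6 D196282)) (tt N94511 (iv7 F404775)))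
theorem Q93266 : ∀ i, i < 93266 → P i := stepQ 93265 Q93265 (allL N93265 (tt N105353 (iv1 F449848)) (tt N73463 (iv0 F400197)) (tt N101829 (iv2 F434547)) (tt N56742 (iv3 D196283)) (tt N66475 F400196) (tt N89831 F400194) (tt N94512 (iv6 F404777)) (tt N73429 F400195))
theorem Q93267 : ∀ i, i < 93267 → P i := stepQ 93266 Q93266 (allL N93266 (tt N72418 (iv1 F400203)) (tt N93328 (iv0 F400423)) (tt N73428 F400198) (tt N66409 F400202) (tt N56742 (iv4 D196284)) (tt N72871 F400199) (tt N84243 F400200) (tt N73430 F400201))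
theorem Q93268 : ∀ i, i < 93268 → P i := stepQ 93267 Q93267 (allL N93267 (tt N73435 F400209) (tt N73434 F400208) (tt N56744 F400204) (tt N62343 F400205) (tt N90020 F400206) (tt N56743 (iv5 D196285)) (tt N83148 (iv6 F400210)) (tt N73432 F400207))
theorem Q93269 : ∀ i, i < 93269 → P i := stepQ 93268 Q93268 (allL N93268 (tt N107281 (iv1 F457778)) (tt N85407 (iv0 F400215)) (tt N90020 F400211) (tt N58275 F400212) (tt N56744 (iv4 D196286)) (tt N72865 F400214) (tt N117137 (iv6 F503578)) (tt N73436 F400213))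
theorem Q93270 : ∀ i, i < 93270 → P i := stepQ 93269 Q93269 (allL N93269 (tt N77115 F400219) (tt N91611 (iv0 F400220)) (tt N83148 F400216) (tt N56746 F400217) (tt N117137 (iv4 F503577)) (tt N67087 F400218) (tt N56744 (iv6 D196287)) (tt N112201 (iv7 F480033)))
theorem Q93271 : ∀ i, i < 93271 → P i := stepQ 93270 Q93270 (allL N93270 (tt N97699 (iv1 F417957)) (tt N95862 (iv0 F410003)) (tt N112207 (iv2 F480055)) (tt N56749 F400221) (tt N58794 F400222) (tt N56745 (iv5 D196288)) (tt N67087 F400223) (tt N81253 F400224))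
theorem Q93272 : ∀ i, i < 93272 → P i := stepQ 93271 Q93271 (allL N93271 (tt N65475 F400236) (tt N95267 (iv0 F407642)) (tt N62350 F400233) (tt N67087 F400234) (tt N99167 (iv4 F423551)) (tt N56746 (iv5 D196289)) (tt N56749 F400235) (tt N95268 (iv7 F407647)))
theorem Q93273 : ∀ i, i < 93273 → P i := stepQ 93272 Q93272 (allL N93272 (tt N66512 F400240) (tt N66510 F400242) (tt N93652 F401438) (tt N56747 (iv3 D196290)) (tt N92533 F400237) (tt N67310 (iv5 F400241)) (tt N72301 F400238) (tt N62354 F400239))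
theorem Q93274 : ∀ i, i < 93274 → P i := stepQ 93273 Q93273 (allL N93273 (tt N93378 (iv1 F400585)) (tt N61810 F400246) (tt N62353 F400243) (tt N67310 F400244) (tt N104181 (iv4 F444562)) (tt N56747 (iv5 D196291)) (tt N74561 (iv6 F400247)) (tt N62355 F400245))
theorem Q93275 : ∀ i, i < 93275 → P i := stepQ 93274 Q93274 (allL N93274 (tt N73460 F400253) (tt N116019 (iv0 F498089)) (tt N99007 (iv2 F423016)) (tt N56748 (iv3 D196292)) (tt N61986 F400249) (tt N95172 (iv5 F407303)) (tt N58118 F400250) (tt N62351 F400251))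
theorem Q93276 : ∀ i, i < 93276 → P i := stepQ 93275 Q93275 (allL N93275 (tt N61810 F400257) (tt N93378 (iv0 F400584)) (tt N62355 F400254) (tt N95172 (iv3 F407301)) (tt N118136 D221395) (tt N56748 (iv5 D196293)) (tt N79422 F400255) (tt N62353 F400256))
theorem Q93277 : ∀ i, i < 93277 → P i := stepQ 93276 Q93276 (allL N93276 (tt N97381 F416618) (tt N72837 (iv0 F400263)) (tt N77528 (iv2 F400261)) (tt N56751 (iv3 D196294)) (tt N66397 F400258) (tt N118137 D221396) (tt N72307 F400259) (tt N62366 F400260))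
theorem Q93278 : ∀ i, i < 93278 → P i := stepQ 93277 Q93277 (allL N93277 (tt N95284 F407718) (tt N107510 (iv0 F458590)) (tt N62361 F400264) (tt N118137 (iv3 F508803)) (tt N61808 F400266) (tt N56751 (iv5 D196295)) (tt N118138 D221397) (tt N62367 F400265))
theorem Q93279 : ∀ i, i < 93279 → P i := stepQ 93278 Q93278 (allL N93278 (tt N69905 F400271) (tt N100821 (iv0 F430632)) (tt N62362 F400267) (tt N71420 (iv3 F400272)) (tt N56752 (iv4 D196296)) (tt N71418 F400270) (tt N73230 F400268) (tt N62368 F400269))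
theorem Q93280 : ∀ i, i < 93280 → P i := stepQ 93279 Q93279 (allL N93279 (tt N56773 F400275) (tt N116697 (iv0 F501363)) (tt N118139 D221398) (tt N56753 (iv3 D196297)) (tt N57024 F400273) (tt N118140 D221399) (tt N101147 F431929) (tt N62360 F400274))
theorem Q93281 : ∀ i, i < 93281 → P i := stepQ 93280 Q93280 (allL N93280 (tt N107510 (iv1 F458591)) (tt N95284 F407717) (tt N62367 F400276) (tt N118140 (iv3 F508817)) (tt N61809 (iv4 F400895)) (tt N56753 (iv5 D196298)) (tt N101149 (iv6 F431936)) (tt N62361 F400277))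
theorem Q93282 : ∀ i, i < 93282 → P i := stepQ 93281 Q93281 (allL N93281 (tt N56775 (iv1 F400414)) (tt N103203 (iv0 F440558)) (tt N73212 (iv2 F400280)) (tt N56755 (iv3 D196299)) (tt N59021 F400279) (tt N90132 (iv5 F400281)) (tt N118141 D221400) (tt N73215 F400278))
theorem Q93283 : ∀ i, i < 93283 → P i := stepQ 93282 Q93282 (allL N93282 (tt N117786 (iv1 F506969)) (tt N117785 (iv0 F506964)) (tt N99052 F423155) (tt N105051 (iv3 F448566)) (tt N56755 (iv4 D196300)) (tt N108028 (iv5 F460805)) (tt N102271 F436480) (tt N101856 (iv7 F434692)))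
theorem Q93284 : ∀ i, i < 93284 → P i := stepQ 93283 Q93283 (allL N93283 (tt N105376 (iv1 F449959)) (tt N56783 (iv0 F400285)) (tt N94644 (iv2 F405334)) (tt N90132 F400282) (tt N118142 D221401) (tt N56755 (iv5 D196301)) (tt N90131 (iv6 F400284)) (tt N90162 F400283))
theorem Q93285 : ∀ i, i < 93285 → P i := stepQ 93284 Q93284 (allL N93284 (tt N102268 (iv1 F436468)) (tt N72844 F405356) (tt N94647 (iv2 F405351)) (tt N118141 (iv3 F508821)) (tt N102271 (iv4 F436478)) (tt N94622 (iv5 F405266)) (tt N56755 (iv6 D196302)) (tt N94523 (iv7 F404836)))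
theorem Q93286 : ∀ i, i < 93286 → P i := stepQ 93285 Q93285 (allL N93285 (tt N73566 (iv1 F405420)) (tt N72833 F405422) (tt N99156 (iv2 F423498)) (tt N56756 (iv3 D196303)) (tt N98813 F422431) (tt N94661 (iv5 F405417)) (tt N94524 (iv6 F404844)) (tt N94662 (iv7 F405426)))
theorem Q93287 : ∀ i, i < 93287 → P i := stepQ 93286 Q93286 (allL N93286 (tt N56783 F405339) (tt N105376 F449960) (tt N90162 F400286) (tt N94661 (iv3 F405415)) (tt N109159 (iv4 F465625)) (tt N56756 (iv5 D196304)) (tt N90153 F400287) (tt N94644 (iv7 F405336)))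
theorem Q93288 : ∀ i, i < 93288 → P i := stepQ 93287 Q93287 (allL N93287 (tt N94804 (iv1 F406024)) (tt N94800 (iv0 F405993)) (tt N56758 F400288) (tt N71900 F400289) (tt N116887 (iv4 F502357)) (tt N56757 (iv5 D196305)) (tt N103173 F440408) (tt N105357 (iv7 F449870)))
theorem Q93289 : ∀ i, i < 93289 → P i := stepQ 93288 Q93288 (allL N93288 (tt N117789 F506980) (tt N117792 (iv0 F506998)) (tt N56759 F400290) (tt N71901 F400291) (tt N117782 (iv4 F506946)) (tt N103174 (iv5 F440413)) (tt N56757 (iv6 D196306)) (tt N115931 (iv7 F497647)))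
theorem Q93290 : ∀ i, i < 93290 → P i := stepQ 93289 Q93289 (allL N93289 (tt N105357 (iv1 F449871)) (tt N56758 (iv0 D196307)) (tt N94804 (iv2 F406021)) (tt N107306 (iv3 F457893)) (tt N118143 D221402) (tt N92381 F406022) (tt N112861 (iv6 F483013)) (tt N94800 F406023))
theorem Q93291 : ∀ i, i < 93291 → P i := stepQ 93290 Q93290 (allL N93290 (tt N56758 (iv1 D196308)) (tt N105357 (iv0 F449872)) (tt N94800 (iv2 F405996)) (tt N100606 (iv3 F429679)) (tt N109150 F465585) (tt N92382 (iv5 F400471)) (tt N58206 (iv6 F400292)) (tt N94804 (iv7 F406019)))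
theorem Q93292 : ∀ i, i < 93292 → P i := stepQ 93291 Q93291 (allL N93291 (tt N118144 D221403) (tt N107068 (iv0 F456844)) (tt N116887 (iv2 F502356)) (tt N58207 F400293) (tt N56758 (iv4 D196309)) (tt N103509 (iv5 F441884)) (tt N98678 (iv6 F421825)) (tt N103508 F441882))
theorem Q93293 : ∀ i, i < 93293 → P i := stepQ 93292 Q93292 (allL N93292 (tt N115112 (iv1 F493542)) (tt N107513 (iv0 F458607)) (tt N103173 (iv2 F440404)) (tt N56760 F400294) (tt N98678 (iv4 F421824)) (tt N103172 F440402) (tt N56758 (iv6 D196310)) (tt N116407 (iv7 F499940)))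
theorem Q93294 : ∀ i, i < 93294 → P i := stepQ 93293 Q93293 (allL N93293 (tt N115931 F497649) (tt N56759 (iv0 D196311)) (tt N117789 (iv2 F506975)) (tt N88774 F400295) (tt N106118 F453208) (tt N118145 D221404) (tt N89015 (iv6 F400296)) (tt N117792 (iv7 F506997)))
theorem Q93295 : ∀ i, i < 93295 → P i := stepQ 93294 Q93294 (allL N93294 (tt N56759 (iv1 D196312)) (tt N115931 (iv0 F497648)) (tt N117792 (iv2 F506993)) (tt N94980 (iv3 F424758)) (tt N106117 (iv4 F453201)) (tt N72089 F424762) (tt N94975 F424763) (tt N117789 (iv7 F506976)))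
theorem Q93296 : ∀ i, i < 93296 → P i := stepQ 93295 Q93295 (allL N93295 (tt N108015 (iv1 F460741)) (tt N95967 F452864) (tt N103174 (iv2 F440410)) (tt N56761 F400297) (tt N106042 (iv4 F452862)) (tt N56759 (iv5 D196313)) (tt N103172 (iv6 F440403)) (tt N106757 (iv7 F455564)))
theorem Q93297 : ∀ i, i < 93297 → P i := stepQ 93296 Q93296 (allL N93296 (tt N117792 (iv1 F506999)) (tt N117789 (iv0 F506978)) (tt N115931 (iv2 F497644)) (tt N56762 F400298) (tt N106961 (iv4 F456460)) (tt N106757 F455567) (tt N73546 F400299) (tt N56759 (iv7 D196314)))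
theorem Q93298 : ∀ i, i < 93298 → P i := stepQ 93297 Q93297 (allL N93297 (tt N103164 (iv1 F440364)) (tt N56760 (iv0 D196315)) (tt N85099 (iv2 F400304)) (tt N113252 (iv3 F484714)) (tt N58281 F400305) (tt N118146 D221405) (tt N58166 F406926) (tt N105356 (iv7 F449864)))
theorem Q93299 : ∀ i, i < 93299 → P i := stepQ 93298 Q93298 (allL N93298 (tt N56760 (iv1 D196316)) (tt N103164 F440367) (tt N105356 F449867) (tt N76229 (iv3 F400302)) (tt N58282 F400300) (tt N118147 D221406) (tt N112834 (iv6 F482860)) (tt N85099 (iv7 F400303)))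
theorem Q93300 : ∀ i, i < 93300 → P i := stepQ 93299 Q93299 (allL N93299 (tt N103162 F440355) (tt N103161 F440349) (tt N100129 F427598) (tt N103172 (iv3 F440398)) (tt N100469 (iv4 F429089)) (tt N56760 (iv5 D196317)) (tt N56761 F400306) (tt N103163 (iv7 F440358)))
theorem Q93301 : ∀ i, i < 93301 → P i := stepQ 93300 Q93300 (allL N93300 (tt N105356 (iv1 F449863)) (tt N85099 (iv0 F400308)) (tt N103164 (iv2 F440361)) (tt N116407 (iv3 F499937)) (tt N58213 F400307) (tt N103163 F440360) (tt N105362 (iv6 F449891)) (tt N56760 (iv7 D196318)))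
theorem Q93302 : ∀ i, i < 93302 → P i := stepQ 93301 Q93301 (allL N93301 (tt N70999 F400310) (tt N56991 F400311) (tt N98917 (iv2 F422774)) (tt N116937 (iv3 F502590)) (tt N56761 (iv4 D196319)) (tt N71470 F400309) (tt N100469 (iv6 F429090)) (tt N118148 D221407))
theorem Q93303 : ∀ i, i < 93303 → P i := stepQ 93302 Q93302 (allL N93302 (tt N98817 (iv1 F422459)) (tt N72632 (iv0 F400314)) (tt N105154 F449034) (tt N106757 (iv3 F455566)) (tt N118148 (iv4 F508861)) (tt N56762 F400313) (tt N112217 (iv6 F480097)) (tt N56761 (iv7 D196320)))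
theorem Q93304 : ∀ i, i < 93304 → P i := stepQ 93303 Q93303 (allL N93303 (tt N96463 (iv1 F412634)) (tt N56785 (iv0 F400319)) (tt N61191 F400315) (tt N62375 F400316) (tt N59632 F400318) (tt N56763 (iv5 D196321)) (tt N61221 (iv6 F400320)) (tt N71903 F400317))
theorem Q93305 : ∀ i, i < 93305 → P i := stepQ 93304 Q93304 (allL N93304 (tt N73571 F400326) (tt N56770 (iv0 F400327)) (tt N62371 F400323) (tt N56764 (iv3 D196322)) (tt N92208 F400324) (tt N61193 F400328) (tt N97323 (iv6 F416348)) (tt N61192 F400325))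
theorem Q93306 : ∀ i, i < 93306 → P i := stepQ 93305 Q93305 (allL N93305 (tt N56785 F400333) (tt N96463 (iv0 F412633)) (tt N71903 F400329) (tt N61193 F400330) (tt N118149 D221408) (tt N56764 (iv5 D196323)) (tt N78152 F400331) (tt N61191 F400332))
theorem Q93307 : ∀ i, i < 93307 → P i := stepQ 93306 Q93306 (allL N93306 (tt N56765 (iv1 D196324)) (tt N71900 F400334) (tt N71905 F400337) (tt N103020 (iv3 F439706)) (tt N96669 (iv4 F413375)) (tt N71619 (iv5 F400336)) (tt N118150 D221409) (tt N71906 F400335))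
theorem Q93308 : ∀ i, i < 93308 → P i := stepQ 93307 Q93307 (allL N93307 (tt N101247 F432394) (tt N117716 (iv0 F506593)) (tt N115935 (iv2 F497666)) (tt N56766 F400338) (tt N96451 (iv4 F412574)) (tt N87335 F400339) (tt N56765 (iv6 D196325)) (tt N103166 (iv7 F440372)))
theorem Q93309 : ∀ i, i < 93309 → P i := stepQ 93308 Q93308 (allL N93308 (tt N105362 (iv1 F449893)) (tt N56766 (iv0 D196326)) (tt N105361 F449885) (tt N85187 (iv3 F402323)) (tt N58256 F402322) (tt N94879 (iv5 F406228)) (tt N118151 D221410) (tt N85182 (iv7 F402324)))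
theorem Q93310 : ∀ i, i < 93310 → P i := stepQ 93309 Q93309 (allL N93309 (tt N56766 (iv1 D196327)) (tt N105362 F449892) (tt N85182 (iv2 F400346)) (tt N95498 (iv3 F408366)) (tt N58257 F400344) (tt N94880 F406231) (tt N58211 (iv6 F400347)) (tt N105361 (iv7 F449886)))
theorem Q93311 : ∀ i, i < 93311 → P i := stepQ 93310 Q93310 (allL N93310 (tt N79799 F400343) (tt N79818 (iv0 F400345)) (tt N79817 F400340) (tt N87335 F400341) (tt N118152 D221411) (tt N56766 (iv5 D196328)) (tt N56767 F400342) (tt N79816 (iv7 F406223)))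
theorem Q93312 : ∀ i, i < 93312 → P i := stepQ 93311 Q93311 (allL N93311 (tt N85182 (iv1 F406883)) (tt N105361 F449888) (tt N105362 (iv2 F449889)) (tt N103166 (iv3 F440370)) (tt N58168 F400348) (tt N79816 F406224) (tt N103164 F440366) (tt N56766 (iv7 D196329)))
theorem Q93313 : ∀ i, i < 93313 → P i := stepQ 93312 Q93312 (allL N93312 (tt N73547 (iv1 F400350)) (tt N56767 (iv0 D196330)) (tt N78080 (iv2 F400351)) (tt N115556 (iv3 F495768)) (tt N73540 (iv4 F400353)) (tt N57739 F400349) (tt N118153 D221412) (tt N78078 (iv7 F400352)))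
theorem Q93314 : ∀ i, i < 93314 → P i := stepQ 93313 Q93313 (allL N93313 (tt N56767 (iv1 D196331)) (tt N73547 F400354) (tt N78078 (iv2 F400357)) (tt N118154 D221413) (tt N73541 (iv4 F400358)) (tt N57738 F400356) (tt N94885 (iv6 F406240)) (tt N78080 F400355))
theorem Q93315 : ∀ i, i < 93315 → P i := stepQ 93314 Q93314 (allL N93314 (tt N108111 (iv1 F461158)) (tt N96788 F413950) (tt N105363 (iv2 F449894)) (tt N87274 F400359) (tt N56767 (iv4 D196332)) (tt N108169 (iv5 F461375)) (tt N118152 (iv6 F508886)) (tt N87272 F400360))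
theorem Q93316 : ∀ i, i < 93316 → P i := stepQ 93315 Q93315 (allL N93315 (tt N94543 (iv1 F404904)) (tt N94542 F404899) (tt N56782 F400361) (tt N72838 F400362) (tt N57096 F400363) (tt N117110 (iv5 F503446)) (tt N56768 (iv6 D196333)) (tt N94533 (iv7 F404870)))
theorem Q93317 : ∀ i, i < 93317 → P i := stepQ 93316 Q93316 (allL N93316 (tt N73212 F400366) (tt N73215 F400367) (tt N103203 (iv2 F440553)) (tt N56769 (iv3 D196334)) (tt N59169 F400364) (tt N107298 (iv5 F457862)) (tt N89502 (iv6 F400368)) (tt N56775 F400365))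
theorem Q93318 : ∀ i, i < 93318 → P i := stepQ 93317 Q93317 (allL N93317 (tt N62360 F400372) (tt N118139 F508816) (tt N56773 F400369) (tt N89502 F400370) (tt N59167 F400371) (tt N57113 (iv5 F400373)) (tt N56769 (iv6 D196335)) (tt N116697 (iv7 F501362)))
theorem Q93319 : ∀ i, i < 93319 → P i := stepQ 93318 Q93318 (allL N93318 (tt N56999 F400377) (tt N59179 F400379) (tt N59163 F400374) (tt N56771 (iv3 D196336)) (tt N74023 F400375) (tt N62577 (iv5 F400378)) (tt N99472 F424735) (tt N59180 F400376))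
theorem Q93320 : ∀ i, i < 93320 → P i := stepQ 93319 Q93319 (allL N93319 (tt N74670 F400385) (tt N60029 F400384) (tt N59166 F400380) (tt N62577 F400381) (tt N71349 F400383) (tt N56771 (iv5 D196337)) (tt N73184 (iv6 F400386)) (tt N74668 F400382))
theorem Q93321 : ∀ i, i < 93321 → P i := stepQ 93320 Q93320 (allL N93320 (tt N75356 F424737) (tt N118033 F508204) (tt N59167 F400387) (tt N99472 F424734) (tt N56773 F400388) (tt N118155 D221414) (tt N56771 (iv6 D196338)) (tt N118156 D221415))
theorem Q93322 : ∀ i, i < 93322 → P i := stepQ 93321 Q93321 (allL N93321 (tt N108140 (iv1 F461280)) (tt N104958 (iv0 F448141)) (tt N97858 (iv2 F418539)) (tt N92592 F400389) (tt N56772 (iv4 D196339)) (tt N85002 F400390) (tt N78799 (iv6 F400391)) (tt N107761 (iv7 F459612)))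
theorem Q93323 : ∀ i, i < 93323 → P i := stepQ 93322 Q93322 (allL N93322 (tt N84796 (iv1 F400398)) (tt N76229 F400399) (tt N85087 F400393) (tt N57200 F400394) (tt N78799 F400395) (tt N74215 F400396) (tt N56772 (iv6 D196340)) (tt N85088 F400397))
theorem Q93324 : ∀ i, i < 93324 → P i := stepQ 93323 Q93323 (allL N93323 (tt N116697 F501364) (tt N56773 (iv0 D196341)) (tt N62360 (iv2 F400401)) (tt N77528 F400402) (tt N57113 F400403) (tt N118157 D221416) (tt N77525 F400400) (tt N118139 (iv7 F508814)))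
theorem Q93325 : ∀ i, i < 93325 → P i := stepQ 93324 Q93324 (allL N93324 (tt N118139 (iv1 F508815)) (tt N62360 (iv0 F410942)) (tt N116697 (iv2 F501358)) (tt N57025 F400404) (tt N118156 (iv4 F508909)) (tt N57024 F400405) (tt N73548 F400453) (tt N56773 (iv7 D196342)))
theorem Q93326 : ∀ i, i < 93326 → P i := stepQ 93325 Q93325 (allL N93325 (tt N73549 F400407) (tt N73456 F400408) (tt N56778 F400406) (tt N103204 (iv3 F440560)) (tt N108298 (iv4 F461954)) (tt N117044 (iv5 F503102)) (tt N56774 (iv6 D196343)) (tt N73548 (iv7 F400452)))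
theorem Q93327 : ∀ i, i < 93327 → P i := stepQ 93326 Q93326 (allL N93326 (tt N103203 F440559) (tt N56775 (iv0 D196344)) (tt N73215 (iv2 F400410)) (tt N99156 (iv3 F423499)) (tt N59020 F400409) (tt N85223 (iv5 F400411)) (tt N85226 (iv6 F400412)) (tt N73212 (iv7 F400413)))
theorem Q93328 : ∀ i, i < 93328 → P i := stepQ 93327 Q93327 (allL N93327 (tt N73215 (iv1 F400417)) (tt N73212 F400416) (tt N56775 (iv2 D196345)) (tt N73571 F400415) (tt N69692 F400418) (tt N107308 (iv5 F457903)) (tt N86337 (iv6 F400419)) (tt N103203 (iv7 F440557)))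
theorem Q93329 : ∀ i, i < 93329 → P i := stepQ 93328 Q93328 (allL N93328 (tt N93266 F400423) (tt N93263 F400424) (tt N69692 F400420) (tt N59172 F400421) (tt N56775 (iv4 D196346)) (tt N85407 (iv5 F400425)) (tt N85928 F400426) (tt N59169 F400422))
theorem Q93330 : ∀ i, i < 93330 → P i := stepQ 93329 Q93329 (allL N93329 (tt N107296 (iv1 F457853)) (tt N107306 (iv0 F457896)) (tt N107308 (iv2 F457901)) (tt N56777 F400427) (tt N73218 F400428) (tt N56775 (iv5 D196347)) (tt N114609 (iv6 F491003)) (tt N107298 (iv7 F457861)))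
theorem Q93331 : ∀ i, i < 93331 → P i := stepQ 93330 Q93330 (allL N93330 (tt N89442 (iv1 F400433)) (tt N117611 F505992) (tt N86337 F400429) (tt N56778 F400430) (tt N85928 F400431) (tt N116692 (iv5 F501326)) (tt N56775 (iv6 D196348)) (tt N86344 F400432))
theorem Q93332 : ∀ i, i < 93332 → P i := stepQ 93331 Q93331 (allL N93331 (tt N60029 (iv1 F400441)) (tt N74670 F400439) (tt N74668 F400435) (tt N57185 F400436) (tt N71350 F400438) (tt N56776 (iv5 D196349)) (tt N77114 (iv6 F400440)) (tt N59166 F400437))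
theorem Q93333 : ∀ i, i < 93333 → P i := stepQ 93332 Q93332 (allL N93332 (tt N107704 (iv1 F459305)) (tt N108158 (iv0 F461338)) (tt N108298 (iv2 F461952)) (tt N59178 F400442) (tt N56778 F400443) (tt N85252 (iv5 F400444)) (tt N56776 (iv6 D196350)) (tt N108325 (iv7 F462071)))
theorem Q93334 : ∀ i, i < 93334 → P i := stepQ 93333 Q93333 (allL N93333 (tt N56778 (iv1 D196351)) (tt N73548 F400451) (tt N73456 (iv2 F400448)) (tt N73559 F400449) (tt N57127 F400450) (tt N112226 (iv5 F480140)) (tt N94538 (iv6 F404887)) (tt N73549 F400447))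
theorem Q93335 : ∀ i, i < 93335 → P i := stepQ 93334 Q93334 (allL N93334 (tt N115556 (iv1 F495772)) (tt N115524 (iv0 F495629)) (tt N117044 (iv2 F503101)) (tt N116692 F501330) (tt N113886 (iv4 F487636)) (tt N56778 (iv5 D196352)) (tt N114639 (iv6 F491139)) (tt N118158 D221417))
theorem Q93336 : ∀ i, i < 93336 → P i := stepQ 93335 Q93335 (allL N93335 (tt N73456 (iv1 F400458)) (tt N73549 F400459) (tt N73548 F400456) (tt N86344 F400457) (tt N108325 (iv4 F462068)) (tt N118158 (iv5 F508920)) (tt N116697 (iv6 F501361)) (tt N56778 (iv7 D196353)))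
theorem Q93337 : ∀ i, i < 93337 → P i := stepQ 93336 Q93336 (allL N93336 (tt N89880 F400464) (tt N84910 F400465) (tt N89881 F400460) (tt N74911 F400461) (tt N56779 (iv4 D196354)) (tt N74910 F400462) (tt N115331 (iv6 F494630)) (tt N89882 F400463))
theorem Q93338 : ∀ i, i < 93338 → P i := stepQ 93337 Q93337 (allL N93337 (tt N114279 F489361) (tt N105432 (iv0 F450247)) (tt N114472 (iv2 F490357)) (tt N103030 (iv3 F439740)) (tt N115331 (iv4 F494632)) (tt N111159 (iv5 F474997)) (tt N56779 (iv6 D196355)) (tt N114471 F490353))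
theorem Q93339 : ∀ i, i < 93339 → P i := stepQ 93338 Q93338 (allL N93338 (tt N118159 D221418) (tt N114567 (iv0 F490805)) (tt N96099 (iv2 F411048)) (tt N116786 (iv3 F501826)) (tt N104164 (iv4 F444501)) (tt N93801 F401956) (tt N56780 (iv6 D196356)) (tt N118043 (iv7 F508255)))
theorem Q93340 : ∀ i, i < 93340 → P i := stepQ 93339 Q93339 (allL N93339 (tt N94533 (iv1 F404872)) (tt N56782 (iv0 D196357)) (tt N94543 F404906) (tt N108481 (iv3 F462777)) (tt N95159 (iv4 F407264)) (tt N89999 F400466) (tt N118160 D221419) (tt N94542 F404903))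
theorem Q93341 : ∀ i, i < 93341 → P i := stepQ 93340 Q93340 (allL N93340 (tt N56782 (iv1 D196358)) (tt N94533 (iv0 F404871)) (tt N94542 (iv2 F404901)) (tt N90551 F402516) (tt N95163 (iv4 F407273)) (tt N71653 (iv5 F402517)) (tt N90553 (iv6 F402515)) (tt N94543 (iv7 F404905)))
theorem Q93342 : ∀ i, i < 93342 → P i := stepQ 93341 Q93341 (allL N93341 (tt N116455 (iv1 F500219)) (tt N116662 (iv0 F501195)) (tt N117110 (iv2 F503448)) (tt N56794 F400467) (tt N96193 (iv4 F411428)) (tt N56782 (iv5 D196359)) (tt N96192 F411427) (tt N94544 (iv7 F404910)))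
theorem Q93343 : ∀ i, i < 93343 → P i := stepQ 93342 Q93342 (allL N93342 (tt N94644 (iv1 F405341)) (tt N90162 F400469) (tt N56783 (iv2 D196361)) (tt N96463 F412635) (tt N118161 D221420) (tt N57968 F400468) (tt N118162 D221421) (tt N105376 (iv7 F449958)))
theorem Q93344 : ∀ i, i < 93344 → P i := stepQ 93343 Q93343 (allL N93343 (tt N118163 D221422) (tt N107827 (iv0 F459885)) (tt N118161 (iv2 F508934)) (tt N58099 F400475) (tt N56783 (iv4 D196362)) (tt N103798 F442866) (tt N118164 D221423) (tt N105377 (iv7 F449962)))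
theorem Q93345 : ∀ i, i < 93345 → P i := stepQ 93344 Q93344 (allL N93344 (tt N104665 F446772) (tt N101368 (iv0 F432799)) (tt N118162 (iv2 F508938)) (tt N56784 F400476) (tt N118164 (iv4 F508949)) (tt N105559 F450732) (tt N56783 (iv6 D196363)) (tt N118165 D221424))
theorem Q93346 : ∀ i, i < 93346 → P i := stepQ 93345 Q93345 (allL N93345 (tt N105375 (iv1 F449955)) (tt N56784 (iv0 D196364)) (tt N105373 F449940) (tt N70406 (iv3 F400478)) (tt N58333 F400477) (tt N96479 (iv5 F412689)) (tt N107732 (iv6 F459445)) (tt N58019 (iv7 F400479)))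
theorem Q93347 : ∀ i, i < 93347 → P i := stepQ 93346 Q93346 (allL N93346 (tt N64856 F400482) (tt N96578 F431531) (tt N105374 (iv2 F449944)) (tt N105559 (iv3 F450731)) (tt N70877 (iv4 F400481)) (tt N56784 (iv5 D196365)) (tt N57970 F400480) (tt N111132 (iv7 F474849)))
theorem Q93348 : ∀ i, i < 93348 → P i := stepQ 93347 Q93347 (allL N93347 (tt N58019 (iv1 F400487)) (tt N105373 F449942) (tt N105375 (iv2 F449950)) (tt N118165 (iv3 F508953)) (tt N58107 F400486) (tt N111132 (iv5 F474847)) (tt N105381 (iv6 F449979)) (tt N56784 (iv7 D196366)))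
theorem Q93349 : ∀ i, i < 93349 → P i := stepQ 93348 Q93348 (allL N93348 (tt N61191 (iv1 F400490)) (tt N71903 F400489) (tt N56785 (iv2 D196367)) (tt N105376 (iv3 F449956)) (tt N96317 (iv4 F411997)) (tt N58077 F400488) (tt N110905 (iv6 F473716)) (tt N96463 (iv7 F412632)))
theorem Q93350 : ∀ i, i < 93350 → P i := stepQ 93349 Q93349 (allL N93349 (tt N91564 F400493) (tt N91567 F400494) (tt N110905 (iv2 F473714)) (tt N56786 F400491) (tt N96461 (iv4 F412624)) (tt N57089 (iv5 F400492)) (tt N56785 (iv6 D196368)) (tt N110197 (iv7 F470387)))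
theorem Q93351 : ∀ i, i < 93351 → P i := stepQ 93350 Q93350 (allL N93350 (tt N105381 (iv1 F449981)) (tt N56786 (iv0 D196369)) (tt N105379 F449968) (tt N118159 (iv3 F508925)) (tt N58326 (iv4 F406220)) (tt N118166 D221425) (tt N58020 F406219) (tt N82407 (iv7 F406221)))
theorem Q93352 : ∀ i, i < 93352 → P i := stepQ 93351 Q93351 (allL N93351 (tt N95067 (iv1 F407587)) (tt N95070 (iv0 F406925)) (tt N105380 (iv2 F449972)) (tt N57089 F400495) (tt N118167 D221426) (tt N56786 (iv5 D196370)) (tt N58079 F400496) (tt N117529 (iv7 F505537)))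
theorem Q93353 : ∀ i, i < 93353 → P i := stepQ 93352 Q93352 (allL N93352 (tt N82407 (iv1 F400498)) (tt N105379 F449971) (tt N105381 (iv2 F449977)) (tt N110197 (iv3 F470386)) (tt N58023 F400497) (tt N117529 (iv5 F505536)) (tt N105375 (iv6 F449953)) (tt N56786 (iv7 D196371)))
theorem Q93354 : ∀ i, i < 93354 → P i := stepQ 93353 Q93353 (allL N93353 (tt N57940 (iv1 F400500)) (tt N56787 (iv0 D196372)) (tt N57942 F405857) (tt N105635 (iv3 F451054)) (tt N98255 (iv4 F420201)) (tt N57975 (iv5 F400501)) (tt N70237 F400499) (tt N57941 F405858))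
theorem Q93355 : ∀ i, i < 93355 → P i := stepQ 93354 Q93354 (allL N93354 (tt N56787 (iv1 D196373)) (tt N57940 F400508) (tt N57941 F405860) (tt N111708 (iv3 F477594)) (tt N117712 (iv4 F506570)) (tt N57976 (iv5 F400502)) (tt N117711 F506567) (tt N57942 F405861))
theorem Q93356 : ∀ i, i < 93356 → P i := stepQ 93355 Q93355 (allL N93355 (tt N57942 (iv1 F400509)) (tt N57941 F400507) (tt N56787 (iv2 D196374)) (tt N58289 F400503) (tt N108837 (iv4 F464191)) (tt N56845 F400504) (tt N56846 F400505) (tt N57940 F400506))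
theorem Q93357 : ∀ i, i < 93357 → P i := stepQ 93356 Q93356 (allL N93356 (tt N61221 (iv1 F400514)) (tt N61223 (iv0 F400513)) (tt N61220 F400510) (tt N56790 (iv3 D196375)) (tt N103088 (iv4 F440015)) (tt N97832 F418448) (tt N93893 (iv6 F402314)) (tt N61219 F400511))
theorem Q93358 : ∀ i, i < 93358 → P i := stepQ 93357 Q93357 (allL N93357 (tt N58017 F400512) (tt N107732 F459446) (tt N105382 (iv2 F449983)) (tt N93893 (iv3 F402309)) (tt N56790 (iv4 D196376)) (tt N93892 (iv5 F402307)) (tt N56790 F402315) (tt N100830 (iv7 F430681)))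
theorem Q93359 : ∀ i, i < 93359 → P i := stepQ 93358 Q93358 (allL N93358 (tt N89779 F400515) (tt N95125 (iv0 F407139)) (tt N95701 (iv2 F409205)) (tt N97832 (iv3 F418449)) (tt N100634 F429773) (tt N56790 (iv5 D196377)) (tt N95691 (iv6 F409159)) (tt N95692 (iv7 F409162)))
theorem Q93360 : ∀ i, i < 93360 → P i := stepQ 93359 Q93359 (allL N93359 (tt N56791 (iv1 D196379)) (tt N58105 F400516) (tt N58107 (iv2 F400518)) (tt N101795 F434383) (tt N105375 (iv4 F449951)) (tt N107168 (iv5 F457298)) (tt N58023 (iv6 F400519)) (tt N57887 F400517))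
theorem Q93361 : ∀ i, i < 93361 → P i := stepQ 93360 Q93360 (allL N93360 (tt N94627 (iv1 F405296)) (tt N94626 (iv0 F405290)) (tt N58340 F400520) (tt N96192 (iv3 F411422)) (tt N82086 F400522) (tt N56791 (iv5 D196380)) (tt N56794 F400521) (tt N94625 (iv7 F405280)))
theorem Q93362 : ∀ i, i < 93362 → P i := stepQ 93361 Q93361 (allL N93361 (tt N99340 (iv1 F424179)) (tt N116677 F501264) (tt N72842 F400523) (tt N102252 (iv3 F436379)) (tt N99026 (iv4 F423082)) (tt N56792 (iv5 D196381)) (tt N64945 F400524) (tt N72845 F400525))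
theorem Q93363 : ∀ i, i < 93363 → P i := stepQ 93362 Q93362 (allL N93362 (tt N71904 F400528) (tt N78344 F400530) (tt N108228 F461578) (tt N56793 (iv3 D196382)) (tt N71020 F400526) (tt N77474 (iv5 F400529)) (tt N93935 (iv6 F402484)) (tt N72120 F400527))
theorem Q93364 : ∀ i, i < 93364 → P i := stepQ 93363 Q93363 (allL N93363 (tt N116677 (iv1 F501265)) (tt N99340 (iv0 F424178)) (tt N72845 F400531) (tt N77474 F400532) (tt N99013 (iv4 F423032)) (tt N56793 (iv5 D196383)) (tt N99012 F423030) (tt N72842 F400533))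
theorem Q93365 : ∀ i, i < 93365 → P i := stepQ 93364 Q93364 (allL N93364 (tt N73075 (iv1 F400538)) (tt N73078 (iv0 F400537)) (tt N72846 F400534) (tt N93935 (iv3 F402483)) (tt N65927 F400535) (tt N93933 (iv5 F402472)) (tt N56793 (iv6 D196384)) (tt N73556 F400536))
theorem Q93366 : ∀ i, i < 93366 → P i := stepQ 93365 Q93365 (allL N93365 (tt N57860 (iv1 F400539)) (tt N56794 (iv0 D196385)) (tt N72847 (iv2 F407424)) (tt N94645 (iv3 F407425)) (tt N108130 (iv4 F461234)) (tt N107495 (iv5 F458524)) (tt N116584 F500852) (tt N72848 F407423))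
theorem Q93367 : ∀ i, i < 93367 → P i := stepQ 93366 Q93366 (allL N93366 (tt N56794 (iv1 D196386)) (tt N57860 F400540) (tt N72848 F407418) (tt N90274 (iv3 F407417)) (tt N108131 (iv4 F461242)) (tt N72951 F400541) (tt N96446 (iv6 F412555)) (tt N72847 (iv7 F407422)))
theorem Q93368 : ∀ i, i < 93368 → P i := stepQ 93367 Q93367 (allL N93367 (tt N108469 (iv1 F462722)) (tt N101643 F433677) (tt N72849 F400542) (tt N82088 (iv3 F400544)) (tt N56794 (iv4 D196387)) (tt N94663 (iv5 F405431)) (tt N82086 F400543) (tt N94567 (iv7 F404996)))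
theorem Q93369 : ∀ i, i < 93369 → P i := stepQ 93368 Q93368 (allL N93368 (tt N94511 F404776) (tt N73431 (iv0 F400548)) (tt N110989 (iv2 F474112)) (tt N56795 (iv3 D196388)) (tt N72438 F400545) (tt N110433 (iv5 F471567)) (tt N82360 F400546) (tt N72850 F400547))
theorem Q93370 : ∀ i, i < 93370 → P i := stepQ 93369 Q93369 (allL N93369 (tt N74006 F400552) (tt N74005 F400553) (tt N62566 F400549) (tt N110433 (iv3 F471571)) (tt N118168 D221427) (tt N56795 (iv5 D196389)) (tt N64941 F400550) (tt N72851 F400551))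
theorem Q93371 : ∀ i, i < 93371 → P i := stepQ 93370 Q93370 (allL N93370 (tt N74011 F400558) (tt N74010 (iv0 F400559)) (tt N62568 F400555) (tt N114922 (iv3 F492549)) (tt N56796 (iv4 D196390)) (tt N99464 (iv5 F424697)) (tt N72633 F400556) (tt N72853 F400557))
theorem Q93372 : ∀ i, i < 93372 → P i := stepQ 93371 Q93371 (allL N93371 (tt N74221 (iv1 F400561)) (tt N56800 (iv0 D196391)) (tt N74220 F400836) (tt N107506 (iv3 F458568)) (tt N107139 (iv4 F457156)) (tt N59089 F400560) (tt N115073 (iv6 F493348)) (tt N74219 (iv7 F400835)))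
theorem Q93373 : ∀ i, i < 93373 → P i := stepQ 93372 Q93372 (allL N93372 (tt N56800 (iv1 D196392)) (tt N74221 F400566) (tt N74219 (iv2 F400837)) (tt N117535 (iv3 F505573)) (tt N107106 (iv4 F457002)) (tt N59090 (iv5 F400567)) (tt N108841 (iv6 F464216)) (tt N74220 F400839))
theorem Q93374 : ∀ i, i < 93374 → P i := stepQ 93373 Q93373 (allL N93373 (tt N74220 (iv1 F400568)) (tt N74219 F400565) (tt N56800 (iv2 D196393)) (tt N74231 F400562) (tt N72161 F400563) (tt N96036 (iv5 F410745)) (tt N93958 (iv6 F402596)) (tt N74221 F400564))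
theorem Q93375 : ∀ i, i < 93375 → P i := stepQ 93374 Q93374 (allL N93374 (tt N96038 F410757) (tt N96031 (iv0 F410726)) (tt N96036 F410747) (tt N56801 F400569) (tt N82008 F400571) (tt N56800 (iv5 D196394)) (tt N82006 (iv6 F400572)) (tt N74222 F400570))
theorem Q93376 : ∀ i, i < 93376 → P i := stepQ 93375 Q93375 (allL N93375 (tt N107339 F458015) (tt N82357 (iv0 F400576)) (tt N74233 F400573) (tt N82006 F400574) (tt N93434 (iv4 F400734)) (tt N93961 (iv5 F402613)) (tt N56801 (iv6 D196395)) (tt N118169 D221428))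
theorem Q93377 : ∀ i, i < 93377 → P i := stepQ 93376 Q93376 (allL N93376 (tt N117535 (iv1 F505578)) (tt N117497 F505343) (tt N97120 (iv2 F415533)) (tt N56802 (iv3 D196396)) (tt N60217 F400582) (tt N59665 F400581) (tt N108834 (iv6 F464176)) (tt N95276 (iv7 F407689)))
theorem Q93378 : ∀ i, i < 93378 → P i := stepQ 93377 Q93377 (allL N93377 (tt N110641 F472551) (tt N105892 (iv0 F452214)) (tt N95274 (iv2 F407676)) (tt N99191 (iv3 F423626)) (tt N56802 (iv4 D196397)) (tt N96725 (iv5 F413620)) (tt N97415 (iv6 F416792)) (tt N95278 (iv7 F407695)))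
theorem Q93379 : ∀ i, i < 93379 → P i := stepQ 93378 Q93378 (allL N93378 (tt N93275 F400584) (tt N93273 F400585) (tt N95275 (iv2 F407681)) (tt N108834 (iv3 F464175)) (tt N97415 (iv4 F416790)) (tt N69558 F400583) (tt N56802 (iv6 D196398)) (tt N97028 (iv7 F415106)))
theorem Q93380 : ∀ i, i < 93380 → P i := stepQ 93379 Q93379 (allL N93379 (tt N82230 F400589) (tt N81456 (iv0 F400590)) (tt N112174 (iv2 F479892)) (tt N56803 (iv3 D196399)) (tt N89458 (iv4 F400588)) (tt N59663 F400586) (tt N89457 F400587) (tt N95270 (iv7 F407653)))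
theorem Q93381 : ∀ i, i < 93381 → P i := stepQ 93380 Q93380 (allL N93380 (tt N105892 (iv1 F452215)) (tt N110641 (iv0 F472549)) (tt N95278 (iv2 F407693)) (tt N94254 (iv3 F403850)) (tt N56803 (iv4 D196400)) (tt N96726 (iv5 F413625)) (tt N97029 (iv6 F415110)) (tt N95274 (iv7 F407678)))
theorem Q93382 : ∀ i, i < 93382 → P i := stepQ 93381 Q93381 (allL N93381 (tt N117498 F505348) (tt N117499 F505355) (tt N56806 F400591) (tt N107716 (iv3 F459364)) (tt N71882 F400592) (tt N95200 (iv5 F407383)) (tt N56804 (iv6 D196401)) (tt N107842 (iv7 F459956)))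
theorem Q93383 : ∀ i, i < 93383 → P i := stepQ 93382 Q93382 (allL N93382 (tt N58039 (iv1 F400596)) (tt N56805 (iv0 D196402)) (tt N96483 F412705) (tt N103274 (iv3 F440926)) (tt N65821 F400594) (tt N56828 F400593) (tt N57980 F400595) (tt N96408 (iv7 F412385)))
theorem Q93384 : ∀ i, i < 93384 → P i := stepQ 93383 Q93383 (allL N93383 (tt N56806 (iv1 D196403)) (tt N107842 (iv0 F459957)) (tt N117499 (iv2 F505350)) (tt N110186 (iv3 F470325)) (tt N118170 D221429) (tt N58299 F400598) (tt N58301 (iv6 F400597)) (tt N117498 F505347))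
theorem Q93385 : ∀ i, i < 93385 → P i := stepQ 93384 Q93384 (allL N93384 (tt N101429 (iv1 F432958)) (tt N82277 (iv0 F405154)) (tt N95200 (iv2 F407380)) (tt N56810 F400599) (tt N82273 (iv4 F400601)) (tt N56806 (iv5 D196404)) (tt N83911 F400600) (tt N101428 (iv7 F432949)))
theorem Q93386 : ∀ i, i < 93386 → P i := stepQ 93385 Q93385 (allL N93385 (tt N117499 (iv1 F505356)) (tt N117498 (iv0 F505349)) (tt N107842 (iv2 F459954)) (tt N56811 F400602) (tt N71884 F400603) (tt N101428 F432950) (tt N93878 (iv6 F402248)) (tt N56806 (iv7 D196405)))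
theorem Q93387 : ∀ i, i < 93387 → P i := stepQ 93386 Q93386 (allL N93386 (tt N93557 F401128) (tt N61322 (iv0 F400607)) (tt N78454 F400604) (tt N83911 F400605) (tt N61318 (iv4 F400608)) (tt N56807 (iv5 D196406)) (tt N56810 F400606) (tt N95201 (iv7 F407389)))
theorem Q93388 : ∀ i, i < 93388 → P i := stepQ 93387 Q93387 (allL N93387 (tt N115073 F493352) (tt N108849 (iv0 F464244)) (tt N106783 (iv2 F455663)) (tt N56809 (iv3 D196407)) (tt N72173 F400609) (tt N93719 (iv5 F401661)) (tt N106055 F452924) (tt N78244 F400610))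
theorem Q93389 : ∀ i, i < 93389 → P i := stepQ 93388 Q93388 (allL N93388 (tt N92922 F400615) (tt N92921 F400618) (tt N78248 F400611) (tt N106055 F452923) (tt N59065 F400612) (tt N57934 F400613) (tt N56809 (iv6 D196408)) (tt N56926 F400614))
theorem Q93390 : ∀ i, i < 93390 → P i := stepQ 93389 Q93389 (allL N93389 (tt N61312 F400621) (tt N96102 (iv0 F411064)) (tt N100780 (iv2 F430436)) (tt N98484 (iv3 F421084)) (tt N56810 (iv4 D196409)) (tt N92796 F400620) (tt N61318 F400619) (tt N98487 (iv7 F421097)))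
theorem Q93391 : ∀ i, i < 93391 → P i := stepQ 93390 Q93390 (allL N93390 (tt N57057 (iv1 F400623)) (tt N57054 F400624) (tt N107714 (iv2 F459349)) (tt N101428 (iv3 F432951)) (tt N98487 (iv4 F421098)) (tt N56811 F400622) (tt N110848 (iv6 F473431)) (tt N56810 (iv7 D196410)))
theorem Q93392 : ∀ i, i < 93392 → P i := stepQ 93391 Q93391 (allL N93391 (tt N77863 (iv1 F400627)) (tt N56813 (iv0 D196411)) (tt N77862 (iv2 F400626)) (tt N112799 F482670) (tt N95733 (iv4 F409364)) (tt N71378 F400625) (tt N107858 F460023) (tt N77861 F400628))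
theorem Q93393 : ∀ i, i < 93393 → P i := stepQ 93392 Q93392 (allL N93392 (tt N118171 D221430) (tt N117849 (iv0 F507258)) (tt N57622 F400629) (tt N110655 (iv3 F472618)) (tt N77812 F400630) (tt N107347 (iv5 F458048)) (tt N56814 (iv6 D196412)) (tt N118172 D221431))
theorem Q93394 : ∀ i, i < 93394 → P i := stepQ 93393 Q93393 (allL N93393 (tt N112825 (iv1 F482811)) (tt N100753 (iv0 F430295)) (tt N94257 (iv2 F403865)) (tt N78252 F400631) (tt N56817 (iv4 D196413)) (tt N93423 (iv5 F400690)) (tt N107857 (iv6 F460016)) (tt N118023 (iv7 F508145)))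
theorem Q93395 : ∀ i, i < 93395 → P i := stepQ 93394 Q93394 (allL N93394 (tt N107504 (iv1 F458560)) (tt N107506 (iv0 F458571)) (tt N78250 F400632) (tt N56818 (iv3 D196414)) (tt N101770 (iv4 F434265)) (tt N81402 F400633) (tt N118173 D221432) (tt N111531 (iv7 F476773)))
theorem Q93396 : ∀ i, i < 93396 → P i := stepQ 93395 Q93395 (allL N93395 (tt N100753 (iv1 F430296)) (tt N112825 (iv0 F482810)) (tt N118023 (iv2 F508142)) (tt N94182 (iv3 F403588)) (tt N56818 (iv4 D196415)) (tt N93421 (iv5 F400683)) (tt N118174 D221433) (tt N94257 (iv7 F403866)))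
theorem Q93397 : ∀ i, i < 93397 → P i := stepQ 93396 Q93396 (allL N93396 (tt N103343 F441208) (tt N99478 (iv0 F434997)) (tt N118024 (iv2 F508148)) (tt N118173 (iv3 F509004)) (tt N118174 (iv4 F509006)) (tt N107853 (iv5 F459993)) (tt N56818 (iv6 D196416)) (tt N107856 (iv7 F460011)))
theorem Q93398 : ∀ i, i < 93398 → P i := stepQ 93397 Q93397 (allL N93397 (tt N102315 (iv1 F436696)) (tt N56960 (iv0 F400636)) (tt N56821 F400634) (tt N97014 (iv3 F415031)) (tt N94378 (iv4 F404187)) (tt N79430 F400635) (tt N56819 (iv6 D196417)) (tt N102313 (iv7 F436673)))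
theorem Q93399 : ∀ i, i < 93399 → P i := stepQ 93398 Q93398 (allL N93398 (tt N102313 (iv1 F436672)) (tt N56821 (iv0 D196418)) (tt N102315 (iv2 F436692)) (tt N99629 F425494) (tt N118175 D221434) (tt N118176 D221435) (tt N102309 (iv6 F436657)) (tt N56960 F425495))
theorem Q93400 : ∀ i, i < 93400 → P i := stepQ 93399 Q93399 (allL N93399 (tt N88133 F400640) (tt N118152 (iv0 F508888)) (tt N79430 F400637) (tt N56823 F400638) (tt N101536 (iv4 F433283)) (tt N56821 (iv5 D196419)) (tt N63880 F400639) (tt N108175 (iv7 F461397)))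
theorem Q93401 : ∀ i, i < 93401 → P i := stepQ 93400 Q93400 (allL N93400 (tt N56822 (iv1 D196420)) (tt N58034 F400641) (tt N82498 (iv2 F400642)) (tt N111701 (iv3 F477571)) (tt N96012 F410629) (tt N118177 D221436) (tt N101151 F431951) (tt N101534 (iv7 F433274)))
theorem Q93402 : ∀ i, i < 93402 → P i := stepQ 93401 Q93401 (allL N93401 (tt N111434 (iv1 F476351)) (tt N118178 D221437) (tt N101963 (iv2 F435102)) (tt N63880 F400643) (tt N118179 D221438) (tt N56822 (iv5 D196421)) (tt N56823 F400644) (tt N101535 (iv7 F433280)))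
theorem Q93403 : ∀ i, i < 93403 → P i := stepQ 93402 Q93402 (allL N93402 (tt N93879 (iv1 F402254)) (tt N56823 (iv0 D196422)) (tt N102854 (iv2 F438952)) (tt N115531 (iv3 F495662)) (tt N118180 D221439) (tt N57012 F400645) (tt N108189 (iv6 F461452)) (tt N108655 (iv7 F463384)))
theorem Q93404 : ∀ i, i < 93404 → P i := stepQ 93403 Q93403 (allL N93403 (tt N56823 (iv1 D196423)) (tt N93879 F402255) (tt N108655 (iv2 F463383)) (tt N118181 D221440) (tt N118182 D221441) (tt N96176 (iv5 F411352)) (tt N118183 D221442) (tt N102854 (iv7 F438953)))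
theorem Q93405 : ∀ i, i < 93405 → P i := stepQ 93404 Q93404 (allL N93404 (tt N118184 D221443) (tt N118185 D221444) (tt N108853 (iv2 F464257)) (tt N118186 D221445) (tt N56823 (iv4 D196424)) (tt N104384 F445529) (tt N118179 (iv6 F509029)) (tt N108854 (iv7 F464260)))
theorem Q93406 : ∀ i, i < 93406 → P i := stepQ 93405 Q93405 (allL N93405 (tt N118187 D221446) (tt N110931 (iv0 F473848)) (tt N81144 F400646) (tt N56824 (iv3 D196425)) (tt N72220 F400647) (tt N118188 D221447) (tt N74588 F400648) (tt N56910 F400649))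
theorem Q93407 : ∀ i, i < 93407 → P i := stepQ 93406 Q93406 (allL N93406 (tt N74577 F400652) (tt N74576 F400653) (tt N74579 F400650) (tt N118188 (iv3 F509053)) (tt N104385 (iv4 F445531)) (tt N56824 (iv5 D196426)) (tt N118189 D221448) (tt N56912 F400651))
theorem Q93408 : ∀ i, i < 93408 → P i := stepQ 93407 Q93407 (allL N93407 (tt N59084 (iv1 F400657)) (tt N91646 (iv0 F400658)) (tt N91591 (iv2 F400656)) (tt N56828 (iv3 D196427)) (tt N59116 F400655) (tt N103274 (iv5 F440928)) (tt N111371 (iv6 F476050)) (tt N73745 F400654))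
theorem Q93409 : ∀ i, i < 93409 → P i := stepQ 93408 Q93408 (allL N93408 (tt N93459 (iv1 F400789)) (tt N110630 (iv0 F472504)) (tt N96725 (iv2 F413617)) (tt N77982 F400660) (tt N56828 (iv4 D196428)) (tt N95274 (iv5 F407679)) (tt N98830 (iv6 F422486)) (tt N96726 (iv7 F413627)))
theorem Q93410 : ∀ i, i < 93410 → P i := stepQ 93409 Q93409 (allL N93409 (tt N56830 (iv1 D196429)) (tt N96716 F413593) (tt N96720 F413603) (tt N112296 (iv3 F480415)) (tt N101311 (iv4 F432609)) (tt N101056 (iv5 F431479)) (tt N107852 (iv6 F459991)) (tt N96719 F413599))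
theorem Q93411 : ∀ i, i < 93411 → P i := stepQ 93410 Q93410 (allL N93410 (tt N96720 (iv1 F413600)) (tt N96719 F413595) (tt N96716 (iv2 F413589)) (tt N56834 F400661) (tt N110611 (iv4 F472387)) (tt N95994 (iv5 F410552)) (tt N99475 F424750) (tt N56830 (iv7 D196430)))
theorem Q93412 : ∀ i, i < 93412 → P i := stepQ 93411 Q93411 (allL N93411 (tt N101949 F494677) (tt N101938 (iv0 F435020)) (tt N101947 F473672) (tt N56831 (iv3 D196431)) (tt N71187 F400662) (tt N118190 D221449) (tt N57056 F400663) (tt N94118 (iv7 F403296)))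
theorem Q93413 : ∀ i, i < 93413 → P i := stepQ 93412 Q93412 (allL N93412 (tt N93866 (iv1 F402207)) (tt N93864 (iv0 F402197)) (tt N94116 (iv2 F403281)) (tt N118190 (iv3 F509061)) (tt N118191 D221450) (tt N56831 (iv5 D196432)) (tt N101413 F432901) (tt N94119 (iv7 F403298)))
theorem Q93414 : ∀ i, i < 93414 → P i := stepQ 93413 Q93413 (allL N93413 (tt N59082 (iv1 F410730)) (tt N91657 (iv0 F400665)) (tt N118192 D221451) (tt N56832 (iv3 D196433)) (tt N72263 F400664) (tt N118193 D221452) (tt N108955 (iv6 F464651)) (tt N94115 (iv7 F403280)))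
theorem Q93415 : ∀ i, i < 93415 → P i := stepQ 93414 Q93414 (allL N93414 (tt N93864 (iv1 F402198)) (tt N93866 (iv0 F402206)) (tt N94119 (iv2 F403297)) (tt N118193 (iv3 F509072)) (tt N103407 (iv4 F441484)) (tt N56832 (iv5 D196434)) (tt N117441 (iv6 F505041)) (tt N94116 (iv7 F403282)))
theorem Q93416 : ∀ i, i < 93416 → P i := stepQ 93415 Q93415 (allL N93415 (tt N56833 (iv1 D196435)) (tt N74563 F400666) (tt N74565 (iv2 F400669)) (tt N118194 D221453) (tt N97852 (iv4 F418512)) (tt N57181 F400668) (tt N118195 D221454) (tt N57180 F400667))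
theorem Q93417 : ∀ i, i < 93417 → P i := stepQ 93416 Q93416 (allL N93416 (tt N93526 (iv1 F401036)) (tt N97569 F417410) (tt N101935 (iv2 F435006)) (tt N95988 (iv3 F410529)) (tt N56833 (iv4 D196436)) (tt N97573 (iv5 F417424)) (tt N95986 F410525) (tt N103695 (iv7 F442511)))
theorem Q93418 : ∀ i, i < 93418 → P i := stepQ 93417 Q93417 (allL N93417 (tt N74565 (iv1 F400672)) (tt N57180 F400673) (tt N74563 F400670) (tt N95994 (iv3 F410550)) (tt N103695 (iv4 F442510)) (tt N56834 F400671) (tt N96395 (iv6 F412325)) (tt N56833 (iv7 D196437)))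
theorem Q93419 : ∀ i, i < 93419 → P i := stepQ 93418 Q93418 (allL N93418 (tt N118030 F508185) (tt N118025 (iv0 F508158)) (tt N118029 F508178) (tt N56836 (iv3 D196438)) (tt N103014 F439674) (tt N114979 (iv5 F492883)) (tt N57068 F400674) (tt N96027 (iv7 F410706)))
theorem Q93420 : ∀ i, i < 93420 → P i := stepQ 93419 Q93419 (allL N93419 (tt N74567 F400675) (tt N74260 F400676) (tt N96026 (iv2 F410699)) (tt N114979 (iv3 F492881)) (tt N118196 D221455) (tt N56836 (iv5 D196439)) (tt N118197 D221456) (tt N96028 (iv7 F410711)))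
theorem Q93421 : ∀ i, i < 93421 → P i := stepQ 93420 Q93420 (allL N93420 (tt N60571 F400679) (tt N65691 F400680) (tt N101707 (iv2 F433978)) (tt N79757 F400677) (tt N56837 (iv4 D196440)) (tt N97004 (iv5 F414986)) (tt N97289 (iv6 F416235)) (tt N60692 F400678))
theorem Q93422 : ∀ i, i < 93422 → P i := stepQ 93421 Q93421 (allL N93421 (tt N112725 F482379) (tt N96253 (iv0 F411752)) (tt N94311 (iv2 F403999)) (tt N78182 F400681) (tt N56840 (iv4 D196441)) (tt N93395 F400683) (tt N57045 F400682) (tt N94457 (iv7 F404549)))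
theorem Q93423 : ∀ i, i < 93423 → P i := stepQ 93422 Q93422 (allL N93422 (tt N91645 (iv1 F400689)) (tt N59079 (iv0 F400688)) (tt N78181 F400684) (tt N56841 (iv3 D196442)) (tt N89771 F400687) (tt N79728 F400685) (tt N112486 (iv6 F481300)) (tt N89770 F400686))
theorem Q93424 : ∀ i, i < 93424 → P i := stepQ 93423 Q93423 (allL N93423 (tt N96253 (iv1 F411753)) (tt N112725 (iv0 F482378)) (tt N94457 (iv2 F404546)) (tt N94190 (iv3 F403630)) (tt N56841 (iv4 D196443)) (tt N93393 F400690) (tt N108994 (iv6 F464813)) (tt N94311 (iv7 F404002)))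
theorem Q93425 : ∀ i, i < 93425 → P i := stepQ 93424 Q93424 (allL N93424 (tt N57170 F400694) (tt N59886 F400695) (tt N73082 F400691) (tt N112486 (iv3 F481297)) (tt N108994 (iv4 F464815)) (tt N59404 F400692) (tt N56841 (iv6 D196444)) (tt N57048 F400693))
theorem Q93426 : ∀ i, i < 93426 → P i := stepQ 93425 Q93425 (allL N93425 (tt N103176 (iv1 F440424)) (tt N76215 F400714) (tt N56844 F400696) (tt N58348 F400697) (tt N106452 (iv4 F454514)) (tt N58320 F400698) (tt N56842 (iv6 D196445)) (tt N82280 (iv7 F400699)))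
theorem Q93427 : ∀ i, i < 93427 → P i := stepQ 93426 Q93426 (allL N93426 (tt N56844 (iv1 D196446)) (tt N82280 F400700) (tt N76215 (iv2 F400712)) (tt N91644 (iv3 F401832)) (tt N109576 (iv4 F467585)) (tt N98312 (iv5 F420456)) (tt N108121 (iv6 F461199)) (tt N103176 (iv7 F440423)))
theorem Q93428 : ∀ i, i < 93428 → P i := stepQ 93427 Q93427 (allL N93427 (tt N77122 F400704) (tt N77119 (iv0 F400705)) (tt N58320 F400701) (tt N56846 F400702) (tt N82250 (iv4 F400707)) (tt N56844 (iv5 D196447)) (tt N58289 F400703) (tt N77120 F400706))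
theorem Q93429 : ∀ i, i < 93429 → P i := stepQ 93428 Q93428 (allL N93428 (tt N76215 F400713) (tt N103176 F440425) (tt N82280 F400708) (tt N56847 F400709) (tt N106454 (iv4 F454518)) (tt N77120 F400710) (tt N97575 (iv6 F417433)) (tt N56844 (iv7 D196448)))
theorem Q93430 : ∀ i, i < 93430 → P i := stepQ 93429 Q93429 (allL N93429 (tt N98200 (iv1 F419956)) (tt N56872 (iv0 F400718)) (tt N98164 (iv2 F419789)) (tt N56848 (iv3 D196449)) (tt N72304 F400715) (tt N85088 F400716) (tt N112210 (iv6 F480070)) (tt N74215 F400717))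
theorem Q93431 : ∀ i, i < 93431 → P i := stepQ 93430 Q93430 (allL N93430 (tt N57154 F400722) (tt N68727 F400723) (tt N74214 F400719) (tt N112210 (iv3 F480069)) (tt N56849 F400720) (tt N94428 (iv5 F404443)) (tt N56848 (iv6 D196450)) (tt N57026 F400721))
theorem Q93432 : ∀ i, i < 93432 → P i := stepQ 93431 Q93431 (allL N93431 (tt N118028 (iv1 F508175)) (tt N96949 (iv0 F414745)) (tt N118027 F508166) (tt N56852 (iv3 D196451)) (tt N117646 (iv4 F506193)) (tt N57643 F400724) (tt N80555 F431912) (tt N74234 F400725))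
theorem Q93433 : ∀ i, i < 93433 → P i := stepQ 93432 Q93432 (allL N93432 (tt N118198 D221457) (tt N107904 (iv0 F460200)) (tt N74237 F400726) (tt N80555 (iv3 F431913)) (tt N67316 F400727) (tt N93618 (iv5 F401295)) (tt N56852 (iv6 D196452)) (tt N118199 D221458))
theorem Q93434 : ∀ i, i < 93434 → P i := stepQ 93433 Q93433 (allL N93433 (tt N56866 F400731) (tt N56871 (iv0 F400732)) (tt N96527 F412862) (tt N56853 (iv3 D196453)) (tt N89721 F400728) (tt N57644 F400729) (tt N112655 (iv6 F482022)) (tt N74236 F400730))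
theorem Q93435 : ∀ i, i < 93435 → P i := stepQ 93434 Q93434 (allL N93434 (tt N93838 F402094) (tt N118200 D221459) (tt N74235 F400733) (tt N112655 (iv3 F482021)) (tt N93375 F400734) (tt N96091 (iv5 F411004)) (tt N56853 (iv6 D196454)) (tt N118201 D221460))
theorem Q93436 : ∀ i, i < 93436 → P i := stepQ 93435 Q93435 (allL N93435 (tt N95044 F406792) (tt N56854 (iv0 D196455)) (tt N57937 (iv2 F400736)) (tt N96567 F413028) (tt N57935 F400735) (tt N118202 D221461) (tt N111354 (iv6 F475973)) (tt N57932 (iv7 F400737)))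
theorem Q93437 : ∀ i, i < 93437 → P i := stepQ 93436 Q93436 (allL N93436 (tt N56854 (iv1 D196456)) (tt N95044 F406793) (tt N57932 F400740) (tt N69684 F400741) (tt N57930 (iv4 F400739)) (tt N118203 D221462) (tt N111474 (iv6 F476512)) (tt N57937 F400738))
theorem Q93438 : ∀ i, i < 93438 → P i := stepQ 93437 Q93437 (allL N93437 (tt N114912 F492495) (tt N118204 D221463) (tt N96024 (iv2 F410688)) (tt N96317 (iv3 F411999)) (tt N118205 D221464) (tt N56854 (iv5 D196457)) (tt N56855 F400743) (tt N96462 (iv7 F412629)))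
theorem Q93439 : ∀ i, i < 93439 → P i := stepQ 93438 Q93438 (allL N93438 (tt N93867 (iv1 F402210)) (tt N102908 (iv0 F439218)) (tt N96029 (iv2 F410714)) (tt N118206 D221465) (tt N56855 (iv4 D196458)) (tt N97563 (iv5 F417393)) (tt N118205 (iv6 F509134)) (tt N108881 (iv7 F464355)))
theorem Q93440 : ∀ i, i < 93440 → P i := stepQ 93439 Q93439 (allL N93439 (tt N96951 (iv1 F414750)) (tt N118031 F508191) (tt N106460 (iv2 F454545)) (tt N56857 (iv3 D196459)) (tt N57596 F400745) (tt N64157 (iv5 F400746)) (tt N57082 F400744) (tt N96018 (iv7 F410653)))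
theorem Q93441 : ∀ i, i < 93441 → P i := stepQ 93440 Q93440 (allL N93440 (tt N67214 F400749) (tt N56878 (iv0 F400751)) (tt N96009 F410616) (tt N64157 F400747) (tt N79710 F400750) (tt N56857 (iv5 D196460)) (tt N81720 F400748) (tt N96008 F410611))
theorem Q93442 : ∀ i, i < 93442 → P i := stepQ 93441 Q93441 (allL N93441 (tt N106224 F453643) (tt N56864 (iv0 F400752)) (tt N106315 (iv2 F453988)) (tt N56858 (iv3 D196461)) (tt N101941 (iv4 F435027)) (tt N118207 D221466) (tt N116763 (iv6 F501701)) (tt N96019 (iv7 F410659)))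
theorem Q93443 : ∀ i, i < 93443 → P i := stepQ 93442 Q93442 (allL N93442 (tt N56878 F400753) (tt N67214 F400754) (tt N96008 (iv2 F410612)) (tt N118207 (iv3 F509145)) (tt N118208 D221467) (tt N56858 (iv5 D196462)) (tt N118209 D221468) (tt N96009 (iv7 F410614)))
theorem Q93444 : ∀ i, i < 93444 → P i := stepQ 93443 Q93443 (allL N93443 (tt N57155 (iv1 F401544)) (tt N93821 F402042) (tt N93820 F402035) (tt N116763 (iv3 F501699)) (tt N91650 F400755) (tt N112500 (iv5 F481377)) (tt N56858 (iv6 D196463)) (tt N57086 F400756))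
theorem Q93445 : ∀ i, i < 93445 → P i := stepQ 93444 Q93444 (allL N93444 (tt N96020 (iv1 F410668)) (tt N56859 (iv0 D196464)) (tt N96022 F410681) (tt N58732 F400757) (tt N102212 (iv4 F436210)) (tt N59056 F409341) (tt N64942 (iv6 F400758)) (tt N95727 (iv7 F409331)))
theorem Q93446 : ∀ i, i < 93446 → P i := stepQ 93445 Q93445 (allL N93445 (tt N56859 (iv1 D196465)) (tt N96020 (iv0 F410667)) (tt N95727 (iv2 F409337)) (tt N107731 (iv3 F459440)) (tt N118083 (iv4 F508477)) (tt N59057 F400759) (tt N117636 (iv6 F506131)) (tt N96022 (iv7 F410679)))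
theorem Q93447 : ∀ i, i < 93447 → P i := stepQ 93446 Q93446 (allL N93446 (tt N118210 D221469) (tt N118211 D221470) (tt N74216 F400761) (tt N83269 F400762) (tt N103049 (iv4 F439843)) (tt N56860 (iv5 D196466)) (tt N56861 F400763) (tt N118212 D221471))
theorem Q93448 : ∀ i, i < 93448 → P i := stepQ 93447 Q93447 (allL N93447 (tt N74239 (iv1 F400767)) (tt N74238 F400768) (tt N58151 F400764) (tt N58687 F400765) (tt N59501 F400766) (tt N118212 (iv5 F509180)) (tt N95044 (iv6 F406790)) (tt N56860 (iv7 D196467)))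
theorem Q93449 : ∀ i, i < 93449 → P i := stepQ 93448 Q93448 (allL N93448 (tt N57145 F400772) (tt N57144 F400773) (tt N56877 F400770) (tt N93795 (iv3 F401916)) (tt N94533 (iv4 F404869)) (tt N101656 F433724) (tt N56862 (iv6 D196468)) (tt N57096 F400771))
theorem Q93450 : ∀ i, i < 93450 → P i := stepQ 93449 Q93449 (allL N93449 (tt N56864 (iv1 D196469)) (tt N106224 F453644) (tt N96019 F453645) (tt N106460 (iv3 F454546)) (tt N101942 F453646) (tt N111029 (iv5 F474337)) (tt N57100 F453647) (tt N106315 (iv7 F453990)))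
theorem Q93451 : ∀ i, i < 93451 → P i := stepQ 93450 Q93450 (allL N93450 (tt N106315 (iv1 F453991)) (tt N96019 (iv0 F410660)) (tt N56864 (iv2 D196470)) (tt N96321 (iv3 F412020)) (tt N65457 (iv4 F400781)) (tt N96320 F412017) (tt N118213 D221472) (tt N106224 (iv7 F453640)))
theorem Q93452 : ∀ i, i < 93452 → P i := stepQ 93451 Q93451 (allL N93451 (tt N107731 (iv1 F459436)) (tt N95729 (iv0 F409347)) (tt N96320 (iv2 F412012)) (tt N56866 F400774) (tt N96860 (iv4 F414307)) (tt N56864 (iv5 D196471)) (tt N95710 F409250) (tt N107729 (iv7 F459428)))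
theorem Q93453 : ∀ i, i < 93453 → P i := stepQ 93452 Q93452 (allL N93452 (tt N90953 F466434) (tt N118214 D221473) (tt N118213 (iv2 F509184)) (tt N56867 F400775) (tt N106228 (iv4 F453668)) (tt N116366 (iv5 F499741)) (tt N56864 (iv6 D196472)) (tt N118215 D221474))
theorem Q93454 : ∀ i, i < 93454 → P i := stepQ 93453 Q93453 (allL N93453 (tt N96019 F410661) (tt N106315 (iv0 F453992)) (tt N106224 (iv2 F453638)) (tt N56868 F400776) (tt N65458 (iv4 F400777)) (tt N107729 F459429) (tt N114470 (iv6 F490346)) (tt N56864 (iv7 D196473)))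
theorem Q93455 : ∀ i, i < 93455 → P i := stepQ 93454 Q93454 (allL N93454 (tt N94510 F404769) (tt N101827 (iv0 F434539)) (tt N106298 (iv2 F453937)) (tt N56865 (iv3 D196474)) (tt N106226 (iv4 F453651)) (tt N114784 (iv5 F491840)) (tt N112536 (iv6 F481560)) (tt N106297 F453933))
theorem Q93456 : ∀ i, i < 93456 → P i := stepQ 93455 Q93455 (allL N93455 (tt N56871 (iv1 F400787)) (tt N56866 (iv0 D196475)) (tt N74236 (iv2 F400786)) (tt N118027 (iv3 F508164)) (tt N89722 F400784) (tt N78229 F400783) (tt N112137 (iv6 F479689)) (tt N96527 (iv7 F412860)))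
theorem Q93457 : ∀ i, i < 93457 → P i := stepQ 93456 Q93456 (allL N93456 (tt N112646 (iv1 F481979)) (tt N56867 (iv0 D196476)) (tt N96025 (iv2 F410695)) (tt N118029 (iv3 F508179)) (tt N94538 F410696) (tt N114911 (iv5 F492490)) (tt N57127 F410697) (tt N112645 (iv7 F481969)))
theorem Q93458 : ∀ i, i < 93458 → P i := stepQ 93457 Q93457 (allL N93457 (tt N108900 (iv1 F464420)) (tt N98609 F432654) (tt N96474 (iv2 F412670)) (tt N116366 (iv3 F499738)) (tt N112662 (iv4 F482062)) (tt N56867 (iv5 D196477)) (tt N96473 F412668) (tt N108904 (iv7 F464441)))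
theorem Q93459 : ∀ i, i < 93459 → P i := stepQ 93458 Q93458 (allL N93458 (tt N112645 (iv1 F481968)) (tt N96025 (iv0 F419963)) (tt N112646 (iv2 F481973)) (tt N118215 (iv3 F509198)) (tt N98201 (iv4 F419960)) (tt N108904 (iv5 F464437)) (tt N98200 F419958) (tt N56867 (iv7 D196478)))
theorem Q93460 : ∀ i, i < 93460 → P i := stepQ 93459 Q93459 (allL N93459 (tt N77974 F400790) (tt N93408 F400789) (tt N77841 F400788) (tt N110631 (iv3 F472508)) (tt N56869 (iv4 D196479)) (tt N110630 (iv5 F472506)) (tt N118216 D221475) (tt N96528 (iv7 F412866)))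
theorem Q93461 : ∀ i, i < 93461 → P i := stepQ 93460 Q93460 (allL N93460 (tt N103163 (iv1 F440359)) (tt N100129 (iv0 F427597)) (tt N103162 F440353) (tt N56872 F400791) (tt N118216 (iv4 F509206)) (tt N58017 F400792) (tt N56869 (iv6 D196480)) (tt N103161 F440350))
theorem Q93462 : ∀ i, i < 93462 → P i := stepQ 93461 Q93461 (allL N93461 (tt N56872 (iv1 D196481)) (tt N98200 (iv0 F419955)) (tt N74215 (iv2 F400796)) (tt N103016 (iv3 F439682)) (tt N77525 F400794) (tt N85087 F400793) (tt N57113 (iv6 F400795)) (tt N98164 (iv7 F419791)))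
theorem Q93463 : ∀ i, i < 93463 → P i := stepQ 93462 Q93462 (allL N93462 (tt N96430 (iv1 F412492)) (tt N96425 F412470) (tt N56876 F400797) (tt N93753 (iv3 F401776)) (tt N111906 (iv4 F478574)) (tt N57131 F400798) (tt N56873 (iv6 D196482)) (tt N96429 (iv7 F412482)))
theorem Q93464 : ∀ i, i < 93464 → P i := stepQ 93463 Q93463 (allL N93463 (tt N118207 (iv1 F509149)) (tt N111029 (iv0 F474340)) (tt N96480 (iv2 F412690)) (tt N56874 (iv3 D196483)) (tt N118217 D221476) (tt N90323 F400799) (tt N82431 F400800) (tt N112131 (iv7 F479655)))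
theorem Q93465 : ∀ i, i < 93465 → P i := stepQ 93464 Q93464 (allL N93464 (tt N59678 F400802) (tt N59672 F400803) (tt N58028 (iv2 F400804)) (tt N56875 (iv3 D196484)) (tt N60014 F400801) (tt N95282 (iv5 F407707)) (tt N57877 F400805) (tt N95285 (iv7 F407723)))
theorem Q93466 : ∀ i, i < 93466 → P i := stepQ 93465 Q93465 (allL N93465 (tt N107733 F459453) (tt N111047 F474412) (tt N104127 (iv2 F444315)) (tt N57877 F400806) (tt N60015 F400807) (tt N118218 D221477) (tt N56875 (iv6 D196485)) (tt N58024 F400808))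
theorem Q93467 : ∀ i, i < 93467 → P i := stepQ 93466 Q93466 (allL N93466 (tt N96429 (iv1 F412481)) (tt N56876 (iv0 D196486)) (tt N96430 (iv2 F412487)) (tt N95595 F408824) (tt N78738 F400855) (tt N118219 D221478) (tt N82351 (iv6 F400859)) (tt N96425 (iv7 F412469)))
theorem Q93468 : ∀ i, i < 93468 → P i := stepQ 93467 Q93467 (allL N93467 (tt N57096 (iv1 F400809)) (tt N56877 (iv0 D196487)) (tt N57145 F400811) (tt N106828 (iv3 F455868)) (tt N115029 (iv4 F493114)) (tt N112011 (iv5 F479063)) (tt N89463 (iv6 F400810)) (tt N57144 (iv7 F400812)))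
theorem Q93469 : ∀ i, i < 93469 → P i := stepQ 93468 Q93468 (allL N93468 (tt N56877 (iv1 D196488)) (tt N57096 F400813) (tt N57144 (iv2 F400815)) (tt N65048 (iv3 F400816)) (tt N108129 (iv4 F461229)) (tt N65047 (iv5 F400817)) (tt N112208 (iv6 F480061)) (tt N57145 F400814))
theorem Q93470 : ∀ i, i < 93470 → P i := stepQ 93469 Q93469 (allL N93469 (tt N64151 F400820) (tt N79802 F406202) (tt N79800 F400818) (tt N56879 F400819) (tt N97779 (iv4 F418278)) (tt N101565 F434981) (tt N56878 (iv6 D196489)) (tt N79801 (iv7 F400821)))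
theorem Q93471 : ∀ i, i < 93471 → P i := stepQ 93470 Q93470 (allL N93470 (tt N94426 (iv1 F404436)) (tt N56879 (iv0 D196490)) (tt N94423 F404424) (tt N107733 (iv3 F459450)) (tt N78452 F400822) (tt N118220 D221479) (tt N96404 (iv6 F412365)) (tt N94424 (iv7 F404427)))
theorem Q93472 : ∀ i, i < 93472 → P i := stepQ 93471 Q93471 (allL N93471 (tt N56879 (iv1 D196491)) (tt N94426 F404435) (tt N94424 F404428) (tt N79795 (iv3 F400824)) (tt N78453 (iv4 F400823)) (tt N117041 (iv5 F503093)) (tt N112639 (iv6 F481951)) (tt N94423 F404425))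
theorem Q93473 : ∀ i, i < 93473 → P i := stepQ 93472 Q93472 (allL N93472 (tt N118221 D221480) (tt N118222 D221481) (tt N94425 (iv2 F404431)) (tt N101565 (iv3 F434982)) (tt N118223 D221482) (tt N56879 (iv5 D196492)) (tt N65467 F400825) (tt N118224 D221483))
theorem Q93474 : ∀ i, i < 93474 → P i := stepQ 93473 Q93473 (allL N93473 (tt N94424 (iv1 F404426)) (tt N94423 F404430) (tt N94426 (iv2 F404433)) (tt N79801 F400826) (tt N78238 F400827) (tt N118224 (iv5 F509231)) (tt N96014 (iv6 F410638)) (tt N56879 (iv7 D196493)))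
theorem Q93475 : ∀ i, i < 93475 → P i := stepQ 93474 Q93474 (allL N93474 (tt N59088 (iv1 F400830)) (tt N56880 (iv0 D196494)) (tt N59090 (iv2 F400838)) (tt N81220 F400829) (tt N80008 F400828) (tt N74219 F400831) (tt N82486 (iv6 F400833)) (tt N59089 (iv7 F400834)))
theorem Q93476 : ∀ i, i < 93476 → P i := stepQ 93475 Q93475 (allL N93475 (tt N56880 (iv1 D196495)) (tt N59088 (iv0 F400844)) (tt N59089 (iv2 F400843)) (tt N117534 (iv3 F505567)) (tt N80007 F400842) (tt N74220 F400841) (tt N111709 F477603) (tt N59090 F400840))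
theorem Q93477 : ∀ i, i < 93477 → P i := stepQ 93476 Q93476 (allL N93476 (tt N59090 (iv1 F400849)) (tt N59089 F400848) (tt N56880 (iv2 D196496)) (tt N101936 (iv3 F435009)) (tt N76747 F400845) (tt N59077 F400846) (tt N101672 (iv6 F433790)) (tt N59088 F400847))
theorem Q93478 : ∀ i, i < 93478 → P i := stepQ 93477 Q93477 (allL N93477 (tt N93479 (iv1 F400864)) (tt N56881 (iv0 D196497)) (tt N93843 F402113) (tt N57982 (iv3 F400851)) (tt N59092 F400850) (tt N96178 (iv5 F411357)) (tt N96319 (iv6 F412008)) (tt N57979 (iv7 F400852)))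
theorem Q93479 : ∀ i, i < 93479 → P i := stepQ 93478 Q93478 (allL N93478 (tt N56881 (iv1 D196498)) (tt N93479 (iv0 F400863)) (tt N57979 F400857) (tt N59524 (iv3 F400854)) (tt N59093 F400853) (tt N59523 (iv5 F400858)) (tt N57977 (iv6 F400856)) (tt N93843 (iv7 F402115)))
theorem Q93480 : ∀ i, i < 93480 → P i := stepQ 93479 Q93479 (allL N93479 (tt N93478 F400863) (tt N93477 F400864) (tt N93480 (iv2 F400865)) (tt N95583 (iv3 F408756)) (tt N56885 F400861) (tt N56881 (iv5 D196499)) (tt N59095 F400860) (tt N57160 F400862))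
theorem Q93481 : ∀ i, i < 93481 → P i := stepQ 93480 Q93480 (allL N93480 (tt N57979 (iv1 F400869)) (tt N93843 F402114) (tt N93479 F400865) (tt N101673 (iv3 F433794)) (tt N56884 F400866) (tt N57160 F400867) (tt N59094 F400868) (tt N56881 (iv7 D196500)))
theorem Q93482 : ∀ i, i < 93482 → P i := stepQ 93481 Q93481 (allL N93481 (tt N96412 F412408) (tt N93743 (iv0 F406908)) (tt N96452 (iv2 F412577)) (tt N56882 (iv3 D196501)) (tt N100799 (iv4 F430525)) (tt N95063 F406906) (tt N81697 (iv6 F402107)) (tt N93841 (iv7 F402100)))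
theorem Q93483 : ∀ i, i < 93483 → P i := stepQ 93482 Q93482 (allL N93482 (tt N80997 F400873) (tt N59209 F400874) (tt N80994 F400871) (tt N96542 (iv3 F412920)) (tt N56882 (iv4 D196502)) (tt N93827 (iv5 F402050)) (tt N118225 D221484) (tt N80995 F400872))
theorem Q93484 : ∀ i, i < 93484 → P i := stepQ 93483 Q93483 (allL N93483 (tt N112639 F481953) (tt N112637 (iv0 F481944)) (tt N93840 (iv2 F402099)) (tt N81697 F402108) (tt N118225 (iv4 F509234)) (tt N81696 (iv5 F402109)) (tt N56882 (iv6 D196503)) (tt N96455 (iv7 F412590)))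
theorem Q93485 : ∀ i, i < 93485 → P i := stepQ 93484 Q93484 (allL N93484 (tt N81720 F400878) (tt N81721 F400879) (tt N96448 (iv2 F412562)) (tt N56883 (iv3 D196504)) (tt N65583 (iv4 F400876)) (tt N80354 F400875) (tt N65581 F400877) (tt N93839 (iv7 F402096)))
theorem Q93486 : ∀ i, i < 93486 → P i := stepQ 93485 Q93485 (allL N93485 (tt N59209 F400882) (tt N80997 F400883) (tt N80995 F400880) (tt N94687 (iv3 F405527)) (tt N56883 (iv4 D196505)) (tt N93825 (iv5 F402049)) (tt N94686 F405525) (tt N80994 F400881))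
theorem Q93487 : ∀ i, i < 93487 → P i := stepQ 93486 Q93486 (allL N93486 (tt N96419 F412443) (tt N96453 F412583) (tt N93842 (iv2 F402102)) (tt N65581 F400885) (tt N94686 (iv4 F405523)) (tt N108686 (iv5 F463548)) (tt N56883 (iv6 D196506)) (tt N94848 (iv7 F406129)))
theorem Q93488 : ∀ i, i < 93488 → P i := stepQ 93487 Q93487 (allL N93487 (tt N61829 (iv1 F400888)) (tt N56886 (iv0 D196507)) (tt N61828 (iv2 F415020)) (tt N99312 (iv3 F424056)) (tt N71468 F400886) (tt N61808 (iv5 F400891)) (tt N76609 F400890) (tt N61827 F415021))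
theorem Q93489 : ∀ i, i < 93489 → P i := stepQ 93488 Q93488 (allL N93488 (tt N56886 (iv1 D196508)) (tt N61829 (iv0 F400893)) (tt N61827 F415019) (tt N97010 F415017) (tt N71418 F400892) (tt N61809 F400894) (tt N107960 (iv6 F460483)) (tt N61828 (iv7 F415018)))
theorem Q93490 : ∀ i, i < 93490 → P i := stepQ 93489 Q93489 (allL N93489 (tt N61828 (iv1 F400901)) (tt N61827 F400900) (tt N56886 (iv2 D196509)) (tt N61841 F400896) (tt N70892 F400897) (tt N62358 F400898) (tt N110709 (iv6 F472851)) (tt N61829 F400899))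
theorem Q93491 : ∀ i, i < 93491 → P i := stepQ 93490 Q93490 (allL N93490 (tt N61858 (iv1 F400903)) (tt N56887 (iv0 D196510)) (tt N61857 F400914) (tt N62216 F400902) (tt N99347 (iv4 F424204)) (tt N101111 (iv5 F431727)) (tt N110662 (iv6 F472652)) (tt N61856 (iv7 F400904)))
theorem Q93492 : ∀ i, i < 93492 → P i := stepQ 93491 Q93491 (allL N93491 (tt N56887 (iv1 D196511)) (tt N61858 F400910) (tt N61856 (iv2 F400911)) (tt N102701 F438261) (tt N99302 (iv4 F424003)) (tt N108393 (iv5 F462389)) (tt N76835 F400912) (tt N61857 (iv7 F400913)))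
theorem Q93493 : ∀ i, i < 93493 → P i := stepQ 93492 Q93492 (allL N93492 (tt N61857 (iv1 F400915)) (tt N61856 F400909) (tt N56887 (iv2 D196512)) (tt N61850 F400905) (tt N62186 F400906) (tt N90940 F400907) (tt N81923 (iv6 F400916)) (tt N61858 F400908))
theorem Q93494 : ∀ i, i < 93494 → P i := stepQ 93493 Q93493 (allL N93493 (tt N112567 (iv1 F481682)) (tt N93502 (iv0 F400960)) (tt N81923 F400917) (tt N56888 F400918) (tt N62187 F400919) (tt N81847 (iv5 F400921)) (tt N56887 (iv6 D196513)) (tt N81918 F400920))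
theorem Q93495 : ∀ i, i < 93495 → P i := stepQ 93494 Q93494 (allL N93494 (tt N77931 F400925) (tt N77821 F400926) (tt N61854 F400922) (tt N81847 F400923) (tt N110769 (iv4 F473104)) (tt N56888 (iv5 D196514)) (tt N99082 (iv6 F423268)) (tt N77929 F400924))
theorem Q93496 : ∀ i, i < 93496 → P i := stepQ 93495 Q93495 (allL N93495 (tt N74592 (iv1 F400931)) (tt N74582 F400930) (tt N57192 F400927) (tt N74599 F400928) (tt N56889 (iv4 D196515)) (tt N93781 (iv5 F401866)) (tt N118226 D221485) (tt N61916 F400929))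
theorem Q93497 : ∀ i, i < 93497 → P i := stepQ 93496 Q93496 (allL N93496 (tt N118227 D221486) (tt N72671 F426969) (tt N61921 F400932) (tt N99091 (iv3 F423306)) (tt N118226 (iv4 F509239)) (tt N118228 D221487) (tt N56889 (iv6 D196516)) (tt N110685 (iv7 F472757)))
theorem Q93498 : ∀ i, i < 93498 → P i := stepQ 93497 Q93497 (allL N93497 (tt N61925 (iv1 F400937)) (tt N61924 F400936) (tt N56892 F400933) (tt N61871 F400934) (tt N101523 (iv4 F433242)) (tt N56891 (iv5 D196517)) (tt N101454 F433021) (tt N61922 F400935))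
theorem Q93499 : ∀ i, i < 93499 → P i := stepQ 93498 Q93498 (allL N93498 (tt N76823 F402306) (tt N116941 (iv0 F502611)) (tt N56893 F400938) (tt N61872 F400939) (tt N56918 F400940) (tt N101455 (iv5 F433025)) (tt N56891 (iv6 D196518)) (tt N110206 (iv7 F470434)))
theorem Q93500 : ∀ i, i < 93500 → P i := stepQ 93499 Q93499 (allL N93499 (tt N61922 (iv1 F400942)) (tt N56892 (iv0 D196519)) (tt N61925 (iv2 F400944)) (tt N77808 F400941) (tt N78060 F400946) (tt N56987 F400943) (tt N77807 (iv6 F400947)) (tt N61924 (iv7 F400945)))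
theorem Q93501 : ∀ i, i < 93501 → P i := stepQ 93500 Q93500 (allL N93500 (tt N56892 (iv1 D196520)) (tt N61922 F400948) (tt N61924 (iv2 F400951)) (tt N62503 (iv3 F400952)) (tt N92888 (iv4 F400953)) (tt N56988 F400950) (tt N97033 (iv6 F415118)) (tt N61925 F400949))
theorem Q93502 : ∀ i, i < 93502 → P i := stepQ 93501 Q93501 (allL N93501 (tt N118229 D221488) (tt N116834 (iv0 F502083)) (tt N101523 (iv2 F433240)) (tt N97061 (iv3 F415273)) (tt N56892 (iv4 D196521)) (tt N117883 (iv5 F507416)) (tt N81962 (iv6 F400957)) (tt N61926 F400956))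
theorem Q93503 : ∀ i, i < 93503 → P i := stepQ 93502 Q93502 (allL N93502 (tt N93493 F400960) (tt N112524 (iv0 F481502)) (tt N101454 (iv2 F433016)) (tt N56895 F400958) (tt N81962 F400959) (tt N81902 (iv5 F400961)) (tt N56892 (iv6 D196522)) (tt N101450 (iv7 F432997)))
theorem Q93504 : ∀ i, i < 93504 → P i := stepQ 93503 Q93503 (allL N93503 (tt N110206 (iv1 F470436)) (tt N56893 (iv0 D196523)) (tt N76823 (iv2 F400965)) (tt N115118 (iv3 F493577)) (tt N116409 (iv4 F499950)) (tt N118230 D221489) (tt N71880 F456274) (tt N116941 (iv7 F502610)))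
theorem Q93505 : ∀ i, i < 93505 → P i := stepQ 93504 Q93504 (allL N93504 (tt N56893 (iv1 D196524)) (tt N110206 (iv0 F470435)) (tt N116941 (iv2 F502607)) (tt N67066 (iv3 F400962)) (tt N67067 (iv4 F400963)) (tt N118231 D221490) (tt N111365 (iv6 F476029)) (tt N76823 F400964))
theorem Q93506 : ∀ i, i < 93506 → P i := stepQ 93505 Q93505 (allL N93505 (tt N110728 (iv1 F472926)) (tt N100470 (iv0 F429095)) (tt N101455 (iv2 F433022)) (tt N56897 F400966) (tt N100621 (iv4 F429739)) (tt N56893 (iv5 D196525)) (tt N81902 F400967) (tt N113410 (iv7 F485366)))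
theorem Q93507 : ∀ i, i < 93507 → P i := stepQ 93506 Q93506 (allL N93506 (tt N116941 F502612) (tt N76823 (iv0 F400971)) (tt N110206 (iv2 F470431)) (tt N56898 F400968) (tt N56921 F400969) (tt N113410 (iv5 F485365)) (tt N61931 F400970) (tt N56893 (iv7 D196526)))
theorem Q93508 : ∀ i, i < 93508 → P i := stepQ 93507 Q93507 (allL N93507 (tt N101111 (iv1 F431729)) (tt N108393 (iv0 F462391)) (tt N101327 (iv2 F432667)) (tt N56894 (iv3 D196527)) (tt N79153 F400972) (tt N56985 F400973) (tt N106676 (iv6 F455242)) (tt N61882 F400974))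
theorem Q93509 : ∀ i, i < 93509 → P i := stepQ 93508 Q93508 (allL N93508 (tt N97210 (iv1 F415911)) (tt N97209 F415904) (tt N61881 F400975) (tt N106676 (iv3 F455240)) (tt N57304 F400976) (tt N77920 (iv5 F400977)) (tt N56894 (iv6 D196528)) (tt N97208 (iv7 F415900)))
theorem Q93510 : ∀ i, i < 93510 → P i := stepQ 93509 Q93509 (allL N93509 (tt N61887 (iv1 F400984)) (tt N56895 (iv0 D196529)) (tt N61884 F422756) (tt N118232 D221491) (tt N66303 (iv4 F400986)) (tt N118233 D221492) (tt N66301 F400987) (tt N61885 (iv7 F422758)))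
theorem Q93511 : ∀ i, i < 93511 → P i := stepQ 93510 Q93510 (allL N93510 (tt N56895 (iv1 D196530)) (tt N61887 F400978) (tt N61885 (iv2 F422760)) (tt N98915 (iv3 F422769)) (tt N94931 F406388) (tt N118234 D221493) (tt N118235 D221494) (tt N61884 F422759))
theorem Q93512 : ∀ i, i < 93512 → P i := stepQ 93511 Q93511 (allL N93511 (tt N118236 D221495) (tt N118237 D221496) (tt N61886 F400979) (tt N81902 F400980) (tt N118238 D221497) (tt N56895 (iv5 D196531)) (tt N56897 F400981) (tt N101449 (iv7 F432991)))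
theorem Q93513 : ∀ i, i < 93513 → P i := stepQ 93512 Q93512 (allL N93512 (tt N61885 (iv1 F400985)) (tt N61884 F400988) (tt N61887 F400982) (tt N101450 (iv3 F432996)) (tt N97065 (iv4 F415290)) (tt N101449 F432993) (tt N61935 F400983) (tt N56895 (iv7 D196532)))
theorem Q93514 : ∀ i, i < 93514 → P i := stepQ 93513 Q93513 (allL N93513 (tt N76601 F400992) (tt N76835 (iv0 F400994)) (tt N76834 F400993) (tt N56896 (iv3 D196533)) (tt N62203 F400989) (tt N106670 (iv5 F455234)) (tt N71875 F400990) (tt N61890 F400991))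
theorem Q93515 : ∀ i, i < 93515 → P i := stepQ 93514 Q93514 (allL N93514 (tt N110748 (iv1 F473000)) (tt N110752 (iv0 F473016)) (tt N61895 F400995) (tt N113527 F485906) (tt N56897 (iv4 D196534)) (tt N106605 (iv5 F455026)) (tt N118238 (iv6 F509306)) (tt N118239 D221498))
theorem Q93516 : ∀ i, i < 93516 → P i := stepQ 93515 Q93515 (allL N93515 (tt N61894 (iv1 F400998)) (tt N61893 F400999) (tt N61896 F400996) (tt N113410 (iv3 F485368)) (tt N118239 (iv4 F509310)) (tt N56898 F400997) (tt N118240 D221499) (tt N56897 (iv7 D196535)))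
theorem Q93517 : ∀ i, i < 93517 → P i := stepQ 93516 Q93516 (allL N93516 (tt N111548 (iv1 F476863)) (tt N111547 (iv0 F476856)) (tt N56900 F401000) (tt N74584 F401001) (tt N81148 F401002) (tt N118241 D221500) (tt N56899 (iv6 D196536)) (tt N81145 F401003))
theorem Q93518 : ∀ i, i < 93518 → P i := stepQ 93517 Q93517 (allL N93517 (tt N81145 (iv1 F401014)) (tt N56900 (iv0 D196537)) (tt N111548 (iv2 F476858)) (tt N118242 D221501) (tt N81115 F401015) (tt N114978 (iv5 F492876)) (tt N118243 D221502) (tt N111547 (iv7 F476854)))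
theorem Q93519 : ∀ i, i < 93519 → P i := stepQ 93518 Q93518 (allL N93518 (tt N56900 (iv1 D196538)) (tt N81145 F401004) (tt N111547 (iv2 F476851)) (tt N118244 D221503) (tt N81114 F401005) (tt N86201 F401007) (tt N89503 (iv6 F401006)) (tt N111548 (iv7 F476861)))
theorem Q93520 : ∀ i, i < 93520 → P i := stepQ 93519 Q93519 (allL N93519 (tt N118245 D221504) (tt N104767 (iv0 F447174)) (tt N118241 (iv2 F509317)) (tt N56903 F401008) (tt N98505 (iv4 F421156)) (tt N56900 (iv5 D196539)) (tt N74587 F401009) (tt N118246 D221505))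
theorem Q93521 : ∀ i, i < 93521 → P i := stepQ 93520 Q93520 (allL N93520 (tt N111547 F476857) (tt N111548 (iv0 F476862)) (tt N81145 F401010) (tt N56904 F401011) (tt N80536 F401012) (tt N118246 (iv5 F509345)) (tt N74575 F401013) (tt N56900 (iv7 D196540)))
theorem Q93522 : ∀ i, i < 93522 → P i := stepQ 93521 Q93521 (allL N93521 (tt N96053 (iv1 F410825)) (tt N57226 F406836) (tt N96051 F410813) (tt N56901 (iv3 D196541)) (tt N74075 F401016) (tt N96536 (iv5 F412898)) (tt N91620 F406837) (tt N74566 F401017))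
theorem Q93523 : ∀ i, i < 93523 → P i := stepQ 93522 Q93522 (allL N93522 (tt N96026 (iv1 F410703)) (tt N96028 (iv0 F410712)) (tt N74260 F401018) (tt N96536 (iv3 F412897)) (tt N118247 D221506) (tt N56901 (iv5 D196542)) (tt N96535 F412892) (tt N74567 F401019))
theorem Q93524 : ∀ i, i < 93524 → P i := stepQ 93523 Q93523 (allL N93523 (tt N57193 (iv1 F401024)) (tt N74603 (iv0 F401023)) (tt N74601 F401022) (tt N56902 (iv3 D196543)) (tt N58544 F401020) (tt N118248 D221507) (tt N99993 (iv6 F427094)) (tt N72688 F401021))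
theorem Q93525 : ∀ i, i < 93525 → P i := stepQ 93524 Q93524 (allL N93524 (tt N96028 (iv1 F410713)) (tt N96026 (iv0 F410702)) (tt N74567 F401026) (tt N118248 (iv3 F509355)) (tt N109171 (iv4 F465669)) (tt N56902 (iv5 D196544)) (tt N114908 F492475) (tt N74260 F401027))
theorem Q93526 : ∀ i, i < 93526 → P i := stepQ 93525 Q93525 (allL N93525 (tt N74591 (iv1 F401032)) (tt N56903 (iv0 D196545)) (tt N74589 (iv2 F401030)) (tt N91598 (iv3 F401033)) (tt N118249 D221508) (tt N59075 F401028) (tt N113315 (iv6 F484985)) (tt N59074 F401031))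
theorem Q93527 : ∀ i, i < 93527 → P i := stepQ 93526 Q93526 (allL N93526 (tt N108880 (iv1 F464351)) (tt N93416 F401036) (tt N74590 F401034) (tt N98509 (iv3 F421170)) (tt N56903 (iv4 D196546)) (tt N117694 (iv5 F506459)) (tt N74590 F401035) (tt N117693 (iv7 F506453)))
theorem Q93528 : ∀ i, i < 93528 → P i := stepQ 93527 Q93527 (allL N93527 (tt N59074 (iv1 F401039)) (tt N74589 F401040) (tt N74591 F401037) (tt N118246 (iv3 F509343)) (tt N117693 (iv4 F506452)) (tt N56904 F401038) (tt N118250 D221509) (tt N56903 (iv7 D196547)))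
theorem Q93529 : ∀ i, i < 93529 → P i := stepQ 93528 Q93528 (allL N93528 (tt N72987 F401043) (tt N62195 (iv0 F401044)) (tt N72955 F401041) (tt N106515 (iv3 F454735)) (tt N56907 (iv4 D196548)) (tt N114292 (iv5 F489427)) (tt N77465 (iv6 F401045)) (tt N72986 F401042))
theorem Q93530 : ∀ i, i < 93530 → P i := stepQ 93529 Q93529 (allL N93529 (tt N96061 (iv1 F410861)) (tt N56933 F401050) (tt N74583 F401046) (tt N106516 (iv3 F454738)) (tt N77465 F401047) (tt N84796 (iv5 F401049)) (tt N56907 (iv6 D196549)) (tt N85090 F401048))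
theorem Q93531 : ∀ i, i < 93531 → P i := stepQ 93530 Q93530 (allL N93530 (tt N61916 (iv1 F401055)) (tt N57192 (iv0 F401054)) (tt N74592 F401051) (tt N56908 (iv3 D196550)) (tt N93541 (iv4 F401088)) (tt N57135 F401052) (tt N116833 (iv6 F502075)) (tt N74582 F401053))
theorem Q93532 : ∀ i, i < 93532 → P i := stepQ 93531 Q93531 (allL N93531 (tt N62195 F401058) (tt N72987 F401059) (tt N72986 F401056) (tt N62184 F401060) (tt N56908 (iv4 D196551)) (tt N105644 (iv5 F451079)) (tt N112176 F479910) (tt N72955 F401057))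
theorem Q93533 : ∀ i, i < 93533 → P i := stepQ 93532 Q93532 (allL N93532 (tt N110931 F473849) (tt N118187 F509049) (tt N56910 F401061) (tt N65142 F401062) (tt N72930 F401063) (tt N118251 D221510) (tt N56909 (iv6 D196552)) (tt N81144 (iv7 F401064)))
theorem Q93534 : ∀ i, i < 93534 → P i := stepQ 93533 Q93533 (allL N93533 (tt N81144 (iv1 F401065)) (tt N56910 (iv0 D196553)) (tt N110931 (iv2 F473845)) (tt N118252 D221511) (tt N116772 (iv4 F501744)) (tt N118253 D221512) (tt N94417 F404401) (tt N118187 (iv7 F509050)))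
theorem Q93535 : ∀ i, i < 93535 → P i := stepQ 93534 Q93534 (allL N93534 (tt N56910 (iv1 D196554)) (tt N81144 F401066) (tt N118187 F509048) (tt N118254 D221513) (tt N118255 D221514) (tt N118256 D221515) (tt N110939 (iv6 F502951)) (tt N110931 F473850))
theorem Q93536 : ∀ i, i < 93536 → P i := stepQ 93535 Q93535 (allL N93535 (tt N118257 D221516) (tt N101598 (iv0 F459182)) (tt N118251 (iv2 F509373)) (tt N56912 F401067) (tt N81152 (iv4 F401069)) (tt N56910 (iv5 D196555)) (tt N74574 F401068) (tt N118188 (iv7 F509055)))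
theorem Q93537 : ∀ i, i < 93537 → P i := stepQ 93536 Q93536 (allL N93536 (tt N57223 F407856) (tt N96060 F410854) (tt N91565 (iv2 F401073)) (tt N56911 (iv3 D196556)) (tt N74109 F401070) (tt N118258 D221517) (tt N91475 F401071) (tt N65466 F401072))
theorem Q93538 : ∀ i, i < 93538 → P i := stepQ 93537 Q93537 (allL N93537 (tt N94428 (iv1 F404441)) (tt N94427 F404438) (tt N74319 F401074) (tt N118258 (iv3 F509399)) (tt N118259 D221518) (tt N56911 (iv5 D196557)) (tt N118260 D221519) (tt N65467 F401075))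
theorem Q93539 : ∀ i, i < 93539 → P i := stepQ 93538 Q93538 (allL N93538 (tt N74579 (iv1 F401077)) (tt N56912 (iv0 D196558)) (tt N74576 (iv2 F401078)) (tt N88127 (iv3 F401260)) (tt N118261 D221520) (tt N67840 F401076) (tt N108234 (iv6 F461613)) (tt N74577 (iv7 F401079)))
theorem Q93540 : ∀ i, i < 93540 → P i := stepQ 93539 Q93539 (allL N93539 (tt N56912 (iv1 D196559)) (tt N74579 F401080) (tt N74577 (iv2 F401083)) (tt N115621 (iv3 F496006)) (tt N118262 D221521) (tt N57149 F401082) (tt N118263 D221522) (tt N74576 F401081))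
theorem Q93541 : ∀ i, i < 93541 → P i := stepQ 93540 Q93540 (allL N93540 (tt N108856 (iv1 F464268)) (tt N108858 (iv0 F464276)) (tt N74578 F401084) (tt N67773 (iv3 F401087)) (tt N56912 (iv4 D196560)) (tt N67772 F401086) (tt N74578 F401085) (tt N104385 (iv7 F445532)))
theorem Q93542 : ∀ i, i < 93542 → P i := stepQ 93541 Q93541 (allL N93541 (tt N56916 (iv1 F401089)) (tt N56913 (iv0 D196561)) (tt N97010 F415016) (tt N99310 (iv3 F424048)) (tt N93530 F401088) (tt N108470 F462727) (tt N98829 F462729) (tt N97009 F415012))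
theorem Q93543 : ∀ i, i < 93543 → P i := stepQ 93542 Q93542 (allL N93542 (tt N56913 (iv1 D196562)) (tt N56916 F401090) (tt N97009 F415011) (tt N61828 (iv3 F402270)) (tt N93883 F402269) (tt N118264 D221523) (tt N117491 (iv6 F505314)) (tt N97010 (iv7 F415014)))
theorem Q93544 : ∀ i, i < 93544 → P i := stepQ 93543 Q93543 (allL N93543 (tt N72643 F401091) (tt N74087 (iv0 F402383)) (tt N118265 D221524) (tt N56913 (iv3 D196563)) (tt N93908 (iv4 F402381)) (tt N99194 (iv5 F423647)) (tt N99222 (iv6 F423749)) (tt N97011 (iv7 F415023)))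
theorem Q93545 : ∀ i, i < 93545 → P i := stepQ 93544 Q93544 (allL N93544 (tt N98814 F422437) (tt N98820 (iv0 F422472)) (tt N97019 (iv2 F415058)) (tt N99194 F423648) (tt N94980 F423028) (tt N56913 (iv5 D196564)) (tt N94979 (iv6 F423029)) (tt N97012 (iv7 F415025)))
theorem Q93546 : ∀ i, i < 93546 → P i := stepQ 93545 Q93545 (allL N93545 (tt N118266 D221525) (tt N98825 (iv0 F422481)) (tt N97020 (iv2 F415062)) (tt N99222 F423750) (tt N56914 F401092) (tt N112529 F481529) (tt N56913 (iv6 D196565)) (tt N113437 (iv7 F485489)))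
theorem Q93547 : ∀ i, i < 93547 → P i := stepQ 93546 Q93546 (allL N93546 (tt N97022 (iv1 F415076)) (tt N56914 (iv0 D196566)) (tt N93863 (iv2 F402190)) (tt N73085 (iv3 F401094)) (tt N118227 (iv4 F509244)) (tt N73094 (iv5 F401095)) (tt N65056 F401093) (tt N97021 (iv7 F415066)))
theorem Q93548 : ∀ i, i < 93548 → P i := stepQ 93547 Q93547 (allL N93547 (tt N59659 F410237) (tt N59046 (iv0 F401097)) (tt N59660 F401096) (tt N108975 (iv3 F464727)) (tt N64786 F401099) (tt N56914 (iv5 D196567)) (tt N102308 (iv6 F436646)) (tt N59661 (iv7 F401098)))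
theorem Q93549 : ∀ i, i < 93549 → P i := stepQ 93548 Q93548 (allL N93548 (tt N97021 (iv1 F415065)) (tt N93863 (iv0 F407473)) (tt N97022 (iv2 F415071)) (tt N108976 (iv3 F464734)) (tt N113437 (iv4 F485490)) (tt N59661 F401101) (tt N97016 (iv6 F415040)) (tt N56914 (iv7 D196568)))
theorem Q93550 : ∀ i, i < 93550 → P i := stepQ 93549 Q93549 (allL N93549 (tt N66266 F401104) (tt N58057 (iv0 F401105)) (tt N66265 (iv2 F401107)) (tt N56916 (iv3 D196569)) (tt N67745 F401102) (tt N89495 F401106) (tt N112083 (iv6 F479418)) (tt N66264 F401103))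
theorem Q93551 : ∀ i, i < 93551 → P i := stepQ 93550 Q93550 (allL N93550 (tt N98820 (iv1 F422473)) (tt N98814 F422438) (tt N97012 (iv2 F415024)) (tt N89495 F401108) (tt N89500 (iv4 F401109)) (tt N56916 (iv5 D196570)) (tt N89493 (iv6 F401110)) (tt N97019 (iv7 F415060)))
theorem Q93552 : ∀ i, i < 93552 → P i := stepQ 93551 Q93551 (allL N93551 (tt N118267 D221526) (tt N118268 D221527) (tt N97013 (iv2 F415027)) (tt N112083 (iv3 F479417)) (tt N56917 F401111) (tt N118269 D221528) (tt N56916 (iv6 D196571)) (tt N112186 (iv7 F479957)))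
theorem Q93553 : ∀ i, i < 93553 → P i := stepQ 93552 Q93552 (allL N93552 (tt N56917 (iv1 D196572)) (tt N97016 F415041) (tt N93878 (iv2 F415034)) (tt N102313 F436676) (tt N110681 (iv4 F472745)) (tt N108196 (iv5 F461474)) (tt N107842 (iv6 F459958)) (tt N97014 F415033))
theorem Q93554 : ∀ i, i < 93554 → P i := stepQ 93553 Q93553 (allL N93553 (tt N108855 F464265) (tt N100536 (iv0 F433757)) (tt N97015 (iv2 F415037)) (tt N79477 F401112) (tt N64999 F436682) (tt N56917 (iv5 D196573)) (tt N102314 (iv6 F436678)) (tt N112190 (iv7 F479976)))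
theorem Q93555 : ∀ i, i < 93555 → P i := stepQ 93554 Q93554 (allL N93554 (tt N117491 (iv1 F505311)) (tt N117490 (iv0 F505310)) (tt N117493 (iv2 F505316)) (tt N99261 (iv3 F423858)) (tt N56919 (iv4 D196574)) (tt N118270 D221529) (tt N65057 F401113) (tt N110555 (iv7 F472122)))
theorem Q93556 : ∀ i, i < 93556 → P i := stepQ 93555 Q93555 (allL N93555 (tt N110212 (iv1 F470456)) (tt N77536 (iv0 F401116)) (tt N89828 F401117) (tt N56923 F401114) (tt N114825 (iv4 F492076)) (tt N56922 (iv5 D196575)) (tt N61214 (iv6 F401115)) (tt N93898 (iv7 F402334)))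
theorem Q93557 : ∀ i, i < 93557 → P i := stepQ 93556 Q93556 (allL N93556 (tt N83141 F401123) (tt N83142 (iv0 F401124)) (tt N83140 F401119) (tt N56925 F401120) (tt N90103 F401122) (tt N56924 (iv5 D196576)) (tt N118271 D221530) (tt N83139 F401121))
theorem Q93558 : ∀ i, i < 93558 → P i := stepQ 93557 Q93557 (allL N93557 (tt N82411 (iv1 F401129)) (tt N93386 (iv0 F401128)) (tt N93900 (iv2 F402341)) (tt N118271 (iv3 F509450)) (tt N61211 F401125) (tt N82509 F401127) (tt N56925 (iv6 D196577)) (tt N61208 F401126))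
theorem Q93559 : ∀ i, i < 93559 → P i := stepQ 93558 Q93558 (allL N93558 (tt N59205 F401132) (tt N58178 F401133) (tt N93846 F402122) (tt N106784 (iv3 F455666)) (tt N118272 D221531) (tt N56926 (iv5 D196578)) (tt N82509 F401130) (tt N57934 F401131))
theorem Q93560 : ∀ i, i < 93560 → P i := stepQ 93559 Q93559 (allL N93559 (tt N110201 F470408) (tt N96149 (iv0 F411256)) (tt N110202 F470411) (tt N56927 (iv3 D196579)) (tt N106312 (iv4 F453983)) (tt N101932 (iv5 F434992)) (tt N106311 (iv6 F453980)) (tt N102321 (iv7 F436718)))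
theorem Q93561 : ∀ i, i < 93561 → P i := stepQ 93560 Q93560 (allL N93560 (tt N60921 F401135) (tt N108103 (iv0 F461116)) (tt N97828 (iv2 F418438)) (tt N106311 (iv3 F453977)) (tt N86187 F401134) (tt N118183 (iv5 F509035)) (tt N56927 (iv6 D196580)) (tt N97827 (iv7 F418436)))
theorem Q93562 : ∀ i, i < 93562 → P i := stepQ 93561 Q93561 (allL N93561 (tt N98679 F421831) (tt N85651 (iv0 F401138)) (tt N114785 (iv2 F491849)) (tt N56928 (iv3 D196581)) (tt N90111 F401136) (tt N89381 F401137) (tt N98209 (iv6 F420000)) (tt N102320 (iv7 F436714)))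
theorem Q93563 : ∀ i, i < 93563 → P i := stepQ 93562 Q93562 (allL N93562 (tt N70234 F401143) (tt N70229 (iv0 F401144)) (tt N72297 F401139) (tt N78465 F401140) (tt N84804 F401141) (tt N78063 F401142) (tt N56929 (iv6 D196582)) (tt N93721 (iv7 F401667)))
theorem Q93564 : ∀ i, i < 93564 → P i := stepQ 93563 Q93563 (allL N93563 (tt N56933 (iv1 D196583)) (tt N96061 F410862) (tt N85090 (iv2 F401148)) (tt N118147 (iv3 F508853)) (tt N77466 F401147) (tt N76229 F401146) (tt N74619 F401149) (tt N74583 F401145))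
theorem Q93565 : ∀ i, i < 93565 → P i := stepQ 93564 Q93564 (allL N93564 (tt N74583 (iv1 F401153)) (tt N85090 F401152) (tt N56933 (iv2 D196584)) (tt N93788 F401890) (tt N89628 F401150) (tt N76692 F401151) (tt N116846 (iv6 F502148)) (tt N96061 (iv7 F410860)))
theorem Q93566 : ∀ i, i < 93566 → P i := stepQ 93565 Q93565 (allL N93565 (tt N118273 D221532) (tt N101658 (iv0 F433733)) (tt N116846 (iv2 F502146)) (tt N56935 F401154) (tt N89553 F401155) (tt N80578 F401156) (tt N56933 (iv6 D196585)) (tt N110941 (iv7 F473886)))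
theorem Q93567 : ∀ i, i < 93567 → P i := stepQ 93566 Q93566 (allL N93566 (tt N98239 (iv1 F420099)) (tt N78237 (iv0 F401161)) (tt N96063 (iv2 F410868)) (tt N80577 F401158) (tt N78391 F401159) (tt N80575 (iv5 F401163)) (tt N56934 (iv6 D196586)) (tt N66809 F401160))
theorem Q93568 : ∀ i, i < 93568 → P i := stepQ 93567 Q93567 (allL N93567 (tt N57150 F401166) (tt N57148 F401167) (tt N93831 F402063) (tt N80578 F401164) (tt N96376 (iv4 F412294)) (tt N56935 (iv5 D196587)) (tt N80575 F401165) (tt N93832 (iv7 F402066)))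
theorem Q93569 : ∀ i, i < 93569 → P i := stepQ 93568 Q93568 (allL N93568 (tt N91460 F401171) (tt N60237 (iv0 F401174)) (tt N115004 (iv2 F493010)) (tt N56937 (iv3 D196588)) (tt N71546 F401168) (tt N87183 F401169) (tt N118274 D221533) (tt N91414 F401170))
theorem Q93570 : ∀ i, i < 93570 → P i := stepQ 93569 Q93569 (allL N93569 (tt N97171 F415737) (tt N97618 (iv0 F417622)) (tt N91413 F401175) (tt N118274 (iv3 F509463)) (tt N59112 F401176) (tt N69463 F401177) (tt N56937 (iv6 D196589)) (tt N92537 F401178))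
theorem Q93571 : ∀ i, i < 93571 → P i := stepQ 93570 Q93570 (allL N93570 (tt N82173 F401181) (tt N60230 (iv0 F401182)) (tt N117505 (iv2 F505390)) (tt N56942 (iv3 D196590)) (tt N97336 (iv4 F416407)) (tt N73632 F401179) (tt N73635 F401180) (tt N97137 (iv7 F415629)))
theorem Q93572 : ∀ i, i < 93572 → P i := stepQ 93571 Q93571 (allL N93571 (tt N72724 (iv1 F401185)) (tt N92428 (iv0 F401186)) (tt N102750 (iv2 F438484)) (tt N56948 (iv3 D196591)) (tt N71950 F401183) (tt N69036 (iv5 F401184)) (tt N118275 D221534) (tt N95322 (iv7 F407848)))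
theorem Q93573 : ∀ i, i < 93573 → P i := stepQ 93572 Q93572 (allL N93572 (tt N93776 (iv1 F401859)) (tt N73066 (iv0 F401190)) (tt N57221 F401188) (tt N96055 (iv3 F410832)) (tt N56948 (iv4 D196592)) (tt N61916 F401189) (tt N118276 D221535) (tt N93781 (iv7 F401869)))
theorem Q93574 : ∀ i, i < 93574 → P i := stepQ 93573 Q93573 (allL N93573 (tt N94378 F404188) (tt N108690 F463571) (tt N95324 (iv2 F407853)) (tt N118275 (iv3 F509469)) (tt N118276 (iv4 F509476)) (tt N73036 (iv5 F405737)) (tt N56948 (iv6 D196593)) (tt N108714 F463663))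
theorem Q93575 : ∀ i, i < 93575 → P i := stepQ 93574 Q93574 (allL N93574 (tt N74112 F410801) (tt N74115 (iv0 F404250)) (tt N94397 (iv2 F404266)) (tt N56949 (iv3 D196594)) (tt N96049 (iv4 F410798)) (tt N94211 F404249) (tt N97112 (iv6 F415501)) (tt N94394 (iv7 F404261)))
theorem Q93576 : ∀ i, i < 93576 → P i := stepQ 93575 Q93575 (allL N93575 (tt N97107 F415495) (tt N117884 (iv0 F507424)) (tt N95323 (iv2 F407852)) (tt N97112 F415502) (tt N96047 (iv4 F410789)) (tt N118277 D221536) (tt N56949 (iv6 D196595)) (tt N118278 D221537))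
theorem Q93577 : ∀ i, i < 93577 → P i := stepQ 93576 Q93576 (allL N93576 (tt N92459 (iv1 F401195)) (tt N92457 F401194) (tt N56951 F401191) (tt N92502 F401192) (tt N99118 (iv4 F423404)) (tt N56950 (iv5 D196596)) (tt N118279 D221538) (tt N92465 F401193))
theorem Q93578 : ∀ i, i < 93578 → P i := stepQ 93577 Q93577 (allL N93577 (tt N56951 (iv1 D196597)) (tt N92465 F401196) (tt N92457 (iv2 F401199)) (tt N92510 (iv3 F401200)) (tt N99483 (iv4 F424788)) (tt N57036 F401198) (tt N107847 (iv6 F459977)) (tt N92459 F401197))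
theorem Q93579 : ∀ i, i < 93579 → P i := stepQ 93578 Q93578 (allL N93578 (tt N93805 F425128) (tt N118280 D221539) (tt N99118 (iv2 F423402)) (tt N95304 (iv3 F407791)) (tt N56951 (iv4 D196598)) (tt N99112 (iv5 F423381)) (tt N112086 (iv6 F479431)) (tt N92499 F401201))
theorem Q93580 : ∀ i, i < 93580 → P i := stepQ 93579 Q93579 (allL N93579 (tt N107865 F505111) (tt N118281 D221540) (tt N118279 (iv2 F509483)) (tt N56953 F401202) (tt N112086 F479430) (tt N95171 F407300) (tt N56951 (iv6 D196599)) (tt N118282 D221541))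
theorem Q93581 : ∀ i, i < 93581 → P i := stepQ 93580 Q93580 (allL N93580 (tt N107157 (iv1 F457239)) (tt N56952 (iv0 D196600)) (tt N93686 (iv2 F401564)) (tt N117893 (iv3 F507471)) (tt N73063 F401203) (tt N118283 D221542) (tt N93681 F401549) (tt N107858 (iv7 F460021)))
theorem Q93582 : ∀ i, i < 93582 → P i := stepQ 93581 Q93581 (allL N93581 (tt N56952 (iv1 D196601)) (tt N107157 (iv0 F457238)) (tt N107858 (iv2 F460024)) (tt N93694 (iv3 F401587)) (tt N73064 F401204) (tt N107868 (iv5 F460060)) (tt N77862 (iv6 F401205)) (tt N93686 (iv7 F401566)))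
theorem Q93583 : ∀ i, i < 93583 → P i := stepQ 93582 Q93582 (allL N93582 (tt N92507 (iv1 F401212)) (tt N56953 (iv0 D196602)) (tt N92504 (iv2 F438767)) (tt N116538 (iv3 F500669)) (tt N106100 (iv4 F453110)) (tt N115930 (iv5 F497641)) (tt N118284 D221543) (tt N92505 F438766))
theorem Q93584 : ∀ i, i < 93584 → P i := stepQ 93583 Q93583 (allL N93583 (tt N102812 F438748) (tt N102814 F438759) (tt N92506 F401207) (tt N95171 F407299) (tt N118285 D221544) (tt N56953 (iv5 D196604)) (tt N56954 F401208) (tt N102811 (iv7 F438760)))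
theorem Q93585 : ∀ i, i < 93585 → P i := stepQ 93584 Q93584 (allL N93584 (tt N92505 (iv1 F401213)) (tt N92504 F401214) (tt N92507 F401209) (tt N118282 (iv3 F509500)) (tt N91634 F401210) (tt N102811 F438761) (tt N91349 F401211) (tt N56953 (iv7 D196605)))
theorem Q93586 : ∀ i, i < 93586 → P i := stepQ 93585 Q93585 (allL N93585 (tt N99732 (iv1 F425962)) (tt N56954 (iv0 D196606)) (tt N108696 (iv2 F463597)) (tt N116198 (iv3 F498968)) (tt N116955 (iv4 F502687)) (tt N95776 (iv5 F409593)) (tt N118286 D221545) (tt N108697 (iv7 F463599)))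
theorem Q93587 : ∀ i, i < 93587 → P i := stepQ 93586 Q93586 (allL N93586 (tt N56954 (iv1 D196607)) (tt N99732 (iv0 F425961)) (tt N108697 F463602) (tt N94410 F404359) (tt N116984 (iv4 F502826)) (tt N92453 (iv5 F401215)) (tt N106963 (iv6 F456466)) (tt N108696 F463596))
theorem Q93588 : ∀ i, i < 93588 → P i := stepQ 93587 Q93587 (allL N93587 (tt N117864 (iv1 F507339)) (tt N117866 (iv0 F507344)) (tt N108698 (iv2 F463604)) (tt N95166 (iv3 F407280)) (tt N56954 (iv4 D196608)) (tt N102265 (iv5 F436453)) (tt N118285 (iv6 F509517)) (tt N108993 (iv7 F464810)))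
theorem Q93589 : ∀ i, i < 93589 → P i := stepQ 93588 Q93588 (allL N93588 (tt N57169 F401220) (tt N59868 F401221) (tt N57044 F401216) (tt N59525 F401217) (tt N102269 (iv4 F436470)) (tt N56957 (iv5 D196609)) (tt N57032 F401218) (tt N72272 F401219))
theorem Q93590 : ∀ i, i < 93590 → P i := stepQ 93589 Q93589 (allL N93589 (tt N56962 (iv1 F401223)) (tt N56959 (iv0 D196610)) (tt N102305 F436635) (tt N106429 (iv3 F454390)) (tt N57120 F401222) (tt N118287 D221546) (tt N106436 (iv6 F454427)) (tt N102304 F436631))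
theorem Q93591 : ∀ i, i < 93591 → P i := stepQ 93590 Q93590 (allL N93590 (tt N56959 (iv1 D196611)) (tt N56962 F401224) (tt N102304 F436629) (tt N72490 F402422) (tt N93914 (iv4 F402421)) (tt N118288 D221547) (tt N95092 F407002) (tt N102305 (iv7 F436633)))
theorem Q93592 : ∀ i, i < 93592 → P i := stepQ 93591 Q93591 (allL N93591 (tt N118041 (iv1 F508245)) (tt N118289 D221548) (tt N102311 (iv2 F436662)) (tt N92545 F401225) (tt N117885 (iv4 F507425)) (tt N56959 (iv5 D196612)) (tt N95174 F436667) (tt N102306 (iv7 F436640)))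
theorem Q93593 : ∀ i, i < 93593 → P i := stepQ 93592 Q93592 (allL N93592 (tt N118290 D221549) (tt N118291 D221550) (tt N102312 (iv2 F436668)) (tt N99623 (iv3 F425458)) (tt N56960 F401226) (tt N118167 F508971) (tt N56959 (iv6 D196613)) (tt N118175 (iv7 F509012)))
theorem Q93594 : ∀ i, i < 93594 → P i := stepQ 93593 Q93593 (allL N93593 (tt N73528 F459387) (tt N96592 (iv0 F413115)) (tt N102314 (iv2 F436677)) (tt N99628 (iv3 F425484)) (tt N118292 D221551) (tt N56960 (iv5 D196614)) (tt N97015 (iv6 F415038)) (tt N118176 (iv7 F509019)))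
theorem Q93595 : ∀ i, i < 93595 → P i := stepQ 93594 Q93594 (allL N93594 (tt N115009 (iv1 F493038)) (tt N115011 (iv0 F493044)) (tt N99619 (iv2 F425446)) (tt N56963 F401227) (tt N107812 (iv4 F459805)) (tt N118293 D221552) (tt N56961 (iv6 D196616)) (tt N112641 (iv7 F481958)))
theorem Q93596 : ∀ i, i < 93596 → P i := stepQ 93595 Q93595 (allL N93595 (tt N118289 (iv1 F509540)) (tt N118041 (iv0 F508244)) (tt N102306 (iv2 F436638)) (tt N92432 F403889) (tt N117886 F507436) (tt N56962 (iv5 D196617)) (tt N118294 D221553) (tt N102311 (iv7 F436664)))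
theorem Q93597 : ∀ i, i < 93597 → P i := stepQ 93596 Q93596 (allL N93596 (tt N118295 D221554) (tt N118296 D221555) (tt N102307 (iv2 F436641)) (tt N117774 (iv3 F506900)) (tt N56963 F401228) (tt N118297 D221556) (tt N56962 (iv6 D196618)) (tt N118298 D221557))
theorem Q93598 : ∀ i, i < 93598 → P i := stepQ 93597 Q93597 (allL N93597 (tt N56963 (iv1 D196619)) (tt N102309 F436658) (tt N93865 F402202) (tt N97021 F415070) (tt N117884 (iv4 F507422)) (tt N73097 (iv5 F401230)) (tt N99478 (iv6 F424765)) (tt N73085 F401229))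
theorem Q93599 : ∀ i, i < 93599 → P i := stepQ 93598 Q93598 (allL N93598 (tt N64916 (iv1 F401233)) (tt N58726 (iv0 F401232)) (tt N102308 (iv2 F436644)) (tt N118293 (iv3 F509561)) (tt N64841 (iv4 F401234)) (tt N56963 (iv5 D196620)) (tt N59660 F401231) (tt N112767 (iv7 F482565)))
theorem Q93600 : ∀ i, i < 93600 → P i := stepQ 93599 Q93599 (allL N93599 (tt N93865 (iv1 F402201)) (tt N73085 F402203) (tt N102309 (iv2 F436654)) (tt N112641 (iv3 F481959)) (tt N118298 (iv4 F509576)) (tt N112767 (iv5 F482561)) (tt N102315 (iv6 F436694)) (tt N56963 (iv7 D196621)))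
theorem Q93601 : ∀ i, i < 93601 → P i := stepQ 93600 Q93600 (allL N93600 (tt N95099 (iv1 F407033)) (tt N95092 (iv0 F407000)) (tt N107855 (iv2 F460003)) (tt N92516 F401235) (tt N56964 (iv4 D196622)) (tt N92515 F401236) (tt N118299 D221558) (tt N107857 (iv7 F460017)))
theorem Q93602 : ∀ i, i < 93602 → P i := stepQ 93601 Q93601 (allL N93601 (tt N99478 (iv1 F424768)) (tt N103343 (iv0 F441209)) (tt N107856 (iv2 F460009)) (tt N107934 (iv3 F460354)) (tt N118299 (iv4 F509580)) (tt N74008 F401237) (tt N56964 (iv6 D196623)) (tt N118024 (iv7 F508151)))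
theorem Q93603 : ∀ i, i < 93603 → P i := stepQ 93602 Q93602 (allL N93602 (tt N107707 (iv1 F459319)) (tt N107710 (iv0 F459334)) (tt N107839 (iv2 F459933)) (tt N56965 (iv3 D196624)) (tt N107838 (iv4 F459932)) (tt N89438 F401239) (tt N111531 (iv6 F476772)) (tt N107854 (iv7 F460000)))
theorem Q93604 : ∀ i, i < 93604 → P i := stepQ 93603 Q93603 (allL N93603 (tt N95092 (iv1 F407001)) (tt N95099 (iv0 F407032)) (tt N107857 (iv2 F460013)) (tt N94259 (iv3 F403872)) (tt N56965 (iv4 D196625)) (tt N95095 (iv5 F407011)) (tt N94257 F403868) (tt N107855 (iv7 F460004)))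
theorem Q93605 : ∀ i, i < 93605 → P i := stepQ 93604 Q93604 (allL N93604 (tt N107709 F459328) (tt N104246 (iv0 F444913)) (tt N115063 (iv2 F493303)) (tt N56966 (iv3 D196626)) (tt N102766 F438550) (tt N108955 (iv5 F464650)) (tt N114921 (iv6 F492546)) (tt N97037 (iv7 F415143)))
theorem Q93606 : ∀ i, i < 93606 → P i := stepQ 93605 Q93605 (allL N93605 (tt N96130 F424722) (tt N101788 (iv0 F434347)) (tt N107802 (iv2 F459776)) (tt N56967 (iv3 D196627)) (tt N117904 (iv4 F507522)) (tt N108956 (iv5 F464655)) (tt N99315 (iv6 F424069)) (tt N97035 (iv7 F415132)))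
theorem Q93607 : ∀ i, i < 93607 → P i := stepQ 93606 Q93606 (allL N93606 (tt N56968 (iv1 D196628)) (tt N97040 F415161) (tt N74056 F401243) (tt N109309 (iv3 F466322)) (tt N57232 F401241) (tt N109308 (iv5 F466320)) (tt N62615 (iv6 F401242)) (tt N74624 F401240))
theorem Q93608 : ∀ i, i < 93608 → P i := stepQ 93607 Q93607 (allL N93607 (tt N65734 (iv1 F401266)) (tt N111577 F476988) (tt N97039 (iv2 F415151)) (tt N62668 F401244) (tt N97045 (iv4 F415199)) (tt N56968 (iv5 D196629)) (tt N115417 (iv6 F495092)) (tt N97044 (iv7 F415196)))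
theorem Q93609 : ∀ i, i < 93609 → P i := stepQ 93608 Q93608 (allL N93608 (tt N118157 F508917) (tt N118140 (iv0 F508819)) (tt N93774 (iv2 F401850)) (tt N56971 F401245) (tt N73062 F401246) (tt N93737 (iv5 F401716)) (tt N56969 (iv6 D196630)) (tt N94420 (iv7 F404415)))
theorem Q93610 : ∀ i, i < 93610 → P i := stepQ 93609 Q93609 (allL N93609 (tt N56974 (iv1 F401248)) (tt N56970 (iv0 D196631)) (tt N74615 (iv2 F401249)) (tt N107932 (iv3 F460349)) (tt N117647 (iv4 F506199)) (tt N57151 F401247) (tt N109340 (iv6 F466461)) (tt N74616 (iv7 F401250)))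
theorem Q93611 : ∀ i, i < 93611 → P i := stepQ 93610 Q93610 (allL N93610 (tt N56970 (iv1 D196632)) (tt N56974 F401251) (tt N74616 (iv2 F401257)) (tt N90298 (iv3 F401254)) (tt N90661 F401255) (tt N65689 F401253) (tt N90297 F401256) (tt N74615 F401252))
theorem Q93612 : ∀ i, i < 93612 → P i := stepQ 93611 Q93611 (allL N93611 (tt N108942 (iv1 F464599)) (tt N102873 F439038) (tt N74617 F401262) (tt N80934 F401263) (tt N56970 (iv4 D196633)) (tt N65734 F401265) (tt N74032 F401267) (tt N74622 F401264))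
theorem Q93613 : ∀ i, i < 93613 → P i := stepQ 93612 Q93612 (allL N93612 (tt N97359 (iv1 F416489)) (tt N102862 (iv0 F438993)) (tt N74618 F401270) (tt N116455 (iv3 F500217)) (tt N74032 F401271) (tt N90279 (iv5 F401272)) (tt N56970 (iv6 D196634)) (tt N108475 (iv7 F462751)))
theorem Q93614 : ∀ i, i < 93614 → P i := stepQ 93613 Q93613 (allL N93613 (tt N111593 (iv1 F477062)) (tt N102353 (iv0 F436864)) (tt N100686 (iv2 F430010)) (tt N56972 (iv3 D196635)) (tt N58162 F401274) (tt N100685 F430009) (tt N65748 F401275) (tt N58137 F401276))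
theorem Q93615 : ∀ i, i < 93615 → P i := stepQ 93614 Q93614 (allL N93614 (tt N65733 F401280) (tt N57250 F401281) (tt N65735 F401277) (tt N100685 (iv3 F430003)) (tt N111577 (iv4 F476983)) (tt N56972 (iv5 D196636)) (tt N60765 F401278) (tt N58140 F401279))
theorem Q93616 : ∀ i, i < 93616 → P i := stepQ 93615 Q93615 (allL N93615 (tt N73061 (iv1 F401286)) (tt N74611 F401285) (tt N56973 (iv2 D196637)) (tt N74620 F401282) (tt N79426 F401283) (tt N108214 (iv5 F461520)) (tt N94416 (iv6 F404392)) (tt N74612 F401284))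
theorem Q93617 : ∀ i, i < 93617 → P i := stepQ 93616 Q93616 (allL N93616 (tt N81098 F401290) (tt N89989 F401291) (tt N108214 (iv2 F461523)) (tt N56974 F401287) (tt N89482 F401288) (tt N56973 (iv5 D196638)) (tt N111996 (iv6 F479010)) (tt N74613 F401289))
theorem Q93618 : ∀ i, i < 93618 → P i := stepQ 93617 Q93617 (allL N93617 (tt N102873 F439039) (tt N108942 (iv0 F464598)) (tt N74622 F401292) (tt N111583 (iv3 F477014)) (tt N56974 (iv4 D196639)) (tt N111577 (iv5 F476984)) (tt N117562 F505713) (tt N74617 F401293))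
theorem Q93619 : ∀ i, i < 93619 → P i := stepQ 93618 Q93618 (allL N93618 (tt N110477 F471769) (tt N81696 (iv0 F402110)) (tt N74623 F401294) (tt N111996 (iv3 F479009)) (tt N117562 (iv4 F505711)) (tt N93432 F401295) (tt N56974 (iv6 D196640)) (tt N110479 (iv7 F471776)))
theorem Q93620 : ∀ i, i < 93620 → P i := stepQ 93619 Q93619 (allL N93619 (tt N97499 (iv1 F417122)) (tt N92056 (iv0 F401300)) (tt N79573 F401296) (tt N56975 (iv3 D196641)) (tt N73073 F401297) (tt N79572 F401298) (tt N104564 (iv6 F446291)) (tt N74652 F401299))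
theorem Q93621 : ∀ i, i < 93621 → P i := stepQ 93620 Q93620 (allL N93620 (tt N56978 (iv1 D196642)) (tt N80374 (iv0 F401304)) (tt N79516 (iv2 F401302)) (tt N102338 (iv3 F436793)) (tt N79515 F401301) (tt N81209 (iv5 F401305)) (tt N81216 (iv6 F401303)) (tt N111011 (iv7 F474239)))
theorem Q93622 : ∀ i, i < 93622 → P i := stepQ 93621 Q93621 (allL N93621 (tt N111011 (iv1 F474241)) (tt N79516 F401309) (tt N56978 (iv2 D196643)) (tt N97042 (iv3 F415181)) (tt N80378 F401306) (tt N103238 (iv5 F440716)) (tt N56983 F401307) (tt N80374 F401308))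
theorem Q93623 : ∀ i, i < 93623 → P i := stepQ 93622 Q93622 (allL N93622 (tt N111577 (iv1 F476987)) (tt N65734 F401310) (tt N97044 (iv2 F415190)) (tt N118300 D221559) (tt N56979 (iv4 D196644)) (tt N97040 (iv5 F415159)) (tt N103334 (iv6 F441184)) (tt N97039 F415156))
theorem Q93624 : ∀ i, i < 93624 → P i := stepQ 93623 Q93623 (allL N93623 (tt N59427 F401314) (tt N59431 F401315) (tt N87828 F401311) (tt N56982 (iv3 D196645)) (tt N107898 (iv4 F460174)) (tt N92171 F401312) (tt N87827 F401313) (tt N97479 (iv7 F417020)))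
theorem Q93625 : ∀ i, i < 93625 → P i := stepQ 93624 Q93624 (allL N93624 (tt N56985 (iv1 D196646)) (tt N61965 (iv0 F401320)) (tt N61963 F401319) (tt N56992 (iv3 F401317)) (tt N70131 (iv4 F401318)) (tt N70997 F401321) (tt N56990 (iv6 F401322)) (tt N61964 F401316))
theorem Q93626 : ∀ i, i < 93626 → P i := stepQ 93625 Q93625 (allL N93625 (tt N61964 (iv1 F401327)) (tt N61963 F401326) (tt N56985 (iv2 D196647)) (tt N61960 F401323) (tt N62334 F401324) (tt N101327 (iv5 F432669)) (tt N105447 (iv6 F450304)) (tt N61965 F401325))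
theorem Q93627 : ∀ i, i < 93627 → P i := stepQ 93626 Q93626 (allL N93626 (tt N108131 (iv1 F461240)) (tt N108130 F461236) (tt N105447 (iv2 F450302)) (tt N56986 F401328) (tt N62335 F401329) (tt N73474 (iv5 F401331)) (tt N56985 (iv6 D196648)) (tt N71563 F401330))
theorem Q93628 : ∀ i, i < 93628 → P i := stepQ 93627 Q93627 (allL N93627 (tt N99062 (iv1 F423193)) (tt N99061 F423192) (tt N61962 F401332) (tt N73474 F401333) (tt N97225 (iv4 F415976)) (tt N56986 (iv5 D196649)) (tt N77920 F401334) (tt N71565 F401335))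
theorem Q93629 : ∀ i, i < 93629 → P i := stepQ 93628 Q93628 (allL N93628 (tt N61992 (iv1 F401341)) (tt N56995 (iv0 F401340)) (tt N61989 F401336) (tt N56987 (iv3 D196650)) (tt N59007 F401339) (tt N77808 F401337) (tt N106678 (iv6 F455248)) (tt N61990 F401338))
theorem Q93630 : ∀ i, i < 93630 → P i := stepQ 93629 Q93629 (allL N93629 (tt N57118 F401349) (tt N57097 F401346) (tt N57071 F401342) (tt N73759 F401343) (tt N56987 (iv4 D196651)) (tt N92914 F401345) (tt N79182 (iv6 F401350)) (tt N57117 F401344))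
theorem Q93631 : ∀ i, i < 93631 → P i := stepQ 93630 Q93630 (allL N93630 (tt N101633 (iv1 F433634)) (tt N62166 (iv0 F401356)) (tt N62004 F401353) (tt N106678 (iv3 F455247)) (tt N79182 F401354) (tt N79156 F401355) (tt N56987 (iv6 D196652)) (tt N110609 (iv7 F472381)))
theorem Q93632 : ∀ i, i < 93632 → P i := stepQ 93631 Q93631 (allL N93631 (tt N62007 F401361) (tt N61986 F401360) (tt N56990 F401357) (tt N61971 F401358) (tt N108226 (iv4 F461564)) (tt N56989 (iv5 D196653)) (tt N61963 (iv6 F401362)) (tt N62005 F401359))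
theorem Q93633 : ∀ i, i < 93633 → P i := stepQ 93632 Q93632 (allL N93632 (tt N98917 (iv1 F422779)) (tt N118148 F508863) (tt N56991 F401363) (tt N61972 F401364) (tt N57004 F401365) (tt N70993 F401366) (tt N56989 (iv6 D196654)) (tt N70999 (iv7 F401367)))
theorem Q93634 : ∀ i, i < 93634 → P i := stepQ 93633 Q93633 (allL N93633 (tt N110038 F469667) (tt N107759 (iv0 F459599)) (tt N108226 (iv2 F461562)) (tt N70133 F401368) (tt N56990 (iv4 D196655)) (tt N117887 (iv5 F507440)) (tt N70131 F401369) (tt N62008 F401370))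
theorem Q93635 : ∀ i, i < 93635 → P i := stepQ 93634 Q93634 (allL N93634 (tt N56991 (iv1 D196656)) (tt N70999 F401371) (tt N118148 (iv2 F508859)) (tt N61974 (iv3 F422274)) (tt N105154 (iv4 F449032)) (tt N98775 F422271) (tt N118301 D221560) (tt N98917 (iv7 F422776)))
theorem Q93636 : ∀ i, i < 93636 → P i := stepQ 93635 Q93635 (allL N93635 (tt N118148 (iv1 F508864)) (tt N98917 (iv0 F422778)) (tt N70999 F401372) (tt N56996 F401373) (tt N57007 F401374) (tt N70998 F401375) (tt N62013 F401376) (tt N56991 (iv7 D196657)))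
theorem Q93637 : ∀ i, i < 93637 → P i := stepQ 93636 Q93636 (allL N93636 (tt N116937 F502592) (tt N98907 (iv0 F422754)) (tt N61982 F401377) (tt N70997 F401378) (tt N107954 (iv4 F460459)) (tt N56992 (iv5 D196658)) (tt N56995 F401379) (tt N116629 (iv7 F501051)))
theorem Q93638 : ∀ i, i < 93638 → P i := stepQ 93637 Q93637 (allL N93637 (tt N61981 (iv1 F401384)) (tt N61966 F401385) (tt N61983 F401380) (tt N61964 F401381) (tt N66478 F401382) (tt N116629 (iv5 F501052)) (tt N62017 F401383) (tt N56992 (iv7 D196659)))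
theorem Q93639 : ∀ i, i < 93639 → P i := stepQ 93638 Q93638 (allL N93638 (tt N62497 F401389) (tt N62506 F401391) (tt N62504 F401386) (tt N56994 (iv3 D196660)) (tt N92535 F401387) (tt N62302 (iv5 F401390)) (tt N118302 D221561) (tt N61984 F401388))
theorem Q93640 : ∀ i, i < 93640 → P i := stepQ 93639 Q93639 (allL N93639 (tt N99002 (iv1 F423001)) (tt N98885 F422694) (tt N61987 F401392) (tt N62302 F401393) (tt N62304 F401395) (tt N56994 (iv5 D196661)) (tt N118303 D221562) (tt N61985 F401394))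
theorem Q93641 : ∀ i, i < 93641 → P i := stepQ 93640 Q93640 (allL N93640 (tt N98731 (iv1 F422063)) (tt N62164 (iv0 F401400)) (tt N61988 F401396) (tt N118302 (iv3 F509595)) (tt N92534 F401397) (tt N89344 F401399) (tt N56994 (iv6 D196662)) (tt N71547 F401398))
theorem Q93642 : ∀ i, i < 93642 → P i := stepQ 93641 Q93641 (allL N93641 (tt N61990 (iv1 F401404)) (tt N61989 F401405) (tt N61992 F401401) (tt N70998 F401402) (tt N95908 (iv4 F410199)) (tt N56996 F401403) (tt N116495 (iv6 F500436)) (tt N56995 (iv7 D196663)))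
theorem Q93643 : ∀ i, i < 93643 → P i := stepQ 93642 Q93642 (allL N93642 (tt N117111 (iv1 F503455)) (tt N118304 D221563) (tt N73733 F401406) (tt N57001 F401407) (tt N93745 (iv4 F401746)) (tt N103434 (iv5 F441619)) (tt N56999 (iv6 D196664)) (tt N111371 (iv7 F476051)))
theorem Q93644 : ∀ i, i < 93644 → P i := stepQ 93643 Q93643 (allL N93643 (tt N57000 (iv1 D196665)) (tt N57003 F401408) (tt N93754 (iv2 F401778)) (tt N61797 (iv3 F401410)) (tt N93730 F401706) (tt N108120 (iv5 F461193)) (tt N61800 (iv6 F422422)) (tt N61803 F401409))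
theorem Q93645 : ∀ i, i < 93645 → P i := stepQ 93644 Q93644 (allL N93644 (tt N62079 F401413) (tt N62076 (iv0 F401417)) (tt N62049 F401411) (tt N57000 (iv3 D196666)) (tt N93744 (iv4 F401743)) (tt N57624 (iv5 F401414)) (tt N77857 (iv6 F401415)) (tt N62075 F401412))
theorem Q93646 : ∀ i, i < 93646 → P i := stepQ 93645 Q93645 (allL N93645 (tt N108470 (iv1 F462728)) (tt N118264 (iv0 F509429)) (tt N118037 (iv2 F508220)) (tt N57624 F401418) (tt N118229 (iv4 F509257)) (tt N57000 (iv5 D196667)) (tt N57623 (iv6 F401419)) (tt N118036 (iv7 F508217)))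
theorem Q93647 : ∀ i, i < 93647 → P i := stepQ 93646 Q93646 (allL N93646 (tt N101637 (iv1 F433648)) (tt N101639 (iv0 F433660)) (tt N111366 F476033) (tt N77857 F401420) (tt N57001 F401421) (tt N77850 F401422) (tt N57000 (iv6 D196668)) (tt N98830 (iv7 F422487)))
theorem Q93648 : ∀ i, i < 93648 → P i := stepQ 93647 Q93647 (allL N93647 (tt N58902 (iv1 F401428)) (tt N66558 F401427) (tt N57002 (iv2 D196669)) (tt N59179 F401423) (tt N66446 F401424) (tt N62447 F401425) (tt N101939 F435024) (tt N73732 F401426))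
theorem Q93649 : ∀ i, i < 93649 → P i := stepQ 93648 Q93648 (allL N93648 (tt N118264 (iv1 F509430)) (tt N108470 (iv0 F462726)) (tt N118036 (iv2 F508214)) (tt N62048 F401429) (tt N116834 (iv4 F502080)) (tt N57003 (iv5 D196670)) (tt N116832 (iv6 F502070)) (tt N118037 (iv7 F508224)))
theorem Q93650 : ∀ i, i < 93650 → P i := stepQ 93649 Q93649 (allL N93649 (tt N96160 (iv1 F411290)) (tt N57008 (iv0 D196671)) (tt N96162 (iv2 F411297)) (tt N112299 (iv3 F480430)) (tt N90897 F401430) (tt N111613 (iv5 F477152)) (tt N90896 (iv6 F401431)) (tt N58903 (iv7 F401432)))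
theorem Q93651 : ∀ i, i < 93651 → P i := stepQ 93650 Q93650 (allL N93650 (tt N96162 (iv1 F411301)) (tt N58903 F401803) (tt N57008 (iv2 D196672)) (tt N59175 F401433) (tt N71807 F401434) (tt N118305 D221564) (tt N101953 F453914) (tt N96160 (iv7 F411291)))
theorem Q93652 : ∀ i, i < 93652 → P i := stepQ 93651 Q93651 (allL N93651 (tt N77746 F410982) (tt N112668 (iv0 F482097)) (tt N118305 (iv2 F509608)) (tt N57009 F401435) (tt N102773 (iv4 F438581)) (tt N57008 (iv5 D196673)) (tt N99465 (iv6 F424702)) (tt N102852 (iv7 F438949)))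
theorem Q93653 : ∀ i, i < 93653 → P i := stepQ 93652 Q93652 (allL N93652 (tt N57011 (iv1 F401439)) (tt N57009 (iv0 D196674)) (tt N93272 (iv2 F401438)) (tt N99117 (iv3 F423399)) (tt N91633 F401440) (tt N74226 F401436) (tt N91366 (iv6 F401441)) (tt N99480 (iv7 F424777)))
theorem Q93654 : ∀ i, i < 93654 → P i := stepQ 93653 Q93653 (allL N93653 (tt N71057 F401447) (tt N71056 F401448) (tt N59768 F401443) (tt N86393 (iv3 F401449)) (tt N57009 (iv4 D196675)) (tt N59767 F401444) (tt N73665 F401445) (tt N71055 F401446))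
theorem Q93655 : ∀ i, i < 93655 → P i := stepQ 93654 Q93654 (allL N93654 (tt N57010 (iv1 D196676)) (tt N59175 F401454) (tt N59177 (iv2 F401451)) (tt N99471 F424731) (tt N106756 (iv4 F455557)) (tt N110841 (iv5 F473408)) (tt N59190 (iv6 F401452)) (tt N59165 F401450))
theorem Q93656 : ∀ i, i < 93656 → P i := stepQ 93655 Q93655 (allL N93655 (tt N59165 (iv1 F401458)) (tt N59177 F401457) (tt N57010 (iv2 D196677)) (tt N96160 (iv3 F411294)) (tt N73289 F401455) (tt N118306 D221565) (tt N118307 D221566) (tt N59175 F401456))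
theorem Q93657 : ∀ i, i < 93657 → P i := stepQ 93656 Q93656 (allL N93656 (tt N106763 (iv1 F455585)) (tt N77503 (iv0 F401462)) (tt N118306 (iv2 F509615)) (tt N57011 F401459) (tt N71061 F401461) (tt N57010 (iv5 D196678)) (tt N108152 F461323) (tt N92318 F401460))
theorem Q93658 : ∀ i, i < 93658 → P i := stepQ 93657 Q93657 (allL N93657 (tt N116701 (iv1 F501383)) (tt N118308 D221567) (tt N118307 (iv2 F509621)) (tt N57012 F401463) (tt N73290 F401464) (tt N115531 (iv5 F495661)) (tt N57010 (iv6 D196679)) (tt N108654 (iv7 F463380)))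
theorem Q93659 : ∀ i, i < 93659 → P i := stepQ 93658 Q93658 (allL N93658 (tt N111613 F477155) (tt N96161 (iv0 F435091)) (tt N118309 D221568) (tt N57013 (iv3 D196680)) (tt N112707 (iv4 F482277)) (tt N67311 F401465) (tt N118310 D221569) (tt N118035 (iv7 F508212)))
theorem Q93660 : ∀ i, i < 93660 → P i := stepQ 93659 Q93659 (allL N93659 (tt N71054 F401469) (tt N59147 F401470) (tt N58419 F401466) (tt N96807 (iv3 F414049)) (tt N57013 (iv4 D196681)) (tt N58418 F401467) (tt N118311 D221570) (tt N90598 F401468))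
theorem Q93661 : ∀ i, i < 93661 → P i := stepQ 93660 Q93660 (allL N93660 (tt N72972 F401473) (tt N72975 F401474) (tt N72974 F401471) (tt N118310 (iv3 F509636)) (tt N118311 (iv4 F509643)) (tt N67316 F401472) (tt N57013 (iv6 D196682)) (tt N72973 F441244))
theorem Q93662 : ∀ i, i < 93662 → P i := stepQ 93661 Q93661 (allL N93661 (tt N59176 F401477) (tt N110841 (iv0 F473410)) (tt N118312 D221571) (tt N57014 (iv3 D196683)) (tt N74263 F401475) (tt N74634 F401476) (tt N117866 (iv6 F507342)) (tt N108664 (iv7 F463438)))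
theorem Q93663 : ∀ i, i < 93663 → P i := stepQ 93662 Q93662 (allL N93662 (tt N108471 (iv1 F462733)) (tt N108465 (iv0 F462705)) (tt N90597 F401478) (tt N117866 (iv3 F507340)) (tt N66576 F401479) (tt N74638 F401480) (tt N57014 (iv6 D196684)) (tt N90594 (iv7 F401481)))
theorem Q93664 : ∀ i, i < 93664 → P i := stepQ 93663 Q93663 (allL N93663 (tt N92098 (iv1 F401484)) (tt N57015 (iv0 D196685)) (tt N96090 (iv2 F410995)) (tt N117108 (iv3 F503432)) (tt N57078 F401483) (tt N97500 (iv5 F417124)) (tt N108495 F462838) (tt N96093 (iv7 F411010)))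
theorem Q93665 : ∀ i, i < 93665 → P i := stepQ 93664 Q93664 (allL N93664 (tt N57015 (iv1 D196686)) (tt N92098 F401485) (tt N96093 (iv2 F411009)) (tt N95530 F408510) (tt N57079 F401486) (tt N96796 (iv5 F413987)) (tt N74031 (iv6 F401487)) (tt N96090 (iv7 F410996)))
theorem Q93666 : ∀ i, i < 93666 → P i := stepQ 93665 Q93665 (allL N93665 (tt N67892 F401490) (tt N67809 F401491) (tt N71751 F401488) (tt N97729 F418096) (tt N57018 (iv4 D196687)) (tt N103513 (iv5 F441899)) (tt N104724 (iv6 F446994)) (tt N71752 F401489))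
theorem Q93667 : ∀ i, i < 93667 → P i := stepQ 93666 Q93666 (allL N93666 (tt N57025 (iv1 F401494)) (tt N57020 (iv0 D196690)) (tt N96085 (iv2 F410972)) (tt N62386 F401493) (tt N96790 (iv4 F413958)) (tt N67308 F401492) (tt N75519 (iv6 F401495)) (tt N96086 (iv7 F410976)))
theorem Q93668 : ∀ i, i < 93668 → P i := stepQ 93667 Q93667 (allL N93667 (tt N57020 (iv1 D196691)) (tt N57025 F401496) (tt N96086 (iv2 F410980)) (tt N71909 (iv3 F401498)) (tt N96791 (iv4 F413967)) (tt N67307 F401497) (tt N108934 F464556) (tt N96085 (iv7 F410974)))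
theorem Q93669 : ∀ i, i < 93669 → P i := stepQ 93668 Q93668 (allL N93668 (tt N88768 F401500) (tt N92697 F401501) (tt N102345 (iv2 F436828)) (tt N57022 (iv3 D196692)) (tt N97729 (iv4 F418095)) (tt N92686 F401499) (tt N118313 D221572) (tt N104427 F445712))
theorem Q93670 : ∀ i, i < 93670 → P i := stepQ 93669 Q93669 (allL N93669 (tt N65750 F401505) (tt N67352 F401506) (tt N73294 F401502) (tt N118313 (iv3 F509652)) (tt N57023 F401503) (tt N103309 (iv5 F441079)) (tt N57022 (iv6 D196693)) (tt N67497 F401504))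
theorem Q93671 : ∀ i, i < 93671 → P i := stepQ 93670 Q93670 (allL N93670 (tt N57024 (iv1 D196694)) (tt N57113 (iv0 F401511)) (tt N57115 (iv2 F401512)) (tt N72632 (iv3 F401508)) (tt N116997 (iv4 F502888)) (tt N72628 F401509) (tt N57129 (iv6 F401510)) (tt N57099 F401507))
theorem Q93672 : ∀ i, i < 93672 → P i := stepQ 93671 Q93671 (allL N93671 (tt N57099 (iv1 F401515)) (tt N57115 F401514) (tt N57024 (iv2 D196695)) (tt N93807 F401985) (tt N118139 (iv4 F508813)) (tt N116697 (iv5 F501360)) (tt N112084 (iv6 F479422)) (tt N57113 F401513))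
theorem Q93673 : ∀ i, i < 93673 → P i := stepQ 93672 Q93672 (allL N93672 (tt N112209 F480068) (tt N112208 F480063) (tt N112084 (iv2 F479421)) (tt N57026 F401516) (tt N101147 F431928) (tt N118314 D221573) (tt N57024 (iv6 D196696)) (tt N112210 (iv7 F480071)))
theorem Q93674 : ∀ i, i < 93674 → P i := stepQ 93673 Q93673 (allL N93673 (tt N96078 (iv1 F410941)) (tt N91633 F401519) (tt N96087 (iv2 F410983)) (tt N91642 F401520) (tt N57025 (iv4 D196697)) (tt N92089 F401517) (tt N92644 (iv6 F401521)) (tt N74025 F401518))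
theorem Q93675 : ∀ i, i < 93675 → P i := stepQ 93674 Q93674 (allL N93674 (tt N86755 F401525) (tt N73603 (iv0 F401524)) (tt N96088 (iv2 F410986)) (tt N73548 F401522) (tt N92644 F401523) (tt N115915 (iv5 F497565)) (tt N57025 (iv6 D196698)) (tt N103204 (iv7 F440562)))
theorem Q93676 : ∀ i, i < 93676 → P i := stepQ 93675 Q93675 (allL N93675 (tt N74319 F401527) (tt N65467 F401528) (tt N94427 F404439) (tt N118314 (iv3 F509656)) (tt N118184 (iv4 F509039)) (tt N57026 (iv5 D196699)) (tt N115915 F497568) (tt N94428 (iv7 F404442)))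
theorem Q93677 : ∀ i, i < 93677 → P i := stepQ 93676 Q93676 (allL N93676 (tt N118315 D221574) (tt N57030 (iv0 D196700)) (tt N97680 (iv2 F417885)) (tt N95849 (iv3 F409945)) (tt N74913 (iv4 F409941)) (tt N95848 F409940) (tt N67259 F401529) (tt N102407 (iv7 F437105)))
theorem Q93678 : ∀ i, i < 93678 → P i := stepQ 93677 Q93677 (allL N93677 (tt N57030 (iv1 D196701)) (tt N118315 F509662) (tt N102407 (iv2 F437103)) (tt N60761 F401532) (tt N74914 F401530) (tt N60760 (iv5 F401531)) (tt N118316 D221575) (tt N97680 (iv7 F417887)))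
theorem Q93679 : ∀ i, i < 93679 → P i := stepQ 93678 Q93678 (allL N93678 (tt N97680 F417888) (tt N102407 F437107) (tt N57030 (iv2 D196702)) (tt N104284 (iv3 F445092)) (tt N104063 (iv4 F443998)) (tt N80219 F401533) (tt N92923 F401534) (tt N118315 (iv7 F509663)))
theorem Q93680 : ∀ i, i < 93680 → P i := stepQ 93679 Q93679 (allL N93679 (tt N102407 F437108) (tt N97680 F426317) (tt N118315 F509661) (tt N57031 F401535) (tt N70744 F401536) (tt N92083 F401537) (tt N104278 (iv6 F445079)) (tt N57030 (iv7 D196703)))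
theorem Q93681 : ∀ i, i < 93681 → P i := stepQ 93680 Q93680 (allL N93680 (tt N92515 (iv1 F401542)) (tt N95095 (iv0 F407013)) (tt N92458 F401539) (tt N92511 F401540) (tt N73074 F401541) (tt N73052 F405739) (tt N57036 (iv6 D196704)) (tt N106462 (iv7 F454557)))
theorem Q93682 : ∀ i, i < 93682 → P i := stepQ 93681 Q93681 (allL N93681 (tt N92462 (iv1 F401550)) (tt N92461 F401548) (tt N57038 F401545) (tt N92475 F401546) (tt N99022 (iv4 F423068)) (tt N57037 (iv5 D196705)) (tt N93580 (iv6 F401549)) (tt N92460 F401547))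
theorem Q93683 : ∀ i, i < 93683 → P i := stepQ 93682 Q93682 (allL N93682 (tt N118167 (iv1 F508970)) (tt N106982 F456514) (tt N57039 F401551) (tt N92476 F401552) (tt N57049 F401553) (tt N118317 D221576) (tt N57037 (iv6 D196706)) (tt N107847 (iv7 F459978)))
theorem Q93684 : ∀ i, i < 93684 → P i := stepQ 93683 Q93683 (allL N93683 (tt N92460 (iv1 F401555)) (tt N57038 (iv0 D196707)) (tt N92462 (iv2 F401557)) (tt N74728 F401554) (tt N108665 (iv4 F463443)) (tt N58395 F401556) (tt N117804 (iv6 F507054)) (tt N92461 (iv7 F401558)))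
theorem Q93685 : ∀ i, i < 93685 → P i := stepQ 93684 Q93684 (allL N93684 (tt N57038 (iv1 D196708)) (tt N92460 F401559) (tt N92461 (iv2 F401562)) (tt N57625 (iv3 F404246)) (tt N95172 (iv4 F407302)) (tt N58396 F401561) (tt N95091 (iv6 F406996)) (tt N92462 F401560))
theorem Q93686 : ∀ i, i < 93686 → P i := stepQ 93685 Q93685 (allL N93685 (tt N116631 (iv1 F501067)) (tt N95089 (iv0 F412404)) (tt N99022 (iv2 F423066)) (tt N93936 (iv3 F402487)) (tt N57038 (iv4 D196709)) (tt N99012 (iv5 F423026)) (tt N93933 (iv6 F402470)) (tt N92463 F401563))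
theorem Q93687 : ∀ i, i < 93687 → P i := stepQ 93686 Q93686 (allL N93686 (tt N73043 F402473) (tt N73042 (iv0 F401567)) (tt N93580 F401564) (tt N57040 F401565) (tt N93933 F402468) (tt N95076 (iv5 F406960)) (tt N57038 (iv6 D196710)) (tt N93581 F401566))
theorem Q93688 : ∀ i, i < 93688 → P i := stepQ 93687 Q93687 (allL N93687 (tt N107847 (iv1 F459979)) (tt N57039 (iv0 D196711)) (tt N118167 (iv2 F508965)) (tt N90966 F401568) (tt N105380 (iv4 F449975)) (tt N102312 F436671) (tt N107861 F460038) (tt N106982 (iv7 F456512)))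
theorem Q93689 : ∀ i, i < 93689 → P i := stepQ 93688 Q93688 (allL N93688 (tt N57039 (iv1 D196712)) (tt N107847 F459980) (tt N106982 (iv2 F456511)) (tt N92513 (iv3 F401569)) (tt N117529 (iv4 F505535)) (tt N118175 (iv5 F509013)) (tt N118318 D221577) (tt N118167 (iv7 F508968)))
theorem Q93690 : ∀ i, i < 93690 → P i := stepQ 93689 Q93689 (allL N93689 (tt N118319 D221578) (tt N118320 D221579) (tt N118317 (iv2 F509671)) (tt N57042 F401570) (tt N95077 (iv4 F406963)) (tt N57039 (iv5 D196713)) (tt N95076 F406961) (tt N112081 (iv7 F479408)))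
theorem Q93691 : ∀ i, i < 93691 → P i := stepQ 93690 Q93690 (allL N93690 (tt N106982 F456513) (tt N118167 (iv0 F508969)) (tt N107847 (iv2 F459976)) (tt N57043 F401571) (tt N57052 F401572) (tt N112081 (iv5 F479406)) (tt N92457 F401573) (tt N57039 (iv7 D196714)))
theorem Q93692 : ∀ i, i < 93692 → P i := stepQ 93691 Q93691 (allL N93691 (tt N92487 (iv1 F401582)) (tt N57040 (iv0 D196715)) (tt N91393 (iv2 F401578)) (tt N118321 D221580) (tt N91389 F401579) (tt N118322 D221581) (tt N91388 F401580) (tt N92485 F401581))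
theorem Q93693 : ∀ i, i < 93693 → P i := stepQ 93692 Q93692 (allL N93692 (tt N57040 (iv1 D196716)) (tt N92487 F401574) (tt N92485 (iv2 F401576)) (tt N117067 (iv3 F503211)) (tt N91394 F401575) (tt N118323 D221582) (tt N99673 (iv6 F425689)) (tt N91393 (iv7 F401577)))
theorem Q93694 : ∀ i, i < 93694 → P i := stepQ 93693 Q93693 (allL N93693 (tt N118324 D221583) (tt N106962 (iv0 F456464)) (tt N92486 F401583) (tt N95076 (iv3 F406959)) (tt N79586 (iv4 F401585)) (tt N57040 (iv5 D196717)) (tt N57042 F401584) (tt N112496 (iv7 F481358)))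
theorem Q93695 : ∀ i, i < 93695 → P i := stepQ 93694 Q93694 (allL N93694 (tt N92485 (iv1 F401589)) (tt N91393 F401590) (tt N92487 F401586) (tt N93581 F401587) (tt N95534 (iv4 F408527)) (tt N112496 (iv5 F481356)) (tt N92469 F401588) (tt N57040 (iv7 D196718)))
theorem Q93696 : ∀ i, i < 93696 → P i := stepQ 93695 Q93695 (allL N93695 (tt N73329 F438038) (tt N92314 F447323) (tt N111529 (iv2 F476758)) (tt N57041 (iv3 D196719)) (tt N102647 (iv4 F438034)) (tt N110694 (iv5 F472787)) (tt N110509 (iv6 F471906)) (tt N92454 F401591))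
theorem Q93697 : ∀ i, i < 93697 → P i := stepQ 93696 Q93696 (allL N93696 (tt N102876 (iv1 F439056)) (tt N77865 F401594) (tt N92452 F401592) (tt N110694 (iv3 F472784)) (tt N102707 (iv4 F438292)) (tt N57041 (iv5 D196720)) (tt N102705 F438284) (tt N92455 F401593))
theorem Q93698 : ∀ i, i < 93698 → P i := stepQ 93697 Q93697 (allL N93697 (tt N92520 F401597) (tt N107864 F460047) (tt N92453 F401595) (tt N110509 (iv3 F471905)) (tt N60084 F401596) (tt N108697 (iv5 F463600)) (tt N57041 (iv6 D196721)) (tt N95776 (iv7 F409592)))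
theorem Q93699 : ∀ i, i < 93699 → P i := stepQ 93698 Q93698 (allL N93698 (tt N92490 (iv1 F401600)) (tt N57042 (iv0 D196722)) (tt N92488 (iv2 F401599)) (tt N118325 D221584) (tt N97070 (iv4 F415317)) (tt N66436 F401598) (tt N74306 F401602) (tt N92489 F401601))
theorem Q93700 : ∀ i, i < 93700 → P i := stepQ 93699 Q93699 (allL N93699 (tt N57044 (iv1 D196723)) (tt N72272 F401603) (tt N59868 F401607) (tt N57066 F401608) (tt N107864 (iv4 F460043)) (tt N59338 (iv5 F401605)) (tt N73304 (iv6 F401606)) (tt N57169 F401604))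
theorem Q93701 : ∀ i, i < 93701 → P i := stepQ 93700 Q93700 (allL N93700 (tt N57047 (iv1 F401611)) (tt N57045 (iv0 D196724)) (tt N108302 (iv2 F461971)) (tt N66250 F401610) (tt N57135 F401609) (tt N118174 (iv5 F509007)) (tt N93702 (iv6 F425127)) (tt N92916 (iv7 F401612)))
theorem Q93702 : ∀ i, i < 93702 → P i := stepQ 93701 Q93701 (allL N93701 (tt N57045 (iv1 D196725)) (tt N57047 F401613) (tt N92916 F401615) (tt N69702 F401616) (tt N92915 (iv4 F401614)) (tt N118299 (iv5 F509581)) (tt N107849 (iv6 F459985)) (tt N108302 (iv7 F461968)))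
theorem Q93703 : ∀ i, i < 93703 → P i := stepQ 93702 Q93702 (allL N93702 (tt N118287 (iv1 F509532)) (tt N118288 (iv0 F509538)) (tt N117848 (iv2 F507248)) (tt N99553 (iv3 F425120)) (tt N93805 (iv4 F425125)) (tt N57045 (iv5 D196726)) (tt N93700 F425127) (tt N108303 (iv7 F461974)))
theorem Q93704 : ∀ i, i < 93704 → P i := stepQ 93703 Q93703 (allL N93703 (tt N95159 (iv1 F425111)) (tt N95163 F425110) (tt N99551 (iv2 F425106)) (tt N57048 F401617) (tt N93763 (iv4 F401814)) (tt N73079 (iv5 F401618)) (tt N57046 (iv6 D196727)) (tt N112486 (iv7 F481301)))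
theorem Q93705 : ∀ i, i < 93705 → P i := stepQ 93704 Q93704 (allL N93704 (tt N118288 (iv1 F509539)) (tt N118287 (iv0 F509531)) (tt N108303 (iv2 F461972)) (tt N108022 F460778) (tt N118280 F509491) (tt N57047 (iv5 D196728)) (tt N108718 (iv6 F463677)) (tt N117848 (iv7 F507251)))
theorem Q93706 : ∀ i, i < 93706 → P i := stepQ 93705 Q93705 (allL N93705 (tt N118283 (iv1 F509509)) (tt N107868 F460063) (tt N108304 (iv2 F461975)) (tt N99733 (iv3 F425963)) (tt N57048 F401619) (tt N73048 (iv5 F401620)) (tt N57047 (iv6 D196729)) (tt N108994 (iv7 F464814)))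
theorem Q93707 : ∀ i, i < 93707 → P i := stepQ 93706 Q93706 (allL N93706 (tt N108298 (iv1 F461957)) (tt N108325 F462070) (tt N108158 (iv2 F461335)) (tt N57050 (iv3 D196730)) (tt N90302 (iv4 F401621)) (tt N107705 (iv5 F459309)) (tt N115053 (iv6 F493246)) (tt N107704 F459306))
theorem Q93708 : ∀ i, i < 93708 → P i := stepQ 93707 Q93707 (allL N93707 (tt N107849 (iv1 F459983)) (tt N107848 F459982) (tt N107850 (iv2 F459987)) (tt N117606 F505969) (tt N57050 (iv4 D196731)) (tt N118326 D221585) (tt N118327 D221586) (tt N107717 (iv7 F459371)))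
theorem Q93709 : ∀ i, i < 93709 → P i := stepQ 93708 Q93708 (allL N93708 (tt N97575 F417436) (tt N95726 (iv0 F409329)) (tt N101933 F434998) (tt N115053 (iv3 F493243)) (tt N118327 (iv4 F509724)) (tt N73095 (iv5 F401622)) (tt N57050 (iv6 D196732)) (tt N101934 (iv7 F435001)))
theorem Q93710 : ∀ i, i < 93710 → P i := stepQ 93709 Q93709 (allL N93709 (tt N59188 (iv1 F401626)) (tt N57053 (iv0 D196733)) (tt N59190 (iv2 F401623)) (tt N108325 (iv3 F462067)) (tt N86341 (iv4 F401628)) (tt N117595 (iv5 F505901)) (tt N59177 F401624) (tt N59178 F401625))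
theorem Q93711 : ∀ i, i < 93711 → P i := stepQ 93710 Q93710 (allL N93710 (tt N59190 (iv1 F401632)) (tt N59178 F401631) (tt N57053 (iv2 D196734)) (tt N90287 F401629) (tt N91063 (iv4 F401633)) (tt N118328 D221587) (tt N109591 (iv6 F467621)) (tt N59188 F401630))
theorem Q93712 : ∀ i, i < 93712 → P i := stepQ 93711 Q93711 (allL N93711 (tt N118329 D221588) (tt N59037 (iv0 F401638)) (tt N91063 F401634) (tt N59014 F401635) (tt N57053 (iv4 D196735)) (tt N100641 (iv5 F429802)) (tt N75802 (iv6 F401637)) (tt N62415 F401636))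
theorem Q93713 : ∀ i, i < 93713 → P i := stepQ 93712 Q93712 (allL N93712 (tt N118330 D221589) (tt N117533 (iv0 F505564)) (tt N118328 (iv2 F509725)) (tt N57054 F401639) (tt N95978 F449931) (tt N57053 (iv5 D196736)) (tt N98219 (iv6 F420034)) (tt N105628 (iv7 F451025)))
theorem Q93714 : ∀ i, i < 93714 → P i := stepQ 93713 Q93713 (allL N93713 (tt N90541 (iv1 F401642)) (tt N118331 D221590) (tt N109591 (iv2 F467620)) (tt N57055 F401640) (tt N75802 F401641) (tt N97037 (iv5 F415141)) (tt N57053 (iv6 D196737)) (tt N108955 (iv7 F464652)))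
theorem Q93715 : ∀ i, i < 93715 → P i := stepQ 93714 Q93714 (allL N93714 (tt N57056 (iv1 D196738)) (tt N90287 F401646) (tt N90896 F401645) (tt N101790 F434359) (tt N84986 (iv4 F401644)) (tt N118332 D221591) (tt N96162 (iv6 F411299)) (tt N58904 F401643))
theorem Q93716 : ∀ i, i < 93716 → P i := stepQ 93715 Q93715 (allL N93715 (tt N58904 (iv1 F401651)) (tt N90896 F401650) (tt N57056 (iv2 D196739)) (tt N59188 F401647) (tt N71861 F401648) (tt N118333 D221592) (tt N101947 (iv6 F473675)) (tt N90287 F401649))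
theorem Q93717 : ∀ i, i < 93717 → P i := stepQ 93716 Q93716 (allL N93716 (tt N117271 (iv1 F504216)) (tt N107831 (iv0 F459911)) (tt N118333 (iv2 F509757)) (tt N57057 F401652) (tt N118334 D221593) (tt N57056 (iv5 D196740)) (tt N113240 (iv6 F484668)) (tt N118040 (iv7 F508241)))
theorem Q93718 : ∀ i, i < 93718 → P i := stepQ 93717 Q93717 (allL N93717 (tt N78242 F401655) (tt N98134 (iv0 F419622)) (tt N98220 (iv2 F420036)) (tt N61122 (iv3 F401657)) (tt N57057 (iv4 D196741)) (tt N61118 F401653) (tt N92985 (iv6 F401656)) (tt N66784 F401654))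
theorem Q93719 : ∀ i, i < 93719 → P i := stepQ 93718 Q93718 (allL N93718 (tt N57944 F401659) (tt N82246 (iv0 F401660)) (tt N105626 F451018) (tt N113240 F484667) (tt N92985 F401658) (tt N101413 (iv5 F432900)) (tt N57057 (iv6 D196742)) (tt N98215 (iv7 F420019)))
theorem Q93720 : ∀ i, i < 93720 → P i := stepQ 93719 Q93719 (allL N93719 (tt N117595 F505905) (tt N59189 F452926) (tt N118335 D221594) (tt N57058 (iv3 D196743)) (tt N118336 D221595) (tt N93387 F401661) (tt N94751 F405814) (tt N103043 (iv7 F439810)))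
theorem Q93721 : ∀ i, i < 93721 → P i := stepQ 93720 Q93720 (allL N93720 (tt N96159 F411289) (tt N118332 (iv0 F509754)) (tt N116785 (iv2 F501820)) (tt N57059 (iv3 D196744)) (tt N78859 F401662) (tt N90285 F401663) (tt N61195 F401664) (tt N110946 (iv7 F473908)))
theorem Q93722 : ∀ i, i < 93722 → P i := stepQ 93721 Q93721 (allL N93721 (tt N105436 (iv1 F450265)) (tt N105441 F450280) (tt N72211 F401665) (tt N95169 (iv3 F407289)) (tt N98260 (iv4 F420222)) (tt N72210 F401666) (tt N57060 (iv6 D196745)) (tt N93562 F401667))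
theorem Q93723 : ∀ i, i < 93723 → P i := stepQ 93722 Q93722 (allL N93722 (tt N57129 (iv1 F401671)) (tt N57116 F401670) (tt N57061 (iv2 D196746)) (tt N93801 (iv3 F401950)) (tt N73549 F401668) (tt N116786 (iv5 F501828)) (tt N112181 (iv6 F479930)) (tt N57127 F401669))
theorem Q93724 : ∀ i, i < 93724 → P i := stepQ 93723 Q93723 (allL N93723 (tt N118337 D221596) (tt N111044 (iv0 F474405)) (tt N116786 (iv2 F501825)) (tt N57062 F401672) (tt N107315 (iv4 F457934)) (tt N57061 (iv5 D196747)) (tt N90164 F401673) (tt N96101 (iv7 F411061)))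
theorem Q93725 : ∀ i, i < 93725 → P i := stepQ 93724 Q93724 (allL N93724 (tt N94413 (iv1 F404377)) (tt N60125 F401677) (tt N66532 F401674) (tt N91089 F401675) (tt N76388 (iv4 F401679)) (tt N57064 (iv5 D196748)) (tt N66688 F401678) (tt N66535 F401676))
theorem Q93726 : ∀ i, i < 93726 → P i := stepQ 93725 Q93725 (allL N93725 (tt N65933 F401685) (tt N65930 F401686) (tt N66533 F401681) (tt N78648 F401682) (tt N57065 F401683) (tt N62666 F401684) (tt N57064 (iv6 D196749)) (tt N94442 (iv7 F404484)))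
theorem Q93727 : ∀ i, i < 93727 → P i := stepQ 93726 Q93726 (allL N93726 (tt N114567 (iv1 F490806)) (tt N118159 F508927) (tt N118043 (iv2 F508253)) (tt N57069 F401690) (tt N118338 D221597) (tt N57068 (iv5 D196753)) (tt N114471 (iv6 F490351)) (tt N96099 (iv7 F411050)))
theorem Q93728 : ∀ i, i < 93728 → P i := stepQ 93727 Q93727 (allL N93727 (tt N100780 (iv1 F430441)) (tt N98487 (iv0 F421099)) (tt N96102 (iv2 F411062)) (tt N76393 (iv3 F401693)) (tt N57069 (iv4 D196754)) (tt N76388 F401692) (tt N92964 (iv6 F401694)) (tt N61312 F401691))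
theorem Q93729 : ∀ i, i < 93729 → P i := stepQ 93728 Q93728 (allL N93728 (tt N118339 D221598) (tt N83260 (iv0 F401697)) (tt N96103 (iv2 F411066)) (tt N114471 (iv3 F490350)) (tt N92964 F401696) (tt N118197 (iv5 F509094)) (tt N57069 (iv6 D196755)) (tt N103030 (iv7 F439742)))
theorem Q93730 : ∀ i, i < 93730 → P i := stepQ 93729 Q93729 (allL N93729 (tt N60125 F401701) (tt N94413 F404376) (tt N66535 F401698) (tt N106103 (iv3 F453119)) (tt N61487 F401699) (tt N57070 (iv5 D196756)) (tt N61486 F401702) (tt N66532 F401700))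
theorem Q93731 : ∀ i, i < 93731 → P i := stepQ 93730 Q93730 (allL N93730 (tt N57071 (iv1 D196757)) (tt N57117 F401703) (tt N57097 F401707) (tt N57101 (iv3 F401705)) (tt N93643 (iv4 F401706)) (tt N93914 (iv5 F402418)) (tt N98817 (iv6 F422457)) (tt N57118 F401704))
theorem Q93732 : ∀ i, i < 93732 → P i := stepQ 93731 Q93731 (allL N93731 (tt N116986 (iv1 F502840)) (tt N99894 (iv0 F426713)) (tt N57076 F401708) (tt N96081 (iv3 F410952)) (tt N110048 (iv4 F469724)) (tt N57073 (iv5 D196758)) (tt N93932 (iv6 F402464)) (tt N107169 (iv7 F457307)))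
theorem Q93733 : ∀ i, i < 93733 → P i := stepQ 93732 Q93732 (allL N93732 (tt N95967 (iv1 F452866)) (tt N108015 (iv0 F460740)) (tt N106757 (iv2 F455563)) (tt N57075 (iv3 D196759)) (tt N106043 (iv4 F452872)) (tt N115931 (iv5 F497646)) (tt N112216 (iv6 F480092)) (tt N103174 F440415))
theorem Q93734 : ∀ i, i < 93734 → P i := stepQ 93733 Q93733 (allL N93733 (tt N107169 (iv1 F457309)) (tt N57076 (iv0 D196760)) (tt N116986 (iv2 F502836)) (tt N72631 F401709) (tt N99853 (iv4 F426543)) (tt N78230 F401710) (tt N99300 (iv6 F423993)) (tt N99894 (iv7 F426711)))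
theorem Q93735 : ∀ i, i < 93735 → P i := stepQ 93734 Q93734 (allL N93734 (tt N99894 (iv1 F426714)) (tt N116986 F502839) (tt N107169 (iv2 F457303)) (tt N57081 F401711) (tt N101242 (iv4 F432370)) (tt N57077 F401712) (tt N70217 (iv6 F401713)) (tt N57076 (iv7 D196761)))
theorem Q93736 : ∀ i, i < 93736 → P i := stepQ 93735 Q93735 (allL N93735 (tt N116613 (iv1 F500977)) (tt N89985 (iv0 F417953)) (tt N116612 F500969) (tt N57078 (iv3 D196762)) (tt N89978 (iv4 F417952)) (tt N78226 F401714) (tt N112635 (iv6 F481934)) (tt N96092 (iv7 F411006)))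
theorem Q93737 : ∀ i, i < 93737 → P i := stepQ 93736 Q93736 (allL N93736 (tt N99350 F424223) (tt N118340 D221599) (tt N96091 (iv2 F411002)) (tt N112635 (iv3 F481933)) (tt N108495 (iv4 F462840)) (tt N74235 F401715) (tt N57078 (iv6 D196763)) (tt N108502 (iv7 F462875)))
theorem Q93738 : ∀ i, i < 93738 → P i := stepQ 93737 Q93737 (allL N93737 (tt N57114 (iv1 F401718)) (tt N72628 (iv0 F401717)) (tt N107877 (iv2 F460085)) (tt N57079 (iv3 D196764)) (tt N118341 D221600) (tt N93608 F401716) (tt N116679 (iv6 F501274)) (tt N96089 (iv7 F410991)))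
theorem Q93739 : ∀ i, i < 93739 → P i := stepQ 93738 Q93738 (allL N93738 (tt N103966 (iv1 F443558)) (tt N103968 (iv0 F443566)) (tt N78084 F401719) (tt N70217 F401720) (tt N106108 (iv4 F453151)) (tt N96106 (iv5 F411082)) (tt N57081 (iv6 D196765)) (tt N93949 (iv7 F402555)))
theorem Q93740 : ∀ i, i < 93740 → P i := stepQ 93739 Q93739 (allL N93739 (tt N57085 (iv1 F401724)) (tt N57083 (iv0 D196766)) (tt N74023 (iv2 F401723)) (tt N69689 (iv3 F401726)) (tt N59163 F401722) (tt N92800 F401721) (tt N91643 (iv6 F401727)) (tt N59181 F401725))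
theorem Q93741 : ∀ i, i < 93741 → P i := stepQ 93740 Q93740 (allL N93740 (tt N59814 F401732) (tt N73622 (iv0 F401733)) (tt N91097 F401728) (tt N57083 (iv3 D196767)) (tt N92322 F401729) (tt N115485 (iv5 F495433)) (tt N91647 F401730) (tt N92509 F401731))
theorem Q93742 : ∀ i, i < 93742 → P i := stepQ 93741 Q93741 (allL N93741 (tt N79180 F401736) (tt N106828 (iv0 F455867)) (tt N106956 (iv2 F456435)) (tt N57086 F401734) (tt N91103 F401735) (tt N101650 (iv5 F433701)) (tt N57084 (iv6 D196768)) (tt N116763 (iv7 F501702)))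
theorem Q93743 : ∀ i, i < 93743 → P i := stepQ 93742 Q93742 (allL N93742 (tt N57086 (iv1 D196769)) (tt N93820 F402036) (tt N57155 F401741) (tt N73750 (iv3 F401740)) (tt N91411 F402087) (tt N95048 (iv5 F406810)) (tt N118342 D221601) (tt N93821 (iv7 F402040)))
theorem Q93744 : ∀ i, i < 93744 → P i := stepQ 93743 Q93743 (allL N93743 (tt N93481 F406908) (tt N59429 (iv0 F401742)) (tt N73073 F401737) (tt N101650 F433697) (tt N79573 F401739) (tt N57086 (iv5 D196770)) (tt N67454 F401738) (tt N112500 (iv7 F481378)))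
theorem Q93745 : ∀ i, i < 93745 → P i := stepQ 93744 Q93744 (allL N93744 (tt N89304 F401745) (tt N97286 (iv0 F416219)) (tt N99172 (iv2 F423568)) (tt N57088 (iv3 D196771)) (tt N93644 F401743) (tt N87522 F401744) (tt N99283 F423934) (tt N96072 (iv7 F410913)))
theorem Q93746 : ∀ i, i < 93746 → P i := stepQ 93745 Q93745 (allL N93745 (tt N74034 F401747) (tt N91411 (iv0 F407899)) (tt N96071 (iv2 F410906)) (tt N99283 (iv3 F423929)) (tt N93642 F401746) (tt N99282 F423927) (tt N57088 (iv6 D196772)) (tt N96070 (iv7 F410904)))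
theorem Q93747 : ∀ i, i < 93747 → P i := stepQ 93746 Q93746 (allL N93746 (tt N118342 F509805) (tt N102139 (iv0 F435910)) (tt N117156 (iv2 F503667)) (tt N58079 F401748) (tt N112502 (iv4 F481390)) (tt N58078 F401749) (tt N57089 (iv6 D196773)) (tt N117552 (iv7 F505656)))
theorem Q93748 : ∀ i, i < 93748 → P i := stepQ 93747 Q93747 (allL N93747 (tt N91567 F401751) (tt N91564 F401752) (tt N110197 (iv2 F470385)) (tt N90952 F401750) (tt N100133 (iv4 F427618)) (tt N57090 (iv5 D196774)) (tt N110192 (iv6 F470362)) (tt N110905 (iv7 F473717)))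
theorem Q93749 : ∀ i, i < 93749 → P i := stepQ 93748 Q93748 (allL N93748 (tt N57091 (iv1 D196776)) (tt N95056 F406867) (tt N95058 (iv2 F406884)) (tt N90904 (iv3 F401754)) (tt N118248 (iv4 F509356)) (tt N87200 F401753) (tt N103052 (iv6 F439857)) (tt N95047 (iv7 F406805)))
theorem Q93750 : ∀ i, i < 93750 → P i := stepQ 93749 Q93749 (allL N93749 (tt N81711 F401757) (tt N117500 (iv0 F505361)) (tt N100123 (iv2 F427565)) (tt N85904 F401755) (tt N57091 (iv4 D196777)) (tt N100134 (iv5 F427624)) (tt N77464 F401756) (tt N110200 (iv7 F470402)))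
theorem Q93751 : ∀ i, i < 93751 → P i := stepQ 93750 Q93750 (allL N93750 (tt N89796 F401761) (tt N57128 F401764) (tt N89798 F401763) (tt N57092 (iv3 D196778)) (tt N89057 (iv4 F401762)) (tt N78240 F401758) (tt N89783 F401759) (tt N89054 F401760))
theorem Q93752 : ∀ i, i < 93752 → P i := stepQ 93751 Q93751 (allL N93751 (tt N61070 F401769) (tt N79938 F401770) (tt N79937 F401765) (tt N83644 F401766) (tt N94413 (iv4 F404374)) (tt N57094 (iv5 D196779)) (tt N83643 F401767) (tt N79936 F401768))
theorem Q93753 : ∀ i, i < 93753 → P i := stepQ 93752 Q93752 (allL N93752 (tt N89730 (iv1 F410884)) (tt N118343 D221602) (tt N96106 (iv2 F411080)) (tt N65278 F401771) (tt N86190 F401772) (tt N78084 F401773) (tt N57095 (iv6 D196780)) (tt N86188 F401774))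
theorem Q93754 : ∀ i, i < 93754 → P i := stepQ 93753 Q93753 (allL N93753 (tt N101148 (iv1 F433725)) (tt N101657 F433731) (tt N57146 F401775) (tt N93462 F401776) (tt N112156 (iv4 F479792)) (tt N57096 (iv5 D196781)) (tt N92880 F401777) (tt N101656 (iv7 F433719)))
theorem Q93755 : ∀ i, i < 93755 → P i := stepQ 93754 Q93754 (allL N93754 (tt N92896 F401781) (tt N92894 (iv0 F401782)) (tt N93643 F401778) (tt N73458 F401779) (tt N57097 (iv4 D196782)) (tt N98814 (iv5 F422435)) (tt N98811 F422421) (tt N57119 F401780))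
theorem Q93756 : ∀ i, i < 93756 → P i := stepQ 93755 Q93755 (allL N93755 (tt N73488 F401787) (tt N107811 (iv0 F459802)) (tt N57108 F401783) (tt N73459 F401784) (tt N61297 F401786) (tt N57098 (iv5 D196783)) (tt N61296 F401788) (tt N57123 F401785))
theorem Q93757 : ∀ i, i < 93757 → P i := stepQ 93756 Q93756 (allL N93756 (tt N109272 F466115) (tt N116998 F502894) (tt N57109 F401790) (tt N73460 F401791) (tt N57099 F401792) (tt N96114 F411122) (tt N57098 (iv6 D196784)) (tt N116997 (iv7 F502889)))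
theorem Q93758 : ∀ i, i < 93758 → P i := stepQ 93757 Q93757 (allL N93757 (tt N105365 (iv1 F449902)) (tt N90997 F401794) (tt N57103 F401793) (tt N98817 (iv3 F422455)) (tt N95854 (iv4 F409958)) (tt N105153 (iv5 F449027)) (tt N57101 (iv6 D196786)) (tt N105152 (iv7 F449021)))
theorem Q93759 : ∀ i, i < 93759 → P i := stepQ 93758 Q93758 (allL N93758 (tt N107882 (iv1 F460100)) (tt N107881 F460097) (tt N107727 (iv2 F459412)) (tt N57112 F401795) (tt N72551 F401796) (tt N104249 (iv5 F444925)) (tt N57102 (iv6 D196787)) (tt N90046 F401797))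
theorem Q93760 : ∀ i, i < 93760 → P i := stepQ 93759 Q93759 (allL N93759 (tt N105152 (iv1 F449023)) (tt N57103 (iv0 D196788)) (tt N105365 (iv2 F449899)) (tt N91641 (iv3 F401799)) (tt N89292 F401798) (tt N72837 F401801) (tt N91640 (iv6 F401804)) (tt N90997 (iv7 F401800)))
theorem Q93761 : ∀ i, i < 93761 → P i := stepQ 93760 Q93760 (allL N93760 (tt N57103 (iv1 D196789)) (tt N105152 (iv0 F449022)) (tt N90997 F401806) (tt N99118 (iv3 F423403)) (tt N90996 (iv4 F401805)) (tt N97381 (iv5 F416616)) (tt N118344 D221603) (tt N105365 (iv7 F449901)))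
theorem Q93762 : ∀ i, i < 93762 → P i := stepQ 93761 Q93761 (allL N93761 (tt N105150 (iv1 F449011)) (tt N95759 (iv0 F409498)) (tt N105153 (iv2 F449025)) (tt N57114 F401807) (tt N104248 (iv4 F444922)) (tt N57103 (iv5 D196790)) (tt N104249 (iv6 F444926)) (tt N105151 F449014))
theorem Q93763 : ∀ i, i < 93763 → P i := stepQ 93762 Q93762 (allL N93762 (tt N73475 (iv1 F401812)) (tt N73466 (iv0 F401811)) (tt N62340 F401808) (tt N57105 (iv3 D196791)) (tt N92298 F401809) (tt N114555 (iv5 F490754)) (tt N118345 D221604) (tt N73476 F401810))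
theorem Q93764 : ∀ i, i < 93764 → P i := stepQ 93763 Q93763 (allL N93763 (tt N108129 (iv1 F461233)) (tt N115029 (iv0 F493116)) (tt N73478 F401813) (tt N118345 (iv3 F509817)) (tt N93703 F401814) (tt N94600 (iv5 F405133)) (tt N57105 (iv6 D196792)) (tt N108091 (iv7 F461072)))
theorem Q93765 : ∀ i, i < 93765 → P i := stepQ 93764 Q93764 (allL N93764 (tt N96328 (iv1 F412062)) (tt N96530 (iv0 F412873)) (tt N96537 F412900) (tt N57108 F401815) (tt N77490 F401817) (tt N57107 (iv5 D196793)) (tt N67085 F401816) (tt N96538 (iv7 F412904)))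
theorem Q93766 : ∀ i, i < 93766 → P i := stepQ 93765 Q93765 (allL N93765 (tt N57123 (iv1 F401836)) (tt N57108 (iv0 D196794)) (tt N73488 (iv2 F401818)) (tt N107803 (iv3 F459778)) (tt N104167 (iv4 F444515)) (tt N99324 (iv5 F424103)) (tt N118346 D221605) (tt N107811 (iv7 F459800)))
theorem Q93767 : ∀ i, i < 93767 → P i := stepQ 93766 Q93766 (allL N93766 (tt N107760 (iv1 F459606)) (tt N76244 F401821) (tt N61297 F401819) (tt N96620 (iv3 F413210)) (tt N57108 (iv4 D196795)) (tt N83632 F401820) (tt N61277 F401822) (tt N85189 (iv7 F401823)))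
theorem Q93768 : ∀ i, i < 93768 → P i := stepQ 93767 Q93767 (allL N93767 (tt N78866 (iv1 F401831)) (tt N85615 (iv0 F401830)) (tt N61296 F401824) (tt N67085 F401825) (tt N61277 F401826) (tt N67084 F401827) (tt N57108 (iv6 D196796)) (tt N61292 (iv7 F401829)))
theorem Q93769 : ∀ i, i < 93769 → P i := stepQ 93768 Q93768 (allL N93768 (tt N107811 (iv1 F459803)) (tt N73488 (iv0 F401838)) (tt N57123 F401833) (tt N96538 F412906) (tt N85189 F401834) (tt N57110 F401835) (tt N85188 (iv6 F401837)) (tt N57108 (iv7 D196797)))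
theorem Q93770 : ∀ i, i < 93770 → P i := stepQ 93769 Q93769 (allL N93769 (tt N116997 F502891) (tt N57109 (iv0 D196798)) (tt N109272 (iv2 F466116)) (tt N110463 (iv3 F471699)) (tt N96114 (iv4 F419952)) (tt N118347 D221606) (tt N98199 F419951) (tt N116998 (iv7 F502895)))
theorem Q93771 : ∀ i, i < 93771 → P i := stepQ 93770 Q93770 (allL N93770 (tt N57109 (iv1 D196799)) (tt N116997 (iv0 F502890)) (tt N116998 F502893) (tt N62345 (iv3 F401839)) (tt N96115 F411124) (tt N118341 (iv5 F509798)) (tt N87904 F401840) (tt N109272 (iv7 F466113)))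
theorem Q93772 : ∀ i, i < 93772 → P i := stepQ 93771 Q93771 (allL N93771 (tt N71605 F401844) (tt N95927 (iv0 F410302)) (tt N106430 (iv2 F454395)) (tt N57111 (iv3 D196800)) (tt N72550 F401841) (tt N102891 (iv5 F439138)) (tt N77273 F401842) (tt N86354 F401843))
theorem Q93773 : ∀ i, i < 93773 → P i := stepQ 93772 Q93772 (allL N93772 (tt N83637 F401848) (tt N105713 F451381) (tt N72091 F401845) (tt N102891 F439140) (tt N83633 F401847) (tt N57111 (iv5 D196801)) (tt N80694 F401846) (tt N106435 (iv7 F454422)))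
theorem Q93774 : ∀ i, i < 93774 → P i := stepQ 93773 Q93773 (allL N93773 (tt N72628 (iv1 F401854)) (tt N57114 (iv0 D196802)) (tt N96089 (iv2 F410992)) (tt N116612 (iv3 F500970)) (tt N118347 (iv4 F509833)) (tt N118348 D221607) (tt N99296 F481896) (tt N107877 (iv7 F460081)))
theorem Q93775 : ∀ i, i < 93775 → P i := stepQ 93774 Q93774 (allL N93774 (tt N99486 F424809) (tt N118349 D221608) (tt N93608 F401850) (tt N108924 (iv3 F464507)) (tt N57114 (iv4 D196803)) (tt N107877 F460084) (tt N90554 F401851) (tt N118348 (iv7 F509840)))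
theorem Q93776 : ∀ i, i < 93776 → P i := stepQ 93775 Q93775 (allL N93775 (tt N107877 (iv1 F460080)) (tt N96089 F410994) (tt N72628 F401852) (tt N105151 (iv3 F449012)) (tt N118348 (iv4 F509838)) (tt N57115 F401853) (tt N72626 (iv6 F401855)) (tt N57114 (iv7 D196804)))
theorem Q93777 : ∀ i, i < 93777 → P i := stepQ 93776 Q93776 (allL N93776 (tt N59096 F401858) (tt N93572 F401859) (tt N57120 F401856) (tt N72548 F401857) (tt N102305 (iv4 F436634)) (tt N57118 (iv5 D196805)) (tt N107885 (iv6 F460120)) (tt N93914 (iv7 F402417)))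
theorem Q93778 : ∀ i, i < 93778 → P i := stepQ 93777 Q93777 (allL N93777 (tt N73762 F423385) (tt N118350 D221609) (tt N57121 F401860) (tt N90951 F401861) (tt N98821 (iv4 F422476)) (tt N95689 (iv5 F409153)) (tt N57118 (iv6 D196806)) (tt N105155 (iv7 F449040)))
theorem Q93779 : ∀ i, i < 93779 → P i := stepQ 93778 Q93778 (allL N93778 (tt N98813 (iv1 F422429)) (tt N98799 (iv0 F422374)) (tt N73461 F401862) (tt N57119 (iv3 D196807)) (tt N57122 F401863) (tt N98819 (iv5 F422467)) (tt N117002 (iv6 F502916)) (tt N73458 F401864))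
theorem Q93780 : ∀ i, i < 93780 → P i := stepQ 93779 Q93779 (allL N93779 (tt N97019 (iv1 F415061)) (tt N97012 (iv0 F415026)) (tt N98820 (iv2 F422470)) (tt N98819 (iv3 F422465)) (tt N116019 (iv4 F498086)) (tt N57119 (iv5 D196808)) (tt N116018 F498083) (tt N98814 F422436))
theorem Q93781 : ∀ i, i < 93781 → P i := stepQ 93780 Q93780 (allL N93780 (tt N99184 F502918) (tt N118351 D221610) (tt N98821 (iv2 F422474)) (tt N117002 (iv3 F502914)) (tt N57121 F401865) (tt N118352 D221611) (tt N57119 (iv6 D196809)) (tt N98822 (iv7 F422478)))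
theorem Q93782 : ∀ i, i < 93782 → P i := stepQ 93781 Q93781 (allL N93781 (tt N93914 (iv1 F402416)) (tt N57120 (iv0 D196810)) (tt N59096 (iv2 F401868)) (tt N93922 (iv3 F402438)) (tt N58395 F401867) (tt N93495 F401866) (tt N118353 D221612) (tt N93572 F401869))
theorem Q93783 : ∀ i, i < 93783 → P i := stepQ 93782 Q93782 (allL N93782 (tt N107884 (iv1 F460112)) (tt N91625 (iv0 F401871)) (tt N107885 (iv2 F460116)) (tt N57126 F401870) (tt N106436 (iv4 F454426)) (tt N107155 (iv5 F457228)) (tt N57120 (iv6 D196811)) (tt N95100 (iv7 F407037)))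
theorem Q93784 : ∀ i, i < 93784 → P i := stepQ 93783 Q93783 (allL N93783 (tt N105155 (iv1 F449043)) (tt N57121 (iv0 D196812)) (tt N73762 (iv2 F401875)) (tt N118354 D221613) (tt N62010 (iv4 F423389)) (tt N118355 D221614) (tt N118356 D221615) (tt N118350 (iv7 F509849)))
theorem Q93785 : ∀ i, i < 93785 → P i := stepQ 93784 Q93784 (allL N93784 (tt N57121 (iv1 D196813)) (tt N105155 F449041) (tt N118350 (iv2 F509852)) (tt N73753 (iv3 F401872)) (tt N62011 F401874) (tt N82272 F432959) (tt N110195 (iv6 F470374)) (tt N73762 F401873))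
theorem Q93786 : ∀ i, i < 93786 → P i := stepQ 93785 Q93785 (allL N93785 (tt N95673 (iv1 F409088)) (tt N95691 F409157) (tt N95689 F409152) (tt N57128 F401876) (tt N105469 (iv4 F450379)) (tt N57121 (iv5 D196814)) (tt N107155 (iv6 F457229)) (tt N72629 (iv7 F401877)))
theorem Q93787 : ∀ i, i < 93787 → P i := stepQ 93786 Q93786 (allL N93786 (tt N118350 (iv1 F509848)) (tt N73762 F449042) (tt N105155 (iv2 F449037)) (tt N57129 F401878) (tt N98822 (iv4 F422477)) (tt N72629 F401879) (tt N72632 F401880) (tt N57121 (iv7 D196815)))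
theorem Q93788 : ∀ i, i < 93788 → P i := stepQ 93787 Q93787 (allL N93787 (tt N76244 F401885) (tt N107760 (iv0 F459605)) (tt N85189 F401881) (tt N118357 D221616) (tt N57123 (iv4 D196816)) (tt N83633 F401882) (tt N84817 F401883) (tt N61297 F401884))
theorem Q93789 : ∀ i, i < 93789 → P i := stepQ 93788 Q93788 (allL N93788 (tt N57126 (iv1 D196817)) (tt N90051 F401886) (tt N59104 F401891) (tt N93564 (iv3 F401890)) (tt N77683 F401888) (tt N90151 F401889) (tt N118358 D221617) (tt N90150 F401887))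
theorem Q93790 : ∀ i, i < 93790 → P i := stepQ 93789 Q93789 (allL N93789 (tt N93895 F402326) (tt N114460 (iv0 F490292)) (tt N108886 (iv2 F464365)) (tt N107155 (iv3 F457226)) (tt N91704 (iv4 F401893)) (tt N57126 (iv5 D196818)) (tt N57128 F401892) (tt N107153 (iv7 F457219)))
theorem Q93791 : ∀ i, i < 93791 → P i := stepQ 93790 Q93790 (allL N93790 (tt N59104 (iv1 F401897)) (tt N90150 F401898) (tt N90051 F401894) (tt N95100 (iv3 F407035)) (tt N77775 F401895) (tt N107153 (iv5 F457218)) (tt N90543 F401896) (tt N57126 (iv7 D196819)))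
theorem Q93792 : ∀ i, i < 93792 → P i := stepQ 93791 Q93791 (allL N93791 (tt N111044 F487777) (tt N118337 F509779) (tt N96101 (iv2 F411059)) (tt N118043 (iv3 F508254)) (tt N115555 (iv4 F495764)) (tt N57127 (iv5 D196820)) (tt N106279 F453867) (tt N116786 (iv7 F501829)))
theorem Q93793 : ∀ i, i < 93793 → P i := stepQ 93792 Q93792 (allL N93792 (tt N79462 F401903) (tt N79521 (iv0 F401904)) (tt N57140 F401899) (tt N102253 (iv3 F436386)) (tt N57131 F401900) (tt N65075 F401901) (tt N57130 (iv6 D196822)) (tt N65073 F401902))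
theorem Q93794 : ∀ i, i < 93794 → P i := stepQ 93793 Q93793 (allL N93793 (tt N57143 (iv1 F401919)) (tt N57131 (iv0 D196823)) (tt N57141 (iv2 F401998)) (tt N58170 F401910) (tt N80809 F401905) (tt N58169 (iv5 F401908)) (tt N80808 F401906) (tt N57142 F402004))
theorem Q93795 : ∀ i, i < 93795 → P i := stepQ 93794 Q93794 (allL N93794 (tt N57131 (iv1 D196824)) (tt N57143 F401911) (tt N57142 F402003) (tt N106799 (iv3 F455735)) (tt N81100 (iv4 F401913)) (tt N101676 (iv5 F433816)) (tt N81099 (iv6 F401914)) (tt N57141 (iv7 F402002)))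
theorem Q93796 : ∀ i, i < 93796 → P i := stepQ 93795 Q93795 (allL N93795 (tt N57142 (iv1 F401920)) (tt N57141 F401921) (tt N57143 F401915) (tt N93448 F401916) (tt N65073 F401917) (tt N96429 (iv5 F412486)) (tt N92869 F401918) (tt N57131 (iv7 D196825)))
theorem Q93797 : ∀ i, i < 93797 → P i := stepQ 93796 Q93796 (allL N93796 (tt N108308 F461998) (tt N108316 F491562) (tt N108311 (iv2 F462012)) (tt N57134 F401922) (tt N59037 F401923) (tt N118359 D221618) (tt N57132 (iv6 D196826)) (tt N108315 (iv7 F462030)))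
theorem Q93798 : ∀ i, i < 93798 → P i := stepQ 93797 Q93797 (allL N93797 (tt N57133 (iv1 D196827)) (tt N57136 F401926) (tt N92909 (iv2 F401929)) (tt N66243 (iv3 F401930)) (tt N73732 F401928) (tt N105713 (iv5 F451379)) (tt N81143 F451382) (tt N66446 F401927))
theorem Q93799 : ∀ i, i < 93799 → P i := stepQ 93798 Q93798 (allL N93798 (tt N66466 F401934) (tt N95937 (iv0 F410344)) (tt N66253 F401931) (tt N57133 (iv3 D196828)) (tt N59035 F401932) (tt N97659 (iv5 F417811)) (tt N75949 (iv6 F401936)) (tt N92910 F401933))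
theorem Q93800 : ∀ i, i < 93800 → P i := stepQ 93799 Q93799 (allL N93799 (tt N69054 (iv1 F401941)) (tt N78624 F401939) (tt N92918 F401937) (tt N97659 (iv3 F417814)) (tt N104118 (iv4 F444264)) (tt N57133 (iv5 D196829)) (tt N69041 (iv6 F401940)) (tt N92911 F401938))
theorem Q93801 : ∀ i, i < 93801 → P i := stepQ 93800 Q93800 (allL N93800 (tt N81091 F401945) (tt N90401 F401946) (tt N90399 F401942) (tt N75949 F401943) (tt N57134 F401944) (tt N105722 (iv5 F451414)) (tt N57133 (iv6 D196830)) (tt N90398 F415394))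
theorem Q93802 : ∀ i, i < 93802 → P i := stepQ 93801 Q93801 (allL N93801 (tt N92920 (iv1 F401955)) (tt N57134 (iv0 D196831)) (tt N59153 (iv2 F401949)) (tt N93722 F401950) (tt N80824 F401947) (tt N93338 (iv5 F401956)) (tt N81095 F401948) (tt N92919 (iv7 F401954)))
theorem Q93803 : ∀ i, i < 93803 → P i := stepQ 93802 Q93802 (allL N93802 (tt N114587 (iv1 F490891)) (tt N85152 (iv0 F401959)) (tt N85100 F401957) (tt N118359 (iv3 F509903)) (tt N84797 (iv4 F401960)) (tt N57134 (iv5 D196832)) (tt N84796 F401958) (tt N114586 (iv7 F490881)))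
theorem Q93804 : ∀ i, i < 93804 → P i := stepQ 93803 Q93803 (allL N93803 (tt N92919 (iv1 F401963)) (tt N59153 F401964) (tt N92920 F401961) (tt N108315 F462032) (tt N90398 F415393) (tt N114586 (iv5 F490882)) (tt N92913 F401962) (tt N57134 (iv7 D196833)))
theorem Q93805 : ∀ i, i < 93805 → P i := stepQ 93804 Q93804 (allL N93804 (tt N59130 (iv1 F401969)) (tt N92914 F401968) (tt N57135 (iv2 D196834)) (tt N59031 F401965) (tt N108302 (iv4 F461969)) (tt N74592 F401966) (tt N117910 F507551) (tt N92915 F401967))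
theorem Q93806 : ∀ i, i < 93806 → P i := stepQ 93805 Q93805 (allL N93805 (tt N117887 (iv1 F507442)) (tt N93578 (iv0 F425128)) (tt N117910 (iv2 F507552)) (tt N57137 F401970) (tt N93702 F425125) (tt N116834 (iv5 F502081)) (tt N57135 (iv6 D196835)) (tt N117909 F507546))
theorem Q93807 : ∀ i, i < 93807 → P i := stepQ 93806 Q93806 (allL N93806 (tt N81131 (iv1 F401977)) (tt N60087 (iv0 F401975)) (tt N60392 F401971) (tt N66251 F401972) (tt N57137 F401973) (tt N60389 F401974) (tt N57136 (iv6 D196836)) (tt N60387 (iv7 F401978)))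
theorem Q93808 : ∀ i, i < 93808 → P i := stepQ 93807 Q93807 (allL N93807 (tt N57137 (iv1 D196837)) (tt N92913 F401979) (tt N59142 F401983) (tt N93671 (iv3 F401985)) (tt N80835 (iv4 F401982)) (tt N89594 F401981) (tt N80805 F401984) (tt N92912 F401980))
theorem Q93809 : ∀ i, i < 93809 → P i := stepQ 93808 Q93808 (allL N93808 (tt N59142 (iv1 F401990)) (tt N92912 F401991) (tt N92913 F401987) (tt N117909 (iv3 F507543)) (tt N60387 F401988) (tt N116835 (iv5 F502088)) (tt N92920 F401989) (tt N57137 (iv7 D196838)))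
theorem Q93810 : ∀ i, i < 93810 → P i := stepQ 93809 Q93809 (allL N93809 (tt N57140 (iv1 D196839)) (tt N65073 F401992) (tt N79521 F401996) (tt N81423 F401997) (tt N118360 D221619) (tt N79520 (iv5 F401994)) (tt N80833 (iv6 F401995)) (tt N79462 F401993))
theorem Q93811 : ∀ i, i < 93811 → P i := stepQ 93810 Q93810 (allL N93810 (tt N79521 (iv1 F402011)) (tt N79462 F402012) (tt N65073 F402006) (tt N60357 F402007) (tt N57143 F402008) (tt N65071 F402009) (tt N60354 F402010) (tt N57140 (iv7 D196840)))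
theorem Q93812 : ∀ i, i < 93812 → P i := stepQ 93811 Q93811 (allL N93811 (tt N71673 (iv1 F408873)) (tt N71678 (iv0 F408874)) (tt N106801 (iv2 F455737)) (tt N57141 (iv3 D196841)) (tt N95609 F408872) (tt N95592 F408809) (tt N81139 F402013) (tt N106799 (iv7 F455731)))
theorem Q93813 : ∀ i, i < 93813 → P i := stepQ 93812 Q93812 (allL N93812 (tt N96411 (iv1 F412400)) (tt N96413 (iv0 F412419)) (tt N58172 F402016) (tt N57142 (iv3 D196842)) (tt N107868 (iv4 F460059)) (tt N57899 F402014) (tt N94942 F406441) (tt N58170 F402015))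
theorem Q93814 : ∀ i, i < 93814 → P i := stepQ 93813 Q93813 (allL N93813 (tt N81143 (iv1 F402022)) (tt N81142 F402023) (tt N81100 F402017) (tt N81781 F402020) (tt N57142 (iv4 D196843)) (tt N80973 F402019) (tt N80799 (iv6 F402021)) (tt N80809 F402018))
theorem Q93815 : ∀ i, i < 93815 → P i := stepQ 93814 Q93814 (allL N93814 (tt N81096 F402028) (tt N81095 F402029) (tt N81099 F402024) (tt N94942 F406440) (tt N80799 F402025) (tt N89989 (iv5 F402027)) (tt N57142 (iv6 D196844)) (tt N80798 F402026))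
theorem Q93816 : ∀ i, i < 93816 → P i := stepQ 93815 Q93815 (allL N93815 (tt N111017 F474277) (tt N112012 F479073) (tt N65047 F402030) (tt N79179 F402031) (tt N111050 (iv4 F474424)) (tt N57144 (iv5 D196845)) (tt N79148 (iv6 F402032)) (tt N112011 (iv7 F479066)))
theorem Q93817 : ∀ i, i < 93817 → P i := stepQ 93816 Q93816 (allL N93816 (tt N112084 (iv1 F482031)) (tt N112210 (iv0 F482030)) (tt N112208 F480065) (tt N116971 (iv3 F502768)) (tt N110453 F471662) (tt N118361 D221620) (tt N57144 (iv6 D196846)) (tt N112209 (iv7 F480066)))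
theorem Q93818 : ∀ i, i < 93818 → P i := stepQ 93817 Q93817 (allL N93817 (tt N73478 F425112) (tt N108091 (iv0 F461073)) (tt N115029 (iv2 F493112)) (tt N99464 (iv3 F424698)) (tt N57145 (iv4 D196847)) (tt N114922 (iv5 F492547)) (tt N112171 F479882) (tt N108129 (iv7 F461231)))
theorem Q93819 : ∀ i, i < 93819 → P i := stepQ 93818 Q93818 (allL N93818 (tt N101656 (iv1 F433726)) (tt N57146 (iv0 D196848)) (tt N101148 (iv2 F431930)) (tt N94970 F406544) (tt N112117 (iv4 F479570)) (tt N118273 (iv5 F509459)) (tt N94968 (iv6 F406545)) (tt N101657 (iv7 F433729)))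
theorem Q93820 : ∀ i, i < 93820 → P i := stepQ 93819 Q93819 (allL N93819 (tt N112158 (iv1 F479804)) (tt N112157 F479800) (tt N112156 (iv2 F479790)) (tt N95584 (iv3 F408761)) (tt N57146 (iv4 D196850)) (tt N71592 (iv5 F402034)) (tt N92883 F402033) (tt N95565 (iv7 F408678)))
theorem Q93821 : ∀ i, i < 93821 → P i := stepQ 93820 Q93820 (allL N93820 (tt N93742 (iv1 F402036)) (tt N57147 (iv0 D196851)) (tt N93443 (iv2 F402035)) (tt N96413 (iv3 F412416)) (tt N111599 (iv4 F477102)) (tt N96412 (iv5 F412409)) (tt N59066 (iv6 F402038)) (tt N59132 F402037))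
theorem Q93822 : ∀ i, i < 93822 → P i := stepQ 93821 Q93821 (allL N93821 (tt N93443 (iv1 F402042)) (tt N59132 F402041) (tt N57147 (iv2 D196852)) (tt N81718 F402039) (tt N108255 (iv4 F461718)) (tt N58159 (iv5 F402075)) (tt N114787 (iv6 F491859)) (tt N93742 F402040))
theorem Q93823 : ∀ i, i < 93823 → P i := stepQ 93822 Q93822 (allL N93822 (tt N58162 F402044) (tt N58154 F406814) (tt N58159 F402074) (tt N57148 F402043) (tt N102118 (iv4 F435822)) (tt N57147 (iv5 D196853)) (tt N96331 F412074) (tt N58160 F402073))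
theorem Q93824 : ∀ i, i < 93824 → P i := stepQ 93823 Q93823 (allL N93823 (tt N117569 (iv1 F505757)) (tt N91586 (iv0 F402047)) (tt N114787 (iv2 F491857)) (tt N57149 F402045) (tt N91582 F402046) (tt N115621 (iv5 F496008)) (tt N57147 (iv6 D196854)) (tt N104371 (iv7 F445464)))
theorem Q93825 : ∀ i, i < 93825 → P i := stepQ 93824 Q93824 (allL N93824 (tt N57148 (iv1 D196855)) (tt N57150 F402048) (tt N93832 F402077) (tt N101677 (iv3 F433820)) (tt N96368 (iv4 F412264)) (tt N93848 (iv5 F402132)) (tt N74239 (iv6 F402078)) (tt N93831 F402064))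
theorem Q93826 : ∀ i, i < 93826 → P i := stepQ 93825 Q93825 (allL N93825 (tt N118362 D221621) (tt N94756 F405821) (tt N93833 (iv2 F402079)) (tt N101568 F433413) (tt N57148 (iv4 D196856)) (tt N93485 F402049) (tt N112004 (iv6 F479037)) (tt N93837 (iv7 F402092)))
theorem Q93827 : ∀ i, i < 93827 → P i := stepQ 93826 Q93826 (allL N93826 (tt N111354 F475976) (tt N112839 (iv0 F482890)) (tt N93834 (iv2 F402082)) (tt N96331 (iv3 F412076)) (tt N112004 (iv4 F479036)) (tt N118263 (iv5 F509424)) (tt N57148 (iv6 D196857)) (tt N118363 D221622))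
theorem Q93828 : ∀ i, i < 93828 → P i := stepQ 93827 Q93827 (allL N93827 (tt N94756 F405822) (tt N118362 F509926) (tt N93837 (iv2 F402090)) (tt N59510 F412297) (tt N57150 (iv4 D196858)) (tt N93482 F402050) (tt N108675 (iv6 F463494)) (tt N93833 (iv7 F402080)))
theorem Q93829 : ∀ i, i < 93829 → P i := stepQ 93828 Q93828 (allL N93828 (tt N118201 (iv1 F509121)) (tt N74235 (iv0 F402051)) (tt N93838 (iv2 F402093)) (tt N108454 (iv3 F462652)) (tt N108675 (iv4 F463492)) (tt N109340 (iv5 F466460)) (tt N57150 (iv6 D196859)) (tt N118200 (iv7 F509111)))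
theorem Q93830 : ∀ i, i < 93830 → P i := stepQ 93829 Q93829 (allL N93829 (tt N79173 F402055) (tt N80356 F402056) (tt N95059 (iv2 F406889)) (tt N57153 F402052) (tt N60591 F402054) (tt N57152 (iv5 D196860)) (tt N79197 (iv6 F412088)) (tt N73987 F402053))
theorem Q93831 : ∀ i, i < 93831 → P i := stepQ 93830 Q93830 (allL N93830 (tt N87298 (iv1 F402060)) (tt N100131 (iv0 F427606)) (tt N103167 (iv2 F440377)) (tt N57154 F402057) (tt N62561 F402058) (tt N87425 F402059) (tt N57152 (iv6 D196861)) (tt N103168 (iv7 F440379)))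
theorem Q93832 : ∀ i, i < 93832 → P i := stepQ 93831 Q93831 (allL N93831 (tt N57156 (iv1 F402062)) (tt N57153 (iv0 D196862)) (tt N93567 (iv2 F402063)) (tt N95075 (iv3 F410866)) (tt N101125 (iv4 F431806)) (tt N59106 F402061) (tt N111433 (iv6 F476346)) (tt N93824 (iv7 F402064)))
theorem Q93833 : ∀ i, i < 93833 → P i := stepQ 93832 Q93832 (allL N93832 (tt N57153 (iv1 D196863)) (tt N57156 F402065) (tt N93824 (iv2 F402077)) (tt N112012 (iv3 F479069)) (tt N59380 F402069) (tt N78241 F402067) (tt N59378 (iv6 F402068)) (tt N93567 F402066))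
theorem Q93834 : ∀ i, i < 93834 → P i := stepQ 93833 Q93833 (allL N93833 (tt N118272 (iv1 F509458)) (tt N111474 (iv0 F476513)) (tt N93825 F402079) (tt N96531 F412884) (tt N57153 (iv4 D196864)) (tt N80995 F402081) (tt N118364 D221623) (tt N93827 F402080))
theorem Q93835 : ∀ i, i < 93835 → P i := stepQ 93834 Q93834 (allL N93834 (tt N94762 F412895) (tt N100918 (iv0 F474509)) (tt N93826 F402082) (tt N79197 (iv3 F412087)) (tt N118364 (iv4 F509937)) (tt N108892 (iv5 F464384)) (tt N57153 (iv6 D196865)) (tt N101560 (iv7 F433397)))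
theorem Q93836 : ∀ i, i < 93836 → P i := stepQ 93835 Q93835 (allL N93835 (tt N96071 F410910) (tt N96070 (iv0 F410905)) (tt N91411 (iv2 F402086)) (tt N60160 F402083) (tt N57155 (iv4 D196866)) (tt N90596 F402085) (tt N117526 (iv6 F505519)) (tt N74034 F402084))
theorem Q93837 : ∀ i, i < 93837 → P i := stepQ 93836 Q93836 (allL N93836 (tt N117552 F505657) (tt N117156 (iv0 F503671)) (tt N118342 (iv2 F509801)) (tt N57157 F402089) (tt N117526 (iv4 F505517)) (tt N108926 (iv5 F464516)) (tt N57155 (iv6 D196867)) (tt N102139 (iv7 F435909)))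
theorem Q93838 : ∀ i, i < 93838 → P i := stepQ 93837 Q93837 (allL N93837 (tt N111474 F476514) (tt N118272 (iv0 F509457)) (tt N93827 F402090) (tt N96544 (iv3 F417494)) (tt N57156 (iv4 D196868)) (tt N80994 F402091) (tt N118198 (iv6 F509098)) (tt N93825 F402092))
theorem Q93839 : ∀ i, i < 93839 → P i := stepQ 93838 Q93838 (allL N93838 (tt N108673 F464532) (tt N93434 (iv0 F402094)) (tt N93828 F402093) (tt N95061 (iv3 F406896)) (tt N118198 (iv4 F509097)) (tt N108928 (iv5 F464530)) (tt N57156 (iv6 D196869)) (tt N108672 (iv7 F463482)))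
theorem Q93840 : ∀ i, i < 93840 → P i := stepQ 93839 Q93839 (allL N93839 (tt N101648 F433689) (tt N73761 F402098) (tt N111871 (iv2 F478419)) (tt N57158 (iv3 D196870)) (tt N81736 (iv4 F402097)) (tt N76888 F402095) (tt N102895 (iv6 F439160)) (tt N93484 F402096))
theorem Q93841 : ∀ i, i < 93841 → P i := stepQ 93840 Q93840 (allL N93840 (tt N118365 D221624) (tt N118366 D221625) (tt N93483 F402099) (tt N102895 F439162) (tt N112143 (iv4 F479723)) (tt N108934 F464557) (tt N57158 (iv6 D196871)) (tt N118367 D221626))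
theorem Q93842 : ∀ i, i < 93842 → P i := stepQ 93841 Q93841 (allL N93841 (tt N73073 F402101) (tt N112500 (iv0 F481379)) (tt N59429 (iv2 F402106)) (tt N57159 (iv3 D196872)) (tt N97765 (iv4 F418216)) (tt N91620 (iv5 F406834)) (tt N59331 F402104) (tt N93481 F402100))
theorem Q93843 : ∀ i, i < 93843 → P i := stepQ 93842 Q93842 (allL N93842 (tt N94810 (iv1 F406131)) (tt N94812 F412445) (tt N93486 F402102) (tt N59331 (iv3 F402103)) (tt N97767 (iv4 F418224)) (tt N96535 (iv5 F412890)) (tt N57159 (iv6 D196873)) (tt N59430 F402105))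
theorem Q93844 : ∀ i, i < 93844 → P i := stepQ 93843 Q93843 (allL N93843 (tt N93480 (iv1 F402114)) (tt N57160 (iv0 D196874)) (tt N93477 (iv2 F402113)) (tt N78743 (iv3 F402116)) (tt N59207 F402111) (tt N93852 (iv5 F402148)) (tt N81856 (iv6 F402117)) (tt N93478 F402115))
theorem Q93845 : ∀ i, i < 93845 → P i := stepQ 93844 Q93844 (allL N93844 (tt N112135 F479679) (tt N112291 (iv0 F480392)) (tt N112495 (iv2 F481348)) (tt N57160 (iv3 D196875)) (tt N95584 (iv4 F408762)) (tt N101673 (iv5 F433797)) (tt N65493 F402118) (tt N95583 F408759))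
theorem Q93846 : ∀ i, i < 93846 → P i := stepQ 93845 Q93845 (allL N93845 (tt N99485 F424805) (tt N81121 (iv0 F402120)) (tt N101664 (iv2 F433753)) (tt N57163 F402119) (tt N105326 (iv4 F449727)) (tt N100557 (iv5 F429454)) (tt N57161 (iv6 D196876)) (tt N112304 (iv7 F480456)))
theorem Q93847 : ∀ i, i < 93847 → P i := stepQ 93846 Q93846 (allL N93846 (tt N57171 (iv1 F402123)) (tt N57162 (iv0 D196877)) (tt N93558 (iv2 F402122)) (tt N111422 (iv3 F476286)) (tt N118362 (iv4 F509923)) (tt N57206 F402121) (tt N82437 F402124) (tt N94748 (iv7 F405803)))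
theorem Q93848 : ∀ i, i < 93848 → P i := stepQ 93847 Q93847 (allL N93847 (tt N57190 F402127) (tt N74551 F402128) (tt N74549 F402125) (tt N100557 (iv3 F429452)) (tt N108894 (iv4 F464391)) (tt N57163 (iv5 D196878)) (tt N100556 F429450) (tt N74548 F402126))
theorem Q93849 : ∀ i, i < 93849 → P i := stepQ 93848 Q93848 (allL N93848 (tt N74533 F402133) (tt N66575 F402134) (tt N78241 F402129) (tt N118368 D221627) (tt N57164 (iv4 D196879)) (tt N93824 F402132) (tt N59062 F402130) (tt N59106 F402131))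
theorem Q93850 : ∀ i, i < 93850 → P i := stepQ 93849 Q93849 (allL N93849 (tt N92458 F402137) (tt N106462 F454558) (tt N95095 (iv2 F407010)) (tt N57167 (iv3 D196880)) (tt N57170 F402135) (tt N107857 (iv5 F460015)) (tt N107718 (iv6 F459376)) (tt N92515 F402136))
theorem Q93851 : ∀ i, i < 93851 → P i := stepQ 93850 Q93850 (allL N93850 (tt N95776 (iv1 F409594)) (tt N92453 (iv0 F402141)) (tt N92520 F402138) (tt N107718 (iv3 F459375)) (tt N57169 F402139) (tt N74724 F402140) (tt N57167 (iv6 D196881)) (tt N107864 (iv7 F460045)))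
theorem Q93852 : ∀ i, i < 93852 → P i := stepQ 93851 Q93851 (allL N93851 (tt N74361 F402145) (tt N74368 F402146) (tt N74367 F402142) (tt N95090 F406989) (tt N57168 (iv4 D196882)) (tt N94406 (iv5 F404326)) (tt N60112 F402143) (tt N74366 F402144))
theorem Q93853 : ∀ i, i < 93853 → P i := stepQ 93852 Q93852 (allL N93852 (tt N59380 F402150) (tt N101125 F431809) (tt N96178 (iv2 F411355)) (tt N59351 F402147) (tt N57171 (iv4 D196883)) (tt N93843 F402148) (tt N107339 (iv6 F458014)) (tt N59523 F402149))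
theorem Q93854 : ∀ i, i < 93854 → P i := stepQ 93853 Q93853 (allL N93853 (tt N103353 (iv1 F441242)) (tt N74224 (iv0 F402152)) (tt N96179 (iv2 F411359)) (tt N78143 F402151) (tt N107339 (iv4 F458013)) (tt N78142 (iv5 F402153)) (tt N57171 (iv6 D196884)) (tt N103352 (iv7 F441235)))
theorem Q93855 : ∀ i, i < 93855 → P i := stepQ 93854 Q93854 (allL N93854 (tt N57243 F402158) (tt N57239 F402159) (tt N74635 F402154) (tt N78144 F402155) (tt N108930 (iv4 F464540)) (tt N57172 (iv5 D196885)) (tt N78142 F402156) (tt N74636 F402157))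
theorem Q93856 : ∀ i, i < 93856 → P i := stepQ 93855 Q93855 (allL N93855 (tt N62296 F402168) (tt N72756 F402167) (tt N72463 F402163) (tt N86256 F402164) (tt N57174 (iv4 D196886)) (tt N90068 F402166) (tt N76071 (iv6 F402169)) (tt N72755 F402165))
theorem Q93857 : ∀ i, i < 93857 → P i := stepQ 93856 Q93856 (allL N93856 (tt N74632 (iv1 F402174)) (tt N57242 (iv0 F402176)) (tt N74537 F402170) (tt N89480 F402171) (tt N76071 F402172) (tt N89479 (iv5 F402175)) (tt N57174 (iv6 D196887)) (tt N74631 F402173))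
theorem Q93858 : ∀ i, i < 93858 → P i := stepQ 93857 Q93857 (allL N93857 (tt N72756 F402182) (tt N62296 F402181) (tt N72755 F402177) (tt N62255 F402178) (tt N57175 (iv4 D196888)) (tt N90044 (iv5 F402183)) (tt N86255 F402179) (tt N72463 F402180))
theorem Q93859 : ∀ i, i < 93859 → P i := stepQ 93858 Q93858 (allL N93858 (tt N118369 D221628) (tt N118370 D221629) (tt N57177 F402184) (tt N74554 F402185) (tt N99399 (iv4 F424412)) (tt N118371 D221630) (tt N57176 (iv6 D196889)) (tt N118372 D221631))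
theorem Q93860 : ∀ i, i < 93860 → P i := stepQ 93859 Q93859 (allL N93859 (tt N118372 (iv1 F509994)) (tt N57177 (iv0 D196890)) (tt N118369 F509970) (tt N118373 D221632) (tt N71691 (iv4 F411092)) (tt N118374 D221633) (tt N71690 F411091) (tt N118370 (iv7 F509976)))
theorem Q93861 : ∀ i, i < 93861 → P i := stepQ 93860 Q93860 (allL N93860 (tt N57177 (iv1 D196891)) (tt N118372 F509993) (tt N118370 (iv2 F509979)) (tt N110470 (iv3 F471728)) (tt N118375 D221634) (tt N110467 (iv5 F471716)) (tt N108663 (iv6 F463433)) (tt N118369 F509973))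
theorem Q93862 : ∀ i, i < 93862 → P i := stepQ 93861 Q93861 (allL N93861 (tt N118376 D221635) (tt N118377 D221636) (tt N118371 (iv2 F509982)) (tt N57180 F402186) (tt N118378 D221637) (tt N57177 (iv5 D196892)) (tt N74557 F402187) (tt N118194 (iv7 F509078)))
theorem Q93863 : ∀ i, i < 93863 → P i := stepQ 93862 Q93862 (allL N93862 (tt N118370 (iv1 F509975)) (tt N118369 (iv0 F509974)) (tt N118372 (iv2 F509989)) (tt N57181 F402188) (tt N99403 (iv4 F424417)) (tt N118194 (iv5 F509077)) (tt N74542 F402189) (tt N57177 (iv7 D196893)))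
theorem Q93864 : ∀ i, i < 93864 → P i := stepQ 93863 Q93863 (allL N93863 (tt N93548 F407473) (tt N60031 (iv0 F402193)) (tt N93546 F402190) (tt N57178 (iv3 D196894)) (tt N98870 (iv4 F422641)) (tt N64804 (iv5 F402192)) (tt N95220 (iv6 F407472)) (tt N74561 F402191))
theorem Q93865 : ∀ i, i < 93865 → P i := stepQ 93864 Q93864 (allL N93864 (tt N93412 F402197) (tt N93414 F402198) (tt N74560 F402194) (tt N64804 F402195) (tt N118379 D221638) (tt N57178 (iv5 D196895)) (tt N96405 (iv6 F412371)) (tt N74562 F402196))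
theorem Q93866 : ∀ i, i < 93866 → P i := stepQ 93865 Q93865 (allL N93865 (tt N65913 F402200) (tt N93599 F402201) (tt N93597 (iv2 F402202)) (tt N57179 (iv3 D196896)) (tt N117804 (iv4 F507053)) (tt N96407 (iv5 F412379)) (tt N108665 (iv6 F463445)) (tt N74559 F402199))
theorem Q93867 : ∀ i, i < 93867 → P i := stepQ 93866 Q93866 (allL N93866 (tt N93414 F402206) (tt N93412 F402207) (tt N74562 F402204) (tt N96407 (iv3 F412377)) (tt N104525 (iv4 F446137)) (tt N57179 (iv5 D196897)) (tt N117461 (iv6 F505154)) (tt N74560 F402205))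
theorem Q93868 : ∀ i, i < 93868 → P i := stepQ 93867 Q93867 (allL N93867 (tt N118249 (iv1 F509366)) (tt N93438 F402210) (tt N74564 F402208) (tt N103497 (iv3 F441865)) (tt N57180 (iv4 D196898)) (tt N97853 (iv5 F418517)) (tt N74564 F402209) (tt N97852 (iv7 F418513)))
theorem Q93869 : ∀ i, i < 93869 → P i := stepQ 93868 Q93868 (allL N93868 (tt N101707 (iv1 F433974)) (tt N60692 F402216) (tt N65691 F402211) (tt N66629 F402212) (tt N57182 (iv4 D196899)) (tt N60506 F402215) (tt N58139 F402213) (tt N60571 F402214))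
theorem Q93870 : ∀ i, i < 93870 → P i := stepQ 93869 Q93869 (allL N93869 (tt N93923 (iv1 F402442)) (tt N106976 (iv0 F456502)) (tt N59186 F402217) (tt N106569 (iv3 F454893)) (tt N57185 (iv4 D196900)) (tt N72018 (iv5 F402219)) (tt N90905 (iv6 F402226)) (tt N59173 F402218))
theorem Q93871 : ∀ i, i < 93871 → P i := stepQ 93870 Q93870 (allL N93870 (tt N77110 F402224) (tt N57204 (iv0 F402223)) (tt N59187 F402220) (tt N77114 F402221) (tt N90905 F402225) (tt N118380 D221639) (tt N57185 (iv6 D196901)) (tt N77111 (iv7 F402222)))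
theorem Q93872 : ∀ i, i < 93872 → P i := stepQ 93871 Q93871 (allL N93871 (tt N106976 (iv1 F456504)) (tt N93923 (iv0 F402441)) (tt N59173 F402228) (tt N58535 F402229) (tt N57186 (iv4 D196902)) (tt N72013 F402231) (tt N116674 (iv6 F501256)) (tt N59186 F402230))
theorem Q93873 : ∀ i, i < 93873 → P i := stepQ 93872 Q93872 (allL N93872 (tt N57238 F402237) (tt N74640 F402570) (tt N59174 F402232) (tt N73013 F402233) (tt N116674 (iv4 F501255)) (tt N73012 (iv5 F402236)) (tt N57186 (iv6 D196903)) (tt N74639 F402234))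
theorem Q93874 : ∀ i, i < 93874 → P i := stepQ 93873 Q93873 (allL N93873 (tt N108668 F463465) (tt N111556 (iv0 F476908)) (tt N57188 F402238) (tt N74538 F402239) (tt N106007 (iv4 F452723)) (tt N118381 D221640) (tt N57187 (iv6 D196904)) (tt N118382 D221641))
theorem Q93875 : ∀ i, i < 93875 → P i := stepQ 93874 Q93874 (allL N93874 (tt N118382 (iv1 F510057)) (tt N57188 (iv0 D196905)) (tt N108668 (iv2 F463461)) (tt N81110 F402240) (tt N118383 D221642) (tt N118384 D221643) (tt N67312 (iv6 F402241)) (tt N111556 (iv7 F476907)))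
theorem Q93876 : ∀ i, i < 93876 → P i := stepQ 93875 Q93875 (allL N93875 (tt N57188 (iv1 D196906)) (tt N118382 F510056) (tt N111556 (iv2 F476905)) (tt N74674 (iv3 F424527)) (tt N90900 (iv4 F424529)) (tt N115573 (iv5 F495832)) (tt N77088 F424528) (tt N108668 (iv7 F463464)))
theorem Q93877 : ∀ i, i < 93877 → P i := stepQ 93876 Q93876 (allL N93876 (tt N112104 (iv1 F497400)) (tt N115883 (iv0 F497399)) (tt N118381 (iv2 F510044)) (tt N57190 F402242) (tt N115535 (iv4 F495674)) (tt N57188 (iv5 D196907)) (tt N74541 F402243) (tt N118385 D221644))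
theorem Q93878 : ∀ i, i < 93878 → P i := stepQ 93877 Q93877 (allL N93877 (tt N111556 F476909) (tt N108668 (iv0 F463466)) (tt N118382 (iv2 F510051)) (tt N57191 F402244) (tt N90719 F402245) (tt N118385 (iv5 F510070)) (tt N74558 F402246) (tt N57188 (iv7 D196908)))
theorem Q93879 : ∀ i, i < 93879 → P i := stepQ 93878 Q93878 (allL N93878 (tt N60028 (iv1 F402251)) (tt N81111 (iv0 F402250)) (tt N93552 F415034) (tt N57189 (iv3 D196909)) (tt N77897 F402247) (tt N116016 (iv5 F498069)) (tt N93385 F402248) (tt N74543 F402249))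
theorem Q93880 : ∀ i, i < 93880 → P i := stepQ 93879 Q93879 (allL N93879 (tt N93403 (iv1 F402255)) (tt N93402 F402254) (tt N74546 F402252) (tt N116016 F498072) (tt N117933 (iv4 F507672)) (tt N57189 (iv5 D196910)) (tt N118386 D221645) (tt N74544 F402253))
theorem Q93881 : ∀ i, i < 93881 → P i := stepQ 93880 Q93880 (allL N93880 (tt N74551 (iv1 F402259)) (tt N57190 (iv0 D196911)) (tt N74548 (iv2 F402257)) (tt N107867 (iv3 F460053)) (tt N108893 (iv4 F464385)) (tt N93200 F402256) (tt N108107 (iv6 F461135)) (tt N74549 F402258))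
theorem Q93882 : ∀ i, i < 93882 → P i := stepQ 93881 Q93881 (allL N93881 (tt N118261 (iv1 F509416)) (tt N118262 (iv0 F509420)) (tt N74550 F402260) (tt N118387 D221646) (tt N57190 (iv4 D196912)) (tt N104367 (iv5 F445448)) (tt N74550 F402261) (tt N104366 (iv7 F445445)))
theorem Q93883 : ∀ i, i < 93883 → P i := stepQ 93882 Q93882 (allL N93882 (tt N74549 (iv1 F402264)) (tt N74548 F402265) (tt N74551 F402262) (tt N118385 (iv3 F510068)) (tt N104366 (iv4 F445444)) (tt N57191 F402263) (tt N118388 D221647) (tt N57190 (iv7 D196913)))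
theorem Q93884 : ∀ i, i < 93884 → P i := stepQ 93883 Q93883 (allL N93883 (tt N57192 (iv1 D196914)) (tt N61916 F402266) (tt N74582 (iv2 F402271)) (tt N96054 (iv3 F410828)) (tt N93542 (iv4 F402269)) (tt N92915 F402268) (tt N118146 (iv6 F508847)) (tt N74592 F402267))
theorem Q93885 : ∀ i, i < 93885 → P i := stepQ 93884 Q93884 (allL N93884 (tt N101659 F433737) (tt N118138 (iv0 F508811)) (tt N118226 (iv2 F509237)) (tt N57193 F402272) (tt N61921 F402273) (tt N101322 F432650) (tt N57192 (iv6 D196915)) (tt N112481 (iv7 F481272)))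
theorem Q93886 : ∀ i, i < 93886 → P i := stepQ 93885 Q93885 (allL N93885 (tt N74603 (iv1 F402276)) (tt N57193 (iv0 D196916)) (tt N72688 (iv2 F402275)) (tt N96051 F410814) (tt N62581 F402274) (tt N95055 (iv5 F406861)) (tt N77134 F402278) (tt N74601 F402277))
theorem Q93887 : ∀ i, i < 93887 → P i := stepQ 93886 Q93886 (allL N93886 (tt N77104 F402281) (tt N78187 F402282) (tt N74602 F402279) (tt N101322 (iv3 F432651)) (tt N91569 F402280) (tt N57193 (iv5 D196917)) (tt N96052 (iv6 F410820)) (tt N112482 (iv7 F481278)))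
theorem Q93888 : ∀ i, i < 93888 → P i := stepQ 93887 Q93887 (allL N93887 (tt N74568 (iv1 F402286)) (tt N74598 F402285) (tt N57194 (iv2 D196918)) (tt N61916 F402283) (tt N99429 (iv4 F424542)) (tt N96055 (iv5 F410833)) (tt N118389 D221648) (tt N74599 F402284))
theorem Q93889 : ∀ i, i < 93889 → P i := stepQ 93888 Q93888 (allL N93888 (tt N107437 F458340) (tt N107439 (iv0 F458344)) (tt N118389 (iv2 F510085)) (tt N57195 F402287) (tt N99430 (iv4 F424547)) (tt N115537 (iv5 F495683)) (tt N57194 (iv6 D196919)) (tt N118390 D221649))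
theorem Q93890 : ∀ i, i < 93890 → P i := stepQ 93889 Q93889 (allL N93889 (tt N57195 (iv1 D196920)) (tt N74597 F402288) (tt N72706 F402293) (tt N91565 (iv3 F402292)) (tt N62588 F402290) (tt N87295 F402291) (tt N76883 F402294) (tt N74595 F402289))
theorem Q93891 : ∀ i, i < 93891 → P i := stepQ 93890 Q93890 (allL N93890 (tt N88127 F402298) (tt N88128 F402297) (tt N74596 F402295) (tt N115537 (iv3 F495685)) (tt N87965 F402296) (tt N57195 (iv5 D196921)) (tt N96059 (iv6 F410849)) (tt N115566 (iv7 F495803)))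
theorem Q93892 : ∀ i, i < 93892 → P i := stepQ 93891 Q93891 (allL N93891 (tt N72706 (iv1 F402302)) (tt N74595 F402303) (tt N74597 F402299) (tt N118390 (iv3 F510092)) (tt N78129 F402300) (tt N115566 (iv5 F495802)) (tt N74603 F402301) (tt N57195 (iv7 D196922)))
theorem Q93893 : ∀ i, i < 93893 → P i := stepQ 93892 Q93892 (allL N93892 (tt N118147 (iv1 F508857)) (tt N118146 (iv0 F508849)) (tt N116409 (iv2 F499949)) (tt N57196 (iv3 D196923)) (tt N76823 F402304) (tt N93357 F402307) (tt N110932 (iv6 F473853)) (tt N67067 F402305))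
theorem Q93894 : ∀ i, i < 93894 → P i := stepQ 93893 Q93893 (allL N93893 (tt N76194 F402312) (tt N63198 F402313) (tt N66876 F402308) (tt N93357 F402309) (tt N66904 F402311) (tt N57196 (iv5 D196924)) (tt N93356 F402314) (tt N66902 F402310))
theorem Q93895 : ∀ i, i < 93895 → P i := stepQ 93894 Q93894 (allL N93894 (tt N63198 F402319) (tt N76194 F402320) (tt N66902 F402316) (tt N116408 (iv3 F499944)) (tt N66859 F402317) (tt N57197 (iv5 D196925)) (tt N118391 D221650) (tt N66876 F402318))
theorem Q93896 : ∀ i, i < 93896 → P i := stepQ 93895 Q93895 (allL N93895 (tt N116760 (iv1 F501684)) (tt N93789 (iv0 F402326)) (tt N98163 (iv2 F419786)) (tt N57199 (iv3 D196926)) (tt N109874 (iv4 F469028)) (tt N74213 F402325) (tt N114611 (iv6 F491009)) (tt N96065 (iv7 F410878)))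
theorem Q93897 : ∀ i, i < 93897 → P i := stepQ 93896 Q93896 (allL N93896 (tt N60749 F402328) (tt N117718 F506601) (tt N96064 (iv2 F410873)) (tt N114611 (iv3 F491008)) (tt N60920 F402327) (tt N118392 D221651) (tt N57199 (iv6 D196927)) (tt N111002 (iv7 F474183)))
theorem Q93898 : ∀ i, i < 93898 → P i := stepQ 93897 Q93897 (allL N93897 (tt N59187 (iv1 F402332)) (tt N77111 F402331) (tt N57204 (iv2 D196928)) (tt N89070 F402329) (tt N106019 (iv4 F452763)) (tt N110502 F471871) (tt N111424 (iv6 F476298)) (tt N77110 F402330))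
theorem Q93899 : ∀ i, i < 93899 → P i := stepQ 93898 Q93898 (allL N93898 (tt N110503 (iv1 F471878)) (tt N77124 (iv0 F402337)) (tt N110502 F471870) (tt N57205 F402333) (tt N85700 F402336) (tt N57204 (iv5 D196929)) (tt N85699 (iv6 F402335)) (tt N93555 F402334))
theorem Q93900 : ∀ i, i < 93900 → P i := stepQ 93899 Q93899 (allL N93899 (tt N112128 (iv1 F479638)) (tt N81665 (iv0 F402340)) (tt N111424 (iv2 F476293)) (tt N57206 F402338) (tt N90243 F402339) (tt N111422 (iv5 F476284)) (tt N57204 (iv6 D196930)) (tt N110947 (iv7 F473916)))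
theorem Q93901 : ∀ i, i < 93901 → P i := stepQ 93900 Q93900 (allL N93900 (tt N95201 F407390) (tt N78454 (iv0 F402346)) (tt N93557 F402341) (tt N85699 F402342) (tt N66807 F402343) (tt N82437 F402344) (tt N57205 (iv6 D196931)) (tt N61322 F402345))
theorem Q93902 : ∀ i, i < 93902 → P i := stepQ 93901 Q93901 (allL N93901 (tt N94437 (iv1 F404481)) (tt N57209 (iv0 D196932)) (tt N69601 (iv2 F402348)) (tt N118393 D221652) (tt N58745 F402347) (tt N118394 D221653) (tt N108783 (iv6 F463911)) (tt N69605 (iv7 F402349)))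
theorem Q93903 : ∀ i, i < 93903 → P i := stepQ 93902 Q93902 (allL N93902 (tt N57209 (iv1 D196933)) (tt N94437 F404480) (tt N69605 (iv2 F402354)) (tt N74162 (iv3 F402352)) (tt N58746 F402351) (tt N118395 D221654) (tt N74160 (iv6 F402353)) (tt N69601 F402350))
theorem Q93904 : ∀ i, i < 93904 → P i := stepQ 93903 Q93903 (allL N93903 (tt N118396 D221655) (tt N111784 (iv0 F477956)) (tt N94436 (iv2 F404474)) (tt N80265 F402355) (tt N79268 F402358) (tt N57209 (iv5 D196934)) (tt N60132 F402356) (tt N84543 F402357))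
theorem Q93905 : ∀ i, i < 93905 → P i := stepQ 93904 Q93904 (allL N93904 (tt N86902 F402360) (tt N60174 F402361) (tt N111080 (iv2 F474567)) (tt N57210 (iv3 D196935)) (tt N59733 (iv4 F402359)) (tt N104087 (iv5 F444107)) (tt N104830 F447510) (tt N97258 (iv7 F416107)))
theorem Q93906 : ∀ i, i < 93906 → P i := stepQ 93905 Q93905 (allL N93905 (tt N104008 (iv1 F443768)) (tt N97824 (iv0 F418428)) (tt N97257 (iv2 F416102)) (tt N104830 (iv3 F447511)) (tt N104989 (iv4 F448281)) (tt N57262 F402362) (tt N57210 (iv6 D196937)) (tt N92856 F402363))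
theorem Q93907 : ∀ i, i < 93907 → P i := stepQ 93906 Q93906 (allL N93906 (tt N73965 F402367) (tt N59119 F402368) (tt N74041 F402364) (tt N106444 (iv3 F454472)) (tt N74694 F402366) (tt N57213 (iv5 D196938)) (tt N87140 F402369) (tt N74038 F402365))
theorem Q93908 : ∀ i, i < 93908 → P i := stepQ 93907 Q93907 (allL N93907 (tt N91566 F402378) (tt N74109 (iv0 F402379)) (tt N74042 F402375) (tt N67031 F402376) (tt N74672 F402377) (tt N115526 (iv5 F495634)) (tt N57213 (iv6 D196939)) (tt N67029 (iv7 F402380)))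
theorem Q93909 : ∀ i, i < 93909 → P i := stepQ 93908 Q93908 (allL N93908 (tt N98883 (iv1 F422690)) (tt N74137 (iv0 F402384)) (tt N106440 (iv2 F454446)) (tt N57214 (iv3 D196940)) (tt N93543 F402381) (tt N116053 (iv5 F498252)) (tt N117121 F503498) (tt N74040 F402382))
theorem Q93910 : ∀ i, i < 93910 → P i := stepQ 93909 Q93909 (allL N93909 (tt N59119 F402388) (tt N73965 F402389) (tt N74038 F402385) (tt N116053 (iv3 F498249)) (tt N60285 F402386) (tt N57214 (iv5 D196941)) (tt N113629 (iv6 F486379)) (tt N74041 F402387))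
theorem Q93911 : ∀ i, i < 93911 → P i := stepQ 93910 Q93910 (allL N93910 (tt N74075 F402397) (tt N114085 F488530) (tt N74039 F402390) (tt N117121 (iv3 F503499)) (tt N74689 F402391) (tt N84622 F402392) (tt N57214 (iv6 D196942)) (tt N114132 (iv7 F488674)))
theorem Q93912 : ∀ i, i < 93912 → P i := stepQ 93911 Q93911 (allL N93911 (tt N78640 F402401) (tt N74140 F402403) (tt N78653 F402398) (tt N57217 (iv3 D196943)) (tt N62290 F402399) (tt N64096 (iv5 F402402)) (tt N96612 (iv6 F413174)) (tt N60549 F402400))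
theorem Q93913 : ∀ i, i < 93913 → P i := stepQ 93912 Q93912 (allL N93912 (tt N59790 F402408) (tt N102324 (iv0 F436732)) (tt N62663 F402404) (tt N64096 F402405) (tt N80358 F402407) (tt N57217 (iv5 D196944)) (tt N71709 F402409) (tt N60550 F402406))
theorem Q93914 : ∀ i, i < 93914 → P i := stepQ 93913 Q93913 (allL N93913 (tt N106723 (iv1 F455416)) (tt N92039 (iv0 F402414)) (tt N62667 F402410) (tt N81755 (iv3 F402415)) (tt N57218 (iv4 D196945)) (tt N92685 F402413) (tt N81607 F402411) (tt N81752 F402412))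
theorem Q93915 : ∀ i, i < 93915 → P i := stepQ 93914 Q93914 (allL N93914 (tt N57221 (iv1 D196946)) (tt N93781 F402416) (tt N73066 F402420) (tt N74598 (iv3 F402419)) (tt N93590 F402421) (tt N93730 F402418) (tt N72885 (iv6 F402423)) (tt N93776 F402417))
theorem Q93916 : ∀ i, i < 93916 → P i := stepQ 93915 Q93915 (allL N93915 (tt N111554 F476897) (tt N118397 D221656) (tt N118276 (iv2 F509475)) (tt N57223 F402424) (tt N95324 (iv4 F407854)) (tt N108217 F461537) (tt N57221 (iv6 D196947)) (tt N118398 D221657))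
theorem Q93917 : ∀ i, i < 93917 → P i := stepQ 93916 Q93916 (allL N93916 (tt N74086 F402425) (tt N74323 (iv0 F402426)) (tt N105995 (iv2 F452671)) (tt N57222 (iv3 D196948)) (tt N94394 (iv4 F404262)) (tt N115809 (iv5 F497007)) (tt N118399 D221658) (tt N96049 (iv7 F410799)))
theorem Q93918 : ∀ i, i < 93918 → P i := stepQ 93917 Q93917 (allL N93917 (tt N96137 (iv1 F411201)) (tt N93160 F402429) (tt N96058 (iv2 F410843)) (tt N115809 (iv3 F497004)) (tt N73964 F402428) (tt N57222 (iv5 D196949)) (tt N87633 (iv6 F402430)) (tt N88435 F402427))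
theorem Q93919 : ∀ i, i < 93919 → P i := stepQ 93918 Q93918 (allL N93918 (tt N115592 F495911) (tt N115513 (iv0 F495580)) (tt N90724 F402431) (tt N118399 (iv3 F510143)) (tt N57223 F402432) (tt N118400 D221659) (tt N57222 (iv6 D196950)) (tt N118401 D221660))
theorem Q93920 : ∀ i, i < 93920 → P i := stepQ 93919 Q93919 (allL N93919 (tt N96060 (iv1 F410855)) (tt N57223 (iv0 D196951)) (tt N65466 (iv2 F407857)) (tt N74595 F407858) (tt N91566 F407859) (tt N115888 (iv5 F497425)) (tt N65465 F407860) (tt N91565 F407861))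
theorem Q93921 : ∀ i, i < 93921 → P i := stepQ 93920 Q93920 (allL N93920 (tt N84609 F402435) (tt N115621 F496010) (tt N96059 (iv2 F410848)) (tt N108217 (iv3 F461538)) (tt N87998 (iv4 F402434)) (tt N57223 (iv5 D196953)) (tt N74596 F402433) (tt N115591 (iv7 F495898)))
theorem Q93922 : ∀ i, i < 93922 → P i := stepQ 93921 Q93921 (allL N93921 (tt N91565 (iv1 F402436)) (tt N65466 F402437) (tt N96060 (iv2 F410852)) (tt N118398 (iv3 F510137)) (tt N118401 (iv4 F510154)) (tt N115591 (iv5 F495904)) (tt N96053 (iv6 F410823)) (tt N57223 (iv7 D196954)))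
theorem Q93923 : ∀ i, i < 93923 → P i := stepQ 93922 Q93922 (allL N93922 (tt N74580 (iv1 F402440)) (tt N96054 F410830) (tt N57224 (iv2 D196955)) (tt N93781 F402438) (tt N96126 (iv4 F411168)) (tt N74599 F402439) (tt N118402 D221661) (tt N96055 (iv7 F410834)))
theorem Q93924 : ∀ i, i < 93924 → P i := stepQ 93923 Q93923 (allL N93923 (tt N93871 F402441) (tt N93869 F402442) (tt N96126 F411169) (tt N105994 (iv3 F452665)) (tt N57224 (iv4 D196956)) (tt N71970 (iv5 F402443)) (tt N118403 D221662) (tt N96056 (iv7 F410838)))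
theorem Q93925 : ∀ i, i < 93925 → P i := stepQ 93924 Q93924 (allL N93924 (tt N106524 F456441) (tt N106526 F464431) (tt N118402 (iv2 F510159)) (tt N57226 F402444) (tt N118403 (iv4 F510163)) (tt N118404 D221663) (tt N57224 (iv6 D196957)) (tt N118405 D221664))
theorem Q93926 : ∀ i, i < 93926 → P i := stepQ 93925 Q93925 (allL N93925 (tt N93160 F402448) (tt N96137 (iv0 F411200)) (tt N88435 F402445) (tt N71820 F402446) (tt N73963 F402447) (tt N57225 (iv5 D196958)) (tt N88431 (iv6 F402449)) (tt N96058 (iv7 F410846)))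
theorem Q93927 : ∀ i, i < 93927 → P i := stepQ 93926 Q93926 (allL N93926 (tt N117561 F505709) (tt N114192 (iv0 F488929)) (tt N96050 (iv2 F410805)) (tt N90574 F402450) (tt N57226 F402451) (tt N91922 F402452) (tt N57225 (iv6 D196959)) (tt N117586 (iv7 F505850)))
theorem Q93928 : ∀ i, i < 93928 → P i := stepQ 93927 Q93927 (allL N93927 (tt N57226 (iv1 D196961)) (tt N96053 F410824) (tt N74566 (iv2 F402456)) (tt N74601 F402454) (tt N114085 (iv4 F488528)) (tt N77520 F402455) (tt N77521 (iv6 F402453)) (tt N96051 (iv7 F410815)))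
theorem Q93929 : ∀ i, i < 93929 → P i := stepQ 93928 Q93928 (allL N93928 (tt N91598 F402458) (tt N94865 (iv0 F410676)) (tt N96052 (iv2 F410819)) (tt N118404 (iv3 F510166)) (tt N118406 D221665) (tt N57226 (iv5 D196962)) (tt N74602 F402457) (tt N118407 D221666))
theorem Q93930 : ∀ i, i < 93930 → P i := stepQ 93929 Q93929 (allL N93929 (tt N74566 (iv1 F410817)) (tt N96051 F410818) (tt N96053 (iv2 F410822)) (tt N118405 (iv3 F510171)) (tt N117586 (iv4 F505853)) (tt N118407 (iv5 F510180)) (tt N96060 (iv6 F410853)) (tt N57226 (iv7 D196963)))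
theorem Q93931 : ∀ i, i < 93931 → P i := stepQ 93930 Q93930 (allL N93930 (tt N57231 (iv1 F402459)) (tt N57227 (iv0 D196964)) (tt N57228 F402478) (tt N118408 D221667) (tt N106712 (iv4 F455361)) (tt N118409 D221668) (tt N112708 (iv6 F482289)) (tt N57229 F402479))
theorem Q93932 : ∀ i, i < 93932 → P i := stepQ 93931 Q93931 (allL N93931 (tt N57227 (iv1 D196965)) (tt N57231 F402460) (tt N57229 (iv2 F402477)) (tt N73064 F402461) (tt N111582 (iv4 F477011)) (tt N108218 (iv5 F461540)) (tt N65463 (iv6 F409335)) (tt N57228 F402476))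
theorem Q93933 : ∀ i, i < 93933 → P i := stepQ 93932 Q93932 (allL N93932 (tt N103086 (iv1 F440010)) (tt N58078 (iv0 F402466)) (tt N57230 F402462) (tt N73148 F402463) (tt N106750 (iv4 F455532)) (tt N57227 (iv5 D196966)) (tt N93731 F402464) (tt N73175 F402465))
theorem Q93934 : ∀ i, i < 93934 → P i := stepQ 93933 Q93933 (allL N93933 (tt N58184 (iv1 F402475)) (tt N72885 (iv0 F402474)) (tt N73063 F402469) (tt N57228 (iv3 D196968)) (tt N93686 (iv4 F402468)) (tt N93364 F402472) (tt N93685 F402470) (tt N73064 F402471))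
theorem Q93935 : ∀ i, i < 93935 → P i := stepQ 93934 Q93934 (allL N93934 (tt N79566 F402481) (tt N109309 (iv0 F466327)) (tt N106712 (iv2 F455357)) (tt N58559 F402480) (tt N57228 (iv4 D196969)) (tt N100694 (iv5 F430053)) (tt N58557 (iv6 F402482)) (tt N111582 (iv7 F477009)))
theorem Q93936 : ∀ i, i < 93936 → P i := stepQ 93935 Q93935 (allL N93935 (tt N118410 D221669) (tt N90298 (iv0 F402485)) (tt N118409 (iv2 F510189)) (tt N93364 F402483) (tt N91745 (iv4 F402486)) (tt N57228 (iv5 D196970)) (tt N93362 F402484) (tt N108218 (iv7 F461541)))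
theorem Q93937 : ∀ i, i < 93937 → P i := stepQ 93936 Q93936 (allL N93936 (tt N77521 (iv1 F402489)) (tt N108666 (iv0 F463452)) (tt N112708 (iv2 F482283)) (tt N93685 F402487) (tt N58557 F402488) (tt N101777 (iv5 F434299)) (tt N57228 (iv6 D196971)) (tt N96006 (iv7 F410606)))
theorem Q93938 : ∀ i, i < 93938 → P i := stepQ 93937 Q93937 (allL N93937 (tt N106511 F454717) (tt N106767 F464404) (tt N118411 D221670) (tt N57229 (iv3 D196972)) (tt N117080 (iv4 F503273)) (tt N116603 F500933) (tt N96007 (iv6 F410607)) (tt N118408 (iv7 F510186)))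
theorem Q93939 : ∀ i, i < 93939 → P i := stepQ 93938 Q93938 (allL N93938 (tt N109309 (iv1 F466326)) (tt N79566 (iv0 F402492)) (tt N111582 (iv2 F477006)) (tt N90710 F402491) (tt N57229 (iv4 D196973)) (tt N100693 (iv5 F430047)) (tt N90708 F402490) (tt N106712 (iv7 F455360)))
theorem Q93940 : ∀ i, i < 93940 → P i := stepQ 93939 Q93939 (allL N93939 (tt N90298 F445468) (tt N118410 F510200) (tt N108218 F461542) (tt N116603 (iv3 F500932)) (tt N91746 (iv4 F445469)) (tt N57229 (iv5 D196974)) (tt N111829 (iv6 F478187)) (tt N118409 (iv7 F510193)))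
theorem Q93941 : ∀ i, i < 93941 → P i := stepQ 93940 Q93940 (allL N93940 (tt N73175 F402497) (tt N57230 (iv0 D196975)) (tt N103086 (iv2 F440007)) (tt N58080 (iv3 F402494)) (tt N71692 F402493) (tt N117552 (iv5 F505655)) (tt N90384 F402495) (tt N58078 F402496))
theorem Q93942 : ∀ i, i < 93942 → P i := stepQ 93941 Q93941 (allL N93941 (tt N57230 (iv1 D196976)) (tt N73175 F402498) (tt N58078 F402500) (tt N116828 F502047) (tt N117597 (iv4 F505915)) (tt N117156 (iv5 F503670)) (tt N58077 (iv6 F402499)) (tt N103086 (iv7 F440008)))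
theorem Q93943 : ∀ i, i < 93943 → P i := stepQ 93942 Q93942 (allL N93942 (tt N58078 (iv1 F402508)) (tt N103086 F440009) (tt N73175 F402503) (tt N57234 F402504) (tt N90339 F402505) (tt N57231 F402506) (tt N90337 F402507) (tt N57230 (iv7 D196977)))
theorem Q93944 : ∀ i, i < 93944 → P i := stepQ 93943 Q93943 (allL N93943 (tt N73060 (iv1 F402513)) (tt N58183 (iv0 F402511)) (tt N72928 F402509) (tt N57232 (iv3 D196978)) (tt N107707 (iv4 F459317)) (tt N96100 (iv5 F411055)) (tt N62169 F402512) (tt N73059 F402510))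
theorem Q93945 : ∀ i, i < 93945 → P i := stepQ 93944 Q93944 (allL N93944 (tt N73111 (iv1 F402523)) (tt N62226 F402524) (tt N73110 F402518) (tt N62169 F402519) (tt N62615 F402520) (tt N61190 F402521) (tt N57232 (iv6 D196979)) (tt N72923 F402522))
theorem Q93946 : ∀ i, i < 93946 → P i := stepQ 93945 Q93945 (allL N93945 (tt N74629 (iv1 F402529)) (tt N57233 (iv0 D196980)) (tt N74626 (iv2 F402527)) (tt N91389 F402525) (tt N60037 F402526) (tt N91874 (iv5 F402531)) (tt N90781 F402530) (tt N74627 (iv7 F402528)))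
theorem Q93947 : ∀ i, i < 93947 → P i := stepQ 93946 Q93946 (allL N93946 (tt N57233 (iv1 D196981)) (tt N74629 F402532) (tt N74627 F402536) (tt N91279 F402537) (tt N60038 F402534) (tt N91879 F402538) (tt N72967 (iv6 F402535)) (tt N74626 F402533))
theorem Q93948 : ∀ i, i < 93948 → P i := stepQ 93947 Q93947 (allL N93947 (tt N65685 (iv1 F402544)) (tt N91824 (iv0 F402542)) (tt N74628 F402539) (tt N106751 (iv3 F455535)) (tt N65733 F402541) (tt N57233 (iv5 D196982)) (tt N91958 F402540) (tt N74657 (iv7 F402543)))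
theorem Q93949 : ∀ i, i < 93949 → P i := stepQ 93948 Q93948 (allL N93948 (tt N74627 (iv1 F402549)) (tt N74626 F402550) (tt N74629 F402545) (tt N90714 F402546) (tt N57234 F402547) (tt N74657 F402548) (tt N90713 (iv6 F402551)) (tt N57233 (iv7 D196983)))
theorem Q93950 : ∀ i, i < 93950 → P i := stepQ 93949 Q93949 (allL N93949 (tt N90371 (iv1 F402556)) (tt N104869 (iv0 F447724)) (tt N72224 F402552) (tt N90337 F402553) (tt N90713 F402554) (tt N96066 (iv5 F410882)) (tt N57234 (iv6 D196984)) (tt N93738 F402555))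
theorem Q93951 : ∀ i, i < 93951 → P i := stepQ 93950 Q93950 (allL N93950 (tt N58828 (iv1 F402561)) (tt N57237 (iv0 D196985)) (tt N60893 (iv2 F402560)) (tt N74054 F402559) (tt N62890 F402558) (tt N60874 F402557) (tt N66270 (iv6 F402563)) (tt N60891 F402562))
theorem Q93952 : ∀ i, i < 93952 → P i := stepQ 93951 Q93951 (allL N93951 (tt N74640 (iv1 F402567)) (tt N57238 (iv0 D196986)) (tt N74639 (iv2 F402566)) (tt N90484 F402564) (tt N90485 F402565) (tt N118412 D221671) (tt N77111 F402568) (tt N59174 F402569))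
theorem Q93953 : ∀ i, i < 93953 → P i := stepQ 93952 Q93952 (allL N93952 (tt N74639 (iv1 F402574)) (tt N59174 F402573) (tt N57238 (iv2 D196987)) (tt N74632 F402571) (tt N106049 (iv4 F452899)) (tt N118413 D221672) (tt N118414 D221673) (tt N74640 F402572))
theorem Q93954 : ∀ i, i < 93954 → P i := stepQ 93953 Q93953 (allL N93953 (tt N116617 F500995) (tt N108156 (iv0 F461328)) (tt N118413 (iv2 F510214)) (tt N57239 F402575) (tt N117863 (iv4 F507333)) (tt N57238 (iv5 D196988)) (tt N108128 (iv6 F461226)) (tt N74641 F402576))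
theorem Q93955 : ∀ i, i < 93955 → P i := stepQ 93954 Q93954 (allL N93954 (tt N110560 (iv1 F472145)) (tt N118415 D221674) (tt N118414 (iv2 F510220)) (tt N57240 F402577) (tt N80020 F402578) (tt N118035 (iv5 F508210)) (tt N57238 (iv6 D196989)) (tt N67311 F402579))
theorem Q93956 : ∀ i, i < 93956 → P i := stepQ 93955 Q93955 (allL N93955 (tt N57239 (iv1 D196990)) (tt N57243 F402580) (tt N74636 (iv2 F402582)) (tt N108183 (iv3 F461422)) (tt N108931 (iv4 F464547)) (tt N95033 (iv5 F406737)) (tt N108106 (iv6 F461130)) (tt N74635 F402581))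
theorem Q93957 : ∀ i, i < 93957 → P i := stepQ 93956 Q93956 (allL N93956 (tt N117647 (iv1 F506202)) (tt N90661 F402586) (tt N74637 F402583) (tt N118416 D221675) (tt N57239 (iv4 D196991)) (tt N65685 F402585) (tt N97358 F416483) (tt N74642 F402584))
theorem Q93958 : ∀ i, i < 93958 → P i := stepQ 93957 Q93957 (allL N93957 (tt N65684 F402591) (tt N60044 F402592) (tt N65686 F402587) (tt N91818 F402588) (tt N91824 F402593) (tt N57241 (iv5 D196992)) (tt N91816 F402589) (tt N65521 F402590))
theorem Q93959 : ∀ i, i < 93959 → P i := stepQ 93958 Q93958 (allL N93958 (tt N74537 (iv1 F402599)) (tt N74631 F402598) (tt N57242 (iv2 D196993)) (tt N74640 F402594) (tt N76093 F402595) (tt N81275 (iv5 F402600)) (tt N93373 F402596) (tt N74632 F402597))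
theorem Q93960 : ∀ i, i < 93960 → P i := stepQ 93959 Q93959 (allL N93959 (tt N111532 (iv1 F476781)) (tt N111533 (iv0 F476786)) (tt N81275 F402601) (tt N57243 F402602) (tt N63577 F402605) (tt N57242 (iv5 D196994)) (tt N63581 F402603) (tt N74633 F402604))
theorem Q93961 : ∀ i, i < 93961 → P i := stepQ 93960 Q93960 (allL N93960 (tt N90661 F402610) (tt N117647 (iv0 F506201)) (tt N74642 F402606) (tt N91825 F402607) (tt N57243 (iv4 D196995)) (tt N91824 F402608) (tt N103151 (iv6 F440317)) (tt N74637 F402609))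
theorem Q93962 : ∀ i, i < 93962 → P i := stepQ 93961 Q93961 (allL N93961 (tt N94999 F406600) (tt N99481 (iv0 F424782)) (tt N74643 F402611) (tt N63581 F402612) (tt N103151 (iv4 F440315)) (tt N93375 F402613) (tt N57243 (iv6 D196996)) (tt N108127 (iv7 F461223)))
theorem Q93963 : ∀ i, i < 93963 → P i := stepQ 93962 Q93962 (allL N93962 (tt N95587 (iv1 F408784)) (tt N72128 (iv0 F402617)) (tt N94277 (iv2 F403925)) (tt N57246 F402614) (tt N105955 (iv4 F452490)) (tt N57244 (iv5 D196997)) (tt N57415 F402615) (tt N71957 F402616))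
theorem Q93964 : ∀ i, i < 93964 → P i := stepQ 93963 Q93963 (allL N93963 (tt N102102 (iv1 F435735)) (tt N60763 (iv0 F402620)) (tt N117710 F506561) (tt N57245 (iv3 D196998)) (tt N91959 F402618) (tt N82535 F402621) (tt N102395 (iv6 F437046)) (tt N74647 F402619))
theorem Q93965 : ∀ i, i < 93965 → P i := stepQ 93964 Q93964 (allL N93964 (tt N101990 (iv1 F435251)) (tt N96894 (iv0 F414483)) (tt N74645 F402622) (tt N82535 F402623) (tt N91879 F402625) (tt N57245 (iv5 D196999)) (tt N112857 F482994) (tt N74648 F402624))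
theorem Q93966 : ∀ i, i < 93966 → P i := stepQ 93965 Q93965 (allL N93965 (tt N73047 F402630) (tt N59206 F402631) (tt N74646 F402626) (tt N118417 D221676) (tt N57246 (iv4 D197000)) (tt N60037 F402629) (tt N57416 F402627) (tt N74649 F402628))
theorem Q93967 : ∀ i, i < 93967 → P i := stepQ 93966 Q93966 (allL N93966 (tt N60704 F402635) (tt N102886 F439107) (tt N81737 (iv2 F402634)) (tt N57248 (iv3 D197001)) (tt N96784 (iv4 F413922)) (tt N97587 (iv5 F417485)) (tt N81667 F402632) (tt N74644 F402633))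
theorem Q93968 : ∀ i, i < 93968 → P i := stepQ 93967 Q93967 (allL N93967 (tt N96894 (iv1 F414484)) (tt N101990 (iv0 F435250)) (tt N74648 F402636) (tt N97587 (iv3 F417484)) (tt N91874 F402637) (tt N57248 (iv5 D197002)) (tt N80738 F402638) (tt N74645 F402639))
theorem Q93969 : ∀ i, i < 93969 → P i := stepQ 93968 Q93968 (allL N93968 (tt N60545 (iv1 F402644)) (tt N60541 F402645) (tt N67280 F402640) (tt N57251 F402641) (tt N67300 (iv4 F402646)) (tt N58841 F402642) (tt N91876 F402643) (tt N57249 (iv7 D197003)))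
theorem Q93970 : ∀ i, i < 93970 → P i := stepQ 93969 Q93969 (allL N93969 (tt N91824 F402653) (tt N65685 F402654) (tt N74657 F402650) (tt N58409 F402651) (tt N57250 (iv4 D197004)) (tt N74629 F402652) (tt N118418 D221677) (tt N74628 F402655))
theorem Q93971 : ∀ i, i < 93971 → P i := stepQ 93970 Q93970 (allL N93970 (tt N103413 (iv1 F441510)) (tt N82382 (iv0 F402659)) (tt N74658 F402656) (tt N65832 F402657) (tt N118418 (iv4 F510245)) (tt N57256 F402658) (tt N57250 (iv6 D197005)) (tt N102395 (iv7 F437047)))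
theorem Q93972 : ∀ i, i < 93972 → P i := stepQ 93971 Q93971 (allL N93971 (tt N58140 (iv1 F402664)) (tt N65735 F402665) (tt N65733 F402660) (tt N58841 F402661) (tt N74628 F402662) (tt N57251 F402663) (tt N74647 F402666) (tt N57250 (iv7 D197006)))
theorem Q93973 : ∀ i, i < 93973 → P i := stepQ 93972 Q93972 (allL N93972 (tt N92047 (iv1 F402669)) (tt N97532 F417281) (tt N95785 (iv2 F409631)) (tt N57252 (iv3 D197007)) (tt N60086 F402668) (tt N92626 F402667) (tt N116219 F499086) (tt N95789 (iv7 F409659)))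
theorem Q93974 : ∀ i, i < 93974 → P i := stepQ 93973 Q93973 (allL N93973 (tt N97774 F418260) (tt N101974 (iv0 F435170)) (tt N97486 (iv2 F417053)) (tt N102091 F435679) (tt N57252 (iv4 D197008)) (tt N102095 F435697) (tt N102096 (iv6 F435701)) (tt N97484 (iv7 F417044)))
theorem Q93975 : ∀ i, i < 93975 → P i := stepQ 93974 Q93974 (allL N93974 (tt N65122 F402671) (tt N60773 (iv0 F402672)) (tt N97487 (iv2 F417060)) (tt N116219 (iv3 F499082)) (tt N102096 (iv4 F435703)) (tt N60594 F402670) (tt N57252 (iv6 D197009)) (tt N97561 (iv7 F417385)))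
theorem Q93976 : ∀ i, i < 93976 → P i := stepQ 93975 Q93975 (allL N93975 (tt N97492 (iv1 F417085)) (tt N92053 (iv0 F412426)) (tt N97491 (iv2 F417079)) (tt N57253 (iv3 D197010)) (tt N86974 F402674) (tt N92629 F402673) (tt N103461 (iv6 F441731)) (tt N97485 (iv7 F417048)))
theorem Q93977 : ∀ i, i < 93977 → P i := stepQ 93976 Q93976 (allL N93976 (tt N92677 F402679) (tt N92684 (iv0 F402680)) (tt N57255 F402675) (tt N74661 F402676) (tt N78906 (iv4 F402681)) (tt N57254 (iv5 D197011)) (tt N60685 F402677) (tt N92682 F402678))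
theorem Q93978 : ∀ i, i < 93978 → P i := stepQ 93977 Q93977 (allL N93977 (tt N74666 (iv1 F402687)) (tt N57256 (iv0 D197012)) (tt N74664 F402688) (tt N67287 F402683) (tt N60834 F402684) (tt N101983 (iv5 F435216)) (tt N65812 F402685) (tt N74665 (iv7 F402686)))
theorem Q93979 : ∀ i, i < 93979 → P i := stepQ 93978 Q93978 (allL N93978 (tt N57256 (iv1 D197013)) (tt N74666 F402690) (tt N74665 (iv2 F402694)) (tt N105880 (iv3 F452154)) (tt N60835 F402692) (tt N60605 F402693) (tt N110282 (iv6 F470822)) (tt N74664 F402691))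
theorem Q93980 : ∀ i, i < 93980 → P i := stepQ 93979 Q93979 (allL N93979 (tt N74665 (iv1 F402698)) (tt N74664 F402699) (tt N74666 F402695) (tt N60686 F402696) (tt N60723 F402697) (tt N102395 (iv5 F437045)) (tt N97490 (iv6 F417073)) (tt N57256 (iv7 D197014)))
theorem Q93981 : ∀ i, i < 93981 → P i := stepQ 93980 Q93980 (allL N93980 (tt N102204 (iv1 F436168)) (tt N97696 (iv0 F417942)) (tt N102360 (iv2 F436898)) (tt N57258 (iv3 D197015)) (tt N57260 F402700) (tt N118419 D221678) (tt N87679 (iv6 F402716)) (tt N74662 F402701))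
theorem Q93982 : ∀ i, i < 93982 → P i := stepQ 93981 Q93981 (allL N93981 (tt N117990 (iv1 F507950)) (tt N97950 (iv0 F418935)) (tt N117996 F507985) (tt N118419 (iv3 F510251)) (tt N98061 (iv4 F419319)) (tt N57258 (iv5 D197016)) (tt N118420 D221679) (tt N97875 (iv7 F418623)))
theorem Q93983 : ∀ i, i < 93983 → P i := stepQ 93982 Q93982 (allL N93982 (tt N103926 F443402) (tt N68643 (iv0 F413911)) (tt N118045 (iv2 F508268)) (tt N87679 (iv3 F402715)) (tt N57259 F402702) (tt N103623 (iv5 F442278)) (tt N57258 (iv6 D197017)) (tt N115749 (iv7 F496653)))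
theorem Q93984 : ∀ i, i < 93984 → P i := stepQ 93983 Q93983 (allL N93983 (tt N118113 (iv1 F508677)) (tt N57259 (iv0 D197018)) (tt N92819 (iv2 F402705)) (tt N113685 (iv3 F486620)) (tt N103429 (iv4 F441590)) (tt N87650 F402703) (tt N92807 F402704) (tt N87649 (iv7 F402706)))
theorem Q93985 : ∀ i, i < 93985 → P i := stepQ 93984 Q93984 (allL N93984 (tt N57259 (iv1 D197019)) (tt N118113 (iv0 F508676)) (tt N87649 F402709) (tt N102881 F439082) (tt N103389 (iv4 F441399)) (tt N87164 (iv5 F402708)) (tt N115481 (iv6 F495410)) (tt N92819 F402707))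
theorem Q93986 : ∀ i, i < 93986 → P i := stepQ 93985 Q93985 (allL N93985 (tt N87649 (iv1 F402711)) (tt N92819 F402712) (tt N118113 (iv2 F508671)) (tt N57263 F402710) (tt N115749 (iv4 F496650)) (tt N97195 (iv5 F415837)) (tt N97878 (iv6 F418636)) (tt N57259 (iv7 D197020)))
theorem Q93987 : ∀ i, i < 93987 → P i := stepQ 93986 Q93986 (allL N93986 (tt N97514 F417206) (tt N97503 (iv0 F417138)) (tt N97512 F417184) (tt N57261 F402713) (tt N87679 F402714) (tt N102171 (iv5 F436020)) (tt N57260 (iv6 D197021)) (tt N97513 (iv7 F417198)))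
theorem Q93988 : ∀ i, i < 93988 → P i := stepQ 93987 Q93987 (allL N93987 (tt N97055 (iv1 F415240)) (tt N61593 (iv0 F402720)) (tt N97490 (iv2 F417070)) (tt N97513 F417199) (tt N57263 F402717) (tt N80419 F402718) (tt N74666 F402719) (tt N57261 (iv7 D197022)))
theorem Q93989 : ∀ i, i < 93989 → P i := stepQ 93988 Q93988 (allL N93988 (tt N60052 F402724) (tt N65717 (iv0 F402725)) (tt N74377 F402721) (tt N103469 (iv3 F441764)) (tt N57262 (iv4 D197023)) (tt N102884 (iv5 F439093)) (tt N67366 F402722) (tt N74376 F402723))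
theorem Q93990 : ∀ i, i < 93990 → P i := stepQ 93989 Q93989 (allL N93989 (tt N83791 F402729) (tt N83801 (iv0 F402730)) (tt N83800 F402726) (tt N57264 (iv3 D197024)) (tt N68375 F402727) (tt N104973 (iv5 F448219)) (tt N102141 (iv6 F435917)) (tt N83799 F402728))
theorem Q93991 : ∀ i, i < 93991 → P i := stepQ 93990 Q93990 (allL N93990 (tt N76427 F402732) (tt N76429 F402733) (tt N104206 (iv2 F444684)) (tt N104973 (iv3 F448217)) (tt N57471 F402731) (tt N57264 (iv5 D197025)) (tt N104972 (iv6 F448214)) (tt N104009 (iv7 F443770)))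
theorem Q93992 : ∀ i, i < 93992 → P i := stepQ 93991 Q93991 (allL N93991 (tt N87582 F402736) (tt N87149 F402737) (tt N87581 F402734) (tt N102141 (iv3 F435916)) (tt N57265 F402735) (tt N105018 (iv5 F448400)) (tt N57264 (iv6 D197026)) (tt N87580 (iv7 F402738)))
theorem Q93993 : ∀ i, i < 93993 → P i := stepQ 93992 Q93992 (allL N93992 (tt N109743 (iv1 F468400)) (tt N57265 (iv0 D197027)) (tt N91086 (iv2 F402740)) (tt N95867 (iv3 F410016)) (tt N109723 (iv4 F468295)) (tt N91053 F402739) (tt N109722 (iv6 F468292)) (tt N109742 (iv7 F468390)))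
theorem Q93994 : ∀ i, i < 93994 → P i := stepQ 93993 Q93993 (allL N93993 (tt N109742 (iv1 F468389)) (tt N91086 (iv0 F410114)) (tt N109743 (iv2 F468395)) (tt N68379 F402741) (tt N87580 F402742) (tt N83973 F402743) (tt N104012 (iv6 F443785)) (tt N57265 (iv7 D197028)))
theorem Q93995 : ∀ i, i < 93995 → P i := stepQ 93994 Q93994 (allL N93994 (tt N76429 F402746) (tt N76427 F402747) (tt N104009 (iv2 F443769)) (tt N86700 F402744) (tt N57470 F402745) (tt N57266 (iv5 D197029)) (tt N85542 (iv6 F402748)) (tt N104206 (iv7 F444686)))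
theorem Q93996 : ∀ i, i < 93996 → P i := stepQ 93995 Q93995 (allL N93995 (tt N75549 F402751) (tt N69623 (iv0 F402752)) (tt N104010 (iv2 F443775)) (tt N86701 F402749) (tt N57267 F402750) (tt N114308 (iv5 F489518)) (tt N57266 (iv6 D197030)) (tt N104208 (iv7 F444698)))
theorem Q93997 : ∀ i, i < 93997 → P i := stepQ 93996 Q93996 (allL N93996 (tt N57267 (iv1 D197031)) (tt N104012 F443786) (tt N92947 F402754) (tt N95869 (iv3 F420329)) (tt N68431 F402755) (tt N99813 (iv5 F426351)) (tt N68430 (iv6 F402753)) (tt N104011 (iv7 F443780)))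
theorem Q93998 : ∀ i, i < 93998 → P i := stepQ 93997 Q93997 (allL N93997 (tt N92947 (iv1 F402756)) (tt N104011 F443781) (tt N104012 (iv2 F443782)) (tt N113587 (iv3 F486165)) (tt N104208 F444700) (tt N109715 (iv5 F468252)) (tt N109743 (iv6 F468398)) (tt N57267 (iv7 D197032)))
theorem Q93999 : ∀ i, i < 93999 → P i := stepQ 93998 Q93998 (allL N93998 (tt N92978 F402760) (tt N92983 (iv0 F402761)) (tt N92981 (iv2 F411626)) (tt N57270 (iv3 D197033)) (tt N86493 F402757) (tt N76509 F402758) (tt N86709 (iv6 F402762)) (tt N76323 F402759))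
theorem Q94000 : ∀ i, i < 94000 → P i := stepQ 93999 Q93999 (allL N93999 (tt N79086 (iv1 F430302)) (tt N79088 (iv0 F402767)) (tt N76437 F402763) (tt N86709 F402764) (tt N57271 F402765) (tt N69766 F402766) (tt N57270 (iv6 D197034)) (tt N109384 (iv7 F466691)))
theorem Q94001 : ∀ i, i < 94001 → P i := stepQ 94000 Q94000 (allL N94000 (tt N98636 F421672) (tt N105423 F450192) (tt N63324 F402768) (tt N84799 F402769) (tt N105405 (iv4 F450099)) (tt N57271 (iv5 D197035)) (tt N63284 F402770) (tt N105418 (iv7 F450172)))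
theorem Q94002 : ∀ i, i < 94002 → P i := stepQ 94001 Q94001 (allL N94001 (tt N76439 (iv1 F402774)) (tt N76438 F402775) (tt N76404 F402771) (tt N86498 F402772) (tt N109384 (iv4 F466689)) (tt N105418 (iv5 F450173)) (tt N76320 F402773) (tt N57271 (iv7 D197036)))
theorem Q94003 : ∀ i, i < 94003 → P i := stepQ 94002 Q94002 (allL N94002 (tt N76411 F402777) (tt N76416 F402778) (tt N109666 (iv2 F468008)) (tt N108804 (iv3 F464031)) (tt N57461 F402776) (tt N57272 (iv5 D197037)) (tt N98488 F421104) (tt N100207 F427998))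
theorem Q94004 : ∀ i, i < 94004 → P i := stepQ 94003 Q94003 (allL N94003 (tt N76416 F402783) (tt N76411 F402784) (tt N100207 (iv2 F427994)) (tt N86134 F402781) (tt N57458 F402782) (tt N57273 (iv5 D197038)) (tt N100170 (iv6 F427820)) (tt N109666 (iv7 F468012)))
theorem Q94005 : ∀ i, i < 94005 → P i := stepQ 94004 Q94004 (allL N94004 (tt N57472 (iv1 F402788)) (tt N57274 (iv0 D197039)) (tt N98659 F421765) (tt N98444 (iv3 F431342)) (tt N57450 F402786) (tt N57434 F402785) (tt N114479 (iv6 F490390)) (tt N89162 (iv7 F402787)))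
theorem Q94006 : ∀ i, i < 94006 → P i := stepQ 94005 Q94005 (allL N94005 (tt N57274 (iv1 D197040)) (tt N57472 F402789) (tt N89162 (iv2 F402792)) (tt N78783 F403396) (tt N57439 F402791) (tt N57445 F402790) (tt N83826 (iv6 F402793)) (tt N98659 (iv7 F421764)))
theorem Q94007 : ∀ i, i < 94007 → P i := stepQ 94006 Q94006 (allL N94006 (tt N89162 (iv1 F402798)) (tt N98659 F421768) (tt N57472 F402794) (tt N92970 F402795) (tt N57455 F402796) (tt N57275 F402797) (tt N97986 (iv6 F419071)) (tt N57274 (iv7 D197041)))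
theorem Q94008 : ∀ i, i < 94008 → P i := stepQ 94007 Q94007 (allL N94007 (tt N86489 F402800) (tt N86584 F416090) (tt N69504 F402799) (tt N57277 (iv3 D197042)) (tt N118099 (iv4 F508580)) (tt N117742 (iv5 F506740)) (tt N86549 F402805) (tt N110978 (iv7 F474050)))
theorem Q94009 : ∀ i, i < 94009 → P i := stepQ 94008 Q94008 (allL N94008 (tt N83974 F402802) (tt N76397 (iv0 F402803)) (tt N110977 (iv2 F474040)) (tt N86549 (iv3 F402804)) (tt N76469 F402801) (tt N104856 (iv5 F447648)) (tt N57277 (iv6 D197043)) (tt N113589 (iv7 F486178)))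
theorem Q94010 : ∀ i, i < 94010 → P i := stepQ 94009 Q94009 (allL N94009 (tt N57278 (iv1 D197044)) (tt N76425 F402806) (tt N76424 (iv2 F402808)) (tt N86438 (iv3 F402809)) (tt N109057 (iv4 F465141)) (tt N105845 (iv5 F451998)) (tt N86541 (iv6 F402810)) (tt N76423 F402807))
theorem Q94011 : ∀ i, i < 94011 → P i := stepQ 94010 Q94010 (allL N94010 (tt N69249 F402813) (tt N69247 (iv0 F402815)) (tt N103572 (iv2 F442082)) (tt N57279 (iv3 D197045)) (tt N68807 F402814) (tt N68958 F402811) (tt N116044 (iv6 F498213)) (tt N93244 F402812))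
theorem Q94012 : ∀ i, i < 94012 → P i := stepQ 94011 Q94011 (allL N94011 (tt N114246 F489197) (tt N103465 (iv0 F441747)) (tt N93247 F402816) (tt N116044 (iv3 F498211)) (tt N61117 F402817) (tt N104422 F445684) (tt N57279 (iv6 D197046)) (tt N111778 (iv7 F477927)))
theorem Q94013 : ∀ i, i < 94013 → P i := stepQ 94012 Q94012 (allL N94012 (tt N68783 F444545) (tt N105536 (iv0 F450631)) (tt N116042 (iv2 F498203)) (tt N57280 (iv3 D197047)) (tt N114248 (iv4 F489206)) (tt N104910 (iv5 F447893)) (tt N116033 (iv6 F498153)) (tt N93246 F402818))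
theorem Q94014 : ∀ i, i < 94014 → P i := stepQ 94013 Q94013 (allL N94013 (tt N63816 F402821) (tt N63818 (iv0 F402822)) (tt N93245 F402819) (tt N116033 (iv3 F498151)) (tt N78926 F402820) (tt N118063 (iv5 F508370)) (tt N57280 (iv6 D197048)) (tt N98126 (iv7 F419572)))
theorem Q94015 : ∀ i, i < 94015 → P i := stepQ 94014 Q94014 (allL N94014 (tt N81461 (iv1 F402825)) (tt N92202 F402824) (tt N57281 (iv2 D197049)) (tt N76365 F402823) (tt N118111 (iv4 F508660)) (tt N112360 (iv5 F480737)) (tt N86650 F402826) (tt N95893 (iv7 F410122)))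
theorem Q94016 : ∀ i, i < 94016 → P i := stepQ 94015 Q94015 (allL N94015 (tt N112413 F481000) (tt N97267 (iv0 F416141)) (tt N118111 F508662) (tt N104786 (iv3 F447263)) (tt N57281 (iv4 D197050)) (tt N115428 (iv5 F495142)) (tt N116081 (iv6 F498363)) (tt N85464 F402827))
theorem Q94017 : ∀ i, i < 94017 → P i := stepQ 94016 Q94016 (allL N94016 (tt N114077 (iv1 F488477)) (tt N87614 (iv0 F402832)) (tt N86650 F402828) (tt N57282 F402829) (tt N116081 (iv4 F498361)) (tt N69604 F402831) (tt N57281 (iv6 D197051)) (tt N86653 F402830))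
theorem Q94018 : ∀ i, i < 94018 → P i := stepQ 94017 Q94017 (allL N94017 (tt N57282 (iv1 D197052)) (tt N69602 F402833) (tt N95892 F410117) (tt N91211 (iv3 F402835)) (tt N115372 (iv4 F494860)) (tt N104927 (iv5 F447981)) (tt N114073 F488456) (tt N93118 F402834))
theorem Q94019 : ∀ i, i < 94019 → P i := stepQ 94018 Q94018 (allL N94018 (tt N95892 (iv1 F410115)) (tt N93118 (iv0 F402840)) (tt N69602 F402836) (tt N86653 F402837) (tt N85686 F402838) (tt N58745 F402839) (tt N95894 (iv6 F410129)) (tt N57282 (iv7 D197053)))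
theorem Q94020 : ∀ i, i < 94020 → P i := stepQ 94019 Q94019 (allL N94019 (tt N100784 (iv1 F430460)) (tt N85141 (iv0 F402841)) (tt N111266 (iv2 F475525)) (tt N98638 (iv3 F421680)) (tt N57283 (iv4 D197054)) (tt N98636 (iv5 F421673)) (tt N118421 D221680) (tt N95890 (iv7 F410107)))
theorem Q94021 : ∀ i, i < 94021 → P i := stepQ 94020 Q94020 (allL N94020 (tt N114070 F488439) (tt N98281 (iv0 F420308)) (tt N111267 (iv2 F475530)) (tt N57284 F402842) (tt N118421 (iv4 F510262)) (tt N61552 F402843) (tt N57283 (iv6 D197055)) (tt N114074 (iv7 F488460)))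
theorem Q94022 : ∀ i, i < 94022 → P i := stepQ 94021 Q94021 (allL N94021 (tt N60934 (iv1 F402847)) (tt N60931 F402848) (tt N95894 (iv2 F410125)) (tt N114074 (iv3 F488458)) (tt N65943 F402844) (tt N61576 F402845) (tt N69602 F402846) (tt N57284 (iv7 D197056)))
theorem Q94023 : ∀ i, i < 94023 → P i := stepQ 94022 Q94022 (allL N94022 (tt N111252 F475448) (tt N70695 (iv0 F402849)) (tt N95896 (iv2 F410136)) (tt N105834 (iv3 F451939)) (tt N118422 D221681) (tt N57286 (iv5 D197057)) (tt N74841 (iv6 F402850)) (tt N95895 (iv7 F410135)))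
theorem Q94024 : ∀ i, i < 94024 → P i := stepQ 94023 Q94023 (allL N94023 (tt N114073 (iv1 F488453)) (tt N93116 (iv0 F402854)) (tt N95897 (iv2 F410140)) (tt N69647 F402851) (tt N68627 F402852) (tt N111003 (iv5 F474188)) (tt N57286 (iv6 D197058)) (tt N76415 F402853))
theorem Q94025 : ∀ i, i < 94025 → P i := stepQ 94024 Q94024 (allL N94024 (tt N58188 (iv1 F402856)) (tt N57287 (iv0 D197059)) (tt N58187 F402858) (tt N102401 (iv3 F437080)) (tt N102834 (iv4 F438862)) (tt N71614 F402855) (tt N80006 (iv6 F402857)) (tt N58186 (iv7 F402859)))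
theorem Q94026 : ∀ i, i < 94026 → P i := stepQ 94025 Q94025 (allL N94025 (tt N57287 (iv1 D197060)) (tt N58188 (iv0 F402865)) (tt N58186 (iv2 F402866)) (tt N60630 F402863) (tt N58264 (iv4 F402862)) (tt N68053 F402861) (tt N94171 F403524) (tt N58187 F402860))
theorem Q94027 : ∀ i, i < 94027 → P i := stepQ 94026 Q94026 (allL N94026 (tt N58187 (iv1 F402872)) (tt N58186 F402871) (tt N57287 (iv2 D197061)) (tt N60371 F402867) (tt N57894 F402868) (tt N66235 F402869) (tt N105347 (iv6 F449809)) (tt N58188 F402870))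
theorem Q94028 : ∀ i, i < 94028 → P i := stepQ 94027 Q94027 (allL N94027 (tt N100393 (iv1 F428772)) (tt N88508 (iv0 F402878)) (tt N105347 (iv2 F449807)) (tt N57289 F402876) (tt N57896 F402877) (tt N100139 F427650) (tt N57287 (iv6 D197062)) (tt N102397 (iv7 F437060)))
theorem Q94029 : ∀ i, i < 94029 → P i := stepQ 94028 Q94028 (allL N94028 (tt N57290 (iv1 D197063)) (tt N60371 F402879) (tt N59942 (iv2 F402881)) (tt N95667 (iv3 F409049)) (tt N101982 (iv4 F435211)) (tt N102764 (iv5 F438538)) (tt N104250 (iv6 F444933)) (tt N60370 F402880))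
theorem Q94030 : ∀ i, i < 94030 → P i := stepQ 94029 Q94029 (allL N94029 (tt N63783 F402887) (tt N97372 (iv0 F416572)) (tt N66233 F402882) (tt N57291 F402883) (tt N86360 F402886) (tt N57290 (iv5 D197064)) (tt N66231 F402884) (tt N60372 F402885))
theorem Q94031 : ∀ i, i < 94031 → P i := stepQ 94030 Q94030 (allL N94030 (tt N96967 (iv1 F414837)) (tt N68252 F402891) (tt N58192 F402888) (tt N67653 F402889) (tt N103610 (iv4 F442232)) (tt N57292 (iv5 D197065)) (tt N66386 F402890) (tt N96993 (iv7 F414957)))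
theorem Q94032 : ∀ i, i < 94032 → P i := stepQ 94031 Q94031 (allL N94031 (tt N102400 (iv1 F437075)) (tt N102401 (iv0 F437079)) (tt N104247 F444918) (tt N57294 (iv3 D197066)) (tt N66701 F402892) (tt N105354 (iv5 F449852)) (tt N64139 (iv6 F402894)) (tt N75296 F402893))
theorem Q94033 : ∀ i, i < 94033 → P i := stepQ 94032 Q94032 (allL N94032 (tt N65881 F402898) (tt N101680 (iv0 F433838)) (tt N80032 F402895) (tt N64139 F402896) (tt N66696 F402897) (tt N118423 D221682) (tt N57294 (iv6 D197067)) (tt N111516 (iv7 F476678)))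
theorem Q94034 : ∀ i, i < 94034 → P i := stepQ 94033 Q94033 (allL N94033 (tt N57296 (iv1 D197068)) (tt N95750 (iv0 F409451)) (tt N72726 (iv2 F402900)) (tt N118424 D221683) (tt N72716 F402899) (tt N60065 (iv5 F402901)) (tt N98075 (iv6 F419362)) (tt N95752 (iv7 F409462)))
theorem Q94035 : ∀ i, i < 94035 → P i := stepQ 94034 Q94034 (allL N94034 (tt N82147 F402904) (tt N109141 (iv0 F465536)) (tt N106187 (iv2 F453520)) (tt N57299 F402902) (tt N59281 F402903) (tt N94177 (iv5 F403560)) (tt N57296 (iv6 D197069)) (tt N94057 (iv7 F403012)))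
theorem Q94036 : ∀ i, i < 94036 → P i := stepQ 94035 Q94035 (allL N94035 (tt N81821 F402909) (tt N99038 (iv0 F423107)) (tt N60367 F402905) (tt N66503 F402906) (tt N61816 F402907) (tt N81800 F402908) (tt N57297 (iv6 D197070)) (tt N108680 (iv7 F463517)))
theorem Q94037 : ∀ i, i < 94037 → P i := stepQ 94036 Q94036 (allL N94036 (tt N65303 F402913) (tt N102764 (iv0 F438537)) (tt N75451 F402910) (tt N57298 (iv3 D197071)) (tt N77409 (iv4 F402914)) (tt N58054 F402911) (tt N75314 F402915) (tt N60366 F402912))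
theorem Q94038 : ∀ i, i < 94038 → P i := stepQ 94037 Q94037 (allL N94037 (tt N98946 F422839) (tt N98949 (iv0 F422847)) (tt N58067 F402916) (tt N75314 F402917) (tt N61814 F402918) (tt N75301 (iv5 F402919)) (tt N57298 (iv6 D197072)) (tt N75300 F402920))
theorem Q94039 : ∀ i, i < 94039 → P i := stepQ 94038 Q94038 (allL N94038 (tt N57339 (iv1 F402923)) (tt N57305 F402924) (tt N57338 F402921) (tt N71126 F402922) (tt N97208 (iv4 F415899)) (tt N94083 (iv5 F403129)) (tt N97060 (iv6 F415270)) (tt N57304 (iv7 D197073)))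
theorem Q94040 : ∀ i, i < 94040 → P i := stepQ 94039 Q94039 (allL N94039 (tt N100414 (iv1 F428862)) (tt N66307 (iv0 F409608)) (tt N100416 (iv2 F428873)) (tt N57307 F402925) (tt N94256 (iv4 F403862)) (tt N63239 F402926) (tt N57305 (iv6 D197074)) (tt N100360 (iv7 F428591)))
theorem Q94041 : ∀ i, i < 94041 → P i := stepQ 94040 Q94040 (allL N94040 (tt N80743 F402931) (tt N80747 F402932) (tt N57354 F402927) (tt N63239 F402928) (tt N116400 (iv4 F499896)) (tt N57307 (iv5 D197075)) (tt N63237 F402929) (tt N80746 F402930))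
theorem Q94042 : ∀ i, i < 94042 → P i := stepQ 94041 Q94041 (allL N94041 (tt N57370 (iv1 F402938)) (tt N57369 F402939) (tt N57372 F402933) (tt N77442 F402934) (tt N57312 F402935) (tt N77441 F402936) (tt N57385 F402937) (tt N57310 (iv7 D197076)))
theorem Q94043 : ∀ i, i < 94043 → P i := stepQ 94042 Q94042 (allL N94042 (tt N75617 F402945) (tt N73957 (iv0 F402946)) (tt N63041 F402940) (tt N57315 F402941) (tt N63040 F402942) (tt N66259 F402943) (tt N57314 (iv6 D197077)) (tt N70067 F402944))
theorem Q94044 : ∀ i, i < 94044 → P i := stepQ 94043 Q94043 (allL N94043 (tt N57315 (iv1 D197078)) (tt N57404 F402947) (tt N57403 F402952) (tt N75343 (iv3 F402950)) (tt N79923 F402949) (tt N101716 (iv5 F434017)) (tt N73700 (iv6 F402951)) (tt N57402 F402948))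
theorem Q94045 : ∀ i, i < 94045 → P i := stepQ 94044 Q94044 (allL N94044 (tt N74202 F402957) (tt N74201 (iv0 F402958)) (tt N74203 F402953) (tt N95954 (iv3 F410412)) (tt N77883 F402954) (tt N66269 F402955) (tt N57321 (iv6 D197079)) (tt N66269 F402956))
theorem Q94046 : ∀ i, i < 94046 → P i := stepQ 94045 Q94045 (allL N94045 (tt N97050 (iv1 F415217)) (tt N97049 (iv0 F415216)) (tt N97051 (iv2 F415219)) (tt N57324 F402959) (tt N88893 F402960) (tt N88812 F402961) (tt N57323 (iv6 D197080)) (tt N78956 F402962))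
theorem Q94047 : ∀ i, i < 94047 → P i := stepQ 94046 Q94046 (allL N94046 (tt N68149 F402966) (tt N68148 F402967) (tt N68150 F402963) (tt N88812 F402964) (tt N115326 (iv4 F494602)) (tt N57324 (iv5 D197081)) (tt N98772 (iv6 F422256)) (tt N61358 F402965))
theorem Q94048 : ∀ i, i < 94048 → P i := stepQ 94047 Q94047 (allL N94047 (tt N102531 (iv1 F437540)) (tt N60896 (iv0 F402969)) (tt N95806 (iv2 F409745)) (tt N68599 F402968) (tt N98726 (iv4 F422031)) (tt N102425 (iv5 F437187)) (tt N57325 (iv6 D197082)) (tt N102425 (iv7 F437188)))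
theorem Q94049 : ∀ i, i < 94049 → P i := stepQ 94048 Q94048 (allL N94048 (tt N75208 F402975) (tt N74938 F402976) (tt N67738 F402970) (tt N62498 F402971) (tt N68182 F402972) (tt N59537 F402973) (tt N57328 (iv6 D197083)) (tt N62529 F402974))
theorem Q94050 : ∀ i, i < 94050 → P i := stepQ 94049 Q94049 (allL N94049 (tt N57329 (iv1 D197084)) (tt N62697 F402977) (tt N67737 F402982) (tt N95794 (iv3 F409686)) (tt N68055 F402980) (tt N82490 F402979) (tt N66286 (iv6 F402981)) (tt N67736 F402978))
theorem Q94051 : ∀ i, i < 94051 → P i := stepQ 94050 Q94050 (allL N94050 (tt N67737 (iv1 F402988)) (tt N67736 F402989) (tt N62697 F402983) (tt N92493 F402984) (tt N57332 F402985) (tt N71749 F402986) (tt N62695 F402987) (tt N57329 (iv7 D197085)))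
theorem Q94052 : ∀ i, i < 94052 → P i := stepQ 94051 Q94051 (allL N94051 (tt N66369 F402994) (tt N57335 F402995) (tt N67733 F402990) (tt N79717 F402991) (tt N57330 (iv4 D197086)) (tt N79713 F402993) (tt N94113 (iv6 F403270)) (tt N67735 F402992))
theorem Q94053 : ∀ i, i < 94053 → P i := stepQ 94052 Q94052 (allL N94052 (tt N103950 (iv1 F443496)) (tt N57333 (iv0 D197087)) (tt N81350 (iv2 F402997)) (tt N112705 (iv3 F482263)) (tt N118425 D221684) (tt N81296 F402998) (tt N77569 F409559) (tt N103949 (iv7 F443491)))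
theorem Q94054 : ∀ i, i < 94054 → P i := stepQ 94053 Q94053 (allL N94053 (tt N81350 (iv1 F403001)) (tt N103949 F443490) (tt N57333 (iv2 D197088)) (tt N81455 F402999) (tt N69846 F403000) (tt N111127 (iv5 F474813)) (tt N118426 D221685) (tt N103950 (iv7 F443495)))
theorem Q94055 : ∀ i, i < 94055 → P i := stepQ 94054 Q94054 (allL N94054 (tt N94572 F405017) (tt N75260 F403003) (tt N111127 (iv2 F474812)) (tt N57334 F403002) (tt N101838 (iv4 F434590)) (tt N57333 (iv5 D197089)) (tt N75192 F403004) (tt N94089 (iv7 F403149)))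
theorem Q94056 : ∀ i, i < 94056 → P i := stepQ 94055 Q94055 (allL N94055 (tt N118427 D221686) (tt N112707 (iv0 F482281)) (tt N118426 (iv2 F510285)) (tt N57335 F403005) (tt N69841 F403006) (tt N82457 (iv5 F403007)) (tt N57333 (iv6 D197090)) (tt N106732 (iv7 F455463)))
theorem Q94057 : ∀ i, i < 94057 → P i := stepQ 94056 Q94056 (allL N94056 (tt N109853 (iv1 F468925)) (tt N59461 (iv0 F403011)) (tt N94090 (iv2 F403152)) (tt N75192 F403008) (tt N69526 F403009) (tt N59527 F403010) (tt N57334 (iv6 D197091)) (tt N109068 (iv7 F465198)))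
theorem Q94058 : ∀ i, i < 94058 → P i := stepQ 94057 Q94057 (allL N94057 (tt N75162 F403013) (tt N112705 F482268) (tt N111805 (iv2 F478061)) (tt N57338 (iv3 D197092)) (tt N94239 (iv4 F403804)) (tt N108747 (iv5 F463792)) (tt N76736 (iv6 F403014)) (tt N94034 F403012))
theorem Q94059 : ∀ i, i < 94059 → P i := stepQ 94058 Q94058 (allL N94058 (tt N77980 F403016) (tt N94081 (iv0 F403121)) (tt N94083 F403128) (tt N108747 (iv3 F463794)) (tt N95473 (iv4 F408317)) (tt N57338 (iv5 D197093)) (tt N96962 (iv6 F414808)) (tt N57495 F403015))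
theorem Q94060 : ∀ i, i < 94060 → P i := stepQ 94059 Q94059 (allL N94059 (tt N66228 F403020) (tt N90194 F403021) (tt N97060 (iv2 F415267)) (tt N76736 F403017) (tt N97211 (iv4 F415916)) (tt N68553 (iv5 F403019)) (tt N57338 (iv6 D197094)) (tt N58755 F403018))
theorem Q94061 : ∀ i, i < 94061 → P i := stepQ 94060 Q94060 (allL N94060 (tt N104235 F444856) (tt N57340 (iv0 D197095)) (tt N110772 (iv2 F473122)) (tt N81195 F403022) (tt N111859 (iv4 F478347)) (tt N57361 (iv5 F403023)) (tt N97628 F417675) (tt N110770 (iv7 F473112)))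
theorem Q94062 : ∀ i, i < 94062 → P i := stepQ 94061 Q94061 (allL N94061 (tt N57340 (iv1 D197096)) (tt N104235 (iv0 F444855)) (tt N110770 (iv2 F473110)) (tt N75160 F403117) (tt N115765 (iv4 F496746)) (tt N57362 F403024) (tt N118428 D221687) (tt N110772 (iv7 F473124)))
theorem Q94063 : ∀ i, i < 94063 → P i := stepQ 94062 Q94062 (allL N94062 (tt N81296 F403028) (tt N81351 F403029) (tt N81349 F403025) (tt N57341 (iv3 D197097)) (tt N118429 D221688) (tt N57359 F403026) (tt N118430 D221689) (tt N57792 F403027))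
theorem Q94064 : ∀ i, i < 94064 → P i := stepQ 94063 Q94063 (allL N94063 (tt N76650 F403033) (tt N98773 (iv0 F422263)) (tt N82034 F403030) (tt N118430 (iv3 F510309)) (tt N69534 F403031) (tt N91861 F403032) (tt N57341 (iv6 D197098)) (tt N117673 (iv7 F506344)))
theorem Q94065 : ∀ i, i < 94065 → P i := stepQ 94064 Q94064 (allL N94064 (tt N112039 (iv1 F479206)) (tt N91334 (iv0 F403040)) (tt N112366 (iv2 F480763)) (tt N57342 (iv3 D197099)) (tt N94507 (iv4 F404758)) (tt N102801 (iv5 F438699)) (tt N66324 F403039) (tt N103952 (iv7 F443508)))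
theorem Q94066 : ∀ i, i < 94066 → P i := stepQ 94065 Q94065 (allL N94065 (tt N74250 F403043) (tt N94113 (iv0 F403272)) (tt N102850 F438938) (tt N101681 F433844) (tt N71100 F403041) (tt N102849 (iv5 F438929)) (tt N57343 (iv6 D197100)) (tt N66328 F403042))
theorem Q94067 : ∀ i, i < 94067 → P i := stepQ 94066 Q94066 (allL N94066 (tt N111617 (iv1 F477171)) (tt N66979 (iv0 F403047)) (tt N63801 F403044) (tt N57345 (iv3 D197101)) (tt N94251 (iv4 F403834)) (tt N70533 F403045) (tt N63800 F403046) (tt N106164 (iv7 F453408)))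
theorem Q94068 : ∀ i, i < 94068 → P i := stepQ 94067 Q94067 (allL N94067 (tt N109319 F466368) (tt N95930 (iv0 F410317)) (tt N110325 (iv2 F471058)) (tt N57347 F403048) (tt N57351 F403049) (tt N110328 (iv5 F471074)) (tt N57346 (iv6 D197102)) (tt N72517 F403050))
theorem Q94069 : ∀ i, i < 94069 → P i := stepQ 94068 Q94068 (allL N94068 (tt N73309 F403053) (tt N110903 (iv0 F473706)) (tt N69816 F403051) (tt N110328 (iv3 F471077)) (tt N118431 D221690) (tt N57347 (iv5 D197103)) (tt N96304 (iv6 F411934)) (tt N72518 F403052))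
theorem Q94070 : ∀ i, i < 94070 → P i := stepQ 94069 Q94069 (allL N94069 (tt N66961 F403058) (tt N66960 (iv0 F403059)) (tt N66962 F403054) (tt N57352 F403055) (tt N64695 F403056) (tt N80957 (iv5 F403060)) (tt N57350 (iv6 D197104)) (tt N64692 F403057))
theorem Q94071 : ∀ i, i < 94071 → P i := stepQ 94070 Q94070 (allL N94070 (tt N57351 (iv1 D197105)) (tt N100406 (iv0 F428832)) (tt N66357 F403064) (tt N66521 (iv3 F403062)) (tt N99405 (iv4 F424422)) (tt N67920 F403065) (tt N66219 (iv6 F403063)) (tt N81235 F403061))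
theorem Q94072 : ∀ i, i < 94072 → P i := stepQ 94071 Q94071 (allL N94071 (tt N103072 F439952) (tt N77702 (iv0 F403069)) (tt N104234 (iv2 F444845)) (tt N57354 F403066) (tt N80959 F403068) (tt N57351 (iv5 D197106)) (tt N80957 F403067) (tt N69320 (iv7 F403070)))
theorem Q94073 : ∀ i, i < 94073 → P i := stepQ 94072 Q94072 (allL N94072 (tt N66357 (iv1 F403075)) (tt N81235 F403076) (tt N100406 (iv2 F428829)) (tt N57355 F403071) (tt N72517 F403072) (tt N69320 F403073) (tt N66945 F403074) (tt N57351 (iv7 D197107)))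
theorem Q94074 : ∀ i, i < 94074 → P i := stepQ 94073 Q94073 (allL N94073 (tt N57354 (iv1 D197108)) (tt N80746 F403077) (tt N80747 F403080) (tt N78219 (iv3 F403079)) (tt N110288 (iv4 F470857)) (tt N100389 (iv5 F428749)) (tt N104261 F445000) (tt N80743 F403078))
theorem Q94075 : ∀ i, i < 94075 → P i := stepQ 94074 Q94074 (allL N94074 (tt N80747 (iv1 F403086)) (tt N80743 F403087) (tt N80746 F403081) (tt N69320 F403082) (tt N88668 F403083) (tt N57355 F403084) (tt N69318 F403085) (tt N57354 (iv7 D197109)))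
theorem Q94076 : ∀ i, i < 94076 → P i := stepQ 94075 Q94075 (allL N94075 (tt N66032 F403089) (tt N95747 (iv0 F409433)) (tt N94449 (iv2 F404518)) (tt N97074 (iv3 F415341)) (tt N77928 F403088) (tt N72895 F403090) (tt N57357 (iv6 D197110)) (tt N95941 (iv7 F410366)))
theorem Q94077 : ∀ i, i < 94077 → P i := stepQ 94076 Q94076 (allL N94076 (tt N57791 (iv1 F403092)) (tt N57359 (iv0 D197111)) (tt N57790 (iv2 F403098)) (tt N94203 (iv3 F403686)) (tt N101826 (iv4 F434534)) (tt N109254 (iv5 F466015)) (tt N103184 (iv6 F440466)) (tt N57789 (iv7 F403100)))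
theorem Q94078 : ∀ i, i < 94078 → P i := stepQ 94077 Q94077 (allL N94077 (tt N57359 (iv1 D197112)) (tt N57791 (iv0 F403096)) (tt N57789 F403099) (tt N65332 (iv3 F403093)) (tt N70227 (iv4 F403094)) (tt N109227 (iv5 F465864)) (tt N117467 (iv6 F505184)) (tt N57790 F403097))
theorem Q94079 : ∀ i, i < 94079 → P i := stepQ 94078 Q94078 (allL N94078 (tt N57790 (iv1 F403106)) (tt N57789 F403105) (tt N57359 (iv2 D197113)) (tt N81453 F403101) (tt N57837 F403102) (tt N81349 F403103) (tt N65859 (iv6 F403108)) (tt N57791 F403104))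
theorem Q94080 : ∀ i, i < 94080 → P i := stepQ 94079 Q94079 (allL N94079 (tt N95769 (iv1 F409554)) (tt N95770 (iv0 F409558)) (tt N65859 F403109) (tt N57360 F403110) (tt N57849 F403111) (tt N65836 (iv5 F403113)) (tt N57359 (iv6 D197114)) (tt N65855 F403112))
theorem Q94081 : ∀ i, i < 94081 → P i := stepQ 94080 Q94080 (allL N94080 (tt N82181 F403115) (tt N94203 (iv0 F403755)) (tt N112734 (iv2 F482422)) (tt N57362 (iv3 D197115)) (tt N94224 F403754) (tt N75160 (iv5 F403116)) (tt N66384 F403114) (tt N110771 (iv7 F473118)))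
theorem Q94082 : ∀ i, i < 94082 → P i := stepQ 94081 Q94081 (allL N94081 (tt N94058 F403121) (tt N57499 F403122) (tt N57364 F403118) (tt N78714 F403119) (tt N91317 F403120) (tt N57363 (iv5 D197116)) (tt N100150 (iv6 F427718)) (tt N94178 (iv7 F403564)))
theorem Q94083 : ∀ i, i < 94083 → P i := stepQ 94082 Q94082 (allL N94082 (tt N100362 F428603) (tt N100405 (iv0 F428826)) (tt N57365 F403123) (tt N77440 F403124) (tt N110618 (iv4 F472425)) (tt N77439 (iv5 F403125)) (tt N57363 (iv6 D197117)) (tt N100418 (iv7 F428881)))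
theorem Q94084 : ∀ i, i < 94084 → P i := stepQ 94083 Q94083 (allL N94083 (tt N94178 (iv1 F403563)) (tt N57364 (iv0 D197118)) (tt N94058 (iv2 F403128)) (tt N75782 F403127) (tt N82216 F403126) (tt N94038 F403129) (tt N81307 (iv6 F403131)) (tt N57499 F403130))
theorem Q94085 : ∀ i, i < 94085 → P i := stepQ 94084 Q94084 (allL N94084 (tt N91312 (iv1 F403136)) (tt N59681 F403134) (tt N91317 F403132) (tt N98759 (iv3 F422185)) (tt N57364 (iv4 D197119)) (tt N113686 (iv5 F486628)) (tt N110600 (iv6 F472324)) (tt N91316 F403133))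
theorem Q94086 : ∀ i, i < 94086 → P i := stepQ 94085 Q94085 (allL N94085 (tt N75785 F403140) (tt N100151 F427724) (tt N100150 (iv2 F427717)) (tt N57368 F403138) (tt N110600 (iv4 F472322)) (tt N73694 (iv5 F403139)) (tt N57364 (iv6 D197120)) (tt N100149 F427710))
theorem Q94087 : ∀ i, i < 94087 → P i := stepQ 94086 Q94086 (allL N94086 (tt N57365 (iv1 D197121)) (tt N100418 F428880) (tt N100405 (iv2 F428822)) (tt N109907 (iv3 F469161)) (tt N110570 (iv4 F472186)) (tt N109263 F466062) (tt N100356 (iv6 F428570)) (tt N100362 (iv7 F428602)))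
theorem Q94088 : ∀ i, i < 94088 → P i := stepQ 94087 Q94087 (allL N94087 (tt N102703 F438272) (tt N85802 (iv0 F403144)) (tt N77439 F403141) (tt N57371 F403142) (tt N64767 F415424) (tt N57365 (iv5 D197122)) (tt N73694 F403143) (tt N110225 (iv7 F470518)))
theorem Q94089 : ∀ i, i < 94089 → P i := stepQ 94088 Q94088 (allL N94088 (tt N100405 (iv1 F428827)) (tt N100362 F428828) (tt N100418 F428879) (tt N57372 F403146) (tt N110622 (iv4 F472443)) (tt N110225 F470520) (tt N97077 (iv6 F415364)) (tt N57365 (iv7 D197123)))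
theorem Q94090 : ∀ i, i < 94090 → P i := stepQ 94089 Q94089 (allL N94089 (tt N109254 (iv1 F466017)) (tt N109227 (iv0 F465867)) (tt N109253 (iv2 F466011)) (tt N57366 (iv3 D197124)) (tt N78695 F403150) (tt N68056 F403147) (tt N81314 F403148) (tt N94054 F403149))
theorem Q94091 : ∀ i, i < 94091 → P i := stepQ 94090 Q94090 (allL N94090 (tt N79913 F403156) (tt N80875 (iv0 F403157)) (tt N94056 F403152) (tt N80894 F403153) (tt N68191 F403154) (tt N94171 (iv5 F403527)) (tt N57367 (iv6 D197125)) (tt N81446 F403155))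
theorem Q94092 : ∀ i, i < 94092 → P i := stepQ 94091 Q94091 (allL N94091 (tt N73696 (iv1 F403162)) (tt N57368 (iv0 D197126)) (tt N81436 (iv2 F403161)) (tt N81326 F403163) (tt N70466 F403159) (tt N66742 F403158) (tt N80867 F403160) (tt N99605 (iv7 F425381)))
theorem Q94093 : ∀ i, i < 94093 → P i := stepQ 94092 Q94092 (allL N94092 (tt N117465 F505173) (tt N117467 F505185) (tt N117466 (iv2 F505178)) (tt N57369 (iv3 D197127)) (tt N73561 F403170) (tt N100530 (iv5 F429349)) (tt N66428 F403171) (tt N109305 (iv7 F466301)))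
theorem Q94094 : ∀ i, i < 94094 → P i := stepQ 94093 Q94093 (allL N94093 (tt N64047 (iv1 F403175)) (tt N71352 F403176) (tt N77441 F403172) (tt N110225 (iv3 F470516)) (tt N64043 F403173) (tt N57372 F403174) (tt N108748 (iv6 F463803)) (tt N57371 (iv7 D197128)))
theorem Q94095 : ∀ i, i < 94095 → P i := stepQ 94094 Q94094 (allL N94094 (tt N94102 F414006) (tt N101825 (iv0 F434530)) (tt N77759 F403177) (tt N57373 (iv3 D197129)) (tt N94307 (iv4 F403990)) (tt N109276 (iv5 F466135)) (tt N66434 F403178) (tt N106222 (iv7 F453628)))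
theorem Q94096 : ∀ i, i < 94096 → P i := stepQ 94095 Q94095 (allL N94095 (tt N90478 F403191) (tt N118432 D221691) (tt N114876 (iv2 F492286)) (tt N91272 F403179) (tt N118433 D221692) (tt N57381 (iv5 D197130)) (tt N57384 F403180) (tt N111285 (iv7 F475632)))
theorem Q94097 : ∀ i, i < 94097 → P i := stepQ 94096 Q94096 (allL N94096 (tt N66332 F403184) (tt N66223 F403185) (tt N66329 F403181) (tt N71484 F403182) (tt N106445 (iv4 F454478)) (tt N57382 (iv5 D197131)) (tt N111440 (iv6 F476373)) (tt N66330 F403183))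
theorem Q94098 : ∀ i, i < 94098 → P i := stepQ 94097 Q94097 (allL N94097 (tt N66223 F403189) (tt N66332 F403190) (tt N66330 F403186) (tt N66315 F403187) (tt N106446 (iv4 F454484)) (tt N57383 (iv5 D197132)) (tt N112509 (iv6 F481426)) (tt N66329 F403188))
theorem Q94099 : ∀ i, i < 94099 → P i := stepQ 94098 Q94098 (allL N94098 (tt N63794 F403195) (tt N77723 F403196) (tt N77725 F403192) (tt N89512 F403193) (tt N57384 (iv4 D197133)) (tt N117838 (iv5 F507202)) (tt N118433 (iv6 F510330)) (tt N77726 F403194))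
theorem Q94100 : ∀ i, i < 94100 → P i := stepQ 94099 Q94099 (allL N94099 (tt N57399 F403200) (tt N103137 (iv0 F440247)) (tt N101702 (iv2 F433951)) (tt N91208 F403197) (tt N75171 F403201) (tt N57387 (iv5 D197134)) (tt N80497 F403198) (tt N75499 F403199))
theorem Q94101 : ∀ i, i < 94101 → P i := stepQ 94100 Q94100 (allL N94100 (tt N101824 (iv1 F434524)) (tt N86366 (iv0 F403205)) (tt N96277 (iv2 F411841)) (tt N57393 (iv3 D197135)) (tt N59238 F403204) (tt N66982 F403202) (tt N66466 F403203) (tt N96280 (iv7 F411854)))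
theorem Q94102 : ∀ i, i < 94102 → P i := stepQ 94101 Q94101 (allL N94101 (tt N57397 (iv1 D197136)) (tt N85799 F403206) (tt N98079 F419369) (tt N66287 (iv3 F403209)) (tt N76537 F403208) (tt N66283 F403210) (tt N103181 (iv6 F440444)) (tt N76536 F403207))
theorem Q94103 : ∀ i, i < 94103 → P i := stepQ 94102 Q94102 (allL N94102 (tt N75678 F403216) (tt N94094 (iv0 F414006)) (tt N77720 F403211) (tt N79443 F403212) (tt N118434 D221693) (tt N57397 (iv5 D197137)) (tt N57398 F403213) (tt N82195 F403214))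
theorem Q94104 : ∀ i, i < 94104 → P i := stepQ 94103 Q94103 (allL N94103 (tt N106450 (iv1 F454512)) (tt N106448 (iv0 F454495)) (tt N77719 F403217) (tt N118435 D221694) (tt N57398 (iv4 D197138)) (tt N118436 D221695) (tt N118434 (iv6 F510336)) (tt N77722 F403218))
theorem Q94105 : ∀ i, i < 94105 → P i := stepQ 94104 Q94104 (allL N94104 (tt N73141 F403223) (tt N80481 F403224) (tt N75636 F403219) (tt N79904 F403220) (tt N57399 (iv4 D197139)) (tt N75633 F403222) (tt N75367 F403221) (tt N101701 (iv7 F433945)))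
theorem Q94106 : ∀ i, i < 94106 → P i := stepQ 94105 Q94105 (allL N94105 (tt N64188 (iv1 F403230)) (tt N98396 (iv0 F420776)) (tt N88440 F403225) (tt N66757 F403226) (tt N57404 F403227) (tt N75691 F403228) (tt N61718 F403229) (tt N57401 (iv7 D197140)))
theorem Q94107 : ∀ i, i < 94107 → P i := stepQ 94106 Q94106 (allL N94106 (tt N98148 (iv1 F419701)) (tt N68199 F403235) (tt N79921 F403231) (tt N80485 F403232) (tt N57402 (iv4 D197141)) (tt N67095 F403234) (tt N98151 (iv6 F419722)) (tt N79923 F403233))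
theorem Q94108 : ∀ i, i < 94108 → P i := stepQ 94107 Q94107 (allL N94107 (tt N101704 F433966) (tt N101703 F433960) (tt N80330 F403236) (tt N57403 (iv3 D197142)) (tt N109298 (iv4 F466259)) (tt N82504 F403237) (tt N79280 F403238) (tt N101705 (iv7 F433971)))
theorem Q94109 : ∀ i, i < 94109 → P i := stepQ 94108 Q94108 (allL N94108 (tt N57405 (iv1 D197143)) (tt N80203 F403239) (tt N80166 (iv2 F403243)) (tt N111473 (iv3 F476503)) (tt N84766 F403242) (tt N64245 F403241) (tt N84765 (iv6 F403244)) (tt N79882 F403240))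
theorem Q94110 : ∀ i, i < 94110 → P i := stepQ 94109 Q94109 (allL N94109 (tt N66445 F403249) (tt N110396 F471391) (tt N110397 (iv2 F471392)) (tt N57406 (iv3 D197144)) (tt N74030 F403245) (tt N81782 F403246) (tt N77605 F403247) (tt N66493 F403248))
theorem Q94111 : ∀ i, i < 94111 → P i := stepQ 94110 Q94110 (allL N94110 (tt N66383 F403252) (tt N110773 (iv0 F473133)) (tt N100400 (iv2 F428805)) (tt N57408 (iv3 D197145)) (tt N62155 F403250) (tt N68546 (iv5 F403256)) (tt N94475 (iv6 F404633)) (tt N66499 F403251))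
theorem Q94112 : ∀ i, i < 94112 → P i := stepQ 94111 Q94111 (allL N94111 (tt N95766 (iv1 F409540)) (tt N95765 (iv0 F409534)) (tt N66506 F403257) (tt N68546 F403258) (tt N81012 F403260) (tt N57408 (iv5 D197146)) (tt N68545 (iv6 F403261)) (tt N66500 F403259))
theorem Q94113 : ∀ i, i < 94113 → P i := stepQ 94112 Q94112 (allL N94112 (tt N77610 (iv1 F403266)) (tt N66427 F403267) (tt N66038 F403262) (tt N94475 (iv3 F404632)) (tt N57409 F403263) (tt N63564 F403264) (tt N57408 (iv6 D197147)) (tt N66035 F403265))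
theorem Q94114 : ∀ i, i < 94114 → P i := stepQ 94113 Q94113 (allL N94113 (tt N94065 F403272) (tt N71371 F403273) (tt N66503 F403268) (tt N75422 (iv3 F403274)) (tt N57411 (iv4 D197148)) (tt N75400 F403269) (tt N94051 F403270) (tt N66507 F403271))
theorem Q94115 : ∀ i, i < 94115 → P i := stepQ 94114 Q94114 (allL N94114 (tt N74252 F403277) (tt N65653 (iv0 F403278)) (tt N95916 (iv2 F410245)) (tt N57414 F403275) (tt N95134 (iv4 F407179)) (tt N57412 (iv5 D197149)) (tt N94445 (iv6 F404507)) (tt N65822 F403276))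
theorem Q94116 : ∀ i, i < 94116 → P i := stepQ 94115 Q94115 (allL N94115 (tt N96041 (iv1 F410765)) (tt N96032 (iv0 F410731)) (tt N96039 F410758) (tt N57413 (iv3 D197150)) (tt N96198 (iv4 F411454)) (tt N118437 D221696) (tt N92904 F403279) (tt N93413 F403280))
theorem Q94117 : ∀ i, i < 94117 → P i := stepQ 94116 Q94116 (allL N94116 (tt N74562 F403283) (tt N74560 F403284) (tt N93412 F403281) (tt N118437 (iv3 F510349)) (tt N118438 D221697) (tt N57413 (iv5 D197151)) (tt N106154 F453373) (tt N93414 F403282))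
theorem Q94118 : ∀ i, i < 94118 → P i := stepQ 94117 Q94117 (allL N94117 (tt N92072 F403288) (tt N65683 F403289) (tt N67390 F403285) (tt N118439 D221698) (tt N57414 (iv4 D197152)) (tt N67383 F403287) (tt N94448 (iv6 F404515)) (tt N65825 F403286))
theorem Q94119 : ∀ i, i < 94119 → P i := stepQ 94118 Q94118 (allL N94118 (tt N65483 F473667) (tt N117308 (iv0 F504390)) (tt N118440 D221699) (tt N57416 (iv3 D197153)) (tt N105953 (iv4 F452482)) (tt N118441 D221700) (tt N118417 (iv6 F510239)) (tt N93411 F403296))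
theorem Q94120 : ∀ i, i < 94120 → P i := stepQ 94119 Q94119 (allL N94119 (tt N74560 F403299) (tt N74562 F403300) (tt N93414 F403297) (tt N118441 (iv3 F510370)) (tt N118442 D221701) (tt N57416 (iv5 D197154)) (tt N118443 D221702) (tt N93412 F403298))
theorem Q94121 : ∀ i, i < 94121 → P i := stepQ 94120 Q94120 (allL N94120 (tt N117805 (iv1 F507060)) (tt N107556 (iv0 F458742)) (tt N94308 (iv2 F403992)) (tt N107215 (iv3 F457481)) (tt N113737 (iv4 F486898)) (tt N57417 (iv5 D197155)) (tt N112958 F483384) (tt N94309 (iv7 F403993)))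
theorem Q94122 : ∀ i, i < 94122 → P i := stepQ 94121 Q94121 (allL N94121 (tt N78089 (iv1 F403306)) (tt N94472 F404617) (tt N57419 (iv2 D197156)) (tt N75629 F403301) (tt N77065 F403302) (tt N75975 F403303) (tt N83302 F403304) (tt N77060 F403305))
theorem Q94123 : ∀ i, i < 94123 → P i := stepQ 94122 Q94122 (allL N94122 (tt N63250 (iv1 F403311)) (tt N57423 (iv0 D197157)) (tt N63224 (iv2 F403310)) (tt N63285 F403307) (tt N104253 (iv4 F444953)) (tt N63669 F403308) (tt N63207 F403309) (tt N63213 F403312))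
theorem Q94124 : ∀ i, i < 94124 → P i := stepQ 94123 Q94123 (allL N94123 (tt N66831 F403318) (tt N63834 (iv0 F403319)) (tt N68980 F403313) (tt N60382 F403314) (tt N57423 (iv4 D197158)) (tt N60380 F403317) (tt N80729 F403315) (tt N68976 F403316))
theorem Q94125 : ∀ i, i < 94125 → P i := stepQ 94124 Q94124 (allL N94124 (tt N78369 F403324) (tt N82265 F403325) (tt N78300 F403320) (tt N82290 F403321) (tt N66824 F403322) (tt N106558 (iv5 F454856)) (tt N57426 (iv6 D197159)) (tt N83924 F403323))
theorem Q94126 : ∀ i, i < 94126 → P i := stepQ 94125 Q94125 (allL N94125 (tt N68278 F403329) (tt N68146 F403330) (tt N78293 F403326) (tt N84845 (iv3 F403331)) (tt N57427 (iv4 D197160)) (tt N68269 F403327) (tt N76626 (iv6 F403332)) (tt N78301 F403328))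
theorem Q94127 : ∀ i, i < 94127 → P i := stepQ 94126 Q94126 (allL N94126 (tt N76559 F403337) (tt N99763 (iv0 F426119)) (tt N104200 (iv2 F444664)) (tt N76955 F403333) (tt N76626 F403334) (tt N76954 F403335) (tt N57427 (iv6 D197161)) (tt N85359 F403336))
theorem Q94128 : ∀ i, i < 94128 → P i := stepQ 94127 Q94127 (allL N94127 (tt N109057 (iv1 F465144)) (tt N70598 (iv0 F403342)) (tt N79093 F403338) (tt N57435 F403339) (tt N98724 (iv4 F422023)) (tt N74857 F403340) (tt N57433 (iv6 D197162)) (tt N76428 F403341))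
theorem Q94129 : ∀ i, i < 94129 → P i := stepQ 94128 Q94128 (allL N94128 (tt N111758 (iv1 F477820)) (tt N105910 (iv0 F452304)) (tt N104081 (iv2 F444079)) (tt N57434 (iv3 D197163)) (tt N76643 F403343) (tt N98444 F431341) (tt N87547 (iv6 F403345)) (tt N76642 F403344))
theorem Q94130 : ∀ i, i < 94130 → P i := stepQ 94129 Q94129 (allL N94129 (tt N57435 (iv1 D197164)) (tt N113151 (iv0 F484215)) (tt N115480 (iv2 F495400)) (tt N70766 (iv3 F403355)) (tt N115479 (iv4 F495398)) (tt N70759 (iv5 F403354)) (tt N70762 F403357) (tt N115714 (iv7 F496467)))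
theorem Q94131 : ∀ i, i < 94131 → P i := stepQ 94130 Q94130 (allL N94130 (tt N85975 F403356) (tt N102922 F439280) (tt N74405 F403349) (tt N74857 F403350) (tt N83961 F403352) (tt N57435 (iv5 D197165)) (tt N57437 F403351) (tt N83971 F403353))
theorem Q94132 : ∀ i, i < 94132 → P i := stepQ 94131 Q94131 (allL N94131 (tt N115480 (iv1 F495406)) (tt N115714 (iv0 F496468)) (tt N113151 (iv2 F484212)) (tt N76428 F403358) (tt N91215 F403359) (tt N83971 F403360) (tt N76426 (iv6 F403361)) (tt N57435 (iv7 D197166)))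
theorem Q94133 : ∀ i, i < 94133 → P i := stepQ 94132 Q94132 (allL N94132 (tt N109381 (iv1 F466672)) (tt N105012 (iv0 F448366)) (tt N57446 F403362) (tt N76322 F403363) (tt N92948 F403364) (tt N76280 F403365) (tt N57436 (iv6 D197167)) (tt N76426 F403366))
theorem Q94134 : ∀ i, i < 94134 → P i := stepQ 94133 Q94133 (allL N94133 (tt N67715 F403370) (tt N100569 (iv0 F429511)) (tt N100612 F429706) (tt N57439 F403367) (tt N67899 F403369) (tt N57438 (iv5 D197168)) (tt N83824 F403368) (tt N100611 F429703))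
theorem Q94135 : ∀ i, i < 94135 → P i := stepQ 94134 Q94134 (allL N94134 (tt N68417 F403376) (tt N105023 (iv0 F448431)) (tt N66824 F403372) (tt N68451 F403373) (tt N78300 F403374) (tt N75936 F403375) (tt N57441 (iv6 D197169)) (tt N112484 (iv7 F481289)))
theorem Q94136 : ∀ i, i < 94136 → P i := stepQ 94135 Q94135 (allL N94135 (tt N57442 (iv1 D197170)) (tt N64625 F403377) (tt N105021 (iv2 F448420)) (tt N68423 (iv3 F403380)) (tt N75868 F403382) (tt N72785 F403379) (tt N88621 (iv6 F403381)) (tt N74529 F403378))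
theorem Q94137 : ∀ i, i < 94137 → P i := stepQ 94136 Q94136 (allL N94136 (tt N112479 F481262) (tt N110593 (iv0 F472292)) (tt N67068 F403383) (tt N57452 F403384) (tt N63681 (iv4 F403387)) (tt N57442 (iv5 D197171)) (tt N57444 F403385) (tt N73393 F403386))
theorem Q94138 : ∀ i, i < 94138 → P i := stepQ 94137 Q94137 (allL N94137 (tt N68164 F421546) (tt N111317 (iv0 F475790)) (tt N98663 (iv2 F421785)) (tt N57445 (iv3 D197172)) (tt N97249 (iv4 F416072)) (tt N78783 (iv5 F403395)) (tt N61262 F403393) (tt N98661 (iv7 F421776)))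
theorem Q94139 : ∀ i, i < 94139 → P i := stepQ 94138 Q94138 (allL N94138 (tt N92950 F403390) (tt N68431 (iv0 F403391)) (tt N92948 F403388) (tt N61262 (iv3 F403392)) (tt N57446 F403389) (tt N114987 (iv5 F492930)) (tt N57445 (iv6 D197173)) (tt N92949 F403394))
theorem Q94140 : ∀ i, i < 94140 → P i := stepQ 94139 Q94139 (allL N94139 (tt N76426 (iv1 F403406)) (tt N57446 (iv0 D197174)) (tt N109381 (iv2 F466668)) (tt N99740 (iv3 F425997)) (tt N105014 (iv4 F448376)) (tt N109074 (iv5 F465230)) (tt N99738 F425993) (tt N105012 (iv7 F448365)))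
theorem Q94141 : ∀ i, i < 94141 → P i := stepQ 94140 Q94140 (allL N94140 (tt N57446 (iv1 D197175)) (tt N76426 F403397) (tt N105012 (iv2 F448361)) (tt N89879 F403400) (tt N68426 (iv4 F403398)) (tt N75542 F403401) (tt N68425 (iv6 F403399)) (tt N109381 (iv7 F466670)))
theorem Q94142 : ∀ i, i < 94142 → P i := stepQ 94141 Q94141 (allL N94141 (tt N118444 D221703) (tt N109085 (iv0 F468184)) (tt N76280 F403402) (tt N103032 (iv3 F439755)) (tt N109716 (iv4 F468257)) (tt N57446 (iv5 D197176)) (tt N57448 F403403) (tt N118445 D221704))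
theorem Q94143 : ∀ i, i < 94143 → P i := stepQ 94142 Q94142 (allL N94142 (tt N105012 (iv1 F448367)) (tt N109381 (iv0 F466673)) (tt N76426 F403404) (tt N118103 (iv3 F508608)) (tt N92949 F403405) (tt N118445 (iv5 F510397)) (tt N113151 (iv6 F484217)) (tt N57446 (iv7 D197177)))
theorem Q94144 : ∀ i, i < 94144 → P i := stepQ 94143 Q94143 (allL N94143 (tt N65240 (iv1 F403410)) (tt N88848 F403409) (tt N57449 (iv2 D197178)) (tt N69615 F403407) (tt N105004 (iv4 F448322)) (tt N116302 (iv5 F499453)) (tt N77452 (iv6 F403411)) (tt N77247 F403408))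
theorem Q94145 : ∀ i, i < 94145 → P i := stepQ 94144 Q94144 (allL N94144 (tt N101091 (iv1 F431633)) (tt N90437 F403414) (tt N116302 (iv2 F499456)) (tt N57450 F403412) (tt N113307 (iv4 F484946)) (tt N57449 (iv5 D197179)) (tt N118446 D221705) (tt N89161 F403413))
theorem Q94146 : ∀ i, i < 94146 → P i := stepQ 94145 Q94145 (allL N94145 (tt N77453 F403418) (tt N77165 F403419) (tt N77452 F403415) (tt N57451 F403416) (tt N101749 (iv4 F434164)) (tt N84938 (iv5 F403420)) (tt N57449 (iv6 D197180)) (tt N77246 F403417))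
theorem Q94147 : ∀ i, i < 94147 → P i := stepQ 94146 Q94146 (allL N94146 (tt N85560 (iv1 F403422)) (tt N105540 (iv0 F450650)) (tt N109770 (iv2 F468529)) (tt N118446 (iv3 F510402)) (tt N114479 (iv4 F490389)) (tt N69757 (iv5 F403430)) (tt N57450 (iv6 D197181)) (tt N84896 F403421))
theorem Q94148 : ∀ i, i < 94148 → P i := stepQ 94147 Q94147 (allL N94147 (tt N84092 F403426) (tt N73826 (iv0 F403427)) (tt N89160 F403423) (tt N84938 F403424) (tt N69758 (iv4 F403428)) (tt N57451 (iv5 D197182)) (tt N69757 F403429) (tt N81367 F403425))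
theorem Q94149 : ∀ i, i < 94149 → P i := stepQ 94148 Q94148 (allL N94148 (tt N77694 F403435) (tt N77697 F403434) (tt N76189 F403431) (tt N90186 (iv3 F403436)) (tt N57452 (iv4 D197183)) (tt N118447 D221706) (tt N57453 F403432) (tt N73395 F403433))
theorem Q94150 : ∀ i, i < 94150 → P i := stepQ 94149 Q94149 (allL N94149 (tt N114034 (iv1 F488303)) (tt N116711 (iv0 F501437)) (tt N57473 F403438) (tt N62414 F403439) (tt N97986 (iv4 F419069)) (tt N62413 F403440) (tt N57455 (iv6 D197184)) (tt N91064 F403441))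
theorem Q94151 : ∀ i, i < 94151 → P i := stepQ 94150 Q94150 (allL N94150 (tt N80619 (iv1 F403444)) (tt N80616 F403445) (tt N104977 (iv2 F448229)) (tt N57462 F403442) (tt N104136 (iv4 F444367)) (tt N108399 (iv5 F462418)) (tt N57460 (iv6 D197185)) (tt N79120 F403443))
theorem Q94152 : ∀ i, i < 94152 → P i := stepQ 94151 Q94151 (allL N94151 (tt N88853 (iv1 F403449)) (tt N110057 (iv0 F469775)) (tt N105718 (iv2 F451398)) (tt N57466 F403446) (tt N71123 F403447) (tt N57465 (iv5 D197186)) (tt N118448 D221707) (tt N76335 F403448))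
theorem Q94153 : ∀ i, i < 94153 → P i := stepQ 94152 Q94152 (allL N94152 (tt N98493 (iv1 F421113)) (tt N98490 (iv0 F421161)) (tt N76513 F403450) (tt N118448 (iv3 F510416)) (tt N76436 F403451) (tt N108681 (iv5 F463523)) (tt N57466 (iv6 D197187)) (tt N109087 (iv7 F465266)))
theorem Q94154 : ∀ i, i < 94154 → P i := stepQ 94153 Q94153 (allL N94153 (tt N88999 F403456) (tt N76499 (iv0 F403457)) (tt N100531 (iv2 F429352)) (tt N57468 (iv3 D197188)) (tt N69575 F403452) (tt N82256 F403453) (tt N69574 F403454) (tt N89420 F403455))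
theorem Q94155 : ∀ i, i < 94155 → P i := stepQ 94154 Q94154 (allL N94154 (tt N90432 F403461) (tt N57833 F403462) (tt N90443 F403458) (tt N114464 (iv3 F490312)) (tt N57469 (iv4 D197189)) (tt N70207 F403460) (tt N118449 D221708) (tt N90442 F403459))
theorem Q94156 : ∀ i, i < 94156 → P i := stepQ 94155 Q94155 (allL N94155 (tt N118450 D221709) (tt N118451 D221710) (tt N100641 (iv2 F429800)) (tt N57473 F403463) (tt N118449 (iv4 F510424)) (tt N91063 F403464) (tt N57469 (iv6 D197190)) (tt N118452 D221711))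
theorem Q94157 : ∀ i, i < 94157 → P i := stepQ 94156 Q94156 (allL N94156 (tt N106376 (iv1 F454210)) (tt N82875 (iv0 F403468)) (tt N81427 (iv2 F403469)) (tt N57471 (iv3 D197191)) (tt N71128 F403467) (tt N80889 F403465) (tt N101397 (iv6 F432848)) (tt N81194 F403466))
theorem Q94158 : ∀ i, i < 94158 → P i := stepQ 94157 Q94157 (allL N94157 (tt N97985 (iv1 F419062)) (tt N97984 F419072) (tt N97986 (iv2 F419067)) (tt N89858 F403470) (tt N57473 F403471) (tt N91033 F403472) (tt N57472 (iv6 D197192)) (tt N78763 F403473))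
theorem Q94159 : ∀ i, i < 94159 → P i := stepQ 94158 Q94158 (allL N94158 (tt N91064 (iv1 F403479)) (tt N57473 (iv0 D197193)) (tt N114034 (iv2 F488299)) (tt N116338 (iv3 F499620)) (tt N114426 (iv4 F490093)) (tt N114031 (iv5 F488285)) (tt N114289 (iv6 F489412)) (tt N116711 (iv7 F501436)))
theorem Q94160 : ∀ i, i < 94160 → P i := stepQ 94159 Q94159 (allL N94159 (tt N57473 (iv1 D197194)) (tt N91064 F403474) (tt N116711 (iv2 F501434)) (tt N116468 (iv3 F500287)) (tt N114427 (iv4 F490098)) (tt N110861 (iv5 F473490)) (tt N118453 D221712) (tt N114034 (iv7 F488301)))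
theorem Q94161 : ∀ i, i < 94161 → P i := stepQ 94160 Q94160 (allL N94160 (tt N116711 (iv1 F501438)) (tt N114034 (iv0 F488302)) (tt N91064 F403475) (tt N118452 (iv3 F510441)) (tt N78763 F403476) (tt N89272 F403477) (tt N78762 F403478) (tt N57473 (iv7 D197195)))
theorem Q94162 : ∀ i, i < 94162 → P i := stepQ 94161 Q94161 (allL N94161 (tt N62287 F403483) (tt N64541 F403484) (tt N64553 F403480) (tt N89423 F403481) (tt N106466 (iv4 F454568)) (tt N57475 (iv5 D197196)) (tt N62264 F403485) (tt N64554 F403482))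
theorem Q94163 : ∀ i, i < 94163 → P i := stepQ 94162 Q94162 (allL N94162 (tt N108059 (iv1 F460931)) (tt N108057 (iv0 F460914)) (tt N71857 F403486) (tt N90288 (iv3 F403489)) (tt N57476 (iv4 D197197)) (tt N72826 F403488) (tt N71855 F403487) (tt N118454 D221713))
theorem Q94164 : ∀ i, i < 94164 → P i := stepQ 94163 Q94163 (allL N94163 (tt N101097 (iv1 F431661)) (tt N101098 (iv0 F431664)) (tt N89377 F403490) (tt N75836 F403491) (tt N118454 (iv4 F510453)) (tt N57477 F403492) (tt N118455 D221714) (tt N57476 (iv7 D197198)))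
theorem Q94165 : ∀ i, i < 94165 → P i := stepQ 94164 Q94164 (allL N94164 (tt N68295 (iv1 F403497)) (tt N76491 (iv0 F403498)) (tt N76498 F403493) (tt N75837 F403494) (tt N57480 F403495) (tt N101093 (iv5 F431636)) (tt N57477 (iv6 D197199)) (tt N57478 F403496))
theorem Q94166 : ∀ i, i < 94166 → P i := stepQ 94165 Q94165 (allL N94165 (tt N57478 (iv1 D197200)) (tt N76498 F403499) (tt N68295 (iv2 F403502)) (tt N109328 (iv3 F466408)) (tt N68294 F403501) (tt N81837 (iv5 F403503)) (tt N100960 (iv6 F431100)) (tt N76491 F403500))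
theorem Q94167 : ∀ i, i < 94167 → P i := stepQ 94166 Q94166 (allL N94166 (tt N77548 F403505) (tt N101095 F431651) (tt N76497 F403504) (tt N94468 (iv3 F404591)) (tt N91158 F403506) (tt N57478 (iv5 D197201)) (tt N102882 (iv6 F439084)) (tt N101093 (iv7 F431640)))
theorem Q94168 : ∀ i, i < 94168 → P i := stepQ 94167 Q94167 (allL N94167 (tt N98354 F420622) (tt N103063 F439919) (tt N103062 (iv2 F439913)) (tt N57482 (iv3 D197202)) (tt N100314 (iv4 F428394)) (tt N116209 (iv5 F499028)) (tt N107631 (iv6 F459017)) (tt N103061 (iv7 F439908)))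
theorem Q94169 : ∀ i, i < 94169 → P i := stepQ 94168 Q94168 (allL N94168 (tt N109383 F466687) (tt N65087 F403510) (tt N104259 (iv2 F444988)) (tt N116209 (iv3 F499030)) (tt N98269 (iv4 F420261)) (tt N57482 (iv5 D197203)) (tt N72281 F403509) (tt N111257 (iv7 F475480)))
theorem Q94170 : ∀ i, i < 94170 → P i := stepQ 94169 Q94169 (allL N94169 (tt N78088 (iv1 F403516)) (tt N94464 (iv0 F404574)) (tt N57483 (iv2 D197204)) (tt N78214 F403511) (tt N80291 F403512) (tt N78082 F403513) (tt N81263 F403514) (tt N80289 F403515))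
theorem Q94171 : ∀ i, i < 94171 → P i := stepQ 94170 Q94170 (allL N94170 (tt N59529 (iv1 F403518)) (tt N57488 (iv0 D197205)) (tt N59528 F403520) (tt N68532 F403517) (tt N96037 (iv4 F410751)) (tt N109068 (iv5 F465199)) (tt N68529 (iv6 F403519)) (tt N59527 F403521))
theorem Q94172 : ∀ i, i < 94172 → P i := stepQ 94171 Q94171 (allL N94171 (tt N57488 (iv1 D197206)) (tt N59529 (iv0 F403528)) (tt N59527 F403525) (tt N81829 F403526) (tt N59594 (iv4 F403523)) (tt N94090 F403527) (tt N94025 (iv6 F403524)) (tt N59528 F403522))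
theorem Q94173 : ∀ i, i < 94173 → P i := stepQ 94172 Q94172 (allL N94172 (tt N59528 (iv1 F403535)) (tt N59527 F403534) (tt N57488 (iv2 D197207)) (tt N65950 F403530) (tt N59345 F403531) (tt N75371 F403532) (tt N81786 (iv6 F403538)) (tt N59529 F403533))
theorem Q94174 : ∀ i, i < 94174 → P i := stepQ 94173 Q94173 (allL N94173 (tt N81811 F403543) (tt N81797 F403544) (tt N81786 F403539) (tt N57490 F403540) (tt N59347 F403541) (tt N118456 D221715) (tt N57488 (iv6 D197208)) (tt N81810 F403542))
theorem Q94175 : ∀ i, i < 94175 → P i := stepQ 94174 Q94174 (allL N94174 (tt N95641 F427677) (tt N75405 (iv0 F408916)) (tt N92066 F403546) (tt N76649 F403547) (tt N65938 F403548) (tt N102693 (iv5 F438224)) (tt N57489 (iv6 D197209)) (tt N118457 D221716))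
theorem Q94176 : ∀ i, i < 94176 → P i := stepQ 94175 Q94175 (allL N94175 (tt N60081 F403550) (tt N95773 F409574) (tt N92067 F403549) (tt N118456 (iv3 F510466)) (tt N118458 D221717) (tt N57490 (iv5 D197210)) (tt N102693 (iv6 F438222)) (tt N95771 F409561))
theorem Q94177 : ∀ i, i < 94177 → P i := stepQ 94176 Q94176 (allL N94176 (tt N75295 F403556) (tt N68532 (iv0 F403557)) (tt N66701 F403552) (tt N57491 (iv3 D197211)) (tt N104247 (iv4 F444915)) (tt N62534 F403553) (tt N80272 F403554) (tt N75293 F403555))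
theorem Q94178 : ∀ i, i < 94178 → P i := stepQ 94177 Q94177 (allL N94177 (tt N73697 F403561) (tt N108748 F463804) (tt N107564 (iv2 F458764)) (tt N57495 F403558) (tt N92539 F403559) (tt N94034 F403560) (tt N57493 (iv6 D197212)) (tt N108747 (iv7 F463798)))
theorem Q94179 : ∀ i, i < 94179 → P i := stepQ 94178 Q94178 (allL N94178 (tt N57495 (iv1 D197213)) (tt N94083 F403563) (tt N77980 (iv2 F403567)) (tt N82159 (iv3 F403569)) (tt N87361 F403566) (tt N77976 F403565) (tt N87359 (iv6 F403568)) (tt N94081 F403564))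
theorem Q94180 : ∀ i, i < 94180 → P i := stepQ 94179 Q94179 (allL N94179 (tt N95823 (iv1 F409809)) (tt N80893 (iv0 F403575)) (tt N57498 F403570) (tt N72680 F403571) (tt N61284 F403574) (tt N57497 (iv5 D197214)) (tt N75783 F403572) (tt N75787 F403573))
theorem Q94181 : ∀ i, i < 94181 → P i := stepQ 94180 Q94180 (allL N94180 (tt N75787 (iv1 F403580)) (tt N57498 (iv0 D197215)) (tt N95823 (iv2 F409814)) (tt N80897 F403578) (tt N74838 F403577) (tt N59986 F403576) (tt N80665 F403579) (tt N80893 (iv7 F403581)))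
theorem Q94182 : ∀ i, i < 94182 → P i := stepQ 94181 Q94181 (allL N94181 (tt N57498 (iv1 D197216)) (tt N75787 F403582) (tt N80893 F403586) (tt N65403 (iv3 F403583)) (tt N109460 (iv4 F467078)) (tt N59987 (iv5 F403584)) (tt N80891 (iv6 F403585)) (tt N95823 (iv7 F409810)))
theorem Q94183 : ∀ i, i < 94183 → P i := stepQ 94182 Q94182 (allL N94182 (tt N57555 (iv1 F403589)) (tt N57500 (iv0 D197217)) (tt N57554 (iv2 F403590)) (tt N93395 F403588) (tt N110840 (iv4 F473399)) (tt N78182 F403587) (tt N102655 (iv6 F438083)) (tt N57553 (iv7 F403591)))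
theorem Q94184 : ∀ i, i < 94184 → P i := stepQ 94183 Q94183 (allL N94183 (tt N57500 (iv1 D197218)) (tt N57555 (iv0 F403598)) (tt N57553 (iv2 F403597)) (tt N65245 (iv3 F403594)) (tt N65256 (iv4 F403595)) (tt N65265 F403593) (tt N92395 F403596) (tt N57554 F403592))
theorem Q94185 : ∀ i, i < 94185 → P i := stepQ 94184 Q94184 (allL N94184 (tt N57554 (iv1 F403604)) (tt N57553 F403603) (tt N57500 (iv2 D197219)) (tt N57538 F403599) (tt N70209 F403600) (tt N65374 F403601) (tt N102812 (iv6 F438747)) (tt N57555 F403602))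
theorem Q94186 : ∀ i, i < 94186 → P i := stepQ 94185 Q94185 (allL N94185 (tt N110691 F472769) (tt N110694 (iv0 F472788)) (tt N57542 F403606) (tt N74311 F403607) (tt N77853 F403608) (tt N102816 (iv5 F438778)) (tt N57501 (iv6 D197220)) (tt N118459 D221718))
theorem Q94187 : ∀ i, i < 94187 → P i := stepQ 94186 Q94186 (allL N94186 (tt N57538 (iv1 F403611)) (tt N57502 (iv0 D197221)) (tt N57537 F403620) (tt N60321 F403610) (tt N116450 (iv4 F500184)) (tt N60319 F403609) (tt N108987 F464782) (tt N57536 (iv7 F403612)))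
theorem Q94188 : ∀ i, i < 94188 → P i := stepQ 94187 Q94187 (allL N94187 (tt N57502 (iv1 D197222)) (tt N57538 (iv0 F403618)) (tt N57536 (iv2 F403617)) (tt N92548 F403615) (tt N71121 (iv4 F403613)) (tt N60318 F403616) (tt N92543 (iv6 F403614)) (tt N57537 (iv7 F403619)))
theorem Q94189 : ∀ i, i < 94189 → P i := stepQ 94188 Q94188 (allL N94188 (tt N57537 (iv1 F403626)) (tt N57536 F403625) (tt N57502 (iv2 D197223)) (tt N57555 F403622) (tt N101911 (iv4 F434912)) (tt N82309 F403623) (tt N108240 F461645) (tt N57538 F403624))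
theorem Q94190 : ∀ i, i < 94190 → P i := stepQ 94189 Q94189 (allL N94189 (tt N110667 F472686) (tt N110669 (iv0 F472692)) (tt N57558 F403627) (tt N117168 (iv3 F503721)) (tt N77852 F403628) (tt N107372 F458140) (tt N57503 (iv6 D197224)) (tt N118460 D221719))
theorem Q94191 : ∀ i, i < 94191 → P i := stepQ 94190 Q94190 (allL N94190 (tt N57586 (iv1 F403631)) (tt N57504 (iv0 D197225)) (tt N57585 (iv2 F403632)) (tt N93423 F403630) (tt N101792 (iv4 F434366)) (tt N78252 F403629) (tt N74724 (iv6 F403633)) (tt N57584 F403641))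
theorem Q94192 : ∀ i, i < 94192 → P i := stepQ 94191 Q94191 (allL N94191 (tt N57504 (iv1 D197226)) (tt N57586 (iv0 F403642)) (tt N57584 F403639) (tt N57677 (iv3 F403637)) (tt N72287 (iv4 F403638)) (tt N82308 F403636) (tt N73477 F403640) (tt N57585 F403635))
theorem Q94193 : ∀ i, i < 94193 → P i := stepQ 94192 Q94192 (allL N94192 (tt N57585 (iv1 F403648)) (tt N57584 F403647) (tt N57504 (iv2 D197227)) (tt N57568 F403643) (tt N57753 F403644) (tt N57672 F403645) (tt N118461 D221720) (tt N57586 F403646))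
theorem Q94194 : ∀ i, i < 94194 → P i := stepQ 94193 Q94193 (allL N94193 (tt N118462 D221721) (tt N118463 D221722) (tt N118461 (iv2 F510498)) (tt N57506 F403649) (tt N57754 F403650) (tt N118464 D221723) (tt N57504 (iv6 D197228)) (tt N96518 (iv7 F412824)))
theorem Q94195 : ∀ i, i < 94195 → P i := stepQ 94194 Q94194 (allL N94194 (tt N110732 F472933) (tt N110734 (iv0 F472942)) (tt N57573 F403651) (tt N57678 F403652) (tt N77832 F403653) (tt N118465 D221724) (tt N57505 (iv6 D197229)) (tt N118466 D221725))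
theorem Q94196 : ∀ i, i < 94196 → P i := stepQ 94195 Q94195 (allL N94195 (tt N57577 (iv1 F403658)) (tt N57506 (iv0 D197230)) (tt N57574 (iv2 F403655)) (tt N118467 D221726) (tt N59277 F403654) (tt N118468 D221727) (tt N92305 F403656) (tt N57575 F403657))
theorem Q94197 : ∀ i, i < 94197 → P i := stepQ 94196 Q94196 (allL N94196 (tt N95321 (iv1 F407846)) (tt N117818 F507110) (tt N57576 F403659) (tt N118464 (iv3 F510511)) (tt N118469 D221728) (tt N57506 (iv5 D197231)) (tt N118465 (iv6 F510517)) (tt N117816 (iv7 F507099)))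
theorem Q94198 : ∀ i, i < 94198 → P i := stepQ 94197 Q94197 (allL N94197 (tt N57575 (iv1 F403663)) (tt N57574 F403664) (tt N57577 F403660) (tt N96518 (iv3 F412822)) (tt N57508 F403661) (tt N117816 (iv5 F507097)) (tt N57593 F403662) (tt N57506 (iv7 D197232)))
theorem Q94199 : ∀ i, i < 94199 → P i := stepQ 94198 Q94198 (allL N94198 (tt N57513 (iv1 F403669)) (tt N57511 (iv0 F403668)) (tt N57509 (iv2 D197233)) (tt N57608 (iv3 F403667)) (tt N94570 (iv4 F405009)) (tt N57607 F403665) (tt N118470 D221729) (tt N57510 (iv7 F403666)))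
theorem Q94200 : ∀ i, i < 94200 → P i := stepQ 94199 Q94199 (allL N94199 (tt N106461 (iv1 F454554)) (tt N92512 (iv0 F403673)) (tt N60333 F403670) (tt N57509 (iv3 D197234)) (tt N60331 F403671) (tt N96288 (iv5 F411889)) (tt N118471 D221730) (tt N60337 (iv7 F403672)))
theorem Q94201 : ∀ i, i < 94201 → P i := stepQ 94200 Q94200 (allL N94200 (tt N110575 (iv1 F475636)) (tt N110711 (iv0 F475635)) (tt N118470 (iv2 F510541)) (tt N118471 (iv3 F510549)) (tt N111285 F475634) (tt N113734 (iv5 F486887)) (tt N57509 (iv6 D197235)) (tt N118433 (iv7 F510331)))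
theorem Q94202 : ∀ i, i < 94202 → P i := stepQ 94201 Q94201 (allL N94201 (tt N57511 (iv1 F403677)) (tt N57513 F403678) (tt N57510 F403674) (tt N60337 F403675) (tt N91357 F403676) (tt N96290 (iv5 F411898)) (tt N77726 (iv6 F403679)) (tt N57509 (iv7 D197236)))
theorem Q94203 : ∀ i, i < 94203 → P i := stepQ 94202 Q94202 (allL N94202 (tt N65380 (iv1 F403683)) (tt N78081 F403684) (tt N57612 (iv2 F403682)) (tt N57510 (iv3 D197237)) (tt N105442 (iv4 F450283)) (tt N57610 F403680) (tt N116645 (iv6 F501123)) (tt N57608 F403681))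
theorem Q94204 : ∀ i, i < 94204 → P i := stepQ 94203 Q94203 (allL N94203 (tt N94080 F403755) (tt N82584 (iv0 F403687)) (tt N91357 F403685) (tt N94076 F403686) (tt N57510 (iv4 D197238)) (tt N108748 (iv5 F463802)) (tt N91356 (iv6 F403688)) (tt N94570 (iv7 F405008)))
theorem Q94205 : ∀ i, i < 94205 → P i := stepQ 94204 Q94204 (allL N94204 (tt N77723 (iv1 F403693)) (tt N63794 (iv0 F403692)) (tt N77726 F403689) (tt N116645 F501121) (tt N91356 F403690) (tt N117776 (iv5 F506909)) (tt N57510 (iv6 D197239)) (tt N77725 (iv7 F403691)))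
theorem Q94206 : ∀ i, i < 94206 → P i := stepQ 94205 Q94205 (allL N94205 (tt N78029 (iv1 F403698)) (tt N78028 F403697) (tt N57512 F403694) (tt N57613 F403695) (tt N96258 (iv4 F411774)) (tt N57511 (iv5 D197240)) (tt N118472 D221731) (tt N78030 F403696))
theorem Q94207 : ∀ i, i < 94207 → P i := stepQ 94206 Q94206 (allL N94206 (tt N78030 (iv1 F403701)) (tt N57512 (iv0 D197241)) (tt N78029 (iv2 F403700)) (tt N117889 (iv3 F507451)) (tt N70323 F403703) (tt N101855 F434685) (tt N107370 (iv6 F458131)) (tt N78028 F403702))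
theorem Q94208 : ∀ i, i < 94208 → P i := stepQ 94207 Q94207 (allL N94207 (tt N109222 (iv1 F465840)) (tt N109192 (iv0 F465729)) (tt N96258 (iv2 F411771)) (tt N78013 F403704) (tt N57512 (iv4 D197242)) (tt N81353 F403706) (tt N107072 (iv6 F457026)) (tt N78010 F403705))
theorem Q94209 : ∀ i, i < 94209 → P i := stepQ 94208 Q94208 (allL N94208 (tt N118473 D221732) (tt N118474 D221733) (tt N118472 (iv2 F510553)) (tt N57514 F403707) (tt N107072 (iv4 F457025)) (tt N92319 F403708) (tt N57512 (iv6 D197243)) (tt N118475 D221734))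
theorem Q94210 : ∀ i, i < 94210 → P i := stepQ 94209 Q94209 (allL N94209 (tt N117881 (iv1 F507409)) (tt N117784 (iv0 F506959)) (tt N79587 F403709) (tt N57515 F403710) (tt N79583 F403711) (tt N118476 D221735) (tt N57513 (iv6 D197244)) (tt N92320 F403712))
theorem Q94211 : ∀ i, i < 94211 → P i := stepQ 94210 Q94210 (allL N94210 (tt N57627 (iv1 F403719)) (tt N57514 (iv0 D197245)) (tt N57625 F404245) (tt N74729 (iv3 F404242)) (tt N103215 (iv4 F440610)) (tt N108572 (iv5 F463098)) (tt N117851 (iv6 F507269)) (tt N57626 F404243))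
theorem Q94212 : ∀ i, i < 94212 → P i := stepQ 94211 Q94211 (allL N94211 (tt N57514 (iv1 D197246)) (tt N57627 F403714) (tt N57626 (iv2 F404244)) (tt N92462 F404248) (tt N103214 (iv4 F440602)) (tt N93574 (iv5 F404249)) (tt N118477 D221736) (tt N57625 (iv7 F404247)))
theorem Q94213 : ∀ i, i < 94213 → P i := stepQ 94212 Q94212 (allL N94212 (tt N57626 (iv1 F403720)) (tt N57625 F403721) (tt N57627 F403715) (tt N118475 (iv3 F510571)) (tt N78039 F403716) (tt N92323 F403717) (tt N78033 F403718) (tt N57514 (iv7 D197247)))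
theorem Q94214 : ∀ i, i < 94214 → P i := stepQ 94213 Q94213 (allL N94213 (tt N92521 F403726) (tt N73053 (iv0 F405731)) (tt N57630 F403722) (tt N118476 (iv3 F510578)) (tt N73188 F403725) (tt N57515 (iv5 D197248)) (tt N73337 F403723) (tt N92324 F403724))
theorem Q94215 : ∀ i, i < 94215 → P i := stepQ 94214 Q94214 (allL N94214 (tt N101911 (iv1 F434915)) (tt N57516 (iv0 D197249)) (tt N101910 (iv2 F434908)) (tt N90707 F403728) (tt N96924 (iv4 F414636)) (tt N71254 (iv5 F414638)) (tt N96920 (iv6 F414621)) (tt N101909 F434906))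
theorem Q94216 : ∀ i, i < 94216 → P i := stepQ 94215 Q94215 (allL N94215 (tt N57516 (iv1 D197250)) (tt N101911 F434916) (tt N101909 F434911) (tt N117272 F504220) (tt N112799 (iv4 F482669)) (tt N71255 (iv5 F434917)) (tt N102755 F452523) (tt N101910 F434910))
theorem Q94217 : ∀ i, i < 94217 → P i := stepQ 94216 Q94216 (allL N94216 (tt N57520 (iv1 D197251)) (tt N68655 F403729) (tt N62124 F403735) (tt N72922 (iv3 F403733)) (tt N62123 F403731) (tt N68731 F403732) (tt N72920 (iv6 F403734)) (tt N68654 F403730))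
theorem Q94218 : ∀ i, i < 94218 → P i := stepQ 94217 Q94217 (allL N94217 (tt N62124 (iv1 F403741)) (tt N68654 F403742) (tt N68655 F403736) (tt N70206 F403737) (tt N61938 F403738) (tt N66146 F403739) (tt N58988 F403740) (tt N57520 (iv7 D197252)))
theorem Q94219 : ∀ i, i < 94219 → P i := stepQ 94218 Q94218 (allL N94218 (tt N116946 F502640) (tt N118478 D221737) (tt N78006 F403743) (tt N57522 F403744) (tt N105063 (iv4 F448621)) (tt N108244 (iv5 F461661)) (tt N57521 (iv6 D197253)) (tt N106908 (iv7 F456237)))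
theorem Q94220 : ∀ i, i < 94220 → P i := stepQ 94219 Q94219 (allL N94219 (tt N59304 (iv1 F403748)) (tt N59308 F403747) (tt N94354 F404117) (tt N57527 F403745) (tt N109139 (iv4 F465522)) (tt N57526 (iv5 D197254)) (tt N73811 F403746) (tt N94337 (iv7 F404076)))
theorem Q94221 : ∀ i, i < 94221 → P i := stepQ 94220 Q94220 (allL N94220 (tt N117891 (iv1 F507459)) (tt N94403 F423812) (tt N94338 (iv2 F404078)) (tt N102272 (iv3 F436482)) (tt N70753 F403749) (tt N99734 (iv5 F425969)) (tt N57529 (iv6 D197255)) (tt N99053 (iv7 F423158)))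
theorem Q94222 : ∀ i, i < 94222 → P i := stepQ 94221 Q94221 (allL N94221 (tt N106459 (iv1 F454543)) (tt N57530 (iv0 D197256)) (tt N106458 F454537) (tt N96255 F411763) (tt N110293 (iv4 F470890)) (tt N82325 (iv5 F403809)) (tt N107346 (iv6 F458043)) (tt N106457 F454531))
theorem Q94223 : ∀ i, i < 94223 → P i := stepQ 94222 Q94222 (allL N94222 (tt N57530 (iv1 D197257)) (tt N106459 F454544) (tt N106457 F454532) (tt N111030 (iv3 F474343)) (tt N107117 (iv4 F457055)) (tt N82326 (iv5 F434686)) (tt N108691 F463576) (tt N106458 (iv7 F454533)))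
theorem Q94224 : ∀ i, i < 94224 → P i := stepQ 94223 Q94223 (allL N94223 (tt N106458 F454536) (tt N106457 F454529) (tt N57530 (iv2 D197258)) (tt N92302 F403750) (tt N70324 F403751) (tt N94285 (iv5 F403959)) (tt N92300 (iv6 F403752)) (tt N106459 (iv7 F454542)))
theorem Q94225 : ∀ i, i < 94225 → P i := stepQ 94224 Q94224 (allL N94224 (tt N96250 F411745) (tt N96254 (iv0 F411756)) (tt N94285 (iv2 F403958)) (tt N57531 F403753) (tt N94080 (iv4 F403754)) (tt N57530 (iv5 D197259)) (tt N102775 (iv6 F438592)) (tt N94293 (iv7 F403974)))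
theorem Q94226 : ∀ i, i < 94226 → P i := stepQ 94225 Q94225 (allL N94225 (tt N92433 (iv1 F403761)) (tt N92432 F403763) (tt N92300 F403756) (tt N57532 F403757) (tt N70322 F403758) (tt N92299 (iv5 F403759)) (tt N57530 (iv6 D197260)) (tt N92431 F403760))
theorem Q94227 : ∀ i, i < 94227 → P i := stepQ 94226 Q94226 (allL N94226 (tt N92424 (iv1 F403768)) (tt N92423 F403767) (tt N57533 (iv2 D197261)) (tt N106459 (iv3 F454538)) (tt N68079 F403764) (tt N66341 F403765) (tt N92443 (iv6 F403772)) (tt N92302 F403766))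
theorem Q94228 : ∀ i, i < 94228 → P i := stepQ 94227 Q94227 (allL N94227 (tt N92441 (iv1 F403780)) (tt N92440 F403781) (tt N92443 F403776) (tt N57535 F403777) (tt N68081 F403778) (tt N111604 (iv5 F477124)) (tt N57533 (iv6 D197262)) (tt N92303 F403779))
theorem Q94229 : ∀ i, i < 94229 → P i := stepQ 94228 Q94228 (allL N94228 (tt N118479 D221738) (tt N108051 (iv0 F460887)) (tt N94294 (iv2 F403978)) (tt N94284 (iv3 F403953)) (tt N71567 F403782) (tt N117073 (iv5 F503246)) (tt N57534 (iv6 D197263)) (tt N117872 (iv7 F507370)))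
theorem Q94230 : ∀ i, i < 94230 → P i := stepQ 94229 Q94229 (allL N94229 (tt N102271 (iv1 F436479)) (tt N102272 (iv0 F436485)) (tt N92403 F403783) (tt N111604 F477127) (tt N118480 D221739) (tt N57535 (iv5 D197264)) (tt N117073 (iv6 F503247)) (tt N92402 F403784))
theorem Q94231 : ∀ i, i < 94231 → P i := stepQ 94230 Q94230 (allL N94230 (tt N104971 F448208) (tt N116449 (iv0 F500179)) (tt N71121 F403785) (tt N101326 (iv3 F432662)) (tt N57536 (iv4 D197265)) (tt N101316 (iv5 F432628)) (tt N99988 F427072) (tt N116450 (iv7 F500183)))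
theorem Q94232 : ∀ i, i < 94232 → P i := stepQ 94231 Q94231 (allL N94231 (tt N118481 D221740) (tt N99880 (iv0 F426661)) (tt N92543 F403786) (tt N60320 F403787) (tt N99988 (iv4 F427069)) (tt N92542 F403788) (tt N57536 (iv6 D197266)) (tt N118482 D221741))
theorem Q94233 : ∀ i, i < 94233 → P i := stepQ 94232 Q94232 (allL N94232 (tt N96256 (iv1 F411764)) (tt N96255 F411760) (tt N94239 (iv2 F403803)) (tt N57537 (iv3 D197267)) (tt N111805 (iv4 F478063)) (tt N94280 (iv5 F403936)) (tt N111804 F478060) (tt N92548 F403789))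
theorem Q94234 : ∀ i, i < 94234 → P i := stepQ 94233 Q94233 (allL N94233 (tt N60317 (iv1 F403794)) (tt N60316 (iv0 F403793)) (tt N60319 F403790) (tt N94280 (iv3 F403934)) (tt N60330 F403792) (tt N57537 (iv5 D197268)) (tt N108270 (iv6 F461803)) (tt N60318 F403791))
theorem Q94235 : ∀ i, i < 94235 → P i := stepQ 94234 Q94234 (allL N94234 (tt N92294 F403795) (tt N108989 F464794) (tt N108987 (iv2 F464783)) (tt N111804 (iv3 F478059)) (tt N117078 (iv4 F503261)) (tt N118483 D221742) (tt N57537 (iv6 D197269)) (tt N108988 (iv7 F464788)))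
theorem Q94236 : ∀ i, i < 94236 → P i := stepQ 94235 Q94235 (allL N94235 (tt N59918 (iv1 F403800)) (tt N59895 (iv0 F403799)) (tt N59915 F403796) (tt N68681 F403797) (tt N57539 (iv4 D197270)) (tt N97197 (iv5 F415846)) (tt N108553 (iv6 F463055)) (tt N59916 F403798))
theorem Q94237 : ∀ i, i < 94237 → P i := stepQ 94236 Q94236 (allL N94236 (tt N94269 F423688) (tt N117819 (iv0 F507115)) (tt N117821 F507123) (tt N57542 F403801) (tt N108553 (iv4 F463054)) (tt N118484 D221743) (tt N57539 (iv6 D197271)) (tt N117822 (iv7 F507125)))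
theorem Q94238 : ∀ i, i < 94238 → P i := stepQ 94237 Q94237 (allL N94237 (tt N115353 (iv1 F494749)) (tt N57540 (iv0 D197272)) (tt N116447 (iv2 F500164)) (tt N94265 F472358) (tt N115785 (iv4 F496864)) (tt N116648 (iv5 F501135)) (tt N92361 F472360) (tt N116425 (iv7 F500037)))
theorem Q94239 : ∀ i, i < 94239 → P i := stepQ 94238 Q94238 (allL N94238 (tt N106965 F470647) (tt N106968 (iv0 F456477)) (tt N116539 (iv2 F500675)) (tt N57545 F403802) (tt N107808 (iv4 F459791)) (tt N57540 (iv5 D197273)) (tt N118484 (iv6 F510620)) (tt N94367 F404154))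
theorem Q94240 : ∀ i, i < 94240 → P i := stepQ 94239 Q94239 (allL N94239 (tt N82325 F403807) (tt N82326 (iv0 F403811)) (tt N94232 F403803) (tt N57541 (iv3 D197274)) (tt N94057 F403804) (tt N57564 F403805) (tt N109905 (iv6 F469152)) (tt N59281 F403806))
theorem Q94241 : ∀ i, i < 94241 → P i := stepQ 94240 Q94240 (allL N94240 (tt N78034 (iv1 F404273)) (tt N77767 (iv0 F403815)) (tt N97328 (iv2 F416366)) (tt N109905 (iv3 F469151)) (tt N60215 F403812) (tt N73331 (iv5 F403813)) (tt N57541 (iv6 D197275)) (tt N108434 (iv7 F462543)))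
theorem Q94242 : ∀ i, i < 94242 → P i := stepQ 94241 Q94241 (allL N94241 (tt N118459 (iv1 F510490)) (tt N57542 (iv0 D197276)) (tt N110691 (iv2 F472766)) (tt N92455 (iv3 F429271)) (tt N110607 (iv4 F472368)) (tt N92454 F429270) (tt N118485 D221744) (tt N110694 (iv7 F472786)))
theorem Q94243 : ∀ i, i < 94243 → P i := stepQ 94242 Q94242 (allL N94242 (tt N57542 (iv1 D197277)) (tt N118459 F510489) (tt N110694 (iv2 F472783)) (tt N112798 (iv3 F482662)) (tt N61870 F422786) (tt N111529 (iv5 F476762)) (tt N61868 (iv6 F422785)) (tt N110691 (iv7 F472767)))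
theorem Q94244 : ∀ i, i < 94244 → P i := stepQ 94243 Q94243 (allL N94243 (tt N102806 (iv1 F476377)) (tt N100040 (iv0 F429269)) (tt N102816 (iv2 F438775)) (tt N118484 (iv3 F510619)) (tt N80637 F403818) (tt N57542 (iv5 D197278)) (tt N57545 F403817) (tt N112802 (iv7 F482681)))
theorem Q94245 : ∀ i, i < 94245 → P i := stepQ 94244 Q94244 (allL N94244 (tt N110694 F472789) (tt N110691 F472772) (tt N118459 (iv2 F510484)) (tt N117822 F507127) (tt N78027 F403819) (tt N112802 (iv5 F482683)) (tt N118460 (iv6 F510495)) (tt N57542 (iv7 D197279)))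
theorem Q94246 : ∀ i, i < 94246 → P i := stepQ 94245 Q94245 (allL N94245 (tt N77888 F403821) (tt N108691 (iv0 F463575)) (tt N108716 F463669) (tt N57543 (iv3 D197280)) (tt N96191 (iv4 F411416)) (tt N102732 (iv5 F438401)) (tt N83180 F403820) (tt N102809 (iv7 F438736)))
theorem Q94247 : ∀ i, i < 94247 → P i := stepQ 94246 Q94246 (allL N94246 (tt N100081 F427466) (tt N108707 (iv0 F463638)) (tt N118486 D221745) (tt N57544 (iv3 D197281)) (tt N68121 F403822) (tt N108333 (iv5 F462115)) (tt N117824 (iv6 F507139)) (tt N102808 (iv7 F438733)))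
theorem Q94248 : ∀ i, i < 94248 → P i := stepQ 94247 Q94247 (allL N94247 (tt N94409 (iv1 F404347)) (tt N94410 (iv0 F404352)) (tt N102810 (iv2 F438739)) (tt N117824 F507141) (tt N68120 F403823) (tt N72723 F403824) (tt N57544 (iv6 D197282)) (tt N92371 F403825))
theorem Q94249 : ∀ i, i < 94249 → P i := stepQ 94248 Q94248 (allL N94248 (tt N57545 (iv1 D197283)) (tt N102817 F438782) (tt N92448 (iv2 F403828)) (tt N108701 (iv3 F463612)) (tt N80793 (iv4 F403829)) (tt N92305 F403827) (tt N118487 D221746) (tt N92445 F403826))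
theorem Q94250 : ∀ i, i < 94250 → P i := stepQ 94249 Q94249 (allL N94249 (tt N102707 F438295) (tt N98073 (iv0 F419358)) (tt N102815 (iv2 F438770)) (tt N100375 (iv3 F428663)) (tt N57545 (iv4 D197284)) (tt N100534 (iv5 F429373)) (tt N80637 F403830) (tt N102805 (iv7 F438719)))
theorem Q94251 : ∀ i, i < 94251 → P i := stepQ 94250 Q94250 (allL N94250 (tt N92448 (iv1 F403832)) (tt N92445 F403833) (tt N102817 (iv2 F438780)) (tt N94367 (iv3 F404152)) (tt N102805 (iv4 F438720)) (tt N57546 F403831) (tt N94365 (iv6 F404149)) (tt N57545 (iv7 D197285)))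
theorem Q94252 : ∀ i, i < 94252 → P i := stepQ 94251 Q94251 (allL N94251 (tt N102816 F438779) (tt N112802 (iv0 F482682)) (tt N100040 (iv2 F427335)) (tt N57547 (iv3 D197286)) (tt N94066 F403834) (tt N117908 (iv5 F507538)) (tt N92376 F403835) (tt N102806 (iv7 F438723)))
theorem Q94253 : ∀ i, i < 94253 → P i := stepQ 94252 Q94252 (allL N94252 (tt N70209 (iv1 F403839)) (tt N57549 (iv0 D197287)) (tt N70208 (iv2 F403838)) (tt N89982 F403837) (tt N94352 (iv4 F404101)) (tt N90442 F403836) (tt N89980 (iv6 F403841)) (tt N70207 F403840))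
theorem Q94254 : ∀ i, i < 94254 → P i := stepQ 94253 Q94253 (allL N94253 (tt N70208 (iv1 F403847)) (tt N70207 F403846) (tt N57549 (iv2 D197288)) (tt N70218 F403842) (tt N57555 F403843) (tt N82259 F403844) (tt N107770 (iv6 F459650)) (tt N70209 F403845))
theorem Q94255 : ∀ i, i < 94255 → P i := stepQ 94254 Q94254 (allL N94254 (tt N62150 (iv1 F403852)) (tt N57551 (iv0 D197289)) (tt N62149 (iv2 F403851)) (tt N93380 F403850) (tt N60402 F403849) (tt N77995 F403848) (tt N61819 (iv6 F403854)) (tt N60400 F403853))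
theorem Q94256 : ∀ i, i < 94256 → P i := stepQ 94255 Q94255 (allL N94255 (tt N62149 (iv1 F403860)) (tt N60400 F403859) (tt N57551 (iv2 D197290)) (tt N78002 F403855) (tt N82169 F403856) (tt N78022 F403857) (tt N118488 D221747) (tt N62150 F403858))
theorem Q94257 : ∀ i, i < 94257 → P i := stepQ 94256 Q94256 (allL N94256 (tt N81104 F403864) (tt N102665 (iv0 F438131)) (tt N118488 (iv2 F510641)) (tt N57552 F403861) (tt N94039 F403862) (tt N89347 (iv5 F403863)) (tt N57551 (iv6 D197291)) (tt N98881 (iv7 F422684)))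
theorem Q94258 : ∀ i, i < 94258 → P i := stepQ 94257 Q94257 (allL N94257 (tt N111030 (iv1 F474346)) (tt N112806 (iv0 F482697)) (tt N93393 F403865) (tt N57553 (iv3 D197292)) (tt N92868 F403867) (tt N94457 (iv5 F404548)) (tt N93603 (iv6 F403868)) (tt N93395 F403866))
theorem Q94259 : ∀ i, i < 94259 → P i := stepQ 94258 Q94258 (allL N94258 (tt N110839 F473395) (tt N110837 (iv0 F473381)) (tt N65256 F403869) (tt N110843 (iv3 F473418)) (tt N57553 (iv4 D197293)) (tt N90438 F403870) (tt N118412 (iv6 F510210)) (tt N110840 (iv7 F473401)))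
theorem Q94260 : ∀ i, i < 94260 → P i := stepQ 94259 Q94259 (allL N94259 (tt N92390 (iv1 F403874)) (tt N92397 (iv0 F403873)) (tt N92395 F403871) (tt N93603 F403872) (tt N118412 (iv4 F510209)) (tt N117891 (iv5 F507464)) (tt N57553 (iv6 D197294)) (tt N92394 (iv7 F459929)))
theorem Q94261 : ∀ i, i < 94261 → P i := stepQ 94260 Q94260 (allL N94260 (tt N106963 F456469) (tt N118489 D221748) (tt N102655 (iv2 F438082)) (tt N105046 (iv3 F448544)) (tt N110841 (iv4 F473407)) (tt N102653 (iv5 F438074)) (tt N57554 (iv6 D197295)) (tt N102658 (iv7 F438099)))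
theorem Q94262 : ∀ i, i < 94262 → P i := stepQ 94261 Q94261 (allL N94261 (tt N108722 F463696) (tt N92387 (iv0 F403890)) (tt N57557 F403875) (tt N108240 F461644) (tt N107770 (iv4 F459648)) (tt N89367 F403900) (tt N57555 (iv6 D197296)) (tt N108723 (iv7 F463701)))
theorem Q94263 : ∀ i, i < 94263 → P i := stepQ 94262 Q94262 (allL N94262 (tt N65374 (iv1 F403880)) (tt N57556 (iv0 D197297)) (tt N82308 (iv2 F403879)) (tt N118023 (iv3 F508143)) (tt N57654 F403877) (tt N57584 F403876) (tt N107345 F458040) (tt N78252 F403881))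
theorem Q94264 : ∀ i, i < 94264 → P i := stepQ 94263 Q94263 (allL N94263 (tt N108723 (iv1 F463702)) (tt N57557 (iv0 D197298)) (tt N108722 (iv2 F463694)) (tt N118490 D221749) (tt N91976 (iv4 F403901)) (tt N71954 F403897) (tt N118491 D221750) (tt N92387 (iv7 F403902)))
theorem Q94265 : ∀ i, i < 94265 → P i := stepQ 94264 Q94264 (allL N94264 (tt N89360 (iv1 F403899)) (tt N89264 (iv0 F403896)) (tt N89367 (iv2 F403898)) (tt N57560 F403894) (tt N115987 (iv4 F497920)) (tt N57557 (iv5 D197299)) (tt N110107 (iv6 F470023)) (tt N89366 F403895))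
theorem Q94266 : ∀ i, i < 94266 → P i := stepQ 94265 Q94265 (allL N94265 (tt N118460 (iv1 F510497)) (tt N57558 (iv0 D197300)) (tt N110667 (iv2 F472682)) (tt N94237 (iv3 F472358)) (tt N110604 F472357) (tt N89522 F403903) (tt N108815 (iv6 F472359)) (tt N110669 (iv7 F472691)))
theorem Q94267 : ∀ i, i < 94267 → P i := stepQ 94266 Q94266 (allL N94266 (tt N57558 (iv1 D197301)) (tt N118460 F510496) (tt N110669 (iv2 F472690)) (tt N118492 D221751) (tt N110605 (iv4 F472361)) (tt N118493 D221752) (tt N118494 D221753) (tt N110667 (iv7 F472684)))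
theorem Q94268 : ∀ i, i < 94268 → P i := stepQ 94267 Q94267 (allL N94267 (tt N118495 D221754) (tt N118496 D221755) (tt N107372 (iv2 F458137)) (tt N110107 (iv3 F470021)) (tt N107362 (iv4 F458104)) (tt N57558 (iv5 D197302)) (tt N57560 F403904) (tt N107370 (iv7 F458132)))
theorem Q94269 : ∀ i, i < 94269 → P i := stepQ 94268 Q94268 (allL N94268 (tt N110669 F472693) (tt N110667 (iv0 F472685)) (tt N118460 (iv2 F510491)) (tt N63149 F403905) (tt N78021 F403906) (tt N107370 F458133) (tt N118459 (iv6 F510488)) (tt N57558 (iv7 D197303)))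
theorem Q94270 : ∀ i, i < 94270 → P i := stepQ 94269 Q94269 (allL N94269 (tt N108727 F463723) (tt N94236 (iv0 F423688)) (tt N118497 D221756) (tt N57559 (iv3 D197304)) (tt N78268 F403907) (tt N117612 (iv5 F505994)) (tt N108582 (iv6 F463144)) (tt N92354 F403908))
theorem Q94271 : ∀ i, i < 94271 → P i := stepQ 94270 Q94270 (allL N94270 (tt N105056 F448592) (tt N107355 F458075) (tt N107357 (iv2 F458077)) (tt N117612 (iv3 F505995)) (tt N118498 D221757) (tt N57559 (iv5 D197305)) (tt N118499 D221758) (tt N92356 F403909))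
theorem Q94272 : ∀ i, i < 94272 → P i := stepQ 94271 Q94271 (allL N94271 (tt N92342 (iv1 F403913)) (tt N92341 F403914) (tt N92350 F403910) (tt N108582 (iv3 F463142)) (tt N58394 F403911) (tt N94304 (iv5 F403988)) (tt N57559 (iv6 D197306)) (tt N58392 F403912))
theorem Q94273 : ∀ i, i < 94273 → P i := stepQ 94272 Q94272 (allL N94272 (tt N107354 (iv1 F458070)) (tt N57560 (iv0 D197307)) (tt N108025 (iv2 F460786)) (tt N117779 (iv3 F506926)) (tt N89565 (iv4 F404036)) (tt N92426 F403915) (tt N117778 (iv6 F506920)) (tt N89562 F404034))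
theorem Q94274 : ∀ i, i < 94274 → P i := stepQ 94273 Q94273 (allL N94273 (tt N57560 (iv1 D197308)) (tt N107354 (iv0 F458069)) (tt N89562 F438415) (tt N118171 (iv3 F508992)) (tt N89558 (iv4 F438416)) (tt N102734 (iv5 F438413)) (tt N89557 (iv6 F438417)) (tt N108025 (iv7 F460787)))
theorem Q94275 : ∀ i, i < 94275 → P i := stepQ 94274 Q94274 (allL N94274 (tt N107136 (iv1 F457147)) (tt N96191 (iv0 F411419)) (tt N107135 F457143) (tt N89639 (iv3 F404037)) (tt N57560 (iv4 D197309)) (tt N109137 (iv5 F465513)) (tt N107362 F458102) (tt N107112 F457039))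
theorem Q94276 : ∀ i, i < 94276 → P i := stepQ 94275 Q94275 (allL N94275 (tt N65940 F403919) (tt N95591 (iv0 F408802)) (tt N101914 (iv2 F434927)) (tt N59076 F403916) (tt N91291 (iv4 F403920)) (tt N57561 (iv5 D197310)) (tt N91290 F403917) (tt N66026 F403918))
theorem Q94277 : ∀ i, i < 94277 → P i := stepQ 94276 Q94276 (allL N94276 (tt N95591 F408803) (tt N65940 F403923) (tt N66026 F403921) (tt N72414 F403922) (tt N96733 (iv4 F413656)) (tt N57562 (iv5 D197311)) (tt N58748 F403924) (tt N101914 (iv7 F434930)))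
theorem Q94278 : ∀ i, i < 94278 → P i := stepQ 94277 Q94277 (allL N94277 (tt N65852 F403929) (tt N101925 (iv0 F434968)) (tt N93962 F403925) (tt N89378 F403926) (tt N71191 F403927) (tt N71704 F403930) (tt N57562 (iv6 D197312)) (tt N71858 F403928))
theorem Q94279 : ∀ i, i < 94279 → P i := stepQ 94278 Q94278 (allL N94278 (tt N59280 (iv1 F403933)) (tt N57564 (iv0 D197313)) (tt N59279 (iv2 F410253)) (tt N82192 F403932) (tt N114079 (iv4 F488489)) (tt N82192 F403931) (tt N114080 (iv6 F488496)) (tt N59278 (iv7 F410255)))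
theorem Q94280 : ∀ i, i < 94280 → P i := stepQ 94279 Q94279 (allL N94279 (tt N57564 (iv1 D197314)) (tt N59280 F403939) (tt N59278 F410254) (tt N118500 D221759) (tt N95917 (iv4 F410251)) (tt N82194 (iv5 F403940)) (tt N118501 D221760) (tt N59279 F410252))
theorem Q94281 : ∀ i, i < 94281 → P i := stepQ 94280 Q94280 (allL N94280 (tt N59279 (iv1 F403941)) (tt N59278 F403938) (tt N57564 (iv2 D197315)) (tt N94233 F403934) (tt N59301 F403935) (tt N94232 F403936) (tt N118502 D221761) (tt N59280 F403937))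
theorem Q94282 : ∀ i, i < 94282 → P i := stepQ 94281 Q94281 (allL N94281 (tt N118503 D221762) (tt N118504 D221763) (tt N118502 (iv2 F510710)) (tt N57565 F403942) (tt N59311 F403943) (tt N118505 D221764) (tt N57564 (iv6 D197316)) (tt N92413 F403944))
theorem Q94283 : ∀ i, i < 94283 → P i := stepQ 94282 Q94282 (allL N94282 (tt N108775 (iv1 F463875)) (tt N73190 F403947) (tt N97329 (iv2 F416369)) (tt N118505 (iv3 F510732)) (tt N107276 (iv4 F457757)) (tt N57565 (iv5 D197317)) (tt N73331 F403945) (tt N92414 F403946))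
theorem Q94284 : ∀ i, i < 94284 → P i := stepQ 94283 Q94283 (allL N94283 (tt N72364 F403951) (tt N72361 F403968) (tt N71166 F403948) (tt N79157 F403949) (tt N57566 (iv4 D197318)) (tt N100663 (iv5 F429903)) (tt N76743 (iv6 F403952)) (tt N72360 F403950))
theorem Q94285 : ∀ i, i < 94285 → P i := stepQ 94284 Q94284 (allL N94284 (tt N106960 (iv1 F456456)) (tt N92523 (iv0 F403957)) (tt N102744 (iv2 F438455)) (tt N94228 F403953) (tt N76743 F403954) (tt N90471 (iv5 F403956)) (tt N57566 (iv6 D197319)) (tt N92416 F403955))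
theorem Q94286 : ∀ i, i < 94286 → P i := stepQ 94285 Q94285 (allL N94285 (tt N82194 F403966) (tt N82192 F403976) (tt N94224 F403958) (tt N57567 (iv3 D197320)) (tt N112734 (iv4 F482423)) (tt N94223 F403959) (tt N92417 F403960) (tt N102743 (iv7 F438452)))
theorem Q94287 : ∀ i, i < 94287 → P i := stepQ 94286 Q94286 (allL N94286 (tt N72361 (iv1 F403967)) (tt N72364 (iv0 F403965)) (tt N72360 F403961) (tt N61910 F403964) (tt N57567 (iv4 D197321)) (tt N104976 (iv5 F448227)) (tt N70965 F403962) (tt N71166 F403963))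
theorem Q94288 : ∀ i, i < 94288 → P i := stepQ 94287 Q94287 (allL N94287 (tt N106969 F456479) (tt N118506 D221765) (tt N57570 F403969) (tt N118461 (iv3 F510499)) (tt N105961 (iv4 F452526)) (tt N118507 D221766) (tt N57568 (iv6 D197322)) (tt N118508 D221767))
theorem Q94289 : ∀ i, i < 94289 → P i := stepQ 94288 Q94288 (allL N94288 (tt N118467 F510528) (tt N118509 D221768) (tt N97324 (iv2 F416350)) (tt N57573 F403970) (tt N97229 (iv4 F415991)) (tt N118510 D221769) (tt N57569 (iv6 D197323)) (tt N117836 (iv7 F507194)))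
theorem Q94290 : ∀ i, i < 94290 → P i := stepQ 94289 Q94289 (allL N94289 (tt N118508 (iv1 F510749)) (tt N57570 (iv0 D197324)) (tt N106969 (iv2 F503367)) (tt N110732 F472934) (tt N118511 D221770) (tt N118512 D221771) (tt N91754 F503368) (tt N118506 (iv7 F510739)))
theorem Q94291 : ∀ i, i < 94291 → P i := stepQ 94290 Q94290 (allL N94290 (tt N57570 (iv1 D197325)) (tt N118508 F510748) (tt N118506 F510742) (tt N117077 F503364) (tt N117097 (iv4 F503363)) (tt N118513 D221772) (tt N117076 F503365) (tt N106969 F503366))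
theorem Q94292 : ∀ i, i < 94292 → P i := stepQ 94291 Q94291 (allL N94291 (tt N117828 F507161) (tt N118514 D221773) (tt N118507 (iv2 F510743)) (tt N57576 F403971) (tt N118515 D221774) (tt N57570 (iv5 D197326)) (tt N118510 (iv6 F510753)) (tt N118516 D221775))
theorem Q94293 : ∀ i, i < 94293 → P i := stepQ 94292 Q94292 (allL N94292 (tt N118506 (iv1 F510738)) (tt N106969 (iv0 F456480)) (tt N118508 (iv2 F510746)) (tt N57577 F403972) (tt N105968 (iv4 F452552)) (tt N118516 (iv5 F510771)) (tt N102739 (iv6 F438434)) (tt N57570 (iv7 D197327)))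
theorem Q94294 : ∀ i, i < 94294 → P i := stepQ 94293 Q94293 (allL N94293 (tt N82192 F403975) (tt N82194 (iv0 F403977)) (tt N102743 (iv2 F438450)) (tt N57571 (iv3 D197328)) (tt N110771 (iv4 F473117)) (tt N71376 F403973) (tt N118324 (iv6 F509709)) (tt N94224 F403974))
theorem Q94295 : ∀ i, i < 94295 → P i := stepQ 94294 Q94294 (allL N94294 (tt N118517 D221776) (tt N118518 D221777) (tt N94228 F403978) (tt N118324 (iv3 F509708)) (tt N71569 F403979) (tt N117863 (iv5 F507334)) (tt N57571 (iv6 D197329)) (tt N99069 (iv7 F423225)))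
theorem Q94296 : ∀ i, i < 94296 → P i := stepQ 94295 Q94295 (allL N94295 (tt N118466 (iv1 F510523)) (tt N57573 (iv0 D197330)) (tt N110732 (iv2 F472931)) (tt N118519 D221778) (tt N71572 F472459) (tt N118520 D221779) (tt N118521 D221780) (tt N110734 (iv7 F472941)))
theorem Q94297 : ∀ i, i < 94297 → P i := stepQ 94296 Q94296 (allL N94296 (tt N57573 (iv1 D197331)) (tt N118466 F510522) (tt N110734 (iv2 F472940)) (tt N118506 F510740) (tt N71573 F472240) (tt N118522 D221781) (tt N110583 (iv6 F472239)) (tt N110732 (iv7 F472932)))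
theorem Q94298 : ∀ i, i < 94298 → P i := stepQ 94297 Q94297 (allL N94297 (tt N118523 D221782) (tt N118524 D221783) (tt N118465 (iv2 F510515)) (tt N118510 (iv3 F510752)) (tt N118525 D221784) (tt N57573 (iv5 D197332)) (tt N57576 F403980) (tt N118526 D221785))
theorem Q94299 : ∀ i, i < 94299 → P i := stepQ 94298 Q94298 (allL N94298 (tt N110734 (iv1 F472944)) (tt N110732 F472945) (tt N118466 (iv2 F510518)) (tt N117836 (iv3 F507192)) (tt N77990 F403981) (tt N118526 (iv5 F510804)) (tt N102747 (iv6 F438470)) (tt N57573 (iv7 D197333)))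
theorem Q94300 : ∀ i, i < 94300 → P i := stepQ 94299 Q94299 (allL N94299 (tt N116639 F501097) (tt N118501 (iv0 F510709)) (tt N108721 (iv2 F463688)) (tt N57574 (iv3 D197334)) (tt N96202 (iv4 F411469)) (tt N118527 D221786) (tt N92447 F403982) (tt N107204 (iv7 F457447)))
theorem Q94301 : ∀ i, i < 94301 → P i := stepQ 94300 Q94300 (allL N94300 (tt N97106 (iv1 F415489)) (tt N97103 (iv0 F415480)) (tt N118468 (iv2 F510529)) (tt N118527 (iv3 F510805)) (tt N112926 (iv4 F483293)) (tt N57574 (iv5 D197335)) (tt N112925 F483292) (tt N107205 (iv7 F457449)))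
theorem Q94302 : ∀ i, i < 94302 → P i := stepQ 94301 Q94301 (allL N94301 (tt N97324 F416352) (tt N117836 F507195) (tt N118509 F510751) (tt N57575 (iv3 D197336)) (tt N97128 (iv4 F415585)) (tt N118528 D221787) (tt N118529 D221788) (tt N118467 (iv7 F510526)))
theorem Q94303 : ∀ i, i < 94303 → P i := stepQ 94302 Q94302 (allL N94302 (tt N97103 (iv1 F415481)) (tt N97106 (iv0 F415488)) (tt N107205 (iv2 F457448)) (tt N118528 (iv3 F510807)) (tt N101027 (iv4 F431351)) (tt N57575 (iv5 D197337)) (tt N118530 D221789) (tt N118468 (iv7 F510531)))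
theorem Q94304 : ∀ i, i < 94304 → P i := stepQ 94303 Q94303 (allL N94303 (tt N65856 (iv1 F403987)) (tt N65861 F403986) (tt N107206 (iv2 F457451)) (tt N118529 (iv3 F510810)) (tt N77918 F403983) (tt N92404 (iv5 F403985)) (tt N57575 (iv6 D197338)) (tt N92446 F403984))
theorem Q94305 : ∀ i, i < 94305 → P i := stepQ 94304 Q94304 (allL N94304 (tt N57576 (iv1 D197339)) (tt N117816 (iv0 F507102)) (tt N117818 (iv2 F507108)) (tt N118531 D221790) (tt N118532 D221791) (tt N94271 F403988) (tt N118533 D221792) (tt N95321 (iv7 F407844)))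
theorem Q94306 : ∀ i, i < 94306 → P i := stepQ 94305 Q94305 (allL N94305 (tt N100814 F430602) (tt N118534 D221793) (tt N118469 (iv2 F510535)) (tt N109670 (iv3 F468030)) (tt N57576 (iv4 D197340)) (tt N109669 F468028) (tt N118525 (iv6 F510799)) (tt N118535 D221794))
theorem Q94307 : ∀ i, i < 94307 → P i := stepQ 94306 Q94306 (allL N94306 (tt N117818 (iv1 F507111)) (tt N95321 (iv0 F407845)) (tt N117816 F507098) (tt N118516 (iv3 F510770)) (tt N118535 (iv4 F510838)) (tt N57577 F403989) (tt N118536 D221795) (tt N57576 (iv7 D197341)))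
theorem Q94308 : ∀ i, i < 94308 → P i := stepQ 94307 Q94307 (allL N94307 (tt N118433 (iv1 F510332)) (tt N118470 (iv0 F510545)) (tt N110575 (iv2 F472201)) (tt N57578 (iv3 D197342)) (tt N94094 F403990) (tt N112929 (iv5 F483299)) (tt N92454 F403991) (tt N110711 (iv7 F472859)))
theorem Q94309 : ∀ i, i < 94309 → P i := stepQ 94308 Q94308 (allL N94308 (tt N97109 (iv1 F415499)) (tt N97108 (iv0 F415496)) (tt N94120 F403992) (tt N112929 (iv3 F483301)) (tt N116569 (iv4 F500779)) (tt N57578 (iv5 D197343)) (tt N113366 (iv6 F485200)) (tt N110712 (iv7 F472862)))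
theorem Q94310 : ∀ i, i < 94310 → P i := stepQ 94309 Q94309 (allL N94309 (tt N97108 (iv1 F415497)) (tt N97109 (iv0 F415498)) (tt N110712 (iv2 F472861)) (tt N110898 (iv3 F473676)) (tt N116566 (iv4 F500763)) (tt N57580 (iv5 D197344)) (tt N116565 (iv6 F500759)) (tt N94120 F403993))
theorem Q94311 : ∀ i, i < 94311 → P i := stepQ 94310 Q94310 (allL N94310 (tt N67321 F403997) (tt N67320 (iv0 F403998)) (tt N70224 F403994) (tt N102676 (iv3 F438164)) (tt N72300 F403995) (tt N64680 F403996) (tt N57581 (iv6 D197345)) (tt N101139 (iv7 F431888)))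
theorem Q94312 : ∀ i, i < 94312 → P i := stepQ 94311 Q94311 (allL N94311 (tt N118500 F510707) (tt N118032 (iv0 F508198)) (tt N93421 F403999) (tt N57584 (iv3 D197346)) (tt N65472 F404000) (tt N118023 (iv5 F508144)) (tt N92430 F404001) (tt N93423 F404002))
theorem Q94313 : ∀ i, i < 94313 → P i := stepQ 94312 Q94312 (allL N94312 (tt N62699 (iv1 F404009)) (tt N74719 (iv0 F404008)) (tt N74724 F404003) (tt N101791 (iv3 F434361)) (tt N101794 (iv4 F434376)) (tt N92520 F404004) (tt N57585 (iv6 D197347)) (tt N74725 (iv7 F404007)))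
theorem Q94314 : ∀ i, i < 94314 → P i := stepQ 94313 Q94313 (allL N94313 (tt N76047 F405242) (tt N110457 F471681) (tt N57588 F404010) (tt N102737 (iv3 F438424)) (tt N94618 (iv4 F405241)) (tt N76057 F404011) (tt N57586 (iv6 D197348)) (tt N110456 (iv7 F471672)))
theorem Q94315 : ∀ i, i < 94315 → P i := stepQ 94314 Q94314 (allL N94314 (tt N110456 F471675) (tt N57588 (iv0 D197349)) (tt N76047 (iv2 F404012)) (tt N118537 D221796) (tt N109351 (iv4 F466522)) (tt N118538 D221797) (tt N117510 (iv6 F505423)) (tt N110457 (iv7 F471679)))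
theorem Q94316 : ∀ i, i < 94316 → P i := stepQ 94315 Q94315 (allL N94315 (tt N118539 D221798) (tt N110086 (iv0 F469927)) (tt N76057 F404013) (tt N57592 F404014) (tt N100111 (iv4 F427537)) (tt N57588 (iv5 D197350)) (tt N63112 F404015) (tt N118540 D221799))
theorem Q94317 : ∀ i, i < 94317 → P i := stepQ 94316 Q94316 (allL N94316 (tt N110457 (iv1 F471680)) (tt N76047 (iv0 F404017)) (tt N110456 (iv2 F471674)) (tt N57593 F404016) (tt N94621 (iv4 F405257)) (tt N118540 (iv5 F510857)) (tt N96518 (iv6 F412823)) (tt N57588 (iv7 D197351)))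
theorem Q94318 : ∀ i, i < 94318 → P i := stepQ 94317 Q94317 (allL N94317 (tt N102747 (iv1 F438472)) (tt N57589 (iv0 D197352)) (tt N102745 (iv2 F438463)) (tt N102735 (iv3 F454498)) (tt N106662 (iv4 F455199)) (tt N110578 F472217) (tt N118541 D221800) (tt N102746 (iv7 F438465)))
theorem Q94319 : ∀ i, i < 94319 → P i := stepQ 94318 Q94318 (allL N94318 (tt N57589 (iv1 D197353)) (tt N102747 F438471) (tt N102746 F438466) (tt N106450 (iv3 F454507)) (tt N99075 (iv4 F423246)) (tt N110577 (iv5 F472211)) (tt N99074 (iv6 F423243)) (tt N102745 (iv7 F438462)))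
theorem Q94320 : ∀ i, i < 94320 → P i := stepQ 94319 Q94319 (allL N94319 (tt N118542 D221801) (tt N118543 D221802) (tt N102741 (iv2 F438441)) (tt N63112 F404018) (tt N118544 D221803) (tt N57589 (iv5 D197354)) (tt N57592 F404019) (tt N110128 (iv7 F470100)))
theorem Q94321 : ∀ i, i < 94321 → P i := stepQ 94320 Q94320 (allL N94320 (tt N102746 (iv1 F438464)) (tt N102745 (iv0 F438461)) (tt N102747 (iv2 F438468)) (tt N62715 F404020) (tt N77972 F404021) (tt N110128 (iv5 F470099)) (tt N118466 (iv6 F510521)) (tt N57589 (iv7 D197355)))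
theorem Q94322 : ∀ i, i < 94322 → P i := stepQ 94321 Q94321 (allL N94321 (tt N92375 F404024) (tt N92292 F404025) (tt N92372 F404022) (tt N117450 (iv3 F505099)) (tt N118545 D221804) (tt N57590 (iv5 D197356)) (tt N89561 (iv6 F404026)) (tt N92373 F404023))
theorem Q94323 : ∀ i, i < 94323 → P i := stepQ 94322 Q94322 (allL N94322 (tt N92524 F404030) (tt N104673 (iv0 F446815)) (tt N102734 (iv2 F438409)) (tt N117451 (iv3 F505105)) (tt N71372 F404027) (tt N89562 F404028) (tt N57590 (iv6 D197357)) (tt N92426 F404029))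
theorem Q94324 : ∀ i, i < 94324 → P i := stepQ 94323 Q94323 (allL N94323 (tt N114080 (iv1 F488499)) (tt N116357 (iv0 F499696)) (tt N109688 (iv2 F468112)) (tt N57591 (iv3 D197358)) (tt N78173 F404038) (tt N118546 D221805) (tt N92425 F404039) (tt N102733 (iv7 F438404)))
theorem Q94325 : ∀ i, i < 94325 → P i := stepQ 94324 Q94324 (allL N94324 (tt N92292 F404042) (tt N92375 F404043) (tt N92373 F404040) (tt N118546 (iv3 F510886)) (tt N118547 D221806) (tt N57591 (iv5 D197359)) (tt N100113 F438447) (tt N92372 F404041))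
theorem Q94326 : ∀ i, i < 94326 → P i := stepQ 94325 Q94325 (allL N94325 (tt N74365 F404044) (tt N77727 F404045) (tt N102740 (iv2 F438436)) (tt N118548 D221807) (tt N57592 (iv4 D197360)) (tt N100045 (iv5 F427353)) (tt N118544 (iv6 F510875)) (tt N102731 (iv7 F438392)))
theorem Q94327 : ∀ i, i < 94327 → P i := stepQ 94326 Q94326 (allL N94326 (tt N95333 (iv1 F407889)) (tt N72611 (iv0 F404047)) (tt N102742 (iv2 F438443)) (tt N118540 (iv3 F510856)) (tt N102731 (iv4 F438393)) (tt N57593 F404046) (tt N118549 D221808) (tt N57592 (iv7 D197361)))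
theorem Q94328 : ∀ i, i < 94328 → P i := stepQ 94327 Q94327 (allL N94327 (tt N77726 F404052) (tt N77725 F404055) (tt N63794 F404048) (tt N57594 (iv3 D197362)) (tt N63793 F404049) (tt N74365 (iv5 F404054)) (tt N72725 F404050) (tt N77723 F404051))
theorem Q94329 : ∀ i, i < 94329 → P i := stepQ 94328 Q94328 (allL N94328 (tt N61825 F404058) (tt N95332 F407883) (tt N74511 F404056) (tt N74365 F404057) (tt N100047 (iv4 F427366)) (tt N57594 (iv5 D197363)) (tt N100107 (iv6 F427531)) (tt N95330 (iv7 F407877)))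
theorem Q94330 : ∀ i, i < 94330 → P i := stepQ 94329 Q94329 (allL N94329 (tt N118031 (iv1 F508190)) (tt N96951 (iv0 F414749)) (tt N96018 F410655) (tt N106315 (iv3 F453989)) (tt N57595 (iv4 D197364)) (tt N64158 F404059) (tt N73077 (iv6 F404060)) (tt N106460 (iv7 F454549)))
theorem Q94331 : ∀ i, i < 94331 → P i := stepQ 94330 Q94330 (allL N94330 (tt N95095 (iv1 F407014)) (tt N92515 (iv0 F404063)) (tt N106462 (iv2 F454555)) (tt N106318 (iv3 F454003)) (tt N73077 F404061) (tt N73051 (iv5 F405738)) (tt N57595 (iv6 D197365)) (tt N92458 F404062))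
theorem Q94332 : ∀ i, i < 94332 → P i := stepQ 94331 Q94331 (allL N94331 (tt N60333 F404067) (tt N60337 F404068) (tt N92512 F404064) (tt N57596 (iv3 D197366)) (tt N91647 F404065) (tt N110654 (iv5 F472612)) (tt N92322 F404066) (tt N106461 (iv7 F454552)))
theorem Q94333 : ∀ i, i < 94333 → P i := stepQ 94332 Q94332 (allL N94332 (tt N118318 F509679) (tt N118550 D221809) (tt N57598 F404069) (tt N57600 F404070) (tt N95726 F409328) (tt N118551 D221810) (tt N57597 (iv6 D197367)) (tt N118552 D221811))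
theorem Q94334 : ∀ i, i < 94334 → P i := stepQ 94333 Q94333 (allL N94333 (tt N118552 (iv1 F510912)) (tt N57598 (iv0 D197368)) (tt N118318 (iv2 F509675)) (tt N106983 F456516) (tt N118553 D221812) (tt N118554 D221813) (tt N106982 (iv6 F456517)) (tt N118550 (iv7 F510899)))
theorem Q94335 : ∀ i, i < 94335 → P i := stepQ 94334 Q94334 (allL N94334 (tt N57598 (iv1 D197369)) (tt N118552 F510911) (tt N118550 (iv2 F510901)) (tt N118555 D221814) (tt N117550 (iv4 F505641)) (tt N118556 D221815) (tt N107860 (iv6 F460033)) (tt N118318 (iv7 F509678)))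
theorem Q94336 : ∀ i, i < 94336 → P i := stepQ 94335 Q94335 (allL N94335 (tt N118557 D221816) (tt N118558 D221817) (tt N118551 (iv2 F510903)) (tt N57601 F404071) (tt N118559 D221818) (tt N57598 (iv5 D197370)) (tt N118551 (iv6 F510905)) (tt N118560 D221819))
theorem Q94337 : ∀ i, i < 94337 → P i := stepQ 94336 Q94336 (allL N94336 (tt N118550 (iv1 F510898)) (tt N118318 (iv0 F509680)) (tt N118552 (iv2 F510907)) (tt N57602 F404072) (tt N97575 (iv4 F417431)) (tt N118560 (iv5 F510931)) (tt N106454 (iv6 F454519)) (tt N57598 (iv7 D197371)))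
theorem Q94338 : ∀ i, i < 94338 → P i := stepQ 94337 Q94337 (allL N94337 (tt N96290 (iv1 F411900)) (tt N57607 (iv0 F404077)) (tt N82315 F404073) (tt N57599 (iv3 D197372)) (tt N75152 F404074) (tt N77858 F404075) (tt N118561 D221820) (tt N94219 F404076))
theorem Q94339 : ∀ i, i < 94339 → P i := stepQ 94338 Q94338 (allL N94338 (tt N92518 F423080) (tt N117850 F507264) (tt N94220 F404078) (tt N118561 (iv3 F510934)) (tt N68338 F404079) (tt N117867 (iv5 F507349)) (tt N57599 (iv6 D197373)) (tt N92474 F404080))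
theorem Q94340 : ∀ i, i < 94340 → P i := stepQ 94339 Q94339 (allL N94339 (tt N106683 (iv1 F455267)) (tt N57600 (iv0 D197374)) (tt N106680 F472454) (tt N118562 D221821) (tt N77987 (iv4 F472399)) (tt N118563 D221822) (tt N92482 (iv6 F473156)) (tt N106681 (iv7 F472455)))
theorem Q94341 : ∀ i, i < 94341 → P i := stepQ 94340 Q94340 (allL N94340 (tt N57600 (iv1 D197375)) (tt N106683 F455266) (tt N106681 (iv2 F472457)) (tt N118564 D221823) (tt N77988 (iv4 F472458)) (tt N118565 D221824) (tt N110587 (iv6 F472254)) (tt N106680 F472456))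
theorem Q94342 : ∀ i, i < 94342 → P i := stepQ 94341 Q94341 (allL N94341 (tt N118566 D221825) (tt N118567 D221826) (tt N106682 (iv2 F455258)) (tt N118551 (iv3 F510904)) (tt N105137 F448952) (tt N57600 (iv5 D197376)) (tt N57601 F404081) (tt N118568 D221827))
theorem Q94343 : ∀ i, i < 94343 → P i := stepQ 94342 Q94342 (allL N94342 (tt N106681 (iv1 F455257)) (tt N106680 F455265) (tt N106683 (iv2 F455261)) (tt N118552 (iv3 F510908)) (tt N77948 F404082) (tt N118568 (iv5 F510951)) (tt N106465 (iv6 F454562)) (tt N57600 (iv7 D197377)))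
theorem Q94344 : ∀ i, i < 94344 → P i := stepQ 94343 Q94343 (allL N94343 (tt N57601 (iv1 D197378)) (tt N110715 F472876) (tt N110713 F472867) (tt N107595 (iv3 F458872)) (tt N118534 (iv4 F510832)) (tt N60115 F404084) (tt N118569 D221828) (tt N60114 F404083))
theorem Q94345 : ∀ i, i < 94345 → P i := stepQ 94344 Q94344 (allL N94344 (tt N108378 (iv1 F462329)) (tt N118570 D221829) (tt N110714 (iv2 F472869)) (tt N64753 (iv3 F404086)) (tt N57601 (iv4 D197379)) (tt N64752 F404085) (tt N105137 (iv6 F448951)) (tt N118571 D221830))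
theorem Q94346 : ∀ i, i < 94346 → P i := stepQ 94345 Q94345 (allL N94345 (tt N110713 (iv1 F472864)) (tt N60114 (iv0 F404088)) (tt N110715 (iv2 F472873)) (tt N118560 (iv3 F510930)) (tt N118571 (iv4 F510963)) (tt N57602 F404087) (tt N118572 D221831) (tt N57601 (iv7 D197380)))
theorem Q94347 : ∀ i, i < 94347 → P i := stepQ 94346 Q94346 (allL N94346 (tt N106465 (iv1 F454565)) (tt N57603 (iv0 D197381)) (tt N106463 (iv2 F472466)) (tt N116646 (iv3 F501125)) (tt N77969 (iv4 F455198)) (tt N118573 D221832) (tt N118574 D221833) (tt N106464 F472468))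
theorem Q94348 : ∀ i, i < 94348 → P i := stepQ 94347 Q94347 (allL N94347 (tt N57603 (iv1 D197382)) (tt N106465 F454564) (tt N106464 F472465) (tt N83174 (iv3 F438406)) (tt N77970 F438407) (tt N118575 D221834) (tt N118576 D221835) (tt N106463 (iv7 F472463)))
theorem Q94349 : ∀ i, i < 94349 → P i := stepQ 94348 Q94348 (allL N94348 (tt N118577 D221836) (tt N118578 D221837) (tt N106456 (iv2 F454525)) (tt N57604 F404089) (tt N118579 D221838) (tt N57603 (iv5 D197383)) (tt N57604 F404090) (tt N118580 D221839))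
theorem Q94350 : ∀ i, i < 94350 → P i := stepQ 94349 Q94349 (allL N94349 (tt N106464 (iv1 F454560)) (tt N106463 F454563) (tt N106465 (iv2 F454561)) (tt N57605 F404091) (tt N71553 F404092) (tt N118580 (iv5 F510999)) (tt N106683 (iv6 F455264)) (tt N57603 (iv7 D197384)))
theorem Q94351 : ∀ i, i < 94351 → P i := stepQ 94350 Q94350 (allL N94350 (tt N107498 (iv1 F458538)) (tt N117839 (iv0 F507209)) (tt N106455 (iv2 F454520)) (tt N83182 (iv3 F404094)) (tt N57604 (iv4 D197385)) (tt N83181 F404093) (tt N118579 (iv6 F510996)) (tt N106447 (iv7 F454487)))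
theorem Q94352 : ∀ i, i < 94352 → P i := stepQ 94351 Q94351 (allL N94351 (tt N62591 (iv1 F404097)) (tt N74360 F404098) (tt N74364 F404095) (tt N118580 (iv3 F510998)) (tt N106447 (iv4 F454488)) (tt N57605 F404096) (tt N118581 D221840) (tt N57604 (iv7 D197386)))
theorem Q94353 : ∀ i, i < 94353 → P i := stepQ 94352 Q94352 (allL N94352 (tt N57615 F404103) (tt N57614 F404104) (tt N57618 F404099) (tt N78030 F404100) (tt N94252 F404101) (tt N57606 (iv5 D197387)) (tt N116829 (iv6 F502050)) (tt N57613 F404102))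
theorem Q94354 : ∀ i, i < 94354 → P i := stepQ 94353 Q94353 (allL N94353 (tt N73331 F404109) (tt N73330 (iv0 F404110)) (tt N57619 F404105) (tt N79587 F404106) (tt N57670 F404107) (tt N99271 (iv5 F423888)) (tt N57606 (iv6 D197388)) (tt N73325 F404108))
theorem Q94355 : ∀ i, i < 94355 → P i := stepQ 94354 Q94354 (allL N94354 (tt N57607 (iv1 D197389)) (tt N96290 F411899) (tt N94219 (iv2 F404117)) (tt N65380 (iv3 F404112)) (tt N75154 (iv4 F404113)) (tt N65379 F404114) (tt N92491 F404115) (tt N82315 F404111))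
theorem Q94356 : ∀ i, i < 94356 → P i := stepQ 94355 Q94355 (allL N94355 (tt N118562 F510941) (tt N116598 (iv0 F500917)) (tt N96289 (iv2 F411893)) (tt N57609 F404118) (tt N96284 (iv4 F411870)) (tt N118582 D221841) (tt N57607 (iv6 D197390)) (tt N116642 (iv7 F501109)))
theorem Q94357 : ∀ i, i < 94357 → P i := stepQ 94356 Q94356 (allL N94356 (tt N65268 F404120) (tt N89767 F404121) (tt N105435 (iv2 F450254)) (tt N94571 (iv3 F405012)) (tt N57608 (iv4 D197391)) (tt N75865 F404119) (tt N118583 D221842) (tt N105442 (iv7 F450285)))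
theorem Q94358 : ∀ i, i < 94358 → P i := stepQ 94357 Q94357 (allL N94357 (tt N118584 D221843) (tt N118564 (iv0 F510945)) (tt N107249 (iv2 F457642)) (tt N118470 (iv3 F510542)) (tt N118583 (iv4 F511005)) (tt N118585 D221844) (tt N57608 (iv6 D197392)) (tt N118586 D221845))
theorem Q94359 : ∀ i, i < 94359 → P i := stepQ 94358 Q94358 (allL N94358 (tt N74510 (iv1 F404125)) (tt N57609 (iv0 D197393)) (tt N72283 (iv2 F404123)) (tt N110575 (iv3 F472202)) (tt N57679 F404122) (tt N118587 D221846) (tt N73611 F404124) (tt N107250 (iv7 F457646)))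
theorem Q94360 : ∀ i, i < 94360 → P i := stepQ 94359 Q94359 (allL N94359 (tt N107581 (iv1 F458839)) (tt N107595 F458874) (tt N107251 (iv2 F457650)) (tt N118582 (iv3 F511002)) (tt N118588 D221847) (tt N57609 (iv5 D197394)) (tt N118585 (iv6 F511015)) (tt N107593 F458869))
theorem Q94361 : ∀ i, i < 94361 → P i := stepQ 94360 Q94360 (allL N94360 (tt N107250 (iv1 F457645)) (tt N72283 (iv0 F404129)) (tt N74510 F404126) (tt N116642 (iv3 F501107)) (tt N74853 F404127) (tt N107593 (iv5 F458868)) (tt N67103 F404128) (tt N57609 (iv7 D197395)))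
theorem Q94362 : ∀ i, i < 94362 → P i := stepQ 94361 Q94361 (allL N94361 (tt N92468 F404136) (tt N105958 F452511) (tt N57611 (iv2 D197396)) (tt N96290 (iv3 F411896)) (tt N106230 (iv4 F453674)) (tt N60337 (iv5 F404135)) (tt N109569 (iv6 F467572)) (tt N96288 (iv7 F411891)))
theorem Q94363 : ∀ i, i < 94363 → P i := stepQ 94362 Q94362 (allL N94362 (tt N92512 (iv1 F404137)) (tt N106461 (iv0 F454553)) (tt N60337 F404134) (tt N57612 F404130) (tt N60336 F404132) (tt N57611 (iv5 D197397)) (tt N91345 (iv6 F404133)) (tt N60333 F404131))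
theorem Q94364 : ∀ i, i < 94364 → P i := stepQ 94363 Q94363 (allL N94363 (tt N116646 (iv1 F501127)) (tt N116385 (iv0 F499824)) (tt N116645 (iv2 F501122)) (tt N91345 F404138) (tt N77499 F404139) (tt N109571 (iv5 F467579)) (tt N57612 (iv6 D197398)) (tt N116644 F501118))
theorem Q94365 : ∀ i, i < 94365 → P i := stepQ 94364 Q94364 (allL N94364 (tt N74263 (iv1 F404143)) (tt N107576 F458820) (tt N57617 F404140) (tt N118472 (iv3 F510554)) (tt N105433 (iv4 F450249)) (tt N92308 F404141) (tt N57613 (iv6 D197399)) (tt N92313 (iv7 F404142)))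
theorem Q94366 : ∀ i, i < 94366 → P i := stepQ 94365 Q94365 (allL N94365 (tt N77858 (iv1 F404150)) (tt N65379 (iv0 F404148)) (tt N82314 F404147) (tt N57614 (iv3 D197400)) (tt N112705 (iv4 F482264)) (tt N75149 F404145) (tt N94250 F404149) (tt N82313 F404146))
theorem Q94367 : ∀ i, i < 94367 → P i := stepQ 94366 Q94366 (allL N94366 (tt N65256 F404151) (tt N110840 F473403) (tt N110837 (iv2 F473384)) (tt N118425 (iv3 F510281)) (tt N57614 (iv4 D197401)) (tt N101845 (iv5 F434631)) (tt N115429 (iv6 F495152)) (tt N110839 (iv7 F473391)))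
theorem Q94368 : ∀ i, i < 94368 → P i := stepQ 94367 Q94367 (allL N94367 (tt N117605 (iv1 F505965)) (tt N117146 (iv0 F503622)) (tt N112800 (iv2 F482671)) (tt N94250 F404152) (tt N115429 (iv4 F495149)) (tt N89365 (iv5 F404153)) (tt N57614 (iv6 D197402)) (tt N94238 (iv7 F404154)))
theorem Q94369 : ∀ i, i < 94369 → P i := stepQ 94368 Q94368 (allL N94368 (tt N59914 F404160) (tt N92469 F404159) (tt N92467 F404157) (tt N57615 (iv3 D197403)) (tt N68077 (iv4 F404156)) (tt N101853 (iv5 F434673)) (tt N90761 F404158) (tt N92466 F404155))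
theorem Q94370 : ∀ i, i < 94370 → P i := stepQ 94369 Q94369 (allL N94369 (tt N110840 (iv1 F473402)) (tt N65256 F404162) (tt N110839 F473394) (tt N72209 F404161) (tt N57615 (iv4 D197404)) (tt N101846 (iv5 F434635)) (tt N90765 (iv6 F404164)) (tt N110837 (iv7 F473380)))
theorem Q94371 : ∀ i, i < 94371 → P i := stepQ 94370 Q94370 (allL N94370 (tt N117860 F507321) (tt N117779 (iv0 F506930)) (tt N112801 (iv2 F482675)) (tt N90761 F404165) (tt N90765 F404166) (tt N108727 (iv5 F463722)) (tt N57615 (iv6 D197405)) (tt N117859 (iv7 F507311)))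
theorem Q94372 : ∀ i, i < 94372 → P i := stepQ 94371 Q94371 (allL N94371 (tt N94694 (iv1 F405563)) (tt N94973 F406552) (tt N94972 F406549) (tt N57616 (iv3 D197406)) (tt N57623 F404167) (tt N108172 (iv5 F461391)) (tt N118229 (iv6 F509258)) (tt N77848 F404168))
theorem Q94373 : ∀ i, i < 94373 → P i := stepQ 94372 Q94372 (allL N94372 (tt N107509 F458585) (tt N118589 D221848) (tt N105433 (iv2 F450248)) (tt N118229 F509262) (tt N57617 F404169) (tt N118590 D221849) (tt N57616 (iv6 D197407)) (tt N118591 D221850))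
theorem Q94374 : ∀ i, i < 94374 → P i := stepQ 94373 Q94373 (allL N94373 (tt N92313 (iv1 F404176)) (tt N57617 (iv0 D197408)) (tt N74263 (iv2 F404171)) (tt N74277 F404172) (tt N118312 (iv4 F509647)) (tt N73423 F404170) (tt N117781 F506942) (tt N107576 (iv7 F458817)))
theorem Q94375 : ∀ i, i < 94375 → P i := stepQ 94374 Q94374 (allL N94374 (tt N107576 (iv1 F458818)) (tt N74263 F404177) (tt N92313 F404173) (tt N57627 F404174) (tt N118591 (iv4 F511045)) (tt N92310 F404175) (tt N118592 D221851) (tt N57617 (iv7 D197409)))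
theorem Q94376 : ∀ i, i < 94376 → P i := stepQ 94375 Q94375 (allL N94375 (tt N117071 F503239) (tt N118321 (iv0 F509693)) (tt N116829 (iv2 F502048)) (tt N57628 F404178) (tt N105434 (iv4 F450252)) (tt N118517 (iv5 F510775)) (tt N57618 (iv6 D197410)) (tt N118592 (iv7 F511053)))
theorem Q94377 : ∀ i, i < 94377 → P i := stepQ 94376 Q94376 (allL N94376 (tt N73325 (iv1 F404181)) (tt N57619 (iv0 D197411)) (tt N73331 (iv2 F404180)) (tt N118593 D221852) (tt N82189 F404179) (tt N97328 F416368) (tt N97329 (iv6 F416370)) (tt N73330 F404182))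
theorem Q94378 : ∀ i, i < 94378 → P i := stepQ 94377 Q94377 (allL N94377 (tt N110583 (iv1 F472238)) (tt N110581 (iv0 F472230)) (tt N99271 (iv2 F423887)) (tt N57630 F404183) (tt N98841 (iv4 F422534)) (tt N57619 (iv5 D197412)) (tt N118517 (iv6 F510774)) (tt N73332 F404184))
theorem Q94379 : ∀ i, i < 94379 → P i := stepQ 94378 Q94378 (allL N94378 (tt N118326 (iv1 F509722)) (tt N93573 (iv0 F404188)) (tt N74289 F404185) (tt N57621 F404186) (tt N93397 F404187) (tt N110108 (iv5 F470034)) (tt N57620 (iv6 D197413)) (tt N118594 D221853))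
theorem Q94380 : ∀ i, i < 94380 → P i := stepQ 94379 Q94379 (allL N94379 (tt N74291 (iv1 F404194)) (tt N57621 (iv0 D197414)) (tt N110652 F472603) (tt N118496 F510686) (tt N78024 (iv4 F462999)) (tt N118595 D221854) (tt N118596 D221855) (tt N98847 F422557))
theorem Q94381 : ∀ i, i < 94381 → P i := stepQ 94380 Q94380 (allL N94380 (tt N57621 (iv1 D197415)) (tt N74291 F404189) (tt N98847 (iv2 F422554)) (tt N117146 (iv3 F503619)) (tt N78025 (iv4 F423687)) (tt N80643 F404190) (tt N74269 (iv6 F414626)) (tt N110652 (iv7 F472605)))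
theorem Q94382 : ∀ i, i < 94382 → P i := stepQ 94381 Q94381 (allL N94381 (tt N118492 F510671) (tt N118597 D221856) (tt N110653 (iv2 F472606)) (tt N110108 F470035) (tt N111617 F477174) (tt N57621 (iv5 D197416)) (tt N77865 F404191) (tt N118598 D221857))
theorem Q94383 : ∀ i, i < 94383 → P i := stepQ 94382 Q94382 (allL N94382 (tt N98847 (iv1 F422556)) (tt N110652 F472604) (tt N74291 F404192) (tt N118594 (iv3 F511065)) (tt N77901 F404193) (tt N118598 (iv5 F511088)) (tt N118172 (iv6 F509000)) (tt N57621 (iv7 D197417)))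
theorem Q94384 : ∀ i, i < 94384 → P i := stepQ 94383 Q94383 (allL N94383 (tt N118172 (iv1 F509002)) (tt N57622 (iv0 D197418)) (tt N118171 F508993) (tt N117860 (iv3 F507317)) (tt N78018 F485494) (tt N116808 F501950) (tt N98849 F485495) (tt N117849 (iv7 F507256)))
theorem Q94385 : ∀ i, i < 94385 → P i := stepQ 94384 Q94384 (allL N94384 (tt N57622 (iv1 D197419)) (tt N118172 F509001) (tt N117849 (iv2 F507253)) (tt N108025 (iv3 F472585)) (tt N78019 (iv4 F472584)) (tt N108023 F472586) (tt N117846 (iv6 F507238)) (tt N118171 (iv7 F508995)))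
theorem Q94386 : ∀ i, i < 94386 → P i := stepQ 94385 Q94385 (allL N94385 (tt N107343 F458029) (tt N107349 F458053) (tt N107347 (iv2 F458047)) (tt N77860 F404195) (tt N116689 (iv4 F501314)) (tt N57622 (iv5 D197420)) (tt N77888 F404196) (tt N107346 F458045))
theorem Q94387 : ∀ i, i < 94387 → P i := stepQ 94386 Q94386 (allL N94386 (tt N117849 (iv1 F507257)) (tt N118171 F508996) (tt N118172 (iv2 F508997)) (tt N74293 F404197) (tt N77880 F404198) (tt N107346 F458044) (tt N74291 F404199) (tt N57622 (iv7 D197421)))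
theorem Q94388 : ∀ i, i < 94388 → P i := stepQ 94387 Q94387 (allL N94387 (tt N77845 (iv1 F404201)) (tt N57623 (iv0 D197422)) (tt N77847 (iv2 F404203)) (tt N70749 (iv3 F404206)) (tt N58334 F404200) (tt N70749 F404202) (tt N72915 (iv6 F404204)) (tt N77846 (iv7 F404205)))
theorem Q94389 : ∀ i, i < 94389 → P i := stepQ 94388 Q94388 (allL N94388 (tt N57623 (iv1 D197423)) (tt N77845 F404216) (tt N77846 F404215) (tt N118599 D221858) (tt N72202 (iv4 F404214)) (tt N70750 F404213) (tt N118600 D221859) (tt N77847 F404212))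
theorem Q94390 : ∀ i, i < 94390 → P i := stepQ 94389 Q94389 (allL N94389 (tt N77847 (iv1 F404221)) (tt N77846 F404220) (tt N57623 (iv2 D197424)) (tt N77992 F404217) (tt N94972 (iv4 F406548)) (tt N77834 F404218) (tt N118037 (iv6 F508223)) (tt N77845 F404219))
theorem Q94391 : ∀ i, i < 94391 → P i := stepQ 94390 Q94390 (allL N94390 (tt N78039 (iv1 F404238)) (tt N57624 (iv0 D197425)) (tt N78040 F404251) (tt N62102 (iv3 F404231)) (tt N92353 F404223) (tt N72643 F404222) (tt N110829 (iv6 F473337)) (tt N62105 (iv7 F404232)))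
theorem Q94392 : ∀ i, i < 94392 → P i := stepQ 94391 Q94391 (allL N94391 (tt N57624 (iv1 D197426)) (tt N78039 F404233) (tt N62105 (iv2 F404254)) (tt N104182 F444570) (tt N97326 F416361) (tt N74087 (iv5 F404253)) (tt N107532 (iv6 F458681)) (tt N78040 F404252))
theorem Q94393 : ∀ i, i < 94393 → P i := stepQ 94392 Q94392 (allL N94392 (tt N62105 (iv1 F404241)) (tt N78040 F404255) (tt N78039 F404234) (tt N118036 (iv3 F508215)) (tt N57627 F404235) (tt N62075 F404236) (tt N77856 F404237) (tt N57624 (iv7 D197427)))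
theorem Q94394 : ∀ i, i < 94394 → P i := stepQ 94393 Q94393 (allL N94393 (tt N103213 (iv1 F440599)) (tt N61880 (iv0 F404259)) (tt N103215 F440613) (tt N118136 (iv3 F508796)) (tt N57625 (iv4 D197428)) (tt N61848 (iv5 F404258)) (tt N118601 D221860) (tt N103214 F440606))
theorem Q94395 : ∀ i, i < 94395 → P i := stepQ 94394 Q94394 (allL N94394 (tt N99672 (iv1 F425687)) (tt N99673 (iv0 F425691)) (tt N108572 F463100) (tt N58396 F404260) (tt N93916 F404262) (tt N57625 (iv5 D197429)) (tt N117879 (iv6 F507397)) (tt N93574 F404261))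
theorem Q94396 : ∀ i, i < 94396 → P i := stepQ 94395 Q94395 (allL N94395 (tt N117846 F507239) (tt N117853 F507280) (tt N117851 (iv2 F507267)) (tt N95091 F406997) (tt N118601 (iv4 F511104)) (tt N107724 (iv5 F459400)) (tt N57625 (iv6 D197430)) (tt N107892 (iv7 F460146)))
theorem Q94397 : ∀ i, i < 94397 → P i := stepQ 94396 Q94396 (allL N94396 (tt N61880 F404264) (tt N103213 (iv0 F440600)) (tt N103214 F440605) (tt N70747 F404263) (tt N57626 (iv4 D197431)) (tt N61849 (iv5 F404265)) (tt N98871 (iv6 F422645)) (tt N103215 (iv7 F440608)))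
theorem Q94398 : ∀ i, i < 94398 → P i := stepQ 94397 Q94397 (allL N94397 (tt N99673 (iv1 F425692)) (tt N99672 (iv0 F425686)) (tt N93574 F404266) (tt N104647 (iv3 F446674)) (tt N71581 F410804) (tt N57626 (iv5 D197432)) (tt N117801 (iv6 F507040)) (tt N108572 (iv7 F463102)))
theorem Q94399 : ∀ i, i < 94399 → P i := stepQ 94398 Q94398 (allL N94398 (tt N98845 (iv1 F481780)) (tt N118596 F511079) (tt N118477 (iv2 F510583)) (tt N60113 F404267) (tt N98871 (iv4 F422644)) (tt N118602 D221861) (tt N57626 (iv6 D197433)) (tt N107555 (iv7 F458739)))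
theorem Q94400 : ∀ i, i < 94400 → P i := stepQ 94399 Q94399 (allL N94399 (tt N78032 (iv1 F404271)) (tt N74272 (iv0 F404299)) (tt N78033 F404268) (tt N118592 (iv3 F511051)) (tt N77856 F404269) (tt N73334 (iv5 F404272)) (tt N57627 (iv6 D197434)) (tt N57628 F404270))
theorem Q94401 : ∀ i, i < 94401 → P i := stepQ 94400 Q94400 (allL N94400 (tt N78033 (iv1 F404302)) (tt N57628 (iv0 D197435)) (tt N74272 (iv2 F404303)) (tt N73042 (iv3 F404304)) (tt N97212 (iv4 F415919)) (tt N110116 (iv5 F470064)) (tt N74271 F404301) (tt N78032 (iv7 F404305)))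
theorem Q94402 : ∀ i, i < 94402 → P i := stepQ 94401 Q94401 (allL N94401 (tt N57628 (iv1 D197436)) (tt N78033 F404306) (tt N78032 (iv2 F404308)) (tt N62698 (iv3 F404309)) (tt N97213 (iv4 F415925)) (tt N108814 (iv5 F464088)) (tt N74362 (iv6 F404310)) (tt N74272 F404307))
theorem Q94403 : ∀ i, i < 94403 → P i := stepQ 94402 Q94402 (allL N94402 (tt N73740 (iv1 F404315)) (tt N101791 (iv0 F434363)) (tt N73337 F404311) (tt N118517 F510777) (tt N57693 F404314) (tt N57628 (iv5 D197437)) (tt N57630 F404312) (tt N73334 F404313))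
theorem Q94404 : ∀ i, i < 94404 → P i := stepQ 94403 Q94403 (allL N94403 (tt N94220 (iv1 F423812)) (tt N92474 (iv0 F423810)) (tt N117850 (iv2 F507260)) (tt N57629 (iv3 D197438)) (tt N62162 F404316) (tt N107836 F459925) (tt N118603 D221862) (tt N92518 F404317))
theorem Q94405 : ∀ i, i < 94405 → P i := stepQ 94404 Q94404 (allL N94404 (tt N63166 F404320) (tt N74307 F404321) (tt N92516 F404318) (tt N107836 (iv3 F459921)) (tt N100249 (iv4 F428129)) (tt N57629 (iv5 D197439)) (tt N107344 F458034) (tt N92519 F404319))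
theorem Q94406 : ∀ i, i < 94406 → P i := stepQ 94405 Q94405 (allL N94405 (tt N92429 (iv1 F404325)) (tt N102732 (iv0 F438400)) (tt N92517 F404322) (tt N118603 (iv3 F511112)) (tt N62161 F404323) (tt N74295 F404324) (tt N57629 (iv6 D197440)) (tt N105321 (iv7 F449704)))
theorem Q94407 : ∀ i, i < 94407 → P i := stepQ 94406 Q94406 (allL N94406 (tt N92324 (iv1 F404327)) (tt N57630 (iv0 D197441)) (tt N92521 (iv2 F404328)) (tt N73055 F405740) (tt N110118 (iv4 F470076)) (tt N93851 F404326) (tt N110117 (iv6 F470073)) (tt N73053 (iv7 F405735)))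
theorem Q94408 : ∀ i, i < 94408 → P i := stepQ 94407 Q94407 (allL N94407 (tt N57630 (iv1 D197442)) (tt N92324 F404330) (tt N73053 (iv2 F405733)) (tt N118604 D221863) (tt N74710 F404333) (tt N99284 (iv5 F423938)) (tt N92554 (iv6 F404334)) (tt N92521 F404331))
theorem Q94409 : ∀ i, i < 94409 → P i := stepQ 94408 Q94408 (allL N94408 (tt N107206 (iv1 F457455)) (tt N92446 (iv0 F404341)) (tt N65861 F404335) (tt N107099 (iv3 F456962)) (tt N57633 F404336) (tt N82316 F404337) (tt N57631 (iv6 D197443)) (tt N65856 F404338))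
theorem Q94410 : ∀ i, i < 94410 → P i := stepQ 94409 Q94409 (allL N94409 (tt N72612 F404346) (tt N94247 F404347) (tt N74371 F404342) (tt N118605 D221864) (tt N57632 (iv4 D197444)) (tt N74735 F404345) (tt N60108 F404343) (tt N74370 F404344))
theorem Q94411 : ∀ i, i < 94411 → P i := stepQ 94410 Q94410 (allL N94410 (tt N94247 F404352) (tt N72612 F404353) (tt N74370 F404348) (tt N93586 (iv3 F404359)) (tt N57635 (iv4 D197445)) (tt N82317 F404349) (tt N71942 F404350) (tt N74371 F404351))
theorem Q94412 : ∀ i, i < 94412 → P i := stepQ 94411 Q94411 (allL N94411 (tt N112695 (iv1 F482213)) (tt N75571 (iv0 F404363)) (tt N78258 F404360) (tt N58704 F404361) (tt N109492 (iv4 F467250)) (tt N58703 F404362) (tt N57636 (iv6 D197446)) (tt N99703 (iv7 F425814)))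
theorem Q94413 : ∀ i, i < 94413 → P i := stepQ 94412 Q94412 (allL N94412 (tt N90760 F404369) (tt N90770 (iv0 F404370)) (tt N90713 F404365) (tt N57637 (iv3 D197447)) (tt N72224 F404366) (tt N87564 F404371) (tt N74629 F404367) (tt N78257 F404368))
theorem Q94414 : ∀ i, i < 94414 → P i := stepQ 94413 Q94413 (allL N94413 (tt N93729 (iv1 F404376)) (tt N93724 F404377) (tt N97123 (iv2 F415550)) (tt N80199 F404373) (tt N93751 F404374) (tt N57642 F404375) (tt N113576 (iv6 F486101)) (tt N57641 (iv7 D197448)))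
theorem Q94415 : ∀ i, i < 94415 → P i := stepQ 94414 Q94414 (allL N94414 (tt N78225 (iv1 F404379)) (tt N57643 (iv0 D197449)) (tt N78224 (iv2 F404387)) (tt N110863 (iv3 F473498)) (tt N97412 F416775) (tt N92881 F404378) (tt N110254 (iv6 F470655)) (tt N78223 F404385))
theorem Q94416 : ∀ i, i < 94416 → P i := stepQ 94415 Q94415 (allL N94415 (tt N57643 (iv1 D197450)) (tt N78225 F404383) (tt N78223 F404381) (tt N100742 (iv3 F430254)) (tt N79453 (iv4 F404380)) (tt N92882 (iv5 F404384)) (tt N79452 F404382) (tt N78224 (iv7 F404386)))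
theorem Q94417 : ∀ i, i < 94417 → P i := stepQ 94416 Q94416 (allL N94416 (tt N78224 (iv1 F404395)) (tt N78223 F404394) (tt N57643 (iv2 D197451)) (tt N78229 F404390) (tt N82145 F404391) (tt N118027 (iv5 F508162)) (tt N93615 F404392) (tt N78225 F404393))
theorem Q94418 : ∀ i, i < 94418 → P i := stepQ 94417 Q94417 (allL N94417 (tt N78229 (iv1 F404398)) (tt N57644 (iv0 D197452)) (tt N78228 (iv2 F404400)) (tt N117011 (iv3 F502961)) (tt N89764 F404397) (tt N80972 F404396) (tt N93533 (iv6 F404401)) (tt N78227 (iv7 F404399)))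
theorem Q94419 : ∀ i, i < 94419 → P i := stepQ 94418 Q94418 (allL N94418 (tt N57644 (iv1 D197453)) (tt N78229 F404406) (tt N78227 F404405) (tt N96728 (iv3 F413637)) (tt N89761 (iv4 F404404)) (tt N78470 F404403) (tt N117008 (iv6 F502947)) (tt N78228 F404402))
theorem Q94420 : ∀ i, i < 94420 → P i := stepQ 94419 Q94419 (allL N94419 (tt N78228 (iv1 F404412)) (tt N78227 F404411) (tt N57644 (iv2 D197454)) (tt N78225 F404408) (tt N72626 F404409) (tt N96527 F412863) (tt N118348 (iv6 F509839)) (tt N78229 F404410))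
theorem Q94421 : ∀ i, i < 94421 → P i := stepQ 94420 Q94420 (allL N94420 (tt N118349 (iv1 F509843)) (tt N99486 (iv0 F424810)) (tt N118348 (iv2 F509836)) (tt N57645 F404413) (tt N72628 F404414) (tt N96089 (iv5 F410990)) (tt N57644 (iv6 D197455)) (tt N93608 F404415))
theorem Q94422 : ∀ i, i < 94422 → P i := stepQ 94421 Q94421 (allL N94421 (tt N100748 (iv1 F430287)) (tt N110863 (iv0 F473501)) (tt N96730 (iv2 F413645)) (tt N57647 (iv3 D197456)) (tt N72184 F404416) (tt N90459 F404417) (tt N107075 F456859) (tt N78231 F404418))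
theorem Q94423 : ∀ i, i < 94423 → P i := stepQ 94422 Q94422 (allL N94422 (tt N75352 F404421) (tt N75349 (iv0 F404422)) (tt N78230 F404419) (tt N107075 (iv3 F456861)) (tt N72183 F404420) (tt N116986 (iv5 F502838)) (tt N57647 (iv6 D197457)) (tt N108920 (iv7 F464489)))
theorem Q94424 : ∀ i, i < 94424 → P i := stepQ 94423 Q94423 (allL N94423 (tt N93473 (iv1 F404430)) (tt N57651 (iv0 D197458)) (tt N93470 (iv2 F404424)) (tt N100739 (iv3 F430241)) (tt N82410 F404423) (tt N118606 D221865) (tt N94846 (iv6 F411943)) (tt N93471 (iv7 F404425)))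
theorem Q94425 : ∀ i, i < 94425 → P i := stepQ 94424 Q94424 (allL N94424 (tt N57651 (iv1 D197459)) (tt N93473 F404426) (tt N93471 (iv2 F404428)) (tt N94883 (iv3 F406238)) (tt N82409 (iv4 F404429)) (tt N118607 D221866) (tt N118365 F509946) (tt N93470 F404427))
theorem Q94426 : ∀ i, i < 94426 → P i := stepQ 94425 Q94425 (allL N94425 (tt N118608 D221867) (tt N118609 D221868) (tt N93472 F404431) (tt N94872 (iv3 F406203)) (tt N118610 D221869) (tt N57651 (iv5 D197460)) (tt N57652 F404432) (tt N118611 D221870))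
theorem Q94427 : ∀ i, i < 94427 → P i := stepQ 94426 Q94426 (allL N94426 (tt N93471 (iv1 F404435)) (tt N93470 F404436) (tt N93473 F404433) (tt N94858 F406173) (tt N96014 (iv4 F410637)) (tt N118611 (iv5 F511151)) (tt N78238 F404434) (tt N57651 (iv7 D197461)))
theorem Q94428 : ∀ i, i < 94428 → P i := stepQ 94427 Q94427 (allL N94427 (tt N93537 (iv1 F404438)) (tt N57652 (iv0 D197462)) (tt N93675 (iv2 F404439)) (tt N81134 (iv3 F404440)) (tt N118612 D221871) (tt N59144 F404437) (tt N90378 F410989) (tt N101930 (iv7 F434986)))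
theorem Q94429 : ∀ i, i < 94429 → P i := stepQ 94428 Q94428 (allL N94428 (tt N57652 (iv1 D197463)) (tt N93537 F404441) (tt N101930 F434989) (tt N118613 D221872) (tt N118614 D221873) (tt N93430 F404443) (tt N118615 D221874) (tt N93675 F404442))
theorem Q94430 : ∀ i, i < 94430 → P i := stepQ 94429 Q94429 (allL N94429 (tt N118180 (iv1 F509032)) (tt N118182 (iv0 F509033)) (tt N101931 (iv2 F434990)) (tt N115663 (iv3 F496203)) (tt N57652 (iv4 D197464)) (tt N118079 (iv5 F508458)) (tt N118610 (iv6 F511148)) (tt N108732 (iv7 F463747)))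
theorem Q94431 : ∀ i, i < 94431 → P i := stepQ 94430 Q94430 (allL N94430 (tt N57653 (iv1 D197465)) (tt N57655 F404444) (tt N65384 (iv2 F404447)) (tt N74230 F404448) (tt N65383 F404446) (tt N101540 (iv5 F433308)) (tt N99626 F425473) (tt N78249 F404445))
theorem Q94432 : ∀ i, i < 94432 → P i := stepQ 94431 Q94431 (allL N94431 (tt N107506 (iv1 F458572)) (tt N107504 (iv0 F458559)) (tt N111531 (iv2 F476770)) (tt N57653 (iv3 D197466)) (tt N78066 F404453) (tt N81359 (iv5 F404455)) (tt N107839 (iv6 F459935)) (tt N78250 F404454))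
theorem Q94433 : ∀ i, i < 94433 → P i := stepQ 94432 Q94432 (allL N94432 (tt N67065 F404460) (tt N97582 (iv0 F417458)) (tt N67433 F404456) (tt N81359 F404457) (tt N67426 F404459) (tt N57653 (iv5 D197467)) (tt N88504 (iv6 F404461)) (tt N67441 F404458))
theorem Q94434 : ∀ i, i < 94434 → P i := stepQ 94433 Q94433 (allL N94433 (tt N101803 F434412) (tt N75560 (iv0 F404464)) (tt N101759 (iv2 F434216)) (tt N57656 F404462) (tt N107345 (iv4 F458039)) (tt N73820 F404463) (tt N57654 (iv6 D197468)) (tt N108981 (iv7 F464756)))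
theorem Q94435 : ∀ i, i < 94435 → P i := stepQ 94434 Q94434 (allL N94434 (tt N97582 F417460) (tt N67065 F404469) (tt N67441 F404465) (tt N58728 F404466) (tt N67435 F404467) (tt N57655 (iv5 D197469)) (tt N64937 (iv6 F404470)) (tt N67433 F404468))
theorem Q94436 : ∀ i, i < 94436 → P i := stepQ 94435 Q94435 (allL N94435 (tt N108984 (iv1 F464765)) (tt N82235 (iv0 F404473)) (tt N78251 F404471) (tt N118024 (iv3 F508149)) (tt N57656 F404472) (tt N110993 (iv5 F474134)) (tt N57655 (iv6 D197470)) (tt N107934 (iv7 F460357)))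
theorem Q94437 : ∀ i, i < 94437 → P i := stepQ 94436 Q94436 (allL N94436 (tt N114140 (iv1 F488716)) (tt N114139 F488714) (tt N93903 F404474) (tt N107236 (iv3 F457582)) (tt N111467 (iv4 F476473)) (tt N57657 (iv5 D197471)) (tt N57660 F404475) (tt N114136 (iv7 F488699)))
theorem Q94438 : ∀ i, i < 94438 → P i := stepQ 94437 Q94437 (allL N94437 (tt N93902 (iv1 F404480)) (tt N93901 F404481) (tt N83589 F404476) (tt N88310 F404477) (tt N60256 F404478) (tt N114136 (iv5 F488698)) (tt N83588 F404479) (tt N57657 (iv7 D197472)))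
theorem Q94439 : ∀ i, i < 94439 → P i := stepQ 94438 Q94438 (allL N94438 (tt N97344 (iv1 F416436)) (tt N97332 (iv0 F416387)) (tt N97342 F416430) (tt N57658 (iv3 D197473)) (tt N118467 (iv4 F510524)) (tt N115982 (iv5 F497898)) (tt N71047 F404482) (tt N97128 (iv7 F415586)))
theorem Q94440 : ∀ i, i < 94440 → P i := stepQ 94439 Q94439 (allL N94439 (tt N99671 (iv1 F425683)) (tt N97119 (iv0 F415531)) (tt N97127 (iv2 F415578)) (tt N115982 (iv3 F497897)) (tt N111302 (iv4 F475717)) (tt N57658 (iv5 D197474)) (tt N98132 (iv6 F419606)) (tt N97129 (iv7 F415589)))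
theorem Q94441 : ∀ i, i < 94441 → P i := stepQ 94440 Q94440 (allL N94440 (tt N60300 (iv1 F415576)) (tt N116804 (iv0 F501928)) (tt N111109 (iv2 F474711)) (tt N57659 (iv3 D197475)) (tt N96204 (iv4 F411477)) (tt N79262 F404488) (tt N79257 (iv6 F404489)) (tt N97126 (iv7 F415572)))
theorem Q94442 : ∀ i, i < 94442 → P i := stepQ 94441 Q94441 (allL N94441 (tt N97119 (iv1 F415532)) (tt N99671 (iv0 F425682)) (tt N97129 (iv2 F415588)) (tt N79262 (iv3 F404487)) (tt N115551 (iv4 F495738)) (tt N57659 (iv5 D197476)) (tt N79261 F404486) (tt N97127 (iv7 F415580)))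
theorem Q94443 : ∀ i, i < 94443 → P i := stepQ 94442 Q94442 (allL N94442 (tt N65862 (iv1 F404492)) (tt N92675 (iv0 F404491)) (tt N97130 (iv2 F415592)) (tt N79257 F404490) (tt N60293 F404483) (tt N79256 F404485) (tt N57659 (iv6 D197477)) (tt N93725 F404484))
theorem Q94444 : ∀ i, i < 94444 → P i := stepQ 94443 Q94443 (allL N94443 (tt N57660 (iv1 D197478)) (tt N74134 F404493) (tt N74136 (iv2 F404497)) (tt N115948 (iv3 F497728)) (tt N106820 (iv4 F455825)) (tt N62650 F404495) (tt N115869 (iv6 F497323)) (tt N62649 F404494))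
theorem Q94445 : ∀ i, i < 94445 → P i := stepQ 94444 Q94444 (allL N94444 (tt N74136 (iv1 F404502)) (tt N62649 F404503) (tt N74134 F404498) (tt N76251 F404499) (tt N84536 F404500) (tt N57661 F404501) (tt N84618 (iv6 F404504)) (tt N57660 (iv7 D197479)))
theorem Q94446 : ∀ i, i < 94446 → P i := stepQ 94445 Q94445 (allL N94445 (tt N94798 (iv1 F405991)) (tt N65928 F404510) (tt N70220 F404505) (tt N57664 F404506) (tt N72692 F404509) (tt N57662 (iv5 D197480)) (tt N94114 F404507) (tt N66023 F404508))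
theorem Q94447 : ∀ i, i < 94447 → P i := stepQ 94446 Q94446 (allL N94446 (tt N97154 F415697) (tt N97141 (iv0 F415646)) (tt N97152 F415691) (tt N57663 (iv3 D197481)) (tt N73532 F404511) (tt N115502 (iv5 F495525)) (tt N71831 F404512) (tt N97135 (iv7 F415620)))
theorem Q94448 : ∀ i, i < 94448 → P i := stepQ 94447 Q94447 (allL N94447 (tt N99668 (iv1 F425667)) (tt N99667 (iv0 F425660)) (tt N97133 (iv2 F415606)) (tt N115502 (iv3 F495523)) (tt N111311 (iv4 F475756)) (tt N57663 (iv5 D197482)) (tt N87417 F404514) (tt N97136 (iv7 F415622)))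
theorem Q94449 : ∀ i, i < 94449 → P i := stepQ 94448 Q94448 (allL N94448 (tt N101992 F435265) (tt N60546 F404517) (tt N97134 (iv2 F415612)) (tt N111850 F478306) (tt N57664 (iv4 D197483)) (tt N97481 (iv5 F417029)) (tt N94117 F404515) (tt N60681 F404516))
theorem Q94450 : ∀ i, i < 94450 → P i := stepQ 94449 Q94449 (allL N94449 (tt N92673 F404521) (tt N92674 F404522) (tt N94075 F404518) (tt N57667 F404519) (tt N110615 (iv4 F472407)) (tt N59977 F404520) (tt N57665 (iv6 D197484)) (tt N95819 (iv7 F409790)))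
theorem Q94451 : ∀ i, i < 94451 → P i := stepQ 94450 Q94450 (allL N94450 (tt N60232 F439047) (tt N117436 (iv0 F505021)) (tt N118616 D221875) (tt N57666 (iv3 D197485)) (tt N110613 (iv4 F472397)) (tt N118617 D221876) (tt N111135 (iv6 F474866)) (tt N97132 (iv7 F415605)))
theorem Q94452 : ∀ i, i < 94452 → P i := stepQ 94451 Q94451 (allL N94451 (tt N99667 (iv1 F425661)) (tt N99668 (iv0 F425666)) (tt N97136 (iv2 F415621)) (tt N118617 (iv3 F511181)) (tt N114110 (iv4 F488591)) (tt N57666 (iv5 D197486)) (tt N118618 D221877) (tt N97133 (iv7 F415608)))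
theorem Q94453 : ∀ i, i < 94453 → P i := stepQ 94452 Q94452 (allL N94452 (tt N92068 (iv1 F404526)) (tt N72140 F404527) (tt N95818 (iv2 F409783)) (tt N111135 (iv3 F474863)) (tt N57667 F404523) (tt N71601 (iv5 F404525)) (tt N57666 (iv6 D197487)) (tt N71830 F404524))
theorem Q94454 : ∀ i, i < 94454 → P i := stepQ 94453 Q94453 (allL N94453 (tt N107237 (iv1 F457590)) (tt N76197 (iv0 F404531)) (tt N110791 (iv2 F473189)) (tt N57673 F404528) (tt N101821 (iv4 F434509)) (tt N74458 F404529) (tt N57671 (iv6 D197488)) (tt N63159 F404530))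
theorem Q94455 : ∀ i, i < 94455 → P i := stepQ 94454 Q94454 (allL N94454 (tt N109338 (iv1 F466457)) (tt N110117 (iv0 F470071)) (tt N57678 F404532) (tt N97324 (iv3 F416351)) (tt N57673 F404533) (tt N118619 D221878) (tt N57672 (iv6 D197489)) (tt N63162 F404534))
theorem Q94456 : ∀ i, i < 94456 → P i := stepQ 94455 Q94455 (allL N94455 (tt N109810 F468735) (tt N57675 (iv0 D197490)) (tt N81702 (iv2 F404535)) (tt N62443 F404536) (tt N76817 (iv4 F404541)) (tt N81700 F404537) (tt N62441 (iv6 F404540)) (tt N72278 F404538))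
theorem Q94457 : ∀ i, i < 94457 → P i := stepQ 94456 Q94456 (allL N94456 (tt N99438 F424581) (tt N66728 (iv0 F404568)) (tt N110792 (iv2 F473196)) (tt N57680 F404543) (tt N99875 (iv4 F426638)) (tt N57675 (iv5 D197491)) (tt N66711 F404544) (tt N62705 F404545))
theorem Q94458 : ∀ i, i < 94458 → P i := stepQ 94457 Q94457 (allL N94457 (tt N118032 (iv1 F508199)) (tt N118500 (iv0 F510706)) (tt N93423 F404546) (tt N57676 (iv3 D197492)) (tt N65471 F404547) (tt N94257 F404548) (tt N107863 (iv6 F460040)) (tt N93421 F404549))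
theorem Q94459 : ∀ i, i < 94459 → P i := stepQ 94458 Q94458 (allL N94458 (tt N73337 F404552) (tt N73334 F404553) (tt N101791 (iv2 F434360)) (tt N107863 F460041) (tt N72336 F404550) (tt N107862 (iv5 F460042)) (tt N57676 (iv6 D197493)) (tt N73740 F404551))
theorem Q94460 : ∀ i, i < 94460 → P i := stepQ 94459 Q94459 (allL N94459 (tt N63162 (iv1 F404556)) (tt N57678 (iv0 D197494)) (tt N109338 (iv2 F466453)) (tt N118620 D221879) (tt N72353 F404554) (tt N118621 D221880) (tt N73793 (iv6 F404555)) (tt N110117 (iv7 F470070)))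
theorem Q94461 : ∀ i, i < 94461 → P i := stepQ 94460 Q94460 (allL N94460 (tt N57678 (iv1 D197495)) (tt N63162 F404557) (tt N110117 (iv2 F470068)) (tt N118463 F510508) (tt N72354 (iv4 F404558)) (tt N118622 D221881) (tt N92521 F404559) (tt N109338 (iv7 F466455)))
theorem Q94462 : ∀ i, i < 94462 → P i := stepQ 94461 Q94461 (allL N94461 (tt N108970 (iv1 F464717)) (tt N118623 D221882) (tt N118619 (iv2 F511185)) (tt N118465 (iv3 F510516)) (tt N114067 F488421) (tt N57678 (iv5 D197496)) (tt N118464 (iv6 F510512)) (tt N118624 D221883))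
theorem Q94463 : ∀ i, i < 94463 → P i := stepQ 94462 Q94462 (allL N94462 (tt N110117 (iv1 F470072)) (tt N109338 (iv0 F466456)) (tt N63162 F404560) (tt N118466 (iv3 F510519)) (tt N57681 F404561) (tt N118624 (iv5 F511200)) (tt N62715 F404562) (tt N57678 (iv7 D197497)))
theorem Q94464 : ∀ i, i < 94464 → P i := stepQ 94463 Q94463 (allL N94463 (tt N74466 F404566) (tt N74465 F404567) (tt N74468 F404563) (tt N109370 (iv3 F466618)) (tt N57680 (iv4 D197498)) (tt N76672 F404569) (tt N66756 F404564) (tt N62708 F404565))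
theorem Q94465 : ∀ i, i < 94465 → P i := stepQ 94464 Q94464 (allL N94464 (tt N94169 F404574) (tt N57688 F404576) (tt N72234 F404570) (tt N76133 F404571) (tt N68493 F404575) (tt N57682 (iv5 D197499)) (tt N76166 F404572) (tt N76061 F404573))
theorem Q94466 : ∀ i, i < 94466 → P i := stepQ 94465 Q94465 (allL N94465 (tt N63972 F404581) (tt N63898 (iv0 F404582)) (tt N63971 F404577) (tt N57687 (iv3 D197500)) (tt N80913 F404578) (tt N106234 (iv5 F453700)) (tt N90556 F404579) (tt N63925 F404580))
theorem Q94467 : ∀ i, i < 94467 → P i := stepQ 94466 Q94466 (allL N94466 (tt N90429 F404585) (tt N65241 F404586) (tt N90433 F404583) (tt N106234 F453701) (tt N94545 (iv4 F404913)) (tt N57687 (iv5 D197501)) (tt N95502 (iv6 F408380)) (tt N76108 F404584))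
theorem Q94468 : ∀ i, i < 94468 → P i := stepQ 94467 Q94467 (allL N94467 (tt N118625 D221884) (tt N106481 (iv0 F454616)) (tt N113079 (iv2 F483877)) (tt N85083 F404587) (tt N85089 F404588) (tt N90694 F404589) (tt N57691 (iv6 D197502)) (tt N111144 (iv7 F474913)))
theorem Q94469 : ∀ i, i < 94469 → P i := stepQ 94468 Q94468 (allL N94468 (tt N64590 F404595) (tt N75847 F404594) (tt N75871 F404590) (tt N94166 F404591) (tt N117135 (iv4 F503565)) (tt N57692 (iv5 D197503)) (tt N90694 F404592) (tt N75870 F404593))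
theorem Q94470 : ∀ i, i < 94470 → P i := stepQ 94469 Q94469 (allL N94469 (tt N62429 F404598) (tt N80978 (iv0 F404601)) (tt N81714 (iv2 F404602)) (tt N57693 (iv3 D197504)) (tt N62121 F404599) (tt N68558 F404596) (tt N109002 (iv6 F464852)) (tt N73333 F404597))
theorem Q94471 : ∀ i, i < 94471 → P i := stepQ 94470 Q94470 (allL N94470 (tt N82582 (iv1 F404607)) (tt N62369 (iv0 F404606)) (tt N108266 F461785) (tt N57694 (iv3 D197505)) (tt N73633 F404605) (tt N68560 F404603) (tt N110591 (iv6 F472269)) (tt N73336 F404604))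
theorem Q94472 : ∀ i, i < 94472 → P i := stepQ 94471 Q94471 (allL N94471 (tt N101791 (iv1 F434364)) (tt N73740 F404611) (tt N73334 F404608) (tt N117858 (iv3 F507304)) (tt N57694 (iv4 D197506)) (tt N78033 F404609) (tt N110592 (iv6 F472277)) (tt N73337 F404610))
theorem Q94473 : ∀ i, i < 94473 → P i := stepQ 94472 Q94472 (allL N94472 (tt N94121 (iv1 F404617)) (tt N57696 (iv0 D197507)) (tt N76141 (iv2 F404616)) (tt N76063 F404614) (tt N76874 F404613) (tt N73156 F404612) (tt N66829 F404615) (tt N72235 F404618))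
theorem Q94474 : ∀ i, i < 94474 → P i := stepQ 94473 Q94473 (allL N94473 (tt N66721 F404624) (tt N79095 (iv0 F404625)) (tt N77559 F404619) (tt N57698 F404620) (tt N72400 F404621) (tt N67928 F404622) (tt N57697 (iv6 D197508)) (tt N66868 F404623))
theorem Q94475 : ∀ i, i < 94475 → P i := stepQ 94474 Q94474 (allL N94474 (tt N68552 (iv1 F404629)) (tt N57702 (iv0 D197509)) (tt N68553 (iv2 F404628)) (tt N80297 F404627) (tt N76515 F404626) (tt N97060 (iv5 F415269)) (tt N108728 (iv6 F463726)) (tt N68554 F404630))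
theorem Q94476 : ∀ i, i < 94476 → P i := stepQ 94475 Q94475 (allL N94475 (tt N63608 F404637) (tt N63507 F404636) (tt N63605 F404631) (tt N94112 F404632) (tt N78035 F404635) (tt N57702 (iv5 D197510)) (tt N94110 F404633) (tt N63606 F404634))
theorem Q94477 : ∀ i, i < 94477 → P i := stepQ 94476 Q94476 (allL N94476 (tt N68491 F404642) (tt N68534 F404643) (tt N68519 F404638) (tt N76773 F404639) (tt N57707 (iv4 D197511)) (tt N81286 F404641) (tt N108730 (iv6 F463736)) (tt N68516 F404640))
theorem Q94478 : ∀ i, i < 94478 → P i := stepQ 94477 Q94477 (allL N94477 (tt N74410 (iv1 F404645)) (tt N57709 (iv0 D197512)) (tt N94583 (iv2 F405055)) (tt N92939 F404644) (tt N79079 (iv4 F419310)) (tt N105402 (iv5 F450079)) (tt N114438 (iv6 F490167)) (tt N94582 F405050))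
theorem Q94479 : ∀ i, i < 94479 → P i := stepQ 94478 Q94478 (allL N94478 (tt N57709 (iv1 D197513)) (tt N74410 (iv0 F404648)) (tt N94582 (iv2 F405049)) (tt N103896 F443259) (tt N79078 F404646) (tt N105403 (iv5 F450087)) (tt N91077 (iv6 F404647)) (tt N94583 (iv7 F405052)))
theorem Q94480 : ∀ i, i < 94480 → P i := stepQ 94479 Q94479 (allL N94479 (tt N94583 (iv1 F405051)) (tt N94582 F405046) (tt N57709 (iv2 D197514)) (tt N67229 F404649) (tt N74412 F404650) (tt N70411 F404651) (tt N113782 F487089) (tt N74410 F404652))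
theorem Q94481 : ∀ i, i < 94481 → P i := stepQ 94480 Q94480 (allL N94480 (tt N67228 (iv1 F404659)) (tt N67227 F404658) (tt N57713 (iv2 D197515)) (tt N74410 F404653) (tt N67172 F404654) (tt N70414 F404655) (tt N74409 F404656) (tt N67229 F404657))
theorem Q94482 : ∀ i, i < 94482 → P i := stepQ 94481 Q94481 (allL N94481 (tt N66066 (iv1 F404665)) (tt N66065 F404666) (tt N66067 F404660) (tt N57719 F404661) (tt N61739 F404662) (tt N66263 F404663) (tt N66069 F404664) (tt N57717 (iv7 D197516)))
theorem Q94483 : ∀ i, i < 94483 → P i := stepQ 94482 Q94482 (allL N94482 (tt N70224 F404671) (tt N101139 (iv0 F431889)) (tt N67320 F404667) (tt N93031 F404668) (tt N82010 F404669) (tt N57718 (iv5 D197517)) (tt N95168 (iv6 F407284)) (tt N67321 F404670))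
theorem Q94484 : ∀ i, i < 94484 → P i := stepQ 94483 Q94483 (allL N94483 (tt N60875 F404677) (tt N66508 (iv0 F404678)) (tt N73299 F404672) (tt N66402 F404673) (tt N73229 F404674) (tt N67734 F404675) (tt N57720 (iv6 D197518)) (tt N67806 F404676))
theorem Q94485 : ∀ i, i < 94485 → P i := stepQ 94484 Q94484 (allL N94484 (tt N96486 F445311) (tt N105170 (iv0 F449093)) (tt N69757 (iv2 F404681)) (tt N57722 (iv3 D197520)) (tt N69755 F404680) (tt N109770 (iv5 F468532)) (tt N89160 F404684) (tt N69761 (iv7 F404682)))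
theorem Q94486 : ∀ i, i < 94486 → P i := stepQ 94485 Q94485 (allL N94485 (tt N103394 F441425) (tt N104625 F446597) (tt N98715 F421988) (tt N94642 (iv3 F405330)) (tt N57722 (iv4 D197521)) (tt N94641 F405329) (tt N116218 F499079) (tt N105526 (iv7 F450584)))
theorem Q94487 : ∀ i, i < 94487 → P i := stepQ 94486 Q94486 (allL N94486 (tt N105543 (iv1 F450665)) (tt N70258 F404701) (tt N92284 F404690) (tt N109770 (iv3 F468530)) (tt N92281 (iv4 F404691)) (tt N57722 (iv5 D197522)) (tt N100611 F429702) (tt N105527 (iv7 F450591)))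
theorem Q94488 : ∀ i, i < 94488 → P i := stepQ 94487 Q94487 (allL N94487 (tt N68282 (iv1 F404695)) (tt N100820 (iv0 F430627)) (tt N101013 (iv2 F431269)) (tt N89160 F404692) (tt N116218 (iv4 F499077)) (tt N89158 F404694) (tt N57722 (iv6 D197523)) (tt N89157 F404693))
theorem Q94489 : ∀ i, i < 94489 → P i := stepQ 94488 Q94488 (allL N94488 (tt N81463 F441423) (tt N98734 F441424) (tt N105554 (iv2 F450716)) (tt N57723 (iv3 D197524)) (tt N105572 (iv4 F450789)) (tt N106195 (iv5 F453560)) (tt N86817 F404696) (tt N105528 (iv7 F450598)))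
theorem Q94490 : ∀ i, i < 94490 → P i := stepQ 94489 Q94489 (allL N94489 (tt N104625 F446596) (tt N103394 (iv0 F441422)) (tt N105526 (iv2 F450581)) (tt N67856 F404697) (tt N57723 (iv4 D197525)) (tt N109155 (iv5 F465610)) (tt N109156 (iv6 F465614)) (tt N98715 (iv7 F421986)))
theorem Q94491 : ∀ i, i < 94491 → P i := stepQ 94490 Q94490 (allL N94490 (tt N70258 F404700) (tt N105543 F450666) (tt N105527 (iv2 F450588)) (tt N106195 (iv3 F453559)) (tt N67659 (iv4 F404702)) (tt N57723 (iv5 D197526)) (tt N88258 F404698) (tt N92284 F404699))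
theorem Q94492 : ∀ i, i < 94492 → P i := stepQ 94491 Q94491 (allL N94491 (tt N94655 (iv1 F405390)) (tt N57725 (iv0 D197527)) (tt N94654 (iv2 F442294)) (tt N117063 (iv3 F503189)) (tt N103673 F442444) (tt N104478 (iv5 F445941)) (tt N118626 D221885) (tt N94653 F442295))
theorem Q94493 : ∀ i, i < 94493 → P i := stepQ 94492 Q94492 (allL N94492 (tt N57725 (iv1 D197528)) (tt N94655 F405392) (tt N94653 F442293) (tt N106245 (iv3 F453740)) (tt N68884 F442291) (tt N104479 F445947) (tt N104723 (iv6 F446990)) (tt N94654 (iv7 F442292)))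
theorem Q94494 : ∀ i, i < 94494 → P i := stepQ 94493 Q94493 (allL N94493 (tt N118627 D221886) (tt N104710 (iv0 F446948)) (tt N109155 (iv2 F465607)) (tt N94643 (iv3 F405332)) (tt N57725 (iv4 D197529)) (tt N105526 (iv5 F450585)) (tt N75579 F404705) (tt N94641 F405328))
theorem Q94495 : ∀ i, i < 94495 → P i := stepQ 94494 Q94494 (allL N94494 (tt N63960 (iv1 F404709)) (tt N57726 (iv0 D197530)) (tt N63962 (iv2 F404708)) (tt N118628 D221887) (tt N72960 F404706) (tt N63897 F404707) (tt N118629 D221888) (tt N63896 F404710))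
theorem Q94496 : ∀ i, i < 94496 → P i := stepQ 94495 Q94495 (allL N94495 (tt N68599 F404713) (tt N68928 (iv0 F404715)) (tt N67502 F404711) (tt N102531 (iv3 F437535)) (tt N64603 F404712) (tt N57727 (iv5 D197531)) (tt N64601 F404714) (tt N94591 (iv7 F405097)))
theorem Q94497 : ∀ i, i < 94497 → P i := stepQ 94496 Q94496 (allL N94496 (tt N94513 (iv1 F404785)) (tt N57814 F404716) (tt N94516 F404799) (tt N110188 (iv3 F470332)) (tt N113692 (iv4 F486664)) (tt N57728 (iv5 D197533)) (tt N110187 (iv6 F470330)) (tt N94515 F404796))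
theorem Q94498 : ∀ i, i < 94498 → P i := stepQ 94497 Q94497 (allL N94497 (tt N97714 (iv1 F418036)) (tt N97411 F416772) (tt N94594 (iv2 F405108)) (tt N109283 (iv3 F466174)) (tt N97704 (iv4 F417981)) (tt N97699 F417958) (tt N57728 (iv6 D197534)) (tt N107708 (iv7 F459323)))
theorem Q94499 : ∀ i, i < 94499 → P i := stepQ 94498 Q94498 (allL N94498 (tt N118630 D221889) (tt N107158 (iv0 F457242)) (tt N111130 (iv2 F474833)) (tt N57729 (iv3 D197535)) (tt N101807 F434431) (tt N116412 (iv5 F499969)) (tt N107709 (iv6 F459326)) (tt N94593 (iv7 F405106)))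
theorem Q94500 : ∀ i, i < 94500 → P i := stepQ 94499 Q94499 (allL N94499 (tt N57814 F404717) (tt N94513 (iv0 F404784)) (tt N94515 (iv2 F404795)) (tt N116412 (iv3 F499967)) (tt N92858 (iv4 F404718)) (tt N57729 (iv5 D197536)) (tt N92857 (iv6 F404719)) (tt N94516 (iv7 F404797)))
theorem Q94501 : ∀ i, i < 94501 → P i := stepQ 94500 Q94500 (allL N94500 (tt N114563 F490789) (tt N98557 (iv0 F421323)) (tt N114546 (iv2 F490706)) (tt N57733 F404720) (tt N113907 (iv4 F487723)) (tt N91435 F404721) (tt N57731 (iv6 D197537)) (tt N95237 (iv7 F407539)))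
theorem Q94502 : ∀ i, i < 94502 → P i := stepQ 94501 Q94501 (allL N94501 (tt N87317 F404725) (tt N108100 (iv0 F461102)) (tt N115064 (iv2 F493308)) (tt N57736 F404722) (tt N91433 F404724) (tt N57732 (iv5 D197538)) (tt N91435 F404723) (tt N100555 F429445))
theorem Q94503 : ∀ i, i < 94503 → P i := stepQ 94502 Q94502 (allL N94502 (tt N78073 (iv1 F404727)) (tt N57733 (iv0 D197539)) (tt N78070 (iv2 F404730)) (tt N118631 D221890) (tt N72172 F404729) (tt N73538 F404728) (tt N58286 F404726) (tt N78071 (iv7 F404731)))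
theorem Q94504 : ∀ i, i < 94504 → P i := stepQ 94503 Q94503 (allL N94503 (tt N57733 (iv1 D197540)) (tt N78073 F404732) (tt N78071 (iv2 F404735)) (tt N73031 (iv3 F404737)) (tt N72174 F404734) (tt N73536 (iv5 F404736)) (tt N73028 F404738) (tt N78070 F404733))
theorem Q94505 : ∀ i, i < 94505 → P i := stepQ 94504 Q94504 (allL N94504 (tt N108108 (iv1 F461144)) (tt N108109 (iv0 F461151)) (tt N78072 F404740) (tt N91435 F404741) (tt N73553 F404742) (tt N57733 (iv5 D197541)) (tt N57736 F404743) (tt N64966 F404744))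
theorem Q94506 : ∀ i, i < 94506 → P i := stepQ 94505 Q94505 (allL N94505 (tt N72853 F404749) (tt N62568 F404752) (tt N74011 F404745) (tt N74005 F404746) (tt N95954 (iv4 F410413)) (tt N74005 F404748) (tt N57735 (iv6 D197542)) (tt N74010 F404747))
theorem Q94507 : ∀ i, i < 94507 → P i := stepQ 94506 Q94506 (allL N94506 (tt N101594 (iv1 F433481)) (tt N101593 F433478) (tt N78076 F404753) (tt N90358 F404754) (tt N57736 (iv4 D197543)) (tt N57851 F404757) (tt N73553 F404755) (tt N79214 F404756))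
theorem Q94508 : ∀ i, i < 94508 → P i := stepQ 94507 Q94507 (allL N94507 (tt N116127 (iv1 F498621)) (tt N105156 (iv0 F449048)) (tt N118632 D221891) (tt N57738 (iv3 D197544)) (tt N94064 F404758) (tt N118154 (iv5 F508896)) (tt N72623 F404759) (tt N78079 F404760))
theorem Q94509 : ∀ i, i < 94509 → P i := stepQ 94508 Q94508 (allL N94508 (tt N107149 F457204) (tt N107768 F459643) (tt N117039 F503086) (tt N57739 (iv3 D197545)) (tt N78240 F404761) (tt N115556 (iv5 F495769)) (tt N116680 (iv6 F501278)) (tt N78077 F404762))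
theorem Q94510 : ∀ i, i < 94510 → P i := stepQ 94509 Q94509 (allL N94509 (tt N99299 F423990) (tt N99339 F424169) (tt N74009 F404763) (tt N116680 (iv3 F501275)) (tt N57740 F404764) (tt N116677 (iv5 F501263)) (tt N57739 (iv6 D197546)) (tt N72609 F404765))
theorem Q94511 : ∀ i, i < 94511 → P i := stepQ 94510 Q94510 (allL N94510 (tt N105383 F449989) (tt N93454 (iv0 F404769)) (tt N71225 (iv2 F404770)) (tt N57741 (iv3 D197547)) (tt N70860 F404768) (tt N73004 F404766) (tt N73480 (iv6 F404771)) (tt N71228 F404767))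
theorem Q94512 : ∀ i, i < 94512 → P i := stepQ 94511 Q94511 (allL N94511 (tt N107681 (iv1 F459211)) (tt N93368 (iv0 F404776)) (tt N94600 (iv2 F405131)) (tt N73480 F404772) (tt N90550 F404773) (tt N73478 F404774) (tt N57741 (iv6 D197548)) (tt N93264 F404775))
theorem Q94513 : ∀ i, i < 94513 → P i := stepQ 94512 Q94512 (allL N94512 (tt N94571 F405013) (tt N94574 (iv0 F405021)) (tt N65338 (iv2 F404780)) (tt N57742 (iv3 D197549)) (tt N65336 F404779) (tt N114298 (iv5 F489463)) (tt N93265 F404777) (tt N65343 F404778))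
theorem Q94514 : ∀ i, i < 94514 → P i := stepQ 94513 Q94513 (allL N94513 (tt N94499 F404784) (tt N94496 F404785) (tt N57744 F404781) (tt N78135 F404782) (tt N85093 F404783) (tt N57743 (iv5 D197550)) (tt N118633 D221892) (tt N94601 (iv7 F405139)))
theorem Q94515 : ∀ i, i < 94515 → P i := stepQ 94514 Q94514 (allL N94514 (tt N108101 F461107) (tt N116415 (iv0 F499985)) (tt N57745 F404786) (tt N78136 F404787) (tt N86234 F404788) (tt N87071 F404790) (tt N57743 (iv6 D197551)) (tt N86153 F404789))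
theorem Q94516 : ∀ i, i < 94516 → P i := stepQ 94515 Q94515 (allL N94515 (tt N94601 (iv1 F405142)) (tt N57744 (iv0 D197552)) (tt N94499 F404795) (tt N85616 F404793) (tt N86032 F404792) (tt N57804 F404791) (tt N85615 (iv6 F404794)) (tt N94496 (iv7 F404796)))
theorem Q94517 : ∀ i, i < 94517 → P i := stepQ 94516 Q94516 (allL N94516 (tt N57744 (iv1 D197553)) (tt N94601 (iv0 F405141)) (tt N94496 (iv2 F404799)) (tt N118634 D221893) (tt N115388 (iv4 F494939)) (tt N57805 F404798) (tt N112374 (iv6 F480787)) (tt N94499 F404797))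
theorem Q94518 : ∀ i, i < 94518 → P i := stepQ 94517 Q94517 (allL N94517 (tt N118635 D221894) (tt N118346 (iv0 F509828)) (tt N118633 (iv2 F511244)) (tt N57746 F404800) (tt N85539 F404801) (tt N95450 (iv5 F408233)) (tt N57744 (iv6 D197554)) (tt N88451 F404802))
theorem Q94519 : ∀ i, i < 94519 → P i := stepQ 94518 Q94518 (allL N94518 (tt N86153 (iv1 F404804)) (tt N57745 (iv0 D197555)) (tt N108101 (iv2 F461103)) (tt N90300 (iv3 F404805)) (tt N86250 F404803) (tt N115427 (iv5 F495137)) (tt N90299 (iv6 F404806)) (tt N116415 (iv7 F499984)))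
theorem Q94520 : ∀ i, i < 94520 → P i := stepQ 94519 Q94519 (allL N94519 (tt N57766 F404884) (tt N114981 (iv0 F492896)) (tt N118636 D221895) (tt N57750 (iv3 D197556)) (tt N86105 F404807) (tt N101679 (iv5 F433833)) (tt N89989 F404808) (tt N78146 F404809))
theorem Q94521 : ∀ i, i < 94521 → P i := stepQ 94520 Q94520 (allL N94520 (tt N73563 F404813) (tt N58358 F404814) (tt N58173 F404810) (tt N101679 (iv3 F433831)) (tt N65858 F404811) (tt N57750 (iv5 D197557)) (tt N57899 F404815) (tt N78147 F404812))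
theorem Q94522 : ∀ i, i < 94522 → P i := stepQ 94521 Q94521 (allL N94521 (tt N57768 F404816) (tt N97144 (iv0 F415661)) (tt N96192 (iv2 F411421)) (tt N57751 (iv3 D197558)) (tt N59289 F404817) (tt N114295 (iv5 F489447)) (tt N117110 F503447) (tt N94617 (iv7 F405235)))
theorem Q94523 : ∀ i, i < 94523 → P i := stepQ 94522 Q94522 (allL N94522 (tt N82259 F404821) (tt N57773 F404822) (tt N58339 F404818) (tt N114295 (iv3 F489445)) (tt N65357 F404819) (tt N57751 (iv5 D197559)) (tt N58338 (iv6 F404823)) (tt N82253 F404820))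
theorem Q94524 : ∀ i, i < 94524 → P i := stepQ 94523 Q94523 (allL N94523 (tt N79616 (iv1 F404837)) (tt N74726 F404841) (tt N72841 F404833) (tt N117110 (iv3 F503449)) (tt N82316 F404834) (tt N72838 F404835) (tt N57751 (iv6 D197560)) (tt N93284 F404836))
theorem Q94525 : ∀ i, i < 94525 → P i := stepQ 94524 Q94524 (allL N94524 (tt N94626 (iv1 F405291)) (tt N94627 F405295) (tt N94625 (iv2 F405284)) (tt N57752 (iv3 D197561)) (tt N77968 F404842) (tt N58105 F404843) (tt N93285 F404844) (tt N58340 F404845))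
theorem Q94526 : ∀ i, i < 94526 → P i := stepQ 94525 Q94525 (allL N94525 (tt N64949 (iv1 F404848)) (tt N96517 F412819) (tt N57754 F404846) (tt N94611 (iv3 F405203)) (tt N118461 (iv4 F510500)) (tt N81959 F404847) (tt N57753 (iv6 D197562)) (tt N96507 (iv7 F412792)))
theorem Q94527 : ∀ i, i < 94527 → P i := stepQ 94526 Q94526 (allL N94526 (tt N96507 F412794) (tt N57754 (iv0 D197563)) (tt N64949 (iv2 F404850)) (tt N115013 F493053) (tt N118584 (iv4 F511010)) (tt N64948 F404849) (tt N91758 F433459) (tt N96517 (iv7 F412820)))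
theorem Q94528 : ∀ i, i < 94528 → P i := stepQ 94527 Q94527 (allL N94527 (tt N57754 (iv1 D197564)) (tt N96507 (iv0 F412793)) (tt N96517 F412818) (tt N64924 (iv3 F404852)) (tt N118564 (iv4 F510943)) (tt N64923 (iv5 F404853)) (tt N116604 (iv6 F500935)) (tt N64949 F404851))
theorem Q94529 : ∀ i, i < 94529 → P i := stepQ 94528 Q94528 (allL N94528 (tt N94648 (iv1 F405361)) (tt N57775 F404856) (tt N94609 (iv2 F405182)) (tt N78155 F404854) (tt N107285 (iv4 F457795)) (tt N57755 (iv5 D197565)) (tt N98250 (iv6 F420175)) (tt N73572 F404855))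
theorem Q94530 : ∀ i, i < 94530 → P i := stepQ 94529 Q94529 (allL N94529 (tt N97147 (iv1 F415673)) (tt N57764 F404858) (tt N78151 F404857) (tt N57756 (iv3 D197566)) (tt N99706 (iv4 F425831)) (tt N98253 (iv5 F420192)) (tt N102862 (iv6 F438990)) (tt N94608 (iv7 F405178)))
theorem Q94531 : ∀ i, i < 94531 → P i := stepQ 94530 Q94530 (allL N94530 (tt N57775 F404861) (tt N94648 F405362) (tt N73572 F404859) (tt N98253 (iv3 F420190)) (tt N114758 (iv4 F491705)) (tt N57756 (iv5 D197567)) (tt N62372 F404860) (tt N94609 (iv7 F405185)))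
theorem Q94532 : ∀ i, i < 94532 → P i := stepQ 94531 Q94531 (allL N94531 (tt N94612 (iv1 F405206)) (tt N85611 F404867) (tt N57758 F404862) (tt N82305 F404863) (tt N71226 F404864) (tt N57757 (iv5 D197568)) (tt N91726 (iv6 F404866)) (tt N94610 (iv7 F405190)))
theorem Q94533 : ∀ i, i < 94533 → P i := stepQ 94532 Q94532 (allL N94532 (tt N94610 (iv1 F405194)) (tt N57758 (iv0 D197569)) (tt N94612 (iv2 F405209)) (tt N72230 (iv3 F405196)) (tt N85613 (iv4 F405197)) (tt N72229 (iv5 F405198)) (tt N77085 (iv6 F405199)) (tt N85611 F405195))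
theorem Q94534 : ∀ i, i < 94534 → P i := stepQ 94533 Q94533 (allL N94533 (tt N93340 F404871) (tt N93339 F404872) (tt N57772 F404868) (tt N94622 (iv3 F405264)) (tt N93448 F404869) (tt N118141 (iv5 F508823)) (tt N57762 (iv6 D197570)) (tt N93315 F404870))
theorem Q94535 : ∀ i, i < 94535 → P i := stepQ 94534 Q94534 (allL N94534 (tt N96192 F411426) (tt N94617 F405238) (tt N97144 (iv2 F415659)) (tt N57763 (iv3 D197571)) (tt N84245 F404873) (tt N113693 (iv5 F486670)) (tt N115014 (iv6 F493058)) (tt N57768 F404874))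
theorem Q94536 : ∀ i, i < 94536 → P i := stepQ 94535 Q94535 (allL N94535 (tt N78146 F410735) (tt N118636 F511270) (tt N57766 F404875) (tt N115014 (iv3 F493055)) (tt N96033 (iv4 F410734)) (tt N82024 F404876) (tt N57763 (iv6 D197572)) (tt N114981 (iv7 F492895)))
theorem Q94537 : ∀ i, i < 94537 → P i := stepQ 94536 Q94536 (allL N94536 (tt N115351 F494735) (tt N109340 (iv0 F466463)) (tt N97146 (iv2 F415667)) (tt N57766 F404877) (tt N97141 (iv4 F415644)) (tt N110936 (iv5 F473871)) (tt N57764 (iv6 D197573)) (tt N110476 (iv7 F471765)))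
theorem Q94538 : ∀ i, i < 94538 → P i := stepQ 94537 Q94537 (allL N94537 (tt N110199 F470398) (tt N86218 F419967) (tt N96033 (iv2 F410732)) (tt N117507 (iv3 F505404)) (tt N57766 F404878) (tt N118637 D221896) (tt N57765 (iv6 D197574)) (tt N114476 (iv7 F490378)))
theorem Q94539 : ∀ i, i < 94539 → P i := stepQ 94538 Q94538 (allL N94538 (tt N114981 F492897) (tt N57766 (iv0 D197575)) (tt N78146 (iv2 F404886)) (tt N94632 (iv3 F405315)) (tt N93456 (iv4 F410696)) (tt N111838 (iv5 F478233)) (tt N93333 F404887) (tt N118636 (iv7 F511268)))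
theorem Q94540 : ∀ i, i < 94540 → P i := stepQ 94539 Q94539 (allL N94539 (tt N82022 F404883) (tt N82025 (iv0 F404885)) (tt N82024 F404879) (tt N110936 (iv3 F473869)) (tt N82496 (iv4 F404881)) (tt N57766 (iv5 D197577)) (tt N82426 F404880) (tt N82023 F404882))
theorem Q94541 : ∀ i, i < 94541 → P i := stepQ 94540 Q94540 (allL N94540 (tt N118636 (iv1 F511269)) (tt N78146 (iv0 F404890)) (tt N114981 (iv2 F492892)) (tt N110476 (iv3 F471763)) (tt N114476 (iv4 F490377)) (tt N82023 F404889) (tt N98640 (iv6 F421694)) (tt N57766 (iv7 D197578)))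
theorem Q94542 : ∀ i, i < 94542 → P i := stepQ 94541 Q94541 (allL N94541 (tt N90164 F404895) (tt N90163 (iv0 F404896)) (tt N90132 F404891) (tt N57782 F404892) (tt N85388 F404893) (tt N73212 F404897) (tt N57771 (iv6 D197579)) (tt N85223 F404894))
theorem Q94543 : ∀ i, i < 94543 → P i := stepQ 94542 Q94542 (allL N94542 (tt N93315 (iv1 F404899)) (tt N57772 (iv0 D197580)) (tt N93340 F404901) (tt N74618 F404898) (tt N118638 D221897) (tt N89551 (iv5 F404902)) (tt N74613 (iv6 F404900)) (tt N93339 (iv7 F404903)))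
theorem Q94544 : ∀ i, i < 94544 → P i := stepQ 94543 Q94543 (allL N94543 (tt N57772 (iv1 D197581)) (tt N93315 F404904) (tt N93339 (iv2 F404906)) (tt N116662 (iv3 F501192)) (tt N96170 (iv4 F411327)) (tt N89552 (iv5 F404907)) (tt N111997 (iv6 F479014)) (tt N93340 F404905))
theorem Q94545 : ∀ i, i < 94545 → P i := stepQ 94544 Q94544 (allL N94544 (tt N116700 F501379) (tt N90551 F404911) (tt N118141 (iv2 F508820)) (tt N57783 F404908) (tt N73213 (iv4 F404912)) (tt N57772 (iv5 D197582)) (tt N73212 F404909) (tt N93341 F404910))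
theorem Q94546 : ∀ i, i < 94546 → P i := stepQ 94545 Q94545 (allL N94545 (tt N58339 (iv1 F404917)) (tt N82253 F404916) (tt N57773 (iv2 D197583)) (tt N94648 (iv3 F405358)) (tt N94466 F404913) (tt N70209 F404914) (tt N118639 D221898) (tt N82259 F404915))
theorem Q94547 : ∀ i, i < 94547 → P i := stepQ 94546 Q94546 (allL N94546 (tt N110899 (iv1 F473684)) (tt N107843 (iv0 F459963)) (tt N118639 (iv2 F511283)) (tt N57774 F404918) (tt N71397 F404919) (tt N110849 (iv5 F473435)) (tt N57773 (iv6 D197584)) (tt N115096 (iv7 F493466)))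
theorem Q94548 : ∀ i, i < 94548 → P i := stepQ 94547 Q94547 (allL N94547 (tt N62419 (iv1 F404922)) (tt N57774 (iv0 D197585)) (tt N94650 F405371) (tt N118640 D221899) (tt N88446 F404920) (tt N108113 (iv5 F461166)) (tt N86397 F404921) (tt N94651 (iv7 F405374)))
theorem Q94549 : ∀ i, i < 94549 → P i := stepQ 94548 Q94548 (allL N94548 (tt N57774 (iv1 D197586)) (tt N62419 F404923) (tt N94651 F405377) (tt N116765 F501714) (tt N95952 (iv4 F410401)) (tt N108112 (iv5 F461159)) (tt N118641 D221900) (tt N94650 F405372))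
theorem Q94550 : ∀ i, i < 94550 → P i := stepQ 94549 Q94549 (allL N94549 (tt N94651 (iv1 F405373)) (tt N94650 F405368) (tt N62419 F404924) (tt N115096 (iv3 F493464)) (tt N59026 F404925) (tt N64996 F404926) (tt N59960 F404927) (tt N57774 (iv7 D197587)))
theorem Q94551 : ∀ i, i < 94551 → P i := stepQ 94550 Q94550 (allL N94550 (tt N94609 (iv1 F405187)) (tt N73572 F404930) (tt N57775 (iv2 D197588)) (tt N82259 F404928) (tt N71232 (iv4 F404935)) (tt N70218 F404929) (tt N113265 (iv6 F484777)) (tt N94648 (iv7 F405360)))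
theorem Q94552 : ∀ i, i < 94552 → P i := stepQ 94551 Q94551 (allL N94551 (tt N70862 (iv1 F405192)) (tt N71230 (iv0 F404933)) (tt N71232 F404934) (tt N70412 F404931) (tt N57775 (iv4 D197589)) (tt N101908 (iv5 F434902)) (tt N72585 (iv6 F404936)) (tt N71233 F404932))
theorem Q94553 : ∀ i, i < 94553 → P i := stepQ 94552 Q94552 (allL N94552 (tt N97653 (iv1 F417789)) (tt N83269 (iv0 F404941)) (tt N113265 (iv2 F484775)) (tt N57776 F404938) (tt N72585 F404939) (tt N59954 F404940) (tt N57775 (iv6 D197590)) (tt N113266 (iv7 F484783)))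
theorem Q94554 : ∀ i, i < 94554 → P i := stepQ 94553 Q94553 (allL N94553 (tt N59960 F404946) (tt N57776 (iv0 D197591)) (tt N58686 (iv2 F404945)) (tt N85587 (iv3 F404947)) (tt N63980 F404943) (tt N58678 F404942) (tt N63979 F404944) (tt N58684 (iv7 F404948)))
theorem Q94555 : ∀ i, i < 94555 → P i := stepQ 94554 Q94554 (allL N94554 (tt N57776 (iv1 D197592)) (tt N59960 F404950) (tt N58684 (iv2 F404953)) (tt N58098 (iv3 F404954)) (tt N95238 (iv4 F407541)) (tt N58200 F404952) (tt N113260 F484751) (tt N58686 F404951))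
theorem Q94556 : ∀ i, i < 94556 → P i := stepQ 94555 Q94555 (allL N94555 (tt N58684 (iv1 F404959)) (tt N58686 F404960) (tt N59960 F404955) (tt N113266 (iv3 F484781)) (tt N58316 F404956) (tt N58471 F404957) (tt N62419 F404958) (tt N57776 (iv7 D197593)))
theorem Q94557 : ∀ i, i < 94557 → P i := stepQ 94556 Q94556 (allL N94556 (tt N94586 F405076) (tt N57777 (iv0 D197594)) (tt N94588 (iv2 F405087)) (tt N103586 (iv3 F442139)) (tt N83104 F404961) (tt N103585 (iv5 F442136)) (tt N114711 F491474) (tt N94587 F405080))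
theorem Q94558 : ∀ i, i < 94558 → P i := stepQ 94557 Q94557 (allL N94557 (tt N57777 (iv1 D197595)) (tt N94586 F405075) (tt N94587 (iv2 F405081)) (tt N112282 (iv3 F480338)) (tt N101765 (iv4 F434250)) (tt N104819 (iv5 F447444)) (tt N112356 F480724) (tt N94588 (iv7 F405083)))
theorem Q94559 : ∀ i, i < 94559 → P i := stepQ 94558 Q94558 (allL N94558 (tt N94588 (iv1 F405082)) (tt N94587 F405079) (tt N57777 (iv2 D197596)) (tt N94655 (iv3 F405387)) (tt N76081 F404962) (tt N94584 F405062) (tt N89087 F404963) (tt N94586 (iv7 F405074)))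
theorem Q94560 : ∀ i, i < 94560 → P i := stepQ 94559 Q94559 (allL N94559 (tt N57778 (iv1 D197597)) (tt N94659 F405406) (tt N83371 F404966) (tt N114746 (iv3 F491636)) (tt N58283 F404964) (tt N83359 F404967) (tt N58287 (iv6 F404965)) (tt N94657 (iv7 F405397)))
theorem Q94561 : ∀ i, i < 94561 → P i := stepQ 94560 Q94560 (allL N94560 (tt N118642 D221901) (tt N118643 D221902) (tt N94658 (iv2 F405400)) (tt N89101 F404968) (tt N118644 D221903) (tt N57778 (iv5 D197598)) (tt N94590 (iv6 F405095)) (tt N101301 (iv7 F432583)))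
theorem Q94562 : ∀ i, i < 94562 → P i := stepQ 94561 Q94561 (allL N94561 (tt N83371 (iv1 F404972)) (tt N94657 F405398) (tt N94659 (iv2 F405402)) (tt N85386 F404969) (tt N57781 F404970) (tt N101301 (iv5 F432582)) (tt N63960 F404971) (tt N57778 (iv7 D197599)))
theorem Q94563 : ∀ i, i < 94563 → P i := stepQ 94562 Q94562 (allL N94562 (tt N113260 (iv1 F484747)) (tt N111974 (iv0 F478928)) (tt N82282 F404973) (tt N113259 (iv3 F484742)) (tt N82247 F404974) (tt N107884 F460114) (tt N57779 (iv6 D197600)) (tt N82284 F404975))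
theorem Q94564 : ∀ i, i < 94564 → P i := stepQ 94563 Q94563 (allL N94563 (tt N70422 (iv1 F404979)) (tt N70419 (iv0 F404980)) (tt N94661 (iv2 F405414)) (tt N85223 F404976) (tt N63960 F404977) (tt N99156 (iv5 F423502)) (tt N57781 (iv6 D197601)) (tt N57782 F404978))
theorem Q94565 : ∀ i, i < 94565 → P i := stepQ 94564 Q94564 (allL N94564 (tt N94661 (iv1 F405421)) (tt N57782 (iv0 D197602)) (tt N70419 (iv2 F404982)) (tt N58336 (iv3 F404985)) (tt N70195 F404981) (tt N72939 (iv5 F404984)) (tt N118355 (iv6 F509882)) (tt N70422 (iv7 F404983)))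
theorem Q94566 : ∀ i, i < 94566 → P i := stepQ 94565 Q94565 (allL N94565 (tt N57782 (iv1 D197603)) (tt N94661 (iv0 F405419)) (tt N70422 F404989) (tt N73108 F404990) (tt N64561 F404987) (tt N73107 (iv5 F404991)) (tt N65361 (iv6 F404988)) (tt N70419 F404986))
theorem Q94567 : ∀ i, i < 94567 → P i := stepQ 94566 Q94566 (allL N94566 (tt N72833 F404994) (tt N73566 F404995) (tt N94662 (iv2 F405423)) (tt N73212 F404992) (tt N98799 (iv4 F422371)) (tt N57782 (iv5 D197604)) (tt N57783 F404993) (tt N99156 (iv7 F423501)))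
theorem Q94568 : ∀ i, i < 94568 → P i := stepQ 94567 Q94567 (allL N94567 (tt N107680 (iv1 F459204)) (tt N107679 F459202) (tt N94663 (iv2 F405429)) (tt N98800 (iv3 F422378)) (tt N57783 (iv4 D197605)) (tt N72849 F404997) (tt N98799 F422376) (tt N93367 F404996))
theorem Q94569 : ∀ i, i < 94569 → P i := stepQ 94568 Q94568 (allL N94568 (tt N102791 (iv1 F438670)) (tt N105729 (iv0 F451446)) (tt N69428 F404998) (tt N112114 (iv3 F479549)) (tt N80607 F405000) (tt N57785 (iv5 D197606)) (tt N80606 F404999) (tt N99617 (iv7 F425438)))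
theorem Q94570 : ∀ i, i < 94570 → P i := stepQ 94569 Q94569 (allL N94569 (tt N70580 F405005) (tt N70452 (iv0 F405006)) (tt N71753 F405001) (tt N57820 F405002) (tt N100389 (iv4 F428748)) (tt N69385 F405003) (tt N57787 (iv6 D197607)) (tt N62365 F405004))
theorem Q94571 : ∀ i, i < 94571 → P i := stepQ 94570 Q94570 (allL N94570 (tt N110771 F473120) (tt N112734 (iv0 F482427)) (tt N82181 F405007) (tt N57789 (iv3 D197608)) (tt N94198 F405009) (tt N74340 (iv5 F405010)) (tt N98074 (iv6 F419359)) (tt N94203 F405008))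
theorem Q94572 : ∀ i, i < 94572 → P i := stepQ 94571 Q94571 (allL N94571 (tt N101830 (iv1 F434556)) (tt N94512 (iv0 F405013)) (tt N70227 F405011) (tt N94356 F405012) (tt N57789 (iv4 D197609)) (tt N109496 (iv5 F467273)) (tt N118645 D221904) (tt N101826 (iv7 F434533)))
theorem Q94573 : ∀ i, i < 94573 → P i := stepQ 94572 Q94572 (allL N94572 (tt N109253 F466012) (tt N94054 (iv0 F405017)) (tt N109227 (iv2 F465862)) (tt N74340 F405014) (tt N69827 F405015) (tt N57789 (iv5 D197610)) (tt N74338 F405016) (tt N109254 (iv7 F466016)))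
theorem Q94574 : ∀ i, i < 94574 → P i := stepQ 94573 Q94573 (allL N94573 (tt N117466 (iv1 F505174)) (tt N109305 (iv0 F466303)) (tt N117467 (iv2 F505180)) (tt N98074 F419360) (tt N118645 (iv4 F511313)) (tt N87355 (iv5 F419361)) (tt N57789 (iv6 D197611)) (tt N117465 (iv7 F505172)))
theorem Q94575 : ∀ i, i < 94575 → P i := stepQ 94574 Q94574 (allL N94574 (tt N94512 F405021) (tt N101830 F434555) (tt N101826 F434535) (tt N70231 F405018) (tt N57790 (iv4 D197612)) (tt N118646 D221905) (tt N89601 F405019) (tt N70227 F405020))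
theorem Q94576 : ∀ i, i < 94576 → P i := stepQ 94575 Q94575 (allL N94575 (tt N81351 F405026) (tt N81296 F405025) (tt N57792 F405022) (tt N80900 F405023) (tt N105092 (iv4 F448758)) (tt N57791 (iv5 D197613)) (tt N113032 (iv6 F483635)) (tt N81349 F405024))
theorem Q94577 : ∀ i, i < 94577 → P i := stepQ 94576 Q94576 (allL N94576 (tt N81349 (iv1 F405029)) (tt N57792 (iv0 D197614)) (tt N81351 (iv2 F405028)) (tt N75052 F405027) (tt N69893 F405031) (tt N103949 (iv5 F443488)) (tt N75054 (iv6 F405032)) (tt N81296 F405030))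
theorem Q94578 : ∀ i, i < 94578 → P i := stepQ 94577 Q94577 (allL N94577 (tt N80849 F419401) (tt N81354 F405034) (tt N105092 (iv2 F448756)) (tt N77207 F405033) (tt N57792 (iv4 D197615)) (tt N105091 (iv5 F448755)) (tt N109113 (iv6 F465399)) (tt N118429 (iv7 F510304)))
theorem Q94579 : ∀ i, i < 94579 → P i := stepQ 94578 Q94578 (allL N94578 (tt N81322 F427167) (tt N114453 (iv0 F490249)) (tt N113032 (iv2 F483633)) (tt N57793 F405035) (tt N109113 (iv4 F465398)) (tt N104783 (iv5 F447246)) (tt N57792 (iv6 D197616)) (tt N118647 D221906))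
theorem Q94580 : ∀ i, i < 94580 → P i := stepQ 94579 Q94579 (allL N94579 (tt N86112 F405038) (tt N57793 (iv0 D197617)) (tt N97363 (iv2 F416515)) (tt N104569 (iv3 F446318)) (tt N98396 (iv4 F420773)) (tt N76784 F405036) (tt N76786 F405037) (tt N97364 (iv7 F416517)))
theorem Q94581 : ∀ i, i < 94581 → P i := stepQ 94580 Q94580 (allL N94580 (tt N57793 (iv1 D197618)) (tt N86112 F405039) (tt N97364 (iv2 F416521)) (tt N116029 (iv3 F498131)) (tt N64188 F405040) (tt N86014 F405042) (tt N61098 (iv6 F405041)) (tt N97363 F416514))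
theorem Q94582 : ∀ i, i < 94582 → P i := stepQ 94581 Q94581 (allL N94581 (tt N97364 (iv1 F416516)) (tt N97363 F416513) (tt N86112 F405043) (tt N118647 (iv3 F511324)) (tt N104080 (iv4 F444075)) (tt N104781 (iv5 F447234)) (tt N117673 (iv6 F506343)) (tt N57793 (iv7 D197619)))
theorem Q94583 : ∀ i, i < 94583 → P i := stepQ 94582 Q94582 (allL N94582 (tt N94479 (iv1 F405046)) (tt N57794 (iv0 D197620)) (tt N94478 F405049) (tt N71913 F405044) (tt N100788 (iv4 F430474)) (tt N70370 F405045) (tt N71911 (iv6 F405048)) (tt N94477 (iv7 F405050)))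
theorem Q94584 : ∀ i, i < 94584 → P i := stepQ 94583 Q94583 (allL N94583 (tt N57794 (iv1 D197621)) (tt N94479 F405051) (tt N94477 F405055) (tt N85047 (iv3 F405053)) (tt N98720 (iv4 F422003)) (tt N70371 (iv5 F405054)) (tt N85046 F405056) (tt N94478 F405052))
theorem Q94585 : ∀ i, i < 94585 → P i := stepQ 94584 Q94584 (allL N94584 (tt N57797 (iv1 F405060)) (tt N57796 (iv0 D197622)) (tt N57800 (iv2 F405059)) (tt N70327 F405058) (tt N67943 F405057) (tt N94558 (iv5 F405062)) (tt N106574 F454917) (tt N57798 F405061))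
theorem Q94586 : ∀ i, i < 94586 → P i := stepQ 94585 Q94585 (allL N94585 (tt N86290 F405068) (tt N70341 F405069) (tt N86291 F405063) (tt N70477 F405064) (tt N91725 F405065) (tt N57796 (iv5 D197623)) (tt N81429 F405066) (tt N70509 F405067))
theorem Q94587 : ∀ i, i < 94587 → P i := stepQ 94586 Q94586 (allL N94586 (tt N94557 (iv1 F405075)) (tt N94556 (iv0 F405076)) (tt N57799 F405070) (tt N75138 F405071) (tt N64834 F405072) (tt N57798 (iv5 D197624)) (tt N75136 F405073) (tt N94558 F405074))
theorem Q94588 : ∀ i, i < 94588 → P i := stepQ 94587 Q94587 (allL N94587 (tt N94558 (iv1 F405079)) (tt N57799 (iv0 D197625)) (tt N94557 F405081) (tt N104109 (iv3 F444218)) (tt N65227 F405078) (tt N70262 F405077) (tt N118648 D221907) (tt N94556 (iv7 F405080)))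
theorem Q94589 : ∀ i, i < 94589 → P i := stepQ 94588 Q94588 (allL N94588 (tt N57799 (iv1 D197626)) (tt N94558 F405082) (tt N94556 F405087) (tt N85931 (iv3 F405085)) (tt N89672 (iv4 F405086)) (tt N70263 F405084) (tt N85929 F405088) (tt N94557 F405083))
theorem Q94590 : ∀ i, i < 94590 → P i := stepQ 94589 Q94589 (allL N94589 (tt N99897 (iv1 F426729)) (tt N109388 (iv0 F466716)) (tt N75136 F405089) (tt N57801 F405090) (tt N69698 F405091) (tt N75135 F405092) (tt N57799 (iv6 D197627)) (tt N100607 (iv7 F429684)))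
theorem Q94591 : ∀ i, i < 94591 → P i := stepQ 94590 Q94590 (allL N94590 (tt N101206 (iv1 F432196)) (tt N105165 F449073) (tt N70329 F405093) (tt N90618 F405094) (tt N118649 D221908) (tt N57802 (iv5 D197628)) (tt N94560 F405095) (tt N94918 (iv7 F406334)))
theorem Q94592 : ∀ i, i < 94592 → P i := stepQ 94591 Q94591 (allL N94591 (tt N67233 F405098) (tt N67571 (iv0 F405100)) (tt N68840 F405096) (tt N97948 (iv3 F418923)) (tt N101140 (iv4 F431892)) (tt N57803 (iv5 D197629)) (tt N67223 F405099) (tt N94495 F405097))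
theorem Q94593 : ∀ i, i < 94593 → P i := stepQ 94592 Q94592 (allL N94592 (tt N90218 (iv1 F405105)) (tt N90335 (iv0 F405104)) (tt N90333 (iv2 F405201)) (tt N57804 (iv3 D197630)) (tt N101908 (iv4 F434903)) (tt N85616 F405101) (tt N89477 F405102) (tt N90332 (iv7 F407606)))
theorem Q94594 : ∀ i, i < 94594 → P i := stepQ 94593 Q94593 (allL N94593 (tt N118425 (iv1 F510284)) (tt N110836 (iv0 F473377)) (tt N118650 D221909) (tt N57805 (iv3 D197631)) (tt N78723 F405107) (tt N118634 (iv5 F511253)) (tt N111613 (iv6 F477153)) (tt N94498 F405106))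
theorem Q94595 : ∀ i, i < 94595 → P i := stepQ 94594 Q94594 (allL N94594 (tt N107511 F458597) (tt N117728 (iv0 F506658)) (tt N94497 F405108) (tt N111613 (iv3 F477151)) (tt N89979 F405109) (tt N112299 (iv5 F480431)) (tt N57805 (iv6 D197632)) (tt N89481 F405110))
theorem Q94596 : ∀ i, i < 94596 → P i := stepQ 94595 Q94595 (allL N94595 (tt N84834 F405115) (tt N85242 F405114) (tt N57807 F405111) (tt N72213 F405112) (tt N84829 (iv4 F405116)) (tt N57806 (iv5 D197633)) (tt N98306 (iv6 F420432)) (tt N85228 F405113))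
theorem Q94597 : ∀ i, i < 94597 → P i := stepQ 94596 Q94596 (allL N94596 (tt N57807 (iv1 D197634)) (tt N85228 F405117) (tt N85242 F405121) (tt N101835 (iv3 F434579)) (tt N86900 (iv4 F405122)) (tt N57812 F405119) (tt N85237 (iv6 F405120)) (tt N84834 F405118))
theorem Q94598 : ∀ i, i < 94598 → P i := stepQ 94597 Q94597 (allL N94597 (tt N112841 (iv1 F482903)) (tt N85118 (iv0 F405125)) (tt N98306 (iv2 F420431)) (tt N57809 F405123) (tt N85107 F405124) (tt N96783 (iv5 F413914)) (tt N57807 (iv6 D197635)) (tt N58311 (iv7 F405126)))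
theorem Q94599 : ∀ i, i < 94599 → P i := stepQ 94598 Q94598 (allL N94598 (tt N101159 (iv1 F431994)) (tt N57808 (iv0 D197636)) (tt N101160 F432001) (tt N90353 F459258) (tt N117236 (iv4 F504053)) (tt N101871 (iv5 F434758)) (tt N117235 F504051) (tt N72863 F431995))
theorem Q94600 : ∀ i, i < 94600 → P i := stepQ 94599 Q94599 (allL N94599 (tt N90775 F405130) (tt N110838 (iv0 F473389)) (tt N118651 D221910) (tt N57810 (iv3 D197637)) (tt N69460 F405127) (tt N101870 (iv5 F434754)) (tt N72975 F405128) (tt N62191 F405129))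
theorem Q94601 : ∀ i, i < 94601 → P i := stepQ 94600 Q94600 (allL N94600 (tt N72850 (iv1 F405135)) (tt N110989 (iv0 F474116)) (tt N94511 F405131) (tt N101836 (iv3 F434581)) (tt N71648 F405132) (tt N93763 F405133) (tt N57812 (iv6 D197638)) (tt N73431 F405134))
theorem Q94602 : ∀ i, i < 94602 → P i := stepQ 94601 Q94601 (allL N94601 (tt N94516 F405141) (tt N94515 F405142) (tt N57814 F405137) (tt N72290 F405138) (tt N86826 F405140) (tt N57813 (iv5 D197639)) (tt N114285 (iv6 F489395)) (tt N94513 F405139))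
theorem Q94603 : ∀ i, i < 94603 → P i := stepQ 94602 Q94602 (allL N94602 (tt N64293 (iv1 F405146)) (tt N57815 (iv0 D197640)) (tt N63992 (iv2 F405147)) (tt N118056 (iv3 F508329)) (tt N63906 F405144) (tt N64023 F405143) (tt N99518 (iv6 F424959)) (tt N63984 (iv7 F405148)))
theorem Q94604 : ∀ i, i < 94604 → P i := stepQ 94603 Q94603 (allL N94603 (tt N57815 (iv1 D197641)) (tt N64293 F405149) (tt N63984 (iv2 F405153)) (tt N96711 F413567) (tt N63904 F405152) (tt N64508 F405151) (tt N112843 F482915) (tt N63992 F405150))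
theorem Q94605 : ∀ i, i < 94605 → P i := stepQ 94604 Q94604 (allL N94604 (tt N96713 F413580) (tt N96679 (iv0 F413419)) (tt N109941 (iv2 F469319)) (tt N57817 (iv3 D197642)) (tt N71548 F405155) (tt N96416 (iv5 F412430)) (tt N62351 F405156) (tt N72299 F405157))
theorem Q94606 : ∀ i, i < 94606 → P i := stepQ 94605 Q94605 (allL N94605 (tt N85329 F405162) (tt N57970 F405163) (tt N72305 F405158) (tt N77523 F405159) (tt N80611 F405161) (tt N57819 (iv5 D197643)) (tt N95708 F409236) (tt N72308 F405160))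
theorem Q94607 : ∀ i, i < 94607 → P i := stepQ 94606 Q94606 (allL N94606 (tt N86056 F405168) (tt N86050 (iv0 F405169)) (tt N77525 F405164) (tt N57821 (iv3 D197644)) (tt N74215 F405165) (tt N98136 (iv5 F419633)) (tt N62360 F405166) (tt N72304 F405167))
theorem Q94608 : ∀ i, i < 94608 → P i := stepQ 94607 Q94607 (allL N94607 (tt N57970 F405173) (tt N85329 F405174) (tt N72308 F405170) (tt N98136 (iv3 F419630)) (tt N64798 F405171) (tt N57821 (iv5 D197645)) (tt N64796 (iv6 F405175)) (tt N72305 F405172))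
theorem Q94609 : ∀ i, i < 94609 → P i := stepQ 94608 Q94608 (allL N94608 (tt N60145 (iv1 F405179)) (tt N60149 F405181) (tt N65274 F405176) (tt N57823 (iv3 D197646)) (tt N97333 (iv4 F416392)) (tt N61224 (iv5 F405180)) (tt N61192 F405177) (tt N94529 F405178))
theorem Q94610 : ∀ i, i < 94610 → P i := stepQ 94609 Q94609 (allL N94609 (tt N57850 F405186) (tt N94550 F405187) (tt N94528 F405182) (tt N61224 F405183) (tt N109898 (iv4 F469127)) (tt N57823 (iv5 D197647)) (tt N61222 F405184) (tt N94530 F405185))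
theorem Q94611 : ∀ i, i < 94611 → P i := stepQ 94610 Q94610 (allL N94610 (tt N85644 F405193) (tt N94532 F405194) (tt N57825 F405188) (tt N90432 F405189) (tt N91676 F405191) (tt N57824 (iv5 D197648)) (tt N115088 (iv6 F493428)) (tt N94531 F405190))
theorem Q94612 : ∀ i, i < 94612 → P i := stepQ 94611 Q94611 (allL N94611 (tt N86751 F405205) (tt N110897 (iv0 F473666)) (tt N57826 F405202) (tt N94525 F405203) (tt N71231 F405204) (tt N94853 F406161) (tt N57824 (iv6 D197649)) (tt N116993 (iv7 F502869)))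
theorem Q94613 : ∀ i, i < 94613 → P i := stepQ 94612 Q94612 (allL N94612 (tt N57825 (iv1 D197650)) (tt N94531 F405206) (tt N94532 F405209) (tt N96106 (iv3 F411081)) (tt N85646 (iv4 F405211)) (tt N70217 (iv5 F405208)) (tt N73770 F405210) (tt N85644 F405207))
theorem Q94614 : ∀ i, i < 94614 → P i := stepQ 94613 Q94613 (allL N94613 (tt N118652 D221911) (tt N73115 (iv0 F405214)) (tt N115088 (iv2 F493425)) (tt N57827 F405212) (tt N106299 (iv4 F453940)) (tt N59443 (iv5 F405215)) (tt N57825 (iv6 D197651)) (tt N59442 F405213))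
theorem Q94615 : ∀ i, i < 94615 → P i := stepQ 94614 Q94614 (allL N94614 (tt N57826 (iv1 D197652)) (tt N116993 F502868) (tt N110897 (iv2 F473663)) (tt N108928 (iv3 F464528)) (tt N86752 (iv4 F405217)) (tt N95061 F464520) (tt N108926 (iv6 F464519)) (tt N86751 F405216))
theorem Q94616 : ∀ i, i < 94616 → P i := stepQ 94615 Q94615 (allL N94615 (tt N94685 F405522) (tt N94855 F406166) (tt N94853 (iv2 F406162)) (tt N57828 F405218) (tt N92061 (iv4 F405220)) (tt N57826 (iv5 D197653)) (tt N59443 F405219) (tt N59334 (iv7 F405221)))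
theorem Q94617 : ∀ i, i < 94617 → P i := stepQ 94616 Q94616 (allL N94616 (tt N110897 F473668) (tt N86751 (iv0 F405226)) (tt N116993 F502867) (tt N57829 F405222) (tt N71238 F405223) (tt N59334 F405224) (tt N77516 F405225) (tt N57826 (iv7 D197654)))
theorem Q94618 : ∀ i, i < 94618 → P i := stepQ 94617 Q94617 (allL N94617 (tt N94534 (iv1 F405238)) (tt N86139 (iv0 F405237)) (tt N85226 F405236) (tt N57830 (iv3 D197655)) (tt N59225 F405232) (tt N84827 F405233) (tt N73215 F405234) (tt N94521 F405235))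
theorem Q94619 : ∀ i, i < 94619 → P i := stepQ 94618 Q94618 (allL N94618 (tt N89529 (iv1 F405244)) (tt N89015 (iv0 F405243)) (tt N57834 F405239) (tt N77515 F405240) (tt N94313 F405241) (tt N114556 (iv5 F490760)) (tt N57832 (iv6 D197656)) (tt N89528 (iv7 F405254)))
theorem Q94620 : ∀ i, i < 94620 → P i := stepQ 94619 Q94619 (allL N94619 (tt N57833 (iv1 D197657)) (tt N90432 F405245) (tt N90442 (iv2 F405249)) (tt N110642 (iv3 F472552)) (tt N82853 F405248) (tt N70208 F405247) (tt N114462 (iv6 F490301)) (tt N90443 F405246))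
theorem Q94621 : ∀ i, i < 94621 → P i := stepQ 94620 Q94620 (allL N94620 (tt N57834 (iv1 D197658)) (tt N89528 F405253) (tt N89015 (iv2 F405251)) (tt N76891 (iv3 F412548)) (tt N117790 (iv4 F506984)) (tt N114994 (iv5 F492967)) (tt N117789 (iv6 F506981)) (tt N89529 F405250))
theorem Q94622 : ∀ i, i < 94622 → P i := stepQ 94621 Q94621 (allL N94621 (tt N89015 (iv1 F405260)) (tt N89529 F405261) (tt N89528 F405255) (tt N57836 F405256) (tt N94316 F405257) (tt N59480 F405258) (tt N59482 F405259) (tt N57834 (iv7 D197659)))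
theorem Q94623 : ∀ i, i < 94623 → P i := stepQ 94622 Q94622 (allL N94622 (tt N72840 (iv1 F405268)) (tt N72839 (iv0 F405269)) (tt N57849 F405263) (tt N94533 F405264) (tt N65859 F405265) (tt N93284 F405266) (tt N57837 (iv6 D197660)) (tt N72838 F405267))
theorem Q94624 : ∀ i, i < 94624 → P i := stepQ 94623 Q94623 (allL N94623 (tt N72637 F405273) (tt N105157 (iv0 F449053)) (tt N57841 F405270) (tt N65282 F405271) (tt N105126 (iv4 F448911)) (tt N57838 (iv5 D197661)) (tt N112017 (iv6 F479098)) (tt N57844 F405272))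
theorem Q94625 : ∀ i, i < 94625 → P i := stepQ 94624 Q94624 (allL N94624 (tt N73561 F405279) (tt N110894 F473651) (tt N57842 F405274) (tt N65283 F405275) (tt N65351 F405276) (tt N94834 F406096) (tt N57838 (iv6 D197662)) (tt N75506 F405277))
theorem Q94626 : ∀ i, i < 94626 → P i := stepQ 94625 Q94625 (allL N94625 (tt N57839 (iv1 D197663)) (tt N65217 (iv0 F405285)) (tt N94524 F405284) (tt N85226 (iv3 F405283)) (tt N77961 F405281) (tt N85222 F405282) (tt N99156 (iv6 F423500)) (tt N93360 F405280))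
theorem Q94627 : ∀ i, i < 94627 → P i := stepQ 94626 Q94626 (allL N94626 (tt N93360 F405290) (tt N94524 F405291) (tt N57839 (iv2 D197664)) (tt N65219 F405286) (tt N77921 F405287) (tt N100832 (iv5 F430689)) (tt N82544 F405288) (tt N65217 (iv7 F405289)))
theorem Q94628 : ∀ i, i < 94628 → P i := stepQ 94627 Q94627 (allL N94627 (tt N94524 (iv1 F405295)) (tt N93360 F405296) (tt N65217 F405292) (tt N57843 F405293) (tt N77922 F405294) (tt N112019 (iv5 F479103)) (tt N76892 (iv6 F405297)) (tt N57839 (iv7 D197665)))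
theorem Q94629 : ∀ i, i < 94629 → P i := stepQ 94628 Q94628 (allL N94628 (tt N75461 (iv1 F405302)) (tt N75680 F405303) (tt N65351 F405298) (tt N82196 F405299) (tt N57842 F405300) (tt N109021 (iv5 F464969)) (tt N57840 (iv6 D197666)) (tt N75681 F405301))
theorem Q94630 : ∀ i, i < 94630 → P i := stepQ 94629 Q94629 (allL N94629 (tt N57844 F405309) (tt N57841 (iv0 D197667)) (tt N72637 (iv2 F405304)) (tt N89729 F405305) (tt N118653 D221912) (tt N72636 F405306) (tt N90052 (iv6 F405307)) (tt N105157 (iv7 F449052)))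
theorem Q94631 : ∀ i, i < 94631 → P i := stepQ 94630 Q94630 (allL N94630 (tt N105123 (iv1 F448898)) (tt N92272 (iv0 F439892)) (tt N105126 F448912) (tt N118654 D221913) (tt N57841 (iv4 D197668)) (tt N92250 F405310) (tt N112018 (iv6 F479100)) (tt N105125 F448907))
theorem Q94632 : ∀ i, i < 94632 → P i := stepQ 94631 Q94631 (allL N94631 (tt N105157 F449054) (tt N72637 (iv0 F405313)) (tt N57844 F405311) (tt N112019 (iv3 F479102)) (tt N105125 F448908) (tt N57843 F405312) (tt N118655 D221914) (tt N57841 (iv7 D197669)))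
theorem Q94633 : ∀ i, i < 94633 → P i := stepQ 94632 Q94632 (allL N94632 (tt N75506 (iv1 F405320)) (tt N57842 (iv0 D197670)) (tt N73561 (iv2 F405314)) (tt N94538 F405315) (tt N117466 (iv4 F505176)) (tt N101524 (iv5 F433248)) (tt N73559 F405316) (tt N110894 (iv7 F473649)))
theorem Q94634 : ∀ i, i < 94634 → P i := stepQ 94633 Q94633 (allL N94633 (tt N110894 (iv1 F473650)) (tt N73561 F405321) (tt N75506 F405317) (tt N100915 F430950) (tt N75681 F405318) (tt N94833 (iv5 F406093)) (tt N75524 F405319) (tt N57842 (iv7 D197671)))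
theorem Q94635 : ∀ i, i < 94635 → P i := stepQ 94634 Q94634 (allL N94634 (tt N92272 (iv1 F421953)) (tt N105123 (iv0 F448899)) (tt N105125 F448906) (tt N118125 (iv3 F508737)) (tt N57844 (iv4 D197672)) (tt N92251 F405322) (tt N118656 D221915) (tt N105126 (iv7 F448909)))
theorem Q94636 : ∀ i, i < 94636 → P i := stepQ 94635 Q94635 (allL N94635 (tt N112541 F481586) (tt N103650 (iv0 F442363)) (tt N118655 (iv2 F511372)) (tt N65281 F405323) (tt N118656 (iv4 F511376)) (tt N77533 F405324) (tt N57844 (iv6 D197673)) (tt N118657 D221916))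
theorem Q94637 : ∀ i, i < 94637 → P i := stepQ 94636 Q94636 (allL N94636 (tt N105201 (iv1 F449189)) (tt N92253 (iv0 F434545)) (tt N105203 F449195) (tt N118658 D221917) (tt N57845 (iv4 D197674)) (tt N69804 (iv5 F405325)) (tt N118659 D221918) (tt N94967 F406532))
theorem Q94638 : ∀ i, i < 94638 → P i := stepQ 94637 Q94637 (allL N94637 (tt N118660 D221919) (tt N118661 D221920) (tt N116919 (iv2 F502495)) (tt N94677 (iv3 F405485)) (tt N118659 (iv4 F511392)) (tt N118662 D221921) (tt N57845 (iv6 D197675)) (tt N94675 (iv7 F405481)))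
theorem Q94639 : ∀ i, i < 94639 → P i := stepQ 94638 Q94638 (allL N94638 (tt N92253 F405326) (tt N105201 (iv0 F449188)) (tt N94967 (iv2 F406530)) (tt N118127 F508745) (tt N57846 (iv4 D197676)) (tt N69805 (iv5 F421965)) (tt N94960 (iv6 F406512)) (tt N105203 (iv7 F449192)))
theorem Q94640 : ∀ i, i < 94640 → P i := stepQ 94639 Q94639 (allL N94639 (tt N116882 (iv1 F502332)) (tt N57847 (iv0 D197677)) (tt N105143 (iv2 F448974)) (tt N67706 F405384) (tt N112747 (iv4 F482483)) (tt N67704 (iv5 F405385)) (tt N118663 D221922) (tt N103840 (iv7 F443039)))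
theorem Q94641 : ∀ i, i < 94641 → P i := stepQ 94640 Q94640 (allL N94640 (tt N57847 (iv1 D197678)) (tt N116882 F502331) (tt N103840 F445977) (tt N98701 F445978) (tt N118664 D221923) (tt N104506 (iv5 F446057)) (tt N67726 F445979) (tt N105143 (iv7 F448977)))
theorem Q94642 : ∀ i, i < 94642 → P i := stepQ 94641 Q94641 (allL N94641 (tt N118665 D221924) (tt N105617 (iv0 F450987)) (tt N109596 (iv2 F467644)) (tt N57847 (iv3 D197679)) (tt N57854 F405327) (tt N94485 (iv5 F405329)) (tt N116871 (iv6 F502282)) (tt N94493 (iv7 F405328)))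
theorem Q94643 : ∀ i, i < 94643 → P i := stepQ 94642 Q94642 (allL N94642 (tt N69080 F405331) (tt N69888 F405386) (tt N103832 (iv2 F443009)) (tt N94485 F405330) (tt N105085 (iv4 F448719)) (tt N57847 (iv5 D197680)) (tt N118666 D221925) (tt N103835 (iv7 F443017)))
theorem Q94644 : ∀ i, i < 94644 → P i := stepQ 94643 Q94643 (allL N94643 (tt N103840 F443041) (tt N105143 F448979) (tt N116882 (iv2 F502327)) (tt N94493 F405332) (tt N57848 F405333) (tt N103835 F443020) (tt N109389 (iv6 F466720)) (tt N57847 (iv7 D197681)))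
theorem Q94645 : ∀ i, i < 94645 → P i := stepQ 94644 Q94644 (allL N94644 (tt N70143 (iv1 F405338)) (tt N93342 F405341) (tt N93283 F405334) (tt N57859 F405335) (tt N109389 (iv4 F466718)) (tt N70125 (iv5 F405337)) (tt N57848 (iv6 D197682)) (tt N93286 F405336))
theorem Q94646 : ∀ i, i < 94646 → P i := stepQ 94645 Q94645 (allL N94645 (tt N72838 (iv1 F405343)) (tt N57849 (iv0 D197683)) (tt N72840 (iv2 F405344)) (tt N93365 F407425) (tt N79600 F405342) (tt N116984 (iv5 F502827)) (tt N111535 (iv6 F476796)) (tt N72839 (iv7 F405345)))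
theorem Q94647 : ∀ i, i < 94647 → P i := stepQ 94646 Q94646 (allL N94646 (tt N57849 (iv1 D197684)) (tt N72838 F405346) (tt N72839 (iv2 F405350)) (tt N73573 (iv3 F405349)) (tt N79589 F405348) (tt N116955 (iv5 F502688)) (tt N100374 (iv6 F428659)) (tt N72840 F405347))
theorem Q94648 : ∀ i, i < 94648 → P i := stepQ 94647 Q94647 (allL N94647 (tt N74726 (iv1 F405355)) (tt N79616 F405357) (tt N93284 F405351) (tt N57860 F405352) (tt N117861 (iv4 F507325)) (tt N57849 (iv5 D197685)) (tt N70125 F405353) (tt N72841 F405354))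
theorem Q94649 : ∀ i, i < 94649 → P i := stepQ 94648 Q94648 (allL N94648 (tt N94530 (iv1 F405362)) (tt N94528 F405361) (tt N57850 (iv2 D197686)) (tt N94545 F405358) (tt N105975 (iv4 F452586)) (tt N90228 F405359) (tt N118667 D221926) (tt N94550 F405360))
theorem Q94650 : ∀ i, i < 94650 → P i := stepQ 94649 Q94649 (allL N94649 (tt N118668 D221927) (tt N110033 (iv0 F469651)) (tt N118667 (iv2 F511432)) (tt N57851 F405364) (tt N103118 (iv4 F440155)) (tt N90358 F405365) (tt N57850 (iv6 D197687)) (tt N99524 (iv7 F424981)))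
theorem Q94651 : ∀ i, i < 94651 → P i := stepQ 94650 Q94650 (allL N94650 (tt N94549 (iv1 F405368)) (tt N57851 (iv0 D197688)) (tt N94547 (iv2 F405371)) (tt N112835 (iv3 F482865)) (tt N70314 F405366) (tt N73541 F405369) (tt N58220 F405367) (tt N94548 (iv7 F405372)))
theorem Q94652 : ∀ i, i < 94652 → P i := stepQ 94651 Q94651 (allL N94651 (tt N57851 (iv1 D197689)) (tt N94549 F405373) (tt N94548 (iv2 F405377)) (tt N118661 F511401) (tt N70315 F405376) (tt N73540 F405375) (tt N112761 F482529) (tt N94547 F405374))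
theorem Q94653 : ∀ i, i < 94653 → P i := stepQ 94652 Q94652 (allL N94652 (tt N94875 (iv1 F406215)) (tt N72888 (iv0 F405380)) (tt N94828 (iv2 F406075)) (tt N57853 F405378) (tt N108293 (iv4 F461926)) (tt N72896 F405379) (tt N57852 (iv6 D197690)) (tt N94826 (iv7 F406072)))
theorem Q94654 : ∀ i, i < 94654 → P i := stepQ 94653 Q94653 (allL N94653 (tt N75138 (iv1 F405381)) (tt N57854 (iv0 D197691)) (tt N94492 (iv2 F442293)) (tt N107002 (iv3 F456603)) (tt N104485 (iv4 F445974)) (tt N70255 (iv5 F405382)) (tt N118669 D221928) (tt N94491 (iv7 F442295)))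
theorem Q94655 : ∀ i, i < 94655 → P i := stepQ 94654 Q94654 (allL N94654 (tt N57854 (iv1 D197692)) (tt N75138 F405391) (tt N94491 F442294) (tt N106183 (iv3 F453497)) (tt N67680 F405383) (tt N70256 F445952) (tt N107484 (iv6 F458482)) (tt N94492 F442292))
theorem Q94656 : ∀ i, i < 94656 → P i := stepQ 94655 Q94655 (allL N94655 (tt N94492 (iv1 F405392)) (tt N94491 F405390) (tt N57854 (iv2 D197693)) (tt N94558 F405387) (tt N109596 (iv4 F467645)) (tt N70327 F405388) (tt N109393 (iv6 F466738)) (tt N75138 F405389))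
theorem Q94657 : ∀ i, i < 94657 → P i := stepQ 94656 Q94656 (allL N94656 (tt N100219 F428047) (tt N109391 F466731) (tt N109393 (iv2 F466735)) (tt N57855 F405393) (tt N116871 (iv4 F502281)) (tt N118670 D221929) (tt N57854 (iv6 D197694)) (tt N75131 F405394))
theorem Q94658 : ∀ i, i < 94658 → P i := stepQ 94657 Q94657 (allL N94657 (tt N94561 (iv1 F405398)) (tt N57855 (iv0 D197695)) (tt N84794 (iv2 F405396)) (tt N110496 (iv3 F471844)) (tt N70239 F405395) (tt N101456 (iv5 F433028)) (tt N77121 (iv6 F405399)) (tt N94559 F405397))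
theorem Q94659 : ∀ i, i < 94659 → P i := stepQ 94658 Q94658 (allL N94658 (tt N118671 D221930) (tt N113467 (iv0 F485620)) (tt N94560 F405400) (tt N118670 (iv3 F511446)) (tt N110731 (iv4 F472928)) (tt N57855 (iv5 D197696)) (tt N70329 F405401) (tt N101348 (iv7 F432734)))
theorem Q94660 : ∀ i, i < 94660 → P i := stepQ 94659 Q94659 (allL N94659 (tt N94559 (iv1 F405406)) (tt N84794 F405407) (tt N94561 F405402) (tt N75131 F405403) (tt N57858 F405404) (tt N101348 (iv5 F432733)) (tt N75130 F405405) (tt N57855 (iv7 D197697)))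
theorem Q94661 : ∀ i, i < 94661 → P i := stepQ 94660 Q94660 (allL N94660 (tt N58212 F405410) (tt N58211 F405413) (tt N58213 F405408) (tt N110483 (iv3 F471791)) (tt N103164 (iv4 F440365)) (tt N57856 (iv5 D197698)) (tt N58168 (iv6 F405411)) (tt N57909 F405409))
theorem Q94662 : ∀ i, i < 94662 → P i := stepQ 94661 Q94661 (allL N94661 (tt N94565 F405419) (tt N94564 F405421) (tt N94563 F405414) (tt N93286 F405415) (tt N75130 F405416) (tt N93285 F405417) (tt N57858 (iv6 D197699)) (tt N57859 F405418))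
theorem Q94663 : ∀ i, i < 94663 → P i := stepQ 94662 Q94662 (allL N94662 (tt N62517 F405427) (tt N70131 (iv0 F405428)) (tt N94566 F405423) (tt N70125 F405424) (tt N108119 (iv4 F461184)) (tt N57859 (iv5 D197700)) (tt N57860 F405425) (tt N93285 F405426))
theorem Q94664 : ∀ i, i < 94664 → P i := stepQ 94663 Q94663 (allL N94663 (tt N101643 F433678) (tt N108469 (iv0 F462721)) (tt N94567 F405429) (tt N105894 (iv3 F452222)) (tt N57860 (iv4 D197701)) (tt N93367 F405431) (tt N108119 F461189) (tt N72849 F405430))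
theorem Q94665 : ∀ i, i < 94665 → P i := stepQ 94664 Q94664 (allL N94664 (tt N59673 F405435) (tt N92113 (iv0 F405436)) (tt N60368 F405432) (tt N58388 F405433) (tt N58817 F405434) (tt N95287 F407732) (tt N57863 (iv6 D197702)) (tt N95287 (iv7 F407730)))
theorem Q94666 : ∀ i, i < 94666 → P i := stepQ 94665 Q94665 (allL N94665 (tt N58076 (iv1 F405442)) (tt N58075 F405441) (tt N57865 (iv2 D197703)) (tt N57968 F405437) (tt N66274 F405438) (tt N96463 (iv5 F412631)) (tt N90385 F405439) (tt N58077 F405440))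
theorem Q94667 : ∀ i, i < 94667 → P i := stepQ 94666 Q94666 (allL N94666 (tt N72305 F405446) (tt N72308 F405447) (tt N57970 F405443) (tt N103087 (iv3 F440011)) (tt N84385 F405445) (tt N57866 (iv5 D197704)) (tt N105374 (iv6 F449945)) (tt N85329 F405444))
theorem Q94668 : ∀ i, i < 94668 → P i := stepQ 94667 Q94667 (allL N94667 (tt N70243 F405451) (tt N70242 (iv0 F405452)) (tt N57974 F405448) (tt N66269 F405449) (tt N74010 F405450) (tt N95954 (iv5 F410414)) (tt N57867 (iv6 D197705)) (tt N95954 (iv7 F410415)))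
theorem Q94669 : ∀ i, i < 94669 → P i := stepQ 94668 Q94668 (allL N94668 (tt N57977 (iv1 F405454)) (tt N57869 (iv0 D197706)) (tt N57976 (iv2 F405863)) (tt N95362 (iv3 F407992)) (tt N96453 (iv4 F412581)) (tt N57941 F405453) (tt N101534 F433276) (tt N57975 F405859))
theorem Q94670 : ∀ i, i < 94670 → P i := stepQ 94669 Q94669 (allL N94669 (tt N57869 (iv1 D197707)) (tt N57977 F405455) (tt N57975 F405864) (tt N111688 (iv3 F477491)) (tt N96419 (iv4 F412441)) (tt N57942 (iv5 F405456)) (tt N101150 (iv6 F431943)) (tt N57976 F405862))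
theorem Q94671 : ∀ i, i < 94671 → P i := stepQ 94670 Q94670 (allL N94670 (tt N107734 F459460) (tt N115435 (iv0 F495185)) (tt N95517 (iv2 F408438)) (tt N57870 (iv3 D197708)) (tt N71717 F405457) (tt N89780 F405458) (tt N80998 (iv6 F405460)) (tt N58087 F405459))
theorem Q94672 : ∀ i, i < 94672 → P i := stepQ 94671 Q94671 (allL N94671 (tt N81772 (iv1 F405465)) (tt N81771 (iv0 F405467)) (tt N58094 F405461) (tt N80998 F405462) (tt N65067 F405463) (tt N81007 (iv5 F405466)) (tt N57870 (iv6 D197709)) (tt N81773 F405464))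
theorem Q94673 : ∀ i, i < 94673 → P i := stepQ 94672 Q94672 (allL N94672 (tt N58098 F405472) (tt N58097 F405473) (tt N57873 F405469) (tt N58006 F405470) (tt N103878 (iv4 F443186)) (tt N57872 (iv5 D197710)) (tt N118672 D221931) (tt N58095 F405471))
theorem Q94674 : ∀ i, i < 94674 → P i := stepQ 94673 Q94673 (allL N94673 (tt N57873 (iv1 D197711)) (tt N58095 F405474) (tt N58097 (iv2 F405478)) (tt N58686 (iv3 F405477)) (tt N103516 (iv4 F441912)) (tt N57893 F405476) (tt N101368 (iv6 F432797)) (tt N58098 F405475))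
theorem Q94675 : ∀ i, i < 94675 → P i := stepQ 94674 Q94674 (allL N94674 (tt N98706 F421939) (tt N103512 (iv0 F441897)) (tt N103878 (iv2 F443185)) (tt N105377 (iv3 F449961)) (tt N57873 (iv4 D197712)) (tt N102789 (iv5 F438661)) (tt N104733 (iv6 F447035)) (tt N58099 F405479))
theorem Q94676 : ∀ i, i < 94676 → P i := stepQ 94675 Q94675 (allL N94675 (tt N118673 D221932) (tt N118640 (iv0 F511291)) (tt N118672 (iv2 F511457)) (tt N57875 F405480) (tt N104733 F447037) (tt N111406 (iv5 F476210)) (tt N57873 (iv6 D197713)) (tt N94637 F405481))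
theorem Q94677 : ∀ i, i < 94677 → P i := stepQ 94676 Q94676 (allL N94676 (tt N112264 F480277) (tt N114524 (iv0 F490597)) (tt N58022 F405482) (tt N111406 (iv3 F476209)) (tt N118176 (iv4 F509017)) (tt N57875 (iv5 D197714)) (tt N57878 F405483) (tt N118292 (iv7 F509557)))
theorem Q94678 : ∀ i, i < 94678 → P i := stepQ 94677 Q94677 (allL N94677 (tt N58021 (iv1 F405487)) (tt N58020 F405488) (tt N58023 F405484) (tt N94637 F405485) (tt N105381 (iv4 F449978)) (tt N118292 (iv5 F509558)) (tt N58107 F405486) (tt N57875 (iv7 D197715)))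
theorem Q94679 : ∀ i, i < 94679 → P i := stepQ 94678 Q94678 (allL N94678 (tt N63883 F405493) (tt N79805 (iv0 F405494)) (tt N79804 F405489) (tt N57876 (iv3 D197716)) (tt N58454 F405490) (tt N101573 F433427) (tt N91182 F405491) (tt N58026 F405492))
theorem Q94680 : ∀ i, i < 94680 → P i := stepQ 94679 Q94679 (allL N94679 (tt N59360 F405497) (tt N59556 F405498) (tt N58025 F405495) (tt N101573 F433426) (tt N96580 (iv4 F413065)) (tt N57876 (iv5 D197717)) (tt N108113 F461169) (tt N58027 F405496))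
theorem Q94681 : ∀ i, i < 94681 → P i := stepQ 94680 Q94680 (allL N94680 (tt N59556 F405501) (tt N59360 F405502) (tt N58027 F405499) (tt N118218 (iv3 F509216)) (tt N96579 (iv4 F413059)) (tt N57877 (iv5 D197718)) (tt N118674 D221933) (tt N58025 F405500))
theorem Q94682 : ∀ i, i < 94682 → P i := stepQ 94681 Q94681 (allL N94681 (tt N96589 (iv1 F413101)) (tt N96591 (iv0 F413108)) (tt N58031 F405503) (tt N113571 (iv3 F486075)) (tt N57878 (iv4 D197719)) (tt N117592 (iv5 F505882)) (tt N118176 (iv6 F509018)) (tt N118675 D221934))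
theorem Q94683 : ∀ i, i < 94683 → P i := stepQ 94682 Q94682 (allL N94682 (tt N58030 (iv1 F405507)) (tt N58029 F405508) (tt N58032 F405504) (tt N64989 F405505) (tt N118675 (iv4 F511476)) (tt N57879 F405506) (tt N65000 F405509) (tt N57878 (iv7 D197720)))
theorem Q94684 : ∀ i, i < 94684 → P i := stepQ 94683 Q94683 (allL N94683 (tt N59621 F405512) (tt N59374 F405513) (tt N58038 F405510) (tt N101963 (iv3 F435103)) (tt N108201 (iv4 F461479)) (tt N57880 (iv5 D197721)) (tt N108207 F461494) (tt N58035 F405511))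
theorem Q94685 : ∀ i, i < 94685 → P i := stepQ 94684 Q94684 (allL N94684 (tt N83570 F405516) (tt N82348 F405518) (tt N58003 F405514) (tt N97774 (iv3 F418257)) (tt N57882 (iv4 D197722)) (tt N118676 D221935) (tt N117056 (iv6 F503157)) (tt N57999 F405515))
theorem Q94686 : ∀ i, i < 94686 → P i := stepQ 94685 Q94685 (allL N94685 (tt N96315 F411984) (tt N94615 (iv0 F405522)) (tt N58005 F405519) (tt N73135 F405520) (tt N117056 (iv4 F503155)) (tt N73131 F405521) (tt N57882 (iv6 D197723)) (tt N96318 (iv7 F412003)))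
theorem Q94687 : ∀ i, i < 94687 → P i := stepQ 94686 Q94686 (allL N94686 (tt N96401 (iv1 F412349)) (tt N96404 (iv0 F412367)) (tt N97767 (iv2 F418223)) (tt N57883 (iv3 D197724)) (tt N93486 F405523) (tt N95051 (iv5 F406843)) (tt N93485 (iv6 F405525)) (tt N58002 F405524))
theorem Q94688 : ∀ i, i < 94688 → P i := stepQ 94687 Q94687 (allL N94687 (tt N96785 F413930) (tt N118677 D221936) (tt N58001 F405526) (tt N93485 F405527) (tt N102043 (iv4 F435481)) (tt N101568 F433416) (tt N57883 (iv6 D197725)) (tt N112142 (iv7 F479717)))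
theorem Q94689 : ∀ i, i < 94689 → P i := stepQ 94688 Q94688 (allL N94688 (tt N58009 (iv1 F405533)) (tt N58008 (iv0 F405531)) (tt N57885 F405528) (tt N58095 F405529) (tt N96952 (iv4 F414752)) (tt N57884 (iv5 D197726)) (tt N82137 (iv6 F405532)) (tt N58006 F405530))
theorem Q94690 : ∀ i, i < 94690 → P i := stepQ 94689 Q94689 (allL N94689 (tt N81697 (iv1 F405539)) (tt N86940 (iv0 F405538)) (tt N57886 F405534) (tt N58096 F405535) (tt N82554 F405536) (tt N82138 F405537) (tt N57884 (iv6 D197727)) (tt N82552 (iv7 F405540)))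
theorem Q94691 : ∀ i, i < 94691 → P i := stepQ 94690 Q94690 (allL N94690 (tt N58006 (iv1 F405543)) (tt N57885 (iv0 D197728)) (tt N58009 (iv2 F405542)) (tt N97653 (iv3 F417785)) (tt N59391 (iv4 F405545)) (tt N57904 F405541) (tt N110193 (iv6 F470369)) (tt N58008 F405544))
theorem Q94692 : ∀ i, i < 94692 → P i := stepQ 94691 Q94691 (allL N94691 (tt N109360 (iv1 F466569)) (tt N95696 (iv0 F409180)) (tt N96952 (iv2 F414751)) (tt N96316 (iv3 F411989)) (tt N57885 (iv4 D197729)) (tt N65663 F405547) (tt N96467 (iv6 F412644)) (tt N58010 F405546))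
theorem Q94693 : ∀ i, i < 94693 → P i := stepQ 94692 Q94692 (allL N94692 (tt N78155 (iv1 F405552)) (tt N78152 (iv0 F405551)) (tt N82137 F405548) (tt N57887 F405549) (tt N96467 (iv4 F412643)) (tt N65230 F405550) (tt N57885 (iv6 D197730)) (tt N101795 (iv7 F434382)))
theorem Q94694 : ∀ i, i < 94694 → P i := stepQ 94693 Q94693 (allL N94693 (tt N86940 (iv1 F405558)) (tt N81697 F405559) (tt N82552 F405553) (tt N57889 F405554) (tt N82530 F405555) (tt N82546 F405556) (tt N58015 F405557) (tt N57886 (iv7 D197731)))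
theorem Q94695 : ∀ i, i < 94695 → P i := stepQ 94694 Q94694 (allL N94694 (tt N110638 (iv1 F472540)) (tt N94371 F405563) (tt N58106 F405560) (tt N65230 F405561) (tt N82077 F405564) (tt N57887 (iv5 D197732)) (tt N57888 F405562) (tt N107168 (iv7 F457300)))
theorem Q94696 : ∀ i, i < 94696 → P i := stepQ 94695 Q94695 (allL N94695 (tt N57888 (iv1 D197733)) (tt N58116 F405567) (tt N58114 (iv2 F405570)) (tt N94805 (iv3 F406025)) (tt N107755 (iv4 F459575)) (tt N58217 (iv5 F405569)) (tt N94802 F406017) (tt N58113 F405568))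
theorem Q94697 : ∀ i, i < 94697 → P i := stepQ 94696 Q94696 (allL N94696 (tt N110698 (iv1 F472805)) (tt N61860 F405575) (tt N58115 F405572) (tt N82079 F405573) (tt N57888 (iv4 D197734)) (tt N107198 (iv5 F457431)) (tt N82077 F405574) (tt N110697 (iv7 F472801)))
theorem Q94698 : ∀ i, i < 94698 → P i := stepQ 94697 Q94697 (allL N94697 (tt N58114 (iv1 F405579)) (tt N58113 F405580) (tt N58116 F405576) (tt N82546 F405577) (tt N110697 (iv4 F472797)) (tt N57889 F405578) (tt N110135 (iv6 F470125)) (tt N57888 (iv7 D197735)))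
theorem Q94699 : ∀ i, i < 94699 → P i := stepQ 94698 Q94698 (allL N94698 (tt N101151 (iv1 F431947)) (tt N101150 F431944) (tt N96180 (iv2 F411362)) (tt N57890 (iv3 D197736)) (tt N96319 (iv4 F412006)) (tt N108952 F464635) (tt N59092 F405581) (tt N58119 F405582))
theorem Q94700 : ∀ i, i < 94700 → P i := stepQ 94699 Q94699 (allL N94699 (tt N95280 (iv1 F407704)) (tt N96417 F412433) (tt N58118 F405583) (tt N108952 (iv3 F464638)) (tt N99008 (iv4 F423019)) (tt N57890 (iv5 D197737)) (tt N99007 F423017) (tt N58120 F405584))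
theorem Q94701 : ∀ i, i < 94701 → P i := stepQ 94700 Q94700 (allL N94700 (tt N80581 (iv1 F405589)) (tt N96372 (iv0 F412278)) (tt N58683 F405585) (tt N57892 (iv3 D197738)) (tt N77791 F405588) (tt N85596 F405586) (tt N118028 (iv6 F508173)) (tt N58198 F405587))
theorem Q94702 : ∀ i, i < 94702 → P i := stepQ 94701 Q94701 (allL N94701 (tt N90459 (iv1 F405594)) (tt N58364 (iv0 F405593)) (tt N58202 F405591) (tt N118028 (iv3 F508170)) (tt N80011 F405592) (tt N95920 (iv5 F410263)) (tt N57892 (iv6 D197739)) (tt N96323 (iv7 F412030)))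
theorem Q94703 : ∀ i, i < 94703 → P i := stepQ 94702 Q94702 (allL N94702 (tt N58206 F405599) (tt N58205 F405600) (tt N57895 F405595) (tt N58153 F405596) (tt N66408 F405597) (tt N57894 (iv5 D197740)) (tt N114402 (iv6 F489973)) (tt N58203 F405598))
theorem Q94704 : ∀ i, i < 94704 → P i := stepQ 94703 Q94703 (allL N94703 (tt N90291 F406881) (tt N116915 (iv0 F502479)) (tt N114402 (iv2 F489971)) (tt N57897 F405601) (tt N103510 (iv4 F441886)) (tt N90320 (iv5 F406879)) (tt N57895 (iv6 D197741)) (tt N114421 (iv7 F490071)))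
theorem Q94705 : ∀ i, i < 94705 → P i := stepQ 94704 Q94704 (allL N94704 (tt N90268 F405603) (tt N101651 (iv0 F433706)) (tt N111377 (iv2 F476080)) (tt N57900 F405602) (tt N113744 (iv4 F486920)) (tt N57896 (iv5 D197742)) (tt N90320 (iv6 F406880)) (tt N111376 (iv7 F476076)))
theorem Q94706 : ∀ i, i < 94706 → P i := stepQ 94705 Q94705 (allL N94705 (tt N111028 (iv1 F474335)) (tt N118166 (iv0 F508963)) (tt N58167 F405605) (tt N90320 F406878) (tt N116537 (iv4 F500663)) (tt N57897 (iv5 D197745)) (tt N57900 F405606) (tt N117269 (iv7 F504205)))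
theorem Q94707 : ∀ i, i < 94707 → P i := stepQ 94706 Q94706 (allL N94706 (tt N58166 (iv1 F405610)) (tt N58165 F405611) (tt N58168 F405607) (tt N114421 F490073) (tt N105362 (iv4 F449890)) (tt N117269 (iv5 F504203)) (tt N58213 F405608) (tt N57897 (iv7 D197746)))
theorem Q94708 : ∀ i, i < 94708 → P i := stepQ 94707 Q94707 (allL N94707 (tt N80568 F405615) (tt N106773 (iv0 F455624)) (tt N95592 (iv2 F408804)) (tt N57898 (iv3 D197747)) (tt N58590 F405612) (tt N106801 (iv5 F455738)) (tt N64979 F405613) (tt N58171 F405614))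
theorem Q94709 : ∀ i, i < 94709 → P i := stepQ 94708 Q94708 (allL N94708 (tt N96413 (iv1 F412420)) (tt N96411 (iv0 F412402)) (tt N58170 F405616) (tt N106801 (iv3 F455742)) (tt N118283 (iv4 F509506)) (tt N57898 (iv5 D197748)) (tt N118678 D221937) (tt N58172 F405617))
theorem Q94710 : ∀ i, i < 94710 → P i := stepQ 94709 Q94709 (allL N94709 (tt N58177 (iv1 F405623)) (tt N57900 (iv0 D197749)) (tt N58174 (iv2 F405621)) (tt N106771 F455611) (tt N95173 (iv4 F407304)) (tt N58084 F405618) (tt N96552 (iv6 F412950)) (tt N58175 (iv7 F405622)))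
theorem Q94711 : ∀ i, i < 94711 → P i := stepQ 94710 Q94710 (allL N94710 (tt N57900 (iv1 D197750)) (tt N58177 F405624) (tt N58175 (iv2 F405627)) (tt N118679 D221938) (tt N95174 (iv4 F407308)) (tt N59419 F405626) (tt N117885 F507429) (tt N58174 F405625))
theorem Q94712 : ∀ i, i < 94712 → P i := stepQ 94711 Q94711 (allL N94711 (tt N73084 F405630) (tt N73054 (iv0 F405730)) (tt N58176 F405628) (tt N116197 (iv3 F498961)) (tt N57900 (iv4 D197751)) (tt N73065 F405629) (tt N116537 (iv6 F500664)) (tt N118680 D221939))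
theorem Q94713 : ∀ i, i < 94713 → P i := stepQ 94712 Q94712 (allL N94712 (tt N58175 (iv1 F405633)) (tt N58174 F405634) (tt N58177 F405631) (tt N111376 (iv3 F476075)) (tt N118680 (iv4 F511510)) (tt N57901 F405632) (tt N112775 (iv6 F482600)) (tt N57900 (iv7 D197752)))
theorem Q94714 : ∀ i, i < 94714 → P i := stepQ 94713 Q94713 (allL N94713 (tt N58156 (iv1 F405638)) (tt N58155 F405639) (tt N57907 F405635) (tt N58203 F405636) (tt N118681 D221940) (tt N57906 (iv5 D197753)) (tt N117719 F506607) (tt N58153 F405637))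
theorem Q94715 : ∀ i, i < 94715 → P i := stepQ 94714 Q94714 (allL N94714 (tt N107905 (iv1 F460205)) (tt N96540 F412916) (tt N57908 F405640) (tt N58204 F405641) (tt N65742 F405642) (tt N113319 (iv5 F485006)) (tt N57906 (iv6 D197754)) (tt N111024 (iv7 F474311)))
theorem Q94716 : ∀ i, i < 94716 → P i := stepQ 94715 Q94715 (allL N94715 (tt N118682 D221941) (tt N59508 F405646) (tt N118681 (iv2 F511514)) (tt N59505 F405643) (tt N57907 (iv4 D197755)) (tt N65585 F405645) (tt N109357 (iv6 F466551)) (tt N58157 F405644))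
theorem Q94717 : ∀ i, i < 94717 → P i := stepQ 94716 Q94716 (allL N94716 (tt N117720 (iv1 F506614)) (tt N76235 (iv0 F405649)) (tt N117719 (iv2 F506608)) (tt N57909 F405647) (tt N109357 (iv4 F466553)) (tt N66810 (iv5 F405648)) (tt N57907 (iv6 D197756)) (tt N110483 (iv7 F471793)))
theorem Q94718 : ∀ i, i < 94718 → P i := stepQ 94717 Q94717 (allL N94717 (tt N111024 (iv1 F474314)) (tt N57908 (iv0 D197757)) (tt N107905 (iv2 F460201)) (tt N80571 (iv3 F405651)) (tt N78395 F405650) (tt N96471 (iv5 F412659)) (tt N99358 (iv6 F424264)) (tt N96540 F412914))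
theorem Q94719 : ∀ i, i < 94719 → P i := stepQ 94718 Q94718 (allL N94718 (tt N57908 (iv1 D197758)) (tt N111024 (iv0 F474312)) (tt N96540 (iv2 F412912)) (tt N118364 (iv3 F509936)) (tt N78394 F405652) (tt N96472 F412666) (tt N96531 (iv6 F412875)) (tt N107905 (iv7 F460203)))
theorem Q94720 : ∀ i, i < 94720 → P i := stepQ 94719 Q94719 (allL N94719 (tt N91689 F405657) (tt N91685 (iv0 F405658)) (tt N113319 (iv2 F485003)) (tt N57912 F405653) (tt N83138 F405655) (tt N57908 (iv5 D197759)) (tt N66810 F405654) (tt N83135 F405656))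
theorem Q94721 : ∀ i, i < 94721 → P i := stepQ 94720 Q94720 (allL N94720 (tt N96540 F412915) (tt N107905 (iv0 F460206)) (tt N111024 (iv2 F474308)) (tt N57913 F405659) (tt N65748 F405660) (tt N83135 F405661) (tt N58162 F405662) (tt N57908 (iv7 D197760)))
theorem Q94722 : ∀ i, i < 94722 → P i := stepQ 94721 Q94721 (allL N94721 (tt N57909 (iv1 D197761)) (tt N58213 F405663) (tt N58212 (iv2 F405666)) (tt N85155 F405667) (tt N85654 F405665) (tt N100619 (iv5 F429726)) (tt N101406 (iv6 F432863)) (tt N58211 F405664))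
theorem Q94723 : ∀ i, i < 94723 → P i := stepQ 94722 Q94722 (allL N94722 (tt N58366 F405672) (tt N72270 (iv0 F405673)) (tt N58217 F405668) (tt N82361 F405669) (tt N74252 F405670) (tt N58114 F405671) (tt N57910 (iv6 D197762)) (tt N96326 (iv7 F412050)))
theorem Q94724 : ∀ i, i < 94724 → P i := stepQ 94723 Q94723 (allL N94723 (tt N58706 F405676) (tt N80566 F405677) (tt N80565 F405674) (tt N57911 (iv3 D197763)) (tt N96880 (iv4 F414417)) (tt N94957 F406501) (tt N94959 (iv6 F406507)) (tt N58214 F405675))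
theorem Q94725 : ∀ i, i < 94725 → P i := stepQ 94724 Q94724 (allL N94724 (tt N58355 F405682) (tt N96560 F412994) (tt N58222 F405678) (tt N108669 F463469) (tt N57915 F405679) (tt N72914 F405680) (tt N57914 (iv6 D197764)) (tt N72486 F405681))
theorem Q94726 : ∀ i, i < 94726 → P i := stepQ 94725 Q94725 (allL N94725 (tt N57936 (iv1 F405686)) (tt N102836 F438872) (tt N102834 (iv2 F438864)) (tt N57916 (iv3 D197765)) (tt N58187 F405684) (tt N105131 (iv5 F448928)) (tt N59086 (iv6 F405685)) (tt N58264 F405683))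
theorem Q94727 : ∀ i, i < 94727 → P i := stepQ 94726 Q94726 (allL N94726 (tt N65987 (iv1 F405690)) (tt N58681 (iv0 F405689)) (tt N58268 F405687) (tt N97387 (iv3 F416654)) (tt N57916 (iv4 D197766)) (tt N103444 (iv5 F441667)) (tt N103366 (iv6 F441304)) (tt N58265 F405688))
theorem Q94728 : ∀ i, i < 94728 → P i := stepQ 94727 Q94727 (allL N94727 (tt N96642 (iv1 F413292)) (tt N58353 (iv0 F405694)) (tt N58270 F405691) (tt N59086 F405692) (tt N103366 (iv4 F441302)) (tt N59084 F405693) (tt N57916 (iv6 D197767)) (tt N96342 (iv7 F412145)))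
theorem Q94729 : ∀ i, i < 94729 → P i := stepQ 94728 Q94728 (allL N94728 (tt N57945 F405697) (tt N58330 F405701) (tt N58266 F405695) (tt N112841 (iv3 F482899)) (tt N85632 (iv4 F405699)) (tt N57917 (iv5 D197768)) (tt N91728 F405698) (tt N58269 F405696))
theorem Q94730 : ∀ i, i < 94730 → P i := stepQ 94729 Q94729 (allL N94729 (tt N58274 F405706) (tt N58273 F405705) (tt N57919 F405702) (tt N58239 F405703) (tt N95929 (iv4 F410308)) (tt N57918 (iv5 D197769)) (tt N110025 (iv6 F469610)) (tt N58271 F405704))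
theorem Q94731 : ∀ i, i < 94731 → P i := stepQ 94730 Q94730 (allL N94730 (tt N102798 (iv1 F438691)) (tt N58999 (iv0 F405711)) (tt N95929 (iv2 F410306)) (tt N73436 F405707) (tt N57919 (iv4 D197770)) (tt N66344 F405710) (tt N85648 F405708) (tt N58275 F405709))
theorem Q94732 : ∀ i, i < 94732 → P i := stepQ 94731 Q94731 (allL N94731 (tt N109630 (iv1 F467839)) (tt N57920 (iv0 D197771)) (tt N96660 (iv2 F413349)) (tt N101892 (iv3 F434849)) (tt N81735 F405713) (tt N73746 F405712) (tt N96646 F413312) (tt N110223 (iv7 F470508)))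
theorem Q94733 : ∀ i, i < 94733 → P i := stepQ 94732 Q94732 (allL N94732 (tt N57920 (iv1 D197772)) (tt N109630 (iv0 F467838)) (tt N110223 F470506) (tt N65051 (iv3 F405716)) (tt N81733 F405715) (tt N73747 F405714) (tt N109337 (iv6 F466449)) (tt N96660 F413352))
theorem Q94734 : ∀ i, i < 94734 → P i := stepQ 94733 Q94733 (allL N94733 (tt N58259 (iv1 F405720)) (tt N57921 (iv0 D197773)) (tt N58256 (iv2 F405719)) (tt N72296 F405722) (tt N105361 (iv4 F449884)) (tt N73035 F405718) (tt N72295 F405717) (tt N58257 F405721))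
theorem Q94735 : ∀ i, i < 94735 → P i := stepQ 94734 Q94734 (allL N94734 (tt N57922 (iv1 D197774)) (tt N58263 F405723) (tt N58261 F405727) (tt N92921 (iv3 F405726)) (tt N73054 F405728) (tt N59405 F405725) (tt N103343 (iv6 F441207)) (tt N58260 F405724))
theorem Q94736 : ∀ i, i < 94736 → P i := stepQ 94735 Q94735 (allL N94735 (tt N95085 (iv1 F406979)) (tt N95088 (iv0 F406982)) (tt N58262 F405741) (tt N110116 (iv3 F470062)) (tt N57922 (iv4 D197775)) (tt N73042 F405742) (tt N110112 F470045) (tt N110127 (iv7 F470095)))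
theorem Q94737 : ∀ i, i < 94737 → P i := stepQ 94736 Q94736 (allL N94736 (tt N58290 F405749) (tt N58303 (iv0 F405748)) (tt N58302 (iv2 F405745)) (tt N57924 (iv3 D197777)) (tt N58134 F405744) (tt N103179 (iv5 F440433)) (tt N60520 (iv6 F405746)) (tt N58231 (iv7 F405747)))
theorem Q94738 : ∀ i, i < 94738 → P i := stepQ 94737 Q94737 (allL N94737 (tt N87000 F405759) (tt N87063 F405760) (tt N58236 F405757) (tt N115761 (iv3 F496719)) (tt N57924 (iv4 D197778)) (tt N89917 (iv5 F405761)) (tt N96349 (iv6 F412177)) (tt N58232 F405758))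
theorem Q94739 : ∀ i, i < 94739 → P i := stepQ 94738 Q94738 (allL N94738 (tt N58323 F405765) (tt N57947 F405764) (tt N58237 F405762) (tt N103179 (iv3 F440431)) (tt N96680 F413425) (tt N57924 (iv5 D197779)) (tt N115048 F493217) (tt N58233 F405763))
theorem Q94740 : ∀ i, i < 94740 → P i := stepQ 94739 Q94739 (allL N94739 (tt N95544 F408585) (tt N57931 (iv0 F405772)) (tt N73690 (iv2 F405774)) (tt N57925 (iv3 D197780)) (tt N73652 F405773) (tt N118683 D221942) (tt N91998 (iv6 F405775)) (tt N58235 F405766))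
theorem Q94741 : ∀ i, i < 94741 → P i := stepQ 94740 Q94740 (allL N94740 (tt N87063 F405769) (tt N87000 F405770) (tt N58232 F405767) (tt N59832 F405771) (tt N57925 (iv4 D197781)) (tt N102950 (iv5 F439395)) (tt N91999 (iv6 F405776)) (tt N58236 F405768))
theorem Q94742 : ∀ i, i < 94742 → P i := stepQ 94741 Q94741 (allL N94741 (tt N57947 F405781) (tt N58323 F405779) (tt N58233 F405777) (tt N118683 (iv3 F511528)) (tt N113767 (iv4 F487024)) (tt N57925 (iv5 D197782)) (tt N91612 F405780) (tt N58237 F405778))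
theorem Q94743 : ∀ i, i < 94743 → P i := stepQ 94742 Q94742 (allL N94742 (tt N58349 F407650) (tt N96607 F413158) (tt N58234 F405782) (tt N91998 F405783) (tt N91999 F405784) (tt N97361 (iv5 F416502)) (tt N57925 (iv6 D197783)) (tt N96353 (iv7 F412198)))
theorem Q94744 : ∀ i, i < 94744 → P i := stepQ 94743 Q94743 (allL N94743 (tt N111980 F478956) (tt N57927 (iv0 D197784)) (tt N114564 F490792) (tt N82507 F436025) (tt N111890 F478526) (tt N108141 F461282) (tt N117641 (iv6 F506163)) (tt N96627 (iv7 F436026)))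
theorem Q94745 : ∀ i, i < 94745 → P i := stepQ 94744 Q94744 (allL N94744 (tt N57927 (iv1 D197785)) (tt N111980 (iv0 F478955)) (tt N96627 (iv2 F413236)) (tt N81586 (iv3 F405785)) (tt N81021 (iv4 F405786)) (tt N116124 (iv5 F498598)) (tt N80989 (iv6 F405787)) (tt N114564 (iv7 F490794)))
theorem Q94746 : ∀ i, i < 94746 → P i := stepQ 94745 Q94745 (allL N94745 (tt N96627 (iv1 F413239)) (tt N114564 F490793) (tt N111980 (iv2 F478950)) (tt N57929 F405788) (tt N110598 (iv4 F472313)) (tt N114282 (iv5 F489379)) (tt N58251 F405789) (tt N57927 (iv7 D197786)))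
theorem Q94747 : ∀ i, i < 94747 → P i := stepQ 94746 Q94746 (allL N94746 (tt N102834 (iv1 F438860)) (tt N58264 (iv0 F405792)) (tt N102836 (iv2 F438869)) (tt N57930 (iv3 D197787)) (tt N71750 F405790) (tt N104617 (iv5 F446566)) (tt N79229 (iv6 F405793)) (tt N57936 F405791))
theorem Q94748 : ∀ i, i < 94748 → P i := stepQ 94747 Q94747 (allL N94747 (tt N58254 F405796) (tt N76241 F405799) (tt N57933 F405794) (tt N104617 (iv3 F446565)) (tt N66801 (iv4 F405798)) (tt N57930 (iv5 D197788)) (tt N78247 F405797) (tt N57938 F405795))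
theorem Q94749 : ∀ i, i < 94749 → P i := stepQ 94748 Q94748 (allL N94748 (tt N58178 F405804) (tt N59205 F405805) (tt N57934 F405800) (tt N79229 F405801) (tt N111474 (iv4 F476510)) (tt N78248 F405802) (tt N57930 (iv6 D197789)) (tt N93846 F405803))
theorem Q94750 : ∀ i, i < 94750 → P i := stepQ 94749 Q94749 (allL N94749 (tt N57931 (iv1 D197790)) (tt N95544 (iv0 F408584)) (tt N58235 F405808) (tt N58302 (iv3 F405807)) (tt N73691 F405809) (tt N118684 D221943) (tt N96369 (iv6 F412270)) (tt N73690 F405806))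
theorem Q94751 : ∀ i, i < 94751 → P i := stepQ 94750 Q94750 (allL N94750 (tt N73690 (iv1 F405811)) (tt N58235 (iv0 F405812)) (tt N57931 (iv2 D197791)) (tt N102836 (iv3 F438870)) (tt N59900 F405810) (tt N118685 D221944) (tt N106782 (iv6 F455662)) (tt N95544 (iv7 F408583)))
theorem Q94752 : ∀ i, i < 94752 → P i := stepQ 94751 Q94751 (allL N94751 (tt N114658 F491240) (tt N114722 F491536) (tt N118685 (iv2 F511539)) (tt N57933 F405813) (tt N112702 (iv4 F482248)) (tt N57931 (iv5 D197792)) (tt N93719 (iv6 F405814)) (tt N98230 F420071))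
theorem Q94753 : ∀ i, i < 94753 → P i := stepQ 94752 Q94752 (allL N94752 (tt N96171 (iv1 F411334)) (tt N96174 F411344) (tt N106782 (iv2 F455658)) (tt N57934 F405815) (tt N95548 (iv4 F408600)) (tt N106055 (iv5 F452922)) (tt N57931 (iv6 D197793)) (tt N106784 (iv7 F455668)))
theorem Q94754 : ∀ i, i < 94754 → P i := stepQ 94753 Q94753 (allL N94753 (tt N58235 (iv1 F405818)) (tt N73690 F405819) (tt N95544 (iv2 F408581)) (tt N57935 F405816) (tt N59901 F405817) (tt N98230 F420070) (tt N112840 (iv6 F482894)) (tt N57931 (iv7 D197794)))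
theorem Q94755 : ∀ i, i < 94755 → P i := stepQ 94754 Q94754 (allL N94754 (tt N96322 F412027) (tt N95611 (iv0 F408879)) (tt N96524 (iv2 F412846)) (tt N57932 (iv3 D197795)) (tt N95546 (iv4 F408588)) (tt N118686 D221945) (tt N101123 F431793) (tt N96567 (iv7 F413027)))
theorem Q94756 : ∀ i, i < 94756 → P i := stepQ 94755 Q94755 (allL N94755 (tt N115008 (iv1 F493037)) (tt N96535 (iv0 F412893)) (tt N118203 (iv2 F509126)) (tt N118686 (iv3 F511544)) (tt N117942 (iv4 F507709)) (tt N57932 (iv5 D197796)) (tt N118203 (iv6 F509128)) (tt N118202 (iv7 F509123)))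
theorem Q94757 : ∀ i, i < 94757 → P i := stepQ 94756 Q94756 (allL N94756 (tt N93825 (iv1 F405821)) (tt N93827 (iv0 F405822)) (tt N111474 (iv2 F476509)) (tt N101123 (iv3 F431791)) (tt N57934 F405820) (tt N111474 (iv5 F476511)) (tt N57932 (iv6 D197797)) (tt N118272 (iv7 F509456)))
theorem Q94758 : ∀ i, i < 94758 → P i := stepQ 94757 Q94757 (allL N94757 (tt N57938 (iv1 F405825)) (tt N57933 (iv0 D197798)) (tt N58254 (iv2 F405824)) (tt N58297 F405828) (tt N61238 F405823) (tt N81973 F405829) (tt N72971 (iv6 F405827)) (tt N76241 F405826))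
theorem Q94759 : ∀ i, i < 94759 → P i := stepQ 94758 Q94758 (allL N94758 (tt N102836 (iv1 F438873)) (tt N57936 (iv0 D197799)) (tt N58264 (iv2 F405831)) (tt N58293 F405832) (tt N58186 F405830) (tt N118687 D221946) (tt N96378 (iv6 F412304)) (tt N102834 (iv7 F438861)))
theorem Q94760 : ∀ i, i < 94760 → P i := stepQ 94759 Q94759 (allL N94759 (tt N118688 D221947) (tt N107739 (iv0 F459487)) (tt N102835 (iv2 F438866)) (tt N57938 F405833) (tt N67725 F405834) (tt N57936 (iv5 D197800)) (tt N66798 (iv6 F405835)) (tt N104617 (iv7 F446567)))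
theorem Q94761 : ∀ i, i < 94761 → P i := stepQ 94760 Q94760 (allL N94760 (tt N82510 (iv1 F405839)) (tt N112507 (iv0 F481416)) (tt N102833 (iv2 F438855)) (tt N57939 F405836) (tt N64077 F405837) (tt N89830 F405838) (tt N57936 (iv6 D197801)) (tt N112838 (iv7 F482882)))
theorem Q94762 : ∀ i, i < 94762 → P i := stepQ 94761 Q94761 (allL N94761 (tt N96535 F412894) (tt N115008 (iv0 F493036)) (tt N118202 (iv2 F509122)) (tt N96522 (iv3 F412839)) (tt N118689 D221948) (tt N57937 (iv5 D197802)) (tt N118690 D221949) (tt N118203 (iv7 F509129)))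
theorem Q94763 : ∀ i, i < 94763 → P i := stepQ 94762 Q94762 (allL N94762 (tt N118363 (iv1 F509934)) (tt N93834 (iv0 F412895)) (tt N111354 (iv2 F475972)) (tt N96523 (iv3 F412844)) (tt N57939 F405840) (tt N118609 (iv5 F511144)) (tt N57937 (iv6 D197803)) (tt N112839 (iv7 F482888)))
theorem Q94764 : ∀ i, i < 94764 → P i := stepQ 94763 Q94763 (allL N94763 (tt N97991 F419086) (tt N111006 (iv0 F474208)) (tt N57943 F405841) (tt N114534 (iv3 F490646)) (tt N57940 (iv4 D197804)) (tt N74841 F405842) (tt N111003 F474191) (tt N108837 (iv7 F464195)))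
theorem Q94765 : ∀ i, i < 94765 → P i := stepQ 94764 Q94764 (allL N94764 (tt N98215 F420021) (tt N105626 (iv0 F451015)) (tt N57944 F405843) (tt N58310 F405844) (tt N111003 (iv4 F474189)) (tt N82299 F405845) (tt N57940 (iv6 D197805)) (tt N82246 F405846))
theorem Q94766 : ∀ i, i < 94766 → P i := stepQ 94765 Q94765 (allL N94765 (tt N118683 F511532) (tt N118684 (iv0 F511537)) (tt N99886 (iv2 F426681)) (tt N57941 (iv3 D197807)) (tt N99855 (iv4 F426562)) (tt N95362 F407993) (tt N106478 (iv6 F454604)) (tt N105635 (iv7 F451052)))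
theorem Q94767 : ∀ i, i < 94767 → P i := stepQ 94766 Q94766 (allL N94766 (tt N98245 F420128) (tt N104175 F444538) (tt N117712 (iv2 F506568)) (tt N115342 (iv3 F494688)) (tt N57941 (iv4 D197808)) (tt N104072 (iv5 F444036)) (tt N60741 F420129) (tt N98255 (iv7 F420202)))
theorem Q94768 : ∀ i, i < 94768 → P i := stepQ 94767 Q94767 (allL N94767 (tt N110848 F473432) (tt N112827 (iv0 F482820)) (tt N117711 (iv2 F506564)) (tt N106478 (iv3 F454603)) (tt N60741 F420130) (tt N118691 D221950) (tt N57941 (iv6 D197809)) (tt N117714 (iv7 F506582)))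
theorem Q94769 : ∀ i, i < 94769 → P i := stepQ 94768 Q94768 (allL N94768 (tt N118687 (iv1 F511554)) (tt N105131 (iv0 F448929)) (tt N118692 D221951) (tt N57942 (iv3 D197811)) (tt N67726 (iv4 F405849)) (tt N111688 (iv5 F477492)) (tt N118664 (iv6 F511415)) (tt N111708 (iv7 F477595)))
theorem Q94770 : ∀ i, i < 94770 → P i := stepQ 94769 Q94769 (allL N94769 (tt N104175 F444539) (tt N98245 (iv0 F420131)) (tt N98255 (iv2 F420200)) (tt N98702 (iv3 F421914)) (tt N57942 (iv4 D197812)) (tt N104073 F444044) (tt N66814 (iv6 F405855)) (tt N117712 (iv7 F506572)))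
theorem Q94771 : ∀ i, i < 94771 → P i := stepQ 94770 Q94770 (allL N94770 (tt N61326 F405850) (tt N70193 (iv0 F405852)) (tt N70237 (iv2 F405854)) (tt N118664 (iv3 F511413)) (tt N66814 F405853) (tt N72208 F405851) (tt N57942 (iv6 D197813)) (tt N70236 (iv7 F405856)))
theorem Q94772 : ∀ i, i < 94772 → P i := stepQ 94771 Q94771 (allL N94771 (tt N108837 F464194) (tt N57943 (iv0 D197814)) (tt N97991 (iv2 F419082)) (tt N70656 (iv3 F405873)) (tt N118211 (iv4 F509173)) (tt N70653 F405872) (tt N70654 (iv6 F405874)) (tt N111006 (iv7 F474207)))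
theorem Q94773 : ∀ i, i < 94773 → P i := stepQ 94772 Q94772 (allL N94772 (tt N57943 (iv1 D197815)) (tt N108837 (iv0 F464193)) (tt N111006 (iv2 F474203)) (tt N75541 (iv3 F405866)) (tt N118210 (iv4 F509164)) (tt N99804 (iv5 F426297)) (tt N61328 (iv6 F419088)) (tt N97991 F419087))
theorem Q94774 : ∀ i, i < 94774 → P i := stepQ 94773 Q94773 (allL N94773 (tt N74843 F405871) (tt N60821 F405870) (tt N74841 F405867) (tt N83634 F405868) (tt N117941 (iv4 F507703)) (tt N57943 (iv5 D197816)) (tt N95896 (iv6 F410139)) (tt N74842 F405869))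
theorem Q94775 : ∀ i, i < 94775 → P i := stepQ 94774 Q94774 (allL N94774 (tt N82246 (iv1 F405879)) (tt N57944 (iv0 D197817)) (tt N98215 (iv2 F420017)) (tt N105611 (iv3 F450968)) (tt N66782 F405877) (tt N101414 (iv5 F432902)) (tt N61313 F405878) (tt N105626 (iv7 F451014)))
theorem Q94776 : ∀ i, i < 94776 → P i := stepQ 94775 Q94775 (allL N94775 (tt N58269 (iv1 F405885)) (tt N58266 F405884) (tt N57945 (iv2 D197818)) (tt N58323 F405880) (tt N85640 F405881) (tt N60697 F405882) (tt N101244 (iv6 F432377)) (tt N58330 F405883))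
theorem Q94777 : ∀ i, i < 94777 → P i := stepQ 94776 Q94776 (allL N94776 (tt N107833 F469614) (tt N118693 D221952) (tt N101244 (iv2 F432376)) (tt N57946 F405886) (tt N101218 F432254) (tt N118694 D221953) (tt N57945 (iv6 D197819)) (tt N101240 (iv7 F432358)))
theorem Q94778 : ∀ i, i < 94778 → P i := stepQ 94777 Q94777 (allL N94777 (tt N73512 F405890) (tt N73516 F405889) (tt N58328 F405887) (tt N118694 (iv3 F511579)) (tt N108216 (iv4 F461530)) (tt N57946 (iv5 D197820)) (tt N60699 F405888) (tt N118695 D221954))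
theorem Q94779 : ∀ i, i < 94779 → P i := stepQ 94778 Q94778 (allL N94778 (tt N58327 (iv1 F405894)) (tt N58326 F405895) (tt N58329 F405891) (tt N101240 F432359) (tt N72879 F405892) (tt N118695 (iv5 F511588)) (tt N58335 F405893) (tt N57946 (iv7 D197821)))
theorem Q94780 : ∀ i, i < 94780 → P i := stepQ 94779 Q94779 (allL N94779 (tt N115048 (iv1 F493214)) (tt N115047 F493211) (tt N90711 F405897) (tt N57949 (iv3 D197822)) (tt N71205 (iv4 F405899)) (tt N114930 (iv5 F492597)) (tt N107705 (iv6 F459310)) (tt N58341 F405898))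
theorem Q94781 : ∀ i, i < 94781 → P i := stepQ 94780 Q94780 (allL N94780 (tt N70879 F405903) (tt N99329 F424125) (tt N58345 F405900) (tt N114930 (iv3 F492595)) (tt N101070 (iv4 F431532)) (tt N57949 (iv5 D197823)) (tt N73095 F405901) (tt N58342 F405902))
theorem Q94782 : ∀ i, i < 94782 → P i := stepQ 94781 Q94781 (allL N94781 (tt N65557 (iv1 F405909)) (tt N57951 (iv0 D197824)) (tt N65556 F405920) (tt N96976 (iv3 F414884)) (tt N97772 (iv4 F418247)) (tt N65537 F405907) (tt N93232 (iv6 F405910)) (tt N65555 (iv7 F405922)))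
theorem Q94783 : ∀ i, i < 94783 → P i := stepQ 94782 Q94782 (allL N94782 (tt N57951 (iv1 D197825)) (tt N65557 F405915) (tt N65555 (iv2 F405924)) (tt N102130 (iv3 F435874)) (tt N97046 (iv4 F415204)) (tt N65538 (iv5 F405916)) (tt N112382 (iv6 F480836)) (tt N65556 F405923))
theorem Q94784 : ∀ i, i < 94784 → P i := stepQ 94783 Q94783 (allL N94783 (tt N65556 (iv1 F405917)) (tt N65555 F405914) (tt N57951 (iv2 D197826)) (tt N58474 F405911) (tt N60445 F405912) (tt N102000 (iv5 F435303)) (tt N97855 (iv6 F418527)) (tt N65557 F405913))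
theorem Q94785 : ∀ i, i < 94785 → P i := stepQ 94784 Q94784 (allL N94784 (tt N112810 F482722) (tt N79189 (iv0 F405929)) (tt N102088 (iv2 F435663)) (tt N118696 D221955) (tt N57952 (iv4 D197828)) (tt N95225 (iv5 F407488)) (tt N81225 F407489) (tt N102085 (iv7 F435651)))
theorem Q94786 : ∀ i, i < 94786 → P i := stepQ 94785 Q94785 (allL N94785 (tt N96746 (iv1 F413749)) (tt N65799 (iv0 F405933)) (tt N87720 (iv2 F405935)) (tt N57953 (iv3 D197830)) (tt N87709 F405934) (tt N102174 (iv5 F436040)) (tt N87711 (iv6 F405936)) (tt N102087 (iv7 F435660)))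
theorem Q94787 : ∀ i, i < 94787 → P i := stepQ 94786 Q94786 (allL N94786 (tt N79189 F405931) (tt N112810 (iv0 F482721)) (tt N102085 (iv2 F435650)) (tt N72854 F405932) (tt N57953 (iv4 D197831)) (tt N95155 (iv5 F407255)) (tt N101508 (iv6 F433197)) (tt N102088 (iv7 F435664)))
theorem Q94788 : ∀ i, i < 94788 → P i := stepQ 94787 Q94787 (allL N94787 (tt N65739 F405948) (tt N65737 F405942) (tt N57955 F405938) (tt N65790 F405939) (tt N65591 (iv4 F405943)) (tt N57954 (iv5 D197832)) (tt N102060 (iv6 F435550)) (tt N65776 F405940))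
theorem Q94789 : ∀ i, i < 94789 → P i := stepQ 94788 Q94788 (allL N94788 (tt N65776 (iv1 F405949)) (tt N57955 (iv0 D197833)) (tt N65739 (iv2 F405951)) (tt N117689 (iv3 F506430)) (tt N102194 F436124) (tt N58133 F405950) (tt N117688 (iv6 F506428)) (tt N65737 (iv7 F405952)))
theorem Q94790 : ∀ i, i < 94790 → P i := stepQ 94789 Q94789 (allL N94789 (tt N57955 (iv1 D197834)) (tt N65776 F405953) (tt N65737 (iv2 F405956)) (tt N65797 F411042) (tt N97428 (iv4 F416856)) (tt N58134 F405955) (tt N97427 F416853) (tt N65739 F405954))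
theorem Q94791 : ∀ i, i < 94791 → P i := stepQ 94790 Q94790 (allL N94790 (tt N65588 F405960) (tt N65509 F405961) (tt N65591 F405957) (tt N95045 (iv3 F406794)) (tt N57955 (iv4 D197835)) (tt N59604 F405959) (tt N118697 D221956) (tt N65590 F405958))
theorem Q94792 : ∀ i, i < 94792 → P i := stepQ 94791 Q94791 (allL N94791 (tt N102062 (iv1 F435561)) (tt N102051 (iv0 F435516)) (tt N102060 F435551) (tt N57957 F405962) (tt N118697 (iv4 F511599)) (tt N111653 (iv5 F477319)) (tt N57955 (iv6 D197836)) (tt N65773 F405963))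
theorem Q94793 : ∀ i, i < 94793 → P i := stepQ 94792 Q94792 (allL N94792 (tt N82553 (iv1 F405965)) (tt N57956 (iv0 D197837)) (tt N101542 (iv2 F433314)) (tt N118698 D221957) (tt N79185 F405964) (tt N115373 (iv5 F494867)) (tt N60462 F431247) (tt N101538 F433302))
theorem Q94794 : ∀ i, i < 94794 → P i := stepQ 94793 Q94793 (allL N94793 (tt N57956 (iv1 D197838)) (tt N82553 F405966) (tt N101538 (iv2 F433304)) (tt N82567 (iv3 F405969)) (tt N79186 F405967) (tt N78512 (iv5 F405968)) (tt N103908 (iv6 F443315)) (tt N101542 (iv7 F433316)))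
theorem Q94795 : ∀ i, i < 94795 → P i := stepQ 94794 Q94794 (allL N94794 (tt N65796 (iv1 F405975)) (tt N57957 (iv0 D197839)) (tt N65793 F416875) (tt N102051 (iv3 F435515)) (tt N97431 (iv4 F416869)) (tt N114246 (iv5 F489195)) (tt N101966 (iv6 F435124)) (tt N65794 F416877))
theorem Q94796 : ∀ i, i < 94796 → P i := stepQ 94795 Q94795 (allL N94795 (tt N57957 (iv1 D197840)) (tt N65796 F405970) (tt N65794 (iv2 F416878)) (tt N101971 (iv3 F435149)) (tt N97432 (iv4 F416883)) (tt N103465 (iv5 F441745)) (tt N102101 (iv6 F435728)) (tt N65793 (iv7 F416879)))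
theorem Q94797 : ∀ i, i < 94797 → P i := stepQ 94796 Q94796 (allL N94796 (tt N65794 (iv1 F405976)) (tt N65793 (iv0 F405978)) (tt N65796 F405971) (tt N65773 F405972) (tt N101979 (iv4 F435191)) (tt N68822 F405973) (tt N65771 F405974) (tt N57957 (iv7 D197841)))
theorem Q94798 : ∀ i, i < 94798 → P i := stepQ 94797 Q94797 (allL N94797 (tt N62622 (iv1 F405984)) (tt N62621 F405985) (tt N62623 F405979) (tt N57965 F405980) (tt N77904 F405981) (tt N60063 F405982) (tt N66263 F405983) (tt N57962 (iv7 D197842)))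
theorem Q94799 : ∀ i, i < 94799 → P i := stepQ 94798 Q94798 (allL N94798 (tt N95273 F407673) (tt N94445 F405991) (tt N74053 F405986) (tt N60111 F405987) (tt N78147 F405988) (tt N57964 (iv5 D197843)) (tt N59615 F405989) (tt N65858 F405990))
theorem Q94800 : ∀ i, i < 94800 → P i := stepQ 94799 Q94799 (allL N94799 (tt N108573 F463109) (tt N117799 (iv0 F507033)) (tt N98843 F422541) (tt N107359 (iv3 F458088)) (tt N57966 (iv4 D197845)) (tt N118474 (iv5 F510566)) (tt N118699 D221958) (tt N117840 (iv7 F507213)))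
theorem Q94801 : ∀ i, i < 94801 → P i := stepQ 94800 Q94800 (allL N94800 (tt N93287 F405993) (tt N70127 F405995) (tt N93290 F405996) (tt N114661 (iv3 F491255)) (tt N118700 D221959) (tt N57966 (iv5 D197846)) (tt N58089 (iv6 F405994)) (tt N93289 (iv7 F406023)))
theorem Q94802 : ∀ i, i < 94802 → P i := stepQ 94801 Q94801 (allL N94801 (tt N101528 (iv1 F433262)) (tt N72952 (iv0 F406015)) (tt N81960 F406013) (tt N116856 (iv3 F502193)) (tt N118699 (iv4 F511610)) (tt N58090 F406014) (tt N57966 (iv6 D197847)) (tt N96516 (iv7 F412816)))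
theorem Q94803 : ∀ i, i < 94803 → P i := stepQ 94802 Q94802 (allL N94802 (tt N73107 F407156) (tt N72939 (iv0 F407157)) (tt N94987 (iv2 F406572)) (tt N57967 (iv3 D197848)) (tt N117298 (iv4 F504344)) (tt N95129 (iv5 F407155)) (tt N94695 (iv6 F406017)) (tt N81963 F406016))
theorem Q94804 : ∀ i, i < 94804 → P i := stepQ 94803 Q94803 (allL N94803 (tt N117799 F507034) (tt N108573 (iv0 F463108)) (tt N117840 (iv2 F507211)) (tt N74269 F406018) (tt N57967 (iv4 D197849)) (tt N118473 (iv5 F510559)) (tt N117146 F503626) (tt N98843 F422542))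
theorem Q94805 : ∀ i, i < 94805 → P i := stepQ 94804 Q94804 (allL N94804 (tt N70127 F406020) (tt N93287 F406024) (tt N93289 F406021) (tt N95129 (iv3 F407153)) (tt N118701 D221960) (tt N57967 (iv5 D197850)) (tt N95127 F407146) (tt N93290 F406019))
theorem Q94806 : ∀ i, i < 94806 → P i := stepQ 94805 Q94805 (allL N94805 (tt N72936 F406026) (tt N90363 F407151) (tt N117841 (iv2 F507217)) (tt N94695 F406025) (tt N117146 (iv4 F503621)) (tt N95128 (iv5 F407149)) (tt N57967 (iv6 D197851)) (tt N94983 (iv7 F406570)))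
theorem Q94807 : ∀ i, i < 94807 → P i := stepQ 94806 Q94806 (allL N94806 (tt N86193 F406028) (tt N114994 F492969) (tt N114992 F492958) (tt N57970 F406027) (tt N105560 (iv4 F450736)) (tt N57969 (iv5 D197852)) (tt N105559 F450733) (tt N114993 (iv7 F492962)))
theorem Q94808 : ∀ i, i < 94808 → P i := stepQ 94807 Q94807 (allL N94807 (tt N72308 (iv1 F406032)) (tt N72305 F406033) (tt N85329 F406029) (tt N114993 F492963) (tt N85328 F406030) (tt N57971 F406031) (tt N96551 F412946) (tt N57970 (iv7 D197853)))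
theorem Q94809 : ∀ i, i < 94809 → P i := stepQ 94808 Q94808 (allL N94808 (tt N95915 (iv1 F410243)) (tt N66504 (iv0 F406037)) (tt N58987 F406034) (tt N71517 F406035) (tt N72456 F406036) (tt N96003 (iv5 F410587)) (tt N57973 (iv6 D197854)) (tt N96003 (iv7 F410593)))
theorem Q94810 : ∀ i, i < 94810 → P i := stepQ 94809 Q94809 (allL N94809 (tt N115437 F495199) (tt N118696 (iv0 F511596)) (tt N95360 (iv2 F407988)) (tt N57975 (iv3 D197855)) (tt N59799 F406038) (tt N105635 (iv5 F451050)) (tt N91840 (iv6 F406039)) (tt N95362 (iv7 F407991)))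
theorem Q94811 : ∀ i, i < 94811 → P i := stepQ 94810 Q94810 (allL N94810 (tt N94848 F406130) (tt N93842 F406131) (tt N96419 F412442) (tt N96497 F412762) (tt N57975 (iv4 D197856)) (tt N114912 F492496) (tt N115438 (iv6 F495202)) (tt N96453 (iv7 F412584)))
theorem Q94812 : ∀ i, i < 94812 → P i := stepQ 94811 Q94811 (allL N94811 (tt N96180 F411366) (tt N58119 (iv0 F406041)) (tt N101150 F431945) (tt N91840 F406040) (tt N115438 (iv4 F495201)) (tt N110838 (iv5 F473387)) (tt N57975 (iv6 D197857)) (tt N101151 (iv7 F431948)))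
theorem Q94813 : ∀ i, i < 94813 → P i := stepQ 94812 Q94812 (allL N94812 (tt N93842 (iv1 F412445)) (tt N94848 F412446) (tt N96453 F412582) (tt N95777 (iv3 F409596)) (tt N57976 (iv4 D197858)) (tt N118204 F509133) (tt N96011 F410622) (tt N96419 (iv7 F412440)))
theorem Q94814 : ∀ i, i < 94814 → P i := stepQ 94813 Q94813 (allL N94813 (tt N101128 F431826) (tt N72908 (iv0 F406045)) (tt N112138 (iv2 F479699)) (tt N57980 (iv3 D197859)) (tt N74644 F406042) (tt N80600 F406043) (tt N103274 (iv6 F440927)) (tt N96784 (iv7 F413925)))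
theorem Q94815 : ∀ i, i < 94815 → P i := stepQ 94814 Q94814 (allL N94814 (tt N81773 (iv1 F406049)) (tt N58094 (iv0 F406048)) (tt N81772 F406050) (tt N57984 (iv3 D197860)) (tt N95768 (iv4 F409547)) (tt N101119 (iv5 F431769)) (tt N95291 (iv6 F407747)) (tt N81771 F406047))
theorem Q94816 : ∀ i, i < 94816 → P i := stepQ 94815 Q94815 (allL N94815 (tt N58001 F412411) (tt N112142 (iv0 F479718)) (tt N118677 (iv2 F511494)) (tt N57985 (iv3 D197861)) (tt N95817 (iv4 F409780)) (tt N101120 (iv5 F431773)) (tt N96412 (iv6 F412406)) (tt N96785 (iv7 F413929)))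
theorem Q94817 : ∀ i, i < 94817 → P i := stepQ 94816 Q94816 (allL N94816 (tt N102085 F435652) (tt N102088 (iv0 F435665)) (tt N112810 (iv2 F482716)) (tt N57986 (iv3 D197862)) (tt N66058 F406051) (tt N58314 F406052) (tt N72218 F406053) (tt N79189 F406054))
theorem Q94818 : ∀ i, i < 94818 → P i := stepQ 94817 Q94817 (allL N94817 (tt N95688 (iv1 F409150)) (tt N95672 (iv0 F409080)) (tt N95215 (iv2 F407447)) (tt N72945 F406055) (tt N57987 (iv4 D197863)) (tt N62412 F406056) (tt N73507 F406057) (tt N86272 F406058))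
theorem Q94819 : ∀ i, i < 94819 → P i := stepQ 94818 Q94818 (allL N94818 (tt N58002 F412293) (tt N97767 (iv0 F418227)) (tt N96401 (iv2 F412346)) (tt N57988 (iv3 D197864)) (tt N96307 F411951) (tt N118210 (iv5 F509163)) (tt N112637 (iv6 F481943)) (tt N96404 (iv7 F412366)))
theorem Q94820 : ∀ i, i < 94820 → P i := stepQ 94819 Q94819 (allL N94819 (tt N105429 (iv1 F450227)) (tt N58016 (iv0 F406062)) (tt N105431 F450242) (tt N118210 (iv3 F509165)) (tt N75540 F406060) (tt N57988 (iv5 D197865)) (tt N89878 F406061) (tt N105430 F450235))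
theorem Q94821 : ∀ i, i < 94821 → P i := stepQ 94820 Q94820 (allL N94820 (tt N82351 F450229) (tt N58111 F450230) (tt N107735 (iv2 F459462)) (tt N112637 (iv3 F481942)) (tt N111812 (iv4 F478105)) (tt N118702 D221961) (tt N57988 (iv6 D197866)) (tt N107756 (iv7 F459581)))
theorem Q94822 : ∀ i, i < 94822 → P i := stepQ 94821 Q94821 (allL N94821 (tt N95517 F408444) (tt N58087 (iv0 F406064)) (tt N115435 (iv2 F495181)) (tt N57989 (iv3 D197867)) (tt N87798 F406063) (tt N116770 (iv5 F501734)) (tt N79796 (iv6 F433499)) (tt N107734 (iv7 F459458)))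
theorem Q94823 : ∀ i, i < 94823 → P i := stepQ 94822 Q94822 (allL N94822 (tt N58016 F409812) (tt N105429 (iv0 F450228)) (tt N105430 F450234) (tt N116770 (iv3 F501732)) (tt N98703 (iv4 F421920)) (tt N57989 (iv5 D197868)) (tt N118703 D221962) (tt N105431 (iv7 F450237)))
theorem Q94824 : ∀ i, i < 94824 → P i := stepQ 94823 Q94823 (allL N94823 (tt N58024 F444321) (tt N104127 F444322) (tt N107733 (iv2 F459449)) (tt N79796 F433500) (tt N109278 (iv4 F466151)) (tt N118704 D221963) (tt N57989 (iv6 D197869)) (tt N111047 (iv7 F474413)))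
theorem Q94825 : ∀ i, i < 94825 → P i := stepQ 94824 Q94824 (allL N94824 (tt N95035 (iv1 F406748)) (tt N85300 F406066) (tt N57991 F406065) (tt N95065 (iv3 F406916)) (tt N89853 (iv4 F406067)) (tt N57990 (iv5 D197870)) (tt N111018 (iv6 F474280)) (tt N95064 (iv7 F406913)))
theorem Q94826 : ∀ i, i < 94826 → P i := stepQ 94825 Q94825 (allL N94825 (tt N95064 (iv1 F406914)) (tt N57991 (iv0 D197871)) (tt N95035 (iv2 F406744)) (tt N96105 (iv3 F411074)) (tt N85303 F406069) (tt N70199 F406068) (tt N96104 (iv6 F411072)) (tt N85300 (iv7 F406070)))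
theorem Q94827 : ∀ i, i < 94827 → P i := stepQ 94826 Q94826 (allL N94826 (tt N107728 (iv1 F459423)) (tt N58018 (iv0 F406073)) (tt N99899 (iv2 F426730)) (tt N59960 F406071) (tt N99859 (iv4 F426583)) (tt N57993 (iv5 D197872)) (tt N115096 (iv6 F493465)) (tt N94652 F406072))
theorem Q94828 : ∀ i, i < 94828 → P i := stepQ 94827 Q94827 (allL N94827 (tt N66585 F406107) (tt N57998 F406108) (tt N59954 F406074) (tt N57994 (iv3 D197873)) (tt N97524 F417248) (tt N113265 (iv5 F484778)) (tt N117036 (iv6 F503076)) (tt N97766 (iv7 F418220)))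
theorem Q94829 : ∀ i, i < 94829 → P i := stepQ 94828 Q94828 (allL N94828 (tt N58018 F406076) (tt N107728 (iv0 F459422)) (tt N94652 F406075) (tt N113265 (iv3 F484776)) (tt N99900 (iv4 F426735)) (tt N57994 (iv5 D197874)) (tt N82259 (iv6 F406077)) (tt N99899 (iv7 F426734)))
theorem Q94830 : ∀ i, i < 94830 → P i := stepQ 94829 Q94829 (allL N94829 (tt N95041 (iv1 F406776)) (tt N95038 F406760) (tt N57996 F406078) (tt N95064 (iv3 F406910)) (tt N108811 (iv4 F464067)) (tt N57995 (iv5 D197875)) (tt N72943 F406079) (tt N95065 (iv7 F406919)))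
theorem Q94831 : ∀ i, i < 94831 → P i := stepQ 94830 Q94830 (allL N94830 (tt N96435 F412505) (tt N81958 (iv0 F406083)) (tt N57997 F406080) (tt N82022 F406081) (tt N96826 (iv4 F414145)) (tt N72944 F406082) (tt N57995 (iv6 D197876)) (tt N82028 (iv7 F406084)))
theorem Q94832 : ∀ i, i < 94832 → P i := stepQ 94831 Q94831 (allL N94831 (tt N57996 (iv1 D197877)) (tt N95065 F406921) (tt N95038 F406778) (tt N95681 (iv3 F409119)) (tt N108292 (iv4 F461921)) (tt N72886 (iv5 F406779)) (tt N118705 D221964) (tt N95041 F406777))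
theorem Q94833 : ∀ i, i < 94833 → P i := stepQ 94832 Q94832 (allL N94832 (tt N109116 F465414) (tt N112702 (iv0 F482249)) (tt N108811 (iv2 F464064)) (tt N73507 F406085) (tt N57996 (iv4 D197878)) (tt N62925 (iv5 F406088)) (tt N72945 F406086) (tt N82861 F406087))
theorem Q94834 : ∀ i, i < 94834 → P i := stepQ 94833 Q94833 (allL N94833 (tt N82028 (iv1 F406091)) (tt N57997 (iv0 D197879)) (tt N96435 (iv2 F412501)) (tt N79458 F406089) (tt N79463 F406090) (tt N94633 F406093) (tt N94947 F406459) (tt N81958 (iv7 F406092)))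
theorem Q94835 : ∀ i, i < 94835 → P i := stepQ 94834 Q94834 (allL N94834 (tt N57997 (iv1 D197880)) (tt N82028 F406094) (tt N81958 F406097) (tt N101799 (iv3 F434391)) (tt N91189 (iv4 F406095)) (tt N94624 (iv5 F406096)) (tt N91183 (iv6 F406098)) (tt N96435 (iv7 F412507)))
theorem Q94836 : ∀ i, i < 94836 → P i := stepQ 94835 Q94835 (allL N94835 (tt N57998 (iv1 D197882)) (tt N66585 F406102) (tt N97766 F418221) (tt N58471 (iv3 F406103)) (tt N74660 F406104) (tt N113266 (iv5 F484782)) (tt N64151 F406105) (tt N59954 F406106))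
theorem Q94837 : ∀ i, i < 94837 → P i := stepQ 94836 Q94836 (allL N94836 (tt N95681 (iv1 F409120)) (tt N95683 F409128) (tt N95682 (iv2 F409123)) (tt N58000 F406109) (tt N58999 F406111) (tt N57998 (iv5 D197883)) (tt N118652 (iv6 F511358)) (tt N73132 F406110))
theorem Q94838 : ∀ i, i < 94838 → P i := stepQ 94837 Q94837 (allL N94837 (tt N118209 F509162) (tt N81769 (iv0 F412414)) (tt N97768 (iv2 F418230)) (tt N58001 F406112) (tt N66588 F406113) (tt N59509 (iv5 F412910)) (tt N57998 (iv6 D197884)) (tt N118706 D221965))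
theorem Q94839 : ∀ i, i < 94839 → P i := stepQ 94838 Q94838 (allL N94838 (tt N57999 (iv1 D197885)) (tt N58003 F406114) (tt N83570 (iv2 F406116)) (tt N96978 (iv3 F414895)) (tt N111386 (iv4 F476115)) (tt N118707 D221966) (tt N83569 (iv6 F406117)) (tt N82348 F406115))
theorem Q94840 : ∀ i, i < 94840 → P i := stepQ 94839 Q94839 (allL N94839 (tt N97486 F417056) (tt N97484 (iv0 F417045)) (tt N101974 (iv2 F435165)) (tt N57999 (iv3 D197886)) (tt N66587 F406118) (tt N102029 (iv5 F435434)) (tt N103282 F440971) (tt N97774 (iv7 F418258)))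
theorem Q94841 : ∀ i, i < 94841 → P i := stepQ 94840 Q94840 (allL N94840 (tt N65892 (iv1 F406121)) (tt N97446 (iv0 F416934)) (tt N65668 F406119) (tt N102029 F435435) (tt N65664 F406120) (tt N57999 (iv5 D197887)) (tt N118708 D221967) (tt N118676 (iv7 F511485)))
theorem Q94842 : ∀ i, i < 94842 → P i := stepQ 94841 Q94841 (allL N94841 (tt N80443 F412413) (tt N103437 F441633) (tt N102043 (iv2 F435479)) (tt N103282 F440970) (tt N58001 F406122) (tt N111872 (iv5 F478428)) (tt N57999 (iv6 D197888)) (tt N103435 F441623))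
theorem Q94843 : ∀ i, i < 94843 → P i := stepQ 94842 Q94842 (allL N94842 (tt N112020 (iv1 F479107)) (tt N100831 (iv0 F430686)) (tt N95052 (iv2 F406853)) (tt N118652 (iv3 F511357)) (tt N59610 F406123) (tt N100826 (iv5 F430654)) (tt N58000 (iv6 D197889)) (tt N106936 (iv7 F456348)))
theorem Q94844 : ∀ i, i < 94844 → P i := stepQ 94843 Q94843 (allL N94843 (tt N112142 F479719) (tt N58001 (iv0 D197890)) (tt N96785 (iv2 F413931)) (tt N81772 F413932) (tt N97770 (iv4 F418243)) (tt N112485 (iv5 F481295)) (tt N72342 F406124) (tt N118677 (iv7 F511489)))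
theorem Q94845 : ∀ i, i < 94845 → P i := stepQ 94844 Q94844 (allL N94844 (tt N101563 (iv1 F433405)) (tt N59511 (iv0 F406125)) (tt N101568 (iv2 F433415)) (tt N59509 F412909) (tt N97598 (iv4 F417542)) (tt N58001 (iv5 D197892)) (tt N100826 F430658) (tt N97597 (iv7 F417536)))
theorem Q94846 : ∀ i, i < 94846 → P i := stepQ 94845 Q94845 (allL N94845 (tt N118677 (iv1 F511488)) (tt N96785 (iv0 F417538)) (tt N112142 F479720) (tt N118706 (iv3 F511648)) (tt N103435 (iv4 F441621)) (tt N97597 F417537) (tt N96318 F412004) (tt N58001 (iv7 D197893)))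
theorem Q94847 : ∀ i, i < 94847 → P i := stepQ 94846 Q94846 (allL N94846 (tt N97767 (iv1 F418228)) (tt N58002 (iv0 D197894)) (tt N96404 (iv2 F412363)) (tt N115435 (iv3 F495182)) (tt N96306 (iv4 F411940)) (tt N118211 (iv5 F509172)) (tt N94423 F411943) (tt N96401 (iv7 F412348)))
theorem Q94848 : ∀ i, i < 94848 → P i := stepQ 94847 Q94847 (allL N94847 (tt N96404 F412368) (tt N96401 (iv0 F412350)) (tt N58002 (iv2 D197896)) (tt N66585 F406126) (tt N59430 (iv4 F406127)) (tt N98232 (iv5 F420076)) (tt N118709 D221968) (tt N97767 (iv7 F418226)))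
theorem Q94849 : ∀ i, i < 94849 → P i := stepQ 94848 Q94848 (allL N94848 (tt N94812 (iv1 F412446)) (tt N94810 (iv0 F406130)) (tt N59430 F406128) (tt N101972 (iv3 F435156)) (tt N58002 (iv4 D197897)) (tt N115008 F493035) (tt N118367 (iv6 F509960)) (tt N93486 F406129))
theorem Q94850 : ∀ i, i < 94850 → P i := stepQ 94849 Q94849 (allL N94849 (tt N115438 F495204) (tt N110936 F495205) (tt N118709 (iv2 F511668)) (tt N58005 F406134) (tt N118367 (iv4 F509958)) (tt N118710 D221969) (tt N58002 (iv6 D197899)) (tt N112143 (iv7 F479724)))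
theorem Q94851 : ∀ i, i < 94851 → P i := stepQ 94850 Q94850 (allL N94850 (tt N97446 F416935) (tt N65892 F406138) (tt N118676 (iv2 F511481)) (tt N65666 F406135) (tt N59606 F406137) (tt N58003 (iv5 D197900)) (tt N92739 (iv6 F406139)) (tt N65668 F406136))
theorem Q94852 : ∀ i, i < 94852 → P i := stepQ 94851 Q94851 (allL N94851 (tt N118711 D221970) (tt N65094 (iv0 F406144)) (tt N117056 (iv2 F503153)) (tt N101973 (iv3 F435161)) (tt N58005 F406140) (tt N92740 F406141) (tt N58003 (iv6 D197901)) (tt N102894 (iv7 F439155)))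
theorem Q94853 : ∀ i, i < 94853 → P i := stepQ 94852 Q94852 (allL N94852 (tt N59609 (iv1 F406152)) (tt N59608 F406156) (tt N59366 F406149) (tt N59574 (iv3 F406155)) (tt N58004 (iv4 D197902)) (tt N59365 F406150) (tt N106937 (iv6 F456355)) (tt N59602 F406151))
theorem Q94854 : ∀ i, i < 94854 → P i := stepQ 94853 Q94853 (allL N94853 (tt N58005 (iv1 D197903)) (tt N96318 F412002) (tt N94615 F406162) (tt N81959 F406163) (tt N117691 (iv4 F506444)) (tt N94611 (iv5 F406161)) (tt N96460 (iv6 F412619)) (tt N96315 F411985))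
theorem Q94855 : ∀ i, i < 94855 → P i := stepQ 94854 Q94854 (allL N94854 (tt N72949 (iv1 F407420)) (tt N118712 D221971) (tt N73131 F406159) (tt N118710 (iv3 F511676)) (tt N90273 F406164) (tt N58005 (iv5 D197904)) (tt N58076 F406160) (tt N118713 D221972))
theorem Q94856 : ∀ i, i < 94856 → P i := stepQ 94855 Q94855 (allL N94855 (tt N94615 (iv1 F406166)) (tt N96315 F411986) (tt N96318 F412001) (tt N112143 (iv3 F479722)) (tt N102894 (iv4 F439156)) (tt N118713 (iv5 F511699)) (tt N112142 (iv6 F479721)) (tt N58005 (iv7 D197905)))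
theorem Q94857 : ∀ i, i < 94857 → P i := stepQ 94856 Q94856 (allL N94856 (tt N95696 (iv1 F409179)) (tt N109360 F466568) (tt N58010 F406167) (tt N96024 (iv3 F410689)) (tt N58006 (iv4 D197906)) (tt N65660 F406168) (tt N96023 (iv6 F410685)) (tt N96952 (iv7 F414753)))
theorem Q94858 : ∀ i, i < 94858 → P i := stepQ 94857 Q94857 (allL N94857 (tt N118714 D221973) (tt N118715 D221974) (tt N58011 F406169) (tt N118672 (iv3 F511458)) (tt N96023 F410687) (tt N118716 D221975) (tt N58006 (iv6 D197907)) (tt N117555 (iv7 F505670)))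
theorem Q94859 : ∀ i, i < 94859 → P i := stepQ 94858 Q94858 (allL N94858 (tt N58015 (iv1 F406174)) (tt N58007 (iv0 D197908)) (tt N58012 (iv2 F406171)) (tt N94426 (iv3 F406173)) (tt N83568 F406170) (tt N118717 D221976) (tt N96457 F412599) (tt N58013 F406172))
theorem Q94860 : ∀ i, i < 94860 → P i := stepQ 94859 Q94859 (allL N94859 (tt N88026 F429961) (tt N114125 F488659) (tt N58014 F406175) (tt N64990 F406176) (tt N87990 F406177) (tt N58007 (iv5 D197909)) (tt N118716 (iv6 F511716)) (tt N111407 (iv7 F476215)))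
theorem Q94861 : ∀ i, i < 94861 → P i := stepQ 94860 Q94860 (allL N94860 (tt N58013 (iv1 F406182)) (tt N58012 F406183) (tt N58015 F406178) (tt N64152 F406179) (tt N82553 F406180) (tt N111407 (iv5 F476213)) (tt N82552 F406181) (tt N58007 (iv7 D197910)))
theorem Q94862 : ∀ i, i < 94862 → P i := stepQ 94861 Q94861 (allL N94861 (tt N118211 (iv1 F509170)) (tt N118210 (iv0 F509169)) (tt N118212 (iv2 F509177)) (tt N58009 (iv3 D197911)) (tt N118718 D221977) (tt N58151 F406184) (tt N118339 (iv6 F509789)) (tt N74216 F406185))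
theorem Q94863 : ∀ i, i < 94863 → P i := stepQ 94862 Q94862 (allL N94862 (tt N59599 F406188) (tt N59596 F406189) (tt N59391 F406186) (tt N59638 (iv3 F406192)) (tt N58009 (iv4 D197912)) (tt N65546 (iv5 F406190)) (tt N118719 D221978) (tt N59641 F406187))
theorem Q94864 : ∀ i, i < 94864 → P i := stepQ 94863 Q94863 (allL N94863 (tt N105372 F449936) (tt N110192 (iv0 F470364)) (tt N110193 (iv2 F470365)) (tt N118339 F509793) (tt N118719 (iv4 F511733)) (tt N96464 (iv5 F412637)) (tt N58009 (iv6 D197913)) (tt N100132 (iv7 F427613)))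
theorem Q94865 : ∀ i, i < 94865 → P i := stepQ 94864 Q94864 (allL N94864 (tt N58010 (iv1 D197915)) (tt N96952 F414755) (tt N109360 (iv2 F466563)) (tt N95699 (iv3 F409195)) (tt N103179 (iv4 F440432)) (tt N95697 (iv5 F409184)) (tt N110042 (iv6 F469688)) (tt N95696 F409181))
theorem Q94866 : ∀ i, i < 94866 → P i := stepQ 94865 Q94865 (allL N94865 (tt N93928 F410676) (tt N117554 F505665) (tt N96023 (iv2 F410683)) (tt N96461 (iv3 F412623)) (tt N58011 F406193) (tt N96021 (iv5 F410673)) (tt N58010 (iv6 D197916)) (tt N110191 (iv7 F470359)))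
theorem Q94867 : ∀ i, i < 94867 → P i := stepQ 94866 Q94866 (allL N94866 (tt N117555 (iv1 F505672)) (tt N58011 (iv0 D197917)) (tt N118714 F511706) (tt N118720 D221979) (tt N108975 F464731) (tt N115934 (iv5 F497664)) (tt N91564 F406804) (tt N118715 (iv7 F511709)))
theorem Q94868 : ∀ i, i < 94868 → P i := stepQ 94867 Q94867 (allL N94867 (tt N58011 (iv1 D197918)) (tt N117555 (iv0 F505671)) (tt N118715 F511713) (tt N118721 D221980) (tt N117579 (iv4 F505816)) (tt N115933 (iv5 F497653)) (tt N112007 (iv6 F479109)) (tt N118714 F511707))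
theorem Q94869 : ∀ i, i < 94869 → P i := stepQ 94868 Q94868 (allL N94868 (tt N118722 D221981) (tt N118723 D221982) (tt N118716 (iv2 F511714)) (tt N58022 F406194) (tt N114210 (iv4 F489010)) (tt N58011 (iv5 D197919)) (tt N58014 F406195) (tt N118724 D221983))
theorem Q94870 : ∀ i, i < 94870 → P i := stepQ 94869 Q94869 (allL N94869 (tt N118715 (iv1 F511708)) (tt N118714 F511705) (tt N117555 (iv2 F505668)) (tt N58023 F406196) (tt N110191 F470361) (tt N118724 (iv5 F511757)) (tt N101795 F434384) (tt N58011 (iv7 D197920)))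
theorem Q94871 : ∀ i, i < 94871 → P i := stepQ 94870 Q94870 (allL N94870 (tt N79802 (iv1 F406201)) (tt N64151 (iv0 F406200)) (tt N79801 F406197) (tt N58012 (iv3 D197921)) (tt N93212 F406198) (tt N101564 (iv5 F433443)) (tt N96468 (iv6 F412647)) (tt N79800 F406199))
theorem Q94872 : ∀ i, i < 94872 → P i := stepQ 94871 Q94871 (allL N94871 (tt N101577 F433450) (tt N101567 F433442) (tt N118717 (iv2 F511718)) (tt N101564 F433444) (tt N111905 (iv4 F478568)) (tt N58012 (iv5 D197922)) (tt N117468 (iv6 F505187)) (tt N103439 (iv7 F441641)))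
theorem Q94873 : ∀ i, i < 94873 → P i := stepQ 94872 Q94872 (allL N94872 (tt N101567 F433409) (tt N101577 (iv0 F433449)) (tt N103439 (iv2 F441639)) (tt N94425 F406203) (tt N87429 F406205) (tt N58013 (iv5 D197923)) (tt N87296 F406204) (tt N118717 (iv7 F511721)))
theorem Q94874 : ∀ i, i < 94874 → P i := stepQ 94873 Q94873 (allL N94873 (tt N58014 (iv1 D197924)) (tt N111407 F476216) (tt N114125 (iv2 F488655)) (tt N118263 (iv3 F509423)) (tt N88029 F406207) (tt N96331 (iv5 F412073)) (tt N115621 (iv6 F496009)) (tt N88026 F406206))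
theorem Q94875 : ∀ i, i < 94875 → P i := stepQ 94874 Q94874 (allL N94874 (tt N114125 (iv1 F488660)) (tt N88026 (iv0 F406211)) (tt N111407 (iv2 F476211)) (tt N58032 F406208) (tt N87989 F406209) (tt N58015 F406210) (tt N108235 (iv6 F461618)) (tt N58014 (iv7 D197925)))
theorem Q94876 : ∀ i, i < 94876 → P i := stepQ 94875 Q94875 (allL N94875 (tt N99899 (iv1 F426732)) (tt N94652 F406215) (tt N58018 (iv2 D197927)) (tt N105429 (iv3 F450224)) (tt N70396 F406212) (tt N58147 F406213) (tt N70395 F406214) (tt N107728 (iv7 F459421)))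
theorem Q94877 : ∀ i, i < 94877 → P i := stepQ 94876 Q94876 (allL N94876 (tt N114545 F490705) (tt N118703 (iv0 F511631)) (tt N115550 (iv2 F495734)) (tt N58020 (iv3 D197928)) (tt N84250 (iv4 F449982)) (tt N115549 (iv5 F495730)) (tt N118159 (iv6 F508926)) (tt N107846 (iv7 F459975)))
theorem Q94878 : ∀ i, i < 94878 → P i := stepQ 94877 Q94877 (allL N94877 (tt N79817 F406218) (tt N79816 F406222) (tt N79818 F406216) (tt N115549 (iv3 F495727)) (tt N100751 (iv4 F430290)) (tt N58020 (iv5 D197929)) (tt N108176 F461403) (tt N79799 F406217))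
theorem Q94879 : ∀ i, i < 94879 → P i := stepQ 94878 Q94878 (allL N94878 (tt N115096 (iv1 F493469)) (tt N118639 (iv0 F511287)) (tt N110899 (iv2 F473680)) (tt N58021 (iv3 D197930)) (tt N71195 (iv4 F406227)) (tt N79810 F406225) (tt N79813 F406226) (tt N107843 (iv7 F459962)))
theorem Q94880 : ∀ i, i < 94880 → P i := stepQ 94879 Q94879 (allL N94879 (tt N118292 (iv1 F509559)) (tt N58022 (iv0 D197931)) (tt N112264 (iv2 F480271)) (tt N87266 (iv3 F406229)) (tt N94898 (iv4 F406267)) (tt N93308 F406228) (tt N94897 F406265) (tt N114524 (iv7 F490596)))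
theorem Q94881 : ∀ i, i < 94881 → P i := stepQ 94880 Q94880 (allL N94880 (tt N58022 (iv1 D197932)) (tt N118292 (iv0 F509560)) (tt N114524 (iv2 F490592)) (tt N58521 (iv3 F406230)) (tt N73555 F406233) (tt N93309 (iv5 F406231)) (tt N73554 (iv6 F406232)) (tt N112264 (iv7 F480274)))
theorem Q94882 : ∀ i, i < 94882 → P i := stepQ 94881 Q94881 (allL N94881 (tt N96592 F413116) (tt N73528 F413117) (tt N118176 (iv2 F509015)) (tt N118725 D221984) (tt N58022 (iv4 D197933)) (tt N102315 (iv5 F436693)) (tt N58031 F406234) (tt N102314 F436680))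
theorem Q94883 : ∀ i, i < 94883 → P i := stepQ 94882 Q94882 (allL N94882 (tt N114524 (iv1 F490598)) (tt N112264 (iv0 F480275)) (tt N118292 (iv2 F509555)) (tt N118724 (iv3 F511755)) (tt N102314 (iv4 F436681)) (tt N58023 F406235) (tt N64999 (iv6 F406236)) (tt N58022 (iv7 D197934)))
theorem Q94884 : ∀ i, i < 94884 → P i := stepQ 94883 Q94883 (allL N94883 (tt N104127 (iv1 F444318)) (tt N58024 (iv0 D197935)) (tt N111047 F474411) (tt N94424 F406238) (tt N70507 F406237) (tt N118726 D221985) (tt N107756 F459582) (tt N107733 F459454))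
theorem Q94885 : ∀ i, i < 94885 → P i := stepQ 94884 Q94884 (allL N94884 (tt N118727 D221986) (tt N118728 D221987) (tt N111048 (iv2 F474415)) (tt N58025 F406239) (tt N118729 D221988) (tt N58024 (iv5 D197937)) (tt N108204 (iv6 F461484)) (tt N118218 (iv7 F509217)))
theorem Q94886 : ∀ i, i < 94886 → P i := stepQ 94885 Q94885 (allL N94885 (tt N96335 F412110) (tt N64982 F406241) (tt N96580 (iv2 F413067)) (tt N116362 (iv3 F499717)) (tt N58025 (iv4 D197938)) (tt N96520 (iv5 F412832)) (tt N93313 F406240) (tt N96579 F413062))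
theorem Q94887 : ∀ i, i < 94887 → P i := stepQ 94886 Q94886 (allL N94886 (tt N58026 (iv1 D197939)) (tt N79804 F406247) (tt N63883 (iv2 F406243)) (tt N79802 F406246) (tt N79252 (iv4 F406244)) (tt N111417 (iv5 F476254)) (tt N91839 (iv6 F406245)) (tt N79805 F406242))
theorem Q94888 : ∀ i, i < 94888 → P i := stepQ 94887 Q94887 (allL N94887 (tt N79805 (iv1 F406250)) (tt N63883 F406249) (tt N58026 (iv2 D197940)) (tt N104127 (iv3 F444319)) (tt N115790 (iv4 F496893)) (tt N101572 (iv5 F433430)) (tt N112131 (iv6 F479654)) (tt N79804 F406248))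
theorem Q94889 : ∀ i, i < 94889 → P i := stepQ 94888 Q94888 (allL N94888 (tt N79642 F406253) (tt N115789 (iv0 F496891)) (tt N115790 F496895) (tt N58383 F406251) (tt N58026 (iv4 D197941)) (tt N95651 (iv5 F409008)) (tt N118730 D221989) (tt N58454 F406252))
theorem Q94890 : ∀ i, i < 94890 → P i := stepQ 94889 Q94889 (allL N94889 (tt N79203 F412109) (tt N101571 (iv0 F474342)) (tt N101572 F433429) (tt N58027 F406254) (tt N118731 D221990) (tt N58026 (iv5 D197942)) (tt N118732 D221991) (tt N101573 (iv7 F433428)))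
theorem Q94891 : ∀ i, i < 94891 → P i := stepQ 94890 Q94890 (allL N94890 (tt N111029 F474341) (tt N118207 (iv0 F509148)) (tt N112131 (iv2 F479652)) (tt N58028 F406255) (tt N118730 (iv4 F511783)) (tt N106170 F453433) (tt N58026 (iv6 D197943)) (tt N96480 (iv7 F412692)))
theorem Q94892 : ∀ i, i < 94892 → P i := stepQ 94891 Q94891 (allL N94891 (tt N64982 F406256) (tt N96335 (iv0 F412108)) (tt N96579 F413061) (tt N115012 (iv3 F493045)) (tt N58027 (iv4 D197944)) (tt N105261 (iv5 F449443)) (tt N116852 (iv6 F502174)) (tt N96580 (iv7 F413064)))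
theorem Q94893 : ∀ i, i < 94893 → P i := stepQ 94892 Q94892 (allL N94892 (tt N87297 F406257) (tt N88121 F461509) (tt N118674 (iv2 F511469)) (tt N118732 (iv3 F511792)) (tt N116852 (iv4 F502175)) (tt N118733 D221992) (tt N58027 (iv6 D197945)) (tt N108203 (iv7 F461483)))
theorem Q94894 : ∀ i, i < 94894 → P i := stepQ 94893 Q94893 (allL N94893 (tt N59670 F406258) (tt N59676 F406259) (tt N95282 F407709) (tt N106170 (iv3 F453432)) (tt N112673 (iv4 F482109)) (tt N58028 (iv5 D197946)) (tt N118733 (iv6 F511794)) (tt N95283 (iv7 F407712)))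
theorem Q94895 : ∀ i, i < 94895 → P i := stepQ 94894 Q94894 (allL N94894 (tt N118726 (iv1 F511769)) (tt N118704 (iv0 F511639)) (tt N118734 D221993) (tt N58029 (iv3 D197947)) (tt N81189 (iv4 F406261)) (tt N96336 (iv5 F412112)) (tt N108118 F461182) (tt N81186 F406260))
theorem Q94896 : ∀ i, i < 94896 → P i := stepQ 94895 Q94895 (allL N94895 (tt N105262 (iv1 F449451)) (tt N97764 (iv0 F418212)) (tt N96583 (iv2 F413076)) (tt N116359 (iv3 F499702)) (tt N58029 (iv4 D197948)) (tt N59545 F406262) (tt N101593 (iv6 F433477)) (tt N96586 (iv7 F413085)))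
theorem Q94897 : ∀ i, i < 94897 → P i := stepQ 94896 Q94896 (allL N94896 (tt N64995 F449453) (tt N111417 F476258) (tt N111398 (iv2 F476172)) (tt N58030 (iv3 D197949)) (tt N115534 (iv4 F495672)) (tt N64979 F406263) (tt N115533 F495669) (tt N96581 (iv7 F413069)))
theorem Q94898 : ∀ i, i < 94898 → P i := stepQ 94897 Q94897 (allL N94897 (tt N97764 (iv1 F418213)) (tt N105262 (iv0 F449450)) (tt N96586 (iv2 F413083)) (tt N115559 (iv3 F495785)) (tt N58030 (iv4 D197950)) (tt N59546 F406264) (tt N94879 (iv6 F406265)) (tt N96583 (iv7 F413078)))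
theorem Q94899 : ∀ i, i < 94899 → P i := stepQ 94898 Q94898 (allL N94898 (tt N108217 (iv1 F461534)) (tt N108216 F461531) (tt N81185 F406266) (tt N115533 (iv3 F495664)) (tt N94879 F406267) (tt N118678 (iv5 F511498)) (tt N58030 (iv6 D197951)) (tt N108117 (iv7 F461179)))
theorem Q94900 : ∀ i, i < 94900 → P i := stepQ 94899 Q94899 (allL N94899 (tt N118675 (iv1 F511480)) (tt N58031 (iv0 D197952)) (tt N96589 (iv2 F413096)) (tt N118735 D221994) (tt N73534 F406268) (tt N96364 (iv5 F412244)) (tt N73533 (iv6 F406269)) (tt N96591 (iv7 F413107)))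
theorem Q94901 : ∀ i, i < 94901 → P i := stepQ 94900 Q94900 (allL N94900 (tt N58031 (iv1 D197953)) (tt N118675 F511479) (tt N96591 (iv2 F413105)) (tt N96589 (iv3 F413097)) (tt N58669 (iv4 F406270)) (tt N96365 (iv5 F412250)) (tt N73512 F409048) (tt N96589 (iv7 F413098)))
theorem Q94902 : ∀ i, i < 94902 → P i := stepQ 94901 Q94901 (allL N94901 (tt N118736 D221995) (tt N118737 D221996) (tt N118738 D221997) (tt N58031 (iv3 D197954)) (tt N112273 (iv4 F480302)) (tt N86168 (iv5 F449324)) (tt N118725 (iv6 F511761)) (tt N112191 (iv7 F479984)))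
theorem Q94903 : ∀ i, i < 94903 → P i := stepQ 94902 Q94902 (allL N94902 (tt N104130 (iv1 F444338)) (tt N118739 D221998) (tt N117592 (iv2 F505880)) (tt N86168 F449323) (tt N69910 F406271) (tt N58031 (iv5 D197955)) (tt N112767 (iv6 F482562)) (tt N69909 (iv7 F406272)))
theorem Q94904 : ∀ i, i < 94904 → P i := stepQ 94903 Q94903 (allL N94903 (tt N96591 (iv1 F413109)) (tt N96589 (iv0 F413100)) (tt N118675 (iv2 F511475)) (tt N112191 (iv3 F479981)) (tt N58032 F406273) (tt N69909 F406274) (tt N112190 (iv6 F479975)) (tt N58031 (iv7 D197956)))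
theorem Q94905 : ∀ i, i < 94905 → P i := stepQ 94904 Q94904 (allL N94904 (tt N64361 F406277) (tt N65001 F406278) (tt N65000 F406275) (tt N108235 F461620) (tt N112190 (iv4 F479978)) (tt N110135 (iv5 F470124)) (tt N58032 (iv6 D197957)) (tt N64999 F406276))
theorem Q94906 : ∀ i, i < 94906 → P i := stepQ 94905 Q94905 (allL N94905 (tt N111700 F477568) (tt N101545 (iv0 F433335)) (tt N118740 D221999) (tt N58033 (iv3 D197958)) (tt N60713 F406279) (tt N87560 (iv5 F406282)) (tt N72913 F406280) (tt N60698 F406281))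
theorem Q94907 : ∀ i, i < 94907 → P i := stepQ 94906 Q94906 (allL N94906 (tt N58669 F406286) (tt N73534 F406287) (tt N96588 F413093) (tt N87560 F406283) (tt N111420 (iv4 F476271)) (tt N58033 (iv5 D197959)) (tt N90351 F406284) (tt N60699 F406285))
theorem Q94908 : ∀ i, i < 94908 → P i := stepQ 94907 Q94907 (allL N94907 (tt N118178 (iv1 F509026)) (tt N111434 (iv0 F476350)) (tt N101535 (iv2 F433278)) (tt N58035 F406289) (tt N118741 D222000) (tt N58034 (iv5 D197960)) (tt N108200 (iv6 F461477)) (tt N101963 (iv7 F435105)))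
theorem Q94909 : ∀ i, i < 94909 → P i := stepQ 94908 Q94908 (allL N94908 (tt N69953 F406292) (tt N69752 F406293) (tt N69408 F406290) (tt N116185 (iv3 F498899)) (tt N118739 (iv4 F511824)) (tt N58036 (iv5 D197961)) (tt N116439 (iv6 F500117)) (tt N69951 F406291))
theorem Q94910 : ∀ i, i < 94910 → P i := stepQ 94909 Q94909 (allL N94909 (tt N64971 F406294) (tt N59555 F406295) (tt N108201 (iv2 F461478)) (tt N96787 (iv3 F413937)) (tt N58038 (iv4 D197962)) (tt N118739 (iv5 F511823)) (tt N88144 (iv6 F413943)) (tt N96787 (iv7 F413938)))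
theorem Q94911 : ∀ i, i < 94911 → P i := stepQ 94910 Q94910 (allL N94910 (tt N108115 F461174) (tt N108180 (iv0 F461414)) (tt N108207 (iv2 F461495)) (tt N79430 F406296) (tt N88144 F413944) (tt N97014 F415036) (tt N58038 (iv6 D197963)) (tt N108196 (iv7 F461473)))
theorem Q94912 : ∀ i, i < 94912 → P i := stepQ 94911 Q94911 (allL N94911 (tt N118742 D222001) (tt N95901 (iv0 F437687)) (tt N118743 D222002) (tt N58042 (iv3 D197964)) (tt N102566 (iv4 F437685)) (tt N101394 (iv5 F432839)) (tt N73829 F406305) (tt N69906 F406297))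
theorem Q94913 : ∀ i, i < 94913 → P i := stepQ 94912 Q94912 (allL N94912 (tt N62368 (iv1 F406303)) (tt N62362 (iv0 F406301)) (tt N69905 F406298) (tt N73829 (iv3 F406304)) (tt N93046 F406299) (tt N69836 F406300) (tt N58042 (iv6 D197965)) (tt N100821 (iv7 F430631)))
theorem Q94914 : ∀ i, i < 94914 → P i := stepQ 94913 Q94913 (allL N94913 (tt N70075 F406309) (tt N85993 (iv0 F406311)) (tt N90406 F406310) (tt N58043 (iv3 D197966)) (tt N85978 F406306) (tt N101067 (iv5 F431521)) (tt N90393 F406307) (tt N69903 F406308))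
theorem Q94915 : ∀ i, i < 94915 → P i := stepQ 94914 Q94914 (allL N94914 (tt N92027 (iv1 F406313)) (tt N58044 (iv0 D197967)) (tt N113332 (iv2 F485071)) (tt N71638 (iv3 F406315)) (tt N107060 (iv4 F456817)) (tt N101259 (iv5 F432435)) (tt N71637 F406312) (tt N90241 F406314))
theorem Q94916 : ∀ i, i < 94916 → P i := stepQ 94915 Q94915 (allL N94915 (tt N69910 (iv1 F406318)) (tt N58045 (iv0 D197968)) (tt N69907 (iv2 F406317)) (tt N114624 (iv3 F491059)) (tt N105261 (iv4 F449444)) (tt N59562 F406316) (tt N114622 (iv6 F491054)) (tt N69908 F406319))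
theorem Q94917 : ∀ i, i < 94917 → P i := stepQ 94916 Q94916 (allL N94916 (tt N118739 (iv1 F511821)) (tt N104130 (iv0 F444337)) (tt N69909 F406320) (tt N110138 F470139) (tt N58045 (iv4 D197969)) (tt N118675 (iv5 F511477)) (tt N59661 F406321) (tt N117592 (iv7 F505884)))
theorem Q94918 : ∀ i, i < 94918 → P i := stepQ 94917 Q94917 (allL N94917 (tt N71482 (iv1 F406328)) (tt N71475 (iv0 F406327)) (tt N71480 F406322) (tt N58049 F406323) (tt N70014 F406324) (tt N83921 F406325) (tt N58047 (iv6 D197970)) (tt N71481 F406326))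
theorem Q94919 : ∀ i, i < 94919 → P i := stepQ 94918 Q94918 (allL N94918 (tt N105311 (iv1 F449660)) (tt N105316 (iv0 F449672)) (tt N69852 F406331) (tt N83921 F406332) (tt N112581 (iv4 F481714)) (tt N58049 (iv5 D197971)) (tt N64813 F406333) (tt N94590 F406334))
theorem Q94920 : ∀ i, i < 94920 → P i := stepQ 94919 Q94919 (allL N94919 (tt N105410 (iv1 F450128)) (tt N95899 (iv0 F410154)) (tt N104335 (iv2 F445307)) (tt N58051 (iv3 D197972)) (tt N103362 (iv4 F441284)) (tt N77358 F406337) (tt N88400 (iv6 F406339)) (tt N69856 F406338))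
theorem Q94921 : ∀ i, i < 94921 → P i := stepQ 94920 Q94920 (allL N94920 (tt N70004 F406343) (tt N105535 F450623) (tt N69855 F406340) (tt N88400 F406341) (tt N103361 (iv4 F441281)) (tt N77360 F406342) (tt N58051 (iv6 D197973)) (tt N96488 (iv7 F412729)))
theorem Q94922 : ∀ i, i < 94922 → P i := stepQ 94921 Q94921 (allL N94921 (tt N63955 (iv1 F406347)) (tt N69901 F406348) (tt N69902 F406344) (tt N110311 (iv3 F470981)) (tt N96275 (iv4 F411834)) (tt N64786 F406345) (tt N69867 F406346) (tt N58053 (iv7 D197974)))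
theorem Q94923 : ∀ i, i < 94923 → P i := stepQ 94922 Q94922 (allL N94922 (tt N118430 F510313) (tt N82032 (iv0 F407057)) (tt N58069 F406350) (tt N75177 F406351) (tt N118744 D222003) (tt N58055 (iv5 D197975)) (tt N75301 F406352) (tt N75175 F406353))
theorem Q94924 : ∀ i, i < 94924 → P i := stepQ 94923 Q94923 (allL N94923 (tt N58057 (iv1 D197976)) (tt N66266 F406354) (tt N66264 (iv2 F406357)) (tt N118265 (iv3 F509432)) (tt N71360 F406356) (tt N98796 (iv5 F422357)) (tt N98834 (iv6 F422502)) (tt N66265 F406355))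
theorem Q94925 : ∀ i, i < 94925 → P i := stepQ 94924 Q94924 (allL N94924 (tt N109664 F468000) (tt N109920 (iv0 F469225)) (tt N72642 F406358) (tt N98841 (iv3 F422532)) (tt N109002 (iv4 F464850)) (tt N58058 (iv5 D197977)) (tt N62121 F406359) (tt N73201 F406360))
theorem Q94926 : ∀ i, i < 94926 → P i := stepQ 94925 Q94925 (allL N94925 (tt N82489 F406362) (tt N111688 (iv0 F477495)) (tt N72901 F406361) (tt N101554 F433378) (tt N58062 (iv4 D197978)) (tt N118745 D222004) (tt N111857 (iv6 F478335)) (tt N102787 (iv7 F438652)))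
theorem Q94927 : ∀ i, i < 94927 → P i := stepQ 94926 Q94926 (allL N94926 (tt N111688 (iv1 F477496)) (tt N82489 F406364) (tt N102787 (iv2 F438650)) (tt N60695 F406365) (tt N58063 (iv4 D197979)) (tt N95185 (iv5 F407341)) (tt N112140 (iv6 F479706)) (tt N72901 F406363))
theorem Q94928 : ∀ i, i < 94928 → P i := stepQ 94927 Q94927 (allL N94927 (tt N95768 F409550) (tt N100688 F430025) (tt N102788 (iv2 F438655)) (tt N81775 F406366) (tt N112140 (iv4 F479705)) (tt N81822 F406367) (tt N58063 (iv6 D197980)) (tt N111094 (iv7 F474633)))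
theorem Q94929 : ∀ i, i < 94929 → P i := stepQ 94928 Q94928 (allL N94928 (tt N62547 (iv1 F406372)) (tt N58066 (iv0 D197981)) (tt N65159 (iv2 F406369)) (tt N100338 (iv3 F428479)) (tt N101157 (iv4 F431982)) (tt N63547 F406368) (tt N70104 (iv6 F406370)) (tt N82064 (iv7 F406371)))
theorem Q94930 : ∀ i, i < 94930 → P i := stepQ 94929 Q94929 (allL N94929 (tt N58066 (iv1 D197982)) (tt N62547 F406374) (tt N82064 F406379) (tt N65153 (iv3 F406377)) (tt N110554 (iv4 F472115)) (tt N63548 F406376) (tt N76653 (iv6 F406378)) (tt N65159 F406375))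
theorem Q94931 : ∀ i, i < 94931 → P i := stepQ 94930 Q94930 (allL N94930 (tt N82064 (iv1 F406385)) (tt N65159 F406386) (tt N62547 F406380) (tt N58070 F406381) (tt N58104 F406382) (tt N62535 F406383) (tt N79806 F406384) (tt N58066 (iv7 D197983)))
theorem Q94932 : ∀ i, i < 94932 → P i := stepQ 94931 Q94931 (allL N94931 (tt N58067 (iv1 D197984)) (tt N75300 F406387) (tt N98949 (iv2 F422842)) (tt N85803 (iv3 F406390)) (tt N93510 (iv4 F406388)) (tt N85802 F406389) (tt N102710 (iv6 F438310)) (tt N98946 (iv7 F422836)))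
theorem Q94933 : ∀ i, i < 94933 → P i := stepQ 94932 Q94932 (allL N94932 (tt N75299 (iv1 F406395)) (tt N75298 (iv0 F406396)) (tt N75301 F406391) (tt N75394 F406392) (tt N113882 (iv4 F487610)) (tt N58067 (iv5 D197985)) (tt N58069 F406393) (tt N75294 F406394))
theorem Q94934 : ∀ i, i < 94934 → P i := stepQ 94933 Q94933 (allL N94933 (tt N75175 F406400) (tt N58069 (iv0 D197986)) (tt N118430 (iv2 F510308)) (tt N81454 (iv3 F406398)) (tt N100813 (iv4 F430596)) (tt N65860 F406397) (tt N81349 (iv6 F406399)) (tt N82032 F406401))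
theorem Q94935 : ∀ i, i < 94935 → P i := stepQ 94934 Q94934 (allL N94934 (tt N58069 (iv1 D197987)) (tt N75175 F406402) (tt N82032 (iv2 F406404)) (tt N117673 (iv3 F506342)) (tt N100812 (iv4 F430590)) (tt N65883 (iv5 F406403)) (tt N118647 (iv6 F511326)) (tt N118430 (iv7 F510314)))
theorem Q94936 : ∀ i, i < 94936 → P i := stepQ 94935 Q94935 (allL N94935 (tt N97094 (iv1 F415461)) (tt N97096 (iv0 F415470)) (tt N118744 (iv2 F511848)) (tt N73896 F406405) (tt N58069 (iv4 D197988)) (tt N118532 (iv5 F510822)) (tt N113882 (iv6 F487614)) (tt N73892 (iv7 F406406)))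
theorem Q94937 : ∀ i, i < 94937 → P i := stepQ 94936 Q94936 (allL N94936 (tt N82032 F407056) (tt N118430 (iv0 F510312)) (tt N75175 F406407) (tt N62535 F406408) (tt N73892 F406409) (tt N58070 F406410) (tt N62534 F406411) (tt N58069 (iv7 D197989)))
theorem Q94938 : ∀ i, i < 94938 → P i := stepQ 94937 Q94937 (allL N94937 (tt N66273 (iv1 F406417)) (tt N66272 F406416) (tt N58073 (iv2 D197990)) (tt N66351 F406412) (tt N58077 F406413) (tt N71009 F406414) (tt N117597 (iv6 F505916)) (tt N66274 F406415))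
theorem Q94939 : ∀ i, i < 94939 → P i := stepQ 94938 Q94938 (allL N94938 (tt N117103 F503407) (tt N107964 (iv0 F460506)) (tt N117597 (iv2 F505913)) (tt N58074 F406419) (tt N58078 F406420) (tt N83205 (iv5 F406421)) (tt N58073 (iv6 D197991)) (tt N71692 (iv7 F406422)))
theorem Q94940 : ∀ i, i < 94940 → P i := stepQ 94939 Q94939 (allL N94939 (tt N107131 (iv1 F457123)) (tt N71870 F406427) (tt N66353 F406423) (tt N83205 F406424) (tt N106772 (iv4 F455614)) (tt N58074 (iv5 D197992)) (tt N71013 F406425) (tt N71693 F406426))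
theorem Q94941 : ∀ i, i < 94941 → P i := stepQ 94940 Q94940 (allL N94940 (tt N90366 F406431) (tt N72937 (iv0 F406432)) (tt N90354 F406428) (tt N62237 F406429) (tt N90225 F406430) (tt N111993 (iv5 F479003)) (tt N58075 (iv6 D197993)) (tt N90356 (iv7 F406433)))
theorem Q94942 : ∀ i, i < 94942 → P i := stepQ 94941 Q94941 (allL N94941 (tt N73110 F406437) (tt N72923 F406438) (tt N62226 F406434) (tt N58076 (iv3 D197994)) (tt N91402 F406435) (tt N98208 (iv5 F419994)) (tt N118710 (iv6 F511677)) (tt N73111 F406436))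
theorem Q94943 : ∀ i, i < 94943 → P i := stepQ 94942 Q94942 (allL N94942 (tt N73058 (iv1 F406444)) (tt N58079 (iv0 D197995)) (tt N95083 (iv2 F406973)) (tt N93814 (iv3 F406440)) (tt N73051 (iv4 F406443)) (tt N73075 F406439) (tt N93812 (iv6 F406441)) (tt N73557 (iv7 F406442)))
theorem Q94944 : ∀ i, i < 94944 → P i := stepQ 94943 Q94943 (allL N94943 (tt N58079 (iv1 D197996)) (tt N73058 F406446) (tt N73557 F406449) (tt N112182 (iv3 F479934)) (tt N73052 F406447) (tt N73078 (iv5 F406448)) (tt N112087 (iv6 F479435)) (tt N95083 F406975))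
theorem Q94945 : ∀ i, i < 94945 → P i := stepQ 94944 Q94944 (allL N94944 (tt N107718 (iv1 F459378)) (tt N107720 (iv0 F459383)) (tt N107861 F460037) (tt N118746 D222005) (tt N58079 (iv4 D197997)) (tt N95174 F407310) (tt N118167 (iv6 F508967)) (tt N107860 F460032))
theorem Q94946 : ∀ i, i < 94946 → P i := stepQ 94945 Q94945 (allL N94945 (tt N73557 (iv1 F406452)) (tt N95083 (iv0 F406977)) (tt N73058 F406450) (tt N117552 (iv3 F505653)) (tt N107860 (iv4 F460030)) (tt N58080 F406451) (tt N117550 F505642) (tt N58079 (iv7 D197998)))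
theorem Q94947 : ∀ i, i < 94947 → P i := stepQ 94946 Q94946 (allL N94946 (tt N101649 F433694) (tt N106096 (iv0 F453092)) (tt N95467 (iv2 F408290)) (tt N58084 (iv3 D197999)) (tt N58598 F406453) (tt N106771 (iv5 F455608)) (tt N58086 F406454) (tt N94976 (iv7 F406559)))
theorem Q94948 : ∀ i, i < 94948 → P i := stepQ 94947 Q94947 (allL N94947 (tt N59421 (iv1 F406457)) (tt N58086 (iv0 D198000)) (tt N59420 (iv2 F406458)) (tt N58680 F406455) (tt N88182 F406456) (tt N105043 (iv5 F448530)) (tt N94833 (iv6 F406459)) (tt N58710 (iv7 F406460)))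
theorem Q94949 : ∀ i, i < 94949 → P i := stepQ 94948 Q94948 (allL N94948 (tt N58086 (iv1 D198001)) (tt N59421 (iv0 F406464)) (tt N58710 (iv2 F406463)) (tt N102044 F435487) (tt N88181 F406462) (tt N105044 (iv5 F448536)) (tt N111539 (iv6 F476813)) (tt N59420 F406461))
theorem Q94950 : ∀ i, i < 94950 → P i := stepQ 94949 Q94949 (allL N94949 (tt N59420 (iv1 F406469)) (tt N58710 F406468) (tt N58086 (iv2 D198002)) (tt N59415 F406465) (tt N59709 F406466) (tt N96547 (iv5 F412938)) (tt N95467 (iv6 F408291)) (tt N59421 F406467))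
theorem Q94951 : ∀ i, i < 94951 → P i := stepQ 94950 Q94950 (allL N94950 (tt N58087 (iv1 D198003)) (tt N95517 (iv0 F408443)) (tt N107734 (iv2 F459455)) (tt N96401 (iv3 F412347)) (tt N95459 (iv4 F408254)) (tt N90129 F408255) (tt N107764 (iv6 F459622)) (tt N115435 (iv7 F495184)))
theorem Q94952 : ∀ i, i < 94952 → P i := stepQ 94951 Q94951 (allL N94951 (tt N115435 (iv1 F495186)) (tt N107734 (iv0 F459459)) (tt N58087 (iv2 D198004)) (tt N59759 F406470) (tt N59760 F406472) (tt N89781 F406471) (tt N81853 (iv6 F406473)) (tt N95517 (iv7 F408441)))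
theorem Q94953 : ∀ i, i < 94953 → P i := stepQ 94952 Q94952 (allL N94952 (tt N59691 F406478) (tt N71718 F406477) (tt N59760 F406474) (tt N87088 F406475) (tt N58087 (iv4 D198005)) (tt N87087 (iv5 F406479)) (tt N89085 (iv6 F406480)) (tt N71717 F406476))
theorem Q94954 : ∀ i, i < 94954 → P i := stepQ 94953 Q94953 (allL N94953 (tt N81966 (iv1 F406486)) (tt N81965 (iv0 F406485)) (tt N81853 F406481) (tt N58090 F406482) (tt N89085 F406483) (tt N116856 (iv5 F502195)) (tt N58087 (iv6 D198006)) (tt N81967 (iv7 F406484)))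
theorem Q94955 : ∀ i, i < 94955 → P i := stepQ 94954 Q94954 (allL N94954 (tt N80044 F406493) (tt N79831 (iv0 F406494)) (tt N65400 F406488) (tt N80043 F406489) (tt N58090 F406490) (tt N80667 F406492) (tt N58088 (iv6 D198007)) (tt N80045 F406491))
theorem Q94956 : ∀ i, i < 94956 → P i := stepQ 94955 Q94955 (allL N94955 (tt N67725 F406496) (tt N67537 F406497) (tt N95117 (iv2 F407115)) (tt N114660 (iv3 F491248)) (tt N58089 (iv4 D198008)) (tt N92538 F406495) (tt N118700 (iv6 F511614)) (tt N95115 (iv7 F407108)))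
theorem Q94957 : ∀ i, i < 94957 → P i := stepQ 94956 Q94956 (allL N94956 (tt N67537 F406498) (tt N67725 F406499) (tt N95115 (iv2 F407107)) (tt N118747 D222006) (tt N58093 (iv4 D198009)) (tt N102524 (iv5 F437497)) (tt N118748 D222007) (tt N95117 (iv7 F407117)))
theorem Q94958 : ∀ i, i < 94958 → P i := stepQ 94957 Q94957 (allL N94957 (tt N100833 F430692) (tt N112017 (iv0 F479099)) (tt N95116 (iv2 F407111)) (tt N59451 F406500) (tt N118748 (iv4 F511872)) (tt N94723 (iv5 F406501)) (tt N58093 (iv6 D198010)) (tt N95127 (iv7 F407144)))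
theorem Q94959 : ∀ i, i < 94959 → P i := stepQ 94958 Q94958 (allL N94958 (tt N58094 (iv1 D198011)) (tt N81773 F406502) (tt N81771 (iv2 F406504)) (tt N118677 F511492) (tt N100688 (iv4 F430024)) (tt N111602 (iv5 F477116)) (tt N96504 (iv6 F412786)) (tt N81772 F406503))
theorem Q94960 : ∀ i, i < 94960 → P i := stepQ 94959 Q94959 (allL N94959 (tt N79204 F406509) (tt N112025 F479138) (tt N81007 F406505) (tt N59348 F406506) (tt N59859 (iv4 F406510)) (tt N58094 (iv5 D198012)) (tt N94723 F406507) (tt N59521 F406508))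
theorem Q94961 : ∀ i, i < 94961 → P i := stepQ 94960 Q94960 (allL N94960 (tt N103512 (iv1 F441898)) (tt N98706 F421940) (tt N58099 F406511) (tt N118749 D222008) (tt N58095 (iv4 D198013)) (tt N102469 (iv5 F437342)) (tt N94638 F406512) (tt N103878 (iv7 F443187)))
theorem Q94962 : ∀ i, i < 94962 → P i := stepQ 94961 Q94961 (allL N94961 (tt N82002 F406517) (tt N99306 (iv0 F424027)) (tt N58103 F406513) (tt N82138 F406514) (tt N82141 F406516) (tt N58096 (iv5 D198014)) (tt N72635 F406515) (tt N99308 (iv7 F424036)))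
theorem Q94963 : ∀ i, i < 94963 → P i := stepQ 94962 Q94962 (allL N94962 (tt N58102 (iv1 F406522)) (tt N58101 F406523) (tt N58104 F406518) (tt N82552 F406519) (tt N62547 F406520) (tt N99308 (iv5 F424037)) (tt N64152 F406521) (tt N58096 (iv7 D198015)))
theorem Q94964 : ∀ i, i < 94964 → P i := stepQ 94963 Q94963 (allL N94963 (tt N116770 (iv1 F501736)) (tt N90129 (iv0 F408260)) (tt N85587 F406524) (tt N58097 (iv3 D198016)) (tt N84905 F406525) (tt N58198 F406526) (tt N105949 (iv6 F452464)) (tt N85596 F406527))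
theorem Q94965 : ∀ i, i < 94965 → P i := stepQ 94964 Q94964 (allL N94964 (tt N118162 F508941) (tt N118165 F508956) (tt N101368 F432800) (tt N105949 (iv3 F452463)) (tt N67849 F406528) (tt N96510 (iv5 F412802)) (tt N58097 (iv6 D198017)) (tt N104665 (iv7 F446770)))
theorem Q94966 : ∀ i, i < 94966 → P i := stepQ 94965 Q94965 (allL N94965 (tt N112001 F479020) (tt N90157 (iv0 F420156)) (tt N103733 (iv2 F442616)) (tt N113260 F484750) (tt N103656 (iv4 F442384)) (tt N103170 F440394) (tt N58098 (iv6 D198018)) (tt N118750 D222009))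
theorem Q94967 : ∀ i, i < 94967 → P i := stepQ 94966 Q94966 (allL N94966 (tt N103878 (iv1 F443189)) (tt N58099 (iv0 D198019)) (tt N103512 (iv2 F441893)) (tt N98707 (iv3 F421941)) (tt N118687 (iv4 F511551)) (tt N66406 F406529) (tt N117762 (iv6 F506847)) (tt N98706 F421938))
theorem Q94968 : ∀ i, i < 94968 → P i := stepQ 94967 Q94967 (allL N94967 (tt N117751 (iv1 F506782)) (tt N69882 (iv0 F406533)) (tt N94638 F406530) (tt N118164 (iv3 F508948)) (tt N58100 F406531) (tt N98709 (iv5 F421951)) (tt N58099 (iv6 D198020)) (tt N94636 (iv7 F406532)))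
theorem Q94969 : ∀ i, i < 94969 → P i := stepQ 94968 Q94968 (allL N94968 (tt N107767 (iv1 F459635)) (tt N107764 F459625) (tt N64611 F406534) (tt N58101 (iv3 D198021)) (tt N81161 (iv4 F406535)) (tt N118751 D222010) (tt N93818 F406545) (tt N96499 F412770))
theorem Q94970 : ∀ i, i < 94970 → P i := stepQ 94969 Q94969 (allL N94969 (tt N63541 F406539) (tt N82060 F406540) (tt N80174 F406536) (tt N118751 (iv3 F511884)) (tt N63580 F406537) (tt N58101 (iv5 D198022)) (tt N99491 (iv6 F424831)) (tt N81246 F406538))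
theorem Q94971 : ∀ i, i < 94971 → P i := stepQ 94970 Q94970 (allL N94970 (tt N96504 (iv1 F412784)) (tt N96410 (iv0 F412395)) (tt N65036 F406541) (tt N93818 (iv3 F406544)) (tt N80173 F406542) (tt N110047 (iv5 F469719)) (tt N58101 (iv6 D198023)) (tt N80948 F406543))
theorem Q94972 : ∀ i, i < 94972 → P i := stepQ 94971 Q94971 (allL N94971 (tt N99306 (iv1 F424028)) (tt N82002 (iv0 F406580)) (tt N99308 (iv2 F424040)) (tt N58116 F406546) (tt N100370 (iv4 F428638)) (tt N58104 F406547) (tt N116127 (iv6 F498617)) (tt N58103 (iv7 D198024)))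
theorem Q94973 : ∀ i, i < 94973 → P i := stepQ 94972 Q94972 (allL N94972 (tt N58106 (iv1 D198025)) (tt N107168 (iv0 F457301)) (tt N94371 (iv2 F406549)) (tt N96182 (iv3 F411375)) (tt N94389 F406548) (tt N95068 (iv5 F406923)) (tt N99021 (iv6 F433246)) (tt N110638 (iv7 F472538)))
theorem Q94974 : ∀ i, i < 94974 → P i := stepQ 94973 Q94973 (allL N94973 (tt N94371 (iv1 F406552)) (tt N110638 (iv0 F472539)) (tt N107168 (iv2 F457296)) (tt N72634 F406550) (tt N110603 (iv4 F472345)) (tt N58107 F406551) (tt N118752 D222011) (tt N58106 (iv7 D198026)))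
theorem Q94975 : ∀ i, i < 94975 → P i := stepQ 94974 Q94974 (allL N94974 (tt N91839 (iv1 F406556)) (tt N82009 F406555) (tt N58108 (iv2 D198027)) (tt N82351 F406553) (tt N87005 F406554) (tt N116661 (iv5 F501190)) (tt N95595 (iv6 F408822)) (tt N96437 (iv7 F412516)))
theorem Q94976 : ∀ i, i < 94976 → P i := stepQ 94975 Q94975 (allL N94975 (tt N111992 (iv1 F478999)) (tt N116660 F501186) (tt N116661 (iv2 F501187)) (tt N58109 F406557) (tt N116803 (iv4 F501918)) (tt N58108 (iv5 D198028)) (tt N93294 (iv6 F424763)) (tt N96441 (iv7 F412533)))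
theorem Q94977 : ∀ i, i < 94977 → P i := stepQ 94976 Q94976 (allL N94976 (tt N106105 (iv1 F453134)) (tt N108312 (iv0 F462021)) (tt N95595 (iv2 F408821)) (tt N58110 F406558) (tt N95536 F408539) (tt N95087 (iv5 F406981)) (tt N58108 (iv6 D198029)) (tt N94946 F406559))
theorem Q94978 : ∀ i, i < 94978 → P i := stepQ 94977 Q94977 (allL N94977 (tt N58112 (iv1 F406561)) (tt N58109 (iv0 D198030)) (tt N82058 F406564) (tt N81694 (iv3 F406563)) (tt N118753 D222012) (tt N59671 F406560) (tt N116585 (iv6 F500861)) (tt N96446 (iv7 F412558)))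
theorem Q94979 : ∀ i, i < 94979 → P i := stepQ 94978 Q94978 (allL N94978 (tt N58109 (iv1 D198031)) (tt N58112 F406565) (tt N96446 F412556) (tt N82060 (iv3 F406567)) (tt N118754 D222013) (tt N95130 F407162) (tt N72848 (iv6 F407164)) (tt N82058 F406566))
theorem Q94980 : ∀ i, i < 94980 → P i := stepQ 94979 Q94979 (allL N94979 (tt N118755 D222014) (tt N118756 D222015) (tt N107758 (iv2 F459590)) (tt N113335 (iv3 F485088)) (tt N58109 (iv4 D198032)) (tt N96210 (iv5 F411508)) (tt N93544 F423029) (tt N96447 (iv7 F412561)))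
theorem Q94981 : ∀ i, i < 94981 → P i := stepQ 94980 Q94980 (allL N94980 (tt N108226 F461567) (tt N62008 F423027) (tt N107759 (iv2 F459595)) (tt N93294 F424758) (tt N93544 (iv4 F423028)) (tt N95089 (iv5 F406983)) (tt N58109 (iv6 D198033)) (tt N110038 (iv7 F469666)))
theorem Q94982 : ∀ i, i < 94982 → P i := stepQ 94981 Q94981 (allL N94981 (tt N58111 (iv1 D198035)) (tt N82351 F406569) (tt N107756 F459579) (tt N107767 (iv3 F459636)) (tt N109610 (iv4 F467723)) (tt N107765 F459637) (tt N111047 (iv6 F474410)) (tt N107735 F459466))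
theorem Q94983 : ∀ i, i < 94983 → P i := stepQ 94982 Q94982 (allL N94982 (tt N118756 (iv1 F511911)) (tt N118755 F511910) (tt N96447 (iv2 F412560)) (tt N114617 (iv3 F491035)) (tt N58112 (iv4 D198036)) (tt N107425 (iv5 F458289)) (tt N110036 (iv6 F469660)) (tt N107758 (iv7 F459592)))
theorem Q94984 : ∀ i, i < 94984 → P i := stepQ 94983 Q94983 (allL N94983 (tt N99309 F424046) (tt N107770 F459652) (tt N107769 F459645) (tt N58113 (iv3 D198037)) (tt N106968 (iv4 F456476)) (tt N96559 F412987) (tt N107783 F459713) (tt N94805 F406570))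
theorem Q94985 : ∀ i, i < 94985 → P i := stepQ 94984 Q94984 (allL N94984 (tt N107427 (iv1 F458294)) (tt N107690 (iv0 F459244)) (tt N107754 F459571) (tt N110238 (iv3 F470572)) (tt N58113 (iv4 D198038)) (tt N110237 F470569) (tt N112493 (iv6 F481337)) (tt N107755 (iv7 F459573)))
theorem Q94986 : ∀ i, i < 94986 → P i := stepQ 94985 Q94985 (allL N94985 (tt N118702 (iv1 F511627)) (tt N107765 (iv0 F459638)) (tt N107307 (iv2 F457898)) (tt N58114 (iv3 D198039)) (tt N96494 (iv4 F412754)) (tt N82361 F406571) (tt N90018 F406574) (tt N112144 (iv7 F479727)))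
theorem Q94987 : ∀ i, i < 94987 → P i := stepQ 94986 Q94986 (allL N94986 (tt N107690 (iv1 F459245)) (tt N107427 (iv0 F458295)) (tt N107755 F459576) (tt N99097 (iv3 F423323)) (tt N58114 (iv4 D198040)) (tt N118757 D222016) (tt N99096 F423320) (tt N107754 F459572))
theorem Q94988 : ∀ i, i < 94988 → P i := stepQ 94987 Q94987 (allL N94987 (tt N99302 F424005) (tt N99347 (iv0 F424206)) (tt N94802 F406572) (tt N90018 (iv3 F406573)) (tt N99096 (iv4 F423318)) (tt N96481 (iv5 F412695)) (tt N58114 (iv6 D198041)) (tt N107295 (iv7 F457844)))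
theorem Q94989 : ∀ i, i < 94989 → P i := stepQ 94988 Q94988 (allL N94988 (tt N58115 (iv1 D198042)) (tt N110697 F472800) (tt N61860 F406589) (tt N108535 (iv3 F462988)) (tt N72914 (iv4 F406588)) (tt N118758 D222017) (tt N61858 F406590) (tt N110698 (iv7 F472804)))
theorem Q94990 : ∀ i, i < 94990 → P i := stepQ 94989 Q94989 (allL N94989 (tt N98951 F428866) (tt N102708 F438298) (tt N112185 (iv2 F479952)) (tt N58115 (iv3 D198043)) (tt N97418 (iv4 F416811)) (tt N118759 D222018) (tt N97416 F416802) (tt N112184 (iv7 F479949)))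
theorem Q94991 : ∀ i, i < 94991 → P i := stepQ 94990 Q94990 (allL N94990 (tt N96201 (iv1 F411468)) (tt N107200 F457437) (tt N107198 F457433) (tt N118759 (iv3 F511926)) (tt N72482 F406575) (tt N58115 (iv5 D198044)) (tt N112587 (iv6 F484456)) (tt N72481 (iv7 F406576)))
theorem Q94992 : ∀ i, i < 94992 → P i := stepQ 94991 Q94991 (allL N94991 (tt N61860 (iv1 F406579)) (tt N110698 F472806) (tt N110697 F472799) (tt N112184 (iv3 F479947)) (tt N58116 F406577) (tt N72481 F406578) (tt N110673 F472710) (tt N58115 (iv7 D198045)))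
theorem Q94993 : ∀ i, i < 94993 → P i := stepQ 94992 Q94992 (allL N94992 (tt N117031 F503056) (tt N90011 (iv0 F409193)) (tt N110135 (iv2 F470127)) (tt N116127 (iv3 F498616)) (tt N110673 F472709) (tt N65000 F406581) (tt N58116 (iv6 D198046)) (tt N118752 (iv7 F511894)))
theorem Q94994 : ∀ i, i < 94994 → P i := stepQ 94993 Q94993 (allL N94993 (tt N107895 (iv1 F460159)) (tt N91841 (iv0 F406583)) (tt N112242 (iv2 F480191)) (tt N58117 (iv3 D198047)) (tt N96813 (iv4 F414075)) (tt N118255 (iv5 F509391)) (tt N96786 (iv6 F413934)) (tt N72857 F406582))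
theorem Q94995 : ∀ i, i < 94995 → P i := stepQ 94994 Q94994 (allL N94994 (tt N72914 F406586) (tt N72219 F406587) (tt N72916 F406584) (tt N118255 (iv3 F509393)) (tt N118760 D222019) (tt N58117 (iv5 D198048)) (tt N90350 (iv6 F406591)) (tt N72858 F406585))
theorem Q94996 : ∀ i, i < 94996 → P i := stepQ 94995 Q94995 (allL N94995 (tt N58120 (iv1 F406593)) (tt N58118 (iv0 D198049)) (tt N95280 (iv2 F407701)) (tt N110454 (iv3 F471664)) (tt N118761 D222020) (tt N59664 F406592) (tt N97030 (iv6 F415112)) (tt N96417 (iv7 F412434)))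
theorem Q94997 : ∀ i, i < 94997 → P i := stepQ 94996 Q94996 (allL N94996 (tt N58118 (iv1 D198050)) (tt N58120 F406594) (tt N96417 F412432) (tt N116952 (iv3 F502669)) (tt N118762 D222021) (tt N95134 (iv5 F407181)) (tt N74013 (iv6 F407182)) (tt N95280 (iv7 F407702)))
theorem Q94998 : ∀ i, i < 94998 → P i := stepQ 94997 Q94997 (allL N94997 (tt N118753 (iv1 F511901)) (tt N118754 (iv0 F511906)) (tt N99008 (iv2 F423018)) (tt N61988 F406596) (tt N58118 (iv4 D198051)) (tt N96201 (iv5 F411466)) (tt N61986 F406595) (tt N96418 (iv7 F412438)))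
theorem Q94999 : ∀ i, i < 94999 → P i := stepQ 94998 Q94998 (allL N94998 (tt N58119 (iv1 D198052)) (tt N96180 F411367) (tt N101151 (iv2 F431950)) (tt N82500 (iv3 F406597)) (tt N110936 (iv4 F473870)) (tt N90775 F411368) (tt N82498 F406598) (tt N101150 F431946))
theorem Q95000 : ∀ i, i < 95000 → P i := stepQ 94999 Q94999 (allL N94999 (tt N108953 (iv1 F464643)) (tt N93961 (iv0 F406600)) (tt N101152 (iv2 F431956)) (tt N58120 F406599) (tt N115005 (iv4 F493017)) (tt N58119 (iv5 D198053)) (tt N114572 (iv6 F490820)) (tt N108952 (iv7 F464634)))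
theorem Q95001 : ∀ i, i < 95001 → P i := stepQ 95000 Q95000 (allL N95000 (tt N118754 (iv1 F511907)) (tt N118753 (iv0 F511900)) (tt N96418 (iv2 F412436)) (tt N118763 D222022) (tt N58120 (iv4 D198054)) (tt N107200 (iv5 F457436)) (tt N100283 F428253) (tt N99008 F423020))
theorem Q95002 : ∀ i, i < 95002 → P i := stepQ 95001 Q95001 (allL N95001 (tt N96679 F413420) (tt N96713 (iv0 F413579)) (tt N72299 F406601) (tt N114572 (iv3 F490819)) (tt N100283 (iv4 F428249)) (tt N59592 F406602) (tt N58120 (iv6 D198055)) (tt N109941 (iv7 F469322)))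
theorem Q95003 : ∀ i, i < 95003 → P i := stepQ 95002 Q95002 (allL N95002 (tt N72262 F406606) (tt N72264 F406605) (tt N72484 F406603) (tt N108683 (iv3 F463533)) (tt N118758 (iv4 F511922)) (tt N58121 (iv5 D198056)) (tt N106645 (iv6 F455130)) (tt N72488 F406604))
theorem Q95004 : ∀ i, i < 95004 → P i := stepQ 95003 Q95003 (allL N95003 (tt N72445 F406611) (tt N89898 F406614) (tt N117729 (iv2 F506661)) (tt N58122 (iv3 D198057)) (tt N72953 F406608) (tt N113470 (iv5 F485634)) (tt N88773 F406609) (tt N72483 F406610))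
theorem Q95005 : ∀ i, i < 95005 → P i := stepQ 95004 Q95004 (allL N95004 (tt N72264 F406618) (tt N72262 F406619) (tt N72488 F406615) (tt N113470 (iv3 F485631)) (tt N110699 (iv4 F472812)) (tt N58122 (iv5 D198058)) (tt N70429 F406616) (tt N72484 F406617))
theorem Q95006 : ∀ i, i < 95006 → P i := stepQ 95005 Q95005 (allL N95005 (tt N110393 (iv1 F471370)) (tt N95934 (iv0 F426970)) (tt N109270 (iv2 F466097)) (tt N58123 (iv3 D198059)) (tt N72658 F406620) (tt N110385 (iv5 F471342)) (tt N118764 D222023) (tt N72478 F406621))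
theorem Q95007 : ∀ i, i < 95007 → P i := stepQ 95006 Q95006 (allL N95006 (tt N72269 F406624) (tt N64884 F406625) (tt N72476 F406622) (tt N110385 (iv3 F471341)) (tt N118757 (iv4 F511917)) (tt N58123 (iv5 D198060)) (tt N118765 D222024) (tt N72479 F406623))
theorem Q95008 : ∀ i, i < 95008 → P i := stepQ 95007 Q95007 (allL N95007 (tt N72459 F406630) (tt N72181 (iv0 F406632)) (tt N72477 F406627) (tt N118764 (iv3 F511953)) (tt N59054 F406628) (tt N72436 F406631) (tt N58123 (iv6 D198061)) (tt N72621 F406629))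
theorem Q95009 : ∀ i, i < 95009 → P i := stepQ 95008 Q95008 (allL N95008 (tt N118766 D222025) (tt N58125 (iv0 D198062)) (tt N117745 (iv2 F506759)) (tt N118767 D222026) (tt N118768 D222027) (tt N118769 D222028) (tt N117096 F503358) (tt N118770 D222029))
theorem Q95010 : ∀ i, i < 95010 → P i := stepQ 95009 Q95009 (allL N95009 (tt N58125 (iv1 D198063)) (tt N118766 F511969) (tt N118770 (iv2 F511981)) (tt N72764 (iv3 F406633)) (tt N118771 D222030) (tt N118772 D222031) (tt N105523 (iv6 F457166)) (tt N117745 (iv7 F506757)))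
theorem Q95011 : ∀ i, i < 95011 → P i := stepQ 95010 Q95010 (allL N95010 (tt N117745 F506760) (tt N118770 F511984) (tt N58125 (iv2 D198064)) (tt N72468 F406634) (tt N117810 (iv4 F507083)) (tt N117233 (iv5 F504037)) (tt N58130 F406635) (tt N118766 (iv7 F511968)))
theorem Q95012 : ∀ i, i < 95012 → P i := stepQ 95011 Q95011 (allL N95011 (tt N116098 F498449) (tt N118773 D222032) (tt N117233 (iv2 F504036)) (tt N58126 F406636) (tt N118774 D222033) (tt N58125 (iv5 D198065)) (tt N114630 (iv6 F491094)) (tt N118775 D222034))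
theorem Q95013 : ∀ i, i < 95013 → P i := stepQ 95012 Q95012 (allL N95012 (tt N118770 (iv1 F511985)) (tt N117745 (iv0 F506758)) (tt N118766 F511965) (tt N58127 F406637) (tt N117814 (iv4 F507092)) (tt N118775 (iv5 F512002)) (tt N72512 F406638) (tt N58125 (iv7 D198066)))
theorem Q95014 : ∀ i, i < 95014 → P i := stepQ 95013 Q95013 (allL N95013 (tt N72482 (iv1 F406644)) (tt N58126 (iv0 D198067)) (tt N72480 (iv2 F406640)) (tt N83385 F406641) (tt N107425 (iv4 F458287)) (tt N59298 F406639) (tt N83047 F406642) (tt N59297 F406643))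
theorem Q95015 : ∀ i, i < 95015 → P i := stepQ 95014 Q95014 (allL N95014 (tt N107200 (iv1 F457438)) (tt N96201 (iv0 F411467)) (tt N72481 F406645) (tt N118776 D222035) (tt N58126 (iv4 D198068)) (tt N110697 (iv5 F472796)) (tt N118777 D222036) (tt N107198 (iv7 F457430)))
theorem Q95016 : ∀ i, i < 95016 → P i := stepQ 95015 Q95015 (allL N95015 (tt N109819 (iv1 F468777)) (tt N110012 F469553) (tt N72475 F406646) (tt N114630 (iv3 F491093)) (tt N118777 (iv4 F512008)) (tt N58132 F406647) (tt N58126 (iv6 D198069)) (tt N110011 (iv7 F469542)))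
theorem Q95017 : ∀ i, i < 95017 → P i := stepQ 95016 Q95016 (allL N95016 (tt N59297 (iv1 F406650)) (tt N72480 F406651) (tt N72482 F406648) (tt N118775 (iv3 F512000)) (tt N107198 (iv4 F457432)) (tt N58127 F406649) (tt N113199 (iv6 F484439)) (tt N58126 (iv7 D198070)))
theorem Q95018 : ∀ i, i < 95018 → P i := stepQ 95017 Q95017 (allL N95017 (tt N107303 (iv1 F457885)) (tt N108693 (iv0 F463585)) (tt N72501 F406652) (tt N92428 F406655) (tt N58128 (iv4 D198071)) (tt N62393 F406654) (tt N101189 (iv6 F432106)) (tt N72499 F406653))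
theorem Q95019 : ∀ i, i < 95019 → P i := stepQ 95018 Q95018 (allL N95018 (tt N69715 F406662) (tt N62251 F406663) (tt N69716 F406658) (tt N106358 (iv3 F454128)) (tt N61387 F406661) (tt N58128 (iv5 D198072)) (tt N69567 F406659) (tt N61386 F406660))
theorem Q95020 : ∀ i, i < 95020 → P i := stepQ 95019 Q95019 (allL N95019 (tt N62251 F406671) (tt N69715 F406672) (tt N61386 F406666) (tt N72754 F406667) (tt N61354 F406668) (tt N58129 (iv5 D198073)) (tt N61364 F406669) (tt N69716 F406670))
theorem Q95021 : ∀ i, i < 95021 → P i := stepQ 95020 Q95020 (allL N95020 (tt N72506 (iv1 F406678)) (tt N72505 F406679) (tt N58131 F406673) (tt N72467 F406674) (tt N74499 F406675) (tt N58130 (iv5 D198074)) (tt N89869 F406677) (tt N72503 F406676))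
theorem Q95022 : ∀ i, i < 95022 → P i := stepQ 95021 Q95021 (allL N95021 (tt N64871 (iv1 F406684)) (tt N58132 (iv0 D198075)) (tt N64808 (iv2 F406682)) (tt N97795 F418337) (tt N96415 (iv4 F413258)) (tt N81949 F406681) (tt N64496 F406680) (tt N64510 F406683))
theorem Q95023 : ∀ i, i < 95023 → P i := stepQ 95022 Q95022 (allL N95022 (tt N64510 (iv1 F406689)) (tt N64808 F406690) (tt N64871 F406685) (tt N86198 F406686) (tt N86200 F406687) (tt N110011 (iv5 F469543)) (tt N72516 F406688) (tt N58132 (iv7 D198076)))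
theorem Q95024 : ∀ i, i < 95024 → P i := stepQ 95023 Q95023 (allL N95023 (tt N58303 F406696) (tt N58290 (iv0 F406697)) (tt N58231 F406693) (tt N73690 F406694) (tt N58133 (iv4 D198077)) (tt N77125 (iv5 F406698)) (tt N101951 (iv6 F435068)) (tt N58302 F406695))
theorem Q95025 : ∀ i, i < 95025 → P i := stepQ 95024 Q95024 (allL N95024 (tt N67988 (iv1 F406704)) (tt N60688 (iv0 F406703)) (tt N65740 F406700) (tt N67359 F406701) (tt N101951 (iv4 F435067)) (tt N101850 (iv5 F434662)) (tt N58133 (iv6 D198078)) (tt N60518 F406702))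
theorem Q95026 : ∀ i, i < 95026 → P i := stepQ 95025 Q95025 (allL N95025 (tt N65755 F406707) (tt N65758 (iv0 F406708)) (tt N65754 F408240) (tt N58134 (iv3 D198079)) (tt N115761 (iv4 F496718)) (tt N65797 (iv5 F411038)) (tt N60519 F406705) (tt N65738 F406706))
theorem Q95027 : ∀ i, i < 95027 → P i := stepQ 95026 Q95026 (allL N95026 (tt N65743 F406714) (tt N65669 F406713) (tt N58136 F406709) (tt N65724 F406710) (tt N65586 F406712) (tt N58135 (iv5 D198080)) (tt N111594 (iv6 F477071)) (tt N65741 F406711))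
theorem Q95028 : ∀ i, i < 95028 → P i := stepQ 95027 Q95027 (allL N95027 (tt N65741 (iv1 F406717)) (tt N58136 (iv0 D198081)) (tt N65743 F406722) (tt N65679 F406716) (tt N65764 F406715) (tt N65624 F406718) (tt N97950 F418936) (tt N65669 (iv7 F406719)))
theorem Q95029 : ∀ i, i < 95029 → P i := stepQ 95028 Q95028 (allL N95028 (tt N58136 (iv1 D198082)) (tt N65741 F406725) (tt N65669 (iv2 F406728)) (tt N118086 (iv3 F508501)) (tt N118708 (iv4 F511663)) (tt N65625 F406727) (tt N65664 (iv6 F406729)) (tt N65743 F406726))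
theorem Q95030 : ∀ i, i < 95030 → P i := stepQ 95029 Q95029 (allL N95029 (tt N118778 D222037) (tt N118779 D222038) (tt N111594 (iv2 F477068)) (tt N58138 F406730) (tt N102116 (iv4 F435811)) (tt N101965 (iv5 F435115)) (tt N58136 (iv6 D198083)) (tt N102092 (iv7 F435682)))
theorem Q95031 : ∀ i, i < 95031 → P i := stepQ 95030 Q95030 (allL N95030 (tt N100686 (iv1 F430014)) (tt N58137 (iv0 D198084)) (tt N102353 (iv2 F436860)) (tt N118780 D222039) (tt N100543 F429410) (tt N80222 F429412) (tt N100541 (iv6 F429411)) (tt N111593 (iv7 F477063)))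
theorem Q95032 : ∀ i, i < 95032 → P i := stepQ 95031 Q95031 (allL N95031 (tt N58137 (iv1 D198085)) (tt N100686 F430015) (tt N111593 F477067) (tt N106726 (iv3 F455426)) (tt N117559 (iv4 F505694)) (tt N81790 F406731) (tt N118781 D222040) (tt N102353 F436867))
theorem Q95033 : ∀ i, i < 95033 → P i := stepQ 95032 Q95032 (allL N95032 (tt N97044 (iv1 F415195)) (tt N97039 (iv0 F415154)) (tt N65734 F406732) (tt N100695 (iv3 F430058)) (tt N58140 (iv4 D198086)) (tt N74617 F406733) (tt N95393 (iv6 F408095)) (tt N111577 (iv7 F476986)))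
theorem Q95034 : ∀ i, i < 95034 → P i := stepQ 95033 Q95033 (allL N95033 (tt N74649 F406738) (tt N74646 F406739) (tt N73047 F406734) (tt N118782 D222041) (tt N58141 (iv4 D198087)) (tt N93955 F406737) (tt N93234 F406735) (tt N59206 F406736))
theorem Q95035 : ∀ i, i < 95035 → P i := stepQ 95034 Q95034 (allL N95034 (tt N58683 (iv1 F406742)) (tt N58198 F406743) (tt N96372 (iv2 F412274)) (tt N58143 (iv3 D198088)) (tt N87000 F406740) (tt N116377 (iv5 F499783)) (tt N101663 (iv6 F433751)) (tt N80581 F406741))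
theorem Q95036 : ∀ i, i < 95036 → P i := stepQ 95035 Q95035 (allL N95035 (tt N58163 F406747) (tt N94824 F406748) (tt N94825 F406744) (tt N116377 (iv3 F499781)) (tt N89862 F406745) (tt N58143 (iv5 D198089)) (tt N114587 (iv6 F490889)) (tt N85151 F406746))
theorem Q95037 : ∀ i, i < 95037 → P i := stepQ 95036 Q95036 (allL N95036 (tt N58169 F406749) (tt N101676 F433818) (tt N101677 (iv2 F433824)) (tt N101663 (iv3 F433752)) (tt N111472 (iv4 F476498)) (tt N101684 (iv5 F433854)) (tt N58143 (iv6 D198090)) (tt N101678 (iv7 F433827)))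
theorem Q95038 : ∀ i, i < 95038 → P i := stepQ 95037 Q95037 (allL N95037 (tt N73652 F406754) (tt N73691 (iv0 F406755)) (tt N71052 F406750) (tt N58677 F406751) (tt N58145 (iv4 D198091)) (tt N99703 (iv5 F425813)) (tt N81598 F406752) (tt N58703 F406753))
theorem Q95039 : ∀ i, i < 95039 → P i := stepQ 95038 Q95038 (allL N95038 (tt N94829 (iv1 F406760)) (tt N58164 (iv0 F406759)) (tt N94831 (iv2 F406778)) (tt N58679 F406756) (tt N85569 F406758) (tt N58145 (iv5 D198092)) (tt N118783 D222042) (tt N58705 F406757))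
theorem Q95040 : ∀ i, i < 95040 → P i := stepQ 95039 Q95039 (allL N95039 (tt N58687 (iv1 F406766)) (tt N58148 (iv0 F406765)) (tt N58691 F406761) (tt N58146 (iv3 D198093)) (tt N65987 F406763) (tt N107914 (iv5 F460257)) (tt N80573 (iv6 F406764)) (tt N58688 F406762))
theorem Q95041 : ∀ i, i < 95041 → P i := stepQ 95040 Q95040 (allL N95040 (tt N73691 F406770) (tt N73652 (iv0 F406771)) (tt N58703 F406767) (tt N59765 F406768) (tt N58146 (iv4 D198094)) (tt N78258 F406772) (tt N78660 (iv6 F406773)) (tt N71052 F406769))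
theorem Q95042 : ∀ i, i < 95042 → P i := stepQ 95041 Q95041 (allL N95041 (tt N58164 F406775) (tt N94829 F406776) (tt N58705 F406774) (tt N107914 F460263) (tt N114723 (iv4 F491535)) (tt N58146 (iv5 D198095)) (tt N85153 F420159) (tt N94831 (iv7 F406777)))
theorem Q95043 : ∀ i, i < 95043 → P i := stepQ 95042 Q95042 (allL N95042 (tt N58214 (iv1 F406784)) (tt N80565 (iv0 F406783)) (tt N58706 F406780) (tt N80573 F406781) (tt N78660 F406782) (tt N116928 (iv5 F502543)) (tt N58146 (iv6 D198096)) (tt N80566 F406785))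
theorem Q95044 : ∀ i, i < 95044 → P i := stepQ 95043 Q95043 (allL N95043 (tt N102415 (iv1 F437144)) (tt N118707 (iv0 F511659)) (tt N65592 F406786) (tt N102100 F435724) (tt N65588 F406787) (tt N58149 (iv5 D198097)) (tt N103308 (iv6 F441077)) (tt N102291 (iv7 F436586)))
theorem Q95045 : ∀ i, i < 95045 → P i := stepQ 95044 Q95044 (allL N95044 (tt N93436 (iv1 F406793)) (tt N93435 (iv0 F406792)) (tt N59501 F406788) (tt N59952 F406789) (tt N58151 (iv4 D198098)) (tt N118784 D222043) (tt N93447 F406790) (tt N59071 F406791))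
theorem Q95046 : ∀ i, i < 95046 → P i := stepQ 95045 Q95045 (allL N95045 (tt N118707 (iv1 F511660)) (tt N102415 (iv0 F437143)) (tt N102291 (iv2 F436582)) (tt N94790 F406794) (tt N65509 F406795) (tt N58152 (iv5 D198099)) (tt N118785 D222044) (tt N65592 F406796))
theorem Q95047 : ∀ i, i < 95047 → P i := stepQ 95046 Q95046 (allL N95046 (tt N59508 F406799) (tt N118682 F511524) (tt N58157 F406797) (tt N108686 (iv3 F463546)) (tt N58153 (iv4 D198100)) (tt N65581 F406798) (tt N107567 (iv6 F458779)) (tt N118681 (iv7 F511518)))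
theorem Q95048 : ∀ i, i < 95048 → P i := stepQ 95047 Q95047 (allL N95047 (tt N91562 F406801) (tt N77109 (iv0 F406803)) (tt N58158 F406800) (tt N114402 (iv3 F489972)) (tt N107567 (iv4 F458780)) (tt N90706 (iv5 F406802)) (tt N58153 (iv6 D198101)) (tt N93748 F406805))
theorem Q95049 : ∀ i, i < 95049 → P i := stepQ 95048 Q95048 (allL N95048 (tt N58154 (iv1 D198103)) (tt N58162 F406806) (tt N58160 F406808) (tt N97662 (iv3 F417830)) (tt N65958 (iv4 F406807)) (tt N93742 F406810) (tt N118786 D222045) (tt N58159 F406809))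
theorem Q95050 : ∀ i, i < 95050 → P i := stepQ 95049 Q95049 (allL N95049 (tt N91620 F406833) (tt N91617 F406818) (tt N58161 F406815) (tt N111377 (iv3 F476081)) (tt N90566 (iv4 F406819)) (tt N58154 (iv5 D198104)) (tt N90706 F406816) (tt N91605 F406817))
theorem Q95051 : ∀ i, i < 95051 → P i := stepQ 95050 Q95050 (allL N95050 (tt N58160 (iv1 F406841)) (tt N58159 F406842) (tt N58162 F406839) (tt N101660 F433741) (tt N100686 (iv4 F430012)) (tt N91605 F406840) (tt N111024 (iv6 F474310)) (tt N58154 (iv7 D198105)))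
theorem Q95052 : ∀ i, i < 95052 → P i := stepQ 95051 Q95051 (allL N95051 (tt N76239 F406852) (tt N61236 F406847) (tt N76237 F406846) (tt N58156 (iv3 D198106)) (tt N61202 (iv4 F406845)) (tt N94686 F406843) (tt N113116 (iv6 F484039)) (tt N76238 (iv7 F406851)))
theorem Q95053 : ∀ i, i < 95053 → P i := stepQ 95052 Q95052 (allL N95052 (tt N80588 (iv1 F430672)) (tt N101798 (iv0 F434389)) (tt N94842 F406853) (tt N113116 (iv3 F484042)) (tt N96644 (iv4 F413302)) (tt N80572 (iv5 F430666)) (tt N58156 (iv6 D198107)) (tt N118150 (iv7 F508874)))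
theorem Q95054 : ∀ i, i < 95054 → P i := stepQ 95053 Q95053 (allL N95053 (tt N118681 (iv1 F511520)) (tt N58157 (iv0 D198108)) (tt N59508 (iv2 F406855)) (tt N96438 F412521) (tt N118787 D222046) (tt N59953 F406854) (tt N59503 F406856) (tt N118682 (iv7 F511525)))
theorem Q95055 : ∀ i, i < 95055 → P i := stepQ 95054 Q95054 (allL N95054 (tt N58157 (iv1 D198109)) (tt N118681 (iv0 F511519)) (tt N118682 F511523) (tt N58716 (iv3 F406859)) (tt N114657 (iv4 F491230)) (tt N58715 F406858) (tt N117619 (iv6 F506031)) (tt N59508 F406857))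
theorem Q95056 : ∀ i, i < 95056 → P i := stepQ 95055 Q95055 (allL N95055 (tt N108318 (iv1 F462041)) (tt N110136 (iv0 F470131)) (tt N107567 (iv2 F458777)) (tt N96451 (iv3 F412573)) (tt N58158 F406860) (tt N93885 F406861) (tt N58157 (iv6 D198110)) (tt N108917 (iv7 F464476)))
theorem Q95057 : ∀ i, i < 95057 → P i := stepQ 95056 Q95056 (allL N95056 (tt N93748 (iv1 F406867)) (tt N58158 (iv0 D198111)) (tt N91562 (iv2 F406864)) (tt N77085 F406862) (tt N108327 (iv4 F462077)) (tt N77084 F406865) (tt N72230 F406863) (tt N77109 F406866))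
theorem Q95058 : ∀ i, i < 95058 → P i := stepQ 95057 Q95057 (allL N95057 (tt N77086 (iv1 F406874)) (tt N91475 F406873) (tt N90706 F406868) (tt N58167 F406869) (tt N83161 F406871) (tt N58158 (iv5 D198112)) (tt N58161 F406870) (tt N83160 F406872))
theorem Q95059 : ∀ i, i < 95059 → P i := stepQ 95058 Q95058 (allL N95058 (tt N77109 (iv1 F406887)) (tt N91562 F406888) (tt N93748 F406884) (tt N58168 F406885) (tt N108917 (iv4 F464474)) (tt N83160 F406886) (tt N110483 (iv6 F471792)) (tt N58158 (iv7 D198113)))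
theorem Q95060 : ∀ i, i < 95060 → P i := stepQ 95059 Q95059 (allL N95059 (tt N108453 (iv1 F462644)) (tt N58690 (iv0 F406892)) (tt N93829 F406889) (tt N58159 (iv3 D198114)) (tt N81741 F406891) (tt N81718 F406890) (tt N64972 F406895) (tt N97662 (iv7 F417832)))
theorem Q95061 : ∀ i, i < 95061 → P i := stepQ 95060 Q95060 (allL N95060 (tt N64986 F412058) (tt N96333 F412099) (tt N96331 (iv2 F412075)) (tt N64972 (iv3 F406894)) (tt N79732 F406893) (tt N114125 (iv5 F488658)) (tt N58159 (iv6 D198115)) (tt N96330 F412081))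
theorem Q95062 : ∀ i, i < 95062 → P i := stepQ 95061 Q95061 (allL N95061 (tt N107782 (iv1 F473713)) (tt N110904 (iv0 F473712)) (tt N118786 (iv2 F512060)) (tt N93838 F406896) (tt N112474 (iv4 F481227)) (tt N94614 (iv5 F464520)) (tt N58160 (iv6 D198116)) (tt N115352 (iv7 F494739)))
theorem Q95063 : ∀ i, i < 95063 → P i := stepQ 95062 Q95062 (allL N95062 (tt N91605 (iv1 F406899)) (tt N58161 (iv0 D198117)) (tt N91620 (iv2 F406900)) (tt N77134 (iv3 F406901)) (tt N91492 F406898) (tt N59429 F406897) (tt N96051 (iv6 F410812)) (tt N91617 (iv7 F406902)))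
theorem Q95064 : ∀ i, i < 95064 → P i := stepQ 95063 Q95063 (allL N95063 (tt N58161 (iv1 D198118)) (tt N91605 F406903) (tt N91617 (iv2 F406909)) (tt N59210 F406907) (tt N91491 F406905) (tt N93481 (iv5 F406906)) (tt N108666 (iv6 F463450)) (tt N91620 F406904))
theorem Q95065 : ∀ i, i < 95065 → P i := stepQ 95064 Q95064 (allL N95064 (tt N85151 (iv1 F406915)) (tt N94825 F406914) (tt N58163 (iv2 D198119)) (tt N94829 F406910) (tt N85148 F406911) (tt N72894 F406912) (tt N99293 (iv6 F423971)) (tt N94824 F406913))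
theorem Q95066 : ∀ i, i < 95066 → P i := stepQ 95065 Q95065 (allL N95065 (tt N94831 (iv1 F406921)) (tt N58705 F406920) (tt N58164 (iv2 D198120)) (tt N94824 F406916) (tt N99883 (iv4 F426676)) (tt N72898 F406917) (tt N86303 F406918) (tt N94829 F406919))
theorem Q95067 : ∀ i, i < 95067 → P i := stepQ 95066 Q95066 (allL N95066 (tt N85152 (iv1 F406940)) (tt N114587 F490890) (tt N114586 F490885) (tt N58165 (iv3 D198122)) (tt N85102 (iv4 F406939)) (tt N92920 F406938) (tt N116764 (iv6 F501708)) (tt N85100 F406935))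
theorem Q95068 : ∀ i, i < 95068 → P i := stepQ 95067 Q95067 (allL N95067 (tt N117300 F504360) (tt N93351 F407587) (tt N108171 (iv2 F461384)) (tt N92920 (iv3 F406937)) (tt N107848 (iv4 F459981)) (tt N58165 (iv5 D198124)) (tt N117909 (iv6 F507544)) (tt N92917 F406936))
theorem Q95069 : ∀ i, i < 95069 → P i := stepQ 95068 Q95068 (allL N95068 (tt N80587 F407588) (tt N101761 (iv0 F434225)) (tt N108172 (iv2 F461387)) (tt N116764 (iv3 F501707)) (tt N96710 (iv4 F413561)) (tt N94972 F406923) (tt N58165 (iv6 D198125)) (tt N112834 (iv7 F482861)))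
theorem Q95070 : ∀ i, i < 95070 → P i := stepQ 95069 Q95069 (allL N95069 (tt N118783 F512045) (tt N108319 (iv0 F462044)) (tt N118359 (iv2 F509902)) (tt N58166 (iv3 D198127)) (tt N99519 (iv4 F424967)) (tt N108311 (iv5 F462016)) (tt N113252 F484715) (tt N108170 (iv7 F461382)))
theorem Q95071 : ∀ i, i < 95071 → P i := stepQ 95070 Q95070 (allL N95070 (tt N93351 F406925) (tt N117300 (iv0 F504359)) (tt N92917 F406948) (tt N108311 (iv3 F462013)) (tt N107849 F459984) (tt N58166 (iv5 D198129)) (tt N92915 (iv6 F406949)) (tt N108171 (iv7 F461385)))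
theorem Q95072 : ∀ i, i < 95072 → P i := stepQ 95071 Q95071 (allL N95071 (tt N117269 F504207) (tt N58167 (iv0 D198130)) (tt N111028 (iv2 F474330)) (tt N110928 (iv3 F473831)) (tt N118788 D222047) (tt N82407 F406951) (tt N82408 F406950) (tt N118166 (iv7 F508962)))
theorem Q95073 : ∀ i, i < 95073 → P i := stepQ 95072 Q95072 (allL N95072 (tt N58167 (iv1 D198131)) (tt N117269 (iv0 F504206)) (tt N118166 (iv2 F508958)) (tt N118789 D222048) (tt N108715 (iv4 F463665)) (tt N105379 (iv5 F449966)) (tt N118397 F510135) (tt N111028 (iv7 F474332)))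
theorem Q95074 : ∀ i, i < 95074 → P i := stepQ 95073 Q95073 (allL N95073 (tt N77864 F406953) (tt N107844 (iv0 F459966)) (tt N116537 (iv2 F500662)) (tt N108708 (iv3 F463640)) (tt N58167 (iv4 D198132)) (tt N118790 D222049) (tt N58176 F406952) (tt N118791 D222050))
theorem Q95075 : ∀ i, i < 95075 → P i := stepQ 95074 Q95074 (allL N95074 (tt N118166 (iv1 F508964)) (tt N111028 (iv0 F474334)) (tt N117269 (iv2 F504201)) (tt N83160 F406954) (tt N118791 (iv4 F512092)) (tt N58168 F406955) (tt N83162 F406956) (tt N58167 (iv7 D198133)))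
theorem Q95076 : ∀ i, i < 95076 → P i := stepQ 95075 Q95075 (allL N95075 (tt N101676 F433817) (tt N58169 (iv0 D198134)) (tt N101678 (iv2 F433830)) (tt N93831 F410866) (tt N79236 F406957) (tt N96062 (iv5 F410865)) (tt N79235 (iv6 F406958)) (tt N101677 (iv7 F433825)))
theorem Q95077 : ∀ i, i < 95077 → P i := stepQ 95076 Q95076 (allL N95076 (tt N108994 F464817) (tt N108304 (iv0 F461980)) (tt N118283 (iv2 F509505)) (tt N93693 F406959) (tt N58170 (iv4 D198135)) (tt N93686 F406960) (tt N93689 (iv6 F406961)) (tt N107868 F460061))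
theorem Q95078 : ∀ i, i < 95078 → P i := stepQ 95077 Q95077 (allL N95077 (tt N118792 D222051) (tt N117567 (iv0 F505744)) (tt N118678 (iv2 F511495)) (tt N80808 F406962) (tt N93689 F406963) (tt N81185 F406964) (tt N58170 (iv6 D198136)) (tt N80806 F406965))
theorem Q95079 : ∀ i, i < 95079 → P i := stepQ 95078 Q95078 (allL N95078 (tt N58171 (iv1 D198137)) (tt N95592 (iv0 F408807)) (tt N80568 F408575) (tt N108453 F462648) (tt N81593 (iv4 F408573)) (tt N106054 (iv5 F452918)) (tt N80566 F408576) (tt N106773 (iv7 F455621)))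
theorem Q95080 : ∀ i, i < 95080 → P i := stepQ 95079 Q95079 (allL N95079 (tt N106773 (iv1 F455622)) (tt N80568 F406966) (tt N58171 (iv2 D198138)) (tt N101676 (iv3 F433814)) (tt N95535 (iv4 F408533)) (tt N106799 (iv5 F455732)) (tt N118793 D222052) (tt N95592 (iv7 F408806)))
theorem Q95081 : ∀ i, i < 95081 → P i := stepQ 95080 Q95080 (allL N95080 (tt N71678 (iv1 F406970)) (tt N71673 (iv0 F406969)) (tt N106799 (iv2 F455730)) (tt N58172 F406967) (tt N72130 F406968) (tt N58171 (iv5 D198139)) (tt N118794 D222053) (tt N106801 (iv7 F455739)))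
theorem Q95082 : ∀ i, i < 95082 → P i := stepQ 95081 Q95081 (allL N95081 (tt N64944 F407675) (tt N107779 F459694) (tt N118793 (iv2 F512104)) (tt N58173 F406971) (tt N95588 (iv4 F408786)) (tt N78148 (iv5 F406972)) (tt N58171 (iv6 D198140)) (tt N96582 (iv7 F413075)))
theorem Q95083 : ∀ i, i < 95083 → P i := stepQ 95082 Q95082 (allL N95082 (tt N108304 (iv1 F461981)) (tt N108994 F464816) (tt N107868 (iv2 F460058)) (tt N117871 F507363) (tt N58172 (iv4 D198141)) (tt N107858 (iv5 F460025)) (tt N107722 F459393) (tt N118283 (iv7 F509507)))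
theorem Q95084 : ∀ i, i < 95084 → P i := stepQ 95083 Q95083 (allL N95083 (tt N94945 F406977) (tt N92385 (iv0 F406976)) (tt N94942 F406973) (tt N118794 (iv3 F512111)) (tt N107722 (iv4 F459388)) (tt N78149 F406974) (tt N58172 (iv6 D198142)) (tt N94943 (iv7 F406975)))
theorem Q95085 : ∀ i, i < 95085 → P i := stepQ 95084 Q95084 (allL N95084 (tt N96062 F410867) (tt N101684 (iv0 F433855)) (tt N118243 (iv2 F509329)) (tt N58174 (iv3 D198143)) (tt N110588 (iv4 F472258)) (tt N59417 F406978) (tt N111548 (iv6 F476860)) (tt N118679 (iv7 F511506)))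
theorem Q95086 : ∀ i, i < 95086 → P i := stepQ 95085 Q95085 (allL N95085 (tt N95175 (iv1 F407315)) (tt N94735 F406979) (tt N95173 F407305) (tt N110589 (iv3 F472261)) (tt N58174 (iv4 D198144)) (tt N107860 (iv5 F460029)) (tt N118795 D222054) (tt N95174 (iv7 F407307)))
theorem Q95087 : ∀ i, i < 95087 → P i := stepQ 95086 Q95086 (allL N95086 (tt N118796 D222055) (tt N96047 (iv0 F412403)) (tt N96552 (iv2 F412949)) (tt N111548 F476864) (tt N118795 (iv4 F512118)) (tt N59418 F406980) (tt N58174 (iv6 D198145)) (tt N118244 (iv7 F509336)))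
theorem Q95088 : ∀ i, i < 95088 → P i := stepQ 95087 Q95087 (allL N95087 (tt N106052 (iv1 F452911)) (tt N106054 (iv0 F452921)) (tt N106772 F455616) (tt N58175 (iv3 D198146)) (tt N66353 (iv4 F406985)) (tt N94976 F406981) (tt N72089 F406986) (tt N106771 (iv7 F455612)))
theorem Q95089 : ∀ i, i < 95089 → P i := stepQ 95088 Q95088 (allL N95088 (tt N94735 F406982) (tt N95175 F407314) (tt N95174 F407309) (tt N117842 (iv3 F507225)) (tt N58175 (iv4 D198147)) (tt N107861 (iv5 F460036)) (tt N102311 F436666) (tt N95173 F407306))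
theorem Q95090 : ∀ i, i < 95090 → P i := stepQ 95089 Q95089 (allL N95089 (tt N93685 F412404) (tt N117883 (iv0 F507419)) (tt N117885 (iv2 F507430)) (tt N72089 (iv3 F406987)) (tt N102311 (iv4 F436665)) (tt N94980 F406983) (tt N58175 (iv6 D198148)) (tt N117886 (iv7 F507433)))
theorem Q95091 : ∀ i, i < 95091 → P i := stepQ 95090 Q95090 (allL N95090 (tt N118680 (iv1 F511513)) (tt N58176 (iv0 D198149)) (tt N73084 (iv2 F406988)) (tt N93851 (iv3 F406989)) (tt N58260 F406984) (tt N73055 (iv5 F406991)) (tt N97107 (iv6 F415494)) (tt N73054 (iv7 F406990)))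
theorem Q95092 : ∀ i, i < 95092 → P i := stepQ 95091 Q95091 (allL N95091 (tt N58176 (iv1 D198150)) (tt N118680 F511512) (tt N73054 (iv2 F406994)) (tt N94395 (iv3 F406997)) (tt N58261 F406993) (tt N72882 (iv5 F406995)) (tt N93684 F406996) (tt N73084 F406992))
theorem Q95093 : ∀ i, i < 95093 → P i := stepQ 95092 Q95092 (allL N95092 (tt N93600 F407000) (tt N93603 F407001) (tt N73065 F406998) (tt N107342 (iv3 F458021)) (tt N72885 F406999) (tt N58176 (iv5 D198152)) (tt N93590 (iv6 F407002)) (tt N73071 (iv7 F407003)))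
theorem Q95094 : ∀ i, i < 95094 → P i := stepQ 95093 Q95093 (allL N95093 (tt N73054 (iv1 F407006)) (tt N73084 F407007) (tt N118680 (iv2 F511509)) (tt N108688 F463562) (tt N58177 F407004) (tt N73071 F407005) (tt N95327 (iv6 F407868)) (tt N58176 (iv7 D198153)))
theorem Q95095 : ∀ i, i < 95095 → P i := stepQ 95094 Q95094 (allL N95094 (tt N116005 (iv1 F498009)) (tt N118797 D222056) (tt N96904 (iv2 F414535)) (tt N59203 F407008) (tt N117916 (iv4 F507583)) (tt N96592 (iv5 F413114)) (tt N58179 (iv6 D198154)) (tt N73050 F407009))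
theorem Q95096 : ∀ i, i < 95096 → P i := stepQ 95095 Q95095 (allL N95095 (tt N93680 F407013) (tt N94330 F407014) (tt N93849 F407010) (tt N117891 F507462) (tt N58181 (iv4 D198155)) (tt N93603 F407011) (tt N73045 F407012) (tt N96903 (iv7 F414533)))
theorem Q95097 : ∀ i, i < 95097 → P i := stepQ 95096 Q95096 (allL N95096 (tt N72954 (iv1 F407018)) (tt N58182 (iv0 D198156)) (tt N72692 (iv2 F407017)) (tt N112047 (iv3 F479245)) (tt N70220 F407016) (tt N62177 F407015) (tt N96560 (iv6 F412992)) (tt N58352 F407019))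
theorem Q95098 : ∀ i, i < 95098 → P i := stepQ 95097 Q95097 (allL N95097 (tt N72928 (iv1 F407026)) (tt N73059 F407025) (tt N58183 (iv2 D198157)) (tt N73069 F407020) (tt N74620 F407021) (tt N74611 F407022) (tt N72199 F407023) (tt N73060 F407024))
theorem Q95099 : ∀ i, i < 95099 → P i := stepQ 95098 Q95098 (allL N95098 (tt N72885 (iv1 F407028)) (tt N58184 (iv0 D198158)) (tt N73064 (iv2 F407027)) (tt N118411 (iv3 F510203)) (tt N107858 (iv4 F460022)) (tt N102322 (iv5 F436723)) (tt N95733 F409365) (tt N73063 F407029))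
theorem Q95100 : ∀ i, i < 95100 → P i := stepQ 95099 Q95099 (allL N95099 (tt N93603 F407032) (tt N93600 F407033) (tt N73071 F407030) (tt N110513 (iv3 F471926)) (tt N58184 (iv4 D198159)) (tt N118680 (iv5 F511511)) (tt N77012 F407040) (tt N73065 F407031))
theorem Q95101 : ∀ i, i < 95101 → P i := stepQ 95100 Q95100 (allL N95100 (tt N112775 (iv1 F482602)) (tt N83162 (iv0 F407038)) (tt N73072 F407034) (tt N93790 F407035) (tt N77012 (iv4 F407039)) (tt N72201 F407036) (tt N58184 (iv6 D198160)) (tt N93782 F407037))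
theorem Q95102 : ∀ i, i < 95102 → P i := stepQ 95101 Q95101 (allL N95101 (tt N60632 F407045) (tt N60625 (iv0 F407044)) (tt N60629 F407043) (tt N58187 (iv3 D198161)) (tt N97387 (iv4 F416652)) (tt N102765 (iv5 F438543)) (tt N78584 F407041) (tt N60630 F407042))
theorem Q95103 : ∀ i, i < 95103 → P i := stepQ 95102 Q95102 (allL N95102 (tt N64141 (iv1 F407050)) (tt N104778 (iv0 F447223)) (tt N87037 F407046) (tt N58193 F407047) (tt N58210 F407048) (tt N66396 F407049) (tt N102397 (iv6 F437059)) (tt N58189 (iv7 D198162)))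
theorem Q95104 : ∀ i, i < 95104 → P i := stepQ 95103 Q95103 (allL N95103 (tt N95754 F409473) (tt N100378 F428681) (tt N65883 F407051) (tt N81992 F407052) (tt N60111 F407053) (tt N82032 (iv5 F407055)) (tt N58190 (iv6 D198163)) (tt N65860 F407054))
theorem Q95105 : ∀ i, i < 95105 → P i := stepQ 95104 Q95104 (allL N95104 (tt N80032 F407062) (tt N111516 (iv0 F476679)) (tt N101680 (iv2 F433834)) (tt N58191 (iv3 D198164)) (tt N58655 F407058) (tt N66319 F407059) (tt N65854 F407060) (tt N65881 F407061))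
theorem Q95106 : ∀ i, i < 95106 → P i := stepQ 95105 Q95105 (allL N95105 (tt N102282 (iv1 F436543)) (tt N100818 (iv0 F430621)) (tt N103610 F442233) (tt N71953 F407063) (tt N58192 (iv4 D198165)) (tt N102613 (iv5 F437893)) (tt N66389 F407064) (tt N103595 (iv7 F442182)))
theorem Q95107 : ∀ i, i < 95107 → P i := stepQ 95106 Q95106 (allL N95106 (tt N70436 F407070) (tt N70586 (iv0 F407071)) (tt N71076 F407065) (tt N59740 F407066) (tt N68921 F407067) (tt N70569 F407068) (tt N58195 (iv6 D198166)) (tt N70569 F407069))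
theorem Q95108 : ∀ i, i < 95108 → P i := stepQ 95107 Q95107 (allL N95107 (tt N88687 (iv1 F407077)) (tt N83999 F407078) (tt N86917 (iv2 F407076)) (tt N58196 (iv3 D198167)) (tt N58229 F407073) (tt N102919 (iv5 F439267)) (tt N61668 F407074) (tt N88692 F407075))
theorem Q95109 : ∀ i, i < 95109 → P i := stepQ 95108 Q95108 (allL N95108 (tt N102567 (iv1 F437693)) (tt N102570 (iv0 F437710)) (tt N71074 F407079) (tt N102919 (iv3 F439270)) (tt N118798 D222057) (tt N58196 (iv5 D198168)) (tt N117765 (iv6 F506860)) (tt N104546 (iv7 F446210)))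
theorem Q95110 : ∀ i, i < 95110 → P i := stepQ 95109 Q95109 (allL N95109 (tt N96372 F412279) (tt N80581 F407084) (tt N58198 (iv2 D198169)) (tt N58678 F407080) (tt N59884 F407081) (tt N85587 F407082) (tt N95611 (iv6 F408877)) (tt N58683 F407083))
theorem Q95111 : ∀ i, i < 95111 → P i := stepQ 95110 Q95110 (allL N95110 (tt N60385 F407089) (tt N95628 (iv0 F408944)) (tt N58675 F407085) (tt N58199 (iv3 D198170)) (tt N66695 F407086) (tt N73809 F407087) (tt N78756 F407088) (tt N96946 (iv7 F414728)))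
theorem Q95112 : ∀ i, i < 95112 → P i := stepQ 95111 Q95111 (allL N95111 (tt N58732 F407094) (tt N58735 (iv0 F407095)) (tt N58685 F407090) (tt N58202 F407091) (tt N64939 F407092) (tt N118031 (iv5 F508187)) (tt N58200 (iv6 D198171)) (tt N82356 F407093))
theorem Q95113 : ∀ i, i < 95113 → P i := stepQ 95112 Q95112 (allL N95112 (tt N58202 (iv1 D198172)) (tt N96323 (iv0 F412031)) (tt N58364 F407099) (tt N67986 (iv3 F407101)) (tt N90460 F407097) (tt N78231 F407100) (tt N82000 (iv6 F407098)) (tt N90459 F407096))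
theorem Q95114 : ∀ i, i < 95114 → P i := stepQ 95113 Q95113 (allL N95113 (tt N109904 (iv1 F469150)) (tt N72341 (iv0 F407103)) (tt N95920 (iv2 F410261)) (tt N118031 (iv3 F508186)) (tt N78167 F407102) (tt N58202 (iv5 D198173)) (tt N103170 F440393) (tt N95918 (iv7 F410257)))
theorem Q95115 : ∀ i, i < 95115 → P i := stepQ 95114 Q95114 (allL N95114 (tt N116776 (iv1 F501773)) (tt N85156 (iv0 F407106)) (tt N58208 F407104) (tt N117719 F506606) (tt N103742 (iv4 F442642)) (tt N85204 F407105) (tt N58203 (iv6 D198174)) (tt N116775 (iv7 F501767)))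
theorem Q95116 : ∀ i, i < 95116 → P i := stepQ 95115 Q95115 (allL N95115 (tt N69004 F407110) (tt N103523 F441938) (tt N94956 F407107) (tt N106409 (iv3 F454327)) (tt N58205 (iv4 D198175)) (tt N66405 F407109) (tt N106407 F454323) (tt N94955 F407108))
theorem Q95117 : ∀ i, i < 95117 → P i := stepQ 95116 Q95116 (allL N95116 (tt N118799 D222058) (tt N80586 (iv0 F407114)) (tt N94957 F407111) (tt N82450 F407112) (tt N106407 (iv4 F454322)) (tt N80565 F407113) (tt N58205 (iv6 D198176)) (tt N112861 (iv7 F483011)))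
theorem Q95118 : ∀ i, i < 95118 → P i := stepQ 95117 Q95117 (allL N95117 (tt N103523 (iv1 F441939)) (tt N69004 F407118) (tt N94955 F407115) (tt N109151 (iv3 F465586)) (tt N58206 (iv4 D198177)) (tt N66403 F407116) (tt N109150 (iv6 F465584)) (tt N94956 F407117))
theorem Q95119 : ∀ i, i < 95119 → P i := stepQ 95118 Q95118 (allL N95118 (tt N66408 (iv1 F407120)) (tt N58207 (iv0 D198178)) (tt N103514 F441907) (tt N109169 (iv3 F465661)) (tt N118688 (iv4 F511556)) (tt N71752 F407119) (tt N118800 D222059) (tt N103513 F441902))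
theorem Q95120 : ∀ i, i < 95120 → P i := stepQ 95119 Q95119 (allL N95119 (tt N58207 (iv1 D198179)) (tt N66408 F407121) (tt N103513 F441901) (tt N95975 (iv3 F452745)) (tt N107739 (iv4 F459486)) (tt N71751 (iv5 F407122)) (tt N107068 (iv6 F456842)) (tt N103514 (iv7 F441904)))
theorem Q95121 : ∀ i, i < 95121 → P i := stepQ 95120 Q95120 (allL N95120 (tt N114311 F489537) (tt N98682 F421839) (tt N103742 (iv2 F442641)) (tt N98678 F421822) (tt N58208 F407123) (tt N116867 (iv5 F502255)) (tt N58207 (iv6 D198180)) (tt N114422 (iv7 F490079)))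
theorem Q95122 : ∀ i, i < 95122 → P i := stepQ 95121 Q95121 (allL N95121 (tt N58208 (iv1 D198181)) (tt N116775 F501766) (tt N85156 F429731) (tt N100619 (iv3 F429730)) (tt N78871 (iv4 F421823)) (tt N85155 F429732) (tt N100618 F429733) (tt N116776 (iv7 F501772)))
theorem Q95123 : ∀ i, i < 95123 → P i := stepQ 95122 Q95122 (allL N95122 (tt N85156 (iv1 F407126)) (tt N116776 F501774) (tt N116775 F501765) (tt N58213 F407124) (tt N114422 (iv4 F490077)) (tt N85205 F407125) (tt N114421 (iv6 F490074)) (tt N58208 (iv7 D198182)))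
theorem Q95124 : ∀ i, i < 95124 → P i := stepQ 95123 Q95123 (allL N95123 (tt N82000 F407131) (tt N81999 F407132) (tt N64284 F407127) (tt N80557 F407128) (tt N65139 F407129) (tt N99306 (iv5 F424026)) (tt N58209 (iv6 D198183)) (tt N82001 F407130))
theorem Q95125 : ∀ i, i < 95125 → P i := stepQ 95124 Q95124 (allL N95124 (tt N85154 (iv1 F407135)) (tt N85153 F407136) (tt N84815 F407133) (tt N58211 (iv3 D198184)) (tt N106483 (iv4 F454625)) (tt N116776 (iv5 F501771)) (tt N95498 F408369) (tt N85155 F407134))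
theorem Q95126 : ∀ i, i < 95126 → P i := stepQ 95125 Q95125 (allL N95125 (tt N93358 F407139) (tt N58708 F407138) (tt N85181 F407137) (tt N116776 (iv3 F501769)) (tt N99534 (iv4 F425020)) (tt N58211 (iv5 D198185)) (tt N99533 F425019) (tt N100619 F429727))
theorem Q95127 : ∀ i, i < 95127 → P i := stepQ 95126 Q95126 (allL N95126 (tt N118801 D222060) (tt N80589 (iv0 F407142)) (tt N101406 (iv2 F432862)) (tt N84805 F407140) (tt N78465 F407141) (tt N101069 (iv5 F431529)) (tt N58212 (iv6 D198186)) (tt N118151 (iv7 F508881)))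
theorem Q95128 : ∀ i, i < 95128 → P i := stepQ 95127 Q95127 (allL N95127 (tt N80586 F407145) (tt N118799 F512139) (tt N112861 (iv2 F483009)) (tt N58216 F407143) (tt N118802 D222061) (tt N58214 (iv5 D198187)) (tt N94804 (iv6 F407146)) (tt N94957 F407144))
theorem Q95129 : ∀ i, i < 95129 → P i := stepQ 95128 Q95128 (allL N95128 (tt N80552 (iv1 F407152)) (tt N91503 (iv0 F407150)) (tt N112862 (iv2 F483015)) (tt N58217 F407147) (tt N87806 F407148) (tt N94805 F407149) (tt N58214 (iv6 D198188)) (tt N96559 (iv7 F412986)))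
theorem Q95130 : ∀ i, i < 95130 → P i := stepQ 95129 Q95129 (allL N95129 (tt N99587 (iv1 F425296)) (tt N105295 (iv0 F449610)) (tt N96481 (iv2 F412693)) (tt N94804 F407153) (tt N88449 F407154) (tt N94802 F407155) (tt N58216 (iv6 D198189)) (tt N100606 (iv7 F429677)))
theorem Q95131 : ∀ i, i < 95131 → P i := stepQ 95130 Q95130 (allL N95130 (tt N58217 (iv1 D198190)) (tt N96326 (iv0 F412051)) (tt N72270 F407161) (tt N81999 F407163) (tt N58223 F407159) (tt N94978 (iv5 F407162)) (tt N73563 (iv6 F407160)) (tt N58366 F407158))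
theorem Q95132 : ∀ i, i < 95132 → P i := stepQ 95131 Q95131 (allL N95131 (tt N58679 (iv1 F407172)) (tt N58696 (iv0 F407171)) (tt N58693 F407166) (tt N85401 F407167) (tt N88450 F407168) (tt N58539 F407169) (tt N58218 (iv6 D198191)) (tt N58692 (iv7 F407170)))
theorem Q95133 : ∀ i, i < 95133 → P i := stepQ 95132 Q95132 (allL N95132 (tt N80567 F407176) (tt N116928 F502545) (tt N112836 (iv2 F482869)) (tt N58219 (iv3 D198192)) (tt N118803 D222062) (tt N59448 F407175) (tt N117006 (iv6 F502938)) (tt N115131 (iv7 F493638)))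
theorem Q95134 : ∀ i, i < 95134 → P i := stepQ 95133 Q95133 (allL N95133 (tt N105649 F451107) (tt N101848 (iv0 F434650)) (tt N112760 F482525) (tt N117006 (iv3 F502934)) (tt N100632 F429769) (tt N117005 F502930) (tt N58219 (iv6 D198193)) (tt N112761 (iv7 F482527)))
theorem Q95135 : ∀ i, i < 95135 → P i := stepQ 95134 Q95134 (allL N95134 (tt N58222 (iv1 D198194)) (tt N72486 F407177) (tt N96560 F412993) (tt N118804 D222063) (tt N94114 F407179) (tt N94996 F407181) (tt N72692 (iv6 F407180)) (tt N58355 F407178))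
theorem Q95136 : ∀ i, i < 95136 → P i := stepQ 95135 Q95135 (allL N95135 (tt N108168 (iv1 F461372)) (tt N82867 (iv0 F407187)) (tt N78463 F407183) (tt N58225 F407184) (tt N76243 (iv4 F407186)) (tt N58224 (iv5 D198195)) (tt N76241 F407185) (tt N108167 (iv7 F461369)))
theorem Q95137 : ∀ i, i < 95137 → P i := stepQ 95136 Q95136 (allL N95136 (tt N111126 (iv1 F474811)) (tt N116285 F499362) (tt N112064 (iv2 F479317)) (tt N58228 (iv3 D198196)) (tt N67572 F407188) (tt N80549 F407189) (tt N118805 D222064) (tt N69800 F407190))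
theorem Q95138 : ∀ i, i < 95138 → P i := stepQ 95137 Q95137 (allL N95137 (tt N70439 (iv1 F407195)) (tt N64676 (iv0 F407194)) (tt N69802 F407191) (tt N118805 (iv3 F512165)) (tt N67571 F407192) (tt N90878 F407193) (tt N58228 (iv6 D198197)) (tt N96595 (iv7 F413126)))
theorem Q95139 : ∀ i, i < 95139 → P i := stepQ 95138 Q95138 (allL N95138 (tt N58231 (iv1 D198198)) (tt N58302 F407196) (tt N58290 F407199) (tt N58294 (iv3 F407198)) (tt N65891 F407200) (tt N117536 (iv5 F505584)) (tt N117537 (iv6 F505589)) (tt N58303 F407197))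
theorem Q95140 : ∀ i, i < 95140 → P i := stepQ 95139 Q95139 (allL N95139 (tt N58232 (iv1 D198199)) (tt N58236 F407201) (tt N87000 (iv2 F407204)) (tt N59843 (iv3 F407205)) (tt N96372 (iv4 F412275)) (tt N84206 F407203) (tt N90982 (iv6 F407206)) (tt N87063 F407202))
theorem Q95141 : ∀ i, i < 95141 → P i := stepQ 95140 Q95140 (allL N95140 (tt N92040 F407208) (tt N92037 F407209) (tt N95616 (iv2 F408905)) (tt N58232 (iv3 D198200)) (tt N65738 F407207) (tt N117407 (iv5 F504879)) (tt N103409 (iv6 F441492)) (tt N115761 (iv7 F496722)))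
theorem Q95142 : ∀ i, i < 95142 → P i := stepQ 95141 Q95141 (allL N95141 (tt N75189 F407212) (tt N102951 F439408) (tt N102950 F439398) (tt N117407 (iv3 F504878)) (tt N85602 F407211) (tt N58232 (iv5 D198201)) (tt N118806 D222065) (tt N89917 F407210))
theorem Q95143 : ∀ i, i < 95143 → P i := stepQ 95142 Q95142 (allL N95142 (tt N87017 F407216) (tt N117646 (iv0 F506195)) (tt N91999 F407213) (tt N103409 F441491) (tt N58234 F407214) (tt N86848 (iv5 F407215)) (tt N58232 (iv6 D198202)) (tt N96605 (iv7 F413152)))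
theorem Q95144 : ∀ i, i < 95144 → P i := stepQ 95143 Q95143 (allL N95143 (tt N96353 (iv1 F412201)) (tt N58234 (iv0 D198203)) (tt N58349 (iv2 F407217)) (tt N96642 F413295) (tt N112046 (iv4 F479241)) (tt N109252 (iv5 F466004)) (tt N112045 F479238) (tt N96607 (iv7 F413159)))
theorem Q95145 : ∀ i, i < 95145 → P i := stepQ 95144 Q95144 (allL N95144 (tt N71052 F407222) (tt N58703 (iv0 F407223)) (tt N73691 F407218) (tt N92000 F407219) (tt N58235 (iv4 D198204)) (tt N73653 F407221) (tt N96608 (iv6 F413163)) (tt N73652 F407220))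
theorem Q95146 : ∀ i, i < 95146 → P i := stepQ 95145 Q95145 (allL N95145 (tt N99886 F426683) (tt N105635 (iv0 F451053)) (tt N118684 (iv2 F511533)) (tt N58237 F407224) (tt N73711 F407225) (tt N58235 (iv5 D198205)) (tt N105620 F450997) (tt N118683 (iv7 F511530)))
theorem Q95147 : ∀ i, i < 95147 → P i := stepQ 95146 Q95146 (allL N95146 (tt N102951 (iv1 F439407)) (tt N75189 F407229) (tt N89917 F407226) (tt N87197 F407227) (tt N85605 F407228) (tt N58236 (iv5 D198206)) (tt N87195 F407230) (tt N102950 (iv7 F439400)))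
theorem Q95148 : ∀ i, i < 95148 → P i := stepQ 95147 Q95147 (allL N95147 (tt N58341 F407231) (tt N90711 F407232) (tt N115048 (iv2 F493218)) (tt N105620 F450998) (tt N116376 (iv4 F499776)) (tt N96611 (iv5 F413170)) (tt N58237 (iv6 D198207)) (tt N115047 F493213))
theorem Q95149 : ∀ i, i < 95149 → P i := stepQ 95148 Q95148 (allL N95148 (tt N58251 (iv1 F407235)) (tt N58240 (iv0 D198208)) (tt N58248 F411335) (tt N96171 F411336) (tt N106702 (iv4 F455336)) (tt N96170 F411337) (tt N96361 (iv6 F429424)) (tt N58249 F411338))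
theorem Q95150 : ∀ i, i < 95150 → P i := stepQ 95149 Q95149 (allL N95149 (tt N58240 (iv1 D198209)) (tt N58251 F407233) (tt N58249 F411339) (tt N117559 (iv3 F505695)) (tt N106716 (iv4 F455379)) (tt N118638 (iv5 F511278)) (tt N115783 (iv6 F496851)) (tt N58248 F411340))
theorem Q95151 : ∀ i, i < 95151 → P i := stepQ 95150 Q95150 (allL N95150 (tt N58249 (iv1 F407236)) (tt N58248 F407237) (tt N58251 F407234) (tt N109630 (iv3 F467834)) (tt N111049 (iv4 F474417)) (tt N106785 (iv5 F455676)) (tt N111980 (iv6 F478952)) (tt N58240 (iv7 D198210)))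
theorem Q95152 : ∀ i, i < 95152 → P i := stepQ 95151 Q95151 (allL N95151 (tt N106806 (iv1 F455760)) (tt N77805 F407241) (tt N106808 (iv2 F455771)) (tt N58667 F407238) (tt N75120 F407240) (tt N58241 (iv5 D198211)) (tt N96186 (iv6 F411391)) (tt N91012 F407239))
theorem Q95153 : ∀ i, i < 95153 → P i := stepQ 95152 Q95152 (allL N95152 (tt N112046 F479244) (tt N96721 (iv0 F413606)) (tt N110594 (iv2 F472295)) (tt N58668 F407242) (tt N92878 F407243) (tt N81599 (iv5 F407244)) (tt N58241 (iv6 D198212)) (tt N96617 (iv7 F413199)))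
theorem Q95154 : ∀ i, i < 95154 → P i := stepQ 95153 Q95153 (allL N95153 (tt N58244 (iv1 D198213)) (tt N111049 F474420) (tt N80925 F407248) (tt N91831 F407249) (tt N112011 (iv4 F479061)) (tt N90784 F407245) (tt N91830 (iv6 F407247)) (tt N111050 (iv7 F474426)))
theorem Q95155 : ∀ i, i < 95155 → P i := stepQ 95154 Q95154 (allL N95154 (tt N80925 (iv1 F407253)) (tt N111050 F474428) (tt N111049 F474419) (tt N77800 F407251) (tt N58251 F407252) (tt N116454 (iv5 F500211)) (tt N110598 (iv6 F472314)) (tt N58244 (iv7 D198214)))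
theorem Q95156 : ∀ i, i < 95156 → P i := stepQ 95155 Q95155 (allL N95155 (tt N58305 F407257) (tt N117536 (iv0 F505583)) (tt N118787 (iv2 F512067)) (tt N58245 (iv3 D198215)) (tt N59508 F407254) (tt N94786 F407255) (tt N59507 F407256) (tt N114657 (iv7 F491233)))
theorem Q95157 : ∀ i, i < 95157 → P i := stepQ 95156 Q95156 (allL N95156 (tt N118685 (iv1 F511543)) (tt N98230 (iv0 F420078)) (tt N114722 (iv2 F491529)) (tt N58246 (iv3 D198216)) (tt N75570 (iv4 F407259)) (tt N107686 (iv5 F459229)) (tt N82865 F407258) (tt N114658 (iv7 F491239)))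
theorem Q95158 : ∀ i, i < 95158 → P i := stepQ 95157 Q95157 (allL N95157 (tt N110078 (iv1 F469871)) (tt N110077 F469868) (tt N110024 (iv2 F469600)) (tt N58258 F407260) (tt N116966 (iv4 F502740)) (tt N58247 (iv5 D198217)) (tt N58250 F407261) (tt N91702 F407262))
theorem Q95159 : ∀ i, i < 95159 → P i := stepQ 95158 Q95158 (allL N95158 (tt N65007 F436866) (tt N117537 (iv0 F505591)) (tt N100543 (iv2 F429406)) (tt N58248 (iv3 D198219)) (tt N102353 (iv4 F436862)) (tt N108300 (iv5 F461963)) (tt N79192 (iv6 F412240)) (tt N117559 (iv7 F505698)))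
theorem Q95160 : ∀ i, i < 95160 → P i := stepQ 95159 Q95159 (allL N95159 (tt N81739 F407265) (tt N93703 F425111) (tt N96170 F411328) (tt N108300 (iv3 F461964)) (tt N93339 F407264) (tt N58248 (iv5 D198220)) (tt N118807 D222066) (tt N118638 (iv7 F511280)))
theorem Q95161 : ∀ i, i < 95161 → P i := stepQ 95160 Q95160 (allL N95160 (tt N96355 (iv1 F412239)) (tt N96363 (iv0 F412237)) (tt N96361 F429423) (tt N79192 F412238) (tt N106711 (iv4 F455354)) (tt N118808 D222067) (tt N58248 (iv6 D198221)) (tt N96360 (iv7 F429420)))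
theorem Q95162 : ∀ i, i < 95162 → P i := stepQ 95161 Q95161 (allL N95161 (tt N106782 (iv1 F455661)) (tt N106784 (iv0 F455669)) (tt N96174 (iv2 F411341)) (tt N58249 (iv3 D198223)) (tt N58605 (iv4 F407267)) (tt N96045 (iv5 F410776)) (tt N91892 F407268) (tt N96171 (iv7 F411332)))
theorem Q95163 : ∀ i, i < 95163 → P i := stepQ 95162 Q95162 (allL N95162 (tt N90982 F407272) (tt N106715 F455375) (tt N106716 (iv2 F455377)) (tt N83521 F407269) (tt N58249 (iv4 D198224)) (tt N90789 F407270) (tt N83520 (iv6 F407271)) (tt N106702 (iv7 F455335)))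
theorem Q95164 : ∀ i, i < 95164 → P i := stepQ 95163 Q95163 (allL N95163 (tt N93703 (iv1 F425110)) (tt N81739 (iv0 F407275)) (tt N118638 (iv2 F511276)) (tt N96045 (iv3 F410777)) (tt N93340 F407273) (tt N58249 (iv5 D198225)) (tt N89483 (iv6 F407274)) (tt N96170 (iv7 F411326)))
theorem Q95165 : ∀ i, i < 95165 → P i := stepQ 95164 Q95164 (allL N95164 (tt N112047 (iv1 F479248)) (tt N112045 (iv0 F479236)) (tt N115783 (iv2 F496850)) (tt N91892 F407276) (tt N83520 F407277) (tt N89973 F407278) (tt N58249 (iv6 D198226)) (tt N88371 (iv7 F407279)))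
theorem Q95166 : ∀ i, i < 95166 → P i := stepQ 95165 Q95165 (allL N95165 (tt N106785 (iv1 F455677)) (tt N58250 (iv0 D198227)) (tt N106788 (iv2 F455684)) (tt N117504 F505388) (tt N116845 (iv4 F502143)) (tt N117109 (iv5 F503439)) (tt N115009 (iv6 F493040)) (tt N106786 F455679))
theorem Q95167 : ∀ i, i < 95167 → P i := stepQ 95166 Q95166 (allL N95166 (tt N110433 (iv1 F471565)) (tt N110050 F469737) (tt N110434 (iv2 F471572)) (tt N93587 F407280) (tt N58250 (iv4 D198229)) (tt N106753 (iv5 F455546)) (tt N116966 F502744) (tt N110432 F471564))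
theorem Q95168 : ∀ i, i < 95168 → P i := stepQ 95167 Q95167 (allL N95167 (tt N106786 (iv1 F455688)) (tt N106788 (iv0 F455687)) (tt N106785 (iv2 F455673)) (tt N58263 F407281) (tt N110432 (iv4 F471560)) (tt N58251 F407282) (tt N102316 (iv6 F436699)) (tt N58250 (iv7 D198230)))
theorem Q95169 : ∀ i, i < 95169 → P i := stepQ 95168 Q95168 (allL N95168 (tt N66536 F407286) (tt N97074 (iv0 F415345)) (tt N65925 F407283) (tt N95587 (iv3 F408781)) (tt N73556 F407287) (tt N58252 (iv5 D198231)) (tt N94482 F407284) (tt N65927 F407285))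
theorem Q95170 : ∀ i, i < 95170 → P i := stepQ 95169 Q95169 (allL N95169 (tt N78432 F407291) (tt N78466 (iv0 F407293)) (tt N72295 F407288) (tt N93721 F407289) (tt N118151 (iv4 F508879)) (tt N78059 F407292) (tt N58256 (iv6 D198232)) (tt N78465 F407290))
theorem Q95171 : ∀ i, i < 95171 → P i := stepQ 95170 Q95170 (allL N95170 (tt N58299 (iv1 F407297)) (tt N107160 F457254) (tt N92900 F407294) (tt N58257 (iv3 D198233)) (tt N104847 (iv4 F447584)) (tt N92897 F407295) (tt N99474 (iv6 F424744)) (tt N72296 F407296))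
theorem Q95172 : ∀ i, i < 95172 → P i := stepQ 95171 Q95171 (allL N95171 (tt N110109 (iv1 F470029)) (tt N110108 (iv0 F470036)) (tt N110112 (iv2 F470042)) (tt N93583 (iv3 F407299)) (tt N58258 (iv4 D198234)) (tt N93579 (iv5 F407300)) (tt N58262 F407298) (tt N110110 F470028))
theorem Q95173 : ∀ i, i < 95173 → P i := stepQ 95172 Q95172 (allL N95172 (tt N107856 F460012) (tt N118024 (iv0 F508152)) (tt N103343 (iv2 F441204)) (tt N93275 F407301) (tt N93684 F407302) (tt N93274 F407303) (tt N58261 (iv6 D198235)) (tt N99478 (iv7 F424766)))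
theorem Q95174 : ∀ i, i < 95174 → P i := stepQ 95173 Q95173 (allL N95173 (tt N110127 F470097) (tt N58262 (iv0 D198236)) (tt N95085 (iv2 F407305)) (tt N118809 D222068) (tt N94709 F407304) (tt N107875 (iv5 F460075)) (tt N118295 (iv6 F509569)) (tt N95088 (iv7 F407306)))
theorem Q95175 : ∀ i, i < 95175 → P i := stepQ 95174 Q95174 (allL N95174 (tt N58262 (iv1 D198237)) (tt N110127 F470098) (tt N95088 (iv2 F407309)) (tt N111438 (iv3 F476367)) (tt N94710 F407308) (tt N94944 (iv5 F407310)) (tt N93591 (iv6 F436667)) (tt N95085 F407307))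
theorem Q95176 : ∀ i, i < 95176 → P i := stepQ 95175 Q95175 (allL N95175 (tt N95088 (iv1 F407314)) (tt N95085 F407315) (tt N110127 (iv2 F470092)) (tt N74721 F407311) (tt N58263 F407312) (tt N73043 F407313) (tt N102317 (iv6 F436705)) (tt N58262 (iv7 D198238)))
theorem Q95177 : ∀ i, i < 95177 → P i := stepQ 95176 Q95176 (allL N95176 (tt N111708 (iv1 F477597)) (tt N118692 F511571) (tt N118687 (iv2 F511549)) (tt N58266 F407316) (tt N103512 (iv4 F441896)) (tt N58264 (iv5 D198239)) (tt N113242 (iv6 F484675)) (tt N105131 (iv7 F448927)))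
theorem Q95178 : ∀ i, i < 95178 → P i := stepQ 95177 Q95177 (allL N95177 (tt N102762 (iv1 F438528)) (tt N65995 (iv0 F407320)) (tt N97541 (iv2 F417315)) (tt N71643 F407317) (tt N66484 F407318) (tt N58265 (iv5 D198240)) (tt N66483 (iv6 F407319)) (tt N103444 (iv7 F441668)))
theorem Q95179 : ∀ i, i < 95179 → P i := stepQ 95178 Q95178 (allL N95178 (tt N98306 F420437) (tt N58311 F407324) (tt N85118 F407321) (tt N58269 F407322) (tt N98162 (iv4 F419782)) (tt N58267 (iv5 D198241)) (tt N84800 F407323) (tt N112841 (iv7 F482901)))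
theorem Q95180 : ∀ i, i < 95180 → P i := stepQ 95179 Q95179 (allL N95179 (tt N65995 F409799) (tt N102762 (iv0 F438527)) (tt N103444 (iv2 F441664)) (tt N65945 F407325) (tt N102891 (iv4 F439139)) (tt N58268 (iv5 D198242)) (tt N68812 (iv6 F407326)) (tt N97541 (iv7 F417317)))
theorem Q95181 : ∀ i, i < 95181 → P i := stepQ 95180 Q95180 (allL N95180 (tt N102212 F436214) (tt N118083 F508480) (tt N103366 (iv2 F441301)) (tt N65946 F407327) (tt N58270 F407328) (tt N105111 (iv5 F448843)) (tt N58268 (iv6 D198243)) (tt N96639 (iv7 F413283)))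
theorem Q95182 : ∀ i, i < 95182 → P i := stepQ 95181 Q95181 (allL N95181 (tt N58270 (iv1 D198244)) (tt N96342 F412147) (tt N58353 F407330) (tt N96607 (iv3 F413156)) (tt N67209 (iv4 F407329)) (tt N97215 (iv5 F415933)) (tt N118810 D222069) (tt N96642 (iv7 F413293)))
theorem Q95183 : ∀ i, i < 95183 → P i := stepQ 95182 Q95182 (allL N95182 (tt N58999 F407333) (tt N102798 (iv0 F438690)) (tt N58275 F407331) (tt N114317 (iv3 F489562)) (tt N58271 (iv4 D198245)) (tt N66345 F407332) (tt N110415 (iv6 F471467)) (tt N95929 (iv7 F410307)))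
theorem Q95184 : ∀ i, i < 95184 → P i := stepQ 95183 Q95183 (allL N95183 (tt N58272 (iv1 D198246)) (tt N58280 F407334) (tt N58278 (iv2 F407337)) (tt N112507 (iv3 F481414)) (tt N80211 F407336) (tt N110890 (iv5 F473628)) (tt N96347 F412171) (tt N58277 F407335))
theorem Q95185 : ∀ i, i < 95185 → P i := stepQ 95184 Q95184 (allL N95184 (tt N58278 (iv1 F407339)) (tt N58277 F407340) (tt N58280 F407338) (tt N111980 (iv3 F478951)) (tt N111860 (iv4 F478356)) (tt N109629 F467831) (tt N109630 (iv6 F467836)) (tt N58272 (iv7 D198247)))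
theorem Q95186 : ∀ i, i < 95186 → P i := stepQ 95185 Q95185 (allL N95185 (tt N104617 (iv1 F446568)) (tt N102835 (iv0 F438867)) (tt N118688 F511559) (tt N58273 (iv3 D198248)) (tt N103514 (iv4 F441906)) (tt N94926 F407341) (tt N118811 D222070) (tt N107739 (iv7 F459485)))
theorem Q95187 : ∀ i, i < 95187 → P i := stepQ 95186 Q95186 (allL N95186 (tt N102759 (iv1 F438511)) (tt N72568 F410311) (tt N107744 (iv2 F459511)) (tt N71322 F407342) (tt N58273 (iv4 D198249)) (tt N95960 (iv5 F410443)) (tt N71319 (iv6 F407343)) (tt N95973 (iv7 F410489)))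
theorem Q95188 : ∀ i, i < 95188 → P i := stepQ 95187 Q95187 (allL N95187 (tt N108144 (iv1 F461294)) (tt N78431 (iv0 F412616)) (tt N107745 (iv2 F459517)) (tt N118811 (iv3 F512193)) (tt N71319 F407344) (tt N82506 F407346) (tt N58273 (iv6 D198250)) (tt N72984 F407345))
theorem Q95189 : ∀ i, i < 95189 → P i := stepQ 95188 Q95188 (allL N95188 (tt N89824 (iv1 F407355)) (tt N58295 (iv0 F407354)) (tt N112842 F482909) (tt N58274 (iv3 D198251)) (tt N89861 F407353) (tt N81977 F407351) (tt N72988 F407352) (tt N107742 (iv7 F459501)))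
theorem Q95190 : ∀ i, i < 95190 → P i := stepQ 95189 Q95189 (allL N95189 (tt N72568 F407357) (tt N102759 (iv0 F438510)) (tt N95973 (iv2 F410487)) (tt N118812 D222071) (tt N58274 (iv4 D198252)) (tt N95972 F410486) (tt N72990 F407356) (tt N107744 (iv7 F459513)))
theorem Q95191 : ∀ i, i < 95191 → P i := stepQ 95190 Q95190 (allL N95190 (tt N95929 (iv1 F410310)) (tt N58275 (iv0 D198253)) (tt N58999 (iv2 F407359)) (tt N99158 (iv3 F423509)) (tt N95682 (iv4 F409121)) (tt N58998 F407358) (tt N82814 (iv6 F407360)) (tt N102798 (iv7 F438689)))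
theorem Q95192 : ∀ i, i < 95192 → P i := stepQ 95191 Q95191 (allL N95191 (tt N85663 F407363) (tt N64745 (iv0 F407364)) (tt N110415 (iv2 F471464)) (tt N117137 F503582) (tt N58276 F407361) (tt N83405 F407362) (tt N58275 (iv6 D198254)) (tt N110189 (iv7 F470348)))
theorem Q95193 : ∀ i, i < 95193 → P i := stepQ 95192 Q95192 (allL N95192 (tt N112838 F482885) (tt N102833 (iv0 F438858)) (tt N82510 F407365) (tt N58277 (iv3 D198255)) (tt N104778 (iv4 F447220)) (tt N82866 (iv5 F407366)) (tt N112654 (iv6 F482019)) (tt N112507 (iv7 F481419)))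
theorem Q95194 : ∀ i, i < 95194 → P i := stepQ 95193 Q95193 (allL N95193 (tt N110888 (iv1 F473621)) (tt N102018 (iv0 F435366)) (tt N110891 F473638) (tt N82866 F407367) (tt N117618 (iv4 F506027)) (tt N58277 (iv5 D198256)) (tt N118813 D222072) (tt N110890 F473631))
theorem Q95195 : ∀ i, i < 95195 → P i := stepQ 95194 Q95194 (allL N95194 (tt N118810 F512190) (tt N118804 (iv0 F512163)) (tt N112813 (iv2 F482734)) (tt N112654 F482018) (tt N111651 (iv4 F477309)) (tt N90352 F459541) (tt N58277 (iv6 D198257)) (tt N118814 D222073))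
theorem Q95196 : ∀ i, i < 95196 → P i := stepQ 95195 Q95195 (allL N95195 (tt N102018 F435364) (tt N110888 (iv0 F473620)) (tt N110890 F473630) (tt N78461 F407368) (tt N117619 (iv4 F506030)) (tt N58278 (iv5 D198258)) (tt N114657 (iv6 F491232)) (tt N110891 (iv7 F473633)))
theorem Q95197 : ∀ i, i < 95197 → P i := stepQ 95196 Q95196 (allL N95196 (tt N109629 (iv1 F467832)) (tt N58279 (iv0 D198259)) (tt N110221 F470499) (tt N114320 (iv3 F489586)) (tt N117620 (iv4 F506034)) (tt N111038 (iv5 F474377)) (tt N91572 F407369) (tt N110220 F470493))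
theorem Q95198 : ∀ i, i < 95198 → P i := stepQ 95197 Q95197 (allL N95197 (tt N58279 (iv1 D198260)) (tt N109629 (iv0 F467830)) (tt N110220 F470492) (tt N82415 (iv3 F407370)) (tt N117621 (iv4 F506042)) (tt N82414 F407371) (tt N118815 D222074) (tt N110221 (iv7 F470495)))
theorem Q95199 : ∀ i, i < 95199 → P i := stepQ 95198 Q95198 (allL N95198 (tt N110139 (iv1 F470141)) (tt N110138 F470138) (tt N86163 F407372) (tt N113649 F486489) (tt N58279 (iv4 D198261)) (tt N87324 F407375) (tt N86154 F407373) (tt N77482 F407374))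
theorem Q95200 : ∀ i, i < 95200 → P i := stepQ 95199 Q95199 (allL N95199 (tt N89819 F407377) (tt N58307 (iv0 F407379)) (tt N66579 F407376) (tt N58281 (iv3 D198262)) (tt N99521 (iv4 F424969)) (tt N58281 (iv5 F407378)) (tt N99520 (iv6 F424968)) (tt N112843 (iv7 F482912)))
theorem Q95201 : ∀ i, i < 95201 → P i := stepQ 95200 Q95200 (allL N95200 (tt N105645 F451088) (tt N64869 (iv0 F407385)) (tt N93384 F407380) (tt N72877 F407381) (tt N84756 F407382) (tt N93381 F407383) (tt N58285 (iv6 D198263)) (tt N73028 F407384))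
theorem Q95202 : ∀ i, i < 95202 → P i := stepQ 95201 Q95201 (allL N95201 (tt N61208 (iv1 F407392)) (tt N93900 (iv0 F407390)) (tt N82411 F407387) (tt N58286 (iv3 D198264)) (tt N78389 F407391) (tt N59453 F407388) (tt N118631 (iv6 F511233)) (tt N93386 F407389))
theorem Q95203 : ∀ i, i < 95203 → P i := stepQ 95202 Q95202 (allL N95202 (tt N58317 F407397) (tt N58316 F407398) (tt N58319 F407393) (tt N114531 (iv3 F490628)) (tt N58289 (iv4 D198265)) (tt N58725 F407394) (tt N82250 F407395) (tt N58309 F407396))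
theorem Q95204 : ∀ i, i < 95204 → P i := stepQ 95203 Q95203 (allL N95203 (tt N118787 (iv1 F512072)) (tt N114657 (iv0 F491234)) (tt N117536 (iv2 F505579)) (tt N58291 F407399) (tt N59608 F407401) (tt N58290 (iv5 D198266)) (tt N110205 (iv6 F470427)) (tt N58305 F407400))
theorem Q95205 : ∀ i, i < 95205 → P i := stepQ 95204 Q95204 (allL N95204 (tt N100543 F429408) (tt N117559 F505697) (tt N117537 (iv2 F505586)) (tt N58292 F407402) (tt N65893 F407403) (tt N117501 (iv5 F505369)) (tt N58290 (iv6 D198267)) (tt N65007 F407404))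
theorem Q95206 : ∀ i, i < 95206 → P i := stepQ 95205 Q95205 (allL N95205 (tt N95684 (iv1 F409133)) (tt N95686 (iv0 F409140)) (tt N58298 F407406) (tt N114755 (iv3 F491686)) (tt N58291 (iv4 D198268)) (tt N59631 F407407) (tt N105467 F450373) (tt N58306 F407408))
theorem Q95207 : ∀ i, i < 95207 → P i := stepQ 95206 Q95206 (allL N95206 (tt N72296 F407410) (tt N92900 F407411) (tt N58299 F407409) (tt N110205 (iv3 F470426)) (tt N105467 F450372) (tt N117499 (iv5 F505353)) (tt N58291 (iv6 D198269)) (tt N107160 (iv7 F457255)))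
theorem Q95208 : ∀ i, i < 95208 → P i := stepQ 95207 Q95207 (allL N95207 (tt N65056 F407415) (tt N65055 F407416) (tt N58301 F407412) (tt N117501 (iv3 F505367)) (tt N65029 F407414) (tt N58292 (iv5 D198270)) (tt N117499 (iv6 F505354)) (tt N65008 F407413))
theorem Q95209 : ∀ i, i < 95209 → P i := stepQ 95208 Q95208 (allL N95208 (tt N58311 F407428) (tt N98306 (iv0 F420434)) (tt N112841 (iv2 F482898)) (tt N118687 (iv3 F511550)) (tt N98704 (iv4 F421926)) (tt N58293 (iv5 D198271)) (tt N100629 F429761) (tt N85118 F407427))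
theorem Q95210 : ∀ i, i < 95210 → P i := stepQ 95209 Q95209 (allL N95209 (tt N112842 (iv1 F482905)) (tt N107742 (iv0 F459503)) (tt N58295 F407429) (tt N117536 (iv3 F505580)) (tt N89855 F407431) (tt N58294 (iv5 D198273)) (tt N114469 (iv6 F490342)) (tt N89824 F407430))
theorem Q95211 : ∀ i, i < 95211 → P i := stepQ 95210 Q95210 (allL N95210 (tt N65052 (iv1 F407435)) (tt N65051 F407436) (tt N58296 F407432) (tt N117537 (iv3 F505587)) (tt N65070 F407433) (tt N101685 (iv5 F433856)) (tt N58294 (iv6 D198274)) (tt N65053 F407434))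
theorem Q95212 : ∀ i, i < 95212 → P i := stepQ 95211 Q95211 (allL N95211 (tt N58295 (iv1 D198275)) (tt N89824 F407437) (tt N107742 (iv2 F459499)) (tt N118688 (iv3 F511557)) (tt N89860 F407439) (tt N80990 (iv5 F407438)) (tt N116124 F498600) (tt N112842 (iv7 F482906)))
theorem Q95213 : ∀ i, i < 95213 → P i := stepQ 95212 Q95212 (allL N95212 (tt N110187 F470329) (tt N111220 (iv0 F475279)) (tt N114469 (iv2 F490339)) (tt N58299 F407440) (tt N89859 F407441) (tt N110186 F470324) (tt N58295 (iv6 D198276)) (tt N89820 F407442))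
theorem Q95214 : ∀ i, i < 95214 → P i := stepQ 95213 Q95213 (allL N95213 (tt N65053 (iv1 F407444)) (tt N58296 (iv0 D198277)) (tt N65052 (iv2 F411306)) (tt N96660 (iv3 F413350)) (tt N112227 (iv4 F480147)) (tt N81260 F407443) (tt N79133 F413344) (tt N65051 (iv7 F411308)))
theorem Q95215 : ∀ i, i < 95215 → P i := stepQ 95214 Q95214 (allL N95214 (tt N58296 (iv1 D198278)) (tt N65053 F407445) (tt N65051 F411309) (tt N118816 D222075) (tt N64109 (iv4 F407446)) (tt N118360 (iv5 F509908)) (tt N101517 F433227) (tt N65052 F411307))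
theorem Q95216 : ∀ i, i < 95216 → P i := stepQ 95215 Q95215 (allL N95215 (tt N58707 F407450) (tt N58694 F407451) (tt N94817 F407447) (tt N107998 (iv3 F460654)) (tt N58297 (iv4 D198279)) (tt N73093 F407448) (tt N101113 (iv6 F431744)) (tt N83913 F407449))
theorem Q95217 : ∀ i, i < 95217 → P i := stepQ 95216 Q95216 (allL N95216 (tt N58306 (iv1 F407453)) (tt N58298 (iv0 D198280)) (tt N95684 (iv2 F409129)) (tt N75140 F407508) (tt N81964 F407452) (tt N95951 (iv5 F410396)) (tt N63954 (iv6 F407507)) (tt N95686 (iv7 F409139)))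
theorem Q95218 : ∀ i, i < 95218 → P i := stepQ 95217 Q95217 (allL N95217 (tt N64828 (iv1 F407460)) (tt N64500 F407458) (tt N59631 F407454) (tt N73006 F407455) (tt N58724 F407457) (tt N58298 (iv5 D198281)) (tt N59657 F407459) (tt N59633 F407456))
theorem Q95219 : ∀ i, i < 95219 → P i := stepQ 95218 Q95218 (allL N95218 (tt N70340 F407462) (tt N105469 F450380) (tt N105467 (iv2 F450374)) (tt N114751 (iv3 F491664)) (tt N58299 F407461) (tt N110634 (iv5 F472523)) (tt N58298 (iv6 D198282)) (tt N105466 (iv7 F450678)))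
theorem Q95220 : ∀ i, i < 95220 → P i := stepQ 95219 Q95219 (allL N95219 (tt N92900 (iv1 F407465)) (tt N72296 F407466) (tt N107160 F457253) (tt N89820 F407463) (tt N105466 F450679) (tt N117498 (iv5 F505345)) (tt N89819 F407464) (tt N58299 (iv7 D198283)))
theorem Q95221 : ∀ i, i < 95221 → P i := stepQ 95220 Q95220 (allL N95220 (tt N65008 (iv1 F407469)) (tt N58301 (iv0 D198284)) (tt N65056 (iv2 F407468)) (tt N92922 (iv3 F407471)) (tt N99292 (iv4 F423961)) (tt N73083 F407467) (tt N93863 F407472) (tt N65055 F407470))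
theorem Q95222 : ∀ i, i < 95222 → P i := stepQ 95221 Q95221 (allL N95221 (tt N118817 D222076) (tt N98827 (iv0 F422484)) (tt N65029 F407474) (tt N95803 (iv3 F409728)) (tt N58301 (iv4 D198285)) (tt N65005 F407476) (tt N118170 (iv6 F508987)) (tt N65057 F407475))
theorem Q95223 : ∀ i, i < 95223 → P i := stepQ 95222 Q95222 (allL N95222 (tt N96640 (iv1 F413290)) (tt N58314 F413291) (tt N103179 (iv2 F440430)) (tt N118684 (iv3 F511534)) (tt N109360 (iv4 F466565)) (tt N58302 (iv5 D198286)) (tt N101424 (iv6 F451313)) (tt N77125 F407478))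
theorem Q95224 : ∀ i, i < 95224 → P i := stepQ 95223 Q95223 (allL N95223 (tt N114657 F491236) (tt N118787 (iv0 F512071)) (tt N58305 F407479) (tt N89824 F407480) (tt N59609 F407482) (tt N58303 (iv5 D198287)) (tt N89822 F407481) (tt N117536 (iv7 F505582)))
theorem Q95225 : ∀ i, i < 95225 → P i := stepQ 95224 Q95224 (allL N95224 (tt N65668 F407486) (tt N118676 (iv0 F511486)) (tt N97446 (iv2 F416932)) (tt N65897 F407483) (tt N65896 (iv4 F407487)) (tt N58304 (iv5 D198288)) (tt N65895 F407484) (tt N65892 F407485))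
theorem Q95226 : ∀ i, i < 95226 → P i := stepQ 95225 Q95225 (allL N95225 (tt N117536 F505585) (tt N58305 (iv0 D198289)) (tt N114657 (iv2 F491235)) (tt N114722 (iv3 F491530)) (tt N118682 (iv4 F511522)) (tt N94784 F407488) (tt N110890 F473632) (tt N118787 (iv7 F512070)))
theorem Q95227 : ∀ i, i < 95227 → P i := stepQ 95226 Q95226 (allL N95226 (tt N59602 F407493) (tt N59366 F407494) (tt N59609 F407491) (tt N110553 (iv3 F472109)) (tt N58305 (iv4 D198290)) (tt N95931 (iv5 F410318)) (tt N110548 (iv6 F472091)) (tt N59608 F407492))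
theorem Q95228 : ∀ i, i < 95228 → P i := stepQ 95227 Q95227 (allL N95227 (tt N114500 F490487) (tt N91696 (iv0 F407498)) (tt N89822 F407495) (tt N58307 F407496) (tt N110548 (iv4 F472089)) (tt N89821 F407497) (tt N58305 (iv6 D198291)) (tt N114501 (iv7 F490492)))
theorem Q95229 : ∀ i, i < 95229 → P i := stepQ 95228 Q95228 (allL N95228 (tt N59542 F407500) (tt N114754 F491683) (tt N76675 F407499) (tt N58306 (iv3 D198292)) (tt N110553 (iv4 F472110)) (tt N76574 (iv5 F407501)) (tt N110552 (iv6 F472107)) (tt N114755 (iv7 F491688)))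
theorem Q95230 : ∀ i, i < 95230 → P i := stepQ 95229 Q95229 (allL N95229 (tt N64500 F407506) (tt N64828 F407509) (tt N59633 F407502) (tt N76574 F407503) (tt N58723 F407504) (tt N58306 (iv5 D198293)) (tt N76583 (iv6 F407510)) (tt N59631 F407505))
theorem Q95231 : ∀ i, i < 95231 → P i := stepQ 95230 Q95230 (allL N95230 (tt N114522 (iv1 F490582)) (tt N63968 (iv0 F407512)) (tt N112844 (iv2 F482918)) (tt N110552 (iv3 F472104)) (tt N58307 F407511) (tt N118671 (iv5 F511450)) (tt N58306 (iv6 D198294)) (tt N118818 D222077))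
theorem Q95232 : ∀ i, i < 95232 → P i := stepQ 95231 Q95231 (allL N95231 (tt N112843 (iv1 F482911)) (tt N66579 (iv0 F407515)) (tt N89819 F407513) (tt N114501 (iv3 F490489)) (tt N118818 (iv4 F512239)) (tt N73022 F407514) (tt N107160 (iv6 F457251)) (tt N58307 (iv7 D198295)))
theorem Q95233 : ∀ i, i < 95233 → P i := stepQ 95232 Q95232 (allL N95232 (tt N77125 (iv1 F407518)) (tt N103179 F440434) (tt N96640 (iv2 F413286)) (tt N58308 (iv3 D198296)) (tt N96341 (iv4 F412142)) (tt N79189 F407516) (tt N110847 (iv6 F473428)) (tt N58314 F407517))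
theorem Q95234 : ∀ i, i < 95234 → P i := stepQ 95233 Q95233 (allL N95233 (tt N70285 F407523) (tt N64827 F407524) (tt N58312 F407519) (tt N96514 F412804) (tt N58308 (iv4 D198297)) (tt N59011 F407520) (tt N59012 F407521) (tt N58315 F407522))
theorem Q95235 : ∀ i, i < 95235 → P i := stepQ 95234 Q95234 (allL N95234 (tt N58319 (iv1 F407529)) (tt N58309 (iv0 D198298)) (tt N58316 (iv2 F407528)) (tt N88904 (iv3 F407531)) (tt N59960 F407526) (tt N59025 F407525) (tt N59026 F407527) (tt N58317 F407530))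
theorem Q95236 : ∀ i, i < 95236 → P i := stepQ 95235 Q95235 (allL N95235 (tt N91071 F407535) (tt N114539 F490673) (tt N76508 (iv2 F407534)) (tt N58309 (iv3 D198299)) (tt N114534 (iv4 F490647)) (tt N59637 F407532) (tt N64904 F407533) (tt N114531 (iv7 F490631)))
theorem Q95237 : ∀ i, i < 95237 → P i := stepQ 95236 Q95236 (allL N95236 (tt N85118 (iv1 F407537)) (tt N112841 (iv0 F482902)) (tt N58311 (iv2 D198300)) (tt N96640 (iv3 F413287)) (tt N85108 F407536) (tt N96969 F414849) (tt N118819 D222078) (tt N98306 (iv7 F420433)))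
theorem Q95238 : ∀ i, i < 95238 → P i := stepQ 95237 Q95237 (allL N95237 (tt N118820 D222079) (tt N111214 (iv0 F475257)) (tt N118819 (iv2 F512244)) (tt N58313 F407538) (tt N98308 (iv4 F420444)) (tt N101553 (iv5 F433374)) (tt N58311 (iv6 D198301)) (tt N94500 F407539))
theorem Q95239 : ∀ i, i < 95239 → P i := stepQ 95238 Q95238 (allL N95238 (tt N58315 (iv1 F407543)) (tt N58312 (iv0 D198302)) (tt N70285 (iv2 F407542)) (tt N118821 D222080) (tt N94554 F407541) (tt N64828 F407540) (tt N100627 (iv6 F429757)) (tt N64827 F407544))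
theorem Q95240 : ∀ i, i < 95240 → P i := stepQ 95239 Q95239 (allL N95239 (tt N103179 (iv1 F440435)) (tt N77125 F407546) (tt N58314 (iv2 D198304)) (tt N98306 F420438) (tt N96344 (iv4 F412159)) (tt N112810 (iv5 F482719)) (tt N72213 F407545) (tt N96640 (iv7 F413288)))
theorem Q95241 : ∀ i, i < 95241 → P i := stepQ 95240 Q95240 (allL N95240 (tt N96312 F411973) (tt N96506 (iv0 F413263)) (tt N96513 F412808) (tt N58315 (iv3 D198305)) (tt N96633 F413262) (tt N109857 (iv5 F468948)) (tt N70156 F407547) (tt N96514 (iv7 F412807)))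
theorem Q95242 : ∀ i, i < 95242 → P i := stepQ 95241 Q95241 (allL N95241 (tt N64802 F407553) (tt N89314 F407552) (tt N59629 F407548) (tt N109857 (iv3 F468946)) (tt N58720 F407549) (tt N58315 (iv5 D198306)) (tt N59564 F407550) (tt N59011 F407551))
theorem Q95243 : ∀ i, i < 95243 → P i := stepQ 95242 Q95242 (allL N95242 (tt N107605 (iv1 F458916)) (tt N88856 F407559) (tt N72587 F407554) (tt N58316 (iv3 D198307)) (tt N62281 (iv4 F407558)) (tt N62407 F407555) (tt N62410 F407556) (tt N70413 F407557))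
theorem Q95244 : ∀ i, i < 95244 → P i := stepQ 95243 Q95243 (allL N95243 (tt N105367 (iv1 F449910)) (tt N58318 (iv0 D198308)) (tt N105371 F449932) (tt N116774 (iv3 F501756)) (tt N118822 D222081) (tt N106426 (iv5 F454377)) (tt N113082 F483898) (tt N70399 F449911))
theorem Q95245 : ∀ i, i < 95245 → P i := stepQ 95244 Q95244 (allL N95244 (tt N58318 (iv1 D198309)) (tt N105367 (iv0 F449909)) (tt N70399 F407561) (tt N103027 (iv3 F439729)) (tt N98328 (iv4 F420520)) (tt N105993 (iv5 F452661)) (tt N70393 (iv6 F407560)) (tt N105371 (iv7 F449926)))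
theorem Q95246 : ∀ i, i < 95246 → P i := stepQ 95245 Q95245 (allL N95245 (tt N105371 (iv1 F449925)) (tt N70399 F407566) (tt N58318 (iv2 D198310)) (tt N76508 F407562) (tt N58338 F407563) (tt N71240 F407564) (tt N65357 F407565) (tt N105367 (iv7 F449908)))
theorem Q95247 : ∀ i, i < 95247 → P i := stepQ 95246 Q95246 (allL N95246 (tt N77120 (iv1 F407572)) (tt N58320 (iv0 D198311)) (tt N77122 (iv2 F407571)) (tt N84801 (iv3 F407574)) (tt N85534 F407568) (tt N65918 F407570) (tt N85533 F407569) (tt N77119 F407573))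
theorem Q95248 : ∀ i, i < 95248 → P i := stepQ 95247 Q95247 (allL N95247 (tt N116769 F501730) (tt N112828 (iv0 F482825)) (tt N58325 F407575) (tt N101244 F432378) (tt N114772 (iv4 F491778)) (tt N118823 D222082) (tt N58323 (iv6 D198312)) (tt N116405 (iv7 F499926)))
theorem Q95249 : ∀ i, i < 95249 → P i := stepQ 95248 Q95248 (allL N95248 (tt N116405 F499928) (tt N58325 (iv0 D198313)) (tt N116769 (iv2 F501726)) (tt N110846 (iv3 F473426)) (tt N101487 F436653) (tt N118824 D222083) (tt N107702 F469606) (tt N112828 (iv7 F482824)))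
theorem Q95250 : ∀ i, i < 95250 → P i := stepQ 95249 Q95249 (allL N95249 (tt N58325 (iv1 D198314)) (tt N116405 (iv0 F499927)) (tt N112828 (iv2 F482822)) (tt N118825 D222084) (tt N116403 (iv4 F499911)) (tt N108615 F463244) (tt N78459 (iv6 F407576)) (tt N116769 (iv7 F501728)))
theorem Q95251 : ∀ i, i < 95251 → P i := stepQ 95250 Q95250 (allL N95250 (tt N118826 D222085) (tt N117593 (iv0 F505891)) (tt N118823 (iv2 F512266)) (tt N58328 F407577) (tt N115545 (iv4 F495902)) (tt N58325 (iv5 D198315)) (tt N118132 (iv6 F508773)) (tt N116771 (iv7 F501739)))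
theorem Q95252 : ∀ i, i < 95252 → P i := stepQ 95251 Q95251 (allL N95251 (tt N117714 (iv1 F506583)) (tt N117711 (iv0 F506566)) (tt N110848 (iv2 F473429)) (tt N58326 (iv3 D198316)) (tt N97988 F459356) (tt N108174 (iv5 F461395)) (tt N107714 (iv6 F459351)) (tt N112827 (iv7 F482819)))
theorem Q95253 : ∀ i, i < 95253 → P i := stepQ 95252 Q95252 (allL N95252 (tt N118695 (iv1 F511591)) (tt N58328 (iv0 D198317)) (tt N73512 (iv2 F407584)) (tt N118827 D222086) (tt N96592 (iv4 F413113)) (tt N73442 F407585) (tt N96591 F413110) (tt N73516 F407586))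
theorem Q95254 : ∀ i, i < 95254 → P i := stepQ 95253 Q95253 (allL N95253 (tt N58328 (iv1 D198318)) (tt N118695 F511590) (tt N73516 (iv2 F407580)) (tt N73527 (iv3 F407579)) (tt N73528 F407583) (tt N73443 F407578) (tt N73527 (iv6 F407582)) (tt N73512 (iv7 F407581)))
theorem Q95255 : ∀ i, i < 95255 → P i := stepQ 95254 Q95254 (allL N95254 (tt N81185 (iv1 F480107)) (tt N108117 (iv0 F480106)) (tt N108216 F461532) (tt N115591 (iv3 F495900)) (tt N58328 (iv4 D198319)) (tt N118398 (iv5 F510139)) (tt N118133 (iv6 F508777)) (tt N108217 (iv7 F461535)))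
theorem Q95256 : ∀ i, i < 95256 → P i := stepQ 95255 Q95255 (allL N95255 (tt N73516 (iv1 F407590)) (tt N73512 F407591) (tt N118695 (iv2 F511585)) (tt N116771 (iv3 F501737)) (tt N108217 (iv4 F461536)) (tt N58329 F407589) (tt N111419 (iv6 F476265)) (tt N58328 (iv7 D198320)))
theorem Q95257 : ∀ i, i < 95257 → P i := stepQ 95256 Q95256 (allL N95256 (tt N90334 (iv1 F407596)) (tt N58332 (iv0 D198321)) (tt N85241 (iv2 F407594)) (tt N101828 (iv3 F434543)) (tt N70862 F407592) (tt N101827 F434541) (tt N85239 F407593) (tt N71234 F407595))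
theorem Q95258 : ∀ i, i < 95258 → P i := stepQ 95257 Q95257 (allL N95257 (tt N90333 F407602) (tt N90332 (iv0 F407604)) (tt N90335 F407597) (tt N58334 F407598) (tt N90220 F407599) (tt N58332 (iv5 D198322)) (tt N72912 F407600) (tt N90218 F407601))
theorem Q95259 : ∀ i, i < 95259 → P i := stepQ 95258 Q95258 (allL N95258 (tt N71234 (iv1 F407610)) (tt N85241 F407611) (tt N90334 F407607) (tt N58335 F407608) (tt N101241 (iv4 F432363)) (tt N90218 F407609) (tt N101240 F432360) (tt N58332 (iv7 D198323)))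
theorem Q95260 : ∀ i, i < 95260 → P i := stepQ 95259 Q95259 (allL N95259 (tt N107478 F458459) (tt N116881 (iv0 F502325)) (tt N105369 (iv2 F449917)) (tt N85406 F407612) (tt N58336 (iv4 D198324)) (tt N85404 (iv5 F407613)) (tt N85927 (iv6 F407614)) (tt N105368 (iv7 F449915)))
theorem Q95261 : ∀ i, i < 95261 → P i := stepQ 95260 Q95260 (allL N95260 (tt N118828 D222087) (tt N111027 (iv0 F474328)) (tt N105370 (iv2 F449923)) (tt N118355 (iv3 F509877)) (tt N85927 F407615) (tt N118354 (iv5 F509874)) (tt N58336 (iv6 D198325)) (tt N86340 (iv7 F407616)))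
theorem Q95262 : ∀ i, i < 95262 → P i := stepQ 95261 Q95261 (allL N95261 (tt N62372 (iv1 F407623)) (tt N62375 (iv0 F407622)) (tt N73108 F407617) (tt N58337 (iv3 D198326)) (tt N65229 F407620) (tt N62225 F407618) (tt N65228 (iv6 F407621)) (tt N73109 F407619))
theorem Q95263 : ∀ i, i < 95263 → P i := stepQ 95262 Q95262 (allL N95262 (tt N116881 (iv1 F502326)) (tt N107478 (iv0 F458458)) (tt N105368 (iv2 F449912)) (tt N118648 (iv3 F511330)) (tt N58337 (iv4 D198327)) (tt N90076 (iv5 F424022)) (tt N104109 F444222) (tt N105369 (iv7 F449918)))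
theorem Q95264 : ∀ i, i < 95264 → P i := stepQ 95263 Q95263 (allL N95263 (tt N70406 F407628) (tt N70395 (iv0 F407626)) (tt N70403 F407624) (tt N65228 F407625) (tt N104109 (iv4 F444221)) (tt N109792 (iv5 F468634)) (tt N58337 (iv6 D198328)) (tt N70404 (iv7 F407627)))
theorem Q95265 : ∀ i, i < 95265 → P i := stepQ 95264 Q95264 (allL N95264 (tt N90711 (iv1 F407630)) (tt N58341 (iv0 D198329)) (tt N115047 F493212) (tt N77127 (iv3 F407631)) (tt N96701 (iv4 F413521)) (tt N96704 (iv5 F413534)) (tt N77126 F407629) (tt N115048 (iv7 F493215)))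
theorem Q95266 : ∀ i, i < 95266 → P i := stepQ 95265 Q95265 (allL N95265 (tt N78137 (iv1 F407635)) (tt N101422 F432935) (tt N101253 (iv2 F432406)) (tt N58345 F407632) (tt N72230 F407633) (tt N58343 (iv5 D198330)) (tt N108327 (iv6 F462078)) (tt N76207 F407634))
theorem Q95267 : ∀ i, i < 95267 → P i := stepQ 95266 Q95266 (allL N95266 (tt N73097 (iv1 F407639)) (tt N59402 (iv0 F407638)) (tt N73095 F407636) (tt N108327 (iv3 F462076)) (tt N99381 F424365) (tt N101933 (iv5 F434996)) (tt N58345 (iv6 D198331)) (tt N73096 F407637))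
theorem Q95268 : ∀ i, i < 95268 → P i := stepQ 95267 Q95267 (allL N95267 (tt N93271 F407642) (tt N85656 F407643) (tt N99475 (iv2 F424751)) (tt N82280 F407640) (tt N100468 (iv4 F429085)) (tt N58346 (iv5 D198332)) (tt N96716 (iv6 F413590)) (tt N58348 F407641))
theorem Q95269 : ∀ i, i < 95269 → P i := stepQ 95268 Q95268 (allL N95268 (tt N99475 (iv1 F424746)) (tt N58348 (iv0 D198333)) (tt N85656 (iv2 F407645)) (tt N81123 F407646) (tt N100512 (iv4 F429254)) (tt N85655 F407644) (tt N81121 (iv6 F407648)) (tt N93271 F407647))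
theorem Q95270 : ∀ i, i < 95270 → P i := stepQ 95269 Q95269 (allL N95269 (tt N96617 F413200) (tt N110594 (iv0 F472299)) (tt N112046 (iv2 F479239)) (tt N58372 F407649) (tt N58349 (iv4 D198336)) (tt N112060 (iv5 F479304)) (tt N89886 (iv6 F407651)) (tt N96721 (iv7 F413605)))
theorem Q95271 : ∀ i, i < 95271 → P i := stepQ 95270 Q95270 (allL N95270 (tt N82146 F407656) (tt N108667 F463460) (tt N109252 (iv2 F466001)) (tt N58351 F407652) (tt N60398 (iv4 F407654)) (tt N58349 (iv5 D198337)) (tt N60397 F407655) (tt N93379 F407653))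
theorem Q95272 : ∀ i, i < 95272 → P i := stepQ 95271 Q95271 (allL N95271 (tt N115783 (iv1 F496853)) (tt N88371 (iv0 F407661)) (tt N112045 (iv2 F479234)) (tt N58352 F407657) (tt N89886 F407658) (tt N72953 F407659) (tt N58349 (iv6 D198338)) (tt N112047 (iv7 F479246)))
theorem Q95273 : ∀ i, i < 95273 → P i := stepQ 95272 Q95272 (allL N95272 (tt N65550 F407664) (tt N60014 (iv0 F407667)) (tt N66022 F407662) (tt N96960 (iv3 F414793)) (tt N73080 F407665) (tt N58350 (iv5 D198339)) (tt N60072 F407666) (tt N72413 F407663))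
theorem Q95274 : ∀ i, i < 95274 → P i := stepQ 95273 Q95273 (allL N95273 (tt N65928 F407671) (tt N94798 (iv0 F407673)) (tt N66023 F407668) (tt N91292 F407669) (tt N58352 F407670) (tt N70148 F407672) (tt N58350 (iv6 D198340)) (tt N70220 (iv7 F407674)))
theorem Q95275 : ∀ i, i < 95275 → P i := stepQ 95274 Q95274 (allL N95274 (tt N112673 F482113) (tt N118599 (iv0 F511095)) (tt N93377 F407676) (tt N60400 F407677) (tt N58351 (iv4 D198341)) (tt N93408 F407679) (tt N60399 (iv6 F407680)) (tt N93380 F407678))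
theorem Q95276 : ∀ i, i < 95276 → P i := stepQ 95275 Q95275 (allL N95275 (tt N62355 F407685) (tt N62353 F407686) (tt N93378 F407681) (tt N60397 F407682) (tt N60399 F407683) (tt N69838 F407684) (tt N58351 (iv6 D198342)) (tt N61810 (iv7 F407687)))
theorem Q95277 : ∀ i, i < 95277 → P i := stepQ 95276 Q95276 (allL N95276 (tt N91573 (iv1 F463418)) (tt N118829 D222088) (tt N97215 (iv2 F415931)) (tt N58354 F407688) (tt N60123 (iv4 F407690)) (tt N58353 (iv5 D198343)) (tt N91607 (iv6 F407691)) (tt N93376 F407689))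
theorem Q95278 : ∀ i, i < 95278 → P i := stepQ 95277 Q95277 (allL N95277 (tt N118814 (iv1 F512217)) (tt N112813 (iv0 F482738)) (tt N118810 (iv2 F512185)) (tt N58355 F407692) (tt N102249 (iv4 F436362)) (tt N118830 D222089) (tt N58353 (iv6 D198344)) (tt N118804 (iv7 F512162)))
theorem Q95279 : ∀ i, i < 95279 → P i := stepQ 95278 Q95278 (allL N95278 (tt N118599 F511096) (tt N112673 (iv0 F482112)) (tt N93380 F407693) (tt N77975 F407696) (tt N58354 (iv4 D198345)) (tt N77974 F407694) (tt N118831 D222090) (tt N93377 F407695))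
theorem Q95280 : ∀ i, i < 95280 → P i := stepQ 95279 Q95279 (allL N95279 (tt N60032 F407699) (tt N60036 (iv0 F407700)) (tt N60034 F407697) (tt N91607 F407698) (tt N118831 (iv4 F512306)) (tt N108188 (iv5 F461449)) (tt N58354 (iv6 D198346)) (tt N60033 F415083))
theorem Q95281 : ∀ i, i < 95281 → P i := stepQ 95280 Q95280 (allL N95280 (tt N59412 F407703) (tt N94699 F407704) (tt N94995 F407701) (tt N118830 (iv3 F512298)) (tt N118755 (iv4 F511909)) (tt N58355 (iv5 D198347)) (tt N108188 F461450) (tt N94996 F407702))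
theorem Q95282 : ∀ i, i < 95282 → P i := stepQ 95281 Q95281 (allL N95281 (tt N118786 F512066) (tt N115352 (iv0 F494740)) (tt N110904 (iv2 F473708)) (tt N58358 F407705) (tt N68008 F407706) (tt N99300 (iv5 F423992)) (tt N58356 (iv6 D198348)) (tt N107782 (iv7 F459707)))
theorem Q95283 : ∀ i, i < 95283 → P i := stepQ 95282 Q95282 (allL N95282 (tt N58365 (iv1 F407708)) (tt N58357 (iv0 D198349)) (tt N94893 (iv2 F407709)) (tt N78228 (iv3 F407710)) (tt N110641 (iv4 F472550)) (tt N93464 F407707) (tt N108908 (iv6 F464451)) (tt N96728 (iv7 F413640)))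
theorem Q95284 : ∀ i, i < 95284 → P i := stepQ 95283 Q95283 (allL N95283 (tt N58357 (iv1 D198350)) (tt N58365 F407711) (tt N96728 F413638) (tt N117007 (iv3 F502940)) (tt N105892 (iv4 F452213)) (tt N59449 F407713) (tt N117005 F502931) (tt N94893 F407712))
theorem Q95285 : ∀ i, i < 95285 → P i := stepQ 95284 Q95284 (allL N95284 (tt N93280 (iv1 F407717)) (tt N93277 (iv0 F407718)) (tt N96731 (iv2 F413648)) (tt N78230 F407714) (tt N77892 F407715) (tt N72631 F407716) (tt N58357 (iv6 D198351)) (tt N99487 (iv7 F424812)))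
theorem Q95286 : ∀ i, i < 95286 → P i := stepQ 95285 Q95285 (allL N95285 (tt N58367 (iv1 F407722)) (tt N58360 (iv0 D198352)) (tt N59449 (iv2 F407721)) (tt N78470 (iv3 F407724)) (tt N58825 F407719) (tt N96728 (iv5 F413636)) (tt N58824 F407720) (tt N93464 F407723))
theorem Q95287 : ∀ i, i < 95287 → P i := stepQ 95286 Q95286 (allL N95286 (tt N65860 F407728) (tt N65883 (iv0 F407727)) (tt N95754 (iv2 F409470)) (tt N100381 (iv3 F428700)) (tt N58363 F407725) (tt N81318 F407726) (tt N58361 (iv6 D198353)) (tt N100378 (iv7 F428678)))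
theorem Q95288 : ∀ i, i < 95288 → P i := stepQ 95287 Q95287 (allL N95287 (tt N58362 (iv1 D198354)) (tt N60404 F407729) (tt N92046 F407734) (tt N58741 F407735) (tt N60004 F407731) (tt N94664 (iv5 F407732)) (tt N59318 (iv6 F407733)) (tt N94664 F407730))
theorem Q95289 : ∀ i, i < 95289 → P i := stepQ 95288 Q95288 (allL N95288 (tt N58826 F407740) (tt N81266 F407741) (tt N79723 F407736) (tt N76725 F407742) (tt N58362 (iv4 D198355)) (tt N63592 F407737) (tt N58776 F407738) (tt N63591 F407739))
theorem Q95290 : ∀ i, i < 95290 → P i := stepQ 95289 Q95289 (allL N95289 (tt N110863 (iv1 F473502)) (tt N100748 (iv0 F430286)) (tt N78231 F407743) (tt N58365 F407744) (tt N109477 (iv4 F467171)) (tt N58364 (iv5 D198356)) (tt N107881 F460098) (tt N96730 (iv7 F413647)))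
theorem Q95291 : ∀ i, i < 95291 → P i := stepQ 95290 Q95290 (allL N95290 (tt N108907 F464450) (tt N108922 F464498) (tt N96729 (iv2 F413641)) (tt N107881 (iv3 F460096)) (tt N77890 F407745) (tt N112629 F481907) (tt N58365 (iv6 D198357)) (tt N99028 (iv7 F423086)))
theorem Q95292 : ∀ i, i < 95292 → P i := stepQ 95291 Q95291 (allL N95291 (tt N100744 (iv1 F430267)) (tt N78440 (iv0 F407749)) (tt N100747 (iv2 F430283)) (tt N58367 (iv3 D198358)) (tt N76725 F407746) (tt N107245 (iv5 F457625)) (tt N94814 F407747) (tt N76724 F407748))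
theorem Q95293 : ∀ i, i < 95293 → P i := stepQ 95292 Q95292 (allL N95292 (tt N72891 F407753) (tt N59495 F407754) (tt N77938 F407750) (tt N107245 (iv3 F457623)) (tt N77816 F407751) (tt N58367 (iv5 D198359)) (tt N101661 F433748) (tt N77937 F407752))
theorem Q95294 : ∀ i, i < 95294 → P i := stepQ 95293 Q95293 (allL N95293 (tt N95334 (iv1 F407894)) (tt N59781 (iv0 F407759)) (tt N71041 F407755) (tt N62115 F407756) (tt N58808 F407757) (tt N58368 (iv5 D198360)) (tt N103951 (iv6 F443501)) (tt N62112 F407758))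
theorem Q95295 : ∀ i, i < 95295 → P i := stepQ 95294 Q95294 (allL N95294 (tt N95439 (iv1 F408187)) (tt N84698 (iv0 F409397)) (tt N96732 (iv2 F413652)) (tt N108645 (iv3 F463342)) (tt N118832 D222091) (tt N58371 (iv5 D198361)) (tt N110952 F473940) (tt N88265 F407760))
theorem Q95296 : ∀ i, i < 95296 → P i := stepQ 95295 Q95295 (allL N95295 (tt N58610 (iv1 F407765)) (tt N58662 (iv0 F407764)) (tt N96733 (iv2 F413654)) (tt N91902 F407761) (tt N66026 F407762) (tt N95357 (iv5 F407982)) (tt N58371 (iv6 D198362)) (tt N91291 F407763))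
theorem Q95297 : ∀ i, i < 95297 → P i := stepQ 95296 Q95296 (allL N95296 (tt N84698 F409395) (tt N95439 (iv0 F408188)) (tt N88265 F407766) (tt N112060 (iv3 F479302)) (tt N118833 D222092) (tt N58372 (iv5 D198363)) (tt N84687 F407767) (tt N96732 (iv7 F413653)))
theorem Q95298 : ∀ i, i < 95298 → P i := stepQ 95297 Q95297 (allL N95297 (tt N58491 (iv1 F407769)) (tt N58373 (iv0 D198364)) (tt N81597 (iv2 F407770)) (tt N92525 (iv3 F407771)) (tt N97244 (iv4 F416050)) (tt N96742 (iv5 F413719)) (tt N81592 F407768) (tt N96734 (iv7 F413663)))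
theorem Q95299 : ∀ i, i < 95299 → P i := stepQ 95298 Q95298 (allL N95298 (tt N58373 (iv1 D198365)) (tt N58491 F407772) (tt N96734 F413661) (tt N81602 (iv3 F407774)) (tt N97243 (iv4 F416047)) (tt N96780 (iv5 F413898)) (tt N72321 (iv6 F407775)) (tt N81597 F407773))
theorem Q95300 : ∀ i, i < 95300 → P i := stepQ 95299 Q95299 (allL N95299 (tt N97270 (iv1 F416146)) (tt N111724 (iv0 F477677)) (tt N96795 (iv2 F413984)) (tt N114245 (iv3 F489189)) (tt N58373 (iv4 D198366)) (tt N95455 (iv5 F408245)) (tt N114244 (iv6 F489186)) (tt N96735 (iv7 F413669)))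
theorem Q95301 : ∀ i, i < 95301 → P i := stepQ 95300 Q95300 (allL N95300 (tt N95421 F408158) (tt N96958 F414779) (tt N58739 F407776) (tt N86483 F407777) (tt N79854 F407780) (tt N58374 (iv5 D198367)) (tt N79853 (iv6 F407779)) (tt N87625 F407778))
theorem Q95302 : ∀ i, i < 95302 → P i := stepQ 95301 Q95301 (allL N95301 (tt N59732 F407784) (tt N95309 F407810) (tt N58742 F407781) (tt N91937 F407783) (tt N58375 (iv4 D198368)) (tt N95553 (iv5 F408627)) (tt N59698 F407782) (tt N95347 (iv7 F407945)))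
theorem Q95303 : ∀ i, i < 95303 → P i := stepQ 95302 Q95302 (allL N95302 (tt N87070 F412767) (tt N115788 F496884) (tt N115787 (iv2 F496879)) (tt N58377 (iv3 D198369)) (tt N73087 F407786) (tt N116453 (iv5 F500205)) (tt N112157 F479802) (tt N88187 F407785))
theorem Q95304 : ∀ i, i < 95304 → P i := stepQ 95303 Q95303 (allL N95303 (tt N95529 (iv1 F408507)) (tt N59893 F407788) (tt N95530 F408511) (tt N116453 (iv3 F500203)) (tt N110475 (iv4 F471759)) (tt N58377 (iv5 D198370)) (tt N91627 F407789) (tt N88188 F407787))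
theorem Q95305 : ∀ i, i < 95305 → P i := stepQ 95304 Q95304 (allL N95304 (tt N59135 F407793) (tt N59139 F407794) (tt N59137 F407790) (tt N93578 F407791) (tt N58379 (iv4 D198371)) (tt N99497 (iv5 F424861)) (tt N117569 (iv6 F505755)) (tt N59136 F407792))
theorem Q95306 : ∀ i, i < 95306 → P i := stepQ 95305 Q95305 (allL N95305 (tt N58453 (iv1 F407795)) (tt N58381 (iv0 D198372)) (tt N58450 F461688) (tt N118834 D222093) (tt N92398 (iv4 F472287)) (tt N118835 D222094) (tt N117323 (iv6 F504463)) (tt N58451 F461689))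
theorem Q95307 : ∀ i, i < 95307 → P i := stepQ 95306 Q95306 (allL N95306 (tt N58381 (iv1 D198373)) (tt N58453 F407796) (tt N58451 F461685) (tt N108249 (iv3 F461682)) (tt N92399 F472282) (tt N118836 D222095) (tt N108248 F461680) (tt N58450 F461686))
theorem Q95308 : ∀ i, i < 95308 → P i := stepQ 95307 Q95307 (allL N95307 (tt N118837 D222096) (tt N118838 D222097) (tt N58452 F407797) (tt N87321 F407798) (tt N118839 D222098) (tt N58381 (iv5 D198374)) (tt N58384 F407799) (tt N87314 F407800))
theorem Q95309 : ∀ i, i < 95309 → P i := stepQ 95308 Q95308 (allL N95308 (tt N85735 (iv1 F407805)) (tt N85736 (iv0 F407804)) (tt N105343 (iv2 F449792)) (tt N58382 (iv3 D198375)) (tt N60010 F407801) (tt N95654 (iv5 F409014)) (tt N78530 F407802) (tt N58457 F407803))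
theorem Q95310 : ∀ i, i < 95310 → P i := stepQ 95309 Q95309 (allL N95309 (tt N95301 (iv1 F407810)) (tt N59964 F407811) (tt N58460 F407807) (tt N118730 (iv3 F511782)) (tt N92332 F407808) (tt N95735 (iv5 F409368)) (tt N58383 (iv6 D198376)) (tt N78529 F407809))
theorem Q95311 : ∀ i, i < 95311 → P i := stepQ 95310 Q95310 (allL N95310 (tt N58464 (iv1 F407813)) (tt N58384 (iv0 D198377)) (tt N58461 (iv2 F407814)) (tt N118840 D222099) (tt N118841 D222100) (tt N58628 F407812) (tt N118842 D222101) (tt N58462 (iv7 F407815)))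
theorem Q95312 : ∀ i, i < 95312 → P i := stepQ 95311 Q95311 (allL N95311 (tt N58384 (iv1 D198378)) (tt N58464 F407816) (tt N58462 (iv2 F407819)) (tt N95491 (iv3 F408775)) (tt N118843 D222102) (tt N58593 F407818) (tt N95488 F408776) (tt N58461 F407817))
theorem Q95313 : ∀ i, i < 95313 → P i := stepQ 95312 Q95312 (allL N95312 (tt N114220 (iv1 F489058)) (tt N114147 (iv0 F488747)) (tt N58463 F407820) (tt N118844 D222103) (tt N58384 (iv4 D198379)) (tt N105693 (iv5 F451286)) (tt N118839 (iv6 F512349)) (tt N105692 (iv7 F451281)))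
theorem Q95314 : ∀ i, i < 95314 → P i := stepQ 95313 Q95313 (allL N95313 (tt N77796 F407823) (tt N95660 (iv0 F409034)) (tt N58467 F407821) (tt N111458 (iv3 F476445)) (tt N91915 F408184) (tt N58386 (iv5 D198380)) (tt N95434 (iv6 F408186)) (tt N58469 F407822))
theorem Q95315 : ∀ i, i < 95315 → P i := stepQ 95314 Q95314 (allL N95314 (tt N95660 (iv1 F409035)) (tt N77796 F407826) (tt N58469 F407824) (tt N111513 F476661) (tt N95656 (iv4 F409021)) (tt N58387 (iv5 D198381)) (tt N114812 (iv6 F492003)) (tt N58467 F407825))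
theorem Q95316 : ∀ i, i < 95316 → P i := stepQ 95315 Q95315 (allL N95315 (tt N96742 F413721) (tt N96780 F413901) (tt N58470 F407827) (tt N104252 F444948) (tt N58388 F407828) (tt N114235 (iv5 F489139)) (tt N58387 (iv6 D198382)) (tt N95740 (iv7 F409392)))
theorem Q95317 : ∀ i, i < 95317 → P i := stepQ 95316 Q95316 (allL N95316 (tt N71065 (iv1 F407833)) (tt N69705 F407832) (tt N58389 (iv2 D198383)) (tt N92412 F407829) (tt N74018 F407830) (tt N108082 (iv5 F461033)) (tt N118845 D222104) (tt N71066 F407831))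
theorem Q95318 : ∀ i, i < 95318 → P i := stepQ 95317 Q95317 (allL N95317 (tt N98887 F422703) (tt N108578 (iv0 F463131)) (tt N108082 (iv2 F461032)) (tt N58390 F407834) (tt N99195 (iv4 F423650)) (tt N58389 (iv5 D198384)) (tt N118846 D222105) (tt N71067 F407835))
theorem Q95319 : ∀ i, i < 95319 → P i := stepQ 95318 Q95318 (allL N95318 (tt N117858 F507308) (tt N118847 D222106) (tt N118845 (iv2 F512382)) (tt N58391 F407836) (tt N74019 F407837) (tt N116594 F500901) (tt N58389 (iv6 D198385)) (tt N97325 (iv7 F416355)))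
theorem Q95320 : ∀ i, i < 95320 → P i := stepQ 95319 Q95319 (allL N95319 (tt N106102 F453117) (tt N74283 F407840) (tt N92366 F407838) (tt N118846 (iv3 F512390)) (tt N58449 F407839) (tt N110590 (iv5 F472264)) (tt N58390 (iv6 D198386)) (tt N106125 (iv7 F453240)))
theorem Q95321 : ∀ i, i < 95321 → P i := stepQ 95320 Q95320 (allL N95320 (tt N73190 F407842) (tt N108775 (iv0 F463874)) (tt N92414 F407841) (tt N116594 F500900) (tt N107937 (iv4 F460370)) (tt N58391 (iv5 D198387)) (tt N110590 F472266) (tt N97329 (iv7 F416371)))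
theorem Q95322 : ∀ i, i < 95322 → P i := stepQ 95321 Q95321 (allL N95321 (tt N94306 F407845) (tt N94196 F407846) (tt N92349 F407843) (tt N108581 (iv3 F463141)) (tt N108378 (iv4 F462328)) (tt N58392 (iv5 D198388)) (tt N117875 (iv6 F507382)) (tt N94304 F407844))
theorem Q95323 : ∀ i, i < 95323 → P i := stepQ 95322 Q95322 (allL N95322 (tt N74275 F407849) (tt N66516 (iv0 F407851)) (tt N104647 (iv2 F446673)) (tt N58395 (iv3 D198389)) (tt N66350 F407850) (tt N74728 F407847) (tt N118848 D222107) (tt N93571 F407848))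
theorem Q95324 : ∀ i, i < 95324 → P i := stepQ 95323 Q95323 (allL N95323 (tt N107893 F460149) (tt N117804 F507056) (tt N93575 F407852) (tt N118848 (iv3 F512399)) (tt N118353 (iv4 F509865)) (tt N118557 (iv5 F510923)) (tt N58395 (iv6 D198390)) (tt N118849 D222108))
theorem Q95325 : ∀ i, i < 95325 → P i := stepQ 95324 Q95324 (allL N95324 (tt N74289 F407855) (tt N118594 F511068) (tt N93573 F407853) (tt N117879 (iv3 F507396)) (tt N93915 F407854) (tt N107717 F459373) (tt N58396 (iv6 D198391)) (tt N118326 (iv7 F509720)))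
theorem Q95326 : ∀ i, i < 95326 → P i := stepQ 95325 Q95325 (allL N95325 (tt N113271 F484808) (tt N118850 D222109) (tt N58398 F407862) (tt N98848 (iv3 F422559)) (tt N65917 F407863) (tt N118851 D222110) (tt N58397 (iv6 D198392)) (tt N77118 (iv7 F407864)))
theorem Q95327 : ∀ i, i < 95327 → P i := stepQ 95326 Q95326 (allL N95326 (tt N77118 (iv1 F407874)) (tt N58398 (iv0 D198393)) (tt N113271 (iv2 F484809)) (tt N118852 D222111) (tt N107884 F460113) (tt N118853 D222112) (tt N110656 F504208) (tt N118850 (iv7 F512408)))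
theorem Q95328 : ∀ i, i < 95328 → P i := stepQ 95327 Q95327 (allL N95327 (tt N58398 (iv1 D198394)) (tt N77118 F407865) (tt N118850 (iv2 F512412)) (tt N91390 (iv3 F407867)) (tt N91625 (iv4 F407866)) (tt N118854 D222113) (tt N95093 F407868) (tt N113271 (iv7 F484806)))
theorem Q95329 : ∀ i, i < 95329 → P i := stepQ 95328 Q95328 (allL N95328 (tt N110125 F505739) (tt N117911 (iv0 F507555)) (tt N118851 (iv2 F512413)) (tt N58399 F407869) (tt N118855 D222114) (tt N58398 (iv5 D198395)) (tt N117911 (iv6 F507554)) (tt N118856 D222115))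
theorem Q95330 : ∀ i, i < 95330 → P i := stepQ 95329 Q95329 (allL N95329 (tt N118850 (iv1 F512407)) (tt N113271 (iv0 F484807)) (tt N77118 F407870) (tt N58400 F407871) (tt N65920 F407872) (tt N118856 (iv5 F512426)) (tt N73043 F407873) (tt N58398 (iv7 D198396)))
theorem Q95331 : ∀ i, i < 95331 → P i := stepQ 95330 Q95330 (allL N95330 (tt N74363 (iv1 F407879)) (tt N58399 (iv0 D198397)) (tt N74372 (iv2 F407876)) (tt N99630 (iv3 F425497)) (tt N77762 F407878) (tt N66333 F407875) (tt N113286 (iv6 F484856)) (tt N94328 F407877))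
theorem Q95332 : ∀ i, i < 95332 → P i := stepQ 95331 Q95331 (allL N95331 (tt N118545 (iv1 F510884)) (tt N118547 (iv0 F510894)) (tt N98852 (iv2 F422565)) (tt N110122 (iv3 F470086)) (tt N58399 (iv4 D198398)) (tt N77722 F407880) (tt N116641 (iv6 F501103)) (tt N118436 (iv7 F510345)))
theorem Q95333 : ∀ i, i < 95333 → P i := stepQ 95332 Q95332 (allL N95332 (tt N94328 (iv1 F407883)) (tt N74372 F407884) (tt N74363 F407881) (tt N118856 (iv3 F512425)) (tt N118436 (iv4 F510344)) (tt N58400 F407882) (tt N118539 (iv6 F510851)) (tt N58399 (iv7 D198399)))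
theorem Q95334 : ∀ i, i < 95334 → P i := stepQ 95333 Q95333 (allL N95333 (tt N66338 F407888) (tt N94326 F407889) (tt N92369 F407885) (tt N108649 (iv3 F463350)) (tt N117839 (iv4 F507206)) (tt N58401 (iv5 D198400)) (tt N77727 F407886) (tt N92370 F407887))
theorem Q95335 : ∀ i, i < 95335 → P i := stepQ 95334 Q95334 (allL N95334 (tt N91400 F407893) (tt N95293 F407894) (tt N58406 F407890) (tt N90598 F407891) (tt N79662 F407892) (tt N58405 (iv5 D198401)) (tt N90596 F407895) (tt N96807 (iv7 F414051)))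
theorem Q95336 : ∀ i, i < 95336 → P i := stepQ 95335 Q95335 (allL N95335 (tt N100697 F430073) (tt N100699 (iv0 F430082)) (tt N58407 F407896) (tt N96818 (iv3 F414104)) (tt N97085 (iv4 F415412)) (tt N117526 (iv5 F505516)) (tt N58405 (iv6 D198402)) (tt N111590 (iv7 F477046)))
theorem Q95337 : ∀ i, i < 95337 → P i := stepQ 95336 Q95336 (allL N95336 (tt N111521 (iv1 F476708)) (tt N75416 (iv0 F407900)) (tt N117526 F505521) (tt N58411 F407897) (tt N118342 (iv4 F509803)) (tt N58407 (iv5 D198403)) (tt N91411 F407898) (tt N117527 (iv7 F505524)))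
theorem Q95338 : ∀ i, i < 95338 → P i := stepQ 95337 Q95337 (allL N95337 (tt N100699 F430083) (tt N100697 (iv0 F430072)) (tt N111590 (iv2 F477051)) (tt N58412 F407901) (tt N97087 (iv4 F415418)) (tt N117527 (iv5 F505525)) (tt N58523 F407902) (tt N58407 (iv7 D198404)))
theorem Q95339 : ∀ i, i < 95339 → P i := stepQ 95338 Q95338 (allL N95338 (tt N73982 F407908) (tt N58408 (iv0 D198405)) (tt N89232 F407907) (tt N68122 (iv3 F407904)) (tt N117824 (iv4 F507138)) (tt N89231 (iv5 F407905)) (tt N68121 F407903) (tt N91344 (iv7 F407906)))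
theorem Q95340 : ∀ i, i < 95340 → P i := stepQ 95339 Q95339 (allL N95339 (tt N58408 (iv1 D198406)) (tt N73982 F407909) (tt N91344 F407912) (tt N89236 F407913) (tt N117825 (iv4 F507147)) (tt N89233 F407914) (tt N88277 (iv6 F407911)) (tt N89232 F407910))
theorem Q95341 : ∀ i, i < 95341 → P i := stepQ 95340 Q95340 (allL N95340 (tt N62488 F407919) (tt N72318 (iv0 F407920)) (tt N62562 F407915) (tt N91411 F407916) (tt N62483 F407918) (tt N58408 (iv5 D198407)) (tt N58411 F407917) (tt N73639 F407921))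
theorem Q95342 : ∀ i, i < 95342 → P i := stepQ 95341 Q95341 (allL N95341 (tt N91344 (iv1 F407926)) (tt N89232 F407927) (tt N73982 F407922) (tt N91280 F407923) (tt N74288 F407924) (tt N73639 F407925) (tt N96812 (iv6 F414072)) (tt N58408 (iv7 D198408)))
theorem Q95343 : ∀ i, i < 95343 → P i := stepQ 95342 Q95342 (allL N95342 (tt N58470 F407929) (tt N95740 (iv0 F409393)) (tt N96780 F413900) (tt N118418 (iv3 F510244)) (tt N65827 F407928) (tt N96734 (iv5 F413660)) (tt N58409 (iv6 D198409)) (tt N96742 (iv7 F413720)))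
theorem Q95344 : ∀ i, i < 95344 → P i := stepQ 95343 Q95343 (allL N95343 (tt N96853 F414267) (tt N112117 F479573) (tt N106751 (iv2 F455534)) (tt N58410 (iv3 D198410)) (tt N96409 (iv4 F412389)) (tt N99702 (iv5 F425807)) (tt N81604 F407930) (tt N96820 (iv7 F414115)))
theorem Q95345 : ∀ i, i < 95345 → P i := stepQ 95344 Q95344 (allL N95344 (tt N96822 (iv1 F414127)) (tt N58411 (iv0 D198411)) (tt N96821 F414118) (tt N117647 (iv3 F506198)) (tt N107931 (iv4 F460342)) (tt N59869 F407931) (tt N72326 (iv6 F407933)) (tt N77790 (iv7 F407932)))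
theorem Q95346 : ∀ i, i < 95346 → P i := stepQ 95345 Q95345 (allL N95345 (tt N62331 F407936) (tt N59866 F407937) (tt N62563 F407934) (tt N73751 (iv3 F407939)) (tt N58411 (iv4 D198412)) (tt N99047 (iv5 F423137)) (tt N62483 F407935) (tt N73207 F407938))
theorem Q95347 : ∀ i, i < 95347 → P i := stepQ 95346 Q95346 (allL N95346 (tt N77790 (iv1 F407942)) (tt N96821 F414121) (tt N96822 (iv2 F414122)) (tt N117527 F505526) (tt N73207 F407940) (tt N58412 F407941) (tt N100505 (iv6 F429223)) (tt N58411 (iv7 D198413)))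
theorem Q95348 : ∀ i, i < 95348 → P i := stepQ 95347 Q95347 (allL N95347 (tt N58460 (iv1 F407946)) (tt N78529 F407947) (tt N59964 F407943) (tt N111746 (iv3 F477764)) (tt N58415 F407944) (tt N96862 (iv5 F414317)) (tt N58413 (iv6 D198414)) (tt N95301 F407945))
theorem Q95349 : ∀ i, i < 95349 → P i := stepQ 95348 Q95348 (allL N95348 (tt N99148 (iv1 F423469)) (tt N78043 F407950) (tt N77935 F407948) (tt N108457 (iv3 F462665)) (tt N58414 (iv4 D198415)) (tt N99730 (iv5 F425949)) (tt N77823 F407949) (tt N96824 (iv7 F414136)))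
theorem Q95350 : ∀ i, i < 95350 → P i := stepQ 95349 Q95349 (allL N95349 (tt N93226 F407954) (tt N60454 F407955) (tt N86950 F407951) (tt N107740 (iv3 F459491)) (tt N58416 (iv4 D198416)) (tt N67371 F407953) (tt N86949 F407952) (tt N96817 (iv7 F414100)))
theorem Q95351 : ∀ i, i < 95351 → P i := stepQ 95350 Q95350 (allL N95350 (tt N83772 F407959) (tt N83771 (iv0 F407960)) (tt N58420 F407956) (tt N76169 F407957) (tt N80727 F407958) (tt N108519 (iv5 F462918)) (tt N58418 (iv6 D198417)) (tt N83770 (iv7 F407961)))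
theorem Q95352 : ∀ i, i < 95352 → P i := stepQ 95351 Q95351 (allL N95351 (tt N90598 (iv1 F407966)) (tt N58419 (iv0 D198418)) (tt N71054 (iv2 F407965)) (tt N78258 F407964) (tt N59148 F407963) (tt N59765 F407962) (tt N78257 (iv6 F407968)) (tt N59147 F407967))
theorem Q95353 : ∀ i, i < 95353 → P i := stepQ 95352 Q95352 (allL N95352 (tt N99698 F425790) (tt N118857 D222116) (tt N118311 (iv2 F509641)) (tt N58421 F407969) (tt N72974 F407970) (tt N118858 D222117) (tt N58419 (iv6 D198419)) (tt N90595 F407971))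
theorem Q95354 : ∀ i, i < 95354 → P i := stepQ 95353 Q95353 (allL N95353 (tt N87415 F415584) (tt N112238 (iv0 F480179)) (tt N108519 (iv2 F462916)) (tt N58423 F407972) (tt N99667 (iv4 F425659)) (tt N58420 (iv5 D198420)) (tt N118858 (iv6 F512435)) (tt N108524 (iv7 F462938)))
theorem Q95355 : ∀ i, i < 95355 → P i := stepQ 95354 Q95354 (allL N95354 (tt N83771 (iv1 F407975)) (tt N83772 F407976) (tt N83770 F407973) (tt N58424 F407974) (tt N101980 (iv4 F435197)) (tt N108524 (iv5 F462937)) (tt N96819 (iv6 F414110)) (tt N58420 (iv7 D198421)))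
theorem Q95356 : ∀ i, i < 95356 → P i := stepQ 95355 Q95355 (allL N95355 (tt N111879 F478465) (tt N115982 (iv0 F497899)) (tt N96811 (iv2 F414069)) (tt N118858 (iv3 F512434)) (tt N118859 D222118) (tt N58421 (iv5 D198422)) (tt N58423 F407977) (tt N108588 (iv7 F463171)))
theorem Q95357 : ∀ i, i < 95357 → P i := stepQ 95356 Q95356 (allL N95356 (tt N106813 (iv1 F455792)) (tt N106812 F455784) (tt N96814 (iv2 F414083)) (tt N104902 (iv3 F447861)) (tt N118860 D222119) (tt N58422 (iv5 D198424)) (tt N113669 (iv6 F486553)) (tt N60757 F407980))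
theorem Q95358 : ∀ i, i < 95358 → P i := stepQ 95357 Q95357 (allL N95357 (tt N58423 (iv1 D198426)) (tt N58524 F407981) (tt N96816 F414096) (tt N74155 (iv3 F407983)) (tt N118861 D222120) (tt N95295 F407982) (tt N115993 (iv6 F497948)) (tt N96815 F414092))
theorem Q95359 : ∀ i, i < 95359 → P i := stepQ 95358 Q95358 (allL N95358 (tt N111695 (iv1 F477541)) (tt N111694 F477533) (tt N73542 F407984) (tt N117474 (iv3 F505216)) (tt N58423 (iv4 D198427)) (tt N106269 (iv5 F453820)) (tt N118859 (iv6 F512439)) (tt N106268 (iv7 F453816)))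
theorem Q95360 : ∀ i, i < 95360 → P i := stepQ 95359 Q95359 (allL N95359 (tt N96816 (iv1 F414093)) (tt N96815 F414088) (tt N58524 F407985) (tt N108524 F462939) (tt N106268 (iv4 F453815)) (tt N58424 F407986) (tt N108622 (iv6 F463252)) (tt N58423 (iv7 D198428)))
theorem Q95361 : ∀ i, i < 95361 → P i := stepQ 95360 Q95360 (allL N95360 (tt N118862 D222121) (tt N107686 (iv0 F459230)) (tt N94809 F407988) (tt N107738 F459481) (tt N58425 (iv4 D198429)) (tt N118863 D222122) (tt N87023 F407989) (tt N96825 (iv7 F414142)))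
theorem Q95362 : ∀ i, i < 95362 → P i := stepQ 95361 Q95361 (allL N95361 (tt N115787 (iv1 F496873)) (tt N88187 (iv0 F460626)) (tt N115788 (iv2 F496880)) (tt N58426 (iv3 D198430)) (tt N112823 (iv4 F482799)) (tt N107990 (iv5 F460623)) (tt N112822 F482796) (tt N87070 F407990))
theorem Q95363 : ∀ i, i < 95363 → P i := stepQ 95362 Q95362 (allL N95362 (tt N107686 F459231) (tt N118862 F512457) (tt N96825 (iv2 F414139)) (tt N94668 F407992) (tt N58426 (iv4 D198431)) (tt N94765 (iv5 F407993)) (tt N112854 (iv6 F482978)) (tt N94809 F407991))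
theorem Q95364 : ∀ i, i < 95364 → P i := stepQ 95363 Q95363 (allL N95363 (tt N58454 F474550) (tt N115790 F496896) (tt N79642 F407994) (tt N112822 (iv3 F482793)) (tt N112854 (iv4 F482977)) (tt N118864 D222123) (tt N58426 (iv6 D198432)) (tt N115789 (iv7 F496890)))
theorem Q95365 : ∀ i, i < 95365 → P i := stepQ 95364 Q95364 (allL N95364 (tt N95584 (iv1 F408765)) (tt N95533 (iv0 F408605)) (tt N58429 F407995) (tt N96831 (iv3 F414170)) (tt N107736 (iv4 F459469)) (tt N118865 D222124) (tt N58427 (iv6 D198433)) (tt N95582 (iv7 F408751)))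
theorem Q95366 : ∀ i, i < 95366 → P i := stepQ 95365 Q95365 (allL N95365 (tt N100345 F428518) (tt N100124 (iv0 F427575)) (tt N100348 F428531) (tt N58430 F407996) (tt N77769 F407997) (tt N108250 (iv5 F461695)) (tt N58428 (iv6 D198434)) (tt N100349 (iv7 F428533)))
theorem Q95367 : ∀ i, i < 95367 → P i := stepQ 95366 Q95366 (allL N95366 (tt N95582 (iv1 F408750)) (tt N58429 (iv0 D198435)) (tt N95584 (iv2 F408760)) (tt N79504 F430057) (tt N112495 (iv4 F481352)) (tt N95534 F408742) (tt N118866 D222125) (tt N95533 (iv7 F408743)))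
theorem Q95368 : ∀ i, i < 95368 → P i := stepQ 95367 Q95367 (allL N95367 (tt N118867 D222126) (tt N90980 (iv0 F414303)) (tt N118865 (iv2 F512474)) (tt N58431 F407998) (tt N118476 (iv4 F510579)) (tt N58429 (iv5 D198437)) (tt N108250 (iv6 F461697)) (tt N95402 F408610))
theorem Q95369 : ∀ i, i < 95369 → P i := stepQ 95368 Q95368 (allL N95368 (tt N95533 (iv1 F408606)) (tt N95584 F408764) (tt N95582 F408752) (tt N58432 F407999) (tt N79584 F408000) (tt N95402 (iv5 F408607)) (tt N58517 F408001) (tt N58429 (iv7 D198438)))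
theorem Q95370 : ∀ i, i < 95370 → P i := stepQ 95369 Q95369 (allL N95369 (tt N95574 (iv1 F408711)) (tt N58430 (iv0 D198439)) (tt N88632 (iv2 F408003)) (tt N91629 F408004) (tt N74285 (iv4 F408008)) (tt N100345 (iv5 F428516)) (tt N89372 F408002) (tt N91624 F408005))
theorem Q95371 : ∀ i, i < 95371 → P i := stepQ 95370 Q95370 (allL N95370 (tt N62480 F408014) (tt N72313 (iv0 F408013)) (tt N73634 F408009) (tt N108250 (iv3 F461696)) (tt N73336 F408011) (tt N58430 (iv5 D198440)) (tt N58431 F408010) (tt N73633 (iv7 F408012)))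
theorem Q95372 : ∀ i, i < 95372 → P i := stepQ 95371 Q95371 (allL N95371 (tt N91624 (iv1 F408016)) (tt N88632 F408017) (tt N95574 (iv2 F408708)) (tt N100349 F428537) (tt N107353 (iv4 F458063)) (tt N73633 F408015) (tt N95572 (iv6 F408702)) (tt N58430 (iv7 D198441)))
theorem Q95373 : ∀ i, i < 95373 → P i := stepQ 95372 Q95372 (allL N95372 (tt N59865 (iv1 F408023)) (tt N58431 (iv0 D198442)) (tt N59867 (iv2 F408019)) (tt N111528 (iv3 F476752)) (tt N62331 F408020) (tt N59838 F408018) (tt N72330 F408021) (tt N59837 F408022))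
theorem Q95374 : ∀ i, i < 95374 → P i := stepQ 95373 Q95373 (allL N95373 (tt N109627 (iv1 F467818)) (tt N73601 F408025) (tt N96836 (iv2 F414187)) (tt N73188 F408026) (tt N58431 (iv4 D198443)) (tt N107924 (iv5 F460312)) (tt N73336 F408024) (tt N109001 (iv7 F464844)))
theorem Q95375 : ∀ i, i < 95375 → P i := stepQ 95374 Q95374 (allL N95374 (tt N59837 (iv1 F408029)) (tt N59867 F408030) (tt N59865 F408027) (tt N95402 F408608) (tt N109001 (iv4 F464845)) (tt N58432 F408028) (tt N95399 (iv6 F408613)) (tt N58431 (iv7 D198444)))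
theorem Q95376 : ∀ i, i < 95376 → P i := stepQ 95375 Q95375 (allL N95375 (tt N96796 F413991) (tt N97500 (iv0 F417126)) (tt N102883 (iv2 F439086)) (tt N58433 (iv3 D198445)) (tt N60047 F408032) (tt N108474 (iv5 F462747)) (tt N111818 (iv6 F478141)) (tt N91814 F408031))
theorem Q95377 : ∀ i, i < 95377 → P i := stepQ 95376 Q95376 (allL N95376 (tt N96839 (iv1 F414204)) (tt N58448 F408035) (tt N92535 F408033) (tt N108474 F462749) (tt N62504 F408034) (tt N58433 (iv5 D198446)) (tt N118868 D222127) (tt N96830 (iv7 F414164)))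
theorem Q95378 : ∀ i, i < 95378 → P i := stepQ 95377 Q95377 (allL N95377 (tt N65630 (iv1 F408040)) (tt N58440 (iv0 F408038)) (tt N86982 F408036) (tt N58434 (iv3 D198447)) (tt N117444 (iv4 F505060)) (tt N59125 F408039) (tt N86969 (iv6 F408041)) (tt N92536 F408037))
theorem Q95379 : ∀ i, i < 95379 → P i := stepQ 95378 Q95378 (allL N95378 (tt N58448 F408045) (tt N96839 F414205) (tt N96830 (iv2 F414162)) (tt N59125 F408042) (tt N61984 F408043) (tt N58434 (iv5 D198448)) (tt N91414 (iv6 F408046)) (tt N92535 F408044))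
theorem Q95380 : ∀ i, i < 95380 → P i := stepQ 95379 Q95379 (allL N95379 (tt N91939 (iv1 F408052)) (tt N91454 (iv0 F408051)) (tt N91813 F408047) (tt N86969 F408048) (tt N80371 F408049) (tt N112394 (iv5 F480904)) (tt N58434 (iv6 D198449)) (tt N86983 F408050))
theorem Q95381 : ∀ i, i < 95381 → P i := stepQ 95380 Q95380 (allL N95380 (tt N68678 (iv1 F408056)) (tt N95556 (iv0 F408641)) (tt N58436 F408053) (tt N95566 (iv3 F408682)) (tt N62101 F408054) (tt N58435 (iv5 D198450)) (tt N99659 F425627) (tt N62108 F408055))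
theorem Q95382 : ∀ i, i < 95382 → P i := stepQ 95381 Q95381 (allL N95381 (tt N96754 F413784) (tt N85727 (iv0 F408064)) (tt N58437 F408062) (tt N96826 (iv3 F414144)) (tt N75389 F408063) (tt N118869 D222128) (tt N58435 (iv6 D198451)) (tt N82027 (iv7 F408065)))
theorem Q95383 : ∀ i, i < 95383 → P i := stepQ 95382 Q95382 (allL N95382 (tt N62108 (iv1 F408068)) (tt N58436 (iv0 D198452)) (tt N68678 (iv2 F408069)) (tt N92098 F408067) (tt N99017 (iv4 F423049)) (tt N59903 F408066) (tt N68683 (iv6 F408070)) (tt N95556 (iv7 F408640)))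
theorem Q95384 : ∀ i, i < 95384 → P i := stepQ 95383 Q95383 (allL N95383 (tt N58436 (iv1 D198453)) (tt N62108 F408071) (tt N95556 (iv2 F408637)) (tt N68680 (iv3 F408075)) (tt N73348 F408074) (tt N59904 F408073) (tt N71599 F408076) (tt N68678 F408072))
theorem Q95385 : ∀ i, i < 95385 → P i := stepQ 95384 Q95384 (allL N95384 (tt N99655 F425614) (tt N99661 F425635) (tt N99659 (iv2 F425628)) (tt N58438 F408078) (tt N62106 F408079) (tt N118870 D222129) (tt N58436 (iv6 D198454)) (tt N99658 F425626))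
theorem Q95386 : ∀ i, i < 95386 → P i := stepQ 95385 Q95385 (allL N95385 (tt N115511 F495567) (tt N108570 (iv0 F463092)) (tt N118869 (iv2 F512495)) (tt N58439 F408080) (tt N117657 (iv4 F506250)) (tt N58437 (iv5 D198455)) (tt N118870 (iv6 F512501)) (tt N112254 (iv7 F480235)))
theorem Q95387 : ∀ i, i < 95387 → P i := stepQ 95386 Q95386 (allL N95386 (tt N95572 (iv1 F408705)) (tt N58438 (iv0 D198456)) (tt N95569 (iv2 F455319)) (tt N71584 (iv3 F455320)) (tt N117801 (iv4 F507039)) (tt N111410 (iv5 F476232)) (tt N71581 F455318) (tt N95570 (iv7 F455322)))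
theorem Q95388 : ∀ i, i < 95388 → P i := stepQ 95387 Q95387 (allL N95387 (tt N58438 (iv1 D198457)) (tt N95572 F408704) (tt N95570 F455323) (tt N117664 (iv3 F506289)) (tt N117802 F507046) (tt N117663 (iv5 F506286)) (tt N117183 (iv6 F503803)) (tt N95569 F455321))
theorem Q95389 : ∀ i, i < 95389 → P i := stepQ 95388 Q95388 (allL N95388 (tt N118871 D222130) (tt N115522 (iv0 F495621)) (tt N95571 (iv2 F408699)) (tt N118870 (iv3 F512500)) (tt N118181 F509038) (tt N58438 (iv5 D198458)) (tt N58439 F408081) (tt N118872 D222131))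
theorem Q95390 : ∀ i, i < 95390 → P i := stepQ 95389 Q95389 (allL N95389 (tt N95570 (iv1 F408698)) (tt N95569 F408703) (tt N95572 (iv2 F408701)) (tt N99658 F425624) (tt N117876 (iv4 F507385)) (tt N118872 (iv5 F512507)) (tt N95574 (iv6 F408709)) (tt N58438 (iv7 D198459)))
theorem Q95391 : ∀ i, i < 95391 → P i := stepQ 95390 Q95390 (allL N95390 (tt N58518 (iv1 F408084)) (tt N58439 (iv0 D198460)) (tt N87247 (iv2 F408083)) (tt N81150 F408085) (tt N111695 (iv4 F477537)) (tt N78163 F408082) (tt N88070 F408086) (tt N95739 (iv7 F409384)))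
theorem Q95392 : ∀ i, i < 95392 → P i := stepQ 95391 Q95391 (allL N95391 (tt N118873 D222132) (tt N118874 D222133) (tt N96829 (iv2 F414160)) (tt N118183 F509036) (tt N58439 (iv4 D198461)) (tt N106311 (iv5 F453979)) (tt N118181 (iv6 F509037)) (tt N106310 (iv7 F453976)))
theorem Q95393 : ∀ i, i < 95393 → P i := stepQ 95392 Q95392 (allL N95392 (tt N58440 (iv1 D198462)) (tt N65630 (iv0 F408090)) (tt N92536 (iv2 F408089)) (tt N102883 (iv3 F439087)) (tt N102024 (iv4 F435403)) (tt N59128 F408088) (tt N79627 F408091) (tt N86982 F408087))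
theorem Q95394 : ∀ i, i < 95394 → P i := stepQ 95393 Q95393 (allL N95393 (tt N86982 (iv1 F408098)) (tt N92536 F408097) (tt N58440 (iv2 D198463)) (tt N87024 F408092) (tt N65498 F408093) (tt N68676 F408094) (tt N95032 F408095) (tt N65630 F408096))
theorem Q95395 : ∀ i, i < 95395 → P i := stepQ 95394 Q95394 (allL N95394 (tt N69447 F408101) (tt N103980 F443636) (tt N103959 (iv2 F443524)) (tt N58443 F408099) (tt N62135 F408100) (tt N58442 (iv5 D198464)) (tt N108522 (iv6 F462930)) (tt N95562 (iv7 F408664)))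
theorem Q95396 : ∀ i, i < 95396 → P i := stepQ 95395 Q95395 (allL N95395 (tt N90532 (iv1 F408107)) (tt N58445 (iv0 D198465)) (tt N90533 (iv2 F408103)) (tt N97618 (iv3 F417619)) (tt N89201 F408102) (tt N84574 F408104) (tt N90547 F408105) (tt N88046 F408106))
theorem Q95397 : ∀ i, i < 95397 → P i := stepQ 95396 Q95396 (allL N95396 (tt N88046 (iv1 F408111)) (tt N90533 F408112) (tt N90532 F408108) (tt N58453 F408109) (tt N116201 (iv4 F498979)) (tt N111503 (iv5 F476631)) (tt N83224 F408110) (tt N58445 (iv7 D198466)))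
theorem Q95398 : ∀ i, i < 95398 → P i := stepQ 95397 Q95397 (allL N95397 (tt N115809 F497008) (tt N106696 (iv0 F455316)) (tt N67159 F408113) (tt N74328 F408114) (tt N67156 F408116) (tt N58447 (iv5 D198467)) (tt N58570 F408115) (tt N97189 (iv7 F415819)))
theorem Q95399 : ∀ i, i < 95399 → P i := stepQ 95398 Q95398 (allL N95398 (tt N102874 (iv1 F439041)) (tt N71828 (iv0 F408121)) (tt N75926 F408117) (tt N58449 F408118) (tt N99202 (iv4 F423681)) (tt N75858 F408119) (tt N58448 (iv6 D198468)) (tt N75921 (iv7 F408120)))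
theorem Q95400 : ∀ i, i < 95400 → P i := stepQ 95399 Q95399 (allL N95399 (tt N63775 F408614) (tt N108265 (iv0 F461778)) (tt N96888 (iv2 F414453)) (tt N58450 (iv3 D198470)) (tt N81689 (iv4 F408615)) (tt N95487 (iv5 F408612)) (tt N95374 F408613) (tt N108249 (iv7 F461683)))
theorem Q95401 : ∀ i, i < 95401 → P i := stepQ 95400 Q95400 (allL N95400 (tt N92401 F462117) (tt N92295 (iv0 F410928)) (tt N92398 F472285) (tt N106122 F453226) (tt N58450 (iv4 D198471)) (tt N106120 (iv5 F453227)) (tt N117793 (iv6 F507001)) (tt N92399 (iv7 F472284)))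
theorem Q95402 : ∀ i, i < 95402 → P i := stepQ 95401 Q95401 (allL N95401 (tt N118875 D222134) (tt N118876 D222135) (tt N118835 (iv2 F512326)) (tt N95487 F408611) (tt N118877 D222136) (tt N58450 (iv5 D198472)) (tt N95485 (iv6 F408609)) (tt N118836 (iv7 F512334)))
theorem Q95403 : ∀ i, i < 95403 → P i := stepQ 95402 Q95402 (allL N95402 (tt N117322 F504459) (tt N117324 F504466) (tt N117323 (iv2 F504462)) (tt N95374 (iv3 F408608)) (tt N117793 (iv4 F507002)) (tt N95368 F408607) (tt N58450 (iv6 D198473)) (tt N95367 (iv7 F408610)))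
theorem Q95404 : ∀ i, i < 95404 → P i := stepQ 95403 Q95403 (allL N95403 (tt N118868 F512494) (tt N118274 (iv0 F509467)) (tt N118878 D222137) (tt N58451 (iv3 D198475)) (tt N110830 (iv4 F473341)) (tt N118879 D222138) (tt N99640 F461692) (tt N118834 (iv7 F512321)))
theorem Q95405 : ∀ i, i < 95405 → P i := stepQ 95404 Q95404 (allL N95404 (tt N92295 F445467) (tt N92401 F445470) (tt N92399 (iv2 F472283)) (tt N117788 (iv3 F506974)) (tt N58451 (iv4 D198476)) (tt N117787 (iv5 F506973)) (tt N116608 (iv6 F500949)) (tt N92398 F472286))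
theorem Q95406 : ∀ i, i < 95406 → P i := stepQ 95405 Q95405 (allL N95405 (tt N118876 (iv1 F512529)) (tt N118875 F512525) (tt N118836 (iv2 F512331)) (tt N118879 (iv3 F512544)) (tt N115891 (iv4 F497441)) (tt N58451 (iv5 D198477)) (tt N115890 (iv6 F497439)) (tt N118835 (iv7 F512329)))
theorem Q95407 : ∀ i, i < 95407 → P i := stepQ 95406 Q95406 (allL N95406 (tt N73635 F461693) (tt N101823 (iv0 F461694)) (tt N108248 F461690) (tt N99640 (iv3 F461691)) (tt N116608 F500950) (tt N118880 D222139) (tt N58451 (iv6 D198478)) (tt N118881 D222140))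
theorem Q95408 : ∀ i, i < 95408 → P i := stepQ 95407 Q95407 (allL N95407 (tt N87314 (iv1 F408135)) (tt N58452 (iv0 D198479)) (tt N118837 F512340) (tt N108752 (iv3 F463814)) (tt N118882 D222141) (tt N108751 F463813) (tt N115877 F497364) (tt N118838 (iv7 F512343)))
theorem Q95409 : ∀ i, i < 95409 → P i := stepQ 95408 Q95408 (allL N95408 (tt N58452 (iv1 D198480)) (tt N87314 F408129) (tt N118838 (iv2 F512345)) (tt N108554 (iv3 F463057)) (tt N118842 (iv4 F512369)) (tt N108553 F463056) (tt N118841 F512366) (tt N118837 F512341))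
theorem Q95410 : ∀ i, i < 95410 → P i := stepQ 95409 Q95409 (allL N95409 (tt N118883 D222142) (tt N95661 (iv0 F451276)) (tt N118839 (iv2 F512348)) (tt N88154 F408130) (tt N58452 (iv4 D198481)) (tt N115997 (iv5 F497966)) (tt N58463 F408131) (tt N118884 D222143))
theorem Q95411 : ∀ i, i < 95411 → P i := stepQ 95410 Q95410 (allL N95410 (tt N118838 (iv1 F512342)) (tt N118837 F512339) (tt N87314 F408132) (tt N111503 (iv3 F476629)) (tt N118884 (iv4 F512576)) (tt N58453 F408133) (tt N87310 F408134) (tt N58452 (iv7 D198482)))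
theorem Q95412 : ∀ i, i < 95412 → P i := stepQ 95411 Q95411 (allL N95411 (tt N115789 F496892) (tt N79642 F408137) (tt N58454 (iv2 D198484)) (tt N105343 F449791) (tt N79804 F408136) (tt N118885 D222144) (tt N96763 (iv6 F413832)) (tt N115790 (iv7 F496897)))
theorem Q95413 : ∀ i, i < 95413 → P i := stepQ 95412 Q95412 (allL N95412 (tt N111893 F478539) (tt N118731 (iv0 F511791)) (tt N118885 (iv2 F512581)) (tt N58456 F408138) (tt N101896 (iv4 F434875)) (tt N58454 (iv5 D198485)) (tt N101900 (iv6 F434873)) (tt N95651 (iv7 F409009)))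
theorem Q95414 : ∀ i, i < 95414 → P i := stepQ 95413 Q95413 (allL N95413 (tt N110599 (iv1 F472320)) (tt N115905 (iv0 F497518)) (tt N95655 (iv2 F409016)) (tt N101900 F434874) (tt N58456 (iv4 D198486)) (tt N96766 (iv5 F413836)) (tt N58456 F409020) (tt N95652 (iv7 F409011)))
theorem Q95415 : ∀ i, i < 95415 → P i := stepQ 95414 Q95414 (allL N95414 (tt N85736 (iv1 F408140)) (tt N85735 F408139) (tt N58457 (iv2 D198490)) (tt N115790 (iv3 F496894)) (tt N104124 (iv4 F444303)) (tt N118886 D222145) (tt N111756 F477812) (tt N105343 (iv7 F449789)))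
theorem Q95416 : ∀ i, i < 95416 → P i := stepQ 95415 Q95415 (allL N95415 (tt N72101 F408143) (tt N72110 (iv0 F408145)) (tt N104124 (iv2 F444299)) (tt N59975 F408141) (tt N58457 (iv4 D198491)) (tt N104122 F444294) (tt N76564 F408147) (tt N60010 F408142))
theorem Q95417 : ∀ i, i < 95417 → P i := stepQ 95416 Q95416 (allL N95416 (tt N118887 D222146) (tt N118888 D222147) (tt N118886 (iv2 F512585)) (tt N58459 F408148) (tt N118889 D222148) (tt N58457 (iv5 D198492)) (tt N118890 D222149) (tt N95654 (iv7 F409015)))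
theorem Q95418 : ∀ i, i < 95418 → P i := stepQ 95417 Q95417 (allL N95417 (tt N101810 (iv1 F434451)) (tt N101811 (iv0 F434454)) (tt N111756 F477809) (tt N58460 F408149) (tt N76564 F408150) (tt N107235 (iv5 F457580)) (tt N58457 (iv6 D198493)) (tt N96767 (iv7 F413840)))
theorem Q95419 : ∀ i, i < 95419 → P i := stepQ 95418 Q95418 (allL N95418 (tt N66025 F408156) (tt N96960 (iv0 F414796)) (tt N92332 F408151) (tt N59976 F408152) (tt N58460 F408153) (tt N92117 F408154) (tt N58458 (iv6 D198494)) (tt N92117 F408155))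
theorem Q95420 : ∀ i, i < 95420 → P i := stepQ 95419 Q95419 (allL N95419 (tt N115905 (iv1 F497519)) (tt N110599 (iv0 F472319)) (tt N95652 (iv2 F409010)) (tt N118891 D222150) (tt N58459 (iv4 D198495)) (tt N105688 (iv5 F451259)) (tt N118892 D222151) (tt N95655 (iv7 F409017)))
theorem Q95421 : ∀ i, i < 95421 → P i := stepQ 95420 Q95420 (allL N95420 (tt N115811 F497034) (tt N115808 F497035) (tt N95653 (iv2 F409013)) (tt N118890 (iv3 F512600)) (tt N118892 (iv4 F512607)) (tt N115813 (iv5 F497033)) (tt N58459 (iv6 D198496)) (tt N118892 (iv7 F512608)))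
theorem Q95422 : ∀ i, i < 95422 → P i := stepQ 95421 Q95421 (allL N95421 (tt N59962 F408157) (tt N95300 (iv0 F408158)) (tt N95735 F409370) (tt N107235 (iv3 F457581)) (tt N118893 D222152) (tt N58460 (iv5 D198497)) (tt N115813 (iv6 F497029)) (tt N95736 (iv7 F409372)))
theorem Q95423 : ∀ i, i < 95423 → P i := stepQ 95422 Q95422 (allL N95422 (tt N87229 F409001) (tt N118864 (iv0 F512472)) (tt N118894 D222153) (tt N58461 (iv3 D198498)) (tt N111702 (iv4 F477576)) (tt N58653 F408159) (tt N118895 D222154) (tt N95491 F408777))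
theorem Q95424 : ∀ i, i < 95424 → P i := stepQ 95423 Q95423 (allL N95423 (tt N118896 D222155) (tt N118897 D222156) (tt N118841 (iv2 F512360)) (tt N101585 F474789) (tt N58461 (iv4 D198499)) (tt N104834 (iv5 F447523)) (tt N118838 (iv6 F512346)) (tt N118843 (iv7 F512377)))
theorem Q95425 : ∀ i, i < 95425 → P i := stepQ 95424 Q95424 (allL N95424 (tt N118898 D222157) (tt N118899 D222158) (tt N118842 (iv2 F512367)) (tt N118895 (iv3 F512620)) (tt N118838 F512347) (tt N112259 (iv5 F480254)) (tt N58461 (iv6 D198500)) (tt N118882 (iv7 F512563)))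
theorem Q95426 : ∀ i, i < 95426 → P i := stepQ 95425 Q95425 (allL N95425 (tt N111819 (iv1 F478144)) (tt N105344 (iv0 F449794)) (tt N118900 D222159) (tt N58462 (iv3 D198501)) (tt N118901 D222160) (tt N58655 F408160) (tt N118902 D222161) (tt N118840 (iv7 F512355)))
theorem Q95427 : ∀ i, i < 95427 → P i := stepQ 95426 Q95426 (allL N95426 (tt N118897 (iv1 F512631)) (tt N118896 F512627) (tt N118843 (iv2 F512373)) (tt N118903 D222162) (tt N58462 (iv4 D198502)) (tt N100525 (iv5 F429323)) (tt N115876 F497355) (tt N118841 (iv7 F512362)))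
theorem Q95428 : ∀ i, i < 95428 → P i := stepQ 95427 Q95427 (allL N95427 (tt N111508 F495295) (tt N115878 (iv0 F497370)) (tt N95488 (iv2 F408779)) (tt N118902 (iv3 F512659)) (tt N115876 (iv4 F497352)) (tt N118904 D222163) (tt N58462 (iv6 D198503)) (tt N118905 D222164))
theorem Q95429 : ∀ i, i < 95429 → P i := stepQ 95428 Q95428 (allL N95428 (tt N105692 (iv1 F451283)) (tt N58463 (iv0 D198504)) (tt N114220 (iv2 F489052)) (tt N108595 F506265) (tt N58661 F408161) (tt N98285 F420334) (tt N114218 (iv6 F489049)) (tt N114147 (iv7 F488745)))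
theorem Q95430 : ∀ i, i < 95430 → P i := stepQ 95429 Q95429 (allL N95429 (tt N58463 (iv1 D198505)) (tt N105692 (iv0 F451282)) (tt N114147 (iv2 F488744)) (tt N109323 (iv3 F466385)) (tt N58664 F408162) (tt N97965 (iv5 F418993)) (tt N109322 (iv6 F466381)) (tt N114220 (iv7 F489056)))
theorem Q95431 : ∀ i, i < 95431 → P i := stepQ 95430 Q95430 (allL N95430 (tt N97218 F448305) (tt N110961 F473978) (tt N110959 (iv2 F473973)) (tt N58463 (iv3 D198506)) (tt N79308 F408163) (tt N104998 F448304) (tt N88154 F408164) (tt N110958 F473970))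
theorem Q95432 : ∀ i, i < 95432 → P i := stepQ 95431 Q95431 (allL N95431 (tt N105690 (iv1 F451269)) (tt N105689 F451268) (tt N105693 (iv2 F451284)) (tt N104998 (iv3 F448302)) (tt N83794 F408165) (tt N58463 (iv5 D198507)) (tt N83793 (iv6 F408167)) (tt N73674 F408166))
theorem Q95433 : ∀ i, i < 95433 → P i := stepQ 95432 Q95432 (allL N95432 (tt N114147 (iv1 F488748)) (tt N114220 F489057) (tt N105692 (iv2 F451278)) (tt N110958 F473969) (tt N58464 F408168) (tt N73674 F408169) (tt N99700 (iv6 F425798)) (tt N58463 (iv7 D198508)))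
theorem Q95434 : ∀ i, i < 95434 → P i := stepQ 95433 Q95433 (allL N95433 (tt N58467 (iv1 D198509)) (tt N58469 F408170) (tt N95660 (iv2 F409032)) (tt N115032 (iv3 F493123)) (tt N88002 F408174) (tt N77797 F408172) (tt N87377 (iv6 F408173)) (tt N77796 F408171))
theorem Q95435 : ∀ i, i < 95435 → P i := stepQ 95434 Q95434 (allL N95434 (tt N95621 (iv1 F408927)) (tt N87374 F408175) (tt N91915 (iv2 F408185)) (tt N108593 (iv3 F463182)) (tt N58467 (iv4 D198510)) (tt N105690 (iv5 F451272)) (tt N95313 F408186) (tt N95656 F409023))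
theorem Q95436 : ∀ i, i < 95436 → P i := stepQ 95435 Q95435 (allL N95435 (tt N111457 (iv1 F476443)) (tt N80251 (iv0 F408177)) (tt N111459 F476450) (tt N58469 F408176) (tt N115967 (iv4 F497813)) (tt N58468 (iv5 D198511)) (tt N115719 (iv6 F496496)) (tt N111458 F476448))
theorem Q95437 : ∀ i, i < 95437 → P i := stepQ 95436 Q95436 (allL N95436 (tt N106805 F455756) (tt N97626 (iv0 F417664)) (tt N103396 (iv2 F441427)) (tt N58470 F408179) (tt N103261 (iv4 F440854)) (tt N114250 (iv5 F489216)) (tt N58468 (iv6 D198512)) (tt N83777 F408180))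
theorem Q95438 : ∀ i, i < 95438 → P i := stepQ 95437 Q95437 (allL N95437 (tt N87374 F408181) (tt N95621 (iv0 F408926)) (tt N95656 F409022) (tt N87391 F408182) (tt N58469 (iv4 D198513)) (tt N105689 (iv5 F451262)) (tt N87885 F414788) (tt N91915 (iv7 F408183)))
theorem Q95439 : ∀ i, i < 95439 → P i := stepQ 95438 Q95438 (allL N95438 (tt N115819 (iv1 F497062)) (tt N115818 F497057) (tt N114812 (iv2 F492001)) (tt N115719 (iv3 F496494)) (tt N87885 (iv4 F414787)) (tt N87115 F414783) (tt N58469 (iv6 D198514)) (tt N87114 (iv7 F414786)))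
theorem Q95440 : ∀ i, i < 95440 → P i := stepQ 95439 Q95439 (allL N95439 (tt N95296 F408188) (tt N95294 F408187) (tt N114235 F489144) (tt N114250 (iv3 F489215)) (tt N87116 F414781) (tt N58470 (iv5 D198515)) (tt N87115 (iv6 F414782)) (tt N96781 (iv7 F413904)))
theorem Q95441 : ∀ i, i < 95441 → P i := stepQ 95440 Q95440 (allL N95440 (tt N112492 F481335) (tt N102020 F435383) (tt N106819 (iv2 F455819)) (tt N58475 (iv3 D198516)) (tt N58700 F408189) (tt N65774 F408190) (tt N82550 F408191) (tt N82573 F408192))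
theorem Q95442 : ∀ i, i < 95442 → P i := stepQ 95441 Q95441 (allL N95441 (tt N102157 F435964) (tt N102290 (iv0 F436580)) (tt N102186 (iv2 F436085)) (tt N102027 (iv3 F435422)) (tt N58476 (iv4 D198517)) (tt N108963 (iv5 F464693)) (tt N118906 D222165) (tt N95811 (iv7 F409765)))
theorem Q95443 : ∀ i, i < 95443 → P i := stepQ 95442 Q95442 (allL N95442 (tt N118907 D222166) (tt N118908 D222167) (tt N102187 (iv2 F436090)) (tt N60019 F408194) (tt N118906 (iv4 F512681)) (tt N101708 (iv5 F433982)) (tt N58476 (iv6 D198518)) (tt N118909 D222168))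
theorem Q95444 : ∀ i, i < 95444 → P i := stepQ 95443 Q95443 (allL N95443 (tt N68488 F408199) (tt N68515 F408200) (tt N68513 F408201) (tt N58477 (iv3 D198519)) (tt N69413 F408195) (tt N74761 F408196) (tt N80314 F408197) (tt N68512 F408198))
theorem Q95445 : ∀ i, i < 95445 → P i := stepQ 95444 Q95444 (allL N95444 (tt N58479 (iv1 D198520)) (tt N96850 F414250) (tt N96806 (iv2 F414041)) (tt N87077 (iv3 F408204)) (tt N58859 F408203) (tt N107521 (iv5 F458648)) (tt N85718 F408205) (tt N91513 F408202))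
theorem Q95446 : ∀ i, i < 95446 → P i := stepQ 95445 Q95445 (allL N95445 (tt N58482 (iv1 F408209)) (tt N58480 (iv0 D198521)) (tt N81616 (iv2 F408208)) (tt N99703 (iv3 F425812)) (tt N89222 F408207) (tt N58677 F408206) (tt N99702 F425810) (tt N58704 F408210))
theorem Q95447 : ∀ i, i < 95447 → P i := stepQ 95446 Q95446 (allL N95446 (tt N91011 F408214) (tt N59912 F408215) (tt N73902 F408211) (tt N64557 (iv3 F408216)) (tt N58480 (iv4 D198522)) (tt N64556 F408213) (tt N65024 F408212) (tt N95563 (iv7 F408670)))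
theorem Q95448 : ∀ i, i < 95448 → P i := stepQ 95447 Q95447 (allL N95447 (tt N68070 F408225) (tt N59578 (iv0 F408224)) (tt N99230 (iv2 F423769)) (tt N58482 F408217) (tt N118910 D222169) (tt N58481 (iv5 D198523)) (tt N99688 F425752) (tt N90591 F408218))
theorem Q95449 : ∀ i, i < 95449 → P i := stepQ 95448 Q95448 (allL N95448 (tt N59912 F408221) (tt N91011 F408222) (tt N95563 F408668) (tt N63026 F408223) (tt N58482 (iv4 D198524)) (tt N63025 F408219) (tt N86334 (iv6 F408226)) (tt N73902 F408220))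
theorem Q95450 : ∀ i, i < 95450 → P i := stepQ 95449 Q95449 (allL N95449 (tt N90580 (iv1 F408230)) (tt N90578 F408231) (tt N90590 F408227) (tt N99688 (iv3 F425753)) (tt N86334 F408228) (tt N112091 (iv5 F479454)) (tt N58482 (iv6 D198525)) (tt N89226 F408229))
theorem Q95451 : ∀ i, i < 95451 → P i := stepQ 95450 Q95450 (allL N95450 (tt N111998 F479016) (tt N118911 D222170) (tt N115439 (iv2 F495206)) (tt N58483 (iv3 D198526)) (tt N111443 F476391) (tt N94517 F408233) (tt N91929 F408234) (tt N95926 (iv7 F410298)))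
theorem Q95452 : ∀ i, i < 95452 → P i := stepQ 95451 Q95451 (allL N95451 (tt N65754 (iv1 F408239)) (tt N65738 F408238) (tt N65758 F408235) (tt N65763 (iv3 F408242)) (tt N58485 (iv4 D198527)) (tt N102387 (iv5 F437010)) (tt N86957 F408236) (tt N65755 F408237))
theorem Q95453 : ∀ i, i < 95453 → P i := stepQ 95452 Q95452 (allL N95452 (tt N106816 F455811) (tt N98131 (iv0 F419601)) (tt N109018 (iv2 F464950)) (tt N58490 F408243) (tt N97276 (iv4 F416172)) (tt N111800 (iv5 F478032)) (tt N58488 (iv6 D198528)) (tt N111774 (iv7 F477908)))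
theorem Q95454 : ∀ i, i < 95454 → P i := stepQ 95453 Q95453 (allL N95453 (tt N58489 (iv1 D198529)) (tt N96789 F413956) (tt N96792 F413977) (tt N96900 F414518) (tt N102302 (iv4 F436617)) (tt N104050 F443934) (tt N101722 (iv6 F434035)) (tt N96793 F413975))
theorem Q95455 : ∀ i, i < 95455 → P i := stepQ 95454 Q95454 (allL N95454 (tt N68082 F416145) (tt N104195 F444639) (tt N104001 (iv2 F443726)) (tt N58491 F408244) (tt N69480 F413983) (tt N58489 (iv5 D198530)) (tt N111800 (iv6 F478034)) (tt N96794 (iv7 F413980)))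
theorem Q95456 : ∀ i, i < 95456 → P i := stepQ 95455 Q95455 (allL N95455 (tt N111724 (iv1 F477678)) (tt N97270 (iv0 F416143)) (tt N96735 (iv2 F413667)) (tt N114819 F492048) (tt N58491 (iv4 D198531)) (tt N95299 F408245) (tt N116039 (iv6 F498186)) (tt N96795 (iv7 F413985)))
theorem Q95457 : ∀ i, i < 95457 → P i := stepQ 95456 Q95456 (allL N95456 (tt N112263 (iv1 F480265)) (tt N110849 (iv0 F473438)) (tt N58521 F408246) (tt N87237 F408247) (tt N58492 (iv4 D198532)) (tt N106266 F453806) (tt N115519 (iv6 F495610)) (tt N112255 (iv7 F480239)))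
theorem Q95458 : ∀ i, i < 95458 → P i := stepQ 95457 Q95457 (allL N95457 (tt N97496 (iv1 F417106)) (tt N88183 (iv0 F408248)) (tt N96750 (iv2 F413762)) (tt N109238 (iv3 F465929)) (tt N58493 (iv4 D198533)) (tt N118912 D222171) (tt N117408 (iv6 F504889)) (tt N96748 (iv7 F413757)))
theorem Q95459 : ∀ i, i < 95459 → P i := stepQ 95458 Q95458 (allL N95458 (tt N96763 (iv1 F413833)) (tt N78528 (iv0 F408251)) (tt N96751 (iv2 F413766)) (tt N78363 F408249) (tt N117408 (iv4 F504884)) (tt N87654 (iv5 F408250)) (tt N58493 (iv6 D198534)) (tt N96762 F413829))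
theorem Q95460 : ∀ i, i < 95460 → P i := stepQ 95459 Q95459 (allL N95459 (tt N87059 (iv1 F408256)) (tt N87067 (iv0 F408257)) (tt N87002 F408252) (tt N58494 (iv3 D198535)) (tt N94950 F408254) (tt N88038 F408258) (tt N91514 (iv6 F408261)) (tt N87065 F408253))
theorem Q95461 : ∀ i, i < 95461 → P i := stepQ 95460 Q95460 (allL N95460 (tt N88183 F408262) (tt N97496 (iv0 F417105)) (tt N96748 (iv2 F413756)) (tt N59398 (iv3 F408263)) (tt N58494 (iv4 D198536)) (tt N109197 (iv5 F465756)) (tt N117667 (iv6 F506311)) (tt N96750 (iv7 F413763)))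
theorem Q95462 : ∀ i, i < 95462 → P i := stepQ 95461 Q95461 (allL N95461 (tt N58508 (iv1 F408269)) (tt N78361 (iv0 F408270)) (tt N66653 F408264) (tt N88038 F408265) (tt N74835 F408267) (tt N58494 (iv5 D198537)) (tt N87962 (iv6 F408268)) (tt N78362 F408266))
theorem Q95463 : ∀ i, i < 95463 → P i := stepQ 95462 Q95462 (allL N95462 (tt N58517 F414148) (tt N96826 (iv0 F414147)) (tt N96749 (iv2 F413758)) (tt N91514 F408273) (tt N117667 F506309) (tt N115627 F496040) (tt N58494 (iv6 D198538)) (tt N96827 (iv7 F414153)))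
theorem Q95464 : ∀ i, i < 95464 → P i := stepQ 95463 Q95463 (allL N95463 (tt N95830 (iv1 F409843)) (tt N95829 F409842) (tt N95832 (iv2 F409853)) (tt N64344 F408274) (tt N58496 (iv4 D198539)) (tt N79066 F408277) (tt N63252 F408275) (tt N59990 F408276))
theorem Q95465 : ∀ i, i < 95465 → P i := stepQ 95464 Q95464 (allL N95464 (tt N86976 F408281) (tt N58505 (iv0 F408282)) (tt N86974 F408283) (tt N58499 (iv3 D198540)) (tt N97491 (iv4 F417077)) (tt N66669 F408278) (tt N78521 F408279) (tt N86975 F408280))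
theorem Q95466 : ∀ i, i < 95466 → P i := stepQ 95465 Q95465 (allL N95465 (tt N82484 (iv1 F408287)) (tt N101670 (iv0 F433782)) (tt N58501 F408284) (tt N58503 F408285) (tt N95765 (iv4 F409532)) (tt N58501 F408286) (tt N58500 (iv6 D198541)) (tt N95594 (iv7 F408817)))
theorem Q95467 : ∀ i, i < 95467 → P i := stepQ 95466 Q95466 (allL N95466 (tt N101670 (iv1 F433783)) (tt N82484 F408819) (tt N95594 (iv2 F408814)) (tt N58504 F408288) (tt N95766 (iv4 F409537)) (tt N95594 (iv5 F408815)) (tt N91939 F408289) (tt N58501 (iv7 D198542)))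
theorem Q95468 : ∀ i, i < 95468 → P i := stepQ 95467 Q95467 (allL N95467 (tt N108312 (iv1 F462022)) (tt N106105 (iv0 F453133)) (tt N94946 F408290) (tt N96425 (iv3 F412467)) (tt N58503 (iv4 D198543)) (tt N106794 (iv5 F455703)) (tt N94949 F408291) (tt N95595 (iv7 F408823)))
theorem Q95469 : ∀ i, i < 95469 → P i := stepQ 95468 Q95468 (allL N95468 (tt N58505 (iv1 D198544)) (tt N86976 F408292) (tt N86975 (iv2 F408295)) (tt N102031 (iv3 F435446)) (tt N97485 (iv4 F417049)) (tt N66668 F408294) (tt N102109 (iv6 F435771)) (tt N86974 F408293))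
theorem Q95470 : ∀ i, i < 95470 → P i := stepQ 95469 Q95469 (allL N95469 (tt N84256 (iv1 F408300)) (tt N84255 F408301) (tt N84257 F408296) (tt N66654 F408297) (tt N83870 F408298) (tt N113130 (iv5 F484112)) (tt N58507 (iv6 D198545)) (tt N83867 F408299))
theorem Q95471 : ∀ i, i < 95471 → P i := stepQ 95470 Q95470 (allL N95470 (tt N100150 (iv1 F427713)) (tt N100149 (iv0 F427711)) (tt N100151 (iv2 F427719)) (tt N74744 F408302) (tt N58508 (iv4 D198546)) (tt N108252 (iv5 F461702)) (tt N84135 F408303) (tt N75785 F408304))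
theorem Q95472 : ∀ i, i < 95472 → P i := stepQ 95471 Q95471 (allL N95471 (tt N82216 (iv1 F408310)) (tt N58510 (iv0 D198547)) (tt N64009 (iv2 F408308)) (tt N84256 F408306) (tt N64020 F408305) (tt N118913 D222172) (tt N78362 F408307) (tt N82215 F408309))
theorem Q95473 : ∀ i, i < 95473 → P i := stepQ 95472 Q95472 (allL N95472 (tt N97187 (iv1 F415815)) (tt N87736 (iv0 F408314)) (tt N60241 F408311) (tt N117923 (iv3 F507617)) (tt N60238 F408313) (tt N58510 (iv5 D198548)) (tt N58639 F408312) (tt N97188 (iv7 F415814)))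
theorem Q95474 : ∀ i, i < 95474 → P i := stepQ 95473 Q95473 (allL N95473 (tt N82215 (iv1 F408319)) (tt N64009 F408320) (tt N82216 F408315) (tt N75922 F408316) (tt N94058 F408317) (tt N97188 (iv5 F415813)) (tt N75920 F408318) (tt N58510 (iv7 D198549)))
theorem Q95475 : ∀ i, i < 95475 → P i := stepQ 95474 Q95474 (allL N95474 (tt N67831 (iv1 F408325)) (tt N67830 (iv0 F408326)) (tt N67833 F408321) (tt N58512 F408322) (tt N115554 (iv4 F495758)) (tt N67820 F408323) (tt N58511 (iv6 D198550)) (tt N67819 F408324))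
theorem Q95476 : ∀ i, i < 95476 → P i := stepQ 95475 Q95475 (allL N95475 (tt N88096 F408328) (tt N79912 (iv0 F408330)) (tt N110339 F471121) (tt N80666 F408329) (tt N58513 (iv4 D198551)) (tt N104116 (iv5 F444256)) (tt N115569 (iv6 F495812)) (tt N80035 F408327))
theorem Q95477 : ∀ i, i < 95477 → P i := stepQ 95476 Q95476 (allL N95476 (tt N88055 F408331) (tt N115520 F495615) (tt N115516 (iv2 F495594)) (tt N115570 (iv3 F495818)) (tt N118914 D222173) (tt N58513 (iv5 D198552)) (tt N118915 D222174) (tt N113128 (iv7 F484110)))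
theorem Q95478 : ∀ i, i < 95478 → P i := stepQ 95477 Q95477 (allL N95477 (tt N79912 F408335) (tt N88096 (iv0 F408336)) (tt N80035 F408332) (tt N75938 F408333) (tt N58514 (iv4 D198553)) (tt N103525 (iv5 F441945)) (tt N75937 F408334) (tt N110339 (iv7 F471122)))
theorem Q95479 : ∀ i, i < 95479 → P i := stepQ 95478 Q95478 (allL N95478 (tt N115520 (iv1 F495614)) (tt N88055 (iv0 F408339)) (tt N113128 (iv2 F484107)) (tt N75943 F408337) (tt N118916 D222175) (tt N58514 (iv5 D198554)) (tt N87927 F408338) (tt N115516 (iv7 F495596)))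
theorem Q95480 : ∀ i, i < 95480 → P i := stepQ 95479 Q95479 (allL N95479 (tt N88049 (iv1 F408345)) (tt N58515 (iv0 D198555)) (tt N115517 F495601) (tt N95642 (iv3 F427675)) (tt N112856 (iv4 F482989)) (tt N95640 F427674) (tt N111408 F476223) (tt N115518 (iv7 F495605)))
theorem Q95481 : ∀ i, i < 95481 → P i := stepQ 95480 Q95480 (allL N95480 (tt N58515 (iv1 D198556)) (tt N88049 F408340) (tt N115518 F495608) (tt N103010 (iv3 F439658)) (tt N118917 D222176) (tt N103009 F439657) (tt N118918 D222177) (tt N115517 F495602))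
theorem Q95482 : ∀ i, i < 95482 → P i := stepQ 95481 Q95481 (allL N95481 (tt N111406 F477534) (tt N118919 D222178) (tt N115519 (iv2 F495609)) (tt N73554 F408341) (tt N58515 (iv4 D198557)) (tt N104698 (iv5 F446912)) (tt N58521 F408342) (tt N118920 D222179))
theorem Q95483 : ∀ i, i < 95483 → P i := stepQ 95482 Q95482 (allL N95482 (tt N115518 (iv1 F495604)) (tt N115517 F495599) (tt N88049 F408343) (tt N112278 (iv3 F480321)) (tt N118920 (iv4 F512750)) (tt N58516 F408344) (tt N112267 (iv6 F480285)) (tt N58515 (iv7 D198558)))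
theorem Q95484 : ∀ i, i < 95484 → P i := stepQ 95483 Q95483 (allL N95483 (tt N96826 (iv1 F414149)) (tt N58517 (iv0 D198559)) (tt N96827 F414154) (tt N111927 (iv3 F478703)) (tt N117666 (iv4 F506300)) (tt N115629 (iv5 F496048)) (tt N96762 (iv6 F414151)) (tt N96749 F414150))
theorem Q95485 : ∀ i, i < 95485 → P i := stepQ 95484 Q95484 (allL N95484 (tt N96827 (iv1 F414152)) (tt N96749 F413761) (tt N58517 (iv2 D198561)) (tt N82027 F408346) (tt N82028 F408347) (tt N115603 (iv5 F495951)) (tt N95582 (iv6 F408754)) (tt N96826 (iv7 F414146)))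
theorem Q95486 : ∀ i, i < 95486 → P i := stepQ 95485 Q95485 (allL N95485 (tt N115604 F495959) (tt N115601 (iv0 F495944)) (tt N115603 F495953) (tt N58518 F408348) (tt N115570 (iv4 F495820)) (tt N58517 (iv5 D198562)) (tt N95401 F408609) (tt N96828 (iv7 F414157)))
theorem Q95487 : ∀ i, i < 95487 → P i := stepQ 95486 Q95486 (allL N95486 (tt N118874 (iv1 F512515)) (tt N118873 F512511) (tt N106310 (iv2 F453974)) (tt N118914 (iv3 F512722)) (tt N58518 (iv4 D198563)) (tt N105972 (iv5 F452567)) (tt N115673 F496244) (tt N96829 (iv7 F414161)))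
theorem Q95488 : ∀ i, i < 95488 → P i := stepQ 95487 Q95487 (allL N95487 (tt N108756 F463825) (tt N99723 (iv0 F425915)) (tt N108753 F463818) (tt N95401 (iv3 F408611)) (tt N115673 (iv4 F496242)) (tt N95399 F408612) (tt N58518 (iv6 D198564)) (tt N108754 (iv7 F463820)))
theorem Q95489 : ∀ i, i < 95489 → P i := stepQ 95488 Q95488 (allL N95488 (tt N115629 F496049) (tt N115627 (iv0 F496038)) (tt N95427 F408779) (tt N58519 (iv3 D198566)) (tt N95642 F434033) (tt N95588 (iv5 F408787)) (tt N95311 (iv6 F408776)) (tt N112257 (iv7 F480247)))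
theorem Q95490 : ∀ i, i < 95490 → P i := stepQ 95489 Q95489 (allL N95489 (tt N106533 (iv1 F454791)) (tt N97836 (iv0 F418453)) (tt N112261 (iv2 F480258)) (tt N112856 (iv3 F482988)) (tt N58519 (iv4 D198567)) (tt N118921 D222180) (tt N112855 F482986) (tt N112258 (iv7 F480250)))
theorem Q95491 : ∀ i, i < 95491 → P i := stepQ 95490 Q95490 (allL N95490 (tt N71196 F408352) (tt N58740 F408351) (tt N58597 (iv2 F408354)) (tt N95588 (iv3 F408785)) (tt N74552 F408350) (tt N58519 (iv5 D198568)) (tt N58561 F408353) (tt N58654 (iv7 F408355)))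
theorem Q95492 : ∀ i, i < 95492 → P i := stepQ 95491 Q95491 (allL N95491 (tt N111634 F477236) (tt N115534 (iv0 F495673)) (tt N112262 (iv2 F480262)) (tt N95311 F408775) (tt N112855 (iv4 F482984)) (tt N95586 (iv5 F408773)) (tt N58519 (iv6 D198569)) (tt N95422 (iv7 F408777)))
theorem Q95493 : ∀ i, i < 95493 → P i := stepQ 95492 Q95492 (allL N95492 (tt N111851 F482004) (tt N111755 F477806) (tt N118922 D222181) (tt N58520 (iv3 D198570)) (tt N102514 (iv4 F437486)) (tt N112651 (iv5 F482002)) (tt N102521 (iv6 F437492)) (tt N112260 (iv7 F480257)))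
theorem Q95494 : ∀ i, i < 95494 → P i := stepQ 95493 Q95493 (allL N95493 (tt N97836 (iv1 F418454)) (tt N106533 (iv0 F454792)) (tt N112258 (iv2 F480249)) (tt N117202 (iv3 F503884)) (tt N58520 (iv4 D198571)) (tt N118923 D222182) (tt N117201 (iv6 F503882)) (tt N112261 (iv7 F480260)))
theorem Q95495 : ∀ i, i < 95495 → P i := stepQ 95494 Q95494 (allL N95494 (tt N58740 (iv1 F408365)) (tt N71196 F408363) (tt N58654 F408360) (tt N112651 F482001) (tt N65880 F408362) (tt N58520 (iv5 D198572)) (tt N58628 F408364) (tt N58597 F408361))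
theorem Q95496 : ∀ i, i < 95496 → P i := stepQ 95495 Q95495 (allL N95495 (tt N118924 D222183) (tt N112450 (iv0 F481158)) (tt N112259 (iv2 F480253)) (tt N102521 F437493) (tt N117201 F503883) (tt N118842 (iv5 F512370)) (tt N58520 (iv6 D198573)) (tt N118925 D222184))
theorem Q95497 : ∀ i, i < 95497 → P i := stepQ 95496 Q95496 (allL N95496 (tt N112255 (iv1 F480241)) (tt N58521 (iv0 D198574)) (tt N112263 F480269) (tt N64996 F455790) (tt N106812 F455789) (tt N115096 (iv5 F493467)) (tt N64995 F455791) (tt N110849 (iv7 F473437)))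
theorem Q95498 : ∀ i, i < 95498 → P i := stepQ 95497 Q95497 (allL N95497 (tt N58521 (iv1 D198575)) (tt N112255 (iv0 F480240)) (tt N110849 F473440) (tt N114124 (iv3 F488652)) (tt N106813 (iv4 F455795)) (tt N118639 (iv5 F511285)) (tt N114123 F488649) (tt N112263 (iv7 F480266)))
theorem Q95499 : ∀ i, i < 95499 → P i := stepQ 95498 Q95498 (allL N95498 (tt N105956 (iv1 F452500)) (tt N106269 F453822) (tt N106266 (iv2 F453804)) (tt N93309 F408366) (tt N71396 F408368) (tt N58521 (iv5 D198576)) (tt N95124 (iv6 F408369)) (tt N71395 F408367))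
theorem Q95500 : ∀ i, i < 95500 → P i := stepQ 95499 Q95499 (allL N95499 (tt N76169 (iv1 F408374)) (tt N58523 (iv0 D198577)) (tt N84551 (iv2 F408373)) (tt N85711 F408372) (tt N68013 F408371) (tt N84550 F408370) (tt N68015 (iv6 F408376)) (tt N74401 F408375))
theorem Q95501 : ∀ i, i < 95501 → P i := stepQ 95500 Q95500 (allL N95500 (tt N111694 F477532) (tt N111695 F477540) (tt N106268 (iv2 F453813)) (tt N73544 F408377) (tt N58524 (iv4 D198578)) (tt N105956 (iv5 F452498)) (tt N107673 (iv6 F459174)) (tt N73542 F408378))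
theorem Q95502 : ∀ i, i < 95502 → P i := stepQ 95501 Q95501 (allL N95501 (tt N108633 (iv1 F463293)) (tt N99697 (iv0 F429227)) (tt N108622 (iv2 F463254)) (tt N116013 (iv3 F498046)) (tt N107673 (iv4 F459175)) (tt N100505 F429226) (tt N58524 (iv6 D198579)) (tt N108631 (iv7 F463285)))
theorem Q95503 : ∀ i, i < 95503 → P i := stepQ 95502 Q95502 (allL N95502 (tt N71188 F408383) (tt N71190 F408382) (tt N71397 F408379) (tt N113845 (iv3 F487419)) (tt N118639 (iv4 F511284)) (tt N58525 (iv5 D198580)) (tt N94466 F408380) (tt N71399 F408381))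
theorem Q95504 : ∀ i, i < 95504 → P i := stepQ 95503 Q95503 (allL N95503 (tt N91291 F408388) (tt N96733 F413658) (tt N58610 F408384) (tt N87029 F408385) (tt N58526 (iv4 D198581)) (tt N106812 (iv5 F455783)) (tt N58565 F408386) (tt N58662 F408387))
theorem Q95505 : ∀ i, i < 95505 → P i := stepQ 95504 Q95504 (allL N95504 (tt N96733 (iv1 F413659)) (tt N91291 (iv0 F408392)) (tt N58662 F408389) (tt N102107 (iv3 F435760)) (tt N58529 (iv4 D198582)) (tt N106813 (iv5 F455794)) (tt N58631 F408390) (tt N58610 F408391))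
theorem Q95506 : ∀ i, i < 95506 → P i := stepQ 95505 Q95505 (allL N95505 (tt N118926 D222185) (tt N106942 (iv0 F456378)) (tt N110056 (iv2 F469761)) (tt N58530 (iv3 D198583)) (tt N72949 F408393) (tt N87643 F408396) (tt N77437 (iv6 F408395)) (tt N71392 F408394))
theorem Q95507 : ∀ i, i < 95507 → P i := stepQ 95506 Q95506 (allL N95506 (tt N71195 F408400) (tt N71198 F408401) (tt N71391 F408397) (tt N87643 F408398) (tt N118923 (iv4 F512767)) (tt N58530 (iv5 D198584)) (tt N65359 F408402) (tt N71393 F408399))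
theorem Q95508 : ∀ i, i < 95508 → P i := stepQ 95507 Q95507 (allL N95507 (tt N63100 F408408) (tt N63094 (iv0 F408409)) (tt N63099 F408403) (tt N77437 F408404) (tt N74553 F408405) (tt N71022 F408406) (tt N58530 (iv6 D198585)) (tt N62934 F408407))
theorem Q95509 : ∀ i, i < 95509 → P i := stepQ 95508 Q95508 (allL N95508 (tt N106974 F456494) (tt N118927 D222186) (tt N118928 D222187) (tt N58531 (iv3 D198586)) (tt N117808 (iv4 F507072)) (tt N109108 (iv5 F465375)) (tt N62922 F408410) (tt N71390 F408411))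
theorem Q95510 : ∀ i, i < 95510 → P i := stepQ 95509 Q95509 (allL N95509 (tt N71198 F408415) (tt N71195 (iv0 F408416)) (tt N71393 F408412) (tt N109108 (iv3 F465374)) (tt N118921 (iv4 F512757)) (tt N58531 (iv5 D198587)) (tt N62926 F408413) (tt N71391 F408414))
theorem Q95511 : ∀ i, i < 95511 → P i := stepQ 95510 Q95510 (allL N95510 (tt N58532 (iv1 D198588)) (tt N117515 F505459) (tt N117516 (iv2 F505460)) (tt N118929 D222188) (tt N73127 F408417) (tt N109087 (iv5 F465264)) (tt N76378 (iv6 F408418)) (tt N108681 (iv7 F463522)))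
theorem Q95512 : ∀ i, i < 95512 → P i := stepQ 95511 Q95511 (allL N95511 (tt N108681 (iv1 F463525)) (tt N117516 F505465) (tt N58532 (iv2 D198589)) (tt N71387 F408419) (tt N58547 F408420) (tt N105589 (iv5 F450868)) (tt N58537 F408421) (tt N117515 (iv7 F505458)))
theorem Q95513 : ∀ i, i < 95513 → P i := stepQ 95512 Q95512 (allL N95512 (tt N106361 (iv1 F454147)) (tt N106353 (iv0 F454110)) (tt N105589 (iv2 F450865)) (tt N58533 F408422) (tt N61510 (iv4 F421129)) (tt N58532 (iv5 D198590)) (tt N105411 (iv6 F450131)) (tt N106307 (iv7 F453961)))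
theorem Q95514 : ∀ i, i < 95514 → P i := stepQ 95513 Q95513 (allL N95513 (tt N117516 (iv1 F505466)) (tt N108681 (iv0 F463524)) (tt N117515 F505455) (tt N58534 F408423) (tt N58549 F408424) (tt N106307 (iv5 F453960)) (tt N71149 F408425) (tt N58532 (iv7 D198591)))
theorem Q95515 : ∀ i, i < 95515 → P i := stepQ 95514 Q95514 (allL N95514 (tt N106269 (iv1 F453823)) (tt N105956 (iv0 F452499)) (tt N71395 F408426) (tt N113903 (iv3 F487702)) (tt N58533 (iv4 D198592)) (tt N112255 (iv5 F480238)) (tt N105603 (iv6 F450940)) (tt N106266 (iv7 F453801)))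
theorem Q95516 : ∀ i, i < 95516 → P i := stepQ 95515 Q95515 (allL N95515 (tt N71694 (iv1 F408431)) (tt N58612 (iv0 F408430)) (tt N62329 F408427) (tt N116674 (iv3 F501253)) (tt N62312 F408428) (tt N100944 (iv5 F431058)) (tt N58535 (iv6 D198593)) (tt N63362 F408429))
theorem Q95517 : ∀ i, i < 95517 → P i := stepQ 95516 Q95516 (allL N95516 (tt N71335 F408436) (tt N60853 F408437) (tt N106569 (iv2 F454892)) (tt N58536 (iv3 D198594)) (tt N72746 F408432) (tt N60925 F408433) (tt N63363 F408434) (tt N71400 F408435))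
theorem Q95518 : ∀ i, i < 95518 → P i := stepQ 95517 Q95517 (allL N95517 (tt N94950 F408443) (tt N94821 (iv0 F408444)) (tt N94670 F408438) (tt N58539 (iv3 D198595)) (tt N58540 F408439) (tt N85401 F408440) (tt N96556 (iv6 F412971)) (tt N94951 F408441))
theorem Q95519 : ∀ i, i < 95519 → P i := stepQ 95518 Q95518 (allL N95518 (tt N74159 F408451) (tt N62654 (iv0 F408450)) (tt N74157 F408445) (tt N60121 F408446) (tt N58543 (iv4 D198596)) (tt N84515 F408449) (tt N76889 F408447) (tt N72689 F408448))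
theorem Q95520 : ∀ i, i < 95520 → P i := stepQ 95519 Q95519 (allL N95519 (tt N58546 (iv1 F408454)) (tt N58545 (iv0 D198597)) (tt N58549 (iv2 F408453)) (tt N62981 (iv3 F408456)) (tt N117515 (iv4 F505454)) (tt N62979 F408452) (tt N72240 (iv6 F408457)) (tt N58547 F408455))
theorem Q95521 : ∀ i, i < 95521 → P i := stepQ 95520 Q95520 (allL N95520 (tt N58549 (iv1 F408462)) (tt N58547 F408461) (tt N58545 (iv2 D198598)) (tt N74320 (iv3 F408463)) (tt N107910 (iv4 F460233)) (tt N74969 F408458) (tt N63372 F408459) (tt N58546 F408460))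
theorem Q95522 : ∀ i, i < 95522 → P i := stepQ 95521 Q95521 (allL N95521 (tt N74688 F408468) (tt N74681 (iv0 F408469)) (tt N61432 F408464) (tt N58545 (iv3 D198599)) (tt N107579 (iv4 F458828)) (tt N61329 F408465) (tt N63600 F408466) (tt N74686 F408467))
theorem Q95523 : ∀ i, i < 95523 → P i := stepQ 95522 Q95522 (allL N95522 (tt N71627 F408470) (tt N107912 F460252) (tt N107911 (iv2 F460245)) (tt N99904 (iv3 F426755)) (tt N58546 (iv4 D198600)) (tt N115093 (iv5 F493449)) (tt N99902 (iv6 F426750)) (tt N107910 F460236))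
theorem Q95524 : ∀ i, i < 95524 → P i := stepQ 95523 Q95523 (allL N95523 (tt N74699 (iv1 F408477)) (tt N65246 (iv0 F408476)) (tt N74680 F408471) (tt N58552 F408472) (tt N74276 F408473) (tt N74680 F408474) (tt N58550 (iv6 D198601)) (tt N63353 F408475))
theorem Q95525 : ∀ i, i < 95525 → P i := stepQ 95524 Q95524 (allL N95524 (tt N70929 F408481) (tt N71459 (iv0 F408482)) (tt N71439 F408478) (tt N58551 (iv3 D198602)) (tt N74275 F408479) (tt N118930 D222189) (tt N118931 D222190) (tt N71458 F408480))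
theorem Q95526 : ∀ i, i < 95526 → P i := stepQ 95525 Q95525 (allL N95525 (tt N73796 F408485) (tt N71639 F408486) (tt N72032 F408483) (tt N118930 (iv3 F512801)) (tt N72015 F408487) (tt N58551 (iv5 D198603)) (tt N72014 F408488) (tt N72035 F408484))
theorem Q95527 : ∀ i, i < 95527 → P i := stepQ 95526 Q95526 (allL N95526 (tt N99461 F424688) (tt N71649 (iv0 F408492)) (tt N72696 F408489) (tt N118931 (iv3 F512808)) (tt N58552 F408490) (tt N89996 (iv5 F408493)) (tt N58551 (iv6 D198604)) (tt N63356 F408491))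
theorem Q95528 : ∀ i, i < 95528 → P i := stepQ 95527 Q95527 (allL N95527 (tt N71639 F408497) (tt N73796 F408498) (tt N72035 F408494) (tt N71438 F408495) (tt N72016 F408499) (tt N58553 (iv5 D198605)) (tt N113187 F484383) (tt N72032 F408496))
theorem Q95529 : ∀ i, i < 95529 → P i := stepQ 95528 Q95528 (allL N95528 (tt N96912 F414579) (tt N112145 (iv0 F479734)) (tt N59567 (iv2 F408503)) (tt N58554 (iv3 D198606)) (tt N59369 F408502) (tt N105031 F448475) (tt N113509 (iv6 F485836)) (tt N59571 F408501))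
theorem Q95530 : ∀ i, i < 95530 → P i := stepQ 95529 Q95529 (allL N95529 (tt N87460 F408506) (tt N95303 F408507) (tt N58557 F408504) (tt N58576 F408505) (tt N112708 (iv4 F482285)) (tt N58556 (iv5 D198607)) (tt N106712 (iv6 F455359)) (tt N96908 (iv7 F414558)))
theorem Q95531 : ∀ i, i < 95531 → P i := stepQ 95530 Q95530 (allL N95530 (tt N58557 (iv1 D198608)) (tt N96908 (iv0 F414559)) (tt N95303 (iv2 F408511)) (tt N93664 (iv3 F408510)) (tt N99470 (iv4 F424726)) (tt N59772 F408509) (tt N108479 (iv6 F462766)) (tt N87460 F408508))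
theorem Q95532 : ∀ i, i < 95532 → P i := stepQ 95531 Q95531 (allL N95531 (tt N58589 (iv1 F408523)) (tt N58559 (iv0 D198609)) (tt N58586 (iv2 F408514)) (tt N99236 (iv3 F423799)) (tt N92440 F408512) (tt N115786 (iv5 F496869)) (tt N83156 F408513) (tt N58587 (iv7 F408515)))
theorem Q95533 : ∀ i, i < 95533 → P i := stepQ 95532 Q95532 (allL N95532 (tt N58559 (iv1 D198610)) (tt N58589 F408516) (tt N58587 (iv2 F408522)) (tt N59860 (iv3 F408519)) (tt N92441 (iv4 F408518)) (tt N59859 F408520) (tt N74323 F408521) (tt N58586 F408517))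
theorem Q95534 : ∀ i, i < 95534 → P i := stepQ 95533 Q95533 (allL N95533 (tt N95364 F408605) (tt N95368 F408606) (tt N58588 F408524) (tt N100694 F430051) (tt N112494 (iv4 F481343)) (tt N58559 (iv5 D198611)) (tt N58562 F408525) (tt N95366 F408743))
theorem Q95535 : ∀ i, i < 95535 → P i := stepQ 95534 Q95534 (allL N95534 (tt N58587 (iv1 F408528)) (tt N58586 F408529) (tt N58589 F408526) (tt N111582 (iv3 F477007)) (tt N93694 F408527) (tt N95366 (iv5 F408742)) (tt N96910 (iv6 F414567)) (tt N58559 (iv7 D198612)))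
theorem Q95536 : ∀ i, i < 95536 → P i := stepQ 95535 Q95535 (allL N95535 (tt N95548 F408603) (tt N95585 F408769) (tt N58592 F408530) (tt N82482 F408531) (tt N95079 F408533) (tt N58560 (iv5 D198613)) (tt N118904 (iv6 F512669)) (tt N58596 F408532))
theorem Q95537 : ∀ i, i < 95537 → P i := stepQ 95536 Q95536 (allL N95536 (tt N58562 (iv1 D198614)) (tt N58601 F408534) (tt N58599 (iv2 F408537)) (tt N59710 F408540) (tt N94976 (iv4 F408539)) (tt N59710 F408536) (tt N59821 (iv6 F408538)) (tt N58598 F408535))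
theorem Q95538 : ∀ i, i < 95538 → P i := stepQ 95537 Q95537 (allL N95537 (tt N71714 F408543) (tt N71689 F408544) (tt N58600 F408541) (tt N111856 (iv3 F478327)) (tt N58562 (iv4 D198615)) (tt N71699 F408542) (tt N112494 (iv6 F481344)) (tt N96107 (iv7 F411088)))
theorem Q95539 : ∀ i, i < 95539 → P i := stepQ 95538 Q95538 (allL N95538 (tt N58599 (iv1 F408549)) (tt N58598 F408550) (tt N58601 F408546) (tt N81029 F408547) (tt N96107 (iv4 F411086)) (tt N58563 F408548) (tt N101957 (iv6 F435093)) (tt N58562 (iv7 D198616)))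
theorem Q95540 : ∀ i, i < 95540 → P i := stepQ 95539 Q95539 (allL N95539 (tt N106107 (iv1 F453148)) (tt N79294 (iv0 F408554)) (tt N106106 F453138) (tt N58564 (iv3 D198617)) (tt N60540 F408551) (tt N106095 F453087) (tt N58663 F408552) (tt N58608 F408553))
theorem Q95541 : ∀ i, i < 95541 → P i := stepQ 95540 Q95540 (allL N95540 (tt N81598 F408558) (tt N81593 F408557) (tt N58605 F408555) (tt N106095 F453086) (tt N96174 (iv4 F411342)) (tt N58564 (iv5 D198618)) (tt N91891 F408559) (tt N58609 F408556))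
theorem Q95542 : ∀ i, i < 95542 → P i := stepQ 95541 Q95541 (allL N95541 (tt N71038 F408564) (tt N79333 (iv0 F408565)) (tt N91863 (iv2 F408567)) (tt N58565 (iv3 D198619)) (tt N66030 F408561) (tt N91893 F408566) (tt N87029 F408562) (tt N58604 F408563))
theorem Q95543 : ∀ i, i < 95543 → P i := stepQ 95542 Q95542 (allL N95542 (tt N81593 F408571) (tt N81598 F408572) (tt N58609 F408568) (tt N91893 F408569) (tt N96171 (iv4 F411333)) (tt N58565 (iv5 D198620)) (tt N80243 F408574) (tt N58605 F408570))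
theorem Q95544 : ∀ i, i < 95544 → P i := stepQ 95543 Q95543 (allL N95543 (tt N58575 F408579) (tt N96918 F414613) (tt N96917 F414602) (tt N58566 (iv3 D198621)) (tt N60359 F408578) (tt N68098 F408577) (tt N80061 (iv6 F408580)) (tt N96911 (iv7 F414571)))
theorem Q95545 : ∀ i, i < 95545 → P i := stepQ 95544 Q95544 (allL N95544 (tt N94749 F408584) (tt N94739 (iv0 F408585)) (tt N94753 F408581) (tt N66464 F408582) (tt N58566 (iv4 D198622)) (tt N118932 D222191) (tt N112416 F481013) (tt N94750 F408583))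
theorem Q95546 : ∀ i, i < 95546 → P i := stepQ 95545 Q95545 (allL N95545 (tt N96935 (iv1 F414674)) (tt N96880 (iv0 F414419)) (tt N96913 (iv2 F414581)) (tt N80061 F408586) (tt N112416 (iv4 F481010)) (tt N82128 F408587) (tt N58566 (iv6 D198623)) (tt N96934 (iv7 F414668)))
theorem Q95547 : ∀ i, i < 95547 → P i := stepQ 95546 Q95546 (allL N95546 (tt N59567 F408589) (tt N59571 (iv0 F408590)) (tt N112145 (iv2 F479729)) (tt N58567 (iv3 D198624)) (tt N94754 F408588) (tt N111581 (iv5 F477005)) (tt N78638 F408591) (tt N96912 (iv7 F414577)))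
theorem Q95548 : ∀ i, i < 95548 → P i := stepQ 95547 Q95547 (allL N95547 (tt N58582 F408594) (tt N82129 F408597) (tt N82130 F408592) (tt N111581 (iv3 F477004)) (tt N62690 F408595) (tt N58567 (iv5 D198625)) (tt N62688 (iv6 F408596)) (tt N82117 F408593))
theorem Q95549 : ∀ i, i < 95549 → P i := stepQ 95548 Q95548 (allL N95548 (tt N58590 (iv1 F408604)) (tt N95535 (iv0 F408603)) (tt N71703 F408598) (tt N78638 F408599) (tt N94752 F408600) (tt N59700 F408601) (tt N58567 (iv6 D198626)) (tt N71702 (iv7 F408602)))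
theorem Q95550 : ∀ i, i < 95550 → P i := stepQ 95549 Q95549 (allL N95549 (tt N96861 (iv1 F414311)) (tt N87808 (iv0 F408618)) (tt N58569 F408617) (tt N96915 (iv3 F414590)) (tt N107729 (iv4 F459427)) (tt N108245 (iv5 F461665)) (tt N58568 (iv6 D198627)) (tt N96860 (iv7 F414308)))
theorem Q95551 : ∀ i, i < 95551 → P i := stepQ 95550 Q95550 (allL N95550 (tt N96860 (iv1 F414310)) (tt N58569 (iv0 D198628)) (tt N96861 F414316) (tt N87811 F408619) (tt N103350 F441227) (tt N116080 (iv5 F498356)) (tt N115426 (iv6 F495133)) (tt N87808 (iv7 F408620)))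
theorem Q95552 : ∀ i, i < 95552 → P i := stepQ 95551 Q95551 (allL N95551 (tt N58569 (iv1 D198629)) (tt N96860 (iv0 F414309)) (tt N87808 F408623) (tt N91926 F408624) (tt N74232 (iv4 F408621)) (tt N116077 (iv5 F498345)) (tt N87804 (iv6 F408622)) (tt N96861 (iv7 F414312)))
theorem Q95553 : ∀ i, i < 95553 → P i := stepQ 95552 Q95552 (allL N95552 (tt N115370 F494854) (tt N115371 F494859) (tt N108245 (iv2 F461663)) (tt N58570 F408625) (tt N97190 (iv4 F415821)) (tt N58569 (iv5 D198630)) (tt N74328 F408626) (tt N95881 (iv7 F410074)))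
theorem Q95554 : ∀ i, i < 95554 → P i := stepQ 95553 Q95553 (allL N95553 (tt N58639 (iv1 F408628)) (tt N58570 (iv0 D198631)) (tt N95741 (iv2 F409398)) (tt N93157 (iv3 F408629)) (tt N97270 (iv4 F416142)) (tt N95301 F408627) (tt N112701 (iv6 F482243)) (tt N96862 (iv7 F414320)))
theorem Q95555 : ∀ i, i < 95555 → P i := stepQ 95554 Q95554 (allL N95554 (tt N58570 (iv1 D198632)) (tt N58639 F408630) (tt N96862 F414318) (tt N111107 (iv3 F474704)) (tt N111724 (iv4 F477675)) (tt N59964 F408631) (tt N78275 (iv6 F408632)) (tt N95741 (iv7 F409400)))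
theorem Q95556 : ∀ i, i < 95556 → P i := stepQ 95555 Q95555 (allL N95555 (tt N112426 F481041) (tt N118933 D222192) (tt N67160 F408633) (tt N60246 (iv3 F408636)) (tt N58570 (iv4 D198633)) (tt N95633 (iv5 F408962)) (tt N67156 F408634) (tt N60242 F408635))
theorem Q95557 : ∀ i, i < 95557 → P i := stepQ 95556 Q95556 (allL N95556 (tt N95380 F408641) (tt N58584 F408642) (tt N95383 F408637) (tt N92891 F408638) (tt N62503 F408639) (tt N58571 (iv5 D198634)) (tt N97038 (iv6 F415146)) (tt N95382 F408640))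
theorem Q95558 : ∀ i, i < 95558 → P i := stepQ 95557 Q95557 (allL N95557 (tt N103380 (iv1 F441372)) (tt N103239 (iv0 F440725)) (tt N103219 (iv2 F440629)) (tt N58574 F408643) (tt N65705 F408644) (tt N67127 F408645) (tt N58573 (iv6 D198635)) (tt N96867 (iv7 F414354)))
theorem Q95559 : ∀ i, i < 95559 → P i := stepQ 95558 Q95558 (allL N95558 (tt N111717 (iv1 F477638)) (tt N111107 (iv0 F474707)) (tt N96919 (iv2 F414614)) (tt N67127 F408646) (tt N118934 D222193) (tt N58574 (iv5 D198636)) (tt N67126 F408647) (tt N96868 (iv7 F414358)))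
theorem Q95560 : ∀ i, i < 95560 → P i := stepQ 95559 Q95559 (allL N95559 (tt N96918 (iv1 F414612)) (tt N58575 (iv0 D198637)) (tt N96911 F414575) (tt N112145 (iv3 F479730)) (tt N60358 F408648) (tt N104878 (iv5 F447768)) (tt N81016 F408649) (tt N96917 (iv7 F414604)))
theorem Q95561 : ∀ i, i < 95561 → P i := stepQ 95560 Q95560 (allL N95560 (tt N96911 F414574) (tt N96917 F414603) (tt N58575 (iv2 D198638)) (tt N65703 F408650) (tt N75302 F408651) (tt N90679 F408652) (tt N66640 F408653) (tt N96918 (iv7 F414611)))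
theorem Q95562 : ∀ i, i < 95562 → P i := stepQ 95561 Q95561 (allL N95561 (tt N90574 (iv1 F408661)) (tt N90573 (iv0 F408660)) (tt N90576 F408654) (tt N62631 F408655) (tt N86326 F408656) (tt N81168 F408657) (tt N58577 (iv6 D198639)) (tt N74068 F408658))
theorem Q95563 : ∀ i, i < 95563 → P i := stepQ 95562 Q95562 (allL N95562 (tt N104878 (iv1 F447771)) (tt N68098 (iv0 F408665)) (tt N99264 (iv2 F423867)) (tt N58578 (iv3 D198640)) (tt N95793 (iv4 F409682)) (tt N59810 F408662) (tt N89220 F408663) (tt N95394 F408664))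
theorem Q95564 : ∀ i, i < 95564 → P i := stepQ 95563 Q95563 (allL N95563 (tt N91117 (iv1 F408669)) (tt N58579 (iv0 D198641)) (tt N95448 (iv2 F408668)) (tt N101112 (iv3 F431732)) (tt N59828 F408667) (tt N91002 F408666) (tt N106470 (iv6 F454589)) (tt N95446 F408670))
theorem Q95565 : ∀ i, i < 95565 → P i := stepQ 95564 Q95564 (allL N95564 (tt N89556 F408672) (tt N89555 F408674) (tt N106713 (iv2 F455364)) (tt N102754 (iv3 F438492)) (tt N58580 F408671) (tt N96266 (iv5 F411801)) (tt N58579 (iv6 D198642)) (tt N106714 (iv7 F455369)))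
theorem Q95566 : ∀ i, i < 95566 → P i := stepQ 95565 Q95565 (allL N95565 (tt N90546 F408679) (tt N91846 (iv0 F408681)) (tt N81038 F408675) (tt N58588 F408676) (tt N80999 F408680) (tt N58580 (iv5 D198643)) (tt N58581 F408677) (tt N93819 F408678))
theorem Q95567 : ∀ i, i < 95567 → P i := stepQ 95566 Q95566 (allL N95566 (tt N82117 (iv1 F408686)) (tt N82130 F408685) (tt N58582 (iv2 D198644)) (tt N95380 F408682) (tt N110855 (iv4 F473452)) (tt N59800 F408683) (tt N74333 F408687) (tt N82129 F408684))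
theorem Q95568 : ∀ i, i < 95568 → P i := stepQ 95567 Q95567 (allL N95567 (tt N109492 (iv1 F467254)) (tt N73169 (iv0 F408691)) (tt N110855 (iv2 F473454)) (tt N69062 F408688) (tt N58582 (iv4 D198645)) (tt N66683 F408690) (tt N72740 (iv6 F408692)) (tt N74496 F408689))
theorem Q95569 : ∀ i, i < 95569 → P i := stepQ 95568 Q95568 (allL N95568 (tt N62682 F408696) (tt N74335 F408697) (tt N74333 F408693) (tt N58583 F408694) (tt N72740 F408695) (tt N115838 (iv5 F497161)) (tt N58582 (iv6 D198646)) (tt N74332 (iv7 F425936)))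
theorem Q95570 : ∀ i, i < 95570 → P i := stepQ 95569 Q95569 (allL N95569 (tt N95389 (iv1 F408703)) (tt N58583 (iv0 D198647)) (tt N95386 F455319) (tt N96050 (iv3 F440652)) (tt N97112 (iv4 F440653)) (tt N117587 (iv5 F505855)) (tt N96049 F440651) (tt N95387 (iv7 F455321)))
theorem Q95571 : ∀ i, i < 95571 → P i := stepQ 95570 Q95570 (allL N95570 (tt N58583 (iv1 D198648)) (tt N95389 F408698) (tt N95387 (iv2 F455323)) (tt N90573 (iv3 F455324)) (tt N97113 F455326) (tt N118935 D222194) (tt N90726 F455325) (tt N95386 F455322))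
theorem Q95572 : ∀ i, i < 95572 → P i := stepQ 95571 Q95571 (allL N95571 (tt N118936 D222195) (tt N117154 (iv0 F503664)) (tt N95388 F408699) (tt N115838 F497164) (tt N118937 D222196) (tt N58583 (iv5 D198649)) (tt N59802 F408700) (tt N118938 D222197))
theorem Q95573 : ∀ i, i < 95573 → P i := stepQ 95572 Q95572 (allL N95572 (tt N95387 (iv1 F408704)) (tt N95386 F408705) (tt N95389 F408701) (tt N74332 F425937) (tt N108580 (iv4 F463138)) (tt N118938 (iv5 F512851)) (tt N95371 F408702) (tt N58583 (iv7 D198650)))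
theorem Q95574 : ∀ i, i < 95574 → P i := stepQ 95573 Q95573 (allL N95573 (tt N118939 D222198) (tt N74206 (iv0 F414168)) (tt N99227 (iv2 F423757)) (tt N58585 F408706) (tt N78042 F408707) (tt N99641 (iv5 F425552)) (tt N58584 (iv6 D198651)) (tt N99277 (iv7 F423907)))
theorem Q95575 : ∀ i, i < 95575 → P i := stepQ 95574 Q95574 (allL N95574 (tt N90565 (iv1 F408710)) (tt N95369 F408711) (tt N95371 F408708) (tt N99277 F423908) (tt N116597 (iv4 F500912)) (tt N99570 (iv5 F425223)) (tt N95389 F408709) (tt N58585 (iv7 D198652)))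
theorem Q95576 : ∀ i, i < 95576 → P i := stepQ 95575 Q95575 (allL N95575 (tt N62691 F408717) (tt N62688 F408716) (tt N59863 (iv2 F408718)) (tt N58586 (iv3 D198653)) (tt N73165 (iv4 F408714)) (tt N59836 F408715) (tt N63457 F408712) (tt N59860 F408713))
theorem Q95577 : ∀ i, i < 95577 → P i := stepQ 95576 Q95576 (allL N95576 (tt N92443 (iv1 F408724)) (tt N92303 (iv0 F408723)) (tt N92440 F408719) (tt N73186 F408720) (tt N58586 (iv4 D198654)) (tt N108703 F463625) (tt N74506 F408721) (tt N92441 F408722))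
theorem Q95578 : ∀ i, i < 95578 → P i := stepQ 95577 Q95577 (allL N95577 (tt N95625 F408937) (tt N118940 D222199) (tt N115786 (iv2 F496866)) (tt N59836 F408725) (tt N59521 (iv4 F408728)) (tt N58586 (iv5 D198655)) (tt N87009 F408726) (tt N59859 F408727))
theorem Q95579 : ∀ i, i < 95579 → P i := stepQ 95578 Q95578 (allL N95578 (tt N97038 F415150) (tt N62670 (iv0 F408734)) (tt N74089 F408737) (tt N58587 (iv3 D198656)) (tt N99219 F423739) (tt N81005 F408735) (tt N62624 (iv6 F408736)) (tt N99236 (iv7 F423800)))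
theorem Q95580 : ∀ i, i < 95580 → P i := stepQ 95579 Q95579 (allL N95579 (tt N92303 (iv1 F408732)) (tt N92443 F408733) (tt N92441 F408729) (tt N110584 (iv3 F472242)) (tt N58587 (iv4 D198657)) (tt N79622 F408731) (tt N92351 (iv6 F408738)) (tt N92440 F408730))
theorem Q95581 : ∀ i, i < 95581 → P i := stepQ 95580 Q95580 (allL N95580 (tt N118940 (iv1 F512862)) (tt N95625 (iv0 F408936)) (tt N59859 F408739) (tt N81005 F408740) (tt N81007 F408741) (tt N58587 (iv5 D198658)) (tt N82471 (iv6 F408744)) (tt N115786 (iv7 F496870)))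
theorem Q95582 : ∀ i, i < 95582 → P i := stepQ 95581 Q95581 (allL N95581 (tt N105995 (iv1 F452675)) (tt N96049 (iv0 F410800)) (tt N74323 F408745) (tt N62624 F408746) (tt N92351 F408747) (tt N74094 (iv5 F408749)) (tt N58587 (iv6 D198659)) (tt N74086 F408748))
theorem Q95583 : ∀ i, i < 95583 → P i := stepQ 95582 Q95582 (allL N95582 (tt N58588 (iv1 D198660)) (tt N95366 F408750) (tt N95368 (iv2 F408752)) (tt N81222 (iv3 F408755)) (tt N80992 F408753) (tt N117323 F504461) (tt N95484 F408754) (tt N95364 F408751))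
theorem Q95584 : ∀ i, i < 95584 → P i := stepQ 95583 Q95583 (allL N95583 (tt N112292 F480398) (tt N118941 D222200) (tt N112494 (iv2 F481342)) (tt N93479 F408756) (tt N58588 (iv4 D198661)) (tt N81780 F408758) (tt N58600 F408757) (tt N93844 (iv7 F408759)))
theorem Q95585 : ∀ i, i < 95585 → P i := stepQ 95584 Q95584 (allL N95584 (tt N95368 (iv1 F408764)) (tt N95364 F408765) (tt N95366 F408760) (tt N93819 F408761) (tt N93844 F408762) (tt N58589 F408763) (tt N101962 (iv6 F435101)) (tt N58588 (iv7 D198662)))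
theorem Q95586 : ∀ i, i < 95586 → P i := stepQ 95585 Q95585 (allL N95585 (tt N95535 (iv1 F408769)) (tt N58590 (iv0 D198663)) (tt N71702 (iv2 F408768)) (tt N81017 F408767) (tt N111423 (iv4 F476288)) (tt N59698 F408766) (tt N96934 (iv6 F414666)) (tt N71703 F408770))
theorem Q95587 : ∀ i, i < 95587 → P i := stepQ 95586 Q95586 (allL N95586 (tt N80262 F408774) (tt N111496 F476604) (tt N95593 (iv2 F408811)) (tt N58593 F408771) (tt N64979 F408772) (tt N95491 F408773) (tt N58590 (iv6 D198664)) (tt N58653 F408778))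
theorem Q95588 : ∀ i, i < 95588 → P i := stepQ 95587 Q95587 (allL N95587 (tt N71858 F408783) (tt N93962 F408784) (tt N65852 F408780) (tt N95168 F408781) (tt N106069 (iv4 F452982)) (tt N58591 (iv5 D198665)) (tt N93031 F408782) (tt N101925 (iv7 F434967)))
theorem Q95589 : ∀ i, i < 95589 → P i := stepQ 95588 Q95588 (allL N95588 (tt N87011 F408788) (tt N117645 (iv0 F506188)) (tt N118904 (iv2 F512667)) (tt N95490 F408785) (tt N95081 F408786) (tt N95488 F408787) (tt N58592 (iv6 D198666)) (tt N95648 (iv7 F409003)))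
theorem Q95590 : ∀ i, i < 95590 → P i := stepQ 95589 Q95589 (allL N95589 (tt N78761 F408793) (tt N82485 F408794) (tt N82483 F408789) (tt N58596 F408790) (tt N65076 F408792) (tt N58594 (iv5 D198667)) (tt N95650 (iv6 F409007)) (tt N82482 F408791))
theorem Q95591 : ∀ i, i < 95591 → P i := stepQ 95590 Q95590 (allL N95590 (tt N101726 (iv1 F434057)) (tt N101727 (iv0 F434061)) (tt N112650 (iv2 F481997)) (tt N58597 F408795) (tt N91861 F408796) (tt N112260 (iv5 F480256)) (tt N58594 (iv6 D198668)) (tt N112651 (iv7 F481999)))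
theorem Q95592 : ∀ i, i < 95592 → P i := stepQ 95591 Q95591 (allL N95591 (tt N94275 F408802) (tt N94276 (iv0 F408803)) (tt N74552 F408797) (tt N60109 F408798) (tt N58597 F408799) (tt N60107 F408800) (tt N58595 (iv6 D198669)) (tt N65880 F408801))
theorem Q95593 : ∀ i, i < 95593 → P i := stepQ 95592 Q95592 (allL N95592 (tt N95078 F408807) (tt N79175 F408808) (tt N94707 F408804) (tt N65077 F408805) (tt N58596 (iv4 D198670)) (tt N93811 (iv5 F408809)) (tt N79201 (iv6 F408810)) (tt N95079 F408806))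
theorem Q95594 : ∀ i, i < 95594 → P i := stepQ 95593 Q95593 (allL N95593 (tt N95627 F408943) (tt N79319 (iv0 F408813)) (tt N95586 F408811) (tt N95650 (iv3 F409006)) (tt N79201 F408812) (tt N112262 (iv5 F480263)) (tt N58596 (iv6 D198671)) (tt N95647 (iv7 F408998)))
theorem Q95595 : ∀ i, i < 95595 → P i := stepQ 95594 Q95594 (allL N95594 (tt N81784 (iv1 F408818)) (tt N81783 F408820) (tt N95466 F408814) (tt N58599 (iv3 D198672)) (tt N102849 (iv4 F438930)) (tt N95466 F408815) (tt N91829 F408816) (tt N95465 F408817))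
theorem Q95596 : ∀ i, i < 95596 → P i := stepQ 95595 Q95595 (allL N95595 (tt N106096 (iv1 F453093)) (tt N101649 (iv0 F433693)) (tt N94976 F408821) (tt N93466 (iv3 F408824)) (tt N58599 (iv4 D198673)) (tt N106772 (iv5 F455615)) (tt N94974 F408822) (tt N95467 F408823))
theorem Q95597 : ∀ i, i < 95597 → P i := stepQ 95596 Q95596 (allL N95596 (tt N96107 (iv1 F411090)) (tt N58600 (iv0 D198674)) (tt N71714 (iv2 F408826)) (tt N107889 F460136) (tt N59696 F408825) (tt N71690 (iv5 F408828)) (tt N107896 (iv6 F460164)) (tt N71689 (iv7 F408827)))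
theorem Q95598 : ∀ i, i < 95598 → P i := stepQ 95597 Q95597 (allL N95597 (tt N58600 (iv1 D198675)) (tt N96107 (iv0 F411089)) (tt N71689 (iv2 F408830)) (tt N111933 (iv3 F478738)) (tt N71716 (iv4 F408831)) (tt N70947 (iv5 F408832)) (tt N91838 F408833) (tt N71714 F408829))
theorem Q95599 : ∀ i, i < 95599 → P i := stepQ 95598 Q95598 (allL N95598 (tt N91904 F408837) (tt N95602 (iv0 F418474)) (tt N111475 (iv2 F476515)) (tt N58603 (iv3 D198676)) (tt N86959 F408834) (tt N71708 (iv5 F408838)) (tt N86958 F408835) (tt N71030 F408836))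
theorem Q95600 : ∀ i, i < 95600 → P i := stepQ 95599 Q95599 (allL N95599 (tt N71716 F408842) (tt N59696 F408843) (tt N71713 F408839) (tt N71708 F408840) (tt N108312 (iv4 F462019)) (tt N58603 (iv5 D198677)) (tt N118942 D222201) (tt N71031 F408841))
theorem Q95601 : ∀ i, i < 95601 → P i := stepQ 95600 Q95600 (allL N95600 (tt N70943 F408847) (tt N70944 F408848) (tt N71672 F408844) (tt N72426 F408845) (tt N96046 (iv4 F410785)) (tt N58607 (iv5 D198678)) (tt N118943 D222202) (tt N71671 F408846))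
theorem Q95602 : ∀ i, i < 95602 → P i := stepQ 95601 Q95601 (allL N95601 (tt N79294 F408851) (tt N106107 F453147) (tt N58608 (iv2 D198679)) (tt N91863 F408849) (tt N102106 (iv4 F435753)) (tt N106094 (iv5 F453081)) (tt N91862 (iv6 F408850)) (tt N106106 (iv7 F453140)))
theorem Q95603 : ∀ i, i < 95603 → P i := stepQ 95602 Q95602 (allL N95602 (tt N95598 F418474) (tt N106093 (iv0 F453079)) (tt N106094 F453083) (tt N58609 F408852) (tt N118780 (iv4 F512023)) (tt N58608 (iv5 D198680)) (tt N97678 (iv6 F429397)) (tt N106095 (iv7 F453085)))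
theorem Q95604 : ∀ i, i < 95604 → P i := stepQ 95603 Q95603 (allL N95603 (tt N111569 (iv1 F476965)) (tt N101722 (iv0 F434037)) (tt N91862 F408853) (tt N58610 F408854) (tt N101981 (iv4 F435206)) (tt N97223 F415966) (tt N58608 (iv6 D198681)) (tt N102107 (iv7 F435762)))
theorem Q95605 : ∀ i, i < 95605 → P i := stepQ 95604 Q95604 (allL N95604 (tt N106784 (iv1 F455670)) (tt N106782 (iv0 F455660)) (tt N96171 (iv2 F411330)) (tt N100543 (iv3 F429407)) (tt N58609 (iv4 D198682)) (tt N96046 F410787) (tt N100540 F429394) (tt N96174 (iv7 F411343)))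
theorem Q95606 : ∀ i, i < 95606 → P i := stepQ 95605 Q95605 (allL N95605 (tt N58662 (iv1 F408858)) (tt N58610 (iv0 D198683)) (tt N91291 (iv2 F408857)) (tt N111977 F478943) (tt N101914 (iv4 F434932)) (tt N88119 (iv5 F408861)) (tt N91286 F408856) (tt N96733 (iv7 F413657)))
theorem Q95607 : ∀ i, i < 95607 → P i := stepQ 95606 Q95606 (allL N95606 (tt N96814 (iv1 F414086)) (tt N60757 F408862) (tt N106812 F455785) (tt N97223 (iv3 F415967)) (tt N112263 (iv4 F480268)) (tt N58610 (iv5 D198684)) (tt N111480 F476540) (tt N106813 (iv7 F455793)))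
theorem Q95608 : ∀ i, i < 95608 → P i := stepQ 95607 Q95607 (allL N95607 (tt N118944 D222203) (tt N118945 D222204) (tt N118946 D222205) (tt N58611 (iv3 D198685)) (tt N74716 F408863) (tt N116389 F499842) (tt N71531 F408864) (tt N66352 F408865))
theorem Q95609 : ∀ i, i < 95609 → P i := stepQ 95608 Q95608 (allL N95608 (tt N71870 F408868) (tt N107131 (iv0 F457122)) (tt N71693 F408866) (tt N116389 F499841) (tt N106771 (iv4 F455609)) (tt N58611 (iv5 D198686)) (tt N99400 (iv6 F424413)) (tt N66353 F408867))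
theorem Q95610 : ∀ i, i < 95610 → P i := stepQ 95609 Q95609 (allL N95609 (tt N70950 (iv1 F408870)) (tt N58613 (iv0 D198687)) (tt N71698 (iv2 F408869)) (tt N107963 (iv3 F460497)) (tt N93811 (iv4 F408872)) (tt N106069 (iv5 F452983)) (tt N108018 F460757) (tt N71697 F408871))
theorem Q95611 : ∀ i, i < 95611 → P i := stepQ 95610 Q95610 (allL N95610 (tt N100731 (iv1 F430202)) (tt N100732 (iv0 F430207)) (tt N96944 (iv2 F414712)) (tt N107228 (iv3 F457550)) (tt N118947 D222206) (tt N58615 (iv5 D198688)) (tt N106885 (iv6 F456127)) (tt N96901 (iv7 F414522)))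
theorem Q95612 : ∀ i, i < 95612 → P i := stepQ 95611 Q95611 (allL N95611 (tt N94754 F408879) (tt N100924 F430984) (tt N59536 F408875) (tt N58616 (iv3 D198689)) (tt N58617 F408876) (tt N86119 (iv5 F412280)) (tt N95109 F408877) (tt N59948 F408878))
theorem Q95613 : ∀ i, i < 95613 → P i := stepQ 95612 Q95612 (allL N95612 (tt N80617 F408885) (tt N80620 F408886) (tt N77257 F408880) (tt N58618 (iv3 D198690)) (tt N58619 F408881) (tt N64432 F408882) (tt N77690 F408883) (tt N64569 F408884))
theorem Q95614 : ∀ i, i < 95614 → P i := stepQ 95613 Q95613 (allL N95613 (tt N80394 F408890) (tt N96905 F414540) (tt N58619 (iv2 D198691)) (tt N81693 F408887) (tt N77257 F408888) (tt N109003 (iv5 F464858)) (tt N81692 F408889) (tt N96906 (iv7 F414546)))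
theorem Q95615 : ∀ i, i < 95615 → P i := stepQ 95614 Q95614 (allL N95614 (tt N71649 (iv1 F408895)) (tt N99461 (iv0 F424687)) (tt N63356 F408891) (tt N71665 F408892) (tt N58620 (iv4 D198692)) (tt N89997 F408896) (tt N63290 F408893) (tt N72696 F408894))
theorem Q95616 : ∀ i, i < 95616 → P i := stepQ 95615 Q95615 (allL N95615 (tt N73196 F408903) (tt N73195 (iv0 F408904)) (tt N58622 F408898) (tt N59866 F408899) (tt N88994 F408902) (tt N58621 (iv5 D198693)) (tt N62494 F408900) (tt N73193 F408901))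
theorem Q95617 : ∀ i, i < 95617 → P i := stepQ 95616 Q95616 (allL N95616 (tt N87716 F408906) (tt N87717 F408907) (tt N95140 F408905) (tt N58625 (iv3 D198694)) (tt N102167 (iv4 F436007)) (tt N115494 (iv5 F495488)) (tt N113510 (iv6 F485843)) (tt N96854 (iv7 F414270)))
theorem Q95618 : ∀ i, i < 95618 → P i := stepQ 95617 Q95617 (allL N95617 (tt N58652 (iv1 F408914)) (tt N58627 (iv0 D198695)) (tt N58649 F408920) (tt N66748 (iv3 F408917)) (tt N100530 (iv4 F429348)) (tt N115876 (iv5 F497351)) (tt N95882 F410081) (tt N58650 F408918))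
theorem Q95619 : ∀ i, i < 95619 → P i := stepQ 95618 Q95618 (allL N95618 (tt N58627 (iv1 D198696)) (tt N58652 F408908) (tt N58650 (iv2 F408919)) (tt N96876 (iv3 F414394)) (tt N109304 (iv4 F466295)) (tt N115877 (iv5 F497360)) (tt N96874 F414382) (tt N58649 (iv7 F408921)))
theorem Q95620 : ∀ i, i < 95620 → P i := stepQ 95619 Q95619 (allL N95619 (tt N58650 (iv1 F408915)) (tt N58649 F408922) (tt N58652 F408909) (tt N87751 F408910) (tt N65845 F408911) (tt N87974 F408912) (tt N80202 F408913) (tt N58627 (iv7 D198697)))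
theorem Q95621 : ∀ i, i < 95621 → P i := stepQ 95620 Q95620 (allL N95620 (tt N107079 F456882) (tt N96865 (iv0 F414340)) (tt N118948 D222207) (tt N58628 (iv3 D198698)) (tt N65881 F408923) (tt N118840 (iv5 F512354)) (tt N112651 (iv6 F482003)) (tt N58655 F408924))
theorem Q95622 : ∀ i, i < 95622 → P i := stepQ 95621 Q95621 (allL N95621 (tt N95437 F408926) (tt N95434 F408927) (tt N58658 F408925) (tt N111568 (iv3 F476960)) (tt N58629 (iv4 D198699)) (tt N104837 (iv5 F447535)) (tt N111567 F476959) (tt N104836 (iv7 F447530)))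
theorem Q95623 : ∀ i, i < 95623 → P i := stepQ 95622 Q95622 (allL N95622 (tt N58657 (iv1 F408930)) (tt N58656 F408931) (tt N58659 F408928) (tt N111054 (iv3 F474438)) (tt N104836 (iv4 F447528)) (tt N58630 F408929) (tt N107243 (iv6 F457615)) (tt N58629 (iv7 D198700)))
theorem Q95624 : ∀ i, i < 95624 → P i := stepQ 95623 Q95623 (allL N95623 (tt N114104 (iv1 F488578)) (tt N96803 (iv0 F414026)) (tt N58661 F408932) (tt N111626 F477212) (tt N114220 (iv4 F489054)) (tt N58631 (iv5 D198701)) (tt N114219 F489051) (tt N58664 F408933))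
theorem Q95625 : ∀ i, i < 95625 → P i := stepQ 95624 Q95624 (allL N95624 (tt N97580 (iv1 F417450)) (tt N59570 F408941) (tt N59377 F408934) (tt N109239 (iv3 F465933)) (tt N58632 (iv4 D198702)) (tt N118949 D222208) (tt N111600 (iv6 F477108)) (tt N96858 (iv7 F414295)))
theorem Q95626 : ∀ i, i < 95626 → P i := stepQ 95625 Q95625 (allL N95625 (tt N95580 F408936) (tt N95577 (iv0 F408937)) (tt N96859 (iv2 F414299)) (tt N81793 F408935) (tt N111600 (iv4 F477107)) (tt N117322 (iv5 F504458)) (tt N58632 (iv6 D198703)) (tt N96879 F414414))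
theorem Q95627 : ∀ i, i < 95627 → P i := stepQ 95626 Q95626 (allL N95626 (tt N59570 F408940) (tt N97580 (iv0 F417449)) (tt N96858 (iv2 F414292)) (tt N59381 F408938) (tt N58633 (iv4 D198704)) (tt N118950 D222209) (tt N111428 (iv6 F476321)) (tt N59377 F408939))
theorem Q95628 : ∀ i, i < 95628 → P i := stepQ 95627 Q95627 (allL N95627 (tt N58653 F409000) (tt N95593 (iv0 F408943)) (tt N80262 F408942) (tt N111016 (iv3 F474270)) (tt N111428 (iv4 F476320)) (tt N118951 D222210) (tt N58633 (iv6 D198705)) (tt N111496 (iv7 F476602)))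
theorem Q95629 : ∀ i, i < 95629 → P i := stepQ 95628 Q95628 (allL N95628 (tt N95110 F408944) (tt N59945 F408945) (tt N95671 (iv2 F409074)) (tt N97396 (iv3 F416696)) (tt N58635 (iv4 D198706)) (tt N102654 (iv5 F438078)) (tt N64073 F408946) (tt N95670 F409069))
theorem Q95630 : ∀ i, i < 95630 → P i := stepQ 95629 Q95629 (allL N95629 (tt N118948 (iv1 F512919)) (tt N58655 (iv0 F408948)) (tt N96865 (iv2 F414335)) (tt N115778 (iv3 F496820)) (tt N64073 F408947) (tt N118952 D222211) (tt N58635 (iv6 D198707)) (tt N107079 (iv7 F456880)))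
theorem Q95631 : ∀ i, i < 95631 → P i := stepQ 95630 Q95630 (allL N95630 (tt N77590 F408950) (tt N82119 F408951) (tt N58638 F408949) (tt N96860 (iv3 F414306)) (tt N95751 (iv4 F409456)) (tt N110912 (iv5 F473754)) (tt N58637 (iv6 D198708)) (tt N96915 (iv7 F414592)))
theorem Q95632 : ∀ i, i < 95632 → P i := stepQ 95631 Q95631 (allL N95631 (tt N58638 (iv1 D198709)) (tt N96915 F414594) (tt N82119 (iv2 F408954)) (tt N103380 (iv3 F441368)) (tt N65310 F408953) (tt N118953 D222212) (tt N101727 (iv6 F434059)) (tt N77590 F408952))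
theorem Q95633 : ∀ i, i < 95633 → P i := stepQ 95632 Q95632 (allL N95632 (tt N103977 F443625) (tt N82481 (iv0 F408957)) (tt N110912 (iv2 F473753)) (tt N58639 F408955) (tt N72320 F408956) (tt N58638 (iv5 D198710)) (tt N117923 (iv6 F507619)) (tt N96916 (iv7 F414598)))
theorem Q95634 : ∀ i, i < 95634 → P i := stepQ 95633 Q95633 (allL N95633 (tt N118933 (iv1 F512821)) (tt N112426 F481042) (tt N60242 F408958) (tt N67163 F408959) (tt N58639 (iv4 D198711)) (tt N95555 F408962) (tt N60238 F408960) (tt N67160 F408961))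
theorem Q95635 : ∀ i, i < 95635 → P i := stepQ 95634 Q95634 (allL N95634 (tt N111107 (iv1 F474708)) (tt N111717 (iv0 F477637)) (tt N96868 (iv2 F414357)) (tt N93181 F408963) (tt N118954 D222213) (tt N58642 (iv5 D198712)) (tt N113130 (iv6 F484113)) (tt N96919 (iv7 F414616)))
theorem Q95636 : ∀ i, i < 95636 → P i := stepQ 95635 Q95635 (allL N95635 (tt N109228 (iv1 F465873)) (tt N98165 F419800) (tt N99877 (iv2 F426646)) (tt N58644 (iv3 D198713)) (tt N58647 F408964) (tt N89292 F408965) (tt N84365 F408966) (tt N90998 F408967))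
theorem Q95637 : ∀ i, i < 95637 → P i := stepQ 95636 Q95636 (allL N95636 (tt N97090 (iv1 F415441)) (tt N97089 (iv0 F415434)) (tt N97092 (iv2 F415450)) (tt N58648 F408968) (tt N84365 F408969) (tt N97065 (iv5 F415291)) (tt N58647 (iv6 D198714)) (tt N97064 F415287))
theorem Q95638 : ∀ i, i < 95638 → P i := stepQ 95637 Q95637 (allL N95637 (tt N58648 (iv1 D198715)) (tt N65845 F408970) (tt N65843 (iv2 F408972)) (tt N75482 (iv3 F408973)) (tt N102980 (iv4 F439535)) (tt N75680 (iv5 F408978)) (tt N100310 (iv6 F428377)) (tt N65842 F408971))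
theorem Q95639 : ∀ i, i < 95639 → P i := stepQ 95638 Q95638 (allL N95638 (tt N77448 F408979) (tt N103760 (iv0 F442711)) (tt N65844 F408975) (tt N97065 (iv3 F415289)) (tt N72946 F408977) (tt N58648 (iv5 D198716)) (tt N65833 F408976) (tt N97062 (iv7 F415277)))
theorem Q95640 : ∀ i, i < 95640 → P i := stepQ 95639 Q95639 (allL N95639 (tt N65843 (iv1 F408985)) (tt N65842 F408986) (tt N65845 F408982) (tt N97064 (iv3 F415284)) (tt N58652 F408983) (tt N97062 (iv5 F415276)) (tt N80176 F408984) (tt N58648 (iv7 D198717)))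
theorem Q95641 : ∀ i, i < 95641 → P i := stepQ 95640 Q95640 (allL N95640 (tt N115422 (iv1 F495119)) (tt N115420 (iv0 F495107)) (tt N115421 F495110) (tt N58649 (iv3 D198718)) (tt N118955 D222214) (tt N95479 (iv5 F427674)) (tt N87735 (iv6 F427673)) (tt N96876 F414396))
theorem Q95642 : ∀ i, i < 95642 → P i := stepQ 95641 Q95641 (allL N95641 (tt N109303 F466293) (tt N94174 (iv0 F427677)) (tt N100530 (iv2 F429346)) (tt N109301 (iv3 F466276)) (tt N58649 (iv4 D198719)) (tt N117466 (iv5 F505175)) (tt N100143 F427676) (tt N109304 (iv7 F466297)))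
theorem Q95643 : ∀ i, i < 95643 → P i := stepQ 95642 Q95642 (allL N95642 (tt N87284 F408987) (tt N115875 (iv0 F497350)) (tt N115876 (iv2 F497357)) (tt N95479 F427675) (tt N95488 (iv4 F434033)) (tt N58649 (iv5 D198720)) (tt N118843 (iv6 F512376)) (tt N115877 (iv7 F497359)))
theorem Q95644 : ∀ i, i < 95644 → P i := stepQ 95643 Q95643 (allL N95643 (tt N115875 (iv1 F497349)) (tt N87284 F408988) (tt N115877 F497362) (tt N109530 (iv3 F467393)) (tt N118905 (iv4 F512675)) (tt N58650 (iv5 D198721)) (tt N118837 (iv6 F512338)) (tt N115876 F497356))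
theorem Q95645 : ∀ i, i < 95645 → P i := stepQ 95644 Q95644 (allL N95644 (tt N87974 (iv1 F408996)) (tt N58651 (iv0 D198722)) (tt N113127 (iv2 F484101)) (tt N113128 (iv3 F484108)) (tt N96828 (iv4 F414158)) (tt N83151 F408989) (tt N87928 F408990) (tt N115570 (iv7 F495819)))
theorem Q95646 : ∀ i, i < 95646 → P i := stepQ 95645 Q95645 (allL N95645 (tt N58651 (iv1 D198723)) (tt N87974 F408991) (tt N115570 (iv2 F495817)) (tt N118956 D222215) (tt N115603 (iv4 F495952)) (tt N87961 F408992) (tt N118957 D222216) (tt N113127 (iv7 F484104)))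
theorem Q95647 : ∀ i, i < 95647 → P i := stepQ 95646 Q95646 (allL N95646 (tt N115570 (iv1 F495822)) (tt N113127 (iv0 F484105)) (tt N87974 F408993) (tt N88039 F408994) (tt N114084 (iv4 F488519)) (tt N58652 F408995) (tt N107242 (iv6 F457610)) (tt N58651 (iv7 D198724)))
theorem Q95648 : ∀ i, i < 95648 → P i := stepQ 95647 Q95647 (allL N95647 (tt N111496 (iv1 F476603)) (tt N80262 F408999) (tt N58653 (iv2 D198726)) (tt N118948 (iv3 F512915)) (tt N64978 F408997) (tt N118894 (iv5 F512616)) (tt N115425 (iv6 F495130)) (tt N95593 F408998))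
theorem Q95649 : ∀ i, i < 95649 → P i := stepQ 95648 Q95648 (allL N95648 (tt N115426 F495134) (tt N115423 (iv0 F495123)) (tt N115425 F495129) (tt N58654 F409002) (tt N96582 (iv4 F413073)) (tt N112257 (iv5 F480246)) (tt N58653 (iv6 D198727)) (tt N95588 F409003))
theorem Q95650 : ∀ i, i < 95650 → P i := stepQ 95649 Q95649 (allL N95649 (tt N58655 (iv1 D198728)) (tt N118948 F512920) (tt N107079 (iv2 F456877)) (tt N80240 (iv3 F409005)) (tt N64074 F409004) (tt N118958 D222217) (tt N96881 F414423) (tt N96865 F414338))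
theorem Q95651 : ∀ i, i < 95651 → P i := stepQ 95650 Q95650 (allL N95650 (tt N96865 F414337) (tt N107079 (iv0 F456881)) (tt N58655 (iv2 D198729)) (tt N95593 F409006) (tt N101680 (iv4 F433836)) (tt N118900 (iv5 F512650)) (tt N95589 F409007) (tt N118948 (iv7 F512918)))
theorem Q95652 : ∀ i, i < 95652 → P i := stepQ 95651 Q95651 (allL N95651 (tt N111497 F476607) (tt N118951 (iv0 F512937)) (tt N118959 D222218) (tt N58656 (iv3 D198730)) (tt N111429 (iv4 F476327)) (tt N94888 F409008) (tt N118960 D222219) (tt N95412 F409009))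
theorem Q95653 : ∀ i, i < 95653 → P i := stepQ 95652 Q95652 (allL N95652 (tt N88002 F409012) (tt N102327 (iv0 F436745)) (tt N95419 F409010) (tt N111432 (iv3 F476338)) (tt N58656 (iv4 D198731)) (tt N104833 (iv5 F447519)) (tt N118961 D222220) (tt N95413 F409011))
theorem Q95654 : ∀ i, i < 95654 → P i := stepQ 95653 Q95653 (allL N95653 (tt N112453 F495282) (tt N115454 (iv0 F495283)) (tt N95420 F409013) (tt N118960 (iv3 F512982)) (tt N118961 (iv4 F512990)) (tt N115456 (iv5 F495281)) (tt N58656 (iv6 D198732)) (tt N118961 (iv7 F512992)))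
theorem Q95655 : ∀ i, i < 95655 → P i := stepQ 95654 Q95654 (allL N95654 (tt N118952 (iv1 F512944)) (tt N118958 (iv0 F512973)) (tt N118962 D222221) (tt N58657 (iv3 D198733)) (tt N118963 D222222) (tt N95308 F409014) (tt N116057 (iv6 F498265)) (tt N95416 F409015))
theorem Q95656 : ∀ i, i < 95656 → P i := stepQ 95655 Q95655 (allL N95655 (tt N102327 (iv1 F436746)) (tt N88002 F409018) (tt N95413 F409016) (tt N116057 (iv3 F498264)) (tt N58657 (iv4 D198734)) (tt N96941 (iv5 F414699)) (tt N58657 F409019) (tt N95419 F409017))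
theorem Q95657 : ∀ i, i < 95657 → P i := stepQ 95656 Q95656 (allL N95656 (tt N104836 (iv1 F447532)) (tt N58658 (iv0 D198735)) (tt N95437 (iv2 F409022)) (tt N117662 (iv3 F506277)) (tt N95314 F409021) (tt N104843 (iv5 F447563)) (tt N87114 (iv6 F414789)) (tt N95434 (iv7 F409023)))
theorem Q95658 : ∀ i, i < 95658 → P i := stepQ 95657 Q95657 (allL N95657 (tt N91777 F409026) (tt N115657 F496180) (tt N104049 (iv2 F443931)) (tt N58658 (iv3 D198736)) (tt N79261 F409025) (tt N97174 (iv5 F415758)) (tt N115551 (iv6 F495739)) (tt N104047 (iv7 F443928)))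
theorem Q95659 : ∀ i, i < 95659 → P i := stepQ 95658 Q95658 (allL N95658 (tt N98285 (iv1 F420335)) (tt N97965 (iv0 F418994)) (tt N104837 (iv2 F447533)) (tt N97174 F415761) (tt N70609 F409028) (tt N58658 (iv5 D198737)) (tt N115699 (iv6 F496387)) (tt N70608 F409027))
theorem Q95660 : ∀ i, i < 95660 → P i := stepQ 95659 Q95659 (allL N95659 (tt N111065 F474497) (tt N111876 (iv0 F478452)) (tt N111861 (iv2 F478359)) (tt N58660 (iv3 D198738)) (tt N60619 F409029) (tt N118964 D222223) (tt N91878 F409030) (tt N60612 F409031))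
theorem Q95661 : ∀ i, i < 95661 → P i := stepQ 95660 Q95660 (allL N95660 (tt N95313 F409034) (tt N95314 F409035) (tt N95433 F409032) (tt N118964 (iv3 F513006)) (tt N115905 (iv4 F497516)) (tt N58660 (iv5 D198739)) (tt N107239 (iv6 F457595)) (tt N65939 F409033))
theorem Q95662 : ∀ i, i < 95662 → P i := stepQ 95661 Q95661 (allL N95661 (tt N95409 F451276) (tt N115586 (iv0 F495874)) (tt N114219 (iv2 F489050)) (tt N111684 (iv3 F477468)) (tt N114218 F489048) (tt N118965 D222224) (tt N58661 (iv6 D198740)) (tt N114144 (iv7 F488735)))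
theorem Q95663 : ∀ i, i < 95663 → P i := stepQ 95662 Q95662 (allL N95662 (tt N60757 F409037) (tt N96814 (iv0 F414085)) (tt N106813 F455796) (tt N84548 F409036) (tt N110849 (iv4 F473434)) (tt N58662 (iv5 D198741)) (tt N118965 (iv6 F513011)) (tt N106812 F455788))
theorem Q95664 : ∀ i, i < 95664 → P i := stepQ 95663 Q95663 (allL N95663 (tt N111625 (iv1 F477206)) (tt N79308 (iv0 F409040)) (tt N104044 (iv2 F443910)) (tt N58664 F409038) (tt N69458 F409039) (tt N58663 (iv5 D198742)) (tt N69464 F409041) (tt N111626 (iv7 F477211)))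
theorem Q95665 : ∀ i, i < 95665 → P i := stepQ 95664 Q95664 (allL N95664 (tt N91191 F443834) (tt N114141 F488724) (tt N84624 F409042) (tt N69464 F409043) (tt N109322 (iv4 F466383)) (tt N91891 F409044) (tt N58664 (iv6 D198743)) (tt N114142 (iv7 F488728)))
theorem Q95666 : ∀ i, i < 95666 → P i := stepQ 95665 Q95665 (allL N95665 (tt N100732 (iv1 F430208)) (tt N100731 (iv0 F430201)) (tt N96901 (iv2 F414521)) (tt N81599 F409045) (tt N118966 D222225) (tt N58668 (iv5 D198744)) (tt N105291 (iv6 F449589)) (tt N96944 (iv7 F414715)))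
theorem Q95667 : ∀ i, i < 95667 → P i := stepQ 95666 Q95666 (allL N95666 (tt N102314 (iv1 F436679)) (tt N118176 (iv0 F509021)) (tt N96592 (iv2 F413111)) (tt N100536 (iv3 F429383)) (tt N73512 (iv4 F409047)) (tt N96904 (iv5 F414536)) (tt N58669 (iv6 D198745)) (tt N73528 F409046))
theorem Q95668 : ∀ i, i < 95668 → P i := stepQ 95667 Q95667 (allL N95667 (tt N75414 (iv1 F409053)) (tt N75413 F409052) (tt N58671 (iv2 D198746)) (tt N94028 F409049) (tt N96918 (iv4 F414608)) (tt N112511 (iv5 F481434)) (tt N68540 F409050) (tt N75302 F409051))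
theorem Q95669 : ∀ i, i < 95669 → P i := stepQ 95668 Q95668 (allL N95668 (tt N92680 F409058) (tt N87785 (iv0 F416702)) (tt N65702 F409054) (tt N58672 (iv3 D198747)) (tt N58673 F409055) (tt N117997 (iv5 F507992)) (tt N92097 F409056) (tt N65887 F409057))
theorem Q95670 : ∀ i, i < 95670 → P i := stepQ 95669 Q95669 (allL N95669 (tt N66062 F409064) (tt N66059 F409065) (tt N65781 F409060) (tt N117997 (iv3 F507990)) (tt N65770 F409063) (tt N58672 (iv5 D198748)) (tt N65769 F409061) (tt N65888 F409062))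
theorem Q95671 : ∀ i, i < 95671 → P i := stepQ 95670 Q95670 (allL N95670 (tt N96946 (iv1 F414729)) (tt N58675 (iv0 D198749)) (tt N60385 (iv2 F409068)) (tt N118967 D222226) (tt N59847 F409066) (tt N100511 (iv5 F429251)) (tt N78739 F409067) (tt N95628 (iv7 F409069)))
theorem Q95672 : ∀ i, i < 95672 → P i := stepQ 95671 Q95671 (allL N95671 (tt N58675 (iv1 D198750)) (tt N96946 F414730) (tt N95628 F409074) (tt N60389 (iv3 F409075)) (tt N59848 F409072) (tt N66251 F409071) (tt N72093 (iv6 F409073)) (tt N60385 F409070))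
theorem Q95673 : ∀ i, i < 95673 → P i := stepQ 95672 Q95672 (allL N95672 (tt N94817 F409080) (tt N83913 F409081) (tt N58694 F409076) (tt N83943 F409077) (tt N58679 (iv4 D198751)) (tt N59635 F409079) (tt N104846 F447575) (tt N58707 F409078))
theorem Q95674 : ∀ i, i < 95674 → P i := stepQ 95673 Q95673 (allL N95673 (tt N69848 F409087) (tt N93785 F409088) (tt N58695 F409086) (tt N118783 (iv3 F512041)) (tt N104846 (iv4 F447573)) (tt N111375 (iv5 F476073)) (tt N58679 (iv6 D198752)) (tt N107508 (iv7 F458581)))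
theorem Q95675 : ∀ i, i < 95675 → P i := stepQ 95674 Q95674 (allL N95674 (tt N59951 F409091) (tt N59949 F409092) (tt N58701 F409089) (tt N105043 (iv3 F448531)) (tt N59636 F409093) (tt N58680 (iv5 D198753)) (tt N114943 (iv6 F492678)) (tt N58711 F409090))
theorem Q95676 : ∀ i, i < 95676 → P i := stepQ 95675 Q95675 (allL N95675 (tt N102855 (iv1 F438956)) (tt N97632 F417699) (tt N67305 F409094) (tt N58682 F409095) (tt N66421 F409098) (tt N58681 (iv5 D198754)) (tt N65133 F409096) (tt N65988 F409097))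
theorem Q95677 : ∀ i, i < 95677 → P i := stepQ 95676 Q95676 (allL N95676 (tt N102408 (iv1 F437113)) (tt N102409 (iv0 F437117)) (tt N65984 F409099) (tt N102828 F438833) (tt N58682 (iv4 D198755)) (tt N65772 F409100) (tt N103930 (iv6 F443415)) (tt N65989 F409101))
theorem Q95678 : ∀ i, i < 95678 → P i := stepQ 95677 Q95677 (allL N95677 (tt N97599 (iv1 F417547)) (tt N104269 F445041) (tt N65985 F409102) (tt N65133 F409103) (tt N103930 (iv4 F443414)) (tt N79741 F409104) (tt N58682 (iv6 D198756)) (tt N79740 F409105))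
theorem Q95679 : ∀ i, i < 95679 → P i := stepQ 95678 Q95678 (allL N95678 (tt N90129 (iv1 F409111)) (tt N116770 F501735) (tt N85596 F409106) (tt N58684 F409107) (tt N84908 F409108) (tt N58683 (iv5 D198757)) (tt N90134 F409109) (tt N85587 F409110))
theorem Q95680 : ∀ i, i < 95680 → P i := stepQ 95679 Q95679 (allL N95679 (tt N82284 F409113) (tt N82282 (iv0 F409114)) (tt N113260 (iv2 F484752)) (tt N90134 F409112) (tt N105485 (iv4 F450435)) (tt N117546 (iv5 F505626)) (tt N58684 (iv6 D198758)) (tt N111974 (iv7 F478927)))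
theorem Q95681 : ∀ i, i < 95681 → P i := stepQ 95680 Q95680 (allL N95680 (tt N113266 (iv1 F484785)) (tt N113265 (iv0 F484779)) (tt N97653 (iv2 F417784)) (tt N118212 (iv3 F509178)) (tt N83263 F409115) (tt N58687 (iv5 D198759)) (tt N83262 (iv6 F409117)) (tt N83269 F409116))
theorem Q95682 : ∀ i, i < 95682 → P i := stepQ 95681 Q95681 (allL N95681 (tt N99351 (iv1 F424229)) (tt N94836 F409120) (tt N58689 F409118) (tt N94831 F409119) (tt N102759 (iv4 F438509)) (tt N58688 (iv5 D198760)) (tt N108309 (iv6 F462000)) (tt N107914 (iv7 F460262)))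
theorem Q95683 : ∀ i, i < 95683 → P i := stepQ 95682 Q95682 (allL N95682 (tt N58689 (iv1 D198761)) (tt N107914 F460261) (tt N94836 F409123) (tt N76237 (iv3 F409122)) (tt N95190 F409121) (tt N60702 (iv5 F409124)) (tt N96472 F412665) (tt N99351 (iv7 F424226)))
theorem Q95684 : ∀ i, i < 95684 → P i := stepQ 95683 Q95683 (allL N95683 (tt N94836 (iv1 F409128)) (tt N99351 (iv0 F424227)) (tt N107914 F460260) (tt N58696 F409125) (tt N72568 F409126) (tt N58691 F409127) (tt N98248 (iv6 F420162)) (tt N58689 (iv7 D198762)))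
theorem Q95685 : ∀ i, i < 95685 → P i := stepQ 95684 Q95684 (allL N95684 (tt N82448 F409132) (tt N95205 F409133) (tt N95216 F409129) (tt N85577 (iv3 F409134)) (tt N58692 (iv4 D198763)) (tt N64802 F409131) (tt N100563 (iv6 F429469)) (tt N88450 F409130))
theorem Q95686 : ∀ i, i < 95686 → P i := stepQ 95685 Q95685 (allL N95685 (tt N105295 (iv1 F449611)) (tt N99587 (iv0 F429473)) (tt N100606 (iv2 F429675)) (tt N107296 (iv3 F457850)) (tt N100563 F429472) (tt N107295 (iv5 F457847)) (tt N58692 (iv6 D198764)) (tt N96481 (iv7 F412696)))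
theorem Q95687 : ∀ i, i < 95687 → P i := stepQ 95686 Q95686 (allL N95686 (tt N95205 F409140) (tt N82448 F409141) (tt N88450 F409136) (tt N109217 (iv3 F465822)) (tt N58693 (iv4 D198765)) (tt N89314 F409137) (tt N85531 F409138) (tt N95216 F409139))
theorem Q95688 : ∀ i, i < 95688 → P i := stepQ 95687 Q95687 (allL N95687 (tt N70376 F409144) (tt N104847 F447587) (tt N104846 (iv2 F447577)) (tt N107970 (iv3 F460539)) (tt N58695 F409142) (tt N70871 F409143) (tt N58694 (iv6 D198766)) (tt N104845 (iv7 F450882)))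
theorem Q95689 : ∀ i, i < 95689 → P i := stepQ 95688 Q95688 (allL N95688 (tt N83913 (iv1 F409149)) (tt N94817 F409150) (tt N58707 F409145) (tt N72570 F409146) (tt N58696 F409147) (tt N59636 F409148) (tt N118968 D222227) (tt N58694 (iv7 D198767)))
theorem Q95690 : ∀ i, i < 95690 → P i := stepQ 95689 Q95689 (allL N95689 (tt N58695 (iv1 D198768)) (tt N107508 F458580) (tt N93785 (iv2 F409152)) (tt N116915 (iv3 F502475)) (tt N105547 (iv4 F450672)) (tt N93777 F409153) (tt N107515 (iv6 F458617)) (tt N69848 F409151))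
theorem Q95691 : ∀ i, i < 95691 → P i := stepQ 95690 Q95690 (allL N95690 (tt N118969 D222228) (tt N117273 (iv0 F504224)) (tt N111375 (iv2 F476071)) (tt N76884 F409154) (tt N71881 F409156) (tt N58695 (iv5 D198769)) (tt N58697 F409155) (tt N110932 (iv7 F473854)))
theorem Q95692 : ∀ i, i < 95692 → P i := stepQ 95691 Q95691 (allL N95691 (tt N93785 (iv1 F409157)) (tt N69848 F409158) (tt N107508 F458579) (tt N108310 F462008) (tt N104845 F450883) (tt N110932 (iv5 F473852)) (tt N93358 F409159) (tt N58695 (iv7 D198770)))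
theorem Q95693 : ∀ i, i < 95693 → P i := stepQ 95692 Q95692 (allL N95692 (tt N85181 (iv1 F409163)) (tt N100619 (iv0 F429725)) (tt N58708 F409160) (tt N98248 (iv3 F420161)) (tt N118968 (iv4 F513027)) (tt N70145 F409161) (tt N58696 (iv6 D198771)) (tt N93358 F409162))
theorem Q95694 : ∀ i, i < 95694 → P i := stepQ 95693 Q95693 (allL N95693 (tt N99292 F423964) (tt N111538 (iv0 F476810)) (tt N111364 (iv2 F476019)) (tt N99035 (iv3 F423098)) (tt N58697 (iv4 D198772)) (tt N83717 F409165) (tt N71881 F409164) (tt N111365 (iv7 F476026)))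
theorem Q95695 : ∀ i, i < 95695 → P i := stepQ 95694 Q95694 (allL N95694 (tt N59399 (iv1 F409171)) (tt N59398 (iv0 F409170)) (tt N59320 F409166) (tt N58698 (iv3 D198773)) (tt N81973 F409167) (tt N96373 (iv5 F412284)) (tt N64614 F409168) (tt N59400 F409169))
theorem Q95696 : ∀ i, i < 95696 → P i := stepQ 95695 Q95695 (allL N95695 (tt N101972 (iv1 F435159)) (tt N59426 F409187) (tt N58700 (iv2 D198774)) (tt N59420 F409172) (tt N106819 (iv4 F455820)) (tt N75526 (iv5 F409174)) (tt N75507 F409173) (tt N102044 (iv7 F435486)))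
theorem Q95697 : ∀ i, i < 95697 → P i := stepQ 95696 Q95696 (allL N95696 (tt N94691 F409180) (tt N94856 F409179) (tt N75526 F409175) (tt N58701 F409176) (tt N67090 F409178) (tt N58700 (iv5 D198775)) (tt N66901 F409177) (tt N94864 (iv7 F409181)))
theorem Q95698 : ∀ i, i < 95698 → P i := stepQ 95697 Q95697 (allL N95697 (tt N59426 (iv1 F409186)) (tt N101972 (iv0 F435158)) (tt N102044 (iv2 F435488)) (tt N58702 F409182) (tt N82573 F409183) (tt N94864 F409184) (tt N78436 F409185) (tt N58700 (iv7 D198776)))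
theorem Q95699 : ∀ i, i < 95699 → P i := stepQ 95698 Q95698 (allL N95698 (tt N86116 F409192) (tt N99338 (iv0 F424164)) (tt N114943 F492679) (tt N66901 F409188) (tt N89807 F409189) (tt N75182 F409190) (tt N58701 (iv6 D198777)) (tt N76893 (iv7 F409191)))
theorem Q95700 : ∀ i, i < 95700 → P i := stepQ 95699 Q95699 (allL N95699 (tt N59949 (iv1 F409198)) (tt N59951 F409199) (tt N58711 F409194) (tt N94864 F409195) (tt N59635 F409196) (tt N58702 F409197) (tt N105029 F448464) (tt N58701 (iv7 D198778)))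
theorem Q95701 : ∀ i, i < 95701 → P i := stepQ 95700 Q95700 (allL N95700 (tt N99521 F424970) (tt N63985 (iv0 F409202)) (tt N118968 (iv2 F513025)) (tt N88924 F409200) (tt N58708 F409201) (tt N118970 D222229) (tt N58707 (iv6 D198779)) (tt N118971 D222230))
theorem Q95702 : ∀ i, i < 95702 → P i := stepQ 95701 Q95701 (allL N95701 (tt N100619 F429728) (tt N85181 F409207) (tt N93358 F409205) (tt N85154 (iv3 F420150)) (tt N118971 (iv4 F513046)) (tt N70146 F409206) (tt N107508 (iv6 F458578)) (tt N58708 (iv7 D198780)))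
theorem Q95703 : ∀ i, i < 95703 → P i := stepQ 95702 Q95702 (allL N95702 (tt N105045 (iv1 F448542)) (tt N59446 (iv0 F409209)) (tt N105044 F448537) (tt N58711 F409208) (tt N105508 (iv4 F450513)) (tt N58710 (iv5 D198781)) (tt N101380 F432817) (tt N105043 F448534))
theorem Q95704 : ∀ i, i < 95704 → P i := stepQ 95703 Q95703 (allL N95703 (tt N59447 F409211) (tt N101325 F432659) (tt N105029 (iv2 F448465)) (tt N101380 (iv3 F432815)) (tt N59649 F409210) (tt N100834 (iv5 F430695)) (tt N58711 (iv6 D198782)) (tt N105028 F448459))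
theorem Q95705 : ∀ i, i < 95705 → P i := stepQ 95704 Q95704 (allL N95704 (tt N59388 (iv1 F409216)) (tt N59387 F409217) (tt N59045 F409212) (tt N58713 F409213) (tt N103861 (iv4 F443123)) (tt N58712 (iv5 D198783)) (tt N65474 F409214) (tt N59386 F409215))
theorem Q95706 : ∀ i, i < 95706 → P i := stepQ 95705 Q95705 (allL N95705 (tt N102308 F436647) (tt N112767 F482564) (tt N58726 F409218) (tt N65474 F409219) (tt N64920 F409220) (tt N65473 F409221) (tt N58713 (iv6 D198784)) (tt N64916 F409222))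
theorem Q95707 : ∀ i, i < 95707 → P i := stepQ 95706 Q95706 (allL N95706 (tt N59952 (iv1 F409228)) (tt N59498 F409227) (tt N58715 (iv2 D198785)) (tt N59496 F409223) (tt N65763 F409224) (tt N118682 (iv5 F511521)) (tt N79198 F409225) (tt N59953 F409226))
theorem Q95708 : ∀ i, i < 95708 → P i := stepQ 95707 Q95707 (allL N95707 (tt N58718 (iv1 F409230)) (tt N58716 (iv0 D198786)) (tt N59518 (iv2 F409231)) (tt N115055 (iv3 F493257)) (tt N95951 (iv4 F410397)) (tt N59829 F409229) (tt N101054 (iv6 F431472)) (tt N59517 (iv7 F409232)))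
theorem Q95709 : ∀ i, i < 95709 → P i := stepQ 95708 Q95708 (allL N95708 (tt N58716 (iv1 D198787)) (tt N58718 F409233) (tt N59517 F409237) (tt N59541 F409238) (tt N95950 (iv4 F410388)) (tt N64610 F409235) (tt N94605 (iv6 F409236)) (tt N59518 F409234))
theorem Q95710 : ∀ i, i < 95710 → P i := stepQ 95709 Q95709 (allL N95709 (tt N59546 (iv1 F409244)) (tt N59545 (iv0 F409243)) (tt N59548 F409239) (tt N117619 (iv3 F506029)) (tt N67231 F409240) (tt N79200 F409241) (tt N58716 (iv6 D198788)) (tt N59357 F409242))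
theorem Q95711 : ∀ i, i < 95711 → P i := stepQ 95710 Q95710 (allL N95710 (tt N59496 (iv1 F409248)) (tt N58717 (iv0 D198789)) (tt N59341 (iv2 F409247)) (tt N59493 F409245) (tt N59844 F409246) (tt N105045 (iv5 F448540)) (tt N93451 (iv6 F409250)) (tt N59497 F409249))
theorem Q95712 : ∀ i, i < 95712 → P i := stepQ 95711 Q95711 (allL N95711 (tt N59341 (iv1 F409255)) (tt N59497 F409254) (tt N58717 (iv2 D198790)) (tt N59953 F409251) (tt N77801 F409252) (tt N96438 (iv5 F412519)) (tt N112025 (iv6 F479135)) (tt N59496 F409253))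
theorem Q95713 : ∀ i, i < 95713 → P i := stepQ 95712 Q95712 (allL N95712 (tt N96436 (iv1 F412510)) (tt N59515 F409259) (tt N96438 F412520) (tt N58718 F409256) (tt N118972 D222231) (tt N58717 (iv5 D198791)) (tt N59346 F409257) (tt N59958 F409258))
theorem Q95714 : ∀ i, i < 95714 → P i := stepQ 95713 Q95713 (allL N95713 (tt N59623 (iv1 F409260)) (tt N58719 (iv0 D198792)) (tt N59622 (iv2 F409270)) (tt N59364 (iv3 F412131)) (tt N106826 (iv4 F455855)) (tt N118973 D222232) (tt N82443 (iv6 F409267)) (tt N59597 F409265))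
theorem Q95715 : ∀ i, i < 95715 → P i := stepQ 95714 Q95714 (allL N95714 (tt N58719 (iv1 D198793)) (tt N59623 (iv0 F409264)) (tt N59597 (iv2 F409262)) (tt N96037 (iv3 F410750)) (tt N80967 F409261) (tt N118974 D222233) (tt N80966 (iv6 F409263)) (tt N59622 (iv7 F409272)))
theorem Q95716 : ∀ i, i < 95716 → P i := stepQ 95715 Q95715 (allL N95715 (tt N59622 (iv1 F409278)) (tt N59597 F409277) (tt N58719 (iv2 D198794)) (tt N59626 F409273) (tt N60056 F409274) (tt N117482 (iv5 F505263)) (tt N64969 F409275) (tt N59623 F409276))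
theorem Q95717 : ∀ i, i < 95717 → P i := stepQ 95716 Q95716 (allL N95716 (tt N112833 (iv1 F482856)) (tt N86069 (iv0 F409282)) (tt N117482 F505265) (tt N58720 F409279) (tt N86195 F409281) (tt N58719 (iv5 D198795)) (tt N118975 D222234) (tt N59583 F409280))
theorem Q95718 : ∀ i, i < 95718 → P i := stepQ 95717 Q95717 (allL N95717 (tt N59619 (iv1 F409288)) (tt N59618 (iv0 F409287)) (tt N59620 F409283) (tt N118975 (iv3 F513067)) (tt N59564 F409284) (tt N64971 F409285) (tt N58720 (iv6 D198796)) (tt N59373 F409286))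
theorem Q95719 : ∀ i, i < 95719 → P i := stepQ 95718 Q95718 (allL N95718 (tt N59566 (iv1 F409293)) (tt N59625 F409292) (tt N58721 (iv2 D198797)) (tt N59623 F409289) (tt N60624 F409290) (tt N106937 (iv5 F456354)) (tt N101126 (iv6 F431818)) (tt N59626 F409291))
theorem Q95720 : ∀ i, i < 95720 → P i := stepQ 95719 Q95719 (allL N95719 (tt N109354 F466538) (tt N110455 F471670) (tt N106937 (iv2 F456352)) (tt N58722 F409294) (tt N73130 F409297) (tt N58721 (iv5 D198798)) (tt N59366 F409295) (tt N59628 F409296))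
theorem Q95721 : ∀ i, i < 95721 → P i := stepQ 95720 Q95720 (allL N95720 (tt N118973 (iv1 F513061)) (tt N118974 (iv0 F513065)) (tt N61156 F409301) (tt N58723 (iv3 D198799)) (tt N61130 F409298) (tt N73090 F409299) (tt N61134 (iv6 F409302)) (tt N59630 F409300))
theorem Q95722 : ∀ i, i < 95722 → P i := stepQ 95721 Q95721 (allL N95721 (tt N118976 D222235) (tt N107223 (iv0 F457525)) (tt N59634 F409303) (tt N61134 F409304) (tt N76583 F409305) (tt N81990 F409306) (tt N58723 (iv6 D198800)) (tt N59655 F409307))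
theorem Q95723 : ∀ i, i < 95723 → P i := stepQ 95722 Q95722 (allL N95722 (tt N97581 (iv1 F417455)) (tt N97584 (iv0 F417471)) (tt N118149 (iv2 F508865)) (tt N58724 (iv3 D198801)) (tt N71903 F409312) (tt N73091 F409313) (tt N59656 F409314) (tt N59632 F409315))
theorem Q95724 : ∀ i, i < 95724 → P i := stepQ 95723 Q95723 (allL N95723 (tt N116441 (iv1 F500132)) (tt N71278 (iv0 F454124)) (tt N114540 (iv2 F490676)) (tt N58725 (iv3 D198802)) (tt N58967 F409316) (tt N114531 (iv5 F490630)) (tt N111280 (iv6 F475607)) (tt N59637 F409317))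
theorem Q95725 : ∀ i, i < 95725 → P i := stepQ 95724 Q95724 (allL N95724 (tt N64918 (iv1 F409321)) (tt N64917 F409322) (tt N64920 F409318) (tt N111280 (iv3 F475605)) (tt N58726 F409319) (tt N116180 (iv5 F498883)) (tt N58725 (iv6 D198803)) (tt N64515 F409320))
theorem Q95726 : ∀ i, i < 95726 → P i := stepQ 95725 Q95725 (allL N95725 (tt N58726 (iv1 D198804)) (tt N64916 F409323) (tt N112767 F482563) (tt N108980 (iv3 F464749)) (tt N64840 F436651) (tt N102309 (iv5 F436656)) (tt N117592 (iv6 F505883)) (tt N102308 F436652))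
theorem Q95727 : ∀ i, i < 95727 → P i := stepQ 95726 Q95726 (allL N95726 (tt N93708 F409329) (tt N73056 (iv0 F409327)) (tt N65473 F409324) (tt N59662 F409325) (tt N94332 (iv4 F409328)) (tt N58726 (iv5 D198805)) (tt N58729 F409326) (tt N112768 (iv7 F482570)))
theorem Q95728 : ∀ i, i < 95728 → P i := stepQ 95727 Q95727 (allL N95727 (tt N91588 F409332) (tt N59069 (iv0 F409333)) (tt N93445 F409337) (tt N58730 (iv3 D198806)) (tt N93074 F409330) (tt N65463 F409334) (tt N100825 (iv6 F430652)) (tt N93444 F409331))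
theorem Q95729 : ∀ i, i < 95729 → P i := stepQ 95728 Q95728 (allL N95728 (tt N82408 F409345) (tt N64159 F409346) (tt N95733 (iv2 F409361)) (tt N65463 F409342) (tt N77862 F409344) (tt N58730 (iv5 D198807)) (tt N73064 F409343) (tt N95731 (iv7 F409354)))
theorem Q95730 : ∀ i, i < 95730 → P i := stepQ 95729 Q95729 (allL N95729 (tt N93451 F409347) (tt N72889 (iv0 F409348)) (tt N117681 (iv2 F506385)) (tt N58731 (iv3 D198808)) (tt N108280 (iv4 F461846)) (tt N118977 D222236) (tt N100911 (iv6 F430929)) (tt N95732 (iv7 F409360)))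
theorem Q95731 : ∀ i, i < 95731 → P i := stepQ 95730 Q95730 (allL N95730 (tt N64159 F409350) (tt N82408 F409351) (tt N95731 (iv2 F409352)) (tt N118977 (iv3 F513081)) (tt N77861 F409349) (tt N58731 (iv5 D198809)) (tt N117883 (iv6 F507417)) (tt N95733 (iv7 F409362)))
theorem Q95732 : ∀ i, i < 95732 → P i := stepQ 95731 Q95731 (allL N95731 (tt N100742 (iv1 F430257)) (tt N78444 F409355) (tt N95730 F409352) (tt N59056 F409353) (tt N92464 F409356) (tt N58732 (iv5 D198810)) (tt N92463 (iv6 F409357)) (tt N95728 F409354))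
theorem Q95733 : ∀ i, i < 95733 → P i := stepQ 95732 Q95732 (allL N95732 (tt N107729 F459430) (tt N96320 (iv0 F412016)) (tt N107731 (iv2 F459438)) (tt N58735 (iv3 D198811)) (tt N81547 F409358) (tt N117010 (iv5 F502957)) (tt N80552 F409359) (tt N95729 F409360))
theorem Q95734 : ∀ i, i < 95734 → P i := stepQ 95733 Q95733 (allL N95733 (tt N78444 F409363) (tt N100742 (iv0 F430256)) (tt N95728 F409361) (tt N117010 F502958) (tt N93391 F409364) (tt N58735 (iv5 D198812)) (tt N95098 (iv6 F409365)) (tt N95730 F409362))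
theorem Q95735 : ∀ i, i < 95735 → P i := stepQ 95734 Q95734 (allL N95734 (tt N100717 (iv1 F430167)) (tt N81566 F409367) (tt N100728 (iv2 F430190)) (tt N58739 F409366) (tt N115145 (iv4 F493701)) (tt N58738 (iv5 D198813)) (tt N115144 (iv6 F493697)) (tt N96957 (iv7 F414774)))
theorem Q95736 : ∀ i, i < 95736 → P i := stepQ 95735 Q95735 (allL N95735 (tt N87625 (iv1 F409369)) (tt N58739 (iv0 D198814)) (tt N95421 (iv2 F409370)) (tt N116079 F498353) (tt N118978 D222237) (tt N95309 F409368) (tt N115456 F495280) (tt N96958 (iv7 F414780)))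
theorem Q95737 : ∀ i, i < 95737 → P i := stepQ 95736 Q95736 (allL N95736 (tt N58739 (iv1 D198815)) (tt N87625 F409371) (tt N96958 F414778) (tt N110915 (iv3 F473769)) (tt N118979 D222238) (tt N59732 F409373) (tt N112715 (iv6 F482326)) (tt N95421 F409372))
theorem Q95738 : ∀ i, i < 95738 → P i := stepQ 95737 Q95737 (allL N95737 (tt N85682 F409377) (tt N115452 (iv0 F495265)) (tt N79854 F409374) (tt N86813 (iv3 F409375)) (tt N58739 (iv4 D198816)) (tt N111229 (iv5 F475327)) (tt N79851 (iv6 F409376)) (tt N96959 (iv7 F414790)))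
theorem Q95739 : ∀ i, i < 95739 → P i := stepQ 95738 Q95738 (allL N95738 (tt N111142 (iv1 F474904)) (tt N111140 (iv0 F474892)) (tt N79853 F409378) (tt N115144 (iv3 F493694)) (tt N79851 F409379) (tt N79809 (iv5 F409380)) (tt N58739 (iv6 D198817)) (tt N112436 (iv7 F481105)))
theorem Q95740 : ∀ i, i < 95740 → P i := stepQ 95739 Q95739 (allL N95739 (tt N59802 F409386) (tt N81175 F409387) (tt N87392 F409381) (tt N79471 F409382) (tt N79810 F409385) (tt N58740 (iv5 D198818)) (tt N79809 F409383) (tt N95390 F409384))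
theorem Q95741 : ∀ i, i < 95741 → P i := stepQ 95740 Q95740 (allL N95740 (tt N95342 F409393) (tt N71705 F409396) (tt N59744 F409389) (tt N84699 F409390) (tt N58741 (iv4 D198819)) (tt N84698 (iv5 F409394)) (tt N59690 F409391) (tt N95315 F409392))
theorem Q95742 : ∀ i, i < 95742 → P i := stepQ 95741 Q95741 (allL N95741 (tt N59846 F409401) (tt N59907 F409402) (tt N95553 F409398) (tt N79872 F409399) (tt N118980 D222239) (tt N58742 (iv5 D198820)) (tt N115284 (iv6 F494374)) (tt N95554 F409400))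
theorem Q95743 : ∀ i, i < 95743 → P i := stepQ 95742 Q95742 (allL N95742 (tt N69599 (iv1 F409404)) (tt N58744 (iv0 D198821)) (tt N69596 (iv2 F409407)) (tt N99647 (iv3 F425565)) (tt N60254 F409403) (tt N118981 D222240) (tt N108500 (iv6 F462866)) (tt N69597 (iv7 F409406)))
theorem Q95744 : ∀ i, i < 95744 → P i := stepQ 95743 Q95743 (allL N95743 (tt N58744 (iv1 D198822)) (tt N69599 F409409) (tt N69597 F409412) (tt N108543 (iv3 F463022)) (tt N60255 (iv4 F409411)) (tt N118982 D222241) (tt N98154 (iv6 F419743)) (tt N69596 F409410))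
theorem Q95745 : ∀ i, i < 95745 → P i := stepQ 95744 Q95744 (allL N95744 (tt N118983 D222242) (tt N115844 (iv0 F497196)) (tt N69598 F409413) (tt N91765 F409414) (tt N115654 (iv4 F496164)) (tt N58744 (iv5 D198823)) (tt N60226 F409415) (tt N91763 F409416))
theorem Q95746 : ∀ i, i < 95746 → P i := stepQ 95745 Q95745 (allL N95745 (tt N92117 F409420) (tt N92332 F409422) (tt N66025 F409417) (tt N72413 F409418) (tt N71705 F409421) (tt N58748 (iv5 D198824)) (tt N71704 F409419) (tt N96960 (iv7 F414795)))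
theorem Q95747 : ∀ i, i < 95747 → P i := stepQ 95746 Q95746 (allL N95746 (tt N66269 F409427) (tt N74203 (iv0 F409429)) (tt N74202 F409423) (tt N59054 F409424) (tt N72660 F409426) (tt N58749 (iv5 D198825)) (tt N62621 F409428) (tt N74201 F409425))
theorem Q95748 : ∀ i, i < 95748 → P i := stepQ 95747 Q95747 (allL N95747 (tt N94075 F409433) (tt N95819 (iv0 F409791)) (tt N92674 F409430) (tt N59055 F409431) (tt N78043 F409432) (tt N65652 F409434) (tt N58749 (iv6 D198826)) (tt N92673 (iv7 F409435)))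
theorem Q95749 : ∀ i, i < 95749 → P i := stepQ 95748 Q95748 (allL N95748 (tt N60067 F409439) (tt N92497 F409440) (tt N73328 F409436) (tt N102785 (iv3 F438643)) (tt N73324 F409437) (tt N58751 (iv5 D198827)) (tt N80641 (iv6 F409441)) (tt N92495 F409438))
theorem Q95750 : ∀ i, i < 95750 → P i := stepQ 95749 Q95749 (allL N95749 (tt N66034 F409444) (tt N80784 (iv0 F409446)) (tt N81004 F409442) (tt N100706 F430106) (tt N92558 F409443) (tt N90172 F409445) (tt N58751 (iv6 D198828)) (tt N81003 (iv7 F409447)))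
theorem Q95751 : ∀ i, i < 95751 → P i := stepQ 95750 Q95750 (allL N95750 (tt N94033 F409451) (tt N74279 F409452) (tt N58753 F409448) (tt N97057 (iv3 F415251)) (tt N73316 F409449) (tt N58752 (iv5 D198829)) (tt N76735 F409453) (tt N92547 F409450))
theorem Q95752 : ∀ i, i < 95752 → P i := stepQ 95751 Q95751 (allL N95751 (tt N63205 F409459) (tt N65306 F409460) (tt N58754 F409454) (tt N79395 F409455) (tt N95630 F409456) (tt N68494 F409457) (tt N58752 (iv6 D198830)) (tt N75395 F409458))
theorem Q95753 : ∀ i, i < 95753 → P i := stepQ 95752 Q95752 (allL N95752 (tt N58753 (iv1 D198831)) (tt N92547 F409461) (tt N74279 (iv2 F409465)) (tt N118427 (iv3 F510293)) (tt N74277 F409464) (tt N58771 F409463) (tt N112505 (iv6 F481405)) (tt N94033 F409462))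
theorem Q95754 : ∀ i, i < 95754 → P i := stepQ 95753 Q95753 (allL N95753 (tt N66037 F409468) (tt N66046 (iv0 F409469)) (tt N96964 (iv2 F414817)) (tt N101526 (iv3 F433255)) (tt N59674 F409466) (tt N80449 F409467) (tt N58756 (iv6 D198832)) (tt N106223 (iv7 F453634)))
theorem Q95755 : ∀ i, i < 95755 → P i := stepQ 95754 Q95754 (allL N95754 (tt N97104 (iv1 F415486)) (tt N95103 (iv0 F409473)) (tt N95286 F409470) (tt N64240 F409471) (tt N77917 F409472) (tt N95833 (iv5 F409861)) (tt N58757 (iv6 D198833)) (tt N80121 (iv7 F409474)))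
theorem Q95756 : ∀ i, i < 95756 → P i := stepQ 95755 Q95755 (allL N95755 (tt N64089 F409479) (tt N79512 (iv0 F409480)) (tt N79510 F409475) (tt N115121 (iv3 F493592)) (tt N68548 F409476) (tt N58813 F409477) (tt N58762 (iv6 D198834)) (tt N79511 F409478))
theorem Q95757 : ∀ i, i < 95757 → P i := stepQ 95756 Q95756 (allL N95756 (tt N79824 F409485) (tt N97084 (iv0 F415408)) (tt N118984 D222243) (tt N58763 (iv3 D198835)) (tt N82423 F409484) (tt N71744 F409481) (tt N80047 F409482) (tt N79787 F409483))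
theorem Q95758 : ∀ i, i < 95758 → P i := stepQ 95757 Q95757 (allL N95757 (tt N79620 (iv1 F409488)) (tt N58764 (iv0 D198836)) (tt N79618 (iv2 F409489)) (tt N116827 (iv3 F502035)) (tt N95863 F410006) (tt N60377 F409486) (tt N75840 F409487) (tt N79619 (iv7 F409490)))
theorem Q95759 : ∀ i, i < 95759 → P i := stepQ 95758 Q95758 (allL N95758 (tt N58764 (iv1 D198837)) (tt N79620 F409491) (tt N79619 (iv2 F409494)) (tt N112388 (iv3 F480869)) (tt N118985 D222244) (tt N60378 F409493) (tt N101806 F434424) (tt N79618 F409492))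
theorem Q95760 : ∀ i, i < 95760 → P i := stepQ 95759 Q95759 (allL N95759 (tt N93761 F409498) (tt N69841 (iv0 F409499)) (tt N79617 F409495) (tt N61926 F409496) (tt N58764 (iv4 D198838)) (tt N118986 D222245) (tt N79607 F409497) (tt N97061 (iv7 F415274)))
theorem Q95761 : ∀ i, i < 95761 → P i := stepQ 95760 Q95760 (allL N95760 (tt N58814 F409502) (tt N58765 (iv0 D198839)) (tt N58812 F409504) (tt N112386 (iv3 F480856)) (tt N62132 F409503) (tt N79511 F409500) (tt N100363 (iv6 F428605)) (tt N58813 (iv7 F409501)))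
theorem Q95762 : ∀ i, i < 95762 → P i := stepQ 95761 Q95761 (allL N95761 (tt N58765 (iv1 D198840)) (tt N58814 F409505) (tt N58813 F409510) (tt N101667 (iv3 F433765)) (tt N62133 F409508) (tt N79510 F409507) (tt N75684 (iv6 F409509)) (tt N58812 F409506))
theorem Q95763 : ∀ i, i < 95763 → P i := stepQ 95762 Q95762 (allL N95762 (tt N58813 (iv1 F409518)) (tt N58812 F409519) (tt N58814 F409514) (tt N65833 F409515) (tt N61935 F409516) (tt N64107 F409517) (tt N97065 (iv6 F415292)) (tt N58765 (iv7 D198841)))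
theorem Q95764 : ∀ i, i < 95764 → P i := stepQ 95763 Q95763 (allL N95763 (tt N63591 F409524) (tt N79723 F409525) (tt N58826 F409520) (tt N100135 (iv3 F427626)) (tt N58767 F409521) (tt N74526 F409522) (tt N58766 (iv6 D198842)) (tt N81266 F409523))
theorem Q95765 : ∀ i, i < 95765 → P i := stepQ 95764 Q95764 (allL N95764 (tt N96965 (iv1 F414827)) (tt N80185 (iv0 F409529)) (tt N79658 F409526) (tt N58771 (iv3 D198843)) (tt N75380 F409527) (tt N118427 (iv5 F510292)) (tt N79657 F409528) (tt N97067 (iv7 F415300)))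
theorem Q95766 : ∀ i, i < 95766 → P i := stepQ 95765 Q95765 (allL N95765 (tt N94111 F409534) (tt N79522 F409535) (tt N58774 F409530) (tt N79519 F409531) (tt N95465 F409532) (tt N66328 F409533) (tt N58772 (iv6 D198844)) (tt N102849 (iv7 F438928)))
theorem Q95767 : ∀ i, i < 95767 → P i := stepQ 95766 Q95766 (allL N95766 (tt N79522 (iv1 F409539)) (tt N94111 F409540) (tt N102849 (iv2 F438933)) (tt N58779 F409536) (tt N95466 F409537) (tt N102850 (iv5 F438934)) (tt N58892 F409538) (tt N58774 (iv7 D198845)))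
theorem Q95768 : ∀ i, i < 95768 → P i := stepQ 95767 Q95767 (allL N95767 (tt N97077 (iv1 F415359)) (tt N77698 (iv0 F409545)) (tt N78837 F409541) (tt N66325 F409542) (tt N63684 F409543) (tt N66324 F409544) (tt N97073 (iv6 F415337)) (tt N58775 (iv7 D198846)))
theorem Q95769 : ∀ i, i < 95769 → P i := stepQ 95768 Q95768 (allL N95768 (tt N112288 (iv1 F480376)) (tt N94927 (iv0 F409550)) (tt N79550 F409546) (tt N58776 (iv3 D198847)) (tt N94814 F409547) (tt N90472 (iv5 F409549)) (tt N76725 F409548) (tt N97079 (iv7 F415374)))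
theorem Q95770 : ∀ i, i < 95770 → P i := stepQ 95769 Q95769 (allL N95769 (tt N102253 (iv1 F436390)) (tt N94079 F409554) (tt N97078 (iv2 F415366)) (tt N90472 F409551) (tt N118987 D222246) (tt N58776 (iv5 D198848)) (tt N81276 F409552) (tt N81283 F409553))
theorem Q95771 : ∀ i, i < 95771 → P i := stepQ 95770 Q95770 (allL N95770 (tt N94079 F409558) (tt N102253 (iv0 F436389)) (tt N81283 F409555) (tt N79555 F409556) (tt N108126 (iv4 F461218)) (tt N58777 (iv5 D198849)) (tt N63582 F409557) (tt N97078 (iv7 F415368)))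
theorem Q95772 : ∀ i, i < 95772 → P i := stepQ 95771 Q95771 (allL N95771 (tt N97081 (iv1 F415384)) (tt N58778 (iv0 D198850)) (tt N97080 F415376) (tt N112505 (iv3 F481404)) (tt N111610 (iv4 F477149)) (tt N65853 F409560) (tt N118427 (iv6 F510294)) (tt N94175 (iv7 F409561)))
theorem Q95773 : ∀ i, i < 95773 → P i := stepQ 95772 Q95772 (allL N95772 (tt N79607 F409565) (tt N65851 F409566) (tt N79614 F409562) (tt N62213 F409563) (tt N58778 (iv4 D198851)) (tt N116840 (iv5 F502117)) (tt N62211 F409564) (tt N79613 (iv7 F409567)))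
theorem Q95774 : ∀ i, i < 95774 → P i := stepQ 95773 Q95773 (allL N95773 (tt N94175 (iv1 F409574)) (tt N97080 F415379) (tt N97081 (iv2 F415380)) (tt N102850 (iv3 F438936)) (tt N79613 F409572) (tt N58779 F409573) (tt N103952 (iv6 F443507)) (tt N58778 (iv7 D198852)))
theorem Q95775 : ∀ i, i < 95775 → P i := stepQ 95774 Q95774 (allL N95774 (tt N79511 (iv1 F409579)) (tt N79510 (iv0 F409580)) (tt N64089 F409575) (tt N58780 (iv3 D198853)) (tt N63553 F409576) (tt N100709 (iv5 F430119)) (tt N75841 (iv6 F409578)) (tt N79512 F409577))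
theorem Q95776 : ∀ i, i < 95776 → P i := stepQ 95775 Q95775 (allL N95775 (tt N58817 F409588) (tt N64259 (iv0 F409589)) (tt N64137 F409583) (tt N75841 F409584) (tt N58782 F409585) (tt N63557 F409586) (tt N58780 (iv6 D198854)) (tt N63556 F409587))
theorem Q95777 : ∀ i, i < 95777 → P i := stepQ 95776 Q95776 (allL N95776 (tt N96889 (iv1 F414458)) (tt N93850 F409594) (tt N74740 F409590) (tt N109908 F469165) (tt N58781 (iv4 D198855)) (tt N93585 F409593) (tt N77913 F409591) (tt N93697 F409592))
theorem Q95778 : ∀ i, i < 95778 → P i := stepQ 95777 Q95777 (allL N95777 (tt N59415 (iv1 F409597)) (tt N58784 (iv0 D198856)) (tt N59414 (iv2 F409674)) (tt N94812 F409596) (tt N79824 F409595) (tt N105027 (iv5 F448451)) (tt N78467 (iv6 F409598)) (tt N59413 (iv7 F409677)))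
theorem Q95779 : ∀ i, i < 95779 → P i := stepQ 95778 Q95778 (allL N95778 (tt N58784 (iv1 D198857)) (tt N59415 F409599) (tt N59413 F409678) (tt N86121 F409601) (tt N97084 (iv4 F415405)) (tt N86051 (iv5 F409600)) (tt N112633 (iv6 F481921)) (tt N59414 F409676))
theorem Q95780 : ∀ i, i < 95780 → P i := stepQ 95779 Q95779 (allL N95779 (tt N97073 (iv1 F415339)) (tt N58786 (iv0 D198858)) (tt N97071 (iv2 F415327)) (tt N77701 (iv3 F409611)) (tt N98863 (iv4 F422606)) (tt N81676 F409605) (tt N100355 F428564) (tt N97072 (iv7 F415329)))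
theorem Q95781 : ∀ i, i < 95781 → P i := stepQ 95780 Q95780 (allL N95780 (tt N58786 (iv1 D198859)) (tt N97073 F415338) (tt N97072 (iv2 F415331)) (tt N66501 (iv3 F409609)) (tt N98864 (iv4 F422613)) (tt N110512 (iv5 F471919)) (tt N66499 F409610) (tt N97071 F415326))
theorem Q95782 : ∀ i, i < 95782 → P i := stepQ 95781 Q95781 (allL N95781 (tt N100415 F428870) (tt N63239 (iv0 F409606)) (tt N68290 F409602) (tt N88494 F409603) (tt N63233 F409607) (tt N58786 (iv5 D198860)) (tt N58788 F409604) (tt N104236 (iv7 F444858)))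
theorem Q95783 : ∀ i, i < 95783 → P i := stepQ 95782 Q95782 (allL N95782 (tt N97072 (iv1 F415328)) (tt N97071 F415333) (tt N97073 (iv2 F415334)) (tt N78839 F409614) (tt N99083 (iv4 F423270)) (tt N104236 (iv5 F444860)) (tt N78837 F409615) (tt N58786 (iv7 D198861)))
theorem Q95784 : ∀ i, i < 95784 → P i := stepQ 95783 Q95783 (allL N95783 (tt N80184 F409620) (tt N78568 (iv0 F409621)) (tt N80744 F409616) (tt N58787 (iv3 D198862)) (tt N59483 F409617) (tt N80752 F409622) (tt N80281 F409618) (tt N59462 F409619))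
theorem Q95785 : ∀ i, i < 95785 → P i := stepQ 95784 Q95784 (allL N95784 (tt N75604 F409629) (tt N68407 F409630) (tt N69277 F409624) (tt N80752 F409625) (tt N81716 F409626) (tt N58787 (iv5 D198863)) (tt N69271 F409627) (tt N59464 F409628))
theorem Q95786 : ∀ i, i < 95786 → P i := stepQ 95785 Q95785 (allL N95785 (tt N80749 F409633) (tt N60485 (iv0 F409635)) (tt N93972 F409631) (tt N115414 (iv3 F495073)) (tt N58791 (iv4 D198864)) (tt N88772 F409634) (tt N101733 F434088) (tt N88771 F409632))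
theorem Q95787 : ∀ i, i < 95787 → P i := stepQ 95786 Q95786 (allL N95786 (tt N60394 F409639) (tt N58806 (iv0 F409640)) (tt N60396 F409636) (tt N101863 F434722) (tt N89503 F409638) (tt N58791 (iv5 D198865)) (tt N81114 (iv6 F409641)) (tt N60395 F409637))
theorem Q95788 : ∀ i, i < 95788 → P i := stepQ 95787 Q95787 (allL N95787 (tt N80669 (iv1 F409652)) (tt N58877 (iv0 F409651)) (tt N91526 F409648) (tt N64245 F409649) (tt N101733 (iv4 F434086)) (tt N111473 (iv5 F476505)) (tt N58791 (iv6 D198866)) (tt N79878 F409650))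
theorem Q95789 : ∀ i, i < 95789 → P i := stepQ 95788 Q95788 (allL N95788 (tt N102021 F435387) (tt N79789 (iv0 F409656)) (tt N79873 F409653) (tt N58792 (iv3 D198867)) (tt N79689 (iv4 F409655)) (tt N118988 D222247) (tt N79687 F409654) (tt N97082 (iv7 F415385)))
theorem Q95790 : ∀ i, i < 95790 → P i := stepQ 95789 Q95789 (allL N95789 (tt N60485 (iv1 F409663)) (tt N80749 (iv0 F409662)) (tt N88771 F409658) (tt N60443 F409661) (tt N58792 (iv4 D198868)) (tt N84020 F409660) (tt N101883 F434807) (tt N93972 F409659))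
theorem Q95791 : ∀ i, i < 95791 → P i := stepQ 95790 Q95790 (allL N95790 (tt N58806 F409666) (tt N60394 (iv0 F409667)) (tt N60395 F409664) (tt N118988 (iv3 F513141)) (tt N110930 (iv4 F473841)) (tt N58792 (iv5 D198869)) (tt N117473 (iv6 F505211)) (tt N60396 F409665))
theorem Q95792 : ∀ i, i < 95792 → P i := stepQ 95791 Q95791 (allL N95791 (tt N117129 F503537) (tt N118458 (iv0 F510482)) (tt N79612 F409668) (tt N77438 F409669) (tt N58796 (iv4 D198870)) (tt N109344 F466489) (tt N109605 (iv6 F467694)) (tt N79609 F409670))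
theorem Q95793 : ∀ i, i < 95793 → P i := stepQ 95792 Q95792 (allL N95792 (tt N79787 (iv1 F415409)) (tt N118984 F513122) (tt N79824 F409671) (tt N58798 (iv3 D198871)) (tt N59414 F409673) (tt N116458 (iv5 F500234)) (tt N79761 F409672) (tt N97084 (iv7 F415407)))
theorem Q95794 : ∀ i, i < 95794 → P i := stepQ 95793 Q95793 (allL N95793 (tt N62137 F409683) (tt N58808 F409684) (tt N62136 F409680) (tt N116458 (iv3 F500232)) (tt N95562 F409682) (tt N58798 (iv5 D198872)) (tt N112847 (iv6 F482940)) (tt N62135 F409681))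
theorem Q95795 : ∀ i, i < 95795 → P i := stepQ 95794 Q95794 (allL N95794 (tt N58808 F409688) (tt N62137 F409689) (tt N62135 F409685) (tt N94049 F409686) (tt N103959 (iv4 F443525)) (tt N58799 (iv5 D198873)) (tt N67001 F409690) (tt N62136 F409687))
theorem Q95796 : ∀ i, i < 95796 → P i := stepQ 95795 Q95795 (allL N95795 (tt N102654 F438080) (tt N97386 (iv0 F416649)) (tt N71747 F409691) (tt N58805 F409692) (tt N72722 F409693) (tt N58804 (iv5 D198874)) (tt N77731 F409694) (tt N63795 F409695))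
theorem Q95797 : ∀ i, i < 95797 → P i := stepQ 95796 Q95796 (allL N95796 (tt N89591 F409699) (tt N117480 F505255) (tt N116583 (iv2 F500843)) (tt N61810 F409696) (tt N58806 (iv4 D198875)) (tt N107511 (iv5 F458594)) (tt N81078 F409697) (tt N60397 F409698))
theorem Q95798 : ∀ i, i < 95798 → P i := stepQ 95797 Q95797 (allL N95797 (tt N61871 (iv1 F409701)) (tt N58810 (iv0 D198876)) (tt N61874 (iv2 F409702)) (tt N102776 (iv3 F438597)) (tt N99831 (iv4 F426434)) (tt N61773 F409700) (tt N61940 (iv6 F409703)) (tt N61873 (iv7 F409704)))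
theorem Q95799 : ∀ i, i < 95799 → P i := stepQ 95798 Q95798 (allL N95798 (tt N58810 (iv1 D198877)) (tt N61871 F409705) (tt N61873 F409710) (tt N77892 (iv3 F409708)) (tt N103154 (iv4 F440329)) (tt N61774 F409707) (tt N77891 (iv6 F409709)) (tt N61874 F409706))
theorem Q95800 : ∀ i, i < 95800 → P i := stepQ 95799 Q95799 (allL N95799 (tt N61935 (iv1 F409718)) (tt N58811 (iv0 D198878)) (tt N61932 (iv2 F409715)) (tt N118989 D222248) (tt N97375 (iv4 F416586)) (tt N109931 (iv5 F469281)) (tt N100409 (iv6 F428845)) (tt N61933 (iv7 F409716)))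
theorem Q95801 : ∀ i, i < 95801 → P i := stepQ 95800 Q95800 (allL N95800 (tt N58811 (iv1 D198879)) (tt N61935 F409711) (tt N61933 F409717) (tt N79163 (iv3 F409713)) (tt N97376 (iv4 F416590)) (tt N81722 F409712) (tt N109607 (iv6 F467710)) (tt N61932 F409714))
theorem Q95802 : ∀ i, i < 95802 → P i := stepQ 95801 Q95801 (allL N95801 (tt N61933 (iv1 F409724)) (tt N61932 F409725) (tt N61935 F409719) (tt N77621 F409720) (tt N58814 F409721) (tt N62549 F409722) (tt N61887 F409723) (tt N58811 (iv7 D198880)))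
theorem Q95803 : ∀ i, i < 95803 → P i := stepQ 95802 Q95802 (allL N95802 (tt N110588 F472259) (tt N117473 F505213) (tt N117448 (iv2 F505084)) (tt N58812 (iv3 D198881)) (tt N81726 F409726) (tt N81002 (iv5 F409739)) (tt N100420 (iv6 F428890)) (tt N101667 (iv7 F433767)))
theorem Q95804 : ∀ i, i < 95804 → P i := stepQ 95803 Q95803 (allL N95803 (tt N62134 F409730) (tt N61816 F409731) (tt N62132 F409727) (tt N95221 F409728) (tt N58812 (iv4 D198882)) (tt N100448 (iv5 F429024)) (tt N100421 (iv6 F428895)) (tt N62133 F409729))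
theorem Q95805 : ∀ i, i < 95805 → P i := stepQ 95804 Q95804 (allL N95804 (tt N79512 F409737) (tt N64089 F409736) (tt N79511 F409732) (tt N81002 F409738) (tt N68547 F409735) (tt N58812 (iv5 D198883)) (tt N63483 F409733) (tt N79510 F409734))
theorem Q95806 : ∀ i, i < 95806 → P i := stepQ 95805 Q95805 (allL N95805 (tt N80772 F409744) (tt N104263 (iv0 F445009)) (tt N69263 F409740) (tt N58817 F409741) (tt N104252 (iv4 F444947)) (tt N69235 F409742) (tt N58816 (iv6 D198884)) (tt N69289 F409743))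
theorem Q95807 : ∀ i, i < 95807 → P i := stepQ 95806 Q95806 (allL N95806 (tt N68844 F409750) (tt N97948 (iv0 F418925)) (tt N94047 F409745) (tt N58823 F409746) (tt N68205 F409747) (tt N93013 F409748) (tt N58818 (iv6 D198885)) (tt N93013 F409749))
theorem Q95808 : ∀ i, i < 95808 → P i := stepQ 95807 Q95807 (allL N95807 (tt N102572 F437718) (tt N75730 (iv0 F409753)) (tt N109444 F466987) (tt N58822 (iv3 D198886)) (tt N68203 F409751) (tt N104596 (iv5 F446461)) (tt N111794 (iv6 F478009)) (tt N67569 F409752))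
theorem Q95809 : ∀ i, i < 95809 → P i := stepQ 95808 Q95808 (allL N95808 (tt N104472 F445914) (tt N104555 F446236) (tt N67574 F409754) (tt N111794 (iv3 F478008)) (tt N58823 F409755) (tt N118990 D222249) (tt N58822 (iv6 D198887)) (tt N96996 (iv7 F414971)))
theorem Q95810 : ∀ i, i < 95810 → P i := stepQ 95809 Q95809 (allL N95809 (tt N82793 F409758) (tt N87844 F409759) (tt N87845 F409760) (tt N58827 (iv3 D198888)) (tt N69800 F409756) (tt N104594 (iv5 F446453)) (tt N96998 (iv6 F414974)) (tt N67572 F409757))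
theorem Q95811 : ∀ i, i < 95811 → P i := stepQ 95810 Q95810 (allL N95810 (tt N59947 F409763) (tt N65761 F409764) (tt N58831 F409761) (tt N102026 (iv3 F435414)) (tt N118419 (iv4 F510252)) (tt N58830 (iv5 D198889)) (tt N118778 (iv6 F512012)) (tt N65759 F409762))
theorem Q95812 : ∀ i, i < 95812 → P i := stepQ 95811 Q95811 (allL N95811 (tt N65895 F409766) (tt N65902 F409767) (tt N118419 (iv2 F510250)) (tt N97000 F414980) (tt N58831 (iv4 D198890)) (tt N102360 (iv5 F436899)) (tt N113042 F483690) (tt N95441 F409765))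
theorem Q95813 : ∀ i, i < 95813 → P i := stepQ 95812 Q95812 (allL N95812 (tt N102092 (iv1 F435684)) (tt N111594 (iv0 F477073)) (tt N118778 F512014) (tt N58833 F409768) (tt N113042 (iv4 F483688)) (tt N92680 F409769) (tt N58831 (iv6 D198891)) (tt N118779 (iv7 F512017)))
theorem Q95814 : ∀ i, i < 95814 → P i := stepQ 95813 Q95813 (allL N95813 (tt N92690 (iv1 F409774)) (tt N58833 (iv0 D198892)) (tt N102028 (iv2 F435431)) (tt N118676 (iv3 F511482)) (tt N102124 (iv4 F435850)) (tt N97774 (iv5 F418261)) (tt N92709 F409770) (tt N102029 (iv7 F435433)))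
theorem Q95815 : ∀ i, i < 95815 → P i := stepQ 95814 Q95814 (allL N95814 (tt N58833 (iv1 D198893)) (tt N92690 F409771) (tt N102029 (iv2 F435436)) (tt N65667 F416872) (tt N102125 (iv4 F435859)) (tt N101974 (iv5 F435167)) (tt N65756 (iv6 F416871)) (tt N102028 (iv7 F435430)))
theorem Q95816 : ∀ i, i < 95816 → P i := stepQ 95815 Q95815 (allL N95815 (tt N102029 (iv1 F435432)) (tt N102028 F435428) (tt N92690 F409772) (tt N118779 F512020) (tt N102164 (iv4 F435994)) (tt N92681 F409773) (tt N97003 (iv6 F414985)) (tt N58833 (iv7 D198894)))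
theorem Q95817 : ∀ i, i < 95817 → P i := stepQ 95816 Q95816 (allL N95816 (tt N81672 F409778) (tt N97423 (iv0 F416835)) (tt N79551 (iv2 F409779)) (tt N58834 (iv3 D198895)) (tt N64091 F409775) (tt N96450 (iv5 F412569)) (tt N79724 F409776) (tt N79554 F409777))
theorem Q95818 : ∀ i, i < 95818 → P i := stepQ 95817 Q95817 (allL N95817 (tt N65671 F409782) (tt N112290 (iv0 F480388)) (tt N112501 (iv2 F481381)) (tt N58835 (iv3 D198896)) (tt N94815 F409780) (tt N102886 (iv5 F439105)) (tt N74652 F409781) (tt N102030 (iv7 F435444)))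
theorem Q95819 : ∀ i, i < 95819 → P i := stepQ 95818 Q95818 (allL N95818 (tt N60542 F409786) (tt N60547 F409787) (tt N94452 F409783) (tt N108930 F464542) (tt N58839 (iv4 D198897)) (tt N106691 (iv5 F455292)) (tt N60135 F409784) (tt N66539 F409785))
theorem Q95820 : ∀ i, i < 95820 → P i := stepQ 95819 Q95819 (allL N95819 (tt N95747 F409791) (tt N66032 F409792) (tt N95941 (iv2 F410362)) (tt N58842 F409788) (tt N96891 (iv4 F414469)) (tt N58840 (iv5 D198898)) (tt N62063 F409789) (tt N94449 F409790))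
theorem Q95821 : ∀ i, i < 95821 → P i := stepQ 95820 Q95820 (allL N95820 (tt N72902 F409797) (tt N72906 F409798) (tt N97524 (iv2 F417250)) (tt N58843 (iv3 D198899)) (tt N59954 F409793) (tt N65995 F409794) (tt N81765 F409795) (tt N74660 F409796))
theorem Q95822 : ∀ i, i < 95822 → P i := stepQ 95821 Q95821 (allL N95821 (tt N91875 (iv1 F409801)) (tt N58845 (iv0 D198900)) (tt N80092 (iv2 F409800)) (tt N111841 (iv3 F478249)) (tt N117639 (iv4 F506151)) (tt N97289 (iv5 F416237)) (tt N118082 (iv6 F508470)) (tt N97118 (iv7 F415526)))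
theorem Q95823 : ∀ i, i < 95823 → P i := stepQ 95822 Q95822 (allL N95822 (tt N65943 F409806) (tt N65941 F409807) (tt N88302 F409802) (tt N79718 F409803) (tt N66621 F409804) (tt N58847 (iv5 D198901)) (tt N88301 F409808) (tt N65554 F409805))
theorem Q95824 : ∀ i, i < 95824 → P i := stepQ 95823 Q95823 (allL N95823 (tt N58849 (iv1 D198902)) (tt N94179 F409809) (tt N94180 F409814) (tt N69212 (iv3 F409813)) (tt N79442 F409815) (tt N58868 F409811) (tt N69209 F409816) (tt N94181 F409810))
theorem Q95825 : ∀ i, i < 95825 → P i := stepQ 95824 Q95824 (allL N95824 (tt N108725 (iv1 F463716)) (tt N108730 F463737) (tt N81265 F409817) (tt N80294 F409818) (tt N110045 (iv4 F469707)) (tt N58851 (iv5 D198903)) (tt N58852 F409819) (tt N108728 (iv7 F463728)))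
theorem Q95826 : ∀ i, i < 95826 → P i := stepQ 95825 Q95825 (allL N95825 (tt N79658 F409823) (tt N97067 (iv0 F415301)) (tt N80185 F409820) (tt N64343 F409821) (tt N58853 (iv4 D198904)) (tt N100390 (iv5 F428757)) (tt N63375 F409822) (tt N96965 (iv7 F414826)))
theorem Q95827 : ∀ i, i < 95827 → P i := stepQ 95826 Q95826 (allL N95826 (tt N97067 (iv1 F415302)) (tt N79658 F409827) (tt N96965 (iv2 F414824)) (tt N66398 F409828) (tt N58854 (iv4 D198905)) (tt N66397 F409826) (tt N80987 F409824) (tt N80185 F409825))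
theorem Q95828 : ∀ i, i < 95828 → P i := stepQ 95827 Q95827 (allL N95827 (tt N79779 F409833) (tt N80282 F409834) (tt N80068 F409829) (tt N58858 F409830) (tt N59325 F409831) (tt N107096 (iv5 F456947)) (tt N58857 (iv6 D198906)) (tt N80281 F409832))
theorem Q95829 : ∀ i, i < 95829 → P i := stepQ 95828 Q95828 (allL N95828 (tt N69279 F409837) (tt N69278 F409838) (tt N69281 F409835) (tt N107096 (iv3 F456945)) (tt N113131 (iv4 F484117)) (tt N58858 (iv5 D198907)) (tt N107095 (iv6 F456943)) (tt N69272 F409836))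
theorem Q95830 : ∀ i, i < 95830 → P i := stepQ 95829 Q95829 (allL N95829 (tt N95463 (iv1 F409842)) (tt N58862 (iv0 D198908)) (tt N88178 (iv2 F409840)) (tt N98139 F419650) (tt N88171 F409839) (tt N99566 (iv5 F425196)) (tt N112109 (iv6 F479522)) (tt N88174 (iv7 F409841)))
theorem Q95831 : ∀ i, i < 95831 → P i := stepQ 95830 Q95830 (allL N95830 (tt N58862 (iv1 D198909)) (tt N95463 F409843) (tt N88174 F409847) (tt N75020 (iv3 F409846)) (tt N88170 F409845) (tt N108253 (iv5 F461710)) (tt N118991 D222250) (tt N88178 F409844))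
theorem Q95832 : ∀ i, i < 95832 → P i := stepQ 95831 Q95831 (allL N95831 (tt N74338 F409850) (tt N75017 (iv0 F409852)) (tt N96971 (iv2 F414857)) (tt N99605 (iv3 F425378)) (tt N75106 F409849) (tt N58862 (iv5 D198910)) (tt N58864 F409848) (tt N81326 F409851))
theorem Q95833 : ∀ i, i < 95833 → P i := stepQ 95832 Q95832 (allL N95832 (tt N88174 (iv1 F409858)) (tt N88178 F409859) (tt N95463 F409853) (tt N66742 F409854) (tt N66743 F409855) (tt N81326 F409856) (tt N66877 F409857) (tt N58862 (iv7 D198911)))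
theorem Q95834 : ∀ i, i < 95834 → P i := stepQ 95833 Q95833 (allL N95833 (tt N58864 (iv1 D198912)) (tt N81328 F409860) (tt N81318 F409863) (tt N75012 F409864) (tt N101293 (iv4 F432566)) (tt N95754 F409861) (tt N81285 (iv6 F409862)) (tt N96972 (iv7 F414867)))
theorem Q95835 : ∀ i, i < 95835 → P i := stepQ 95834 Q95834 (allL N95834 (tt N111087 F474597) (tt N111836 (iv0 F478223)) (tt N96973 (iv2 F414871)) (tt N92666 F409865) (tt N58864 (iv4 D198913)) (tt N116332 (iv5 F499600)) (tt N75106 F409866) (tt N97101 (iv7 F415477)))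
theorem Q95836 : ∀ i, i < 95836 → P i := stepQ 95835 Q95835 (allL N95835 (tt N101554 (iv1 F433376)) (tt N72905 F413920) (tt N96783 F413919) (tt N112810 (iv3 F482717)) (tt N58867 (iv4 D198914)) (tt N98306 (iv5 F420435)) (tt N101153 (iv6 F431966)) (tt N96969 (iv7 F414846)))
theorem Q95837 : ∀ i, i < 95837 → P i := stepQ 95836 Q95836 (allL N95836 (tt N100140 (iv1 F427655)) (tt N81210 (iv0 F409870)) (tt N103145 (iv2 F440278)) (tt N58870 (iv3 D198915)) (tt N73076 F409867) (tt N63590 F409868) (tt N97079 (iv6 F415373)) (tt N63589 F409869))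
theorem Q95838 : ∀ i, i < 95838 → P i := stepQ 95837 Q95837 (allL N95837 (tt N109848 (iv1 F468896)) (tt N101735 F434098) (tt N96976 (iv2 F414882)) (tt N102131 F435881) (tt N58874 (iv4 D198916)) (tt N118992 D222251) (tt N112821 F482789) (tt N96974 (iv7 F414877)))
theorem Q95839 : ∀ i, i < 95839 → P i := stepQ 95838 Q95838 (allL N95838 (tt N63400 F409875) (tt N61102 (iv0 F409876)) (tt N63402 F409871) (tt N61114 F409872) (tt N58876 (iv4 D198917)) (tt N93176 F409874) (tt N76654 (iv6 F409877)) (tt N63399 F409873))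
theorem Q95840 : ∀ i, i < 95840 → P i := stepQ 95839 Q95839 (allL N95839 (tt N61287 F409883) (tt N61286 (iv0 F409884)) (tt N75274 F409878) (tt N58878 F409879) (tt N76654 F409880) (tt N80671 F409881) (tt N58876 (iv6 D198918)) (tt N92640 F409882))
theorem Q95841 : ∀ i, i < 95841 → P i := stepQ 95840 Q95840 (allL N95840 (tt N58877 (iv1 D198919)) (tt N80669 F409885) (tt N79878 F409890) (tt N75330 (iv3 F409888)) (tt N101734 (iv4 F434091)) (tt N75329 F409887) (tt N64257 (iv6 F409889)) (tt N91526 F409886))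
theorem Q95842 : ∀ i, i < 95842 → P i := stepQ 95841 Q95841 (allL N95841 (tt N64251 (iv1 F409894)) (tt N58879 (iv0 D198920)) (tt N74824 (iv2 F409893)) (tt N80186 (iv3 F409895)) (tt N111087 (iv4 F474594)) (tt N79602 F409891) (tt N64709 F409892) (tt N96980 (iv7 F414903)))
theorem Q95843 : ∀ i, i < 95843 → P i := stepQ 95842 Q95842 (allL N95842 (tt N58880 (iv1 D198921)) (tt N75366 F409896) (tt N75365 (iv2 F409900)) (tt N80175 (iv3 F409901)) (tt N87026 F409898) (tt N80771 F409899) (tt N81777 F409902) (tt N75364 F409897))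
theorem Q95844 : ∀ i, i < 95844 → P i := stepQ 95843 Q95843 (allL N95843 (tt N76080 F409909) (tt N79094 F409910) (tt N66822 F409904) (tt N76102 F409905) (tt N58881 (iv4 D198922)) (tt N77581 F409906) (tt N61344 F409907) (tt N77601 F409908))
theorem Q95845 : ∀ i, i < 95845 → P i := stepQ 95844 Q95844 (allL N95844 (tt N58883 (iv1 D198923)) (tt N75599 F409911) (tt N75336 F409915) (tt N80991 (iv3 F409913)) (tt N109854 (iv4 F468927)) (tt N99597 (iv5 F425329)) (tt N80044 (iv6 F409914)) (tt N79834 F409912))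
theorem Q95846 : ∀ i, i < 95846 → P i := stepQ 95845 Q95845 (allL N95845 (tt N62539 (iv1 F409921)) (tt N58884 (iv0 D198924)) (tt N75597 (iv2 F409920)) (tt N109598 (iv3 F467655)) (tt N59803 F409917) (tt N73369 F409916) (tt N80042 F409919) (tt N75596 F409922))
theorem Q95847 : ∀ i, i < 95847 → P i := stepQ 95846 Q95846 (allL N95846 (tt N59727 (iv1 F409925)) (tt N58887 (iv0 D198925)) (tt N59724 (iv2 F409926)) (tt N99752 (iv3 F426063)) (tt N63248 F409924) (tt N58918 F409923) (tt N87189 (iv6 F409927)) (tt N59725 (iv7 F409928)))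
theorem Q95848 : ∀ i, i < 95848 → P i := stepQ 95847 Q95847 (allL N95847 (tt N58887 (iv1 D198926)) (tt N59727 F409929) (tt N59725 F409935) (tt N59721 (iv3 F409933)) (tt N63211 F409932) (tt N58919 F409931) (tt N59720 (iv6 F409934)) (tt N59724 F409930))
theorem Q95849 : ∀ i, i < 95849 → P i := stepQ 95848 Q95848 (allL N95848 (tt N97837 (iv1 F418455)) (tt N97047 (iv0 F415212)) (tt N92118 F409936) (tt N58894 (iv3 D198927)) (tt N58895 F409937) (tt N93676 (iv5 F409940)) (tt N79548 F409938) (tt N80156 F409939))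
theorem Q95850 : ∀ i, i < 95850 → P i := stepQ 95849 Q95849 (allL N95849 (tt N60628 F409947) (tt N65905 F409948) (tt N66054 F409944) (tt N93676 F409945) (tt N102362 (iv4 F436909)) (tt N58894 (iv5 D198928)) (tt N103311 (iv6 F441093)) (tt N66053 F409946))
theorem Q95851 : ∀ i, i < 95851 → P i := stepQ 95850 Q95850 (allL N95850 (tt N60774 (iv1 F409950)) (tt N58896 (iv0 D198929)) (tt N97005 F414995) (tt N116221 F499099) (tt N118993 D222252) (tt N60692 F409949) (tt N116284 (iv6 F499352)) (tt N97004 F414989))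
theorem Q95852 : ∀ i, i < 95852 → P i := stepQ 95851 Q95851 (allL N95851 (tt N58896 (iv1 D198930)) (tt N60774 F409951) (tt N97004 (iv2 F414990)) (tt N103360 (iv3 F441276)) (tt N118994 D222253) (tt N101707 (iv5 F433979)) (tt N103359 (iv6 F441274)) (tt N97005 (iv7 F414993)))
theorem Q95853 : ∀ i, i < 95853 → P i := stepQ 95852 Q95852 (allL N95852 (tt N118995 D222254) (tt N67386 F409952) (tt N97563 (iv2 F417392)) (tt N103877 (iv3 F443182)) (tt N58896 (iv4 D198931)) (tt N96029 (iv5 F410715)) (tt N103875 F443176) (tt N97006 (iv7 F414997)))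
theorem Q95854 : ∀ i, i < 95854 → P i := stepQ 95853 Q95853 (allL N95853 (tt N103468 F441762) (tt N67482 (iv0 F409955)) (tt N97564 (iv2 F417394)) (tt N69286 F409953) (tt N103875 (iv4 F443173)) (tt N87781 F409954) (tt N58896 (iv6 D198932)) (tt N103471 (iv7 F441774)))
theorem Q95855 : ∀ i, i < 95855 → P i := stepQ 95854 Q95854 (allL N95854 (tt N71807 (iv1 F409961)) (tt N70961 F409962) (tt N71757 F409956) (tt N69832 F409957) (tt N93757 F409958) (tt N69829 F409959) (tt N58897 (iv6 D198933)) (tt N71806 F409960))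
theorem Q95856 : ∀ i, i < 95856 → P i := stepQ 95855 Q95855 (allL N95855 (tt N71424 F409966) (tt N71420 F409967) (tt N58900 F409963) (tt N71497 F409964) (tt N95987 (iv4 F410527)) (tt N58899 (iv5 D198934)) (tt N69897 (iv6 F409969)) (tt N71492 F409965))
theorem Q95857 : ∀ i, i < 95857 → P i := stepQ 95856 Q95856 (allL N95856 (tt N71492 (iv1 F409971)) (tt N58900 (iv0 D198935)) (tt N71424 (iv2 F409973)) (tt N62368 F409970) (tt N118996 D222255) (tt N70899 F409972) (tt N70009 (iv6 F409975)) (tt N71420 (iv7 F409974)))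
theorem Q95858 : ∀ i, i < 95858 → P i := stepQ 95857 Q95857 (allL N95857 (tt N58900 (iv1 D198936)) (tt N71492 F409976) (tt N71420 (iv2 F409979)) (tt N102346 (iv3 F436834)) (tt N118997 D222256) (tt N70900 F409978) (tt N99255 (iv6 F423853)) (tt N71424 F409977))
theorem Q95859 : ∀ i, i < 95859 → P i := stepQ 95858 Q95858 (allL N95858 (tt N75060 F409981) (tt N107007 (iv0 F456627)) (tt N95987 (iv2 F410526)) (tt N102723 (iv3 F438365)) (tt N58900 (iv4 D198937)) (tt N95981 (iv5 F410514)) (tt N103849 (iv6 F443075)) (tt N71493 F409980))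
theorem Q95860 : ∀ i, i < 95860 → P i := stepQ 95859 Q95859 (allL N95859 (tt N69900 F409985) (tt N69892 (iv0 F409984)) (tt N69897 F409982) (tt N58901 F409983) (tt N103849 (iv4 F443074)) (tt N101922 (iv5 F434954)) (tt N58900 (iv6 D198938)) (tt N69898 (iv7 F409986)))
theorem Q95861 : ∀ i, i < 95861 → P i := stepQ 95860 Q95860 (allL N95860 (tt N70078 (iv1 F409993)) (tt N58901 (iv0 D198939)) (tt N70080 (iv2 F409989)) (tt N90420 F409990) (tt N66492 F409988) (tt N115750 (iv5 F496658)) (tt N70064 F409991) (tt N70065 F409992))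
theorem Q95862 : ∀ i, i < 95862 → P i := stepQ 95861 Q95861 (allL N95861 (tt N70065 (iv1 F409997)) (tt N70080 F409998) (tt N70078 F409994) (tt N69898 F409995) (tt N102287 (iv4 F436565)) (tt N101924 (iv5 F434961)) (tt N71496 F409996) (tt N58901 (iv7 D198940)))
theorem Q95863 : ∀ i, i < 95863 → P i := stepQ 95862 Q95862 (allL N95862 (tt N93270 F410003) (tt N81130 (iv0 F410002)) (tt N108296 (iv2 F461943)) (tt N58903 F409999) (tt N60642 F410000) (tt N89481 F410001) (tt N58902 (iv6 D198941)) (tt N112299 (iv7 F480433)))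
theorem Q95864 : ∀ i, i < 95864 → P i := stepQ 95863 Q95863 (allL N95863 (tt N118309 (iv1 F509635)) (tt N118035 (iv0 F508213)) (tt N96161 (iv2 F411295)) (tt N89481 F410004) (tt N95757 (iv4 F410006)) (tt N58903 (iv5 D198942)) (tt N89479 F410005) (tt N111613 (iv7 F477154)))
theorem Q95865 : ∀ i, i < 95865 → P i := stepQ 95864 Q95864 (allL N95864 (tt N110946 (iv1 F473910)) (tt N116785 (iv0 F501824)) (tt N96159 (iv2 F411288)) (tt N77094 F410007) (tt N109181 (iv4 F465685)) (tt N58904 (iv5 D198943)) (tt N85614 F410008) (tt N118332 (iv7 F509753)))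
theorem Q95866 : ∀ i, i < 95866 → P i := stepQ 95865 Q95865 (allL N95865 (tt N115365 F494824) (tt N115742 (iv0 F496618)) (tt N93138 F410009) (tt N58908 F410010) (tt N92010 F410011) (tt N97947 (iv5 F418918)) (tt N58906 (iv6 D198944)) (tt N105694 (iv7 F451291)))
theorem Q95867 : ∀ i, i < 95867 → P i := stepQ 95866 Q95866 (allL N95866 (tt N104837 (iv1 F447537)) (tt N70608 (iv0 F410013)) (tt N97965 (iv2 F418990)) (tt N108647 (iv3 F463349)) (tt N58908 F410012) (tt N114147 (iv5 F488746)) (tt N58907 (iv6 D198945)) (tt N98285 (iv7 F420332)))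
theorem Q95868 : ∀ i, i < 95868 → P i := stepQ 95867 Q95867 (allL N95867 (tt N97966 (iv1 F419002)) (tt N58908 (iv0 D198946)) (tt N92959 (iv2 F410015)) (tt N93992 F410016) (tt N118998 D222257) (tt N70610 F410014) (tt N118999 D222258) (tt N97964 (iv7 F418986)))
theorem Q95869 : ∀ i, i < 95869 → P i := stepQ 95868 Q95868 (allL N95868 (tt N108247 F461676) (tt N92965 (iv0 F410022)) (tt N58910 F410017) (tt N93147 F410018) (tt N60340 F410019) (tt N98257 (iv5 F420209)) (tt N58909 (iv6 D198947)) (tt N98284 (iv7 F420323)))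
theorem Q95870 : ∀ i, i < 95870 → P i := stepQ 95869 Q95869 (allL N95869 (tt N58910 (iv1 D198949)) (tt N98284 F420327) (tt N92965 (iv2 F420328)) (tt N93996 F420329) (tt N104928 (iv4 F447983)) (tt N106326 (iv5 F454037)) (tt N99747 (iv6 F426034)) (tt N108247 (iv7 F461674)))
theorem Q95871 : ∀ i, i < 95871 → P i := stepQ 95870 Q95870 (allL N95870 (tt N92965 (iv1 F410024)) (tt N108247 (iv0 F461675)) (tt N98284 (iv2 F420322)) (tt N104189 (iv3 F444599)) (tt N60341 F410023) (tt N105681 (iv5 F451222)) (tt N97966 (iv6 F419000)) (tt N58910 (iv7 D198950)))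
theorem Q95872 : ∀ i, i < 95872 → P i := stepQ 95871 Q95871 (allL N95871 (tt N98365 (iv1 F420653)) (tt N92955 (iv0 F410030)) (tt N58917 F410025) (tt N87128 F410026) (tt N73683 F410027) (tt N61457 F410028) (tt N58912 (iv6 D198951)) (tt N73679 F410029))
theorem Q95873 : ∀ i, i < 95873 → P i := stepQ 95872 Q95872 (allL N95872 (tt N58913 (iv1 D198952)) (tt N58923 F410031) (tt N58919 (iv2 F410035)) (tt N119000 D222259) (tt N60170 F410033) (tt N59725 F410034) (tt N119001 D222260) (tt N58918 F410032))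
theorem Q95874 : ∀ i, i < 95874 → P i := stepQ 95873 Q95873 (allL N95873 (tt N113836 (iv1 F487361)) (tt N111071 F474529) (tt N86805 F410036) (tt N58913 (iv3 D198953)) (tt N85094 F410037) (tt N84238 (iv5 F410039)) (tt N85096 (iv6 F410040)) (tt N87061 F410038))
theorem Q95875 : ∀ i, i < 95875 → P i := stepQ 95874 Q95874 (allL N95874 (tt N82942 F410045) (tt N82941 F410046) (tt N58921 F410041) (tt N84238 F410042) (tt N63231 F410043) (tt N58913 (iv5 D198954)) (tt N115766 (iv6 F496755)) (tt N63839 F410044))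
theorem Q95876 : ∀ i, i < 95876 → P i := stepQ 95875 Q95875 (allL N95875 (tt N96938 (iv1 F414684)) (tt N116072 F498321) (tt N58922 F410047) (tt N85096 F410048) (tt N58914 F410049) (tt N115449 (iv5 F495245)) (tt N58913 (iv6 D198955)) (tt N86798 F410050))
theorem Q95877 : ∀ i, i < 95877 → P i := stepQ 95876 Q95876 (allL N95876 (tt N58926 (iv1 F410055)) (tt N58914 (iv0 D198956)) (tt N58924 (iv2 F410053)) (tt N100659 F429888) (tt N115483 (iv4 F495418)) (tt N62717 F410051) (tt N87567 F410052) (tt N58925 F410054))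
theorem Q95878 : ∀ i, i < 95878 → P i := stepQ 95877 Q95877 (allL N95877 (tt N58925 (iv1 F410060)) (tt N58924 F410061) (tt N58926 F410056) (tt N68432 F410057) (tt N86798 F410058) (tt N61349 F410059) (tt N109747 (iv6 F468421)) (tt N58914 (iv7 D198957)))
theorem Q95879 : ∀ i, i < 95879 → P i := stepQ 95878 Q95878 (allL N95878 (tt N58917 (iv1 D198958)) (tt N73679 F410062) (tt N92955 (iv2 F410066)) (tt N86843 F410065) (tt N86847 (iv4 F410063)) (tt N119002 D222261) (tt N86841 (iv6 F410064)) (tt N98365 (iv7 F420654)))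
theorem Q95880 : ∀ i, i < 95880 → P i := stepQ 95879 Q95879 (allL N95879 (tt N106174 F453454) (tt N119003 D222262) (tt N61457 F410067) (tt N61395 F410068) (tt N101952 (iv4 F435074)) (tt N58917 (iv5 D198959)) (tt N60904 F410069) (tt N98366 (iv7 F420658)))
theorem Q95881 : ∀ i, i < 95881 → P i := stepQ 95880 Q95880 (allL N95880 (tt N106879 F456108) (tt N119004 D222263) (tt N108547 (iv2 F463034)) (tt N58918 (iv3 D198960)) (tt N97263 (iv4 F416127)) (tt N99752 (iv5 F426066)) (tt N67154 F410070) (tt N119000 (iv7 F513207)))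
theorem Q95882 : ∀ i, i < 95882 → P i := stepQ 95881 Q95881 (allL N95881 (tt N118094 (iv1 F508551)) (tt N86847 (iv0 F410075)) (tt N119001 (iv2 F513210)) (tt N59846 F410071) (tt N60186 F410072) (tt N59845 F410073) (tt N58919 (iv6 D198961)) (tt N95552 F410074))
theorem Q95883 : ∀ i, i < 95883 → P i := stepQ 95882 Q95882 (allL N95882 (tt N63839 (iv1 F410078)) (tt N58921 (iv0 D198962)) (tt N82942 F410080) (tt N99754 (iv3 F426073)) (tt N63830 F410077) (tt N63819 F410076) (tt N95617 (iv6 F410081)) (tt N82941 (iv7 F410079)))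
theorem Q95884 : ∀ i, i < 95884 → P i := stepQ 95883 Q95883 (allL N95883 (tt N58921 (iv1 D198963)) (tt N63839 F410082) (tt N82941 (iv2 F410086)) (tt N111859 (iv3 F478346)) (tt N63824 F410085) (tt N63827 F410084) (tt N111858 F478344) (tt N82942 F410083))
theorem Q95885 : ∀ i, i < 95885 → P i := stepQ 95884 Q95884 (allL N95884 (tt N86798 (iv1 F410089)) (tt N58922 (iv0 D198964)) (tt N96938 (iv2 F414681)) (tt N112853 (iv3 F482974)) (tt N75239 F410087) (tt N112715 (iv5 F482325)) (tt N59731 F410088) (tt N116072 (iv7 F498322)))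
theorem Q95886 : ∀ i, i < 95886 → P i := stepQ 95885 Q95885 (allL N95885 (tt N58922 (iv1 D198965)) (tt N86798 F410090) (tt N116072 F498320) (tt N112446 (iv3 F481140)) (tt N97277 (iv4 F416176)) (tt N112716 (iv5 F482327)) (tt N104833 (iv6 F447520)) (tt N96938 F414685))
theorem Q95887 : ∀ i, i < 95887 → P i := stepQ 95886 Q95886 (allL N95886 (tt N119005 D222264) (tt N112446 (iv0 F481142)) (tt N115449 (iv2 F495243)) (tt N87618 F410091) (tt N87861 F410093) (tt N58922 (iv5 D198966)) (tt N97241 F416038) (tt N87613 F410092))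
theorem Q95888 : ∀ i, i < 95888 → P i := stepQ 95887 Q95887 (allL N95887 (tt N115473 F495362) (tt N97184 (iv0 F415803)) (tt N115483 (iv2 F495417)) (tt N87563 F410097) (tt N58924 (iv4 D198967)) (tt N97316 (iv5 F416324)) (tt N59743 F410098) (tt N98412 (iv7 F420858)))
theorem Q95889 : ∀ i, i < 95889 → P i := stepQ 95888 Q95888 (allL N95888 (tt N104294 F445119) (tt N104393 (iv0 F445570)) (tt N117549 (iv2 F505634)) (tt N58928 (iv3 D198969)) (tt N88215 F410100) (tt N102419 F437155) (tt N88288 (iv6 F410101)) (tt N88234 F410099))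
theorem Q95890 : ∀ i, i < 95890 → P i := stepQ 95889 Q95889 (allL N95889 (tt N119006 D222265) (tt N104316 (iv0 F445210)) (tt N88243 F410102) (tt N88288 F410103) (tt N87898 F410104) (tt N119007 D222266) (tt N58928 (iv6 D198970)) (tt N119008 D222267))
theorem Q95891 : ∀ i, i < 95891 → P i := stepQ 95890 Q95890 (allL N95890 (tt N109746 F468416) (tt N79091 (iv0 F410108)) (tt N109722 (iv2 F468288)) (tt N86862 F410106) (tt N58933 (iv4 D198971)) (tt N100228 F428065) (tt N91086 (iv6 F410109)) (tt N94019 F410107))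
theorem Q95892 : ∀ i, i < 95892 → P i := stepQ 95891 Q95891 (allL N95891 (tt N91215 (iv1 F410113)) (tt N109744 (iv0 F468404)) (tt N109723 (iv2 F468293)) (tt N58934 F410110) (tt N91086 F410111) (tt N86819 F410112) (tt N58933 (iv6 D198972)) (tt N104995 (iv7 F448297)))
theorem Q95893 : ∀ i, i < 95893 → P i := stepQ 95892 Q95892 (allL N95892 (tt N58934 (iv1 D198973)) (tt N94018 F410115) (tt N94017 (iv2 F410117)) (tt N87566 F410118) (tt N115715 (iv4 F496470)) (tt N98288 (iv5 F420343)) (tt N109649 (iv6 F467922)) (tt N92957 F410116))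
theorem Q95894 : ∀ i, i < 95894 → P i := stepQ 95893 Q95893 (allL N95893 (tt N61282 (iv1 F410124)) (tt N86837 F410123) (tt N58935 (iv2 D198974)) (tt N78960 F410119) (tt N114707 (iv4 F491451)) (tt N92235 F410120) (tt N81655 F410121) (tt N94014 F410122))
theorem Q95895 : ∀ i, i < 95895 → P i := stepQ 95894 Q95894 (allL N95894 (tt N65609 (iv1 F410130)) (tt N86834 F410131) (tt N94021 F410125) (tt N81654 F410126) (tt N60572 F410127) (tt N74385 F410128) (tt N94018 F410129) (tt N58936 (iv7 D198975)))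
theorem Q95896 : ∀ i, i < 95896 → P i := stepQ 95895 Q95895 (allL N95895 (tt N97917 F418798) (tt N105849 F452020) (tt N83669 F410132) (tt N70673 F410133) (tt N119009 D222268) (tt N58938 (iv5 D198976)) (tt N83667 F410134) (tt N94022 F410135))
theorem Q95897 : ∀ i, i < 95897 → P i := stepQ 95896 Q95896 (allL N95896 (tt N105849 (iv1 F452021)) (tt N97917 (iv0 F418797)) (tt N94022 F410136) (tt N67956 F410137) (tt N119010 D222269) (tt N58939 (iv5 D198977)) (tt N94773 F410139) (tt N83669 F410138))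
theorem Q95898 : ∀ i, i < 95898 → P i := stepQ 95897 Q95897 (allL N95897 (tt N109649 (iv1 F467926)) (tt N92954 (iv0 F410145)) (tt N94023 F410140) (tt N84463 F410141) (tt N68830 F410142) (tt N85221 F410143) (tt N58939 (iv6 D198978)) (tt N84460 F410144))
theorem Q95899 : ∀ i, i < 95899 → P i := stepQ 95898 Q95898 (allL N95898 (tt N74209 F410150) (tt N95906 (iv0 F410192)) (tt N68692 F410147) (tt N102421 (iv3 F437163)) (tt N64574 F410151) (tt N58944 (iv5 D198979)) (tt N64573 F410148) (tt N68694 F410149))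
theorem Q95900 : ∀ i, i < 95900 → P i := stepQ 95899 Q95899 (allL N95899 (tt N94919 F410154) (tt N105169 F449088) (tt N70177 F410159) (tt N58946 (iv3 D198980)) (tt N70175 (iv4 F410158)) (tt N78682 F410152) (tt N107054 (iv6 F456791)) (tt N70182 F410153))
theorem Q95901 : ∀ i, i < 95901 → P i := stepQ 95900 Q95900 (allL N95900 (tt N91788 (iv1 F442849)) (tt N103794 (iv0 F442848)) (tt N103537 (iv2 F441975)) (tt N107054 (iv3 F456790)) (tt N103534 (iv4 F441967)) (tt N113961 (iv5 F487979)) (tt N58946 (iv6 D198981)) (tt N105184 (iv7 F449149)))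
theorem Q95902 : ∀ i, i < 95902 → P i := stepQ 95901 Q95901 (allL N95901 (tt N94911 F437687) (tt N104143 (iv0 F444398)) (tt N105160 (iv2 F449060)) (tt N105768 (iv3 F451616)) (tt N69016 F410162) (tt N100016 (iv5 F427209)) (tt N58947 (iv6 D198982)) (tt N105228 (iv7 F449302)))
theorem Q95903 : ∀ i, i < 95903 → P i := stepQ 95902 Q95902 (allL N95902 (tt N58952 (iv1 D198983)) (tt N91088 F410163) (tt N87855 F410167) (tt N98178 (iv3 F419867)) (tt N70587 F410165) (tt N69921 (iv5 F410166)) (tt N101089 (iv6 F431620)) (tt N92567 F410164))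
theorem Q95904 : ∀ i, i < 95904 → P i := stepQ 95903 Q95903 (allL N95903 (tt N67503 F410173) (tt N95940 (iv0 F410360)) (tt N93046 F410168) (tt N60874 F410169) (tt N69905 F410170) (tt N74054 F410171) (tt N58955 (iv6 D198984)) (tt N60889 F410172))
theorem Q95905 : ∀ i, i < 95905 → P i := stepQ 95904 Q95904 (allL N95904 (tt N70054 F410177) (tt N69853 (iv0 F410178)) (tt N68791 F410174) (tt N58957 (iv3 D198985)) (tt N68790 F410175) (tt N101201 (iv5 F432167)) (tt N90419 (iv6 F410179)) (tt N70055 F410176))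
theorem Q95906 : ∀ i, i < 95906 → P i := stepQ 95905 Q95905 (allL N95905 (tt N69903 (iv1 F410185)) (tt N90406 (iv0 F410186)) (tt N70075 F410180) (tt N90419 F410181) (tt N60929 F410182) (tt N85465 (iv5 F410184)) (tt N58957 (iv6 D198986)) (tt N85993 F410183))
theorem Q95907 : ∀ i, i < 95907 → P i := stepQ 95906 Q95906 (allL N95906 (tt N95898 F410192) (tt N59053 F410193) (tt N59004 F410187) (tt N71808 F410188) (tt N73227 F410189) (tt N67223 F410190) (tt N58962 (iv6 D198987)) (tt N89391 F410191))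
theorem Q95908 : ∀ i, i < 95908 → P i := stepQ 95907 Q95907 (allL N95907 (tt N62402 F410197) (tt N73251 (iv0 F410198)) (tt N73250 F410194) (tt N58964 (iv3 D198988)) (tt N66523 F410195) (tt N107401 (iv5 F458221)) (tt N107039 (iv6 F456742)) (tt N73233 F410196))
theorem Q95909 : ∀ i, i < 95909 → P i := stepQ 95908 Q95908 (allL N95908 (tt N98798 (iv1 F422370)) (tt N73211 (iv0 F410202)) (tt N99094 (iv2 F423313)) (tt N58965 (iv3 D198989)) (tt N93641 F410199) (tt N99108 (iv5 F423363)) (tt N91049 F410200) (tt N73235 F410201))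
theorem Q95910 : ∀ i, i < 95910 → P i := stepQ 95909 Q95909 (allL N95909 (tt N59645 (iv1 F410208)) (tt N59644 (iv0 F410207)) (tt N58967 F410203) (tt N59038 F410204) (tt N114540 (iv4 F490678)) (tt N58966 (iv5 D198990)) (tt N111271 (iv6 F475558)) (tt N59646 F410205))
theorem Q95911 : ∀ i, i < 95911 → P i := stepQ 95910 Q95910 (allL N95910 (tt N59646 (iv1 F410212)) (tt N58967 (iv0 D198991)) (tt N59645 (iv2 F410213)) (tt N113243 (iv3 F484677)) (tt N114343 (iv4 F489718)) (tt N62263 F410211) (tt N113227 (iv6 F484587)) (tt N59644 (iv7 F410214)))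
theorem Q95912 : ∀ i, i < 95912 → P i := stepQ 95911 Q95911 (allL N95911 (tt N58967 (iv1 D198992)) (tt N59646 F410215) (tt N59644 (iv2 F410220)) (tt N105890 F452206) (tt N72367 (iv4 F410218)) (tt N62264 F410217) (tt N64902 (iv6 F410219)) (tt N59645 F410216))
theorem Q95913 : ∀ i, i < 95913 → P i := stepQ 95912 Q95912 (allL N95912 (tt N59049 (iv1 F410223)) (tt N58968 (iv0 D198993)) (tt N59047 F410225) (tt N117339 (iv3 F504536)) (tt N101322 (iv4 F432648)) (tt N69950 F410221) (tt N64918 F410224) (tt N59048 (iv7 F410222)))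
theorem Q95914 : ∀ i, i < 95914 → P i := stepQ 95913 Q95913 (allL N95913 (tt N58968 (iv1 D198994)) (tt N59049 F410226) (tt N59048 F410230) (tt N114676 (iv3 F491322)) (tt N101321 (iv4 F432642)) (tt N69751 F410228) (tt N69752 (iv6 F410229)) (tt N59047 F410227))
theorem Q95915 : ∀ i, i < 95915 → P i := stepQ 95914 Q95914 (allL N95914 (tt N59048 (iv1 F410235)) (tt N59047 F410236) (tt N59049 F410231) (tt N111270 (iv3 F475551)) (tt N59659 F410232) (tt N64405 F410233) (tt N59651 F410234) (tt N58968 (iv7 D198995)))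
theorem Q95916 : ∀ i, i < 95916 → P i := stepQ 95915 Q95915 (allL N95915 (tt N69782 F410242) (tt N94808 F410243) (tt N59052 F410238) (tt N74201 F410239) (tt N72621 F410244) (tt N58969 (iv5 D198996)) (tt N69777 F410240) (tt N59054 F410241))
theorem Q95917 : ∀ i, i < 95917 → P i := stepQ 95916 Q95916 (allL N95916 (tt N72921 F410249) (tt N66036 F410248) (tt N94114 F410245) (tt N101914 (iv3 F434928)) (tt N96560 (iv4 F412991)) (tt N58970 (iv5 D198997)) (tt N70220 F410246) (tt N72414 F410247))
theorem Q95918 : ∀ i, i < 95918 → P i := stepQ 95917 Q95917 (allL N95917 (tt N96265 F411799) (tt N109139 (iv0 F465525)) (tt N96251 (iv2 F411747)) (tt N58974 (iv3 D198998)) (tt N94279 F410251) (tt N99950 F426924) (tt N119011 D222270) (tt N89517 F410250))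
theorem Q95919 : ∀ i, i < 95919 → P i := stepQ 95918 Q95918 (allL N95918 (tt N107245 (iv1 F457627)) (tt N78184 F410259) (tt N92871 F410256) (tt N112812 (iv3 F482731)) (tt N58974 (iv4 D198999)) (tt N59538 F410258) (tt N119012 D222271) (tt N95113 F410257))
theorem Q95920 : ∀ i, i < 95920 → P i := stepQ 95919 Q95919 (allL N95919 (tt N119013 D222272) (tt N72263 (iv0 F410260)) (tt N110901 (iv2 F473692)) (tt N119011 (iv3 F513270)) (tt N119012 (iv4 F513276)) (tt N99953 (iv5 F426934)) (tt N58974 (iv6 D199000)) (tt N119014 D222273))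
theorem Q95921 : ∀ i, i < 95921 → P i := stepQ 95920 Q95920 (allL N95920 (tt N78184 F410266) (tt N107245 F457628) (tt N95113 F410261) (tt N92875 F410262) (tt N58975 (iv4 D199001)) (tt N94701 F410263) (tt N91420 F410264) (tt N92871 F410265))
theorem Q95922 : ∀ i, i < 95922 → P i := stepQ 95921 Q95921 (allL N95921 (tt N74439 (iv1 F410271)) (tt N74438 F410270) (tt N74440 F410267) (tt N103059 (iv3 F439894)) (tt N58977 (iv4 D199002)) (tt N75807 F410268) (tt N80452 (iv6 F410272)) (tt N74437 F410269))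
theorem Q95923 : ∀ i, i < 95923 → P i := stepQ 95922 Q95922 (allL N95922 (tt N64425 F410277) (tt N63662 F410278) (tt N108785 F463921) (tt N58978 F410273) (tt N80452 F410274) (tt N59042 F410275) (tt N58977 (iv6 D199003)) (tt N62859 F410276))
theorem Q95924 : ∀ i, i < 95924 → P i := stepQ 95923 Q95923 (allL N95923 (tt N73088 (iv1 F410280)) (tt N58979 (iv0 D199004)) (tt N73087 (iv2 F410286)) (tt N92055 F410279) (tt N115787 (iv4 F496875)) (tt N96356 (iv5 F412221)) (tt N117109 (iv6 F503440)) (tt N73086 (iv7 F410281)))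
theorem Q95925 : ∀ i, i < 95925 → P i := stepQ 95924 Q95924 (allL N95924 (tt N58979 (iv1 D199005)) (tt N73088 F410288) (tt N73086 F410287) (tt N88183 (iv3 F410282)) (tt N88187 (iv4 F410283)) (tt N96357 (iv5 F412213)) (tt N91510 F410284) (tt N73087 F410285))
theorem Q95926 : ∀ i, i < 95926 → P i := stepQ 95925 Q95925 (allL N95925 (tt N73087 (iv1 F410294)) (tt N73086 F410293) (tt N58979 (iv2 D199006)) (tt N65546 F410289) (tt N92329 F410290) (tt N59638 F410291) (tt N119015 D222274) (tt N73088 F410292))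
theorem Q95927 : ∀ i, i < 95927 → P i := stepQ 95926 Q95926 (allL N95926 (tt N111022 F474300) (tt N114561 (iv0 F490779)) (tt N119015 (iv2 F513291)) (tt N58980 F410295) (tt N92330 F410296) (tt N88451 F410297) (tt N58979 (iv6 D199007)) (tt N95450 F410298))
theorem Q95928 : ∀ i, i < 95928 → P i := stepQ 95927 Q95927 (allL N95927 (tt N93771 F410302) (tt N83210 (iv0 F410303)) (tt N71334 F410299) (tt N103605 (iv3 F442204)) (tt N58985 (iv4 D199008)) (tt N97656 (iv5 F417800)) (tt N77184 F410300) (tt N81067 F410301))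
theorem Q95929 : ∀ i, i < 95929 → P i := stepQ 95928 Q95928 (allL N95928 (tt N71437 F410304) (tt N71440 F410305) (tt N107358 (iv2 F458085)) (tt N58986 (iv3 D199009)) (tt N106727 (iv4 F455432)) (tt N108365 (iv5 F462271)) (tt N119016 D222275) (tt N102748 (iv7 F438474)))
theorem Q95930 : ∀ i, i < 95930 → P i := stepQ 95929 Q95929 (allL N95929 (tt N66412 F410309) (tt N95190 F410310) (tt N94730 F410306) (tt N108365 F462272) (tt N94729 F410308) (tt N58986 (iv5 D199010)) (tt N77078 F410312) (tt N95182 F410307))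
theorem Q95931 : ∀ i, i < 95931 → P i := stepQ 95930 Q95930 (allL N95930 (tt N94067 F410317) (tt N107383 (iv0 F458165)) (tt N81066 F410313) (tt N119016 (iv3 F513298)) (tt N81054 F410314) (tt N77058 F410315) (tt N58986 (iv6 D199011)) (tt N81065 F410316))
theorem Q95932 : ∀ i, i < 95932 → P i := stepQ 95931 Q95931 (allL N95931 (tt N65546 (iv1 F410320)) (tt N58990 (iv0 D199012)) (tt N65545 (iv2 F410319)) (tt N109855 (iv3 F468934)) (tt N112492 (iv4 F481333)) (tt N95226 F410318) (tt N107747 F459534) (tt N65544 F410321))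
theorem Q95933 : ∀ i, i < 95933 → P i := stepQ 95932 Q95932 (allL N95932 (tt N65545 (iv1 F410328)) (tt N65544 F410327) (tt N58990 (iv2 D199013)) (tt N73088 F410323) (tt N65508 F410324) (tt N59641 F410325) (tt N103079 (iv6 F439979)) (tt N65546 F410326))
theorem Q95934 : ∀ i, i < 95934 → P i := stepQ 95933 Q95933 (allL N95933 (tt N62039 F410331) (tt N95942 (iv0 F410371)) (tt N76808 F410329) (tt N96120 F411142) (tt N60903 F410330) (tt N58992 (iv5 D199014)) (tt N60907 (iv6 F410332)) (tt N95944 (iv7 F410376)))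
theorem Q95935 : ∀ i, i < 95935 → P i := stepQ 95934 Q95934 (allL N95934 (tt N95005 F426970) (tt N77407 (iv0 F450768)) (tt N99440 (iv2 F424587)) (tt N106790 (iv3 F455692)) (tt N99091 (iv4 F423307)) (tt N113421 (iv5 F485424)) (tt N58992 (iv6 D199015)) (tt N107332 (iv7 F457988)))
theorem Q95936 : ∀ i, i < 95936 → P i := stepQ 95935 Q95935 (allL N95935 (tt N99161 (iv1 F423534)) (tt N99159 (iv0 F423520)) (tt N58994 F410333) (tt N83263 F410334) (tt N68327 F410337) (tt N58993 (iv5 D199016)) (tt N83238 F410335) (tt N83252 F410336))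
theorem Q95937 : ∀ i, i < 95937 → P i := stepQ 95936 Q95936 (allL N95936 (tt N58994 (iv1 D199017)) (tt N83252 F410338) (tt N99159 (iv2 F423516)) (tt N71180 (iv3 F410340)) (tt N104066 (iv4 F444009)) (tt N59007 F410339) (tt N71179 (iv6 F410341)) (tt N99161 (iv7 F423532)))
theorem Q95938 : ∀ i, i < 95938 → P i := stepQ 95937 Q95937 (allL N95937 (tt N93798 F410344) (tt N102652 F438066) (tt N71738 F410342) (tt N67764 F410343) (tt N58996 (iv4 D199018)) (tt N97721 (iv5 F418060)) (tt N79605 (iv6 F410345)) (tt N102657 (iv7 F438095)))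
theorem Q95939 : ∀ i, i < 95939 → P i := stepQ 95938 Q95938 (allL N95938 (tt N86382 F410349) (tt N90264 (iv0 F410350)) (tt N102797 (iv2 F438681)) (tt N90549 F410346) (tt N79605 F410347) (tt N90339 F410348) (tt N58996 (iv6 D199019)) (tt N96207 (iv7 F411495)))
theorem Q95940 : ∀ i, i < 95940 → P i := stepQ 95939 Q95939 (allL N95939 (tt N64736 F410355) (tt N113313 F484974) (tt N82814 F410351) (tt N59000 F410352) (tt N118652 (iv4 F511356)) (tt N70284 F410353) (tt N58999 (iv6 D199020)) (tt N70283 F410354))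
theorem Q95941 : ∀ i, i < 95941 → P i := stepQ 95940 Q95940 (allL N95940 (tt N95903 F410360) (tt N69110 (iv0 F410361)) (tt N71003 F410356) (tt N97938 (iv3 F418877)) (tt N66486 F410357) (tt N62352 F410358) (tt N59002 (iv6 D199021)) (tt N71001 F410359))
theorem Q95942 : ∀ i, i < 95942 → P i := stepQ 95941 Q95941 (allL N95941 (tt N92674 F410367) (tt N92673 F410368) (tt N95819 F410362) (tt N73526 F410363) (tt N62020 F410364) (tt N59978 F410365) (tt N59005 (iv6 D199022)) (tt N94075 F410366))
theorem Q95943 : ∀ i, i < 95943 → P i := stepQ 95942 Q95942 (allL N95942 (tt N95933 F410371) (tt N72788 F410372) (tt N59009 F410369) (tt N102798 (iv3 F438686)) (tt N68192 F410370) (tt N59008 (iv5 D199023)) (tt N108145 (iv6 F461303)) (tt N99158 (iv7 F423511)))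
theorem Q95944 : ∀ i, i < 95944 → P i := stepQ 95943 Q95943 (allL N95943 (tt N116933 F502571) (tt N99548 (iv0 F425095)) (tt N59010 F410373) (tt N86315 F410374) (tt N98801 (iv4 F422383)) (tt N86313 (iv5 F410375)) (tt N59008 (iv6 D199024)) (tt N99182 (iv7 F423614)))
theorem Q95945 : ∀ i, i < 95945 → P i := stepQ 95944 Q95944 (allL N95944 (tt N59009 (iv1 D199025)) (tt N99158 (iv0 F423512)) (tt N72788 (iv2 F410378)) (tt N106203 (iv3 F453591)) (tt N97969 (iv4 F419016)) (tt N72460 F410377) (tt N98417 (iv6 F420870)) (tt N95933 F410376))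
theorem Q95946 : ∀ i, i < 95946 → P i := stepQ 95945 Q95945 (allL N95945 (tt N96572 F413044) (tt N113308 F484952) (tt N108145 (iv2 F461301)) (tt N59011 F410379) (tt N104954 (iv4 F448128)) (tt N96514 (iv5 F412805)) (tt N59009 (iv6 D199026)) (tt N109857 (iv7 F468947)))
theorem Q95947 : ∀ i, i < 95947 → P i := stepQ 95946 Q95946 (allL N95946 (tt N99182 (iv1 F423616)) (tt N59010 (iv0 D199027)) (tt N116933 (iv2 F502566)) (tt N73876 F410380) (tt N109921 (iv4 F469228)) (tt N109795 (iv5 F468648)) (tt N100845 F430740) (tt N99548 (iv7 F425094)))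
theorem Q95948 : ∀ i, i < 95948 → P i := stepQ 95947 Q95947 (allL N95947 (tt N59010 (iv1 D199028)) (tt N99182 F423615) (tt N99548 (iv2 F425097)) (tt N119017 D222276) (tt N117278 (iv4 F504246)) (tt N119018 D222277) (tt N119019 D222278) (tt N116933 (iv7 F502572)))
theorem Q95949 : ∀ i, i < 95949 → P i := stepQ 95948 Q95948 (allL N95948 (tt N119020 D222279) (tt N113869 (iv0 F487547)) (tt N86313 F410381) (tt N59012 F410382) (tt N118377 F510024) (tt N59010 (iv5 D199029)) (tt N96514 (iv6 F412806)) (tt N70309 (iv7 F410383)))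
theorem Q95950 : ∀ i, i < 95950 → P i := stepQ 95949 Q95949 (allL N95949 (tt N99548 F425096) (tt N116933 (iv0 F502570)) (tt N99182 (iv2 F423611)) (tt N59013 F410384) (tt N98805 (iv4 F422391)) (tt N70309 F410385) (tt N70312 F410386) (tt N59010 (iv7 D199030)))
theorem Q95951 : ∀ i, i < 95951 → P i := stepQ 95950 Q95950 (allL N95950 (tt N59629 (iv1 F410390)) (tt N59011 (iv0 D199031)) (tt N89314 (iv2 F410391)) (tt N89091 (iv3 F410392)) (tt N95708 F410388) (tt N88450 F410387) (tt N80611 F410389) (tt N64802 (iv7 F410393)))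
theorem Q95952 : ∀ i, i < 95952 → P i := stepQ 95951 Q95951 (allL N95951 (tt N59011 (iv1 D199032)) (tt N59629 F410394) (tt N64802 F410399) (tt N109216 (iv3 F465819)) (tt N95707 F410397) (tt N95216 F410396) (tt N64494 (iv6 F410398)) (tt N89314 F410395))
theorem Q95953 : ∀ i, i < 95953 → P i := stepQ 95952 Q95952 (allL N95952 (tt N70162 (iv1 F410403)) (tt N59012 (iv0 D199033)) (tt N70315 (iv2 F410402)) (tt N86329 (iv3 F410405)) (tt N94548 F410401) (tt N59223 F410400) (tt N100633 F429771) (tt N70314 F410404))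
theorem Q95954 : ∀ i, i < 95954 → P i := stepQ 95953 Q95953 (allL N95953 (tt N59220 F410409) (tt N72177 F410410) (tt N62416 F410406) (tt N91064 F410407) (tt N97995 (iv4 F419101)) (tt N59016 (iv5 D199034)) (tt N100636 (iv6 F429780)) (tt N62414 F410408))
theorem Q95955 : ∀ i, i < 95955 → P i := stepQ 95954 Q95954 (allL N95954 (tt N74016 F410416) (tt N74015 (iv0 F410417)) (tt N70213 F410411) (tt N94044 F410412) (tt N94505 F410413) (tt N94667 F410414) (tt N59018 (iv6 D199035)) (tt N94667 F410415))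
theorem Q95956 : ∀ i, i < 95956 → P i := stepQ 95955 Q95955 (allL N95955 (tt N117868 (iv1 F507356)) (tt N59030 (iv0 F410420)) (tt N99152 (iv2 F423487)) (tt N59021 (iv3 D199036)) (tt N105051 (iv4 F448565)) (tt N89832 F410418) (tt N119021 D222280) (tt N73214 F410419))
theorem Q95957 : ∀ i, i < 95957 → P i := stepQ 95956 Q95956 (allL N95956 (tt N72438 F410422) (tt N89437 (iv0 F410423)) (tt N73213 F410421) (tt N119021 (iv3 F513325)) (tt N118141 (iv4 F508822)) (tt N106714 (iv5 F455370)) (tt N59021 (iv6 D199037)) (tt N96266 (iv7 F411802)))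
theorem Q95958 : ∀ i, i < 95958 → P i := stepQ 95957 Q95957 (allL N95957 (tt N89002 F410429) (tt N89443 F410430) (tt N59024 F410424) (tt N62405 F410425) (tt N73433 F410426) (tt N83767 F410427) (tt N59022 (iv6 D199038)) (tt N88946 F410428))
theorem Q95959 : ∀ i, i < 95959 → P i := stepQ 95958 Q95958 (allL N95958 (tt N59024 (iv1 D199039)) (tt N88946 F410431) (tt N89443 (iv2 F410433)) (tt N118498 (iv3 F510692)) (tt N117611 (iv4 F505991)) (tt N113754 (iv5 F486970)) (tt N89466 (iv6 F410434)) (tt N89002 F410432))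
theorem Q95960 : ∀ i, i < 95960 → P i := stepQ 95959 Q95959 (allL N95959 (tt N89443 (iv1 F410440)) (tt N89002 F410441) (tt N88946 F410435) (tt N59027 F410436) (tt N73441 F410437) (tt N70415 F410438) (tt N73223 F410439) (tt N59024 (iv7 D199040)))
theorem Q95961 : ∀ i, i < 95961 → P i := stepQ 95960 Q95960 (allL N95960 (tt N73246 F410445) (tt N62401 (iv0 F410446)) (tt N73245 F410447) (tt N59029 (iv3 D199041)) (tt N92910 F410442) (tt N95186 F410443) (tt N91715 F410448) (tt N59035 F410444))
theorem Q95962 : ∀ i, i < 95962 → P i := stepQ 95961 Q95961 (allL N95961 (tt N73225 F410453) (tt N73289 F410454) (tt N59033 F410449) (tt N91715 F410450) (tt N92908 F410451) (tt N73313 F410452) (tt N59029 (iv6 D199042)) (tt N73288 (iv7 F410455)))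
theorem Q95963 : ∀ i, i < 95963 → P i := stepQ 95962 Q95962 (allL N95962 (tt N59030 (iv1 D199043)) (tt N117868 (iv0 F507355)) (tt N73214 (iv2 F420719)) (tt N98798 (iv3 F422365)) (tt N73811 F420718) (tt N98384 F420715) (tt N109139 (iv6 F465523)) (tt N99152 (iv7 F423489)))
theorem Q95964 : ∀ i, i < 95964 → P i := stepQ 95963 Q95963 (allL N95963 (tt N99152 F423491) (tt N73214 (iv0 F410459)) (tt N59030 (iv2 D199044)) (tt N73245 F410456) (tt N69701 (iv4 F410457)) (tt N119022 D222281) (tt N113279 (iv6 F484841)) (tt N117868 (iv7 F507354)))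
theorem Q95965 : ∀ i, i < 95965 → P i := stepQ 95964 Q95964 (allL N95964 (tt N107304 (iv1 F457891)) (tt N109046 (iv0 F465091)) (tt N119022 (iv2 F513329)) (tt N59032 F410463) (tt N107367 (iv4 F458119)) (tt N59030 (iv5 D199045)) (tt N105991 (iv6 F452651)) (tt N107433 (iv7 F458325)))
theorem Q95966 : ∀ i, i < 95966 → P i := stepQ 95965 Q95965 (allL N95965 (tt N88764 F452875) (tt N107071 (iv0 F456850)) (tt N113279 (iv2 F484840)) (tt N59033 F410464) (tt N92391 F410465) (tt N119023 D222282) (tt N59030 (iv6 D199046)) (tt N113278 (iv7 F484836)))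
theorem Q95967 : ∀ i, i < 95967 → P i := stepQ 95966 Q95966 (allL N95966 (tt N73214 (iv1 F410468)) (tt N99152 (iv0 F423490)) (tt N117868 (iv2 F507351)) (tt N59034 F410466) (tt N69702 F410467) (tt N107433 (iv5 F458323)) (tt N119024 D222283) (tt N59030 (iv7 D199047)))
theorem Q95968 : ∀ i, i < 95968 → P i := stepQ 95967 Q95967 (allL N95967 (tt N93295 (iv1 F452864)) (tt N93732 F452866) (tt N92908 F410469) (tt N117910 F507550) (tt N59033 F410470) (tt N118591 (iv5 F511046)) (tt N59031 (iv6 D199048)) (tt N118590 (iv7 F511040)))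
theorem Q95969 : ∀ i, i < 95969 → P i := stepQ 95968 Q95968 (allL N95968 (tt N119025 D222284) (tt N107606 (iv0 F458919)) (tt N106416 (iv2 F454338)) (tt N119026 D222285) (tt N59032 (iv4 D199049)) (tt N106517 (iv5 F454742)) (tt N103636 F442333) (tt N107434 (iv7 F458330)))
theorem Q95970 : ∀ i, i < 95970 → P i := stepQ 95969 Q95969 (allL N95969 (tt N73314 (iv1 F410473)) (tt N67768 F410472) (tt N73313 F410471) (tt N119023 (iv3 F513335)) (tt N114963 (iv4 F492787)) (tt N59033 (iv5 D199050)) (tt N104128 (iv6 F444324)) (tt N73312 (iv7 F410478)))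
theorem Q95971 : ∀ i, i < 95971 → P i := stepQ 95970 Q95970 (allL N95970 (tt N73289 (iv1 F410475)) (tt N73225 F410476) (tt N73288 F410474) (tt N113278 F484835) (tt N118590 (iv4 F511039)) (tt N73312 F410477) (tt N118329 (iv6 F509733)) (tt N59033 (iv7 D199051)))
theorem Q95972 : ∀ i, i < 95972 → P i := stepQ 95971 Q95971 (allL N95971 (tt N91063 F410480) (tt N62415 F410481) (tt N59037 F410479) (tt N119024 (iv3 F513342)) (tt N108311 (iv4 F462014)) (tt N113082 (iv5 F483894)) (tt N59034 (iv6 D199052)) (tt N118329 (iv7 F509736)))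
theorem Q95973 : ∀ i, i < 95973 → P i := stepQ 95972 Q95972 (allL N95972 (tt N62401 (iv1 F410485)) (tt N73246 F410484) (tt N59035 (iv2 D199053)) (tt N117868 (iv3 F507352)) (tt N66253 F410482) (tt N95189 (iv5 F410486)) (tt N111843 (iv6 F478262)) (tt N73245 F410483))
theorem Q95974 : ∀ i, i < 95974 → P i := stepQ 95973 Q95973 (allL N95973 (tt N107450 (iv1 F458379)) (tt N73256 (iv0 F410492)) (tt N95189 F410487) (tt N59036 F410488) (tt N72903 F410490) (tt N59035 (iv5 D199054)) (tt N73487 F410491) (tt N95186 F410489))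
theorem Q95975 : ∀ i, i < 95975 → P i := stepQ 95974 Q95974 (allL N95974 (tt N91710 F410495) (tt N102799 (iv0 F438694)) (tt N111843 (iv2 F478260)) (tt N59037 F410493) (tt N75949 F410494) (tt N112905 (iv5 F483212)) (tt N59035 (iv6 D199055)) (tt N111844 (iv7 F478271)))
theorem Q95976 : ∀ i, i < 95976 → P i := stepQ 95975 Q95975 (allL N95975 (tt N107606 (iv1 F458920)) (tt N119025 F513349) (tt N107434 (iv2 F458329)) (tt N95119 F452745) (tt N59036 (iv4 D199056)) (tt N106512 (iv5 F454719)) (tt N116885 F502350) (tt N106416 F454341))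
theorem Q95977 : ∀ i, i < 95977 → P i := stepQ 95976 Q95976 (allL N95976 (tt N83084 F410497) (tt N106425 F454379) (tt N106426 (iv2 F454375)) (tt N73487 F410496) (tt N116885 (iv4 F502348)) (tt N105371 (iv5 F449929)) (tt N59036 (iv6 D199057)) (tt N105993 (iv7 F452662)))
theorem Q95978 : ∀ i, i < 95978 → P i := stepQ 95977 Q95977 (allL N95977 (tt N59037 (iv1 D199058)) (tt N118329 F509735) (tt N62415 F410500) (tt N89272 F410501) (tt N59188 (iv4 F410499)) (tt N118452 (iv5 F510443)) (tt N119013 (iv6 F513280)) (tt N91063 F410498))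
theorem Q95979 : ∀ i, i < 95979 → P i := stepQ 95978 Q95978 (allL N95978 (tt N107130 (iv1 F457114)) (tt N113075 (iv0 F483862)) (tt N113082 F483895) (tt N112905 F483216) (tt N93712 (iv4 F449931)) (tt N59037 (iv5 D199059)) (tt N105371 F449930) (tt N70402 (iv7 F410506)))
theorem Q95980 : ∀ i, i < 95980 → P i := stepQ 95979 Q95979 (allL N95979 (tt N62415 (iv1 F410503)) (tt N91063 F410504) (tt N118329 F509734) (tt N111844 (iv3 F478268)) (tt N108315 F462031) (tt N70402 F410505) (tt N73288 F410502) (tt N59037 (iv7 D199060)))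
theorem Q95981 : ∀ i, i < 95981 → P i := stepQ 95980 Q95980 (allL N95980 (tt N59038 (iv1 D199061)) (tt N59043 F410507) (tt N59040 F410511) (tt N100318 (iv3 F428408)) (tt N103680 (iv4 F442459)) (tt N62268 F410509) (tt N64910 (iv6 F410510)) (tt N59039 F410508))
theorem Q95982 : ∀ i, i < 95982 → P i := stepQ 95981 Q95981 (allL N95981 (tt N103855 (iv1 F443102)) (tt N103854 F443099) (tt N59041 F410512) (tt N103828 (iv3 F442985)) (tt N59038 (iv4 D199062)) (tt N95858 F410514) (tt N103860 (iv6 F443118)) (tt N67701 F410513))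
theorem Q95983 : ∀ i, i < 95983 → P i := stepQ 95982 Q95982 (allL N95982 (tt N106168 (iv1 F453420)) (tt N72112 (iv0 F410517)) (tt N59042 F410515) (tt N111271 (iv3 F475557)) (tt N103860 (iv4 F443117)) (tt N108785 (iv5 F463918)) (tt N59038 (iv6 D199063)) (tt N69540 F410516))
theorem Q95984 : ∀ i, i < 95984 → P i := stepQ 95983 Q95983 (allL N95983 (tt N68873 F410520) (tt N103683 F442473) (tt N103681 F442466) (tt N67120 F410518) (tt N59039 (iv4 D199064)) (tt N105124 (iv5 F448904)) (tt N67119 F410519) (tt N103680 F442463))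
theorem Q95985 : ∀ i, i < 95985 → P i := stepQ 95984 Q95984 (allL N95984 (tt N103683 (iv1 F442474)) (tt N68873 F410521) (tt N103680 F442461) (tt N103512 (iv3 F441894)) (tt N59040 (iv4 D199065)) (tt N103511 F441892) (tt N102618 F437921) (tt N103681 (iv7 F442464)))
theorem Q95986 : ∀ i, i < 95986 → P i := stepQ 95985 Q95985 (allL N95985 (tt N59041 (iv1 D199066)) (tt N67701 F410522) (tt N103854 F443100) (tt N75073 F411287) (tt N106184 (iv4 F453503)) (tt N75072 (iv5 F411286)) (tt N103831 F443008) (tt N103855 (iv7 F443103)))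
theorem Q95987 : ∀ i, i < 95987 → P i := stepQ 95986 Q95986 (allL N95986 (tt N119027 D222286) (tt N119028 D222287) (tt N103861 (iv2 F443122)) (tt N59041 (iv3 D199067)) (tt N59045 F410523) (tt N109031 (iv5 F465007)) (tt N93416 (iv6 F410525)) (tt N59389 F410524))
theorem Q95988 : ∀ i, i < 95988 → P i := stepQ 95987 Q95987 (allL N95987 (tt N72019 (iv1 F410528)) (tt N97796 (iv0 F418340)) (tt N95858 F410526) (tt N109031 (iv3 F465005)) (tt N95855 F410527) (tt N59041 (iv5 D199068)) (tt N105220 (iv6 F449257)) (tt N103785 F442805))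
theorem Q95989 : ∀ i, i < 95989 → P i := stepQ 95988 Q95988 (allL N95988 (tt N103858 (iv1 F443112)) (tt N103857 F443119) (tt N103860 (iv2 F443116)) (tt N93416 F410529) (tt N59042 F410530) (tt N88675 (iv5 F410532)) (tt N59041 (iv6 D199069)) (tt N67694 F410531))
theorem Q95990 : ∀ i, i < 95990 → P i := stepQ 95989 Q95989 (allL N95989 (tt N69540 (iv1 F410533)) (tt N59042 (iv0 D199070)) (tt N106168 (iv2 F453424)) (tt N109844 (iv3 F468867)) (tt N103664 (iv4 F442417)) (tt N99959 (iv5 F426962)) (tt N119029 D222288) (tt N72112 F410538))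
theorem Q95991 : ∀ i, i < 95991 → P i := stepQ 95990 Q95990 (allL N95990 (tt N59042 (iv1 D199071)) (tt N69540 F410534) (tt N72112 F410536) (tt N110274 (iv3 F470776)) (tt N103663 (iv4 F442414)) (tt N69967 F410537) (tt N69968 (iv6 F410535)) (tt N106168 (iv7 F453421)))
theorem Q95992 : ∀ i, i < 95992 → P i := stepQ 95991 Q95991 (allL N95991 (tt N59386 (iv1 F410539)) (tt N59045 (iv0 D199072)) (tt N59388 F411947) (tt N109197 (iv3 F465754)) (tt N109166 (iv4 F465651)) (tt N59398 F410540) (tt N91368 (iv6 F412356)) (tt N59387 (iv7 F411946)))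
theorem Q95993 : ∀ i, i < 95993 → P i := stepQ 95992 Q95992 (allL N95992 (tt N59045 (iv1 D199073)) (tt N59386 F410541) (tt N59387 F411944) (tt N119030 D222289) (tt N119031 D222290) (tt N59399 F410542) (tt N112794 F482650) (tt N59388 F411948))
theorem Q95994 : ∀ i, i < 95994 → P i := stepQ 95993 Q95993 (allL N95993 (tt N59046 (iv1 D199074)) (tt N59659 F410544) (tt N59661 (iv2 F410547)) (tt N112192 (iv3 F479986)) (tt N64785 F410546) (tt N97022 (iv5 F415073)) (tt N69909 (iv6 F410548)) (tt N59660 F410545))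
theorem Q95995 : ∀ i, i < 95995 → P i := stepQ 95994 Q95994 (allL N95994 (tt N59661 (iv1 F410554)) (tt N59660 F410555) (tt N59659 F410549) (tt N93417 F410550) (tt N59049 F410551) (tt N93410 F410552) (tt N59397 F410553) (tt N59046 (iv7 D199075)))
theorem Q95996 : ∀ i, i < 95996 → P i := stepQ 95995 Q95995 (allL N95995 (tt N110523 (iv1 F471974)) (tt N72588 (iv0 F427145)) (tt N108431 (iv2 F462524)) (tt N59047 (iv3 D199076)) (tt N107147 (iv4 F457198)) (tt N100003 F427144) (tt N119032 D222291) (tt N114676 (iv7 F491327)))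
theorem Q95997 : ∀ i, i < 95997 → P i := stepQ 95996 Q95996 (allL N95996 (tt N101051 (iv1 F431460)) (tt N59445 (iv0 F411441)) (tt N101322 F432649) (tt N119033 D222292) (tt N59047 (iv4 D199077)) (tt N118226 F509241) (tt N101384 F443984) (tt N101321 F432645))
theorem Q95998 : ∀ i, i < 95998 → P i := stepQ 95997 Q95997 (allL N95997 (tt N69949 F410559) (tt N69948 (iv0 F410560)) (tt N69950 F410556) (tt N100003 (iv3 F427140)) (tt N72260 F410558) (tt N59047 (iv5 D199078)) (tt N69929 (iv6 F410561)) (tt N69751 F410557))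
theorem Q95999 : ∀ i, i < 95999 → P i := stepQ 95998 Q95998 (allL N95998 (tt N64515 F410563) (tt N64920 F410564) (tt N64918 F410562) (tt N119032 (iv3 F513387)) (tt N101384 (iv4 F443983)) (tt N108002 (iv5 F460675)) (tt N59047 (iv6 D199079)) (tt N64917 (iv7 F410565)))
theorem Q96000 : ∀ i, i < 96000 → P i := stepQ 95999 Q95999 (allL N95999 (tt N89836 F410569) (tt N110519 (iv0 F471960)) (tt N89818 (iv2 F410568)) (tt N59048 (iv3 D199080)) (tt N111040 (iv4 F474385)) (tt N69944 F410566) (tt N69946 F410567) (tt N117339 (iv7 F504537)))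
theorem Q96001 : ∀ i, i < 96001 → P i := stepQ 96000 Q96000 (allL N96000 (tt N59445 F410571) (tt N101051 (iv0 F431459)) (tt N101321 F432644) (tt N112482 (iv3 F481277)) (tt N59048 (iv4 D199081)) (tt N112481 (iv5 F481275)) (tt N69952 F410570) (tt N101322 (iv7 F432647)))
theorem Q96002 : ∀ i, i < 96002 → P i := stepQ 96001 Q96001 (allL N96001 (tt N59651 (iv1 F410573)) (tt N59050 (iv0 D199082)) (tt N59648 (iv2 F410583)) (tt N119034 D222293) (tt N105028 (iv4 F448456)) (tt N70872 (iv5 F410586)) (tt N119035 D222294) (tt N59649 F410582))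
theorem Q96003 : ∀ i, i < 96003 → P i := stepQ 96002 Q96002 (allL N96002 (tt N59050 (iv1 D199083)) (tt N59651 F410574) (tt N59649 F410577) (tt N117313 (iv3 F504416)) (tt N105029 (iv4 F448462)) (tt N70868 (iv5 F410580)) (tt N59635 (iv6 F410576)) (tt N59648 (iv7 F410581)))
theorem Q96004 : ∀ i, i < 96004 → P i := stepQ 96003 Q96003 (allL N96003 (tt N59054 (iv1 F410592)) (tt N59052 (iv0 D199084)) (tt N69782 (iv2 F410591)) (tt N77253 F410589) (tt N73999 F410588) (tt N94808 F410587) (tt N69725 F410590) (tt N94808 F410593))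
theorem Q96005 : ∀ i, i < 96005 → P i := stepQ 96004 Q96004 (allL N96004 (tt N72181 F410599) (tt N72459 F410600) (tt N72621 F410594) (tt N90197 F410595) (tt N59052 (iv4 D199085)) (tt N72435 F410598) (tt N72149 F410596) (tt N72477 F410597))
theorem Q96006 : ∀ i, i < 96006 → P i := stepQ 96005 Q96005 (allL N96005 (tt N117169 (iv1 F503726)) (tt N103967 (iv0 F443561)) (tt N97172 (iv2 F415744)) (tt N59895 F410601) (tt N59056 (iv4 D199086)) (tt N82599 F410602) (tt N59893 (iv6 F410603)) (tt N101926 (iv7 F434973)))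
theorem Q96007 : ∀ i, i < 96007 → P i := stepQ 96006 Q96006 (allL N96006 (tt N99499 (iv1 F424876)) (tt N99498 (iv0 F424871)) (tt N101928 (iv2 F434975)) (tt N92463 F410604) (tt N59893 F410605) (tt N96084 (iv5 F410965)) (tt N59056 (iv6 D199087)) (tt N93936 F410606))
theorem Q96008 : ∀ i, i < 96008 → P i := stepQ 96007 Q96007 (allL N96007 (tt N117007 F502943) (tt N117011 F502964) (tt N117010 (iv2 F502959)) (tt N59057 (iv3 D199088)) (tt N117170 (iv4 F503732)) (tt N107731 F459441) (tt N93937 F410607) (tt N101927 (iv7 F434974)))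
theorem Q96009 : ∀ i, i < 96009 → P i := stepQ 96008 Q96008 (allL N96008 (tt N67456 (iv1 F410610)) (tt N59059 (iv0 D199089)) (tt N93442 F410612) (tt N78442 F410609) (tt N105872 (iv4 F452118)) (tt N59066 F410608) (tt N101120 (iv6 F431774)) (tt N93440 (iv7 F410611)))
theorem Q96010 : ∀ i, i < 96010 → P i := stepQ 96009 Q96009 (allL N96009 (tt N59059 (iv1 D199090)) (tt N67456 F410613) (tt N93440 (iv2 F410616)) (tt N119036 D222295) (tt N111673 (iv4 F477412)) (tt N59067 F410615) (tt N73761 (iv6 F410617)) (tt N93442 F410614))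
theorem Q96011 : ∀ i, i < 96011 → P i := stepQ 96010 Q96010 (allL N96010 (tt N78436 F410619) (tt N111522 F476716) (tt N102064 (iv2 F435567)) (tt N59060 F410618) (tt N102053 (iv4 F435531)) (tt N117530 (iv5 F505543)) (tt N59059 (iv6 D199091)) (tt N102063 (iv7 F435565)))
theorem Q96012 : ∀ i, i < 96012 → P i := stepQ 96011 Q96011 (allL N96011 (tt N78238 F410624) (tt N59060 (iv0 D199092)) (tt N78235 F410625) (tt N78467 (iv3 F410621)) (tt N79825 F410620) (tt N119037 D222296) (tt N94812 (iv6 F410622)) (tt N78236 (iv7 F410623)))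
theorem Q96013 : ∀ i, i < 96013 → P i := stepQ 96012 Q96012 (allL N96012 (tt N59060 (iv1 D199093)) (tt N78238 F410627) (tt N78236 F410630) (tt N78448 F410631) (tt N93400 (iv4 F410629)) (tt N112013 (iv5 F479076)) (tt N112632 (iv6 F481918)) (tt N78235 F410628))
theorem Q96014 : ∀ i, i < 96014 → P i := stepQ 96013 Q96013 (allL N96013 (tt N96063 F410872) (tt N66809 (iv0 F410635)) (tt N78237 F410632) (tt N117530 (iv3 F505541)) (tt N66804 F410634) (tt N59060 (iv5 D199094)) (tt N59063 F410633) (tt N98239 (iv7 F420096)))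
theorem Q96015 : ∀ i, i < 96015 → P i := stepQ 96014 Q96014 (allL N96014 (tt N78236 (iv1 F410639)) (tt N78235 F410640) (tt N78238 F410636) (tt N102063 (iv3 F435563)) (tt N94426 F410637) (tt N98239 (iv5 F420097)) (tt N93473 F410638) (tt N59060 (iv7 D199095)))
theorem Q96016 : ∀ i, i < 96016 → P i := stepQ 96015 Q96015 (allL N96015 (tt N116961 F502720) (tt N117008 F502950) (tt N89797 F410645) (tt N59061 (iv3 D199096)) (tt N78077 F410641) (tt N89054 F410642) (tt N59102 F410643) (tt N78240 F410644))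
theorem Q96017 : ∀ i, i < 96017 → P i := stepQ 96016 Q96016 (allL N96016 (tt N110254 (iv1 F470656)) (tt N108891 (iv0 F464383)) (tt N116144 (iv2 F498720)) (tt N59062 (iv3 D199097)) (tt N81474 F410646) (tt N96104 (iv5 F411068)) (tt N118368 (iv6 F509965)) (tt N78239 F410647))
theorem Q96018 : ∀ i, i < 96018 → P i := stepQ 96017 Q96017 (allL N96017 (tt N59157 (iv1 F410650)) (tt N59154 F410651) (tt N78243 F410648) (tt N117495 (iv3 F505328)) (tt N98134 (iv4 F419619)) (tt N59064 F410649) (tt N119038 D222297) (tt N59063 (iv7 D199098)))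
theorem Q96019 : ∀ i, i < 96019 → P i := stepQ 96018 Q96018 (allL N96018 (tt N92876 (iv1 F410656)) (tt N112812 (iv0 F482732)) (tt N94329 (iv2 F410655)) (tt N59066 (iv3 D199099)) (tt N71378 F410654) (tt N78442 F410652) (tt N96413 (iv6 F412417)) (tt N93439 F410653))
theorem Q96020 : ∀ i, i < 96020 → P i := stepQ 96019 Q96019 (allL N96019 (tt N93450 F410660) (tt N93453 (iv0 F410661)) (tt N93449 (iv2 F453645)) (tt N59067 (iv3 D199100)) (tt N71273 F410657) (tt N119036 (iv5 F513409)) (tt N59133 F410658) (tt N93441 F410659))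
theorem Q96021 : ∀ i, i < 96021 → P i := stepQ 96020 Q96020 (allL N96020 (tt N93445 F410667) (tt N93444 F410668) (tt N59069 F410663) (tt N59500 F410664) (tt N67392 F410665) (tt N59068 (iv5 D199101)) (tt N59498 (iv6 F410669)) (tt N91588 F410666))
theorem Q96022 : ∀ i, i < 96022 → P i := stepQ 96021 Q96021 (allL N96021 (tt N91597 F410675) (tt N91596 (iv0 F410677)) (tt N59070 F410670) (tt N77105 F410671) (tt N91484 F410672) (tt N94865 F410673) (tt N59068 (iv6 D199102)) (tt N77100 F410674))
theorem Q96023 : ∀ i, i < 96023 → P i := stepQ 96022 Q96022 (allL N96022 (tt N59069 (iv1 D199103)) (tt N91588 F410678) (tt N93444 (iv2 F410681)) (tt N117681 (iv3 F506391)) (tt N93065 (iv4 F410682)) (tt N65464 F410680) (tt N101522 (iv6 F433239)) (tt N93445 F410679))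
theorem Q96024 : ∀ i, i < 96024 → P i := stepQ 96023 Q96023 (allL N96023 (tt N96052 (iv1 F410821)) (tt N118407 F510182) (tt N94865 F410683) (tt N59074 F410684) (tt N94857 (iv4 F410687)) (tt N59070 (iv5 D199104)) (tt N94856 F410685) (tt N91598 F410686))
theorem Q96025 : ∀ i, i < 96025 → P i := stepQ 96024 Q96024 (allL N96024 (tt N119039 D222298) (tt N119040 D222299) (tt N93437 F410688) (tt N94856 F410689) (tt N119041 D222300) (tt N59071 (iv5 D199105)) (tt N59074 F410690) (tt N118784 (iv7 F512050)))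
theorem Q96026 : ∀ i, i < 96026 → P i := stepQ 96025 Q96025 (allL N96025 (tt N93458 F419963) (tt N81983 (iv0 F410698)) (tt N93456 F410695) (tt N59072 (iv3 D199106)) (tt N78146 F410691) (tt N86106 (iv5 F410694)) (tt N59156 F410692) (tt N86105 F410693))
theorem Q96027 : ∀ i, i < 96027 → P i := stepQ 96026 Q96026 (allL N96026 (tt N93524 F410702) (tt N93522 F410703) (tt N93419 F410699) (tt N86106 F410700) (tt N98612 (iv4 F421576)) (tt N59072 (iv5 D199107)) (tt N106152 (iv6 F453366)) (tt N86102 F410701))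
theorem Q96028 : ∀ i, i < 96028 → P i := stepQ 96027 Q96027 (allL N96027 (tt N92874 F415052) (tt N111546 (iv0 F476850)) (tt N119042 D222301) (tt N59073 (iv3 D199108)) (tt N81241 F410704) (tt N86046 (iv5 F410707)) (tt N81096 F410705) (tt N93418 F410706))
theorem Q96029 : ∀ i, i < 96029 → P i := stepQ 96028 Q96028 (allL N96028 (tt N93522 F410712) (tt N93524 F410713) (tt N86102 F410708) (tt N86046 F410709) (tt N98667 (iv4 F421799)) (tt N59073 (iv5 D199109)) (tt N86044 F410710) (tt N93419 F410711))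
theorem Q96030 : ∀ i, i < 96030 → P i := stepQ 96029 Q96029 (allL N96029 (tt N74564 F410716) (tt N97852 (iv0 F418514)) (tt N93438 F410714) (tt N119043 D222302) (tt N59074 (iv4 D199110)) (tt N95852 F410715) (tt N119041 (iv6 F513445)) (tt N118249 (iv7 F509364)))
theorem Q96031 : ∀ i, i < 96031 → P i := stepQ 96030 Q96030 (allL N96030 (tt N91591 F410720) (tt N73745 F410721) (tt N91646 F410717) (tt N59078 (iv3 D199111)) (tt N91495 F410718) (tt N96342 F412146) (tt N91659 (iv6 F410722)) (tt N59084 F410719))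
theorem Q96032 : ∀ i, i < 96032 → P i := stepQ 96031 Q96031 (allL N96031 (tt N93374 F410726) (tt N101877 F434785) (tt N59081 F410723) (tt N96342 (iv3 F412144)) (tt N80004 F410725) (tt N59078 (iv5 D199112)) (tt N96339 F412125) (tt N59086 F410724))
theorem Q96033 : ∀ i, i < 96033 → P i := stepQ 96032 Q96032 (allL N96032 (tt N94115 F410731) (tt N118192 F509071) (tt N59082 F410727) (tt N91659 F410728) (tt N96219 (iv4 F411561)) (tt N118377 (iv5 F510021)) (tt N59078 (iv6 D199113)) (tt N91657 F410729))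
theorem Q96034 : ∀ i, i < 96034 → P i := stepQ 96033 Q96033 (allL N96033 (tt N115053 (iv1 F493248)) (tt N114931 (iv0 F492605)) (tt N94537 F410732) (tt N59082 F410733) (tt N94535 F410734) (tt N119044 D222303) (tt N59079 (iv6 D199114)) (tt N115052 (iv7 F493237)))
theorem Q96035 : ∀ i, i < 96035 → P i := stepQ 96034 Q96034 (allL N96034 (tt N59080 (iv1 D199115)) (tt N59085 F410736) (tt N78174 F410740) (tt N59292 (iv3 F410739)) (tt N109904 (iv4 F469146)) (tt N80017 F410738) (tt N59168 F410741) (tt N80016 F410737))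
theorem Q96036 : ∀ i, i < 96036 → P i := stepQ 96035 Q96035 (allL N96035 (tt N107209 F462037) (tt N109589 (iv0 F467613)) (tt N96219 (iv2 F411559)) (tt N86251 F410742) (tt N59082 F410743) (tt N116109 (iv5 F498511)) (tt N59080 (iv6 D199116)) (tt N86249 F410744))
theorem Q96037 : ∀ i, i < 96037 → P i := stepQ 96036 Q96036 (allL N96036 (tt N59086 (iv1 F410749)) (tt N59081 (iv0 D199117)) (tt N93374 (iv2 F410747)) (tt N101946 F435060) (tt N78701 F410746) (tt N93373 F410745) (tt N81281 F410748) (tt N101877 (iv7 F434782)))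
theorem Q96038 : ∀ i, i < 96038 → P i := stepQ 96037 Q96037 (allL N96037 (tt N79234 (iv1 F410752)) (tt N96366 (iv0 F412256)) (tt N96339 F412124) (tt N95714 F410750) (tt N94170 F410751) (tt N119045 D222304) (tt N59081 (iv6 D199118)) (tt N96378 (iv7 F412305)))
theorem Q96039 : ∀ i, i < 96039 → P i := stepQ 96038 Q96038 (allL N96038 (tt N101877 (iv1 F434784)) (tt N93374 (iv0 F410757)) (tt N59086 F410753) (tt N89723 F410754) (tt N80006 F410755) (tt N59083 F410756) (tt N102834 (iv6 F438865)) (tt N59081 (iv7 D199119)))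
theorem Q96040 : ∀ i, i < 96040 → P i := stepQ 96039 Q96039 (allL N96039 (tt N91657 (iv1 F410764)) (tt N59082 (iv0 D199120)) (tt N94115 (iv2 F410758)) (tt N101947 (iv3 F473673)) (tt N119013 (iv4 F513279)) (tt N116337 (iv5 F499618)) (tt N59188 F410759) (tt N118192 (iv7 F509069)))
theorem Q96041 : ∀ i, i < 96041 → P i := stepQ 96040 Q96040 (allL N96040 (tt N118371 F509986) (tt N118194 (iv0 F509079)) (tt N118377 F510022) (tt N119044 (iv3 F513464)) (tt N86313 F410760) (tt N59082 (iv5 D199121)) (tt N119045 (iv6 F513470)) (tt N118376 (iv7 F510018)))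
theorem Q96042 : ∀ i, i < 96042 → P i := stepQ 96041 Q96041 (allL N96041 (tt N118192 (iv1 F509070)) (tt N94115 F410765) (tt N91657 F410761) (tt N115052 (iv3 F493241)) (tt N86249 F410762) (tt N118376 (iv5 F510013)) (tt N86248 F410763) (tt N59082 (iv7 D199122)))
theorem Q96043 : ∀ i, i < 96043 → P i := stepQ 96042 Q96042 (allL N96042 (tt N91646 (iv1 F410769)) (tt N59084 (iv0 D199123)) (tt N73745 (iv2 F410768)) (tt N101939 F435023) (tt N59115 F410766) (tt N103275 (iv5 F440931)) (tt N59179 F410767) (tt N91591 F410770))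
theorem Q96044 : ∀ i, i < 96044 → P i := stepQ 96043 Q96043 (allL N96043 (tt N59087 (iv1 D199124)) (tt N86248 F410771) (tt N89381 (iv2 F410774)) (tt N101953 F453913) (tt N83082 F410773) (tt N114785 (iv5 F491846)) (tt N59175 (iv6 F410775)) (tt N90047 F410772))
theorem Q96045 : ∀ i, i < 96045 → P i := stepQ 96044 Q96044 (allL N96044 (tt N103275 F440932) (tt N103274 (iv0 F440929)) (tt N112130 (iv2 F479646)) (tt N59090 (iv3 D199125)) (tt N112318 (iv4 F480522)) (tt N117535 (iv5 F505575)) (tt N111700 (iv6 F477565)) (tt N117534 (iv7 F505570)))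
theorem Q96046 : ∀ i, i < 96046 → P i := stepQ 96045 Q96045 (allL N96045 (tt N59162 (iv1 F410780)) (tt N59091 (iv0 D199126)) (tt N59201 (iv2 F410781)) (tt N95163 F410777) (tt N72142 F410778) (tt N95161 F410776) (tt N90541 F410779) (tt N59200 (iv7 F410782)))
theorem Q96047 : ∀ i, i < 96047 → P i := stepQ 96046 Q96046 (allL N96046 (tt N59091 (iv1 D199127)) (tt N59162 F410783) (tt N59200 (iv2 F410786)) (tt N117111 (iv3 F503451)) (tt N95600 F410785) (tt N95604 (iv5 F410787)) (tt N118308 F509631) (tt N59201 F410784))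
theorem Q96048 : ∀ i, i < 96048 → P i := stepQ 96047 Q96047 (allL N96047 (tt N95086 F412403) (tt N119046 D222305) (tt N118353 (iv2 F509864)) (tt N59098 F410788) (tt N93575 F410789) (tt N101488 (iv5 F433115)) (tt N59096 (iv6 D199128)) (tt N119047 D222306))
theorem Q96049 : ∀ i, i < 96049 → P i := stepQ 96048 Q96048 (allL N96048 (tt N59100 (iv1 F410793)) (tt N59097 (iv0 D199129)) (tt N87630 (iv2 F410792)) (tt N72464 (iv3 F410795)) (tt N74536 F410791) (tt N87163 F410790) (tt N81794 F410796) (tt N85626 F410794))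
theorem Q96050 : ∀ i, i < 96050 → P i := stepQ 96049 Q96049 (allL N96049 (tt N95581 F410800) (tt N99717 (iv0 F425892)) (tt N71581 F410797) (tt N59097 (iv3 D199130)) (tt N93574 F410798) (tt N103222 (iv5 F440648)) (tt N95569 (iv6 F440651)) (tt N93916 F410799))
theorem Q96051 : ∀ i, i < 96051 → P i := stepQ 96050 Q96050 (allL N96050 (tt N117105 F503419) (tt N108504 (iv0 F462881)) (tt N93926 F410805) (tt N95569 F440652) (tt N59098 F410806) (tt N91666 F410807) (tt N59097 (iv6 D199131)) (tt N117664 (iv7 F506290)))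
theorem Q96052 : ∀ i, i < 96052 → P i := stepQ 96051 Q96051 (allL N96051 (tt N93929 (iv1 F410818)) (tt N59098 (iv0 D199132)) (tt N93521 (iv2 F410813)) (tt N93885 (iv3 F410814)) (tt N108484 (iv4 F462790)) (tt N96451 (iv5 F412575)) (tt N95062 F410812) (tt N93927 F410815))
theorem Q96053 : ∀ i, i < 96053 → P i := stepQ 96052 Q96052 (allL N96052 (tt N110191 (iv1 F470360)) (tt N96023 F410821) (tt N93928 F410819) (tt N101488 F433114) (tt N110846 (iv4 F473424)) (tt N59098 (iv5 D199133)) (tt N93886 F410820) (tt N117554 (iv7 F505666)))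
theorem Q96054 : ∀ i, i < 96054 → P i := stepQ 96053 Q96053 (allL N96053 (tt N93927 (iv1 F410824)) (tt N93521 F410825) (tt N93929 F410822) (tt N119047 (iv3 F513479)) (tt N117664 (iv4 F506292)) (tt N117554 (iv5 F505664)) (tt N93921 F410823) (tt N59098 (iv7 D199134)))
theorem Q96055 : ∀ i, i < 96055 → P i := stepQ 96054 Q96054 (allL N96054 (tt N93922 (iv1 F410830)) (tt N59099 (iv0 D199135)) (tt N71423 (iv2 F410829)) (tt N93883 F410828) (tt N70899 F410827) (tt N73758 F410826) (tt N117556 (iv6 F505676)) (tt N71419 F410831))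
theorem Q96056 : ∀ i, i < 96056 → P i := stepQ 96055 Q96055 (allL N96055 (tt N71423 (iv1 F410836)) (tt N71419 F410835) (tt N59099 (iv2 D199136)) (tt N93572 F410832) (tt N106976 (iv4 F456503)) (tt N93887 F410833) (tt N119048 D222307) (tt N93922 F410834))
theorem Q96057 : ∀ i, i < 96057 → P i := stepQ 96056 Q96056 (allL N96056 (tt N59186 F410840) (tt N59173 F410841) (tt N106976 (iv2 F456499)) (tt N71579 F410837) (tt N59099 (iv4 D199137)) (tt N91106 F410839) (tt N117182 (iv6 F503799)) (tt N93923 F410838))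
theorem Q96058 : ∀ i, i < 96058 → P i := stepQ 96057 Q96057 (allL N96057 (tt N119049 D222308) (tt N116963 (iv0 F502727)) (tt N119048 (iv2 F513485)) (tt N59101 F410842) (tt N117182 (iv4 F503798)) (tt N119050 D222309) (tt N59099 (iv6 D199138)) (tt N119051 D222310))
theorem Q96059 : ∀ i, i < 96059 → P i := stepQ 96058 Q96058 (allL N96058 (tt N98271 (iv1 F420272)) (tt N92800 F410847) (tt N93917 F410843) (tt N71580 F410844) (tt N73781 F410845) (tt N59100 (iv5 D199139)) (tt N113595 (iv6 F486211)) (tt N93925 F410846))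
theorem Q96060 : ∀ i, i < 96060 → P i := stepQ 96059 Q96059 (allL N96059 (tt N87341 F410851) (tt N114200 F488958) (tt N93920 F410848) (tt N119050 (iv3 F513498)) (tt N87320 (iv4 F410850)) (tt N59101 (iv5 D199140)) (tt N93890 F410849) (tt N114198 (iv7 F495908)))
theorem Q96061 : ∀ i, i < 96061 → P i := stepQ 96060 Q96060 (allL N96060 (tt N93536 (iv1 F410854)) (tt N93919 F410855) (tt N93921 F410852) (tt N119051 (iv3 F513504)) (tt N116466 (iv4 F500280)) (tt N114198 (iv5 F495907)) (tt N93929 F410853) (tt N59101 (iv7 D199141)))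
theorem Q96062 : ∀ i, i < 96062 → P i := stepQ 96061 Q96061 (allL N96061 (tt N93563 (iv1 F410862)) (tt N93529 F410861) (tt N59102 (iv2 D199142)) (tt N90150 F410856) (tt N89083 F410857) (tt N61299 F410858) (tt N89797 F410859) (tt N93564 F410860))
theorem Q96063 : ∀ i, i < 96063 → P i := stepQ 96062 Q96062 (allL N96062 (tt N118219 (iv1 F509222)) (tt N95084 (iv0 F410867)) (tt N118358 (iv2 F509896)) (tt N59106 F410863) (tt N65081 F410864) (tt N95075 F410865) (tt N59104 (iv6 D199143)) (tt N118368 (iv7 F509966)))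
theorem Q96064 : ∀ i, i < 96064 → P i := stepQ 96063 Q96063 (allL N96063 (tt N103047 F439834) (tt N96013 (iv0 F410872)) (tt N93566 F410868) (tt N90152 F410869) (tt N61321 F410870) (tt N111433 (iv5 F476345)) (tt N59105 (iv6 D199144)) (tt N61218 F410871))
theorem Q96065 : ∀ i, i < 96065 → P i := stepQ 96064 Q96064 (allL N96064 (tt N92126 F410876) (tt N97831 F418446) (tt N93896 F410873) (tt N85366 F410874) (tt N92166 F410875) (tt N118615 (iv5 F511174)) (tt N59107 (iv6 D199145)) (tt N97829 F418444))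
theorem Q96066 : ∀ i, i < 96066 → P i := stepQ 96065 Q96065 (allL N96065 (tt N108886 (iv1 F464369)) (tt N107153 (iv0 F457220)) (tt N114460 (iv2 F490287)) (tt N59108 (iv3 D199146)) (tt N107947 (iv4 F460423)) (tt N67110 F410877) (tt N98323 (iv6 F420500)) (tt N93895 F410878))
theorem Q96067 : ∀ i, i < 96067 → P i := stepQ 96066 Q96066 (allL N96066 (tt N118343 (iv1 F509806)) (tt N89730 (iv0 F410883)) (tt N86188 F410879) (tt N85644 F410880) (tt N86185 F410881) (tt N93949 F410882) (tt N59110 (iv6 D199147)) (tt N96106 (iv7 F411083)))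
theorem Q96068 : ∀ i, i < 96068 → P i := stepQ 96067 Q96067 (allL N96067 (tt N97056 F415247) (tt N67800 (iv0 F410889)) (tt N102676 (iv2 F438163)) (tt N59112 F410885) (tt N71547 F410886) (tt N67581 F410888) (tt N59111 (iv6 D199148)) (tt N92534 F410887))
theorem Q96069 : ∀ i, i < 96069 → P i := stepQ 96068 Q96068 (allL N96068 (tt N67353 F410893) (tt N67351 (iv0 F410898)) (tt N91594 F410890) (tt N116805 (iv3 F501931)) (tt N60294 F410891) (tt N78271 F410894) (tt N59113 (iv6 D199149)) (tt N92531 F410892))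
theorem Q96070 : ∀ i, i < 96070 → P i := stepQ 96069 Q96069 (allL N96069 (tt N91459 F410901) (tt N60297 (iv0 F410902)) (tt N99274 (iv2 F423898)) (tt N59116 (iv3 D199150)) (tt N77982 F410899) (tt N115823 (iv5 F497090)) (tt N98842 (iv6 F422536)) (tt N91589 F410900))
theorem Q96071 : ∀ i, i < 96071 → P i := stepQ 96070 Q96070 (allL N96070 (tt N93835 F410905) (tt N108255 (iv0 F461721)) (tt N91593 F410903) (tt N98842 F422538) (tt N111371 (iv4 F476049)) (tt N102818 (iv5 F438787)) (tt N59116 (iv6 D199151)) (tt N93745 F410904))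
theorem Q96072 : ∀ i, i < 96072 → P i := stepQ 96071 Q96071 (allL N96071 (tt N108255 (iv1 F461722)) (tt N93835 (iv0 F410910)) (tt N93745 F410906) (tt N117446 (iv3 F505072)) (tt N73733 F410907) (tt N91361 F410908) (tt N59117 (iv6 D199152)) (tt N91593 F410909))
theorem Q96073 : ∀ i, i < 96073 → P i := stepQ 96072 Q96072 (allL N96072 (tt N103211 F440587) (tt N102861 (iv0 F438987)) (tt N116508 F500522) (tt N59118 (iv3 D199153)) (tt N62075 F410911) (tt N108488 (iv5 F462799)) (tt N91589 F410912) (tt N93744 F410913))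
theorem Q96074 : ∀ i, i < 96074 → P i := stepQ 96073 Q96073 (allL N96073 (tt N59120 (iv1 D199154)) (tt N85671 F410914) (tt N85672 F410918) (tt N107521 (iv3 F458647)) (tt N99473 (iv4 F424739)) (tt N87077 F410916) (tt N91584 (iv6 F410917)) (tt N85638 F410915))
theorem Q96075 : ∀ i, i < 96075 → P i := stepQ 96074 Q96074 (allL N96074 (tt N59121 (iv1 D199155)) (tt N92528 F410919) (tt N92526 (iv2 F410921)) (tt N96734 F413665) (tt N103202 F440552) (tt N118418 (iv5 F510246)) (tt N87564 (iv6 F413666)) (tt N92525 F410920))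
theorem Q96076 : ∀ i, i < 96076 → P i := stepQ 96075 Q96075 (allL N96075 (tt N67351 (iv1 F410929)) (tt N67353 (iv0 F410927)) (tt N92531 F410922) (tt N71045 F410923) (tt N93090 F410924) (tt N78270 F410926) (tt N59122 (iv6 D199156)) (tt N91594 F410925))
theorem Q96077 : ∀ i, i < 96077 → P i := stepQ 96076 Q96076 (allL N96076 (tt N102003 (iv1 F435320)) (tt N101993 (iv0 F435270)) (tt N92532 F410930) (tt N102167 (iv3 F436006)) (tt N59123 (iv4 D199157)) (tt N97477 (iv5 F417008)) (tt N67292 F410931) (tt N102002 (iv7 F435315)))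
theorem Q96078 : ∀ i, i < 96078 → P i := stepQ 96077 Q96077 (allL N96077 (tt N67320 F410936) (tt N67321 (iv0 F410937)) (tt N101139 (iv2 F431884)) (tt N59129 F410932) (tt N62356 F410933) (tt N64679 F410934) (tt N59127 (iv6 D199158)) (tt N70224 F410935))
theorem Q96079 : ∀ i, i < 96079 → P i := stepQ 96078 Q96078 (allL N96078 (tt N67138 F410940) (tt N93673 F410941) (tt N108474 (iv2 F462750)) (tt N59128 (iv3 D199159)) (tt N62354 F410938) (tt N102883 (iv5 F439088)) (tt N117563 (iv6 F505718)) (tt N92533 F410939))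
theorem Q96080 : ∀ i, i < 96080 → P i := stepQ 96079 Q96079 (allL N96079 (tt N97618 F417623) (tt N97171 F415738) (tt N92537 F410943) (tt N117563 (iv3 F505715)) (tt N59129 F410944) (tt N69462 F410946) (tt N59128 (iv6 D199160)) (tt N91413 F410945))
theorem Q96081 : ∀ i, i < 96081 → P i := stepQ 96080 Q96080 (allL N96080 (tt N90568 F410950) (tt N108477 (iv0 F462755)) (tt N90524 F410947) (tt N101823 (iv3 F434517)) (tt N59132 F410948) (tt N81792 F410949) (tt N59131 (iv6 D199161)) (tt N111599 (iv7 F477104)))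
theorem Q96082 : ∀ i, i < 96082 → P i := stepQ 96081 Q96081 (allL N96081 (tt N101778 (iv1 F434306)) (tt N101777 (iv0 F434300)) (tt N59138 F410951) (tt N93731 F410952) (tt N72233 F410953) (tt N59135 (iv5 D199162)) (tt N73148 F410954) (tt N72231 F410955))
theorem Q96083 : ∀ i, i < 96083 → P i := stepQ 96082 Q96082 (allL N96082 (tt N59137 (iv1 F410961)) (tt N59136 F410962) (tt N59139 F410956) (tt N75353 F410957) (tt N85671 F410958) (tt N72231 F410959) (tt N77084 F410960) (tt N59135 (iv7 D199163)))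
theorem Q96084 : ∀ i, i < 96084 → P i := stepQ 96083 Q96083 (allL N96083 (tt N104371 F445465) (tt N114787 F491863) (tt N117569 (iv2 F505751)) (tt N117330 (iv3 F504488)) (tt N115904 (iv4 F497509)) (tt N119052 D222311) (tt N59137 (iv6 D199164)) (tt N91586 F410963))
theorem Q96085 : ∀ i, i < 96085 → P i := stepQ 96084 Q96084 (allL N96084 (tt N72231 (iv1 F410966)) (tt N59138 (iv0 D199165)) (tt N101778 (iv2 F434302)) (tt N101523 (iv3 F433241)) (tt N75325 F410964) (tt N96006 F410965) (tt N73134 (iv6 F410967)) (tt N101777 (iv7 F434298)))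
theorem Q96086 : ∀ i, i < 96086 → P i := stepQ 96085 Q96085 (allL N96085 (tt N59143 (iv1 F410970)) (tt N59141 (iv0 D199166)) (tt N93666 F410972) (tt N90307 (iv3 F410971)) (tt N71057 F410969) (tt N69060 F410968) (tt N91364 F410973) (tt N93667 F410974))
theorem Q96087 : ∀ i, i < 96087 → P i := stepQ 96086 Q96086 (allL N96086 (tt N59141 (iv1 D199167)) (tt N59143 F410975) (tt N93667 F410980) (tt N80463 (iv3 F410979)) (tt N71056 F410978) (tt N74228 F410977) (tt N81696 F410981) (tt N93666 F410976))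
theorem Q96088 : ∀ i, i < 96088 → P i := stepQ 96087 Q96087 (allL N96087 (tt N108474 (iv1 F462745)) (tt N92533 F410985) (tt N93673 F410983) (tt N108289 (iv3 F461906)) (tt N59143 (iv4 D199168)) (tt N97583 (iv5 F417463)) (tt N102870 (iv6 F439026)) (tt N67138 F410984))
theorem Q96089 : ∀ i, i < 96089 → P i := stepQ 96088 Q96088 (allL N96088 (tt N108229 (iv1 F461586)) (tt N90297 (iv0 F410987)) (tt N93674 F410986) (tt N114940 (iv3 F492655)) (tt N102870 (iv4 F439025)) (tt N90378 (iv5 F410988)) (tt N59143 (iv6 D199169)) (tt N108227 (iv7 F461572)))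
theorem Q96090 : ∀ i, i < 96090 → P i := stepQ 96089 Q96089 (allL N96089 (tt N93775 (iv1 F410994)) (tt N73062 (iv0 F410993)) (tt N93773 F410992) (tt N59145 (iv3 D199170)) (tt N119053 D222312) (tt N94420 F410990) (tt N119054 D222313) (tt N93737 F410991))
theorem Q96091 : ∀ i, i < 96091 → P i := stepQ 96090 Q96090 (allL N96090 (tt N68088 F410998) (tt N92891 F410999) (tt N93663 F410995) (tt N87460 F411000) (tt N59145 (iv4 D199171)) (tt N87459 F410997) (tt N74061 F411001) (tt N93664 F410996))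
theorem Q96092 : ∀ i, i < 96092 → P i := stepQ 96091 Q96091 (allL N96091 (tt N118710 (iv1 F511680)) (tt N119055 D222314) (tt N93736 F411002) (tt N119054 (iv3 F513523)) (tt N74061 F411003) (tt N93434 F411004) (tt N59145 (iv6 D199172)) (tt N119056 D222315))
theorem Q96093 : ∀ i, i < 96093 → P i := stepQ 96092 Q96092 (allL N96092 (tt N89475 F411008) (tt N116835 F502090) (tt N106748 (iv2 F455523)) (tt N59146 (iv3 D199173)) (tt N106741 (iv4 F455499)) (tt N74614 F411005) (tt N89551 (iv6 F411007)) (tt N93735 F411006))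
theorem Q96094 : ∀ i, i < 96094 → P i := stepQ 96093 Q96093 (allL N96093 (tt N92891 F411011) (tt N68088 F411012) (tt N93664 F411009) (tt N90544 (iv3 F411014)) (tt N59146 (iv4 D199174)) (tt N103328 (iv5 F441155)) (tt N72139 F411013) (tt N93663 F411010))
theorem Q96095 : ∀ i, i < 96095 → P i := stepQ 96094 Q96094 (allL N96094 (tt N90280 (iv1 F411020)) (tt N90281 (iv0 F411019)) (tt N90279 F411015) (tt N89551 F411016) (tt N72139 F411017) (tt N74618 F411018) (tt N59146 (iv6 D199175)) (tt N90278 (iv7 F411021)))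
theorem Q96096 : ∀ i, i < 96096 → P i := stepQ 96095 Q96095 (allL N96095 (tt N75571 F411026) (tt N112695 (iv0 F482212)) (tt N99703 (iv2 F425811)) (tt N59147 (iv3 D199176)) (tt N73169 F411022) (tt N71052 F411023) (tt N73167 F411024) (tt N78258 F411025))
theorem Q96097 : ∀ i, i < 96097 → P i := stepQ 96096 Q96096 (allL N96096 (tt N93102 F417052) (tt N102905 (iv0 F439205)) (tt N87915 F411027) (tt N59149 (iv3 D199177)) (tt N75088 F411028) (tt N87453 (iv5 F411031)) (tt N87911 F411029) (tt N93225 F411030))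
theorem Q96098 : ∀ i, i < 96098 → P i := stepQ 96097 Q96097 (allL N96097 (tt N86950 F411037) (tt N96817 (iv0 F414101)) (tt N60454 F411032) (tt N87453 F411033) (tt N87459 F411036) (tt N59149 (iv5 D199178)) (tt N91303 F411034) (tt N93226 F411035))
theorem Q96099 : ∀ i, i < 96099 → P i := stepQ 96098 Q96098 (allL N96098 (tt N59151 (iv1 D199179)) (tt N65981 F411044) (tt N65967 (iv2 F411047)) (tt N97579 (iv3 F417440)) (tt N96907 (iv4 F414553)) (tt N68833 F411046) (tt N103381 (iv6 F441376)) (tt N65980 F411045))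
theorem Q96100 : ∀ i, i < 96100 → P i := stepQ 96099 Q96099 (allL N96099 (tt N119057 D222316) (tt N112824 (iv0 F482805)) (tt N93338 F411048) (tt N59154 F411049) (tt N116797 (iv4 F501890)) (tt N59153 (iv5 D199180)) (tt N85207 F411051) (tt N93726 F411050))
theorem Q96101 : ∀ i, i < 96101 → P i := stepQ 96100 Q96100 (allL N96100 (tt N81099 (iv1 F411058)) (tt N80798 (iv0 F411057)) (tt N81095 F411052) (tt N59155 F411053) (tt N80830 F411054) (tt N93943 F411055) (tt N59153 (iv6 D199181)) (tt N81096 F411056))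
theorem Q96102 : ∀ i, i < 96102 → P i := stepQ 96101 Q96101 (allL N96101 (tt N112837 F482879) (tt N119058 D222317) (tt N93791 F411059) (tt N59157 F411060) (tt N110519 (iv4 F471959)) (tt N59156 (iv5 D199182)) (tt N119059 D222318) (tt N93723 F411061))
theorem Q96103 : ∀ i, i < 96103 → P i := stepQ 96102 Q96102 (allL N96102 (tt N93389 F411064) (tt N98327 F420517) (tt N93727 F411062) (tt N109800 F468679) (tt N59157 (iv4 D199183)) (tt N98476 (iv5 F421050)) (tt N85220 (iv6 F411065)) (tt N78386 F411063))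
theorem Q96104 : ∀ i, i < 96104 → P i := stepQ 96103 Q96103 (allL N96103 (tt N113316 (iv1 F484991)) (tt N108659 (iv0 F463403)) (tt N93728 F411066) (tt N119059 (iv3 F513557)) (tt N85220 F411067) (tt N106152 (iv5 F453367)) (tt N59157 (iv6 D199184)) (tt N98221 (iv7 F420043)))
theorem Q96105 : ∀ i, i < 96105 → P i := stepQ 96104 Q96104 (allL N96104 (tt N114586 (iv1 F490880)) (tt N85100 (iv0 F411070)) (tt N114587 (iv2 F490886)) (tt N59158 (iv3 D199185)) (tt N89866 F411071) (tt N96016 F411068) (tt N94825 F411072) (tt N85152 F411069))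
theorem Q96106 : ∀ i, i < 96106 → P i := stepQ 96105 Q96105 (allL N96105 (tt N76238 (iv1 F411078)) (tt N76237 (iv0 F411079)) (tt N76239 F411073) (tt N94825 F411074) (tt N61239 F411075) (tt N74239 F411076) (tt N59158 (iv6 D199186)) (tt N61236 F411077))
theorem Q96107 : ∀ i, i < 96107 → P i := stepQ 96106 Q96106 (allL N96106 (tt N97145 (iv1 F415666)) (tt N97155 (iv0 F415701)) (tt N93752 F411080) (tt N94612 F411081) (tt N103044 (iv4 F439814)) (tt N93738 F411082) (tt N59161 (iv6 D199187)) (tt N96066 F411083))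
theorem Q96108 : ∀ i, i < 96108 → P i := stepQ 96107 Q96107 (allL N96107 (tt N95597 F411089) (tt N95596 F411090) (tt N59202 F411084) (tt N80944 F411085) (tt N95538 F411086) (tt N59162 (iv5 D199188)) (tt N65489 F411087) (tt N95537 F411088))
theorem Q96109 : ∀ i, i < 96109 → P i := stepQ 96108 Q96108 (allL N96108 (tt N85670 F411096) (tt N99473 F424741) (tt N99472 (iv2 F424736)) (tt N59165 F411093) (tt N91643 F411094) (tt N73014 F411095) (tt N59163 (iv6 D199189)) (tt N99471 F424732))
theorem Q96110 : ∀ i, i < 96110 → P i := stepQ 96109 Q96109 (allL N96109 (tt N106203 F453594) (tt N72757 F411100) (tt N59170 F411097) (tt N69690 F411098) (tt N106406 (iv4 F454318)) (tt N59164 (iv5 D199190)) (tt N106197 (iv6 F453573)) (tt N59184 F411099))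
theorem Q96111 : ∀ i, i < 96111 → P i := stepQ 96110 Q96110 (allL N96110 (tt N106042 F452865) (tt N106043 (iv0 F452871)) (tt N59171 F411101) (tt N69691 F411102) (tt N59165 F411103) (tt N73422 (iv5 F411104)) (tt N59164 (iv6 D199191)) (tt N106756 (iv7 F455560)))
theorem Q96112 : ∀ i, i < 96112 → P i := stepQ 96111 Q96111 (allL N96111 (tt N108664 (iv1 F463441)) (tt N118312 F509651) (tt N59176 F411105) (tt N73014 F411106) (tt N102658 (iv4 F438098)) (tt N59165 (iv5 D199192)) (tt N73012 F411107) (tt N110841 (iv7 F473409)))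
theorem Q96113 : ∀ i, i < 96113 → P i := stepQ 96112 Q96112 (allL N96112 (tt N59166 (iv1 D199193)) (tt N74668 F411108) (tt N60029 F411113) (tt N62579 (iv3 F411112)) (tt N81118 F411110) (tt N62578 F411111) (tt N111552 (iv6 F476883)) (tt N74670 F411109))
theorem Q96114 : ∀ i, i < 96114 → P i := stepQ 96113 Q96113 (allL N96113 (tt N81078 (iv1 F411118)) (tt N81085 F411119) (tt N73184 F411114) (tt N59174 F411115) (tt N73192 F411116) (tt N119060 D222319) (tt N59166 (iv6 D199194)) (tt N90484 F411117))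
theorem Q96115 : ∀ i, i < 96115 → P i := stepQ 96114 Q96114 (allL N96114 (tt N118156 (iv1 F508913)) (tt N59167 (iv0 D199195)) (tt N75356 (iv2 F411121)) (tt N108121 (iv3 F461198)) (tt N93769 F419952) (tt N93756 (iv5 F411122)) (tt N91644 F411120) (tt N118033 (iv7 F508202)))
theorem Q96116 : ∀ i, i < 96116 → P i := stepQ 96115 Q96115 (allL N96115 (tt N59167 (iv1 D199196)) (tt N118156 F508912) (tt N118033 (iv2 F508200)) (tt N75358 (iv3 F411125)) (tt N93770 (iv4 F411124)) (tt N90305 F411126) (tt N112305 (iv6 F480459)) (tt N75356 F411123))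
theorem Q96117 : ∀ i, i < 96117 → P i := stepQ 96116 Q96116 (allL N96116 (tt N119061 D222320) (tt N119062 D222321) (tt N118155 (iv2 F508902)) (tt N59176 F411127) (tt N119063 D222322) (tt N59167 (iv5 D199197)) (tt N119060 (iv6 F513566)) (tt N119064 D222323))
theorem Q96118 : ∀ i, i < 96118 → P i := stepQ 96117 Q96117 (allL N96117 (tt N118033 F508205) (tt N75356 (iv0 F452874)) (tt N118156 (iv2 F508907)) (tt N59177 F411128) (tt N116697 (iv4 F501359)) (tt N119064 (iv5 F513589)) (tt N108325 F462072) (tt N59167 (iv7 D199198)))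
theorem Q96119 : ∀ i, i < 96119 → P i := stepQ 96118 Q96118 (allL N96118 (tt N73436 F411132) (tt N90020 F411133) (tt N107281 (iv2 F457774)) (tt N59170 F411129) (tt N107306 (iv4 F457894)) (tt N59169 (iv5 D199199)) (tt N88795 F411130) (tt N85407 F411131))
theorem Q96120 : ∀ i, i < 96120 → P i := stepQ 96119 Q96119 (allL N96119 (tt N59184 (iv1 F411137)) (tt N59170 (iv0 D199200)) (tt N106203 (iv2 F453590)) (tt N62297 (iv3 F411135)) (tt N119065 D222324) (tt N62296 F411134) (tt N104523 F446132) (tt N72757 (iv7 F411136)))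
theorem Q96121 : ∀ i, i < 96121 → P i := stepQ 96120 Q96120 (allL N96120 (tt N59170 (iv1 D199201)) (tt N59184 F411138) (tt N72757 (iv2 F411141)) (tt N95933 (iv3 F411142)) (tt N98053 (iv4 F419295)) (tt N72756 F411139) (tt N97976 (iv6 F419036)) (tt N106203 (iv7 F453592)))
theorem Q96122 : ∀ i, i < 96122 → P i := stepQ 96121 Q96121 (allL N96121 (tt N104531 F446168) (tt N73279 F411144) (tt N106406 (iv2 F454316)) (tt N118143 (iv3 F508832)) (tt N59170 (iv4 D199202)) (tt N72019 F411143) (tt N104518 (iv6 F446117)) (tt N107435 (iv7 F458336)))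
theorem Q96123 : ∀ i, i < 96123 → P i := stepQ 96122 Q96122 (allL N96122 (tt N90059 F411149) (tt N65461 (iv0 F411146)) (tt N106197 F453575) (tt N88795 F411145) (tt N104518 (iv4 F446116)) (tt N88793 F411147) (tt N59170 (iv6 D199203)) (tt N106198 (iv7 F453582)))
theorem Q96124 : ∀ i, i < 96124 → P i := stepQ 96123 Q96123 (allL N96123 (tt N72757 (iv1 F411153)) (tt N106203 F453595) (tt N59184 F411150) (tt N85407 F411151) (tt N107435 (iv4 F458333)) (tt N59172 F411152) (tt N85404 (iv6 F411156)) (tt N59170 (iv7 D199204)))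
theorem Q96125 : ∀ i, i < 96125 → P i := stepQ 96124 Q96124 (allL N96124 (tt N99827 F426414) (tt N106859 F456037) (tt N73422 F411157) (tt N88796 F411158) (tt N67767 F411161) (tt N59171 (iv5 D199205)) (tt N88793 F411159) (tt N73420 F411160))
theorem Q96126 : ∀ i, i < 96126 → P i := stepQ 96125 Q96125 (allL N96125 (tt N99545 (iv1 F425085)) (tt N119017 (iv0 F513307)) (tt N59185 F411162) (tt N85928 F411163) (tt N59178 F411164) (tt N85927 F411165) (tt N59172 (iv6 D199206)) (tt N86341 F411166))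
theorem Q96127 : ∀ i, i < 96127 → P i := stepQ 96126 Q96126 (allL N96126 (tt N59173 (iv1 D199207)) (tt N59186 F411167) (tt N93923 (iv2 F411169)) (tt N66350 (iv3 F411170)) (tt N93922 F411168) (tt N106074 (iv5 F453001)) (tt N119066 D222325) (tt N106976 (iv7 F456501)))
theorem Q96128 : ∀ i, i < 96128 → P i := stepQ 96127 Q96127 (allL N96127 (tt N60853 F411173) (tt N71335 F411175) (tt N71400 F411171) (tt N59173 (iv3 D199208)) (tt N81420 F411172) (tt N60926 (iv5 F411174)) (tt N81419 (iv6 F411176)) (tt N106569 (iv7 F454896)))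
theorem Q96129 : ∀ i, i < 96129 → P i := stepQ 96128 Q96128 (allL N96128 (tt N71967 F411180) (tt N71931 F411181) (tt N72013 F411177) (tt N60926 F411178) (tt N97796 (iv4 F418338)) (tt N59173 (iv5 D199209)) (tt N113821 F487289) (tt N72018 F411179))
theorem Q96130 : ∀ i, i < 96130 → P i := stepQ 96129 Q96129 (allL N96129 (tt N119067 D222326) (tt N119068 D222327) (tt N116674 (iv2 F501252)) (tt N81419 F411182) (tt N59174 F411183) (tt N116665 (iv5 F501208)) (tt N59173 (iv6 D199210)) (tt N90485 (iv7 F411184)))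
theorem Q96131 : ∀ i, i < 96131 → P i := stepQ 96130 Q96130 (allL N96130 (tt N119069 D222328) (tt N93605 (iv0 F424722)) (tt N73012 F411185) (tt N119060 (iv3 F513564)) (tt N92394 (iv4 F459927)) (tt N59174 (iv5 D199211)) (tt N59176 F411186) (tt N118412 (iv7 F510211)))
theorem Q96132 : ∀ i, i < 96132 → P i := stepQ 96131 Q96131 (allL N96131 (tt N77503 (iv1 F463432)) (tt N106763 (iv0 F455584)) (tt N92318 F411187) (tt N118305 (iv3 F509609)) (tt N92315 F411188) (tt N59175 (iv5 D199212)) (tt N99468 (iv6 F424721)) (tt N118306 (iv7 F509618)))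
theorem Q96133 : ∀ i, i < 96133 → P i := stepQ 96132 Q96132 (allL N96132 (tt N110841 F473411) (tt N59176 (iv0 D199213)) (tt N108664 (iv2 F463435)) (tt N118309 (iv3 F509633)) (tt N107576 (iv4 F458819)) (tt N108662 F463424) (tt N101876 (iv6 F463425)) (tt N118312 (iv7 F509649)))
theorem Q96134 : ∀ i, i < 96134 → P i := stepQ 96133 Q96133 (allL N96133 (tt N118489 (iv1 F510648)) (tt N106963 (iv0 F456468)) (tt N102658 (iv2 F438097)) (tt N118041 (iv3 F508242)) (tt N59176 (iv4 D199214)) (tt N102656 (iv5 F438089)) (tt N92394 (iv6 F459928)) (tt N102655 F438085))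
theorem Q96135 : ∀ i, i < 96135 → P i := stepQ 96134 Q96134 (allL N96134 (tt N118312 (iv1 F509650)) (tt N108664 (iv0 F463440)) (tt N110841 (iv2 F473405)) (tt N119064 (iv3 F513587)) (tt N102655 (iv4 F438084)) (tt N59177 F411189) (tt N110840 F473404) (tt N59176 (iv7 D199215)))
theorem Q96136 : ∀ i, i < 96136 → P i := stepQ 96135 Q96135 (allL N96135 (tt N118335 (iv1 F509770)) (tt N103043 (iv0 F439812)) (tt N59189 F411190) (tt N85252 F411191) (tt N119070 D222329) (tt N59178 (iv5 D199216)) (tt N118380 (iv6 F510039)) (tt N117595 (iv7 F505903)))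
theorem Q96137 : ∀ i, i < 96137 → P i := stepQ 96136 Q96136 (allL N96136 (tt N91550 (iv1 F411196)) (tt N91552 (iv0 F411195)) (tt N59183 F411192) (tt N108298 (iv3 F461953)) (tt N87193 F411193) (tt N77116 F411194) (tt N59180 (iv6 D199217)) (tt N112480 (iv7 F481267)))
theorem Q96138 : ∀ i, i < 96138 → P i := stepQ 96137 Q96137 (allL N96137 (tt N93925 F411200) (tt N93917 F411201) (tt N98271 F420273) (tt N107279 (iv3 F457768)) (tt N73164 F411197) (tt N59181 (iv5 D199218)) (tt N86993 F411198) (tt N92800 F411199))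
theorem Q96139 : ∀ i, i < 96139 → P i := stepQ 96138 Q96138 (allL N96138 (tt N112480 (iv1 F481269)) (tt N59183 (iv0 D199219)) (tt N91550 (iv2 F411204)) (tt N90400 (iv3 F411205)) (tt N87449 F411202) (tt N117531 (iv5 F505549)) (tt N109307 (iv6 F466313)) (tt N91552 (iv7 F411206)))
theorem Q96140 : ∀ i, i < 96140 → P i := stepQ 96139 Q96139 (allL N96139 (tt N59183 (iv1 D199220)) (tt N112480 (iv0 F481268)) (tt N91552 (iv2 F411209)) (tt N101344 (iv3 F432707)) (tt N91473 F411208) (tt N101426 (iv5 F432942)) (tt N91603 (iv6 F411210)) (tt N91550 F411207))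
theorem Q96141 : ∀ i, i < 96141 → P i := stepQ 96140 Q96140 (allL N96140 (tt N91578 F411214) (tt N91479 F411215) (tt N77116 F411211) (tt N59189 F411212) (tt N103083 (iv4 F439997)) (tt N59183 (iv5 D199221)) (tt N76976 F411213) (tt N91576 (iv7 F411216)))
theorem Q96142 : ∀ i, i < 96142 → P i := stepQ 96141 Q96141 (allL N96141 (tt N91552 (iv1 F411227)) (tt N91550 F411228) (tt N112480 (iv2 F481263)) (tt N59190 F411224) (tt N87196 F411225) (tt N91576 F411226) (tt N99471 (iv6 F424730)) (tt N59183 (iv7 D199222)))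
theorem Q96143 : ∀ i, i < 96143 → P i := stepQ 96142 Q96142 (allL N96142 (tt N73279 F411229) (tt N104531 F446169) (tt N107435 F458334) (tt N97797 (iv3 F418344)) (tt N59184 (iv4 D199223)) (tt N97796 F418342) (tt N119071 D222330) (tt N106406 F454320))
theorem Q96144 : ∀ i, i < 96144 → P i := stepQ 96143 Q96143 (allL N96143 (tt N90034 F411231) (tt N90077 F411232) (tt N85404 F411230) (tt N107280 (iv3 F457772)) (tt N119071 (iv4 F513629)) (tt N105369 F449920) (tt N59184 (iv6 D199224)) (tt N90076 (iv7 F449922)))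
theorem Q96145 : ∀ i, i < 96145 → P i := stepQ 96144 Q96144 (allL N96144 (tt N86341 F411235) (tt N59185 (iv0 D199225)) (tt N99545 (iv2 F425086)) (tt N116933 (iv3 F502567)) (tt N118354 (iv4 F509870)) (tt N90441 (iv5 F411234)) (tt N75828 F411233) (tt N119017 (iv7 F513306)))
theorem Q96146 : ∀ i, i < 96146 → P i := stepQ 96145 Q96145 (allL N96145 (tt N59185 (iv1 D199226)) (tt N86341 F411236) (tt N119017 (iv2 F513304)) (tt N73877 (iv3 F411238)) (tt N73765 (iv4 F411237)) (tt N119070 (iv5 F513623)) (tt N107209 (iv6 F457467)) (tt N99545 (iv7 F425083)))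
theorem Q96147 : ∀ i, i < 96147 → P i := stepQ 96146 Q96146 (allL N96146 (tt N86338 (iv1 F411243)) (tt N85507 (iv0 F411241)) (tt N85927 F411239) (tt N86330 F411240) (tt N105370 (iv4 F449924)) (tt N59185 (iv5 D199227)) (tt N105369 (iv6 F449921)) (tt N86339 (iv7 F411242)))
theorem Q96148 : ∀ i, i < 96148 → P i := stepQ 96147 Q96147 (allL N96147 (tt N119017 F513308) (tt N99545 (iv0 F425084)) (tt N86341 F411244) (tt N99525 (iv3 F424982)) (tt N59190 F411245) (tt N86339 F411246) (tt N106756 F455562) (tt N59185 (iv7 D199228)))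
theorem Q96149 : ∀ i, i < 96149 → P i := stepQ 96148 Q96148 (allL N96148 (tt N90899 F411250) (tt N90906 F411251) (tt N90905 F411247) (tt N63291 F411248) (tt N59187 F411249) (tt N119072 D222331) (tt N59186 (iv6 D199229)) (tt N63360 (iv7 F411252)))
theorem Q96150 : ∀ i, i < 96150 → P i := stepQ 96149 Q96149 (allL N96149 (tt N93559 F411256) (tt N119073 D222332) (tt N118380 (iv2 F510037)) (tt N76976 F411253) (tt N119074 D222333) (tt N59187 (iv5 D199230)) (tt N59189 F411254) (tt N77112 F411255))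
theorem Q96151 : ∀ i, i < 96151 → P i := stepQ 96150 Q96150 (allL N96150 (tt N117533 F505565) (tt N118330 F509740) (tt N105628 (iv2 F451027)) (tt N118333 (iv3 F509758)) (tt N105614 F451028) (tt N59188 (iv5 D199231)) (tt N105613 F451029) (tt N118328 (iv7 F509727)))
theorem Q96152 : ∀ i, i < 96152 → P i := stepQ 96151 Q96151 (allL N96151 (tt N59189 (iv1 D199233)) (tt N117595 (iv0 F505904)) (tt N103043 (iv2 F439807)) (tt N116785 (iv3 F501821)) (tt N119075 D222334) (tt N110945 (iv5 F473903)) (tt N103042 (iv6 F439806)) (tt N118335 (iv7 F509769)))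
theorem Q96153 : ∀ i, i < 96153 → P i := stepQ 96152 Q96152 (allL N96152 (tt N114766 (iv1 F493353)) (tt N119076 D222335) (tt N119070 (iv2 F513621)) (tt N119018 (iv3 F513311)) (tt N59189 (iv4 D199234)) (tt N119017 (iv5 F513309)) (tt N119074 (iv6 F513643)) (tt N90441 F411261))
theorem Q96154 : ∀ i, i < 96154 → P i := stepQ 96153 Q96153 (allL N96153 (tt N103043 F439811) (tt N118335 F509771) (tt N117595 (iv2 F505899)) (tt N91576 F411257) (tt N90441 (iv4 F411260)) (tt N59190 F411258) (tt N90440 (iv6 F411259)) (tt N59189 (iv7 D199235)))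
theorem Q96155 : ∀ i, i < 96155 → P i := stepQ 96154 Q96154 (allL N96154 (tt N59199 F411265) (tt N59191 (iv0 D199236)) (tt N59197 F411266) (tt N73746 F411263) (tt N72059 F411262) (tt N101892 F434852) (tt N119077 D222336) (tt N59198 (iv7 F411264)))
theorem Q96156 : ∀ i, i < 96156 → P i := stepQ 96155 Q96155 (allL N96155 (tt N59191 (iv1 D199237)) (tt N59199 F411267) (tt N59198 (iv2 F411269)) (tt N118360 (iv3 F509907)) (tt N113745 (iv4 F486928)) (tt N118816 (iv5 F512227)) (tt N119078 D222337) (tt N59197 F411268))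
theorem Q96157 : ∀ i, i < 96157 → P i := stepQ 96156 Q96156 (allL N96156 (tt N59198 (iv1 F411273)) (tt N59197 F411274) (tt N59199 F411270) (tt N71699 F411271) (tt N105743 (iv4 F451495)) (tt N111856 (iv5 F478328)) (tt N65478 F411272) (tt N59191 (iv7 D199238)))
theorem Q96158 : ∀ i, i < 96158 → P i := stepQ 96157 Q96157 (allL N96157 (tt N112177 F479914) (tt N117052 F503135) (tt N102878 (iv2 F439068)) (tt N59194 F411275) (tt N78617 F411276) (tt N111220 (iv5 F475278)) (tt N59192 (iv6 D199239)) (tt N81490 (iv7 F411277)))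
theorem Q96159 : ∀ i, i < 96159 → P i := stepQ 96158 Q96158 (allL N96158 (tt N71970 F411282) (tt N71949 (iv0 F411285)) (tt N71973 F411278) (tt N71998 F411279) (tt N75072 (iv4 F411283)) (tt N59193 (iv5 D199240)) (tt N83998 F411280) (tt N71968 F411281))
theorem Q96160 : ∀ i, i < 96160 → P i := stepQ 96159 Q96159 (allL N96159 (tt N116931 (iv1 F502560)) (tt N93720 (iv0 F411289)) (tt N95864 F411288) (tt N111220 (iv3 F475276)) (tt N98680 (iv4 F421834)) (tt N59194 (iv5 D199241)) (tt N98679 F421832) (tt N117268 (iv7 F504198)))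
theorem Q96161 : ∀ i, i < 96161 → P i := stepQ 96160 Q96160 (allL N96160 (tt N59196 (iv1 D199242)) (tt N93649 F411290) (tt N66511 F411293) (tt N93655 F411294) (tt N73891 (iv4 F411292)) (tt N110559 (iv5 F472138)) (tt N119079 D222338) (tt N93650 F411291))
theorem Q96162 : ∀ i, i < 96162 → P i := stepQ 96161 Q96161 (allL N96161 (tt N93658 F435091) (tt N119080 D222339) (tt N95863 F411295) (tt N109284 (iv3 F466180)) (tt N79618 F411296) (tt N59196 (iv5 D199243)) (tt N104246 (iv6 F444911)) (tt N118985 (iv7 F513126)))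
theorem Q96163 : ∀ i, i < 96163 → P i := stepQ 96162 Q96162 (allL N96162 (tt N66511 (iv1 F411300)) (tt N93650 F411301) (tt N93649 F411297) (tt N109259 F466047) (tt N71976 F411298) (tt N118985 (iv5 F513124)) (tt N93714 F411299) (tt N59196 (iv7 D199244)))
theorem Q96164 : ∀ i, i < 96164 → P i := stepQ 96163 Q96163 (allL N96163 (tt N111133 (iv1 F474853)) (tt N108299 (iv0 F461961)) (tt N81260 F411302) (tt N59197 (iv3 D199245)) (tt N79462 F411303) (tt N65052 F411305) (tt N79461 (iv6 F411304)) (tt N118360 (iv7 F509910)))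
theorem Q96165 : ∀ i, i < 96165 → P i := stepQ 96164 Q96164 (allL N96164 (tt N89743 (iv1 F411314)) (tt N71932 (iv0 F411313)) (tt N72059 F411310) (tt N81204 F411312) (tt N59197 (iv4 D199246)) (tt N81203 F411311) (tt N117332 F504499) (tt N113745 (iv7 F486925)))
theorem Q96166 : ∀ i, i < 96166 → P i := stepQ 96165 Q96165 (allL N96165 (tt N79227 (iv1 F428774)) (tt N79229 F428773) (tt N101892 (iv2 F434848)) (tt N65052 F411315) (tt N100393 (iv4 F428770)) (tt N59197 (iv5 D199247)) (tt N79231 F413342) (tt N118816 (iv7 F512229)))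
theorem Q96167 : ∀ i, i < 96167 → P i := stepQ 96166 Q96166 (allL N96166 (tt N119079 F513677) (tt N119081 D222340) (tt N119077 (iv2 F513659)) (tt N79461 F411316) (tt N117332 F504498) (tt N108591 F463178) (tt N59197 (iv6 D199248)) (tt N80836 (iv7 F411317)))
theorem Q96168 : ∀ i, i < 96168 → P i := stepQ 96167 Q96167 (allL N96167 (tt N71932 (iv1 F411321)) (tt N89743 F411320) (tt N113745 (iv2 F486923)) (tt N71304 F411318) (tt N59198 (iv4 D199249)) (tt N101105 F431695) (tt N116493 (iv6 F500427)) (tt N72059 F411319))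
theorem Q96169 : ∀ i, i < 96169 → P i := stepQ 96168 Q96168 (allL N96168 (tt N79229 F411323) (tt N79227 F411322) (tt N118816 (iv2 F512225)) (tt N110223 (iv3 F470505)) (tt N88508 (iv4 F411324)) (tt N59198 (iv5 D199250)) (tt N88507 F411325) (tt N101892 F434851))
theorem Q96170 : ∀ i, i < 96170 → P i := stepQ 96169 Q96169 (allL N96169 (tt N118417 F510242) (tt N116989 F502854) (tt N119078 (iv2 F513666)) (tt N73017 F440006) (tt N116493 F500429) (tt N108947 F464620) (tt N59198 (iv6 D199251)) (tt N119082 D222341))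
theorem Q96171 : ∀ i, i < 96171 → P i := stepQ 96170 Q96170 (allL N96170 (tt N112486 (iv1 F481302)) (tt N99551 (iv0 F425113)) (tt N95159 (iv2 F411328)) (tt N59200 (iv3 D199252)) (tt N94543 F411327) (tt N95148 (iv5 F411337)) (tt N119083 D222342) (tt N95163 F411326))
theorem Q96172 : ∀ i, i < 96172 → P i := stepQ 96171 Q96171 (allL N96171 (tt N111423 (iv1 F476291)) (tt N94752 F411334) (tt N95604 F411330) (tt N95148 (iv3 F411336)) (tt N95542 F411333) (tt N59200 (iv5 D199253)) (tt N111427 (iv6 F476317)) (tt N95161 F411332))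
theorem Q96173 : ∀ i, i < 96173 → P i := stepQ 96172 Q96172 (allL N96172 (tt N118307 F509625) (tt N108654 (iv0 F463381)) (tt N118308 (iv2 F509632)) (tt N119083 (iv3 F513698)) (tt N106766 (iv4 F455591)) (tt N88106 F463382) (tt N59200 (iv6 D199254)) (tt N116701 (iv7 F501381)))
theorem Q96174 : ∀ i, i < 96174 → P i := stepQ 96173 Q96173 (allL N96173 (tt N73733 F457620) (tt N111371 F476053) (tt N118304 F509607) (tt N59201 (iv3 D199255)) (tt N116459 (iv4 F500240)) (tt N101611 F433541) (tt N119084 D222343) (tt N117111 (iv7 F503453)))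
theorem Q96175 : ∀ i, i < 96175 → P i := stepQ 96174 Q96174 (allL N96174 (tt N94752 (iv1 F411344)) (tt N111423 (iv0 F476289)) (tt N95161 F411341) (tt N101611 (iv3 F433540)) (tt N95540 F411342) (tt N59201 (iv5 D199256)) (tt N117650 (iv6 F506219)) (tt N95604 F411343))
theorem Q96176 : ∀ i, i < 96176 → P i := stepQ 96175 Q96175 (allL N96175 (tt N108955 F464653) (tt N109591 (iv0 F467623)) (tt N90541 F411345) (tt N119084 (iv3 F513702)) (tt N90539 F411346) (tt N111533 (iv5 F476785)) (tt N59201 (iv6 D199257)) (tt N118331 (iv7 F509744)))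
theorem Q96177 : ∀ i, i < 96177 → P i := stepQ 96176 Q96176 (allL N96176 (tt N59203 (iv1 D199258)) (tt N93234 F411347) (tt N74211 F411351) (tt N119081 F513687) (tt N65469 F411349) (tt N93403 F411352) (tt N65468 (iv6 F411350)) (tt N66513 F411348))
theorem Q96178 : ∀ i, i < 96178 → P i := stepQ 96177 Q96177 (allL N96177 (tt N119085 D222344) (tt N112175 (iv0 F479900)) (tt N73044 F411353) (tt N59206 F411354) (tt N96897 (iv4 F414499)) (tt N108941 (iv5 F464590)) (tt N59204 (iv6 D199259)) (tt N118782 (iv7 F512037)))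
theorem Q96179 : ∀ i, i < 96179 → P i := stepQ 96178 Q96178 (allL N96178 (tt N96368 F412266) (tt N96376 F412295) (tt N93852 F411355) (tt N64435 F411356) (tt N59205 (iv4 D199260)) (tt N93477 F411357) (tt N101870 (iv6 F434755)) (tt N64581 F411358))
theorem Q96180 : ∀ i, i < 96180 → P i := stepQ 96179 Q96179 (allL N96179 (tt N101879 F434790) (tt N67316 (iv0 F411361)) (tt N93853 F411359) (tt N65049 F411360) (tt N101870 (iv4 F434753)) (tt N108943 (iv5 F464602)) (tt N59205 (iv6 D199261)) (tt N100538 (iv7 F429388)))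
theorem Q96181 : ∀ i, i < 96181 → P i := stepQ 96180 Q96180 (allL N96180 (tt N94998 (iv1 F411367)) (tt N94811 (iv0 F411366)) (tt N94698 F411362) (tt N64445 F411363) (tt N81856 F411364) (tt N99481 (iv5 F424781)) (tt N59207 (iv6 D199262)) (tt N64614 F411365))
theorem Q96182 : ∀ i, i < 96182 → P i := stepQ 96181 Q96181 (allL N96181 (tt N78009 (iv1 F411373)) (tt N78008 (iv0 F411374)) (tt N78013 (iv2 F411372)) (tt N59212 (iv3 D199263)) (tt N77992 F411371) (tt N78216 F411369) (tt N119086 D222345) (tt N78003 F411370))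
theorem Q96183 : ∀ i, i < 96183 → P i := stepQ 96182 Q96182 (allL N96182 (tt N116796 (iv1 F501887)) (tt N107505 (iv0 F458565)) (tt N96259 (iv2 F411775)) (tt N94972 F411375) (tt N59212 (iv4 D199264)) (tt N116764 (iv5 F501705)) (tt N116835 (iv6 F502089)) (tt N89470 F411376))
theorem Q96184 : ∀ i, i < 96184 → P i := stepQ 96183 Q96183 (allL N96183 (tt N60654 F411379) (tt N88773 (iv0 F411381)) (tt N89476 F411377) (tt N119086 (iv3 F513714)) (tt N116835 (iv4 F502087)) (tt N88657 (iv5 F411380)) (tt N59212 (iv6 D199265)) (tt N88656 F411378))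
theorem Q96185 : ∀ i, i < 96185 → P i := stepQ 96184 Q96184 (allL N96184 (tt N109192 (iv1 F465730)) (tt N109222 (iv0 F465841)) (tt N78010 F411383) (tt N59213 (iv3 D199266)) (tt N78030 F411384) (tt N109225 (iv5 F465851)) (tt N89012 F411385) (tt N96258 (iv7 F411773)))
theorem Q96186 : ∀ i, i < 96186 → P i := stepQ 96185 Q96185 (allL N96185 (tt N91115 F411389) (tt N96262 F411789) (tt N59215 F411386) (tt N72164 F411387) (tt N113690 (iv4 F486652)) (tt N59214 (iv5 D199267)) (tt N85583 F411388) (tt N96260 (iv7 F411780)))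
theorem Q96187 : ∀ i, i < 96187 → P i := stepQ 96186 Q96186 (allL N96186 (tt N81651 F411393) (tt N113691 F486660) (tt N113690 (iv2 F486655)) (tt N69984 F411390) (tt N59215 (iv4 D199268)) (tt N112427 (iv5 F481045)) (tt N95151 F411391) (tt N84267 F411392))
theorem Q96188 : ∀ i, i < 96188 → P i := stepQ 96187 Q96187 (allL N96187 (tt N119087 D222346) (tt N110256 (iv0 F470667)) (tt N90050 (iv2 F411399)) (tt N59218 (iv3 D199269)) (tt N78244 F411395) (tt N82857 F411396) (tt N72454 F411397) (tt N72173 F411398))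
theorem Q96189 : ∀ i, i < 96189 → P i := stepQ 96188 Q96188 (allL N96188 (tt N112542 F481591) (tt N114523 (iv0 F490588)) (tt N72176 F411401) (tt N105956 (iv3 F452496)) (tt N59220 (iv4 D199270)) (tt N73544 F411402) (tt N107670 F459162) (tt N73543 (iv7 F411403)))
theorem Q96190 : ∀ i, i < 96190 → P i := stepQ 96189 Q96189 (allL N96189 (tt N62416 (iv1 F411408)) (tt N62414 F411409) (tt N72177 F411404) (tt N89573 F411405) (tt N73543 F411406) (tt N59221 F411407) (tt N104101 F444186) (tt N59220 (iv7 D199271)))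
theorem Q96191 : ∀ i, i < 96191 → P i := stepQ 96190 Q96190 (allL N96190 (tt N59223 (iv1 F411412)) (tt N59222 (iv0 D199272)) (tt N69781 (iv2 F411411)) (tt N119088 D222347) (tt N69726 F411410) (tt N119089 D222348) (tt N62261 (iv6 F411414)) (tt N69724 F411413))
theorem Q96192 : ∀ i, i < 96192 → P i := stepQ 96191 Q96191 (allL N96191 (tt N94274 F411419) (tt N75146 (iv0 F411420)) (tt N89954 F411415) (tt N59222 (iv3 D199273)) (tt N94245 F411416) (tt N116123 (iv5 F498594)) (tt N72457 F411417) (tt N72180 F411418))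
theorem Q96193 : ∀ i, i < 96193 → P i := stepQ 96192 Q96192 (allL N96192 (tt N86139 F411425) (tt N94534 (iv0 F411426)) (tt N94521 F411421) (tt N93360 F411422) (tt N59224 (iv4 D199274)) (tt N85227 F411424) (tt N93341 (iv6 F411427)) (tt N85226 F411423))
theorem Q96194 : ∀ i, i < 96194 → P i := stepQ 96193 Q96193 (allL N96193 (tt N89437 F411430) (tt N72438 F411431) (tt N96266 (iv2 F411800)) (tt N112316 (iv3 F480511)) (tt N93341 F411428) (tt N106713 (iv5 F455366)) (tt N59224 (iv6 D199275)) (tt N73213 F411429))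
theorem Q96195 : ∀ i, i < 96195 → P i := stepQ 96194 Q96194 (allL N96194 (tt N80026 F411437) (tt N84241 F411438) (tt N84401 F411432) (tt N69943 F411433) (tt N59227 (iv4 D199276)) (tt N81650 F411434) (tt N84364 F411435) (tt N83888 F411436))
theorem Q96196 : ∀ i, i < 96196 → P i := stepQ 96195 Q96195 (allL N96195 (tt N72260 (iv1 F411440)) (tt N59229 (iv0 D199277)) (tt N72257 (iv2 F411442)) (tt N99869 F426618) (tt N64797 F411439) (tt N100972 (iv5 F431115)) (tt N69928 (iv6 F411526)) (tt N72258 (iv7 F411443)))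
theorem Q96197 : ∀ i, i < 96197 → P i := stepQ 96196 Q96196 (allL N96196 (tt N59229 (iv1 D199278)) (tt N72260 F411444) (tt N72258 F411447) (tt N107003 (iv3 F456607)) (tt N64801 F411448) (tt N100973 F431122) (tt N64381 (iv6 F411446)) (tt N72257 F411445))
theorem Q96198 : ∀ i, i < 96198 → P i := stepQ 96197 Q96197 (allL N96197 (tt N69995 F411453) (tt N101050 (iv0 F431454)) (tt N72259 F411449) (tt N84374 F411450) (tt N118228 (iv4 F509252)) (tt N59229 (iv5 D199279)) (tt N59232 F411451) (tt N81889 F411452))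
theorem Q96199 : ∀ i, i < 96199 → P i := stepQ 96198 Q96198 (allL N96198 (tt N119014 (iv1 F513290)) (tt N110901 (iv0 F473697)) (tt N119013 F513281) (tt N59230 (iv3 D199280)) (tt N94115 F411454) (tt N117167 (iv5 F503717)) (tt N62415 F411455) (tt N72263 F411456))
theorem Q96200 : ∀ i, i < 96200 → P i := stepQ 96199 Q96199 (allL N96199 (tt N72488 F411459) (tt N72484 F411460) (tt N72262 F411457) (tt N117167 (iv3 F503716)) (tt N119090 D222349) (tt N59230 (iv5 D199281)) (tt N112550 (iv6 F481614)) (tt N72264 F411458))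
theorem Q96201 : ∀ i, i < 96201 → P i := stepQ 96200 Q96200 (allL N96200 (tt N110900 F473689) (tt N119091 D222350) (tt N118455 (iv2 F510459)) (tt N59231 (iv3 D199282)) (tt N71189 F411461) (tt N112565 (iv5 F481669)) (tt N89377 F411462) (tt N72261 F411463))
theorem Q96202 : ∀ i, i < 96202 → P i := stepQ 96201 Q96201 (allL N96201 (tt N95014 F411467) (tt N94990 F411468) (tt N72266 F411464) (tt N77905 F411465) (tt N59232 (iv4 D199283)) (tt N94997 F411466) (tt N118228 (iv6 F509253)) (tt N107335 (iv7 F458000)))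
theorem Q96203 : ∀ i, i < 96203 → P i := stepQ 96202 Q96202 (allL N96202 (tt N96295 (iv1 F457461)) (tt N96284 (iv0 F411871)) (tt N96293 F425013) (tt N59234 (iv3 D199284)) (tt N94299 F411469) (tt N119092 D222351) (tt N62425 F411470) (tt N72273 F411471))
theorem Q96204 : ∀ i, i < 96204 → P i := stepQ 96203 Q96203 (allL N96203 (tt N72479 F411474) (tt N72476 F411475) (tt N72269 F411472) (tt N119092 (iv3 F513749)) (tt N119093 D222352) (tt N59234 (iv5 D199285)) (tt N83370 (iv6 F411476)) (tt N64884 F411473))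
theorem Q96205 : ∀ i, i < 96205 → P i := stepQ 96204 Q96204 (allL N96204 (tt N59258 F411480) (tt N89582 (iv0 F411482)) (tt N89929 (iv2 F411481)) (tt N59235 (iv3 D199286)) (tt N94440 F411477) (tt N114022 (iv5 F488234)) (tt N80597 F411478) (tt N72268 F411479))
theorem Q96206 : ∀ i, i < 96206 → P i := stepQ 96205 Q96205 (allL N96205 (tt N72476 F411487) (tt N72479 F411488) (tt N64884 F411484) (tt N114022 (iv3 F488239)) (tt N112568 (iv4 F481685)) (tt N59235 (iv5 D199287)) (tt N64350 F411485) (tt N72269 F411486))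
theorem Q96207 : ∀ i, i < 96207 → P i := stepQ 96206 Q96206 (allL N96206 (tt N96302 (iv1 F411926)) (tt N59268 F411491) (tt N96281 (iv2 F411858)) (tt N84264 F411489) (tt N78714 F411490) (tt N59237 (iv5 D199288)) (tt N84131 F411492) (tt N96278 (iv7 F411847)))
theorem Q96208 : ∀ i, i < 96208 → P i := stepQ 96207 Q96207 (allL N96207 (tt N77278 F411496) (tt N72431 F411497) (tt N96282 (iv2 F411864)) (tt N71648 F411493) (tt N101834 (iv4 F434576)) (tt N71646 F411494) (tt N59237 (iv6 D199289)) (tt N95938 F411495))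
theorem Q96209 : ∀ i, i < 96209 → P i := stepQ 96208 Q96208 (allL N96208 (tt N82161 F411500) (tt N89575 F411501) (tt N96285 (iv2 F411875)) (tt N59238 (iv3 D199290)) (tt N91074 F411498) (tt N98758 (iv5 F422184)) (tt N91072 F411499) (tt N96279 (iv7 F411852)))
theorem Q96210 : ∀ i, i < 96210 → P i := stepQ 96209 Q96209 (allL N96209 (tt N96275 (iv1 F411838)) (tt N59242 (iv0 D199291)) (tt N84714 (iv2 F411503)) (tt N109409 (iv3 F466817)) (tt N69948 F411504) (tt N64814 F411502) (tt N84348 F411505) (tt N79151 F411506))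
theorem Q96211 : ∀ i, i < 96211 → P i := stepQ 96210 Q96210 (allL N96210 (tt N72545 F411509) (tt N107196 (iv0 F457425)) (tt N96276 (iv2 F411840)) (tt N83305 F411507) (tt N59243 (iv4 D199292)) (tt N94979 F411508) (tt N112529 F481528) (tt N107334 (iv7 F457993)))
theorem Q96212 : ∀ i, i < 96212 → P i := stepQ 96211 Q96211 (allL N96211 (tt N72434 (iv1 F423527)) (tt N115126 F493616) (tt N96267 (iv2 F411806)) (tt N70943 F411510) (tt N110920 (iv4 F473796)) (tt N70942 F411511) (tt N59246 (iv6 D199293)) (tt N71677 F411512))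
theorem Q96213 : ∀ i, i < 96213 → P i := stepQ 96212 Q96212 (allL N96212 (tt N84121 F411517) (tt N84120 F411518) (tt N84115 F411513) (tt N59250 F411514) (tt N79403 F411515) (tt N84100 F411516) (tt N59248 (iv6 D199294)) (tt N84118 F411519))
theorem Q96214 : ∀ i, i < 96214 → P i := stepQ 96213 Q96213 (allL N96213 (tt N59250 (iv1 D199295)) (tt N84113 F411520) (tt N84127 F411525) (tt N99978 (iv3 F427044)) (tt N69928 F411523) (tt N80613 F411522) (tt N64797 (iv6 F411524)) (tt N84126 F411521))
theorem Q96215 : ∀ i, i < 96215 → P i := stepQ 96214 Q96214 (allL N96214 (tt N84127 (iv1 F411531)) (tt N84126 F411532) (tt N84113 F411527) (tt N84118 F411528) (tt N69867 F411529) (tt N64313 F411530) (tt N96275 (iv6 F411836)) (tt N59250 (iv7 D199296)))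
theorem Q96216 : ∀ i, i < 96216 → P i := stepQ 96215 Q96215 (allL N96215 (tt N59264 (iv1 F411537)) (tt N59263 (iv0 F411538)) (tt N59266 F411533) (tt N69987 F411534) (tt N92841 F411536) (tt N59253 (iv5 D199297)) (tt N106837 F455912) (tt N59262 F411535))
theorem Q96217 : ∀ i, i < 96217 → P i := stepQ 96216 Q96216 (allL N96216 (tt N72427 F411544) (tt N72426 F411546) (tt N59267 F411541) (tt N96283 (iv3 F411868)) (tt N90587 F411542) (tt N70935 (iv5 F411545)) (tt N59253 (iv6 D199298)) (tt N72422 F411543))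
theorem Q96218 : ∀ i, i < 96218 → P i := stepQ 96217 Q96217 (allL N96217 (tt N61026 F411550) (tt N98176 F419862) (tt N59257 F411547) (tt N83866 F411548) (tt N84486 (iv4 F411552)) (tt N59254 (iv5 D199299)) (tt N84191 F411551) (tt N59261 F411549))
theorem Q96219 : ∀ i, i < 96219 → P i := stepQ 96218 Q96218 (allL N96218 (tt N72268 (iv1 F411558)) (tt N89929 (iv0 F411557)) (tt N59258 F411553) (tt N89586 F411554) (tt N97143 (iv4 F415652)) (tt N84219 F411555) (tt N59254 (iv6 D199300)) (tt N89582 F411556))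
theorem Q96220 : ∀ i, i < 96220 → P i := stepQ 96219 Q96219 (allL N96219 (tt N115061 (iv1 F493294)) (tt N109474 F467155) (tt N96035 F411559) (tt N59258 F411560) (tt N96032 F411561) (tt N90848 F411562) (tt N59255 (iv6 D199301)) (tt N115059 (iv7 F493284)))
theorem Q96221 : ∀ i, i < 96221 → P i := stepQ 96220 Q96220 (allL N96220 (tt N59256 (iv1 D199302)) (tt N59260 F411563) (tt N78190 F411566) (tt N60223 (iv3 F411565)) (tt N107176 (iv4 F457346)) (tt N103985 (iv5 F443654)) (tt N99563 (iv6 F425179)) (tt N91418 F411564))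
theorem Q96222 : ∀ i, i < 96222 → P i := stepQ 96221 Q96221 (allL N96221 (tt N110974 (iv1 F474031)) (tt N104874 (iv0 F447749)) (tt N97142 (iv2 F415647)) (tt N84661 F411567) (tt N119094 D222353) (tt N59256 (iv5 D199303)) (tt N113560 (iv6 F486035)) (tt N84658 F411568))
theorem Q96223 : ∀ i, i < 96223 → P i := stepQ 96222 Q96222 (allL N96222 (tt N98176 (iv1 F419863)) (tt N61026 (iv0 F411574)) (tt N59261 F411569) (tt N84224 F411570) (tt N86602 F411571) (tt N59259 F411572) (tt N83860 F411573) (tt N59257 (iv7 D199304)))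
theorem Q96224 : ∀ i, i < 96224 → P i := stepQ 96223 Q96223 (allL N96223 (tt N89582 (iv1 F411576)) (tt N59258 (iv0 D199305)) (tt N72268 (iv2 F411575)) (tt N96293 F425014) (tt N91092 F415575) (tt N114020 (iv5 F488229)) (tt N91090 (iv6 F415577)) (tt N89929 F411577))
theorem Q96225 : ∀ i, i < 96225 → P i := stepQ 96224 Q96224 (allL N96224 (tt N104874 (iv1 F447750)) (tt N110974 (iv0 F474030)) (tt N84658 F411578) (tt N97151 (iv3 F415687)) (tt N86593 F411580) (tt N59260 (iv5 D199306)) (tt N84656 F411579) (tt N97142 (iv7 F415649)))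
theorem Q96226 : ∀ i, i < 96226 → P i := stepQ 96225 Q96225 (allL N96225 (tt N59266 (iv1 F411582)) (tt N59262 (iv0 D199307)) (tt N59263 (iv2 F411590)) (tt N114781 (iv3 F491822)) (tt N91181 F411584) (tt N72145 F411581) (tt N75133 (iv6 F411583)) (tt N59264 (iv7 F411593)))
theorem Q96227 : ∀ i, i < 96227 → P i := stepQ 96226 Q96226 (allL N96226 (tt N59262 (iv1 D199308)) (tt N59266 F411585) (tt N59264 F411591) (tt N74980 (iv3 F411587)) (tt N117742 (iv4 F506739)) (tt N72144 F411586) (tt N98094 (iv6 F419435)) (tt N59263 F411588))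
theorem Q96228 : ∀ i, i < 96228 → P i := stepQ 96227 Q96227 (allL N96227 (tt N86597 F411598) (tt N86599 F411599) (tt N91181 F411596) (tt N74926 F411597) (tt N59263 (iv4 D199309)) (tt N110978 (iv5 F474048)) (tt N86782 (iv6 F411600)) (tt N117742 (iv7 F506741)))
theorem Q96229 : ∀ i, i < 96229 → P i := stepQ 96228 Q96228 (allL N96228 (tt N62757 F411603) (tt N75135 F411604) (tt N75133 F411601) (tt N73709 (iv3 F411606)) (tt N86782 F411602) (tt N113848 (iv5 F487432)) (tt N59263 (iv6 D199310)) (tt N75134 (iv7 F411605)))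
theorem Q96230 : ∀ i, i < 96230 → P i := stepQ 96229 Q96229 (allL N96229 (tt N111294 F475678) (tt N84264 (iv0 F411612)) (tt N84279 F411608) (tt N59264 (iv3 D199311)) (tt N96757 (iv4 F413796)) (tt N89974 F411610) (tt N83873 (iv6 F411609)) (tt N114781 (iv7 F491824)))
theorem Q96231 : ∀ i, i < 96231 → P i := stepQ 96230 Q96230 (allL N96230 (tt N86599 F411614) (tt N86597 (iv0 F413803)) (tt N117742 (iv2 F506737)) (tt N69506 (iv3 F413801)) (tt N59264 (iv4 D199312)) (tt N69504 F413802) (tt N98289 F420350) (tt N91181 F411613))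
theorem Q96232 : ∀ i, i < 96232 → P i := stepQ 96231 Q96231 (allL N96231 (tt N84176 F411619) (tt N92190 (iv0 F411616)) (tt N98094 F419436) (tt N83873 F411615) (tt N98289 (iv4 F420346)) (tt N90536 (iv5 F411617)) (tt N59264 (iv6 D199313)) (tt N84275 F411618))
theorem Q96233 : ∀ i, i < 96233 → P i := stepQ 96232 Q96232 (allL N96232 (tt N92841 (iv1 F411624)) (tt N59265 (iv0 D199314)) (tt N92842 (iv2 F411621)) (tt N105687 (iv3 F451252)) (tt N112315 (iv4 F480506)) (tt N93187 F411620) (tt N74434 F411622) (tt N92836 F411623))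
theorem Q96234 : ∀ i, i < 96234 → P i := stepQ 96233 Q96233 (allL N96233 (tt N109011 (iv1 F464915)) (tt N100157 F427754) (tt N99750 (iv2 F426052)) (tt N59265 (iv3 D199315)) (tt N59271 F411629) (tt N109384 (iv5 F466690)) (tt N92810 F411630) (tt N69766 (iv7 F411631)))
theorem Q96235 : ∀ i, i < 96235 → P i := stepQ 96234 Q96234 (allL N96234 (tt N92836 (iv1 F411636)) (tt N92842 F411637) (tt N92841 F411632) (tt N69766 F411633) (tt N59266 F411634) (tt N86709 F411635) (tt N98113 (iv6 F419508)) (tt N59265 (iv7 D199316)))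
theorem Q96236 : ∀ i, i < 96236 → P i := stepQ 96235 Q96235 (allL N96235 (tt N72422 (iv1 F411642)) (tt N59267 (iv0 D199317)) (tt N72427 (iv2 F411643)) (tt N71671 F411640) (tt N89221 F411639) (tt N81424 F411638) (tt N89925 F411641) (tt N72426 (iv7 F411644)))
theorem Q96237 : ∀ i, i < 96237 → P i := stepQ 96236 Q96236 (allL N96236 (tt N59267 (iv1 D199318)) (tt N72422 F411645) (tt N72426 (iv2 F411649)) (tt N89607 F411650) (tt N89216 F411648) (tt N81425 F411647) (tt N89604 (iv6 F411651)) (tt N72427 F411646))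
theorem Q96238 : ∀ i, i < 96238 → P i := stepQ 96237 Q96237 (allL N96237 (tt N96281 F411863) (tt N96278 (iv0 F411849)) (tt N59268 (iv2 D199319)) (tt N82076 F411653) (tt N103123 (iv4 F440177)) (tt N69779 F411654) (tt N109461 (iv6 F467084)) (tt N96302 (iv7 F411925)))
theorem Q96239 : ∀ i, i < 96239 → P i := stepQ 96238 Q96238 (allL N96238 (tt N63954 F411656) (tt N63958 (iv0 F411658)) (tt N96301 (iv2 F411919)) (tt N110345 (iv3 F471144)) (tt N72963 F411657) (tt N59269 (iv5 D199320)) (tt N69780 F411655) (tt N101282 (iv7 F432515)))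
theorem Q96240 : ∀ i, i < 96240 → P i := stepQ 96239 Q96239 (allL N96239 (tt N69764 (iv1 F411660)) (tt N59271 (iv0 D199321)) (tt N69765 (iv2 F411684)) (tt N114255 (iv3 F489248)) (tt N61555 F411659) (tt N69783 (iv5 F411663)) (tt N71966 (iv6 F411661)) (tt N61548 (iv7 F411662)))
theorem Q96241 : ∀ i, i < 96241 → P i := stepQ 96240 Q96240 (allL N96240 (tt N59271 (iv1 D199322)) (tt N69764 F411694) (tt N61548 (iv2 F411681)) (tt N88526 F411689) (tt N61544 F411690) (tt N69784 (iv5 F411682)) (tt N61542 (iv6 F411683)) (tt N69765 (iv7 F411687)))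
theorem Q96242 : ∀ i, i < 96242 → P i := stepQ 96241 Q96241 (allL N96241 (tt N69765 (iv1 F411703)) (tt N61548 F411702) (tt N59271 (iv2 D199323)) (tt N62877 F411699) (tt N99750 (iv4 F426053)) (tt N69754 F411700) (tt N100755 F430307) (tt N69764 F411701))
theorem Q96243 : ∀ i, i < 96243 → P i := stepQ 96242 Q96242 (allL N96242 (tt N79155 F411709) (tt N63952 F411710) (tt N69990 F411705) (tt N97059 (iv3 F415261)) (tt N61882 F411708) (tt N59272 (iv5 D199324)) (tt N59275 F411706) (tt N79153 F411707))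
theorem Q96244 : ∀ i, i < 96244 → P i := stepQ 96243 Q96243 (allL N96243 (tt N96267 F411809) (tt N71677 (iv0 F411713)) (tt N115126 (iv2 F493612)) (tt N59274 (iv3 D199325)) (tt N62152 F411711) (tt N116990 (iv5 F502856)) (tt N115124 F493609) (tt N72434 F411712))
theorem Q96245 : ∀ i, i < 96245 → P i := stepQ 96244 Q96244 (allL N96244 (tt N81426 F411716) (tt N107138 (iv0 F457153)) (tt N72432 F411714) (tt N116990 F502857) (tt N119095 D222354) (tt N59274 (iv5 D199326)) (tt N119096 D222355) (tt N65042 F411715))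
theorem Q96246 : ∀ i, i < 96246 → P i := stepQ 96245 Q96245 (allL N96245 (tt N73232 (iv1 F411721)) (tt N73310 (iv0 F411720)) (tt N72433 F411717) (tt N115124 (iv3 F493604)) (tt N68694 F411718) (tt N99387 (iv5 F424378)) (tt N59274 (iv6 D199327)) (tt N64574 F411719))
theorem Q96247 : ∀ i, i < 96247 → P i := stepQ 96246 Q96246 (allL N96246 (tt N62254 (iv1 F411723)) (tt N59275 (iv0 D199328)) (tt N72436 (iv2 F411724)) (tt N109310 (iv3 F466329)) (tt N107961 (iv4 F460489)) (tt N72477 F411722) (tt N116970 (iv6 F502762)) (tt N72435 (iv7 F411725)))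
theorem Q96248 : ∀ i, i < 96248 → P i := stepQ 96247 Q96247 (allL N96247 (tt N59275 (iv1 D199329)) (tt N62254 F411726) (tt N72435 (iv2 F411729)) (tt N71421 F411731) (tt N107960 (iv4 F460482)) (tt N72621 F411728) (tt N71418 (iv6 F411730)) (tt N72436 F411727))
theorem Q96249 : ∀ i, i < 96249 → P i := stepQ 96248 Q96248 (allL N96248 (tt N106803 (iv1 F455746)) (tt N106467 (iv0 F454575)) (tt N96305 (iv2 F411936)) (tt N61883 F411732) (tt N59275 (iv4 D199330)) (tt N99373 (iv5 F424333)) (tt N61882 F411733) (tt N72437 F411734))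
theorem Q96250 : ∀ i, i < 96250 → P i := stepQ 96249 Q96249 (allL N96249 (tt N59926 F411741) (tt N79599 F411739) (tt N77916 F411735) (tt N60292 F411736) (tt N80121 F411740) (tt N59277 (iv5 D199331)) (tt N79774 F411737) (tt N77917 F411738))
theorem Q96251 : ∀ i, i < 96251 → P i := stepQ 96250 Q96250 (allL N96250 (tt N102743 (iv1 F438454)) (tt N94224 (iv0 F411745)) (tt N82194 (iv2 F411744)) (tt N59278 (iv3 D199332)) (tt N65334 F411743) (tt N59278 F411746) (tt N113367 (iv6 F485203)) (tt N82192 F411742))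
theorem Q96252 : ∀ i, i < 96252 → P i := stepQ 96251 Q96251 (allL N96251 (tt N75152 F411749) (tt N75154 F411748) (tt N95917 F411747) (tt N77261 F411750) (tt N59278 (iv4 D199333)) (tt N77259 (iv5 F411751)) (tt N116599 (iv6 F500920)) (tt N114079 (iv7 F488491)))
theorem Q96253 : ∀ i, i < 96253 → P i := stepQ 96252 Q96252 (allL N96252 (tt N108721 F463690) (tt N107204 F463691) (tt N118501 (iv2 F510708)) (tt N113367 (iv3 F485202)) (tt N116599 (iv4 F500919)) (tt N113361 F485177) (tt N59278 (iv6 D199334)) (tt N116639 (iv7 F501096)))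
theorem Q96254 : ∀ i, i < 96254 → P i := stepQ 96253 Q96253 (allL N96253 (tt N93421 F411752) (tt N93423 F411753) (tt N118032 (iv2 F508193)) (tt N59279 (iv3 D199335)) (tt N118031 F508192) (tt N118032 (iv5 F508197)) (tt N116640 (iv6 F501100)) (tt N118500 (iv7 F510705)))
theorem Q96255 : ∀ i, i < 96255 → P i := stepQ 96254 Q96254 (allL N96254 (tt N94224 F411756) (tt N102743 (iv0 F438453)) (tt N82192 F411754) (tt N118032 (iv3 F508194)) (tt N65335 F411757) (tt N59279 (iv5 D199336)) (tt N77722 (iv6 F411758)) (tt N82194 F411755))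
theorem Q96256 : ∀ i, i < 96256 → P i := stepQ 96255 Q96255 (allL N96255 (tt N94232 (iv1 F411760)) (tt N59281 (iv0 D199337)) (tt N82326 (iv2 F411761)) (tt N94221 (iv3 F411763)) (tt N65388 F411759) (tt N106457 (iv5 F454527)) (tt N102876 F439060) (tt N82325 (iv7 F411762)))
theorem Q96257 : ∀ i, i < 96257 → P i := stepQ 96256 Q96256 (allL N96256 (tt N59281 (iv1 D199338)) (tt N94232 F411764) (tt N82325 (iv2 F411767)) (tt N112825 (iv3 F482807)) (tt N65389 F411766) (tt N106458 (iv5 F454534)) (tt N118598 (iv6 F511089)) (tt N82326 F411765))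
theorem Q96258 : ∀ i, i < 96258 → P i := stepQ 96257 Q96257 (allL N96257 (tt N97327 (iv1 F416365)) (tt N59282 (iv0 D199339)) (tt N92353 (iv2 F411769)) (tt N104661 (iv3 F446749)) (tt N78040 F411768) (tt N92352 F411770) (tt N119097 D222356) (tt N97326 (iv7 F416357)))
theorem Q96259 : ∀ i, i < 96259 → P i := stepQ 96258 Q96258 (allL N96258 (tt N110293 (iv1 F470894)) (tt N107117 F457056) (tt N94207 F411771) (tt N59283 (iv3 D199340)) (tt N94205 F411774) (tt N84402 F411772) (tt N116610 (iv6 F500958)) (tt N96184 F411773))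
theorem Q96260 : ∀ i, i < 96260 → P i := stepQ 96259 Q96259 (allL N96259 (tt N107150 F457206) (tt N114544 (iv0 F490700)) (tt N96182 F411775) (tt N70207 F411776) (tt N59283 (iv4 D199341)) (tt N114464 (iv5 F490314)) (tt N116613 (iv6 F500975)) (tt N89982 F411777))
theorem Q96261 : ∀ i, i < 96261 → P i := stepQ 96260 Q96260 (allL N96260 (tt N75153 F411782) (tt N82095 F411781) (tt N59285 F411778) (tt N78105 F411779) (tt N109536 (iv4 F467424)) (tt N59284 (iv5 D199342)) (tt N91013 F411783) (tt N96185 F411780))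
theorem Q96262 : ∀ i, i < 96262 → P i := stepQ 96261 Q96261 (allL N96261 (tt N107312 (iv1 F457919)) (tt N96494 (iv0 F412755)) (tt N59286 F411784) (tt N78106 F411785) (tt N82556 F411786) (tt N114046 (iv5 F488336)) (tt N59284 (iv6 D199343)) (tt N107310 (iv7 F457909)))
theorem Q96263 : ∀ i, i < 96263 → P i := stepQ 96262 Q96262 (allL N96262 (tt N96185 (iv1 F411789)) (tt N59285 (iv0 D199344)) (tt N75153 (iv2 F411788)) (tt N82070 F411787) (tt N96759 (iv4 F413815)) (tt N59288 F411791) (tt N111339 F475902) (tt N82095 F411790))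
theorem Q96264 : ∀ i, i < 96264 → P i := stepQ 96263 Q96263 (allL N96263 (tt N107310 (iv1 F457908)) (tt N59286 (iv0 D199345)) (tt N107312 (iv2 F457916)) (tt N119098 D222357) (tt N112144 (iv4 F479728)) (tt N116173 (iv5 F498863)) (tt N107301 F457876) (tt N96494 (iv7 F457877)))
theorem Q96265 : ∀ i, i < 96265 → P i := stepQ 96264 Q96264 (allL N96264 (tt N108033 (iv1 F460819)) (tt N119099 D222358) (tt N78119 F411793) (tt N64844 F411794) (tt N59287 (iv4 D199346)) (tt N105194 F449167) (tt N100982 (iv6 F431148)) (tt N107394 (iv7 F458199)))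
theorem Q96266 : ∀ i, i < 96266 → P i := stepQ 96265 Q96265 (allL N96265 (tt N114079 (iv1 F488493)) (tt N95917 (iv0 F411799)) (tt N75152 F411795) (tt N59289 (iv3 D199347)) (tt N82315 F411796) (tt N75050 F411797) (tt N119100 D222359) (tt N75154 F411798))
theorem Q96267 : ∀ i, i < 96267 → P i := stepQ 96266 Q96266 (allL N96266 (tt N90984 F411803) (tt N90986 F411804) (tt N96193 F411800) (tt N119100 (iv3 F513786)) (tt N117110 (iv4 F503445)) (tt N95564 F411801) (tt N59289 (iv6 D199348)) (tt N95956 F411802))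
theorem Q96268 : ∀ i, i < 96268 → P i := stepQ 96267 Q96267 (allL N96267 (tt N106769 (iv1 F455601)) (tt N96243 (iv0 F411809)) (tt N96211 F411806) (tt N78178 F411807) (tt N82108 F411808) (tt N106049 (iv5 F452900)) (tt N59291 (iv6 D199349)) (tt N99160 (iv7 F423525)))
theorem Q96269 : ∀ i, i < 96269 → P i := stepQ 96268 Q96268 (allL N96268 (tt N119019 F513318) (tt N107212 (iv0 F457474)) (tt N59295 F411810) (tt N83406 F411811) (tt N77963 F411812) (tt N83395 (iv5 F411814)) (tt N59293 (iv6 D199350)) (tt N83394 F411813))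
theorem Q96270 : ∀ i, i < 96270 → P i := stepQ 96269 Q96269 (allL N96269 (tt N113882 (iv1 F487608)) (tt N62904 F426619) (tt N110324 (iv2 F471052)) (tt N59296 F411815) (tt N97090 (iv4 F415446)) (tt N119101 D222360) (tt N59294 (iv6 D199351)) (tt N113880 (iv7 F487598)))
theorem Q96271 : ∀ i, i < 96271 → P i := stepQ 96270 Q96270 (allL N96270 (tt N83394 (iv1 F411827)) (tt N59295 (iv0 D199352)) (tt N119019 (iv2 F513313)) (tt N99550 F425104) (tt N82110 (iv4 F457384)) (tt N77405 F448941) (tt N99548 (iv6 F425105)) (tt N107212 (iv7 F457473)))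
theorem Q96272 : ∀ i, i < 96272 → P i := stepQ 96271 Q96271 (allL N96271 (tt N59295 (iv1 D199353)) (tt N83394 F411816) (tt N107212 F457477) (tt N109589 (iv3 F467612)) (tt N82111 F466348) (tt N77404 (iv5 F450538)) (tt N100846 (iv6 F430745)) (tt N119019 (iv7 F513316)))
theorem Q96273 : ∀ i, i < 96273 → P i := stepQ 96272 Q96272 (allL N96272 (tt N83393 (iv1 F411820)) (tt N83392 F411821) (tt N83395 F411817) (tt N59297 F411818) (tt N110002 (iv4 F469518)) (tt N59295 (iv5 D199354)) (tt N119101 (iv6 F513794)) (tt N83385 (iv7 F411819)))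
theorem Q96274 : ∀ i, i < 96274 → P i := stepQ 96273 Q96273 (allL N96273 (tt N107212 F457475) (tt N119019 F513319) (tt N83394 F411822) (tt N59298 F411823) (tt N77967 F411824) (tt N83385 F411825) (tt N86374 F411826) (tt N59295 (iv7 D199355)))
theorem Q96275 : ∀ i, i < 96275 → P i := stepQ 96274 Q96274 (allL N96274 (tt N64813 F411831) (tt N64811 F411830) (tt N83414 F411828) (tt N119101 (iv3 F513793)) (tt N119102 D222361) (tt N59296 (iv5 D199356)) (tt N59297 F411829) (tt N83408 F411832))
theorem Q96276 : ∀ i, i < 96276 → P i := stepQ 96275 Q96275 (allL N96275 (tt N85820 (iv1 F411837)) (tt N96209 F411838) (tt N83413 F411833) (tt N113880 (iv3 F487595)) (tt N94921 F411834) (tt N83408 F411835) (tt N96214 F411836) (tt N59296 (iv7 D199357)))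
theorem Q96277 : ∀ i, i < 96277 → P i := stepQ 96276 Q96276 (allL N96276 (tt N99404 (iv1 F424420)) (tt N107428 F458306) (tt N96210 F411840) (tt N119103 D222362) (tt N59297 (iv4 D199358)) (tt N107758 (iv5 F459591)) (tt N119102 (iv6 F513800)) (tt N107425 (iv7 F458290)))
theorem Q96278 : ∀ i, i < 96278 → P i := stepQ 96277 Q96277 (allL N96277 (tt N110420 F471495) (tt N82191 (iv0 F411845)) (tt N94100 F411841) (tt N65336 F411842) (tt N59299 (iv4 D199359)) (tt N77188 F411844) (tt N102657 (iv6 F438092)) (tt N65342 F411843))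
theorem Q96279 : ∀ i, i < 96279 → P i := stepQ 96278 Q96278 (allL N96278 (tt N96237 F411849) (tt N59314 (iv0 F411851)) (tt N64722 F411846) (tt N113885 (iv3 F487628)) (tt N82159 F411848) (tt N59299 (iv5 D199360)) (tt N64699 F411850) (tt N96206 F411847))
theorem Q96280 : ∀ i, i < 96280 → P i := stepQ 96279 Q96279 (allL N96279 (tt N72379 F411879) (tt N59303 F411880) (tt N112709 F482293) (tt N59300 (iv3 D199361)) (tt N117349 (iv4 F504601)) (tt N98735 (iv5 F422081)) (tt N119104 D222363) (tt N96208 F411852))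
theorem Q96281 : ∀ i, i < 96281 → P i := stepQ 96280 Q96280 (allL N96280 (tt N82191 F411856) (tt N110420 F471496) (tt N65342 F411853) (tt N71151 F411857) (tt N59300 (iv4 D199362)) (tt N77187 F411855) (tt N112170 (iv6 F479874)) (tt N94100 F411854))
theorem Q96282 : ∀ i, i < 96282 → P i := stepQ 96281 Q96281 (allL N96281 (tt N59314 F411861) (tt N96237 (iv0 F411863)) (tt N96206 F411858) (tt N98735 (iv3 F422080)) (tt N82158 F411859) (tt N59300 (iv5 D199363)) (tt N90309 F411862) (tt N64722 F411860))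
theorem Q96283 : ∀ i, i < 96283 → P i := stepQ 96282 Q96282 (allL N96282 (tt N90264 F411865) (tt N86382 F411866) (tt N96207 F411864) (tt N119104 (iv3 F513809)) (tt N112170 (iv4 F479872)) (tt N106750 (iv5 F455533)) (tt N59300 (iv6 D199364)) (tt N102797 (iv7 F438682)))
theorem Q96284 : ∀ i, i < 96284 → P i := stepQ 96283 Q96283 (allL N96283 (tt N99370 (iv1 F424322)) (tt N99369 F424321) (tt N59311 F411867) (tt N96216 F411868) (tt N118502 (iv4 F510712)) (tt N106039 (iv5 F452843)) (tt N59301 (iv6 D199365)) (tt N99367 (iv7 F424315)))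
theorem Q96285 : ∀ i, i < 96285 → P i := stepQ 96284 Q96284 (allL N96284 (tt N96202 F411871) (tt N107208 F457466) (tt N59306 F411869) (tt N101800 (iv3 F434396)) (tt N94355 F411870) (tt N118773 F511992) (tt N59302 (iv6 D199366)) (tt N107207 (iv7 F457456)))
theorem Q96286 : ∀ i, i < 96286 → P i := stepQ 96285 Q96285 (allL N96285 (tt N59303 (iv1 D199368)) (tt N72379 F411873) (tt N96208 F411875) (tt N86239 (iv3 F411874)) (tt N71227 F411876) (tt N78990 (iv5 F411878)) (tt N71896 F411877) (tt N112709 (iv7 F482295)))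
theorem Q96287 : ∀ i, i < 96287 → P i := stepQ 96286 Q96286 (allL N96286 (tt N61908 F411884) (tt N71165 F411883) (tt N71163 F411881) (tt N72361 F411885) (tt N59303 (iv4 D199369)) (tt N106182 (iv5 F453494)) (tt N119105 D222364) (tt N71164 F411882))
theorem Q96288 : ∀ i, i < 96288 → P i := stepQ 96287 Q96287 (allL N96287 (tt N115120 (iv1 F493590)) (tt N116413 (iv0 F499976)) (tt N112710 (iv2 F482296)) (tt N59306 F411886) (tt N119105 (iv4 F513816)) (tt N110412 F471453) (tt N59303 (iv6 D199370)) (tt N115113 (iv7 F493546)))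
theorem Q96289 : ∀ i, i < 96289 → P i := stepQ 96288 Q96288 (allL N96288 (tt N71249 F411890) (tt N71246 (iv0 F411892)) (tt N72350 F411887) (tt N59304 (iv3 D199371)) (tt N72361 F411888) (tt N94199 F411889) (tt N119106 D222365) (tt N94361 F411891))
theorem Q96290 : ∀ i, i < 96290 → P i := stepQ 96289 Q96289 (allL N96289 (tt N118499 F510701) (tt N119107 D222366) (tt N94355 F411893) (tt N119106 (iv3 F513822)) (tt N59306 F411894) (tt N119108 D222367) (tt N59304 (iv6 D199372)) (tt N119109 D222368))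
theorem Q96291 : ∀ i, i < 96291 → P i := stepQ 96290 Q96290 (allL N96290 (tt N94354 (iv1 F411899)) (tt N94337 F411900) (tt N59308 F411895) (tt N94361 F411896) (tt N59307 F411897) (tt N94201 F411898) (tt N89519 (iv6 F411901)) (tt N59304 (iv7 D199373)))
theorem Q96292 : ∀ i, i < 96292 → P i := stepQ 96291 Q96291 (allL N96291 (tt N75158 F411905) (tt N75156 (iv0 F411906)) (tt N75170 F411902) (tt N108294 (iv3 F461931)) (tt N59305 (iv4 D199374)) (tt N74342 F411904) (tt N100142 (iv6 F427661)) (tt N74341 F411903))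
theorem Q96293 : ∀ i, i < 96293 → P i := stepQ 96292 Q96292 (allL N96292 (tt N85808 F411908) (tt N111359 (iv0 F475999)) (tt N101178 (iv2 F432066)) (tt N110317 (iv3 F471010)) (tt N100142 (iv4 F427664)) (tt N89354 F411907) (tt N59305 (iv6 D199375)) (tt N113704 (iv7 F486730)))
theorem Q96294 : ∀ i, i < 96294 → P i := stepQ 96293 Q96293 (allL N96293 (tt N107207 F457459) (tt N59306 (iv0 D199376)) (tt N96202 (iv2 F425013)) (tt N96223 (iv3 F425014)) (tt N108721 (iv4 F463689)) (tt N119110 D222369) (tt N99532 F425012) (tt N107208 (iv7 F457464)))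
theorem Q96295 : ∀ i, i < 96295 → P i := stepQ 96294 Q96294 (allL N96294 (tt N117233 F504039) (tt N118775 F512003) (tt N118773 (iv2 F511994)) (tt N110412 (iv3 F471455)) (tt N119111 D222370) (tt N59306 (iv5 D199378)) (tt N89354 F411909) (tt N116098 (iv7 F498448)))
theorem Q96296 : ∀ i, i < 96296 → P i := stepQ 96295 Q96295 (allL N96295 (tt N107208 (iv1 F457465)) (tt N96202 F457461) (tt N107207 F457460) (tt N115113 (iv3 F493544)) (tt N119109 (iv4 F513835)) (tt N116098 (iv5 F498447)) (tt N109040 (iv6 F465052)) (tt N59306 (iv7 D199379)))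
theorem Q96297 : ∀ i, i < 96297 → P i := stepQ 96296 Q96296 (allL N96296 (tt N80478 F411912) (tt N108064 (iv0 F460953)) (tt N75917 F411910) (tt N81502 F411911) (tt N100489 (iv4 F429141)) (tt N59310 (iv5 D199380)) (tt N75914 (iv6 F411913)) (tt N99198 (iv7 F423666)))
theorem Q96298 : ∀ i, i < 96298 → P i := stepQ 96297 Q96297 (allL N96297 (tt N99367 (iv1 F424317)) (tt N59311 (iv0 D199381)) (tt N99370 (iv2 F425039)) (tt N110322 (iv3 F471041)) (tt N118483 (iv4 F510617)) (tt N117090 (iv5 F503324)) (tt N101171 (iv6 F432039)) (tt N99369 (iv7 F425041)))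
theorem Q96299 : ∀ i, i < 96299 → P i := stepQ 96298 Q96298 (allL N96298 (tt N59311 (iv1 D199382)) (tt N99367 F424316) (tt N99369 F425040) (tt N99538 (iv3 F425037)) (tt N108045 (iv4 F460866)) (tt N117092 (iv5 F503334)) (tt N108030 (iv6 F460812)) (tt N99370 F425038))
theorem Q96300 : ∀ i, i < 96300 → P i := stepQ 96299 Q96299 (allL N96299 (tt N100253 F457813) (tt N106538 (iv0 F454811)) (tt N106039 (iv2 F452842)) (tt N59316 F411914) (tt N117777 (iv4 F506915)) (tt N59311 (iv5 D199383)) (tt N105294 (iv6 F449604)) (tt N99371 (iv7 F424326)))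
theorem Q96301 : ∀ i, i < 96301 → P i := stepQ 96300 Q96300 (allL N96300 (tt N99543 F425075) (tt N108076 (iv0 F461015)) (tt N75757 F411915) (tt N59313 F411916) (tt N75755 F411917) (tt N119112 D222371) (tt N59312 (iv6 D199384)) (tt N75760 (iv7 F411918)))
theorem Q96302 : ∀ i, i < 96302 → P i := stepQ 96301 Q96301 (allL N96301 (tt N100563 (iv1 F429471)) (tt N88449 (iv0 F411921)) (tt N96238 F411919) (tt N119112 (iv3 F513847)) (tt N73462 F411920) (tt N59313 (iv5 D199385)) (tt N99529 F424998) (tt N100605 (iv7 F429674)))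
theorem Q96303 : ∀ i, i < 96303 → P i := stepQ 96302 Q96302 (allL N96302 (tt N64722 (iv1 F411927)) (tt N96206 F411926) (tt N59314 (iv2 D199386)) (tt N81329 F411922) (tt N110043 (iv4 F469693)) (tt N77323 F411923) (tt N64705 F411924) (tt N96237 F411925))
theorem Q96304 : ∀ i, i < 96304 → P i := stepQ 96303 Q96303 (allL N96303 (tt N67000 F411931) (tt N112722 (iv0 F482361)) (tt N110043 (iv2 F469691)) (tt N65348 F411928) (tt N59314 (iv4 D199387)) (tt N101210 (iv5 F432215)) (tt N66991 F411929) (tt N78722 F411930))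
theorem Q96305 : ∀ i, i < 96305 → P i := stepQ 96304 Q96304 (allL N96304 (tt N105182 (iv1 F449135)) (tt N105183 (iv0 F449143)) (tt N64753 F411932) (tt N77329 F411933) (tt N117379 (iv4 F504746)) (tt N59315 (iv5 D199388)) (tt N94068 F411934) (tt N64754 F411935))
theorem Q96306 : ∀ i, i < 96306 → P i := stepQ 96305 Q96305 (allL N96305 (tt N107289 (iv1 F457817)) (tt N107288 F457812) (tt N96248 F411936) (tt N110665 (iv3 F472669)) (tt N59316 (iv4 D199389)) (tt N72437 F411937) (tt N98943 (iv6 F422826)) (tt N99373 (iv7 F424332)))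
theorem Q96307 : ∀ i, i < 96307 → P i := stepQ 96306 Q96306 (allL N96306 (tt N59400 (iv1 F411939)) (tt N59320 (iv0 D199390)) (tt N59399 F411942) (tt N96750 (iv3 F413765)) (tt N94846 F411940) (tt N59387 F411938) (tt N82410 (iv6 F411941)) (tt N59398 (iv7 F411945)))
theorem Q96308 : ∀ i, i < 96308 → P i := stepQ 96307 Q96307 (allL N96307 (tt N59320 (iv1 D199391)) (tt N59400 F411949) (tt N59398 (iv2 F411952)) (tt N109854 (iv3 F468928)) (tt N94818 (iv4 F411951)) (tt N59388 (iv5 F411953)) (tt N81971 (iv6 F411954)) (tt N59399 F411950))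
theorem Q96309 : ∀ i, i < 96309 → P i := stepQ 96308 Q96308 (allL N96308 (tt N86121 F411956) (tt N112823 F482801) (tt N96852 (iv2 F414258)) (tt N59321 (iv3 D199392)) (tt N96804 (iv4 F414029)) (tt N96570 (iv5 F413036)) (tt N101657 (iv6 F433728)) (tt N59468 F411955))
theorem Q96310 : ∀ i, i < 96310 → P i := stepQ 96309 Q96309 (allL N96309 (tt N59478 F411960) (tt N59477 (iv0 F411961)) (tt N59324 F411957) (tt N59434 F411958) (tt N105706 (iv4 F451341)) (tt N59323 (iv5 D199393)) (tt N105632 F451042) (tt N59475 F411959))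
theorem Q96311 : ∀ i, i < 96311 → P i := stepQ 96310 Q96310 (allL N96310 (tt N59475 (iv1 F411963)) (tt N59324 (iv0 D199394)) (tt N59478 (iv2 F411964)) (tt N86120 F412799) (tt N119113 D222372) (tt N59343 F411962) (tt N119114 D222373) (tt N59477 (iv7 F411965)))
theorem Q96312 : ∀ i, i < 96312 → P i := stepQ 96311 Q96311 (allL N96311 (tt N59324 (iv1 D199395)) (tt N59475 F411966) (tt N59477 (iv2 F411970)) (tt N59951 (iv3 F411969)) (tt N119115 D222374) (tt N59344 F411968) (tt N101060 (iv6 F431493)) (tt N59478 F411967))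
theorem Q96313 : ∀ i, i < 96313 → P i := stepQ 96312 Q96312 (allL N96312 (tt N115092 (iv1 F493448)) (tt N95240 (iv0 F411973)) (tt N105706 (iv2 F451340)) (tt N62283 F411971) (tt N59324 (iv4 D199396)) (tt N101038 (iv5 F431404)) (tt N100835 F430702) (tt N59479 F411972))
theorem Q96314 : ∀ i, i < 96314 → P i := stepQ 96313 Q96313 (allL N96313 (tt N76505 F412680) (tt N105633 F451048) (tt N105632 (iv2 F451043)) (tt N59326 F411974) (tt N100835 (iv4 F430699)) (tt N85557 F411975) (tt N59324 (iv6 D199397)) (tt N100853 (iv7 F430785)))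
theorem Q96315 : ∀ i, i < 96315 → P i := stepQ 96314 Q96314 (allL N96314 (tt N59437 F411980) (tt N59436 F411979) (tt N59333 F411976) (tt N59475 F411977) (tt N106077 (iv4 F453015)) (tt N59332 (iv5 D199398)) (tt N110219 (iv6 F470482)) (tt N59434 F411978))
theorem Q96316 : ∀ i, i < 96316 → P i := stepQ 96315 Q96315 (allL N96315 (tt N94855 (iv1 F411986)) (tt N94685 (iv0 F411984)) (tt N59334 F411981) (tt N59476 F411982) (tt N92057 F411983) (tt N116993 (iv5 F502864)) (tt N59332 (iv6 D199399)) (tt N94853 (iv7 F411985)))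
theorem Q96317 : ∀ i, i < 96317 → P i := stepQ 96316 Q96316 (allL N96316 (tt N59434 (iv1 F411990)) (tt N59333 (iv0 D199400)) (tt N59437 F411992) (tt N94691 F411989) (tt N70141 F411987) (tt N59352 F411988) (tt N77539 F411993) (tt N59436 (iv7 F411991)))
theorem Q96318 : ∀ i, i < 96318 → P i := stepQ 96317 Q96317 (allL N96317 (tt N59333 (iv1 D199401)) (tt N59434 F411994) (tt N59436 (iv2 F411998)) (tt N93437 F411999) (tt N93348 F411997) (tt N59353 F411996) (tt N78187 (iv6 F412000)) (tt N59437 F411995))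
theorem Q96319 : ∀ i, i < 96319 → P i := stepQ 96318 Q96318 (allL N96318 (tt N94853 (iv1 F412002)) (tt N59334 (iv0 D199402)) (tt N94855 (iv2 F412001)) (tt N107916 (iv3 F460269)) (tt N101688 F433874) (tt N107780 (iv5 F459695)) (tt N94845 (iv6 F412004)) (tt N94685 F412003))
theorem Q96320 : ∀ i, i < 96320 → P i := stepQ 96319 Q96319 (allL N96319 (tt N81972 (iv1 F412010)) (tt N81971 (iv0 F412011)) (tt N81856 F412005) (tt N59337 (iv3 D199403)) (tt N94698 F412006) (tt N72975 F412007) (tt N93477 F412008) (tt N59490 F412009))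
theorem Q96321 : ∀ i, i < 96321 → P i := stepQ 96320 Q96320 (allL N96320 (tt N95732 F412016) (tt N117681 (iv0 F506389)) (tt N93451 F412012) (tt N59342 F412013) (tt N59845 F412014) (tt N93450 (iv5 F412017)) (tt N59341 (iv6 D199404)) (tt N72889 F412015))
theorem Q96322 : ∀ i, i < 96322 → P i := stepQ 96321 Q96321 (allL N96321 (tt N77938 F412022) (tt N77937 F412023) (tt N59495 F412019) (tt N93450 F412020) (tt N110630 (iv4 F472502)) (tt N59342 (iv5 D199405)) (tt N101332 (iv6 F432680)) (tt N72891 F412021))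
theorem Q96323 : ∀ i, i < 96323 → P i := stepQ 96322 Q96322 (allL N96322 (tt N100924 F430982) (tt N94754 (iv0 F412027)) (tt N59948 F412024) (tt N59343 (iv3 D199406)) (tt N71032 F412025) (tt N86120 F412800) (tt N92873 (iv6 F412035)) (tt N59536 F412026))
theorem Q96324 : ∀ i, i < 96324 → P i := stepQ 96323 Q96323 (allL N96323 (tt N95112 F412031) (tt N59675 F412033) (tt N59538 F412028) (tt N92873 F412034) (tt N76727 F412029) (tt N92871 (iv5 F412032)) (tt N59343 (iv6 D199407)) (tt N94701 F412030))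
theorem Q96325 : ∀ i, i < 96325 → P i := stepQ 96324 Q96324 (allL N96324 (tt N59541 F412040) (tt N59540 F412041) (tt N59346 F412037) (tt N59503 F412038) (tt N114754 (iv4 F491681)) (tt N59345 (iv5 D199408)) (tt N96438 (iv6 F412522)) (tt N59539 F412039))
theorem Q96326 : ∀ i, i < 96326 → P i := stepQ 96325 Q96325 (allL N96325 (tt N76675 F412045) (tt N114755 F491691) (tt N114754 F491682) (tt N62406 F412043) (tt N59346 (iv4 D199409)) (tt N119116 D222375) (tt N118972 (iv6 F513053)) (tt N59542 F412044))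
theorem Q96327 : ∀ i, i < 96327 → P i := stepQ 96326 Q96326 (allL N96326 (tt N95130 F412051) (tt N59671 (iv0 F412052)) (tt N59522 F412046) (tt N81011 F412047) (tt N66036 F412048) (tt N81969 F412049) (tt N59349 (iv6 D199410)) (tt N94722 F412050))
theorem Q96328 : ∀ i, i < 96328 → P i := stepQ 96327 Q96327 (allL N96327 (tt N59506 F412056) (tt N59505 F412057) (tt N59355 F412053) (tt N59539 F412054) (tt N118813 (iv4 F512206)) (tt N59354 (iv5 D199411)) (tt N117618 (iv6 F506026)) (tt N59503 F412055))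
theorem Q96329 : ∀ i, i < 96329 → P i := stepQ 96328 Q96328 (allL N96328 (tt N90317 F412066) (tt N93764 F412062) (tt N118813 (iv2 F512204)) (tt N72862 F412059) (tt N59355 (iv4 D199412)) (tt N72860 F412061) (tt N110891 F473635) (tt N59507 F412060))
theorem Q96330 : ∀ i, i < 96330 → P i := stepQ 96329 Q96329 (allL N96329 (tt N101268 F432459) (tt N119117 D222376) (tt N117618 (iv2 F506024)) (tt N59357 F412067) (tt N110891 (iv4 F473637)) (tt N115907 (iv5 F497530)) (tt N59355 (iv6 D199413)) (tt N117619 (iv7 F506032)))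
theorem Q96331 : ∀ i, i < 96331 → P i := stepQ 96330 Q96330 (allL N96330 (tt N79205 (iv1 F412083)) (tt N59356 (iv0 D199414)) (tt N101576 F433439) (tt N79196 (iv3 F412070)) (tt N80217 F412069) (tt N84530 F412068) (tt N116994 (iv6 F502874)) (tt N95060 (iv7 F412081)))
theorem Q96332 : ∀ i, i < 96332 → P i := stepQ 96331 Q96331 (allL N96331 (tt N59356 (iv1 D199415)) (tt N79205 F412071) (tt N95060 F412075) (tt N93826 F412076) (tt N80216 F412072) (tt N94873 F412073) (tt N93822 (iv6 F412074)) (tt N101576 (iv7 F433441)))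
theorem Q96333 : ∀ i, i < 96333 → P i := stepQ 96332 Q96332 (allL N96332 (tt N103439 (iv1 F441643)) (tt N118717 (iv0 F511722)) (tt N101577 (iv2 F433447)) (tt N59360 F412094) (tt N111888 (iv4 F478511)) (tt N59356 (iv5 D199416)) (tt N115907 (iv6 F497528)) (tt N101567 F433410))
theorem Q96334 : ∀ i, i < 96334 → P i := stepQ 96333 Q96333 (allL N96333 (tt N95060 (iv1 F412099)) (tt N101576 F433440) (tt N79205 F412095) (tt N59361 F412096) (tt N65976 F412097) (tt N101567 (iv5 F433408)) (tt N59512 F412098) (tt N59356 (iv7 D199417)))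
theorem Q96335 : ∀ i, i < 96335 → P i := stepQ 96334 Q96334 (allL N96334 (tt N59357 (iv1 D199418)) (tt N59548 F412100) (tt N59546 (iv2 F412103)) (tt N113643 (iv3 F486461)) (tt N69904 F412102) (tt N96586 (iv5 F413084)) (tt N101407 (iv6 F432868)) (tt N59545 F412101))
theorem Q96336 : ∀ i, i < 96336 → P i := stepQ 96335 Q96335 (allL N96335 (tt N94891 F412108) (tt N94885 (iv0 F412110)) (tt N59547 F412104) (tt N115907 (iv3 F497527)) (tt N59374 F412105) (tt N59357 (iv5 D199419)) (tt N59360 F412106) (tt N79200 F412107))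
theorem Q96337 : ∀ i, i < 96337 → P i := stepQ 96336 Q96336 (allL N96336 (tt N119118 D222377) (tt N100921 F433423) (tt N101569 (iv2 F433418)) (tt N59358 (iv3 D199420)) (tt N80053 F412111) (tt N94894 F412112) (tt N110893 (iv6 F473646)) (tt N59553 F412113))
theorem Q96338 : ∀ i, i < 96338 → P i := stepQ 96337 Q96337 (allL N96337 (tt N108201 (iv1 F461482)) (tt N96787 (iv0 F413940)) (tt N59555 F412114) (tt N119119 D222378) (tt N59360 (iv4 D199421)) (tt N59373 F412115) (tt N59374 F412116) (tt N64971 F412117))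
theorem Q96339 : ∀ i, i < 96339 → P i := stepQ 96338 Q96338 (allL N96338 (tt N111349 (iv1 F475947)) (tt N59385 (iv0 F412121)) (tt N63872 F412118) (tt N59362 (iv3 D199422)) (tt N82439 F412119) (tt N108194 (iv5 F461468)) (tt N103352 F441239) (tt N59559 F412120))
theorem Q96340 : ∀ i, i < 96340 → P i := stepQ 96339 Q96339 (allL N96339 (tt N59382 (iv1 F412127)) (tt N109239 (iv0 F465936)) (tt N96037 (iv2 F412124)) (tt N59363 (iv3 D199424)) (tt N59528 F412123) (tt N119120 D222379) (tt N96031 (iv6 F412125)) (tt N59594 (iv7 F412126)))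
theorem Q96341 : ∀ i, i < 96341 → P i := stepQ 96340 Q96340 (allL N96340 (tt N65763 F412136) (tt N59946 (iv0 F412137)) (tt N59598 F412134) (tt N101889 (iv3 F434837)) (tt N59363 (iv4 D199425)) (tt N102205 F436171) (tt N103320 (iv6 F441126)) (tt N59595 F412135))
theorem Q96342 : ∀ i, i < 96342 → P i := stepQ 96341 Q96341 (allL N96341 (tt N59641 F412141) (tt N59391 F412140) (tt N59599 F412138) (tt N119120 (iv3 F513889)) (tt N95232 F412142) (tt N59363 (iv5 D199426)) (tt N117580 (iv6 F505824)) (tt N59596 F412139))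
theorem Q96343 : ∀ i, i < 96343 → P i := stepQ 96342 Q96342 (allL N96342 (tt N95181 (iv1 F412147)) (tt N59665 F412148) (tt N59600 F412143) (tt N96031 F412144) (tt N103320 (iv4 F441127)) (tt N96030 (iv5 F412146)) (tt N59363 (iv6 D199427)) (tt N94727 F412145))
theorem Q96344 : ∀ i, i < 96344 → P i := stepQ 96343 Q96343 (allL N96343 (tt N59946 F412152) (tt N65763 (iv0 F412154)) (tt N59595 F412149) (tt N60414 F412153) (tt N59364 (iv4 D199428)) (tt N119121 D222380) (tt N60553 F412150) (tt N59598 F412151))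
theorem Q96345 : ∀ i, i < 96345 → P i := stepQ 96344 Q96344 (allL N96344 (tt N59391 F412157) (tt N59641 F412158) (tt N59596 F412155) (tt N118973 (iv3 F513056)) (tt N95239 F412159) (tt N59364 (iv5 D199429)) (tt N107161 (iv6 F457261)) (tt N59599 F412156))
theorem Q96346 : ∀ i, i < 96346 → P i := stepQ 96345 Q96345 (allL N96345 (tt N80974 F431596) (tt N101131 F431841) (tt N59367 F412160) (tt N59575 F412161) (tt N65665 F412162) (tt N101126 (iv5 F431816)) (tt N59365 (iv6 D199430)) (tt N101130 (iv7 F431835)))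
theorem Q96347 : ∀ i, i < 96347 → P i := stepQ 96346 Q96346 (allL N96346 (tt N59366 (iv1 D199431)) (tt N59602 F412163) (tt N59608 (iv2 F412166)) (tt N112833 (iv3 F482851)) (tt N117536 (iv4 F505581)) (tt N81730 F412165) (tt N81711 (iv6 F412167)) (tt N59609 F412164))
theorem Q96348 : ∀ i, i < 96348 → P i := stepQ 96347 Q96347 (allL N96347 (tt N101130 F431839) (tt N59367 (iv0 D199432)) (tt N80974 F412172) (tt N81812 F412168) (tt N81815 F412169) (tt N81225 F412170) (tt N95183 (iv6 F412171)) (tt N101131 (iv7 F431842)))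
theorem Q96349 : ∀ i, i < 96349 → P i := stepQ 96348 Q96348 (allL N96348 (tt N59367 (iv1 D199433)) (tt N101130 (iv0 F431836)) (tt N101131 F431840) (tt N80777 (iv3 F412174)) (tt N102406 (iv4 F437102)) (tt N81224 F412175) (tt N117026 (iv6 F503027)) (tt N80974 F412173))
theorem Q96350 : ∀ i, i < 96350 → P i := stepQ 96349 Q96349 (allL N96349 (tt N112145 F479735) (tt N96912 (iv0 F414578)) (tt N59571 F412176) (tt N97583 (iv3 F417462)) (tt N59368 (iv4 D199434)) (tt N108289 (iv5 F461904)) (tt N94737 F412177) (tt N59567 F412178))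
theorem Q96351 : ∀ i, i < 96351 → P i := stepQ 96350 Q96350 (allL N96350 (tt N59638 F412181) (tt N59393 (iv0 F412182)) (tt N59572 F412179) (tt N97584 (iv3 F417468)) (tt N85878 (iv4 F412183)) (tt N59368 (iv5 D199435)) (tt N117417 (iv6 F504938)) (tt N59568 F412180))
theorem Q96352 : ∀ i, i < 96352 → P i := stepQ 96351 Q96351 (allL N96351 (tt N96858 (iv1 F414297)) (tt N59377 F414298) (tt N97580 (iv2 F417446)) (tt N59369 (iv3 D199436)) (tt N109306 (iv4 F466306)) (tt N119122 D222381) (tt N65482 (iv6 F412190)) (tt N59570 F412189))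
theorem Q96353 : ∀ i, i < 96353 → P i := stepQ 96352 Q96352 (allL N96352 (tt N59393 F412193) (tt N59638 F412195) (tt N59568 F412191) (tt N119122 (iv3 F513900)) (tt N85879 (iv4 F412194)) (tt N59369 (iv5 D199437)) (tt N119123 D222382) (tt N59572 F412192))
theorem Q96354 : ∀ i, i < 96354 → P i := stepQ 96353 Q96353 (allL N96353 (tt N59663 (iv1 F412199)) (tt N95143 F412201) (tt N59569 F412196) (tt N65482 F412197) (tt N113509 (iv4 F485834)) (tt N65480 (iv5 F412200)) (tt N59369 (iv6 D199438)) (tt N94742 F412198))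
theorem Q96355 : ∀ i, i < 96355 → P i := stepQ 96354 Q96354 (allL N96354 (tt N59581 (iv1 F412206)) (tt N59580 F412205) (tt N59371 F412202) (tt N59602 F412203) (tt N98192 (iv4 F419923)) (tt N59370 (iv5 D199439)) (tt N119124 D222383) (tt N59574 F412204))
theorem Q96356 : ∀ i, i < 96356 → P i := stepQ 96355 Q96355 (allL N96355 (tt N111067 (iv1 F474507)) (tt N95160 F412239) (tt N59372 F412207) (tt N59603 F412208) (tt N78485 F412209) (tt N119125 D222384) (tt N59370 (iv6 D199440)) (tt N80657 (iv7 F412210)))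
theorem Q96357 : ∀ i, i < 96357 → P i := stepQ 96356 Q96356 (allL N96356 (tt N59574 (iv1 F412211)) (tt N59371 (iv0 D199441)) (tt N59581 F412219) (tt N110455 (iv3 F471666)) (tt N86108 (iv4 F412222)) (tt N95923 F412221) (tt N86107 (iv6 F412225)) (tt N59580 F412217))
theorem Q96358 : ∀ i, i < 96358 → P i := stepQ 96357 Q96357 (allL N96357 (tt N59371 (iv1 D199442)) (tt N59574 F412212) (tt N59580 (iv2 F412214)) (tt N116031 (iv3 F498141)) (tt N86035 (iv4 F412215)) (tt N95924 F412213) (tt N86034 F412216) (tt N59581 (iv7 F412218)))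
theorem Q96359 : ∀ i, i < 96359 → P i := stepQ 96358 Q96358 (allL N96358 (tt N86223 (iv1 F419833)) (tt N98171 (iv0 F419832)) (tt N98192 F419920) (tt N68325 F412226) (tt N59371 (iv4 D199443)) (tt N68324 (iv5 F412228)) (tt N114574 (iv6 F490832)) (tt N59582 F412227))
theorem Q96360 : ∀ i, i < 96360 → P i := stepQ 96359 Q96359 (allL N96359 (tt N119126 D222385) (tt N113876 (iv0 F487580)) (tt N119124 (iv2 F513912)) (tt N59373 F412229) (tt N114574 (iv4 F490833)) (tt N119119 (iv5 F513883)) (tt N59371 (iv6 D199444)) (tt N118975 (iv7 F513070)))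
theorem Q96361 : ∀ i, i < 96361 → P i := stepQ 96360 Q96360 (allL N96360 (tt N80657 (iv1 F412236)) (tt N59372 (iv0 D199445)) (tt N111067 (iv2 F474503)) (tt N63876 F429419) (tt N111066 F474502) (tt N115895 (iv5 F497461)) (tt N115427 (iv6 F495138)) (tt N95160 F429420))
theorem Q96362 : ∀ i, i < 96362 → P i := stepQ 96361 Q96361 (allL N96361 (tt N59372 (iv1 D199446)) (tt N80657 F412230) (tt N95160 (iv2 F429423)) (tt N111427 F476315) (tt N111063 (iv4 F474484)) (tt N119127 D222386) (tt N95148 F429424) (tt N111067 (iv7 F474506)))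
theorem Q96363 : ∀ i, i < 96363 → P i := stepQ 96362 Q96362 (allL N96362 (tt N119128 D222387) (tt N119129 D222388) (tt N119125 (iv2 F513918)) (tt N59374 F412231) (tt N115906 F497523) (tt N59372 (iv5 D199447)) (tt N119119 (iv6 F513884)) (tt N111352 F475965))
theorem Q96364 : ∀ i, i < 96364 → P i := stepQ 96363 Q96363 (allL N96363 (tt N95160 F412237) (tt N111067 (iv0 F474508)) (tt N80657 F412232) (tt N59375 F412233) (tt N78486 F412234) (tt N111352 (iv5 F475964)) (tt N59587 F412235) (tt N59372 (iv7 D199448)))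
theorem Q96365 : ∀ i, i < 96365 → P i := stepQ 96364 Q96364 (allL N96364 (tt N59620 (iv1 F412243)) (tt N59373 (iv0 D199449)) (tt N59618 (iv2 F412245)) (tt N119130 D222389) (tt N64024 F412241) (tt N94899 F412244) (tt N64023 F412242) (tt N59619 (iv7 F412246)))
theorem Q96366 : ∀ i, i < 96366 → P i := stepQ 96365 Q96365 (allL N96365 (tt N59373 (iv1 D199450)) (tt N59620 F412247) (tt N59619 F412252) (tt N59618 F412253) (tt N73224 F412249) (tt N94900 F412250) (tt N64861 (iv6 F412251)) (tt N59618 F412248))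
theorem Q96367 : ∀ i, i < 96367 → P i := stepQ 96366 Q96366 (allL N96366 (tt N96037 F412256) (tt N59594 (iv0 F412258)) (tt N109239 (iv2 F465932)) (tt N59376 (iv3 D199451)) (tt N65447 F412257) (tt N119131 D222390) (tt N100701 (iv6 F430086)) (tt N59382 F412255))
theorem Q96368 : ∀ i, i < 96368 → P i := stepQ 96367 Q96367 (allL N96367 (tt N59591 F412261) (tt N96405 (iv0 F412374)) (tt N59379 F412259) (tt N119131 (iv3 F513952)) (tt N109029 (iv4 F464998)) (tt N59376 (iv5 D199452)) (tt N59379 (iv6 F412262)) (tt N59384 F412260))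
theorem Q96369 : ∀ i, i < 96369 → P i := stepQ 96368 Q96368 (allL N96368 (tt N59523 (iv1 F412267)) (tt N96178 (iv0 F412266)) (tt N59380 F412263) (tt N100701 (iv3 F430088)) (tt N93824 F412264) (tt N59380 F412265) (tt N59376 (iv6 D199453)) (tt N101125 (iv7 F431810)))
theorem Q96370 : ∀ i, i < 96370 → P i := stepQ 96369 Q96369 (allL N96369 (tt N59377 (iv1 D199455)) (tt N96858 F414296) (tt N59570 F412269) (tt N59625 (iv3 F412268)) (tt N108285 (iv4 F461876)) (tt N119132 D222391) (tt N94749 F412270) (tt N97580 (iv7 F417448)))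
theorem Q96371 : ∀ i, i < 96371 → P i := stepQ 96370 Q96370 (allL N96370 (tt N116031 (iv1 F498145)) (tt N119133 D222392) (tt N118949 (iv2 F512921)) (tt N59379 F412271) (tt N75029 F412272) (tt N59377 (iv5 D199456)) (tt N119131 (iv6 F513954)) (tt N118950 (iv7 F512930)))
theorem Q96372 : ∀ i, i < 96372 → P i := stepQ 96371 Q96371 (allL N96371 (tt N112141 F479713) (tt N101127 (iv0 F431821)) (tt N111600 (iv2 F477106)) (tt N59380 F412273) (tt N96859 (iv4 F414301)) (tt N100701 F430089) (tt N59377 (iv6 D199457)) (tt N111437 (iv7 F476362)))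
theorem Q96373 : ∀ i, i < 96373 → P i := stepQ 96372 Q96372 (allL N96372 (tt N94700 F412278) (tt N95109 (iv0 F412279)) (tt N95034 F412274) (tt N59378 (iv3 D199458)) (tt N95139 F412275) (tt N89783 F412276) (tt N112012 (iv6 F479072)) (tt N89782 F412277))
theorem Q96374 : ∀ i, i < 96374 → P i := stepQ 96373 Q96373 (allL N96373 (tt N59384 (iv1 F412291)) (tt N59379 (iv0 D199459)) (tt N59591 (iv2 F412285)) (tt N59593 F412286) (tt N119134 D222393) (tt N95694 F412284) (tt N116398 (iv6 F499885)) (tt N96405 (iv7 F412372)))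
theorem Q96375 : ∀ i, i < 96375 → P i := stepQ 96374 Q96374 (allL N96374 (tt N119135 D222394) (tt N102795 (iv0 F438677)) (tt N109029 (iv2 F464996)) (tt N75033 F412287) (tt N59379 (iv4 D199460)) (tt N75038 F412288) (tt N109029 (iv6 F464997)) (tt N119136 D222395))
theorem Q96376 : ∀ i, i < 96376 → P i := stepQ 96375 Q96375 (allL N96375 (tt N96405 (iv1 F412373)) (tt N59591 F412292) (tt N59384 F412289) (tt N118950 (iv3 F512928)) (tt N119136 (iv4 F513982)) (tt N59381 F412290) (tt N119137 D222396) (tt N59379 (iv7 D199461)))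
theorem Q96377 : ∀ i, i < 96377 → P i := stepQ 96376 Q96376 (allL N96376 (tt N96178 (iv1 F412295)) (tt N59523 F412296) (tt N101125 F431808) (tt N111437 (iv3 F476360)) (tt N93567 F412294) (tt N101125 (iv5 F431805)) (tt N111349 F475950) (tt N59380 (iv7 D199462)))
theorem Q96378 : ∀ i, i < 96378 → P i := stepQ 96377 Q96377 (allL N96377 (tt N63872 (iv1 F412300)) (tt N59559 F412299) (tt N59385 F412298) (tt N111428 (iv3 F476319)) (tt N103050 (iv4 F439850)) (tt N118178 (iv5 F509027)) (tt N59381 (iv6 D199463)) (tt N111349 (iv7 F475948)))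
theorem Q96379 : ∀ i, i < 96379 → P i := stepQ 96378 Q96378 (allL N96378 (tt N109239 (iv1 F465937)) (tt N59382 (iv0 D199464)) (tt N59594 (iv2 F412302)) (tt N59622 F412303) (tt N59527 F412301) (tt N119138 D222397) (tt N94758 F412304) (tt N96037 F412305))
theorem Q96380 : ∀ i, i < 96380 → P i := stepQ 96379 Q96379 (allL N96379 (tt N114756 (iv1 F491697)) (tt N110553 (iv0 F472113)) (tt N88974 F412306) (tt N59384 F412307) (tt N88971 (iv4 F412308)) (tt N59382 (iv5 D199465)) (tt N88970 (iv6 F412309)) (tt N119131 (iv7 F513955)))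
theorem Q96381 : ∀ i, i < 96381 → P i := stepQ 96380 Q96380 (allL N96380 (tt N112008 (iv1 F479049)) (tt N112004 (iv0 F479038)) (tt N103050 (iv2 F439846)) (tt N65442 F412310) (tt N59385 F412311) (tt N61218 F412312) (tt N59383 (iv6 D199466)) (tt N111433 (iv7 F476347)))
theorem Q96382 : ∀ i, i < 96382 → P i := stepQ 96381 Q96381 (allL N96381 (tt N102795 F463549) (tt N119135 (iv0 F513979)) (tt N119136 (iv2 F513980)) (tt N119139 D222398) (tt N59384 (iv4 D199467)) (tt N109030 (iv5 F465003)) (tt N119140 D222399) (tt N109029 F465000))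
theorem Q96383 : ∀ i, i < 96383 → P i := stepQ 96382 Q96382 (allL N96382 (tt N119130 F513950) (tt N119130 (iv0 F513949)) (tt N119137 (iv2 F513986)) (tt N88970 F412313) (tt N119140 (iv4 F514005)) (tt N119141 D222400) (tt N59384 (iv6 D199468)) (tt N119137 (iv7 F513989)))
theorem Q96384 : ∀ i, i < 96384 → P i := stepQ 96383 Q96383 (allL N96383 (tt N101963 (iv1 F435106)) (tt N101535 (iv0 F433281)) (tt N118178 F509028) (tt N65444 F412314) (tt N119142 D222401) (tt N59385 (iv5 D199469)) (tt N119141 (iv6 F514008)) (tt N111434 (iv7 F476349)))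
theorem Q96385 : ∀ i, i < 96385 → P i := stepQ 96384 Q96384 (allL N96384 (tt N119028 (iv1 F513365)) (tt N119027 F513361) (tt N59389 F412315) (tt N103829 F442991) (tt N59386 (iv4 D199470)) (tt N109032 (iv5 F465011)) (tt N103853 (iv6 F443093)) (tt N103861 (iv7 F443124)))
theorem Q96386 : ∀ i, i < 96386 → P i := stepQ 96385 Q96385 (allL N96385 (tt N119122 (iv1 F513905)) (tt N119132 (iv0 F513962)) (tt N118912 (iv2 F512711)) (tt N59387 (iv3 D199471)) (tt N75748 F412317) (tt N96750 (iv5 F413764)) (tt N105510 F467054) (tt N109197 (iv7 F465755)))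
theorem Q96387 : ∀ i, i < 96387 → P i := stepQ 96386 Q96386 (allL N96386 (tt N118205 (iv1 F509137)) (tt N118749 (iv0 F511875)) (tt N119031 (iv2 F513381)) (tt N75583 F412316) (tt N59387 (iv4 D199472)) (tt N97872 (iv5 F418611)) (tt N93241 (iv6 F433090)) (tt N109166 (iv7 F465650)))
theorem Q96388 : ∀ i, i < 96388 → P i := stepQ 96387 Q96387 (allL N96387 (tt N59390 F412318) (tt N64915 F412319) (tt N112794 (iv2 F482651)) (tt N105510 F467053) (tt N93241 F433089) (tt N109646 (iv5 F467908)) (tt N59387 (iv6 D199473)) (tt N112793 F482654))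
theorem Q96389 : ∀ i, i < 96389 → P i := stepQ 96388 Q96388 (allL N96388 (tt N119138 (iv1 F513996)) (tt N119120 (iv0 F513893)) (tt N119143 D222402) (tt N59388 (iv3 D199474)) (tt N109864 (iv4 F468986)) (tt N109854 F468932) (tt N110217 F471614) (tt N119030 (iv7 F513378)))
theorem Q96390 : ∀ i, i < 96390 → P i := stepQ 96389 Q96389 (allL N96389 (tt N118749 F511876) (tt N118205 (iv0 F509136)) (tt N109166 (iv2 F465648)) (tt N119144 D222403) (tt N59388 (iv4 D199475)) (tt N103661 (iv5 F442405)) (tt N85293 (iv6 F412360)) (tt N119031 (iv7 F513385)))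
theorem Q96391 : ∀ i, i < 96391 → P i := stepQ 96390 Q96390 (allL N96390 (tt N107224 F457532) (tt N119145 D222404) (tt N91368 F412357) (tt N110217 (iv3 F471613)) (tt N85293 F412359) (tt N91362 (iv5 F412358)) (tt N59388 (iv6 D199476)) (tt N105444 (iv7 F450293)))
theorem Q96392 : ∀ i, i < 96392 → P i := stepQ 96391 Q96391 (allL N96391 (tt N103861 (iv1 F443127)) (tt N59389 (iv0 D199477)) (tt N119028 (iv2 F513369)) (tt N117739 F506726) (tt N119040 (iv4 F513441)) (tt N119146 D222405) (tt N71088 F446020) (tt N119027 (iv7 F513364)))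
theorem Q96393 : ∀ i, i < 96393 → P i := stepQ 96392 Q96392 (allL N96392 (tt N59389 (iv1 D199478)) (tt N103861 F443125) (tt N119027 (iv2 F513363)) (tt N61630 F421739) (tt N119039 (iv4 F513430)) (tt N119147 D222406) (tt N61629 F421740) (tt N119028 (iv7 F513366)))
theorem Q96394 : ∀ i, i < 96394 → P i := stepQ 96393 Q96393 (allL N96393 (tt N92620 F418709) (tt N119148 D222407) (tt N109032 (iv2 F465009)) (tt N103785 (iv3 F442802)) (tt N97898 (iv4 F418708)) (tt N59389 (iv5 D199479)) (tt N103784 F442799) (tt N109031 (iv7 F465006)))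
theorem Q96395 : ∀ i, i < 96395 → P i := stepQ 96394 Q96394 (allL N96394 (tt N64915 (iv1 F412326)) (tt N59390 (iv0 D199480)) (tt N112793 F482653) (tt N109782 (iv3 F468588)) (tt N93238 F412320) (tt N105443 (iv5 F450290)) (tt N105444 (iv6 F450292)) (tt N112794 (iv7 F482652)))
theorem Q96396 : ∀ i, i < 96396 → P i := stepQ 96395 Q96395 (allL N96395 (tt N112794 (iv1 F482646)) (tt N112793 F482645) (tt N64915 F412321) (tt N59397 F412322) (tt N67692 F412323) (tt N85218 F412324) (tt N93417 F412325) (tt N59390 (iv7 D199481)))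
theorem Q96397 : ∀ i, i < 96397 → P i := stepQ 96396 Q96396 (allL N96396 (tt N112766 F482560) (tt N110215 (iv0 F470469)) (tt N118719 (iv2 F511731)) (tt N59392 F412327) (tt N110193 (iv4 F470367)) (tt N100837 (iv5 F430707)) (tt N59391 (iv6 D199482)) (tt N100121 (iv7 F427560)))
theorem Q96398 : ∀ i, i < 96398 → P i := stepQ 96397 Q96397 (allL N96397 (tt N78068 F412332) (tt N107161 (iv0 F457263)) (tt N86158 F412330) (tt N59395 (iv3 D199483)) (tt N78155 (iv4 F412329)) (tt N83258 F412331) (tt N86156 (iv6 F412333)) (tt N59656 F412328))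
theorem Q96399 : ∀ i, i < 96399 → P i := stepQ 96398 Q96398 (allL N96398 (tt N73513 F412337) (tt N82424 (iv0 F412339)) (tt N59654 F412334) (tt N83258 F412335) (tt N78466 F412338) (tt N59395 (iv5 D199484)) (tt N96712 (iv6 F413572)) (tt N59658 F412336))
theorem Q96400 : ∀ i, i < 96400 → P i := stepQ 96399 Q96399 (allL N96399 (tt N107223 F457526) (tt N118976 F513078) (tt N59655 F412340) (tt N86156 F412341) (tt N107286 (iv4 F457803)) (tt N105384 (iv5 F449993)) (tt N59395 (iv6 D199485)) (tt N59634 F412342))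
theorem Q96401 : ∀ i, i < 96401 → P i := stepQ 96400 Q96400 (allL N96400 (tt N117417 (iv1 F504941)) (tt N117415 (iv0 F504928)) (tt N119149 D222408) (tt N59396 (iv3 D199486)) (tt N113640 (iv4 F486444)) (tt N82421 F412343) (tt N59630 F412344) (tt N59652 F412345))
theorem Q96402 : ∀ i, i < 96402 → P i := stepQ 96401 Q96401 (allL N96401 (tt N94847 F412350) (tt N94686 F412349) (tt N94818 F412346) (tt N94950 F412347) (tt N59398 (iv4 D199487)) (tt N108657 (iv5 F463393)) (tt N118366 F509954) (tt N94846 F412348))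
theorem Q96403 : ∀ i, i < 96403 → P i := stepQ 96402 Q96402 (allL N96402 (tt N81856 F412353) (tt N59490 (iv0 F412354)) (tt N81971 F412351) (tt N117667 (iv3 F506312)) (tt N118366 (iv4 F509951)) (tt N91369 F412355) (tt N59398 (iv6 D199488)) (tt N81972 F412352))
theorem Q96404 : ∀ i, i < 96404 → P i := stepQ 96403 Q96403 (allL N96403 (tt N109806 (iv1 F468714)) (tt N109855 F468936) (tt N109238 (iv2 F465928)) (tt N59399 (iv3 D199489)) (tt N79834 F412362) (tt N119030 (iv5 F513376)) (tt N79833 F412361) (tt N109854 (iv7 F468930)))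
theorem Q96405 : ∀ i, i < 96405 → P i := stepQ 96404 Q96404 (allL N96404 (tt N94686 F412367) (tt N94847 (iv0 F412368)) (tt N94846 F412363) (tt N72892 F412364) (tt N59399 (iv4 D199490)) (tt N108658 (iv5 F463397)) (tt N93470 F412365) (tt N94818 F412366))
theorem Q96406 : ∀ i, i < 96406 → P i := stepQ 96405 Q96405 (allL N96405 (tt N96367 F412374) (tt N96375 F412373) (tt N59401 F412369) (tt N73092 F412370) (tt N119150 D222409) (tt N59400 (iv5 D199491)) (tt N93864 F412371) (tt N96373 F412372))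
theorem Q96407 : ∀ i, i < 96407 → P i := stepQ 96406 Q96406 (allL N96406 (tt N117942 (iv1 F507710)) (tt N118689 (iv0 F511561)) (tt N119150 (iv2 F514053)) (tt N72555 F412375) (tt N59401 (iv4 D199492)) (tt N109424 (iv5 F466894)) (tt N108878 (iv6 F464335)) (tt N96628 (iv7 F413241)))
theorem Q96408 : ∀ i, i < 96408 → P i := stepQ 96407 Q96407 (allL N96407 (tt N73096 (iv1 F412380)) (tt N73095 F412381) (tt N73097 F412376) (tt N93866 F412377) (tt N72563 F412378) (tt N93865 F412379) (tt N96632 (iv6 F413251)) (tt N59402 (iv7 D199493)))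
theorem Q96409 : ∀ i, i < 96409 → P i := stepQ 96408 Q96408 (allL N96408 (tt N59454 F412386) (tt N65494 (iv0 F412387)) (tt N73080 F412382) (tt N103453 (iv3 F441703)) (tt N66022 F412383) (tt N59668 F412384) (tt N59403 (iv6 D199494)) (tt N93382 F412385))
theorem Q96410 : ∀ i, i < 96410 → P i := stepQ 96409 Q96409 (allL N96409 (tt N117109 (iv1 F503443)) (tt N106787 (iv0 F455683)) (tt N81231 F412388) (tt N59404 (iv3 D199495)) (tt N95343 F412389) (tt N112486 (iv5 F481299)) (tt N80821 F412390) (tt N73079 F412391))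
theorem Q96411 : ∀ i, i < 96411 → P i := stepQ 96410 Q96410 (allL N96410 (tt N94970 F412395) (tt N59474 (iv0 F412396)) (tt N101650 (iv2 F433700)) (tt N59406 (iv3 D199496)) (tt N63589 F412392) (tt N106956 F456438) (tt N76724 F412393) (tt N73076 F412394))
theorem Q96412 : ∀ i, i < 96412 → P i := stepQ 96411 Q96411 (allL N96411 (tt N94708 F412402) (tt N93812 F412400) (tt N73074 F412397) (tt N106956 (iv3 F456436)) (tt N92458 F412401) (tt N59406 (iv5 D199497)) (tt N92456 F412398) (tt N73077 F412399))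
theorem Q96413 : ∀ i, i < 96413 → P i := stepQ 96412 Q96412 (allL N96412 (tt N59429 (iv1 F412410)) (tt N93481 (iv0 F412408)) (tt N112500 (iv2 F481375)) (tt N59407 (iv3 D199498)) (tt N74652 F412405) (tt N93820 F412409) (tt N94815 F412406) (tt N73073 F412407))
theorem Q96414 : ∀ i, i < 96414 → P i := stepQ 96413 Q96413 (allL N96413 (tt N93812 F412419) (tt N94708 F412420) (tt N73077 F412415) (tt N93820 F412416) (tt N106462 (iv4 F454556)) (tt N59407 (iv5 D199499)) (tt N96018 F412417) (tt N73074 F412418))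
theorem Q96415 : ∀ i, i < 96415 → P i := stepQ 96414 Q96414 (allL N96414 (tt N92054 F412425) (tt N92055 F412427) (tt N97495 F417101) (tt N59408 (iv3 D199500)) (tt N65899 F412421) (tt N59632 F412422) (tt N64933 F412423) (tt N73091 F412424))
theorem Q96416 : ∀ i, i < 96416 → P i := stepQ 96415 Q96415 (allL N96415 (tt N96632 (iv1 F413260)) (tt N59411 (iv0 D199501)) (tt N96630 (iv2 F413257)) (tt N110431 (iv3 F471553)) (tt N95021 F413258) (tt N99330 (iv5 F424130)) (tt N101056 (iv6 F431480)) (tt N96631 F413259))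
theorem Q96417 : ∀ i, i < 96417 → P i := stepQ 96416 Q96416 (allL N96416 (tt N96631 (iv1 F413243)) (tt N96630 F413252) (tt N96632 (iv2 F413249)) (tt N89036 F412428) (tt N72543 F412429) (tt N94604 F412430) (tt N73097 F412431) (tt N59411 (iv7 D199502)))
theorem Q96418 : ∀ i, i < 96418 → P i := stepQ 96417 Q96417 (allL N96417 (tt N94699 (iv1 F412433)) (tt N59412 (iv0 D199503)) (tt N94996 (iv2 F412432)) (tt N115828 (iv3 F497121)) (tt N118756 (iv4 F511913)) (tt N96560 (iv5 F412990)) (tt N73473 (iv6 F412435)) (tt N94995 F412434))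
theorem Q96419 : ∀ i, i < 96419 → P i := stepQ 96418 Q96418 (allL N96418 (tt N119151 D222410) (tt N112663 (iv0 F482068)) (tt N95000 F412436) (tt N77950 (iv3 F412439)) (tt N59412 (iv4 D199504)) (tt N107335 F458001) (tt N76811 F412437) (tt N94997 F412438))
theorem Q96420 : ∀ i, i < 96420 → P i := stepQ 96419 Q96419 (allL N96419 (tt N59430 F412444) (tt N93486 (iv0 F412443)) (tt N94810 (iv2 F412442)) (tt N59413 (iv3 D199505)) (tt N94669 F412441) (tt N119039 (iv5 F513429)) (tt N112658 (iv6 F482043)) (tt N94812 F412440))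
theorem Q96421 : ∀ i, i < 96421 → P i := stepQ 96420 Q96420 (allL N96420 (tt N118984 (iv1 F513121)) (tt N79787 (iv0 F412450)) (tt N97084 (iv2 F415404)) (tt N79793 F412449) (tt N59413 (iv4 D199506)) (tt N99896 (iv5 F426725)) (tt N80170 F412447) (tt N79824 F412448))
theorem Q96422 : ∀ i, i < 96422 → P i := stepQ 96421 Q96421 (allL N96421 (tt N98189 (iv1 F419914)) (tt N59444 F412452) (tt N86051 F412451) (tt N119039 (iv3 F513431)) (tt N61628 F412454) (tt N59413 (iv5 D199507)) (tt N61627 (iv6 F412453)) (tt N105027 (iv7 F448455)))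
theorem Q96423 : ∀ i, i < 96423 → P i := stepQ 96422 Q96422 (allL N96422 (tt N96852 (iv1 F414263)) (tt N59468 (iv0 F412458)) (tt N112823 (iv2 F482797)) (tt N59414 (iv3 D199508)) (tt N115788 (iv4 F496882)) (tt N86122 (iv5 F412457)) (tt N78449 F412455) (tt N86121 F412456))
theorem Q96424 : ∀ i, i < 96424 → P i := stepQ 96423 Q96423 (allL N96423 (tt N59444 F412461) (tt N98189 (iv0 F419913)) (tt N105027 F448453) (tt N86122 F412459) (tt N86054 F412462) (tt N59414 (iv5 D199509)) (tt N101366 F453875) (tt N86051 F412460))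
theorem Q96425 : ∀ i, i < 96425 → P i := stepQ 96424 Q96424 (allL N96424 (tt N96525 (iv1 F412853)) (tt N96522 (iv0 F412842)) (tt N59416 F412463) (tt N96547 (iv3 F412937)) (tt N86197 F412464) (tt N59415 (iv5 D199510)) (tt N114978 (iv6 F492878)) (tt N86194 F412465))
theorem Q96426 : ∀ i, i < 96426 → P i := stepQ 96425 Q96425 (allL N96425 (tt N93462 (iv1 F412470)) (tt N81000 (iv0 F412471)) (tt N59417 F412466) (tt N95467 F412467) (tt N79519 F412468) (tt N118243 (iv5 F509332)) (tt N59415 (iv6 D199511)) (tt N93466 F412469))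
theorem Q96427 : ∀ i, i < 96427 → P i := stepQ 96426 Q96426 (allL N96426 (tt N86194 (iv1 F412474)) (tt N59416 (iv0 D199512)) (tt N96525 (iv2 F412849)) (tt N118203 (iv3 F509127)) (tt N91452 F412473) (tt N69684 F412472) (tt N118686 (iv6 F511545)) (tt N96522 (iv7 F412840)))
theorem Q96428 : ∀ i, i < 96428 → P i := stepQ 96427 Q96427 (allL N96427 (tt N59416 (iv1 D199513)) (tt N86194 F412475) (tt N96522 (iv2 F412838)) (tt N119152 D222411) (tt N91451 F412477) (tt N69685 F412476) (tt N119153 D222412) (tt N96525 (iv7 F412851)))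
theorem Q96429 : ∀ i, i < 96429 → P i := stepQ 96428 Q96428 (allL N96428 (tt N114979 (iv1 F492885)) (tt N114456 (iv0 F490266)) (tt N114978 F492879) (tt N59418 F412478) (tt N86203 F412479) (tt N111548 (iv5 F476859)) (tt N59416 (iv6 D199514)) (tt N86201 F412480))
theorem Q96430 : ∀ i, i < 96430 → P i := stepQ 96429 Q96429 (allL N96429 (tt N59417 (iv1 D199515)) (tt N93466 F412481) (tt N81000 F412484) (tt N101656 F433723) (tt N80783 F412485) (tt N93795 F412486) (tt N80782 (iv6 F412483)) (tt N93462 F412482))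
theorem Q96431 : ∀ i, i < 96431 → P i := stepQ 96430 Q96430 (allL N96430 (tt N81000 (iv1 F412491)) (tt N93462 F412492) (tt N93466 F412487) (tt N59419 F412488) (tt N79518 F412489) (tt N118679 (iv5 F511504)) (tt N72917 F412490) (tt N59417 (iv7 D199516)))
theorem Q96432 : ∀ i, i < 96432 → P i := stepQ 96431 Q96431 (allL N96431 (tt N96553 (iv1 F412960)) (tt N59418 (iv0 D199517)) (tt N96550 (iv2 F412957)) (tt N119154 D222413) (tt N72560 F412958) (tt N118553 (iv5 F510917)) (tt N111132 (iv6 F474848)) (tt N96551 F412959))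
theorem Q96433 : ∀ i, i < 96433 → P i := stepQ 96432 Q96432 (allL N96432 (tt N59418 (iv1 D199518)) (tt N96553 F412954) (tt N96551 (iv2 F412947)) (tt N117551 (iv3 F505647)) (tt N72561 F412494) (tt N117550 (iv5 F505644)) (tt N85329 (iv6 F412493)) (tt N96550 (iv7 F412955)))
theorem Q96434 : ∀ i, i < 96434 → P i := stepQ 96433 Q96433 (allL N96433 (tt N96551 (iv1 F412945)) (tt N96550 F412953) (tt N96553 (iv2 F412951)) (tt N86201 F412495) (tt N72516 F412496) (tt N118244 (iv5 F509334)) (tt N86200 F412497) (tt N59418 (iv7 D199519)))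
theorem Q96435 : ∀ i, i < 96435 → P i := stepQ 96434 Q96434 (allL N96434 (tt N59446 F412499) (tt N105045 F448543) (tt N105043 F448533) (tt N75526 F412498) (tt N119155 D222414) (tt N59420 (iv5 D199520)) (tt N75525 (iv6 F412500)) (tt N105044 (iv7 F448535)))
theorem Q96436 : ∀ i, i < 96436 → P i := stepQ 96435 Q96435 (allL N96435 (tt N59486 (iv1 F412506)) (tt N94830 (iv0 F412505)) (tt N94833 F412501) (tt N75507 F412502) (tt N87081 F412503) (tt N75506 F412504) (tt N59420 (iv6 D199521)) (tt N94834 F412507))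
theorem Q96437 : ∀ i, i < 96437 → P i := stepQ 96436 Q96436 (allL N96436 (tt N96529 (iv1 F412871)) (tt N95712 F412510) (tt N59422 F412508) (tt N86194 F412509) (tt N109454 (iv4 F467038)) (tt N59421 (iv5 D199522)) (tt N86193 F412511) (tt N96547 (iv7 F412939)))
theorem Q96438 : ∀ i, i < 96438 → P i := stepQ 96437 Q96437 (allL N96437 (tt N91506 F412517) (tt N91508 F412518) (tt N59423 F412512) (tt N88497 F412513) (tt N87703 F412514) (tt N89530 F412515) (tt N59421 (iv6 D199523)) (tt N94974 F412516))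
theorem Q96439 : ∀ i, i < 96439 → P i := stepQ 96438 Q96438 (allL N96438 (tt N59422 (iv1 D199524)) (tt N96547 F412941) (tt N95712 (iv2 F412520)) (tt N95053 (iv3 F412521)) (tt N119156 D222415) (tt N95711 F412519) (tt N96324 F412522) (tt N96529 (iv7 F412869)))
theorem Q96440 : ∀ i, i < 96440 → P i := stepQ 96439 Q96439 (allL N96439 (tt N83938 (iv1 F412526)) (tt N75029 (iv0 F412525)) (tt N109454 (iv2 F467037)) (tt N72469 F412523) (tt N59422 (iv4 D199525)) (tt N75106 F412524) (tt N119157 D222416) (tt N96548 (iv7 F412942)))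
theorem Q96441 : ∀ i, i < 96441 → P i := stepQ 96440 Q96440 (allL N96440 (tt N114993 F492965) (tt N114992 F492957) (tt N86193 F412527) (tt N59424 F412528) (tt N119157 (iv4 F514097)) (tt N89529 F412529) (tt N59422 (iv6 D199526)) (tt N114994 (iv7 F492968)))
theorem Q96442 : ∀ i, i < 96442 → P i := stepQ 96441 Q96441 (allL N96441 (tt N108996 F464825) (tt N117637 (iv0 F506141)) (tt N89530 F412530) (tt N59425 F412531) (tt N106971 F456485) (tt N59423 (iv5 D199527)) (tt N89529 F412532) (tt N94975 F412533))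
theorem Q96443 : ∀ i, i < 96443 → P i := stepQ 96442 Q96442 (allL N96442 (tt N86200 F412536) (tt N59424 (iv0 D199528)) (tt N96545 F412927) (tt N77038 (iv3 F412535)) (tt N72540 (iv4 F412537)) (tt N77037 F412534) (tt N119158 D222417) (tt N96546 (iv7 F412931)))
theorem Q96444 : ∀ i, i < 96444 → P i := stepQ 96443 Q96443 (allL N96443 (tt N59424 (iv1 D199529)) (tt N86200 F412538) (tt N96546 (iv2 F412935)) (tt N119159 D222418) (tt N72541 F412540) (tt N89548 (iv5 F412541)) (tt N64847 (iv6 F412539)) (tt N96545 F412928))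
theorem Q96445 : ∀ i, i < 96445 → P i := stepQ 96444 Q96444 (allL N96444 (tt N75182 F412545) (tt N76892 F412550) (tt N76890 F412542) (tt N89529 F412543) (tt N110766 (iv4 F473077)) (tt N59424 (iv5 D199530)) (tt N59425 F412544) (tt N76891 (iv7 F412549)))
theorem Q96446 : ∀ i, i < 96446 → P i := stepQ 96445 Q96445 (allL N96445 (tt N96546 (iv1 F412930)) (tt N96545 F412926) (tt N86200 F412551) (tt N114994 (iv3 F492966)) (tt N64871 F412552) (tt N76891 F412553) (tt N96553 (iv6 F412952)) (tt N59424 (iv7 D199531)))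
theorem Q96447 : ∀ i, i < 96447 → P i := stepQ 96446 Q96446 (allL N96446 (tt N72918 (iv1 F412557)) (tt N59425 (iv0 D199532)) (tt N94978 (iv2 F412556)) (tt N77494 (iv3 F412559)) (tt N119151 (iv4 F514059)) (tt N72270 F412554) (tt N93366 F412555) (tt N94977 F412558))
theorem Q96448 : ∀ i, i < 96448 → P i := stepQ 96447 Q96447 (allL N96447 (tt N118762 (iv1 F511948)) (tt N118761 (iv0 F511940)) (tt N94982 F412560) (tt N110767 (iv3 F473080)) (tt N59425 (iv4 D199533)) (tt N107334 (iv5 F457994)) (tt N110766 F473079) (tt N94979 F412561))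
theorem Q96449 : ∀ i, i < 96449 → P i := stepQ 96448 Q96448 (allL N96448 (tt N73761 F412566) (tt N101648 (iv0 F433688)) (tt N93484 F412562) (tt N59429 F412563) (tt N65762 F412564) (tt N77134 F412565) (tt N59426 (iv6 D199534)) (tt N111871 (iv7 F478423)))
theorem Q96450 : ∀ i, i < 96450 → P i := stepQ 96449 Q96449 (allL N96449 (tt N97046 F415205) (tt N97772 F418248) (tt N66587 F412567) (tt N59427 (iv3 D199535)) (tt N101974 (iv4 F435166)) (tt N102393 (iv5 F437036)) (tt N67469 F412572) (tt N97773 (iv7 F418251)))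
theorem Q96451 : ∀ i, i < 96451 → P i := stepQ 96450 Q96450 (allL N96450 (tt N67450 F412570) (tt N102338 (iv0 F436794)) (tt N97765 (iv2 F418214)) (tt N67469 (iv3 F412571)) (tt N59429 F412568) (tt N95816 F412569) (tt N59427 (iv6 D199536)) (tt N111596 (iv7 F477085)))
theorem Q96452 : ∀ i, i < 96452 → P i := stepQ 96451 Q96451 (allL N96451 (tt N117553 (iv1 F505662)) (tt N117551 (iv0 F505649)) (tt N96536 (iv2 F412896)) (tt N95055 F412573) (tt N93307 F412574) (tt N96051 F412575) (tt N59428 (iv6 D199537)) (tt N77520 F412576))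
theorem Q96453 : ∀ i, i < 96453 → P i := stepQ 96452 Q96452 (allL N96452 (tt N112500 (iv1 F481380)) (tt N73073 (iv0 F412580)) (tt N93481 F412577) (tt N111871 (iv3 F478420)) (tt N111596 (iv4 F477083)) (tt N91617 F412578) (tt N80091 F412579) (tt N59429 (iv7 D199538)))
theorem Q96454 : ∀ i, i < 96454 → P i := stepQ 96453 Q96453 (allL N96453 (tt N93486 (iv1 F412583)) (tt N59430 (iv0 D199539)) (tt N94812 (iv2 F412582)) (tt N112823 (iv3 F482798)) (tt N94668 F412581) (tt N119040 (iv5 F513438)) (tt N78235 F412585) (tt N94810 F412584))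
theorem Q96455 : ∀ i, i < 96455 → P i := stepQ 96454 Q96454 (allL N96454 (tt N118202 (iv1 F509125)) (tt N118203 (iv0 F509130)) (tt N115008 (iv2 F493032)) (tt N59432 F412586) (tt N119135 (iv4 F513975)) (tt N59430 (iv5 D199540)) (tt N77513 (iv6 F412587)) (tt N96535 (iv7 F412891)))
theorem Q96456 : ∀ i, i < 96456 → P i := stepQ 96455 Q96455 (allL N96455 (tt N118366 (iv1 F509949)) (tt N118365 (iv0 F509948)) (tt N118367 (iv2 F509956)) (tt N59433 F412588) (tt N118709 (iv4 F511670)) (tt N77514 F412589) (tt N59430 (iv6 D199541)) (tt N93483 F412590))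
theorem Q96457 : ∀ i, i < 96457 → P i := stepQ 96456 Q96456 (allL N96456 (tt N112034 (iv1 F479180)) (tt N89320 F412594) (tt N59439 F412591) (tt N105632 F451041) (tt N65269 F412592) (tt N64740 (iv5 F412593)) (tt N59434 (iv6 D199542)) (tt N107162 (iv7 F457268)))
theorem Q96458 : ∀ i, i < 96458 → P i := stepQ 96457 Q96457 (allL N96457 (tt N59443 F412601) (tt N59435 (iv0 D199543)) (tt N59440 (iv2 F412598)) (tt N78238 F412596) (tt N87826 F412597) (tt N91685 F412595) (tt N94858 (iv6 F412599)) (tt N59441 (iv7 F412600)))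
theorem Q96459 : ∀ i, i < 96459 → P i := stepQ 96458 Q96458 (allL N96458 (tt N59435 (iv1 D199544)) (tt N59443 F412603) (tt N59441 F412607) (tt N102064 (iv3 F435568)) (tt N67461 (iv4 F412605)) (tt N91689 F412608) (tt N67458 (iv6 F412606)) (tt N59440 F412604))
theorem Q96460 : ∀ i, i < 96460 → P i := stepQ 96459 Q96459 (allL N96459 (tt N73115 F412613) (tt N118652 F511360) (tt N59442 F412609) (tt N85556 F412610) (tt N83102 (iv4 F412612)) (tt N59435 (iv5 D199545)) (tt N64740 F412611) (tt N115088 (iv7 F493429)))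
theorem Q96461 : ∀ i, i < 96461 → P i := stepQ 96460 Q96460 (allL N96460 (tt N59441 (iv1 F412620)) (tt N59440 F412621) (tt N59443 F412617) (tt N78437 F412618) (tt N97504 (iv4 F417140)) (tt N115088 (iv5 F493427)) (tt N94853 F412619) (tt N59435 (iv7 D199546)))
theorem Q96462 : ∀ i, i < 96462 → P i := stepQ 96461 Q96461 (allL N96461 (tt N74602 (iv1 F412627)) (tt N112482 (iv0 F481279)) (tt N78187 F412622) (tt N94865 F412623) (tt N93349 F412624) (tt N77105 F412625) (tt N59436 (iv6 D199547)) (tt N77104 (iv7 F412626)))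
theorem Q96463 : ∀ i, i < 96463 → P i := stepQ 96462 Q96462 (allL N96462 (tt N119040 (iv1 F513436)) (tt N119039 F513433) (tt N118784 (iv2 F512046)) (tt N59437 (iv3 D199548)) (tt N119160 D222419) (tt N59501 F412628) (tt N119161 D222420) (tt N93437 F412629))
theorem Q96464 : ∀ i, i < 96464 → P i := stepQ 96463 Q96463 (allL N96463 (tt N93305 F412633) (tt N93303 F412634) (tt N70141 F412630) (tt N93342 (iv3 F412635)) (tt N59437 (iv4 D199549)) (tt N94665 F412631) (tt N119162 D222421) (tt N93348 F412632))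
theorem Q96465 : ∀ i, i < 96465 → P i := stepQ 96464 Q96464 (allL N96464 (tt N76894 F412638) (tt N77540 F412639) (tt N77539 F412636) (tt N119161 (iv3 F514119)) (tt N119162 (iv4 F514126)) (tt N94863 F412637) (tt N59437 (iv6 D199550)) (tt N77538 F427615))
theorem Q96466 : ∀ i, i < 96466 → P i := stepQ 96465 Q96465 (allL N96465 (tt N106077 (iv1 F453018)) (tt N59438 (iv0 D199551)) (tt N106932 F456332) (tt N72960 F412641) (tt N97581 (iv4 F417453)) (tt N72958 F412640) (tt N117524 (iv6 F505510)) (tt N105646 (iv7 F451092)))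
theorem Q96467 : ∀ i, i < 96467 → P i := stepQ 96466 Q96466 (allL N96466 (tt N59438 (iv1 D199552)) (tt N106077 (iv0 F453019)) (tt N105646 (iv2 F451096)) (tt N114292 (iv3 F489426)) (tt N97584 F417472) (tt N106515 (iv5 F454736)) (tt N110214 (iv6 F470464)) (tt N106932 (iv7 F456334)))
theorem Q96468 : ∀ i, i < 96468 → P i := stepQ 96467 Q96467 (allL N96467 (tt N107162 (iv1 F457270)) (tt N59439 (iv0 D199553)) (tt N112034 F479184) (tt N77539 (iv3 F412645)) (tt N94692 F412643) (tt N89321 F412642) (tt N94691 F412644) (tt N89320 (iv7 F412646)))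
theorem Q96469 : ∀ i, i < 96469 → P i := stepQ 96468 Q96468 (allL N96468 (tt N111522 (iv1 F476715)) (tt N78436 (iv0 F412648)) (tt N102063 (iv2 F435562)) (tt N59440 (iv3 D199554)) (tt N102052 F435522) (tt N119163 D222422) (tt N94870 F412647) (tt N102064 (iv7 F435570)))
theorem Q96470 : ∀ i, i < 96470 → P i := stepQ 96469 Q96469 (allL N96469 (tt N113319 (iv1 F485009)) (tt N83135 (iv0 F412652)) (tt N91685 F412649) (tt N119163 (iv3 F514131)) (tt N89326 F412651) (tt N59440 (iv5 D199555)) (tt N118668 (iv6 F511438)) (tt N91689 F412650))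
theorem Q96471 : ∀ i, i < 96471 → P i := stepQ 96470 Q96470 (allL N96470 (tt N83135 F412658) (tt N113319 F485008) (tt N91689 F412653) (tt N78237 F412654) (tt N89327 F412657) (tt N59441 (iv5 D199556)) (tt N78234 F412655) (tt N91685 F412656))
theorem Q96472 : ∀ i, i < 96472 → P i := stepQ 96471 Q96471 (allL N96471 (tt N115088 F493431) (tt N59442 (iv0 D199557)) (tt N73115 (iv2 F412662)) (tt N106936 (iv3 F456346)) (tt N70283 F412660) (tt N94717 F412659) (tt N62236 F412661) (tt N118652 (iv7 F511361)))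
theorem Q96473 : ∀ i, i < 96473 → P i := stepQ 96472 Q96472 (allL N96472 (tt N59442 (iv1 D199558)) (tt N115088 (iv0 F493430)) (tt N118652 F511359) (tt N109657 (iv3 F467963)) (tt N82814 F412664) (tt N94718 (iv5 F412666)) (tt N95682 (iv6 F412665)) (tt N73115 F412663))
theorem Q96474 : ∀ i, i < 96474 → P i := stepQ 96473 Q96473 (allL N96473 (tt N86051 F412669) (tt N105027 F448454) (tt N59444 (iv2 D199559)) (tt N105045 (iv3 F448539)) (tt N98112 (iv4 F419501)) (tt N59493 F412667) (tt N93457 (iv6 F412668)) (tt N98189 (iv7 F419912)))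
theorem Q96475 : ∀ i, i < 96475 → P i := stepQ 96474 Q96474 (allL N96474 (tt N74587 F412673) (tt N119164 D222423) (tt N93457 F412670) (tt N59445 F412671) (tt N98190 (iv4 F419915)) (tt N81983 F412672) (tt N59444 (iv6 D199560)) (tt N101323 (iv7 F432652)))
theorem Q96476 : ∀ i, i < 96476 → P i := stepQ 96475 Q96475 (allL N96475 (tt N119165 D222424) (tt N117520 (iv0 F505489)) (tt N101332 (iv2 F432679)) (tt N81983 F412674) (tt N81989 (iv4 F412676)) (tt N59445 (iv5 D199561)) (tt N59495 F412675) (tt N101324 (iv7 F432655)))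
theorem Q96477 : ∀ i, i < 96477 → P i := stepQ 96476 Q96476 (allL N96476 (tt N105044 F448538) (tt N105043 F448532) (tt N59446 (iv2 D199562)) (tt N98189 (iv3 F419910)) (tt N76506 (iv4 F412679)) (tt N59497 F412677) (tt N76505 F412678) (tt N105045 (iv7 F448541)))
theorem Q96478 : ∀ i, i < 96478 → P i := stepQ 96477 Q96477 (allL N96477 (tt N109455 (iv1 F467047)) (tt N75109 (iv0 F412684)) (tt N76506 F412681) (tt N72425 F412682) (tt N59446 (iv4 D199563)) (tt N99757 (iv5 F426085)) (tt N76502 F412683) (tt N105041 (iv7 F448520)))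
theorem Q96479 : ∀ i, i < 96479 → P i := stepQ 96478 Q96478 (allL N96478 (tt N101325 F432660) (tt N59447 (iv0 D199564)) (tt N105028 F448458) (tt N76894 (iv3 F412687)) (tt N59648 F412685) (tt N112023 (iv5 F479122)) (tt N76893 F412686) (tt N105029 (iv7 F448461)))
theorem Q96480 : ∀ i, i < 96480 → P i := stepQ 96479 Q96479 (allL N96479 (tt N105029 (iv1 F448460)) (tt N105028 F448457) (tt N101325 (iv2 F432656)) (tt N105633 (iv3 F451045)) (tt N72430 F412688) (tt N93345 F412689) (tt N101051 (iv6 F431457)) (tt N59447 (iv7 D199565)))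
theorem Q96481 : ∀ i, i < 96481 → P i := stepQ 96480 Q96480 (allL N96480 (tt N100752 F430294) (tt N119036 (iv0 F513412)) (tt N93463 F412690) (tt N59449 F412691) (tt N101960 (iv4 F435096)) (tt N117007 (iv5 F502942)) (tt N59448 (iv6 D199566)) (tt N94890 F412692))
theorem Q96482 : ∀ i, i < 96482 → P i := stepQ 96481 Q96481 (allL N96481 (tt N107670 (iv1 F459160)) (tt N108225 (iv0 F461559)) (tt N95129 F412693) (tt N112845 (iv3 F482925)) (tt N63958 F412694) (tt N94987 F412695) (tt N59450 (iv6 D199567)) (tt N95685 F412696))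
theorem Q96483 : ∀ i, i < 96483 → P i := stepQ 96482 Q96482 (allL N96482 (tt N111038 (iv1 F474379)) (tt N82414 (iv0 F412701)) (tt N111037 (iv2 F474371)) (tt N59452 (iv3 D199568)) (tt N65597 F412697) (tt N78138 F412698) (tt N78139 F412699) (tt N65547 F412700))
theorem Q96484 : ∀ i, i < 96484 → P i := stepQ 96483 Q96483 (allL N96483 (tt N65494 (iv1 F412706)) (tt N59454 (iv0 D199569)) (tt N93382 (iv2 F412705)) (tt N112429 (iv3 F481055)) (tt N72413 F412703) (tt N59667 F412702) (tt N59748 F412704) (tt N73080 F412707))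
theorem Q96485 : ∀ i, i < 96485 → P i := stepQ 96484 Q96484 (allL N96484 (tt N87349 F412710) (tt N87509 (iv0 F412715)) (tt N112066 (iv2 F479327)) (tt N59455 (iv3 D199570)) (tt N82968 F412711) (tt N82772 F412708) (tt N107020 (iv6 F456664)) (tt N70359 F412709))
theorem Q96486 : ∀ i, i < 96486 → P i := stepQ 96485 Q96485 (allL N96485 (tt N70276 F412719) (tt N70160 (iv0 F412720)) (tt N70279 F412716) (tt N84070 F412717) (tt N115721 (iv4 F496509)) (tt N59457 (iv5 D199571)) (tt N100596 (iv6 F429622)) (tt N70278 F412718))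
theorem Q96487 : ∀ i, i < 96487 → P i := stepQ 96486 Q96486 (allL N96486 (tt N105089 F448744) (tt N94484 (iv0 F445311)) (tt N103362 (iv2 F441283)) (tt N59458 (iv3 D199572)) (tt N104335 (iv4 F445308)) (tt N111195 (iv5 F475177)) (tt N107026 F456693) (tt N70333 F412721))
theorem Q96488 : ∀ i, i < 96488 → P i := stepQ 96487 Q96487 (allL N96487 (tt N70160 F412724) (tt N70276 (iv0 F412726)) (tt N70278 F412722) (tt N111195 (iv3 F475175)) (tt N115720 (iv4 F496504)) (tt N59458 (iv5 D199573)) (tt N84793 F412725) (tt N70279 F412723))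
theorem Q96489 : ∀ i, i < 96489 → P i := stepQ 96488 Q96488 (allL N96488 (tt N70433 F412731) (tt N77370 (iv0 F412732)) (tt N70332 F412728) (tt N107026 F456692) (tt N104334 (iv4 F445303)) (tt N83419 F412730) (tt N59458 (iv6 D199574)) (tt N94920 F412729))
theorem Q96490 : ∀ i, i < 96490 → P i := stepQ 96489 Q96489 (allL N96489 (tt N109238 (iv1 F465931)) (tt N109854 F468931) (tt N109855 (iv2 F468933)) (tt N82423 F412735) (tt N59459 (iv4 D199575)) (tt N109866 (iv5 F468991)) (tt N112665 (iv6 F482075)) (tt N109806 (iv7 F468712)))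
theorem Q96491 : ∀ i, i < 96491 → P i := stepQ 96490 Q96490 (allL N96490 (tt N68182 F412736) (tt N98423 F420888) (tt N104943 (iv2 F448057)) (tt N98480 (iv3 F421068)) (tt N59461 (iv4 D199576)) (tt N98372 (iv5 F420677)) (tt N109799 F468671) (tt N98400 F420793))
theorem Q96492 : ∀ i, i < 96492 → P i := stepQ 96491 Q96491 (allL N96491 (tt N80744 (iv1 F412741)) (tt N59462 (iv0 D199577)) (tt N78568 (iv2 F412740)) (tt N63487 F412738) (tt N81978 F412737) (tt N63486 F412739) (tt N112288 (iv6 F480374)) (tt N80184 F412742))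
theorem Q96493 : ∀ i, i < 96493 → P i := stepQ 96492 Q96492 (allL N96492 (tt N69277 (iv1 F412747)) (tt N59464 (iv0 D199578)) (tt N68407 (iv2 F412746)) (tt N80922 (iv3 F412749)) (tt N63227 F412744) (tt N66037 F412743) (tt N77615 F412745) (tt N75604 F412748))
theorem Q96494 : ∀ i, i < 96494 → P i := stepQ 96493 Q96493 (allL N96493 (tt N72527 F423294) (tt N119166 D222425) (tt N73411 (iv2 F412752)) (tt N59465 (iv3 D199579)) (tt N61994 F412751) (tt N107946 (iv5 F460417)) (tt N119167 D222426) (tt N72442 F412750))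
theorem Q96495 : ∀ i, i < 96495 → P i := stepQ 96494 Q96494 (allL N96494 (tt N96261 F412755) (tt N72523 (iv0 F412756)) (tt N72449 F412753) (tt N119167 (iv3 F514156)) (tt N94985 F412754) (tt N116135 (iv5 F498664)) (tt N59465 (iv6 D199580)) (tt N96263 F457877))
theorem Q96496 : ∀ i, i < 96496 → P i := stepQ 96495 Q96495 (allL N96495 (tt N110990 (iv1 F474124)) (tt N72547 (iv0 F412758)) (tt N113290 F484873) (tt N59466 (iv3 D199581)) (tt N107359 (iv4 F458087)) (tt N98317 F420476) (tt N119168 D222427) (tt N72446 F412757))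
theorem Q96497 : ∀ i, i < 96497 → P i := stepQ 96496 Q96496 (allL N96496 (tt N72483 (iv1 F457878)) (tt N117729 (iv0 F506666)) (tt N72445 F412759) (tt N119168 (iv3 F514160)) (tt N116856 (iv4 F502194)) (tt N89899 F412760) (tt N59466 (iv6 D199582)) (tt N89898 (iv7 F412761)))
theorem Q96498 : ∀ i, i < 96498 → P i := stepQ 96497 Q96497 (allL N96497 (tt N59468 (iv1 D199583)) (tt N96852 (iv0 F414262)) (tt N86121 F412763) (tt N94810 (iv3 F412762)) (tt N87070 F412764) (tt N85877 F412766) (tt N87069 (iv6 F412765)) (tt N112823 (iv7 F482800)))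
theorem Q96499 : ∀ i, i < 96499 → P i := stepQ 96498 Q96498 (allL N96498 (tt N119152 F514068) (tt N118686 (iv0 F511546)) (tt N96554 (iv2 F412961)) (tt N59470 F412768) (tt N98171 (iv4 F419828)) (tt N59468 (iv5 D199584)) (tt N98170 F419824) (tt N96570 (iv7 F413037)))
theorem Q96500 : ∀ i, i < 96500 → P i := stepQ 96499 Q96499 (allL N96499 (tt N101146 (iv1 F431925)) (tt N101145 F431924) (tt N101007 (iv2 F431235)) (tt N59471 F412769) (tt N106809 F455775) (tt N112211 F480077) (tt N59468 (iv6 D199585)) (tt N94968 (iv7 F412770)))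
theorem Q96501 : ∀ i, i < 96501 → P i := stepQ 96500 Q96500 (allL N96500 (tt N88971 F412772) (tt N88977 F412773) (tt N88976 F412771) (tt N100245 (iv3 F428116)) (tt N59470 (iv4 D199586)) (tt N98374 (iv5 F420682)) (tt N100244 F428115) (tt N88975 (iv7 F412782)))
theorem Q96502 : ∀ i, i < 96502 → P i := stepQ 96501 Q96501 (allL N96501 (tt N103082 (iv1 F439995)) (tt N119159 (iv0 F514110)) (tt N77523 F412774) (tt N98170 (iv3 F419825)) (tt N100244 (iv4 F428114)) (tt N75523 F412775) (tt N59470 (iv6 D199587)) (tt N77527 (iv7 F412776)))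
theorem Q96503 : ∀ i, i < 96503 → P i := stepQ 96502 Q96502 (allL N96502 (tt N88977 (iv1 F412779)) (tt N88971 (iv0 F412778)) (tt N88975 F412780) (tt N119169 D222428) (tt N59473 (iv4 D199588)) (tt N119170 D222429) (tt N117311 (iv6 F504407)) (tt N88976 F412777))
theorem Q96504 : ∀ i, i < 96504 → P i := stepQ 96503 Q96503 (allL N96503 (tt N119154 F514080) (tt N119171 D222430) (tt N96571 (iv2 F413039)) (tt N64800 F412783) (tt N117311 (iv4 F504406)) (tt N106524 F454772) (tt N59473 (iv6 D199589)) (tt N119172 D222431))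
theorem Q96505 : ∀ i, i < 96505 → P i := stepQ 96504 Q96504 (allL N96504 (tt N59474 (iv1 D199590)) (tt N94970 F412784) (tt N73076 (iv2 F412785)) (tt N112500 (iv3 F481376)) (tt N103145 (iv4 F440284)) (tt N116763 (iv5 F501700)) (tt N94958 F412786) (tt N101650 (iv7 F433696)))
theorem Q96506 : ∀ i, i < 96506 → P i := stepQ 96505 Q96505 (allL N96505 (tt N111376 (iv1 F476079)) (tt N111377 (iv0 F476083)) (tt N90268 F412787) (tt N101122 (iv3 F431785)) (tt N90267 F412788) (tt N59474 (iv5 D199591)) (tt N106524 (iv6 F454770)) (tt N101651 (iv7 F433704)))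
theorem Q96507 : ∀ i, i < 96507 → P i := stepQ 96506 Q96506 (allL N96506 (tt N95240 F413263) (tt N115092 F493447) (tt N59479 F412789) (tt N106251 (iv3 F453769)) (tt N59475 (iv4 D199592)) (tt N106249 F453761) (tt N114729 (iv6 F491565)) (tt N105706 (iv7 F451345)))
theorem Q96508 : ∀ i, i < 96508 → P i := stepQ 96507 Q96507 (allL N96507 (tt N94527 F412793) (tt N94526 (iv0 F412794)) (tt N59482 F412790) (tt N116993 F502870) (tt N119173 D222432) (tt N59476 (iv5 D199593)) (tt N89528 F412791) (tt N94525 F412792))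
theorem Q96509 : ∀ i, i < 96509 → P i := stepQ 96508 Q96508 (allL N96508 (tt N86122 F412797) (tt N85877 (iv0 F413473)) (tt N86119 F412795) (tt N59477 (iv3 D199594)) (tt N96689 F413470) (tt N59536 F412796) (tt N101367 (iv6 F432795)) (tt N86120 (iv7 F412798)))
theorem Q96510 : ∀ i, i < 96510 → P i := stepQ 96509 Q96509 (allL N96509 (tt N105737 F468955) (tt N114695 F491398) (tt N119115 (iv2 F513862)) (tt N114539 F490675) (tt N59477 (iv4 D199595)) (tt N109859 (iv5 F468954)) (tt N119174 D222433) (tt N119113 (iv7 F513853)))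
theorem Q96511 : ∀ i, i < 96511 → P i := stepQ 96510 Q96510 (allL N96510 (tt N77533 F412803) (tt N101380 F432816) (tt N101060 F431495) (tt N101367 (iv3 F432794)) (tt N119174 (iv4 F514192)) (tt N94964 F412802) (tt N59477 (iv6 D199596)) (tt N101381 (iv7 F432819)))
theorem Q96512 : ∀ i, i < 96512 → P i := stepQ 96511 Q96511 (allL N96511 (tt N114695 (iv1 F491399)) (tt N105737 (iv0 F468962)) (tt N119113 (iv2 F513851)) (tt N119175 D222434) (tt N59478 (iv4 D199597)) (tt N109860 F468961) (tt N119176 D222435) (tt N119115 (iv7 F513864)))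
theorem Q96513 : ∀ i, i < 96513 → P i := stepQ 96512 Q96512 (allL N96512 (tt N119033 F513394) (tt N119177 D222436) (tt N119114 (iv2 F513857)) (tt N101386 (iv3 F432825)) (tt N119176 (iv4 F514204)) (tt N119012 (iv5 F513277)) (tt N59478 (iv6 D199598)) (tt N101382 (iv7 F432822)))
theorem Q96514 : ∀ i, i < 96514 → P i := stepQ 96513 Q96513 (allL N96513 (tt N105706 F451344) (tt N59479 (iv0 D199599)) (tt N95240 (iv2 F412808)) (tt N85618 F412809) (tt N119138 (iv4 F513994)) (tt N85617 (iv5 F412810)) (tt N105387 F450008) (tt N115092 (iv7 F493446)))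
theorem Q96515 : ∀ i, i < 96515 → P i := stepQ 96514 Q96514 (allL N96514 (tt N59479 (iv1 D199600)) (tt N105706 (iv0 F451343)) (tt N115092 (iv2 F493443)) (tt N95233 (iv3 F412804)) (tt N119120 (iv4 F513892)) (tt N95945 F412805) (tt N95948 F412806) (tt N95240 F412807))
theorem Q96516 : ∀ i, i < 96516 → P i := stepQ 96515 Q96515 (allL N96515 (tt N86738 F412815) (tt N110209 (iv0 F470447)) (tt N114729 (iv2 F491563)) (tt N72592 F412812) (tt N59480 F412813) (tt N119178 D222437) (tt N59479 (iv6 D199602)) (tt N89657 (iv7 F412814)))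
theorem Q96517 : ∀ i, i < 96517 → P i := stepQ 96516 Q96516 (allL N96516 (tt N107784 (iv1 F459717)) (tt N99298 (iv0 F423985)) (tt N107783 F459711) (tt N112634 (iv3 F481927)) (tt N119179 D222438) (tt N59481 (iv5 D199604)) (tt N107769 (iv6 F459644)) (tt N94801 F412816))
theorem Q96518 : ∀ i, i < 96518 → P i := stepQ 96517 Q96517 (allL N96517 (tt N94525 (iv1 F412819)) (tt N59482 (iv0 D199605)) (tt N94527 (iv2 F412818)) (tt N89464 F412817) (tt N119180 D222439) (tt N101496 (iv5 F433148)) (tt N89462 (iv6 F412821)) (tt N94526 F412820))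
theorem Q96519 : ∀ i, i < 96519 → P i := stepQ 96518 Q96518 (allL N96518 (tt N119181 D222440) (tt N117880 (iv0 F507403)) (tt N119173 (iv2 F514184)) (tt N94197 F412822) (tt N59482 (iv4 D199606)) (tt N116328 (iv5 F499579)) (tt N94316 F412823) (tt N94193 F412824))
theorem Q96520 : ∀ i, i < 96520 → P i := stepQ 96519 Q96519 (allL N96519 (tt N77529 F412828) (tt N75525 (iv0 F412829)) (tt N77531 F412825) (tt N59484 (iv3 D199607)) (tt N88955 F422744) (tt N72623 F412826) (tt N88954 (iv6 F422745)) (tt N77530 F412827))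
theorem Q96521 : ∀ i, i < 96521 → P i := stepQ 96520 Q96520 (allL N96520 (tt N69952 (iv1 F412833)) (tt N119182 D222441) (tt N99336 (iv2 F424154)) (tt N88954 F422746) (tt N89316 F412831) (tt N94885 F412832) (tt N59484 (iv6 D199608)) (tt N105230 (iv7 F449314)))
theorem Q96522 : ∀ i, i < 96522 → P i := stepQ 96521 Q96521 (allL N96521 (tt N59490 (iv1 D199609)) (tt N81856 F412834) (tt N81972 F412837) (tt N105716 (iv3 F451392)) (tt N118365 (iv4 F509943)) (tt N105437 (iv5 F450269)) (tt N82409 (iv6 F412836)) (tt N81971 F412835))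
theorem Q96523 : ∀ i, i < 96523 → P i := stepQ 96522 Q96522 (allL N96522 (tt N96424 F412842) (tt N59513 (iv0 F412843)) (tt N96427 F412838) (tt N94761 F412839) (tt N86070 F412841) (tt N59491 (iv5 D199610)) (tt N114570 (iv6 F490812)) (tt N96426 F412840))
theorem Q96524 : ∀ i, i < 96524 → P i := stepQ 96523 Q96523 (allL N96523 (tt N101569 F433422) (tt N59553 (iv0 F412845)) (tt N100921 F430988) (tt N94762 F412844) (tt N100677 (iv4 F429969)) (tt N118727 (iv5 F511770)) (tt N59491 (iv6 D199611)) (tt N119118 (iv7 F513881)))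
theorem Q96525 : ∀ i, i < 96525 → P i := stepQ 96524 Q96524 (allL N96524 (tt N59948 (iv1 F412848)) (tt N59536 (iv0 F412847)) (tt N94754 F412846) (tt N59492 (iv3 D199612)) (tt N112145 (iv4 F479731)) (tt N119183 D222442) (tt N100851 (iv6 F430775)) (tt N100924 (iv7 F430985)))
theorem Q96526 : ∀ i, i < 96526 → P i := stepQ 96525 Q96525 (allL N96525 (tt N59513 F412852) (tt N96424 F412853) (tt N96426 F412849) (tt N119183 (iv3 F514240)) (tt N86071 F412850) (tt N59492 (iv5 D199613)) (tt N119183 (iv6 F514241)) (tt N96427 F412851))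
theorem Q96527 : ∀ i, i < 96527 → P i := stepQ 96526 Q96526 (allL N96526 (tt N59519 (iv1 F412858)) (tt N80785 (iv0 F412857)) (tt N79287 F412854) (tt N100851 F430774) (tt N78636 F412855) (tt N100851 (iv5 F430772)) (tt N59492 (iv6 D199614)) (tt N78635 (iv7 F412856)))
theorem Q96528 : ∀ i, i < 96528 → P i := stepQ 96527 Q96527 (allL N96527 (tt N59494 (iv1 D199615)) (tt N81217 F412859) (tt N93433 (iv2 F412862)) (tt N108671 (iv3 F463477)) (tt N80960 F412861) (tt N94419 (iv5 F412863)) (tt N112626 (iv6 F481893)) (tt N93455 F412860))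
theorem Q96529 : ∀ i, i < 96529 → P i := stepQ 96528 Q96528 (allL N96528 (tt N96725 (iv1 F413622)) (tt N96726 (iv0 F413628)) (tt N110630 (iv2 F472501)) (tt N77843 F412864) (tt N59495 (iv4 D199616)) (tt N77841 F412867) (tt N81989 F412865) (tt N93459 F412866))
theorem Q96530 : ∀ i, i < 96530 → P i := stepQ 96529 Q96529 (allL N96529 (tt N59515 F412870) (tt N96436 F412871) (tt N59958 F412868) (tt N118682 F511526) (tt N113875 (iv4 F487576)) (tt N59496 (iv5 D199617)) (tt N113874 F487573) (tt N96438 F412869))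
theorem Q96531 : ∀ i, i < 96531 → P i := stepQ 96530 Q96530 (allL N96530 (tt N93764 F412873) (tt N90317 F412874) (tt N59507 F412872) (tt N114774 (iv3 F491786)) (tt N59503 (iv4 D199618)) (tt N102669 (iv5 F438146)) (tt N118787 (iv6 F512069)) (tt N118813 (iv7 F512208)))
theorem Q96532 : ∀ i, i < 96532 → P i := stepQ 96531 Q96531 (allL N96531 (tt N59512 (iv1 F412882)) (tt N59504 (iv0 D199619)) (tt N59509 F412887) (tt N93833 (iv3 F412884)) (tt N97660 (iv4 F417817)) (tt N97768 (iv5 F418233)) (tt N94718 F412875) (tt N59510 F412885))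
theorem Q96533 : ∀ i, i < 96533 → P i := stepQ 96532 Q96532 (allL N96532 (tt N59504 (iv1 D199620)) (tt N59512 F412876) (tt N59510 (iv2 F412886)) (tt N97597 F417535) (tt N97612 (iv4 F417598)) (tt N118706 (iv5 F511650)) (tt N112807 (iv6 F482703)) (tt N59509 (iv7 F412888)))
theorem Q96534 : ∀ i, i < 96534 → P i := stepQ 96533 Q96533 (allL N96533 (tt N101568 (iv1 F433411)) (tt N97597 (iv0 F417539)) (tt N59511 F412877) (tt N112025 (iv3 F479132)) (tt N111872 (iv4 F478427)) (tt N59504 (iv5 D199621)) (tt N59953 F412878) (tt N101563 (iv7 F433402)))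
theorem Q96535 : ∀ i, i < 96535 → P i := stepQ 96534 Q96534 (allL N96534 (tt N59510 (iv1 F412883)) (tt N59509 F412889) (tt N59512 F412879) (tt N79207 F412880) (tt N97589 (iv4 F417497)) (tt N101563 F433403) (tt N79205 F412881) (tt N59504 (iv7 D199622)))
theorem Q96536 : ∀ i, i < 96536 → P i := stepQ 96535 Q96535 (allL N96535 (tt N94755 F412893) (tt N94761 (iv0 F412894)) (tt N108686 (iv2 F463545)) (tt N59506 (iv3 D199623)) (tt N119184 D222443) (tt N93842 F412890) (tt N93522 (iv6 F412892)) (tt N96454 F412891))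
theorem Q96537 : ∀ i, i < 96537 → P i := stepQ 96536 Q96536 (allL N96536 (tt N110485 (iv1 F471800)) (tt N110484 F471799) (tt N96451 F412896) (tt N93522 F412897) (tt N115935 (iv4 F497667)) (tt N93521 F412898) (tt N59506 (iv6 D199624)) (tt N108884 (iv7 F464363)))
theorem Q96538 : ∀ i, i < 96538 → P i := stepQ 96537 Q96537 (allL N96537 (tt N118813 F512210) (tt N59507 (iv0 D199625)) (tt N93764 (iv2 F412900)) (tt N72964 (iv3 F412901)) (tt N109354 (iv4 F466536)) (tt N71890 F412899) (tt N76216 (iv6 F412903)) (tt N90317 (iv7 F412902)))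
theorem Q96539 : ∀ i, i < 96539 → P i := stepQ 96538 Q96538 (allL N96538 (tt N59507 (iv1 D199626)) (tt N118813 (iv0 F512209)) (tt N90317 F412907) (tt N93768 (iv3 F412906)) (tt N110455 (iv4 F471667)) (tt N71889 F412905) (tt N114529 (iv6 F490618)) (tt N93764 F412904))
theorem Q96540 : ∀ i, i < 96540 → P i := stepQ 96539 Q96539 (allL N96539 (tt N64521 F412908) (tt N97694 (iv0 F417932)) (tt N97660 F417822) (tt N97614 (iv3 F417607)) (tt N59509 (iv4 D199628)) (tt N111926 (iv5 F478693)) (tt N87779 (iv6 F412911)) (tt N97612 F417602))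
theorem Q96541 : ∀ i, i < 96541 → P i := stepQ 96540 Q96540 (allL N96540 (tt N94714 (iv1 F412916)) (tt N94720 (iv0 F412915)) (tt N94718 F412912) (tt N100826 (iv3 F430656)) (tt N87779 F412913) (tt N118652 (iv5 F511355)) (tt N59509 (iv6 D199629)) (tt N94717 (iv7 F412914)))
theorem Q96542 : ∀ i, i < 96542 → P i := stepQ 96541 Q96541 (allL N96541 (tt N97694 F417933) (tt N64521 (iv0 F412918)) (tt N97612 (iv2 F417597)) (tt N81742 F412917) (tt N59510 (iv4 D199630)) (tt N108959 (iv5 F464672)) (tt N64242 F412919) (tt N97660 (iv7 F417819)))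
theorem Q96543 : ∀ i, i < 96543 → P i := stepQ 96542 Q96542 (allL N96542 (tt N81769 F412921) (tt N118209 (iv0 F509161)) (tt N118706 (iv2 F511647)) (tt N93482 F412920) (tt N97771 (iv4 F418244)) (tt N59510 (iv5 D199631)) (tt N109341 (iv6 F466471)) (tt N97768 F418234))
theorem Q96544 : ∀ i, i < 96544 → P i := stepQ 96543 Q96543 (allL N96543 (tt N107203 (iv1 F457445)) (tt N103917 (iv0 F443366)) (tt N112807 (iv2 F482698)) (tt N108675 (iv3 F463493)) (tt N64242 F412922) (tt N72237 (iv5 F412923)) (tt N59510 (iv6 D199632)) (tt N73117 F412924))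
theorem Q96545 : ∀ i, i < 96545 → P i := stepQ 96544 Q96544 (allL N96544 (tt N59511 (iv1 D199633)) (tt N101563 F433404) (tt N97597 (iv2 F417533)) (tt N93837 F417494) (tt N97588 (iv4 F417492)) (tt N112142 (iv5 F479716)) (tt N111994 F479005) (tt N101568 (iv7 F433412)))
theorem Q96546 : ∀ i, i < 96546 → P i := stepQ 96545 Q96545 (allL N96545 (tt N96445 (iv1 F412926)) (tt N59514 (iv0 D199634)) (tt N96442 (iv2 F412927)) (tt N110486 (iv3 F471804)) (tt N73281 F412925) (tt N90008 F412929) (tt N101333 (iv6 F432682)) (tt N96443 (iv7 F412928)))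
theorem Q96547 : ∀ i, i < 96547 → P i := stepQ 96546 Q96546 (allL N96546 (tt N59514 (iv1 D199635)) (tt N96445 F412930) (tt N96443 F412935) (tt N66896 (iv3 F412932)) (tt N64896 (iv4 F412936)) (tt N66895 (iv5 F412934)) (tt N64895 (iv6 F412933)) (tt N96442 F412931))
theorem Q96548 : ∀ i, i < 96548 → P i := stepQ 96547 Q96547 (allL N96547 (tt N96438 (iv1 F412941)) (tt N59958 F412940) (tt N59515 (iv2 D199636)) (tt N96424 F412937) (tt N109111 (iv4 F465390)) (tt N94949 F412938) (tt N119185 D222444) (tt N96436 F412939))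
theorem Q96549 : ∀ i, i < 96549 → P i := stepQ 96548 Q96548 (allL N96548 (tt N109109 (iv1 F465381)) (tt N99759 (iv0 F426098)) (tt N109111 F465391) (tt N99376 (iv3 F424344)) (tt N59515 (iv4 D199637)) (tt N75745 F412943) (tt N116339 F499623) (tt N96439 F412942))
theorem Q96550 : ∀ i, i < 96550 → P i := stepQ 96549 Q96549 (allL N96549 (tt N119186 D222445) (tt N119187 D222446) (tt N119185 (iv2 F514252)) (tt N59516 F412944) (tt N116339 (iv4 F499625)) (tt N108913 F464465) (tt N59515 (iv6 D199638)) (tt N119188 D222447))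
theorem Q96551 : ∀ i, i < 96551 → P i := stepQ 96550 Q96550 (allL N96550 (tt N96433 (iv1 F412953)) (tt N59516 (iv0 D199639)) (tt N96431 F412957) (tt N110485 F471801) (tt N73274 (iv4 F412956)) (tt N117584 (iv5 F505839)) (tt N101405 F449001) (tt N96432 F412955))
theorem Q96552 : ∀ i, i < 96552 → P i := stepQ 96551 Q96551 (allL N96551 (tt N59516 (iv1 D199640)) (tt N96433 F412945) (tt N96432 F412947) (tt N119189 D222448) (tt N73275 F412948) (tt N107876 (iv5 F460079)) (tt N94807 (iv6 F412946)) (tt N96431 (iv7 F412959)))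
theorem Q96553 : ∀ i, i < 96553 → P i := stepQ 96552 Q96552 (allL N96552 (tt N119047 (iv1 F513484)) (tt N118353 (iv0 F509867)) (tt N95086 F412949) (tt N108913 F464463) (tt N118295 (iv4 F509568)) (tt N59516 (iv5 D199641)) (tt N94709 F412950) (tt N119046 (iv7 F513473)))
theorem Q96554 : ∀ i, i < 96554 → P i := stepQ 96553 Q96553 (allL N96553 (tt N96432 (iv1 F412954)) (tt N96431 F412960) (tt N96433 F412951) (tt N119188 (iv3 F514266)) (tt N99384 (iv4 F424359)) (tt N119046 (iv5 F513474)) (tt N96445 F412952) (tt N59516 (iv7 D199642)))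
theorem Q96555 : ∀ i, i < 96555 → P i := stepQ 96554 Q96554 (allL N96554 (tt N119190 D222449) (tt N119183 (iv0 F514244)) (tt N96498 F412961) (tt N59517 (iv3 D199643)) (tt N61160 (iv4 F412964)) (tt N82425 F412962) (tt N61159 F412963) (tt N115055 (iv7 F493260)))
theorem Q96556 : ∀ i, i < 96556 → P i := stepQ 96555 Q96555 (allL N96555 (tt N80785 (iv1 F412967)) (tt N59519 (iv0 D199644)) (tt N78635 (iv2 F412966)) (tt N118362 (iv3 F509924)) (tt N78551 F412965) (tt N100850 (iv5 F430769)) (tt N119118 (iv6 F513878)) (tt N79287 F412968))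
theorem Q96557 : ∀ i, i < 96557 → P i := stepQ 96556 Q96556 (allL N96556 (tt N80791 F412974) (tt N80781 F412975) (tt N80998 F412969) (tt N59520 F412970) (tt N80786 F412973) (tt N59519 (iv5 D199645)) (tt N95517 F412971) (tt N64577 F412972))
theorem Q96558 : ∀ i, i < 96558 → P i := stepQ 96557 Q96557 (allL N96557 (tt N59521 (iv1 D199646)) (tt N81007 (iv0 F412978)) (tt N79204 (iv2 F412977)) (tt N101563 (iv3 F433401)) (tt N99710 (iv4 F425855)) (tt N79207 F412976) (tt N79202 F412979) (tt N112025 (iv7 F479136)))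
theorem Q96559 : ∀ i, i < 96559 → P i := stepQ 96558 Q96558 (allL N96558 (tt N112025 (iv1 F479137)) (tt N79204 F412983) (tt N59521 (iv2 D199647)) (tt N80785 F412980) (tt N115786 (iv4 F496868)) (tt N81773 F412981) (tt N111991 F478994) (tt N81007 F412982))
theorem Q96560 : ∀ i, i < 96560 → P i := stepQ 96559 Q96559 (allL N96559 (tt N91836 (iv1 F412988)) (tt N91834 (iv0 F412989)) (tt N111991 F478992) (tt N59522 F412984) (tt N87009 F412985) (tt N94983 (iv5 F412987)) (tt N59521 (iv6 D199648)) (tt N95128 F412986))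
theorem Q96561 : ∀ i, i < 96561 → P i := stepQ 96560 Q96560 (allL N96560 (tt N94724 (iv1 F412994)) (tt N59526 (iv0 D199649)) (tt N95134 (iv2 F412993)) (tt N117674 (iv3 F506350)) (tt N95916 F412991) (tt N96417 F412990) (tt N95096 F412992) (tt N59664 F412995))
theorem Q96562 : ∀ i, i < 96562 → P i := stepQ 96561 Q96561 (allL N96561 (tt N75293 F413000) (tt N66701 (iv0 F413002)) (tt N75295 F412996) (tt N59527 (iv3 D199650)) (tt N60378 F413001) (tt N75192 F412997) (tt N82457 F412998) (tt N68532 F412999))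
theorem Q96563 : ∀ i, i < 96563 → P i := stepQ 96562 Q96562 (allL N96562 (tt N117673 (iv1 F506347)) (tt N82034 (iv0 F413006)) (tt N76650 F413003) (tt N59532 F413004) (tt N61716 F413007) (tt N82026 F413005) (tt N59530 (iv6 D199651)) (tt N98773 (iv7 F422261)))
theorem Q96564 : ∀ i, i < 96564 → P i := stepQ 96563 Q96563 (allL N96563 (tt N85667 F413016) (tt N59532 (iv0 D199652)) (tt N97627 F417668) (tt N65163 (iv3 F413015)) (tt N59855 F413014) (tt N64148 F413013) (tt N104771 (iv6 F447188)) (tt N97628 (iv7 F417671)))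
theorem Q96565 : ∀ i, i < 96565 → P i := stepQ 96564 Q96564 (allL N96564 (tt N59532 (iv1 D199653)) (tt N85667 F413017) (tt N97628 F417676) (tt N62546 (iv3 F413019)) (tt N59856 (iv4 F413018)) (tt N101873 (iv5 F434772)) (tt N110772 (iv6 F473128)) (tt N97627 F417669))
theorem Q96566 : ∀ i, i < 96566 → P i := stepQ 96565 Q96565 (allL N96565 (tt N65154 F413024) (tt N100338 (iv0 F428477)) (tt N82015 F413020) (tt N82026 F413021) (tt N76879 F413023) (tt N59532 (iv5 D199654)) (tt N59533 F413022) (tt N111814 (iv7 F478116)))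
theorem Q96567 : ∀ i, i < 96567 → P i := stepQ 96566 Q96566 (allL N96566 (tt N97628 (iv1 F417670)) (tt N97627 F417667) (tt N85667 F413025) (tt N98773 (iv3 F422264)) (tt N99576 (iv4 F425248)) (tt N111814 (iv5 F478112)) (tt N118457 (iv6 F510475)) (tt N59532 (iv7 D199655)))
theorem Q96568 : ∀ i, i < 96568 → P i := stepQ 96567 Q96567 (allL N96567 (tt N59536 (iv1 D199656)) (tt N59948 F413026) (tt N100924 F430983) (tt N93435 (iv3 F413028)) (tt N96912 (iv4 F414576)) (tt N119190 (iv5 F514274)) (tt N79146 F430999) (tt N94754 F413027))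
theorem Q96569 : ∀ i, i < 96569 → P i := stepQ 96568 Q96568 (allL N96568 (tt N114755 (iv1 F491689)) (tt N76675 (iv0 F413033)) (tt N59542 F413029) (tt N86302 F413030) (tt N59539 (iv4 D199657)) (tt N83242 (iv5 F413031)) (tt N83243 (iv6 F413032)) (tt N114754 (iv7 F491684)))
theorem Q96570 : ∀ i, i < 96570 → P i := stepQ 96569 Q96569 (allL N96569 (tt N113643 (iv1 F486465)) (tt N113642 (iv0 F486458)) (tt N59543 F413034) (tt N117618 (iv3 F506025)) (tt N83243 F413035) (tt N101579 (iv5 F433455)) (tt N59539 (iv6 D199658)) (tt N113874 (iv7 F487570)))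
theorem Q96571 : ∀ i, i < 96571 → P i := stepQ 96570 Q96570 (allL N96570 (tt N119183 (iv1 F514245)) (tt N119190 F514277) (tt N115055 (iv2 F493256)) (tt N59540 (iv3 D199659)) (tt N96624 F413224) (tt N96308 F413036) (tt N86103 (iv6 F413038)) (tt N96498 F413037))
theorem Q96572 : ∀ i, i < 96572 → P i := stepQ 96571 Q96571 (allL N96571 (tt N106529 F454781) (tt N119189 (iv0 F514272)) (tt N96503 F413039) (tt N86103 F413040) (tt N106357 F454127) (tt N108902 (iv5 F464429)) (tt N59540 (iv6 D199660)) (tt N110489 (iv7 F471815)))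
theorem Q96573 : ∀ i, i < 96573 → P i := stepQ 96572 Q96572 (allL N96572 (tt N85617 F427968) (tt N95945 (iv0 F413044)) (tt N83242 F413041) (tt N73264 F413042) (tt N100198 (iv4 F427953)) (tt N59542 (iv5 D199662)) (tt N83228 F413043) (tt N119116 (iv7 F513870)))
theorem Q96574 : ∀ i, i < 96574 → P i := stepQ 96573 Q96573 (allL N96573 (tt N119191 D222450) (tt N115925 (iv0 F497611)) (tt N101579 (iv2 F433453)) (tt N59547 F413045) (tt N119192 D222451) (tt N59543 (iv5 D199663)) (tt N59544 F413046) (tt N101575 (iv7 F433436)))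
theorem Q96575 : ∀ i, i < 96575 → P i := stepQ 96574 Q96574 (allL N96574 (tt N113642 (iv1 F486459)) (tt N113643 (iv0 F486464)) (tt N113874 (iv2 F487569)) (tt N59548 F413047) (tt N86304 F413048) (tt N101575 (iv5 F433435)) (tt N59958 F413049) (tt N59543 (iv7 D199664)))
theorem Q96576 : ∀ i, i < 96576 → P i := stepQ 96575 Q96575 (allL N96575 (tt N79206 (iv1 F413052)) (tt N59544 (iv0 D199665)) (tt N64154 (iv2 F413051)) (tt N111696 (iv3 F477542)) (tt N87243 F413054) (tt N64153 F413050) (tt N87242 (iv6 F413055)) (tt N79807 F413053))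
theorem Q96577 : ∀ i, i < 96577 → P i := stepQ 96576 Q96576 (allL N96576 (tt N88115 (iv1 F434871)) (tt N119193 D222452) (tt N101578 (iv2 F433452)) (tt N88140 F413058) (tt N59544 (iv4 D199666)) (tt N81633 F413057) (tt N119192 (iv6 F514286)) (tt N91773 F413056))
theorem Q96578 : ∀ i, i < 96578 → P i := stepQ 96577 Q96577 (allL N96577 (tt N114570 F490965) (tt N114568 F490966) (tt N116148 (iv2 F498747)) (tt N59546 (iv3 D199667)) (tt N114602 (iv4 F490964)) (tt N115559 F495787) (tt N119194 D222453) (tt N101396 F432845))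
theorem Q96579 : ∀ i, i < 96579 → P i := stepQ 96578 Q96578 (allL N96578 (tt N93346 (iv1 F431531)) (tt N101405 F432869) (tt N101407 (iv2 F432866)) (tt N119194 (iv3 F514298)) (tt N101071 (iv4 F431538)) (tt N118151 (iv5 F508880)) (tt N59546 (iv6 D199668)) (tt N101069 (iv7 F431530)))
theorem Q96580 : ∀ i, i < 96580 → P i := stepQ 96579 Q96579 (allL N96579 (tt N79200 (iv1 F413060)) (tt N59547 (iv0 D199669)) (tt N94891 (iv2 F413061)) (tt N115925 F497612) (tt N94680 F413059) (tt N105230 (iv5 F449313)) (tt N115922 (iv6 F497613)) (tt N94885 (iv7 F413062)))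
theorem Q96581 : ∀ i, i < 96581 → P i := stepQ 96580 Q96580 (allL N96580 (tt N59547 (iv1 D199670)) (tt N79200 F413063) (tt N94885 F413067) (tt N119195 D222454) (tt N94679 F413065) (tt N99336 (iv5 F424156)) (tt N78078 (iv6 F413066)) (tt N94891 F413064))
theorem Q96582 : ∀ i, i < 96582 → P i := stepQ 96581 Q96581 (allL N96581 (tt N79215 F413070) (tt N101591 (iv0 F459675)) (tt N101570 (iv2 F433424)) (tt N59551 F413068) (tt N118864 (iv4 F512471)) (tt N59549 (iv5 D199671)) (tt N73560 (iv6 F413071)) (tt N94896 F413069))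
theorem Q96583 : ∀ i, i < 96583 → P i := stepQ 96582 Q96582 (allL N96582 (tt N100911 F430931) (tt N101525 (iv0 F433253)) (tt N101524 F433249) (tt N59552 F413072) (tt N95648 F413073) (tt N73561 F413074) (tt N59549 (iv6 D199672)) (tt N95081 F413075))
theorem Q96584 : ∀ i, i < 96584 → P i := stepQ 96583 Q96583 (allL N96583 (tt N111420 F476273) (tt N118133 (iv0 F508779)) (tt N94895 F413076) (tt N119196 D222455) (tt N59551 (iv4 D199673)) (tt N64850 F413079) (tt N73562 F413077) (tt N94897 F413078))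
theorem Q96585 : ∀ i, i < 96585 → P i := stepQ 96584 Q96584 (allL N96584 (tt N59553 (iv1 D199674)) (tt N101569 (iv0 F433421)) (tt N119118 F513879) (tt N79147 (iv3 F430995)) (tt N78633 F430993) (tt N118728 (iv5 F511773)) (tt N78635 (iv6 F430992)) (tt N100921 F430990))
theorem Q96586 : ∀ i, i < 96586 → P i := stepQ 96585 Q96585 (allL N96585 (tt N100921 F430989) (tt N119118 F513880) (tt N59553 (iv2 D199675)) (tt N79201 F413080) (tt N65078 F413081) (tt N112095 (iv5 F479471)) (tt N65077 F413082) (tt N101569 (iv7 F433419)))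
theorem Q96587 : ∀ i, i < 96587 → P i := stepQ 96586 Q96586 (allL N96586 (tt N118133 (iv1 F508780)) (tt N111420 F476274) (tt N94897 F413083) (tt N112265 (iv3 F480278)) (tt N59554 (iv4 D199676)) (tt N96334 F413084) (tt N112264 F480276) (tt N94895 F413085))
theorem Q96588 : ∀ i, i < 96588 → P i := stepQ 96587 Q96587 (allL N96587 (tt N87324 F413090) (tt N108165 (iv0 F461364)) (tt N91778 (iv2 F413091)) (tt N59555 (iv3 D199677)) (tt N88140 F413086) (tt N59610 F413087) (tt N59613 F413088) (tt N91774 F413089))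
theorem Q96589 : ∀ i, i < 96589 → P i := stepQ 96588 Q96588 (allL N96588 (tt N59560 (iv1 F413094)) (tt N59557 (iv0 D199678)) (tt N94906 (iv2 F413093)) (tt N119197 D222456) (tt N105262 (iv4 F449449)) (tt N59763 F413092) (tt N108184 F461427) (tt N93255 F413095))
theorem Q96590 : ∀ i, i < 96590 → P i := stepQ 96589 Q96589 (allL N96589 (tt N94903 F413100) (tt N94681 F413101) (tt N94899 F413096) (tt N94900 F413097) (tt N59557 (iv4 D199679)) (tt N59618 F413099) (tt N108109 (iv6 F461149)) (tt N94900 F413098))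
theorem Q96591 : ∀ i, i < 96591 → P i := stepQ 96590 Q96590 (allL N96590 (tt N119198 D222457) (tt N112859 (iv0 F483002)) (tt N100556 (iv2 F429447)) (tt N59560 F413103) (tt N119199 D222458) (tt N59559 (iv5 D199680)) (tt N74549 F413104) (tt N108194 (iv7 F461469)))
theorem Q96592 : ∀ i, i < 96592 → P i := stepQ 96591 Q96591 (allL N96591 (tt N94681 F413108) (tt N94903 F413109) (tt N94900 F413105) (tt N119200 D222459) (tt N59560 (iv4 D199681)) (tt N59619 F413106) (tt N95252 (iv6 F413110)) (tt N94899 F413107))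
theorem Q96593 : ∀ i, i < 96593 → P i := stepQ 96592 Q96592 (allL N96592 (tt N93593 F413115) (tt N94881 (iv0 F413116)) (tt N95666 F413111) (tt N74549 F413112) (tt N95252 F413113) (tt N95094 F413114) (tt N59560 (iv6 D199682)) (tt N107867 (iv7 F460055)))
theorem Q96594 : ∀ i, i < 96594 → P i := stepQ 96593 Q96593 (allL N96593 (tt N115083 (iv1 F493405)) (tt N88797 (iv0 F413121)) (tt N115086 (iv2 F493414)) (tt N59561 (iv3 D199683)) (tt N69372 F413118) (tt N113840 (iv5 F487381)) (tt N80681 F413119) (tt N70287 F413120))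
theorem Q96595 : ∀ i, i < 96595 → P i := stepQ 96594 Q96594 (allL N96594 (tt N116286 F499368) (tt N116321 (iv0 F499550)) (tt N119201 D222460) (tt N59562 (iv3 D199684)) (tt N68929 F413122) (tt N114624 F491062) (tt N119202 D222461) (tt N70286 F413123))
theorem Q96596 : ∀ i, i < 96596 → P i := stepQ 96595 Q96595 (allL N96595 (tt N70011 F413127) (tt N70007 (iv0 F413128)) (tt N70288 F413124) (tt N119202 (iv3 F514335)) (tt N68928 F413125) (tt N105664 (iv5 F451151)) (tt N59562 (iv6 D199685)) (tt N95137 F413126))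
theorem Q96597 : ∀ i, i < 96597 → P i := stepQ 96596 Q96596 (allL N96596 (tt N82812 (iv1 F413137)) (tt N59563 (iv0 D199686)) (tt N106898 (iv2 F456189)) (tt N116319 (iv3 F499536)) (tt N119203 D222462) (tt N83251 F449272) (tt N82769 (iv6 F449273)) (tt N119204 D222463))
theorem Q96598 : ∀ i, i < 96598 → P i := stepQ 96597 Q96597 (allL N96597 (tt N59563 (iv1 D199687)) (tt N82812 F413132) (tt N119204 (iv2 F514344)) (tt N106899 (iv3 F456198)) (tt N119205 D222464) (tt N76710 (iv5 F456196)) (tt N115403 F495021) (tt N106898 F456195))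
theorem Q96599 : ∀ i, i < 96599 → P i := stepQ 96598 Q96598 (allL N96598 (tt N106898 F456194) (tt N119204 F514347) (tt N59563 (iv2 D199688)) (tt N70277 F413129) (tt N105747 (iv4 F451512)) (tt N114786 (iv5 F491853)) (tt N70155 F413130) (tt N82812 (iv7 F413131)))
theorem Q96600 : ∀ i, i < 96600 → P i := stepQ 96599 Q96599 (allL N96599 (tt N105221 F449262) (tt N105222 F449271) (tt N114786 (iv2 F491850)) (tt N59564 F413133) (tt N109858 (iv4 F468951)) (tt N59563 (iv5 D199689)) (tt N109857 (iv6 F468950)) (tt N99162 F423537))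
theorem Q96601 : ∀ i, i < 96601 → P i := stepQ 96600 Q96600 (allL N96600 (tt N119204 (iv1 F514348)) (tt N106898 (iv0 F456193)) (tt N82812 F413134) (tt N59565 F413135) (tt N102606 F437873) (tt N99162 (iv5 F423536)) (tt N70313 F413136) (tt N59563 (iv7 D199690)))
theorem Q96602 : ∀ i, i < 96602 → P i := stepQ 96601 Q96601 (allL N96601 (tt N59632 F413139) (tt N118149 (iv0 F508870)) (tt N97581 (iv2 F417451)) (tt N59568 F413138) (tt N106932 (iv4 F456331)) (tt N59566 (iv5 D199691)) (tt N108979 F464747) (tt N97584 (iv7 F417469)))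
theorem Q96603 : ∀ i, i < 96603 → P i := stepQ 96602 Q96602 (allL N96602 (tt N67433 F413144) (tt N67441 F413145) (tt N97582 (iv2 F417456)) (tt N59569 F413140) (tt N65969 F413141) (tt N65371 (iv5 F413143)) (tt N59566 (iv6 D199692)) (tt N67065 F413142))
theorem Q96604 : ∀ i, i < 96604 → P i := stepQ 96603 Q96603 (allL N96603 (tt N59571 (iv1 F413146)) (tt N59567 (iv0 D199693)) (tt N96912 (iv2 F414580)) (tt N96917 (iv3 F414606)) (tt N100924 (iv4 F430981)) (tt N104875 (iv5 F447755)) (tt N100922 F430979) (tt N112145 (iv7 F479733)))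
theorem Q96605 : ∀ i, i < 96605 → P i := stepQ 96604 Q96604 (allL N96604 (tt N91417 F413148) (tt N107990 (iv0 F460625)) (tt N105031 (iv2 F448471)) (tt N67138 F413147) (tt N72420 (iv4 F413149)) (tt N59567 (iv5 D199694)) (tt N67136 (iv6 F413150)) (tt N108289 (iv7 F461909)))
theorem Q96606 : ∀ i, i < 96606 → P i := stepQ 96605 Q96605 (allL N96605 (tt N115428 (iv1 F495145)) (tt N91926 (iv0 F413154)) (tt N113509 F485839) (tt N117631 F506100) (tt N59569 F413151) (tt N78519 F413153) (tt N59567 (iv6 D199695)) (tt N95142 F413152))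
theorem Q96607 : ∀ i, i < 96607 → P i := stepQ 96606 Q96606 (allL N96606 (tt N119206 D222465) (tt N112192 (iv0 F482349)) (tt N119123 (iv2 F513906)) (tt N108979 (iv3 F464748)) (tt N86126 F413155) (tt N112720 (iv5 F482347)) (tt N59568 (iv6 D199696)) (tt N119207 D222466))
theorem Q96608 : ∀ i, i < 96608 → P i := stepQ 96607 Q96607 (allL N96607 (tt N94742 (iv1 F413158)) (tt N59569 (iv0 D199697)) (tt N59663 (iv2 F413157)) (tt N95181 F413156) (tt N119208 D222467) (tt N112174 F479895) (tt N117675 F506358) (tt N95143 F413159))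
theorem Q96609 : ∀ i, i < 96609 → P i := stepQ 96608 Q96608 (allL N96608 (tt N77801 F413166) (tt N59956 F413165) (tt N108285 (iv2 F461874)) (tt N87454 F413162) (tt N59570 (iv4 D199698)) (tt N78374 F413164) (tt N95144 F413163) (tt N109306 (iv7 F466309)))
theorem Q96610 : ∀ i, i < 96610 → P i := stepQ 96609 Q96609 (allL N96609 (tt N118912 (iv1 F512714)) (tt N109197 (iv0 F465757)) (tt N119132 (iv2 F513958)) (tt N59572 F413167) (tt N110307 (iv4 F470959)) (tt N59570 (iv5 D199699)) (tt N116326 (iv6 F499572)) (tt N119122 (iv7 F513902)))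
theorem Q96611 : ∀ i, i < 96611 → P i := stepQ 96610 Q96610 (allL N96610 (tt N107990 (iv1 F460624)) (tt N91417 (iv0 F413168)) (tt N108289 F461908) (tt N96797 F413995) (tt N73296 (iv4 F413196)) (tt N59571 (iv5 D199700)) (tt N115512 (iv6 F495572)) (tt N105031 F448474))
theorem Q96612 : ∀ i, i < 96612 → P i := stepQ 96611 Q96611 (allL N96611 (tt N59652 F413171) (tt N119149 F514052) (tt N117417 (iv2 F504936)) (tt N116326 F499571) (tt N86059 F413169) (tt N95147 F413170) (tt N59572 (iv6 D199701)) (tt N117415 (iv7 F504926)))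
theorem Q96613 : ∀ i, i < 96613 → P i := stepQ 96612 Q96612 (allL N96612 (tt N99230 (iv1 F423773)) (tt N90591 F413176) (tt N59578 F413172) (tt N68074 F413173) (tt N99425 (iv4 F424517)) (tt N59573 (iv5 D199702)) (tt N93911 F413174) (tt N68070 F413175))
theorem Q96614 : ∀ i, i < 96614 → P i := stepQ 96613 Q96613 (allL N96613 (tt N98171 F419831) (tt N86223 F419834) (tt N59582 F413177) (tt N66800 F413178) (tt N59574 (iv4 D199703)) (tt N104951 (iv5 F448106)) (tt N86196 (iv6 F413184)) (tt N98192 (iv7 F419922)))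
theorem Q96615 : ∀ i, i < 96615 → P i := stepQ 96614 Q96614 (allL N96614 (tt N86069 F413181) (tt N112833 (iv0 F482855)) (tt N59583 F413179) (tt N106937 (iv3 F456353)) (tt N86196 (iv4 F413182)) (tt N59623 F413180) (tt N59574 (iv6 D199704)) (tt N117482 (iv7 F505267)))
theorem Q96616 : ∀ i, i < 96616 → P i := stepQ 96615 Q96615 (allL N96615 (tt N59585 (iv1 F413189)) (tt N59584 F413190) (tt N59587 F413185) (tt N101130 (iv3 F431834)) (tt N79293 F413186) (tt N79291 F413187) (tt N80657 F413188) (tt N59575 (iv7 D199705)))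
theorem Q96617 : ∀ i, i < 96617 → P i := stepQ 96616 Q96616 (allL N96616 (tt N73293 F413195) (tt N71059 (iv0 F413194)) (tt N97288 (iv2 F416227)) (tt N59933 F413191) (tt N107039 (iv4 F456740)) (tt N59576 (iv5 D199706)) (tt N66523 F413193) (tt N89289 F413192))
theorem Q96618 : ∀ i, i < 96618 → P i := stepQ 96617 Q96617 (allL N96617 (tt N119208 (iv1 F514369)) (tt N95269 (iv0 F413200)) (tt N106097 (iv2 F453094)) (tt N59934 F413197) (tt N96949 (iv4 F414743)) (tt N86854 F413198) (tt N59576 (iv6 D199707)) (tt N95152 F413199))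
theorem Q96619 : ∀ i, i < 96619 → P i := stepQ 96618 Q96618 (allL N96618 (tt N71059 F413204) (tt N73293 (iv0 F413205)) (tt N89289 F413201) (tt N90993 F413202) (tt N119209 D222468) (tt N59577 (iv5 D199708)) (tt N89288 F413203) (tt N97288 (iv7 F416229)))
theorem Q96620 : ∀ i, i < 96620 → P i := stepQ 96619 Q96619 (allL N96619 (tt N59578 (iv1 D199709)) (tt N68070 F413206) (tt N90591 (iv2 F413207)) (tt N99216 F423723) (tt N119210 D222469) (tt N96804 F414031) (tt N89234 F413208) (tt N99230 (iv7 F423771)))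
theorem Q96621 : ∀ i, i < 96621 → P i := stepQ 96620 Q96620 (allL N96620 (tt N114569 F490811) (tt N98048 (iv0 F446562)) (tt N86035 F413209) (tt N93766 F413210) (tt N59580 (iv4 D199710)) (tt N85030 F413213) (tt N61295 F413211) (tt N86108 F413212))
theorem Q96622 : ∀ i, i < 96622 → P i := stepQ 96621 Q96621 (allL N96621 (tt N118949 (iv1 F512926)) (tt N118950 (iv0 F512931)) (tt N119133 (iv2 F513968)) (tt N59581 (iv3 D199711)) (tt N109462 (iv4 F467090)) (tt N107896 (iv5 F460163)) (tt N118374 (iv6 F510002)) (tt N116031 (iv7 F498143)))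
theorem Q96623 : ∀ i, i < 96623 → P i := stepQ 96622 Q96622 (allL N96622 (tt N98048 (iv1 F446563)) (tt N114569 (iv0 F490810)) (tt N86108 F413214) (tt N113108 (iv3 F484004)) (tt N59581 (iv4 D199712)) (tt N91786 F413216) (tt N85873 (iv6 F413217)) (tt N86035 F413215))
theorem Q96624 : ∀ i, i < 96624 → P i := stepQ 96623 Q96623 (allL N96623 (tt N86219 F413223) (tt N85904 (iv0 F413221)) (tt N86107 F413218) (tt N118374 (iv3 F510001)) (tt N85873 F413219) (tt N118373 (iv5 F509999)) (tt N59581 (iv6 D199713)) (tt N86109 F413220))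
theorem Q96625 : ∀ i, i < 96625 → P i := stepQ 96624 Q96624 (allL N96624 (tt N59582 (iv1 D199714)) (tt N98192 F419921) (tt N86223 (iv2 F413226)) (tt N100246 (iv3 F428119)) (tt N96570 (iv4 F413224)) (tt N112349 (iv5 F480694)) (tt N85905 F413225) (tt N98171 (iv7 F419830)))
theorem Q96626 : ∀ i, i < 96626 → P i := stepQ 96625 Q96625 (allL N96625 (tt N84721 F413231) (tt N86197 (iv0 F413230)) (tt N86196 F413227) (tt N104954 (iv3 F448123)) (tt N59583 F413228) (tt N104952 (iv5 F448112)) (tt N59582 (iv6 D199715)) (tt N86195 (iv7 F413229)))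
theorem Q96627 : ∀ i, i < 96627 → P i := stepQ 96626 Q96626 (allL N96626 (tt N59583 (iv1 D199716)) (tt N117482 F505266) (tt N112833 (iv2 F482850)) (tt N114756 (iv3 F491693)) (tt N86072 (iv4 F413233)) (tt N107897 (iv5 F460170)) (tt N117479 (iv6 F505247)) (tt N86069 F413232))
theorem Q96628 : ∀ i, i < 96628 → P i := stepQ 96627 Q96627 (allL N96627 (tt N85257 F413238) (tt N94745 F413239) (tt N94744 F413236) (tt N80562 F413237) (tt N111493 F476591) (tt N118635 (iv5 F511257)) (tt N59584 (iv6 D199718)) (tt N94743 F436026))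
theorem Q96629 : ∀ i, i < 96629 → P i := stepQ 96628 Q96628 (allL N96628 (tt N119211 D222470) (tt N119212 D222471) (tt N119134 (iv2 F513969)) (tt N73279 F413240) (tt N59591 (iv4 D199719)) (tt N109659 (iv5 F467972)) (tt N98666 (iv6 F421795)) (tt N96406 F413241))
theorem Q96630 : ∀ i, i < 96630 → P i := stepQ 96629 Q96629 (allL N96629 (tt N118443 F510387) (tt N91401 (iv0 F421796)) (tt N116398 (iv2 F499882)) (tt N59592 F413242) (tt N98666 F421794) (tt N114572 F490824) (tt N59591 (iv6 D199720)) (tt N117461 (iv7 F505155)))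
theorem Q96631 : ∀ i, i < 96631 → P i := stepQ 96630 Q96630 (allL N96630 (tt N96416 (iv1 F413252)) (tt N59592 (iv0 D199721)) (tt N96415 F413257) (tt N117481 (iv3 F505258)) (tt N64808 (iv4 F413255)) (tt N118135 (iv5 F508790)) (tt N64807 (iv6 F413256)) (tt N64870 F413254))
theorem Q96632 : ∀ i, i < 96632 → P i := stepQ 96631 Q96631 (allL N96631 (tt N59592 (iv1 D199722)) (tt N96416 F413243) (tt N64870 F413248) (tt N85085 F413246) (tt N64510 (iv4 F413247)) (tt N72957 (iv5 F413245)) (tt N63982 (iv6 F413244)) (tt N96415 (iv7 F413259)))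
theorem Q96633 : ∀ i, i < 96633 → P i := stepQ 96632 Q96632 (allL N96632 (tt N64870 (iv1 F413253)) (tt N96415 F413260) (tt N96416 F413249) (tt N117461 (iv3 F505152)) (tt N73283 F413250) (tt N109941 (iv5 F469323)) (tt N96407 F413251) (tt N59592 (iv7 D199723)))
theorem Q96634 : ∀ i, i < 96634 → P i := stepQ 96633 Q96633 (allL N96633 (tt N119030 F513380) (tt N119143 F514017) (tt N119138 (iv2 F513992)) (tt N59596 F413261) (tt N95240 (iv4 F413262)) (tt N59594 (iv5 D199724)) (tt N105390 (iv6 F450019)) (tt N119120 (iv7 F513891)))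
theorem Q96635 : ∀ i, i < 96635 → P i := stepQ 96634 Q96634 (allL N96634 (tt N59598 (iv1 F413266)) (tt N59595 (iv0 D199725)) (tt N59946 (iv2 F413265)) (tt N65755 (iv3 F413268)) (tt N59953 F413264) (tt N118708 (iv5 F511664)) (tt N111872 (iv6 F478429)) (tt N65763 F413267))
theorem Q96636 : ∀ i, i < 96636 → P i := stepQ 96635 Q96635 (allL N96635 (tt N65527 F413272) (tt N82495 (iv0 F413273)) (tt N65721 F413269) (tt N59595 (iv3 D199726)) (tt N81829 F413270) (tt N106747 (iv5 F455521)) (tt N92679 F413271) (tt N101889 (iv7 F434839)))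
theorem Q96637 : ∀ i, i < 96637 → P i := stepQ 96636 Q96636 (allL N96636 (tt N102169 (iv1 F436016)) (tt N65774 (iv0 F417258)) (tt N119121 (iv2 F513894)) (tt N106747 (iv3 F455520)) (tt N118707 (iv4 F511656)) (tt N59595 (iv5 D199727)) (tt N102844 (iv6 F438904)) (tt N102205 (iv7 F436173)))
theorem Q96638 : ∀ i, i < 96638 → P i := stepQ 96637 Q96637 (allL N96637 (tt N61156 (iv1 F413277)) (tt N59630 (iv0 F413275)) (tt N118974 (iv2 F513062)) (tt N59599 F413274) (tt N86053 F413276) (tt N59597 (iv5 D199728)) (tt N118637 (iv6 F511272)) (tt N118973 (iv7 F513058)))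
theorem Q96639 : ∀ i, i < 96639 → P i := stepQ 96638 Q96638 (allL N96638 (tt N65774 F413280) (tt N102169 (iv0 F436015)) (tt N102205 (iv2 F436172)) (tt N65719 F413279) (tt N102415 (iv4 F437142)) (tt N59598 (iv5 D199729)) (tt N102196 F436176) (tt N119121 (iv7 F513897)))
theorem Q96640 : ∀ i, i < 96640 → P i := stepQ 96639 Q96639 (allL N96639 (tt N93074 F413285) (tt N93065 (iv0 F413284)) (tt N103320 (iv2 F441124)) (tt N65720 F413281) (tt N59600 F413282) (tt N102417 (iv5 F437150)) (tt N59598 (iv6 D199730)) (tt N95180 F413283))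
theorem Q96641 : ∀ i, i < 96641 → P i := stepQ 96640 Q96640 (allL N96640 (tt N67090 F413289) (tt N95222 F413290) (tt N95232 F413286) (tt N95236 F413287) (tt N59599 (iv4 D199731)) (tt N111386 (iv5 F476116)) (tt N119213 D222472) (tt N95239 F413288))
theorem Q96642 : ∀ i, i < 96642 → P i := stepQ 96641 Q96641 (allL N96641 (tt N108975 F464732) (tt N117579 (iv0 F505820)) (tt N117580 (iv2 F505821)) (tt N118637 (iv3 F511271)) (tt N119213 (iv4 F514396)) (tt N117507 (iv5 F505406)) (tt N59599 (iv6 D199732)) (tt N117506 F505402))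
theorem Q96643 : ∀ i, i < 96643 → P i := stepQ 96642 Q96642 (allL N96642 (tt N59600 (iv1 D199733)) (tt N94727 F413292) (tt N59665 (iv2 F413294)) (tt N95143 (iv3 F413295)) (tt N97650 (iv4 F417772)) (tt N97120 (iv5 F415534)) (tt N107818 (iv6 F459835)) (tt N95181 F413293))
theorem Q96644 : ∀ i, i < 96644 → P i := stepQ 96643 Q96643 (allL N96643 (tt N65667 F413299) (tt N65666 F413300) (tt N59606 F413296) (tt N65706 F413297) (tt N118676 (iv4 F511483)) (tt N59601 (iv5 D199734)) (tt N117990 (iv6 F507947)) (tt N65664 F413298))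
theorem Q96645 : ∀ i, i < 96645 → P i := stepQ 96644 Q96644 (allL N96644 (tt N119214 D222473) (tt N110889 (iv0 F473626)) (tt N59610 F413301) (tt N119124 (iv3 F513913)) (tt N95052 F413302) (tt N91778 (iv5 F413303)) (tt N59602 (iv6 D199735)) (tt N119215 D222474))
theorem Q96646 : ∀ i, i < 96646 → P i := stepQ 96645 Q96645 (allL N96645 (tt N59614 (iv1 F413317)) (tt N59603 (iv0 D199736)) (tt N59611 (iv2 F413305)) (tt N64967 (iv3 F413307)) (tt N86953 F413304) (tt N108161 (iv5 F461349)) (tt N108162 (iv6 F461352)) (tt N59612 (iv7 F413306)))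
theorem Q96647 : ∀ i, i < 96647 → P i := stepQ 96646 Q96646 (allL N96646 (tt N59603 (iv1 D199737)) (tt N59614 F413308) (tt N59612 F413316) (tt N65434 (iv3 F413311)) (tt N86952 (iv4 F413310)) (tt N115709 (iv5 F496433)) (tt N94731 (iv6 F413312)) (tt N59611 F413309))
theorem Q96648 : ∀ i, i < 96648 → P i := stepQ 96647 Q96647 (allL N96647 (tt N119216 D222475) (tt N119217 D222476) (tt N59613 F413318) (tt N119125 (iv3 F513919)) (tt N91780 (iv4 F413320)) (tt N59603 (iv5 D199738)) (tt N91778 F413319) (tt N119218 D222477))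
theorem Q96649 : ∀ i, i < 96649 → P i := stepQ 96648 Q96648 (allL N96648 (tt N59612 (iv1 F413323)) (tt N59611 F413324) (tt N59614 F413321) (tt N80657 F413322) (tt N111008 (iv4 F474218)) (tt N119218 (iv5 F514427)) (tt N101130 (iv6 F431837)) (tt N59603 (iv7 D199739)))
theorem Q96650 : ∀ i, i < 96650 → P i := stepQ 96649 Q96649 (allL N96649 (tt N65509 F413329) (tt N65588 F413330) (tt N65590 F413325) (tt N103411 (iv3 F441499)) (tt N65776 F413328) (tt N59605 (iv5 D199740)) (tt N65775 F413326) (tt N65591 F413327))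
theorem Q96651 : ∀ i, i < 96651 → P i := stepQ 96650 Q96650 (allL N96650 (tt N111008 F474223) (tt N59607 (iv0 D199741)) (tt N111392 (iv2 F476143)) (tt N80157 (iv3 F413332)) (tt N64973 F413331) (tt N97782 (iv5 F474224)) (tt N80155 F413333) (tt N97661 (iv7 F417826)))
theorem Q96652 : ∀ i, i < 96652 → P i := stepQ 96651 Q96651 (allL N96651 (tt N59607 (iv1 D199742)) (tt N111008 (iv0 F474222)) (tt N97661 (iv2 F417823)) (tt N119219 D222478) (tt N64972 (iv4 F413334)) (tt N97783 F418289) (tt N81741 (iv6 F413335)) (tt N111392 (iv7 F476144)))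
theorem Q96653 : ∀ i, i < 96653 → P i := stepQ 96652 Q96652 (allL N96652 (tt N97661 (iv1 F417828)) (tt N111392 (iv0 F476145)) (tt N111008 (iv2 F474217)) (tt N65524 F413336) (tt N59614 F413337) (tt N68744 F413338) (tt N65672 F413339) (tt N59607 (iv7 D199743)))
theorem Q96654 : ∀ i, i < 96654 → P i := stepQ 96653 Q96653 (allL N96653 (tt N119131 (iv1 F513957)) (tt N88974 (iv0 F413341)) (tt N114756 (iv2 F491692)) (tt N59608 (iv3 D199744)) (tt N114755 (iv4 F491690)) (tt N76652 F413340) (tt N117523 (iv6 F505504)) (tt N110553 (iv7 F472112)))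
theorem Q96655 : ∀ i, i < 96655 → P i := stepQ 96654 Q96654 (allL N96654 (tt N119215 (iv1 F514410)) (tt N59610 (iv0 D199745)) (tt N119214 F514401) (tt N88972 F413345) (tt N102018 F435365) (tt N119220 D222479) (tt N64864 (iv6 F430711)) (tt N110889 (iv7 F473625)))
theorem Q96656 : ∀ i, i < 96656 → P i := stepQ 96655 Q96655 (allL N96655 (tt N59610 (iv1 D199746)) (tt N119215 F514409) (tt N110889 (iv2 F473622)) (tt N119126 (iv3 F513926)) (tt N110888 (iv4 F473619)) (tt N119221 D222480) (tt N109628 (iv6 F467825)) (tt N119214 (iv7 F514403)))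
theorem Q96657 : ∀ i, i < 96657 → P i := stepQ 96656 Q96656 (allL N96656 (tt N110889 (iv1 F473627)) (tt N119214 F514404) (tt N119215 (iv2 F514405)) (tt N59620 F413346) (tt N106936 (iv4 F456347)) (tt N91774 F413347) (tt N59628 F413348) (tt N59610 (iv7 D199747)))
theorem Q96658 : ∀ i, i < 96658 → P i := stepQ 96657 Q96657 (allL N96657 (tt N114120 F488632) (tt N97763 (iv0 F418209)) (tt N108161 (iv2 F461345)) (tt N111013 (iv3 F474250)) (tt N91764 F418210) (tt N59611 (iv5 D199748)) (tt N108138 (iv6 F461266)) (tt N115709 (iv7 F496438)))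
theorem Q96659 : ∀ i, i < 96659 → P i := stepQ 96658 Q96658 (allL N96658 (tt N107818 (iv1 F459834)) (tt N107568 (iv0 F458784)) (tt N108162 (iv2 F461350)) (tt N111014 (iv3 F474255)) (tt N111015 (iv4 F474263)) (tt N75503 F439982) (tt N59611 (iv6 D199749)) (tt N109624 (iv7 F467797)))
theorem Q96660 : ∀ i, i < 96660 → P i := stepQ 96659 Q96659 (allL N96659 (tt N97763 F418211) (tt N114120 (iv0 F488631)) (tt N115709 F496436) (tt N100553 F429439) (tt N87286 (iv4 F413357)) (tt N59612 (iv5 D199750)) (tt N87285 F413356) (tt N108161 (iv7 F461347)))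
theorem Q96661 : ∀ i, i < 96661 → P i := stepQ 96660 Q96660 (allL N96660 (tt N77133 (iv1 F413354)) (tt N81724 (iv0 F413355)) (tt N94731 F413349) (tt N95213 F413350) (tt N80228 F413351) (tt N80348 (iv5 F413353)) (tt N59612 (iv6 D199751)) (tt N94732 (iv7 F413352)))
theorem Q96662 : ∀ i, i < 96662 → P i := stepQ 96661 Q96661 (allL N96661 (tt N119218 (iv1 F514430)) (tt N59613 (iv0 D199752)) (tt N119216 (iv2 F514416)) (tt N111430 (iv3 F477570)) (tt N119222 D222481) (tt N111700 F477569) (tt N119223 D222482) (tt N119217 (iv7 F514418)))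
theorem Q96663 : ∀ i, i < 96663 → P i := stepQ 96662 Q96662 (allL N96662 (tt N59613 (iv1 D199753)) (tt N119218 F514429) (tt N119217 (iv2 F514423)) (tt N101547 (iv3 F433345)) (tt N115937 (iv4 F497677)) (tt N101545 (iv5 F433336)) (tt N115680 (iv6 F496282)) (tt N119216 F514413))
theorem Q96664 : ∀ i, i < 96664 → P i := stepQ 96663 Q96663 (allL N96663 (tt N87556 (iv1 F434984)) (tt N87558 (iv0 F433446)) (tt N91780 F413358) (tt N119192 (iv3 F514285)) (tt N59613 (iv4 D199754)) (tt N114821 (iv5 F492054)) (tt N88140 F413359) (tt N119224 D222483))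
theorem Q96665 : ∀ i, i < 96665 → P i := stepQ 96664 Q96664 (allL N96664 (tt N119217 (iv1 F514417)) (tt N119216 F514414) (tt N119218 (iv2 F514424)) (tt N59621 F413360) (tt N119224 (iv4 F514459)) (tt N59614 F413361) (tt N63878 F413362) (tt N59613 (iv7 D199755)))
theorem Q96666 : ∀ i, i < 96666 → P i := stepQ 96665 Q96665 (allL N96665 (tt N119137 F513991) (tt N119137 (iv0 F513990)) (tt N119130 (iv2 F513945)) (tt N59619 (iv3 D199756)) (tt N104517 (iv4 F446115)) (tt N119200 (iv5 F514324)) (tt N104516 F446112) (tt N119130 (iv7 F513948)))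
theorem Q96667 : ∀ i, i < 96667 → P i := stepQ 96666 Q96666 (allL N96666 (tt N79288 F413366) (tt N102274 (iv0 F436496)) (tt N106826 F455858) (tt N60378 F413363) (tt N59622 (iv4 D199757)) (tt N112388 (iv5 F480871)) (tt N82456 F413364) (tt N80967 F413365))
theorem Q96668 : ∀ i, i < 96668 → P i := stepQ 96667 Q96667 (allL N96667 (tt N59630 F413369) (tt N61156 (iv0 F413371)) (tt N118973 (iv2 F513055)) (tt N119138 (iv3 F513993)) (tt N86052 F413370) (tt N59622 (iv5 D199758)) (tt N86147 (iv6 F413372)) (tt N118974 (iv7 F513064)))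
theorem Q96669 : ∀ i, i < 96669 → P i := stepQ 96668 Q96668 (allL N96668 (tt N118149 (iv1 F508871)) (tt N59632 F413373) (tt N97584 (iv2 F417467)) (tt N119132 (iv3 F513959)) (tt N105646 F451094) (tt N59625 (iv5 D199759)) (tt N112766 (iv6 F482556)) (tt N97581 (iv7 F417452)))
theorem Q96670 : ∀ i, i < 96670 → P i := stepQ 96669 Q96669 (allL N96669 (tt N110455 (iv1 F471671)) (tt N109354 F466539) (tt N59628 F413374) (tt N117482 F505268) (tt N93306 F413375) (tt N59626 (iv5 D199760)) (tt N119215 (iv6 F514408)) (tt N106937 (iv7 F456356)))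
theorem Q96671 : ∀ i, i < 96671 → P i := stepQ 96670 Q96670 (allL N96670 (tt N106937 (iv1 F456358)) (tt N59628 (iv0 D199761)) (tt N110455 (iv2 F471665)) (tt N119133 F513967) (tt N90317 F413377) (tt N60451 F413376) (tt N110471 (iv6 F471733)) (tt N109354 F466540))
theorem Q96672 : ∀ i, i < 96672 → P i := stepQ 96671 Q96671 (allL N96671 (tt N118974 (iv1 F513066)) (tt N118973 (iv0 F513060)) (tt N59630 (iv2 D199762)) (tt N118149 (iv3 F508866)) (tt N61157 (iv4 F413380)) (tt N82417 F413378) (tt N119149 (iv6 F514049)) (tt N61156 F413379))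
theorem Q96673 : ∀ i, i < 96673 → P i := stepQ 96672 Q96672 (allL N96672 (tt N61155 F413384) (tt N61154 F413386) (tt N61157 F413381) (tt N76575 F413385) (tt N59630 (iv4 D199763)) (tt N61131 F413383) (tt N113640 F486449) (tt N61130 F413382))
theorem Q96674 : ∀ i, i < 96674 → P i := stepQ 96673 Q96673 (allL N96673 (tt N59633 (iv1 F413393)) (tt N59631 (iv0 D199764)) (tt N64828 (iv2 F413392)) (tt N114770 (iv3 F491767)) (tt N82452 F413391) (tt N70285 F413390) (tt N64843 (iv6 F413395)) (tt N64500 F413394))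
theorem Q96675 : ∀ i, i < 96675 → P i := stepQ 96674 Q96674 (allL N96674 (tt N76674 (iv1 F413400)) (tt N76673 F413403) (tt N76676 F413396) (tt N59631 (iv3 D199765)) (tt N76575 F413397) (tt N114755 (iv5 F491687)) (tt N101915 (iv6 F434938)) (tt N76574 F413398))
theorem Q96676 : ∀ i, i < 96676 → P i := stepQ 96675 Q96675 (allL N96675 (tt N97584 (iv1 F417470)) (tt N97581 (iv0 F417454)) (tt N59632 (iv2 D199766)) (tt N61156 F413404) (tt N61191 F413405) (tt N97495 (iv5 F417099)) (tt N61167 F413406) (tt N118149 (iv7 F508869)))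
theorem Q96677 : ∀ i, i < 96677 → P i := stepQ 96676 Q96676 (allL N96676 (tt N114622 F491052) (tt N112032 (iv0 F479173)) (tt N76583 F413407) (tt N76715 F413408) (tt N59634 F413409) (tt N107328 (iv5 F457982)) (tt N59633 (iv6 D199767)) (tt N107286 (iv7 F457804)))
theorem Q96678 : ∀ i, i < 96678 → P i := stepQ 96677 Q96677 (allL N96677 (tt N59655 (iv1 F413410)) (tt N59634 (iv0 D199768)) (tt N118976 F513077) (tt N59642 (iv3 F413411)) (tt N116439 (iv4 F500116)) (tt N62203 F413412) (tt N118739 F511826) (tt N107223 (iv7 F457524)))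
theorem Q96679 : ∀ i, i < 96679 → P i := stepQ 96678 Q96678 (allL N96678 (tt N59634 (iv1 D199769)) (tt N59655 F413413) (tt N107223 F457528) (tt N119145 F514026) (tt N72596 (iv4 F413414)) (tt N108466 (iv5 F462712)) (tt N59643 (iv6 F413415)) (tt N118976 (iv7 F513079)))
theorem Q96680 : ∀ i, i < 96680 → P i := stepQ 96679 Q96679 (allL N96679 (tt N94604 F413419) (tt N95001 (iv0 F413420)) (tt N81990 F413416) (tt N86155 F413417) (tt N81939 (iv4 F413421)) (tt N59634 (iv5 D199770)) (tt N64934 F413418) (tt N105384 (iv7 F449994)))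
theorem Q96681 : ∀ i, i < 96681 → P i := stepQ 96680 Q96680 (allL N96680 (tt N89760 F413427) (tt N88906 F413428) (tt N88978 F413426) (tt N59635 (iv3 D199771)) (tt N94738 (iv4 F413425)) (tt N83943 F413423) (tt N117313 (iv6 F504417)) (tt N88980 F413424))
theorem Q96682 : ∀ i, i < 96682 → P i := stepQ 96681 Q96681 (allL N96681 (tt N89674 F413430) (tt N119225 D222484) (tt N107976 (iv2 F460567)) (tt N59636 (iv3 D199772)) (tt N72818 (iv4 F413431)) (tt N72570 F413429) (tt N89698 (iv6 F413432)) (tt N107969 (iv7 F460534)))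
theorem Q96683 : ∀ i, i < 96683 → P i := stepQ 96682 Q96682 (allL N96682 (tt N116439 F500120) (tt N72596 (iv0 F413437)) (tt N89807 F413435) (tt N89698 F413436) (tt N114943 (iv4 F492675)) (tt N108010 (iv5 F460713)) (tt N59636 (iv6 D199773)) (tt N119035 (iv7 F513405)))
theorem Q96684 : ∀ i, i < 96684 → P i := stepQ 96683 Q96683 (allL N96683 (tt N114540 (iv1 F490681)) (tt N59637 (iv0 D199774)) (tt N71278 (iv2 F413439)) (tt N119226 D222485) (tt N107603 (iv4 F458903)) (tt N119227 D222486) (tt N71271 F413438) (tt N116441 (iv7 F500130)))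
theorem Q96685 : ∀ i, i < 96685 → P i := stepQ 96684 Q96684 (allL N96684 (tt N59637 (iv1 D199775)) (tt N114540 (iv0 F490680)) (tt N116441 (iv2 F500128)) (tt N98374 (iv3 F420683)) (tt N98387 (iv4 F420730)) (tt N100245 (iv5 F428118)) (tt N98376 (iv6 F420688)) (tt N71278 F413440))
theorem Q96686 : ∀ i, i < 96686 → P i := stepQ 96685 Q96685 (allL N96685 (tt N71278 F413445) (tt N116441 (iv0 F500131)) (tt N59637 (iv2 D199776)) (tt N71240 F413441) (tt N59646 F413442) (tt N76508 F413443) (tt N64900 F413444) (tt N114540 (iv7 F490679)))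
theorem Q96687 : ∀ i, i < 96687 → P i := stepQ 96686 Q96686 (allL N96686 (tt N89630 F413448) (tt N89629 F413449) (tt N59639 F413446) (tt N118718 (iv3 F511725)) (tt N59638 (iv4 D199777)) (tt N114055 (iv5 F488380)) (tt N86707 F413450) (tt N85935 F413447))
theorem Q96688 : ∀ i, i < 96688 → P i := stepQ 96687 Q96687 (allL N96687 (tt N86147 F413454) (tt N86143 F413459) (tt N59640 F413451) (tt N118719 (iv3 F511732)) (tt N86707 F413452) (tt N85166 (iv5 F413458)) (tt N59638 (iv6 D199778)) (tt N85886 F413453))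
theorem Q96689 : ∀ i, i < 96689 → P i := stepQ 96688 Q96688 (allL N96688 (tt N85935 (iv1 F413465)) (tt N59639 (iv0 D199779)) (tt N89630 (iv2 F413474)) (tt N70444 F413467) (tt N96948 (iv4 F414739)) (tt N69193 (iv5 F413466)) (tt N69196 F413468) (tt N89629 (iv7 F413475)))
theorem Q96690 : ∀ i, i < 96690 → P i := stepQ 96689 Q96689 (allL N96689 (tt N59639 (iv1 D199780)) (tt N85935 F413469) (tt N89629 F413471) (tt N108372 (iv3 F462303)) (tt N96508 (iv4 F413470)) (tt N104953 (iv5 F448118)) (tt N113623 (iv6 F486347)) (tt N89630 F413472))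
theorem Q96691 : ∀ i, i < 96691 → P i := stepQ 96690 Q96690 (allL N96690 (tt N114054 (iv1 F488371)) (tt N85960 (iv0 F413479)) (tt N114055 (iv2 F488377)) (tt N70036 F413476) (tt N73298 (iv4 F413478)) (tt N59639 (iv5 D199781)) (tt N70035 F413480) (tt N85966 F413477))
theorem Q96692 : ∀ i, i < 96692 → P i := stepQ 96691 Q96691 (allL N96691 (tt N86706 (iv1 F413485)) (tt N86705 F413486) (tt N86707 F413481) (tt N105889 (iv3 F452197)) (tt N59640 F413482) (tt N86458 F413483) (tt N59639 (iv6 D199782)) (tt N85936 F413484))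
theorem Q96693 : ∀ i, i < 96693 → P i := stepQ 96692 Q96692 (allL N96692 (tt N85886 (iv1 F413494)) (tt N59640 (iv0 D199783)) (tt N86147 F413498) (tt N107161 (iv3 F457259)) (tt N85884 F413490) (tt N112762 (iv5 F482530)) (tt N118973 (iv6 F513057)) (tt N86143 (iv7 F413495)))
theorem Q96694 : ∀ i, i < 96694 → P i := stepQ 96693 Q96693 (allL N96693 (tt N59640 (iv1 D199784)) (tt N85886 F413499) (tt N86143 (iv2 F413501)) (tt N105503 (iv3 F450491)) (tt N85883 (iv4 F413502)) (tt N111183 F475124) (tt N119228 D222487) (tt N86147 F413500))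
theorem Q96695 : ∀ i, i < 96695 → P i := stepQ 96694 Q96694 (allL N96694 (tt N69909 F413504) (tt N117592 (iv0 F505885)) (tt N104130 (iv2 F444334)) (tt N118739 F511825) (tt N69951 F413503) (tt N96787 (iv5 F413939)) (tt N59642 (iv6 D199785)) (tt N118739 (iv7 F511822)))
theorem Q96696 : ∀ i, i < 96696 → P i := stepQ 96695 Q96695 (allL N96695 (tt N91368 F413506) (tt N105444 (iv0 F450294)) (tt N119145 (iv2 F514028)) (tt N59643 (iv3 D199786)) (tt N111151 (iv4 F474943)) (tt N62204 F413505) (tt N119145 F514027) (tt N107224 (iv7 F457531)))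
theorem Q96697 : ∀ i, i < 96697 → P i := stepQ 96696 Q96696 (allL N96696 (tt N72586 (iv1 F424444)) (tt N113264 F484773) (tt N119229 D222488) (tt N59644 (iv3 D199787)) (tt N105040 F448517) (tt N72525 F413507) (tt N103892 (iv6 F443244)) (tt N113243 (iv7 F484680)))
theorem Q96698 : ∀ i, i < 96698 → P i := stepQ 96697 Q96697 (allL N96697 (tt N114771 (iv1 F491776)) (tt N109767 (iv0 F468518)) (tt N72367 F413508) (tt N107488 F458498) (tt N59644 (iv4 D199788)) (tt N107634 (iv5 F459026)) (tt N72345 (iv6 F413509)) (tt N114343 (iv7 F489720)))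
theorem Q96699 : ∀ i, i < 96699 → P i := stepQ 96698 Q96698 (allL N96698 (tt N64900 F413512) (tt N64513 F413513) (tt N64902 F413510) (tt N103892 (iv3 F443243)) (tt N72345 F413511) (tt N100638 (iv5 F429785)) (tt N59644 (iv6 D199789)) (tt N64901 F413514))
theorem Q96700 : ∀ i, i < 96700 → P i := stepQ 96699 Q96699 (allL N96699 (tt N99153 (iv1 F423494)) (tt N68328 (iv0 F413518)) (tt N89789 (iv2 F413517)) (tt N59645 (iv3 D199790)) (tt N97973 (iv4 F419029)) (tt N72527 F413515) (tt N89052 F413516) (tt N105890 (iv7 F452203)))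
theorem Q96701 : ∀ i, i < 96701 → P i := stepQ 96700 Q96700 (allL N96700 (tt N109767 (iv1 F468517)) (tt N114771 (iv0 F491775)) (tt N114343 (iv2 F489716)) (tt N105009 F448343) (tt N59645 (iv4 D199791)) (tt N100213 F428019) (tt N90141 F413519) (tt N72367 F413520))
theorem Q96702 : ∀ i, i < 96702 → P i := stepQ 96701 Q96701 (allL N96701 (tt N114030 (iv1 F488282)) (tt N89834 (iv0 F413528)) (tt N89811 (iv2 F413524)) (tt N59648 (iv3 D199792)) (tt N95264 F413521) (tt N70873 F413522) (tt N89059 F413523) (tt N117313 (iv7 F504418)))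
theorem Q96703 : ∀ i, i < 96703 → P i := stepQ 96702 Q96702 (allL N96702 (tt N72596 F413532) (tt N116439 (iv0 F500119)) (tt N119035 (iv2 F513401)) (tt N89059 F413529) (tt N76893 F413530) (tt N108011 F460720) (tt N59648 (iv6 D199793)) (tt N89807 F413531))
theorem Q96704 : ∀ i, i < 96704 → P i := stepQ 96703 Q96703 (allL N96703 (tt N70412 F450510) (tt N119230 D222489) (tt N119231 D222490) (tt N59649 (iv3 D199794)) (tt N105507 (iv4 F450508)) (tt N70869 F413533) (tt N107969 (iv6 F460537)) (tt N119034 (iv7 F513397)))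
theorem Q96705 : ∀ i, i < 96705 → P i := stepQ 96704 Q96704 (allL N96704 (tt N119149 (iv1 F514051)) (tt N59652 (iv0 D199795)) (tt N117415 (iv2 F504925)) (tt N110215 (iv3 F470467)) (tt N86058 F416302) (tt N95264 F413534) (tt N119207 (iv6 F514360)) (tt N117417 (iv7 F504939)))
theorem Q96706 : ∀ i, i < 96706 → P i := stepQ 96705 Q96705 (allL N96705 (tt N117415 (iv1 F504929)) (tt N117417 (iv0 F504940)) (tt N59652 (iv2 D199796)) (tt N86158 F413535) (tt N61170 F413537) (tt N90121 (iv5 F413538)) (tt N61169 F413536) (tt N119149 (iv7 F514050)))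
theorem Q96707 : ∀ i, i < 96707 → P i := stepQ 96706 Q96706 (allL N96706 (tt N104980 (iv1 F448247)) (tt N113623 (iv0 F486349)) (tt N61170 F413539) (tt N63664 (iv3 F413541)) (tt N59652 (iv4 D199797)) (tt N86486 (iv5 F413542)) (tt N61135 F413540) (tt N113640 (iv7 F486447)))
theorem Q96708 : ∀ i, i < 96708 → P i := stepQ 96707 Q96707 (allL N96707 (tt N114999 (iv1 F492989)) (tt N85249 F413548) (tt N90121 F413543) (tt N59654 F413544) (tt N85395 F413547) (tt N59652 (iv5 D199798)) (tt N89108 F413545) (tt N82421 F413546))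
theorem Q96709 : ∀ i, i < 96709 → P i := stepQ 96708 Q96708 (allL N96708 (tt N106172 (iv1 F453441)) (tt N71179 (iv0 F413551)) (tt N76719 (iv2 F413552)) (tt N59653 (iv3 D199799)) (tt N63664 F413549) (tt N71159 F413550) (tt N63663 F413553) (tt N101915 (iv7 F434936)))
theorem Q96710 : ∀ i, i < 96710 → P i := stepQ 96709 Q96709 (allL N96709 (tt N112032 F479174) (tt N114622 (iv0 F491051)) (tt N107286 (iv2 F457801)) (tt N63663 F413554) (tt N59655 F413555) (tt N76856 (iv5 F413557)) (tt N59653 (iv6 D199800)) (tt N76583 F413556))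
theorem Q96711 : ∀ i, i < 96711 → P i := stepQ 96710 Q96710 (allL N96710 (tt N59658 (iv1 F413560)) (tt N59654 (iv0 D199801)) (tt N73513 F413563) (tt N109647 (iv3 F467912)) (tt N95068 F413561) (tt N70879 F413559) (tt N73442 (iv6 F413562)) (tt N82424 F413564))
theorem Q96712 : ∀ i, i < 96712 → P i := stepQ 96711 Q96711 (allL N96711 (tt N59654 (iv1 D199802)) (tt N59658 F413565) (tt N82424 F413568) (tt N94603 (iv3 F413567)) (tt N110642 (iv4 F472553)) (tt N99329 (iv5 F424121)) (tt N85397 (iv6 F413569)) (tt N73513 F413566))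
theorem Q96713 : ∀ i, i < 96713 → P i := stepQ 96712 Q96712 (allL N96712 (tt N72295 F413574) (tt N78465 F413575) (tt N78466 F413570) (tt N113314 (iv3 F484977)) (tt N59654 (iv4 D199803)) (tt N70150 F413571) (tt N96398 F413572) (tt N78432 F413573))
theorem Q96714 : ∀ i, i < 96714 → P i := stepQ 96713 Q96713 (allL N96713 (tt N95001 F413579) (tt N94604 (iv0 F413580)) (tt N105384 (iv2 F449991)) (tt N77486 F413576) (tt N116626 (iv4 F501038)) (tt N59655 (iv5 D199804)) (tt N78133 F413577) (tt N81990 F413578))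
theorem Q96715 : ∀ i, i < 96715 → P i := stepQ 96714 Q96714 (allL N96714 (tt N107161 (iv1 F457264)) (tt N78068 F413584) (tt N59656 (iv2 D199805)) (tt N119149 (iv3 F514046)) (tt N78152 F413581) (tt N83256 F413582) (tt N118149 (iv6 F508868)) (tt N86158 F413583))
theorem Q96716 : ∀ i, i < 96716 → P i := stepQ 96715 Q96715 (allL N96715 (tt N90338 F413587) (tt N90336 (iv0 F413588)) (tt N114758 (iv2 F491703)) (tt N59657 (iv3 D199806)) (tt N73572 F413585) (tt N110633 (iv5 F472516)) (tt N73006 F413586) (tt N107285 (iv7 F457797)))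
theorem Q96717 : ∀ i, i < 96717 → P i := stepQ 96716 Q96716 (allL N96716 (tt N93409 (iv1 F413593)) (tt N64806 (iv0 F413592)) (tt N93410 F413589) (tt N112768 (iv3 F482568)) (tt N110727 (iv4 F472920)) (tt N59659 (iv5 D199807)) (tt N95267 F413590) (tt N59662 F413591))
theorem Q96718 : ∀ i, i < 96718 → P i := stepQ 96717 Q96717 (allL N96717 (tt N119207 (iv1 F514362)) (tt N119123 (iv0 F513910)) (tt N119206 F514355) (tt N59660 (iv3 D199808)) (tt N104960 (iv4 F448150)) (tt N97018 F415057) (tt N118293 (iv6 F509562)) (tt N112192 (iv7 F479988)))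
theorem Q96719 : ∀ i, i < 96719 → P i := stepQ 96718 Q96718 (allL N96718 (tt N117580 F505825) (tt N117506 (iv0 F505400)) (tt N117579 F505817) (tt N59661 (iv3 D199809)) (tt N118715 (iv4 F511710)) (tt N108976 (iv5 F464735)) (tt N110138 (iv6 F470140)) (tt N108975 F464733))
theorem Q96720 : ∀ i, i < 96720 → P i := stepQ 96719 Q96719 (allL N96719 (tt N93410 (iv1 F413595)) (tt N59662 (iv0 D199810)) (tt N64806 (iv2 F413596)) (tt N119232 D222491) (tt N112647 (iv4 F481982)) (tt N64495 F413594) (tt N92899 F413597) (tt N93409 (iv7 F413599)))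
theorem Q96721 : ∀ i, i < 96721 → P i := stepQ 96720 Q96720 (allL N96720 (tt N59662 (iv1 D199811)) (tt N93410 F413600) (tt N93409 (iv2 F413603)) (tt N117502 (iv3 F505374)) (tt N101357 (iv4 F432766)) (tt N64807 (iv5 F413602)) (tt N119085 (iv6 F513709)) (tt N64806 F413601))
theorem Q96722 : ∀ i, i < 96722 → P i := stepQ 96721 Q96721 (allL N96721 (tt N95152 F413606) (tt N106097 F453098) (tt N119208 (iv2 F514363)) (tt N59683 F413604) (tt N59663 (iv4 D199812)) (tt N119233 D222492) (tt N81154 F413610) (tt N95269 F413605))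
theorem Q96723 : ∀ i, i < 96723 → P i := stepQ 96722 Q96722 (allL N96722 (tt N112139 F479703) (tt N91866 (iv0 F413608)) (tt N117675 (iv2 F506360)) (tt N59664 F413607) (tt N81154 (iv4 F413609)) (tt N110454 F471663) (tt N59663 (iv6 D199813)) (tt N117674 F506354))
theorem Q96724 : ∀ i, i < 96724 → P i := stepQ 96723 Q96723 (allL N96723 (tt N109624 (iv1 F467799)) (tt N108162 (iv0 F461354)) (tt N107818 (iv2 F459833)) (tt N59666 F413611) (tt N97747 (iv4 F418139)) (tt N74258 F413612) (tt N59665 (iv6 D199814)) (tt N107568 (iv7 F458783)))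
theorem Q96725 : ∀ i, i < 96725 → P i := stepQ 96724 Q96724 (allL N96724 (tt N67064 F413616) (tt N65480 F413615) (tt N112719 F482340) (tt N59667 (iv3 D199815)) (tt N82204 (iv4 F413614)) (tt N112429 (iv5 F481057)) (tt N111133 (iv6 F474855)) (tt N82201 F413613))
theorem Q96726 : ∀ i, i < 96726 → P i := stepQ 96725 Q96725 (allL N96725 (tt N77841 F413621) (tt N96528 F413622) (tt N93408 F413617) (tt N77824 F413618) (tt N59667 (iv4 D199816)) (tt N93377 F413620) (tt N111134 (iv6 F474860)) (tt N77974 F413619))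
theorem Q96727 : ∀ i, i < 96727 → P i := stepQ 96726 Q96726 (allL N96726 (tt N96528 F413628) (tt N77841 F413629) (tt N77974 F413623) (tt N77995 F413624) (tt N59668 (iv4 D199817)) (tt N93380 F413625) (tt N92894 F413626) (tt N93408 F413627))
theorem Q96728 : ∀ i, i < 96728 → P i := stepQ 96727 Q96727 (allL N96727 (tt N112807 (iv1 F482702)) (tt N73117 (iv0 F413635)) (tt N103917 (iv2 F443362)) (tt N59671 F413632) (tt N86935 F413633) (tt N81694 F413634) (tt N59669 (iv6 D199818)) (tt N107203 (iv7 F457443)))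
theorem Q96729 : ∀ i, i < 96729 → P i := stepQ 96728 Q96728 (allL N96728 (tt N59676 (iv1 F413639)) (tt N59670 (iv0 D199819)) (tt N95283 (iv2 F413638)) (tt N94418 F413637) (tt N118599 (iv4 F511092)) (tt N95285 F413636) (tt N118969 (iv6 F513034)) (tt N95282 F413640))
theorem Q96730 : ∀ i, i < 96730 → P i := stepQ 96729 Q96729 (allL N96729 (tt N116833 F502076) (tt N119234 D222493) (tt N95290 F413641) (tt N74605 F413642) (tt N61929 F413643) (tt N116585 (iv5 F500860)) (tt N59670 (iv6 D199820)) (tt N74606 (iv7 F413644)))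
theorem Q96731 : ∀ i, i < 96731 → P i := stepQ 96730 Q96730 (allL N96730 (tt N107120 (iv1 F457070)) (tt N107118 (iv0 F457061)) (tt N94421 F413645) (tt N59676 F413646) (tt N105132 (iv4 F448932)) (tt N59675 (iv5 D199821)) (tt N106760 (iv6 F455576)) (tt N95289 F413647))
theorem Q96732 : ∀ i, i < 96732 → P i := stepQ 96731 Q96731 (allL N96731 (tt N62367 F413650) (tt N62361 F413651) (tt N95284 F413648) (tt N106760 (iv3 F455575)) (tt N106078 (iv4 F453022)) (tt N69840 F413649) (tt N59676 (iv6 D199822)) (tt N107510 (iv7 F458589)))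
theorem Q96733 : ∀ i, i < 96733 → P i := stepQ 96732 Q96732 (allL N96732 (tt N114235 (iv1 F489143)) (tt N96781 (iv0 F413906)) (tt N95294 F413652) (tt N119233 (iv3 F514513)) (tt N112853 (iv4 F482975)) (tt N59683 (iv5 D199823)) (tt N112852 (iv6 F482972)) (tt N95296 F413653))
theorem Q96734 : ∀ i, i < 96734 → P i := stepQ 96733 Q96733 (allL N96733 (tt N95503 (iv1 F413658)) (tt N95504 F413659) (tt N95295 F413654) (tt N81154 F413655) (tt N94276 F413656) (tt N96816 (iv5 F414095)) (tt N59683 (iv6 D199824)) (tt N95605 F413657))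
theorem Q96735 : ∀ i, i < 96735 → P i := stepQ 96734 Q96734 (allL N96734 (tt N59771 (iv1 F413662)) (tt N59684 (iv0 D199825)) (tt N95298 (iv2 F413661)) (tt N96074 (iv3 F413665)) (tt N118933 (iv4 F512823)) (tt N95342 F413660) (tt N78196 (iv6 F413664)) (tt N95297 F413663))
theorem Q96736 : ∀ i, i < 96736 → P i := stepQ 96735 Q96735 (allL N96735 (tt N111229 F475331) (tt N118980 (iv0 F513099)) (tt N95455 F413667) (tt N115722 F496518) (tt N59684 (iv4 D199826)) (tt N96795 (iv5 F413986)) (tt N88233 F413668) (tt N95299 F413669))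
theorem Q96737 : ∀ i, i < 96737 → P i := stepQ 96736 Q96736 (allL N96736 (tt N59690 (iv1 F413672)) (tt N59689 (iv0 D199827)) (tt N59736 (iv2 F413671)) (tt N79838 F413676) (tt N92116 F413670) (tt N91247 (iv5 F413675)) (tt N59784 (iv6 F413674)) (tt N59692 F413673))
theorem Q96738 : ∀ i, i < 96738 → P i := stepQ 96737 Q96737 (allL N96737 (tt N71035 F413693) (tt N96943 (iv0 F414710)) (tt N59738 F413689) (tt N86868 F413690) (tt N87138 F413692) (tt N59689 (iv5 D199828)) (tt N105690 F451273) (tt N59743 F413691))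
theorem Q96739 : ∀ i, i < 96739 → P i := stepQ 96738 Q96738 (allL N96738 (tt N74813 F413698) (tt N79665 (iv0 F413700)) (tt N91192 F413694) (tt N59690 (iv3 D199829)) (tt N60003 F413695) (tt N112435 (iv5 F481096)) (tt N84699 F413696) (tt N59737 F413697))
theorem Q96740 : ∀ i, i < 96740 → P i := stepQ 96739 Q96739 (allL N96739 (tt N96943 (iv1 F414711)) (tt N71035 F413704) (tt N59743 F413701) (tt N112435 F481097) (tt N87567 F413702) (tt N59690 (iv5 D199830)) (tt N115483 (iv6 F495420)) (tt N59738 F413703))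
theorem Q96741 : ∀ i, i < 96741 → P i := stepQ 96740 Q96740 (allL N96740 (tt N71717 (iv1 F413710)) (tt N59760 F413709) (tt N59691 (iv2 D199831)) (tt N71725 F413705) (tt N93253 F413706) (tt N110601 (iv5 F472330)) (tt N79837 F413707) (tt N71718 F413708))
theorem Q96742 : ∀ i, i < 96742 → P i := stepQ 96741 Q96741 (allL N96741 (tt N59928 F413715) (tt N59930 F413716) (tt N71729 F413711) (tt N80660 F413712) (tt N97180 (iv4 F415781)) (tt N59692 (iv5 D199832)) (tt N87471 F413713) (tt N91247 F413714))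
theorem Q96743 : ∀ i, i < 96743 → P i := stepQ 96742 Q96742 (allL N96742 (tt N59744 (iv1 F413722)) (tt N95315 (iv0 F413721)) (tt N71705 F413717) (tt N117672 (iv3 F506337)) (tt N66025 F413718) (tt N95297 F413719) (tt N59694 (iv6 D199833)) (tt N95342 F413720))
theorem Q96744 : ∀ i, i < 96744 → P i := stepQ 96743 Q96743 (allL N96743 (tt N71869 F413726) (tt N71021 F413727) (tt N71199 F413723) (tt N73994 F413728) (tt N59699 (iv4 D199834)) (tt N107131 (iv5 F457120)) (tt N70850 F413724) (tt N70974 F413725))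
theorem Q96745 : ∀ i, i < 96745 → P i := stepQ 96744 Q96744 (allL N96744 (tt N65568 (iv1 F413730)) (tt N59701 (iv0 D199835)) (tt N65567 F413736) (tt N67487 F413729) (tt N87718 F413731) (tt N65645 (iv5 F413734)) (tt N67484 (iv6 F413733)) (tt N65566 F413735))
theorem Q96746 : ∀ i, i < 96746 → P i := stepQ 96745 Q96745 (allL N96745 (tt N59701 (iv1 D199836)) (tt N65568 F413740) (tt N65566 (iv2 F413744)) (tt N112657 (iv3 F482035)) (tt N87719 (iv4 F413742)) (tt N65511 (iv5 F413745)) (tt N65513 F413743) (tt N65567 F413741))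
theorem Q96747 : ∀ i, i < 96747 → P i := stepQ 96746 Q96746 (allL N96746 (tt N102223 (iv1 F436252)) (tt N94785 F413749) (tt N71734 F413746) (tt N112870 (iv3 F483059)) (tt N59702 (iv4 D199837)) (tt N97433 (iv5 F416887)) (tt N79678 F413747) (tt N71731 F413748))
theorem Q96748 : ∀ i, i < 96748 → P i := stepQ 96747 Q96747 (allL N96747 (tt N81010 F413754) (tt N89085 (iv0 F413755)) (tt N89887 F413750) (tt N59704 (iv3 D199838)) (tt N73089 F413751) (tt N113150 (iv5 F484206)) (tt N59778 F413752) (tt N89888 F413753))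
theorem Q96749 : ∀ i, i < 96749 → P i := stepQ 96748 Q96748 (allL N96748 (tt N116028 (iv1 F498130)) (tt N107896 F460167) (tt N95460 F413756) (tt N109280 (iv3 F466163)) (tt N59707 (iv4 D199839)) (tt N114919 F492534) (tt N115440 F495212) (tt N95457 F413757))
theorem Q96750 : ∀ i, i < 96750 → P i := stepQ 96749 Q96749 (allL N96749 (tt N95484 (iv1 F413761)) (tt N59801 (iv0 F413760)) (tt N95462 F413758) (tt N81170 F413759) (tt N115440 (iv4 F495211)) (tt N115878 (iv5 F497368)) (tt N59707 (iv6 D199840)) (tt N95483 (iv7 F414150)))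
theorem Q96751 : ∀ i, i < 96751 → P i := stepQ 96750 Q96750 (allL N96750 (tt N107896 F460166) (tt N116028 (iv0 F498129)) (tt N95457 F413762) (tt N96306 F413765) (tt N59708 (iv4 D199841)) (tt N96385 F413764) (tt N112826 (iv6 F482812)) (tt N95460 F413763))
theorem Q96752 : ∀ i, i < 96752 → P i := stepQ 96751 Q96751 (allL N96751 (tt N59728 F474548) (tt N111077 F474555) (tt N95458 F413766) (tt N115436 (iv3 F495189)) (tt N112826 (iv4 F482814)) (tt N115744 (iv5 F496624)) (tt N59708 (iv6 D199842)) (tt N111076 (iv7 F474543)))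
theorem Q96753 : ∀ i, i < 96753 → P i := stepQ 96752 Q96752 (allL N96752 (tt N87721 F413771) (tt N87709 (iv0 F413772)) (tt N87718 F413767) (tt N59711 (iv3 D199843)) (tt N65567 F413768) (tt N108971 (iv5 F464719)) (tt N79874 F413769) (tt N87719 F413770))
theorem Q96754 : ∀ i, i < 96754 → P i := stepQ 96753 Q96753 (allL N96753 (tt N59722 F413776) (tt N73320 F413778) (tt N73776 F413773) (tt N79952 F413774) (tt N73775 F413777) (tt N59712 (iv5 D199844)) (tt N79950 (iv6 F413779)) (tt N73813 F413775))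
theorem Q96755 : ∀ i, i < 96755 → P i := stepQ 96754 Q96754 (allL N96754 (tt N81174 (iv1 F413785)) (tt N95381 (iv0 F413784)) (tt N80165 F413780) (tt N81164 F413781) (tt N64245 F413782) (tt N119235 D222494) (tt N59712 (iv6 D199845)) (tt N79881 F413783))
theorem Q96756 : ∀ i, i < 96756 → P i := stepQ 96755 Q96755 (allL N96755 (tt N112850 (iv1 F482960)) (tt N115417 F495094) (tt N115415 (iv2 F495078)) (tt N59716 F413786) (tt N60763 F413787) (tt N81032 (iv5 F413789)) (tt N59715 (iv6 D199846)) (tt N83718 F413788))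
theorem Q96757 : ∀ i, i < 96757 → P i := stepQ 96756 Q96756 (allL N96756 (tt N89915 F413795) (tt N118806 (iv0 F512174)) (tt N59719 F413790) (tt N75245 F413791) (tt N91115 F413792) (tt N78658 F413793) (tt N59717 (iv6 D199847)) (tt N87208 F413794))
theorem Q96758 : ∀ i, i < 96758 → P i := stepQ 96757 Q96757 (allL N96757 (tt N87208 (iv1 F413799)) (tt N59719 (iv0 D199848)) (tt N89915 (iv2 F413797)) (tt N92643 F413800) (tt N96229 F413796) (tt N113836 (iv5 F487362)) (tt N87259 (iv6 F413798)) (tt N118806 (iv7 F512173)))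
theorem Q96759 : ∀ i, i < 96759 → P i := stepQ 96758 Q96758 (allL N96758 (tt N59719 (iv1 D199849)) (tt N87208 F413810) (tt N118806 (iv2 F512169)) (tt N87287 (iv3 F413812)) (tt N109094 (iv4 F465306)) (tt N111071 (iv5 F474527)) (tt N102950 F439401) (tt N89915 F413811))
theorem Q96760 : ∀ i, i < 96760 → P i := stepQ 96759 Q96759 (allL N96759 (tt N118806 F512175) (tt N89915 (iv0 F413818)) (tt N87208 F413813) (tt N59727 F413814) (tt N96262 F413815) (tt N81585 F413816) (tt N87205 F413817) (tt N59719 (iv7 D199850)))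
theorem Q96761 : ∀ i, i < 96761 → P i := stepQ 96760 Q96760 (allL N96760 (tt N87191 (iv1 F413824)) (tt N87188 (iv0 F413823)) (tt N87189 F413819) (tt N88530 F413820) (tt N109796 (iv4 F468650)) (tt N73623 F413821) (tt N59724 (iv6 D199851)) (tt N87190 F413822))
theorem Q96762 : ∀ i, i < 96762 → P i := stepQ 96761 Q96761 (allL N96761 (tt N108972 F464725) (tt N109535 F467418) (tt N92549 F413825) (tt N59725 (iv3 D199852)) (tt N73321 F413826) (tt N119000 (iv5 F513206)) (tt N73320 F413827) (tt N99752 (iv7 F426065)))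
theorem Q96763 : ∀ i, i < 96763 → P i := stepQ 96762 Q96762 (allL N96762 (tt N111077 (iv1 F474554)) (tt N59728 (iv0 D199853)) (tt N111076 F474546) (tt N81563 F413828) (tt N111710 (iv4 F477605)) (tt N115488 (iv5 F495451)) (tt N95483 F414151) (tt N95458 (iv7 F413829)))
theorem Q96764 : ∀ i, i < 96764 → P i := stepQ 96763 Q96763 (allL N96763 (tt N111076 F474545) (tt N95458 F413833) (tt N59728 (iv2 D199855)) (tt N78473 F413830) (tt N78475 F413831) (tt N112445 F481139) (tt N95411 F413832) (tt N111077 (iv7 F474553)))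
theorem Q96765 : ∀ i, i < 96765 → P i := stepQ 96764 Q96764 (allL N96764 (tt N82128 F474549) (tt N115284 (iv0 F494375)) (tt N112445 (iv2 F481136)) (tt N59729 F413834) (tt N111754 (iv4 F477803)) (tt N59728 (iv5 D199856)) (tt N111122 F474783) (tt N96936 (iv7 F414676)))
theorem Q96766 : ∀ i, i < 96766 → P i := stepQ 96765 Q96765 (allL N96765 (tt N104031 (iv1 F443880)) (tt N115713 (iv0 F496461)) (tt N96940 (iv2 F414693)) (tt N87594 F413835) (tt N59729 (iv4 D199857)) (tt N104228 (iv5 F444807)) (tt N70470 F413838) (tt N96937 (iv7 F414678)))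
theorem Q96767 : ∀ i, i < 96767 → P i := stepQ 96766 Q96766 (allL N96766 (tt N98762 (iv1 F422204)) (tt N108740 F463768) (tt N96941 (iv2 F414696)) (tt N111122 F474779) (tt N70470 (iv4 F413837)) (tt N95413 F413836) (tt N59729 (iv6 D199858)) (tt N104833 (iv7 F447521)))
theorem Q96768 : ∀ i, i < 96768 → P i := stepQ 96767 Q96767 (allL N96767 (tt N79884 F414178) (tt N79887 (iv0 F413841)) (tt N109804 (iv2 F468698)) (tt N59732 F413839) (tt N100135 (iv4 F427631)) (tt N110915 (iv5 F473767)) (tt N59730 (iv6 D199859)) (tt N95417 F413840))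
theorem Q96769 : ∀ i, i < 96769 → P i := stepQ 96768 Q96768 (allL N96768 (tt N115713 F496462) (tt N104031 (iv0 F443879)) (tt N96937 (iv2 F414677)) (tt N113698 (iv3 F486692)) (tt N59731 (iv4 D199860)) (tt N75236 F413843) (tt N75239 F413842) (tt N96940 (iv7 F414694)))
theorem Q96770 : ∀ i, i < 96770 → P i := stepQ 96769 Q96769 (allL N96769 (tt N115488 F495455) (tt N115744 F496627) (tt N115725 (iv2 F496529)) (tt N59733 (iv3 D199861)) (tt N104987 (iv4 F448279)) (tt N59919 F413844) (tt N87932 F413845) (tt N111079 (iv7 F474565)))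
theorem Q96771 : ∀ i, i < 96771 → P i := stepQ 96770 Q96770 (allL N96770 (tt N79875 (iv1 F413851)) (tt N79880 (iv0 F413850)) (tt N82472 F413848) (tt N59734 (iv3 D199862)) (tt N108576 (iv4 F463120)) (tt N59921 F413846) (tt N67158 (iv6 F413849)) (tt N82473 F413847))
theorem Q96772 : ∀ i, i < 96772 → P i := stepQ 96771 Q96771 (allL N96771 (tt N60174 F413852) (tt N86902 F413853) (tt N97258 (iv2 F416105)) (tt N85409 (iv3 F413854)) (tt N59734 (iv4 D199863)) (tt N104085 (iv5 F444096)) (tt N105686 (iv6 F451250)) (tt N111080 (iv7 F474570)))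
theorem Q96773 : ∀ i, i < 96773 → P i := stepQ 96772 Q96772 (allL N96772 (tt N62475 F413859) (tt N62479 F413860) (tt N73629 F413855) (tt N67158 F413856) (tt N105686 (iv4 F451246)) (tt N62675 (iv5 F413858)) (tt N59734 (iv6 D199864)) (tt N73630 F413857))
theorem Q96774 : ∀ i, i < 96774 → P i := stepQ 96773 Q96773 (allL N96773 (tt N119236 D222495) (tt N91187 (iv0 F417179)) (tt N111060 (iv2 F474463)) (tt N59736 (iv3 D199865)) (tt N82756 F413861) (tt N116068 (iv5 F498303)) (tt N87760 F413862) (tt N71727 F413863))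
theorem Q96775 : ∀ i, i < 96775 → P i := stepQ 96774 Q96774 (allL N96774 (tt N59930 F413867) (tt N59928 F413868) (tt N91247 F413864) (tt N116068 (iv3 F498305)) (tt N83788 F413866) (tt N59736 (iv5 D199866)) (tt N83787 (iv6 F413869)) (tt N71729 F413865))
theorem Q96776 : ∀ i, i < 96776 → P i := stepQ 96775 Q96775 (allL N96775 (tt N111116 (iv1 F474744)) (tt N93166 (iv0 F413873)) (tt N112431 (iv2 F481067)) (tt N59738 F413870) (tt N86418 F413872) (tt N59737 (iv5 D199867)) (tt N86417 F413871) (tt N112435 (iv7 F481095)))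
theorem Q96777 : ∀ i, i < 96777 → P i := stepQ 96776 Q96776 (allL N96776 (tt N59738 (iv1 D199868)) (tt N59743 F413874) (tt N96943 (iv2 F414708)) (tt N85746 (iv3 F413877)) (tt N119237 D222496) (tt N71036 F413876) (tt N73680 F413878) (tt N71035 F413875))
theorem Q96778 : ∀ i, i < 96778 → P i := stepQ 96777 Q96777 (allL N96777 (tt N87566 F413882) (tt N86841 F413883) (tt N87138 F413879) (tt N87549 F413880) (tt N59738 (iv4 D199869)) (tt N104091 (iv5 F444134)) (tt N69382 (iv6 F413884)) (tt N87567 F413881))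
theorem Q96779 : ∀ i, i < 96779 → P i := stepQ 96778 Q96778 (allL N96778 (tt N73674 F413888) (tt N105693 F451288) (tt N105690 (iv2 F451274)) (tt N86417 F413885) (tt N69382 F413886) (tt N91915 F413887) (tt N59738 (iv6 D199870)) (tt N105689 F451267))
theorem Q96780 : ∀ i, i < 96780 → P i := stepQ 96779 Q96779 (allL N96779 (tt N66027 F413894) (tt N66024 (iv0 F413896)) (tt N65606 F413889) (tt N67380 F413890) (tt N59742 F413891) (tt N67378 F413892) (tt N59741 (iv6 D199871)) (tt N92052 F413893))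
theorem Q96781 : ∀ i, i < 96781 → P i := stepQ 96780 Q96780 (allL N96780 (tt N95315 (iv1 F413901)) (tt N59744 (iv0 D199872)) (tt N95342 (iv2 F413900)) (tt N112430 (iv3 F481061)) (tt N96960 (iv4 F414797)) (tt N95298 F413898) (tt N59792 F413899) (tt N71705 F413902))
theorem Q96782 : ∀ i, i < 96782 → P i := stepQ 96781 Q96781 (allL N96781 (tt N96732 F413906) (tt N88265 F413905) (tt N84698 F413903) (tt N97317 (iv3 F416328)) (tt N115452 (iv4 F495262)) (tt N59744 (iv5 D199873)) (tt N97316 F416327) (tt N95439 F413904))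
theorem Q96783 : ∀ i, i < 96783 → P i := stepQ 96782 Q96782 (allL N96782 (tt N114431 F490127) (tt N104944 (iv0 F448062)) (tt N87532 (iv2 F413912)) (tt N59745 (iv3 D199874)) (tt N68643 F413907) (tt N87134 F413908) (tt N70611 F413909) (tt N68213 F413910))
theorem Q96784 : ∀ i, i < 96784 → P i := stepQ 96783 Q96783 (allL N96783 (tt N81977 F413917) (tt N80990 (iv0 F413918)) (tt N95835 (iv2 F413919)) (tt N59746 (iv3 D199875)) (tt N59987 F413913) (tt N94597 F413914) (tt N64621 F413915) (tt N64965 F413916))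
theorem Q96785 : ∀ i, i < 96785 → P i := stepQ 96784 Q96784 (allL N96784 (tt N97759 F418199) (tt N80984 (iv0 F413926)) (tt N81227 F413921) (tt N59749 (iv3 D199876)) (tt N93966 F413922) (tt N81226 F413923) (tt N73081 F413924) (tt N94813 F413925))
theorem Q96786 : ∀ i, i < 96786 → P i := stepQ 96785 Q96785 (allL N96785 (tt N94845 F417538) (tt N94687 (iv0 F413930)) (tt N94843 F413931) (tt N59751 (iv3 D199877)) (tt N102030 (iv4 F435441)) (tt N81769 F413927) (tt N67455 F413928) (tt N94815 F413929))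
theorem Q96787 : ∀ i, i < 96787 → P i := stepQ 96786 Q96786 (allL N96786 (tt N111384 F476106) (tt N112407 (iv0 F480976)) (tt N111061 (iv2 F474471)) (tt N59763 (iv3 D199878)) (tt N79838 F413933) (tt N119197 (iv5 F514313)) (tt N94993 F413934) (tt N93254 F413935))
theorem Q96788 : ∀ i, i < 96788 → P i := stepQ 96787 Q96787 (allL N96787 (tt N96337 F413940) (tt N79195 F413941) (tt N73539 F413936) (tt N94909 F413937) (tt N59764 (iv4 D199879)) (tt N96694 F413939) (tt N73451 F413942) (tt N94909 F413938))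
theorem Q96789 : ∀ i, i < 96789 → P i := stepQ 96788 Q96788 (allL N96788 (tt N93314 (iv1 F413950)) (tt N108208 (iv0 F461501)) (tt N73538 F413945) (tt N73518 F413946) (tt N73451 F413947) (tt N78070 F413948) (tt N59764 (iv6 D199880)) (tt N73536 (iv7 F413949)))
theorem Q96790 : ∀ i, i < 96790 → P i := stepQ 96789 Q96789 (allL N96789 (tt N95453 (iv1 F413956)) (tt N91519 (iv0 F413955)) (tt N59769 F413951) (tt N87819 F413952) (tt N92082 F413953) (tt N98159 (iv5 F419773)) (tt N59767 (iv6 D199881)) (tt N91971 F413954))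
theorem Q96791 : ∀ i, i < 96791 → P i := stepQ 96790 Q96790 (allL N96790 (tt N71055 (iv1 F413960)) (tt N59768 (iv0 D199882)) (tt N71057 (iv2 F413961)) (tt N73650 (iv3 F413962)) (tt N93666 F413958) (tt N59786 F413957) (tt N85268 F413959) (tt N71056 F413963))
theorem Q96792 : ∀ i, i < 96792 → P i := stepQ 96791 Q96791 (allL N96791 (tt N59768 (iv1 D199883)) (tt N71055 F413964) (tt N71056 F413969) (tt N79636 (iv3 F413968)) (tt N93667 F413967) (tt N59787 F413966) (tt N119238 D222497) (tt N71057 F413965))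
theorem Q96793 : ∀ i, i < 96793 → P i := stepQ 96792 Q96792 (allL N96792 (tt N91971 (iv1 F413970)) (tt N59769 (iv0 D199884)) (tt N95453 (iv2 F413977)) (tt N91997 (iv3 F461853)) (tt N118082 (iv4 F508472)) (tt N114249 (iv5 F489210)) (tt N117639 F506153) (tt N91519 F413976))
theorem Q96794 : ∀ i, i < 96794 → P i := stepQ 96793 Q96793 (allL N96793 (tt N59769 (iv1 D199885)) (tt N91971 F413971) (tt N91519 F413974) (tt N80139 (iv3 F413972)) (tt N102211 (iv4 F436207)) (tt N111738 (iv5 F477738)) (tt N80138 (iv6 F413973)) (tt N95453 (iv7 F413975)))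
theorem Q96795 : ∀ i, i < 96795 → P i := stepQ 96794 Q96794 (allL N96794 (tt N103964 (iv1 F443730)) (tt N68381 (iv0 F413982)) (tt N98159 (iv2 F419770)) (tt N59771 F413978) (tt N68123 (iv4 F413981)) (tt N59769 (iv5 D199886)) (tt N92201 F413979) (tt N95454 F413980))
theorem Q96796 : ∀ i, i < 96796 → P i := stepQ 96795 Q96795 (allL N96795 (tt N118980 (iv1 F513100)) (tt N111229 (iv0 F475330)) (tt N95299 F413984) (tt N108489 (iv3 F462805)) (tt N59771 (iv4 D199887)) (tt N96735 F413986) (tt N108488 F462803) (tt N95455 F413985))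
theorem Q96797 : ∀ i, i < 96797 → P i := stepQ 96796 Q96796 (allL N96796 (tt N87728 F413990) (tt N95375 (iv0 F413991)) (tt N103328 (iv2 F441154)) (tt N59772 (iv3 D199888)) (tt N93226 F413989) (tt N93664 F413987) (tt N97622 (iv6 F417640)) (tt N87459 F413988))
theorem Q96798 : ∀ i, i < 96798 → P i := stepQ 96797 Q96797 (allL N96797 (tt N91000 (iv1 F413994)) (tt N59773 (iv0 D199889)) (tt N91642 (iv2 F413996)) (tt N96610 (iv3 F413995)) (tt N99471 (iv4 F424729)) (tt N59890 F413992) (tt N87196 F413993) (tt N91643 (iv7 F413997)))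
theorem Q96799 : ∀ i, i < 96799 → P i := stepQ 96798 Q96798 (allL N96798 (tt N59773 (iv1 D199890)) (tt N91000 F413998) (tt N91643 F414003) (tt N74025 (iv3 F414001)) (tt N99472 (iv4 F424733)) (tt N59891 F414000) (tt N74023 (iv6 F414002)) (tt N91642 F413999))
theorem Q96800 : ∀ i, i < 96800 → P i := stepQ 96799 Q96799 (allL N96799 (tt N59825 (iv1 F414009)) (tt N59775 (iv0 D199891)) (tt N59822 (iv2 F414008)) (tt N112070 (iv3 F479345)) (tt N84192 F414005) (tt N59864 F414004) (tt N63497 F414007) (tt N59823 F414010))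
theorem Q96801 : ∀ i, i < 96801 → P i := stepQ 96800 Q96800 (allL N96800 (tt N65620 (iv1 F414013)) (tt N59776 (iv0 D199892)) (tt N65619 F414015) (tt N84566 F414012) (tt N101988 (iv4 F435241)) (tt N69438 F414011) (tt N101991 (iv6 F435254)) (tt N65618 (iv7 F414014)))
theorem Q96802 : ∀ i, i < 96802 → P i := stepQ 96801 Q96801 (allL N96801 (tt N59776 (iv1 D199893)) (tt N65620 F414016) (tt N65618 (iv2 F414019)) (tt N109386 (iv3 F466701)) (tt N102084 (iv4 F435648)) (tt N67769 F414018) (tt N87761 F414020) (tt N65619 F414017))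
theorem Q96803 : ∀ i, i < 96803 → P i := stepQ 96802 Q96802 (allL N96802 (tt N114226 F489090) (tt N111477 (iv0 F476526)) (tt N114809 (iv2 F491982)) (tt N59777 F414021) (tt N65502 F414022) (tt N110968 (iv5 F474010)) (tt N59776 (iv6 D199894)) (tt N91300 F414023))
theorem Q96804 : ∀ i, i < 96804 → P i := stepQ 96803 Q96803 (allL N96803 (tt N95623 F414026) (tt N84555 F414027) (tt N92331 F414024) (tt N110968 (iv3 F474009)) (tt N118897 (iv4 F512634)) (tt N59777 (iv5 D199895)) (tt N106101 (iv6 F453112)) (tt N87367 F414025))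
theorem Q96805 : ∀ i, i < 96805 → P i := stepQ 96804 Q96804 (allL N96804 (tt N59778 (iv1 D199896)) (tt N92329 F414033) (tt N59830 F414032) (tt N75600 (iv3 F414030)) (tt N96308 F414029) (tt N96619 (iv5 F414031)) (tt N117152 (iv6 F503652)) (tt N92328 F414028))
theorem Q96806 : ∀ i, i < 96806 → P i := stepQ 96805 Q96805 (allL N96805 (tt N92328 (iv1 F414040)) (tt N59830 F414039) (tt N59778 (iv2 D199897)) (tt N65620 F414034) (tt N73088 F414035) (tt N73293 F414036) (tt N89887 F414037) (tt N92329 F414038))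
theorem Q96807 : ∀ i, i < 96807 → P i := stepQ 96806 Q96806 (allL N96806 (tt N75600 F414046) (tt N59827 (iv0 F414047)) (tt N95444 F414041) (tt N59779 (iv3 D199898)) (tt N59981 F414042) (tt N72648 F414043) (tt N79659 F414044) (tt N91294 F414045))
theorem Q96808 : ∀ i, i < 96808 → P i := stepQ 96807 Q96807 (allL N96807 (tt N71041 F414052) (tt N62112 F414053) (tt N59781 F414048) (tt N93659 F414049) (tt N82155 F414050) (tt N59780 (iv5 D199899)) (tt N117472 F505207) (tt N95334 F414051))
theorem Q96809 : ∀ i, i < 96809 → P i := stepQ 96808 Q96808 (allL N96808 (tt N82153 F414058) (tt N81832 F414059) (tt N82155 F414054) (tt N72726 F414055) (tt N59781 (iv4 D199900)) (tt N82014 F414056) (tt N119239 D222498) (tt N82154 F414057))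
theorem Q96810 : ∀ i, i < 96810 → P i := stepQ 96809 Q96809 (allL N96809 (tt N106442 F454462) (tt N67003 (iv0 F414061)) (tt N117472 (iv2 F505208)) (tt N59783 F414060) (tt N119239 (iv4 F514555)) (tt N108151 (iv5 F461312)) (tt N59781 (iv6 D199901)) (tt N117442 (iv7 F505049)))
theorem Q96811 : ∀ i, i < 96811 → P i := stepQ 96810 Q96810 (allL N96810 (tt N59783 (iv1 D199902)) (tt N74127 (iv0 F414065)) (tt N74129 (iv2 F414064)) (tt N117130 (iv3 F503542)) (tt N117874 F507379) (tt N119240 D222499) (tt N110963 (iv6 F473985)) (tt N74118 F414063))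
theorem Q96812 : ∀ i, i < 96812 → P i := stepQ 96811 Q96811 (allL N96811 (tt N119241 D222500) (tt N119242 D222501) (tt N95355 F414069) (tt N108151 F461313) (tt N108177 (iv4 F461406)) (tt N59783 (iv5 D199903)) (tt N59785 F414070) (tt N119243 D222502))
theorem Q96813 : ∀ i, i < 96813 → P i := stepQ 96812 Q96812 (allL N96812 (tt N74129 (iv1 F414073)) (tt N74118 F414074) (tt N74127 F414071) (tt N117442 (iv3 F505046)) (tt N97114 (iv4 F415503)) (tt N119243 (iv5 F514582)) (tt N95341 F414072) (tt N59783 (iv7 D199904)))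
theorem Q96814 : ∀ i, i < 96814 → P i := stepQ 96813 Q96813 (allL N96813 (tt N80810 F414078) (tt N81161 (iv0 F414082)) (tt N81160 F414079) (tt N59784 (iv3 D199905)) (tt N94993 F414075) (tt N119244 D222503) (tt N79838 F414076) (tt N71720 F414077))
theorem Q96815 : ∀ i, i < 96815 → P i := stepQ 96814 Q96814 (allL N96814 (tt N95662 F414085) (tt N95606 F414086) (tt N95356 F414083) (tt N119244 (iv3 F514587)) (tt N106533 (iv4 F454790)) (tt N59784 (iv5 D199906)) (tt N115391 (iv6 F494957)) (tt N71722 F414084))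
theorem Q96816 : ∀ i, i < 96816 → P i := stepQ 96815 Q96815 (allL N96815 (tt N95359 (iv1 F414088)) (tt N59785 (iv0 D199907)) (tt N88119 (iv2 F414089)) (tt N88073 (iv3 F414090)) (tt N118873 (iv4 F512510)) (tt N91291 F414087) (tt N88089 (iv6 F414091)) (tt N95357 (iv7 F414092)))
theorem Q96817 : ∀ i, i < 96817 → P i := stepQ 96816 Q96816 (allL N96816 (tt N59785 (iv1 D199908)) (tt N95359 F414093) (tt N95357 (iv2 F414096)) (tt N112235 (iv3 F480167)) (tt N118874 (iv4 F512518)) (tt N96733 F414095) (tt N119193 F514295) (tt N88119 F414094))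
theorem Q96818 : ∀ i, i < 96818 → P i := stepQ 96817 Q96817 (allL N96817 (tt N96097 F414101) (tt N67290 F414102) (tt N74659 F414097) (tt N97524 F417249) (tt N59786 (iv4 D199909)) (tt N68730 F414098) (tt N91815 F414099) (tt N95349 F414100))
theorem Q96819 : ∀ i, i < 96819 → P i := stepQ 96818 Q96818 (allL N96818 (tt N60550 F414106) (tt N62663 F414107) (tt N59790 F414103) (tt N95335 F414104) (tt N97042 (iv4 F415182)) (tt N92675 F414105) (tt N59788 (iv6 D199910)) (tt N102324 (iv7 F436731)))
theorem Q96820 : ∀ i, i < 96820 → P i := stepQ 96819 Q96819 (allL N96819 (tt N62663 (iv1 F414111)) (tt N60550 F414112) (tt N102324 (iv2 F436729)) (tt N59795 F414108) (tt N97043 (iv4 F415187)) (tt N65862 F414109) (tt N95354 F414110) (tt N59790 (iv7 D199911)))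
theorem Q96821 : ∀ i, i < 96821 → P i := stepQ 96820 Q96820 (allL N96820 (tt N80920 F414116) (tt N117152 (iv0 F503655)) (tt N108960 (iv2 F464676)) (tt N59792 (iv3 D199912)) (tt N73079 F414113) (tt N71650 F414114) (tt N112430 (iv6 F481064)) (tt N95343 F414115))
theorem Q96822 : ∀ i, i < 96822 → P i := stepQ 96821 Q96821 (allL N96821 (tt N95346 (iv1 F414121)) (tt N59794 (iv0 D199913)) (tt N95344 (iv2 F414118)) (tt N116454 (iv3 F500210)) (tt N109627 (iv4 F467814)) (tt N77800 F414117) (tt N76249 F414119) (tt N77799 F414120))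
theorem Q96823 : ∀ i, i < 96823 → P i := stepQ 96822 Q96822 (allL N96822 (tt N77799 (iv1 F414126)) (tt N95344 F414127) (tt N95346 F414122) (tt N65862 F414123) (tt N65863 F414124) (tt N59795 F414125) (tt N104737 (iv6 F447046)) (tt N59794 (iv7 D199914)))
theorem Q96824 : ∀ i, i < 96824 → P i := stepQ 96823 Q96823 (allL N96823 (tt N59863 F414131) (tt N59860 F414133) (tt N62688 F414128) (tt N104871 (iv3 F447731)) (tt N62685 F414132) (tt N59796 (iv5 D199915)) (tt N82130 F414129) (tt N62691 F414130))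
theorem Q96825 : ∀ i, i < 96825 → P i := stepQ 96824 Q96824 (allL N96824 (tt N62156 F414137) (tt N76846 F414138) (tt N62028 F414134) (tt N107494 (iv3 F458521)) (tt N59797 (iv4 D199916)) (tt N109920 (iv5 F469223)) (tt N61783 F414135) (tt N95348 F414136))
theorem Q96826 : ∀ i, i < 96826 → P i := stepQ 96825 Q96825 (allL N96825 (tt N118696 F511597) (tt N115437 (iv0 F495198)) (tt N95362 F414139) (tt N82489 F414140) (tt N59798 (iv4 D199917)) (tt N99886 (iv5 F426682)) (tt N82487 F414141) (tt N95360 F414142))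
theorem Q96827 : ∀ i, i < 96827 → P i := stepQ 96826 Q96826 (allL N96826 (tt N95462 F414147) (tt N95483 F414149) (tt N59801 F414143) (tt N95381 F414144) (tt N94830 F414145) (tt N119245 D222504) (tt N59800 (iv6 D199918)) (tt N95484 F414146))
theorem Q96828 : ∀ i, i < 96828 → P i := stepQ 96827 Q96827 (allL N96827 (tt N59801 (iv1 D199919)) (tt N95484 F414152) (tt N95483 (iv2 F414154)) (tt N91843 (iv3 F414155)) (tt N112638 (iv4 F481947)) (tt N111508 (iv5 F476649)) (tt N111076 (iv6 F474547)) (tt N95462 F414153))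
theorem Q96829 : ∀ i, i < 96829 → P i := stepQ 96828 Q96828 (allL N96828 (tt N87330 F414159) (tt N116026 F498119) (tt N119245 (iv2 F514593)) (tt N59802 F414156) (tt N95644 F414158) (tt N59801 (iv5 D199920)) (tt N115838 (iv6 F497159)) (tt N95485 F414157))
theorem Q96830 : ∀ i, i < 96830 → P i := stepQ 96829 Q96829 (allL N96829 (tt N115995 F497958) (tt N118861 (iv0 F512452)) (tt N95391 F414160) (tt N119246 D222505) (tt N59802 (iv4 D199921)) (tt N106480 (iv5 F454610)) (tt N118937 (iv6 F512846)) (tt N95486 F414161))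
theorem Q96831 : ∀ i, i < 96831 → P i := stepQ 96830 Q96830 (allL N96830 (tt N62096 F414165) (tt N59813 F414166) (tt N95378 F414162) (tt N91633 F414163) (tt N99087 (iv4 F423285)) (tt N59803 (iv5 D199922)) (tt N91632 F414167) (tt N95376 F414164))
theorem Q96832 : ∀ i, i < 96832 → P i := stepQ 96831 Q96831 (allL N96831 (tt N118300 F509591) (tt N106721 (iv0 F455403)) (tt N59806 F414169) (tt N95364 F414170) (tt N80820 F414171) (tt N119247 D222506) (tt N59805 (iv6 D199923)) (tt N81222 F414172))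
theorem Q96833 : ∀ i, i < 96833 → P i := stepQ 96832 Q96832 (allL N96832 (tt N81222 (iv1 F414177)) (tt N59806 (iv0 D199924)) (tt N118300 (iv2 F509585)) (tt N62671 (iv3 F414175)) (tt N79885 F414174) (tt N62670 F414173) (tt N79884 (iv6 F414176)) (tt N106721 (iv7 F455401)))
theorem Q96834 : ∀ i, i < 96834 → P i := stepQ 96833 Q96833 (allL N96833 (tt N59806 (iv1 D199925)) (tt N81222 F414179) (tt N106721 (iv2 F455398)) (tt N97039 (iv3 F415152)) (tt N81785 F414181) (tt N97038 F415149) (tt N81784 (iv6 F414180)) (tt N118300 (iv7 F509589)))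
theorem Q96835 : ∀ i, i < 96835 → P i := stepQ 96834 Q96834 (allL N96834 (tt N111135 (iv1 F474865)) (tt N111136 (iv0 F474870)) (tt N119247 (iv2 F514604)) (tt N59807 F414182) (tt N107518 (iv4 F458634)) (tt N59806 (iv5 D199926)) (tt N99641 F425555) (tt N96886 (iv7 F414450)))
theorem Q96836 : ∀ i, i < 96836 → P i := stepQ 96835 Q96835 (allL N96835 (tt N106721 F455404) (tt N118300 (iv0 F509590)) (tt N81222 F414183) (tt N59808 F414184) (tt N80842 F414185) (tt N96886 (iv5 F414449)) (tt N81174 F414186) (tt N59806 (iv7 D199927)))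
theorem Q96837 : ∀ i, i < 96837 → P i := stepQ 96836 Q96836 (allL N96836 (tt N107931 (iv1 F460344)) (tt N99460 (iv0 F424685)) (tt N95373 F414187) (tt N107519 (iv3 F458635)) (tt N59807 (iv4 D199928)) (tt N119248 D222507) (tt N99493 F424841) (tt N96887 (iv7 F414451)))
theorem Q96838 : ∀ i, i < 96838 → P i := stepQ 96837 Q96837 (allL N96837 (tt N102877 F439067) (tt N62385 F414190) (tt N108282 F461866) (tt N62392 F414188) (tt N59811 (iv4 D199929)) (tt N103142 (iv5 F440268)) (tt N63141 F414191) (tt N73318 F414189))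
theorem Q96839 : ∀ i, i < 96839 → P i := stepQ 96838 Q96838 (allL N96838 (tt N62495 (iv1 F414198)) (tt N59857 (iv0 F414197)) (tt N82099 F414192) (tt N59812 F414193) (tt N63141 F414194) (tt N87190 F414195) (tt N59811 (iv6 D199930)) (tt N73623 F414196))
theorem Q96840 : ∀ i, i < 96840 → P i := stepQ 96839 Q96839 (allL N96839 (tt N95378 (iv1 F414205)) (tt N95376 F414204) (tt N59813 (iv2 D199931)) (tt N73625 F414199) (tt N62073 F414200) (tt N59905 F414201) (tt N62077 F414202) (tt N62096 F414203))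
theorem Q96841 : ∀ i, i < 96841 → P i := stepQ 96840 Q96840 (allL N96840 (tt N91097 (iv1 F414210)) (tt N92509 F414211) (tt N73622 F414206) (tt N62609 F414207) (tt N71065 F414208) (tt N99639 (iv5 F425545)) (tt N90978 F414209) (tt N59814 (iv7 D199932)))
theorem Q96842 : ∀ i, i < 96842 → P i := stepQ 96841 Q96841 (allL N96841 (tt N92502 (iv1 F414215)) (tt N59815 (iv0 D199933)) (tt N92473 (iv2 F414214)) (tt N119249 D222508) (tt N73915 F414213) (tt N61949 F414212) (tt N90969 F414217) (tt N92471 F414216))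
theorem Q96843 : ∀ i, i < 96843 → P i := stepQ 96842 Q96842 (allL N96842 (tt N92473 (iv1 F414223)) (tt N92471 F414222) (tt N59815 (iv2 D199934)) (tt N92465 F414218) (tt N91006 F414219) (tt N61823 F414220) (tt N106336 (iv6 F454075)) (tt N92502 F414221))
theorem Q96844 : ∀ i, i < 96844 → P i := stepQ 96843 Q96843 (allL N96843 (tt N109569 (iv1 F467574)) (tt N74509 (iv0 F414226)) (tt N106336 (iv2 F454074)) (tt N59816 F414224) (tt N91007 F414225) (tt N119250 D222509) (tt N59815 (iv6 D199935)) (tt N106332 (iv7 F454067)))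
theorem Q96845 : ∀ i, i < 96845 → P i := stepQ 96844 Q96844 (allL N96844 (tt N59816 (iv1 D199936)) (tt N91349 F414227) (tt N89512 (iv2 F414230)) (tt N116644 (iv3 F501115)) (tt N89508 F414229) (tt N119251 D222510) (tt N119252 D222511) (tt N91345 F414228))
theorem Q96846 : ∀ i, i < 96846 → P i := stepQ 96845 Q96845 (allL N96845 (tt N116061 (iv1 F498278)) (tt N116687 (iv0 F501305)) (tt N92501 F414231) (tt N119250 (iv3 F514625)) (tt N119253 D222512) (tt N59816 (iv5 D199937)) (tt N61825 F414232) (tt N117469 (iv7 F505189)))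
theorem Q96847 : ∀ i, i < 96847 → P i := stepQ 96846 Q96846 (allL N96846 (tt N89512 (iv1 F414236)) (tt N91345 F414237) (tt N91349 F414233) (tt N106332 (iv3 F454066)) (tt N59820 F414234) (tt N117469 (iv5 F505190)) (tt N92507 F414235) (tt N59816 (iv7 D199938)))
theorem Q96848 : ∀ i, i < 96848 → P i := stepQ 96847 Q96847 (allL N96847 (tt N117155 F503666) (tt N91663 (iv0 F473725)) (tt N110538 (iv2 F472048)) (tt N97235 (iv3 F416007)) (tt N117836 (iv4 F507193)) (tt N115535 (iv5 F495675)) (tt N59818 (iv6 D199939)) (tt N97229 (iv7 F415998)))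
theorem Q96849 : ∀ i, i < 96849 → P i := stepQ 96848 Q96848 (allL N96848 (tt N83835 F414240) (tt N102083 (iv0 F435643)) (tt N84192 F414238) (tt N83362 F414241) (tt N59822 (iv4 D199940)) (tt N83360 F414239) (tt N98394 (iv6 F420765)) (tt N111989 (iv7 F478980)))
theorem Q96850 : ∀ i, i < 96850 → P i := stepQ 96849 Q96849 (allL N96849 (tt N102083 (iv1 F435644)) (tt N83835 (iv0 F415888)) (tt N111989 (iv2 F478977)) (tt N80685 F414242) (tt N59823 (iv4 D199941)) (tt N107547 (iv5 F458723)) (tt N80683 F414243) (tt N84192 F414244))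
theorem Q96851 : ∀ i, i < 96851 → P i := stepQ 96850 Q96850 (allL N96850 (tt N95444 (iv1 F414250)) (tt N91294 F414249) (tt N59827 (iv2 D199942)) (tt N92328 F414245) (tt N62539 F414246) (tt N62110 (iv5 F414251)) (tt N80167 F414247) (tt N75600 F414248))
theorem Q96852 : ∀ i, i < 96852 → P i := stepQ 96851 Q96851 (allL N96851 (tt N62115 F414256) (tt N62103 F414257) (tt N62110 F414252) (tt N59828 F414253) (tt N72676 F414255) (tt N59827 (iv5 D199943)) (tt N117123 (iv6 F503508)) (tt N62111 F414254))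
theorem Q96853 : ∀ i, i < 96853 → P i := stepQ 96852 Q96852 (allL N96852 (tt N96497 F414262) (tt N96422 F414263) (tt N96308 F414258) (tt N59829 (iv3 D199944)) (tt N59830 F414259) (tt N115055 (iv5 F493259)) (tt N65043 F414260) (tt N82425 F414261))
theorem Q96854 : ∀ i, i < 96854 → P i := stepQ 96853 Q96853 (allL N96853 (tt N108960 F464680) (tt N95343 (iv0 F414267)) (tt N117152 (iv2 F503650)) (tt N59831 F414264) (tt N65043 F414265) (tt N116202 (iv5 F498986)) (tt N59830 (iv6 D199945)) (tt N80920 F414266))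
theorem Q96855 : ∀ i, i < 96855 → P i := stepQ 96854 Q96854 (allL N96854 (tt N92037 F414271) (tt N92040 (iv0 F414273)) (tt N115761 F496720) (tt N59833 (iv3 D199946)) (tt N65754 F414272) (tt N92645 F414268) (tt N92089 F414269) (tt N95616 F414270))
theorem Q96856 : ∀ i, i < 96856 → P i := stepQ 96855 Q96855 (allL N96855 (tt N78746 F414278) (tt N78747 (iv0 F414280)) (tt N81005 F414274) (tt N59835 (iv3 D199947)) (tt N66034 F414275) (tt N74089 (iv5 F414279)) (tt N59921 F414276) (tt N59862 F414277))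
theorem Q96857 : ∀ i, i < 96857 → P i := stepQ 96856 Q96856 (allL N96856 (tt N62688 F414285) (tt N62691 F414286) (tt N59860 F414281) (tt N74089 F414282) (tt N73099 F414287) (tt N59835 (iv5 D199948)) (tt N62675 F414283) (tt N59863 F414284))
theorem Q96858 : ∀ i, i < 96858 → P i := stepQ 96857 Q96857 (allL N96857 (tt N62020 F414291) (tt N110615 (iv0 F472409)) (tt N59873 F414288) (tt N119254 D222513) (tt N59840 (iv4 D199949)) (tt N73206 F414289) (tt N98731 (iv6 F422060)) (tt N59879 F414290))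
theorem Q96859 : ∀ i, i < 96859 → P i := stepQ 96858 Q96858 (allL N96858 (tt N96369 (iv1 F414296)) (tt N96351 F414297) (tt N95626 F414292) (tt N79234 F414293) (tt N59842 (iv4 D199950)) (tt N113763 (iv5 F487008)) (tt N79232 F414294) (tt N95624 F414295))
theorem Q96860 : ∀ i, i < 96860 → P i := stepQ 96859 Q96859 (allL N96859 (tt N59859 F414304) (tt N115786 (iv0 F496871)) (tt N95625 F414299) (tt N90982 F414300) (tt N96371 F414301) (tt N90980 F414302) (tt N59843 (iv6 D199951)) (tt N118940 (iv7 F512863)))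
theorem Q96861 : ∀ i, i < 96861 → P i := stepQ 96860 Q96860 (allL N96860 (tt N95551 F414309) (tt N95550 F414310) (tt N59845 F414305) (tt N95630 F414306) (tt N93451 F414307) (tt N119001 (iv5 F513213)) (tt N59844 (iv6 D199952)) (tt N95549 F414308))
theorem Q96862 : ∀ i, i < 96862 → P i := stepQ 96861 Q96861 (allL N96861 (tt N59845 (iv1 D199953)) (tt N95549 F414311) (tt N95550 (iv2 F414316)) (tt N117646 (iv3 F506192)) (tt N67315 (iv4 F414313)) (tt N119255 D222514) (tt N117645 F506190) (tt N95551 F414312))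
theorem Q96863 : ∀ i, i < 96863 → P i := stepQ 96862 Q96862 (allL N96862 (tt N59907 (iv1 F414319)) (tt N59846 (iv0 D199954)) (tt N95554 (iv2 F414318)) (tt N92802 (iv3 F414321)) (tt N111229 (iv4 F475326)) (tt N95347 F414317) (tt N65320 F414322) (tt N95553 F414320))
theorem Q96864 : ∀ i, i < 96864 → P i := stepQ 96863 Q96863 (allL N96863 (tt N81005 F414325) (tt N59862 F414326) (tt N78747 F414323) (tt N106692 F455302) (tt N78739 F414324) (tt N106883 (iv5 F456120)) (tt N59847 (iv6 D199955)) (tt N78746 (iv7 F414327)))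
theorem Q96865 : ∀ i, i < 96865 → P i := stepQ 96864 Q96864 (allL N96864 (tt N60601 F414331) (tt N59850 (iv0 F414332)) (tt N86971 F414328) (tt N59848 (iv3 D199956)) (tt N92687 (iv4 F414333)) (tt N86967 F414329) (tt N79265 F414341) (tt N86972 F414330))
theorem Q96866 : ∀ i, i < 96866 → P i := stepQ 96865 Q96865 (allL N96865 (tt N95620 F414340) (tt N95650 (iv0 F414337)) (tt N95629 F414335) (tt N79265 (iv3 F414339)) (tt N72093 F414336) (tt N118888 (iv5 F512592)) (tt N59848 (iv6 D199957)) (tt N95649 (iv7 F414338)))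
theorem Q96867 : ∀ i, i < 96867 → P i := stepQ 96866 Q96866 (allL N96866 (tt N59850 (iv1 D199958)) (tt N60601 F414346) (tt N86972 F414351) (tt N92037 (iv3 F414350)) (tt N92676 (iv4 F414349)) (tt N66775 F414348) (tt N106725 (iv6 F455422)) (tt N86971 F414347))
theorem Q96868 : ∀ i, i < 96868 → P i := stepQ 96867 Q96867 (allL N96867 (tt N86980 F414356) (tt N67360 (iv0 F414355)) (tt N102960 (iv2 F439451)) (tt N59851 F414352) (tt N60605 F414353) (tt N103197 (iv5 F440521)) (tt N59850 (iv6 D199959)) (tt N95557 F414354))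
theorem Q96869 : ∀ i, i < 96869 → P i := stepQ 96868 Q96868 (allL N96868 (tt N79870 F414359) (tt N79872 F414360) (tt N95634 F414357) (tt N103197 (iv3 F440519)) (tt N119256 D222515) (tt N59851 (iv5 D199960)) (tt N106878 (iv6 F456104)) (tt N95558 F414358))
theorem Q96870 : ∀ i, i < 96870 → P i := stepQ 96869 Q96869 (allL N96869 (tt N109241 (iv1 F465950)) (tt N59852 (iv0 D199961)) (tt N102993 (iv2 F439591)) (tt N117952 (iv3 F507757)) (tt N117338 (iv4 F504530)) (tt N115067 F493327) (tt N114010 (iv6 F488187)) (tt N115771 (iv7 F496783)))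
theorem Q96871 : ∀ i, i < 96871 → P i := stepQ 96870 Q96870 (allL N96870 (tt N59852 (iv1 D199962)) (tt N109241 (iv0 F465949)) (tt N115771 (iv2 F496787)) (tt N80470 (iv3 F414361)) (tt N99939 (iv4 F426894)) (tt N115514 (iv5 F495583)) (tt N80468 F414362) (tt N102993 (iv7 F439588)))
theorem Q96872 : ∀ i, i < 96872 → P i := stepQ 96871 Q96871 (allL N96871 (tt N89916 F414365) (tt N89914 (iv0 F414366)) (tt N112124 (iv2 F479608)) (tt N59857 F414363) (tt N91065 F414367) (tt N59852 (iv5 D199963)) (tt N59853 F414364) (tt N110032 (iv7 F469649)))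
theorem Q96873 : ∀ i, i < 96873 → P i := stepQ 96872 Q96872 (allL N96872 (tt N115771 (iv1 F496782)) (tt N102993 (iv0 F439589)) (tt N109241 (iv2 F465944)) (tt N59858 F414368) (tt N113720 (iv4 F486825)) (tt N110032 (iv5 F469647)) (tt N84209 F414369) (tt N59852 (iv7 D199964)))
theorem Q96874 : ∀ i, i < 96874 → P i := stepQ 96873 Q96873 (allL N96873 (tt N82462 (iv1 F414375)) (tt N59854 (iv0 D199965)) (tt N79263 (iv2 F414374)) (tt N63939 F414370) (tt N63949 F414371) (tt N59972 F414372) (tt N63938 F414373) (tt N82460 F414376))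
theorem Q96875 : ∀ i, i < 96875 → P i := stepQ 96874 Q96874 (allL N96874 (tt N110906 F473724) (tt N84205 (iv0 F414379)) (tt N75900 F414377) (tt N59855 (iv3 D199966)) (tt N81304 F414378) (tt N90703 F414380) (tt N95618 (iv6 F414382)) (tt N111858 (iv7 F478341)))
theorem Q96876 : ∀ i, i < 96876 → P i := stepQ 96875 Q96875 (allL N96875 (tt N63492 F414391) (tt N63445 F414392) (tt N63490 F414387) (tt N90703 F414388) (tt N89194 F414390) (tt N59855 (iv5 D199967)) (tt N74349 (iv6 F414393)) (tt N63491 F414389))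
theorem Q96877 : ∀ i, i < 96877 → P i := stepQ 96876 Q96876 (allL N96876 (tt N86997 F414395) (tt N114009 (iv0 F488181)) (tt N103009 (iv2 F439655)) (tt N95618 F414394) (tt N104771 F447189) (tt N115518 (iv5 F495606)) (tt N59855 (iv6 D199968)) (tt N95640 (iv7 F414396)))
theorem Q96878 : ∀ i, i < 96878 → P i := stepQ 96877 Q96877 (allL N96877 (tt N63445 F414400) (tt N63492 F414401) (tt N63491 F414397) (tt N75910 F414398) (tt N89193 F414402) (tt N59856 (iv5 D199969)) (tt N65318 F414403) (tt N63490 F414399))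
theorem Q96879 : ∀ i, i < 96879 → P i := stepQ 96878 Q96878 (allL N96878 (tt N59857 (iv1 D199970)) (tt N62495 F414405) (tt N73623 F414410) (tt N67155 F414411) (tt N73565 F414408) (tt N87189 F414407) (tt N62473 (iv6 F414409)) (tt N82099 F414406))
theorem Q96880 : ∀ i, i < 96880 → P i := stepQ 96879 Q96879 (allL N96879 (tt N115786 (iv1 F496872)) (tt N59859 (iv0 D199971)) (tt N118940 (iv2 F512867)) (tt N79321 F414412) (tt N101897 (iv4 F434862)) (tt N118867 (iv5 F512486)) (tt N79319 (iv6 F414413)) (tt N95625 (iv7 F414414)))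
theorem Q96881 : ∀ i, i < 96881 → P i := stepQ 96880 Q96880 (allL N96880 (tt N95545 F414419) (tt N106804 (iv0 F455750)) (tt N82471 F414415) (tt N59861 F414416) (tt N94723 F414417) (tt N111079 (iv5 F474563)) (tt N59859 (iv6 D199972)) (tt N59919 F414418))
theorem Q96882 : ∀ i, i < 96882 → P i := stepQ 96881 Q96881 (allL N96881 (tt N59862 (iv1 D199973)) (tt N81005 F414424) (tt N78746 (iv2 F414421)) (tt N111874 (iv3 F478437)) (tt N76533 (iv4 F414422)) (tt N119257 D222516) (tt N95649 (iv6 F414423)) (tt N78747 F414420))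
theorem Q96883 : ∀ i, i < 96883 → P i := stepQ 96882 Q96882 (allL N96882 (tt N78747 (iv1 F414428)) (tt N78746 F414427) (tt N59862 (iv2 D199974)) (tt N115786 (iv3 F496867)) (tt N80784 (iv4 F414429)) (tt N99236 (iv5 F423801)) (tt N82369 F414425) (tt N81005 F414426))
theorem Q96884 : ∀ i, i < 96884 → P i := stepQ 96883 Q96883 (allL N96883 (tt N81004 F414435) (tt N81003 F414434) (tt N80784 F414430) (tt N63566 F414431) (tt N59862 (iv4 D199975)) (tt N63565 (iv5 F414436)) (tt N82376 F414432) (tt N66034 F414433))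
theorem Q96885 : ∀ i, i < 96885 → P i := stepQ 96884 Q96884 (allL N96884 (tt N62670 F414439) (tt N97038 (iv0 F415147)) (tt N99236 (iv2 F423798)) (tt N59863 F414437) (tt N76841 (iv4 F414440)) (tt N59862 (iv5 D199976)) (tt N63495 F414441) (tt N74089 F414438))
theorem Q96886 : ∀ i, i < 96886 → P i := stepQ 96885 Q96885 (allL N96885 (tt N72222 F414447) (tt N73166 F414448) (tt N73165 F414442) (tt N76842 F414443) (tt N59863 (iv4 D199977)) (tt N76842 F414444) (tt N63496 F414445) (tt N73099 F414446))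
theorem Q96887 : ∀ i, i < 96887 → P i := stepQ 96886 Q96886 (allL N96886 (tt N106883 F456121) (tt N119257 (iv0 F514666)) (tt N112286 (iv2 F480362)) (tt N59865 (iv3 D199978)) (tt N110805 (iv4 F473244)) (tt N96835 F414449) (tt N119258 D222517) (tt N96834 F414450))
theorem Q96888 : ∀ i, i < 96888 → P i := stepQ 96887 Q96887 (allL N96887 (tt N73601 F414452) (tt N109627 (iv0 F467817)) (tt N109001 F464847) (tt N119248 (iv3 F514611)) (tt N59865 (iv4 D199979)) (tt N107519 (iv5 F458637)) (tt N112477 (iv6 F481246)) (tt N96836 F414451))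
theorem Q96889 : ∀ i, i < 96889 → P i := stepQ 96888 Q96888 (allL N96888 (tt N100126 F427586) (tt N73707 (iv0 F414454)) (tt N95399 F414453) (tt N119258 (iv3 F514670)) (tt N112477 (iv4 F481244)) (tt N108753 (iv5 F463817)) (tt N59865 (iv6 D199980)) (tt N100504 F429222))
theorem Q96890 : ∀ i, i < 96890 → P i := stepQ 96889 Q96889 (allL N96889 (tt N92453 F414457) (tt N95776 F414458) (tt N107864 F460046) (tt N119259 D222518) (tt N59868 (iv4 D199981)) (tt N74725 F414456) (tt N105321 (iv6 F449703)) (tt N92520 F414455))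
theorem Q96891 : ∀ i, i < 96891 → P i := stepQ 96890 Q96890 (allL N96890 (tt N71729 F414465) (tt N91247 F414466) (tt N59930 F414461) (tt N87136 F414462) (tt N104981 (iv4 F448251)) (tt N59872 (iv5 D199982)) (tt N62655 F414463) (tt N59928 F414464))
theorem Q96892 : ∀ i, i < 96892 → P i := stepQ 96891 Q96891 (allL N96891 (tt N59879 (iv1 F414473)) (tt N59873 (iv0 D199983)) (tt N62020 (iv2 F414472)) (tt N117294 (iv3 F504326)) (tt N95819 F414469) (tt N61942 F414468) (tt N61779 F414471) (tt N110615 (iv7 F472408)))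
theorem Q96893 : ∀ i, i < 96893 → P i := stepQ 96892 Q96892 (allL N96892 (tt N119260 D222519) (tt N106689 (iv0 F462676)) (tt N119261 D222520) (tt N59873 (iv3 D199984)) (tt N119259 (iv4 F514675)) (tt N76828 F414474) (tt N105323 (iv6 F449712)) (tt N110833 (iv7 F473357)))
theorem Q96894 : ∀ i, i < 96894 → P i := stepQ 96893 Q96893 (allL N96893 (tt N92039 F414478) (tt N106723 (iv0 F455415)) (tt N81752 F414475) (tt N59874 (iv3 D199985)) (tt N59876 F414476) (tt N92678 (iv5 F414479)) (tt N115763 F496736) (tt N62667 F414477))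
theorem Q96895 : ∀ i, i < 96895 → P i := stepQ 96894 Q96894 (allL N96894 (tt N93964 F414483) (tt N93967 F414484) (tt N65682 F414480) (tt N92678 F414481) (tt N106725 (iv4 F455420)) (tt N59874 (iv5 D199986)) (tt N92676 (iv6 F414485)) (tt N65680 F414482))
theorem Q96896 : ∀ i, i < 96896 → P i := stepQ 96895 Q96895 (allL N96895 (tt N67390 F414490) (tt N65825 F414491) (tt N65683 F414486) (tt N115763 F496735) (tt N59875 F414487) (tt N66603 F414489) (tt N59874 (iv6 D199987)) (tt N92072 F414488))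
theorem Q96897 : ∀ i, i < 96897 → P i := stepQ 96896 Q96896 (allL N96896 (tt N84511 F414498) (tt N65622 F414497) (tt N84375 F414492) (tt N74195 F414493) (tt N83535 F414494) (tt N59878 (iv5 D199988)) (tt N63381 F414495) (tt N84559 F414496))
theorem Q96898 : ∀ i, i < 96898 → P i := stepQ 96897 Q96897 (allL N96897 (tt N119262 D222521) (tt N119263 D222522) (tt N107859 (iv2 F460026)) (tt N59879 (iv3 D199989)) (tt N96177 F414499) (tt N110662 (iv5 F472649)) (tt N62166 F414500) (tt N119254 (iv7 F514649)))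
theorem Q96899 : ∀ i, i < 96899 → P i := stepQ 96898 Q96898 (allL N96898 (tt N76833 F414504) (tt N76832 F414505) (tt N62692 F414501) (tt N110662 (iv3 F472650)) (tt N62217 F414502) (tt N59879 (iv5 D199990)) (tt N62216 (iv6 F414506)) (tt N73206 F414503))
theorem Q96900 : ∀ i, i < 96900 → P i := stepQ 96899 Q96899 (allL N96899 (tt N84260 F414511) (tt N84259 (iv0 F414512)) (tt N69984 F414507) (tt N73815 F414508) (tt N69983 F414509) (tt N115451 (iv5 F495255)) (tt N59882 (iv6 D199991)) (tt N83871 F414510))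
theorem Q96901 : ∀ i, i < 96901 → P i := stepQ 96900 Q96900 (allL N96900 (tt N59883 (iv1 D199992)) (tt N59934 F414513) (tt N79467 F414517) (tt N95453 (iv3 F414518)) (tt N64131 F414515) (tt N111715 (iv5 F477626)) (tt N65145 (iv6 F414516)) (tt N80139 F414514))
theorem Q96902 : ∀ i, i < 96902 → P i := stepQ 96901 Q96901 (allL N96901 (tt N79862 F414523) (tt N79864 F414524) (tt N95665 F414521) (tt N110909 (iv3 F473741)) (tt N115287 (iv4 F494391)) (tt N59883 (iv5 D199993)) (tt N115451 (iv6 F495256)) (tt N95610 F414522))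
theorem Q96903 : ∀ i, i < 96903 → P i := stepQ 96902 Q96902 (allL N96902 (tt N77613 (iv1 F414531)) (tt N66363 F414530) (tt N59885 (iv2 D199994)) (tt N79423 F414525) (tt N76026 F414526) (tt N83186 F414527) (tt N79389 F414528) (tt N76561 F414529))
theorem Q96904 : ∀ i, i < 96904 → P i := stepQ 96903 Q96903 (allL N96903 (tt N106462 (iv1 F454559)) (tt N92458 F414534) (tt N92515 F414532) (tt N117850 (iv3 F507261)) (tt N59886 (iv4 D199995)) (tt N107855 (iv5 F460005)) (tt N118281 F509497) (tt N95095 F414533))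
theorem Q96905 : ∀ i, i < 96905 → P i := stepQ 96904 Q96904 (allL N96904 (tt N107866 (iv1 F460050)) (tt N103177 (iv0 F440427)) (tt N95094 F414535) (tt N101664 (iv3 F433754)) (tt N118281 (iv4 F509496)) (tt N95666 F414536) (tt N59886 (iv6 D199996)) (tt N107721 (iv7 F459386)))
theorem Q96906 : ∀ i, i < 96906 → P i := stepQ 96905 Q96905 (allL N96905 (tt N95613 (iv1 F414540)) (tt N59889 (iv0 D199997)) (tt N72280 (iv2 F414539)) (tt N73149 (iv3 F414542)) (tt N109472 (iv4 F467145)) (tt N62328 F414537) (tt N63188 F414538) (tt N62440 F414541))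
theorem Q96907 : ∀ i, i < 96907 → P i := stepQ 96906 Q96906 (allL N96906 (tt N72280 (iv1 F414548)) (tt N62440 F414547) (tt N59889 (iv2 D199998)) (tt N73576 F414543) (tt N89435 F414544) (tt N99458 (iv5 F424675)) (tt N62432 F414545) (tt N95613 F414546))
theorem Q96908 : ∀ i, i < 96908 → P i := stepQ 96907 Q96907 (allL N96907 (tt N92092 F414554) (tt N92084 (iv0 F414555)) (tt N92088 F414549) (tt N59891 (iv3 D199999)) (tt N96098 F414553) (tt N74025 F414550) (tt N92004 F414551) (tt N92089 F414552))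
theorem Q96909 : ∀ i, i < 96909 → P i := stepQ 96908 Q96908 (allL N96908 (tt N95530 F414559) (tt N88188 F414560) (tt N59893 F414556) (tt N59911 F414557) (tt N101928 (iv4 F434976)) (tt N59892 (iv5 D200000)) (tt N97172 (iv6 F415746)) (tt N95529 F414558))
theorem Q96910 : ∀ i, i < 96910 → P i := stepQ 96909 Q96909 (allL N96909 (tt N83798 F414564) (tt N112698 (iv0 F482228)) (tt N59917 F414561) (tt N82599 F414562) (tt N115711 (iv4 F496446)) (tt N59895 (iv5 D200001)) (tt N59897 F414563) (tt N114230 (iv7 F489109)))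
theorem Q96911 : ∀ i, i < 96911 → P i := stepQ 96910 Q96910 (allL N96910 (tt N59916 (iv1 F414568)) (tt N59915 F414569) (tt N59918 F414565) (tt N101926 (iv3 F434971)) (tt N92469 F414566) (tt N114230 (iv5 F489108)) (tt N95534 F414567) (tt N59895 (iv7 D200002)))
theorem Q96912 : ∀ i, i < 96912 → P i := stepQ 96911 Q96911 (allL N96911 (tt N59909 F414572) (tt N95560 (iv0 F414574)) (tt N95559 (iv2 F414575)) (tt N59900 (iv3 D200003)) (tt N65870 F414573) (tt N103980 (iv5 F443635)) (tt N79297 F414570) (tt N95543 F414571))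
theorem Q96913 : ∀ i, i < 96913 → P i := stepQ 96912 Q96912 (allL N96912 (tt N96349 F414578) (tt N95528 (iv0 F414579)) (tt N96603 F414580) (tt N59901 (iv3 D200004)) (tt N96567 F414576) (tt N112693 F482201) (tt N111355 (iv6 F475978)) (tt N95546 F414577))
theorem Q96914 : ∀ i, i < 96914 → P i := stepQ 96913 Q96913 (allL N96913 (tt N59919 F414582) (tt N82471 (iv0 F414583)) (tt N95545 F414581) (tt N111355 (iv3 F475981)) (tt N112840 (iv4 F482892)) (tt N112694 (iv5 F482204)) (tt N59901 (iv6 D200005)) (tt N106804 (iv7 F455749)))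
theorem Q96915 : ∀ i, i < 96915 → P i := stepQ 96914 Q96914 (allL N96914 (tt N67151 F414587) (tt N59908 (iv0 F414588)) (tt N92090 F414584) (tt N59904 (iv3 D200006)) (tt N117920 (iv4 F507604)) (tt N68680 F414585) (tt N111606 (iv6 F477131)) (tt N68679 F414586))
theorem Q96916 : ∀ i, i < 96916 → P i := stepQ 96915 Q96915 (allL N96915 (tt N95631 (iv1 F414594)) (tt N82371 (iv0 F414593)) (tt N59906 F414589) (tt N95549 F414590) (tt N75395 F414591) (tt N107230 (iv5 F457558)) (tt N59905 (iv6 D200007)) (tt N95630 F414592))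
theorem Q96917 : ∀ i, i < 96917 → P i := stepQ 96916 Q96916 (allL N96916 (tt N111143 F474911) (tt N112713 (iv0 F482317)) (tt N107230 (iv2 F457557)) (tt N59907 F414596) (tt N74174 F414599) (tt N59906 (iv5 D200008)) (tt N67153 F414597) (tt N95632 F414598))
theorem Q96918 : ∀ i, i < 96918 → P i := stepQ 96917 Q96917 (allL N96917 (tt N95560 (iv1 F414603)) (tt N59909 (iv0 D200009)) (tt N95543 (iv2 F414602)) (tt N96603 F414606) (tt N65869 F414601) (tt N69447 F414600) (tt N78498 (iv6 F414605)) (tt N95559 F414604))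
theorem Q96919 : ∀ i, i < 96919 → P i := stepQ 96918 Q96918 (allL N96918 (tt N95543 (iv1 F414613)) (tt N95559 F414612) (tt N59909 (iv2 D200010)) (tt N67151 F414607) (tt N95667 F414608) (tt N66454 F414609) (tt N87019 F414610) (tt N95560 F414611))
theorem Q96920 : ∀ i, i < 96920 → P i := stepQ 96919 Q96919 (allL N96919 (tt N79872 F414617) (tt N79870 F414618) (tt N95558 F414614) (tt N68805 F414615) (tt N119264 D222523) (tt N59910 (iv5 D200011)) (tt N103195 (iv6 F440513)) (tt N95634 F414616))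
theorem Q96921 : ∀ i, i < 96921 → P i := stepQ 96920 Q96920 (allL N96920 (tt N110052 (iv1 F469748)) (tt N62922 (iv0 F414623)) (tt N99837 (iv2 F426458)) (tt N59912 (iv3 D200012)) (tt N59913 F414619) (tt N77653 F414620) (tt N94214 F414621) (tt N92479 F414622))
theorem Q96922 : ∀ i, i < 96922 → P i := stepQ 96921 Q96921 (allL N96921 (tt N92475 (iv1 F414624)) (tt N59913 (iv0 D200013)) (tt N92478 (iv2 F422550)) (tt N118473 F510562) (tt N99905 (iv4 F426758)) (tt N74269 F414625) (tt N90476 F414627) (tt N92477 F422545))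
theorem Q96923 : ∀ i, i < 96923 → P i := stepQ 96922 Q96922 (allL N96922 (tt N59913 (iv1 D200014)) (tt N92475 F414633) (tt N92477 F422549) (tt N104649 (iv3 F446688)) (tt N99976 (iv4 F427036)) (tt N74270 F414628) (tt N107591 (iv6 F458865)) (tt N92478 (iv7 F422548)))
theorem Q96924 : ∀ i, i < 96924 → P i := stepQ 96923 Q96923 (allL N96923 (tt N92478 (iv1 F414634)) (tt N92477 F414632) (tt N59913 (iv2 D200015)) (tt N92460 F414629) (tt N99837 (iv4 F426459)) (tt N61951 F414630) (tt N110654 (iv6 F472613)) (tt N92475 F414631))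
theorem Q96925 : ∀ i, i < 96925 → P i := stepQ 96924 Q96924 (allL N96924 (tt N117889 (iv1 F507456)) (tt N82310 (iv0 F414639)) (tt N110654 (iv2 F472611)) (tt N59914 F414635) (tt N94214 F414636) (tt N92512 F414637) (tt N59913 (iv6 D200016)) (tt N119265 D222524))
theorem Q96926 : ∀ i, i < 96926 → P i := stepQ 96925 Q96925 (allL N96925 (tt N92469 (iv1 F414645)) (tt N59914 (iv0 D200017)) (tt N92466 (iv2 F414642)) (tt N82314 F414643) (tt N68078 F414641) (tt N110822 (iv5 F473303)) (tt N119266 D222525) (tt N92467 F414644))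
theorem Q96927 : ∀ i, i < 96927 → P i := stepQ 96926 Q96926 (allL N96926 (tt N92467 (iv1 F414649)) (tt N92466 F414650) (tt N92469 F414646) (tt N119265 (iv3 F514706)) (tt N59918 F414647) (tt N105958 (iv5 F452509)) (tt N92487 F414648) (tt N59914 (iv7 D200018)))
theorem Q96928 : ∀ i, i < 96928 → P i := stepQ 96927 Q96927 (allL N96927 (tt N117574 (iv1 F505790)) (tt N73632 F414653) (tt N97197 (iv2 F415845)) (tt N82175 F414651) (tt N76430 F414652) (tt N59915 (iv5 D200019)) (tt N104834 (iv6 F447524)) (tt N100529 F429345))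
theorem Q96929 : ∀ i, i < 96929 → P i := stepQ 96928 Q96928 (allL N96928 (tt N117183 (iv1 F503804)) (tt N116465 (iv0 F500276)) (tt N108553 (iv2 F463053)) (tt N99721 F425907) (tt N117821 (iv4 F507120)) (tt N118838 F512344) (tt N59915 (iv6 D200020)) (tt N108751 (iv7 F463811)))
theorem Q96930 : ∀ i, i < 96930 → P i := stepQ 96929 Q96929 (allL N96929 (tt N73632 (iv1 F415848)) (tt N117574 (iv0 F505789)) (tt N100529 (iv2 F429340)) (tt N60239 F414654) (tt N76431 (iv4 F414655)) (tt N59916 (iv5 D200021)) (tt N100526 (iv6 F429329)) (tt N97197 (iv7 F415847)))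
theorem Q96931 : ∀ i, i < 96931 → P i := stepQ 96930 Q96930 (allL N96930 (tt N114230 F489111) (tt N59917 (iv0 D200022)) (tt N83798 (iv2 F414659)) (tt N101817 F434488) (tt N83791 F414660) (tt N97228 (iv5 F415987)) (tt N83790 F414661) (tt N112698 (iv7 F482227)))
theorem Q96932 : ∀ i, i < 96932 → P i := stepQ 96931 Q96931 (allL N96931 (tt N59917 (iv1 D200023)) (tt N114230 (iv0 F489110)) (tt N112698 (iv2 F482224)) (tt N97232 (iv3 F416004)) (tt N83801 F414657) (tt N97230 (iv5 F415995)) (tt N87765 (iv6 F414656)) (tt N83798 F414658))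
theorem Q96933 : ∀ i, i < 96933 → P i := stepQ 96932 Q96932 (allL N96932 (tt N119267 D222526) (tt N115723 (iv0 F496523)) (tt N115711 (iv2 F496444)) (tt N86540 F414662) (tt N59917 (iv4 D200024)) (tt N106319 (iv5 F454008)) (tt N59924 F414663) (tt N119268 D222527))
theorem Q96934 : ∀ i, i < 96934 → P i := stepQ 96933 Q96933 (allL N96933 (tt N112698 F482229) (tt N83798 (iv0 F452512)) (tt N114230 (iv2 F489107)) (tt N68388 F414664) (tt N119268 (iv4 F514725)) (tt N59918 F414665) (tt N115371 (iv6 F494858)) (tt N59917 (iv7 D200025)))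
theorem Q96935 : ∀ i, i < 96935 → P i := stepQ 96934 Q96934 (allL N96934 (tt N82471 (iv1 F414667)) (tt N59919 (iv0 D200026)) (tt N106804 (iv2 F455747)) (tt N78499 (iv3 F414669)) (tt N117643 (iv4 F506174)) (tt N112701 (iv5 F482242)) (tt N95585 F414666) (tt N95545 F414668))
theorem Q96936 : ∀ i, i < 96936 → P i := stepQ 96935 Q96935 (allL N96935 (tt N106804 F455751) (tt N95545 F414674) (tt N59919 (iv2 D200027)) (tt N78753 F414670) (tt N82520 F414671) (tt N115725 (iv5 F496532)) (tt N87008 F414672) (tt N82471 F414673))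
theorem Q96937 : ∀ i, i < 96937 → P i := stepQ 96936 Q96936 (allL N96936 (tt N112701 (iv1 F482245)) (tt N112694 F482206) (tt N112700 F482236) (tt N59922 (iv3 D200028)) (tt N112424 F481029) (tt N78528 F414675) (tt N115730 F496560) (tt N96764 F414676))
theorem Q96938 : ∀ i, i < 96938 → P i := stepQ 96937 Q96937 (allL N96937 (tt N119237 (iv1 F514545)) (tt N102141 (iv0 F435919)) (tt N96768 F414677) (tt N87152 F414679) (tt N59922 (iv4 D200029)) (tt N100299 F428321) (tt N92992 (iv6 F414680)) (tt N96765 F414678))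
theorem Q96939 : ∀ i, i < 96939 → P i := stepQ 96938 Q96938 (allL N96938 (tt N88332 F414683) (tt N95875 F414684) (tt N95884 F414681) (tt N115730 F496559) (tt N92992 F414682) (tt N119269 D222528) (tt N59922 (iv6 D200030)) (tt N95885 (iv7 F414685)))
theorem Q96940 : ∀ i, i < 96940 → P i := stepQ 96939 Q96939 (allL N96939 (tt N78755 (iv1 F414691)) (tt N78760 F414690) (tt N82478 F414692) (tt N59923 (iv3 D200031)) (tt N88267 (iv4 F414688)) (tt N78530 F414686) (tt N88266 F414689) (tt N82479 F414687))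
theorem Q96941 : ∀ i, i < 96941 → P i := stepQ 96940 Q96940 (allL N96940 (tt N102141 (iv1 F435920)) (tt N119237 (iv0 F514544)) (tt N96765 F414693) (tt N112469 (iv3 F481215)) (tt N59923 (iv4 D200032)) (tt N100298 (iv5 F428313)) (tt N69373 (iv6 F414695)) (tt N96768 F414694))
theorem Q96942 : ∀ i, i < 96942 → P i := stepQ 96941 Q96941 (allL N96941 (tt N74331 F414700) (tt N115396 F494982) (tt N96766 F414696) (tt N88266 F414697) (tt N69373 F414698) (tt N95655 F414699) (tt N59923 (iv6 D200033)) (tt N105688 (iv7 F451260)))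
theorem Q96943 : ∀ i, i < 96943 → P i := stepQ 96942 Q96942 (allL N96942 (tt N87549 F414705) (tt N87145 F414706) (tt N87548 F414701) (tt N91215 F414702) (tt N63422 F414704) (tt N59924 (iv5 D200034)) (tt N63421 F414707) (tt N87547 F414703))
theorem Q96944 : ∀ i, i < 96944 → P i := stepQ 96943 Q96943 (allL N96943 (tt N96737 F414710) (tt N96739 F414711) (tt N96776 F414708) (tt N104191 (iv3 F444612)) (tt N115713 (iv4 F496457)) (tt N59927 (iv5 D200035)) (tt N108262 (iv6 F461758)) (tt N65697 F414709))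
theorem Q96945 : ∀ i, i < 96945 → P i := stepQ 96944 Q96944 (allL N96944 (tt N79864 F414716) (tt N79862 F414717) (tt N95610 F414712) (tt N86854 F414713) (tt N115258 (iv4 F494243)) (tt N59934 (iv5 D200036)) (tt N91096 F414714) (tt N95665 F414715))
theorem Q96946 : ∀ i, i < 96946 → P i := stepQ 96945 Q96945 (allL N96945 (tt N75451 F414722) (tt N60366 (iv0 F414723)) (tt N102764 (iv2 F438534)) (tt N59943 F414718) (tt N77274 F414721) (tt N59942 (iv5 D200037)) (tt N73191 F414719) (tt N65303 F414720))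
theorem Q96947 : ∀ i, i < 96947 → P i := stepQ 96946 Q96946 (allL N96946 (tt N95671 (iv1 F414730)) (tt N95670 F414729) (tt N59945 (iv2 D200038)) (tt N71749 F414724) (tt N92557 F414725) (tt N92493 F414726) (tt N77589 F414727) (tt N95110 F414728))
theorem Q96948 : ∀ i, i < 96948 → P i := stepQ 96947 Q96947 (allL N96947 (tt N119270 D222529) (tt N65896 (iv0 F416961)) (tt N118708 (iv2 F511661)) (tt N59947 F414731) (tt N65669 F414733) (tt N59946 (iv5 D200039)) (tt N65668 (iv6 F414734)) (tt N65764 F414732))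
theorem Q96949 : ∀ i, i < 96949 → P i := stepQ 96948 Q96948 (allL N96948 (tt N85877 F414740) (tt N86122 F414738) (tt N86120 F414735) (tt N59949 F414736) (tt N96688 F414739) (tt N59948 (iv5 D200040)) (tt N104767 (iv6 F447173)) (tt N86119 F414737))
theorem Q96950 : ∀ i, i < 96950 → P i := stepQ 96949 Q96949 (allL N96949 (tt N93431 F414745) (tt N108671 F463481) (tt N92873 F414741) (tt N59950 F414742) (tt N96617 F414743) (tt N92870 (iv5 F414746)) (tt N59948 (iv6 D200041)) (tt N92878 F414744))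
theorem Q96951 : ∀ i, i < 96951 → P i := stepQ 96950 Q96950 (allL N96950 (tt N101384 (iv1 F432823)) (tt N101383 F432828) (tt N101386 (iv2 F432824)) (tt N104767 (iv3 F447172)) (tt N101065 (iv4 F431510)) (tt N119271 D222530) (tt N59949 (iv6 D200042)) (tt N101062 (iv7 F431499)))
theorem Q96952 : ∀ i, i < 96952 → P i := stepQ 96951 Q96951 (allL N96951 (tt N94329 F414749) (tt N93439 F414750) (tt N112812 (iv2 F482730)) (tt N92870 F414747) (tt N112725 (iv4 F482377)) (tt N59950 (iv5 D200043)) (tt N119271 (iv6 F514744)) (tt N92876 F414748))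
theorem Q96953 : ∀ i, i < 96953 → P i := stepQ 96952 Q96952 (allL N96952 (tt N94864 (iv1 F414755)) (tt N75526 F414754) (tt N94691 F414751) (tt N118784 (iv3 F512047)) (tt N94688 F414752) (tt N59952 (iv5 D200044)) (tt N112034 F479185) (tt N94856 F414753))
theorem Q96954 : ∀ i, i < 96954 → P i := stepQ 96953 Q96953 (allL N96953 (tt N111830 (iv1 F478191)) (tt N117035 F503071) (tt N117036 (iv2 F503072)) (tt N59955 F414756) (tt N81765 F414757) (tt N70219 F414758) (tt N59954 (iv6 D200045)) (tt N79803 F414759))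
theorem Q96955 : ∀ i, i < 96955 → P i := stepQ 96954 Q96954 (allL N96954 (tt N59956 (iv1 D200046)) (tt N77801 F414760) (tt N109306 (iv2 F466305)) (tt N60610 (iv3 F416662)) (tt N97580 (iv4 F417447)) (tt N78371 (iv5 F414761)) (tt N108281 F461861) (tt N108285 (iv7 F461878)))
theorem Q96956 : ∀ i, i < 96956 → P i := stepQ 96955 Q96955 (allL N96955 (tt N84364 F414766) (tt N83878 (iv0 F414767)) (tt N84213 F414762) (tt N115820 F497070) (tt N83856 F414763) (tt N79315 F414764) (tt N59957 (iv6 D200047)) (tt N84215 F414765))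
theorem Q96957 : ∀ i, i < 96957 → P i := stepQ 96956 Q96956 (allL N96956 (tt N109462 (iv1 F467091)) (tt N109464 (iv0 F467099)) (tt N113875 (iv2 F487574)) (tt N72815 F414768) (tt N59958 (iv4 D200048)) (tt N72814 (iv5 F414770)) (tt N86304 F414769) (tt N118972 (iv7 F513054)))
theorem Q96958 : ∀ i, i < 96958 → P i := stepQ 96957 Q96957 (allL N96957 (tt N78525 F414775) (tt N64128 F414776) (tt N81546 F414771) (tt N59962 F414772) (tt N111741 (iv4 F477753)) (tt N59961 (iv5 D200049)) (tt N82605 F414773) (tt N95734 F414774))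
theorem Q96959 : ∀ i, i < 96959 → P i := stepQ 96958 Q96958 (allL N96958 (tt N95300 (iv1 F414779)) (tt N59962 (iv0 D200050)) (tt N95736 (iv2 F414778)) (tt N119272 D222531) (tt N119273 D222532) (tt N78529 F414777) (tt N119269 (iv6 F514732)) (tt N95735 F414780))
theorem Q96960 : ∀ i, i < 96960 → P i := stepQ 96959 Q96959 (allL N96959 (tt N111723 (iv1 F477668)) (tt N87116 F414791) (tt N111725 (iv2 F477679)) (tt N97271 (iv3 F416148)) (tt N59962 (iv4 D200051)) (tt N97270 F416144) (tt N114242 F489179) (tt N95737 F414790))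
theorem Q96961 : ∀ i, i < 96961 → P i := stepQ 96960 Q96960 (allL N96960 (tt N95418 F414796) (tt N102019 (iv0 F435376)) (tt N65827 F414792) (tt N95272 F414793) (tt N96780 F414797) (tt N59965 (iv5 D200052)) (tt N72895 F414794) (tt N95745 F414795))
theorem Q96962 : ∀ i, i < 96962 → P i := stepQ 96961 Q96961 (allL N96961 (tt N59968 (iv1 D200053)) (tt N81307 F414798) (tt N74528 F414804) (tt N81043 (iv3 F414802)) (tt N77798 F414801) (tt N63598 F414800) (tt N84137 (iv6 F414803)) (tt N63597 F414799))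
theorem Q96963 : ∀ i, i < 96963 → P i := stepQ 96962 Q96962 (allL N96962 (tt N74528 (iv1 F414809)) (tt N63597 F414810) (tt N81307 F414805) (tt N75915 F414806) (tt N75920 F414807) (tt N104255 (iv5 F444966)) (tt N94058 F414808) (tt N59968 (iv7 D200054)))
theorem Q96964 : ∀ i, i < 96964 → P i := stepQ 96963 Q96963 (allL N96963 (tt N79373 F414815) (tt N104250 (iv0 F444935)) (tt N79755 F414811) (tt N59969 (iv3 D200055)) (tt N60691 F414812) (tt N79727 F414813) (tt N79750 (iv6 F414816)) (tt N81510 F414814))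
theorem Q96965 : ∀ i, i < 96965 → P i := stepQ 96964 Q96964 (allL N96964 (tt N74251 F414822) (tt N74253 (iv0 F414823)) (tt N95753 F414817) (tt N79750 F414818) (tt N60405 F414819) (tt N87923 F414820) (tt N59969 (iv6 D200056)) (tt N79756 F414821))
theorem Q96966 : ∀ i, i < 96966 → P i := stepQ 96965 Q96965 (allL N96965 (tt N111649 (iv1 F477304)) (tt N95764 F414827) (tt N95826 F414824) (tt N65424 F414825) (tt N59972 (iv4 D200057)) (tt N102786 (iv5 F438647)) (tt N104254 F444964) (tt N95825 F414826))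
theorem Q96967 : ∀ i, i < 96967 → P i := stepQ 96966 Q96966 (allL N96966 (tt N67871 F414832) (tt N67870 F414833) (tt N60007 F414828) (tt N68863 F414829) (tt N59973 (iv4 D200058)) (tt N68860 F414830) (tt N104688 (iv6 F446879)) (tt N67865 F414831))
theorem Q96968 : ∀ i, i < 96968 → P i := stepQ 96967 Q96967 (allL N96967 (tt N78601 F414836) (tt N94030 F414837) (tt N60016 F414834) (tt N104122 (iv3 F444291)) (tt N102283 (iv4 F436544)) (tt N59975 (iv5 D200059)) (tt N109916 F469204) (tt N60011 F414835))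
theorem Q96969 : ∀ i, i < 96969 → P i := stepQ 96968 Q96968 (allL N96968 (tt N76646 (iv1 F414842)) (tt N65157 F414843) (tt N79836 F414838) (tt N59986 (iv3 D200060)) (tt N96978 (iv4 F414892)) (tt N80897 F414839) (tt N79835 F414840) (tt N80896 F414841))
theorem Q96970 : ∀ i, i < 96970 → P i := stepQ 96969 Q96969 (allL N96969 (tt N80990 F414847) (tt N81977 F414848) (tt N64965 F414844) (tt N111386 (iv3 F476114)) (tt N59986 (iv4 D200061)) (tt N95236 (iv5 F414849)) (tt N64963 F414845) (tt N95835 F414846))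
theorem Q96971 : ∀ i, i < 96971 → P i := stepQ 96970 Q96970 (allL N96970 (tt N74754 F414854) (tt N62598 F414855) (tt N74753 F414850) (tt N59990 F414851) (tt N59989 (iv4 D200062)) (tt N74830 F414853) (tt N59989 (iv6 F414856)) (tt N64344 F414852))
theorem Q96972 : ∀ i, i < 96972 → P i := stepQ 96971 Q96971 (allL N96971 (tt N108746 (iv1 F463790)) (tt N73694 (iv0 F414862)) (tt N95831 F414857) (tt N74830 F414858) (tt N75746 F414861) (tt N59990 (iv5 D200063)) (tt N59991 F414859) (tt N79066 F414860))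
theorem Q96973 : ∀ i, i < 96973 → P i := stepQ 96972 Q96972 (allL N96972 (tt N60106 (iv1 F414866)) (tt N59991 (iv0 D200064)) (tt N63549 (iv2 F414865)) (tt N80123 F414869) (tt N64766 F414864) (tt N80121 F414863) (tt N64765 (iv6 F414868)) (tt N95833 F414867))
theorem Q96974 : ∀ i, i < 96974 → P i := stepQ 96973 Q96973 (allL N96973 (tt N99786 F426213) (tt N84342 (iv0 F414874)) (tt N95834 F414871) (tt N64389 F414872) (tt N59991 (iv4 D200065)) (tt N118535 (iv5 F510839)) (tt N75746 F414873) (tt N109669 (iv7 F468026)))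
theorem Q96975 : ∀ i, i < 96975 → P i := stepQ 96974 Q96974 (allL N96974 (tt N116220 F499091) (tt N97422 (iv0 F416831)) (tt N81532 F414875) (tt N117444 (iv3 F505059)) (tt N59992 (iv4 D200066)) (tt N117428 (iv5 F504988)) (tt N80372 F414876) (tt N95837 F414877))
theorem Q96976 : ∀ i, i < 96976 → P i := stepQ 96975 Q96975 (allL N96975 (tt N76113 F414880) (tt N92048 F414881) (tt N97527 F417263) (tt N59993 (iv3 D200067)) (tt N111816 (iv4 F478127)) (tt N75248 F414878) (tt N111685 (iv6 F477473)) (tt N81524 F414879))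
theorem Q96977 : ∀ i, i < 96977 → P i := stepQ 96976 Q96976 (allL N96976 (tt N97422 (iv1 F416833)) (tt N116220 F499092) (tt N95837 F414882) (tt N94781 F414884) (tt N59993 (iv4 D200068)) (tt N102007 (iv5 F435332)) (tt N111907 F478583) (tt N81532 F414883))
theorem Q96978 : ∀ i, i < 96978 → P i := stepQ 96977 Q96977 (allL N96977 (tt N60002 F414888) (tt N88915 (iv0 F414889)) (tt N83673 F414885) (tt N111685 F477477) (tt N111907 F478581) (tt N83652 F414886) (tt N59993 (iv6 D200069)) (tt N80370 F414887))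
theorem Q96979 : ∀ i, i < 96979 → P i := stepQ 96978 Q96978 (allL N96978 (tt N59994 (iv1 D200070)) (tt N65575 F414890) (tt N65573 (iv2 F414893)) (tt N94838 F414895) (tt N96968 F414892) (tt N97450 (iv5 F416946)) (tt N79682 (iv6 F414894)) (tt N65574 F414891))
theorem Q96980 : ∀ i, i < 96980 → P i := stepQ 96979 Q96979 (allL N96979 (tt N79221 (iv1 F414901)) (tt N81216 (iv0 F414900)) (tt N81214 F414896) (tt N65497 F414897) (tt N59995 F414898) (tt N101995 (iv5 F435278)) (tt N59994 (iv6 D200071)) (tt N81213 F414899))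
theorem Q96981 : ∀ i, i < 96981 → P i := stepQ 96980 Q96980 (allL N96980 (tt N59997 (iv1 D200072)) (tt N60101 F414902) (tt N80106 F414906) (tt N100339 (iv3 F428481)) (tt N84342 F414907) (tt N80105 F414904) (tt N84341 (iv6 F414905)) (tt N95841 F414903))
theorem Q96982 : ∀ i, i < 96982 → P i := stepQ 96981 Q96981 (allL N96981 (tt N64473 F414912) (tt N101293 F432568) (tt N77330 F414908) (tt N63928 F414909) (tt N59997 (iv4 D200073)) (tt N118571 (iv5 F510964)) (tt N75760 F414910) (tt N64752 F414911))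
theorem Q96983 : ∀ i, i < 96983 → P i := stepQ 96982 Q96982 (allL N96982 (tt N77446 (iv1 F414917)) (tt N74836 F414918) (tt N77183 F414913) (tt N77463 F414914) (tt N87353 F414915) (tt N103760 (iv5 F442709)) (tt N60001 (iv6 D200074)) (tt N77447 F414916))
theorem Q96984 : ∀ i, i < 96984 → P i := stepQ 96983 Q96983 (allL N96983 (tt N80370 (iv1 F414923)) (tt N83673 F414922) (tt N60002 (iv2 D200075)) (tt N100815 (iv3 F430604)) (tt N79681 F414919) (tt N103608 (iv5 F442222)) (tt N85728 F414920) (tt N88915 F414921))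
theorem Q96985 : ∀ i, i < 96985 → P i := stepQ 96984 Q96984 (allL N96984 (tt N75210 F414927) (tt N100816 F430612) (tt N60003 (iv2 D200076)) (tt N88915 F414924) (tt N91192 F414925) (tt N103612 (iv5 F442243)) (tt N88912 F414926) (tt N100815 (iv7 F430606)))
theorem Q96986 : ∀ i, i < 96986 → P i := stepQ 96985 Q96985 (allL N96985 (tt N69275 F414931) (tt N113131 (iv0 F484119)) (tt N67911 F414928) (tt N117344 (iv3 F504568)) (tt N60005 (iv4 D200077)) (tt N104542 (iv5 F446195)) (tt N67824 F414929) (tt N67908 F414930))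
theorem Q96987 : ∀ i, i < 96987 → P i := stepQ 96986 Q96986 (allL N96986 (tt N109279 (iv1 F466162)) (tt N67440 (iv0 F418064)) (tt N97725 (iv2 F418078)) (tt N60006 (iv3 D200078)) (tt N97722 (iv4 F418067)) (tt N65877 F414932) (tt N97721 F418063) (tt N67910 F414933))
theorem Q96988 : ∀ i, i < 96988 → P i := stepQ 96987 Q96987 (allL N96987 (tt N113131 (iv1 F484120)) (tt N69275 F414936) (tt N67908 F414934) (tt N117758 (iv3 F506822)) (tt N60006 (iv4 D200079)) (tt N104541 (iv5 F446191)) (tt N119274 D222533) (tt N67911 F414935))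
theorem Q96989 : ∀ i, i < 96989 → P i := stepQ 96988 Q96988 (allL N96988 (tt N66519 F414940) (tt N102838 F438882) (tt N67909 F414937) (tt N97721 (iv3 F418062)) (tt N119274 (iv4 F514761)) (tt N67764 F414938) (tt N60006 (iv6 D200080)) (tt N67829 F414939))
theorem Q96990 : ∀ i, i < 96990 → P i := stepQ 96989 Q96989 (allL N96989 (tt N67865 (iv1 F414942)) (tt N60007 (iv0 D200081)) (tt N67871 (iv2 F414943)) (tt N103786 (iv3 F442807)) (tt N65882 F414941) (tt N104545 (iv5 F446206)) (tt N67783 (iv6 F436571)) (tt N67870 (iv7 F414944)))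
theorem Q96991 : ∀ i, i < 96991 → P i := stepQ 96990 Q96990 (allL N96990 (tt N60007 (iv1 D200082)) (tt N67865 F414945) (tt N67870 (iv2 F414948)) (tt N119010 (iv3 F513265)) (tt N65885 F414947) (tt N104544 (iv5 F446199)) (tt N103862 (iv6 F443132)) (tt N67871 F414946))
theorem Q96992 : ∀ i, i < 96992 → P i := stepQ 96991 Q96991 (allL N96991 (tt N103543 (iv1 F441994)) (tt N103545 (iv0 F441997)) (tt N68860 F414949) (tt N67887 F414950) (tt N102433 (iv4 F437210)) (tt N60007 (iv5 D200083)) (tt N68858 (iv6 F414952)) (tt N67872 F414951))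
theorem Q96993 : ∀ i, i < 96993 → P i := stepQ 96992 Q96992 (allL N96992 (tt N103622 F442276) (tt N104117 (iv0 F444261)) (tt N102784 (iv2 F438637)) (tt N60011 F414953) (tt N71853 F414955) (tt N60010 (iv5 D200084)) (tt N71852 F414954) (tt N104122 (iv7 F444292)))
theorem Q96994 : ∀ i, i < 96994 → P i := stepQ 96993 Q96993 (allL N96993 (tt N60011 (iv1 D200085)) (tt N60016 F414956) (tt N78601 F414961) (tt N68946 (iv3 F414959)) (tt N102598 (iv4 F437848)) (tt N80058 F414958) (tt N68944 (iv6 F414960)) (tt N94030 F414957))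
theorem Q96995 : ∀ i, i < 96995 → P i := stepQ 96994 Q96994 (allL N96994 (tt N103660 F442402) (tt N119275 D222534) (tt N119276 D222535) (tt N60012 (iv3 D200086)) (tt N69374 F414962) (tt N115794 (iv5 F496920)) (tt N92652 (iv6 F414964)) (tt N68926 F414963))
theorem Q96996 : ∀ i, i < 96996 → P i := stepQ 96995 Q96995 (allL N96995 (tt N102480 F437381) (tt N66117 F414967) (tt N68930 F414965) (tt N115794 F496921) (tt N103545 (iv4 F441996)) (tt N60012 (iv5 D200087)) (tt N119277 D222536) (tt N68927 F414966))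
theorem Q96997 : ∀ i, i < 96997 → P i := stepQ 96996 Q96996 (allL N96996 (tt N103496 F441863) (tt N103566 F442061) (tt N68931 F414968) (tt N92652 F414969) (tt N60013 F414970) (tt N119278 D222537) (tt N60012 (iv6 D200088)) (tt N95808 F414971))
theorem Q96998 : ∀ i, i < 96998 → P i := stepQ 96997 Q96997 (allL N96997 (tt N78597 F420358) (tt N78598 F420359) (tt N109916 (iv2 F469205)) (tt N78603 F414972) (tt N103546 (iv4 F441999)) (tt N100397 (iv5 F428795)) (tt N60016 (iv6 D200089)) (tt N108838 (iv7 F464199)))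
theorem Q96999 : ∀ i, i < 96999 → P i := stepQ 96998 Q96998 (allL N96998 (tt N119279 D222538) (tt N103672 (iv0 F443167)) (tt N115792 (iv2 F496906)) (tt N60018 (iv3 D200090)) (tt N70286 F414973) (tt N105748 (iv5 F451516)) (tt N95809 F414974) (tt N68929 F414975))
theorem Q97000 : ∀ i, i < 97000 → P i := stepQ 96999 Q96999 (allL N96999 (tt N66117 F414978) (tt N102480 F437382) (tt N68927 F414976) (tt N105748 (iv3 F451515)) (tt N103543 (iv4 F441992)) (tt N60018 (iv5 D200091)) (tt N103611 (iv6 F442240)) (tt N68930 F414977))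
theorem Q97001 : ∀ i, i < 97001 → P i := stepQ 97000 Q97000 (allL N97000 (tt N102164 (iv1 F435998)) (tt N60019 (iv0 D200092)) (tt N102163 F435989) (tt N95811 (iv3 F414980)) (tt N65731 F414979) (tt N119280 D222539) (tt N97745 (iv6 F418130)) (tt N102027 (iv7 F435423)))
theorem Q97002 : ∀ i, i < 97002 → P i := stepQ 97001 Q97001 (allL N97001 (tt N60019 (iv1 D200093)) (tt N102164 F435997) (tt N102027 (iv2 F435421)) (tt N98061 F435420) (tt N102026 F435418) (tt N98060 (iv5 F435419)) (tt N118084 (iv6 F508484)) (tt N102163 (iv7 F435990)))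
theorem Q97003 : ∀ i, i < 97003 → P i := stepQ 97002 Q97002 (allL N97002 (tt N102208 (iv1 F436194)) (tt N92729 F414983) (tt N60676 F414981) (tt N101708 (iv3 F433981)) (tt N119281 D222540) (tt N60019 (iv5 D200094)) (tt N60020 F414982) (tt N117705 (iv7 F506532)))
theorem Q97004 : ∀ i, i < 97004 → P i := stepQ 97003 Q97003 (allL N97003 (tt N102027 (iv1 F435425)) (tt N102163 F435991) (tt N102164 (iv2 F435992)) (tt N118909 (iv3 F512695)) (tt N92690 F414984) (tt N117705 (iv5 F506530)) (tt N95815 F414985) (tt N60019 (iv7 D200095)))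
theorem Q97005 : ∀ i, i < 97005 → P i := stepQ 97004 Q97004 (allL N97004 (tt N60504 (iv1 F414987)) (tt N60020 (iv0 D200096)) (tt N95851 F414990) (tt N93066 (iv3 F414988)) (tt N119282 D222541) (tt N93420 F414986) (tt N93064 F414991) (tt N95850 (iv7 F414989)))
theorem Q97006 : ∀ i, i < 97006 → P i := stepQ 97005 Q97005 (allL N97005 (tt N60020 (iv1 D200097)) (tt N60504 F414992) (tt N95850 (iv2 F414995)) (tt N103924 (iv3 F443391)) (tt N119283 D222542) (tt N66018 F414994) (tt N102929 (iv6 F439303)) (tt N95851 F414993))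
theorem Q97007 : ∀ i, i < 97007 → P i := stepQ 97006 Q97006 (allL N97006 (tt N103399 F441443) (tt N103408 F441487) (tt N97856 (iv2 F418531)) (tt N69129 F414996) (tt N60020 (iv4 D200098)) (tt N118249 (iv5 F509363)) (tt N119281 (iv6 F514803)) (tt N95852 F414997))
theorem Q97008 : ∀ i, i < 97008 → P i := stepQ 97007 Q97007 (allL N97007 (tt N65608 F415002) (tt N65607 F415003) (tt N65610 F414998) (tt N84696 F414999) (tt N86834 F415000) (tt N60021 (iv5 D200099)) (tt N86833 F415004) (tt N65505 F415001))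
theorem Q97009 : ∀ i, i < 97009 → P i := stepQ 97008 Q97008 (allL N97008 (tt N111559 (iv1 F476923)) (tt N91570 (iv0 F464701)) (tt N74672 F415005) (tt N60028 F415006) (tt N74042 F415007) (tt N115622 (iv5 F496015)) (tt N60026 (iv6 D200100)) (tt N111560 (iv7 F476927)))
theorem Q97010 : ∀ i, i < 97010 → P i := stepQ 97009 Q97009 (allL N97009 (tt N60030 (iv1 F415009)) (tt N60027 (iv0 D200101)) (tt N93542 (iv2 F415011)) (tt N72956 (iv3 F415010)) (tt N74582 F415008) (tt N119284 D222543) (tt N119285 D222544) (tt N93541 (iv7 F415012)))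
theorem Q97011 : ∀ i, i < 97011 → P i := stepQ 97010 Q97010 (allL N97010 (tt N60027 (iv1 D200102)) (tt N60030 F415013) (tt N93541 (iv2 F415016)) (tt N93488 (iv3 F415017)) (tt N74592 F415015) (tt N98826 (iv5 F422482)) (tt N119286 D222545) (tt N93542 F415014))
theorem Q97012 : ∀ i, i < 97012 → P i := stepQ 97011 Q97011 (allL N97011 (tt N98872 F422651) (tt N99652 (iv0 F425598)) (tt N102664 (iv2 F438124)) (tt N60027 (iv3 D200103)) (tt N74040 F415022) (tt N119287 D222546) (tt N119288 D222547) (tt N93543 F415023))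
theorem Q97013 : ∀ i, i < 97013 → P i := stepQ 97012 Q97012 (allL N97012 (tt N93779 F415026) (tt N108120 F461196) (tt N93550 F415024) (tt N119287 (iv3 F514840)) (tt N110038 (iv4 F469665)) (tt N60027 (iv5 D200104)) (tt N110037 F469663) (tt N93544 F415025))
theorem Q97014 : ∀ i, i < 97014 → P i := stepQ 97013 Q97013 (allL N97013 (tt N119289 D222548) (tt N119290 D222549) (tt N93551 F415027) (tt N119288 (iv3 F514847)) (tt N60028 F415028) (tt N119291 D222550) (tt N60027 (iv6 D200105)) (tt N119292 D222551))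
theorem Q97015 : ∀ i, i < 97015 → P i := stepQ 97014 Q97014 (allL N97014 (tt N81111 (iv1 F415035)) (tt N60028 (iv0 D200106)) (tt N74543 (iv2 F415030)) (tt N93397 F415031) (tt N77893 F415032) (tt N94910 (iv5 F415036)) (tt N77887 F415029) (tt N93552 (iv7 F415033)))
theorem Q97016 : ∀ i, i < 97016 → P i := stepQ 97015 Q97015 (allL N97015 (tt N108186 (iv1 F461438)) (tt N100557 (iv0 F429455)) (tt N93553 F415037) (tt N115622 (iv3 F496014)) (tt N100930 (iv4 F436683)) (tt N60028 (iv5 D200107)) (tt N93593 F415038) (tt N101605 F436689))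
theorem Q97017 : ∀ i, i < 97017 → P i := stepQ 97016 Q97016 (allL N97016 (tt N93552 (iv1 F415041)) (tt N74543 F415042) (tt N81111 F415039) (tt N111560 (iv3 F476924)) (tt N119292 (iv4 F514867)) (tt N101605 (iv5 F436690)) (tt N93548 F415040) (tt N60028 (iv7 D200108)))
theorem Q97018 : ∀ i, i < 97018 → P i := stepQ 97017 Q97017 (allL N97017 (tt N74571 F415047) (tt N74569 F415048) (tt N81118 F415043) (tt N69056 F415044) (tt N60029 (iv4 D200109)) (tt N69054 F415046) (tt N81116 F415049) (tt N80802 F415045))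
theorem Q97019 : ∀ i, i < 97019 → P i := stepQ 97018 Q97018 (allL N97018 (tt N81710 (iv1 F415056)) (tt N111549 F476872) (tt N111552 (iv2 F476880)) (tt N60031 F415053) (tt N81116 F415054) (tt N96717 (iv5 F415057)) (tt N60029 (iv6 D200110)) (tt N81113 F415055))
theorem Q97020 : ∀ i, i < 97020 → P i := stepQ 97019 Q97019 (allL N97019 (tt N108120 F461195) (tt N93779 F415061) (tt N93544 F415058) (tt N62042 F415059) (tt N107759 (iv4 F459597)) (tt N60030 (iv5 D200111)) (tt N107758 F459593) (tt N93550 F415060))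
theorem Q97021 : ∀ i, i < 97021 → P i := stepQ 97020 Q97020 (allL N97020 (tt N119293 D222552) (tt N119294 D222553) (tt N93545 F415062) (tt N62125 F415063) (tt N60031 F415064) (tt N119102 (iv5 F513799)) (tt N60030 (iv6 D200112)) (tt N119295 D222554))
theorem Q97022 : ∀ i, i < 97022 → P i := stepQ 97021 Q97021 (allL N97021 (tt N60031 (iv1 D200113)) (tt N93548 F415065) (tt N74561 F415069) (tt N93597 (iv3 F415070)) (tt N99009 (iv4 F424773)) (tt N64803 F415067) (tt N62353 (iv6 F415068)) (tt N93546 F415066))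
theorem Q97023 : ∀ i, i < 97023 → P i := stepQ 97022 Q97022 (allL N97022 (tt N74561 (iv1 F415075)) (tt N93546 F415076) (tt N93548 F415071) (tt N81113 F415072) (tt N119295 (iv4 F514888)) (tt N95993 F415073) (tt N81111 F415074) (tt N60031 (iv7 D200114)))
theorem Q97024 : ∀ i, i < 97024 → P i := stepQ 97023 Q97023 (allL N97023 (tt N60036 F415081) (tt N60032 (iv0 D200115)) (tt N60033 F415082) (tt N81078 (iv3 F415078)) (tt N61811 (iv4 F415079)) (tt N108187 (iv5 F461440)) (tt N61810 F415077) (tt N60034 (iv7 F415080)))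
theorem Q97025 : ∀ i, i < 97025 → P i := stepQ 97024 Q97024 (allL N97024 (tt N60034 (iv1 F415088)) (tt N60033 F415089) (tt N60036 F415084) (tt N72207 F415085) (tt N99016 (iv4 F423043)) (tt N72205 F415086) (tt N77117 F415087) (tt N60032 (iv7 D200116)))
theorem Q97026 : ∀ i, i < 97026 → P i := stepQ 97025 Q97025 (allL N97025 (tt N91487 (iv1 F415093)) (tt N91610 F415094) (tt N91608 F415090) (tt N60033 (iv3 D200117)) (tt N91486 F415092) (tt N90262 (iv5 F415102)) (tt N110474 (iv6 F471756)) (tt N91607 F415091))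
theorem Q97027 : ∀ i, i < 97027 → P i := stepQ 97026 Q97026 (allL N97026 (tt N119296 D222555) (tt N119286 (iv0 F514837)) (tt N61811 F415095) (tt N62104 (iv3 F415096)) (tt N60033 (iv4 D200118)) (tt N110639 (iv5 F472545)) (tt N61807 (iv6 F415097)) (tt N118831 (iv7 F512308)))
theorem Q97028 : ∀ i, i < 97028 → P i := stepQ 97027 Q97027 (allL N97027 (tt N81988 F415099) (tt N108183 F461447) (tt N108187 F461444) (tt N90262 F415101) (tt N119297 D222556) (tt N60033 (iv5 D200119)) (tt N73472 (iv6 F415100)) (tt N108188 (iv7 F461448)))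
theorem Q97029 : ∀ i, i < 97029 → P i := stepQ 97028 Q97028 (allL N97028 (tt N62353 (iv1 F415108)) (tt N62355 (iv0 F415107)) (tt N61810 F415103) (tt N110474 F471755) (tt N61807 F415104) (tt N68350 F415105) (tt N60033 (iv6 D200120)) (tt N93378 F415106))
theorem Q97030 : ∀ i, i < 97030 → P i := stepQ 97029 Q97029 (allL N97029 (tt N119286 F514838) (tt N119296 F514896) (tt N118831 (iv2 F512304)) (tt N61819 F415109) (tt N60034 (iv4 D200121)) (tt N110644 (iv5 F472564)) (tt N93380 F415110) (tt N61811 F415111))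
theorem Q97031 : ∀ i, i < 97031 → P i := stepQ 97030 Q97030 (allL N97030 (tt N108183 F461423) (tt N81988 (iv0 F415113)) (tt N108188 (iv2 F461451)) (tt N112298 F480427) (tt N119298 D222557) (tt N60034 (iv5 D200122)) (tt N94995 F415112) (tt N108187 F461446))
theorem Q97032 : ∀ i, i < 97032 → P i := stepQ 97031 Q97031 (allL N97031 (tt N72205 (iv1 F415123)) (tt N60035 (iv0 D200123)) (tt N73038 F415129) (tt N119299 D222558) (tt N119300 D222559) (tt N119085 (iv5 F513708)) (tt N118135 F508794) (tt N72961 F415125))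
theorem Q97033 : ∀ i, i < 97033 → P i := stepQ 97032 Q97032 (allL N97032 (tt N60035 (iv1 D200124)) (tt N72205 F415114) (tt N72961 F415116) (tt N112176 (iv3 F479905)) (tt N119301 D222560) (tt N112175 (iv5 F479902)) (tt N62184 (iv6 F415115)) (tt N73038 (iv7 F415130)))
theorem Q97034 : ∀ i, i < 97034 → P i := stepQ 97033 Q97033 (allL N97033 (tt N110663 (iv1 F472656)) (tt N110662 F472653) (tt N61936 F415117) (tt N99581 (iv3 F425272)) (tt N60035 (iv4 D200125)) (tt N77890 (iv5 F415119)) (tt N93500 F415118) (tt N99029 (iv7 F423088)))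
theorem Q97035 : ∀ i, i < 97035 → P i := stepQ 97034 Q97034 (allL N97034 (tt N72961 (iv1 F415128)) (tt N73038 F415131) (tt N72205 F415120) (tt N60040 F415121) (tt N99029 F423089) (tt N60036 F415122) (tt N72203 (iv6 F415126)) (tt N60035 (iv7 D200126)))
theorem Q97036 : ∀ i, i < 97036 → P i := stepQ 97035 Q97035 (allL N97035 (tt N118412 F510213) (tt N73012 (iv0 F415133)) (tt N119069 F513618) (tt N60037 (iv3 D200127)) (tt N118321 (iv4 F509690)) (tt N118417 (iv5 F510238)) (tt N77477 F415140) (tt N93605 F415132))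
theorem Q97037 : ∀ i, i < 97037 → P i := stepQ 97036 Q97036 (allL N97036 (tt N62204 (iv1 F415137)) (tt N87707 (iv0 F415138)) (tt N91276 F415134) (tt N77477 (iv3 F415139)) (tt N90781 F415135) (tt N118443 (iv5 F510384)) (tt N60037 (iv6 D200128)) (tt N72970 F415136))
theorem Q97038 : ∀ i, i < 97038 → P i := stepQ 97037 Q97037 (allL N97037 (tt N89479 F415144) (tt N109478 (iv0 F467179)) (tt N117070 (iv2 F503229)) (tt N60038 (iv3 D200129)) (tt N106439 (iv4 F454441)) (tt N93713 F415141) (tt N72966 F415142) (tt N93604 F415143))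
theorem Q97039 : ∀ i, i < 97039 → P i := stepQ 97038 Q97038 (allL N97038 (tt N96884 F415147) (tt N95578 (iv0 F415150)) (tt N71599 F415145) (tt N60039 (iv3 D200130)) (tt N99581 (iv4 F425273)) (tt N96833 (iv5 F415149)) (tt N95556 F415146) (tt N99714 (iv7 F425876)))
theorem Q97040 : ∀ i, i < 97040 → P i := stepQ 97039 Q97039 (allL N97039 (tt N95032 F415154) (tt N79485 F415155) (tt N93607 F415151) (tt N96833 F415152) (tt N65684 F415153) (tt N60039 (iv5 D200131)) (tt N112497 (iv6 F481361)) (tt N93622 (iv7 F415156)))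
theorem Q97041 : ∀ i, i < 97041 → P i := stepQ 97040 Q97040 (allL N97040 (tt N93606 (iv1 F415161)) (tt N89935 F415162) (tt N65934 F415157) (tt N99714 (iv3 F425873)) (tt N60040 F415158) (tt N93622 F415159) (tt N69442 F415160) (tt N60039 (iv7 D200132)))
theorem Q97042 : ∀ i, i < 97042 → P i := stepQ 97041 Q97041 (allL N97041 (tt N60043 (iv1 D200133)) (tt N102108 F435769) (tt N97607 (iv2 F417573)) (tt N80447 (iv3 F415179)) (tt N71600 (iv4 F415180)) (tt N60599 F415178) (tt N102035 F435460) (tt N80445 F415177))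
theorem Q97043 : ∀ i, i < 97043 → P i := stepQ 97042 Q97042 (allL N97042 (tt N80445 F415185) (tt N97607 (iv0 F417577)) (tt N60043 (iv2 D200134)) (tt N93621 F415181) (tt N96818 F415182) (tt N67175 F415183) (tt N60048 F415184) (tt N102108 (iv7 F435767)))
theorem Q97044 : ∀ i, i < 97044 → P i := stepQ 97043 Q97043 (allL N97043 (tt N97607 (iv1 F417578)) (tt N80445 (iv0 F415189)) (tt N102108 (iv2 F435764)) (tt N60045 F415186) (tt N96819 F415187) (tt N67302 F415188) (tt N101980 (iv6 F435198)) (tt N60043 (iv7 D200135)))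
theorem Q97045 : ∀ i, i < 97045 → P i := stepQ 97044 Q97044 (allL N97044 (tt N79485 F415194) (tt N95032 F415195) (tt N93622 F415190) (tt N65935 F415191) (tt N60044 (iv4 D200136)) (tt N65934 F415192) (tt N67299 F415193) (tt N93607 F415196))
theorem Q97046 : ∀ i, i < 97046 → P i := stepQ 97045 Q97045 (allL N97045 (tt N65521 (iv1 F415201)) (tt N65686 F415202) (tt N65684 F415197) (tt N67302 F415198) (tt N93607 F415199) (tt N60045 F415200) (tt N117696 (iv6 F506472)) (tt N60044 (iv7 D200137)))
theorem Q97047 : ∀ i, i < 97047 → P i := stepQ 97046 Q97046 (allL N97046 (tt N60705 F418252) (tt N96449 (iv0 F415205)) (tt N102023 (iv2 F435396)) (tt N60046 (iv3 D200138)) (tt N94782 F415204) (tt N60936 F415203) (tt N97603 (iv6 F417555)) (tt N102025 (iv7 F435407)))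
theorem Q97048 : ∀ i, i < 97048 → P i := stepQ 97047 Q97047 (allL N97047 (tt N95848 F415212) (tt N60760 F415213) (tt N111816 (iv2 F478125)) (tt N60047 (iv3 D200139)) (tt N97527 (iv4 F417261)) (tt N60937 F415206) (tt N82384 (iv6 F415211)) (tt N102885 (iv7 F439100)))
theorem Q97049 : ∀ i, i < 97049 → P i := stepQ 97048 Q97048 (allL N97048 (tt N60471 F415208) (tt N82385 (iv0 F415209)) (tt N102884 (iv2 F439091)) (tt N82384 F415210) (tt N111818 (iv4 F478140)) (tt N74377 F415207) (tt N60047 (iv6 D200140)) (tt N111817 (iv7 F478136)))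
theorem Q97050 : ∀ i, i < 97050 → P i := stepQ 97049 Q97049 (allL N97049 (tt N94045 F415216) (tt N60050 (iv0 D200141)) (tt N92233 (iv2 F415215)) (tt N75731 (iv3 F430419)) (tt N116312 (iv4 F499503)) (tt N109737 (iv5 F468357)) (tt N92217 F415214) (tt N111263 (iv7 F475512)))
theorem Q97051 : ∀ i, i < 97051 → P i := stepQ 97050 Q97050 (allL N97050 (tt N60050 (iv1 D200142)) (tt N94045 F415217) (tt N111263 (iv2 F475510)) (tt N104120 (iv3 F444279)) (tt N113863 (iv4 F487516)) (tt N114959 (iv5 F492766)) (tt N91084 F447632) (tt N92233 F415218))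
theorem Q97052 : ∀ i, i < 97052 → P i := stepQ 97051 Q97051 (allL N97051 (tt N111263 F475514) (tt N92233 (iv0 F415222)) (tt N94045 F415219) (tt N60054 F415220) (tt N113782 (iv4 F487087)) (tt N97173 (iv5 F415752)) (tt N74412 F415221) (tt N60050 (iv7 D200143)))
theorem Q97053 : ∀ i, i < 97053 → P i := stepQ 97052 Q97052 (allL N97052 (tt N102148 (iv1 F435941)) (tt N102112 (iv0 F435790)) (tt N74378 F415223) (tt N65425 F415224) (tt N79259 (iv4 F415227)) (tt N60052 (iv5 D200144)) (tt N60442 F415225) (tt N78400 F415226))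
theorem Q97054 : ∀ i, i < 97054 → P i := stepQ 97053 Q97053 (allL N97053 (tt N74377 (iv1 F415233)) (tt N74376 F415234) (tt N65717 F415228) (tt N67273 F415229) (tt N60054 F415230) (tt N78400 F415231) (tt N67168 F415232) (tt N60052 (iv7 D200145)))
theorem Q97055 : ∀ i, i < 97055 → P i := stepQ 97054 Q97054 (allL N97054 (tt N62804 F421295) (tt N74909 F421296) (tt N74908 F426305) (tt N60053 (iv3 D200146)) (tt N105765 (iv4 F451597)) (tt N104996 (iv5 F448301)) (tt N98551 (iv6 F421298)) (tt N74379 F415235))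
theorem Q97056 : ∀ i, i < 97056 → P i := stepQ 97055 Q97055 (allL N97055 (tt N60448 F415239) (tt N93987 F415240) (tt N74383 F415236) (tt N111937 (iv3 F478758)) (tt N60053 (iv4 D200147)) (tt N86949 (iv5 F415241)) (tt N67370 F415237) (tt N74380 F415238))
theorem Q97057 : ∀ i, i < 97057 → P i := stepQ 97056 Q97056 (allL N97056 (tt N66377 F415246) (tt N96067 (iv0 F415247)) (tt N66498 F415242) (tt N68694 F415243) (tt N62154 F415244) (tt N68693 F415245) (tt N60055 (iv6 D200148)) (tt N102421 (iv7 F437165)))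
theorem Q97058 : ∀ i, i < 97058 → P i := stepQ 97057 Q97057 (allL N97057 (tt N81827 F415254) (tt N81820 (iv0 F415255)) (tt N60058 F415250) (tt N95750 F415251) (tt N106040 (iv4 F452847)) (tt N60057 (iv5 D200149)) (tt N81417 F415252) (tt N81826 F415253))
theorem Q97059 : ∀ i, i < 97059 → P i := stepQ 97058 Q97058 (allL N97058 (tt N81826 (iv1 F415259)) (tt N60058 (iv0 D200150)) (tt N81827 (iv2 F415258)) (tt N112073 (iv3 F479362)) (tt N119302 D222561) (tt N60074 F415256) (tt N81468 F415257) (tt N81820 F415260))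
theorem Q97060 : ∀ i, i < 97060 → P i := stepQ 97059 Q97059 (allL N97059 (tt N62938 F415265) (tt N89219 (iv0 F415266)) (tt N106040 (iv2 F452845)) (tt N96242 F415261) (tt N60058 (iv4 D200151)) (tt N71789 F415264) (tt N90479 F415262) (tt N90699 F415263))
theorem Q97061 : ∀ i, i < 97061 → P i := stepQ 97060 Q97060 (allL N97060 (tt N62146 (iv1 F415271)) (tt N62142 F415272) (tt N94059 F415267) (tt N81418 F415268) (tt N98945 (iv4 F422832)) (tt N94474 F415269) (tt N94038 F415270) (tt N60059 (iv7 D200152)))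
theorem Q97062 : ∀ i, i < 97062 → P i := stepQ 97061 Q97061 (allL N97061 (tt N105151 F449016) (tt N105153 F449029) (tt N105150 (iv2 F449009)) (tt N93501 F415273) (tt N60060 (iv4 D200153)) (tt N119303 D222562) (tt N107776 (iv6 F459676)) (tt N95759 F415274))
theorem Q97063 : ∀ i, i < 97063 → P i := stepQ 97062 Q97062 (allL N97062 (tt N102259 (iv1 F436417)) (tt N100372 (iv0 F428649)) (tt N102261 (iv2 F436428)) (tt N60061 F415275) (tt N107776 (iv4 F459672)) (tt N95639 F415276) (tt N60060 (iv6 D200154)) (tt N95638 F415277))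
theorem Q97064 : ∀ i, i < 97064 → P i := stepQ 97063 Q97063 (allL N97063 (tt N60099 (iv1 F415282)) (tt N60061 (iv0 D200155)) (tt N60096 (iv2 F415279)) (tt N71363 F415280) (tt N98834 F422504) (tt N101231 (iv5 F432323)) (tt N71360 F415278) (tt N60097 F415281))
theorem Q97065 : ∀ i, i < 97065 → P i := stepQ 97064 Q97064 (allL N97064 (tt N112733 F482421) (tt N82074 (iv0 F415286)) (tt N60098 F415283) (tt N95639 F415284) (tt N113719 (iv4 F486815)) (tt N60061 (iv5 D200156)) (tt N60062 F415285) (tt N95636 (iv7 F415287)))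
theorem Q97066 : ∀ i, i < 97066 → P i := stepQ 97065 Q97065 (allL N97065 (tt N60097 (iv1 F415293)) (tt N60096 F415294) (tt N60099 F415288) (tt N95638 F415289) (tt N93512 F415290) (tt N95636 F415291) (tt N95762 F415292) (tt N60061 (iv7 D200157)))
theorem Q97067 : ∀ i, i < 97067 → P i := stepQ 97066 Q97066 (allL N97066 (tt N100813 (iv1 F430594)) (tt N100812 F430591) (tt N60104 F415298) (tt N113720 (iv3 F486824)) (tt N60062 (iv4 D200158)) (tt N118534 (iv5 F510831)) (tt N113719 (iv6 F486821)) (tt N100809 (iv7 F430578)))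
theorem Q97068 : ∀ i, i < 97068 → P i := stepQ 97067 Q97067 (allL N97067 (tt N95825 F415301) (tt N95826 F415302) (tt N111649 (iv2 F477299)) (tt N60065 (iv3 D200159)) (tt N75194 F415299) (tt N118424 (iv5 F510278)) (tt N111814 (iv6 F478118)) (tt N95764 F415300))
theorem Q97069 : ∀ i, i < 97069 → P i := stepQ 97068 Q97068 (allL N97068 (tt N60105 F415306) (tt N75389 (iv0 F415307)) (tt N82012 F415303) (tt N111814 F478117) (tt N80168 F415304) (tt N98773 (iv5 F422262)) (tt N60065 (iv6 D200160)) (tt N82026 F415305))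
theorem Q97070 : ∀ i, i < 97070 → P i := stepQ 97069 Q97069 (allL N97069 (tt N92495 F415313) (tt N73328 F415314) (tt N60067 F415308) (tt N81492 F415309) (tt N72711 F415310) (tt N60066 (iv5 D200161)) (tt N81271 F415311) (tt N92497 F415312))
theorem Q97071 : ∀ i, i < 97071 → P i := stepQ 97070 Q97070 (allL N97070 (tt N76733 F415319) (tt N81273 F415320) (tt N81271 F415315) (tt N60069 F415316) (tt N93698 F415317) (tt N102803 (iv5 F438707)) (tt N60067 (iv6 D200162)) (tt N81270 F415318))
theorem Q97072 : ∀ i, i < 97072 → P i := stepQ 97071 Q97071 (allL N97071 (tt N95782 (iv1 F415333)) (tt N60069 (iv0 D200163)) (tt N95779 F415327) (tt N67804 (iv3 F415325)) (tt N72654 F415322) (tt N80629 F415323) (tt N63606 F415324) (tt N95780 (iv7 F415326)))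
theorem Q97073 : ∀ i, i < 97073 → P i := stepQ 97072 Q97072 (allL N97072 (tt N60069 (iv1 D200164)) (tt N95782 F415328) (tt N95780 F415331) (tt N86380 (iv3 F415330)) (tt N72655 F415332) (tt N101694 (iv5 F433904)) (tt N102774 (iv6 F438585)) (tt N95779 F415329))
theorem Q97074 : ∀ i, i < 97074 → P i := stepQ 97073 Q97073 (allL N97073 (tt N95780 (iv1 F415338)) (tt N95779 F415339) (tt N95782 F415334) (tt N81270 F415335) (tt N98895 (iv4 F422713)) (tt N69419 F415336) (tt N95767 F415337) (tt N60069 (iv7 D200165)))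
theorem Q97075 : ∀ i, i < 97075 → P i := stepQ 97074 Q97074 (allL N97074 (tt N95168 F415345) (tt N65857 F415346) (tt N70221 F415340) (tt N94075 F415341) (tt N73046 F415344) (tt N60072 (iv5 D200166)) (tt N70148 F415342) (tt N73526 F415343))
theorem Q97076 : ∀ i, i < 97076 → P i := stepQ 97075 Q97075 (allL N97075 (tt N82423 F415351) (tt N82422 (iv0 F415352)) (tt N73090 F415347) (tt N97495 F417103) (tt N60074 (iv4 D200167)) (tt N61156 F415350) (tt N81976 F415348) (tt N82417 F415349))
theorem Q97077 : ∀ i, i < 97077 → P i := stepQ 97076 Q97076 (allL N97076 (tt N65079 F415357) (tt N65084 (iv0 F415358)) (tt N65081 F415353) (tt N60081 F415354) (tt N118358 (iv4 F509898)) (tt N60077 (iv5 D200168)) (tt N77683 F415355) (tt N65080 F415356))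
theorem Q97078 : ∀ i, i < 97078 → P i := stepQ 97077 Q97077 (allL N97077 (tt N60078 (iv1 D200169)) (tt N95767 F415359) (tt N86376 F415362) (tt N92380 (iv3 F415361)) (tt N77986 F415363) (tt N103184 (iv5 F440463)) (tt N94088 F415364) (tt N77981 F415360))
theorem Q97079 : ∀ i, i < 97079 → P i := stepQ 97078 Q97078 (allL N97078 (tt N65855 F415369) (tt N65859 F415370) (tt N95769 F415366) (tt N79578 F415367) (tt N108940 (iv4 F464585)) (tt N60079 (iv5 D200170)) (tt N100388 (iv6 F428744)) (tt N95770 F415368))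
theorem Q97080 : ∀ i, i < 97080 → P i := stepQ 97079 Q97079 (allL N97079 (tt N102788 (iv1 F438659)) (tt N111094 (iv0 F474634)) (tt N100688 (iv2 F430022)) (tt N60080 (iv3 D200171)) (tt N81771 F415372) (tt N112309 (iv5 F480476)) (tt N95836 F415373) (tt N95768 F415374))
theorem Q97081 : ∀ i, i < 97081 → P i := stepQ 97080 Q97080 (allL N97080 (tt N95773 (iv1 F415379)) (tt N60081 (iv0 D200172)) (tt N95771 (iv2 F415376)) (tt N80237 (iv3 F415378)) (tt N117129 (iv4 F503533)) (tt N80235 F415375) (tt N111648 (iv6 F477297)) (tt N92067 F415377))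
theorem Q97082 : ∀ i, i < 97082 → P i := stepQ 97081 Q97081 (allL N97081 (tt N92067 (iv1 F415383)) (tt N95771 F415384) (tt N95773 F415380) (tt N65080 F415381) (tt N102267 (iv4 F436462)) (tt N60082 F415382) (tt N116142 (iv6 F498708)) (tt N60081 (iv7 D200173)))
theorem Q97083 : ∀ i, i < 97083 → P i := stepQ 97082 Q97082 (allL N97082 (tt N97420 (iv1 F416821)) (tt N86370 (iv0 F415386)) (tt N111687 (iv2 F477489)) (tt N60086 (iv3 D200174)) (tt N102091 (iv4 F435678)) (tt N97408 (iv5 F416758)) (tt N109275 (iv6 F466132)) (tt N95788 F415385))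
theorem Q97084 : ∀ i, i < 97084 → P i := stepQ 97083 Q97083 (allL N97083 (tt N60087 (iv1 D200175)) (tt N81131 F415387) (tt N60387 (iv2 F415391)) (tt N86368 (iv3 F415396)) (tt N92913 F415390) (tt N60384 F415389) (tt N90398 (iv6 F415392)) (tt N60392 F415388))
theorem Q97085 : ∀ i, i < 97085 → P i := stepQ 97084 Q97084 (allL N97084 (tt N95756 F415408) (tt N106825 (iv0 F455852)) (tt N96420 F415404) (tt N60089 (iv3 D200176)) (tt N95778 F415405) (tt N99262 (iv5 F423862)) (tt N87813 F415406) (tt N95792 F415407))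
theorem Q97086 : ∀ i, i < 97086 → P i := stepQ 97085 Q97085 (allL N97085 (tt N101671 F433787) (tt N109290 (iv0 F466218)) (tt N60093 F415410) (tt N80378 F415411) (tt N95335 F415412) (tt N90196 F415413) (tt N60091 (iv6 D200177)) (tt N80365 F415414))
theorem Q97087 : ∀ i, i < 97087 → P i := stepQ 97086 Q97086 (allL N97086 (tt N80365 (iv1 F415420)) (tt N60093 (iv0 D200178)) (tt N101671 F433786) (tt N111906 (iv3 F478573)) (tt N100693 F430046) (tt N112163 (iv5 F479839)) (tt N104788 F447281) (tt N109290 (iv7 F466217)))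
theorem Q97088 : ∀ i, i < 97088 → P i := stepQ 97087 Q97087 (allL N97087 (tt N109290 F466219) (tt N101671 (iv0 F433788)) (tt N80365 F415416) (tt N60094 F415417) (tt N95337 F415418) (tt N102264 (iv5 F436446)) (tt N80361 F415419) (tt N60093 (iv7 D200179)))
theorem Q97089 : ∀ i, i < 97089 → P i := stepQ 97088 Q97088 (allL N97088 (tt N101230 (iv1 F432315)) (tt N75761 (iv0 F415425)) (tt N101231 (iv2 F432320)) (tt N79436 F415421) (tt N77139 F415423) (tt N60096 (iv5 D200180)) (tt N103807 F442911) (tt N77135 F415422))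
theorem Q97090 : ∀ i, i < 97090 → P i := stepQ 97089 Q97089 (allL N97089 (tt N95636 F415434) (tt N60098 (iv0 D200181)) (tt N112733 (iv2 F482416)) (tt N80762 (iv3 F415432)) (tt N84122 F415430) (tt N77757 (iv5 F415435)) (tt N79402 F415431) (tt N82074 (iv7 F415433)))
theorem Q97091 : ∀ i, i < 97091 → P i := stepQ 97090 Q97090 (allL N97090 (tt N60098 (iv1 D200182)) (tt N95636 F415441) (tt N82074 F415444) (tt N81513 F415445) (tt N96269 F415446) (tt N77758 (iv5 F415442)) (tt N78215 (iv6 F415443)) (tt N112733 (iv7 F482419)))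
theorem Q97092 : ∀ i, i < 97092 → P i := stepQ 97091 Q97091 (allL N97091 (tt N85371 (iv1 F415449)) (tt N81357 (iv0 F415448)) (tt N113719 (iv2 F486814)) (tt N109099 (iv3 F465333)) (tt N60098 (iv4 D200183)) (tt N114257 (iv5 F489261)) (tt N60104 F415447) (tt N114017 (iv7 F488212)))
theorem Q97093 : ∀ i, i < 97093 → P i := stepQ 97092 Q97092 (allL N97092 (tt N82074 (iv1 F415454)) (tt N112733 (iv0 F482420)) (tt N95636 F415450) (tt N82463 F415451) (tt N114017 (iv4 F488210)) (tt N60099 F415452) (tt N82462 F415453) (tt N60098 (iv7 D200184)))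
theorem Q97094 : ∀ i, i < 97094 → P i := stepQ 97093 Q97093 (allL N97093 (tt N101293 (iv1 F432569)) (tt N64473 F415459) (tt N64752 F415455) (tt N64705 F415456) (tt N60101 (iv4 D200185)) (tt N110714 (iv5 F472870)) (tt N81329 F415457) (tt N77330 F415458))
theorem Q97095 : ∀ i, i < 97095 → P i := stepQ 97094 Q97094 (allL N97094 (tt N99821 F426387) (tt N94935 F415461) (tt N100811 (iv2 F430584)) (tt N77296 F415460) (tt N60102 (iv4 D200186)) (tt N110333 (iv5 F471090)) (tt N77295 (iv6 F415462)) (tt N100810 (iv7 F430583)))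
theorem Q97096 : ∀ i, i < 97096 → P i := stepQ 97095 Q97095 (allL N97095 (tt N78217 F415467) (tt N78707 (iv0 F415468)) (tt N65344 F415463) (tt N79277 F415464) (tt N77295 F415465) (tt N65341 F415466) (tt N60102 (iv6 D200187)) (tt N65339 F415469))
theorem Q97097 : ∀ i, i < 97097 → P i := stepQ 97096 Q97096 (allL N97096 (tt N94935 F415470) (tt N99821 F426388) (tt N100810 (iv2 F430582)) (tt N101284 (iv3 F432522)) (tt N60103 (iv4 D200188)) (tt N101283 (iv5 F432520)) (tt N105218 (iv6 F449252)) (tt N100811 (iv7 F430587)))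
theorem Q97098 : ∀ i, i < 97098 → P i := stepQ 97097 Q97097 (allL N97097 (tt N99636 F425529) (tt N104590 (iv0 F446440)) (tt N67825 F415471) (tt N83422 F415472) (tt N105218 (iv4 F449250)) (tt N67817 F415473) (tt N60103 (iv6 D200189)) (tt N67828 F415474))
theorem Q97099 : ∀ i, i < 97099 → P i := stepQ 97098 Q97098 (allL N97098 (tt N100809 (iv1 F430581)) (tt N60104 (iv0 D200190)) (tt N100813 F430597) (tt N89417 F419907) (tt N118430 (iv4 F510310)) (tt N89416 (iv5 F419908)) (tt N118429 (iv6 F510307)) (tt N100812 F430593))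
theorem Q97100 : ∀ i, i < 97100 → P i := stepQ 97099 Q97099 (allL N97099 (tt N60104 (iv1 D200191)) (tt N100809 (iv0 F430580)) (tt N100812 F430592) (tt N119304 D222563) (tt N82032 F415475) (tt N119305 D222564) (tt N109114 F465403) (tt N100813 (iv7 F430595)))
theorem Q97101 : ∀ i, i < 97101 → P i := stepQ 97100 Q97100 (allL N97100 (tt N118469 (iv1 F510540)) (tt N118535 F510840) (tt N118534 F510835) (tt N109098 (iv3 F465328)) (tt N110713 F472868) (tt N60104 (iv5 D200192)) (tt N119306 D222565) (tt N100814 (iv7 F430600)))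
theorem Q97102 : ∀ i, i < 97102 → P i := stepQ 97101 Q97101 (allL N97101 (tt N84342 F415478) (tt N99786 (iv0 F426212)) (tt N109669 (iv2 F468024)) (tt N92835 F415476) (tt N60106 (iv4 D200193)) (tt N118469 (iv5 F510538)) (tt N109223 F465847) (tt N95834 F415477))
theorem Q97103 : ∀ i, i < 97103 → P i := stepQ 97102 Q97102 (allL N97102 (tt N117829 (iv1 F507164)) (tt N106564 (iv0 F454880)) (tt N117827 F507156) (tt N60108 (iv3 D200194)) (tt N71390 F415479) (tt N119307 D222566) (tt N118605 (iv6 F511125)) (tt N117808 (iv7 F507074)))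
theorem Q97104 : ∀ i, i < 97104 → P i := stepQ 97103 Q97103 (allL N97103 (tt N94300 F415480) (tt N94302 F415481) (tt N117807 (iv2 F507066)) (tt N119307 (iv3 F514953)) (tt N119305 (iv4 F514945)) (tt N60108 (iv5 D200195)) (tt N119308 D222567) (tt N117809 (iv7 F507079)))
theorem Q97105 : ∀ i, i < 97105 → P i := stepQ 97104 Q97104 (allL N97104 (tt N100378 (iv1 F428680)) (tt N95754 F415486) (tt N65860 F415482) (tt N91861 F415483) (tt N60109 (iv4 D200196)) (tt N118430 (iv5 F510311)) (tt N65836 F415484) (tt N65883 F415485))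
theorem Q97106 : ∀ i, i < 97106 → P i := stepQ 97105 Q97105 (allL N97105 (tt N117774 F506901) (tt N117845 F507236) (tt N117844 F507234) (tt N60110 (iv3 D200197)) (tt N72952 F415487) (tt N89403 F415492) (tt N104646 (iv6 F446672)) (tt N117806 (iv7 F507063)))
theorem Q97107 : ∀ i, i < 97107 → P i := stepQ 97106 Q97106 (allL N97106 (tt N94302 F415488) (tt N94300 F415489) (tt N117809 (iv2 F507077)) (tt N89403 (iv3 F415490)) (tt N89416 F415491) (tt N60110 (iv5 D200198)) (tt N113735 (iv6 F486891)) (tt N117807 (iv7 F507069)))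
theorem Q97108 : ∀ i, i < 97108 → P i := stepQ 97107 Q97107 (allL N97107 (tt N118849 (iv1 F512406)) (tt N93575 (iv0 F415495)) (tt N107893 (iv2 F460147)) (tt N60112 (iv3 D200199)) (tt N74559 F415493) (tt N119309 D222568) (tt N95090 F415494) (tt N117804 (iv7 F507055)))
theorem Q97109 : ∀ i, i < 97109 → P i := stepQ 97108 Q97108 (allL N97108 (tt N94308 F415496) (tt N94309 F415497) (tt N107556 (iv2 F458740)) (tt N119309 (iv3 F514962)) (tt N101283 F432519) (tt N60112 (iv5 D200200)) (tt N119310 D222569) (tt N117805 (iv7 F507058)))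
theorem Q97110 : ∀ i, i < 97110 → P i := stepQ 97109 Q97109 (allL N97109 (tt N94309 F415498) (tt N94308 F415499) (tt N117805 (iv2 F507057)) (tt N118602 (iv3 F511108)) (tt N110333 F471092) (tt N60113 (iv5 D200201)) (tt N119311 D222570) (tt N107556 (iv7 F458741)))
theorem Q97111 : ∀ i, i < 97111 → P i := stepQ 97110 Q97110 (allL N97110 (tt N118535 (iv1 F510841)) (tt N118469 (iv0 F510539)) (tt N100814 (iv2 F430598)) (tt N117335 (iv3 F504513)) (tt N60114 (iv4 D200202)) (tt N100809 (iv5 F430579)) (tt N117333 (iv6 F504504)) (tt N118534 (iv7 F510830)))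
theorem Q97112 : ∀ i, i < 97112 → P i := stepQ 97111 Q97111 (allL N97111 (tt N119312 D222571) (tt N119313 D222572) (tt N117803 (iv2 F507048)) (tt N107587 (iv3 F458860)) (tt N117333 (iv4 F504505)) (tt N60116 F415500) (tt N60114 (iv6 D200203)) (tt N119314 D222573))
theorem Q97113 : ∀ i, i < 97113 → P i := stepQ 97112 Q97112 (allL N97112 (tt N108587 (iv1 F463169)) (tt N60116 (iv0 D200204)) (tt N117801 F507042) (tt N93575 (iv3 F415502)) (tt N95569 F440653) (tt N119315 D222574) (tt N93574 F415501) (tt N117802 (iv7 F507045)))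
theorem Q97114 : ∀ i, i < 97114 → P i := stepQ 97113 Q97113 (allL N97113 (tt N60116 (iv1 D200205)) (tt N108587 (iv0 F463168)) (tt N117802 (iv2 F507047)) (tt N119316 D222575) (tt N95570 (iv4 F455326)) (tt N119317 D222576) (tt N117184 (iv6 F503806)) (tt N117801 F507043))
theorem Q97115 : ∀ i, i < 97115 → P i := stepQ 97114 Q97114 (allL N97114 (tt N117802 (iv1 F507044)) (tt N117801 F507041) (tt N108587 (iv2 F463165)) (tt N107588 (iv3 F458863)) (tt N96812 F415503) (tt N119314 (iv5 F514977)) (tt N74288 F415504) (tt N60116 (iv7 D200206)))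
theorem Q97116 : ∀ i, i < 97116 → P i := stepQ 97115 Q97115 (allL N97115 (tt N66586 F415508) (tt N97778 F418273) (tt N97777 (iv2 F418272)) (tt N60117 (iv3 D200207)) (tt N78139 F415505) (tt N79692 (iv5 F415509)) (tt N65597 F415506) (tt N65510 F415507))
theorem Q97117 : ∀ i, i < 97117 → P i := stepQ 97116 Q97116 (allL N97116 (tt N65647 F415515) (tt N65649 F415514) (tt N65651 F415510) (tt N79692 F415511) (tt N91306 (iv4 F415516)) (tt N60117 (iv5 D200208)) (tt N79690 F415512) (tt N65513 F415513))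
theorem Q97118 : ∀ i, i < 97118 → P i := stepQ 97117 Q97117 (allL N97117 (tt N91303 F415521) (tt N102090 F435674) (tt N82529 F415517) (tt N82549 F415518) (tt N83771 F415522) (tt N60119 (iv5 D200209)) (tt N82569 F415519) (tt N60412 F415520))
theorem Q97119 : ∀ i, i < 97119 → P i := stepQ 97118 Q97118 (allL N97118 (tt N60449 (iv1 F415525)) (tt N60120 (iv0 D200210)) (tt N86934 (iv2 F415524)) (tt N111832 (iv3 F478200)) (tt N111569 (iv4 F476962)) (tt N66017 F415523) (tt N112393 (iv6 F480899)) (tt N95821 F415526))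
theorem Q97120 : ∀ i, i < 97120 → P i := stepQ 97119 Q97119 (allL N97119 (tt N94439 F415531) (tt N94441 F415532) (tt N74076 F415527) (tt N84515 F415528) (tt N84517 F415530) (tt N60121 (iv5 D200211)) (tt N119318 D222577) (tt N74078 F415529))
theorem Q97121 : ∀ i, i < 97121 → P i := stepQ 97120 Q97120 (allL N97120 (tt N118829 (iv1 F512290)) (tt N91573 (iv0 F463417)) (tt N93376 F415533) (tt N109252 (iv3 F466002)) (tt N60122 (iv4 D200212)) (tt N96642 F415534) (tt N110473 F471749) (tt N97215 (iv7 F415932)))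
theorem Q97122 : ∀ i, i < 97122 → P i := stepQ 97121 Q97121 (allL N97121 (tt N91619 F415538) (tt N87755 (iv0 F415539)) (tt N97217 (iv2 F415939)) (tt N71041 F415535) (tt N110473 (iv4 F471746)) (tt N71039 F415536) (tt N60122 (iv6 D200213)) (tt N91609 F415537))
theorem Q97123 : ∀ i, i < 97123 → P i := stepQ 97122 Q97122 (allL N97122 (tt N79938 F415547) (tt N61070 F415548) (tt N79936 F415543) (tt N74466 F415544) (tt N60125 (iv4 D200215)) (tt N66796 F415545) (tt N60990 F415546) (tt N79937 F415549))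
theorem Q97124 : ∀ i, i < 97124 → P i := stepQ 97123 Q97123 (allL N97123 (tt N66535 (iv1 F415555)) (tt N66532 F415556) (tt N94413 F415550) (tt N66710 F415551) (tt N79937 F415552) (tt N60126 F415553) (tt N88225 F415554) (tt N60125 (iv7 D200216)))
theorem Q97125 : ∀ i, i < 97125 → P i := stepQ 97124 Q97124 (allL N97124 (tt N75901 (iv1 F415564)) (tt N75910 (iv0 F415563)) (tt N101754 (iv2 F434193)) (tt N60127 (iv3 D200217)) (tt N77881 F415557) (tt N75919 F415558) (tt N74051 F415559) (tt N68114 F415560))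
theorem Q97126 : ∀ i, i < 97126 → P i := stepQ 97125 Q97125 (allL N97125 (tt N72141 F415568) (tt N74207 (iv0 F415569)) (tt N68116 F415565) (tt N108478 F462761) (tt N60129 F415566) (tt N108478 (iv5 F462759)) (tt N60128 (iv6 D200218)) (tt N74052 F415567))
theorem Q97127 : ∀ i, i < 97127 → P i := stepQ 97126 Q97126 (allL N97126 (tt N89943 F415574) (tt N97293 (iv0 F473690)) (tt N91092 (iv2 F415573)) (tt N60130 (iv3 D200219)) (tt N72268 F415570) (tt N111462 (iv5 F476457)) (tt N66534 F415571) (tt N94440 F415572))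
theorem Q97128 : ∀ i, i < 97128 → P i := stepQ 97127 Q97127 (allL N97127 (tt N74078 F415581) (tt N74076 F415582) (tt N94439 F415578) (tt N111462 (iv3 F476455)) (tt N87415 (iv4 F415583)) (tt N60130 (iv5 D200220)) (tt N79960 F415579) (tt N94441 F415580))
theorem Q97129 : ∀ i, i < 97129 → P i := stepQ 97128 Q97128 (allL N97128 (tt N60335 (iv1 F416386)) (tt N89513 (iv0 F415587)) (tt N119319 D222578) (tt N60131 (iv3 D200221)) (tt N94301 F415585) (tt N119241 (iv5 F514566)) (tt N119320 D222579) (tt N94438 F415586))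
theorem Q97130 : ∀ i, i < 97130 → P i := stepQ 97129 Q97129 (allL N97129 (tt N74076 F415590) (tt N74078 F415591) (tt N94441 F415588) (tt N119241 (iv3 F514567)) (tt N112238 F480180) (tt N60131 (iv5 D200222)) (tt N111457 (iv6 F476442)) (tt N94439 F415589))
theorem Q97131 : ∀ i, i < 97131 → P i := stepQ 97130 Q97130 (allL N97130 (tt N65930 (iv1 F415597)) (tt N65933 (iv0 F415596)) (tt N94442 F415592) (tt N119320 (iv3 F514998)) (tt N60329 F415593) (tt N62665 F415595) (tt N60131 (iv6 D200223)) (tt N66533 F415594))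
theorem Q97132 : ∀ i, i < 97132 → P i := stepQ 97131 Q97131 (allL N97131 (tt N99669 (iv1 F425671)) (tt N102110 (iv0 F435779)) (tt N84615 F415598) (tt N79269 F415599) (tt N60132 (iv4 D200224)) (tt N91881 F415600) (tt N79268 F415601) (tt N108528 (iv7 F462959)))
theorem Q97133 : ∀ i, i < 97133 → P i := stepQ 97132 Q97132 (allL N97132 (tt N97235 F439053) (tt N97227 (iv0 F423711)) (tt N97233 F439045) (tt N60133 (iv3 D200225)) (tt N77924 F415603) (tt N119321 D222580) (tt N66540 F415604) (tt N94450 F415605))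
theorem Q97134 : ∀ i, i < 97134 → P i := stepQ 97133 Q97133 (allL N97133 (tt N74071 F415609) (tt N74069 F415610) (tt N94447 F415606) (tt N119321 (iv3 F515003)) (tt N87186 (iv4 F415611)) (tt N60133 (iv5 D200226)) (tt N79935 F415607) (tt N94451 F415608))
theorem Q97135 : ∀ i, i < 97135 → P i := stepQ 97134 Q97134 (allL N97134 (tt N65714 F415617) (tt N92071 F415618) (tt N94448 F415612) (tt N67398 F415613) (tt N60134 (iv4 D200227)) (tt N67389 F415616) (tt N67390 F415614) (tt N65831 F415615))
theorem Q97136 : ∀ i, i < 97136 → P i := stepQ 97135 Q97135 (allL N97135 (tt N60147 F415657) (tt N86092 F415658) (tt N119322 D222581) (tt N60135 (iv3 D200228)) (tt N78142 F415619) (tt N119323 D222582) (tt N108930 (iv6 F464543)) (tt N94446 F415620))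
theorem Q97137 : ∀ i, i < 97137 → P i := stepQ 97136 Q97136 (allL N97136 (tt N74069 F415624) (tt N74071 F415625) (tt N94451 F415621) (tt N119323 (iv3 F515013)) (tt N87393 F415623) (tt N60135 (iv5 D200229)) (tt N119324 D222583) (tt N94447 F415622))
theorem Q97138 : ∀ i, i < 97138 → P i := stepQ 97137 Q97137 (allL N97137 (tt N97228 F415989) (tt N97230 F415996) (tt N91647 F415626) (tt N60137 (iv3 D200230)) (tt N92512 F415627) (tt N104928 (iv5 F447984)) (tt N91097 F415628) (tt N93570 F415629))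
theorem Q97139 : ∀ i, i < 97139 → P i := stepQ 97138 Q97138 (allL N97138 (tt N117115 (iv1 F503480)) (tt N117114 (iv0 F503474)) (tt N112277 (iv2 F480314)) (tt N60140 F415630) (tt N115587 (iv4 F495877)) (tt N60139 (iv5 D200231)) (tt N104986 (iv6 F448274)) (tt N108526 (iv7 F462950)))
theorem Q97140 : ∀ i, i < 97140 → P i := stepQ 97139 Q97139 (allL N97139 (tt N74135 F415632) (tt N106820 (iv0 F455827)) (tt N97223 (iv2 F415965)) (tt N84549 (iv3 F415633)) (tt N60140 (iv4 D200232)) (tt N91862 F415631) (tt N104993 (iv6 F448290)) (tt N108527 (iv7 F462953)))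
theorem Q97141 : ∀ i, i < 97141 → P i := stepQ 97140 Q97140 (allL N97140 (tt N68386 F415637) (tt N103969 (iv0 F443572)) (tt N60146 F415634) (tt N82601 F415635) (tt N97168 (iv4 F415729)) (tt N60143 (iv5 D200233)) (tt N74100 (iv6 F415638)) (tt N60150 F415636))
theorem Q97142 : ∀ i, i < 97142 → P i := stepQ 97141 Q97141 (allL N97141 (tt N94446 F415646) (tt N119322 F515012) (tt N60147 F415642) (tt N91498 F415643) (tt N94536 F415644) (tt N108507 F462890) (tt N60143 (iv6 D200234)) (tt N86092 F415645))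
theorem Q97143 : ∀ i, i < 97143 → P i := stepQ 97142 Q97142 (allL N97142 (tt N103982 (iv1 F443643)) (tt N112692 (iv0 F482194)) (tt N96221 F415647) (tt N60146 F415648) (tt N115206 (iv4 F494013)) (tt N60144 (iv5 D200235)) (tt N119325 D222584) (tt N96224 F415649))
theorem Q97144 : ∀ i, i < 97144 → P i := stepQ 97143 Q97143 (allL N97143 (tt N91654 (iv1 F415654)) (tt N91653 (iv0 F415656)) (tt N91656 F415650) (tt N60147 F415651) (tt N96218 F415652) (tt N119326 D222585) (tt N60144 (iv6 D200236)) (tt N89923 F415653))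
theorem Q97145 : ∀ i, i < 97145 → P i := stepQ 97144 Q97144 (allL N97144 (tt N94521 F415661) (tt N85226 (iv0 F415662)) (tt N94534 F415659) (tt N60145 (iv3 D200237)) (tt N86241 F415660) (tt N112014 F479083) (tt N112628 (iv6 F481903)) (tt N86139 F415663))
theorem Q97146 : ∀ i, i < 97146 → P i := stepQ 97145 Q97145 (allL N97145 (tt N86188 F415665) (tt N96106 F415666) (tt N89730 F415664) (tt N112014 (iv3 F479080)) (tt N98286 (iv4 F420336)) (tt N60145 (iv5 D200238)) (tt N112013 F479079) (tt N118343 (iv7 F509807)))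
theorem Q97147 : ∀ i, i < 97147 → P i := stepQ 97146 Q97146 (allL N97146 (tt N110896 F473662) (tt N108928 (iv0 F464531)) (tt N94536 F415667) (tt N112628 (iv3 F481902)) (tt N60147 F415668) (tt N112632 (iv5 F481917)) (tt N60145 (iv6 D200239)) (tt N116696 (iv7 F501355)))
theorem Q97148 : ∀ i, i < 97148 → P i := stepQ 97147 Q97147 (allL N97147 (tt N65274 (iv1 F415672)) (tt N94529 F415673) (tt N60149 F415669) (tt N86139 F415670) (tt N60148 F415671) (tt N118343 (iv5 F509808)) (tt N77511 (iv6 F415674)) (tt N60145 (iv7 D200240)))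
theorem Q97149 : ∀ i, i < 97149 → P i := stepQ 97148 Q97148 (allL N97148 (tt N60150 F415677) (tt N60146 (iv0 D200241)) (tt N68386 (iv2 F415676)) (tt N97231 (iv3 F416001)) (tt N115690 (iv4 F496334)) (tt N69442 F415675) (tt N103218 F440626) (tt N103969 (iv7 F443571)))
theorem Q97150 : ∀ i, i < 97150 → P i := stepQ 97149 Q97149 (allL N97149 (tt N115710 (iv1 F496443)) (tt N88336 (iv0 F415679)) (tt N97168 (iv2 F415727)) (tt N115363 F494809) (tt N60146 (iv4 D200242)) (tt N60245 F415678) (tt N74064 (iv6 F415680)) (tt N97165 (iv7 F415725)))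
theorem Q97151 : ∀ i, i < 97151 → P i := stepQ 97150 Q97150 (allL N97150 (tt N74103 (iv1 F415685)) (tt N62619 (iv0 F415683)) (tt N74100 F415681) (tt N119325 (iv3 F515026)) (tt N74064 F415682) (tt N119327 D222586) (tt N60146 (iv6 D200243)) (tt N74101 (iv7 F415684)))
theorem Q97152 : ∀ i, i < 97152 → P i := stepQ 97151 Q97151 (allL N97151 (tt N103969 F443574) (tt N68386 (iv0 F415690)) (tt N60150 F415686) (tt N96224 F415687) (tt N97165 (iv4 F415726)) (tt N60148 F415688) (tt N82596 F415689) (tt N60146 (iv7 D200244)))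
theorem Q97153 : ∀ i, i < 97153 → P i := stepQ 97152 Q97152 (allL N97152 (tt N86092 (iv1 F415696)) (tt N60147 (iv0 D200245)) (tt N94446 (iv2 F415691)) (tt N97233 (iv3 F439046)) (tt N81986 F415692) (tt N119328 D222587) (tt N103205 (iv6 F440569)) (tt N119322 (iv7 F515010)))
theorem Q97154 : ∀ i, i < 97154 → P i := stepQ 97153 Q97153 (allL N97153 (tt N108496 (iv1 F462845)) (tt N108508 F462895) (tt N108507 (iv2 F462891)) (tt N119326 (iv3 F515032)) (tt N114179 F488865) (tt N60147 (iv5 D200246)) (tt N119327 (iv6 F515038)) (tt N108506 F462888))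
theorem Q97155 : ∀ i, i < 97155 → P i := stepQ 97154 Q97154 (allL N97154 (tt N119322 (iv1 F515011)) (tt N94446 (iv0 F415697)) (tt N86092 F415693) (tt N89923 F415694) (tt N116696 (iv4 F501353)) (tt N108506 (iv5 F462885)) (tt N86089 F415695) (tt N60147 (iv7 D200247)))
theorem Q97156 : ∀ i, i < 97156 → P i := stepQ 97155 Q97155 (allL N97155 (tt N96106 F415701) (tt N86188 F415700) (tt N118343 (iv2 F509812)) (tt N89046 F415698) (tt N98287 (iv4 F420338)) (tt N60149 (iv5 D200248)) (tt N109648 (iv6 F467918)) (tt N89730 F415699))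
theorem Q97157 : ∀ i, i < 97157 → P i := stepQ 97156 Q97156 (allL N97156 (tt N88336 F415705) (tt N115710 (iv0 F496442)) (tt N97165 (iv2 F415724)) (tt N88334 F415702) (tt N60150 (iv4 D200249)) (tt N60244 F415704) (tt N82598 F415703) (tt N97168 (iv7 F415728)))
theorem Q97158 : ∀ i, i < 97158 → P i := stepQ 97157 Q97157 (allL N97157 (tt N74181 F415710) (tt N74180 F415711) (tt N60154 F415706) (tt N107232 (iv3 F457568)) (tt N60151 (iv4 D200250)) (tt N60347 F415707) (tt N74178 F415708) (tt N60327 F415709))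
theorem Q97159 : ∀ i, i < 97159 → P i := stepQ 97158 Q97158 (allL N97158 (tt N104880 F447780) (tt N110908 (iv0 F473736)) (tt N119329 D222588) (tt N60152 (iv3 D200251)) (tt N115193 (iv4 F493954)) (tt N104867 (iv5 F447708)) (tt N115781 (iv6 F496839)) (tt N97279 (iv7 F416187)))
theorem Q97160 : ∀ i, i < 97160 → P i := stepQ 97159 Q97159 (allL N97159 (tt N115499 (iv1 F495510)) (tt N104932 (iv0 F448004)) (tt N97282 (iv2 F416196)) (tt N115781 (iv3 F496838)) (tt N103228 (iv4 F440672)) (tt N78889 (iv5 F415713)) (tt N60152 (iv6 D200252)) (tt N109567 (iv7 F467562)))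
theorem Q97161 : ∀ i, i < 97161 → P i := stepQ 97160 Q97160 (allL N97160 (tt N91648 F415714) (tt N91649 F415715) (tt N116082 (iv2 F498366)) (tt N60153 (iv3 D200253)) (tt N111870 (iv4 F478415)) (tt N104868 (iv5 F447715)) (tt N87771 F416194) (tt N97281 (iv7 F416190)))
theorem Q97162 : ∀ i, i < 97162 → P i := stepQ 97161 Q97161 (allL N97161 (tt N104886 F447808) (tt N116075 F498336) (tt N97280 (iv2 F416188)) (tt N87771 (iv3 F416195)) (tt N103225 (iv4 F440660)) (tt N108514 F462902) (tt N60153 (iv6 D200254)) (tt N116074 F498329))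
theorem Q97163 : ∀ i, i < 97163 → P i := stepQ 97162 Q97162 (allL N97162 (tt N60327 (iv1 F415716)) (tt N60154 (iv0 D200255)) (tt N74181 (iv2 F420318)) (tt N97351 F425192) (tt N99705 (iv4 F425825)) (tt N113635 (iv5 F486409)) (tt N115469 (iv6 F495334)) (tt N74180 (iv7 F420321)))
theorem Q97164 : ∀ i, i < 97164 → P i := stepQ 97163 Q97163 (allL N97163 (tt N60154 (iv1 D200256)) (tt N60327 F415717) (tt N74180 F420319) (tt N114813 (iv3 F492007)) (tt N98283 (iv4 F420314)) (tt N113634 (iv5 F486405)) (tt N113661 F486527) (tt N74181 F420315))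
theorem Q97165 : ∀ i, i < 97165 → P i := stepQ 97164 Q97164 (allL N97164 (tt N74176 (iv1 F415722)) (tt N74175 (iv0 F415723)) (tt N74178 F415718) (tt N90746 F415719) (tt N60155 F415720) (tt N97333 (iv5 F416389)) (tt N60154 (iv6 D200257)) (tt N62660 F415721))
theorem Q97166 : ∀ i, i < 97166 → P i := stepQ 97165 Q97165 (allL N97165 (tt N112875 F483090) (tt N106881 (iv0 F456113)) (tt N97156 F415724) (tt N97266 (iv3 F416136)) (tt N97151 F415726) (tt N60156 (iv5 D200258)) (tt N112849 F482954) (tt N97149 F415725))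
theorem Q97167 : ∀ i, i < 97167 → P i := stepQ 97166 Q97166 (allL N97166 (tt N104889 F447820) (tt N86884 F416074) (tt N97249 (iv2 F416070)) (tt N97267 (iv3 F416139)) (tt N98663 F421790) (tt N119330 D222589) (tt N60156 (iv6 D200259)) (tt N118105 (iv7 F508622)))
theorem Q97168 : ∀ i, i < 97168 → P i := stepQ 97167 Q97167 (allL N97167 (tt N104879 (iv1 F447776)) (tt N87629 F416134) (tt N97264 (iv2 F416131)) (tt N60157 (iv3 D200260)) (tt N118103 (iv4 F508607)) (tt N104391 F445559) (tt N118109 (iv6 F508649)) (tt N97248 (iv7 F416068)))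
theorem Q97169 : ∀ i, i < 97169 → P i := stepQ 97168 Q97168 (allL N97168 (tt N106881 (iv1 F456114)) (tt N112875 (iv0 F483089)) (tt N97149 F415727) (tt N104391 (iv3 F445557)) (tt N97140 F415729) (tt N60157 (iv5 D200261)) (tt N99662 (iv6 F425637)) (tt N97156 F415728))
theorem Q97170 : ∀ i, i < 97170 → P i := stepQ 97169 Q97169 (allL N97169 (tt N115482 (iv1 F495415)) (tt N104931 F474581) (tt N97250 (iv2 F416075)) (tt N118109 (iv3 F508646)) (tt N104927 (iv4 F447980)) (tt N119331 D222590) (tt N60157 (iv6 D200262)) (tt N118107 (iv7 F508637)))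
theorem Q97171 : ∀ i, i < 97171 → P i := stepQ 97170 Q97170 (allL N97170 (tt N91630 F415733) (tt N103997 (iv0 F443709)) (tt N74028 F415730) (tt N91628 F415731) (tt N116987 (iv4 F502842)) (tt N60159 (iv5 D200263)) (tt N108494 (iv6 F462833)) (tt N74031 F415732))
theorem Q97172 : ∀ i, i < 97172 → P i := stepQ 97171 Q97171 (allL N97171 (tt N96079 (iv1 F415738)) (tt N93569 (iv0 F415737)) (tt N74029 F415734) (tt N67014 F415735) (tt N60315 F415736) (tt N99649 (iv5 F425581)) (tt N60159 (iv6 D200264)) (tt N105867 (iv7 F452085)))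
theorem Q97173 : ∀ i, i < 97173 → P i := stepQ 97172 Q97172 (allL N97172 (tt N104868 F447717) (tt N115515 (iv0 F495592)) (tt N96005 F415744) (tt N60161 (iv3 D200265)) (tt N65464 F415748) (tt N84659 F415745) (tt N96908 F415746) (tt N90708 F415747))
theorem Q97174 : ∀ i, i < 97174 → P i := stepQ 97173 Q97173 (allL N97173 (tt N86777 (iv1 F415754)) (tt N84454 F415755) (tt N88812 F415749) (tt N60168 F415750) (tt N76457 F415751) (tt N97051 F415752) (tt N78962 F415753) (tt N60166 (iv7 D200266)))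
theorem Q97175 : ∀ i, i < 97175 → P i := stepQ 97174 Q97174 (allL N97174 (tt N60220 F415759) (tt N78267 (iv0 F415760)) (tt N68162 F415756) (tt N95658 (iv3 F415761)) (tt N60167 (iv4 D200267)) (tt N95657 F415758) (tt N114249 F489213) (tt N68160 F415757))
theorem Q97176 : ∀ i, i < 97176 → P i := stepQ 97175 Q97175 (allL N97175 (tt N98661 F421778) (tt N98663 (iv0 F421787)) (tt N68164 F415762) (tt N109748 (iv3 F468425)) (tt N114249 (iv4 F489211)) (tt N98043 (iv5 F419280)) (tt N60167 (iv6 D200268)) (tt N111317 (iv7 F475789)))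
theorem Q97177 : ∀ i, i < 97177 → P i := stepQ 97176 Q97176 (allL N97176 (tt N83597 (iv1 F415767)) (tt N60169 (iv0 D200269)) (tt N88430 (iv2 F415768)) (tt N83950 F415765) (tt N86773 F415764) (tt N83704 F415763) (tt N78922 F415766) (tt N88429 (iv7 F415769)))
theorem Q97178 : ∀ i, i < 97178 → P i := stepQ 97177 Q97177 (allL N97177 (tt N60169 (iv1 D200270)) (tt N83597 F415770) (tt N88429 F415775) (tt N76457 (iv3 F415774)) (tt N86774 F415773) (tt N83706 F415772) (tt N115769 (iv6 F496772)) (tt N88430 F415771))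
theorem Q97179 : ∀ i, i < 97179 → P i := stepQ 97178 Q97178 (allL N97178 (tt N108278 (iv1 F461840)) (tt N108277 F461834) (tt N60186 F415776) (tt N86486 F415777) (tt N119001 (iv4 F513212)) (tt N63664 F415778) (tt N60170 (iv6 D200271)) (tt N119332 D222591))
theorem Q97180 : ∀ i, i < 97180 → P i := stepQ 97179 Q97179 (allL N97179 (tt N105254 F449405) (tt N97310 (iv0 F449588)) (tt N113930 (iv2 F487837)) (tt N60171 (iv3 D200272)) (tt N114365 (iv4 F489820)) (tt N105290 (iv5 F449586)) (tt N113670 (iv6 F486555)) (tt N112055 F479276))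
theorem Q97181 : ∀ i, i < 97181 → P i := stepQ 97180 Q97180 (allL N97180 (tt N111080 (iv1 F474572)) (tt N97258 F416110) (tt N60174 F415779) (tt N92979 F415780) (tt N96741 F415781) (tt N63419 F415782) (tt N60172 (iv6 D200273)) (tt N86902 F415783))
theorem Q97182 : ∀ i, i < 97182 → P i := stepQ 97181 Q97181 (allL N97181 (tt N60184 (iv1 F415788)) (tt N60183 F415789) (tt N60185 F415784) (tt N83727 F415785) (tt N73624 F415786) (tt N61096 F415787) (tt N119332 (iv6 F515067)) (tt N60176 (iv7 D200274)))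
theorem Q97183 : ∀ i, i < 97183 → P i := stepQ 97182 Q97182 (allL N97182 (tt N105291 (iv1 F449591)) (tt N113713 (iv0 F486787)) (tt N111798 (iv2 F478023)) (tt N60177 (iv3 D200275)) (tt N118058 (iv4 F508342)) (tt N77288 F415790) (tt N87348 F415791) (tt N111765 (iv7 F477859)))
theorem Q97184 : ∀ i, i < 97184 → P i := stepQ 97183 Q97183 (allL N97183 (tt N60178 (iv1 D200276)) (tt N86910 F415792) (tt N86911 F415800) (tt N60190 (iv3 F415795)) (tt N82948 F415794) (tt N70600 (iv5 F415796)) (tt N113674 (iv6 F486576)) (tt N86904 F415793))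
theorem Q97185 : ∀ i, i < 97185 → P i := stepQ 97184 Q97184 (allL N97184 (tt N95887 F415803) (tt N87601 (iv0 F415804)) (tt N111763 (iv2 F477846)) (tt N114823 F492066) (tt N60180 F415801) (tt N114816 (iv5 F492024)) (tt N60179 (iv6 D200277)) (tt N87510 F415802))
theorem Q97186 : ∀ i, i < 97186 → P i := stepQ 97185 Q97185 (allL N97185 (tt N60180 (iv1 D200278)) (tt N111764 F477855) (tt N97277 F416178) (tt N97269 F444741) (tt N116072 (iv4 F498318)) (tt N75240 F415806) (tt N70469 (iv6 F415807)) (tt N75239 F415805))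
theorem Q97187 : ∀ i, i < 97187 → P i := stepQ 97186 Q97186 (allL N97186 (tt N97277 F416177) (tt N75239 (iv0 F415811)) (tt N111764 (iv2 F477851)) (tt N100785 (iv3 F430462)) (tt N87510 F415808) (tt N63408 F415809) (tt N86910 F415810) (tt N60180 (iv7 D200279)))
theorem Q97188 : ∀ i, i < 97188 → P i := stepQ 97187 Q97187 (allL N97187 (tt N60181 (iv1 D200280)) (tt N95472 F415815) (tt N97241 (iv2 F416040)) (tt N106877 F456101) (tt N97308 (iv4 F416311)) (tt N115766 (iv5 F496754)) (tt N115449 (iv6 F495246)) (tt N97242 (iv7 F416042)))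
theorem Q97189 : ∀ i, i < 97189 → P i := stepQ 97188 Q97188 (allL N97188 (tt N97242 (iv1 F416041)) (tt N97241 F416037) (tt N60181 (iv2 D200281)) (tt N108547 (iv3 F463035)) (tt N60194 F415812) (tt N95473 F415813) (tt N99639 (iv6 F425543)) (tt N95472 F415814))
theorem Q97190 : ∀ i, i < 97190 → P i := stepQ 97189 Q97189 (allL N97189 (tt N103222 (iv1 F440647)) (tt N103221 F440644) (tt N99639 (iv2 F425541)) (tt N60182 F415816) (tt N60195 F415817) (tt N73622 F415818) (tt N60181 (iv6 D200282)) (tt N95397 F415819))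
theorem Q97191 : ∀ i, i < 97191 → P i := stepQ 97190 Q97190 (allL N97190 (tt N108277 F461833) (tt N108278 (iv0 F461839)) (tt N119332 (iv2 F515063)) (tt N60204 F415820) (tt N95552 F415821) (tt N76677 F415822) (tt N60185 (iv6 D200283)) (tt N60186 F415823))
theorem Q97192 : ∀ i, i < 97192 → P i := stepQ 97191 Q97191 (allL N97191 (tt N119332 (iv1 F515069)) (tt N60186 (iv0 D200284)) (tt N108278 (iv2 F461835)) (tt N85318 (iv3 F432925)) (tt N108263 (iv4 F461764)) (tt N85316 F432924) (tt N113673 (iv6 F486567)) (tt N108277 (iv7 F461831)))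
theorem Q97193 : ∀ i, i < 97193 → P i := stepQ 97192 Q97192 (allL N97192 (tt N60186 (iv1 D200285)) (tt N119332 F515068) (tt N108277 (iv2 F461830)) (tt N105013 (iv3 F448374)) (tt N108262 (iv4 F461757)) (tt N114928 (iv5 F492580)) (tt N115713 (iv6 F496459)) (tt N108278 (iv7 F461838)))
theorem Q97194 : ∀ i, i < 97194 → P i := stepQ 97193 Q97193 (allL N97193 (tt N93169 F415829) (tt N60188 (iv0 D200286)) (tt N93170 (iv2 F415827)) (tt N85408 F415824) (tt N78514 F415825) (tt N119333 D222592) (tt N86415 F415826) (tt N88814 (iv7 F415828)))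
theorem Q97195 : ∀ i, i < 97195 → P i := stepQ 97194 Q97194 (allL N97194 (tt N60188 (iv1 D200287)) (tt N93169 F415830) (tt N88814 (iv2 F415832)) (tt N117736 (iv3 F506703)) (tt N88821 F415834) (tt N102378 (iv5 F436980)) (tt N87596 (iv6 F415833)) (tt N93170 F415831))
theorem Q97196 : ∀ i, i < 97196 → P i := stepQ 97195 Q97195 (allL N97195 (tt N88814 (iv1 F415839)) (tt N93170 F415840) (tt N93169 F415835) (tt N60191 F415836) (tt N111116 (iv4 F474745)) (tt N93985 F415837) (tt N93156 F415838) (tt N60188 (iv7 D200288)))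
theorem Q97197 : ∀ i, i < 97197 → P i := stepQ 97196 Q97196 (allL N97196 (tt N86886 (iv1 F415843)) (tt N86885 F415844) (tt N86888 F415841) (tt N113674 (iv3 F486573)) (tt N104889 (iv4 F447817)) (tt N117756 (iv5 F506812)) (tt N60190 (iv6 D200289)) (tt N86883 F415842))
theorem Q97198 : ∀ i, i < 97198 → P i := stepQ 97197 Q97197 (allL N97197 (tt N104928 (iv1 F447988)) (tt N99569 (iv0 F425218)) (tt N96927 F415845) (tt N60192 (iv3 D200290)) (tt N97349 F416452) (tt N94235 F415846) (tt N105784 (iv6 F451704)) (tt N96929 F415847))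
theorem Q97199 : ∀ i, i < 97199 → P i := stepQ 97198 Q97198 (allL N97198 (tt N104930 F467421) (tt N111750 (iv0 F477783)) (tt N97240 (iv2 F416032)) (tt N112714 (iv3 F482321)) (tt N114816 (iv4 F492025)) (tt N75911 F415849) (tt N60193 (iv6 D200291)) (tt N116051 (iv7 F498239)))
theorem Q97200 : ∀ i, i < 97200 → P i := stepQ 97199 Q97199 (allL N97199 (tt N88472 (iv1 F415856)) (tt N88471 F415857) (tt N78536 F415850) (tt N87167 F415851) (tt N61254 F415852) (tt N83716 F415854) (tt N60196 (iv6 D200292)) (tt N86570 F415853))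
theorem Q97201 : ∀ i, i < 97201 → P i := stepQ 97200 Q97200 (allL N97200 (tt N88297 (iv1 F415864)) (tt N88296 F415865) (tt N88298 F415860) (tt N83812 F415861) (tt N60201 F415862) (tt N102140 (iv5 F435913)) (tt N60200 (iv6 D200293)) (tt N88294 F415863))
theorem Q97202 : ∀ i, i < 97202 → P i := stepQ 97201 Q97201 (allL N97201 (tt N60201 (iv1 D200294)) (tt N83733 F415868) (tt N97283 (iv2 F416203)) (tt N70470 F415872) (tt N88471 F415869) (tt N70604 (iv5 F415871)) (tt N87594 (iv6 F415870)) (tt N97278 (iv7 F416184)))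
theorem Q97203 : ∀ i, i < 97203 → P i := stepQ 97202 Q97202 (allL N97202 (tt N97283 (iv1 F416199)) (tt N97278 F416186) (tt N83733 F415873) (tt N115476 (iv3 F495374)) (tt N88294 F415874) (tt N79057 F415875) (tt N83729 F415876) (tt N60201 (iv7 D200295)))
theorem Q97204 : ∀ i, i < 97204 → P i := stepQ 97203 Q97203 (allL N97203 (tt N86888 (iv1 F415882)) (tt N86883 (iv0 F415881)) (tt N86885 F415877) (tt N87597 F415878) (tt N97317 (iv4 F416329)) (tt N92860 F415879) (tt N60205 (iv6 D200296)) (tt N86886 F415880))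
theorem Q97205 : ∀ i, i < 97205 → P i := stepQ 97204 Q97204 (allL N97204 (tt N66044 F415886) (tt N99651 (iv0 F425593)) (tt N91290 F415883) (tt N70220 F415884) (tt N91286 F415887) (tt N60207 (iv5 D200297)) (tt N101914 (iv6 F434929)) (tt N91292 F415885))
theorem Q97206 : ∀ i, i < 97206 → P i := stepQ 97205 Q97205 (allL N97205 (tt N71566 F415893) (tt N106231 (iv0 F453684)) (tt N70870 F415889) (tt N60211 (iv3 D200298)) (tt N70868 F415892) (tt N77922 F415890) (tt N117285 (iv6 F504282)) (tt N70874 F415891))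
theorem Q97207 : ∀ i, i < 97207 → P i := stepQ 97206 Q97206 (allL N97206 (tt N99274 (iv1 F423903)) (tt N91589 F415896) (tt N60297 F415894) (tt N106276 (iv3 F453848)) (tt N60211 (iv4 D200299)) (tt N112433 (iv5 F481083)) (tt N117149 (iv6 F503639)) (tt N91459 F415895))
theorem Q97208 : ∀ i, i < 97208 → P i := stepQ 97207 Q97207 (allL N97207 (tt N110717 F472882) (tt N110613 F472883) (tt N82107 F415897) (tt N117285 (iv3 F504281)) (tt N117149 (iv4 F503642)) (tt N112585 F481729) (tt N60211 (iv6 D200300)) (tt N110716 (iv7 F482155)))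
theorem Q97209 : ∀ i, i < 97209 → P i := stepQ 97208 Q97208 (allL N97208 (tt N82080 F415901) (tt N97416 (iv0 F416799)) (tt N60214 F415898) (tt N106189 (iv3 F453531)) (tt N94038 F415899) (tt N60213 (iv5 D200301)) (tt N98945 (iv6 F422833)) (tt N93508 F415900))
theorem Q97210 : ∀ i, i < 97210 → P i := stepQ 97209 Q97209 (allL N97209 (tt N93508 (iv1 F415904)) (tt N60214 (iv0 D200302)) (tt N82080 (iv2 F415905)) (tt N110603 F472346) (tt N63658 F415903) (tt N90740 F415902) (tt N63657 (iv6 F415906)) (tt N97416 (iv7 F416798)))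
theorem Q97211 : ∀ i, i < 97211 → P i := stepQ 97210 Q97210 (allL N97210 (tt N60214 (iv1 D200303)) (tt N93508 F415911) (tt N97416 (iv2 F416796)) (tt N65296 (iv3 F415914)) (tt N65297 F415913) (tt N103976 (iv5 F443619)) (tt N112185 (iv6 F479954)) (tt N82080 F415912))
theorem Q97212 : ∀ i, i < 97212 → P i := stepQ 97211 Q97211 (allL N97211 (tt N98944 (iv1 F422828)) (tt N76828 (iv0 F415918)) (tt N98945 (iv2 F422830)) (tt N60215 F415915) (tt N94059 F415916) (tt N97214 (iv5 F415928)) (tt N60214 (iv6 D200304)) (tt N67149 F415917))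
theorem Q97213 : ∀ i, i < 97213 → P i := stepQ 97212 Q97212 (allL N97212 (tt N110665 (iv1 F472674)) (tt N60215 (iv0 D200305)) (tt N61768 (iv2 F415922)) (tt N61923 F415920) (tt N94400 F415919) (tt N119334 D222593) (tt N61767 F415921) (tt N110664 (iv7 F472662)))
theorem Q97214 : ∀ i, i < 97214 → P i := stepQ 97213 Q97213 (allL N97213 (tt N60215 (iv1 D200306)) (tt N110665 F472673) (tt N110664 (iv2 F472666)) (tt N61771 (iv3 F415924)) (tt N94401 F415925) (tt N79419 F422281) (tt N61879 F415926) (tt N61768 F415923))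
theorem Q97215 : ∀ i, i < 97215 → P i := stepQ 97214 Q97214 (allL N97214 (tt N110664 (iv1 F472661)) (tt N61768 (iv0 F415930)) (tt N110665 (iv2 F472668)) (tt N67149 F415927) (tt N108434 (iv4 F462542)) (tt N97211 F415928) (tt N67148 F415929) (tt N60215 (iv7 D200307)))
theorem Q97216 : ∀ i, i < 97216 → P i := stepQ 97215 Q97215 (allL N97215 (tt N117497 F505342) (tt N117535 F505577) (tt N95276 F415931) (tt N112174 (iv3 F479893)) (tt N60216 (iv4 D200308)) (tt N95181 F415933) (tt N112172 (iv6 F479888)) (tt N97120 F415932))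
theorem Q97217 : ∀ i, i < 97217 → P i := stepQ 97216 Q97216 (allL N97216 (tt N90744 (iv1 F423632)) (tt N90738 (iv0 F415938)) (tt N90741 F415936) (tt N60217 (iv3 D200309)) (tt N99191 (iv4 F423627)) (tt N81626 F415934) (tt N81628 (iv6 F415937)) (tt N90742 F415935))
theorem Q97218 : ∀ i, i < 97218 → P i := stepQ 97217 Q97217 (allL N97217 (tt N104866 F447706) (tt N87079 (iv0 F415942)) (tt N97121 F415939) (tt N81628 F415940) (tt N108834 (iv4 F464177)) (tt N81624 F415941) (tt N60217 (iv6 D200310)) (tt N99217 (iv7 F423726)))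
theorem Q97219 : ∀ i, i < 97219 → P i := stepQ 97218 Q97218 (allL N97218 (tt N119335 D222594) (tt N95430 (iv0 F448305)) (tt N78266 F415943) (tt N83610 F415944) (tt N115847 (iv4 F497212)) (tt N60220 (iv5 D200311)) (tt N60221 F415945) (tt N116034 (iv7 F498159)))
theorem Q97220 : ∀ i, i < 97220 → P i := stepQ 97219 Q97219 (allL N97219 (tt N78273 (iv1 F415948)) (tt N60221 (iv0 D200312)) (tt N78270 (iv2 F415947)) (tt N119336 D222595) (tt N104902 (iv4 F447858)) (tt N92531 F415946) (tt N115655 (iv6 F496174)) (tt N78271 F415949))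
theorem Q97221 : ∀ i, i < 97221 → P i := stepQ 97220 Q97220 (allL N97220 (tt N119337 D222596) (tt N115843 (iv0 F497190)) (tt N78272 F415950) (tt N80816 (iv3 F415953)) (tt N60221 (iv4 D200313)) (tt N83769 F415952) (tt N115847 (iv6 F497213)) (tt N81181 F415951))
theorem Q97222 : ∀ i, i < 97222 → P i := stepQ 97221 Q97221 (allL N97221 (tt N91440 (iv1 F415959)) (tt N91439 F415960) (tt N91441 F415954) (tt N60226 F415955) (tt N119338 D222597) (tt N60225 (iv5 D200314)) (tt N91765 F415956) (tt N87302 F415957))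
theorem Q97223 : ∀ i, i < 97223 → P i := stepQ 97222 Q97222 (allL N97222 (tt N60226 (iv1 D200315)) (tt N74072 F415961) (tt N74074 (iv2 F415964)) (tt N119339 D222598) (tt N114205 (iv4 F488977)) (tt N62633 F415963) (tt N115864 (iv6 F497298)) (tt N62632 F415962))
theorem Q97224 : ∀ i, i < 97224 → P i := stepQ 97223 Q97223 (allL N97223 (tt N99695 (iv1 F425779)) (tt N108599 F463203) (tt N97139 F415965) (tt N95606 F415967) (tt N60226 (iv4 D200316)) (tt N95603 (iv5 F415966)) (tt N115654 (iv6 F496166)) (tt N108598 (iv7 F463196)))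
theorem Q97225 : ∀ i, i < 97225 → P i := stepQ 97224 Q97224 (allL N97224 (tt N74074 (iv1 F415972)) (tt N62632 F415973) (tt N74072 F415968) (tt N87302 F415969) (tt N108598 (iv4 F463193)) (tt N60227 F415970) (tt N85178 F415971) (tt N60226 (iv7 D200317)))
theorem Q97226 : ∀ i, i < 97226 → P i := stepQ 97225 Q97225 (allL N97225 (tt N99641 (iv1 F425550)) (tt N99640 F425547) (tt N60243 F415974) (tt N62613 F415975) (tt N93627 F415976) (tt N62612 F415977) (tt N60228 (iv6 D200318)) (tt N97247 (iv7 F416060)))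
theorem Q97227 : ∀ i, i < 97227 → P i := stepQ 97226 Q97226 (allL N97226 (tt N68095 F415981) (tt N104197 F444651) (tt N60231 F415978) (tt N82125 F415979) (tt N113686 (iv4 F486627)) (tt N60229 (iv5 D200319)) (tt N108550 (iv6 F463045)) (tt N60236 F415980))
theorem Q97228 : ∀ i, i < 97228 → P i := stepQ 97227 Q97227 (allL N97227 (tt N97132 F423711) (tt N118616 F511180) (tt N60232 F415982) (tt N82172 F415983) (tt N77996 F415984) (tt N119340 D222599) (tt N60229 (iv6 D200320)) (tt N117436 (iv7 F505020)))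
theorem Q97229 : ∀ i, i < 97229 → P i := stepQ 97228 Q97228 (allL N97228 (tt N117505 F505396) (tt N97137 (iv0 F415989)) (tt N60230 (iv2 D200321)) (tt N65329 F415985) (tt N60316 F415986) (tt N96930 F415987) (tt N117582 F505834) (tt N82173 (iv7 F415988)))
theorem Q97230 : ∀ i, i < 97230 → P i := stepQ 97229 Q97229 (allL N97229 (tt N90668 (iv1 F472052)) (tt N117508 (iv0 F505412)) (tt N117582 (iv2 F505835)) (tt N60232 F415990) (tt N94288 F415991) (tt N113683 (iv5 F486612)) (tt N60230 (iv6 D200322)) (tt N96847 F415998))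
theorem Q97231 : ∀ i, i < 97231 → P i := stepQ 97230 Q97230 (allL N97230 (tt N97137 (iv1 F415996)) (tt N117505 (iv0 F505395)) (tt N82173 F415992) (tt N60233 F415993) (tt N60317 F415994) (tt N96931 F415995) (tt N83154 (iv6 F415997)) (tt N60230 (iv7 D200323)))
theorem Q97232 : ∀ i, i < 97232 → P i := stepQ 97231 Q97231 (allL N97231 (tt N60236 (iv1 F416002)) (tt N60231 (iv0 D200324)) (tt N68095 (iv2 F416000)) (tt N97148 F416001) (tt N112714 (iv4 F482322)) (tt N68093 F415999) (tt N112713 F482319) (tt N104197 (iv7 F444649)))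
theorem Q97233 : ∀ i, i < 97233 → P i := stepQ 97232 Q97232 (allL N97232 (tt N104197 (iv1 F444650)) (tt N68095 (iv0 F416006)) (tt N60236 F416003) (tt N96931 F416004) (tt N113687 (iv4 F486634)) (tt N60233 F416005) (tt N114232 (iv6 F489121)) (tt N60231 (iv7 D200325)))
theorem Q97234 : ∀ i, i < 97234 → P i := stepQ 97233 Q97233 (allL N97233 (tt N117436 F505022) (tt N60232 (iv0 D200326)) (tt N97132 (iv2 F439045)) (tt N97152 F439046) (tt N110717 (iv4 F472879)) (tt N119341 D222600) (tt N102874 F439044) (tt N118616 (iv7 F511178)))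
theorem Q97235 : ∀ i, i < 97235 → P i := stepQ 97234 Q97234 (allL N97234 (tt N119342 D222601) (tt N119339 (iv0 F515110)) (tt N119340 (iv2 F515111)) (tt N113683 (iv3 F486611)) (tt N119343 D222602) (tt N60232 (iv5 D200328)) (tt N113680 (iv6 F486601)) (tt N119344 D222603))
theorem Q97236 : ∀ i, i < 97236 → P i := stepQ 97235 Q97235 (allL N97235 (tt N118616 (iv1 F511179)) (tt N97132 (iv0 F439053)) (tt N117436 (iv2 F505017)) (tt N96847 F416007) (tt N110778 (iv4 F473149)) (tt N119344 (iv5 F515125)) (tt N91460 F416008) (tt N60232 (iv7 D200329)))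
theorem Q97237 : ∀ i, i < 97237 → P i := stepQ 97236 Q97236 (allL N97236 (tt N82116 F416013) (tt N65320 F416014) (tt N82126 F416009) (tt N60236 F416010) (tt N118953 (iv4 F512947)) (tt N60234 (iv5 D200330)) (tt N87610 F416011) (tt N82125 F416012))
theorem Q97238 : ∀ i, i < 97238 → P i := stepQ 97237 Q97237 (allL N97237 (tt N91351 (iv1 F416017)) (tt N99201 (iv0 F423678)) (tt N110619 (iv2 F472429)) (tt N63671 F416015) (tt N60237 F416016) (tt N76852 (iv5 F416018)) (tt N60235 (iv6 D200331)) (tt N110985 (iv7 F474090)))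
theorem Q97239 : ∀ i, i < 97239 → P i := stepQ 97238 Q97238 (allL N97238 (tt N87170 F416023) (tt N112874 (iv0 F483085)) (tt N114232 (iv2 F489119)) (tt N87610 F416020) (tt N87112 (iv4 F416022)) (tt N82816 F416021) (tt N60236 (iv6 D200332)) (tt N114231 (iv7 F489114)))
theorem Q97240 : ∀ i, i < 97240 → P i := stepQ 97239 Q97239 (allL N97239 (tt N87897 F416028) (tt N88232 F416029) (tt N88202 F416025) (tt N86812 (iv3 F416030)) (tt N60239 (iv4 D200333)) (tt N87888 F416027) (tt N86810 F416031) (tt N88081 F416026))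
theorem Q97241 : ∀ i, i < 97241 → P i := stepQ 97240 Q97240 (allL N97240 (tt N119345 D222604) (tt N103992 (iv0 F443684)) (tt N97198 F416032) (tt N100526 F429330) (tt N86810 F416033) (tt N109247 F465980) (tt N60239 (iv6 D200334)) (tt N100524 (iv7 F429331)))

end Cfsg.Agent.Helper17.ONTC
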