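import Cfsg.Agent.Helper17.ONTC.Fin22

set_option autoImplicit false
set_option linter.all false
set_option maxRecDepth 100000

noncomputable section

namespace Cfsg.Agent.Helper17.ONTC

theorem Q97242 : ∀ i, i < 97242 → P i := stepQ 97241 Q97241 (allL N97241 (tt N97188 (iv1 F416037)) (tt N60241 (iv0 D200335)) (tt N97187 F416040) (tt N87742 F416036) (tt N90743 F416035) (tt N87737 F416034) (tt N95886 (iv6 F416038)) (tt N87736 (iv7 F416039)))
theorem Q97243 : ∀ i, i < 97243 → P i := stepQ 97242 Q97242 (allL N97242 (tt N60241 (iv1 D200336)) (tt N97188 F416041) (tt N87736 F416045) (tt N87791 F416046) (tt N116040 (iv4 F498193)) (tt N87733 (iv5 F416044)) (tt N87929 (iv6 F416043)) (tt N97187 F416042))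
theorem Q97244 : ∀ i, i < 97244 → P i := stepQ 97243 Q97243 (allL N97243 (tt N67160 (iv1 F416048)) (tt N60242 (iv0 D200337)) (tt N118933 (iv2 F512826)) (tt N117412 (iv3 F504906)) (tt N95298 F416047) (tt N118832 (iv5 F512314)) (tt N107233 (iv6 F457573)) (tt N112426 (iv7 F481040)))
theorem Q97245 : ∀ i, i < 97245 → P i := stepQ 97244 Q97244 (allL N97244 (tt N60242 (iv1 D200338)) (tt N67160 F416049) (tt N112426 (iv2 F481037)) (tt N119346 D222605) (tt N95297 F416050) (tt N118833 (iv5 F512317)) (tt N112420 (iv6 F481021)) (tt N118933 (iv7 F512822)))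
theorem Q97246 : ∀ i, i < 97246 → P i := stepQ 97245 Q97245 (allL N97245 (tt N97247 (iv1 F416063)) (tt N60243 (iv0 D200339)) (tt N99641 F425556) (tt N118881 (iv3 F512556)) (tt N62157 F416064) (tt N99227 F423759) (tt N119247 (iv6 F514607)) (tt N99640 F425549))
theorem Q97247 : ∀ i, i < 97247 → P i := stepQ 97246 Q97246 (allL N97246 (tt N60243 (iv1 D200340)) (tt N97247 F416062) (tt N99640 F425548) (tt N99570 F425222) (tt N62158 F416051) (tt N99277 (iv5 F423906)) (tt N118878 (iv6 F512540)) (tt N99641 (iv7 F425551)))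
theorem Q97248 : ∀ i, i < 97248 → P i := stepQ 97247 Q97247 (allL N97247 (tt N97246 (iv1 F416062)) (tt N97245 F416063) (tt N62612 F416057) (tt N60247 F416058) (tt N71565 F416061) (tt N60243 (iv5 D200341)) (tt N62610 F416059) (tt N97225 F416060))
theorem Q97249 : ∀ i, i < 97249 → P i := stepQ 97248 Q97248 (allL N97248 (tt N115486 F495443) (tt N103986 (iv0 F443660)) (tt N93150 F416065) (tt N60244 (iv3 D200342)) (tt N93146 F416066) (tt N88334 F416067) (tt N93143 (iv6 F416069)) (tt N97167 F416068))
theorem Q97250 : ∀ i, i < 97250 → P i := stepQ 97249 Q97249 (allL N97249 (tt N103410 F441497) (tt N113628 (iv0 F486376)) (tt N97166 F416070) (tt N93143 F416071) (tt N94137 F416072) (tt N103447 F441678) (tt N60244 (iv6 D200343)) (tt N93140 (iv7 F416073)))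
theorem Q97251 : ∀ i, i < 97251 → P i := stepQ 97250 Q97250 (allL N97250 (tt N115717 (iv1 F496486)) (tt N103991 (iv0 F443683)) (tt N97169 F416075) (tt N81582 F416076) (tt N98288 (iv4 F420342)) (tt N119347 D222606) (tt N60245 (iv6 D200344)) (tt N111082 (iv7 F474579)))
theorem Q97252 : ∀ i, i < 97252 → P i := stepQ 97251 Q97251 (allL N97251 (tt N69465 (iv1 F416078)) (tt N60248 (iv0 D200345)) (tt N69462 (iv2 F416079)) (tt N119348 D222607) (tt N119337 (iv4 F515096)) (tt N92537 F416077) (tt N111468 (iv6 F476478)) (tt N69463 (iv7 F416080)))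
theorem Q97253 : ∀ i, i < 97253 → P i := stepQ 97252 Q97252 (allL N97252 (tt N60248 (iv1 D200346)) (tt N69465 F416081) (tt N69463 F416085) (tt N114869 (iv3 F492250)) (tt N115843 (iv4 F497188)) (tt N91413 (iv5 F416083)) (tt N79020 (iv6 F416084)) (tt N69462 F416082))
theorem Q97254 : ∀ i, i < 97254 → P i := stepQ 97253 Q97253 (allL N97253 (tt N86584 F416089) (tt N86489 (iv0 F416087)) (tt N110978 (iv2 F474047)) (tt N60250 (iv3 D200347)) (tt N119349 D222608) (tt N91181 F416088) (tt N114845 (iv6 F492154)) (tt N69504 F416086))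
theorem Q97255 : ∀ i, i < 97255 → P i := stepQ 97254 Q97254 (allL N97254 (tt N100774 (iv1 F430412)) (tt N61497 (iv0 F416095)) (tt N69502 F416091) (tt N91181 F416092) (tt N111772 (iv4 F477893)) (tt N60250 (iv5 D200348)) (tt N91179 F416094) (tt N69506 F416093))
theorem Q97256 : ∀ i, i < 97256 → P i := stepQ 97255 Q97255 (allL N97255 (tt N98288 F420344) (tt N118097 (iv0 F508570)) (tt N69503 F416096) (tt N114845 (iv3 F492153)) (tt N115465 F495318) (tt N69607 F416097) (tt N60250 (iv6 D200349)) (tt N114860 (iv7 F492213)))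
theorem Q97257 : ∀ i, i < 97257 → P i := stepQ 97256 Q97256 (allL N97256 (tt N86571 (iv1 F416101)) (tt N92206 (iv0 F416100)) (tt N69507 F416098) (tt N110977 (iv3 F474041)) (tt N88297 F416099) (tt N117352 (iv5 F504621)) (tt N60251 (iv6 D200350)) (tt N98282 (iv7 F420311)))
theorem Q97258 : ∀ i, i < 97258 → P i := stepQ 97257 Q97257 (allL N97257 (tt N104913 F447913) (tt N115701 (iv0 F496399)) (tt N93905 F416102) (tt N104078 (iv3 F444065)) (tt N108500 (iv4 F462864)) (tt N60807 F416103) (tt N60254 (iv6 D200351)) (tt N92671 F416104))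
theorem Q97259 : ∀ i, i < 97259 → P i := stepQ 97258 Q97258 (allL N97258 (tt N97180 (iv1 F416110)) (tt N83788 (iv0 F416109)) (tt N96771 F416105) (tt N60255 (iv3 D200352)) (tt N78532 F416108) (tt N87590 F416106) (tt N98147 F419699) (tt N93904 F416107))
theorem Q97260 : ∀ i, i < 97260 → P i := stepQ 97259 Q97259 (allL N97259 (tt N119350 D222609) (tt N83742 (iv0 F416113)) (tt N103224 (iv2 F440657)) (tt N60257 (iv3 D200353)) (tt N86606 F416111) (tt N67143 (iv5 F416112)) (tt N108498 (iv6 F462854)) (tt N103227 (iv7 F440668)))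
theorem Q97261 : ∀ i, i < 97261 → P i := stepQ 97260 Q97260 (allL N97260 (tt N86796 F416115) (tt N86792 F416116) (tt N109764 (iv2 F468504)) (tt N67143 F416114) (tt N113770 (iv4 F487041)) (tt N60257 (iv5 D200354)) (tt N119351 D222610) (tt N103226 (iv7 F440661)))
theorem Q97262 : ∀ i, i < 97262 → P i := stepQ 97261 Q97261 (allL N97261 (tt N85757 (iv1 F416120)) (tt N85753 (iv0 F416119)) (tt N109765 (iv2 F468507)) (tt N108498 (iv3 F462853)) (tt N60258 F416117) (tt N111624 (iv5 F477199)) (tt N60257 (iv6 D200355)) (tt N81570 F416118))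
theorem Q97263 : ∀ i, i < 97263 → P i := stepQ 97262 Q97262 (allL N97262 (tt N109245 (iv1 F465968)) (tt N92993 (iv0 F416125)) (tt N60265 F416121) (tt N69632 F416122) (tt N93148 F416123) (tt N61024 F416124) (tt N60260 (iv6 D200356)) (tt N104214 (iv7 F444732)))
theorem Q97264 : ∀ i, i < 97264 → P i := stepQ 97263 Q97263 (allL N97263 (tt N87866 F416129) (tt N97316 (iv0 F416326)) (tt N97330 (iv2 F416374)) (tt N60261 (iv3 D200357)) (tt N95880 F416127) (tt N97347 (iv5 F416447)) (tt N88272 F416128) (tt N110913 (iv7 F473759)))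
theorem Q97265 : ∀ i, i < 97265 → P i := stepQ 97264 Q97264 (allL N97264 (tt N103986 (iv1 F443661)) (tt N115486 (iv0 F495442)) (tt N97167 F416131) (tt N60263 (iv3 D200358)) (tt N93152 F416132) (tt N88333 (iv5 F439760)) (tt N111085 (iv6 F474588)) (tt N93150 F416133))
theorem Q97266 : ∀ i, i < 97266 → P i := stepQ 97265 Q97265 (allL N97265 (tt N114465 (iv1 F490322)) (tt N88359 F416135) (tt N115363 (iv2 F494810)) (tt N88333 F439761) (tt N115184 (iv4 F493912)) (tt N60263 (iv5 D200359)) (tt N119352 D222611) (tt N115364 (iv7 F494814)))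
theorem Q97267 : ∀ i, i < 97267 → P i := stepQ 97266 Q97266 (allL N97266 (tt N88359 F416137) (tt N114465 (iv0 F490321)) (tt N115364 (iv2 F494819)) (tt N97165 F416136) (tt N115185 (iv4 F493916)) (tt N60264 (iv5 D200360)) (tt N119353 D222612) (tt N115363 (iv7 F494812)))
theorem Q97268 : ∀ i, i < 97268 → P i := stepQ 97267 Q97267 (allL N97267 (tt N94015 F416141) (tt N114707 (iv0 F491453)) (tt N93148 F416138) (tt N97166 F416139) (tt N60265 F416140) (tt N112079 (iv5 F479395)) (tt N60264 (iv6 D200361)) (tt N111084 (iv7 F474585)))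
theorem Q97269 : ∀ i, i < 97269 → P i := stepQ 97268 Q97268 (allL N97268 (tt N104214 F444734) (tt N60265 (iv0 D200362)) (tt N109245 (iv2 F465965)) (tt N60276 F444735) (tt N112473 (iv4 F481223)) (tt N109243 (iv5 F465956)) (tt N115390 (iv6 F494952)) (tt N92993 F444736))
theorem Q97270 : ∀ i, i < 97270 → P i := stepQ 97269 Q97269 (allL N97269 (tt N60265 (iv1 D200363)) (tt N104214 F444738) (tt N92993 (iv2 F444739)) (tt N97185 (iv3 F444741)) (tt N112060 (iv4 F479303)) (tt N109246 (iv5 F465972)) (tt N83806 F444740) (tt N109245 (iv7 F465969)))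
theorem Q97271 : ∀ i, i < 97271 → P i := stepQ 97270 Q97270 (allL N97270 (tt N95455 F416143) (tt N95299 F416146) (tt N118980 (iv2 F513095)) (tt N60266 (iv3 D200364)) (tt N95553 F416142) (tt N96959 (iv5 F416144)) (tt N112442 F481131) (tt N111229 (iv7 F475329)))
theorem Q97272 : ∀ i, i < 97272 → P i := stepQ 97271 Q97271 (allL N97271 (tt N86811 F416150) (tt N86808 F416151) (tt N86814 F416147) (tt N96959 F416148) (tt N115181 (iv4 F493898)) (tt N60266 (iv5 D200365)) (tt N115291 (iv6 F494414)) (tt N86813 F416149))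
theorem Q97273 : ∀ i, i < 97273 → P i := stepQ 97272 Q97272 (allL N97272 (tt N112473 (iv1 F481225)) (tt N112060 (iv0 F479305)) (tt N98304 (iv2 F420425)) (tt N79841 F416152) (tt N92202 F416153) (tt N79840 F416154) (tt N60267 (iv6 D200366)) (tt N112460 (iv7 F481189)))
theorem Q97274 : ∀ i, i < 97274 → P i := stepQ 97273 Q97273 (allL N97273 (tt N98266 (iv1 F420243)) (tt N79073 (iv0 F416158)) (tt N74445 F416155) (tt N60270 (iv3 D200367)) (tt N109695 (iv4 F468150)) (tt N74444 F416156) (tt N104217 (iv6 F444754)) (tt N83810 F416157))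
theorem Q97275 : ∀ i, i < 97275 → P i := stepQ 97274 Q97274 (allL N97274 (tt N86209 (iv1 F416161)) (tt N69484 F416162) (tt N104028 (iv2 F443866)) (tt N60287 F416159) (tt N99704 (iv4 F425819)) (tt N98191 (iv5 F419918)) (tt N60271 (iv6 D200368)) (tt N60272 F416160))
theorem Q97276 : ∀ i, i < 97276 → P i := stepQ 97275 Q97275 (allL N97275 (tt N117715 (iv1 F506590)) (tt N60746 (iv0 F418411)) (tt N91043 F416163) (tt N69369 F416164) (tt N104375 (iv4 F445486)) (tt N60273 (iv5 D200369)) (tt N85940 F416165) (tt N92637 F416166))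
theorem Q97277 : ∀ i, i < 97277 → P i := stepQ 97276 Q97276 (allL N97276 (tt N79944 (iv1 F416173)) (tt N61077 (iv0 F416171)) (tt N79941 F416168) (tt N109243 (iv3 F465954)) (tt N95452 F416172) (tt N60276 (iv5 D200371)) (tt N92658 F416170) (tt N79942 F416169))
theorem Q97278 : ∀ i, i < 97278 → P i := stepQ 97277 Q97277 (allL N97277 (tt N79926 (iv1 F416179)) (tt N97186 (iv0 F416177)) (tt N97185 (iv2 F416178)) (tt N60277 (iv3 D200372)) (tt N95885 F416176) (tt N92649 F416174) (tt N69375 (iv6 F416180)) (tt N92992 F416175))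
theorem Q97279 : ∀ i, i < 97279 → P i := stepQ 97278 Q97278 (allL N97278 (tt N97202 (iv1 F416186)) (tt N60284 (iv0 F416185)) (tt N92994 F416181) (tt N69375 F416182) (tt N103993 (iv4 F443686)) (tt N69374 F416183) (tt N60277 (iv6 D200373)) (tt N97201 F416184))
theorem Q97280 : ∀ i, i < 97280 → P i := stepQ 97279 Q97279 (allL N97279 (tt N103985 F443655) (tt N106706 (iv0 F455346)) (tt N119354 D222613) (tt N60279 (iv3 D200374)) (tt N97315 F416322) (tt N103965 (iv5 F443551)) (tt N115297 F494451) (tt N97158 F416187))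
theorem Q97281 : ∀ i, i < 97281 → P i := stepQ 97280 Q97280 (allL N97280 (tt N88339 F416189) (tt N104040 (iv0 F443907)) (tt N97161 F416188) (tt N115297 (iv3 F494452)) (tt N103207 (iv4 F440572)) (tt N119355 D222614) (tt N60279 (iv6 D200375)) (tt N119356 D222615))
theorem Q97282 : ∀ i, i < 97282 → P i := stepQ 97281 Q97281 (allL N97281 (tt N88357 F416191) (tt N93000 F416193) (tt N111943 (iv2 F478791)) (tt N60280 (iv3 D200376)) (tt N104393 (iv4 F445569)) (tt N103967 (iv5 F443559)) (tt N87743 (iv6 F416192)) (tt N97160 F416190))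
theorem Q97283 : ∀ i, i < 97283 → P i := stepQ 97282 Q97282 (allL N97282 (tt N103990 F443681) (tt N106717 F467565) (tt N97159 F416196) (tt N87743 F416197) (tt N103210 (iv4 F440581)) (tt N76035 (iv5 F416198)) (tt N60280 (iv6 D200377)) (tt N111232 (iv7 F475345)))
theorem Q97284 : ∀ i, i < 97284 → P i := stepQ 97283 Q97283 (allL N97283 (tt N60284 (iv1 D200378)) (tt N97202 F416199) (tt N97201 F416203) (tt N83805 (iv3 F416201)) (tt N106718 (iv4 F455386)) (tt N105780 (iv5 F451679)) (tt N87151 (iv6 F416202)) (tt N92994 F416200))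
theorem Q97285 : ∀ i, i < 97285 → P i := stepQ 97284 Q97284 (allL N97284 (tt N86185 F416208) (tt N86190 (iv0 F416209)) (tt N82882 F416204) (tt N92999 F416205) (tt N70229 F416207) (tt N60288 (iv5 D200379)) (tt N82920 (iv6 F416210)) (tt N86189 F416206))
theorem Q97286 : ∀ i, i < 97286 → P i := stepQ 97285 Q97285 (allL N97285 (tt N86190 F416216) (tt N86185 (iv0 F416217)) (tt N86189 F416211) (tt N82884 F416212) (tt N70234 F416215) (tt N60289 (iv5 D200380)) (tt N93131 F416213) (tt N82882 F416214))
theorem Q97287 : ∀ i, i < 97287 → P i := stepQ 97286 Q97286 (allL N97286 (tt N93744 F416219) (tt N116508 F500523) (tt N103211 (iv2 F440582)) (tt N60290 (iv3 D200381)) (tt N61959 F416218) (tt N115732 (iv5 F496571)) (tt N62505 (iv6 F416220)) (tt N102861 (iv7 F438986)))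
theorem Q97288 : ∀ i, i < 97288 → P i := stepQ 97287 Q97287 (allL N97287 (tt N74141 F416224) (tt N62646 F416226) (tt N74144 F416221) (tt N115732 (iv3 F496568)) (tt N91228 F416223) (tt N60290 (iv5 D200382)) (tt N81600 F416225) (tt N74143 F416222))
theorem Q97289 : ∀ i, i < 97289 → P i := stepQ 97288 Q97288 (allL N97288 (tt N71046 F416230) (tt N92529 F416232) (tt N96616 F416227) (tt N62505 F416228) (tt N107966 (iv4 F460516)) (tt N71032 F416231) (tt N60290 (iv6 D200383)) (tt N96618 F416229))
theorem Q97290 : ∀ i, i < 97290 → P i := stepQ 97289 Q97289 (allL N97289 (tt N80413 F416238) (tt N65932 F416239) (tt N80412 F416233) (tt N80122 F416234) (tt N60292 (iv4 D200384)) (tt N95821 F416237) (tt N93420 F416235) (tt N66017 F416236))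
theorem Q97291 : ∀ i, i < 97291 → P i := stepQ 97290 Q97290 (allL N97290 (tt N105948 (iv1 F452461)) (tt N78192 F416242) (tt N106276 F453849) (tt N60296 (iv3 D200385)) (tt N116489 (iv4 F500410)) (tt N86864 (iv5 F416241)) (tt N115110 F493530) (tt N60302 F416240))
theorem Q97292 : ∀ i, i < 97292 → P i := stepQ 97291 Q97291 (allL N97291 (tt N78169 F416245) (tt N107176 F457351) (tt N60298 F416243) (tt N78164 F416246) (tt N60296 (iv4 D200386)) (tt N90859 (iv5 F416247)) (tt N90860 F416248) (tt N60303 F416244))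
theorem Q97293 : ∀ i, i < 97293 → P i := stepQ 97292 Q97292 (allL N97292 (tt N68380 F416252) (tt N86882 (iv0 F416253)) (tt N60299 F416249) (tt N86864 F416250) (tt N115265 (iv4 F494276)) (tt N60296 (iv5 D200387)) (tt N119357 D222616) (tt N60304 F416251))
theorem Q97294 : ∀ i, i < 97294 → P i := stepQ 97293 Q97293 (allL N97293 (tt N97126 F473690) (tt N111109 (iv0 F474715)) (tt N60300 F416254) (tt N115110 F493529) (tt N90860 F416255) (tt N119358 D222617) (tt N60296 (iv6 D200388)) (tt N116804 (iv7 F501927)))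
theorem Q97295 : ∀ i, i < 97295 → P i := stepQ 97294 Q97294 (allL N97294 (tt N88205 F416258) (tt N111117 F474751) (tt N112433 (iv2 F481081)) (tt N60299 F416256) (tt N118913 (iv4 F512717)) (tt N60297 (iv5 D200389)) (tt N115461 (iv6 F495301)) (tt N87882 F416257))
theorem Q97296 : ∀ i, i < 97296 → P i := stepQ 97295 Q97295 (allL N97295 (tt N91602 (iv1 F416262)) (tt N117326 F504474) (tt N117149 (iv2 F503638)) (tt N60300 F416259) (tt N82107 F416260) (tt N119359 D222618) (tt N60297 (iv6 D200390)) (tt N91463 F416261))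
theorem Q97297 : ∀ i, i < 97297 → P i := stepQ 97296 Q97296 (allL N97296 (tt N60303 F416267) (tt N60298 (iv0 D200391)) (tt N78169 (iv2 F416266)) (tt N82185 F416265) (tt N91418 F416264) (tt N118015 (iv5 F508096)) (tt N117084 (iv6 F503299)) (tt N107176 (iv7 F457349)))
theorem Q97298 : ∀ i, i < 97298 → P i := stepQ 97297 Q97297 (allL N97297 (tt N61144 F416271) (tt N107177 (iv0 F457356)) (tt N90859 F416268) (tt N81299 F416269) (tt N61140 F416270) (tt N60298 (iv5 D200392)) (tt N84378 (iv6 F416272)) (tt N81298 F416273))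
theorem Q97299 : ∀ i, i < 97299 → P i := stepQ 97298 Q97298 (allL N97298 (tt N109314 F466347) (tt N107182 (iv0 F457383)) (tt N90860 F416274) (tt N82109 F416275) (tt N60300 F416276) (tt N84373 F416277) (tt N60298 (iv6 D200393)) (tt N116624 (iv7 F501033)))
theorem Q97300 : ∀ i, i < 97300 → P i := stepQ 97299 Q97299 (allL N97299 (tt N107176 (iv1 F457350)) (tt N78169 (iv0 F416283)) (tt N60303 F416278) (tt N78206 F416279) (tt N60301 F416280) (tt N81298 F416281) (tt N83199 (iv6 F416282)) (tt N60298 (iv7 D200394)))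
theorem Q97301 : ∀ i, i < 97301 → P i := stepQ 97300 Q97300 (allL N97300 (tt N60304 (iv1 F416287)) (tt N60299 (iv0 D200395)) (tt N68380 (iv2 F416285)) (tt N97338 (iv3 F416413)) (tt N115207 (iv4 F494017)) (tt N69433 F416284) (tt N79862 (iv6 F416288)) (tt N86882 F416286))
theorem Q97302 : ∀ i, i < 97302 → P i := stepQ 97301 Q97301 (allL N97301 (tt N115292 (iv1 F494424)) (tt N115289 F494405) (tt N115265 F494280) (tt N117422 (iv3 F504964)) (tt N60299 (iv4 D200396)) (tt N86625 F416289) (tt N117421 F504963) (tt N86624 (iv7 F416290)))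
theorem Q97303 : ∀ i, i < 97303 → P i := stepQ 97302 Q97302 (allL N97302 (tt N115236 F496629) (tt N105000 (iv0 F448310)) (tt N119357 (iv2 F515197)) (tt N115461 (iv3 F495300)) (tt N117421 (iv4 F504959)) (tt N119360 D222619) (tt N60299 (iv6 D200397)) (tt N115455 (iv7 F495275)))
theorem Q97304 : ∀ i, i < 97304 → P i := stepQ 97303 Q97303 (allL N97303 (tt N86882 (iv1 F416295)) (tt N68380 F416296) (tt N60304 F416291) (tt N87882 F416292) (tt N86624 F416293) (tt N60301 F416294) (tt N87880 (iv6 F416297)) (tt N60299 (iv7 D200398)))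
theorem Q97305 : ∀ i, i < 97305 → P i := stepQ 97304 Q97304 (allL N97304 (tt N115881 F497390) (tt N115948 (iv0 F497731)) (tt N119358 (iv2 F515201)) (tt N119359 (iv3 F515206)) (tt N119361 D222620) (tt N60300 (iv5 D200399)) (tt N119360 (iv6 F515209)) (tt N116810 (iv7 F501958)))
theorem Q97306 : ∀ i, i < 97306 → P i := stepQ 97305 Q97305 (allL N97305 (tt N78192 (iv1 F416305)) (tt N105948 (iv0 F452460)) (tt N60302 (iv2 D200400)) (tt N91459 F416298) (tt N70873 F416299) (tt N86867 F416300) (tt N91457 F416301) (tt N106276 (iv7 F453851)))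
theorem Q97307 : ∀ i, i < 97307 → P i := stepQ 97306 Q97306 (allL N97306 (tt N115289 F494404) (tt N115292 F494423) (tt N86624 F416306) (tt N114516 (iv3 F490546)) (tt N60304 (iv4 D200401)) (tt N86446 F416307) (tt N115176 (iv6 F493866)) (tt N115265 (iv7 F494278)))
theorem Q97308 : ∀ i, i < 97308 → P i := stepQ 97307 Q97307 (allL N97307 (tt N115193 F493956) (tt N115192 F493953) (tt N60308 F416308) (tt N115187 (iv3 F493924)) (tt N60305 (iv4 D200402)) (tt N115153 (iv5 F493747)) (tt N104923 F447963) (tt N115194 (iv7 F493962)))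
theorem Q97309 : ∀ i, i < 97309 → P i := stepQ 97308 Q97308 (allL N97308 (tt N115823 (iv1 F497092)) (tt N116039 (iv0 F498188)) (tt N90743 F416309) (tt N60306 (iv3 D200403)) (tt N97187 F416311) (tt N90738 F416310) (tt N87091 (iv6 F416312)) (tt N116040 (iv7 F498191)))
theorem Q97310 : ∀ i, i < 97310 → P i := stepQ 97309 Q97309 (allL N97309 (tt N119362 D222621) (tt N115215 (iv0 F494058)) (tt N117741 (iv2 F506731)) (tt N115212 (iv3 F494043)) (tt N60306 (iv4 D200404)) (tt N93008 F447696) (tt N115211 (iv6 F494040)) (tt N115295 (iv7 F494440)))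
theorem Q97311 : ∀ i, i < 97311 → P i := stepQ 97310 Q97310 (allL N97310 (tt N97179 F449588) (tt N91246 (iv0 F416314)) (tt N113688 (iv2 F486639)) (tt N87091 F416313) (tt N115211 (iv4 F494042)) (tt N87089 (iv5 F416315)) (tt N60306 (iv6 D200405)) (tt N115806 (iv7 F496988)))
theorem Q97312 : ∀ i, i < 97312 → P i := stepQ 97311 Q97311 (allL N97311 (tt N90746 F416321) (tt N90745 F416320) (tt N90747 F416319) (tt N60307 (iv3 D200406)) (tt N86794 (iv4 F416318)) (tt N89255 F416316) (tt N119363 D222622) (tt N89254 F416317))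
theorem Q97313 : ∀ i, i < 97313 → P i := stepQ 97312 Q97312 (allL N97312 (tt N115215 F494059) (tt N119362 F515220) (tt N115295 (iv2 F494437)) (tt N115190 (iv3 F493939)) (tt N60307 (iv4 D200407)) (tt N118117 (iv5 F508693)) (tt N86447 (iv6 F481109)) (tt N117741 (iv7 F506733)))
theorem Q97314 : ∀ i, i < 97314 → P i := stepQ 97313 Q97313 (allL N97313 (tt N115244 F494187) (tt N111737 (iv0 F477736)) (tt N115294 (iv2 F494431)) (tt N119363 (iv3 F515225)) (tt N86447 F481108) (tt N119364 D222623) (tt N60307 (iv6 D200408)) (tt N115293 (iv7 F494428)))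
theorem Q97315 : ∀ i, i < 97315 → P i := stepQ 97314 Q97314 (allL N97314 (tt N115194 (iv1 F493963)) (tt N60308 (iv0 D200409)) (tt N115193 (iv2 F493957)) (tt N118068 (iv3 F508401)) (tt N119329 (iv4 F515047)) (tt N104938 (iv5 F448029)) (tt N119365 D222624) (tt N115192 (iv7 F493959)))
theorem Q97316 : ∀ i, i < 97316 → P i := stepQ 97315 Q97315 (allL N97315 (tt N60308 (iv1 D200410)) (tt N115194 F493964) (tt N115192 F493958) (tt N113770 (iv3 F487040)) (tt N97279 (iv4 F416322)) (tt N113769 F487038) (tt N115249 F494209) (tt N115193 F493955))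
theorem Q97317 : ∀ i, i < 97317 → P i := stepQ 97316 Q97316 (allL N97316 (tt N97263 F416326) (tt N107232 (iv0 F457571)) (tt N114247 (iv2 F489198)) (tt N60310 (iv3 D200411)) (tt N87098 F416323) (tt N95887 F416324) (tt N96781 (iv6 F416327)) (tt N87097 F416325))
theorem Q97318 : ∀ i, i < 97318 → P i := stepQ 97317 Q97317 (allL N97317 (tt N114249 F489214) (tt N111738 (iv0 F477742)) (tt N97355 (iv2 F416463)) (tt N96781 F416328) (tt N97203 F416329) (tt N83777 F416330) (tt N60310 (iv6 D200412)) (tt N114250 (iv7 F489217)))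
theorem Q97319 : ∀ i, i < 97319 → P i := stepQ 97318 Q97318 (allL N97318 (tt N114248 (iv1 F489204)) (tt N114245 (iv0 F489191)) (tt N87602 F416331) (tt N60311 (iv3 D200413)) (tt N68763 F416332) (tt N87154 (iv5 F416334)) (tt N111637 (iv6 F477251)) (tt N87605 F416333))
theorem Q97320 : ∀ i, i < 97320 → P i := stepQ 97319 Q97319 (allL N97319 (tt N102866 (iv1 F439008)) (tt N87526 (iv0 F416337)) (tt N97356 (iv2 F416469)) (tt N87154 F416335) (tt N97334 (iv4 F416398)) (tt N60311 (iv5 D200414)) (tt N74130 (iv6 F416338)) (tt N87603 F416336))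
theorem Q97321 : ∀ i, i < 97321 → P i := stepQ 97320 Q97320 (allL N97320 (tt N115718 (iv1 F496487)) (tt N104934 F448015) (tt N87113 F416339) (tt N111637 (iv3 F477250)) (tt N87153 F416340) (tt N111636 F477246) (tt N60311 (iv6 D200415)) (tt N114252 (iv7 F489233)))
theorem Q97322 : ∀ i, i < 97322 → P i := stepQ 97321 Q97321 (allL N97321 (tt N74020 (iv1 F416342)) (tt N60313 (iv0 D200416)) (tt N97357 (iv2 F416477)) (tt N108269 F461798) (tt N105446 (iv4 F450300)) (tt N66577 F416341) (tt N119366 D222625) (tt N97358 (iv7 F416480)))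
theorem Q97323 : ∀ i, i < 97323 → P i := stepQ 97322 Q97322 (allL N97322 (tt N60313 (iv1 D200417)) (tt N74020 F416343) (tt N97358 (iv2 F416484)) (tt N111598 (iv3 F477095)) (tt N74638 F416345) (tt N74037 F416344) (tt N74637 (iv6 F416346)) (tt N97357 F416476))
theorem Q97324 : ∀ i, i < 97324 → P i := stepQ 97323 Q97323 (allL N97323 (tt N108475 (iv1 F462753)) (tt N74618 F416349) (tt N97359 (iv2 F416486)) (tt N90252 F416347) (tt N60313 (iv4 D200418)) (tt N108472 (iv5 F462738)) (tt N93304 F416348) (tt N102862 (iv7 F438991)))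
theorem Q97325 : ∀ i, i < 97325 → P i := stepQ 97324 Q97324 (allL N97324 (tt N119367 D222626) (tt N94301 (iv0 F416352)) (tt N94288 F416350) (tt N94454 F416351) (tt N117582 (iv4 F505836)) (tt N119368 D222627) (tt N60316 (iv6 D200419)) (tt N100093 (iv7 F427499)))
theorem Q97326 : ∀ i, i < 97326 → P i := stepQ 97325 Q97325 (allL N97325 (tt N108054 F460901) (tt N116608 (iv0 F500948)) (tt N108270 (iv2 F461802)) (tt N60322 F416353) (tt N60344 F416354) (tt N101187 (iv5 F432102)) (tt N60319 (iv6 D200420)) (tt N95318 F416355))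
theorem Q97327 : ∀ i, i < 97327 → P i := stepQ 97326 Q97326 (allL N97326 (tt N60320 (iv1 D200421)) (tt N92551 F416356) (tt N74121 F416359) (tt N74494 (iv3 F416358)) (tt N94391 (iv4 F416361)) (tt N74116 F416360) (tt N119369 D222628) (tt N96257 F416357))
theorem Q97328 : ∀ i, i < 97328 → P i := stepQ 97327 Q97327 (allL N97327 (tt N74121 (iv1 F416364)) (tt N96257 F416365) (tt N92551 F416362) (tt N118482 (iv3 F510609)) (tt N103213 (iv4 F440597)) (tt N71065 F416363) (tt N108046 (iv6 F460870)) (tt N60320 (iv7 D200422)))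
theorem Q97329 : ∀ i, i < 97329 → P i := stepQ 97328 Q97328 (allL N97328 (tt N110584 (iv1 F472247)) (tt N100098 (iv0 F427512)) (tt N94240 F416366) (tt N108987 (iv3 F464779)) (tt N77876 F416367) (tt N94376 (iv5 F416368)) (tt N60321 (iv6 D200423)) (tt N108046 (iv7 F460867)))
theorem Q97330 : ∀ i, i < 97330 → P i := stepQ 97329 Q97329 (allL N97329 (tt N74735 F416372) (tt N82317 F416373) (tt N94282 F416369) (tt N101187 (iv3 F432103)) (tt N112723 (iv4 F482365)) (tt N60322 (iv5 D200424)) (tt N94376 F416370) (tt N95320 F416371))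
theorem Q97331 : ∀ i, i < 97331 → P i := stepQ 97330 Q97330 (allL N97330 (tt N87097 F416377) (tt N114247 (iv0 F489202)) (tt N97263 F416374) (tt N60327 F416375) (tt N108547 (iv4 F463036)) (tt N60343 F416376) (tt N60326 (iv6 D200425)) (tt N107232 (iv7 F457570)))
theorem Q97332 : ∀ i, i < 97332 → P i := stepQ 97331 Q97331 (allL N97331 (tt N68080 F416381) (tt N104190 F444610) (tt N60334 F416378) (tt N87148 F416379) (tt N119267 (iv4 F514717)) (tt N60331 (iv5 D200426)) (tt N87543 (iv6 F416382)) (tt N60338 F416380))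
theorem Q97333 : ∀ i, i < 97333 → P i := stepQ 97332 Q97332 (allL N97332 (tt N94438 F416387) (tt N119319 F514995) (tt N60335 F416383) (tt N91275 F416384) (tt N118471 (iv4 F510550)) (tt N108590 F463175) (tt N60331 (iv6 D200427)) (tt N89513 F416385))
theorem Q97334 : ∀ i, i < 97334 → P i := stepQ 97333 Q97333 (allL N97333 (tt N60332 (iv1 D200428)) (tt N85270 F416388) (tt N72319 F416391) (tt N71201 (iv3 F416390)) (tt N94608 F416392) (tt N97164 F416389) (tt N71836 F416393) (tt N99706 (iv7 F425833)))
theorem Q97335 : ∀ i, i < 97335 → P i := stepQ 97334 Q97334 (allL N97334 (tt N87564 F416397) (tt N81610 F416399) (tt N87565 F416394) (tt N60334 F416395) (tt N97319 F416398) (tt N60332 (iv5 D200429)) (tt N74149 (iv6 F416400)) (tt N87562 F416396))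
theorem Q97336 : ∀ i, i < 97336 → P i := stepQ 97335 Q97335 (allL N97335 (tt N91371 (iv1 F416405)) (tt N91370 F416406) (tt N91373 F416402) (tt N60335 F416403) (tt N105437 (iv4 F450268)) (tt N119370 D222629) (tt N60332 (iv6 D200430)) (tt N91363 F416404))
theorem Q97337 : ∀ i, i < 97337 → P i := stepQ 97336 Q97336 (allL N97336 (tt N60337 (iv1 F416408)) (tt N60333 (iv0 D200431)) (tt N106461 (iv2 F454551)) (tt N105958 (iv3 F452507)) (tt N93570 F416407) (tt N119265 (iv5 F514708)) (tt N108251 (iv6 F461701)) (tt N92512 F416409))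
theorem Q97338 : ∀ i, i < 97338 → P i := stepQ 97337 Q97337 (allL N97337 (tt N117153 F503660) (tt N118555 F510921) (tt N118471 (iv2 F510548)) (tt N107249 (iv3 F457643)) (tt N60335 F416410) (tt N119371 D222630) (tt N60333 (iv6 D200432)) (tt N119252 (iv7 F514638)))
theorem Q97339 : ∀ i, i < 97339 → P i := stepQ 97338 Q97338 (allL N97338 (tt N60338 (iv1 F416427)) (tt N60334 (iv0 D200433)) (tt N68080 (iv2 F416412)) (tt N97300 F416413) (tt N113673 (iv4 F486565)) (tt N68079 F416411) (tt N108263 F461765) (tt N104190 (iv7 F444608)))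
theorem Q97340 : ∀ i, i < 97340 → P i := stepQ 97339 Q97339 (allL N97339 (tt N119268 (iv1 F514729)) (tt N115711 (iv0 F496448)) (tt N119267 F514720) (tt N86412 F416414) (tt N60334 (iv4 D200434)) (tt N114277 (iv5 F489348)) (tt N86407 (iv6 F416415)) (tt N115723 (iv7 F496522)))
theorem Q97341 : ∀ i, i < 97341 → P i := stepQ 97340 Q97340 (allL N97340 (tt N86906 (iv1 F416420)) (tt N74162 (iv0 F416419)) (tt N87543 F416416) (tt N74149 F416417) (tt N86407 F416418) (tt N119372 D222631) (tt N60334 (iv6 D200435)) (tt N87539 F416421))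
theorem Q97342 : ∀ i, i < 97342 → P i := stepQ 97341 Q97341 (allL N97341 (tt N104190 (iv1 F444609)) (tt N68080 (iv0 F416428)) (tt N60338 F416423) (tt N87562 F416424) (tt N115723 (iv4 F496520)) (tt N60336 F416425) (tt N87143 F416426) (tt N60334 (iv7 D200436)))
theorem Q97343 : ∀ i, i < 97343 → P i := stepQ 97342 Q97342 (allL N97342 (tt N89513 F416432) (tt N60335 (iv0 D200437)) (tt N94438 (iv2 F416430)) (tt N91092 F416431) (tt N119367 (iv4 F515245)) (tt N119242 F514577) (tt N71063 F416429) (tt N119319 (iv7 F514993)))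
theorem Q97344 : ∀ i, i < 97344 → P i := stepQ 97343 Q97343 (allL N97343 (tt N108577 F463126) (tt N108592 F463181) (tt N108590 (iv2 F463176)) (tt N119370 (iv3 F515263)) (tt N111412 F476233) (tt N60335 (iv5 D200438)) (tt N119372 (iv6 F515271)) (tt N108589 F463174))
theorem Q97345 : ∀ i, i < 97345 → P i := stepQ 97344 Q97344 (allL N97344 (tt N119319 (iv1 F514994)) (tt N94438 F416436) (tt N89513 F416433) (tt N91363 F416434) (tt N119252 (iv4 F514637)) (tt N108589 (iv5 F463172)) (tt N89508 F416435) (tt N60335 (iv7 D200439)))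
theorem Q97346 : ∀ i, i < 97346 → P i := stepQ 97345 Q97345 (allL N97345 (tt N115711 F496449) (tt N119268 F514728) (tt N115723 (iv2 F496519)) (tt N104033 (iv3 F443884)) (tt N60338 (iv4 D200440)) (tt N107257 (iv5 F457674)) (tt N87144 F416437) (tt N119267 (iv7 F514721)))
theorem Q97347 : ∀ i, i < 97347 → P i := stepQ 97346 Q97346 (allL N97346 (tt N76431 F416440) (tt N76430 F416441) (tt N60342 F416438) (tt N92981 (iv3 F416443)) (tt N60339 (iv4 D200441)) (tt N89871 F416442) (tt N99749 (iv6 F426047)) (tt N76432 F416439))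
theorem Q97348 : ∀ i, i < 97348 → P i := stepQ 97347 Q97347 (allL N97347 (tt N108273 (iv1 F461816)) (tt N108272 F461813) (tt N60343 F416445) (tt N86816 F416446) (tt N99749 (iv4 F426050)) (tt N97263 F416447) (tt N60339 (iv6 D200442)) (tt N99574 (iv7 F425237)))
theorem Q97349 : ∀ i, i < 97349 → P i := stepQ 97348 Q97348 (allL N97348 (tt N70608 F416449) (tt N104837 F447536) (tt N98285 (iv2 F420330)) (tt N86770 F416448) (tt N97966 (iv4 F418998)) (tt N114220 (iv5 F489055)) (tt N60341 (iv6 D200443)) (tt N97965 F418996))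
theorem Q97350 : ∀ i, i < 97350 → P i := stepQ 97349 Q97349 (allL N97349 (tt N60342 (iv1 D200444)) (tt N76432 F416450) (tt N76430 F416454) (tt N117413 F504915) (tt N97197 (iv4 F416452)) (tt N105675 (iv5 F451201)) (tt N70607 (iv6 F416453)) (tt N76431 F416451))
theorem Q97351 : ∀ i, i < 97351 → P i := stepQ 97350 Q97350 (allL N97350 (tt N71256 F416458) (tt N89872 (iv0 F416459)) (tt N89871 F416455) (tt N76336 F416456) (tt N106233 (iv4 F453693)) (tt N60342 (iv5 D200445)) (tt N100297 (iv6 F428308)) (tt N76433 F416457))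
theorem Q97352 : ∀ i, i < 97352 → P i := stepQ 97351 Q97351 (allL N97351 (tt N99574 F425239) (tt N60343 (iv0 D200446)) (tt N108273 (iv2 F461821)) (tt N97162 (iv3 F425192)) (tt N63808 F416460) (tt N112422 (iv5 F481028)) (tt N115697 (iv6 F496371)) (tt N108272 F461814))
theorem Q97353 : ∀ i, i < 97353 → P i := stepQ 97352 Q97352 (allL N97352 (tt N60343 (iv1 D200447)) (tt N99574 F425238) (tt N108272 (iv2 F461815)) (tt N85693 (iv3 F420813)) (tt N63811 (iv4 F420810)) (tt N85691 F420812) (tt N113667 F486549) (tt N108273 (iv7 F461817)))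
theorem Q97354 : ∀ i, i < 97354 → P i := stepQ 97353 Q97353 (allL N97353 (tt N107231 (iv1 F457567)) (tt N60344 (iv0 D200448)) (tt N108268 (iv2 F461795)) (tt N97358 F416485) (tt N101192 (iv4 F432119)) (tt N89230 F416461) (tt N118416 (iv6 F510234)) (tt N108269 (iv7 F461797)))
theorem Q97355 : ∀ i, i < 97355 → P i := stepQ 97354 Q97354 (allL N97354 (tt N60344 (iv1 D200449)) (tt N107231 (iv0 F457566)) (tt N108269 (iv2 F461800)) (tt N103150 (iv3 F440309)) (tt N117878 (iv4 F507393)) (tt N89229 (iv5 F416462)) (tt N103149 F440307) (tt N108268 F461794))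
theorem Q97356 : ∀ i, i < 97356 → P i := stepQ 97355 Q97355 (allL N97355 (tt N104050 F443935) (tt N88295 (iv0 F416467)) (tt N97317 F416463) (tt N84668 F416464) (tt N86885 F416465) (tt N91194 F416466) (tt N60345 (iv6 D200450)) (tt N84701 (iv7 F416468)))
theorem Q97357 : ∀ i, i < 97357 → P i := stepQ 97356 Q97356 (allL N97356 (tt N115690 (iv1 F496338)) (tt N86807 F416472) (tt N97319 F416469) (tt N98412 (iv3 F420857)) (tt N87565 F416470) (tt N60346 (iv5 D200451)) (tt N99691 (iv6 F425759)) (tt N87563 F416471))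
theorem Q97358 : ∀ i, i < 97358 → P i := stepQ 97357 Q97357 (allL N97357 (tt N66526 (iv1 F416475)) (tt N60348 (iv0 D200452)) (tt N97321 F416477) (tt N91621 (iv3 F416478)) (tt N73469 F416474) (tt N74077 F416473) (tt N117460 (iv6 F505148)) (tt N97322 (iv7 F416476)))
theorem Q97359 : ∀ i, i < 97359 → P i := stepQ 97358 Q97358 (allL N97358 (tt N60348 (iv1 D200453)) (tt N66526 F416479) (tt N97322 F416484) (tt N97353 (iv3 F416485)) (tt N73470 F416482) (tt N74190 F416481) (tt N93956 (iv6 F416483)) (tt N97321 F416480))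
theorem Q97360 : ∀ i, i < 97360 → P i := stepQ 97359 Q97359 (allL N97359 (tt N108481 (iv1 F462781)) (tt N93612 F416489) (tt N97323 F416486) (tt N62373 F416487) (tt N60348 (iv4 D200454)) (tt N102862 (iv5 F438992)) (tt N62371 F416488) (tt N108472 (iv7 F462737)))
theorem Q97361 : ∀ i, i < 97361 → P i := stepQ 97360 Q97360 (allL N97360 (tt N74052 F416494) (tt N68116 F416495) (tt N72141 F416490) (tt N90567 (iv3 F416498)) (tt N60349 (iv4 D200455)) (tt N74033 F416493) (tt N62630 F416491) (tt N74207 F416492))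
theorem Q97362 : ∀ i, i < 97362 → P i := stepQ 97361 Q97361 (allL N97361 (tt N82201 F416503) (tt N112719 F482341) (tt N67064 F416499) (tt N65484 F416504) (tt N60352 (iv4 D200456)) (tt N94742 F416502) (tt N67088 F416500) (tt N65480 F416501))
theorem Q97363 : ∀ i, i < 97363 → P i := stepQ 97362 Q97362 (allL N97362 (tt N76131 F416509) (tt N76130 F416510) (tt N67099 F416505) (tt N82585 F416506) (tt N98117 (iv4 F419526)) (tt N60352 (iv5 D200457)) (tt N61472 F416507) (tt N76132 F416508))
theorem Q97364 : ∀ i, i < 97364 → P i := stepQ 97363 Q97363 (allL N97363 (tt N94581 (iv1 F416513)) (tt N60355 (iv0 D200458)) (tt N94579 F416515) (tt N119373 D222632) (tt N61417 F416512) (tt N79915 F416511) (tt N109411 (iv6 F466831)) (tt N94580 (iv7 F416514)))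
theorem Q97365 : ∀ i, i < 97365 → P i := stepQ 97364 Q97364 (allL N97364 (tt N60355 (iv1 D200459)) (tt N94581 F416516) (tt N94580 F416521) (tt N103819 (iv3 F442951)) (tt N61419 F416519) (tt N79916 F416518) (tt N76380 (iv6 F416520)) (tt N94579 F416517))
theorem Q97366 : ∀ i, i < 97366 → P i := stepQ 97365 Q97365 (allL N97365 (tt N75391 F416527) (tt N75400 F416528) (tt N75399 F416522) (tt N65071 F416523) (tt N82482 F416526) (tt N60357 (iv5 D200460)) (tt N91969 F416524) (tt N65076 F416525))
theorem Q97367 : ∀ i, i < 97367 → P i := stepQ 97366 Q97366 (allL N97366 (tt N80773 F416532) (tt N66030 (iv0 F416533)) (tt N102276 (iv2 F436503)) (tt N78636 F416529) (tt N81016 F416530) (tt N78630 F416531) (tt N60358 (iv6 D200461)) (tt N78629 F416534))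
theorem Q97368 : ∀ i, i < 97368 → P i := stepQ 97367 Q97367 (allL N97367 (tt N91852 F416538) (tt N102280 F436535) (tt N102275 (iv2 F436498)) (tt N66462 F416535) (tt N80061 F416536) (tt N66458 F416537) (tt N60359 (iv6 D200462)) (tt N100675 (iv7 F429963)))
theorem Q97369 : ∀ i, i < 97369 → P i := stepQ 97368 Q97368 (allL N97368 (tt N101889 (iv1 F434841)) (tt N65721 F416542) (tt N65527 F416539) (tt N117920 F507605) (tt N60360 (iv4 D200463)) (tt N118074 (iv5 F508431)) (tt N81803 F416540) (tt N82495 F416541))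
theorem Q97370 : ∀ i, i < 97370 → P i := stepQ 97369 Q97369 (allL N97369 (tt N60554 F416549) (tt N60556 (iv0 F416551)) (tt N78752 F416543) (tt N60361 (iv3 D200464)) (tt N80219 (iv4 F416546)) (tt N76112 F416544) (tt N78751 F416545) (tt N102255 (iv7 F436398)))
theorem Q97371 : ∀ i, i < 97371 → P i := stepQ 97370 Q97370 (allL N97370 (tt N65721 F416563) (tt N101889 (iv0 F434840)) (tt N82495 F416560) (tt N65531 F416564) (tt N60361 (iv4 D200465)) (tt N119374 D222633) (tt N82492 F416561) (tt N65527 F416562))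
theorem Q97372 : ∀ i, i < 97372 → P i := stepQ 97371 Q97371 (allL N97371 (tt N71543 F416568) (tt N71545 F416569) (tt N66268 F416565) (tt N107549 (iv3 F458727)) (tt N119375 D222634) (tt N60363 (iv5 D200466)) (tt N62127 F416566) (tt N72828 F416567))
theorem Q97373 : ∀ i, i < 97373 → P i := stepQ 97372 Q97372 (allL N97372 (tt N94029 F416572) (tt N97378 (iv0 F416602)) (tt N82436 F416570) (tt N103148 (iv3 F440299)) (tt N91716 (iv4 F416573)) (tt N60365 (iv5 D200467)) (tt N103146 F440289) (tt N91713 F416571))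
theorem Q97374 : ∀ i, i < 97374 → P i := stepQ 97373 Q97373 (allL N97373 (tt N60366 (iv1 D200468)) (tt N75451 F416574) (tt N65303 F416578) (tt N82153 (iv3 F416575)) (tt N113292 (iv4 F484880)) (tt N60370 (iv5 F416576)) (tt N65302 (iv6 F416577)) (tt N102764 (iv7 F438536)))
theorem Q97375 : ∀ i, i < 97375 → P i := stepQ 97374 Q97374 (allL N97374 (tt N77328 F416584) (tt N105102 (iv0 F448802)) (tt N82789 F416580) (tt N62130 F416581) (tt N60366 (iv4 D200469)) (tt N82754 (iv5 F416585)) (tt N83279 F416582) (tt N77409 F416583))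
theorem Q97376 : ∀ i, i < 97376 → P i := stepQ 97375 Q97375 (allL N97375 (tt N108680 F463518) (tt N60367 (iv0 D200470)) (tt N81821 (iv2 F416587)) (tt N119376 D222635) (tt N95799 F416586) (tt N100341 (iv5 F428492)) (tt N63613 F416588) (tt N99038 (iv7 F423106)))
theorem Q97377 : ∀ i, i < 97377 → P i := stepQ 97376 Q97376 (allL N97376 (tt N60367 (iv1 D200471)) (tt N108680 F463519) (tt N99038 (iv2 F423104)) (tt N81818 (iv3 F416591)) (tt N95800 F416590) (tt N104254 (iv5 F444961)) (tt N102713 (iv6 F438337)) (tt N81821 F416589))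
theorem Q97378 : ∀ i, i < 97378 → P i := stepQ 97377 Q97377 (allL N97377 (tt N99038 (iv1 F423108)) (tt N81821 (iv0 F416596)) (tt N108680 (iv2 F463514)) (tt N75303 F416592) (tt N62134 F416593) (tt N75297 F416594) (tt N75300 F416595) (tt N60367 (iv7 D200472)))
theorem Q97379 : ∀ i, i < 97379 → P i := stepQ 97378 Q97378 (allL N97378 (tt N97372 F416602) (tt N63783 (iv0 F416603)) (tt N60372 F416597) (tt N66235 F416598) (tt N73295 F416601) (tt N60371 (iv5 D200473)) (tt N66424 F416599) (tt N66233 F416600))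
theorem Q97380 : ∀ i, i < 97380 → P i := stepQ 97379 Q97379 (allL N97379 (tt N60390 (iv1 F416695)) (tt N118967 (iv0 F513023)) (tt N65718 F416604) (tt N60377 (iv3 D200474)) (tt N60415 F416607) (tt N116827 (iv5 F502037)) (tt N75845 F416605) (tt N65722 F416606))
theorem Q97381 : ∀ i, i < 97381 → P i := stepQ 97380 Q97380 (allL N97380 (tt N66701 F416612) (tt N75293 (iv0 F416614)) (tt N68532 F416608) (tt N81828 F416613) (tt N60377 (iv4 D200475)) (tt N75193 F416611) (tt N68490 F416609) (tt N75295 F416610))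
theorem Q97382 : ∀ i, i < 97382 → P i := stepQ 97381 Q97381 (allL N97381 (tt N99491 (iv1 F424833)) (tt N93276 (iv0 F416618)) (tt N99490 F424830) (tt N62008 F416615) (tt N60379 (iv4 D200476)) (tt N93760 F416616) (tt N107674 (iv6 F459179)) (tt N70133 F416617))
theorem Q97383 : ∀ i, i < 97383 → P i := stepQ 97382 Q97382 (allL N97382 (tt N66029 (iv1 F416624)) (tt N60381 (iv0 D200477)) (tt N63635 (iv2 F416621)) (tt N81051 (iv3 F416623)) (tt N62061 F416625) (tt N63518 F416620) (tt N77758 F416619) (tt N63535 F416622))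
theorem Q97384 : ∀ i, i < 97384 → P i := stepQ 97383 Q97383 (allL N97383 (tt N69053 F416630) (tt N63484 (iv0 F416631)) (tt N62976 F416626) (tt N80729 F416627) (tt N62910 F416629) (tt N60381 (iv5 D200478)) (tt N60382 F416628) (tt N62978 F416633))
theorem Q97385 : ∀ i, i < 97385 → P i := stepQ 97384 Q97384 (allL N97384 (tt N63535 (iv1 F416638)) (tt N63635 F416639) (tt N66029 F416634) (tt N103755 (iv3 F442683)) (tt N62017 F416635) (tt N62978 F416636) (tt N66478 F416637) (tt N60381 (iv7 D200479)))
theorem Q97386 : ∀ i, i < 97386 → P i := stepQ 97385 Q97385 (allL N97385 (tt N65718 F416644) (tt N65722 F416645) (tt N118967 (iv2 F513018)) (tt N60384 (iv3 D200480)) (tt N92680 F416640) (tt N86368 F416641) (tt N76117 F416642) (tt N60390 F416643))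
theorem Q97387 : ∀ i, i < 97387 → P i := stepQ 97386 Q97386 (allL N97386 (tt N95795 F416649) (tt N66400 F416650) (tt N100511 F429252) (tt N60387 F416646) (tt N73739 F416648) (tt N60385 (iv5 D200481)) (tt N105731 (iv6 F451454)) (tt N66251 F416647))
theorem Q97388 : ∀ i, i < 97388 → P i := stepQ 97387 Q97387 (allL N97387 (tt N60391 (iv1 F416657)) (tt N60386 (iv0 D200482)) (tt N60555 (iv2 F416653)) (tt N94726 F416654) (tt N95101 F416652) (tt N88769 F416651) (tt N67333 F416655) (tt N92679 F416656))
theorem Q97389 : ∀ i, i < 97389 → P i := stepQ 97388 Q97388 (allL N97388 (tt N60516 F416660) (tt N92686 (iv0 F416661)) (tt N92676 F416658) (tt N60386 (iv3 D200483)) (tt N86972 F416659) (tt N97848 (iv5 F418498)) (tt N65682 (iv6 F416663)) (tt N92687 F416664))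
theorem Q97390 : ∀ i, i < 97390 → P i := stepQ 97389 Q97389 (allL N97389 (tt N112072 (iv1 F479360)) (tt N97533 (iv0 F417285)) (tt N88653 F416665) (tt N97848 (iv3 F418497)) (tt N83979 F416666) (tt N60386 (iv5 D200484)) (tt N83978 F416667) (tt N118089 (iv7 F508520)))
theorem Q97391 : ∀ i, i < 97391 → P i := stepQ 97390 Q97390 (allL N97390 (tt N81206 (iv1 F416674)) (tt N81209 (iv0 F416673)) (tt N81753 F416668) (tt N65682 F416669) (tt N60388 F416670) (tt N65681 F416671) (tt N60386 (iv6 D200485)) (tt N81756 (iv7 F416672)))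
theorem Q97392 : ∀ i, i < 97392 → P i := stepQ 97391 Q97391 (allL N97391 (tt N92679 (iv1 F416678)) (tt N60555 F416679) (tt N60391 F416675) (tt N92687 F416676) (tt N60389 F416677) (tt N118089 F508522) (tt N119377 D222636) (tt N60386 (iv7 D200486)))
theorem Q97393 : ∀ i, i < 97393 → P i := stepQ 97392 Q97392 (allL N97392 (tt N90401 (iv1 F416684)) (tt N81091 (iv0 F416683)) (tt N90398 F416680) (tt N105731 (iv3 F451452)) (tt N92920 F416681) (tt N105725 (iv5 F451429)) (tt N60387 (iv6 D200487)) (tt N90399 F416682))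
theorem Q97394 : ∀ i, i < 97394 → P i := stepQ 97393 Q97393 (allL N97393 (tt N77023 F416688) (tt N103606 (iv0 F442215)) (tt N76116 F416685) (tt N76534 F416686) (tt N100942 (iv4 F431047)) (tt N60388 (iv5 D200488)) (tt N105725 (iv6 F451430)) (tt N76529 F416687))
theorem Q97395 : ∀ i, i < 97395 → P i := stepQ 97394 Q97394 (allL N97394 (tt N102278 (iv1 F436520)) (tt N100667 (iv0 F429922)) (tt N60393 F416689) (tt N72093 F416690) (tt N119377 (iv4 F515302)) (tt N103607 (iv5 F442217)) (tt N60389 (iv6 D200489)) (tt N100672 (iv7 F429949)))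
theorem Q97396 : ∀ i, i < 97396 → P i := stepQ 97395 Q97395 (allL N97395 (tt N118967 F513024) (tt N60390 (iv0 D200490)) (tt N65722 (iv2 F416692)) (tt N106826 (iv3 F455856)) (tt N60414 F416691) (tt N119378 D222637) (tt N60554 (iv6 F416693)) (tt N65718 (iv7 F416694)))
theorem Q97397 : ∀ i, i < 97397 → P i := stepQ 97396 Q97396 (allL N97396 (tt N65722 (iv1 F416698)) (tt N65718 F416697) (tt N60390 (iv2 D200491)) (tt N95628 F416696) (tt N87785 (iv4 F416704)) (tt N86369 F416700) (tt N87784 (iv6 F416701)) (tt N118967 (iv7 F513022)))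
theorem Q97398 : ∀ i, i < 97398 → P i := stepQ 97397 Q97397 (allL N97397 (tt N65702 F416714) (tt N65887 (iv0 F416715)) (tt N87785 F416711) (tt N92681 F416712) (tt N60390 (iv4 D200492)) (tt N118779 (iv5 F512018)) (tt N80050 (iv6 F416732)) (tt N92680 F416713))
theorem Q97399 : ∀ i, i < 97399 → P i := stepQ 97398 Q97398 (allL N97398 (tt N86359 F416721) (tt N81071 F416722) (tt N86369 F416717) (tt N60392 F416718) (tt N91715 F416720) (tt N60390 (iv5 D200493)) (tt N92910 (iv6 F416724)) (tt N86368 F416719))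
theorem Q97400 : ∀ i, i < 97400 → P i := stepQ 97399 Q97399 (allL N97399 (tt N100681 (iv1 F429984)) (tt N82455 (iv0 F416737)) (tt N87784 F416726) (tt N60393 F416727) (tt N80050 (iv4 F416731)) (tt N111826 (iv5 F478168)) (tt N60390 (iv6 D200494)) (tt N87782 F416729))
theorem Q97401 : ∀ i, i < 97401 → P i := stepQ 97400 Q97400 (allL N97400 (tt N97533 (iv1 F417286)) (tt N112072 (iv0 F479359)) (tt N118089 (iv2 F508517)) (tt N92684 F416738) (tt N88657 F416740) (tt N60391 (iv5 D200495)) (tt N110857 (iv6 F473463)) (tt N88653 F416739))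
theorem Q97402 : ∀ i, i < 97402 → P i := stepQ 97401 Q97401 (allL N97401 (tt N100735 F430223) (tt N81817 (iv0 F416743)) (tt N119377 (iv2 F515300)) (tt N87902 F416741) (tt N60393 F416742) (tt N93216 (iv5 F416744)) (tt N60391 (iv6 D200496)) (tt N118130 (iv7 F508762)))
theorem Q97403 : ∀ i, i < 97403 → P i := stepQ 97402 Q97402 (allL N97402 (tt N60393 (iv1 D200497)) (tt N100672 F429952) (tt N100667 (iv2 F429924)) (tt N102280 (iv3 F436530)) (tt N60645 (iv4 F416745)) (tt N60784 F416746) (tt N102262 (iv6 F436437)) (tt N102278 (iv7 F436519)))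
theorem Q97404 : ∀ i, i < 97404 → P i := stepQ 97403 Q97403 (allL N97403 (tt N102281 F436540) (tt N103608 (iv0 F442224)) (tt N103607 F442218) (tt N111826 F478173) (tt N114541 (iv4 F490684)) (tt N60393 (iv5 D200498)) (tt N92911 F416747) (tt N103593 (iv7 F442172)))
theorem Q97405 : ∀ i, i < 97405 → P i := stepQ 97404 Q97404 (allL N97404 (tt N100667 F429923) (tt N102278 F436521) (tt N100672 F429951) (tt N87782 F416748) (tt N118130 (iv4 F508763)) (tt N103593 (iv5 F442171)) (tt N90504 F416749) (tt N60393 (iv7 D200499)))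
theorem Q97406 : ∀ i, i < 97406 → P i := stepQ 97405 Q97405 (allL N97405 (tt N117480 (iv1 F505256)) (tt N89591 F416751) (tt N60397 F416750) (tt N110473 F471748) (tt N60394 (iv4 D200500)) (tt N117728 (iv5 F506656)) (tt N109252 (iv6 F466003)) (tt N116583 (iv7 F500846)))
theorem Q97407 : ∀ i, i < 97407 → P i := stepQ 97406 Q97406 (allL N97406 (tt N74614 F416754) (tt N110929 F473837) (tt N110930 F473842) (tt N117885 (iv3 F507427)) (tt N60395 (iv4 D200501)) (tt N89504 F416753) (tt N118679 (iv6 F511505)) (tt N89503 F416752))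
theorem Q97408 : ∀ i, i < 97408 → P i := stepQ 97407 Q97407 (allL N97407 (tt N117448 F505090) (tt N101667 (iv0 F433768)) (tt N117473 F505212) (tt N79240 F416756) (tt N118679 (iv4 F511503)) (tt N79236 F416757) (tt N60395 (iv6 D200502)) (tt N110588 (iv7 F472257)))
theorem Q97409 : ∀ i, i < 97409 → P i := stepQ 97408 Q97408 (allL N97408 (tt N119378 (iv1 F515313)) (tt N116827 (iv0 F502039)) (tt N119379 D222638) (tt N60396 (iv3 D200503)) (tt N110301 (iv4 F470927)) (tt N97082 F416758) (tt N75460 F416759) (tt N118988 (iv7 F513143)))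
theorem Q97410 : ∀ i, i < 97410 → P i := stepQ 97409 Q97409 (allL N97409 (tt N110929 (iv1 F473838)) (tt N74614 (iv0 F416762)) (tt N89503 F416760) (tt N118145 (iv3 F508839)) (tt N60396 (iv4 D200504)) (tt N88774 F416761) (tt N111547 (iv6 F476853)) (tt N110930 (iv7 F473844)))
theorem Q97411 : ∀ i, i < 97411 → P i := stepQ 97410 Q97410 (allL N97410 (tt N116583 (iv1 F500848)) (tt N60397 (iv0 D200505)) (tt N117480 (iv2 F505250)) (tt N81731 (iv3 F416764)) (tt N65083 F416763) (tt N89592 (iv5 F416767)) (tt N65082 (iv6 F416765)) (tt N89591 (iv7 F416766)))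
theorem Q97412 : ∀ i, i < 97412 → P i := stepQ 97411 Q97411 (allL N97411 (tt N94497 (iv1 F416772)) (tt N89481 F416771) (tt N117728 (iv2 F506654)) (tt N69838 F416768) (tt N88773 F416770) (tt N60397 (iv5 D200506)) (tt N72953 F416769) (tt N107511 (iv7 F458595)))
theorem Q97413 : ∀ i, i < 97413 → P i := stepQ 97412 Q97412 (allL N97412 (tt N60398 (iv1 D200507)) (tt N81086 F416773) (tt N98303 (iv2 F420418)) (tt N77189 (iv3 F416776)) (tt N94414 (iv4 F416775)) (tt N77185 (iv5 F416777)) (tt N77186 (iv6 F416778)) (tt N81108 F416774))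
theorem Q97414 : ∀ i, i < 97414 → P i := stepQ 97413 Q97413 (allL N97413 (tt N61807 (iv1 F416781)) (tt N60399 (iv0 D200508)) (tt N61809 (iv2 F416782)) (tt N100603 (iv3 F429657)) (tt N62367 F416780) (tt N61827 F416779) (tt N101638 (iv6 F433650)) (tt N61808 (iv7 F416783)))
theorem Q97415 : ∀ i, i < 97415 → P i := stepQ 97414 Q97414 (allL N97414 (tt N60399 (iv1 D200509)) (tt N61807 (iv0 F416787)) (tt N61808 (iv2 F416786)) (tt N118264 (iv3 F509426)) (tt N62361 F416788) (tt N61828 F416785) (tt N119294 F514884) (tt N61809 F416784))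
theorem Q97416 : ∀ i, i < 97416 → P i := stepQ 97415 Q97415 (allL N97415 (tt N61809 (iv1 F416795)) (tt N61808 F416794) (tt N60399 (iv2 D200510)) (tt N62070 F416789) (tt N93378 F416790) (tt N61796 F416791) (tt N93377 F416792) (tt N61807 F416793))
theorem Q97417 : ∀ i, i < 97417 → P i := stepQ 97416 Q97416 (allL N97416 (tt N97208 F416799) (tt N61881 F416800) (tt N97210 F416796) (tt N77872 F416797) (tt N60401 (iv4 D200511)) (tt N77867 (iv5 F416801)) (tt N94989 (iv6 F416802)) (tt N97209 F416798))
theorem Q97418 : ∀ i, i < 97418 → P i := stepQ 97417 Q97417 (allL N97417 (tt N82198 F416807) (tt N82208 F416806) (tt N77576 F416803) (tt N78217 F416804) (tt N115766 (iv4 F496753)) (tt N60401 (iv5 D200512)) (tt N63231 F416808) (tt N82205 F416805))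
theorem Q97419 : ∀ i, i < 97419 → P i := stepQ 97418 Q97418 (allL N97418 (tt N66915 F416814) (tt N80800 (iv0 F416815)) (tt N81103 F416809) (tt N78218 F416810) (tt N94989 F416811) (tt N63232 F416812) (tt N60401 (iv6 D200513)) (tt N81102 F416813))
theorem Q97420 : ∀ i, i < 97420 → P i := stepQ 97419 Q97419 (allL N97419 (tt N82573 F416817) (tt N106819 (iv0 F455823)) (tt N112492 (iv2 F481332)) (tt N60406 (iv3 D200514)) (tt N65545 F416816) (tt N102156 (iv5 F435957)) (tt N107751 (iv6 F459554)) (tt N102020 (iv7 F435379)))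
theorem Q97421 : ∀ i, i < 97421 → P i := stepQ 97420 Q97420 (allL N97420 (tt N79873 F416819) (tt N97082 F416821) (tt N79789 F416818) (tt N118984 (iv3 F513116)) (tt N60406 (iv4 D200515)) (tt N112160 (iv5 F479819)) (tt N78557 (iv6 F416820)) (tt N102021 (iv7 F435385)))
theorem Q97422 : ∀ i, i < 97422 → P i := stepQ 97421 Q97421 (allL N97421 (tt N60490 (iv1 F416827)) (tt N60498 (iv0 F416826)) (tt N60496 F416823) (tt N107751 (iv3 F459553)) (tt N78557 F416824) (tt N102375 (iv5 F436969)) (tt N60406 (iv6 D200517)) (tt N60495 (iv7 F416825)))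
theorem Q97423 : ∀ i, i < 97423 → P i := stepQ 97422 Q97422 (allL N97422 (tt N96974 F416831) (tt N96976 F416833) (tt N109848 (iv2 F468891)) (tt N60407 (iv3 D200518)) (tt N81212 F416830) (tt N102158 (iv5 F435965)) (tt N81211 (iv6 F416832)) (tt N101735 (iv7 F434096)))
theorem Q97424 : ∀ i, i < 97424 → P i := stepQ 97423 Q97423 (allL N97423 (tt N95816 F416835) (tt N100689 F430030) (tt N102022 (iv2 F435389)) (tt N81211 F416834) (tt N115121 (iv4 F493595)) (tt N102292 (iv5 F436591)) (tt N60407 (iv6 D200519)) (tt N111595 (iv7 F477079)))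
theorem Q97425 : ∀ i, i < 97425 → P i := stepQ 97424 Q97424 (allL N97424 (tt N65723 F416841) (tt N65719 F416840) (tt N60409 F416836) (tt N65776 F416837) (tt N102166 (iv4 F436003)) (tt N60408 (iv5 D200520)) (tt N65774 F416838) (tt N65790 F416839))
theorem Q97426 : ∀ i, i < 97426 → P i := stepQ 97425 Q97425 (allL N97425 (tt N65790 (iv1 F416844)) (tt N60409 (iv0 D200521)) (tt N65723 (iv2 F416845)) (tt N119121 (iv3 F513895)) (tt N102201 F436155) (tt N60414 F416843) (tt N119380 D222639) (tt N65719 (iv7 F416846)))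
theorem Q97427 : ∀ i, i < 97427 → P i := stepQ 97426 Q97426 (allL N97426 (tt N60409 (iv1 D200522)) (tt N65790 F416847) (tt N65719 (iv2 F416849)) (tt N119381 D222640) (tt N119382 D222641) (tt N60415 (iv5 F416850)) (tt N119382 F515338) (tt N65723 F416848))
theorem Q97428 : ∀ i, i < 97428 → P i := stepQ 97427 Q97427 (allL N97427 (tt N102012 F435340) (tt N102237 F436305) (tt N102166 (iv2 F436002)) (tt N101968 (iv3 F435132)) (tt N60409 (iv4 D200523)) (tt N82788 F416852) (tt N94789 (iv6 F416853)) (tt N65791 F416851))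
theorem Q97429 : ∀ i, i < 97429 → P i := stepQ 97428 Q97428 (allL N97428 (tt N119121 (iv1 F513899)) (tt N102205 (iv0 F436175)) (tt N65774 F416854) (tt N60411 F416855) (tt N94789 F416856) (tt N106819 (iv5 F455821)) (tt N60409 (iv6 D200524)) (tt N102169 (iv7 F436014)))
theorem Q97430 : ∀ i, i < 97430 → P i := stepQ 97429 Q97429 (allL N97429 (tt N75453 (iv1 F416860)) (tt N60410 (iv0 D200525)) (tt N80191 (iv2 F416859)) (tt N82548 (iv3 F416868)) (tt N80190 F416857) (tt N111831 (iv5 F478195)) (tt N79541 F416858) (tt N60484 F416861))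
theorem Q97431 : ∀ i, i < 97431 → P i := stepQ 97430 Q97430 (allL N97430 (tt N82548 (iv1 F416867)) (tt N80748 (iv0 F416866)) (tt N82550 F416862) (tt N60412 F416863) (tt N75507 F416865) (tt N60410 (iv5 D200526)) (tt N106819 (iv6 F455822)) (tt N82549 F416864))
theorem Q97432 : ∀ i, i < 97432 → P i := stepQ 97431 Q97431 (allL N97431 (tt N65771 (iv1 F416874)) (tt N60411 (iv0 D200527)) (tt N65797 (iv2 F416873)) (tt N103310 (iv3 F441086)) (tt N94794 F416869) (tt N65754 F416870) (tt N103309 (iv6 F441081)) (tt N65798 (iv7 F416876)))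
theorem Q97433 : ∀ i, i < 97433 → P i := stepQ 97432 Q97432 (allL N97432 (tt N60411 (iv1 D200528)) (tt N65771 F416880) (tt N65798 (iv2 F416884)) (tt N65739 F416885) (tt N94795 F416883) (tt N65738 F416882) (tt N102207 F436187) (tt N65797 F416881))
theorem Q97434 : ∀ i, i < 97434 → P i := stepQ 97433 Q97433 (allL N97433 (tt N65798 (iv1 F416889)) (tt N65797 F416890) (tt N65771 F416886) (tt N102169 (iv3 F436013)) (tt N101971 (iv4 F435150)) (tt N96746 F416887) (tt N65796 F416888) (tt N60411 (iv7 D200529)))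
theorem Q97435 : ∀ i, i < 97435 → P i := stepQ 97434 Q97434 (allL N97434 (tt N82495 (iv1 F416894)) (tt N65527 F416895) (tt N101889 (iv2 F434836)) (tt N60415 (iv3 D200530)) (tt N81828 F416891) (tt N119381 (iv5 F515327)) (tt N67332 (iv6 F416893)) (tt N65721 F416892))
theorem Q97436 : ∀ i, i < 97436 → P i := stepQ 97435 Q97435 (allL N97435 (tt N60691 (iv1 F416902)) (tt N67983 (iv0 F416901)) (tt N65720 F416896) (tt N67332 F416897) (tt N75845 F416898) (tt N69794 F416900) (tt N60415 (iv6 D200531)) (tt N60557 F416899))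
theorem Q97437 : ∀ i, i < 97437 → P i := stepQ 97436 Q97436 (allL N97436 (tt N65726 F416906) (tt N65725 F416907) (tt N60417 F416903) (tt N65741 F416904) (tt N118048 (iv4 F508284)) (tt N60416 (iv5 D200532)) (tt N102190 (iv6 F436104)) (tt N65724 F416905))
theorem Q97438 : ∀ i, i < 97438 → P i := stepQ 97437 Q97437 (allL N97437 (tt N65724 (iv1 F416909)) (tt N60417 (iv0 D200533)) (tt N65726 (iv2 F416911)) (tt N65896 F416908) (tt N113043 (iv4 F483693)) (tt N65551 F416910) (tt N65892 (iv6 F416913)) (tt N65725 (iv7 F416912)))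
theorem Q97439 : ∀ i, i < 97439 → P i := stepQ 97438 Q97438 (allL N97438 (tt N60417 (iv1 D200534)) (tt N65724 F416914) (tt N65725 (iv2 F416917)) (tt N119383 D222642) (tt N65903 (iv4 F416918)) (tt N65552 F416916) (tt N65902 F416919) (tt N65726 F416915))
theorem Q97440 : ∀ i, i < 97440 → P i := stepQ 97439 Q97439 (allL N97439 (tt N119384 D222643) (tt N102829 F438837) (tt N102190 (iv2 F436103)) (tt N60419 F416920) (tt N104420 (iv4 F445680)) (tt N102843 F438900) (tt N60417 (iv6 D200535)) (tt N118049 (iv7 F508293)))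
theorem Q97441 : ∀ i, i < 97441 → P i := stepQ 97440 Q97440 (allL N97440 (tt N100687 F430021) (tt N60418 (iv0 D200536)) (tt N100682 (iv2 F429986)) (tt N86953 F416921) (tt N100681 (iv4 F429985)) (tt N104597 (iv5 F446463)) (tt N111840 F478245) (tt N102337 (iv7 F436791)))
theorem Q97442 : ∀ i, i < 97442 → P i := stepQ 97441 Q97441 (allL N97441 (tt N60430 F416924) (tt N60429 F416925) (tt N60433 F416922) (tt N101978 F435189) (tt N119385 D222644) (tt N60421 (iv5 D200537)) (tt N106745 F455517) (tt N60428 F416923))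
theorem Q97443 : ∀ i, i < 97443 → P i := stepQ 97442 Q97442 (allL N97442 (tt N65576 F416928) (tt N102126 F435866) (tt N60423 F416926) (tt N102117 (iv3 F435818)) (tt N119386 D222645) (tt N60422 (iv5 D200538)) (tt N102158 (iv6 F435966)) (tt N60426 F416927))
theorem Q97444 : ∀ i, i < 97444 → P i := stepQ 97443 Q97443 (allL N97443 (tt N60426 (iv1 F416931)) (tt N60423 (iv0 D200539)) (tt N65576 (iv2 F416930)) (tt N102121 (iv3 F435838)) (tt N117427 (iv4 F504985)) (tt N65575 F416929) (tt N116215 (iv6 F499060)) (tt N102126 (iv7 F435864)))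
theorem Q97445 : ∀ i, i < 97445 → P i := stepQ 97444 Q97444 (allL N97444 (tt N115197 (iv1 F493978)) (tt N119387 D222646) (tt N119386 (iv2 F515355)) (tt N119388 D222647) (tt N60423 (iv4 D200540)) (tt N119389 D222648) (tt N119387 (iv6 F515369)) (tt N102296 (iv7 F436606)))
theorem Q97446 : ∀ i, i < 97446 → P i := stepQ 97445 Q97445 (allL N97445 (tt N101994 F435274) (tt N102128 (iv0 F436115)) (tt N102158 F435967) (tt N102192 (iv3 F436113)) (tt N119387 (iv4 F515365)) (tt N109848 (iv5 F468894)) (tt N60423 (iv6 D200541)) (tt N119390 D222649))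
theorem Q97447 : ∀ i, i < 97447 → P i := stepQ 97446 Q97446 (allL N97446 (tt N94840 F416934) (tt N94850 (iv0 F416935)) (tt N95224 F416932) (tt N60426 F416933) (tt N102192 (iv4 F436111)) (tt N60424 (iv5 D200542)) (tt N102290 (iv6 F436578)) (tt N102117 (iv7 F435820)))
theorem Q97448 : ∀ i, i < 97448 → P i := stepQ 97447 Q97447 (allL N97447 (tt N119387 (iv1 F515363)) (tt N115197 (iv0 F493977)) (tt N102296 (iv2 F436605)) (tt N119387 F515368) (tt N60426 (iv4 D200543)) (tt N115256 F494238) (tt N119388 (iv6 F515371)) (tt N119386 (iv7 F515357)))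
theorem Q97449 : ∀ i, i < 97449 → P i := stepQ 97448 Q97448 (allL N97448 (tt N93024 F416945) (tt N91110 (iv0 F416944)) (tt N102297 (iv2 F436607)) (tt N102290 (iv3 F436581)) (tt N119388 (iv4 F515370)) (tt N60656 F416943) (tt N60426 (iv6 D200544)) (tt N102298 (iv7 F436612)))
theorem Q97450 : ∀ i, i < 97450 → P i := stepQ 97449 Q97449 (allL N97449 (tt N78403 F416940) (tt N78402 F416941) (tt N65426 F416936) (tt N82780 F416937) (tt N71638 F416938) (tt N60427 (iv5 D200545)) (tt N60656 (iv6 F416942)) (tt N78401 F416939))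
theorem Q97451 : ∀ i, i < 97451 → P i := stepQ 97450 Q97450 (allL N97450 (tt N60433 (iv1 F416947)) (tt N60428 (iv0 D200546)) (tt N60429 (iv2 F416948)) (tt N118707 (iv3 F511655)) (tt N119391 D222650) (tt N96978 F416946) (tt N119392 D222651) (tt N60430 (iv7 F416949)))
theorem Q97452 : ∀ i, i < 97452 → P i := stepQ 97451 Q97451 (allL N97451 (tt N60428 (iv1 D200547)) (tt N60433 F416950) (tt N60430 (iv2 F416953)) (tt N82349 (iv3 F416954)) (tt N115318 (iv4 F494564)) (tt N81447 F416952) (tt N60430 (iv6 F416955)) (tt N60429 F416951))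
theorem Q97453 : ∀ i, i < 97453 → P i := stepQ 97452 Q97452 (allL N97452 (tt N119393 D222652) (tt N91239 F465964) (tt N60431 F416956) (tt N119394 D222653) (tt N60428 (iv4 D200548)) (tt N119395 D222654) (tt N119396 D222655) (tt N119385 (iv7 F515352)))
theorem Q97454 : ∀ i, i < 97454 → P i := stepQ 97453 Q97453 (allL N97453 (tt N106891 (iv1 F456158)) (tt N102203 (iv0 F436160)) (tt N60432 F416957) (tt N102105 (iv3 F435747)) (tt N119396 (iv4 F515403)) (tt N60649 F416958) (tt N60428 (iv6 D200549)) (tt N119397 D222656))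
theorem Q97455 : ∀ i, i < 97455 → P i := stepQ 97454 Q97454 (allL N97454 (tt N119398 D222657) (tt N119399 D222658) (tt N119391 (iv2 F515386)) (tt N119400 D222659) (tt N60429 (iv4 D200550)) (tt N115319 (iv5 F494569)) (tt N119401 D222660) (tt N115318 F494565))
theorem Q97456 : ∀ i, i < 97456 → P i := stepQ 97455 Q97455 (allL N97455 (tt N102074 F435968) (tt N102074 (iv0 F515385)) (tt N119392 (iv2 F515389)) (tt N102420 (iv3 F437158)) (tt N119401 (iv4 F515425)) (tt N111656 (iv5 F477331)) (tt N60429 (iv6 D200551)) (tt N119392 (iv7 F515391)))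
theorem Q97457 : ∀ i, i < 97457 → P i := stepQ 97456 Q97456 (allL N97456 (tt N102291 (iv1 F436587)) (tt N65592 (iv0 F416962)) (tt N102415 (iv2 F437138)) (tt N60430 (iv3 D200552)) (tt N102205 (iv4 F436170)) (tt N82348 F416959) (tt N82349 F416960) (tt N118707 (iv7 F511658)))
theorem Q97458 : ∀ i, i < 97458 → P i := stepQ 97457 Q97457 (allL N97457 (tt N119399 (iv1 F515417)) (tt N119398 F515416) (tt N115318 (iv2 F494562)) (tt N119402 D222661) (tt N60430 (iv4 D200553)) (tt N86554 F416963) (tt N115318 (iv6 F494563)) (tt N119391 (iv7 F515388)))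
theorem Q97459 : ∀ i, i < 97459 → P i := stepQ 97458 Q97458 (allL N97458 (tt N119385 (iv1 F515354)) (tt N60431 (iv0 D200554)) (tt N119393 F515394) (tt N119396 (iv3 F515405)) (tt N118992 (iv4 F513162)) (tt N91240 F494466) (tt N119394 F515406) (tt N91239 (iv7 F494467)))
theorem Q97460 : ∀ i, i < 97460 → P i := stepQ 97459 Q97459 (allL N97459 (tt N60431 (iv1 D200555)) (tt N119385 (iv0 F515353)) (tt N91239 (iv2 F436263)) (tt N119403 D222662) (tt N102224 (iv4 F436261)) (tt N91230 F436262) (tt N91239 (iv6 F436264)) (tt N119393 (iv7 F515396)))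
theorem Q97461 : ∀ i, i < 97461 → P i := stepQ 97460 Q97460 (allL N97460 (tt N91239 F465963) (tt N119393 F515395) (tt N119385 (iv2 F515350)) (tt N60431 (iv3 D200556)) (tt N60433 F416964) (tt N109244 (iv5 F465962)) (tt N119404 D222663) (tt N60431 (iv7 F416965)))
theorem Q97462 : ∀ i, i < 97462 → P i := stepQ 97461 Q97461 (allL N97461 (tt N117353 (iv1 F504629)) (tt N119405 D222664) (tt N119395 (iv2 F515397)) (tt N109244 (iv3 F465959)) (tt N108789 (iv4 F463946)) (tt N60431 (iv5 D200557)) (tt N115300 (iv6 F494463)) (tt N109244 (iv7 F465961)))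
theorem Q97463 : ∀ i, i < 97463 → P i := stepQ 97462 Q97462 (allL N97462 (tt N119403 F515436) (tt N119404 F515441) (tt N119396 (iv2 F515402)) (tt N119404 (iv3 F515437)) (tt N60432 F416966) (tt N119406 D222665) (tt N60431 (iv6 D200558)) (tt N119407 D222666))
theorem Q97464 : ∀ i, i < 97464 → P i := stepQ 97463 Q97463 (allL N97463 (tt N119397 (iv1 F515414)) (tt N60432 (iv0 D200559)) (tt N106891 (iv2 F456154)) (tt N102195 F436130) (tt N119400 (iv4 F515421)) (tt N71625 F416967) (tt N106013 F455486) (tt N102203 (iv7 F436159)))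
theorem Q97465 : ∀ i, i < 97465 → P i := stepQ 97464 Q97464 (allL N97464 (tt N60432 (iv1 D200560)) (tt N119397 F515413) (tt N102203 F436163) (tt N119382 (iv3 F515337)) (tt N119408 D222667) (tt N71630 (iv5 F416968)) (tt N119381 F515331) (tt N106891 (iv7 F456156)))
theorem Q97466 : ∀ i, i < 97466 → P i := stepQ 97465 Q97465 (allL N97465 (tt N102203 F436161) (tt N106891 (iv0 F456157)) (tt N119397 (iv2 F515408)) (tt N60438 F416969) (tt N119407 (iv4 F515456)) (tt N60658 F416970) (tt N106744 (iv6 F455514)) (tt N60432 (iv7 D200561)))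
theorem Q97467 : ∀ i, i < 97467 → P i := stepQ 97466 Q97466 (allL N97466 (tt N106740 (iv1 F455495)) (tt N106013 (iv0 F452739)) (tt N106745 (iv2 F455518)) (tt N60435 F416971) (tt N119404 (iv4 F515438)) (tt N71846 F416983) (tt N60433 (iv6 D200562)) (tt N106744 F455512))
theorem Q97468 : ∀ i, i < 97468 → P i := stepQ 97467 Q97467 (allL N97467 (tt N60623 (iv1 F416977)) (tt N60434 (iv0 D200563)) (tt N60660 (iv2 F416976)) (tt N65910 F416974) (tt N78585 F416972) (tt N67439 F416973) (tt N79742 F416975) (tt N60659 F416978))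
theorem Q97469 : ∀ i, i < 97469 → P i := stepQ 97468 Q97468 (allL N97468 (tt N105931 F452403) (tt N103306 (iv0 F441068)) (tt N103290 (iv2 F441005)) (tt N60439 F416979) (tt N85429 F416981) (tt N60434 (iv5 D200564)) (tt N71846 (iv6 F416982)) (tt N60661 F416980))
theorem Q97470 : ∀ i, i < 97470 → P i := stepQ 97469 Q97469 (allL N97469 (tt N102071 (iv1 F435598)) (tt N60435 (iv0 D200565)) (tt N65540 (iv2 F416985)) (tt N65770 (iv3 F416986)) (tt N65541 F416989) (tt N92695 (iv5 F416987)) (tt N65536 F416984) (tt N65811 (iv7 F416988)))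
theorem Q97471 : ∀ i, i < 97471 → P i := stepQ 97470 Q97470 (allL N97470 (tt N60435 (iv1 D200566)) (tt N102071 F435597) (tt N65811 F416993) (tt N65543 F416994) (tt N65542 F416991) (tt N92706 F416995) (tt N68668 (iv6 F416992)) (tt N65540 F416990))
theorem Q97472 : ∀ i, i < 97472 → P i := stepQ 97471 Q97471 (allL N97471 (tt N119409 D222668) (tt N119410 D222669) (tt N102070 (iv2 F435588)) (tt N71846 F416996) (tt N119411 D222670) (tt N60435 (iv5 D200567)) (tt N60439 F416997) (tt N117361 (iv7 F504667)))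
theorem Q97473 : ∀ i, i < 97473 → P i := stepQ 97472 Q97472 (allL N97472 (tt N65811 (iv1 F417000)) (tt N65540 F417001) (tt N102071 (iv2 F435592)) (tt N106744 (iv3 F455513)) (tt N60438 F416998) (tt N117361 (iv5 F504666)) (tt N60438 F416999) (tt N60435 (iv7 D200568)))
theorem Q97474 : ∀ i, i < 97474 → P i := stepQ 97473 Q97473 (allL N97473 (tt N102199 F436149) (tt N102057 (iv0 F435545)) (tt N102216 (iv2 F436232)) (tt N60436 (iv3 D200569)) (tt N102214 (iv4 F436224)) (tt N102826 (iv5 F438822)) (tt N102213 F436221) (tt N117688 (iv7 F506426)))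
theorem Q97475 : ∀ i, i < 97475 → P i := stepQ 97474 Q97474 (allL N97474 (tt N68663 (iv1 F417005)) (tt N68658 (iv0 F417004)) (tt N68660 F417002) (tt N102826 F438823) (tt N104166 (iv4 F444508)) (tt N60436 (iv5 D200570)) (tt N103333 (iv6 F441178)) (tt N68661 F417003))
theorem Q97476 : ∀ i, i < 97476 → P i := stepQ 97475 Q97475 (allL N97475 (tt N102069 F435587) (tt N102225 (iv0 F436268)) (tt N117687 (iv2 F506417)) (tt N102213 (iv3 F436217)) (tt N102056 (iv4 F435542)) (tt N113045 (iv5 F483703)) (tt N60436 (iv6 D200571)) (tt N119412 D222671))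
theorem Q97477 : ∀ i, i < 97477 → P i := stepQ 97476 Q97476 (allL N97476 (tt N102098 F435715) (tt N65539 (iv0 F417006)) (tt N102207 (iv2 F436188)) (tt N60437 (iv3 D200572)) (tt N102222 (iv4 F436247)) (tt N103331 (iv5 F441169)) (tt N65798 (iv6 F417010)) (tt N102206 F436183))
theorem Q97478 : ∀ i, i < 97478 → P i := stepQ 97477 Q97477 (allL N97477 (tt N102226 F436272) (tt N102073 F435607) (tt N117689 (iv2 F506429)) (tt N65798 F417009) (tt N68672 F417007) (tt N96076 F417008) (tt N60437 (iv6 D200573)) (tt N103310 (iv7 F441087)))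
theorem Q97479 : ∀ i, i < 97479 → P i := stepQ 97478 Q97478 (allL N97478 (tt N102394 (iv1 F437044)) (tt N102392 (iv0 F437032)) (tt N97755 (iv2 F418179)) (tt N70565 F417013) (tt N60439 (iv4 D200574)) (tt N92112 F417012) (tt N119411 (iv6 F515477)) (tt N60687 F417011))
theorem Q97480 : ∀ i, i < 97480 → P i := stepQ 97479 Q97479 (allL N97479 (tt N86941 F417021) (tt N60701 F417022) (tt N65899 F417018) (tt N60440 (iv3 D200575)) (tt N97495 (iv4 F417100)) (tt N60650 F417019) (tt N118711 (iv6 F511685)) (tt N93623 F417020))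
theorem Q97481 : ∀ i, i < 97481 → P i := stepQ 97480 Q97480 (allL N97480 (tt N60510 F417027) (tt N65128 (iv0 F417028)) (tt N65131 F417023) (tt N118711 (iv3 F511684)) (tt N65152 F417024) (tt N90413 F417025) (tt N60440 (iv6 D200576)) (tt N65129 F417026))
theorem Q97482 : ∀ i, i < 97482 → P i := stepQ 97481 Q97481 (allL N97481 (tt N101981 (iv1 F435208)) (tt N60442 (iv0 D200577)) (tt N67389 (iv2 F417031)) (tt N100796 F430505) (tt N91880 F417030) (tt N94448 F417029) (tt N67382 F417032) (tt N97751 (iv7 F418162)))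
theorem Q97483 : ∀ i, i < 97483 → P i := stepQ 97482 Q97482 (allL N97482 (tt N60442 (iv1 D200578)) (tt N101981 (iv0 F435207)) (tt N97751 (iv2 F418158)) (tt N67399 (iv3 F417034)) (tt N87724 F417036) (tt N65831 (iv5 F417035)) (tt N87723 (iv6 F417037)) (tt N67389 F417033))
theorem Q97484 : ∀ i, i < 97484 → P i := stepQ 97483 Q97483 (allL N97483 (tt N101722 F434038) (tt N111569 F476966) (tt N102107 (iv2 F435759)) (tt N87028 F417038) (tt N60442 (iv4 D200579)) (tt N108527 (iv5 F462952)) (tt N79259 F417039) (tt N91862 F417040))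
theorem Q97485 : ∀ i, i < 97485 → P i := stepQ 97484 Q97484 (allL N97484 (tt N94839 F417045) (tt N65584 (iv0 F417046)) (tt N67487 F417041) (tt N79689 F417042) (tt N60443 (iv4 D200580)) (tt N102222 F436249) (tt N67219 F417043) (tt N93973 F417044))
theorem Q97486 : ∀ i, i < 97486 → P i := stepQ 97485 Q97485 (allL N97485 (tt N87453 (iv1 F417050)) (tt N60450 (iv0 F417051)) (tt N115414 (iv2 F495072)) (tt N60444 (iv3 D200581)) (tt N95468 F417049) (tt N92697 F417047) (tt N104270 (iv6 F445045)) (tt N93975 F417048))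
theorem Q97487 : ∀ i, i < 97487 → P i := stepQ 97486 Q97486 (allL N97486 (tt N65584 (iv1 F417059)) (tt N94839 (iv0 F417056)) (tt N93973 F417053) (tt N65566 F417055) (tt N60444 (iv4 D200582)) (tt N65639 (iv5 F417057)) (tt N65642 (iv6 F417058)) (tt N67487 F417054))
theorem Q97488 : ∀ i, i < 97488 → P i := stepQ 97487 Q97487 (allL N97487 (tt N60503 (iv1 F417063)) (tt N97855 F418530) (tt N93974 F417060) (tt N104270 (iv3 F445044)) (tt N65642 F417061) (tt N66628 F417062) (tt N60444 (iv6 D200583)) (tt N97664 (iv7 F417839)))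
theorem Q97489 : ∀ i, i < 97489 → P i := stepQ 97488 Q97488 (allL N97488 (tt N116236 F499171) (tt N116234 (iv0 F499160)) (tt N116235 F499164) (tt N60448 F417064) (tt N103548 (iv4 F442003)) (tt N91981 F417065) (tt N60446 (iv6 D200584)) (tt N97752 (iv7 F418170)))
theorem Q97490 : ∀ i, i < 97490 → P i := stepQ 97489 Q97489 (allL N97489 (tt N60447 (iv1 D200585)) (tt N80499 F417066) (tt N105878 (iv2 F452141)) (tt N91302 (iv3 F417068)) (tt N97904 (iv4 F418734)) (tt N91302 F417067) (tt N93233 F417069) (tt N112382 (iv7 F480837)))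
theorem Q97491 : ∀ i, i < 97491 → P i := stepQ 97490 Q97490 (allL N97490 (tt N74383 (iv1 F417074)) (tt N74380 F417075) (tt N93987 F417070) (tt N97752 (iv3 F418169)) (tt N60808 F417071) (tt N86956 F417072) (tt N93979 F417073) (tt N60448 (iv7 D200586)))
theorem Q97492 : ∀ i, i < 97492 → P i := stepQ 97491 Q97491 (allL N97491 (tt N60450 (iv1 D200587)) (tt N87453 (iv0 F417081)) (tt N93975 F417079) (tt N88771 (iv3 F417078)) (tt N95464 F417077) (tt N88768 F417080) (tt N111072 (iv6 F474532)) (tt N115414 (iv7 F495075)))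
theorem Q97493 : ∀ i, i < 97493 → P i := stepQ 97492 Q97492 (allL N97492 (tt N115414 (iv1 F495077)) (tt N93975 F417085) (tt N60450 (iv2 D200588)) (tt N93226 F417082) (tt N71723 F417083) (tt N93225 (iv5 F417086)) (tt N117671 (iv6 F506335)) (tt N87453 F417084))
theorem Q97494 : ∀ i, i < 97494 → P i := stepQ 97493 Q97493 (allL N97493 (tt N102905 (iv1 F439206)) (tt N93102 (iv0 F417092)) (tt N93225 F417088) (tt N60452 F417089) (tt N75089 F417093) (tt N60450 (iv5 D200589)) (tt N93224 F417091) (tt N87915 F417090))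
theorem Q97495 : ∀ i, i < 97495 → P i := stepQ 97494 Q97494 (allL N97494 (tt N97616 F417613) (tt N102136 (iv0 F439207)) (tt N117671 (iv2 F506331)) (tt N60453 F417095) (tt N71711 F417096) (tt N117634 (iv5 F506117)) (tt N60450 (iv6 D200590)) (tt N117670 (iv7 F506330)))
theorem Q97496 : ∀ i, i < 97496 → P i := stepQ 97495 Q97495 (allL N97495 (tt N60455 (iv1 F417102)) (tt N60451 (iv0 D200591)) (tt N96414 (iv2 F417101)) (tt N97075 (iv3 F417103)) (tt N97479 F417100) (tt N96675 F417099) (tt N101509 (iv6 F433204)) (tt N107898 (iv7 F460176)))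
theorem Q97497 : ∀ i, i < 97497 → P i := stepQ 97496 Q97496 (allL N97496 (tt N95460 F417105) (tt N95457 F417106) (tt N107896 (iv2 F460161)) (tt N60451 (iv3 D200592)) (tt N71715 F417104) (tt N119133 (iv5 F513965)) (tt N71714 (iv6 F417107)) (tt N116028 (iv7 F498128)))
theorem Q97498 : ∀ i, i < 97498 → P i := stepQ 97497 Q97497 (allL N97497 (tt N107244 F457621) (tt N79169 (iv0 F417111)) (tt N117690 (iv2 F506435)) (tt N71714 F417108) (tt N60453 F417109) (tt N91614 (iv5 F417110)) (tt N60451 (iv6 D200593)) (tt N111933 (iv7 F478741)))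
theorem Q97499 : ∀ i, i < 97499 → P i := stepQ 97498 Q97498 (allL N97498 (tt N64087 F417116) (tt N79543 F417115) (tt N67472 F417112) (tt N117634 (iv3 F506116)) (tt N81782 F417114) (tt N60453 (iv5 D200594)) (tt N67470 F417113) (tt N79542 (iv7 F417117)))
theorem Q97500 : ∀ i, i < 97500 → P i := stepQ 97499 Q97499 (allL N97499 (tt N81791 (iv1 F417121)) (tt N93619 F417122) (tt N108957 (iv2 F464662)) (tt N117670 (iv3 F506327)) (tt N111933 (iv4 F478739)) (tt N79542 F417119) (tt N82551 F417120) (tt N60453 (iv7 D200595)))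
theorem Q97501 : ∀ i, i < 97501 → P i := stepQ 97500 Q97500 (allL N97500 (tt N95375 F417126) (tt N87728 F417127) (tt N87459 F417123) (tt N107894 (iv3 F460151)) (tt N60454 (iv4 D200596)) (tt N93663 F417124) (tt N91307 F417125) (tt N103328 (iv7 F441157)))
theorem Q97502 : ∀ i, i < 97502 → P i := stepQ 97501 Q97501 (allL N97501 (tt N67419 F417130) (tt N67412 F417167) (tt N60461 F417128) (tt N102376 (iv3 F436972)) (tt N71899 F417129) (tt N104308 (iv5 F445165)) (tt N60456 (iv6 D200597)) (tt N67417 (iv7 F417131)))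
theorem Q97503 : ∀ i, i < 97503 → P i := stepQ 97502 Q97502 (allL N97502 (tt N60457 (iv1 D200598)) (tt N60465 F417133) (tt N60463 (iv2 F417136)) (tt N103340 (iv3 F441196)) (tt N78428 F417135) (tt N102178 F436056) (tt N103338 F441194) (tt N60462 F417134))
theorem Q97504 : ∀ i, i < 97504 → P i := stepQ 97503 Q97503 (allL N97503 (tt N93986 F417138) (tt N115754 (iv0 F496681)) (tt N60464 F417137) (tt N104598 (iv3 F446469)) (tt N104308 (iv4 F445164)) (tt N60457 (iv5 D200599)) (tt N104308 (iv6 F445166)) (tt N119413 D222672))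
theorem Q97505 : ∀ i, i < 97505 → P i := stepQ 97504 Q97504 (allL N97504 (tt N60463 (iv1 F417141)) (tt N60462 F417142) (tt N60465 F417139) (tt N100671 (iv3 F429943)) (tt N96460 F417140) (tt N119413 (iv5 F515487)) (tt N117691 (iv6 F506445)) (tt N60457 (iv7 D200600)))
theorem Q97506 : ∀ i, i < 97506 → P i := stepQ 97505 Q97505 (allL N97505 (tt N92697 (iv1 F417146)) (tt N88768 (iv0 F417147)) (tt N104427 (iv2 F445708)) (tt N60458 (iv3 D200601)) (tt N97730 (iv4 F418097)) (tt N60516 F417145) (tt N103332 (iv6 F441173)) (tt N102345 (iv7 F436830)))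
theorem Q97507 : ∀ i, i < 97507 → P i := stepQ 97506 Q97506 (allL N97506 (tt N73824 F417149) (tt N71637 F417150) (tt N102349 (iv2 F436845)) (tt N71424 F417151) (tt N60458 (iv4 D200602)) (tt N71422 F417148) (tt N105535 (iv6 F450621)) (tt N102346 (iv7 F436832)))
theorem Q97508 : ∀ i, i < 97508 → P i := stepQ 97507 Q97507 (allL N97507 (tt N67410 F417156) (tt N60965 (iv0 F417157)) (tt N67498 F417155) (tt N103332 (iv3 F441172)) (tt N105535 (iv4 F450620)) (tt N103129 (iv5 F440203)) (tt N60458 (iv6 D200603)) (tt N104389 (iv7 F445546)))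
theorem Q97509 : ∀ i, i < 97509 → P i := stepQ 97508 Q97508 (allL N97508 (tt N72097 F417162) (tt N69965 (iv0 F417163)) (tt N71899 F417158) (tt N60928 F417159) (tt N60461 F417160) (tt N113237 (iv5 F484654)) (tt N60460 (iv6 D200604)) (tt N72096 F417161))
theorem Q97510 : ∀ i, i < 97510 → P i := stepQ 97509 Q97509 (allL N97509 (tt N67417 (iv1 F417168)) (tt N60461 (iv0 D200605)) (tt N67419 (iv2 F417165)) (tt N88766 (iv3 F417170)) (tt N92027 F417164) (tt N103270 (iv5 F440903)) (tt N92025 (iv6 F417169)) (tt N67412 F417166))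
theorem Q97511 : ∀ i, i < 97511 → P i := stepQ 97510 Q97510 (allL N97510 (tt N67412 (iv1 F417176)) (tt N67419 F417177) (tt N67417 F417171) (tt N60467 F417172) (tt N72096 F417173) (tt N93016 F417174) (tt N82977 F417175) (tt N60461 (iv7 D200606)))
theorem Q97512 : ∀ i, i < 97512 → P i := stepQ 97511 Q97511 (allL N97511 (tt N111073 (iv1 F474538)) (tt N111072 (iv0 F474533)) (tt N115776 (iv2 F496807)) (tt N60462 (iv3 D200607)) (tt N91187 F417178) (tt N106147 F453348) (tt N118698 (iv6 F511607)) (tt N103340 F441197))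
theorem Q97513 : ∀ i, i < 97513 → P i := stepQ 97512 Q97512 (allL N97512 (tt N119413 (iv1 F515489)) (tt N60464 (iv0 D200609)) (tt N93986 (iv2 F417184)) (tt N116235 (iv3 F499162)) (tt N87663 F417181) (tt N65745 F417180) (tt N65983 F417183) (tt N115754 (iv7 F496680)))
theorem Q97514 : ∀ i, i < 97514 → P i := stepQ 97513 Q97513 (allL N97513 (tt N60464 (iv1 D200610)) (tt N119413 F515488) (tt N115754 (iv2 F496677)) (tt N93987 (iv3 F417199)) (tt N87664 (iv4 F417200)) (tt N65746 F417202) (tt N67240 (iv6 F417201)) (tt N93986 F417198))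
theorem Q97515 : ∀ i, i < 97515 → P i := stepQ 97514 Q97514 (allL N97514 (tt N115754 (iv1 F496682)) (tt N93986 (iv0 F417206)) (tt N119413 (iv2 F515484)) (tt N60470 F417203) (tt N93016 F417204) (tt N60465 F417205) (tt N119414 D222673) (tt N60464 (iv7 D200611)))
theorem Q97516 : ∀ i, i < 97516 → P i := stepQ 97515 Q97515 (allL N97515 (tt N84019 F417208) (tt N88745 F417210) (tt N88743 F417211) (tt N60466 (iv3 D200612)) (tt N103762 (iv4 F442722)) (tt N103264 (iv5 F440867)) (tt N60683 (iv6 F417209)) (tt N88744 F417207))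
theorem Q97517 : ∀ i, i < 97517 → P i := stepQ 97516 Q97516 (allL N97516 (tt N67404 F417216) (tt N60957 (iv0 F417217)) (tt N67207 F417212) (tt N60683 F417213) (tt N66624 F417214) (tt N60682 F417215) (tt N60466 (iv6 D200613)) (tt N102250 (iv7 F436366)))
theorem Q97518 : ∀ i, i < 97518 → P i := stepQ 97517 Q97517 (allL N97517 (tt N93222 F417221) (tt N93221 F417222) (tt N67284 F417218) (tt N119414 (iv3 F515490)) (tt N60716 F417219) (tt N103475 (iv5 F441787)) (tt N60470 (iv6 D200614)) (tt N93017 F417220))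
theorem Q97519 : ∀ i, i < 97519 → P i := stepQ 97518 Q97518 (allL N97518 (tt N82385 (iv1 F417225)) (tt N60471 (iv0 D200615)) (tt N111817 (iv2 F478132)) (tt N67481 F417223) (tt N91812 (iv4 F418166)) (tt N74376 F417224) (tt N91521 F418165) (tt N102884 (iv7 F439094)))
theorem Q97520 : ∀ i, i < 97520 → P i := stepQ 97519 Q97519 (allL N97519 (tt N115400 F495005) (tt N118316 (iv0 F509669)) (tt N115798 (iv2 F496943)) (tt N60472 (iv3 D200616)) (tt N69383 F417226) (tt N60713 F417227) (tt N98410 (iv6 F420851)) (tt N60712 F417228))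
theorem Q97521 : ∀ i, i < 97521 → P i := stepQ 97520 Q97520 (allL N97520 (tt N68848 F417232) (tt N68843 F417233) (tt N67282 F417229) (tt N98410 (iv3 F420850)) (tt N60473 F417230) (tt N98011 (iv5 F419162)) (tt N60472 (iv6 D200617)) (tt N92930 F417231))
theorem Q97522 : ∀ i, i < 97522 → P i := stepQ 97521 Q97521 (allL N97521 (tt N65824 F417236) (tt N65830 F417237) (tt N97748 (iv2 F418146)) (tt N103354 (iv3 F441246)) (tt N102580 (iv4 F437768)) (tt N60474 (iv5 D200618)) (tt N68724 F417235) (tt N97749 (iv7 F418150)))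
theorem Q97523 : ∀ i, i < 97523 → P i := stepQ 97522 Q97522 (allL N97522 (tt N74392 F417242) (tt N79794 F417241) (tt N60477 F417238) (tt N80875 F417239) (tt N105116 (iv4 F448871)) (tt N60476 (iv5 D200619)) (tt N80871 F417240) (tt N102949 (iv7 F439390)))
theorem Q97524 : ∀ i, i < 97524 → P i := stepQ 97523 Q97523 (allL N97523 (tt N80163 F417247) (tt N104789 F447287) (tt N80871 F417243) (tt N60479 F417244) (tt N84129 F417245) (tt N68454 F417246) (tt N60477 (iv6 D200620)) (tt N100148 (iv7 F427701)))
theorem Q97525 : ∀ i, i < 97525 → P i := stepQ 97524 Q97524 (allL N97524 (tt N60481 (iv1 D200621)) (tt N97758 (iv0 F418195)) (tt N95820 F417250) (tt N96817 (iv3 F417249)) (tt N94827 (iv4 F417248)) (tt N102370 (iv5 F436947)) (tt N112475 F481235) (tt N107740 (iv7 F459494)))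
theorem Q97526 : ∀ i, i < 97526 → P i := stepQ 97525 Q97525 (allL N97525 (tt N65988 F417253) (tt N67305 F417252) (tt N102855 (iv2 F438960)) (tt N60483 F417251) (tt N117697 (iv4 F506480)) (tt N60481 (iv5 D200622)) (tt N104597 (iv6 F446464)) (tt N97632 (iv7 F417697)))
theorem Q97527 : ∀ i, i < 97527 → P i := stepQ 97526 Q97526 (allL N97526 (tt N82550 F417257) (tt N82549 F417259) (tt N80748 F417254) (tt N60484 F417255) (tt N72992 F417256) (tt N111840 (iv5 F478243)) (tt N60481 (iv6 D200623)) (tt N82548 (iv7 F417260)))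
theorem Q97528 : ∀ i, i < 97528 → P i := stepQ 97527 Q97527 (allL N97527 (tt N60486 (iv1 F417264)) (tt N60482 (iv0 D200624)) (tt N96975 (iv2 F417263)) (tt N75596 F417262) (tt N97047 F417261) (tt N99584 (iv5 F425283)) (tt N80071 (iv6 F417265)) (tt N109598 (iv7 F467659)))
theorem Q97529 : ∀ i, i < 97529 → P i := stepQ 97528 Q97528 (allL N97528 (tt N80164 (iv1 F417271)) (tt N75330 (iv0 F417270)) (tt N80177 F417266) (tt N80179 F417267) (tt N60484 F417268) (tt N119415 D222674) (tt N60482 (iv6 D200625)) (tt N80190 F417269))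
theorem Q97530 : ∀ i, i < 97530 → P i := stepQ 97529 Q97529 (allL N97529 (tt N68181 F417274) (tt N105823 (iv0 F451892)) (tt N97634 (iv2 F417705)) (tt N85211 F417275) (tt N60483 (iv4 D200626)) (tt N85209 F417273) (tt N104840 (iv6 F447548)) (tt N70805 F417272))
theorem Q97531 : ∀ i, i < 97531 → P i := stepQ 97530 Q97530 (allL N97530 (tt N86945 F417339) (tt N111937 F478762) (tt N97635 (iv2 F417710)) (tt N104597 (iv3 F446468)) (tt N104840 F447547) (tt N86953 (iv5 F417276)) (tt N60483 (iv6 D200627)) (tt N111935 (iv7 F478750)))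
theorem Q97532 : ∀ i, i < 97532 → P i := stepQ 97531 Q97531 (allL N97531 (tt N86932 (iv1 F430532)) (tt N111832 F478205) (tt N111015 (iv2 F474261)) (tt N111840 (iv3 F478247)) (tt N108162 (iv4 F461353)) (tt N60484 (iv5 D200628)) (tt N86953 F417277) (tt N111831 (iv7 F478194)))
theorem Q97533 : ∀ i, i < 97533 → P i := stepQ 97532 Q97532 (allL N97532 (tt N93972 (iv1 F417281)) (tt N88771 F417280) (tt N60485 (iv2 D200629)) (tt N97758 (iv3 F418193)) (tt N80751 F417278) (tt N116208 (iv5 F499023)) (tt N81215 F417282) (tt N80749 F417279))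
theorem Q97534 : ∀ i, i < 97534 → P i := stepQ 97533 Q97533 (allL N97533 (tt N97389 F417285) (tt N97400 F417286) (tt N116208 (iv2 F499027)) (tt N60487 F417283) (tt N90415 F417284) (tt N60485 (iv5 D200630)) (tt N97719 F418055) (tt N97633 (iv7 F417701)))
theorem Q97535 : ∀ i, i < 97535 → P i := stepQ 97534 Q97534 (allL N97534 (tt N97702 (iv1 F417973)) (tt N97619 (iv0 F417628)) (tt N81215 F417287) (tt N60488 F417288) (tt N79514 F417289) (tt N79221 (iv5 F417291)) (tt N60485 (iv6 D200631)) (tt N80526 F417290))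
theorem Q97536 : ∀ i, i < 97536 → P i := stepQ 97535 Q97535 (allL N97535 (tt N105823 (iv1 F451893)) (tt N68181 F417294) (tt N70805 F417292) (tt N114440 (iv3 F490179)) (tt N60487 (iv4 D200632)) (tt N114902 F492438) (tt N68301 F417293) (tt N97634 (iv7 F417706)))
theorem Q97537 : ∀ i, i < 97537 → P i := stepQ 97536 Q97536 (allL N97536 (tt N92712 F417297) (tt N92768 F417298) (tt N60493 F417295) (tt N109091 F465292) (tt N60489 (iv4 D200633)) (tt N110346 (iv5 F471150)) (tt N114944 (iv6 F492685)) (tt N92769 F417296))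
theorem Q97538 : ∀ i, i < 97538 → P i := stepQ 97537 Q97537 (allL N97537 (tt N84969 F417303) (tt N83650 (iv0 F417302)) (tt N60494 F417300) (tt N82975 F417301) (tt N114944 (iv4 F492683)) (tt N115401 (iv5 F495008)) (tt N60489 (iv6 D200634)) (tt N104394 (iv7 F445576)))
theorem Q97539 : ∀ i, i < 97539 → P i := stepQ 97538 Q97538 (allL N97538 (tt N60498 (iv1 F417309)) (tt N60490 (iv0 D200635)) (tt N60495 (iv2 F417305)) (tt N88682 F417306) (tt N78559 F417304) (tt N88681 F417307) (tt N111595 F477080) (tt N60496 F417308))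
theorem Q97540 : ∀ i, i < 97540 → P i := stepQ 97539 Q97539 (allL N97539 (tt N97697 F435986) (tt N102414 F437136) (tt N60497 F417310) (tt N104276 F445071) (tt N119416 D222675) (tt N60490 (iv5 D200636)) (tt N115401 (iv6 F495009)) (tt N102412 (iv7 F437127)))
theorem Q97541 : ∀ i, i < 97541 → P i := stepQ 97540 Q97540 (allL N97540 (tt N60496 (iv1 F417313)) (tt N60495 F417314) (tt N60498 F417311) (tt N117691 (iv3 F506443)) (tt N80398 F417312) (tt N102412 (iv5 F437125)) (tt N100671 (iv6 F429944)) (tt N60490 (iv7 D200637)))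
theorem Q97542 : ∀ i, i < 97542 → P i := stepQ 97541 Q97541 (allL N97541 (tt N92775 F417318) (tt N102370 F436948) (tt N95177 F417315) (tt N60491 (iv3 D200638)) (tt N97724 F418075) (tt N60553 F417316) (tt N102842 (iv6 F438896)) (tt N95179 F417317))
theorem Q97543 : ∀ i, i < 97543 → P i := stepQ 97542 Q97542 (allL N97542 (tt N97970 F419024) (tt N109130 (iv0 F465474)) (tt N97929 (iv2 F418834)) (tt N83664 F417319) (tt N60491 (iv4 D200639)) (tt N98311 (iv5 F420452)) (tt N85060 (iv6 F417320)) (tt N102329 (iv7 F436757)))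
theorem Q97544 : ∀ i, i < 97544 → P i := stepQ 97543 Q97543 (allL N97543 (tt N92726 (iv1 F417325)) (tt N92708 (iv0 F417324)) (tt N92736 F417321) (tt N102842 (iv3 F438895)) (tt N85060 F417322) (tt N119380 (iv5 F515323)) (tt N60491 (iv6 D200640)) (tt N92737 (iv7 F417323)))
theorem Q97545 : ∀ i, i < 97545 → P i := stepQ 97544 Q97544 (allL N97544 (tt N88772 F417331) (tt N84020 F417330) (tt N88769 F417329) (tt N60492 (iv3 D200641)) (tt N82776 (iv4 F417328)) (tt N60555 F417326) (tt N103317 (iv6 F441116)) (tt N88770 F417327))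
theorem Q97546 : ∀ i, i < 97546 → P i := stepQ 97545 Q97545 (allL N97545 (tt N109130 F465473) (tt N97970 (iv0 F419023)) (tt N102329 (iv2 F436755)) (tt N91786 F417332) (tt N60492 (iv4 D200642)) (tt N113108 (iv5 F484002)) (tt N70821 (iv6 F417333)) (tt N97929 (iv7 F418837)))
theorem Q97547 : ∀ i, i < 97547 → P i := stepQ 97546 Q97546 (allL N97546 (tt N60955 F417337) (tt N92766 (iv0 F417338)) (tt N77304 F417334) (tt N103317 (iv3 F441115)) (tt N70821 F417335) (tt N64697 F417336) (tt N60492 (iv6 D200643)) (tt N105934 (iv7 F452416)))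
theorem Q97548 : ∀ i, i < 97548 → P i := stepQ 97547 Q97547 (allL N97547 (tt N60493 (iv1 D200644)) (tt N92769 F417340) (tt N92768 (iv2 F417342)) (tt N97897 (iv3 F418698)) (tt N102924 (iv4 F439287)) (tt N98227 (iv5 F420063)) (tt N92734 (iv6 F417343)) (tt N92712 F417341))
theorem Q97549 : ∀ i, i < 97549 → P i := stepQ 97548 Q97548 (allL N97548 (tt N110270 (iv1 F470754)) (tt N115342 (iv0 F494692)) (tt N110346 (iv2 F471149)) (tt N60910 F417344) (tt N100597 F429626) (tt N60493 (iv5 D200645)) (tt N98243 (iv6 F420116)) (tt N102377 (iv7 F436977)))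
theorem Q97550 : ∀ i, i < 97550 → P i := stepQ 97549 Q97549 (allL N97549 (tt N114452 (iv1 F490244)) (tt N114433 (iv0 F490137)) (tt N115401 (iv2 F495012)) (tt N60501 F417345) (tt N104358 F445417) (tt N60494 (iv5 D200646)) (tt N60497 F417346) (tt N115402 (iv7 F495014)))
theorem Q97551 : ∀ i, i < 97551 → P i := stepQ 97550 Q97550 (allL N97550 (tt N83650 (iv1 F417348)) (tt N84969 F417349) (tt N104394 F445574) (tt N60502 F417347) (tt N114945 (iv4 F492692)) (tt N115402 (iv5 F495015)) (tt N102380 (iv6 F436989)) (tt N60494 (iv7 D200647)))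
theorem Q97552 : ∀ i, i < 97552 → P i := stepQ 97551 Q97551 (allL N97551 (tt N93066 F417353) (tt N111683 (iv0 F477465)) (tt N102375 (iv2 F436967)) (tt N67335 F417350) (tt N102295 (iv4 F436602)) (tt N60496 (iv5 D200648)) (tt N92755 F417351) (tt N88681 F417352))
theorem Q97553 : ∀ i, i < 97553 → P i := stepQ 97552 Q97552 (allL N97552 (tt N103930 (iv1 F443418)) (tt N67243 (iv0 F417406)) (tt N119416 (iv2 F515503)) (tt N92179 F417355) (tt N60497 (iv4 D200650)) (tt N92845 (iv5 F417356)) (tt N104358 (iv6 F445416)) (tt N98023 (iv7 F419204)))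
theorem Q97554 : ∀ i, i < 97554 → P i := stepQ 97553 Q97553 (allL N97553 (tt N102414 (iv1 F437137)) (tt N97697 (iv0 F417947)) (tt N102412 F437126) (tt N60509 F417357) (tt N98023 F419205) (tt N60498 F417358) (tt N110315 F471002) (tt N60497 (iv7 D200651)))
theorem Q97555 : ∀ i, i < 97555 → P i := stepQ 97554 Q97554 (allL N97554 (tt N60966 (iv1 F417363)) (tt N70785 (iv0 F417364)) (tt N93059 F417359) (tt N71083 F417360) (tt N92122 F417361) (tt N100522 (iv5 F429310)) (tt N60499 (iv6 D200652)) (tt N93072 (iv7 F417362)))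
theorem Q97556 : ∀ i, i < 97556 → P i := stepQ 97555 Q97555 (allL N97555 (tt N92774 F417367) (tt N93069 (iv0 F417368)) (tt N93070 F417365) (tt N60500 (iv3 D200653)) (tt N111683 (iv4 F477463)) (tt N67979 (iv5 F417369)) (tt N93077 (iv6 F417370)) (tt N93060 F417366))
theorem Q97557 : ∀ i, i < 97557 → P i := stepQ 97556 Q97556 (allL N97556 (tt N117738 (iv1 F506716)) (tt N102926 (iv0 F439297)) (tt N60941 F417371) (tt N67979 F417372) (tt N103402 (iv4 F441456)) (tt N60500 (iv5 D200654)) (tt N67977 (iv6 F417373)) (tt N97816 (iv7 F418407)))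
theorem Q97558 : ∀ i, i < 97558 → P i := stepQ 97557 Q97557 (allL N97557 (tt N102388 F437017) (tt N83006 (iv0 F419095)) (tt N97822 (iv2 F418420)) (tt N93077 F417374) (tt N92125 F417375) (tt N87774 F417377) (tt N60500 (iv6 D200655)) (tt N93073 F417376))
theorem Q97559 : ∀ i, i < 97559 → P i := stepQ 97558 Q97558 (allL N97558 (tt N60501 (iv1 D200657)) (tt N102384 F437002) (tt N92855 F418740) (tt N115780 (iv3 F496832)) (tt N119417 D222676) (tt N97601 (iv5 F417550)) (tt N103470 (iv6 F441769)) (tt N102382 (iv7 F436996)))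
theorem Q97560 : ∀ i, i < 97560 → P i := stepQ 97559 Q97559 (allL N97559 (tt N116242 F499196) (tt N119418 D222677) (tt N102383 (iv2 F436998)) (tt N104361 (iv3 F445429)) (tt N60501 (iv4 D200658)) (tt N119419 D222678) (tt N60508 F417380) (tt N119420 D222679))
theorem Q97561 : ∀ i, i < 97561 → P i := stepQ 97560 Q97560 (allL N97560 (tt N92855 F418741) (tt N102382 F436997) (tt N102384 (iv2 F437000)) (tt N115402 F495016) (tt N119420 (iv4 F515521)) (tt N60502 F417381) (tt N103476 F441794) (tt N60501 (iv7 D200659)))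
theorem Q97562 : ∀ i, i < 97562 → P i := stepQ 97561 Q97561 (allL N97561 (tt N97855 (iv1 F418529)) (tt N60503 (iv0 D200660)) (tt N97664 (iv2 F417838)) (tt N101734 F434092) (tt N67490 F417382) (tt N66627 (iv5 F417383)) (tt N67488 (iv6 F417384)) (tt N93974 F417385))
theorem Q97563 : ∀ i, i < 97563 → P i := stepQ 97562 Q97562 (allL N97562 (tt N83985 F417391) (tt N67179 F417390) (tt N91042 F417386) (tt N60504 F417387) (tt N85940 F417389) (tt N60503 (iv5 D200661)) (tt N104375 F445483) (tt N60678 F417388))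
theorem Q97564 : ∀ i, i < 97564 → P i := stepQ 97563 Q97563 (allL N97563 (tt N103408 (iv1 F441488)) (tt N103399 F441442) (tt N95852 F417392) (tt N114368 (iv3 F489834)) (tt N60504 (iv4 D200662)) (tt N93438 F417393) (tt N102490 F437417) (tt N97856 (iv7 F418533)))
theorem Q97565 : ∀ i, i < 97565 → P i := stepQ 97564 Q97564 (allL N97564 (tt N93210 F417395) (tt N67494 (iv0 F417592)) (tt N95853 F417394) (tt N104375 (iv3 F445485)) (tt N102490 (iv4 F437416)) (tt N97610 (iv5 F417590)) (tt N60504 (iv6 D200663)) (tt N103458 (iv7 F441720)))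
theorem Q97566 : ∀ i, i < 97566 → P i := stepQ 97565 Q97565 (allL N97565 (tt N66605 F417398) (tt N97853 F418518) (tt N97851 F418509) (tt N69049 F417396) (tt N60507 (iv4 D200664)) (tt N118247 (iv5 F509349)) (tt N69048 F417397) (tt N97850 F418506))
theorem Q97567 : ∀ i, i < 97567 → P i := stepQ 97566 Q97566 (allL N97566 (tt N117694 (iv1 F506461)) (tt N60508 (iv0 D200665)) (tt N102904 (iv2 F439197)) (tt N113784 (iv3 F487096)) (tt N60769 F417399) (tt N108879 (iv5 F464341)) (tt N119421 D222680) (tt N102906 (iv7 F439211)))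
theorem Q97568 : ∀ i, i < 97568 → P i := stepQ 97567 Q97567 (allL N97567 (tt N60508 (iv1 D200666)) (tt N117694 F506460) (tt N102906 (iv2 F439208)) (tt N102429 (iv3 F437202)) (tt N60770 F417400) (tt N108878 (iv5 F464337)) (tt N93104 (iv6 F417401)) (tt N102904 (iv7 F439198)))
theorem Q97569 : ∀ i, i < 97569 → P i := stepQ 97568 Q97568 (allL N97568 (tt N92833 F417403) (tt N92782 (iv0 F417404)) (tt N98022 (iv2 F419199)) (tt N60508 (iv3 D200667)) (tt N92179 F417402) (tt N61608 F417405) (tt N104361 (iv6 F445430)) (tt N98024 (iv7 F419208)))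
theorem Q97570 : ∀ i, i < 97570 → P i := stepQ 97569 Q97569 (allL N97569 (tt N93416 (iv1 F417410)) (tt N108880 (iv0 F464350)) (tt N117693 (iv2 F506451)) (tt N61608 F417407) (tt N74591 F417408) (tt N60508 (iv5 D200668)) (tt N119422 D222681) (tt N74590 F417409))
theorem Q97571 : ∀ i, i < 97571 → P i := stepQ 97570 Q97570 (allL N97570 (tt N102906 (iv1 F439213)) (tt N102904 (iv0 F439199)) (tt N117694 (iv2 F506456)) (tt N98024 (iv3 F419206)) (tt N60509 F417411) (tt N74590 F417412) (tt N119423 D222682) (tt N60508 (iv7 D200669)))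
theorem Q97572 : ∀ i, i < 97572 → P i := stepQ 97571 Q97571 (allL N97571 (tt N68832 F417414) (tt N68835 F417415) (tt N103475 (iv2 F441790)) (tt N110315 (iv3 F471003)) (tt N119423 (iv4 F515531)) (tt N67284 F417413) (tt N60509 (iv6 D200670)) (tt N103476 (iv7 F441792)))
theorem Q97573 : ∀ i, i < 97573 → P i := stepQ 97572 Q97572 (allL N97572 (tt N60515 (iv1 F417419)) (tt N60511 (iv0 D200671)) (tt N67391 (iv2 F417418)) (tt N92025 F417417) (tt N118995 (iv4 F513174)) (tt N65825 F417416) (tt N88766 (iv6 F417421)) (tt N67383 F417420))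
theorem Q97574 : ∀ i, i < 97574 → P i := stepQ 97573 Q97573 (allL N97573 (tt N119283 (iv1 F514818)) (tt N119282 (iv0 F514810)) (tt N102902 (iv2 F439189)) (tt N88675 F417423) (tt N60511 (iv4 D200672)) (tt N93416 F417424) (tt N119424 D222683) (tt N102042 (iv7 F435478)))
theorem Q97575 : ∀ i, i < 97575 → P i := stepQ 97574 Q97574 (allL N97574 (tt N82379 F417428) (tt N93058 F417429) (tt N87909 F417425) (tt N88677 F417426) (tt N119424 (iv4 F515537)) (tt N82523 F417427) (tt N60511 (iv6 D200673)) (tt N87910 (iv7 F417430)))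
theorem Q97576 : ∀ i, i < 97576 → P i := stepQ 97575 Q97575 (allL N97575 (tt N73056 F417435) (tt N93708 (iv0 F417436)) (tt N112768 (iv2 F482567)) (tt N60513 (iv3 D200674)) (tt N94336 F417431) (tt N64916 F417432) (tt N93428 F417433) (tt N65473 F417434))
theorem Q97577 : ∀ i, i < 97577 → P i := stepQ 97576 Q97576 (allL N97576 (tt N102251 F436377) (tt N115764 (iv0 F496742)) (tt N88670 F417437) (tt N60515 F417438) (tt N114364 (iv4 F489816)) (tt N60514 (iv5 D200675)) (tt N92705 F419214) (tt N102901 (iv7 F439186)))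
theorem Q97578 : ∀ i, i < 97578 → P i := stepQ 97577 Q97577 (allL N97577 (tt N119282 (iv1 F514811)) (tt N119283 (iv0 F514817)) (tt N102042 (iv2 F435477)) (tt N104532 (iv3 F446170)) (tt N60515 (iv4 D200676)) (tt N108880 (iv5 F464347)) (tt N117930 (iv6 F507656)) (tt N102902 (iv7 F439190)))
theorem Q97579 : ∀ i, i < 97579 → P i := stepQ 97578 Q97578 (allL N97578 (tt N118313 F509655) (tt N113045 (iv0 F483705)) (tt N102040 (iv2 F435471)) (tt N92705 (iv3 F419215)) (tt N117930 (iv4 F507654)) (tt N65674 F417439) (tt N60515 (iv6 D200677)) (tt N119425 D222684))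
theorem Q97580 : ∀ i, i < 97580 → P i := stepQ 97579 Q97579 (allL N97579 (tt N92687 (iv1 F417445)) (tt N92676 F417444) (tt N60516 (iv2 D200678)) (tt N96098 F417440) (tt N77785 F417441) (tt N104427 (iv5 F445711)) (tt N67358 F417442) (tt N92686 F417443))
theorem Q97581 : ∀ i, i < 97581 → P i := stepQ 97580 Q97580 (allL N97580 (tt N95626 F417449) (tt N95624 F417450) (tt N96351 F417446) (tt N60517 (iv3 D200679)) (tt N96954 F417447) (tt N119426 D222685) (tt N101937 F435017) (tt N96369 F417448))
theorem Q97582 : ∀ i, i < 97582 → P i := stepQ 97581 Q97581 (allL N97581 (tt N96675 F417454) (tt N95722 F417455) (tt N96601 F417451) (tt N119426 (iv3 F515549)) (tt N96465 F417453) (tt N60517 (iv5 D200680)) (tt N119427 D222686) (tt N96668 F417452))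
theorem Q97583 : ∀ i, i < 97583 → P i := stepQ 97582 Q97582 (allL N97582 (tt N94432 F417458) (tt N94434 (iv0 F417460)) (tt N96602 F417456) (tt N101937 (iv3 F435014)) (tt N60518 F417457) (tt N78180 F417459) (tt N60517 (iv6 D200681)) (tt N101951 (iv7 F435069)))
theorem Q97584 : ∀ i, i < 97584 → P i := stepQ 97583 Q97583 (allL N97583 (tt N92084 F417465) (tt N92092 F417466) (tt N92089 F417461) (tt N96349 F417462) (tt N60519 (iv4 D200682)) (tt N96087 F417463) (tt N115761 F496723) (tt N92088 F417464))
theorem Q97585 : ∀ i, i < 97585 → P i := stepQ 97584 Q97584 (allL N97584 (tt N95722 F417471) (tt N96675 F417470) (tt N96668 F417467) (tt N96350 F417468) (tt N96466 (iv4 F417472)) (tt N60520 (iv5 D200683)) (tt N119428 D222687) (tt N96601 F417469))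
theorem Q97586 : ∀ i, i < 97586 → P i := stepQ 97585 Q97585 (allL N97585 (tt N103569 (iv1 F442077)) (tt N66596 F417476) (tt N60524 F417473) (tt N102331 (iv3 F436767)) (tt N86025 F417474) (tt N119429 D222688) (tt N60521 (iv6 D200684)) (tt N92940 F417475))
theorem Q97587 : ∀ i, i < 97587 → P i := stepQ 97586 Q97586 (allL N97586 (tt N60528 F417479) (tt N60522 (iv0 D200685)) (tt N60525 (iv2 F417487)) (tt N102358 (iv3 F436885)) (tt N64583 F417477) (tt N97769 (iv5 F418237)) (tt N65746 F417478) (tt N60526 F417488))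
theorem Q97588 : ∀ i, i < 97588 → P i := stepQ 97587 Q97587 (allL N97587 (tt N60522 (iv1 D200686)) (tt N60528 F417480) (tt N60526 F417483) (tt N93967 F417484) (tt N64582 (iv4 F417481)) (tt N93966 F417485) (tt N80500 (iv6 F417482)) (tt N60525 (iv7 F417486)))
theorem Q97589 : ∀ i, i < 97589 → P i := stepQ 97588 Q97588 (allL N97588 (tt N65665 (iv1 F417493)) (tt N65672 (iv0 F417491)) (tt N60527 F417489) (tt N81669 F417490) (tt N96544 F417492) (tt N60522 (iv5 D200687)) (tt N119429 (iv6 F515572)) (tt N65670 (iv7 F417502)))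
theorem Q97590 : ∀ i, i < 97590 → P i := stepQ 97589 Q97589 (allL N97589 (tt N60526 (iv1 F417499)) (tt N60525 F417500) (tt N60528 F417495) (tt N79576 F417496) (tt N96534 F417497) (tt N65670 F417501) (tt N79748 F417498) (tt N60522 (iv7 D200688)))
theorem Q97591 : ∀ i, i < 97591 → P i := stepQ 97590 Q97590 (allL N97590 (tt N92940 (iv1 F417503)) (tt N60524 (iv0 D200689)) (tt N103569 (iv2 F442071)) (tt N66606 (iv3 F417509)) (tt N101215 (iv4 F432237)) (tt N66597 (iv5 F417510)) (tt N101214 F432235) (tt N66596 F417508))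
theorem Q97592 : ∀ i, i < 97592 → P i := stepQ 97591 Q97591 (allL N97591 (tt N60524 (iv1 D200690)) (tt N92940 F417504) (tt N66596 F417506) (tt N68606 (iv3 F417505)) (tt N104107 (iv4 F444206)) (tt N66590 F417507) (tt N113164 (iv6 F484283)) (tt N103569 (iv7 F442075)))
theorem Q97593 : ∀ i, i < 97593 → P i := stepQ 97592 Q97592 (allL N97592 (tt N118439 F510365) (tt N103272 (iv0 F440917)) (tt N119429 (iv2 F515569)) (tt N60531 F417511) (tt N117028 (iv4 F503040)) (tt N60524 (iv5 D200691)) (tt N60527 F417512) (tt N103421 (iv7 F441551)))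
theorem Q97594 : ∀ i, i < 97594 → P i := stepQ 97593 Q97593 (allL N97593 (tt N64584 (iv1 F417516)) (tt N64586 (iv0 F417515)) (tt N64583 F417513) (tt N119430 D222689) (tt N60525 (iv4 D200692)) (tt N97759 (iv5 F418198)) (tt N82506 (iv6 F417517)) (tt N64582 F417514))
theorem Q97595 : ∀ i, i < 97595 → P i := stepQ 97594 Q97594 (allL N97594 (tt N65742 F417522) (tt N65748 (iv0 F417521)) (tt N65746 F417518) (tt N108954 (iv3 F464644)) (tt N82506 F417519) (tt N115754 (iv5 F496678)) (tt N60525 (iv6 D200693)) (tt N65745 F417520))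
theorem Q97596 : ∀ i, i < 97596 → P i := stepQ 97595 Q97595 (allL N97595 (tt N64586 F417526) (tt N64584 (iv0 F417527)) (tt N64582 F417523) (tt N80985 F417524) (tt N60526 (iv4 D200694)) (tt N80984 (iv5 F417528)) (tt N111990 F478988) (tt N64583 F417525))
theorem Q97597 : ∀ i, i < 97597 → P i := stepQ 97596 Q97596 (allL N97596 (tt N60527 (iv1 D200695)) (tt N65670 F417529) (tt N65672 (iv2 F417531)) (tt N81746 F417532) (tt N101130 F431838) (tt N112290 (iv5 F480386)) (tt N111008 (iv6 F474220)) (tt N65665 F417530))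
theorem Q97598 : ∀ i, i < 97598 → P i := stepQ 97597 Q97597 (allL N97597 (tt N96533 F417539) (tt N64976 (iv0 F417534)) (tt N96544 F417533) (tt N96532 (iv3 F417535)) (tt N60527 (iv4 D200696)) (tt N94845 (iv5 F417537)) (tt N117028 (iv6 F503038)) (tt N94844 F417536))
theorem Q97599 : ∀ i, i < 97599 → P i := stepQ 97598 Q97598 (allL N97598 (tt N65672 (iv1 F417544)) (tt N65665 F417545) (tt N65670 F417540) (tt N60539 F417541) (tt N94844 F417542) (tt N60528 F417543) (tt N92080 F418239) (tt N60527 (iv7 D200697)))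
theorem Q97600 : ∀ i, i < 97600 → P i := stepQ 97599 Q97599 (allL N97599 (tt N68604 F417546) (tt N95677 F417547) (tt N102364 F436917) (tt N60529 (iv3 D200698)) (tt N119431 D222690) (tt N101712 (iv5 F433999)) (tt N103296 F441032) (tt N97910 (iv7 F418758)))
theorem Q97601 : ∀ i, i < 97601 → P i := stepQ 97600 Q97600 (allL N97600 (tt N117985 (iv1 F507924)) (tt N115245 (iv0 F494195)) (tt N97904 (iv2 F418731)) (tt N101712 F434002) (tt N105878 (iv4 F452143)) (tt N60529 (iv5 D200699)) (tt N67493 F417548) (tt N97911 (iv7 F418765)))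
theorem Q97602 : ∀ i, i < 97602 → P i := stepQ 97601 Q97601 (allL N97601 (tt N110282 (iv1 F470825)) (tt N110283 F470832) (tt N97905 (iv2 F418736)) (tt N103296 F441031) (tt N66633 F417549) (tt N97558 F417550) (tt N60529 (iv6 D200700)) (tt N110281 (iv7 F470818)))
theorem Q97603 : ∀ i, i < 97603 → P i := stepQ 97602 Q97602 (allL N97602 (tt N88652 F417552) (tt N97849 F439195) (tt N117512 (iv2 F505432)) (tt N60530 (iv3 D200701)) (tt N104497 (iv4 F446026)) (tt N87727 (iv5 F417553)) (tt N68721 F417551) (tt N97903 (iv7 F418728)))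
theorem Q97604 : ∀ i, i < 97604 → P i := stepQ 97603 Q97603 (allL N97603 (tt N115245 (iv1 F494196)) (tt N117985 (iv0 F507923)) (tt N97911 (iv2 F418762)) (tt N87727 F417554) (tt N112382 (iv4 F480834)) (tt N60530 (iv5 D200702)) (tt N97046 F417555) (tt N97904 (iv7 F418733)))
theorem Q97605 : ∀ i, i < 97605 → P i := stepQ 97604 Q97604 (allL N97604 (tt N67399 (iv1 F417562)) (tt N67192 F417560) (tt N67396 F417556) (tt N82345 F417561) (tt N60531 (iv4 D200703)) (tt N82344 F417559) (tt N60538 F417557) (tt N67397 F417558))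
theorem Q97606 : ∀ i, i < 97606 → P i := stepQ 97605 Q97605 (allL N97605 (tt N60535 (iv1 F417564)) (tt N60533 (iv0 D200704)) (tt N67468 (iv2 F417565)) (tt N111596 (iv3 F477082)) (tt N103281 (iv4 F440961)) (tt N65562 F417563) (tt N112809 (iv6 F482712)) (tt N67469 (iv7 F417566)))
theorem Q97607 : ∀ i, i < 97607 → P i := stepQ 97606 Q97606 (allL N97606 (tt N60533 (iv1 D200705)) (tt N60535 F417567) (tt N67469 (iv2 F417572)) (tt N66588 (iv3 F417570)) (tt N103282 (iv4 F440969)) (tt N65561 F417569) (tt N66587 F417571) (tt N67468 F417568))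
theorem Q97608 : ∀ i, i < 97608 → P i := stepQ 97607 Q97607 (allL N97607 (tt N97042 F417577) (tt N97043 F417578) (tt N97041 F417573) (tt N60535 F417574) (tt N62668 F417575) (tt N60534 (iv5 D200706)) (tt N117633 (iv6 F506109)) (tt N67467 F417576))
theorem Q97609 : ∀ i, i < 97609 → P i := stepQ 97608 Q97608 (allL N97608 (tt N67474 (iv1 F417582)) (tt N67473 (iv0 F417583)) (tt N67476 F417579) (tt N117633 (iv3 F506113)) (tt N92070 F417580) (tt N111924 (iv5 F478680)) (tt N60535 (iv6 D200707)) (tt N67218 F417581))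
theorem Q97610 : ∀ i, i < 97610 → P i := stepQ 97609 Q97609 (allL N97609 (tt N81752 F417586) (tt N62667 (iv0 F417587)) (tt N106723 (iv2 F455411)) (tt N60537 (iv3 D200708)) (tt N106691 (iv4 F455293)) (tt N67300 F417584) (tt N108777 (iv6 F463880)) (tt N92039 F417585))
theorem Q97611 : ∀ i, i < 97611 → P i := stepQ 97610 Q97610 (allL N97610 (tt N119219 F514436) (tt N103412 (iv0 F441506)) (tt N87781 F417588) (tt N108777 (iv3 F463879)) (tt N87901 F417589) (tt N97564 F417590) (tt N60537 (iv6 D200709)) (tt N92691 F417591))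
theorem Q97612 : ∀ i, i < 97612 → P i := stepQ 97611 Q97611 (allL N97611 (tt N60538 (iv1 D200710)) (tt N102343 F436821) (tt N102342 (iv2 F436815)) (tt N79570 (iv3 F417594)) (tt N60598 F417593) (tt N71603 (iv5 F417596)) (tt N79733 (iv6 F417595)) (tt N101998 F435295))
theorem Q97613 : ∀ i, i < 97613 → P i := stepQ 97612 Q97612 (allL N97612 (tt N66052 F417600) (tt N101082 F431589) (tt N96541 F417597) (tt N60538 (iv3 D200711)) (tt N96532 F417598) (tt N81762 (iv5 F417601)) (tt N82345 F417599) (tt N96539 (iv7 F417602)))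
theorem Q97614 : ∀ i, i < 97614 → P i := stepQ 97613 Q97613 (allL N97613 (tt N103283 (iv1 F440978)) (tt N103452 F441699) (tt N80358 F417603) (tt N81762 F417604) (tt N62663 F417605) (tt N60538 (iv5 D200712)) (tt N81761 (iv6 F417606)) (tt N103451 (iv7 F441695)))
theorem Q97615 : ∀ i, i < 97615 → P i := stepQ 97614 Q97614 (allL N97614 (tt N102342 (iv1 F436811)) (tt N101998 F435296) (tt N102343 (iv2 F436817)) (tt N96539 F417607) (tt N60539 F417608) (tt N103451 (iv5 F441692)) (tt N115777 (iv6 F496815)) (tt N60538 (iv7 D200713)))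
theorem Q97616 : ∀ i, i < 97616 → P i := stepQ 97615 Q97615 (allL N97615 (tt N68829 F417609) (tt N68826 F417610) (tt N102344 (iv2 F436823)) (tt N92080 (iv3 F418240)) (tt N115777 (iv4 F496813)) (tt N102357 (iv5 F436884)) (tt N60539 (iv6 D200714)) (tt N103422 (iv7 F441555)))
theorem Q97617 : ∀ i, i < 97617 → P i := stepQ 97616 Q97616 (allL N97616 (tt N91957 F417614) (tt N97494 (iv0 F417613)) (tt N117701 (iv2 F506502)) (tt N60541 F417611) (tt N113624 F486353) (tt N60540 (iv5 D200717)) (tt N67169 F417612) (tt N117696 (iv7 F506473)))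
theorem Q97618 : ∀ i, i < 97618 → P i := stepQ 97617 Q97617 (allL N97617 (tt N71600 F417616) (tt N65935 F417617) (tt N91964 F417615) (tt N112158 F479808) (tt N103452 (iv4 F441696)) (tt N60542 (iv5 D200718)) (tt N91963 (iv6 F417618)) (tt N99713 (iv7 F425871)))
theorem Q97619 : ∀ i, i < 97619 → P i := stepQ 97618 Q97618 (allL N97618 (tt N93569 F417622) (tt N96079 (iv0 F417623)) (tt N105867 (iv2 F452082)) (tt N95395 F417619) (tt N60543 F417620) (tt N99648 (iv5 F425569)) (tt N60542 (iv6 D200719)) (tt N74029 F417621))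
theorem Q97620 : ∀ i, i < 97620 → P i := stepQ 97619 Q97619 (allL N97619 (tt N97534 F417628) (tt N111096 (iv0 F474646)) (tt N111972 F478917) (tt N60545 F417624) (tt N80375 F417627) (tt N60544 (iv5 D200720)) (tt N81758 F417625) (tt N67277 F417626))
theorem Q97621 : ∀ i, i < 97621 → P i := stepQ 97620 Q97620 (allL N97620 (tt N67301 (iv1 F417634)) (tt N67300 (iv0 F417633)) (tt N67302 F417629) (tt N81758 F417630) (tt N65931 F417631) (tt N102108 (iv5 F435766)) (tt N60545 (iv6 D200721)) (tt N67175 F417632))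
theorem Q97622 : ∀ i, i < 97622 → P i := stepQ 97621 Q97621 (allL N97621 (tt N111528 (iv1 F476757)) (tt N112122 F479600) (tt N112121 (iv2 F479594)) (tt N60547 (iv3 D200722)) (tt N77605 F417635) (tt N91966 (iv5 F417638)) (tt N74030 F417636) (tt N91965 F417637))
theorem Q97623 : ∀ i, i < 97623 → P i := stepQ 97622 Q97622 (allL N97622 (tt N65935 F417642) (tt N71600 F417643) (tt N99713 F425869) (tt N91966 F417639) (tt N103283 (iv4 F440976)) (tt N60547 (iv5 D200723)) (tt N96796 F417640) (tt N91964 F417641))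
theorem Q97624 : ∀ i, i < 97624 → P i := stepQ 97623 Q97623 (allL N97623 (tt N71602 F417648) (tt N71601 F417649) (tt N71604 F417644) (tt N80929 F417645) (tt N102185 (iv4 F436083)) (tt N60548 (iv5 D200724)) (tt N84563 F417646) (tt N71578 F417647))
theorem Q97625 : ∀ i, i < 97625 → P i := stepQ 97624 Q97624 (allL N97624 (tt N74140 (iv1 F417655)) (tt N78640 F417654) (tt N60549 (iv2 D200725)) (tt N103961 (iv3 F443537)) (tt N89906 F417650) (tt N64095 F417651) (tt N69433 F417652) (tt N78653 F417653))
theorem Q97626 : ∀ i, i < 97626 → P i := stepQ 97625 Q97625 (allL N97625 (tt N103452 (iv1 F441700)) (tt N103283 (iv0 F440977)) (tt N103451 F441694) (tt N74654 F417656) (tt N60550 (iv4 D200726)) (tt N102343 (iv5 F436820)) (tt N79708 (iv6 F417658)) (tt N80358 F417657))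
theorem Q97627 : ∀ i, i < 97627 → P i := stepQ 97626 Q97626 (allL N97626 (tt N95436 F417664) (tt N91194 (iv0 F417663)) (tt N103963 (iv2 F443546)) (tt N64130 F417659) (tt N79708 F417660) (tt N68381 F417661) (tt N60550 (iv6 D200727)) (tt N79863 F417662))
theorem Q97628 : ∀ i, i < 97628 → P i := stepQ 97627 Q97627 (allL N97627 (tt N96566 (iv1 F417667)) (tt N60551 (iv0 D200728)) (tt N96563 (iv2 F417668)) (tt N99602 F425363) (tt N80200 F417666) (tt N79770 F417665) (tt N119432 D222691) (tt N96564 (iv7 F417669)))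
theorem Q97629 : ∀ i, i < 97629 → P i := stepQ 97628 Q97628 (allL N97628 (tt N60551 (iv1 D200729)) (tt N96566 F417670) (tt N96564 (iv2 F417676)) (tt N81809 (iv3 F417674)) (tt N80201 F417672) (tt N81802 F417673) (tt N94060 (iv6 F417675)) (tt N96563 F417671))
theorem Q97630 : ∀ i, i < 97630 → P i := stepQ 97629 Q97629 (allL N97629 (tt N60556 (iv1 F417678)) (tt N60554 (iv0 D200730)) (tt N102255 (iv2 F436395)) (tt N78757 (iv3 F417680)) (tt N92083 F417677) (tt N76111 (iv5 F417681)) (tt N82470 F417682) (tt N78752 F417679))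
theorem Q97631 : ∀ i, i < 97631 → P i := stepQ 97630 Q97630 (allL N97630 (tt N79282 F417686) (tt N65443 (iv0 F417687)) (tt N82456 F417683) (tt N60554 (iv3 D200731)) (tt N82443 F417684) (tt N109005 (iv5 F464870)) (tt N106826 F455861) (tt N80963 F417685))
theorem Q97632 : ∀ i, i < 97632 → P i := stepQ 97631 Q97631 (allL N97631 (tt N60557 (iv1 D200732)) (tt N65720 F417688) (tt N60691 F417693) (tt N67988 (iv3 F417692)) (tt N79755 F417691) (tt N67985 F417690) (tt N79754 (iv6 F417694)) (tt N67983 F417689))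
theorem Q97633 : ∀ i, i < 97633 → P i := stepQ 97632 Q97632 (allL N97632 (tt N95675 (iv1 F417699)) (tt N66514 (iv0 F417698)) (tt N102366 F436930) (tt N60559 (iv3 D200733)) (tt N97659 (iv4 F417810)) (tt N72906 F417695) (tt N68932 F417696) (tt N97525 F417697))
theorem Q97634 : ∀ i, i < 97634 → P i := stepQ 97633 Q97633 (allL N97633 (tt N118089 F508523) (tt N88653 (iv0 F417704)) (tt N112072 (iv2 F479355)) (tt N60560 (iv3 D200734)) (tt N87667 F417702) (tt N92047 F417700) (tt N78419 (iv6 F417703)) (tt N97533 F417701))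
theorem Q97635 : ∀ i, i < 97635 → P i := stepQ 97634 Q97634 (allL N97634 (tt N104063 (iv1 F444000)) (tt N70744 (iv0 F417708)) (tt N97529 F417705) (tt N86124 (iv3 F417709)) (tt N60560 (iv4 D200735)) (tt N86123 F417707) (tt N105786 F451712) (tt N97535 F417706))
theorem Q97636 : ∀ i, i < 97636 → P i := stepQ 97635 Q97635 (allL N97635 (tt N108779 F463892) (tt N80428 (iv0 F417713)) (tt N97530 F417710) (tt N78419 F417711) (tt N105786 (iv4 F451708)) (tt N78418 (iv5 F417712)) (tt N60560 (iv6 D200736)) (tt N105932 (iv7 F452408)))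
theorem Q97637 : ∀ i, i < 97637 → P i := stepQ 97636 Q97636 (allL N97636 (tt N98766 (iv1 F422223)) (tt N98764 (iv0 F422212)) (tt N88210 F417714) (tt N60567 F417715) (tt N87381 F417717) (tt N60561 (iv5 D200737)) (tt N60564 F417716) (tt N88212 (iv7 F417718)))
theorem Q97638 : ∀ i, i < 97638 → P i := stepQ 97637 Q97637 (allL N97637 (tt N103568 F442069) (tt N104061 (iv0 F443989)) (tt N92938 F417719) (tt N60568 F417720) (tt N97877 (iv4 F418632)) (tt N88212 F417721) (tt N102336 (iv6 F436786)) (tt N60561 (iv7 D200738)))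
theorem Q97639 : ∀ i, i < 97639 → P i := stepQ 97638 Q97638 (allL N97638 (tt N79754 (iv1 F417725)) (tt N79757 (iv0 F417724)) (tt N100737 (iv2 F430230)) (tt N111864 (iv3 F478378)) (tt N82366 F417723) (tt N102414 (iv5 F437135)) (tt N60562 (iv6 D200739)) (tt N102413 (iv7 F437132)))
theorem Q97640 : ∀ i, i < 97640 → P i := stepQ 97639 Q97639 (allL N97639 (tt N119377 F515306) (tt N118130 (iv0 F508765)) (tt N81817 F417726) (tt N60563 (iv3 D200740)) (tt N69225 F417727) (tt N111667 (iv5 F477385)) (tt N81806 F417728) (tt N100735 (iv7 F430221)))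
theorem Q97641 : ∀ i, i < 97641 → P i := stepQ 97640 Q97640 (allL N97640 (tt N79749 (iv1 F417731)) (tt N60564 (iv0 D200741)) (tt N104409 (iv2 F445639)) (tt N80226 F417730) (tt N119433 D222692) (tt N79714 F417729) (tt N104400 F445605) (tt N104401 (iv7 F445610)))
theorem Q97642 : ∀ i, i < 97642 → P i := stepQ 97641 Q97641 (allL N97641 (tt N79696 F417736) (tt N84703 F417737) (tt N88211 F417732) (tt N115471 (iv3 F495344)) (tt N60564 (iv4 D200742)) (tt N84544 F417735) (tt N87381 F417733) (tt N84554 F417734))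
theorem Q97643 : ∀ i, i < 97643 → P i := stepQ 97642 Q97642 (allL N97642 (tt N115312 (iv1 F494528)) (tt N92693 (iv0 F417742)) (tt N104493 (iv2 F446010)) (tt N60565 (iv3 D200743)) (tt N67689 F417740) (tt N68715 F417738) (tt N88703 F417739) (tt N97887 (iv7 F418667)))
theorem Q97644 : ∀ i, i < 97644 → P i := stepQ 97643 Q97643 (allL N97643 (tt N65809 F417744) (tt N65812 F435345) (tt N97888 (iv2 F418672)) (tt N102362 F436910) (tt N92131 F417743) (tt N117981 (iv5 F507896)) (tt N60566 (iv6 D200744)) (tt N118088 (iv7 F508514)))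
theorem Q97645 : ∀ i, i < 97645 → P i := stepQ 97644 Q97644 (allL N97644 (tt N102356 (iv1 F436880)) (tt N60567 (iv0 D200745)) (tt N86860 (iv2 F417747)) (tt N115311 F494522) (tt N86858 (iv4 F417748)) (tt N93072 F417745) (tt N86857 F417746) (tt N100522 (iv7 F429311)))
theorem Q97646 : ∀ i, i < 97646 → P i := stepQ 97645 Q97645 (allL N97645 (tt N60567 (iv1 D200746)) (tt N102356 F436879) (tt N100522 (iv2 F429308)) (tt N88319 (iv3 F417752)) (tt N79894 F417751) (tt N93059 F417750) (tt N79893 (iv6 F417753)) (tt N86860 F417749))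
theorem Q97647 : ∀ i, i < 97647 → P i := stepQ 97646 Q97646 (allL N97646 (tt N100522 (iv1 F429313)) (tt N86860 (iv0 F417756)) (tt N102356 (iv2 F436876)) (tt N88212 F417754) (tt N98699 (iv4 F421902)) (tt N60568 F417755) (tt N119434 D222693) (tt N60567 (iv7 D200747)))
theorem Q97648 : ∀ i, i < 97648 → P i := stepQ 97647 Q97647 (allL N97647 (tt N105877 F452140) (tt N105875 (iv0 F452131)) (tt N87903 F417757) (tt N60570 F417758) (tt N118052 (iv4 F508307)) (tt N60569 (iv5 D200748)) (tt N68735 F417759) (tt N97692 (iv7 F417926)))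
theorem Q97649 : ∀ i, i < 97649 → P i := stepQ 97648 Q97648 (allL N97648 (tt N65617 (iv1 F417765)) (tt N67364 F417766) (tt N67362 F417760) (tt N60571 F417761) (tt N67338 F417762) (tt N66630 F417763) (tt N60569 (iv6 D200749)) (tt N66629 F417764))
theorem Q97650 : ∀ i, i < 97650 → P i := stepQ 97649 Q97649 (allL N97649 (tt N67486 F417769) (tt N67489 (iv0 F417770)) (tt N102357 (iv2 F436881)) (tt N88307 F417767) (tt N93127 F417768) (tt N102344 (iv5 F436825)) (tt N60573 (iv6 D200750)) (tt N119434 (iv7 F515606)))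
theorem Q97651 : ∀ i, i < 97651 → P i := stepQ 97650 Q97650 (allL N97650 (tt N67392 (iv1 F417774)) (tt N60582 (iv0 D200751)) (tt N60679 (iv2 F417773)) (tt N102142 F435927) (tt N96642 F417772) (tt N67203 F417771) (tt N111849 (iv6 F478298)) (tt N67209 F417775))
theorem Q97652 : ∀ i, i < 97652 → P i := stepQ 97651 Q97651 (allL N97651 (tt N92036 F417780) (tt N92681 (iv0 F417781)) (tt N65662 F417776) (tt N65890 F417777) (tt N60583 (iv4 D200752)) (tt N102245 (iv5 F436346)) (tt N92086 F417778) (tt N67257 F417779))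
theorem Q97653 : ∀ i, i < 97653 → P i := stepQ 97652 Q97652 (allL N97652 (tt N117703 (iv1 F506520)) (tt N60936 (iv0 F417783)) (tt N117700 (iv2 F506495)) (tt N60585 F417782) (tt N117943 (iv4 F507711)) (tt N60583 (iv5 D200753)) (tt N102228 (iv6 F436280)) (tt N102890 (iv7 F439133)))
theorem Q97654 : ∀ i, i < 97654 → P i := stepQ 97653 Q97653 (allL N97653 (tt N113320 (iv1 F485010)) (tt N94552 F417789) (tt N95680 F417784) (tt N94690 F417785) (tt N66347 F417788) (tt N60584 (iv5 D200754)) (tt N89321 F417786) (tt N85639 F417787))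
theorem Q97655 : ∀ i, i < 97655 → P i := stepQ 97654 Q97654 (allL N97654 (tt N66361 F417793) (tt N66360 F417794) (tt N66221 F417790) (tt N66308 (iv3 F417796)) (tt N60585 (iv4 D200755)) (tt N66220 F417791) (tt N91404 (iv6 F417795)) (tt N66358 F417792))
theorem Q97656 : ∀ i, i < 97656 → P i := stepQ 97655 Q97655 (allL N97655 (tt N60673 F417798) (tt N101708 (iv0 F433983)) (tt N102889 (iv2 F439124)) (tt N102228 (iv3 F436279)) (tt N91404 F417797) (tt N102057 (iv5 F435544)) (tt N60585 (iv6 D200756)) (tt N104809 (iv7 F447400)))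
theorem Q97657 : ∀ i, i < 97657 → P i := stepQ 97656 Q97656 (allL N97656 (tt N117697 (iv1 F506477)) (tt N73419 (iv0 F417804)) (tt N60589 F417799) (tt N67634 F417803) (tt N60586 (iv4 D200757)) (tt N95927 F417800) (tt N85959 F417801) (tt N67628 F417802))
theorem Q97658 : ∀ i, i < 97658 → P i := stepQ 97657 Q97657 (allL N97657 (tt N101997 F435289) (tt N68628 (iv0 F417807)) (tt N102393 (iv2 F437034)) (tt N60588 (iv3 D200758)) (tt N119435 D222694) (tt N66587 F417805) (tt N65819 F417806) (tt N97775 (iv7 F418264)))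
theorem Q97659 : ∀ i, i < 97659 → P i := stepQ 97658 Q97658 (allL N97658 (tt N67628 (iv1 F417808)) (tt N60589 (iv0 D200759)) (tt N117697 (iv2 F506483)) (tt N67767 (iv3 F417816)) (tt N102855 (iv4 F438958)) (tt N102652 (iv5 F438062)) (tt N104131 (iv6 F444341)) (tt N73419 F417815))
theorem Q97660 : ∀ i, i < 97660 → P i := stepQ 97659 Q97659 (allL N97659 (tt N60589 (iv1 D200760)) (tt N67628 F417809) (tt N73419 F417813) (tt N93799 F417814) (tt N97632 F417810) (tt N93798 F417811) (tt N67746 (iv6 F417812)) (tt N117697 (iv7 F506478)))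
theorem Q97661 : ∀ i, i < 97661 → P i := stepQ 97660 Q97660 (allL N97660 (tt N101082 (iv1 F431588)) (tt N66052 (iv0 F417820)) (tt N96539 (iv2 F417822)) (tt N60591 (iv3 D200761)) (tt N96531 F417817) (tt N80360 F417818) (tt N78394 F417821) (tt N96541 F417819))
theorem Q97662 : ∀ i, i < 97662 → P i := stepQ 97661 Q97661 (allL N97661 (tt N86960 F417827) (tt N96652 F417828) (tt N96651 F417823) (tt N78394 F417824) (tt N79197 F417825) (tt N115400 (iv5 F495002)) (tt N60591 (iv6 D200762)) (tt N96650 F417826))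
theorem Q97663 : ∀ i, i < 97663 → P i := stepQ 97662 Q97662 (allL N97662 (tt N80356 F417833) (tt N79173 F417834) (tt N73987 F417829) (tt N95048 F417830) (tt N60592 (iv4 D200763)) (tt N73750 F417831) (tt N101520 (iv6 F433234)) (tt N95059 F417832))
theorem Q97664 : ∀ i, i < 97664 → P i := stepQ 97663 Q97663 (allL N97663 (tt N111850 (iv1 F478302)) (tt N111849 F478299) (tt N82021 F417835) (tt N67396 F417836) (tt N101520 (iv4 F433233)) (tt N82016 F417837) (tt N60592 (iv6 D200764)) (tt N111848 (iv7 F478291)))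
theorem Q97665 : ∀ i, i < 97665 → P i := stepQ 97664 Q97664 (allL N97664 (tt N60773 F417841) (tt N65122 F417840) (tt N97561 F417838) (tt N103370 F441323) (tt N102104 (iv4 F435742)) (tt N60593 (iv5 D200765)) (tt N82377 F417842) (tt N97487 F417839))
theorem Q97666 : ∀ i, i < 97666 → P i := stepQ 97665 Q97665 (allL N97665 (tt N103231 F440690) (tt N103333 F441179) (tt N102938 (iv2 F439341)) (tt N68942 F417843) (tt N60855 F417844) (tt N97734 F418110) (tt N60593 (iv6 D200766)) (tt N103300 (iv7 F441044)))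
theorem Q97667 : ∀ i, i < 97667 → P i := stepQ 97666 Q97666 (allL N97666 (tt N60635 F417848) (tt N68633 F417850) (tt N88648 F417845) (tt N60594 (iv3 D200767)) (tt N83977 (iv4 F417849)) (tt N116219 (iv5 F499080)) (tt N87683 F417846) (tt N88646 F417847))
theorem Q97668 : ∀ i, i < 97668 → P i := stepQ 97667 Q97667 (allL N97667 (tt N117702 (iv1 F506514)) (tt N117699 (iv0 F506493)) (tt N112504 (iv2 F481398)) (tt N60597 (iv3 D200768)) (tt N81023 F417851) (tt N65570 F417852) (tt N101993 (iv6 F435268)) (tt N112489 (iv7 F481320)))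
theorem Q97669 : ∀ i, i < 97669 → P i := stepQ 97668 Q97668 (allL N97668 (tt N60937 F417856) (tt N117704 F506528) (tt N92765 F417853) (tt N60602 F417854) (tt N92712 F417855) (tt N60600 (iv5 D200769)) (tt N92711 (iv6 F417857)) (tt N102924 (iv7 F439286)))
theorem Q97670 : ∀ i, i < 97670 → P i := stepQ 97669 Q97669 (allL N97669 (tt N117946 (iv1 F507730)) (tt N119436 D222695) (tt N102927 (iv2 F439299)) (tt N97894 (iv3 F418686)) (tt N60602 (iv4 D200770)) (tt N119437 D222696) (tt N92702 F417862) (tt N102925 (iv7 F439292)))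
theorem Q97671 : ∀ i, i < 97671 → P i := stepQ 97670 Q97670 (allL N97670 (tt N117705 (iv1 F506533)) (tt N60676 (iv0 F417859)) (tt N102208 (iv2 F436190)) (tt N92711 F417858) (tt N92702 (iv4 F417860)) (tt N102098 (iv5 F435712)) (tt N60602 (iv6 D200771)) (tt N92729 (iv7 F417861)))
theorem Q97672 : ∀ i, i < 97672 → P i := stepQ 97671 Q97671 (allL N97671 (tt N65909 F417867) (tt N65910 (iv0 F417868)) (tt N66049 F417863) (tt N60605 F417864) (tt N79672 F417865) (tt N105880 (iv5 F452155)) (tt N60603 (iv6 D200772)) (tt N82355 F417866))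
theorem Q97673 : ∀ i, i < 97673 → P i := stepQ 97672 Q97672 (allL N97672 (tt N119436 (iv1 F515615)) (tt N117946 (iv0 F507729)) (tt N102925 (iv2 F439291)) (tt N119438 D222697) (tt N60604 (iv4 D200773)) (tt N119439 D222698) (tt N119440 D222699) (tt N102927 (iv7 F439300)))
theorem Q97674 : ∀ i, i < 97674 → P i := stepQ 97673 Q97673 (allL N97673 (tt N60941 F417869) (tt N97816 F418408) (tt N102926 (iv2 F439293)) (tt N117683 (iv3 F506399)) (tt N119440 (iv4 F515637)) (tt N110282 (iv5 F470821)) (tt N60604 (iv6 D200774)) (tt N117738 (iv7 F506717)))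
theorem Q97675 : ∀ i, i < 97675 → P i := stepQ 97674 Q97674 (allL N97674 (tt N60605 (iv1 D200775)) (tt N101983 (iv0 F435218)) (tt N60682 F418789) (tt N67209 F418790) (tt N117649 (iv4 F506211)) (tt N67207 F418791) (tt N103256 (iv6 F440824)) (tt N102142 (iv7 F435922)))
theorem Q97676 : ∀ i, i < 97676 → P i := stepQ 97675 Q97675 (allL N97675 (tt N111876 F478453) (tt N111065 (iv0 F474496)) (tt N60612 F417870) (tt N110595 (iv3 F472301)) (tt N60608 F417871) (tt N119441 D222700) (tt N60606 (iv6 D200776)) (tt N111861 (iv7 F478361)))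
theorem Q97677 : ∀ i, i < 97677 → P i := stepQ 97676 Q97676 (allL N97676 (tt N75089 F417876) (tt N75088 (iv0 F417877)) (tt N60615 F417872) (tt N67631 F417873) (tt N60607 (iv4 D200777)) (tt N119442 D222701) (tt N67629 F417874) (tt N75090 F417875))
theorem Q97678 : ∀ i, i < 97678 → P i := stepQ 97677 Q97677 (allL N97677 (tt N60755 F417881) (tt N91557 F417882) (tt N91558 F417878) (tt N78371 F417879) (tt N98120 (iv4 F419542)) (tt N60610 (iv5 D200778)) (tt N102868 (iv6 F439019)) (tt N91554 F417880))
theorem Q97679 : ∀ i, i < 97679 → P i := stepQ 97678 Q97678 (allL N97678 (tt N60612 (iv1 D200779)) (tt N111861 F478364) (tt N111065 (iv2 F474492)) (tt N79312 (iv3 F429396)) (tt N117968 F507839) (tt N115654 (iv5 F496165)) (tt N95602 F429397) (tt N111876 (iv7 F478451)))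
theorem Q97680 : ∀ i, i < 97680 → P i := stepQ 97679 Q97679 (allL N97679 (tt N119443 D222702) (tt N119444 D222703) (tt N119441 (iv2 F515641)) (tt N65939 F417883) (tt N118394 (iv4 F510116)) (tt N60612 (iv5 D200780)) (tt N87405 F417884) (tt N118964 (iv7 F513007)))
theorem Q97681 : ∀ i, i < 97681 → P i := stepQ 97680 Q97680 (allL N97680 (tt N93679 (iv1 F426317)) (tt N93678 (iv0 F417888)) (tt N93676 F417885) (tt N60613 (iv3 D200781)) (tt N99808 (iv4 F426313)) (tt N92118 F417886) (tt N102303 (iv6 F436625)) (tt N93677 F417887))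
theorem Q97682 : ∀ i, i < 97682 → P i := stepQ 97681 Q97681 (allL N97681 (tt N119445 D222704) (tt N118091 (iv0 F508535)) (tt N97840 (iv2 F418461)) (tt N119147 (iv3 F514034)) (tt N60613 (iv4 D200782)) (tt N61630 F417889) (tt N98657 (iv6 F421758)) (tt N97838 (iv7 F418459)))
theorem Q97683 : ∀ i, i < 97683 → P i := stepQ 97682 Q97682 (allL N97682 (tt N103329 (iv1 F441162)) (tt N103230 (iv0 F440683)) (tt N97841 (iv2 F418464)) (tt N102303 F436626) (tt N98657 F421759) (tt N105873 (iv5 F452123)) (tt N60613 (iv6 D200783)) (tt N103312 (iv7 F441096)))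
theorem Q97684 : ∀ i, i < 97684 → P i := stepQ 97683 Q97683 (allL N97683 (tt N65905 (iv1 F417893)) (tt N60628 F417894) (tt N66053 (iv2 F417892)) (tt N60614 (iv3 D200784)) (tt N102361 (iv4 F436904)) (tt N80152 F417890) (tt N86919 (iv6 F417895)) (tt N66054 F417891))
theorem Q97685 : ∀ i, i < 97685 → P i := stepQ 97684 Q97684 (allL N97684 (tt N118091 (iv1 F508536)) (tt N119445 F515661) (tt N97838 (iv2 F418458)) (tt N104615 F446553) (tt N60614 (iv4 D200785)) (tt N111156 (iv5 F474976)) (tt N119446 D222705) (tt N97840 (iv7 F418462)))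
theorem Q97686 : ∀ i, i < 97686 → P i := stepQ 97685 Q97685 (allL N97685 (tt N103457 F441719) (tt N103456 (iv0 F441716)) (tt N97839 (iv2 F418460)) (tt N86919 F417896) (tt N119446 (iv4 F515664)) (tt N103412 (iv5 F441505)) (tt N60614 (iv6 D200786)) (tt N113048 (iv7 F483719)))
theorem Q97687 : ∀ i, i < 97687 → P i := stepQ 97686 Q97686 (allL N97686 (tt N75090 (iv1 F417900)) (tt N60615 (iv0 D200787)) (tt N75089 F417903) (tt N61670 F417899) (tt N93225 F417897) (tt N61665 F417898) (tt N61669 (iv6 F417901)) (tt N75088 (iv7 F417902)))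
theorem Q97688 : ∀ i, i < 97688 → P i := stepQ 97687 Q97687 (allL N97687 (tt N60615 (iv1 D200788)) (tt N75090 F417904) (tt N75088 F417907) (tt N106521 (iv3 F454754)) (tt N87915 (iv4 F417906)) (tt N103193 (iv5 F440504)) (tt N87914 F417908) (tt N75089 F417905))
theorem Q97689 : ∀ i, i < 97689 → P i := stepQ 97688 Q97688 (allL N97688 (tt N119447 D222706) (tt N119026 (iv0 F513357)) (tt N119442 (iv2 F515644)) (tt N60801 F417909) (tt N100202 (iv4 F427972)) (tt N60615 (iv5 D200789)) (tt N103493 (iv6 F441851)) (tt N75091 F417910))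
theorem Q97690 : ∀ i, i < 97690 → P i := stepQ 97689 Q97689 (allL N97689 (tt N93182 (iv1 F417912)) (tt N60616 (iv0 D200790)) (tt N118063 F508374) (tt N68618 (iv3 F417913)) (tt N118090 (iv4 F508525)) (tt N93245 F417911) (tt N119448 D222707) (tt N111779 (iv7 F477932)))
theorem Q97691 : ∀ i, i < 97691 → P i := stepQ 97690 Q97690 (allL N97690 (tt N60616 (iv1 D200791)) (tt N93182 F417914) (tt N111779 (iv2 F477930)) (tt N103293 (iv3 F441019)) (tt N104614 (iv4 F446545)) (tt N98126 (iv5 F419573)) (tt N119449 D222708) (tt N118063 (iv7 F508376)))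
theorem Q97692 : ∀ i, i < 97692 → P i := stepQ 97691 Q97691 (allL N97691 (tt N79698 F417917) (tt N60646 F417993) (tt N86622 F417918) (tt N60621 (iv3 D200792)) (tt N86621 (iv4 F417919)) (tt N65605 F417915) (tt N104346 (iv6 F445348)) (tt N88325 F417916))
theorem Q97693 : ∀ i, i < 97693 → P i := stepQ 97692 Q97692 (allL N97692 (tt N115826 (iv1 F497106)) (tt N115825 F497102) (tt N87768 F417922) (tt N65943 F417923) (tt N92962 F417924) (tt N65942 F417925) (tt N60622 (iv6 D200793)) (tt N97647 F417926))
theorem Q97694 : ∀ i, i < 97694 → P i := stepQ 97693 Q97693 (allL N97693 (tt N103306 (iv1 F441069)) (tt N105931 (iv0 F452402)) (tt N60661 F417927) (tt N67234 F417928) (tt N85426 F417929) (tt N60623 (iv5 D200794)) (tt N104434 (iv6 F445744)) (tt N103290 (iv7 F441008)))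
theorem Q97695 : ∀ i, i < 97695 → P i := stepQ 97694 Q97694 (allL N97694 (tt N96539 F417932) (tt N96541 (iv0 F417933)) (tt N66052 F417930) (tt N60627 F417931) (tt N101126 (iv4 F431812)) (tt N112487 (iv5 F481303)) (tt N60624 (iv6 D200795)) (tt N101082 (iv7 F431587)))
theorem Q97696 : ∀ i, i < 97696 → P i := stepQ 97695 Q97695 (allL N97695 (tt N60625 (iv1 D200796)) (tt N60632 F417934) (tt N60630 F417938) (tt N102400 (iv3 F437072)) (tt N65947 F417936) (tt N112295 (iv5 F480410)) (tt N65431 (iv6 F417937)) (tt N60629 F417935))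
theorem Q97697 : ∀ i, i < 97697 → P i := stepQ 97696 Q97696 (allL N97696 (tt N93980 F417942) (tt N108963 (iv0 F464694)) (tt N66055 F417939) (tt N110316 (iv3 F471005)) (tt N60628 (iv4 D200797)) (tt N65777 F417941) (tt N103440 F441648) (tt N66060 F417940))
theorem Q97698 : ∀ i, i < 97698 → P i := stepQ 97697 Q97697 (allL N97697 (tt N97553 F417947) (tt N97539 (iv0 F435986)) (tt N66056 F417943) (tt N60635 F417944) (tt N103440 (iv4 F441647)) (tt N102162 (iv5 F435983)) (tt N60628 (iv6 D200798)) (tt N90416 F417945))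
theorem Q97699 : ∀ i, i < 97699 → P i := stepQ 97698 Q97698 (allL N97698 (tt N65083 F417950) (tt N112073 (iv0 F479366)) (tt N112295 (iv2 F480408)) (tt N68053 F417948) (tt N78226 (iv4 F417951)) (tt N60630 (iv5 D200799)) (tt N68052 F417949) (tt N102765 (iv7 F438544)))
theorem Q97700 : ∀ i, i < 97700 → P i := stepQ 97699 Q97699 (allL N97699 (tt N81130 F417956) (tt N93270 F417957) (tt N112299 (iv2 F480429)) (tt N75354 F417955) (tt N60631 (iv4 D200800)) (tt N94497 (iv5 F417958)) (tt N108324 (iv6 F462064)) (tt N108296 F461947))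
theorem Q97701 : ∀ i, i < 97701 → P i := stepQ 97700 Q97700 (allL N97700 (tt N90415 (iv1 F417963)) (tt N88796 F417964) (tt N60644 F417959) (tt N105067 (iv3 F448639)) (tt N60636 F417960) (tt N89979 F417961) (tt N68634 F417962) (tt N60634 (iv7 D200801)))
theorem Q97702 : ∀ i, i < 97702 → P i := stepQ 97701 Q97701 (allL N97701 (tt N68633 (iv1 F417967)) (tt N60635 (iv0 D200802)) (tt N88646 (iv2 F417966)) (tt N68611 (iv3 F417969)) (tt N64604 F417965) (tt N111752 F477795) (tt N103302 (iv6 F441052)) (tt N88648 F417968))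
theorem Q97703 : ∀ i, i < 97703 → P i := stepQ 97702 Q97702 (allL N97702 (tt N111096 F474647) (tt N97534 F417973) (tt N67277 F417970) (tt N117701 (iv3 F506503)) (tt N80376 F417971) (tt N60637 (iv5 D200803)) (tt N67272 F417972) (tt N111972 (iv7 F478919)))
theorem Q97704 : ∀ i, i < 97704 → P i := stepQ 97703 Q97703 (allL N97703 (tt N72068 F417977) (tt N60650 F417978) (tt N71010 F417974) (tt N117700 (iv3 F506496)) (tt N71009 F417975) (tt N60639 (iv5 D200804)) (tt N82783 F417979) (tt N72066 F417976))
theorem Q97705 : ∀ i, i < 97705 → P i := stepQ 97704 Q97704 (allL N97704 (tt N71644 F417984) (tt N89978 F417983) (tt N89979 F417980) (tt N106998 (iv3 F456582)) (tt N94497 F417981) (tt N60644 (iv5 D200805)) (tt N89975 (iv6 F417985)) (tt N89079 F417982))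
theorem Q97706 : ∀ i, i < 97706 → P i := stepQ 97705 Q97705 (allL N97705 (tt N60646 (iv1 D200807)) (tt N79698 F417986) (tt N88325 F417990) (tt N85299 (iv3 F417988)) (tt N85324 F417992) (tt N79681 F417987) (tt N93049 (iv6 F417989)) (tt N86622 (iv7 F417991)))
theorem Q97707 : ∀ i, i < 97707 → P i := stepQ 97706 Q97706 (allL N97706 (tt N119450 D222709) (tt N119451 D222710) (tt N88326 F417994) (tt N119452 D222711) (tt N60646 (iv4 D200808)) (tt N104827 (iv5 F447490)) (tt N104340 (iv6 F445332)) (tt N119453 D222712))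
theorem Q97708 : ∀ i, i < 97708 → P i := stepQ 97707 Q97707 (allL N97707 (tt N88325 (iv1 F417998)) (tt N86622 F417999) (tt N79698 F417995) (tt N88323 F417996) (tt N119453 (iv4 F515705)) (tt N60647 F417997) (tt N112508 (iv6 F481422)) (tt N60646 (iv7 D200809)))
theorem Q97709 : ∀ i, i < 97709 → P i := stepQ 97708 Q97708 (allL N97708 (tt N88656 F418003) (tt N89476 (iv0 F418005)) (tt N60654 F418000) (tt N72151 F418001) (tt N107511 (iv4 F458593)) (tt N60648 (iv5 D200810)) (tt N89018 F418004) (tt N88773 F418002))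
theorem Q97710 : ∀ i, i < 97710 → P i := stepQ 97709 Q97709 (allL N97709 (tt N60658 (iv1 F418017)) (tt N60649 (iv0 D200811)) (tt N60656 (iv2 F418008)) (tt N65427 (iv3 F418009)) (tt N70909 F418006) (tt N102297 (iv5 F436609)) (tt N65426 F418007) (tt N60657 (iv7 F418010)))
theorem Q97711 : ∀ i, i < 97711 → P i := stepQ 97710 Q97710 (allL N97710 (tt N60649 (iv1 D200812)) (tt N60658 F418011) (tt N60657 F418014) (tt N92755 F418016) (tt N70908 (iv4 F418013)) (tt N102298 (iv5 F436611)) (tt N67335 F418015) (tt N60656 F418012))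
theorem Q97712 : ∀ i, i < 97712 → P i := stepQ 97711 Q97711 (allL N97711 (tt N60657 (iv1 F418022)) (tt N60656 F418023) (tt N60658 F418018) (tt N67506 F418019) (tt N88672 F418020) (tt N119397 (iv5 F515411)) (tt N67504 F418021) (tt N60649 (iv7 D200813)))
theorem Q97713 : ∀ i, i < 97713 → P i := stepQ 97712 Q97712 (allL N97712 (tt N71010 (iv1 F418030)) (tt N72066 F418029) (tt N60650 (iv2 D200814)) (tt N65900 F418024) (tt N83297 F418025) (tt N65899 F418026) (tt N82978 F418027) (tt N72068 F418028))
theorem Q97714 : ∀ i, i < 97714 → P i := stepQ 97713 Q97713 (allL N97713 (tt N107008 F456631) (tt N107036 F466910) (tt N107035 F456730) (tt N60653 (iv3 D200815)) (tt N104593 (iv4 F446448)) (tt N89498 F418031) (tt N88742 F418032) (tt N84018 F418033))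
theorem Q97715 : ∀ i, i < 97715 → P i := stepQ 97714 Q97714 (allL N97714 (tt N89481 F418035) (tt N94497 F418036) (tt N107511 (iv2 F458596)) (tt N110842 (iv3 F473417)) (tt N60654 (iv4 D200816)) (tt N116583 (iv5 F500845)) (tt N86164 (iv6 F455479)) (tt N117728 (iv7 F506657)))
theorem Q97716 : ∀ i, i < 97716 → P i := stepQ 97715 Q97715 (allL N97715 (tt N102749 F438483) (tt N105994 (iv0 F452668)) (tt N105996 (iv2 F452676)) (tt N72526 F418037) (tt N71622 F418039) (tt N60655 (iv5 D200817)) (tt N89555 F418038) (tt N106468 (iv7 F454581)))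
theorem Q97717 : ∀ i, i < 97717 → P i := stepQ 97716 Q97716 (allL N97716 (tt N83982 (iv1 F418042)) (tt N88673 F418043) (tt N88672 F418040) (tt N106079 (iv3 F453026)) (tt N60658 F418041) (tt N106468 (iv5 F454579)) (tt N105251 F449395) (tt N60655 (iv7 D200818)))
theorem Q97718 : ∀ i, i < 97718 → P i := stepQ 97717 Q97717 (allL N97717 (tt N82783 (iv1 F418049)) (tt N82782 (iv0 F418050)) (tt N82785 F418045) (tt N60657 (iv3 D200819)) (tt N82755 F418046) (tt N102159 (iv5 F435970)) (tt N78408 F418047) (tt N65427 F418048))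
theorem Q97719 : ∀ i, i < 97719 → P i := stepQ 97718 Q97718 (allL N97718 (tt N91110 F418051) (tt N93024 F418052) (tt N102298 F436613) (tt N102159 F435971) (tt N119454 D222713) (tt N60657 (iv5 D200820)) (tt N119390 (iv6 F515382)) (tt N102297 F436610))
theorem Q97720 : ∀ i, i < 97720 → P i := stepQ 97719 Q97719 (allL N97719 (tt N103290 (iv1 F441010)) (tt N60661 (iv0 D200821)) (tt N103306 (iv2 F441064)) (tt N79888 (iv3 F418054)) (tt N105463 (iv4 F450355)) (tt N79371 F418053) (tt N97533 (iv6 F418055)) (tt N105931 (iv7 F452401)))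
theorem Q97721 : ∀ i, i < 97721 → P i := stepQ 97720 Q97720 (allL N97720 (tt N60661 (iv1 D200822)) (tt N103290 (iv0 F441009)) (tt N105931 (iv2 F452398)) (tt N68933 (iv3 F418057)) (tt N87670 F418056) (tt N103431 (iv5 F441602)) (tt N78412 (iv6 F418058)) (tt N103306 (iv7 F441067)))
theorem Q97722 : ∀ i, i < 97722 → P i := stepQ 97721 Q97721 (allL N97721 (tt N102891 (iv1 F439136)) (tt N66484 F418061) (tt N60663 F418059) (tt N96988 F418062) (tt N60662 (iv4 D200823)) (tt N95937 F418060) (tt N96986 (iv6 F418063)) (tt N102887 (iv7 F439111)))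
theorem Q97723 : ∀ i, i < 97723 → P i := stepQ 97722 Q97722 (allL N97722 (tt N68011 F418068) (tt N67992 (iv0 F418070)) (tt N60664 F418066) (tt N102928 (iv3 F439302)) (tt N96986 F418067) (tt N104300 (iv5 F445133)) (tt N60662 (iv6 D200824)) (tt N68009 (iv7 F418069)))
theorem Q97724 : ∀ i, i < 97724 → P i := stepQ 97723 Q97723 (allL N97723 (tt N102887 F439114) (tt N60663 (iv0 D200825)) (tt N102891 (iv2 F439141)) (tt N66257 F418071) (tt N103444 (iv4 F441666)) (tt N106430 (iv5 F454396)) (tt N70109 (iv6 F418072)) (tt N66484 (iv7 F418073)))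
theorem Q97725 : ∀ i, i < 97725 → P i := stepQ 97724 Q97724 (allL N97724 (tt N60663 (iv1 D200826)) (tt N102887 (iv0 F439112)) (tt N66484 F418077) (tt N106435 (iv3 F454419)) (tt N97541 (iv4 F418075)) (tt N86354 F418074) (tt N66482 (iv6 F418076)) (tt N102891 (iv7 F439137)))
theorem Q97726 : ∀ i, i < 97726 → P i := stepQ 97725 Q97725 (allL N97725 (tt N84088 F418081) (tt N103140 (iv0 F440262)) (tt N96986 F418078) (tt N60784 F418079) (tt N60664 F418080) (tt N102280 (iv5 F436532)) (tt N60663 (iv6 D200827)) (tt N103426 (iv7 F441575)))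
theorem Q97727 : ∀ i, i < 97727 → P i := stepQ 97726 Q97726 (allL N97726 (tt N68009 (iv1 F418088)) (tt N60664 (iv0 D200828)) (tt N68011 (iv2 F418086)) (tt N72098 F418083) (tt N67912 F418084) (tt N103358 (iv5 F441267)) (tt N67991 F418085) (tt N67992 F418087))
theorem Q97728 : ∀ i, i < 97728 → P i := stepQ 97727 Q97727 (allL N97727 (tt N67992 (iv1 F418092)) (tt N68011 F418093) (tt N68009 F418089) (tt N60665 F418090) (tt N103426 F441577) (tt N92929 F418091) (tt N102893 (iv6 F439151)) (tt N60664 (iv7 D200829)))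
theorem Q97729 : ∀ i, i < 97729 → P i := stepQ 97728 Q97728 (allL N97728 (tt N102915 (iv1 F439254)) (tt N102914 F439247) (tt N60667 F418094) (tt N103815 (iv3 F442938)) (tt N60666 (iv4 D200830)) (tt N98648 (iv5 F421727)) (tt N103813 F442936) (tt N102916 (iv7 F439257)))
theorem Q97730 : ∀ i, i < 97730 → P i := stepQ 97729 Q97729 (allL N97729 (tt N102916 (iv1 F439258)) (tt N60667 (iv0 D200831)) (tt N102915 (iv2 F439251)) (tt N93665 (iv3 F418096)) (tt N93668 F418095) (tt N119447 (iv5 F515665)) (tt N119455 D222714) (tt N102914 F439249))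
theorem Q97731 : ∀ i, i < 97731 → P i := stepQ 97730 Q97730 (allL N97730 (tt N60667 (iv1 D200832)) (tt N102916 F439259) (tt N102914 F439255) (tt N106517 (iv3 F454741)) (tt N97505 F418097) (tt N119026 (iv5 F513355)) (tt N119456 D222715) (tt N102915 (iv7 F439252)))
theorem Q97732 : ∀ i, i < 97732 → P i := stepQ 97731 Q97731 (allL N97731 (tt N98707 F421945) (tt N67120 F418099) (tt N98648 (iv2 F421726)) (tt N60733 F418098) (tt N78775 (iv4 F418100)) (tt N60667 (iv5 D200833)) (tt N103750 (iv6 F442667)) (tt N98650 (iv7 F421736)))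
theorem Q97733 : ∀ i, i < 97733 → P i := stepQ 97732 Q97732 (allL N97732 (tt N66179 F418103) (tt N102574 (iv0 F437723)) (tt N103813 (iv2 F442931)) (tt N60734 F418101) (tt N60668 F418102) (tt N103479 (iv5 F441800)) (tt N60667 (iv6 D200834)) (tt N104433 (iv7 F445739)))
theorem Q97734 : ∀ i, i < 97734 → P i := stepQ 97733 Q97733 (allL N97733 (tt N67495 (iv1 F421211)) (tt N103332 (iv0 F441174)) (tt N67377 F418104) (tt N93044 F418105) (tt N119457 D222716) (tt N60670 (iv5 D200835)) (tt N67196 (iv6 F418107)) (tt N93035 F418106))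
theorem Q97735 : ∀ i, i < 97735 → P i := stepQ 97734 Q97734 (allL N97734 (tt N60671 (iv1 D200836)) (tt N102900 F439182) (tt N102898 (iv2 F439176)) (tt N104359 F445421) (tt N119418 (iv4 F515514)) (tt N97665 (iv5 F418110)) (tt N87912 (iv6 F418109)) (tt N102897 F439175))
theorem Q97736 : ∀ i, i < 97736 → P i := stepQ 97735 Q97735 (allL N97735 (tt N119458 D222717) (tt N118021 (iv0 F508132)) (tt N102899 (iv2 F439178)) (tt N104555 (iv3 F446239)) (tt N60671 (iv4 D200837)) (tt N119459 D222718) (tt N60771 F418111) (tt N119460 D222719))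
theorem Q97737 : ∀ i, i < 97737 → P i := stepQ 97736 Q97736 (allL N97736 (tt N102898 (iv1 F439170)) (tt N102897 F439177) (tt N102900 (iv2 F439180)) (tt N93221 F418112) (tt N119460 (iv4 F515734)) (tt N60672 F418113) (tt N98010 (iv6 F419157)) (tt N60671 (iv7 D200838)))
theorem Q97738 : ∀ i, i < 97738 → P i := stepQ 97737 Q97737 (allL N97737 (tt N101708 (iv1 F433985)) (tt N60673 (iv0 D200839)) (tt N104809 (iv2 F447396)) (tt N82782 F418114) (tt N68029 (iv4 F436147)) (tt N102199 (iv5 F436146)) (tt N68027 F436148) (tt N102889 (iv7 F439127)))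
theorem Q97739 : ∀ i, i < 97739 → P i := stepQ 97738 Q97738 (allL N97738 (tt N104809 F447401) (tt N102889 F439129) (tt N60673 (iv2 D200840)) (tt N117705 (iv3 F506529)) (tt N66444 (iv4 F418118)) (tt N118909 (iv5 F512697)) (tt N104787 F447275) (tt N101708 (iv7 F433984)))
theorem Q97740 : ∀ i, i < 97740 → P i := stepQ 97739 Q97739 (allL N97739 (tt N66261 F418119) (tt N66482 F418120) (tt N66444 F418117) (tt N105713 (iv3 F451376)) (tt N60673 (iv4 D200841)) (tt N66243 (iv5 F418116)) (tt N104794 (iv6 F447305)) (tt N66448 F418115))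
theorem Q97741 : ∀ i, i < 97741 → P i := stepQ 97740 Q97740 (allL N97740 (tt N118908 (iv1 F512690)) (tt N118907 (iv0 F512689)) (tt N118909 (iv2 F512694)) (tt N60674 F418121) (tt N119461 D222720) (tt N60673 (iv5 D200842)) (tt N115779 (iv6 F496827)) (tt N102187 F436093))
theorem Q97742 : ∀ i, i < 97742 → P i := stepQ 97741 Q97741 (allL N97741 (tt N60674 (iv1 D200843)) (tt N60677 F418122) (tt N102147 (iv2 F435938)) (tt N91110 (iv3 F418125)) (tt N102129 (iv4 F435871)) (tt N91109 F418124) (tt N93029 (iv6 F418123)) (tt N104314 (iv7 F445197)))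
theorem Q97743 : ∀ i, i < 97743 → P i := stepQ 97742 Q97742 (allL N97742 (tt N117995 (iv1 F507981)) (tt N65709 (iv0 F435855)) (tt N117707 (iv2 F506538)) (tt N119462 D222721) (tt N60674 (iv4 D200844)) (tt N102231 (iv5 F436283)) (tt N104422 F445685) (tt N117708 (iv7 F506546)))
theorem Q97744 : ∀ i, i < 97744 → P i := stepQ 97743 Q97743 (allL N97743 (tt N60676 (iv1 D200845)) (tt N117705 F506534) (tt N92729 F418128) (tt N92756 (iv3 F418126)) (tt N117931 (iv4 F507659)) (tt N65539 (iv5 F418127)) (tt N117738 F506719) (tt N102208 (iv7 F436193)))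
theorem Q97745 : ∀ i, i < 97745 → P i := stepQ 97744 Q97744 (allL N97744 (tt N119455 F515717) (tt N119463 D222722) (tt N119281 (iv2 F514800)) (tt N118001 (iv3 F508014)) (tt N60676 (iv4 D200846)) (tt N92692 F418129) (tt N97856 (iv6 F418532)) (tt N117706 (iv7 F506536)))
theorem Q97746 : ∀ i, i < 97746 → P i := stepQ 97745 Q97745 (allL N97745 (tt N65709 F435980) (tt N117995 (iv0 F507982)) (tt N117708 (iv2 F506544)) (tt N113042 F483689) (tt N60677 (iv4 D200847)) (tt N102232 F436285) (tt N97000 F418130) (tt N117707 (iv7 F506539)))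
theorem Q97747 : ∀ i, i < 97747 → P i := stepQ 97746 Q97746 (allL N97746 (tt N91042 (iv1 F418134)) (tt N60678 (iv0 D200848)) (tt N67179 (iv2 F418133)) (tt N67331 (iv3 F418136)) (tt N85998 F418131) (tt N102080 (iv5 F435631)) (tt N67177 F418132) (tt N83985 F418135))
theorem Q97748 : ∀ i, i < 97748 → P i := stepQ 97747 Q97747 (allL N97747 (tt N82021 F418140) (tt N111848 (iv0 F478293)) (tt N111849 F478300) (tt N60681 F418138) (tt N96723 F418139) (tt N80097 F418141) (tt N60679 (iv6 D200849)) (tt N111850 (iv7 F478303)))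
theorem Q97749 : ∀ i, i < 97749 → P i := stepQ 97748 Q97748 (allL N97748 (tt N60683 (iv1 F418144)) (tt N60680 (iv0 D200850)) (tt N97521 F418146) (tt N67196 F418147) (tt N118120 (iv4 F508712)) (tt N92052 F418143) (tt N93044 (iv6 F418145)) (tt N67378 F418148))
theorem Q97750 : ∀ i, i < 97750 → P i := stepQ 97749 Q97749 (allL N97749 (tt N60680 (iv1 D200851)) (tt N60683 F418149) (tt N67378 (iv2 F418154)) (tt N67438 (iv3 F418152)) (tt N102473 (iv4 F437352)) (tt N65606 F418151) (tt N93061 F418153) (tt N97521 F418150))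
theorem Q97751 : ∀ i, i < 97751 → P i := stepQ 97750 Q97750 (allL N97750 (tt N102901 (iv1 F439188)) (tt N88670 F418157) (tt N102251 (iv2 F436372)) (tt N67205 F418155) (tt N103763 (iv4 F442726)) (tt N91808 (iv5 F418156)) (tt N60680 (iv6 D200852)) (tt N115764 (iv7 F496741)))
theorem Q97752 : ∀ i, i < 97752 → P i := stepQ 97751 Q97751 (allL N97751 (tt N65648 F418163) (tt N65646 F418164) (tt N97482 F418158) (tt N80097 F418159) (tt N91809 F418160) (tt N60681 (iv5 D200853)) (tt N91808 F418161) (tt N97481 F418162))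
theorem Q97753 : ∀ i, i < 97753 → P i := stepQ 97752 Q97752 (allL N97752 (tt N88705 F418171) (tt N115834 F497146) (tt N117709 (iv2 F506550)) (tt N97490 F418169) (tt N104613 (iv4 F446540)) (tt N112857 (iv5 F482996)) (tt N60686 (iv6 D200855)) (tt N97488 F418170))
theorem Q97754 : ∀ i, i < 97754 → P i := stepQ 97753 Q97753 (allL N97753 (tt N97755 (iv1 F418183)) (tt N60687 (iv0 D200856)) (tt N102392 (iv2 F437028)) (tt N67622 (iv3 F418173)) (tt N65819 F418172) (tt N93230 (iv5 F418174)) (tt N119435 (iv6 F515611)) (tt N102394 (iv7 F437042)))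
theorem Q97755 : ∀ i, i < 97755 → P i := stepQ 97754 Q97754 (allL N97754 (tt N60687 (iv1 D200857)) (tt N97755 (iv0 F418182)) (tt N102394 (iv2 F437039)) (tt N67521 (iv3 F418176)) (tt N65818 F418175) (tt N93227 (iv5 F418177)) (tt N87846 (iv6 F418178)) (tt N102392 (iv7 F437030)))
theorem Q97756 : ∀ i, i < 97756 → P i := stepQ 97755 Q97755 (allL N97755 (tt N97754 F418182) (tt N97753 F418183) (tt N97478 F418179) (tt N102478 F437373) (tt N65658 F418181) (tt N60687 (iv5 D200858)) (tt N119464 D222723) (tt N92112 F418180))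
theorem Q97757 : ∀ i, i < 97757 → P i := stepQ 97756 Q97756 (allL N97756 (tt N67980 F418186) (tt N67978 (iv0 F418187)) (tt N104563 (iv2 F446282)) (tt N60690 (iv3 D200859)) (tt N67455 F418184) (tt N67599 F418185) (tt N102030 (iv6 F435443)) (tt N104564 (iv7 F446292)))
theorem Q97758 : ∀ i, i < 97758 → P i := stepQ 97757 Q97757 (allL N97757 (tt N102413 (iv1 F437133)) (tt N100737 F430234) (tt N79754 F418188) (tt N60692 F418189) (tt N79750 F418190) (tt N116221 (iv5 F499093)) (tt N60691 (iv6 D200860)) (tt N79757 (iv7 F418191)))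
theorem Q97759 : ∀ i, i < 97759 → P i := stepQ 97758 Q97758 (allL N97758 (tt N97524 F418195) (tt N74660 (iv0 F418196)) (tt N72906 F418192) (tt N97532 F418193) (tt N60695 (iv4 D200861)) (tt N102366 (iv5 F436927)) (tt N103436 (iv6 F441627)) (tt N72902 F418194))
theorem Q97760 : ∀ i, i < 97760 → P i := stepQ 97759 Q97759 (allL N97759 (tt N112138 (iv1 F479693)) (tt N96784 (iv0 F418199)) (tt N72908 F418197) (tt N112140 (iv3 F479704)) (tt N103436 (iv4 F441628)) (tt N97593 F418198) (tt N60695 (iv6 D200862)) (tt N101128 (iv7 F431824)))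
theorem Q97761 : ∀ i, i < 97761 → P i := stepQ 97760 Q97760 (allL N97760 (tt N101545 F433334) (tt N111700 (iv0 F477567)) (tt N60698 F418200) (tt N111712 (iv3 F477613)) (tt N60709 F418201) (tt N119465 D222724) (tt N60697 (iv6 D200863)) (tt N118740 (iv7 F511832)))
theorem Q97762 : ∀ i, i < 97762 → P i := stepQ 97761 Q97761 (allL N97761 (tt N118740 (iv1 F511833)) (tt N60698 (iv0 D200864)) (tt N101545 (iv2 F433330)) (tt N82397 F418203) (tt N82399 F418202) (tt N119217 (iv5 F514419)) (tt N102017 (iv6 F435360)) (tt N111700 (iv7 F477566)))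
theorem Q97763 : ∀ i, i < 97763 → P i := stepQ 97762 Q97762 (allL N97762 (tt N60698 (iv1 D200865)) (tt N118740 F511834) (tt N111700 (iv2 F477563)) (tt N63884 (iv3 F418205)) (tt N87777 (iv4 F418204)) (tt N119216 (iv5 F514411)) (tt N112130 (iv6 F479648)) (tt N101545 (iv7 F433332)))
theorem Q97764 : ∀ i, i < 97764 → P i := stepQ 97763 Q97763 (allL N97763 (tt N96657 F418209) (tt N96659 (iv0 F418211)) (tt N119465 (iv2 F515757)) (tt N60699 F418206) (tt N87561 F418208) (tt N60698 (iv5 D200866)) (tt N118694 (iv6 F511581)) (tt N87560 F418207))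
theorem Q97765 : ∀ i, i < 97765 → P i := stepQ 97764 Q97764 (allL N97764 (tt N94895 F418212) (tt N94897 F418213) (tt N118133 (iv2 F508775)) (tt N119466 D222725) (tt N60699 (iv4 D200867)) (tt N119182 (iv5 F514234)) (tt N108216 F461533) (tt N111420 F476275))
theorem Q97766 : ∀ i, i < 97766 → P i := stepQ 97765 Q97765 (allL N97765 (tt N103432 F441608) (tt N81732 (iv0 F418218)) (tt N96450 F418214) (tt N60704 F418215) (tt N93841 F418216) (tt N79551 (iv5 F418217)) (tt N60701 (iv6 D200868)) (tt N100799 (iv7 F430527)))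
theorem Q97767 : ∀ i, i < 97767 → P i := stepQ 97766 Q97766 (allL N97766 (tt N60702 (iv1 D200869)) (tt N60706 F418219) (tt N94835 (iv2 F418221)) (tt N72897 (iv3 F418222)) (tt N107740 (iv4 F459490)) (tt N113320 (iv5 F485012)) (tt N100743 (iv6 F430260)) (tt N94827 F418220))
theorem Q97768 : ∀ i, i < 97768 → P i := stepQ 97767 Q97767 (allL N97767 (tt N94818 F418227) (tt N94846 F418228) (tt N94686 F418223) (tt N60702 (iv3 D200870)) (tt N93842 F418224) (tt N76237 F418225) (tt N80995 (iv6 F418229)) (tt N94847 F418226))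
theorem Q97769 : ∀ i, i < 97769 → P i := stepQ 97768 Q97768 (allL N97768 (tt N101120 F431776) (tt N112485 (iv0 F481296)) (tt N94837 F418230) (tt N80995 F418231) (tt N60704 F418232) (tt N96531 F418233) (tt N60702 (iv6 D200871)) (tt N96542 (iv7 F418234)))
theorem Q97770 : ∀ i, i < 97770 → P i := stepQ 97769 Q97769 (allL N97769 (tt N102886 (iv1 F439108)) (tt N60704 (iv0 D200872)) (tt N74644 (iv2 F418236)) (tt N117710 (iv3 F506559)) (tt N112138 (iv4 F479695)) (tt N97586 F418237) (tt N67478 F418235) (tt N81737 F418238))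
theorem Q97771 : ∀ i, i < 97771 → P i := stepQ 97770 Q97770 (allL N97770 (tt N112290 (iv1 F480389)) (tt N65671 F418242) (tt N102030 (iv2 F435440)) (tt N79551 F418241) (tt N94843 F418243) (tt N60704 (iv5 D200873)) (tt N104563 (iv6 F446283)) (tt N112501 (iv7 F481384)))
theorem Q97772 : ∀ i, i < 97772 → P i := stepQ 97771 Q97771 (allL N97771 (tt N81737 (iv1 F418245)) (tt N74644 F418246) (tt N102886 (iv2 F439103)) (tt N100799 (iv3 F430524)) (tt N96542 F418244) (tt N112501 (iv5 F481383)) (tt N100798 F430523) (tt N60704 (iv7 D200874)))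
theorem Q97773 : ∀ i, i < 97773 → P i := stepQ 97772 Q97772 (allL N97772 (tt N96449 (iv1 F418248)) (tt N60705 (iv0 D200875)) (tt N102025 (iv2 F435405)) (tt N111816 (iv3 F478126)) (tt N94781 F418247) (tt N117703 (iv5 F506517)) (tt N67480 (iv6 F418249)) (tt N102023 (iv7 F435399)))
theorem Q97774 : ∀ i, i < 97774 → P i := stepQ 97773 Q97773 (allL N97773 (tt N102025 (iv1 F435410)) (tt N102023 (iv0 F435400)) (tt N60705 (iv2 D200877)) (tt N86941 F418250) (tt N65584 (iv4 F418253)) (tt N86965 (iv5 F418254)) (tt N86939 (iv6 F418255)) (tt N96449 F418251))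
theorem Q97775 : ∀ i, i < 97775 → P i := stepQ 97774 Q97774 (allL N97774 (tt N67487 F418259) (tt N93973 (iv0 F418260)) (tt N65584 F418256) (tt N94684 F418257) (tt N60705 (iv4 D200878)) (tt N95813 F418261) (tt N117985 (iv6 F507921)) (tt N94839 F418258))
theorem Q97776 : ∀ i, i < 97776 → P i := stepQ 97775 Q97775 (allL N97775 (tt N104284 F445096) (tt N67303 F418265) (tt N86965 F418262) (tt N60707 F418263) (tt N117962 (iv4 F507806)) (tt N60705 (iv5 D200879)) (tt N86962 F418266) (tt N97657 F418264))
theorem Q97777 : ∀ i, i < 97777 → P i := stepQ 97776 Q97776 (allL N97776 (tt N102096 (iv1 F435704)) (tt N102104 F435745) (tt N86939 F418267) (tt N60708 F418268) (tt N117985 (iv4 F507920)) (tt N86938 F418269) (tt N60705 (iv6 D200880)) (tt N102103 F435737))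
theorem Q97778 : ∀ i, i < 97778 → P i := stepQ 97777 Q97777 (allL N97777 (tt N60708 (iv1 D200881)) (tt N100798 (iv0 F430522)) (tt N97115 F418272) (tt N91953 (iv3 F418271)) (tt N107819 F459839) (tt N82019 F418270) (tt N102055 (iv6 F435536)) (tt N101976 (iv7 F435182)))
theorem Q97779 : ∀ i, i < 97779 → P i := stepQ 97778 Q97778 (allL N97778 (tt N97115 (iv1 F418273)) (tt N101976 (iv0 F435180)) (tt N100798 (iv2 F430518)) (tt N102103 (iv3 F435738)) (tt N107916 (iv4 F460270)) (tt N100797 (iv5 F430517)) (tt N102886 (iv6 F439106)) (tt N60708 (iv7 D200882)))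
theorem Q97780 : ∀ i, i < 97780 → P i := stepQ 97779 Q97779 (allL N97779 (tt N60709 (iv1 D200884)) (tt N60713 F418274) (tt N60711 F418276) (tt N80416 F418277) (tt N93469 F418278) (tt N102934 (iv5 F439325)) (tt N67479 (iv6 F418275)) (tt N60710 (iv7 F418279)))
theorem Q97781 : ∀ i, i < 97781 → P i := stepQ 97780 Q97780 (allL N97780 (tt N118316 F509670) (tt N115400 F495006) (tt N60712 F418282) (tt N86963 F418283) (tt N87552 F418284) (tt N60709 (iv5 D200885)) (tt N104300 (iv6 F445134)) (tt N115798 (iv7 F496946)))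
theorem Q97782 : ∀ i, i < 97782 → P i := stepQ 97781 Q97781 (allL N97781 (tt N60711 (iv1 F418287)) (tt N60710 F418288) (tt N60713 F418285) (tt N82380 F418286) (tt N118740 (iv4 F511829)) (tt N115798 (iv5 F496944)) (tt N102048 F435504) (tt N60709 (iv7 D200886)))
theorem Q97783 : ∀ i, i < 97783 → P i := stepQ 97782 Q97782 (allL N97782 (tt N115798 F496949) (tt N60712 (iv0 D200887)) (tt N118316 (iv2 F509664)) (tt N82804 F474226) (tt N118007 (iv4 F508055)) (tt N96650 F474224) (tt N102407 (iv6 F474225)) (tt N115400 (iv7 F495004)))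
theorem Q97784 : ∀ i, i < 97784 → P i := stepQ 97783 Q97783 (allL N97783 (tt N60712 (iv1 D200888)) (tt N115798 F496948) (tt N115400 F495007) (tt N119467 D222726) (tt N117988 (iv4 F507932)) (tt N96651 (iv5 F418289)) (tt N67260 (iv6 F418290)) (tt N118316 (iv7 F509668)))
theorem Q97785 : ∀ i, i < 97785 → P i := stepQ 97784 Q97784 (allL N97784 (tt N98004 (iv1 F419141)) (tt N61698 (iv0 F418295)) (tt N97913 (iv2 F418770)) (tt N66661 F418291) (tt N66672 F418292) (tt N60718 (iv5 D200889)) (tt N66659 F418293) (tt N97915 (iv7 F418785)))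
theorem Q97786 : ∀ i, i < 97786 → P i := stepQ 97785 Q97785 (allL N97785 (tt N92134 F418297) (tt N97920 F418809) (tt N97914 (iv2 F418775)) (tt N74855 F418296) (tt N102015 (iv4 F435353)) (tt N78798 F418298) (tt N60718 (iv6 D200890)) (tt N97918 F418802))
theorem Q97787 : ∀ i, i < 97787 → P i := stepQ 97786 Q97786 (allL N97786 (tt N71779 F418300) (tt N97933 F418854) (tt N97932 (iv2 F418849)) (tt N60719 (iv3 D200891)) (tt N77208 F418299) (tt N84251 (iv5 F418301)) (tt N77215 F418302) (tt N97912 (iv7 F418767)))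
theorem Q97788 : ∀ i, i < 97788 → P i := stepQ 97787 Q97787 (allL N97787 (tt N61698 F418305) (tt N98004 (iv0 F419140)) (tt N97915 (iv2 F418783)) (tt N84251 F418303) (tt N71826 F418304) (tt N60719 (iv5 D200892)) (tt N71833 F418306) (tt N97913 (iv7 F418772)))
theorem Q97789 : ∀ i, i < 97789 → P i := stepQ 97788 Q97788 (allL N97788 (tt N92239 (iv1 F418310)) (tt N92135 (iv0 F418309)) (tt N97916 (iv2 F418792)) (tt N77215 F418307) (tt N77235 F418308) (tt N97988 (iv5 F419079)) (tt N60719 (iv6 D200893)) (tt N97936 (iv7 F418862)))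
theorem Q97790 : ∀ i, i < 97790 → P i := stepQ 97789 Q97789 (allL N97789 (tt N97864 F418579) (tt N61017 F418314) (tt N81438 F418311) (tt N74779 F418312) (tt N100647 (iv4 F429830)) (tt N60721 (iv5 D200894)) (tt N79953 F418315) (tt N78843 F418313))
theorem Q97791 : ∀ i, i < 97791 → P i := stepQ 97790 Q97790 (allL N97790 (tt N92131 F418318) (tt N97891 F418681) (tt N97879 (iv2 F418638)) (tt N70443 F418316) (tt N67293 F418317) (tt N92795 F418319) (tt N60721 (iv6 D200895)) (tt N97889 F418675))
theorem Q97792 : ∀ i, i < 97792 → P i := stepQ 97791 Q97791 (allL N97791 (tt N92844 (iv1 F418323)) (tt N66633 (iv0 F418322)) (tt N97880 (iv2 F418647)) (tt N68193 F418320) (tt N67295 F418321) (tt N97817 (iv5 F418409)) (tt N60722 (iv6 D200896)) (tt N97907 (iv7 F418751)))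
theorem Q97793 : ∀ i, i < 97793 → P i := stepQ 97792 Q97792 (allL N97792 (tt N119468 D222727) (tt N119469 D222728) (tt N103815 (iv2 F442937)) (tt N60724 (iv3 D200897)) (tt N101833 (iv4 F434573)) (tt N75585 F418324) (tt N103806 (iv6 F442902)) (tt N102910 (iv7 F439226)))
theorem Q97794 : ∀ i, i < 97794 → P i := stepQ 97793 Q97793 (allL N97793 (tt N66204 F418328) (tt N102511 F437479) (tt N60734 F418325) (tt N103806 (iv3 F442901)) (tt N60725 F418326) (tt N68965 F418327) (tt N60724 (iv6 D200898)) (tt N102509 (iv7 F437473)))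
theorem Q97795 : ∀ i, i < 97795 → P i := stepQ 97794 Q97794 (allL N97794 (tt N76664 F418332) (tt N85304 (iv0 F418331)) (tt N60736 F418329) (tt N104765 (iv3 F447165)) (tt N101035 (iv4 F431389)) (tt N60725 (iv5 D200899)) (tt N60726 F418330) (tt N101034 F431384))
theorem Q97796 : ∀ i, i < 97796 → P i := stepQ 97795 Q97795 (allL N97795 (tt N61334 F418335) (tt N60907 F418336) (tt N60738 F418333) (tt N95021 (iv3 F418337)) (tt N60726 (iv4 D200900)) (tt N109892 (iv5 F469098)) (tt N101035 (iv6 F431391)) (tt N61463 F418334))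
theorem Q97797 : ∀ i, i < 97797 → P i := stepQ 97796 Q97796 (allL N97796 (tt N95987 F418340) (tt N71493 F418341) (tt N107007 (iv2 F456625)) (tt N60727 (iv3 D200901)) (tt N96128 F418338) (tt N96142 (iv5 F418342)) (tt N111253 F475452) (tt N75060 F418339))
theorem Q97798 : ∀ i, i < 97798 → P i := stepQ 97797 Q97797 (allL N97797 (tt N97945 (iv1 F418910)) (tt N97944 (iv0 F418906)) (tt N75065 F418343) (tt N96142 F418344) (tt N62760 F418346) (tt N60727 (iv5 D200902)) (tt N119470 D222729) (tt N75061 F418345))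
theorem Q97799 : ∀ i, i < 97799 → P i := stepQ 97798 Q97798 (allL N97798 (tt N109129 (iv1 F465468)) (tt N109131 F465480) (tt N75066 F418347) (tt N111253 (iv3 F475454)) (tt N60728 F418348) (tt N119471 D222730) (tt N60727 (iv6 D200903)) (tt N105859 (iv7 F452055)))
theorem Q97800 : ∀ i, i < 97800 → P i := stepQ 97799 Q97799 (allL N97799 (tt N75069 (iv1 F418353)) (tt N60728 (iv0 D200904)) (tt N75067 (iv2 F418350)) (tt N91041 F418351) (tt N119472 D222731) (tt N105801 F451788) (tt N69368 F418349) (tt N75068 F418352))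
theorem Q97801 : ∀ i, i < 97801 → P i := stepQ 97800 Q97800 (allL N97800 (tt N105670 F451180) (tt N105672 (iv0 F451188)) (tt N63471 F418354) (tt N61160 F418355) (tt N116512 (iv4 F500544)) (tt N60728 (iv5 D200905)) (tt N60794 F418356) (tt N115054 (iv7 F493253)))
theorem Q97802 : ∀ i, i < 97802 → P i := stepQ 97801 Q97801 (allL N97801 (tt N75068 (iv1 F418359)) (tt N75067 F418360) (tt N75069 F418357) (tt N114054 F488374) (tt N105859 (iv4 F452054)) (tt N115054 (iv5 F493252)) (tt N75063 F418358) (tt N60728 (iv7 D200906)))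
theorem Q97803 : ∀ i, i < 97803 → P i := stepQ 97802 Q97802 (allL N97802 (tt N107070 F456848) (tt N88762 (iv0 F456671)) (tt N107013 (iv2 F456644)) (tt N60729 (iv3 D200907)) (tt N107021 (iv4 F456666)) (tt N118701 (iv5 F511620)) (tt N105855 (iv6 F452050)) (tt N75064 F418361))
theorem Q97804 : ∀ i, i < 97804 → P i := stepQ 97803 Q97803 (allL N97803 (tt N97944 (iv1 F418907)) (tt N97945 (iv0 F418909)) (tt N75061 F418362) (tt N118701 (iv3 F511619)) (tt N62759 F418363) (tt N60729 (iv5 D200908)) (tt N115332 F494639) (tt N75065 F418364))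
theorem Q97805 : ∀ i, i < 97805 → P i := stepQ 97804 Q97804 (allL N97804 (tt N104752 F508020) (tt N119473 D222732) (tt N109027 (iv2 F464990)) (tt N60731 (iv3 D200909)) (tt N74839 F418365) (tt N119474 D222733) (tt N109026 F464989) (tt N75022 F418366))
theorem Q97806 : ∀ i, i < 97806 → P i := stepQ 97805 Q97805 (allL N97805 (tt N62761 F418370) (tt N60801 F418371) (tt N75033 F418367) (tt N119474 (iv3 F515802)) (tt N62743 F418369) (tt N60731 (iv5 D200910)) (tt N119474 (iv6 F515803)) (tt N75023 F418368))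
theorem Q97807 : ∀ i, i < 97807 → P i := stepQ 97806 Q97806 (allL N97806 (tt N119472 (iv1 F515796)) (tt N118001 (iv0 F508018)) (tt N75039 F418373) (tt N109026 (iv3 F464987)) (tt N62736 F418374) (tt N109026 (iv5 F464988)) (tt N60731 (iv6 D200911)) (tt N105945 (iv7 F452450)))
theorem Q97808 : ∀ i, i < 97808 → P i := stepQ 97807 Q97807 (allL N97807 (tt N109028 (iv1 F464993)) (tt N103876 F443180) (tt N109030 (iv2 F465001)) (tt N60732 (iv3 D200912)) (tt N97899 (iv4 F418712)) (tt N119136 (iv5 F513983)) (tt N102505 F437462) (tt N75038 F418375))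
theorem Q97809 : ∀ i, i < 97809 → P i := stepQ 97808 Q97808 (allL N97808 (tt N60801 F418379) (tt N62761 F418380) (tt N75023 F418376) (tt N119136 (iv3 F513981)) (tt N62739 F418377) (tt N60732 (iv5 D200913)) (tt N88964 (iv6 F418381)) (tt N75033 F418378))
theorem Q97810 : ∀ i, i < 97810 → P i := stepQ 97809 Q97809 (allL N97809 (tt N60734 (iv1 D200914)) (tt N102509 F437474) (tt N102511 (iv2 F437477)) (tt N85051 (iv3 F418383)) (tt N70704 F418384) (tt N102608 (iv5 F437882)) (tt N87847 (iv6 F418385)) (tt N66204 F418382))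
theorem Q97811 : ∀ i, i < 97811 → P i := stepQ 97810 Q97810 (allL N97810 (tt N102511 (iv1 F437480)) (tt N66204 (iv0 F418387)) (tt N102509 F437472) (tt N104433 (iv3 F445737)) (tt N60737 F418386) (tt N103753 (iv5 F442675)) (tt N102920 (iv6 F439273)) (tt N60734 (iv7 D200915)))
theorem Q97812 : ∀ i, i < 97812 → P i := stepQ 97811 Q97811 (allL N97811 (tt N74404 F437224) (tt N105235 F449336) (tt N115225 (iv2 F494104)) (tt N60735 (iv3 D200916)) (tt N116315 (iv4 F499516)) (tt N119475 D222734) (tt N105772 (iv6 F451644)) (tt N70735 F418388))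
theorem Q97813 : ∀ i, i < 97813 → P i := stepQ 97812 Q97812 (allL N97812 (tt N104169 (iv1 F444517)) (tt N104168 F444525) (tt N104171 (iv2 F444522)) (tt N119475 (iv3 F515807)) (tt N119476 D222735) (tt N60735 (iv5 D200917)) (tt N100440 (iv6 F428981)) (tt N70737 F418389))
theorem Q97814 : ∀ i, i < 97814 → P i := stepQ 97813 Q97813 (allL N97813 (tt N101034 F431385) (tt N60736 (iv0 D200918)) (tt N76664 (iv2 F418392)) (tt N85307 (iv3 F418394)) (tt N89794 F418390) (tt N109185 (iv5 F465698)) (tt N76571 F418391) (tt N85304 F418393))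
theorem Q97815 : ∀ i, i < 97815 → P i := stepQ 97814 Q97814 (allL N97814 (tt N85304 (iv1 F418397)) (tt N76664 F418398) (tt N101034 (iv2 F431380)) (tt N60750 F418395) (tt N101023 (iv4 F431326)) (tt N60737 F418396) (tt N101025 (iv6 F431337)) (tt N60736 (iv7 D200919)))
theorem Q97816 : ∀ i, i < 97816 → P i := stepQ 97815 Q97815 (allL N97815 (tt N109818 (iv1 F468773)) (tt N109817 (iv0 F468766)) (tt N109892 F469101) (tt N90887 F418401) (tt N63673 F418402) (tt N60738 (iv5 D200920)) (tt N110230 (iv6 F470544)) (tt N109893 (iv7 F469106)))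
theorem Q97817 : ∀ i, i < 97817 → P i := stepQ 97816 Q97816 (allL N97816 (tt N97673 (iv1 F418408)) (tt N98013 F419166) (tt N92177 F418404) (tt N69248 F418405) (tt N102571 (iv4 F437713)) (tt N60740 (iv5 D200923)) (tt N69246 F418406) (tt N97556 F418407))
theorem Q97818 : ∀ i, i < 97818 → P i := stepQ 97817 Q97817 (allL N97817 (tt N60745 (iv1 F418410)) (tt N60741 (iv0 D200924)) (tt N111209 (iv2 F475229)) (tt N104074 (iv3 F444046)) (tt N119038 (iv4 F513424)) (tt N97791 F418409) (tt N98134 (iv6 F419620)) (tt N98241 (iv7 F420102)))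
theorem Q97819 : ∀ i, i < 97819 → P i := stepQ 97818 Q97818 (allL N97818 (tt N60741 (iv1 D200925)) (tt N60745 F418413) (tt N98241 (iv2 F420106)) (tt N104169 (iv3 F451776)) (tt N119477 D222736) (tt N102944 F439367) (tt N66805 F420107) (tt N111209 (iv7 F475233)))
theorem Q97820 : ∀ i, i < 97820 → P i := stepQ 97819 Q97819 (allL N97819 (tt N78914 F421802) (tt N109431 F466923) (tt N109429 (iv2 F466915)) (tt N98017 (iv3 F419181)) (tt N60743 (iv4 D200928)) (tt N98528 (iv5 F421218)) (tt N119478 D222737) (tt N106141 F453323))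
theorem Q97821 : ∀ i, i < 97821 → P i := stepQ 97820 Q97820 (allL N97820 (tt N105677 (iv1 F451217)) (tt N61562 (iv0 F418416)) (tt N98700 (iv2 F421905)) (tt N60745 F418414) (tt N111250 (iv4 F475435)) (tt N60743 (iv5 D200929)) (tt N78805 F418415) (tt N111212 (iv7 F475244)))
theorem Q97822 : ∀ i, i < 97822 → P i := stepQ 97821 Q97821 (allL N97821 (tt N70037 F418418) (tt N93010 F418419) (tt N105907 F452287) (tt N60746 F418417) (tt N119478 (iv4 F515823)) (tt N118057 (iv5 F508337)) (tt N60743 (iv6 D200930)) (tt N102530 (iv7 F437531)))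
theorem Q97823 : ∀ i, i < 97823 → P i := stepQ 97822 Q97822 (allL N97822 (tt N80422 (iv1 F418423)) (tt N66011 (iv0 F418424)) (tt N97557 F418420) (tt N98018 (iv3 F419185)) (tt N60746 F418421) (tt N86948 F418422) (tt N60744 (iv6 D200931)) (tt N113154 (iv7 F484233)))
theorem Q97824 : ∀ i, i < 97824 → P i := stepQ 97823 Q97823 (allL N97823 (tt N112827 F482821) (tt N110848 (iv0 F473433)) (tt N117714 (iv2 F506580)) (tt N119479 D222738) (tt N60745 (iv4 D200932)) (tt N119480 D222739) (tt N70236 F418425) (tt N117711 (iv7 F506565)))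
theorem Q97825 : ∀ i, i < 97825 → P i := stepQ 97824 Q97824 (allL N97824 (tt N93905 F418428) (tt N92671 F418427) (tt N115701 F496402) (tt N118057 (iv3 F508335)) (tt N117625 (iv4 F506062)) (tt N60746 (iv5 D200933)) (tt N83743 F418426) (tt N104913 (iv7 F447911)))
theorem Q97826 : ∀ i, i < 97826 → P i := stepQ 97825 Q97825 (allL N97825 (tt N92637 (iv1 F418430)) (tt N91043 F418431) (tt N117715 (iv2 F506585)) (tt N102530 (iv3 F437529)) (tt N113154 (iv4 F484235)) (tt N104913 (iv5 F447910)) (tt N92635 F418429) (tt N60746 (iv7 D200934)))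
theorem Q97827 : ∀ i, i < 97827 → P i := stepQ 97826 Q97826 (allL N97826 (tt N117993 (iv1 F507968)) (tt N103034 (iv0 F439770)) (tt N107921 (iv2 F460297)) (tt N60747 (iv3 D200935)) (tt N71237 (iv4 F418433)) (tt N117961 (iv5 F507801)) (tt N61179 F418432) (tt N115042 (iv7 F493184)))
theorem Q97828 : ∀ i, i < 97828 → P i := stepQ 97827 Q97827 (allL N97827 (tt N97997 (iv1 F419105)) (tt N73514 (iv0 F418437)) (tt N97994 F419098) (tt N71244 F418434) (tt N60747 (iv4 D200936)) (tt N119481 D222740) (tt N61181 F418435) (tt N93560 F418436))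
theorem Q97829 : ∀ i, i < 97829 → P i := stepQ 97828 Q97828 (allL N97828 (tt N73514 F418440) (tt N97997 F419104) (tt N93560 F418438) (tt N119482 D222741) (tt N60748 (iv4 D200937)) (tt N119483 D222742) (tt N65921 F418439) (tt N97994 (iv7 F419100)))
theorem Q97830 : ∀ i, i < 97830 → P i := stepQ 97829 Q97829 (allL N97829 (tt N117718 (iv1 F506602)) (tt N60749 (iv0 D200938)) (tt N111002 (iv2 F474181)) (tt N85184 F418441) (tt N60919 (iv4 F418443)) (tt N117046 (iv5 F503113)) (tt N61307 F418442) (tt N96064 (iv7 F418444)))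
theorem Q97831 : ∀ i, i < 97831 → P i := stepQ 97830 Q97830 (allL N97830 (tt N119484 D222743) (tt N119485 D222744) (tt N117717 (iv2 F506595)) (tt N114806 (iv3 F491965)) (tt N119486 D222745) (tt N60749 (iv5 D200939)) (tt N117717 (iv6 F506596)) (tt N119487 D222746))
theorem Q97832 : ∀ i, i < 97832 → P i := stepQ 97831 Q97831 (allL N97831 (tt N96064 (iv1 F418446)) (tt N111002 F474185) (tt N117718 (iv2 F506598)) (tt N101219 (iv3 F432256)) (tt N60750 F418445) (tt N119487 (iv5 F515858)) (tt N101220 (iv6 F432261)) (tt N60749 (iv7 D200940)))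
theorem Q97833 : ∀ i, i < 97833 → P i := stepQ 97832 Q97832 (allL N97832 (tt N101270 (iv1 F432467)) (tt N60751 (iv0 D200941)) (tt N98249 (iv2 F420166)) (tt N93358 F418449) (tt N83452 F418447) (tt N93356 (iv5 F418448)) (tt N108310 F462010) (tt N98248 (iv7 F420163)))
theorem Q97834 : ∀ i, i < 97834 → P i := stepQ 97833 Q97833 (allL N97833 (tt N60751 (iv1 D200942)) (tt N101270 F432466) (tt N98248 (iv2 F420160)) (tt N85153 F420158) (tt N114634 (iv4 F491116)) (tt N98247 (iv5 F420143)) (tt N107914 (iv6 F460259)) (tt N98249 (iv7 F420169)))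
theorem Q97835 : ∀ i, i < 97835 → P i := stepQ 97834 Q97834 (allL N97834 (tt N98249 (iv1 F420171)) (tt N98248 F420165) (tt N60751 (iv2 D200943)) (tt N117720 (iv3 F506610)) (tt N101250 (iv4 F432401)) (tt N117720 (iv5 F506612)) (tt N101249 F432398) (tt N101270 (iv7 F432465)))
theorem Q97836 : ∀ i, i < 97836 → P i := stepQ 97835 Q97835 (allL N97835 (tt N84547 (iv1 F418452)) (tt N104904 F447870) (tt N104903 (iv2 F447866)) (tt N60757 F418450) (tt N78271 F418451) (tt N60756 (iv5 D200944)) (tt N98128 (iv6 F419583)) (tt N104902 F447859))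
theorem Q97837 : ∀ i, i < 97837 → P i := stepQ 97836 Q97836 (allL N97836 (tt N95489 F418453) (tt N95493 F418454) (tt N106814 (iv2 F455797)) (tt N117593 (iv3 F505888)) (tt N60757 (iv4 D200945)) (tt N106264 (iv5 F453794)) (tt N115980 (iv6 F497891)) (tt N118860 (iv7 F512446)))
theorem Q97838 : ∀ i, i < 97838 → P i := stepQ 97837 Q97837 (allL N97837 (tt N60760 (iv1 D200946)) (tt N95848 F418455) (tt N102885 (iv2 F439097)) (tt N102023 (iv3 F435397)) (tt N81524 F418456) (tt N117704 (iv5 F506524)) (tt N81528 (iv6 F418457)) (tt N111816 (iv7 F478128)))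
theorem Q97839 : ∀ i, i < 97839 → P i := stepQ 97838 Q97838 (allL N97838 (tt N117967 (iv1 F507834)) (tt N119421 F515525) (tt N97684 F418458) (tt N119488 D222747) (tt N60761 (iv4 D200947)) (tt N98647 (iv5 F421724)) (tt N119489 D222748) (tt N97681 F418459))
theorem Q97840 : ∀ i, i < 97840 → P i := stepQ 97839 Q97839 (allL N97839 (tt N103470 F441771) (tt N103469 F441772) (tt N97685 F418460) (tt N118316 (iv3 F509665)) (tt N119489 (iv4 F515866)) (tt N115416 (iv5 F495088)) (tt N60761 (iv6 D200948)) (tt N119467 (iv7 F515771)))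
theorem Q97841 : ∀ i, i < 97841 → P i := stepQ 97840 Q97840 (allL N97840 (tt N119421 (iv1 F515526)) (tt N117967 (iv0 F507833)) (tt N97681 F418461) (tt N103691 (iv3 F442492)) (tt N60762 (iv4 D200949)) (tt N78774 F418463) (tt N103689 (iv6 F442487)) (tt N97684 F418462))
theorem Q97842 : ∀ i, i < 97842 → P i := stepQ 97841 Q97841 (allL N97841 (tt N67291 F437122) (tt N103480 (iv0 F441806)) (tt N97682 F418464) (tt N102410 (iv3 F437120)) (tt N103689 F442486) (tt N119490 D222749) (tt N60762 (iv6 D200950)) (tt N119491 D222750))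
theorem Q97843 : ∀ i, i < 97843 → P i := stepQ 97842 Q97842 (allL N97842 (tt N60763 (iv1 D200951)) (tt N102102 (iv0 F435734)) (tt N74647 F418467) (tt N81737 F418468) (tt N91958 (iv4 F418465)) (tt N82534 F418469) (tt N65733 (iv6 F418466)) (tt N117710 (iv7 F506563)))
theorem Q97844 : ∀ i, i < 97844 → P i := stepQ 97843 Q97843 (allL N97843 (tt N91818 F418472) (tt N112151 (iv0 F479766)) (tt N79536 F418470) (tt N81673 F418471) (tt N71708 (iv4 F418473)) (tt N60763 (iv5 D200952)) (tt N119490 (iv6 F515871)) (tt N81761 (iv7 F418475)))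
theorem Q97845 : ∀ i, i < 97845 → P i := stepQ 97844 Q97844 (allL N97844 (tt N74647 (iv1 F418480)) (tt N117710 F506562) (tt N102102 (iv2 F435729)) (tt N81717 F418476) (tt N83718 F418477) (tt N81761 F418478) (tt N82344 F418479) (tt N60763 (iv7 D200953)))
theorem Q97846 : ∀ i, i < 97846 → P i := stepQ 97845 Q97845 (allL N97845 (tt N60766 (iv1 F418485)) (tt N60765 F418486) (tt N60768 F418481) (tt N102048 F435503) (tt N91822 F418482) (tt N67578 F418483) (tt N82380 F418484) (tt N60764 (iv7 D200954)))
theorem Q97847 : ∀ i, i < 97847 → P i := stepQ 97846 Q97846 (allL N97846 (tt N111811 (iv1 F478095)) (tt N81528 (iv0 F418490)) (tt N65126 F418487) (tt N60765 (iv3 D200955)) (tt N80399 F418489) (tt N67350 F418488) (tt N100685 (iv6 F430005)) (tt N102093 (iv7 F435689)))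
theorem Q97848 : ∀ i, i < 97848 → P i := stepQ 97847 Q97847 (allL N97847 (tt N81165 (iv1 F418494)) (tt N81164 (iv0 F418496)) (tt N80814 F418491) (tt N81171 F418492) (tt N60765 (iv4 D200956)) (tt N115865 (iv5 F497301)) (tt N111577 (iv6 F476985)) (tt N81166 F418493))
theorem Q97849 : ∀ i, i < 97849 → P i := stepQ 97848 Q97848 (allL N97848 (tt N87915 F418500) (tt N93225 F418501) (tt N102905 (iv2 F439201)) (tt N97389 F418497) (tt N119421 (iv4 F515522)) (tt N97388 F418498) (tt N60769 (iv6 D200957)) (tt N93102 F418499))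
theorem Q97850 : ∀ i, i < 97850 → P i := stepQ 97849 Q97849 (allL N97849 (tt N97602 (iv1 F439195)) (tt N98025 (iv0 F453330)) (tt N113786 (iv2 F487103)) (tt N60770 (iv3 D200958)) (tt N119492 D222751) (tt N112392 (iv5 F480894)) (tt N93103 F418502) (tt N102903 (iv7 F439193)))
theorem Q97851 : ∀ i, i < 97851 → P i := stepQ 97850 Q97850 (allL N97850 (tt N102909 (iv1 F439223)) (tt N60771 (iv0 D200959)) (tt N75092 (iv2 F418504)) (tt N104655 (iv3 F446716)) (tt N92062 F418503) (tt N108885 (iv5 F464364)) (tt N75090 (iv6 F418505)) (tt N97565 (iv7 F418506)))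
theorem Q97852 : ∀ i, i < 97852 → P i := stepQ 97851 Q97851 (allL N97851 (tt N60771 (iv1 D200960)) (tt N102909 F439222) (tt N97565 (iv2 F418509)) (tt N68993 (iv3 F418510)) (tt N92063 F418508) (tt N108685 (iv5 F463542)) (tt N68992 (iv6 F418511)) (tt N75092 F418507))
theorem Q97853 : ∀ i, i < 97853 → P i := stepQ 97852 Q97852 (allL N97852 (tt N96029 F418514) (tt N108881 F464354) (tt N102908 (iv2 F439215)) (tt N104606 (iv3 F446505)) (tt N93415 F418512) (tt N60771 (iv5 D200961)) (tt N116341 (iv6 F499627)) (tt N93867 F418513))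
theorem Q97854 : ∀ i, i < 97854 → P i := stepQ 97853 Q97853 (allL N97853 (tt N97565 (iv1 F418518)) (tt N75092 F418519) (tt N102909 (iv2 F439219)) (tt N67514 F418515) (tt N60772 F418516) (tt N93867 F418517) (tt N104473 (iv6 F445920)) (tt N60771 (iv7 D200962)))
theorem Q97855 : ∀ i, i < 97855 → P i := stepQ 97854 Q97854 (allL N97854 (tt N68842 F418522) (tt N68846 F418523) (tt N98011 (iv2 F419164)) (tt N67246 F418520) (tt N104473 (iv4 F445919)) (tt N67282 F418521) (tt N60772 (iv6 D200963)) (tt N98010 F419160))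
theorem Q97856 : ∀ i, i < 97856 → P i := stepQ 97855 Q97855 (allL N97855 (tt N97487 (iv1 F418530)) (tt N97561 F418529) (tt N60773 (iv2 D200964)) (tt N65092 F418524) (tt N82342 F418525) (tt N92109 F418526) (tt N94783 F418527) (tt N65122 F418528))
theorem Q97857 : ∀ i, i < 97857 → P i := stepQ 97856 Q97856 (allL N97856 (tt N67386 F418534) (tt N118995 F513176) (tt N97006 F418531) (tt N114949 (iv3 F492718)) (tt N60774 (iv4 D200965)) (tt N108881 (iv5 F464352)) (tt N97744 F418532) (tt N97563 F418533))
theorem Q97858 : ∀ i, i < 97858 → P i := stepQ 97857 Q97857 (allL N97857 (tt N60775 (iv1 D200966)) (tt N68196 F418535) (tt N68197 (iv2 F418538)) (tt N97870 F418605) (tt N68981 F418537) (tt N103902 (iv5 F443283)) (tt N103609 (iv6 F442227)) (tt N68198 F418536))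
theorem Q97859 : ∀ i, i < 97859 → P i := stepQ 97858 Q97858 (allL N97858 (tt N104167 (iv1 F444516)) (tt N104075 (iv0 F444051)) (tt N93321 F418539) (tt N73413 F418540) (tt N72932 F418542) (tt N60782 (iv5 D200967)) (tt N60824 F418541) (tt N85365 (iv7 F418543)))
theorem Q97860 : ∀ i, i < 97860 → P i := stepQ 97859 Q97859 (allL N97859 (tt N85951 (iv1 F418549)) (tt N91041 F418550) (tt N74879 F418544) (tt N61999 F418545) (tt N62398 F418546) (tt N85365 F418547) (tt N68047 F418548) (tt N60782 (iv7 D200968)))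
theorem Q97861 : ∀ i, i < 97861 → P i := stepQ 97860 Q97860 (allL N97860 (tt N66448 F418555) (tt N66444 (iv0 F418556)) (tt N66261 F418551) (tt N60783 (iv3 D200969)) (tt N103441 (iv4 F441651)) (tt N70927 F418552) (tt N90518 F418553) (tt N66482 F418554))
theorem Q97862 : ∀ i, i < 97862 → P i := stepQ 97861 Q97861 (allL N97861 (tt N103555 F442022) (tt N78918 F418557) (tt N109434 F466939) (tt N104745 (iv3 F447083)) (tt N60786 (iv4 D200970)) (tt N103518 (iv5 F451564)) (tt N105758 F451562) (tt N102935 (iv7 F439331)))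
theorem Q97863 : ∀ i, i < 97863 → P i := stepQ 97862 Q97862 (allL N97862 (tt N66014 (iv1 F418561)) (tt N114966 (iv0 F492808)) (tt N67421 F418558) (tt N116213 F499051) (tt N60789 F418559) (tt N67200 F418560) (tt N60787 (iv6 D200971)) (tt N85942 (iv7 F418562)))
theorem Q97864 : ∀ i, i < 97864 → P i := stepQ 97863 Q97863 (allL N97863 (tt N87579 F418568) (tt N87150 (iv0 F418569)) (tt N87555 F418563) (tt N60792 F418564) (tt N87140 F418567) (tt N60790 (iv5 D200972)) (tt N74694 F418565) (tt N87557 F418566))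
theorem Q97865 : ∀ i, i < 97865 → P i := stepQ 97864 Q97864 (allL N97864 (tt N81506 F418578) (tt N97789 (iv0 F418579)) (tt N98082 (iv2 F419379)) (tt N74695 F418575) (tt N115500 (iv4 F495513)) (tt N60793 (iv5 D200973)) (tt N74693 F418576) (tt N85778 F418577))
theorem Q97866 : ∀ i, i < 97866 → P i := stepQ 97865 Q97865 (allL N97865 (tt N105145 F448989) (tt N71428 (iv0 F418583)) (tt N71971 (iv2 F418582)) (tt N60796 (iv3 D200974)) (tt N71968 F418580) (tt N103855 (iv5 F443104)) (tt N104502 (iv6 F446042)) (tt N75072 F418581))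
theorem Q97867 : ∀ i, i < 97867 → P i := stepQ 97866 Q97866 (allL N97866 (tt N60797 (iv1 D200975)) (tt N75081 F418584) (tt N69532 F418588) (tt N60805 (iv3 F418587)) (tt N104584 (iv4 F446408)) (tt N74448 F418586) (tt N114412 (iv6 F490022)) (tt N75080 F418585))
theorem Q97868 : ∀ i, i < 97868 → P i := stepQ 97867 Q97867 (allL N97867 (tt N69532 (iv1 F418594)) (tt N75080 F418595) (tt N75081 F418589) (tt N69522 F418590) (tt N67697 F418591) (tt N63412 F418592) (tt N75077 F418593) (tt N60797 (iv7 D200976)))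
theorem Q97869 : ∀ i, i < 97869 → P i := stepQ 97868 Q97868 (allL N97868 (tt N103527 F442357) (tt N119493 D222752) (tt N119494 D222753) (tt N60798 (iv3 D200977)) (tt N105519 F450556) (tt N109389 (iv5 F466719)) (tt N119495 D222754) (tt N75078 F418596))
theorem Q97870 : ∀ i, i < 97870 → P i := stepQ 97869 Q97869 (allL N97869 (tt N88715 F418600) (tt N104090 (iv0 F444127)) (tt N75074 F418597) (tt N119495 (iv3 F515900)) (tt N60799 F418598) (tt N88759 (iv5 F418599)) (tt N60798 (iv6 D200978)) (tt N104501 (iv7 F446039)))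
theorem Q97871 : ∀ i, i < 97871 → P i := stepQ 97870 Q97870 (allL N97870 (tt N60799 (iv1 D200979)) (tt N75077 F418601) (tt N75076 F418604) (tt N97857 (iv3 F418605)) (tt N104594 (iv4 F446452)) (tt N105779 (iv5 F451673)) (tt N70031 (iv6 F418603)) (tt N75075 F418602))
theorem Q97872 : ∀ i, i < 97872 → P i := stepQ 97871 Q97871 (allL N97871 (tt N75076 (iv1 F418609)) (tt N75075 F418610) (tt N75077 F418606) (tt N111327 (iv3 F475839)) (tt N104501 (iv4 F446038)) (tt N86910 F418607) (tt N75081 F418608) (tt N60799 (iv7 D200980)))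
theorem Q97873 : ∀ i, i < 97873 → P i := stepQ 97872 Q97872 (allL N97872 (tt N102794 (iv1 F438675)) (tt N67730 (iv0 F418613)) (tt N102793 (iv2 F442409)) (tt N60800 (iv3 D200981)) (tt N99804 (iv4 F426296)) (tt N96386 F418611) (tt N104547 F446218) (tt N75085 F418612))
theorem Q97874 : ∀ i, i < 97874 → P i := stepQ 97873 Q97873 (allL N97873 (tt N118022 F508141) (tt N104594 (iv0 F446456)) (tt N75084 F418614) (tt N104547 (iv3 F446217)) (tt N66625 F418615) (tt N82759 (iv5 F418616)) (tt N60800 (iv6 D200982)) (tt N82970 F418617))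
theorem Q97875 : ∀ i, i < 97875 → P i := stepQ 97874 Q97874 (allL N97874 (tt N93172 (iv1 F418621)) (tt N60802 (iv0 D200983)) (tt N92722 (iv2 F418620)) (tt N102242 (iv3 F436329)) (tt N75693 F418618) (tt N102210 (iv5 F436203)) (tt N84774 F418619) (tt N92714 F418622))
theorem Q97876 : ∀ i, i < 97876 → P i := stepQ 97875 Q97875 (allL N97875 (tt N92750 F418624) (tt N92753 F418625) (tt N98061 (iv2 F419318)) (tt N102186 (iv3 F436089)) (tt N117996 (iv4 F507984)) (tt N60802 (iv5 D200984)) (tt N119007 (iv6 F513250)) (tt N93981 F418623))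
theorem Q97877 : ∀ i, i < 97877 → P i := stepQ 97876 Q97876 (allL N97876 (tt N98059 (iv1 F419316)) (tt N60803 (iv0 D200985)) (tt N74917 (iv2 F418627)) (tt N100788 (iv3 F430476)) (tt N93093 F418626) (tt N99496 (iv5 F424858)) (tt N74915 (iv6 F418628)) (tt N98058 (iv7 F419306)))
theorem Q97878 : ∀ i, i < 97878 → P i := stepQ 97877 Q97877 (allL N97877 (tt N60803 (iv1 D200986)) (tt N98059 F419315) (tt N98058 F419308) (tt N61721 (iv3 F418631)) (tt N97637 F418632) (tt N74848 F418630) (tt N115344 (iv6 F494700)) (tt N74917 F418629))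
theorem Q97879 : ∀ i, i < 97879 → P i := stepQ 97878 Q97878 (allL N97878 (tt N98058 (iv1 F419305)) (tt N74917 (iv0 F418637)) (tt N98059 (iv2 F419311)) (tt N60806 F418633) (tt N88235 F418634) (tt N88198 F418635) (tt N93985 F418636) (tt N60803 (iv7 D200987)))
theorem Q97880 : ∀ i, i < 97880 → P i := stepQ 97879 Q97879 (allL N97879 (tt N60816 F418641) (tt N117722 F506626) (tt N97790 F418638) (tt N69531 F418639) (tt N68661 F418640) (tt N78879 F418642) (tt N60804 (iv6 D200988)) (tt N104166 (iv7 F444510)))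
theorem Q97881 : ∀ i, i < 97881 → P i := stepQ 97880 Q97880 (allL N97880 (tt N92662 (iv1 F418649)) (tt N60830 (iv0 F418648)) (tt N97791 F418647) (tt N114412 F490026) (tt N103231 (iv4 F440687)) (tt N111209 (iv5 F475232)) (tt N60805 (iv6 D200989)) (tt N102944 (iv7 F439366)))
theorem Q97882 : ∀ i, i < 97882 → P i := stepQ 97881 Q97881 (allL N97881 (tt N65908 F418653) (tt N67165 F418654) (tt N67260 F418650) (tt N104268 (iv3 F445034)) (tt N60809 (iv4 D200990)) (tt N70723 F418652) (tt N115400 (iv6 F495003)) (tt N67259 F418651))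
theorem Q97883 : ∀ i, i < 97883 → P i := stepQ 97882 Q97882 (allL N97882 (tt N87578 F418657) (tt N105774 (iv0 F451650)) (tt N117988 (iv2 F507930)) (tt N60812 F418655) (tt N115400 (iv4 F495001)) (tt N93126 F418656) (tt N60809 (iv6 D200991)) (tt N118007 (iv7 F508053)))
theorem Q97884 : ∀ i, i < 97884 → P i := stepQ 97883 Q97883 (allL N97883 (tt N104684 (iv1 F446860)) (tt N67862 F418658) (tt N102529 (iv2 F437524)) (tt N103392 F441414) (tt N60811 (iv4 D200992)) (tt N98635 (iv5 F421670)) (tt N119496 D222755) (tt N98634 F421668))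
theorem Q97885 : ∀ i, i < 97885 → P i := stepQ 97884 Q97884 (allL N97884 (tt N93010 F418660) (tt N70037 (iv0 F418661)) (tt N102530 (iv2 F437528)) (tt N105871 (iv3 F452113)) (tt N119496 (iv4 F515904)) (tt N93127 F418659) (tt N60811 (iv6 D200993)) (tt N105907 (iv7 F452289)))
theorem Q97886 : ∀ i, i < 97886 → P i := stepQ 97885 Q97885 (allL N97885 (tt N68902 F418662) (tt N97925 F418824) (tt N97923 F418820) (tt N68889 (iv3 F418663)) (tt N60813 (iv4 D200994)) (tt N114907 F492469) (tt N119497 D222756) (tt N97922 F418815))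
theorem Q97887 : ∀ i, i < 97887 → P i := stepQ 97886 Q97886 (allL N97886 (tt N70738 F418703) (tt N98062 (iv0 F419323)) (tt N104072 F444040) (tt N60816 F418664) (tt N119497 (iv4 F515910)) (tt N117712 (iv5 F506571)) (tt N60813 (iv6 D200995)) (tt N104073 (iv7 F444042)))
theorem Q97888 : ∀ i, i < 97888 → P i := stepQ 97887 Q97887 (allL N97887 (tt N117966 (iv1 F507829)) (tt N93103 F446015) (tt N103690 (iv2 F442488)) (tt N60814 (iv3 D200996)) (tt N68889 F418665) (tt N92963 F418666) (tt N119498 D222757) (tt N97642 F418667))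
theorem Q97889 : ∀ i, i < 97889 → P i := stepQ 97888 Q97888 (allL N97888 (tt N102013 (iv1 F435344)) (tt N102015 (iv0 F435354)) (tt N97643 F418672) (tt N119498 (iv3 F515915)) (tt N60816 F418673) (tt N102385 (iv5 F437004)) (tt N60814 (iv6 D200997)) (tt N102235 (iv7 F436298)))
theorem Q97890 : ∀ i, i < 97890 → P i := stepQ 97889 Q97889 (allL N97889 (tt N117722 (iv1 F506627)) (tt N60816 (iv0 D200998)) (tt N104166 (iv2 F444507)) (tt N70629 F418677) (tt N68660 (iv4 F418676)) (tt N78878 F418674) (tt N102944 F439368) (tt N97790 (iv7 F418675)))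
theorem Q97891 : ∀ i, i < 97891 → P i := stepQ 97890 Q97890 (allL N97890 (tt N92792 F418678) (tt N92789 (iv0 F418679)) (tt N117721 (iv2 F506616)) (tt N117712 (iv3 F506569)) (tt N119499 D222758) (tt N60816 (iv5 D200999)) (tt N111212 F475246) (tt N98702 F421918))
theorem Q97892 : ∀ i, i < 97892 → P i := stepQ 97891 Q97891 (allL N97891 (tt N97790 (iv1 F418681)) (tt N104166 (iv0 F444513)) (tt N117722 (iv2 F506622)) (tt N104073 F444043) (tt N102235 (iv4 F436295)) (tt N98702 (iv5 F421915)) (tt N92664 F418680) (tt N60816 (iv7 D201000)))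
theorem Q97893 : ∀ i, i < 97893 → P i := stepQ 97892 Q97892 (allL N97892 (tt N97925 (iv1 F418825)) (tt N68902 F418682) (tt N97922 F418813) (tt N119500 D222759) (tt N60817 (iv4 D201001)) (tt N98529 F421221) (tt N119501 D222760) (tt N97923 (iv7 F418818)))
theorem Q97894 : ∀ i, i < 97894 → P i := stepQ 97893 Q97893 (allL N97893 (tt N105780 (iv1 F451682)) (tt N69374 (iv0 F418684)) (tt N104162 (iv2 F444491)) (tt N117988 (iv3 F507931)) (tt N119501 (iv4 F515932)) (tt N68128 F418683) (tt N60817 (iv6 D201002)) (tt N104912 (iv7 F447905)))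
theorem Q97895 : ∀ i, i < 97895 → P i := stepQ 97894 Q97894 (allL N97894 (tt N109031 (iv1 F465008)) (tt N109032 (iv0 F465013)) (tt N92620 F418685) (tt N97669 F418686) (tt N60819 F418687) (tt N119212 (iv5 F514390)) (tt N60818 (iv6 D201003)) (tt N119148 (iv7 F514040)))
theorem Q97896 : ∀ i, i < 97896 → P i := stepQ 97895 Q97895 (allL N97895 (tt N92623 F418691) (tt N60819 (iv0 D201004)) (tt N92624 (iv2 F418689)) (tt N114055 (iv3 F488378)) (tt N109125 (iv4 F465444)) (tt N118718 (iv5 F511728)) (tt N93010 F418688) (tt N92625 (iv7 F418690)))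
theorem Q97897 : ∀ i, i < 97897 → P i := stepQ 97896 Q97896 (allL N97896 (tt N60819 (iv1 D201005)) (tt N92623 F418692) (tt N92625 F418695) (tt N70018 F418696) (tt N109126 (iv4 F465449)) (tt N103049 (iv5 F439844)) (tt N70016 (iv6 F418694)) (tt N92624 F418693))
theorem Q97898 : ∀ i, i < 97898 → P i := stepQ 97897 Q97897 (allL N97897 (tt N92625 (iv1 F418701)) (tt N92624 F418702) (tt N92623 F418697) (tt N97547 F418698) (tt N119148 (iv4 F514042)) (tt N61204 F418699) (tt N79977 F418700) (tt N60819 (iv7 D201006)))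
theorem Q97899 : ∀ i, i < 97899 → P i := stepQ 97898 Q97898 (allL N97898 (tt N60821 (iv1 D201007)) (tt N74843 F418704) (tt N74842 F418707) (tt N109062 F465165) (tt N96393 F418708) (tt N108837 (iv5 F464192)) (tt N83628 (iv6 F418706)) (tt N74841 F418705))
theorem Q97900 : ∀ i, i < 97900 → P i := stepQ 97899 Q97899 (allL N97899 (tt N74842 (iv1 F418715)) (tt N74841 F418716) (tt N74843 F418710) (tt N62801 F418711) (tt N97807 F418712) (tt N61239 F418713) (tt N90779 F418714) (tt N60821 (iv7 D201008)))
theorem Q97901 : ∀ i, i < 97901 → P i := stepQ 97900 Q97900 (allL N97900 (tt N117975 F507876) (tt N119502 D222761) (tt N119503 D222762) (tt N60822 (iv3 D201009)) (tt N75022 F418717) (tt N105864 F452066) (tt N115671 (iv6 F496239)) (tt N74839 F418718))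
theorem Q97902 : ∀ i, i < 97902 → P i := stepQ 97901 Q97901 (allL N97901 (tt N66130 F418720) (tt N92622 (iv0 F418722)) (tt N100779 (iv2 F430432)) (tt N115671 (iv3 F496238)) (tt N60823 F418719) (tt N90380 (iv5 F418721)) (tt N60822 (iv6 D201010)) (tt N104444 (iv7 F445795)))
theorem Q97903 : ∀ i, i < 97903 → P i := stepQ 97902 Q97902 (allL N97902 (tt N60823 (iv1 D201011)) (tt N90779 F418723) (tt N100778 (iv2 F430429)) (tt N69181 (iv3 F418725)) (tt N103837 (iv4 F443027)) (tt N80031 (iv5 F418727)) (tt N69179 (iv6 F418726)) (tt N75700 F418724))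
theorem Q97904 : ∀ i, i < 97904 → P i := stepQ 97903 Q97903 (allL N97903 (tt N113786 F487106) (tt N102903 (iv0 F439196)) (tt N98025 (iv2 F419211)) (tt N60828 (iv3 D201012)) (tt N114350 (iv4 F489760)) (tt N91521 (iv5 F418729)) (tt N92180 (iv6 F418730)) (tt N97602 F418728))
theorem Q97905 : ∀ i, i < 97905 → P i := stepQ 97904 Q97904 (allL N97904 (tt N102045 (iv1 F435493)) (tt N103450 (iv0 F441690)) (tt N97600 F418731) (tt N91521 F418732) (tt N97489 F418734) (tt N60828 (iv5 D201013)) (tt N67481 F418735) (tt N97603 F418733))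
theorem Q97906 : ∀ i, i < 97906 → P i := stepQ 97905 Q97905 (allL N97905 (tt N77235 F421534) (tt N102236 (iv0 F436301)) (tt N97601 F418736) (tt N92180 F418737) (tt N60830 F418738) (tt N92855 (iv5 F418739)) (tt N60828 (iv6 D201014)) (tt N98021 (iv7 F419196)))
theorem Q97907 : ∀ i, i < 97907 → P i := stepQ 97906 Q97906 (allL N97906 (tt N60833 (iv1 F418748)) (tt N60829 (iv0 D201015)) (tt N82744 (iv2 F418747)) (tt N84767 F418745) (tt N84650 F418744) (tt N92793 F418743) (tt N85378 F418746) (tt N84440 F418749))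
theorem Q97908 : ∀ i, i < 97908 → P i := stepQ 97907 Q97907 (allL N97907 (tt N60830 (iv1 D201016)) (tt N92662 F418750) (tt N102944 (iv2 F439369)) (tt N85954 (iv3 F418752)) (tt N103333 (iv4 F441177)) (tt N98241 (iv5 F420103)) (tt N104166 (iv6 F444509)) (tt N97791 F418751))
theorem Q97909 : ∀ i, i < 97909 → P i := stepQ 97908 Q97908 (allL N97908 (tt N84774 F418753) (tt N67261 (iv0 F418754)) (tt N114352 (iv2 F489771)) (tt N110314 F470998) (tt N60831 (iv4 D201017)) (tt N119504 D222763) (tt N113333 (iv6 F485083)) (tt N102941 (iv7 F439357)))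
theorem Q97910 : ∀ i, i < 97910 → P i := stepQ 97909 Q97909 (allL N97909 (tt N86416 F418757) (tt N114256 (iv0 F489258)) (tt N114353 (iv2 F489777)) (tt N60833 F418755) (tt N114353 (iv4 F489781)) (tt N60831 (iv5 D201018)) (tt N61021 F418756) (tt N102942 (iv7 F439361)))
theorem Q97911 : ∀ i, i < 97911 → P i := stepQ 97910 Q97910 (allL N97910 (tt N65985 F418759) (tt N79740 F418760) (tt N104269 F445040) (tt N60832 (iv3 D201019)) (tt N110314 (iv4 F470996)) (tt N81528 (iv5 F418761)) (tt N98568 (iv6 F421353)) (tt N97599 F418758))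
theorem Q97912 : ∀ i, i < 97912 → P i := stepQ 97911 Q97911 (allL N97911 (tt N103450 F441691) (tt N102045 (iv0 F435492)) (tt N97603 F418762) (tt N81528 F418763) (tt N81533 F418764) (tt N60832 (iv5 D201020)) (tt N102023 (iv6 F435398)) (tt N97600 F418765))
theorem Q97913 : ∀ i, i < 97913 → P i := stepQ 97912 Q97912 (allL N97912 (tt N104966 F448185) (tt N60851 F418769) (tt N105879 (iv2 F452148)) (tt N60834 (iv3 D201021)) (tt N87856 F418766) (tt N81530 (iv5 F418768)) (tt N115016 (iv6 F493066)) (tt N97786 F418767))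
theorem Q97914 : ∀ i, i < 97914 → P i := stepQ 97913 Q97913 (allL N97913 (tt N61740 F418773) (tt N78987 (iv0 F418774)) (tt N97784 F418770) (tt N81530 F418771) (tt N102959 (iv4 F439446)) (tt N60834 (iv5 D201022)) (tt N98479 F421065) (tt N97787 F418772))
theorem Q97915 : ∀ i, i < 97915 → P i := stepQ 97914 Q97914 (allL N97914 (tt N60840 F418777) (tt N117350 (iv0 F504611)) (tt N97785 F418775) (tt N115016 (iv3 F493065)) (tt N65812 F418776) (tt N60975 F418778) (tt N60834 (iv6 D201023)) (tt N111180 (iv7 F475104)))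
theorem Q97916 : ∀ i, i < 97916 → P i := stepQ 97915 Q97915 (allL N97915 (tt N78987 F418786) (tt N61740 (iv0 F418788)) (tt N97787 F418783) (tt N61506 F418784) (tt N102963 (iv4 F439464)) (tt N60835 (iv5 D201024)) (tt N61504 F418787) (tt N97784 F418785))
theorem Q97917 : ∀ i, i < 97917 → P i := stepQ 97916 Q97916 (allL N97916 (tt N61567 F418793) (tt N60855 (iv0 F418794)) (tt N97788 F418792) (tt N105881 (iv3 F452160)) (tt N110282 (iv4 F470820)) (tt N105821 (iv5 F451883)) (tt N60835 (iv6 D201025)) (tt N116705 (iv7 F501405)))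
theorem Q97918 : ∀ i, i < 97918 → P i := stepQ 97917 Q97917 (allL N97917 (tt N95896 F418797) (tt N95895 (iv0 F418798)) (tt N70695 F418795) (tt N105844 (iv3 F451993)) (tt N104439 (iv4 F445771)) (tt N92962 F418796) (tt N60838 (iv6 D201026)) (tt N111252 (iv7 F475446)))
theorem Q97919 : ∀ i, i < 97919 → P i := stepQ 97918 Q97918 (allL N97918 (tt N117350 F504612) (tt N60840 (iv0 D201027)) (tt N111180 (iv2 F475102)) (tt N74901 F418801) (tt N65809 F418800) (tt N60974 F418799) (tt N116705 (iv6 F501404)) (tt N97785 (iv7 F418802)))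
theorem Q97920 : ∀ i, i < 97920 → P i := stepQ 97919 Q97919 (allL N97919 (tt N92189 F418805) (tt N92188 F418804) (tt N98040 F419274) (tt N68652 F418803) (tt N119505 D222764) (tt N60840 (iv5 D201028)) (tt N98605 F421543) (tt N98041 (iv7 F419276)))
theorem Q97921 : ∀ i, i < 97921 → P i := stepQ 97920 Q97920 (allL N97920 (tt N97785 (iv1 F418809)) (tt N111180 (iv0 F475108)) (tt N117350 (iv2 F504606)) (tt N68183 F418806) (tt N68663 F418807) (tt N98041 (iv5 F419278)) (tt N61575 F418808) (tt N60840 (iv7 D201029)))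
theorem Q97922 : ∀ i, i < 97922 → P i := stepQ 97921 Q97921 (allL N97921 (tt N104855 (iv1 F447646)) (tt N117352 (iv0 F504624)) (tt N70787 F418810) (tt N105833 (iv3 F451930)) (tt N103660 (iv4 F442400)) (tt N68138 F418811) (tt N60841 (iv6 D201030)) (tt N104194 (iv7 F444633)))
theorem Q97923 : ∀ i, i < 97923 → P i := stepQ 97922 Q97922 (allL N97922 (tt N67708 (iv1 F418816)) (tt N60842 (iv0 D201031)) (tt N97892 (iv2 F418813)) (tt N67689 (iv3 F418814)) (tt N68310 F418812) (tt N98614 F421583) (tt N119506 D222765) (tt N97885 (iv7 F418815)))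
theorem Q97924 : ∀ i, i < 97924 → P i := stepQ 97923 Q97923 (allL N97923 (tt N60842 (iv1 D201032)) (tt N67708 F418817) (tt N97885 (iv2 F418820)) (tt N98657 (iv3 F421757)) (tt N68309 F418819) (tt N98654 F421752) (tt N119147 (iv6 F514036)) (tt N97892 F418818))
theorem Q97925 : ∀ i, i < 97925 → P i := stepQ 97924 Q97924 (allL N97924 (tt N111153 (iv1 F474961)) (tt N61623 (iv0 F421586)) (tt N98698 (iv2 F421891)) (tt N105143 (iv3 F448975)) (tt N78805 (iv4 F418821)) (tt N60842 (iv5 D201033)) (tt N111250 (iv6 F475434)) (tt N98701 (iv7 F421911)))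
theorem Q97926 : ∀ i, i < 97926 → P i := stepQ 97925 Q97925 (allL N97925 (tt N97885 (iv1 F418824)) (tt N97892 F418825) (tt N67708 F418822) (tt N104506 (iv3 F446055)) (tt N60843 F418823) (tt N98701 (iv5 F421910)) (tt N109435 (iv6 F466948)) (tt N60842 (iv7 D201034)))
theorem Q97927 : ∀ i, i < 97927 → P i := stepQ 97926 Q97926 (allL N97926 (tt N104631 F446613) (tt N60844 (iv0 D201035)) (tt N102556 (iv2 F437640)) (tt N69029 F418828) (tt N73841 F418827) (tt N69019 F418826) (tt N102554 (iv6 F437633)) (tt N69018 (iv7 F418829)))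
theorem Q97928 : ∀ i, i < 97928 → P i := stepQ 97927 Q97927 (allL N97927 (tt N60844 (iv1 D201036)) (tt N104631 (iv0 F446612)) (tt N69018 F423589) (tt N102561 (iv3 F437660)) (tt N116630 (iv4 F501057)) (tt N69013 (iv5 F423587)) (tt N119507 D222766) (tt N102556 (iv7 F437644)))
theorem Q97929 : ∀ i, i < 97929 → P i := stepQ 97928 Q97928 (allL N97928 (tt N102556 F437643) (tt N69018 F418833) (tt N60844 (iv2 D201037)) (tt N67707 F418830) (tt N70311 F418831) (tt N102714 (iv5 F438339)) (tt N67704 F418832) (tt N104631 (iv7 F446611)))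
theorem Q97930 : ∀ i, i < 97930 → P i := stepQ 97929 Q97929 (allL N97929 (tt N119508 D222767) (tt N105324 (iv0 F449719)) (tt N97542 F418834) (tt N60848 F418835) (tt N65949 F418836) (tt N114974 (iv5 F492856)) (tt N60846 (iv6 D201038)) (tt N97545 F418837))
theorem Q97931 : ∀ i, i < 97931 → P i := stepQ 97930 Q97930 (allL N97930 (tt N73298 F418841) (tt N91796 (iv0 F418842)) (tt N70934 F418838) (tt N71634 F418839) (tt N60848 F418840) (tt N117098 (iv5 F503373)) (tt N60847 (iv6 D201039)) (tt N113038 (iv7 F483671)))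
theorem Q97932 : ∀ i, i < 97932 → P i := stepQ 97931 Q97931 (allL N97931 (tt N87676 (iv1 F418846)) (tt N60849 (iv0 D201040)) (tt N61584 (iv2 F418845)) (tt N99805 (iv3 F426303)) (tt N82989 F418843) (tt N119509 D222768) (tt N61578 F418844) (tt N108781 (iv7 F463900)))
theorem Q97933 : ∀ i, i < 97933 → P i := stepQ 97932 Q97932 (allL N97932 (tt N60851 (iv1 D201041)) (tt N104966 (iv0 F448184)) (tt N97786 F418849) (tt N70588 (iv3 F418848)) (tt N98178 (iv4 F419869)) (tt N81529 F418847) (tt N86018 F418850) (tt N105879 (iv7 F452150)))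
theorem Q97934 : ∀ i, i < 97934 → P i := stepQ 97933 Q97933 (allL N97933 (tt N97786 (iv1 F418854)) (tt N105879 (iv0 F452151)) (tt N104966 (iv2 F448179)) (tt N68177 F418851) (tt N84253 F418852) (tt N98769 (iv5 F422237)) (tt N87676 F418853) (tt N60851 (iv7 D201042)))
theorem Q97935 : ∀ i, i < 97935 → P i := stepQ 97934 Q97934 (allL N97934 (tt N87856 (iv1 F418857)) (tt N98178 (iv0 F419870)) (tt N98175 (iv2 F419854)) (tt N106990 (iv3 F456540)) (tt N61033 F418855) (tt N90869 (iv5 F418856)) (tt N60852 (iv6 D201043)) (tt N104950 (iv7 F448101)))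
theorem Q97936 : ∀ i, i < 97936 → P i := stepQ 97935 Q97935 (allL N97935 (tt N112735 F482433) (tt N81482 (iv0 F418860)) (tt N106728 (iv2 F455437)) (tt N106940 (iv3 F456367)) (tt N71337 F418858) (tt N86028 F418859) (tt N60853 (iv6 D201044)) (tt N112385 (iv7 F480852)))
theorem Q97937 : ∀ i, i < 97937 → P i := stepQ 97936 Q97936 (allL N97936 (tt N60855 (iv1 D201045)) (tt N61567 F418861) (tt N116705 (iv2 F501402)) (tt N86019 (iv3 F418863)) (tt N110283 (iv4 F470829)) (tt N98338 (iv5 F420542)) (tt N111180 (iv6 F475103)) (tt N97788 F418862))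
theorem Q97938 : ∀ i, i < 97938 → P i := stepQ 97937 Q97937 (allL N97937 (tt N83964 F418869) (tt N65199 F418870) (tt N64600 F418864) (tt N83977 F418865) (tt N60856 (iv4 D201046)) (tt N89669 F418868) (tt N88731 F418866) (tt N86001 F418867))
theorem Q97939 : ∀ i, i < 97939 → P i := stepQ 97938 Q97938 (allL N97938 (tt N67888 F418881) (tt N104313 (iv0 F445194)) (tt N60897 F418876) (tt N95940 F418877) (tt N60858 F418878) (tt N62044 F418879) (tt N60857 (iv6 D201047)) (tt N66376 F418880))
theorem Q97940 : ∀ i, i < 97940 → P i := stepQ 97939 Q97939 (allL N97939 (tt N68213 F418884) (tt N87532 (iv0 F418885)) (tt N114431 (iv2 F490121)) (tt N86005 F418882) (tt N115746 (iv4 F496637)) (tt N86838 F418883) (tt N60860 (iv6 D201048)) (tt N104944 (iv7 F448061)))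
theorem Q97941 : ∀ i, i < 97941 → P i := stepQ 97940 Q97940 (allL N97940 (tt N92762 F418890) (tt N92730 F418891) (tt N65786 F418886) (tt N68670 F418887) (tt N102234 (iv4 F436291)) (tt N60861 (iv5 D201049)) (tt N65752 F418888) (tt N92759 F418889))
theorem Q97942 : ∀ i, i < 97942 → P i := stepQ 97941 Q97941 (allL N97941 (tt N66728 F418894) (tt N99438 F424582) (tt N62705 F418892) (tt N74455 F418893) (tt N99852 (iv4 F426537)) (tt N109810 (iv5 F468732)) (tt N60862 (iv6 D201050)) (tt N110792 (iv7 F473199)))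
theorem Q97943 : ∀ i, i < 97943 → P i := stepQ 97942 Q97942 (allL N97942 (tt N66644 (iv1 F418899)) (tt N66643 F418900) (tt N65096 F418895) (tt N74818 F418896) (tt N74992 F418897) (tt N74805 F418898) (tt N105276 F449517) (tt N60863 (iv7 D201051)))
theorem Q97944 : ∀ i, i < 97944 → P i := stepQ 97943 Q97943 (allL N97943 (tt N103691 F442493) (tt N103735 F442623) (tt N69003 F418901) (tt N60865 (iv3 D201052)) (tt N65817 F418902) (tt N111228 (iv5 F475322)) (tt N65820 F418903) (tt N103736 (iv7 F442628)))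
theorem Q97945 : ∀ i, i < 97945 → P i := stepQ 97944 Q97944 (allL N97944 (tt N97797 F418906) (tt N97803 F418907) (tt N103520 (iv2 F441922)) (tt N111228 (iv3 F475320)) (tt N75032 F418905) (tt N60865 (iv5 D201053)) (tt N67533 F418904) (tt N109146 (iv7 F465561)))
theorem Q97946 : ∀ i, i < 97946 → P i := stepQ 97945 Q97945 (allL N97945 (tt N97803 F418909) (tt N97797 F418910) (tt N109146 F465566) (tt N103523 (iv3 F441935)) (tt N75031 F418908) (tt N60866 (iv5 D201054)) (tt N111225 (iv6 F475303)) (tt N103520 (iv7 F441925)))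
theorem Q97947 : ∀ i, i < 97947 → P i := stepQ 97946 Q97946 (allL N97946 (tt N84995 (iv1 F418914)) (tt N84955 F418915) (tt N103778 (iv2 F442771)) (tt N69006 F418911) (tt N60867 F418912) (tt N104711 (iv5 F446950)) (tt N60866 (iv6 D201055)) (tt N67536 F418913))
theorem Q97948 : ∀ i, i < 97948 → P i := stepQ 97947 Q97947 (allL N97947 (tt N85992 F418920) (tt N61751 F418921) (tt N113579 (iv2 F486121)) (tt N60872 F418916) (tt N92754 F418917) (tt N95865 F418918) (tt N60871 (iv6 D201056)) (tt N70473 F418919))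
theorem Q97949 : ∀ i, i < 97949 → P i := stepQ 97948 Q97948 (allL N97948 (tt N95806 F418925) (tt N102425 (iv0 F437189)) (tt N60896 F418922) (tt N94591 F418923) (tt N61436 F418924) (tt N60876 (iv5 D201057)) (tt N101209 (iv6 F432209)) (tt N102531 (iv7 F437538)))
theorem Q97950 : ∀ i, i < 97950 → P i := stepQ 97949 Q97949 (allL N97949 (tt N70795 F418929) (tt N70808 F418930) (tt N60879 F418926) (tt N70702 F418927) (tt N92751 F418928) (tt N114454 (iv5 F490254)) (tt N60877 (iv6 D201058)) (tt N70806 F418931))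
theorem Q97951 : ∀ i, i < 97951 → P i := stepQ 97950 Q97950 (allL N97950 (tt N93981 F418935) (tt N98061 (iv0 F419320)) (tt N92750 F418932) (tt N93027 F418933) (tt N102193 (iv4 F436118)) (tt N60878 (iv5 D201059)) (tt N95027 (iv6 F418936)) (tt N92753 F418934))
theorem Q97952 : ∀ i, i < 97952 → P i := stepQ 97951 Q97951 (allL N97951 (tt N70718 F418943) (tt N103924 (iv0 F443393)) (tt N92751 F418939) (tt N67182 F418940) (tt N60879 F418941) (tt N102086 (iv5 F435656)) (tt N60878 (iv6 D201060)) (tt N67341 F418942))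
theorem Q97953 : ∀ i, i < 97953 → P i := stepQ 97952 Q97952 (allL N97952 (tt N60879 (iv1 D201061)) (tt N70806 F418944) (tt N70808 F418947) (tt N111248 (iv3 F475425)) (tt N90426 (iv4 F418946)) (tt N113100 (iv5 F483969)) (tt N70817 (iv6 F418949)) (tt N70795 F418945))
theorem Q97954 : ∀ i, i < 97954 → P i := stepQ 97953 Q97953 (allL N97953 (tt N107920 F460295) (tt N114898 (iv0 F492415)) (tt N114454 (iv2 F490252)) (tt N60881 F418950) (tt N106304 F469770) (tt N60879 (iv5 D201062)) (tt N76222 F418951) (tt N105809 (iv7 F451828)))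
theorem Q97955 : ∀ i, i < 97955 → P i := stepQ 97954 Q97954 (allL N97954 (tt N70454 (iv1 F418954)) (tt N60881 (iv0 D201063)) (tt N104057 (iv2 F443955)) (tt N99796 (iv3 F426256)) (tt N106394 (iv4 F454272)) (tt N69517 F418952) (tt N61383 F418953) (tt N104059 (iv7 F443967)))
theorem Q97956 : ∀ i, i < 97956 → P i := stepQ 97955 Q97955 (allL N97955 (tt N60881 (iv1 D201064)) (tt N70454 F418955) (tt N104059 (iv2 F443965)) (tt N60920 (iv3 F418957)) (tt N106393 (iv4 F454266)) (tt N69518 F418956) (tt N85179 (iv6 F418958)) (tt N104057 (iv7 F443958)))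
theorem Q97957 : ∀ i, i < 97957 → P i := stepQ 97956 Q97956 (allL N97956 (tt N72508 F420757) (tt N114629 F491092) (tt N105813 (iv2 F451843)) (tt N119510 D222769) (tt N60881 (iv4 D201065)) (tt N106508 (iv5 F454704)) (tt N76223 F418959) (tt N105810 (iv7 F451831)))
theorem Q97958 : ∀ i, i < 97958 → P i := stepQ 97957 Q97957 (allL N97957 (tt N98748 (iv1 F422139)) (tt N98743 (iv0 F422116)) (tt N60884 F418960) (tt N113579 F486118) (tt N109145 (iv4 F465555)) (tt N68367 F418961) (tt N60882 (iv6 D201066)) (tt N98747 (iv7 F422132)))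
theorem Q97959 : ∀ i, i < 97959 → P i := stepQ 97958 Q97958 (allL N97958 (tt N66405 (iv1 F418968)) (tt N66403 (iv0 F418967)) (tt N67882 F418965) (tt N60883 (iv3 D201067)) (tt N60885 F418962) (tt N67727 F418966) (tt N67852 (iv6 F418964)) (tt N67795 F418963))
theorem Q97960 : ∀ i, i < 97960 → P i := stepQ 97959 Q97959 (allL N97959 (tt N75079 F418971) (tt N75073 F418972) (tt N109144 (iv2 F465548)) (tt N67727 F418969) (tt N75024 F418970) (tt N60883 (iv5 D201068)) (tt N119511 D222770) (tt N103841 F443049))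
theorem Q97961 : ∀ i, i < 97961 → P i := stepQ 97960 Q97960 (allL N97960 (tt N116227 (iv1 F499130)) (tt N98717 (iv0 F421991)) (tt N109145 (iv2 F465553)) (tt N67852 F418973) (tt N60884 F418974) (tt N105569 (iv5 F450772)) (tt N60883 (iv6 D201069)) (tt N67883 (iv7 F418975)))
theorem Q97962 : ∀ i, i < 97962 → P i := stepQ 97961 Q97961 (allL N97961 (tt N98747 (iv1 F422131)) (tt N60884 (iv0 D201070)) (tt N98748 (iv2 F422135)) (tt N75714 (iv3 F418977)) (tt N102919 (iv4 F439268)) (tt N83803 F418976) (tt N98742 F422111) (tt N98743 (iv7 F422115)))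
theorem Q97963 : ∀ i, i < 97963 → P i := stepQ 97962 Q97962 (allL N97962 (tt N98743 (iv1 F422117)) (tt N98748 F422138) (tt N98747 F422133) (tt N60888 F418978) (tt N67883 F418979) (tt N104027 (iv5 F443859)) (tt N70453 F418980) (tt N60884 (iv7 D201071)))
theorem Q97964 : ∀ i, i < 97964 → P i := stepQ 97963 Q97963 (allL N97963 (tt N70612 F418983) (tt N70614 F418984) (tt N98736 (iv2 F422083)) (tt N60931 F418981) (tt N115396 (iv4 F494979)) (tt N60886 (iv5 D201072)) (tt N114071 (iv6 F488442)) (tt N61742 F418982))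
theorem Q97965 : ∀ i, i < 97965 → P i := stepQ 97964 Q97964 (allL N97964 (tt N60887 (iv1 D201073)) (tt N70474 F418985) (tt N93012 F418989) (tt N109742 (iv3 F468393)) (tt N115740 (iv4 F496606)) (tt N66074 F418987) (tt N70693 (iv6 F418988)) (tt N95867 F418986))
theorem Q97966 : ∀ i, i < 97966 → P i := stepQ 97965 Q97965 (allL N97965 (tt N95658 F418994) (tt N69378 F418995) (tt N95866 F418990) (tt N83598 F418991) (tt N60887 (iv4 D201074)) (tt N95429 F418993) (tt N87126 F418992) (tt N97348 (iv7 F418996)))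
theorem Q97967 : ∀ i, i < 97967 → P i := stepQ 97966 Q97966 (allL N97966 (tt N93012 (iv1 F419001)) (tt N95867 F419002) (tt N70474 F418997) (tt N104027 (iv3 F443857)) (tt N97348 F418998) (tt N60888 F418999) (tt N95870 F419000) (tt N60887 (iv7 D201075)))
theorem Q97968 : ∀ i, i < 97968 → P i := stepQ 97967 Q97967 (allL N97967 (tt N72123 (iv1 F419006)) (tt N69104 F419007) (tt N103327 (iv2 F441147)) (tt N65469 F419003) (tt N98990 (iv4 F422945)) (tt N68941 F419004) (tt N65455 F419005) (tt N60895 (iv7 D201076)))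
theorem Q97969 : ∀ i, i < 97969 → P i := stepQ 97968 Q97968 (allL N97968 (tt N60897 (iv1 D201077)) (tt N66376 F419008) (tt N104313 (iv2 F445189)) (tt N66104 (iv3 F419012)) (tt N70018 F419010) (tt N67732 F419011) (tt N66066 (iv6 F419013)) (tt N67888 F419009))
theorem Q97970 : ∀ i, i < 97970 → P i := stepQ 97969 Q97969 (allL N97969 (tt N68184 F419019) (tt N68331 F419020) (tt N76809 F419014) (tt N60969 F419015) (tt N95944 F419016) (tt N60900 (iv5 D201078)) (tt N61443 F419017) (tt N60903 F419018))
theorem Q97971 : ∀ i, i < 97971 → P i := stepQ 97970 Q97970 (allL N97970 (tt N97545 F419023) (tt N97542 (iv0 F419024)) (tt N119508 F515974) (tt N60901 (iv3 D201079)) (tt N60937 F419021) (tt N114275 (iv5 F489344)) (tt N70773 F419022) (tt N105324 (iv7 F449718)))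
theorem Q97972 : ∀ i, i < 97972 → P i := stepQ 97971 Q97971 (allL N97971 (tt N102527 (iv1 F437516)) (tt N104066 (iv0 F444011)) (tt N104312 F445188) (tt N114275 (iv3 F489342)) (tt N104177 (iv4 F444548)) (tt N60901 (iv5 D201080)) (tt N116761 (iv6 F501687)) (tt N104311 F445183))
theorem Q97973 : ∀ i, i < 97973 → P i := stepQ 97972 Q97972 (allL N97972 (tt N62736 (iv1 F419027)) (tt N70710 (iv0 F419026)) (tt N75041 F419028) (tt N60902 (iv3 D201081)) (tt N104709 (iv4 F446943)) (tt N105915 (iv5 F452325)) (tt N98732 (iv6 F422065)) (tt N75040 F419025))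
theorem Q97974 : ∀ i, i < 97974 → P i := stepQ 97973 Q97973 (allL N97973 (tt N104066 (iv1 F444012)) (tt N102527 (iv0 F437515)) (tt N104311 F445181) (tt N105915 (iv3 F452327)) (tt N96699 F419029) (tt N60902 (iv5 D201082)) (tt N114274 (iv6 F489338)) (tt N104312 (iv7 F445186)))
theorem Q97975 : ∀ i, i < 97975 → P i := stepQ 97974 Q97974 (allL N97974 (tt N119512 D222771) (tt N111172 (iv0 F475076)) (tt N61462 F419030) (tt N114454 (iv3 F490253)) (tt N109872 (iv4 F469018)) (tt N70702 F419031) (tt N60905 (iv6 D201083)) (tt N105842 (iv7 F451986)))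
theorem Q97976 : ∀ i, i < 97976 → P i := stepQ 97975 Q97975 (allL N97975 (tt N101046 (iv1 F431438)) (tt N101044 (iv0 F431431)) (tt N61460 F419032) (tt N76225 F419033) (tt N106382 (iv4 F454222)) (tt N68369 F419034) (tt N60906 (iv6 D201084)) (tt N116762 (iv7 F501694)))
theorem Q97977 : ∀ i, i < 97977 → P i := stepQ 97976 Q97976 (allL N97976 (tt N116791 F501857) (tt N109534 F467412) (tt N107607 (iv2 F458923)) (tt N60907 (iv3 D201085)) (tt N60977 F419035) (tt N119513 D222772) (tt N96120 F419036) (tt N61464 F419037))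
theorem Q97978 : ∀ i, i < 97978 → P i := stepQ 97977 Q97977 (allL N97977 (tt N76584 F419041) (tt N76613 F419042) (tt N63689 F419038) (tt N119513 (iv3 F516000)) (tt N63384 F419040) (tt N60907 (iv5 D201086)) (tt N113421 F485425) (tt N61465 F419039))
theorem Q97979 : ∀ i, i < 97979 → P i := stepQ 97978 Q97978 (allL N97978 (tt N92563 F419044) (tt N109092 F465299) (tt N109091 (iv2 F465295)) (tt N60908 (iv3 D201087)) (tt N105587 (iv4 F450854)) (tt N99995 (iv5 F427101)) (tt N84937 F419043) (tt N109033 (iv7 F465018)))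
theorem Q97980 : ∀ i, i < 97980 → P i := stepQ 97979 Q97979 (allL N97979 (tt N60914 (iv1 F419047)) (tt N60909 (iv0 D201088)) (tt N60911 (iv2 F419048)) (tt N75709 (iv3 F419049)) (tt N85012 F419045) (tt N114935 (iv5 F492626)) (tt N70700 F419046) (tt N60912 (iv7 F419051)))
theorem Q97981 : ∀ i, i < 97981 → P i := stepQ 97980 Q97980 (allL N97980 (tt N60909 (iv1 D201089)) (tt N60914 F419053) (tt N60912 F419056) (tt N70704 F419057) (tt N85013 (iv4 F419055)) (tt N114937 (iv5 F492638)) (tt N105847 (iv6 F452010)) (tt N60911 F419054))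
theorem Q97982 : ∀ i, i < 97982 → P i := stepQ 97981 Q97981 (allL N97981 (tt N117341 (iv1 F504555)) (tt N116706 (iv0 F501413)) (tt N114935 (iv2 F492623)) (tt N70703 F419059) (tt N108366 (iv4 F462277)) (tt N60911 (iv5 D201090)) (tt N85202 F419060) (tt N114937 (iv7 F492639)))
theorem Q97983 : ∀ i, i < 97983 → P i := stepQ 97982 Q97982 (allL N97982 (tt N116706 (iv1 F501414)) (tt N117341 (iv0 F504554)) (tt N114937 (iv2 F492636)) (tt N98604 F421537) (tt N113123 F484077) (tt N60912 (iv5 D201091)) (tt N98636 (iv6 F421671)) (tt N114935 (iv7 F492625)))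
theorem Q97984 : ∀ i, i < 97984 → P i := stepQ 97983 Q97983 (allL N97983 (tt N104046 F443924) (tt N105845 F452004) (tt N105847 (iv2 F452008)) (tt N111252 (iv3 F475444)) (tt N85017 F419061) (tt N118421 (iv5 F510263)) (tt N60912 (iv6 D201092)) (tt N105844 (iv7 F451995)))
theorem Q97985 : ∀ i, i < 97985 → P i := stepQ 97984 Q97984 (allL N97984 (tt N94157 (iv1 F419072)) (tt N60913 (iv0 D201093)) (tt N100204 (iv2 F427981)) (tt N119512 F515998) (tt N116712 (iv4 F501443)) (tt N98546 (iv5 F421280)) (tt N100169 (iv6 F427815)) (tt N85133 F419074))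
theorem Q97986 : ∀ i, i < 97986 → P i := stepQ 97985 Q97985 (allL N97985 (tt N60913 (iv1 D201094)) (tt N94157 F419062) (tt N85133 F419065) (tt N61643 F419066) (tt N116713 (iv4 F501448)) (tt N85020 (iv5 F419064)) (tt N84811 (iv6 F419063)) (tt N100204 (iv7 F427984)))
theorem Q97987 : ∀ i, i < 97987 → P i := stepQ 97986 Q97986 (allL N97986 (tt N85133 (iv1 F419073)) (tt N100204 F427986) (tt N94157 F419067) (tt N60922 F419068) (tt N94149 F419069) (tt N60914 F419070) (tt N94006 F419071) (tt N60913 (iv7 D201095)))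
theorem Q97988 : ∀ i, i < 97988 → P i := stepQ 97987 Q97987 (allL N97987 (tt N98597 (iv1 F421526)) (tt N115033 (iv0 F493133)) (tt N70777 F419075) (tt N60916 F419076) (tt N74947 (iv4 F419078)) (tt N60915 (iv5 D201096)) (tt N74904 F419077) (tt N117727 (iv7 F506650)))
theorem Q97989 : ∀ i, i < 97989 → P i := stepQ 97988 Q97988 (allL N97988 (tt N60917 (iv1 F419080)) (tt N60916 (iv0 D201097)) (tt N105821 F451885) (tt N110266 (iv3 F470727)) (tt N95251 (iv4 F459356)) (tt N97788 F419079) (tt N98327 (iv6 F420516)) (tt N98338 F420543))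
theorem Q97990 : ∀ i, i < 97990 → P i := stepQ 97989 Q97989 (allL N97989 (tt N60916 (iv1 D201098)) (tt N60917 F419081) (tt N98338 (iv2 F420546)) (tt N116706 (iv3 F501410)) (tt N118631 (iv4 F511231)) (tt N116705 (iv5 F501408)) (tt N78389 F420547) (tt N105821 (iv7 F451887)))
theorem Q97991 : ∀ i, i < 97991 → P i := stepQ 97990 Q97990 (allL N97990 (tt N119038 F513428) (tt N119477 (iv0 F515820)) (tt N105822 (iv2 F451888)) (tt N119514 D222773) (tt N60916 (iv4 D201099)) (tt N119484 (iv5 F515849)) (tt N108658 F463399) (tt N117735 (iv7 F506699)))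
theorem Q97992 : ∀ i, i < 97992 → P i := stepQ 97991 Q97991 (allL N97991 (tt N84819 F419085) (tt N94763 (iv0 F419086)) (tt N94771 F419082) (tt N74904 F419083) (tt N108658 (iv4 F463396)) (tt N74903 F419084) (tt N60916 (iv6 D201100)) (tt N94772 (iv7 F419087)))
theorem Q97993 : ∀ i, i < 97993 → P i := stepQ 97992 Q97992 (allL N97992 (tt N119477 (iv1 F515821)) (tt N119038 (iv0 F513427)) (tt N117735 (iv2 F506696)) (tt N89754 F419089) (tt N60917 (iv4 D201101)) (tt N119485 (iv5 F515853)) (tt N89753 F419090) (tt N105822 (iv7 F451889)))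
theorem Q97994 : ∀ i, i < 97994 → P i := stepQ 97993 Q97993 (allL N97993 (tt N69603 F419094) (tt N61594 (iv0 F419096)) (tt N108780 F463894) (tt N70794 F419091) (tt N108498 (iv4 F462852)) (tt N60918 (iv5 D201102)) (tt N86606 F419092) (tt N70789 F419093))
theorem Q97995 : ∀ i, i < 97995 → P i := stepQ 97994 Q97994 (allL N97994 (tt N108103 (iv1 F461117)) (tt N60921 (iv0 D201103)) (tt N97827 (iv2 F419098)) (tt N119515 D222774) (tt N66779 F419099) (tt N119516 D222775) (tt N66778 F419097) (tt N97828 F419100))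
theorem Q97996 : ∀ i, i < 97996 → P i := stepQ 97995 Q97995 (allL N97995 (tt N108123 F461213) (tt N108169 F461379) (tt N99520 (iv2 F424963)) (tt N60921 (iv3 D201104)) (tt N95953 F419101) (tt N108108 (iv5 F461142)) (tt N66579 F419102) (tt N99518 (iv7 F424960)))
theorem Q97997 : ∀ i, i < 97997 → P i := stepQ 97996 Q97996 (allL N97996 (tt N119517 D222776) (tt N117202 (iv0 F503885)) (tt N108173 (iv2 F461392)) (tt N108108 F461145) (tt N119518 D222777) (tt N60921 (iv5 D201105)) (tt N108173 (iv6 F461394)) (tt N108195 (iv7 F461471)))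
theorem Q97998 : ∀ i, i < 97998 → P i := stepQ 97997 Q97997 (allL N97997 (tt N97828 (iv1 F419104)) (tt N97827 F419105) (tt N108103 (iv2 F461113)) (tt N99518 (iv3 F424958)) (tt N60922 F419103) (tt N108195 (iv5 F461470)) (tt N118056 (iv6 F508332)) (tt N60921 (iv7 D201106)))
theorem Q97999 : ∀ i, i < 97999 → P i := stepQ 97998 Q97998 (allL N97998 (tt N83005 F419108) (tt N86128 (iv0 F419109)) (tt N72029 F419106) (tt N113821 F487288) (tt N84931 F419107) (tt N119210 (iv5 F514378)) (tt N60926 (iv6 D201107)) (tt N117145 (iv7 F503615)))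
theorem Q98000 : ∀ i, i < 98000 → P i := stepQ 97999 Q97999 (allL N97999 (tt N71270 F419115) (tt N71284 (iv0 F419114)) (tt N71283 F419110) (tt N70859 F419111) (tt N65337 F419112) (tt N113835 (iv5 F487358)) (tt N60927 (iv6 D201108)) (tt N71224 F419113))
theorem Q98001 : ∀ i, i < 98001 → P i := stepQ 98000 Q98000 (allL N98000 (tt N60928 (iv1 D201109)) (tt N86288 F419116) (tt N72052 F419120) (tt N119519 D222778) (tt N84947 (iv4 F419119)) (tt N85470 F419118) (tt N105317 (iv6 F449679)) (tt N84945 F419117))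
theorem Q98002 : ∀ i, i < 98002 → P i := stepQ 98001 Q98001 (allL N98001 (tt N72052 (iv1 F419126)) (tt N84945 F419127) (tt N86288 F419121) (tt N72096 F419122) (tt N60930 F419123) (tt N86281 F419124) (tt N82976 F419125) (tt N60928 (iv7 D201110)))
theorem Q98003 : ∀ i, i < 98003 → P i := stepQ 98002 Q98002 (allL N98002 (tt N113579 (iv1 F486115)) (tt N70473 (iv0 F419131)) (tt N61751 F419128) (tt N60929 (iv3 D201111)) (tt N112820 (iv4 F482783)) (tt N108445 (iv5 F462605)) (tt N61747 F419129) (tt N85992 F419130))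
theorem Q98004 : ∀ i, i < 98004 → P i := stepQ 98003 Q98003 (allL N98003 (tt N110977 F474046) (tt N113589 F486181) (tt N76397 F419132) (tt N60934 F419133) (tt N104211 (iv4 F444716)) (tt N60933 (iv5 D201112)) (tt N76317 (iv6 F419135)) (tt N83974 F419134))
theorem Q98005 : ∀ i, i < 98005 → P i := stepQ 98004 Q98004 (allL N98004 (tt N97787 F419140) (tt N97784 F419141) (tt N61740 F419136) (tt N78993 F419137) (tt N102867 (iv4 F439010)) (tt N60935 (iv5 D201113)) (tt N93099 F419138) (tt N78987 F419139))
theorem Q98006 : ∀ i, i < 98006 → P i := stepQ 98005 Q98005 (allL N98005 (tt N60936 (iv1 D201114)) (tt N117703 F506521) (tt N102890 (iv2 F439130)) (tt N72066 (iv3 F419143)) (tt N117944 (iv4 F507717)) (tt N67395 F419142) (tt N68938 (iv6 F419144)) (tt N117700 (iv7 F506498)))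
theorem Q98007 : ∀ i, i < 98007 → P i := stepQ 98006 Q98006 (allL N98006 (tt N117700 (iv1 F506500)) (tt N102890 (iv0 F439134)) (tt N60936 (iv2 D201115)) (tt N117704 (iv3 F506522)) (tt N92612 F419145) (tt N102023 (iv5 F435401)) (tt N98569 F421358) (tt N117703 (iv7 F506519)))
theorem Q98008 : ∀ i, i < 98008 → P i := stepQ 98007 Q98007 (allL N98007 (tt N117704 (iv1 F506527)) (tt N60937 (iv0 D201116)) (tt N102924 (iv2 F439284)) (tt N66048 F419148) (tt N92768 F419147) (tt N66047 F419146) (tt N92764 F419150) (tt N92765 (iv7 F419149)))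
theorem Q98009 : ∀ i, i < 98009 → P i := stepQ 98008 Q98008 (allL N98008 (tt N102924 (iv1 F439290)) (tt N92765 F419151) (tt N60937 (iv2 D201117)) (tt N117703 (iv3 F506515)) (tt N119508 (iv4 F515971)) (tt N111816 (iv5 F478130)) (tt N103927 (iv6 F443407)) (tt N117704 (iv7 F506526)))
theorem Q98010 : ∀ i, i < 98010 → P i := stepQ 98009 Q98009 (allL N98009 (tt N103919 (iv1 F443376)) (tt N70721 (iv0 F419155)) (tt N103927 F443405) (tt N60939 F419152) (tt N70773 F419153) (tt N104305 (iv5 F445150)) (tt N60937 (iv6 D201118)) (tt N67367 F419154))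
theorem Q98011 : ∀ i, i < 98011 → P i := stepQ 98010 Q98010 (allL N98010 (tt N67505 (iv1 F419158)) (tt N60940 (iv0 D201119)) (tt N104435 F445748) (tt N68936 (iv3 F419159)) (tt N103684 (iv4 F442475)) (tt N68645 F419156) (tt N97736 F419157) (tt N97854 (iv7 F419160)))
theorem Q98012 : ∀ i, i < 98012 → P i := stepQ 98011 Q98011 (allL N98011 (tt N60940 (iv1 D201120)) (tt N67505 F419161) (tt N97854 F419164) (tt N101214 (iv3 F432234)) (tt N119520 D222779) (tt N97520 F419162) (tt N66606 (iv6 F419163)) (tt N104435 (iv7 F445750)))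
theorem Q98013 : ∀ i, i < 98013 → P i := stepQ 98012 Q98012 (allL N98012 (tt N119521 D222780) (tt N114446 (iv0 F490212)) (tt N104436 (iv2 F445752)) (tt N104450 (iv3 F445816)) (tt N60940 (iv4 D201121)) (tt N103482 F441816) (tt N104449 F445813) (tt N104437 (iv7 F445758)))
theorem Q98014 : ∀ i, i < 98014 → P i := stepQ 98013 Q98013 (allL N98013 (tt N97816 (iv1 F419166)) (tt N60941 (iv0 D201122)) (tt N117738 (iv2 F506720)) (tt N92731 F419165) (tt N111795 (iv4 F478011)) (tt N110283 (iv5 F470830)) (tt N92729 (iv6 F419167)) (tt N102926 (iv7 F439296)))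
theorem Q98015 : ∀ i, i < 98015 → P i := stepQ 98014 Q98014 (allL N98014 (tt N102517 F437489) (tt N119456 (iv0 F515721)) (tt N103402 (iv2 F441454)) (tt N92633 F419168) (tt N60941 (iv4 D201123)) (tt N119522 D222781) (tt N92257 (iv6 F419169)) (tt N102487 (iv7 F437411)))
theorem Q98016 : ∀ i, i < 98016 → P i := stepQ 98015 Q98015 (allL N98015 (tt N70719 F436371) (tt N93064 (iv0 F419174)) (tt N67977 F419170) (tt N60943 F419171) (tt N92257 F419172) (tt N115410 (iv5 F495055)) (tt N60941 (iv6 D201124)) (tt N67354 F419173))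
theorem Q98017 : ∀ i, i < 98017 → P i := stepQ 98016 Q98016 (allL N98016 (tt N60942 (iv1 D201125)) (tt N60945 F419175) (tt N88746 (iv2 F419178)) (tt N93218 (iv3 F419179)) (tt N118128 (iv4 F508748)) (tt N92238 F419177) (tt N88745 F419180) (tt N92699 F419176))
theorem Q98018 : ∀ i, i < 98018 → P i := stepQ 98017 Q98017 (allL N98017 (tt N117932 (iv1 F507669)) (tt N69096 F419184) (tt N98613 (iv2 F421578)) (tt N97819 F419181) (tt N60942 (iv4 D201126)) (tt N61533 F419183) (tt N103865 F443144) (tt N71085 F419182))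
theorem Q98019 : ∀ i, i < 98019 → P i := stepQ 98018 Q98018 (allL N98018 (tt N116130 (iv1 F498641)) (tt N116131 (iv0 F498648)) (tt N117737 (iv2 F506709)) (tt N97822 F419185) (tt N103865 (iv4 F443143)) (tt N115409 (iv5 F495049)) (tt N60942 (iv6 D201127)) (tt N119523 D222782))
theorem Q98020 : ∀ i, i < 98020 → P i := stepQ 98019 Q98019 (allL N98019 (tt N67296 F419188) (tt N67169 F419189) (tt N67298 F419186) (tt N115410 (iv3 F495054)) (tt N118112 (iv4 F508666)) (tt N60943 (iv5 D201128)) (tt N115409 (iv6 F495052)) (tt N67297 F419187))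
theorem Q98021 : ∀ i, i < 98021 → P i := stepQ 98020 Q98020 (allL N98020 (tt N69096 F419193) (tt N117932 (iv0 F507667)) (tt N71085 F419190) (tt N119282 (iv3 F514806)) (tt N60945 (iv4 D201129)) (tt N61530 F419191) (tt N69077 F419192) (tt N98613 (iv7 F421580)))
theorem Q98022 : ∀ i, i < 98022 → P i := stepQ 98021 Q98021 (allL N98021 (tt N110283 (iv1 F470833)) (tt N110282 (iv0 F470824)) (tt N110281 F470817) (tt N60946 (iv3 D201130)) (tt N92844 (iv4 F419197)) (tt N92663 F419194) (tt N61570 F419195) (tt N97905 F419196))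
theorem Q98023 : ∀ i, i < 98023 → P i := stepQ 98022 Q98022 (allL N98022 (tt N78860 F419201) (tt N67532 F419202) (tt N97568 F419199) (tt N119524 D222783) (tt N60946 (iv4 D201131)) (tt N61527 F419200) (tt N118076 (iv6 F508441)) (tt N98603 (iv7 F421531)))
theorem Q98024 : ∀ i, i < 98024 → P i := stepQ 98023 Q98023 (allL N98023 (tt N103295 F441030) (tt N102363 F436916) (tt N103296 (iv2 F441033)) (tt N60947 (iv3 D201132)) (tt N97553 (iv4 F419205)) (tt N92669 F419203) (tt N102364 F436920) (tt N97552 F419204))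
theorem Q98025 : ∀ i, i < 98025 → P i := stepQ 98024 Q98024 (allL N98024 (tt N67532 F419209) (tt N78860 F419210) (tt N98603 (iv2 F421529)) (tt N97570 F419206) (tt N60947 (iv4 D201133)) (tt N61518 F419207) (tt N104498 (iv6 F446031)) (tt N97568 F419208))
theorem Q98026 : ∀ i, i < 98026 → P i := stepQ 98025 Q98025 (allL N98025 (tt N97849 F453330) (tt N88652 (iv0 F419212)) (tt N97903 F419211) (tt N102364 (iv3 F436919)) (tt N104498 F446030) (tt N87730 F419213) (tt N60947 (iv6 D201134)) (tt N117512 (iv7 F505436)))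
theorem Q98027 : ∀ i, i < 98027 → P i := stepQ 98026 Q98026 (allL N98026 (tt N61538 (iv1 F419218)) (tt N60948 (iv0 D201135)) (tt N98625 F421636) (tt N104602 (iv3 F446493)) (tt N61573 F419217) (tt N61589 F419216) (tt N103818 (iv6 F442949)) (tt N98624 F421631))
theorem Q98028 : ∀ i, i < 98028 → P i := stepQ 98027 Q98027 (allL N98027 (tt N60948 (iv1 D201136)) (tt N61538 F419219) (tt N98624 F421630) (tt N104653 F446705) (tt N61592 F419220) (tt N61561 (iv5 F419221)) (tt N119525 D222784) (tt N98625 (iv7 F421633)))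
theorem Q98029 : ∀ i, i < 98029 → P i := stepQ 98028 Q98028 (allL N98028 (tt N114416 F490046) (tt N119526 D222785) (tt N119527 D222786) (tt N60948 (iv3 D201137)) (tt N104450 (iv4 F445817)) (tt N98593 (iv5 F421483)) (tt N102585 (iv6 F437798)) (tt N98623 (iv7 F421626)))
theorem Q98030 : ∀ i, i < 98030 → P i := stepQ 98029 Q98029 (allL N98029 (tt N119410 (iv1 F515469)) (tt N119409 F515467) (tt N117361 (iv2 F504664)) (tt N104438 (iv3 F445760)) (tt N98626 (iv4 F421638)) (tt N102071 (iv5 F435595)) (tt N60949 (iv6 D201138)) (tt N102070 F435591))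
theorem Q98031 : ∀ i, i < 98031 → P i := stepQ 98030 Q98030 (allL N98030 (tt N92766 (iv1 F419225)) (tt N60955 (iv0 D201139)) (tt N105934 (iv2 F452414)) (tt N67462 F419224) (tt N70820 F419223) (tt N77305 F419222) (tt N92737 (iv6 F419231)) (tt N77304 F419226))
theorem Q98032 : ∀ i, i < 98032 → P i := stepQ 98031 Q98031 (allL N98031 (tt N105934 (iv1 F452418)) (tt N77304 F419237) (tt N60955 (iv2 D201140)) (tt N67410 F419232) (tt N92733 F419233) (tt N78406 F419234) (tt N67407 F419235) (tt N92766 F419236))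
theorem Q98033 : ∀ i, i < 98033 → P i := stepQ 98032 Q98032 (allL N98032 (tt N117945 F507724) (tt N118128 F508751) (tt N98619 (iv2 F421612)) (tt N82960 F419238) (tt N60956 (iv4 D201141)) (tt N61536 F419239) (tt N82969 F419240) (tt N98616 (iv7 F421594)))
theorem Q98034 : ∀ i, i < 98034 → P i := stepQ 98033 Q98033 (allL N98033 (tt N60957 (iv1 D201142)) (tt N67404 F419241) (tt N102250 (iv2 F436364)) (tt N67203 (iv3 F419244)) (tt N92784 F419243) (tt N102142 (iv5 F435923)) (tt N102390 (iv6 F437022)) (tt N67207 F419242))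
theorem Q98035 : ∀ i, i < 98035 → P i := stepQ 98034 Q98034 (allL N98034 (tt N102250 (iv1 F436368)) (tt N67207 (iv0 F419251)) (tt N67404 F419246) (tt N67428 F419247) (tt N60961 F419248) (tt N79675 F419249) (tt N70785 F419250) (tt N60957 (iv7 D201143)))
theorem Q98036 : ∀ i, i < 98036 → P i := stepQ 98035 Q98035 (allL N98035 (tt N72067 (iv1 F419256)) (tt N72073 (iv0 F419255)) (tt N72071 F419252) (tt N60963 (iv3 D201144)) (tt N60965 F419253) (tt N110239 (iv5 F470579)) (tt N82762 (iv6 F419257)) (tt N72070 F419254))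
theorem Q98037 : ∀ i, i < 98037 → P i := stepQ 98036 Q98036 (allL N98036 (tt N102426 (iv1 F437194)) (tt N68316 (iv0 F419260)) (tt N104759 (iv2 F447138)) (tt N82762 F419258) (tt N60964 F419259) (tt N116138 (iv5 F498682)) (tt N60963 (iv6 D201145)) (tt N104386 (iv7 F445536)))
theorem Q98038 : ∀ i, i < 98038 → P i := stepQ 98037 Q98037 (allL N98037 (tt N98693 (iv1 F421871)) (tt N98692 F421867) (tt N98538 (iv2 F421233)) (tt N119025 F513351) (tt N60969 (iv4 D201146)) (tt N119411 (iv5 F515476)) (tt N61597 F419261) (tt N60976 F419262))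
theorem Q98039 : ∀ i, i < 98039 → P i := stepQ 98038 Q98038 (allL N98038 (tt N75538 F419267) (tt N75541 F419268) (tt N86115 F419263) (tt N60971 F419264) (tt N74924 F419265) (tt N60970 (iv5 D201147)) (tt N110525 (iv6 F471985)) (tt N86113 F419266))
theorem Q98040 : ∀ i, i < 98040 → P i := stepQ 98039 Q98039 (allL N98039 (tt N105847 (iv1 F452012)) (tt N105844 (iv0 F451996)) (tt N105845 F452002) (tt N60972 F419269) (tt N79062 F419270) (tt N76424 F419271) (tt N60970 (iv6 D201148)) (tt N104046 (iv7 F443921)))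
theorem Q98041 : ∀ i, i < 98041 → P i := stepQ 98040 Q98040 (allL N98040 (tt N60973 (iv1 F419273)) (tt N60971 (iv0 D201149)) (tt N97919 (iv2 F419274)) (tt N114533 F490644) (tt N119528 D222787) (tt N92134 F419272) (tt N98511 F421175) (tt N111154 (iv7 F474964)))
theorem Q98042 : ∀ i, i < 98042 → P i := stepQ 98041 Q98041 (allL N98041 (tt N60971 (iv1 D201150)) (tt N60973 F419275) (tt N111154 (iv2 F474962)) (tt N104066 (iv3 F444008)) (tt N104467 (iv4 F445892)) (tt N97920 F419278) (tt N61625 (iv6 F419277)) (tt N97919 F419276))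
theorem Q98043 : ∀ i, i < 98043 → P i := stepQ 98042 Q98042 (allL N98042 (tt N119499 (iv1 F515925)) (tt N119529 D222788) (tt N117739 (iv2 F506721)) (tt N111156 (iv3 F474974)) (tt N60971 (iv4 D201151)) (tt N104615 F446555) (tt N119530 D222789) (tt N111155 F474971))
theorem Q98044 : ∀ i, i < 98044 → P i := stepQ 98043 Q98043 (allL N98043 (tt N86134 F419282) (tt N86133 (iv0 F419283)) (tt N86136 F419279) (tt N110525 (iv3 F471982)) (tt N119530 (iv4 F516087)) (tt N97175 F419280) (tt N60971 (iv6 D201152)) (tt N86130 F419281))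
theorem Q98045 : ∀ i, i < 98045 → P i := stepQ 98044 Q98044 (allL N98044 (tt N119529 (iv1 F516079)) (tt N119499 (iv0 F515924)) (tt N111155 (iv2 F474967)) (tt N119027 (iv3 F513360)) (tt N60973 (iv4 D201153)) (tt N104491 F446005) (tt N85875 F419284) (tt N117739 (iv7 F506723)))
theorem Q98046 : ∀ i, i < 98046 → P i := stepQ 98045 Q98045 (allL N98045 (tt N74898 (iv1 F419288)) (tt N61235 (iv0 F419287)) (tt N102954 (iv2 F439417)) (tt N60974 (iv3 D201154)) (tt N92570 (iv4 F419286)) (tt N74901 F419285) (tt N119531 D222790) (tt N102957 (iv7 F439436)))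
theorem Q98047 : ∀ i, i < 98047 → P i := stepQ 98046 Q98046 (allL N98046 (tt N104616 (iv1 F446560)) (tt N78876 F419289) (tt N111179 (iv2 F475100)) (tt N119439 (iv3 F515633)) (tt N60974 (iv4 D201155)) (tt N119438 (iv5 F515631)) (tt N119532 D222791) (tt N111181 (iv7 F475112)))
theorem Q98048 : ∀ i, i < 98048 → P i := stepQ 98047 Q98047 (allL N98047 (tt N111166 F475040) (tt N118096 (iv0 F508564)) (tt N98337 (iv2 F420540)) (tt N119531 (iv3 F516093)) (tt N119532 (iv4 F516099)) (tt N78389 F419290) (tt N60974 (iv6 D201156)) (tt N98336 (iv7 F420539)))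
theorem Q98049 : ∀ i, i < 98049 → P i := stepQ 98048 Q98048 (allL N98048 (tt N96620 F446562) (tt N96622 F446563) (tt N114976 (iv2 F492870)) (tt N60975 (iv3 D201157)) (tt N118686 (iv4 F511547)) (tt N115016 (iv5 F493064)) (tt N91452 (iv6 F427976)) (tt N111178 (iv7 F475099)))
theorem Q98050 : ∀ i, i < 98050 → P i := stepQ 98049 Q98049 (allL N98049 (tt N78876 F419292) (tt N104616 F446561) (tt N111181 (iv2 F475111)) (tt N117942 (iv3 F507708)) (tt N60975 (iv4 D201158)) (tt N92703 F419291) (tt N119437 (iv6 F515623)) (tt N111179 (iv7 F475101)))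
theorem Q98051 : ∀ i, i < 98051 → P i := stepQ 98050 Q98050 (allL N98050 (tt N109566 (iv1 F467561)) (tt N100202 (iv0 F427973)) (tt N102956 (iv2 F439429)) (tt N91452 F427975) (tt N119437 (iv4 F515624)) (tt N98479 F421066) (tt N60975 (iv6 D201159)) (tt N114990 (iv7 F492948)))
theorem Q98052 : ∀ i, i < 98052 → P i := stepQ 98051 Q98051 (allL N98051 (tt N98538 F421237) (tt N60976 (iv0 D201160)) (tt N98692 F421869) (tt N106424 (iv3 F454369)) (tt N78878 F419293) (tt N119533 D222792) (tt N106422 F454368) (tt N98693 (iv7 F421872)))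
theorem Q98053 : ∀ i, i < 98053 → P i := stepQ 98052 Q98052 (allL N98052 (tt N60976 (iv1 D201161)) (tt N98538 F421236) (tt N98693 F421875) (tt N119534 D222793) (tt N78879 F419294) (tt N119535 D222794) (tt N119447 (iv6 F515671)) (tt N98692 F421870))
theorem Q98054 : ∀ i, i < 98054 → P i := stepQ 98053 Q98053 (allL N98053 (tt N106416 F454342) (tt N107434 (iv0 F458331)) (tt N107606 (iv2 F458917)) (tt N60976 (iv3 D201162)) (tt N96120 F419295) (tt N117360 (iv5 F504660)) (tt N60977 F419296) (tt N119025 (iv7 F513350)))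
theorem Q98055 : ∀ i, i < 98055 → P i := stepQ 98054 Q98054 (allL N98054 (tt N119536 D222795) (tt N119537 D222796) (tt N98626 (iv2 F421637)) (tt N117360 F504663) (tt N117361 (iv4 F504665)) (tt N60976 (iv5 D201163)) (tt N61538 F419297) (tt N119411 (iv7 F515478)))
theorem Q98056 : ∀ i, i < 98056 → P i := stepQ 98055 Q98055 (allL N98055 (tt N61651 (iv1 F419298)) (tt N60977 (iv0 D201164)) (tt N61650 (iv2 F421608)) (tt N119538 D222797) (tt N119539 D222798) (tt N114891 F492377) (tt N116888 (iv6 F502362)) (tt N61649 F421609))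
theorem Q98057 : ∀ i, i < 98057 → P i := stepQ 98056 Q98056 (allL N98056 (tt N60977 (iv1 D201165)) (tt N61651 F419303) (tt N61649 F421607) (tt N85284 (iv3 F419299)) (tt N106428 (iv4 F454387)) (tt N109167 (iv5 F465654)) (tt N92275 F421606) (tt N61650 (iv7 F421605)))
theorem Q98058 : ∀ i, i < 98058 → P i := stepQ 98057 Q98057 (allL N98057 (tt N61650 (iv1 F419304)) (tt N61649 F419302) (tt N60977 (iv2 D201166)) (tt N98687 (iv3 F421849)) (tt N107607 (iv4 F458925)) (tt N78796 F419300) (tt N107606 F458921) (tt N61651 F419301))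
theorem Q98059 : ∀ i, i < 98059 → P i := stepQ 98058 Q98058 (allL N98058 (tt N60980 (iv1 D201167)) (tt N97878 F419305) (tt N97877 (iv2 F419308)) (tt N79079 F419309) (tt N92938 F419307) (tt N102964 (iv5 F439471)) (tt N119540 D222799) (tt N97876 F419306))
theorem Q98060 : ∀ i, i < 98060 → P i := stepQ 98059 Q98059 (allL N98059 (tt N97877 (iv1 F419315)) (tt N97876 F419316) (tt N97878 F419311) (tt N60988 F419312) (tt N68618 F419313) (tt N60981 F419314) (tt N118113 (iv6 F508674)) (tt N60980 (iv7 D201168)))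
theorem Q98061 : ∀ i, i < 98061 → P i := stepQ 98060 Q98060 (allL N98060 (tt N104432 F445735) (tt N103331 F441170) (tt N119449 (iv2 F515677)) (tt N60982 (iv3 D201169)) (tt N60989 F419317) (tt N97001 F435419) (tt N111779 (iv6 F477936)) (tt N111243 (iv7 F475399)))
theorem Q98062 : ∀ i, i < 98062 → P i := stepQ 98061 Q98061 (allL N98061 (tt N97950 F419320) (tt N117990 (iv0 F507949)) (tt N97875 F419318) (tt N97001 (iv3 F435420)) (tt N93981 F419319) (tt N60982 (iv5 D201170)) (tt N116043 (iv6 F498210)) (tt N117996 (iv7 F507987)))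
theorem Q98063 : ∀ i, i < 98063 → P i := stepQ 98062 Q98062 (allL N98062 (tt N97886 F419323) (tt N105887 F452191) (tt N68190 F419321) (tt N104951 (iv3 F448105)) (tt N102794 (iv4 F438673)) (tt N66800 F419322) (tt N60986 (iv6 D201171)) (tt N98231 (iv7 F420073)))
theorem Q98064 : ∀ i, i < 98064 → P i := stepQ 98063 Q98063 (allL N98063 (tt N92925 F419325) (tt N92924 (iv0 F419326)) (tt N104614 (iv2 F446544)) (tt N60987 (iv3 D201172)) (tt N111779 (iv4 F477933)) (tt N104741 (iv5 F447069)) (tt N60989 F419324) (tt N118090 (iv7 F508529)))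
theorem Q98065 : ∀ i, i < 98065 → P i := stepQ 98064 Q98064 (allL N98064 (tt N78900 (iv1 F419330)) (tt N67543 F419331) (tt N78901 F419327) (tt N118090 (iv3 F508526)) (tt N60988 F419328) (tt N93004 F419329) (tt N111244 (iv6 F475405)) (tt N60987 (iv7 D201173)))
theorem Q98066 : ∀ i, i < 98066 → P i := stepQ 98065 Q98065 (allL N98065 (tt N111240 (iv1 F475383)) (tt N60989 (iv0 D201174)) (tt N111242 (iv2 F475396)) (tt N102540 (iv3 F445768)) (tt N104438 F445764) (tt N92700 F445765) (tt N104437 (iv6 F445766)) (tt N111241 F475390))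
theorem Q98067 : ∀ i, i < 98067 → P i := stepQ 98066 Q98066 (allL N98066 (tt N60989 (iv1 D201175)) (tt N111240 (iv0 F475382)) (tt N111241 F475388) (tt N69026 (iv3 F419333)) (tt N117359 (iv4 F504651)) (tt N92701 F419332) (tt N118119 (iv6 F508708)) (tt N111242 (iv7 F475392)))
theorem Q98068 : ∀ i, i < 98068 → P i := stepQ 98067 Q98067 (allL N98067 (tt N111242 (iv1 F475391)) (tt N111241 F475387) (tt N60989 (iv2 D201176)) (tt N78906 F419334) (tt N119449 (iv4 F515679)) (tt N103696 (iv5 F442518)) (tt N104614 (iv6 F446547)) (tt N111240 (iv7 F475381)))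
theorem Q98069 : ∀ i, i < 98069 → P i := stepQ 98068 Q98068 (allL N98068 (tt N61112 F419337) (tt N104002 F443740) (tt N79966 F419335) (tt N100295 (iv3 F428296)) (tt N111789 (iv4 F477983)) (tt N60990 (iv5 D201177)) (tt N113632 (iv6 F486393)) (tt N79967 F419336))
theorem Q98070 : ∀ i, i < 98070 → P i := stepQ 98069 Q98069 (allL N98069 (tt N101358 (iv1 F432770)) (tt N101167 (iv0 F432018)) (tt N79903 F419338) (tt N86065 F419339) (tt N89715 F419340) (tt N60996 (iv5 D201178)) (tt N113110 (iv6 F484015)) (tt N100302 (iv7 F428338)))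
theorem Q98071 : ∀ i, i < 98071 → P i := stepQ 98070 Q98070 (allL N98070 (tt N60998 (iv1 D201179)) (tt N74957 F419341) (tt N78844 F419345) (tt N63393 (iv3 F419343)) (tt N103117 F440151) (tt N112661 (iv5 F482054)) (tt N74943 (iv6 F419344)) (tt N81439 F419342))
theorem Q98072 : ∀ i, i < 98072 → P i := stepQ 98071 Q98071 (allL N98071 (tt N98150 (iv1 F419718)) (tt N98583 F421456) (tt N76623 F419346) (tt N98554 (iv3 F421313)) (tt N109124 (iv4 F465439)) (tt N61000 (iv5 D201180)) (tt N68188 F419347) (tt N76624 F419348))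
theorem Q98073 : ∀ i, i < 98073 → P i := stepQ 98072 Q98072 (allL N98072 (tt N80192 F419352) (tt N119415 (iv0 F515501)) (tt N79272 F419349) (tt N61004 F419350) (tt N99356 F424255) (tt N101725 (iv5 F434047)) (tt N61003 (iv6 D201181)) (tt N75220 F419351))
theorem Q98074 : ∀ i, i < 98074 → P i := stepQ 98073 Q98073 (allL N98073 (tt N94249 F419358) (tt N112706 (iv0 F482275)) (tt N77596 F419353) (tt N80825 F419354) (tt N66542 F419357) (tt N61006 (iv5 D201182)) (tt N61008 F419355) (tt N81269 F419356))
theorem Q98075 : ∀ i, i < 98075 → P i := stepQ 98074 Q98074 (allL N98074 (tt N118432 (iv1 F510322)) (tt N90478 (iv0 F463796)) (tt N111285 (iv2 F475629)) (tt N94573 (iv3 F419360)) (tt N118470 (iv4 F510543)) (tt N61007 (iv5 D201183)) (tt N94570 F419359) (tt N114876 (iv7 F492289)))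
theorem Q98076 : ∀ i, i < 98076 → P i := stepQ 98075 Q98075 (allL N98075 (tt N114878 (iv1 F492300)) (tt N61008 (iv0 D201184)) (tt N107585 (iv2 F458852)) (tt N119541 D222800) (tt N107578 (iv4 F458826)) (tt N109851 (iv5 F468910)) (tt N94033 F419362) (tt N109850 (iv7 F468905)))
theorem Q98077 : ∀ i, i < 98077 → P i := stepQ 98076 Q98076 (allL N98076 (tt N61008 (iv1 D201185)) (tt N114878 F492299) (tt N109850 (iv2 F468903)) (tt N109292 (iv3 F466226)) (tt N107588 (iv4 F458864)) (tt N109291 (iv5 F466224)) (tt N112498 (iv6 F481364)) (tt N107585 F458855))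
theorem Q98078 : ∀ i, i < 98078 → P i := stepQ 98077 Q98077 (allL N98077 (tt N108969 F464715) (tt N112937 F483312) (tt N114877 (iv2 F492292)) (tt N108242 (iv3 F461651)) (tt N61008 (iv4 D201186)) (tt N112958 (iv5 F483383)) (tt N66542 F419363) (tt N113736 (iv7 F486895)))
theorem Q98079 : ∀ i, i < 98079 → P i := stepQ 98078 Q98078 (allL N98078 (tt N109850 (iv1 F468907)) (tt N107585 F468908) (tt N114878 (iv2 F492295)) (tt N71465 F419364) (tt N113736 (iv4 F486896)) (tt N61009 F419365) (tt N71464 (iv6 F419366)) (tt N61008 (iv7 D201187)))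
theorem Q98080 : ∀ i, i < 98080 → P i := stepQ 98079 Q98079 (allL N98079 (tt N61013 (iv1 F419370)) (tt N61010 (iv0 D201188)) (tt N94101 (iv2 F419369)) (tt N65353 F419368) (tt N78977 F419367) (tt N102679 (iv5 F438175)) (tt N67837 (iv6 F419372)) (tt N76618 F419371))
theorem Q98081 : ∀ i, i < 98081 → P i := stepQ 98080 Q98080 (allL N98080 (tt N108568 F463084) (tt N114221 (iv0 F489061)) (tt N87174 F419373) (tt N79939 F419374) (tt N115846 (iv4 F497205)) (tt N61016 (iv5 D201189)) (tt N117660 (iv6 F506269)) (tt N87171 F419375))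
theorem Q98082 : ∀ i, i < 98082 → P i := stepQ 98081 Q98081 (allL N98081 (tt N102959 F439450) (tt N102963 F439467) (tt N87175 F419376) (tt N79940 F419377) (tt N61017 F419378) (tt N103990 (iv5 F443680)) (tt N61016 (iv6 D201190)) (tt N102961 F439455))
theorem Q98083 : ∀ i, i < 98083 → P i := stepQ 98082 Q98082 (allL N98082 (tt N78843 (iv1 F419383)) (tt N81438 F419384) (tt N97864 F419379) (tt N61020 F419380) (tt N102961 (iv4 F439454)) (tt N66624 F419381) (tt N92656 F419382) (tt N61017 (iv7 D201191)))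
theorem Q98084 : ∀ i, i < 98084 → P i := stepQ 98083 Q98083 (allL N98083 (tt N63059 F419389) (tt N75624 F419390) (tt N75623 F419385) (tt N61022 F419386) (tt N75608 F419387) (tt N61021 (iv5 D201192)) (tt N98210 (iv6 F420006)) (tt N66769 F419388))
theorem Q98085 : ∀ i, i < 98085 → P i := stepQ 98084 Q98084 (allL N98084 (tt N113769 F487039) (tt N104938 (iv0 F448030)) (tt N98177 (iv2 F419864)) (tt N114520 (iv3 F490567)) (tt N61028 (iv4 D201193)) (tt N115324 (iv5 F494591)) (tt N61030 F419391) (tt N114519 F490565))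
theorem Q98086 : ∀ i, i < 98086 → P i := stepQ 98085 Q98085 (allL N98085 (tt N86504 F419392) (tt N86509 F419393) (tt N115184 (iv2 F493910)) (tt N115206 F494015) (tt N115363 (iv4 F494807)) (tt N61030 (iv5 D201194)) (tt N115385 (iv6 F494926)) (tt N115185 (iv7 F493917)))
theorem Q98087 : ∀ i, i < 98087 → P i := stepQ 98086 Q98086 (allL N98086 (tt N64671 (iv1 F419400)) (tt N61031 (iv0 D201195)) (tt N64668 (iv2 F419397)) (tt N77289 F419398) (tt N80030 F419395) (tt N84323 F419394) (tt N84174 F419396) (tt N64669 F419399))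
theorem Q98088 : ∀ i, i < 98088 → P i := stepQ 98087 Q98087 (allL N98087 (tt N64669 (iv1 F419406)) (tt N64668 F419407) (tt N64671 F419402) (tt N78681 F419403) (tt N61034 F419404) (tt N69790 F419405) (tt N98176 (iv6 F419861)) (tt N61031 (iv7 D201196)))
theorem Q98089 : ∀ i, i < 98089 → P i := stepQ 98088 Q98088 (allL N98088 (tt N79918 F419411) (tt N92199 (iv0 F419412)) (tt N78896 F419408) (tt N68199 F419409) (tt N110262 (iv4 F470702)) (tt N75476 F419410) (tt N61032 (iv6 D201197)) (tt N112375 (iv7 F480794)))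
theorem Q98090 : ∀ i, i < 98090 → P i := stepQ 98089 Q98089 (allL N98089 (tt N115554 F495762) (tt N67832 (iv0 F419417)) (tt N78963 F419413) (tt N61037 F419414) (tt N79906 F419415) (tt N89793 F419416) (tt N61036 (iv6 D201198)) (tt N114882 (iv7 F492326)))
theorem Q98091 : ∀ i, i < 98091 → P i := stepQ 98090 Q98090 (allL N98090 (tt N61052 (iv1 F419419)) (tt N61037 (iv0 D201199)) (tt N61049 (iv2 F419420)) (tt N99844 (iv3 F426489)) (tt N61475 F419418) (tt N119542 D222801) (tt N99841 F426478) (tt N61050 (iv7 F419421)))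
theorem Q98092 : ∀ i, i < 98092 → P i := stepQ 98091 Q98091 (allL N98091 (tt N61037 (iv1 D201200)) (tt N61052 F419422) (tt N61050 (iv2 F419426)) (tt N77667 (iv3 F419425)) (tt N61482 F419424) (tt N107481 (iv5 F458473)) (tt N107123 (iv6 F457082)) (tt N61049 F419423))
theorem Q98093 : ∀ i, i < 98093 → P i := stepQ 98092 Q98092 (allL N98092 (tt N91424 F421011) (tt N114769 F491764) (tt N61051 F419427) (tt N89793 F419428) (tt N119543 D222802) (tt N61037 (iv5 D201201)) (tt N101741 (iv6 F434126)) (tt N114883 (iv7 F492332)))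
theorem Q98094 : ∀ i, i < 98094 → P i := stepQ 98093 Q98093 (allL N98093 (tt N78853 F419433) (tt N104952 (iv0 F448114)) (tt N61056 F419429) (tt N79922 F419430) (tt N71788 F419431) (tt N61155 F419432) (tt N61038 (iv6 D201202)) (tt N117924 (iv7 F507626)))
theorem Q98095 : ∀ i, i < 98095 → P i := stepQ 98094 Q98094 (allL N98094 (tt N90647 (iv1 F419437)) (tt N61042 (iv0 D201203)) (tt N96231 (iv2 F419436)) (tt N109093 (iv3 F465302)) (tt N92214 F419434) (tt N116452 (iv5 F500197)) (tt N96226 F419435) (tt N92230 F419438))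
theorem Q98096 : ∀ i, i < 98096 → P i := stepQ 98095 Q98095 (allL N98095 (tt N63395 (iv1 F419444)) (tt N61043 (iv0 D201204)) (tt N63392 (iv2 F419441)) (tt N81439 F419442) (tt N61431 F419439) (tt N119544 D222803) (tt N74778 F419440) (tt N63393 F419443))
theorem Q98097 : ∀ i, i < 98097 → P i := stepQ 98096 Q98096 (allL N98096 (tt N63393 (iv1 F419450)) (tt N63392 F419451) (tt N63395 F419445) (tt N61047 F419446) (tt N72742 F419447) (tt N76686 F419448) (tt N63398 F419449) (tt N61043 (iv7 D201205)))
theorem Q98098 : ∀ i, i < 98098 → P i := stepQ 98097 Q98097 (allL N98097 (tt N98556 (iv1 F421320)) (tt N98555 F421317) (tt N78852 F419452) (tt N76624 F419453) (tt N114563 (iv4 F490787)) (tt N61045 (iv5 D201206)) (tt N114303 F489495) (tt N98554 (iv7 F421314)))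
theorem Q98099 : ∀ i, i < 98099 → P i := stepQ 98098 Q98098 (allL N98098 (tt N117924 F507628) (tt N61056 F419493) (tt N78853 F419454) (tt N74936 F419455) (tt N108358 (iv4 F462236)) (tt N86195 F419456) (tt N61045 (iv6 D201207)) (tt N104952 (iv7 F448113)))
theorem Q98100 : ∀ i, i < 98100 → P i := stepQ 98099 Q98099 (allL N98099 (tt N114713 F491485) (tt N119545 D222804) (tt N119542 (iv2 F516154)) (tt N107483 (iv3 F458478)) (tt N86328 F419458) (tt N61049 (iv5 D201208)) (tt N106363 F454153) (tt N107481 F458474))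
theorem Q98101 : ∀ i, i < 98101 → P i := stepQ 98100 Q98100 (allL N98100 (tt N119545 (iv1 F516170)) (tt N114713 (iv0 F491484)) (tt N107481 (iv2 F458470)) (tt N103121 (iv3 F440170)) (tt N106484 (iv4 F454630)) (tt N61050 (iv5 D201209)) (tt N107479 F458463) (tt N119542 (iv7 F516156)))
theorem Q98102 : ∀ i, i < 98102 → P i := stepQ 98101 Q98101 (allL N98101 (tt N118016 (iv1 F508107)) (tt N118014 (iv0 F508092)) (tt N107123 (iv2 F457079)) (tt N103122 (iv3 F440173)) (tt N86599 F419459) (tt N107176 (iv5 F457347)) (tt N61050 (iv6 D201210)) (tt N118015 (iv7 F508095)))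
theorem Q98103 : ∀ i, i < 98103 → P i := stepQ 98102 Q98102 (allL N98102 (tt N114883 (iv1 F492333)) (tt N61051 (iv0 D201211)) (tt N91424 (iv2 F419461)) (tt N89653 (iv3 F419462)) (tt N106570 (iv4 F454902)) (tt N117365 (iv5 F504685)) (tt N89651 F419460) (tt N114769 (iv7 F491763)))
theorem Q98104 : ∀ i, i < 98104 → P i := stepQ 98103 Q98103 (allL N98103 (tt N61051 (iv1 D201212)) (tt N114883 (iv0 F492334)) (tt N114769 (iv2 F491759)) (tt N91429 (iv3 F419465)) (tt N71177 F419464) (tt N119546 D222805) (tt N113251 (iv6 F484712)) (tt N91424 F419463))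
theorem Q98105 : ∀ i, i < 98105 → P i := stepQ 98104 Q98104 (allL N98104 (tt N119547 D222806) (tt N119548 D222807) (tt N119543 (iv2 F516157)) (tt N119549 D222808) (tt N61051 (iv4 D201213)) (tt N106433 F454412) (tt N110259 (iv6 F470681)) (tt N119550 D222809))
theorem Q98106 : ∀ i, i < 98106 → P i := stepQ 98105 Q98105 (allL N98105 (tt N114769 (iv1 F491765)) (tt N91424 (iv0 F419469)) (tt N114883 (iv2 F492329)) (tt N78976 F419466) (tt N119550 (iv4 F516193)) (tt N61052 F419467) (tt N91162 (iv6 F419468)) (tt N61051 (iv7 D201214)))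
theorem Q98107 : ∀ i, i < 98107 → P i := stepQ 98106 Q98106 (allL N98106 (tt N64176 F419473) (tt N64169 (iv0 F419474)) (tt N64173 F419470) (tt N64490 F419471) (tt N61053 (iv4 D201215)) (tt N90855 F419475) (tt N100208 (iv6 F428000)) (tt N64174 F419472))
theorem Q98108 : ∀ i, i < 98108 → P i := stepQ 98107 Q98107 (allL N98107 (tt N75669 F419480) (tt N80486 F419479) (tt N80485 F419476) (tt N61055 F419477) (tt N99745 (iv4 F426023)) (tt N61053 (iv5 D201216)) (tt N99744 F426020) (tt N75556 F419478))
theorem Q98109 : ∀ i, i < 98109 → P i := stepQ 98108 Q98108 (allL N98108 (tt N73578 (iv1 F419495)) (tt N62795 (iv0 F419494)) (tt N74886 F424854) (tt N61056 F419481) (tt N100208 F428002) (tt N109362 (iv5 F466577)) (tt N61053 (iv6 D201217)) (tt N74885 F419482))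
theorem Q98110 : ∀ i, i < 98110 → P i := stepQ 98109 Q98109 (allL N98109 (tt N113844 (iv1 F487412)) (tt N119551 D222810) (tt N106188 (iv2 F453524)) (tt N64491 F419483) (tt N115736 (iv4 F496588)) (tt N61054 (iv5 D201218)) (tt N71172 (iv6 F419485)) (tt N64792 F419484))
theorem Q98111 : ∀ i, i < 98111 → P i := stepQ 98110 Q98110 (allL N98110 (tt N71791 F419492) (tt N71777 (iv0 F419491)) (tt N71788 F419486) (tt N64492 F419487) (tt N61056 F419488) (tt N90699 F419489) (tt N61054 (iv6 D201219)) (tt N71789 F419490))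
theorem Q98112 : ∀ i, i < 98112 → P i := stepQ 98111 Q98111 (allL N98111 (tt N61056 (iv1 D201220)) (tt N117924 (iv0 F507627)) (tt N104952 (iv2 F448110)) (tt N61071 (iv3 F419498)) (tt N106988 (iv4 F456535)) (tt N86196 F419497) (tt N84725 (iv6 F419499)) (tt N78853 F419496))
theorem Q98113 : ∀ i, i < 98113 → P i := stepQ 98112 Q98112 (allL N98112 (tt N61130 F419502) (tt N61157 (iv0 F419503)) (tt N61155 F419500) (tt N109362 (iv3 F466579)) (tt N96473 F419501) (tt N61056 (iv5 D201221)) (tt N112662 (iv6 F482064)) (tt N61154 (iv7 F419504)))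
theorem Q98114 : ∀ i, i < 98114 → P i := stepQ 98113 Q98113 (allL N98113 (tt N104952 F448115) (tt N78853 (iv0 F419509)) (tt N117924 (iv2 F507622)) (tt N74885 F419505) (tt N71789 F419506) (tt N61154 F419507) (tt N96234 F419508) (tt N61056 (iv7 D201222)))
theorem Q98115 : ∀ i, i < 98115 → P i := stepQ 98114 Q98114 (allL N98114 (tt N119551 (iv1 F516197)) (tt N113844 (iv0 F487411)) (tt N64792 F419510) (tt N75650 F419511) (tt N115735 (iv4 F496581)) (tt N61058 (iv5 D201223)) (tt N69696 F419512) (tt N106188 (iv7 F453527)))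
theorem Q98116 : ∀ i, i < 98116 → P i := stepQ 98115 Q98115 (allL N98115 (tt N112375 (iv1 F480796)) (tt N78896 F419516) (tt N79918 F419513) (tt N74948 F419514) (tt N84187 (iv4 F419518)) (tt N61061 (iv5 D201224)) (tt N84186 F419517) (tt N92199 F419515))
theorem Q98117 : ∀ i, i < 98117 → P i := stepQ 98116 Q98116 (allL N98116 (tt N78896 F419522) (tt N112375 (iv0 F480795)) (tt N92199 F419519) (tt N62704 F419520) (tt N99979 (iv4 F427049)) (tt N61062 (iv5 D201225)) (tt N62702 F419523) (tt N79918 F419521))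
theorem Q98118 : ∀ i, i < 98118 → P i := stepQ 98117 Q98117 (allL N98117 (tt N109243 (iv1 F465958)) (tt N109246 F465974) (tt N91206 F419524) (tt N79911 F419525) (tt N97362 F419526) (tt N83758 F419528) (tt N61062 (iv6 D201226)) (tt N91204 F419527))
theorem Q98119 : ∀ i, i < 98119 → P i := stepQ 98118 Q98118 (allL N98118 (tt N74245 F419531) (tt N90561 F419532) (tt N106434 (iv2 F454413)) (tt N100372 (iv3 F428647)) (tt N119552 D222811) (tt N61063 (iv5 D201227)) (tt N81540 F419529) (tt N71609 F419530))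
theorem Q98120 : ∀ i, i < 98120 → P i := stepQ 98119 Q98119 (allL N98119 (tt N76617 (iv1 F419538)) (tt N61064 (iv0 D201228)) (tt N76615 (iv2 F419537)) (tt N61425 F419535) (tt N81088 F419534) (tt N85985 F419533) (tt N109246 (iv6 F465973)) (tt N76616 F419539))
theorem Q98121 : ∀ i, i < 98121 → P i := stepQ 98120 Q98120 (allL N98120 (tt N61066 (iv1 D201229)) (tt N73593 F419540) (tt N79953 F419544) (tt N74944 F419545) (tt N97677 F419542) (tt N98205 (iv5 F419984)) (tt N81438 (iv6 F419543)) (tt N78846 F419541))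
theorem Q98122 : ∀ i, i < 98122 → P i := stepQ 98121 Q98121 (allL N98121 (tt N79953 (iv1 F419550)) (tt N78846 F419551) (tt N73593 F419546) (tt N61072 F419547) (tt N102946 (iv4 F439375)) (tt N61183 F419548) (tt N79944 F419549) (tt N61066 (iv7 D201230)))
theorem Q98123 : ∀ i, i < 98123 → P i := stepQ 98122 Q98122 (allL N98122 (tt N61075 (iv1 F419554)) (tt N61069 (iv0 D201231)) (tt N79932 (iv2 F419555)) (tt N114010 (iv3 F488183)) (tt N64184 F419553) (tt N91374 F419552) (tt N117952 (iv6 F507759)) (tt N79933 (iv7 F419556)))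
theorem Q98124 : ∀ i, i < 98124 → P i := stepQ 98123 Q98123 (allL N98123 (tt N61069 (iv1 D201232)) (tt N61075 F419557) (tt N79933 (iv2 F419562)) (tt N80473 (iv3 F419560)) (tt N64185 F419559) (tt N111771 (iv5 F477889)) (tt N78890 F419561) (tt N79932 F419558))
theorem Q98125 : ∀ i, i < 98125 → P i := stepQ 98124 Q98124 (allL N98124 (tt N69451 F419566) (tt N103984 (iv0 F443652)) (tt N98153 (iv2 F419735)) (tt N61076 F419563) (tt N91360 F419565) (tt N61074 (iv5 D201233)) (tt N73749 F419564) (tt N103987 (iv7 F443663)))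
theorem Q98126 : ∀ i, i < 98126 → P i := stepQ 98125 Q98125 (allL N98125 (tt N103005 (iv1 F439646)) (tt N75902 (iv0 F419570)) (tt N103002 (iv2 F439632)) (tt N61075 (iv3 D201234)) (tt N73742 F419567) (tt N109542 (iv5 F467447)) (tt N73741 F419568) (tt N79934 F419569))
theorem Q98127 : ∀ i, i < 98127 → P i := stepQ 98126 Q98126 (allL N98126 (tt N79896 F419574) (tt N79893 F419575) (tt N79948 F419571) (tt N117549 (iv3 F505635)) (tt N61076 (iv4 D201235)) (tt N97690 F419573) (tt N117950 (iv6 F507750)) (tt N94013 F419572))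
theorem Q98128 : ∀ i, i < 98128 → P i := stepQ 98127 Q98127 (allL N98127 (tt N79942 (iv1 F419579)) (tt N79941 F419580) (tt N79944 F419576) (tt N73595 F419577) (tt N102958 (iv4 F439441)) (tt N98157 (iv5 F419762)) (tt N73593 F419578) (tt N61077 (iv7 D201236)))
theorem Q98129 : ∀ i, i < 98129 → P i := stepQ 98128 Q98128 (allL N98128 (tt N87493 F419586) (tt N91919 F419587) (tt N79955 F419581) (tt N88094 F419582) (tt N79015 F419585) (tt N61078 (iv5 D201237)) (tt N97835 F419583) (tt N79958 F419584))
theorem Q98130 : ∀ i, i < 98130 → P i := stepQ 98129 Q98129 (allL N98129 (tt N75945 F419591) (tt N110337 F471113) (tt N88095 F419588) (tt N61079 (iv3 D201238)) (tt N84154 F419589) (tt N119553 D222812) (tt N84259 (iv6 F419592)) (tt N79954 F419590))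
theorem Q98131 : ∀ i, i < 98131 → P i := stepQ 98130 Q98130 (allL N98130 (tt N91919 F419596) (tt N87493 F419597) (tt N79958 F419593) (tt N119553 (iv3 F516209)) (tt N79010 F419594) (tt N61079 (iv5 D201239)) (tt N114139 (iv6 F488713)) (tt N79955 F419595))
theorem Q98132 : ∀ i, i < 98132 → P i := stepQ 98131 Q98131 (allL N98131 (tt N95452 F419601) (tt N88240 F419603) (tt N79959 F419598) (tt N84259 F419599) (tt N61497 F419600) (tt N92990 (iv5 F419602)) (tt N61079 (iv6 D201240)) (tt N104939 (iv7 F448031)))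
theorem Q98133 : ∀ i, i < 98133 → P i := stepQ 98132 Q98132 (allL N98132 (tt N79023 (iv1 F419607)) (tt N61080 (iv0 D201241)) (tt N79960 (iv2 F419608)) (tt N88099 (iv3 F419610)) (tt N79009 F419605) (tt N61486 F419604) (tt N94439 F419606) (tt N79961 (iv7 F419609)))
theorem Q98134 : ∀ i, i < 98134 → P i := stepQ 98133 Q98133 (allL N98133 (tt N61080 (iv1 D201242)) (tt N79023 F419611) (tt N79961 (iv2 F419615)) (tt N80252 (iv3 F419616)) (tt N79003 F419614) (tt N61492 F419613) (tt N80251 F419617) (tt N79960 F419612))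
theorem Q98135 : ∀ i, i < 98135 → P i := stepQ 98134 Q98134 (allL N98134 (tt N93717 F419622) (tt N61188 F419623) (tt N78842 F419618) (tt N112378 (iv3 F480811)) (tt N96017 F419619) (tt N61084 (iv5 D201243)) (tt N97817 F419620) (tt N78845 F419621))
theorem Q98136 : ∀ i, i < 98136 → P i := stepQ 98135 Q98135 (allL N98135 (tt N61244 F419628) (tt N104014 (iv0 F443794)) (tt N79983 F419624) (tt N64207 F419625) (tt N88218 F419626) (tt N61086 (iv5 D201244)) (tt N115261 (iv6 F494255)) (tt N68392 F419627))
theorem Q98137 : ∀ i, i < 98137 → P i := stepQ 98136 Q98136 (allL N98136 (tt N78778 F419634) (tt N85077 F419635) (tt N61158 F419629) (tt N94607 F419630) (tt N61089 (iv4 D201245)) (tt N94606 F419633) (tt N86104 F419631) (tt N61159 F419632))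
theorem Q98138 : ∀ i, i < 98138 → P i := stepQ 98137 Q98137 (allL N98137 (tt N104973 F448221) (tt N106392 F454264) (tt N76628 F419636) (tt N86032 F419637) (tt N91675 F419638) (tt N76431 F419639) (tt N61090 (iv6 D201246)) (tt N105675 (iv7 F451202)))
theorem Q98139 : ∀ i, i < 98139 → P i := stepQ 98138 Q98138 (allL N98138 (tt N73637 F419644) (tt N75346 (iv0 F419645)) (tt N98296 (iv2 F420378)) (tt N61093 F419641) (tt N99757 (iv4 F426084)) (tt N63247 F419642) (tt N61092 (iv6 D201247)) (tt N75288 F419643))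
theorem Q98140 : ∀ i, i < 98140 → P i := stepQ 98139 Q98139 (allL N98139 (tt N61093 (iv1 D201248)) (tt N61101 F419646) (tt N61099 F419653) (tt N95829 (iv3 F419650)) (tt N74452 F419649) (tt N62476 F419648) (tt N80860 (iv6 F419651)) (tt N61098 F419647))
theorem Q98141 : ∀ i, i < 98141 → P i := stepQ 98140 Q98140 (allL N98140 (tt N61099 (iv1 F419659)) (tt N61098 F419660) (tt N61101 F419654) (tt N75288 F419655) (tt N61096 F419656) (tt N73693 F419657) (tt N75285 F419658) (tt N61093 (iv7 D201249)))
theorem Q98142 : ∀ i, i < 98142 → P i := stepQ 98141 Q98141 (allL N98141 (tt N63399 F419666) (tt N63402 (iv0 F419667)) (tt N63400 F419663) (tt N61095 (iv3 D201250)) (tt N76645 F419664) (tt N108267 (iv5 F461789)) (tt N82031 (iv6 F419668)) (tt N61102 F419665))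
theorem Q98143 : ∀ i, i < 98143 → P i := stepQ 98142 Q98142 (allL N98142 (tt N85360 F419673) (tt N76637 (iv0 F419675)) (tt N61108 F419669) (tt N82031 F419670) (tt N63745 F419671) (tt N101315 (iv5 F432624)) (tt N61095 (iv6 D201251)) (tt N77642 F419672))
theorem Q98144 : ∀ i, i < 98144 → P i := stepQ 98143 Q98143 (allL N98143 (tt N80861 (iv1 F419680)) (tt N80855 (iv0 F419679)) (tt N80860 F419676) (tt N81044 (iv3 F429179)) (tt N100495 (iv4 F429178)) (tt N75657 F419678) (tt N61099 (iv6 D201252)) (tt N76786 F419677))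
theorem Q98145 : ∀ i, i < 98145 → P i := stepQ 98144 Q98144 (allL N98144 (tt N76647 F419687) (tt N75289 F419686) (tt N75383 F419681) (tt N75388 F419682) (tt N61102 (iv4 D201253)) (tt N81796 F419685) (tt N80903 F419683) (tt N76645 F419684))
theorem Q98146 : ∀ i, i < 98146 → P i := stepQ 98145 Q98145 (allL N98145 (tt N112358 (iv1 F480731)) (tt N75234 F419690) (tt N109382 (iv2 F466675)) (tt N61104 F419688) (tt N119554 D222813) (tt N61102 (iv5 D201254)) (tt N86710 F419689) (tt N108267 (iv7 F461790)))
theorem Q98147 : ∀ i, i < 98147 → P i := stepQ 98146 Q98146 (allL N98146 (tt N61107 (iv1 F419693)) (tt N61104 (iv0 D201255)) (tt N92853 (iv2 F419694)) (tt N108601 (iv3 F463208)) (tt N73630 F419692) (tt N92850 F419691) (tt N104829 (iv6 F447504)) (tt N105686 (iv7 F451247)))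
theorem Q98148 : ∀ i, i < 98148 → P i := stepQ 98147 Q98147 (allL N98147 (tt N61104 (iv1 D201256)) (tt N61107 F419695) (tt N105686 (iv2 F451245)) (tt N61110 F419700) (tt N73629 F419698) (tt N92854 F419697) (tt N97258 (iv6 F419699)) (tt N92853 F419696))
theorem Q98149 : ∀ i, i < 98149 → P i := stepQ 98148 Q98148 (allL N98148 (tt N61105 (iv1 D201257)) (tt N94106 F419701) (tt N104080 (iv2 F444074)) (tt N61113 (iv3 F419705)) (tt N86112 F419704) (tt N74477 F419703) (tt N76665 (iv6 F419706)) (tt N69535 F419702))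
theorem Q98150 : ∀ i, i < 98150 → P i := stepQ 98149 Q98149 (allL N98149 (tt N77642 (iv1 F419713)) (tt N61108 (iv0 D201258)) (tt N85360 (iv2 F419710)) (tt N61121 F419711) (tt N80861 F419708) (tt N76625 F419707) (tt N76661 F419709) (tt N76637 F419712))
theorem Q98151 : ∀ i, i < 98151 → P i := stepQ 98150 Q98150 (allL N98150 (tt N61587 F419717) (tt N98071 F419718) (tt N101315 (iv2 F432622)) (tt N76436 F419714) (tt N77657 F419716) (tt N61108 (iv5 D201259)) (tt N76433 F419715) (tt N100326 (iv7 F428439)))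
theorem Q98152 : ∀ i, i < 98152 → P i := stepQ 98151 Q98151 (allL N98151 (tt N76637 (iv1 F419723)) (tt N85360 F419724) (tt N77642 F419719) (tt N91308 F419720) (tt N63744 F419721) (tt N100326 (iv5 F428438)) (tt N94106 F419722) (tt N61108 (iv7 D201260)))
theorem Q98153 : ∀ i, i < 98153 → P i := stepQ 98152 Q98152 (allL N98152 (tt N87523 (iv1 F419729)) (tt N61109 (iv0 D201261)) (tt N87627 (iv2 F419728)) (tt N76402 F419732) (tt N87163 F419726) (tt N66562 F419725) (tt N87650 (iv6 F419731)) (tt N87160 F419730))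
theorem Q98154 : ∀ i, i < 98154 → P i := stepQ 98153 Q98153 (allL N98153 (tt N78922 F419739) (tt N68105 F419740) (tt N98124 F419735) (tt N61112 F419736) (tt N87482 F419737) (tt N80496 F419738) (tt N61109 (iv6 D201262)) (tt N104882 (iv7 F447792)))
theorem Q98155 : ∀ i, i < 98155 → P i := stepQ 98154 Q98154 (allL N98154 (tt N61243 F419745) (tt N61248 F419746) (tt N62617 F419741) (tt N74090 F419747) (tt N61110 (iv4 D201263)) (tt N62616 F419742) (tt N95743 F419743) (tt N74057 F419744))
theorem Q98156 : ∀ i, i < 98156 → P i := stepQ 98155 Q98155 (allL N98155 (tt N61111 (iv1 D201264)) (tt N61119 F419748) (tt N74160 (iv2 F419752)) (tt N71624 F419754) (tt N61596 F419751) (tt N71623 F419750) (tt N69605 (iv6 F419753)) (tt N61595 F419749))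
theorem Q98157 : ∀ i, i < 98157 → P i := stepQ 98156 Q98156 (allL N98156 (tt N74117 F419759) (tt N62639 (iv0 F419760)) (tt N74124 F419755) (tt N61111 (iv3 D201265)) (tt N87522 F419756) (tt N74017 F419757) (tt N115822 (iv6 F497081)) (tt N74123 F419758))
theorem Q98158 : ∀ i, i < 98158 → P i := stepQ 98157 Q98157 (allL N98157 (tt N79966 (iv1 F419764)) (tt N79967 F419765) (tt N104002 (iv2 F443734)) (tt N104882 F447793) (tt N111800 (iv4 F478033)) (tt N98127 F419762) (tt N69480 F419763) (tt N61112 (iv7 D201266)))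
theorem Q98159 : ∀ i, i < 98159 → P i := stepQ 98158 Q98158 (allL N98158 (tt N92639 (iv1 F419769)) (tt N61117 (iv0 D201267)) (tt N111777 (iv2 F477923)) (tt N74432 F419767) (tt N102072 (iv4 F435599)) (tt N74431 F419766) (tt N92013 F419768) (tt N108797 (iv7 F463992)))
theorem Q98160 : ∀ i, i < 98160 → P i := stepQ 98159 Q98159 (allL N98159 (tt N104195 (iv1 F444640)) (tt N68082 (iv0 F419774)) (tt N96794 F419770) (tt N68807 F419771) (tt N61120 F419772) (tt N96789 F419773) (tt N61119 (iv6 D201268)) (tt N104001 (iv7 F443728)))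
theorem Q98161 : ∀ i, i < 98161 → P i := stepQ 98160 Q98160 (allL N98160 (tt N117756 (iv1 F506815)) (tt N86887 (iv0 F419777)) (tt N104000 (iv2 F443722)) (tt N92985 F419775) (tt N119555 D222814) (tt N61120 (iv5 D201269)) (tt N61122 F419776) (tt N98213 (iv7 F420014)))
theorem Q98162 : ∀ i, i < 98162 → P i := stepQ 98161 Q98161 (allL N98161 (tt N61608 F419778) (tt N61603 F419779) (tt N98507 F421166) (tt N118334 (iv3 F509762)) (tt N61122 (iv4 D201270)) (tt N117932 F507668) (tt N119555 (iv6 F516224)) (tt N98508 (iv7 F421168)))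
theorem Q98163 : ∀ i, i < 98163 → P i := stepQ 98162 Q98162 (allL N98162 (tt N76668 F419784) (tt N74946 F419785) (tt N61663 F419780) (tt N63416 F419781) (tt N95178 F419782) (tt N63403 F419783) (tt N61124 (iv6 D201271)) (tt N109369 (iv7 F466614)))
theorem Q98164 : ∀ i, i < 98164 → P i := stepQ 98163 Q98163 (allL N98163 (tt N107153 F457221) (tt N108886 (iv0 F464368)) (tt N93895 F419786) (tt N61126 (iv3 D201272)) (tt N76682 F419787) (tt N67107 (iv5 F419788)) (tt N114526 F490606) (tt N114460 (iv7 F490291)))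
theorem Q98165 : ∀ i, i < 98165 → P i := stepQ 98164 Q98164 (allL N98164 (tt N85111 F419792) (tt N85105 F419793) (tt N93429 F419789) (tt N67107 F419790) (tt N107225 (iv4 F457534)) (tt N61126 (iv5 D201273)) (tt N81132 (iv6 F419794)) (tt N93461 F419791))
theorem Q98166 : ∀ i, i < 98166 → P i := stepQ 98165 Q98165 (allL N98165 (tt N95635 (iv1 F419800)) (tt N82461 (iv0 F419799)) (tt N75290 F419795) (tt N61128 F419796) (tt N75173 F419797) (tt N119556 D222815) (tt N61127 (iv6 D201274)) (tt N75286 (iv7 F419798)))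
theorem Q98167 : ∀ i, i < 98167 → P i := stepQ 98166 Q98166 (allL N98166 (tt N61128 (iv1 D201275)) (tt N61148 F419801) (tt N61146 F419805) (tt N63023 (iv3 F419804)) (tt N85830 (iv4 F419803)) (tt N116483 (iv5 F500377)) (tt N109554 (iv6 F467491)) (tt N61145 F419802))
theorem Q98168 : ∀ i, i < 98168 → P i := stepQ 98167 Q98167 (allL N98167 (tt N117104 F503414) (tt N108359 (iv0 F462243)) (tt N61147 F419806) (tt N119556 (iv3 F516230)) (tt N81820 F419808) (tt N61128 (iv5 D201276)) (tt N81819 F419807) (tt N119302 (iv7 F514929)))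
theorem Q98169 : ∀ i, i < 98169 → P i := stepQ 98168 Q98168 (allL N98168 (tt N61146 (iv1 F419812)) (tt N61145 F419813) (tt N61148 F419809) (tt N75286 F419810) (tt N61131 F419811) (tt N119302 (iv5 F514927)) (tt N105042 (iv6 F448528)) (tt N61128 (iv7 D201277)))
theorem Q98170 : ∀ i, i < 98170 → P i := stepQ 98169 Q98169 (allL N98169 (tt N61157 (iv1 F419817)) (tt N61130 (iv0 D201278)) (tt N61154 (iv2 F419816)) (tt N63466 (iv3 F419819)) (tt N69687 F419814) (tt N117924 (iv5 F507624)) (tt N86706 F419815) (tt N61155 F419818))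
theorem Q98171 : ∀ i, i < 98171 → P i := stepQ 98170 Q98170 (allL N98170 (tt N85077 F419822) (tt N78778 F419823) (tt N61159 F419820) (tt N96501 F419825) (tt N61132 (iv4 D201279)) (tt N107225 (iv5 F457535)) (tt N96498 (iv6 F419824)) (tt N61158 F419821))
theorem Q98172 : ∀ i, i < 98172 → P i := stepQ 98171 Q98171 (allL N98171 (tt N96358 F419832) (tt N96613 (iv0 F419831)) (tt N61160 F419826) (tt N63349 F419827) (tt N96498 F419828) (tt N85960 F419829) (tt N61132 (iv6 D201280)) (tt N96624 F419830))
theorem Q98173 : ∀ i, i < 98173 → P i := stepQ 98172 Q98172 (allL N98172 (tt N86184 (iv1 F419839)) (tt N86183 F419840) (tt N61163 F419835) (tt N63473 F419836) (tt N114980 (iv4 F492888)) (tt N76693 F419837) (tt N61133 (iv6 D201281)) (tt N85896 F419838))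
theorem Q98174 : ∀ i, i < 98174 → P i := stepQ 98173 Q98173 (allL N98173 (tt N75513 F419846) (tt N77487 F419847) (tt N61168 F419841) (tt N81990 F419842) (tt N85111 F419845) (tt N61134 (iv5 D201282)) (tt N81985 F419843) (tt N77486 F419844))
theorem Q98175 : ∀ i, i < 98175 → P i := stepQ 98174 Q98174 (allL N98174 (tt N77209 F419853) (tt N61143 F419852) (tt N77206 F419848) (tt N118429 (iv3 F510302)) (tt N61136 (iv4 D201283)) (tt N85968 F419851) (tt N89417 F419849) (tt N77207 F419850))
theorem Q98176 : ∀ i, i < 98176 → P i := stepQ 98175 Q98175 (allL N98175 (tt N115800 (iv1 F496959)) (tt N77208 F419856) (tt N97934 F419854) (tt N69783 (iv3 F419857)) (tt N61137 (iv4 D201284)) (tt N114255 (iv5 F489249)) (tt N71963 F419855) (tt N104068 (iv7 F444018)))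
theorem Q98177 : ∀ i, i < 98177 → P i := stepQ 98176 Q98176 (allL N98176 (tt N96217 (iv1 F419862)) (tt N96222 F419863) (tt N72147 F419858) (tt N101168 (iv3 F432021)) (tt N61142 F419859) (tt N72146 F419860) (tt N98087 F419861) (tt N61139 (iv7 D201285)))
theorem Q98178 : ∀ i, i < 98178 → P i := stepQ 98177 Q98177 (allL N98177 (tt N119349 (iv1 F515155)) (tt N118099 (iv0 F508583)) (tt N98084 F419864) (tt N104015 (iv3 F443797)) (tt N61141 (iv4 D201286)) (tt N103956 (iv5 F443521)) (tt N86491 F419865) (tt N115208 (iv7 F494023)))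
theorem Q98179 : ∀ i, i < 98179 → P i := stepQ 98178 Q98178 (allL N98178 (tt N97934 F419870) (tt N104068 (iv0 F444019)) (tt N77208 F419866) (tt N95902 F419867) (tt N97932 F419869) (tt N61143 (iv5 D201287)) (tt N77204 F419868) (tt N115800 (iv7 F496958)))
theorem Q98180 : ∀ i, i < 98180 → P i := stepQ 98179 Q98179 (allL N98179 (tt N77207 (iv1 F419872)) (tt N77206 F419873) (tt N77209 F419871) (tt N105079 F448687) (tt N98769 (iv4 F422240)) (tt N115800 (iv5 F496957)) (tt N107177 (iv6 F457354)) (tt N61143 (iv7 D201288)))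
theorem Q98181 : ∀ i, i < 98181 → P i := stepQ 98180 Q98180 (allL N98180 (tt N103955 (iv1 F443516)) (tt N103954 (iv0 F443513)) (tt N72162 F419874) (tt N65182 F419875) (tt N68099 F419877) (tt N61144 (iv5 D201289)) (tt N65179 F419876) (tt N104873 (iv7 F447743)))
theorem Q98182 : ∀ i, i < 98182 → P i := stepQ 98181 Q98181 (allL N98181 (tt N90859 (iv1 F419881)) (tt N81298 F419882) (tt N107177 (iv2 F457352)) (tt N65183 F419878) (tt N86601 F419879) (tt N104873 (iv5 F447744)) (tt N77209 F419880) (tt N61144 (iv7 D201290)))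
theorem Q98183 : ∀ i, i < 98183 → P i := stepQ 98182 Q98182 (allL N98182 (tt N81491 F419886) (tt N71964 (iv0 F419887)) (tt N71917 F419883) (tt N73863 F419884) (tt N71743 F419885) (tt N61145 (iv5 D201291)) (tt N103188 (iv6 F440488)) (tt N116483 (iv7 F500378)))
theorem Q98184 : ∀ i, i < 98184 → P i := stepQ 98183 Q98183 (allL N98183 (tt N114254 (iv1 F489246)) (tt N89417 F419891) (tt N109554 F467495) (tt N110055 (iv3 F469758)) (tt N84490 F419888) (tt N84162 (iv5 F419890)) (tt N61146 (iv6 D201292)) (tt N84488 F419889))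
theorem Q98185 : ∀ i, i < 98185 → P i := stepQ 98184 Q98184 (allL N98184 (tt N119302 (iv1 F514931)) (tt N61147 (iv0 D201293)) (tt N117104 (iv2 F503409)) (tt N73903 (iv3 F455457)) (tt N106731 F455456) (tt N107913 (iv5 F460255)) (tt N90481 (iv6 F455458)) (tt N108359 (iv7 F462242)))
theorem Q98186 : ∀ i, i < 98186 → P i := stepQ 98185 Q98185 (allL N98185 (tt N61147 (iv1 D201294)) (tt N119302 (iv0 F514930)) (tt N108359 (iv2 F462239)) (tt N99843 (iv3 F426486)) (tt N112388 (iv4 F480870)) (tt N99841 (iv5 F426479)) (tt N112387 F480867) (tt N117104 (iv7 F503412)))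
theorem Q98187 : ∀ i, i < 98187 → P i := stepQ 98186 Q98186 (allL N98186 (tt N108359 (iv1 F462245)) (tt N117104 (iv0 F503413)) (tt N119302 (iv2 F514925)) (tt N76378 F419892) (tt N81827 F419893) (tt N61148 F419894) (tt N118929 (iv6 F512796)) (tt N61147 (iv7 D201295)))
theorem Q98188 : ∀ i, i < 98188 → P i := stepQ 98187 Q98187 (allL N98187 (tt N63300 F419899) (tt N63277 (iv0 F419900)) (tt N63297 F419895) (tt N64559 F419896) (tt N61149 (iv4 D201296)) (tt N119557 D222816) (tt N85817 F419897) (tt N63298 F419898))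
theorem Q98189 : ∀ i, i < 98189 → P i := stepQ 98188 Q98188 (allL N98188 (tt N111102 (iv1 F474678)) (tt N89967 (iv0 F419905)) (tt N106843 (iv2 F455946)) (tt N75654 F419902) (tt N61153 F419903) (tt N89407 F419906) (tt N61151 (iv6 D201297)) (tt N85809 F419904))
theorem Q98190 : ∀ i, i < 98190 → P i := stepQ 98189 Q98189 (allL N98189 (tt N96423 F419913) (tt N96421 F419914) (tt N69687 F419909) (tt N96476 F419910) (tt N61154 (iv4 D201298)) (tt N69686 F419911) (tt N109787 (iv6 F468610)) (tt N96473 F419912))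
theorem Q98191 : ∀ i, i < 98191 → P i := stepQ 98190 Q98190 (allL N98190 (tt N112378 (iv1 F480815)) (tt N112661 F482059) (tt N112662 (iv2 F482060)) (tt N98583 (iv3 F421455)) (tt N96474 F419915) (tt N86226 F419916) (tt N61155 (iv6 D201299)) (tt N112660 (iv7 F482050)))
theorem Q98192 : ∀ i, i < 98192 → P i := stepQ 98191 Q98191 (allL N98191 (tt N113623 (iv1 F486350)) (tt N104980 (iv0 F448248)) (tt N113640 F486445) (tt N61194 F419917) (tt N119149 (iv4 F514047)) (tt N97274 F419918) (tt N61157 (iv6 D201300)) (tt N61170 F419919))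
theorem Q98193 : ∀ i, i < 98193 → P i := stepQ 98192 Q98192 (allL N98192 (tt N96624 (iv1 F419921)) (tt N61160 (iv0 D201301)) (tt N96358 (iv2 F419920)) (tt N61202 (iv3 F419924)) (tt N96354 F419923) (tt N104173 (iv5 F444531)) (tt N113115 (iv6 F484037)) (tt N96613 F419922))
theorem Q98194 : ∀ i, i < 98194 → P i := stepQ 98193 Q98193 (allL N98193 (tt N63323 F419927) (tt N63283 F419928) (tt N63319 F419925) (tt N110494 (iv3 F471834)) (tt N61161 (iv4 D201302)) (tt N111337 (iv5 F475887)) (tt N113646 (iv6 F486475)) (tt N63320 F419926))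
theorem Q98195 : ∀ i, i < 98195 → P i := stepQ 98194 Q98194 (allL N98194 (tt N114927 (iv1 F492579)) (tt N114925 (iv0 F492565)) (tt N114980 (iv2 F492886)) (tt N110495 (iv3 F471839)) (tt N61163 F419929) (tt N119558 D222817) (tt N61162 (iv6 D201303)) (tt N86182 F419930))
theorem Q98196 : ∀ i, i < 98196 → P i := stepQ 98195 Q98195 (allL N98195 (tt N85896 (iv1 F419931)) (tt N61163 (iv0 D201304)) (tt N86184 F471641) (tt N76699 F471642) (tt N86168 F471643) (tt N114585 (iv5 F490877)) (tt N112661 (iv6 F482057)) (tt N86183 F471644))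
theorem Q98197 : ∀ i, i < 98197 → P i := stepQ 98196 Q98196 (allL N98196 (tt N61163 (iv1 D201305)) (tt N85896 F419932) (tt N86183 F471637) (tt N61210 F471638) (tt N86167 F471639) (tt N114601 (iv5 F490957)) (tt N114948 (iv6 F492713)) (tt N86184 F471640))
theorem Q98198 : ∀ i, i < 98198 → P i := stepQ 98197 Q98197 (allL N98197 (tt N110218 (iv1 F470477)) (tt N110217 F470476) (tt N77480 F419933) (tt N61166 (iv3 D201306)) (tt N86738 F419934) (tt N77479 F419935) (tt N86737 (iv6 F419937)) (tt N85081 F419936))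
theorem Q98199 : ∀ i, i < 98199 → P i := stepQ 98198 Q98198 (allL N98198 (tt N86168 (iv1 F419942)) (tt N86167 F419944) (tt N86061 F419938) (tt N86737 F419939) (tt N85082 F419940) (tt N115677 (iv5 F496265)) (tt N61166 (iv6 D201307)) (tt N85893 F419941))
theorem Q98200 : ∀ i, i < 98200 → P i := stepQ 98199 Q98199 (allL N98199 (tt N77486 (iv1 F419950)) (tt N61168 (iv0 D201308)) (tt N75513 (iv2 F419947)) (tt N77501 F419948) (tt N91644 F419946) (tt N61271 F419945) (tt N93769 (iv6 F419951)) (tt N77487 F419949))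
theorem Q98201 : ∀ i, i < 98201 → P i := stepQ 98200 Q98200 (allL N98200 (tt N93461 F419955) (tt N93429 F419956) (tt N85111 F419953) (tt N117572 F505773) (tt N61168 (iv4 D201309)) (tt N84798 F419954) (tt N93458 (iv6 F419958)) (tt N85105 F419957))
theorem Q98202 : ∀ i, i < 98202 → P i := stepQ 98201 Q98201 (allL N98201 (tt N81982 (iv1 F419965)) (tt N81981 (iv0 F419964)) (tt N81985 F419959) (tt N115350 (iv3 F494730)) (tt N93458 F419960) (tt N81976 F419961) (tt N61168 (iv6 D201310)) (tt N81980 (iv7 F419962)))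
theorem Q98203 : ∀ i, i < 98203 → P i := stepQ 98202 Q98202 (allL N98202 (tt N77487 (iv1 F419974)) (tt N75513 F419975) (tt N77486 F419969) (tt N86157 F419970) (tt N85105 F419971) (tt N61169 F419972) (tt N89769 F419973) (tt N61168 (iv7 D201311)))
theorem Q98204 : ∀ i, i < 98204 → P i := stepQ 98203 Q98203 (allL N98203 (tt N103024 (iv1 F439720)) (tt N103023 F439716) (tt N61173 F419977) (tt N85545 F419978) (tt N119559 D222818) (tt N61172 (iv5 D201312)) (tt N84847 F419979) (tt N92641 F419980))
theorem Q98205 : ∀ i, i < 98205 → P i := stepQ 98204 Q98204 (allL N98204 (tt N92641 (iv1 F419982)) (tt N61173 (iv0 D201313)) (tt N103024 F439724) (tt N107367 F458120) (tt N119026 (iv4 F513354)) (tt N91556 F419981) (tt N98238 (iv6 F420093)) (tt N103023 F439719))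
theorem Q98206 : ∀ i, i < 98206 → P i := stepQ 98205 Q98205 (allL N98205 (tt N61173 (iv1 D201314)) (tt N92641 F419983) (tt N103023 (iv2 F439718)) (tt N85302 (iv3 F419985)) (tt N119447 (iv4 F515666)) (tt N98120 F419984) (tt N78879 (iv6 F419986)) (tt N103024 (iv7 F439721)))
theorem Q98207 : ∀ i, i < 98207 → P i := stepQ 98206 Q98206 (allL N98206 (tt N119560 D222819) (tt N119561 D222820) (tt N119559 (iv2 F516245)) (tt N116914 (iv3 F502472)) (tt N61173 (iv4 D201315)) (tt N119421 (iv5 F515523)) (tt N85287 F419987) (tt N103025 (iv7 F439725)))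
theorem Q98208 : ∀ i, i < 98208 → P i := stepQ 98207 Q98207 (allL N98207 (tt N76571 F419991) (tt N76568 F419992) (tt N76658 F419993) (tt N61175 (iv3 D201316)) (tt N85617 F419988) (tt N61588 F419989) (tt N113117 (iv6 F484044)) (tt N76659 F419990))
theorem Q98209 : ∀ i, i < 98209 → P i := stepQ 98208 Q98208 (allL N98208 (tt N61305 F419996) (tt N61307 F419997) (tt N99349 (iv2 F424215)) (tt N71906 F419998) (tt N61176 (iv4 D201317)) (tt N94941 F419994) (tt N76238 F419995) (tt N103020 (iv7 F439703)))
theorem Q98210 : ∀ i, i < 98210 → P i := stepQ 98209 Q98209 (allL N98209 (tt N107803 (iv1 F459779)) (tt N73486 (iv0 F420001)) (tt N107804 F459781) (tt N61177 (iv3 D201318)) (tt N116914 (iv4 F502473)) (tt N73466 F419999) (tt N93561 F420000) (tt N103026 (iv7 F439727)))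
theorem Q98211 : ∀ i, i < 98211 → P i := stepQ 98210 Q98210 (allL N98210 (tt N66573 (iv1 F420007)) (tt N80488 F420008) (tt N77240 F420002) (tt N61182 F420003) (tt N63713 F420004) (tt N92814 F420005) (tt N98083 F420006) (tt N61180 (iv7 D201319)))
theorem Q98212 : ∀ i, i < 98212 → P i := stepQ 98211 Q98211 (allL N98211 (tt N107695 (iv1 F459269)) (tt N113086 F483920) (tt N119562 D222821) (tt N61181 (iv3 D201320)) (tt N71241 F420009) (tt N73463 F420010) (tt N71244 F420011) (tt N103022 (iv7 F439714)))
theorem Q98213 : ∀ i, i < 98213 → P i := stepQ 98212 Q98212 (allL N98212 (tt N98647 F421725) (tt N78774 (iv0 F420012)) (tt N98645 F421719) (tt N119563 D222822) (tt N61183 (iv4 D201321)) (tt N119436 (iv5 F515618)) (tt N115018 F493075) (tt N98646 (iv7 F421720)))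
theorem Q98214 : ∀ i, i < 98214 → P i := stepQ 98213 Q98213 (allL N98213 (tt N103405 (iv1 F441469)) (tt N115386 F494931) (tt N103194 (iv2 F440508)) (tt N61185 F420013) (tt N115018 (iv4 F493072)) (tt N68124 F420015) (tt N61183 (iv6 D201322)) (tt N98160 F420014))
theorem Q98215 : ∀ i, i < 98215 → P i := stepQ 98214 Q98214 (allL N98214 (tt N114555 (iv1 F490757)) (tt N72999 (iv0 F459740)) (tt N114554 F490748) (tt N61184 (iv3 D201323)) (tt N119563 (iv4 F516270)) (tt N72968 F420016) (tt N119564 D222823) (tt N98329 (iv7 F420521)))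
theorem Q98216 : ∀ i, i < 98216 → P i := stepQ 98215 Q98215 (allL N98215 (tt N85218 F420020) (tt N94764 (iv0 F420021)) (tt N94774 F420017) (tt N119564 (iv3 F516277)) (tt N61185 F420018) (tt N106155 (iv5 F453377)) (tt N61184 (iv6 D201324)) (tt N93718 F420019))
theorem Q98217 : ∀ i, i < 98217 → P i := stepQ 98216 Q98216 (allL N98216 (tt N93129 (iv1 F420025)) (tt N61185 (iv0 D201325)) (tt N86680 (iv2 F420026)) (tt N83237 (iv3 F420027)) (tt N83260 F420022) (tt N86670 F420023) (tt N61216 F420024) (tt N103029 (iv7 F439736)))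
theorem Q98218 : ∀ i, i < 98218 → P i := stepQ 98217 Q98217 (allL N98217 (tt N61185 (iv1 D201326)) (tt N93129 F420028) (tt N103029 F439738) (tt N86707 (iv3 F420031)) (tt N118339 (iv4 F509788)) (tt N86681 F420030) (tt N118718 (iv6 F511726)) (tt N86680 F420029))
theorem Q98219 : ∀ i, i < 98219 → P i := stepQ 98218 Q98218 (allL N98218 (tt N109395 (iv1 F466748)) (tt N108446 (iv0 F462613)) (tt N107817 (iv2 F459829)) (tt N105371 F449927) (tt N61186 (iv4 D201327)) (tt N73487 F420032) (tt N112905 (iv6 F483214)) (tt N103027 (iv7 F439730)))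
theorem Q98220 : ∀ i, i < 98220 → P i := stepQ 98219 Q98219 (allL N98219 (tt N89831 F420035) (tt N106931 (iv0 F456329)) (tt N118822 (iv2 F512259)) (tt N61187 (iv3 D201328)) (tt N105371 F449928) (tt N72966 F420033) (tt N93712 F420034) (tt N98328 (iv7 F420519)))
theorem Q98221 : ∀ i, i < 98221 → P i := stepQ 98220 Q98220 (allL N98220 (tt N78845 (iv1 F420040)) (tt N78842 F420041) (tt N93717 F420036) (tt N109558 F467515) (tt N92905 F420037) (tt N79938 F420038) (tt N93129 F420039) (tt N61188 (iv7 D201329)))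
theorem Q98222 : ∀ i, i < 98222 → P i := stepQ 98221 Q98221 (allL N98221 (tt N83260 (iv1 F420044)) (tt N118339 F509791) (tt N103030 (iv2 F439739)) (tt N106280 F453871) (tt N61310 F420042) (tt N114909 (iv5 F492479)) (tt N61189 (iv6 D201330)) (tt N96103 F420043))
theorem Q98223 : ∀ i, i < 98223 → P i := stepQ 98222 Q98222 (allL N98222 (tt N90128 F420049) (tt N98252 F420188) (tt N98253 (iv2 F420189)) (tt N78152 F420045) (tt N61194 F420046) (tt N78151 (iv5 F420048)) (tt N61193 (iv6 D201331)) (tt N61225 F420047))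
theorem Q98224 : ∀ i, i < 98224 → P i := stepQ 98223 Q98223 (allL N98223 (tt N61195 (iv1 D201332)) (tt N85308 F420050) (tt N84849 (iv2 F420052)) (tt N85245 F420053) (tt N119538 (iv4 F516131)) (tt N103041 (iv5 F439801)) (tt N114800 (iv6 F491939)) (tt N85309 F420051))
theorem Q98225 : ∀ i, i < 98225 → P i := stepQ 98224 Q98224 (allL N98224 (tt N106483 F454627) (tt N85136 (iv0 F420055)) (tt N119565 D222824) (tt N61198 (iv3 D201333)) (tt N61200 F420054) (tt N119566 D222825) (tt N105283 F449549) (tt N103036 (iv7 F439776)))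
theorem Q98226 : ∀ i, i < 98226 → P i := stepQ 98225 Q98225 (allL N98225 (tt N114831 (iv1 F492104)) (tt N110159 (iv0 F470218)) (tt N110151 (iv2 F470190)) (tt N119566 (iv3 F516291)) (tt N92829 F420056) (tt N61198 (iv5 D201334)) (tt N110064 (iv6 F469803)) (tt N103037 (iv7 F439778)))
theorem Q98227 : ∀ i, i < 98227 → P i := stepQ 98226 Q98226 (allL N98226 (tt N61199 (iv1 D201335)) (tt N113109 (iv0 F484011)) (tt N74916 F420060) (tt N114341 (iv3 F489704)) (tt N85553 F420061) (tt N74915 (iv5 F420059)) (tt N85546 (iv6 F420058)) (tt N85547 F420057))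
theorem Q98228 : ∀ i, i < 98228 → P i := stepQ 98227 Q98227 (allL N98227 (tt N74916 (iv1 F420064)) (tt N85547 F420065) (tt N113109 (iv2 F484006)) (tt N61204 F420062) (tt N112908 (iv4 F483233)) (tt N97547 F420063) (tt N103040 (iv6 F439792)) (tt N61199 (iv7 D201336)))
theorem Q98229 : ∀ i, i < 98229 → P i := stepQ 98228 Q98228 (allL N98228 (tt N61200 (iv1 D201337)) (tt N103042 F439805) (tt N85248 (iv2 F439803)) (tt N116782 F501806) (tt N105704 (iv4 F451334)) (tt N85309 (iv5 F439804)) (tt N105703 F451332) (tt N103041 F439802))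
theorem Q98230 : ∀ i, i < 98230 → P i := stepQ 98229 Q98229 (allL N98229 (tt N103041 (iv1 F439799)) (tt N85248 F420068) (tt N61200 (iv2 D201338)) (tt N85308 F420066) (tt N119565 (iv4 F516284)) (tt N85232 F420067) (tt N118932 (iv6 F512817)) (tt N103042 (iv7 F439797)))
theorem Q98231 : ∀ i, i < 98231 → P i := stepQ 98230 Q98230 (allL N98230 (tt N95156 F420078) (tt N119567 D222826) (tt N118932 (iv2 F512814)) (tt N61201 F420069) (tt N105283 (iv4 F449547)) (tt N94753 (iv5 F420070)) (tt N61200 (iv6 D201339)) (tt N94751 (iv7 F420071)))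
theorem Q98232 : ∀ i, i < 98232 → P i := stepQ 98231 Q98231 (allL N98231 (tt N104073 (iv1 F444041)) (tt N104072 F444039) (tt N70738 F420072) (tt N104173 (iv3 F444530)) (tt N103740 (iv4 F442635)) (tt N61202 (iv5 D201340)) (tt N111235 (iv6 F475358)) (tt N98062 F420073))
theorem Q98233 : ∀ i, i < 98233 → P i := stepQ 98232 Q98232 (allL N98232 (tt N61236 (iv1 F420079)) (tt N76239 F420077) (tt N76238 F420074) (tt N99351 (iv3 F424225)) (tt N61203 (iv4 D201342)) (tt N94847 F420076) (tt N99349 (iv6 F424221)) (tt N76237 F420075))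
theorem Q98234 : ∀ i, i < 98234 → P i := stepQ 98233 Q98233 (allL N98233 (tt N90107 (iv1 F420084)) (tt N90109 (iv0 F420082)) (tt N90106 (iv2 F420085)) (tt N61205 (iv3 D201343)) (tt N61207 F420080) (tt N98629 (iv5 F421646)) (tt N119568 D222827) (tt N90105 F420081))
theorem Q98235 : ∀ i, i < 98235 → P i := stepQ 98234 Q98234 (allL N98234 (tt N98610 F421570) (tt N119569 D222828) (tt N98630 (iv2 F421650)) (tt N119568 (iv3 F516303)) (tt N61206 F420086) (tt N119570 D222829) (tt N61205 (iv6 D201344)) (tt N114576 (iv7 F490841)))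
theorem Q98236 : ∀ i, i < 98236 → P i := stepQ 98235 Q98235 (allL N98235 (tt N61206 (iv1 D201345)) (tt N83560 F420087) (tt N98588 (iv2 F421469)) (tt N114302 F489488) (tt N119571 D222830) (tt N82918 F420089) (tt N98564 (iv6 F421343)) (tt N78855 F420088))
theorem Q98237 : ∀ i, i < 98237 → P i := stepQ 98236 Q98236 (allL N98236 (tt N114560 F490775) (tt N117409 (iv0 F504891)) (tt N114549 (iv2 F490723)) (tt N61208 F420091) (tt N119568 (iv4 F516304)) (tt N112840 (iv5 F482893)) (tt N61207 (iv6 D201346)) (tt N118271 (iv7 F509453)))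
theorem Q98238 : ∀ i, i < 98238 → P i := stepQ 98237 Q98237 (allL N98237 (tt N76701 F420092) (tt N76579 F449285) (tt N76699 F439836) (tt N61209 (iv3 D201347)) (tt N116514 (iv4 F500556)) (tt N119572 D222831) (tt N110942 (iv6 F473889)) (tt N76700 (iv7 F439833)))
theorem Q98239 : ∀ i, i < 98239 → P i := stepQ 98238 Q98238 (allL N98238 (tt N82643 F420094) (tt N111219 (iv0 F475274)) (tt N103046 (iv2 F439823)) (tt N119572 (iv3 F516319)) (tt N119573 D222832) (tt N61209 (iv5 D201348)) (tt N98204 F420093) (tt N103048 (iv7 F439839)))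
theorem Q98240 : ∀ i, i < 98240 → P i := stepQ 98239 Q98239 (allL N98239 (tt N61218 (iv1 F420098)) (tt N93566 F420099) (tt N103047 (iv2 F439828)) (tt N112007 F479048) (tt N61210 (iv4 D201350)) (tt N96014 F420097) (tt N118721 (iv6 F511745)) (tt N96013 F420096))
theorem Q98241 : ∀ i, i < 98241 → P i := stepQ 98240 Q98240 (allL N98240 (tt N111219 (iv1 F475275)) (tt N82643 (iv0 F420101)) (tt N103048 (iv2 F439837)) (tt N114601 (iv3 F490960)) (tt N119574 D222833) (tt N61210 (iv5 D201351)) (tt N92794 F420100) (tt N103046 (iv7 F439825)))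
theorem Q98242 : ∀ i, i < 98242 → P i := stepQ 98241 Q98241 (allL N98241 (tt N92121 F420104) (tt N92124 F420105) (tt N97818 F420106) (tt N114948 (iv3 F492711)) (tt N118721 (iv4 F511744)) (tt N97907 F420103) (tt N61210 (iv6 D201352)) (tt N97817 F420102))
theorem Q98243 : ∀ i, i < 98243 → P i := stepQ 98242 Q98242 (allL N98242 (tt N82264 F420110) (tt N82254 F420111) (tt N82261 F420112) (tt N61212 (iv3 D201353)) (tt N61214 F420108) (tt N113504 (iv5 F485813)) (tt N114825 (iv6 F492078)) (tt N82262 F420109))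
theorem Q98244 : ∀ i, i < 98244 → P i := stepQ 98243 Q98243 (allL N98243 (tt N83559 (iv1 F420117)) (tt N61213 (iv0 D201354)) (tt N89621 (iv2 F420118)) (tt N78809 F420115) (tt N83382 F420114) (tt N89599 F420113) (tt N97548 F420116) (tt N109616 (iv7 F467758)))
theorem Q98245 : ∀ i, i < 98245 → P i := stepQ 98244 Q98244 (allL N98244 (tt N61213 (iv1 D201355)) (tt N83559 F420119) (tt N109616 (iv2 F467755)) (tt N86179 (iv3 F420122)) (tt N83381 F420121) (tt N86761 (iv5 F420123)) (tt N105478 (iv6 F450415)) (tt N89621 F420120))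
theorem Q98246 : ∀ i, i < 98246 → P i := stepQ 98245 Q98245 (allL N98245 (tt N94769 F420131) (tt N94766 (iv0 F420128)) (tt N103049 (iv2 F439841)) (tt N85935 F420124) (tt N74216 F420125) (tt N92625 F420126) (tt N61215 (iv6 D201356)) (tt N118718 (iv7 F511727)))
theorem Q98247 : ∀ i, i < 98247 → P i := stepQ 98246 Q98246 (allL N98246 (tt N61220 (iv1 F420133)) (tt N61219 (iv0 D201357)) (tt N61223 (iv2 F420132)) (tt N98250 (iv3 F420173)) (tt N86156 F420136) (tt N66812 F420137) (tt N78155 (iv6 F420135)) (tt N61221 F420134))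
theorem Q98248 : ∀ i, i < 98248 → P i := stepQ 98247 Q98247 (allL N98247 (tt N61223 (iv1 F420142)) (tt N61221 F420141) (tt N61219 (iv2 D201358)) (tt N90158 F420138) (tt N90386 F420139) (tt N97833 F420143) (tt N112005 (iv6 F479041)) (tt N61220 F420140))
theorem Q98249 : ∀ i, i < 98249 → P i := stepQ 98248 Q98248 (allL N98248 (tt N97834 (iv1 F420165)) (tt N93135 (iv0 F420164)) (tt N97833 F420160) (tt N95692 F420161) (tt N107452 (iv4 F458387)) (tt N61219 (iv5 D201359)) (tt N95683 F420162) (tt N97832 F420163))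
theorem Q98250 : ∀ i, i < 98250 → P i := stepQ 98249 Q98249 (allL N98249 (tt N93135 (iv1 F420170)) (tt N97834 F420171) (tt N97832 F420166) (tt N90156 F420167) (tt N112924 (iv4 F483287)) (tt N61220 (iv5 D201360)) (tt N73769 F420168) (tt N97833 F420169))
theorem Q98251 : ∀ i, i < 98251 → P i := stepQ 98250 Q98250 (allL N98250 (tt N66811 F420177) (tt N66810 (iv0 F420178)) (tt N61222 F420172) (tt N98246 F420173) (tt N89322 F420174) (tt N61221 (iv5 D201361)) (tt N94528 F420175) (tt N66812 F420176))
theorem Q98252 : ∀ i, i < 98252 → P i := stepQ 98251 Q98251 (allL N98251 (tt N61222 (iv1 D201362)) (tt N66812 F420179) (tt N66810 F420182) (tt N85204 (iv3 F420181)) (tt N83133 F420183) (tt N117719 (iv5 F506604)) (tt N113319 (iv6 F485007)) (tt N66811 F420180))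
theorem Q98253 : ∀ i, i < 98253 → P i := stepQ 98252 Q98252 (allL N98252 (tt N98222 (iv1 F420188)) (tt N61224 (iv0 D201363)) (tt N89753 (iv2 F420186)) (tt N85224 F420187) (tt N78392 F420185) (tt N90371 F420184) (tt N117735 (iv6 F506698)) (tt N98254 (iv7 F420196)))
theorem Q98254 : ∀ i, i < 98254 → P i := stepQ 98253 Q98253 (allL N98253 (tt N98254 (iv1 F420195)) (tt N89753 (iv0 F420194)) (tt N98222 F420189) (tt N94530 F420190) (tt N66788 F420191) (tt N94529 F420192) (tt N66787 F420193) (tt N61224 (iv7 D201364)))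
theorem Q98255 : ∀ i, i < 98255 → P i := stepQ 98254 Q98254 (allL N98254 (tt N61225 (iv1 D201365)) (tt N98253 F420195) (tt N90128 F420199) (tt N89878 (iv3 F420198)) (tt N61328 F420197) (tt N103966 (iv5 F443556)) (tt N118210 (iv6 F509166)) (tt N98252 F420196))
theorem Q98256 : ∀ i, i < 98256 → P i := stepQ 98255 Q98255 (allL N98255 (tt N118718 (iv1 F511730)) (tt N103049 (iv0 F439845)) (tt N94769 F420200) (tt N109059 (iv3 F465147)) (tt N93353 F420201) (tt N105887 (iv5 F452187)) (tt N61227 (iv6 D201366)) (tt N94766 F420202))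
theorem Q98257 : ∀ i, i < 98257 → P i := stepQ 98256 Q98256 (allL N98256 (tt N98368 (iv1 F420665)) (tt N98367 F420662) (tt N61395 F420203) (tt N82873 F420204) (tt N69566 F420205) (tt N61363 F420206) (tt N61228 (iv6 D201367)) (tt N74488 F420207))
theorem Q98258 : ∀ i, i < 98258 → P i := stepQ 98257 Q98257 (allL N98257 (tt N106319 F454010) (tt N106313 F467879) (tt N76225 F420208) (tt N105542 (iv3 F450661)) (tt N109847 (iv4 F468887)) (tt N95868 F420209) (tt N61229 (iv6 D201368)) (tt N105811 (iv7 F451834)))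
theorem Q98259 : ∀ i, i < 98259 → P i := stepQ 98258 Q98258 (allL N98258 (tt N76558 (iv1 F420214)) (tt N76557 F420215) (tt N76560 F420210) (tt N61234 F420211) (tt N99763 (iv4 F426116)) (tt N63202 F420212) (tt N76228 F420213) (tt N61231 (iv7 D201369)))
theorem Q98260 : ∀ i, i < 98260 → P i := stepQ 98259 Q98259 (allL N98259 (tt N64187 F420220) (tt N98476 F421052) (tt N84190 F420216) (tt N98496 (iv3 F421124)) (tt N68118 F420217) (tt N61232 (iv5 D201370)) (tt N85175 F420218) (tt N68117 F420219))
theorem Q98261 : ∀ i, i < 98261 → P i := stepQ 98260 Q98260 (allL N98260 (tt N104925 F447973) (tt N104926 (iv0 F447977)) (tt N103056 (iv2 F439875)) (tt N84808 F420221) (tt N93721 F420222) (tt N86608 F420223) (tt N61233 (iv6 D201371)) (tt N84804 F420224))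
theorem Q98262 : ∀ i, i < 98262 → P i := stepQ 98261 Q98261 (allL N98261 (tt N61235 (iv1 D201372)) (tt N74898 F420225) (tt N102957 (iv2 F439434)) (tt N114976 F492868) (tt N99795 (iv4 F426251)) (tt N74902 F420226) (tt N99795 F426253) (tt N102954 (iv7 F439418)))
theorem Q98263 : ∀ i, i < 98263 → P i := stepQ 98262 Q98262 (allL N98262 (tt N102957 (iv1 F439438)) (tt N102954 (iv0 F439420)) (tt N74898 F420227) (tt N61239 F420228) (tt N62821 F420229) (tt N62801 F420230) (tt N76186 F420231) (tt N61235 (iv7 D201373)))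
theorem Q98264 : ∀ i, i < 98264 → P i := stepQ 98263 Q98263 (allL N98263 (tt N105820 (iv1 F451881)) (tt N74903 F420235) (tt N76242 F420232) (tt N68345 F420233) (tt N119575 D222834) (tt N61237 (iv5 D201374)) (tt N109425 (iv6 F466897)) (tt N76245 F420234))
theorem Q98265 : ∀ i, i < 98265 → P i := stepQ 98264 Q98264 (allL N98264 (tt N118054 F508321) (tt N119576 D222835) (tt N76243 F420236) (tt N80585 F420237) (tt N78463 F420238) (tt N98339 F420550) (tt N61237 (iv6 D201375)) (tt N98611 (iv7 F421574)))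
theorem Q98266 : ∀ i, i < 98266 → P i := stepQ 98265 Q98265 (allL N98265 (tt N76806 F420240) (tt N98501 F421143) (tt N100214 (iv2 F428024)) (tt N61238 (iv3 D201376)) (tt N107998 (iv4 F460656)) (tt N106856 (iv5 F456016)) (tt N100201 (iv6 F427967)) (tt N76240 F420239))
theorem Q98267 : ∀ i, i < 98267 → P i := stepQ 98266 Q98266 (allL N98266 (tt N74790 (iv1 F420245)) (tt N97273 F420243) (tt N108791 F463958) (tt N93161 F420244) (tt N61240 (iv4 D201377)) (tt N76260 F420242) (tt N115472 (iv6 F495352)) (tt N76259 F420241))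
theorem Q98268 : ∀ i, i < 98268 → P i := stepQ 98267 Q98267 (allL N98267 (tt N76363 F420250) (tt N76360 F420251) (tt N86845 F420246) (tt N61244 F420247) (tt N115472 (iv4 F495351)) (tt N64182 F420248) (tt N61240 (iv6 D201378)) (tt N86844 F420249))
theorem Q98269 : ∀ i, i < 98269 → P i := stepQ 98268 Q98268 (allL N98268 (tt N64179 F420258) (tt N61241 (iv0 D201379)) (tt N78941 (iv2 F420257)) (tt N64185 F420255) (tt N80471 F420254) (tt N76386 F420253) (tt N78935 F420256) (tt N98473 (iv7 F421034)))
theorem Q98270 : ∀ i, i < 98270 → P i := stepQ 98269 Q98269 (allL N98269 (tt N61241 (iv1 D201380)) (tt N64179 F420259) (tt N98473 F421040) (tt N81465 F420263) (tt N94168 F420261) (tt N76372 (iv5 F420262)) (tt N99797 (iv6 F426262)) (tt N78941 F420260))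
theorem Q98271 : ∀ i, i < 98271 → P i := stepQ 98270 Q98270 (allL N98270 (tt N98473 F421036) (tt N78941 F421039) (tt N64179 F420264) (tt N61245 F420265) (tt N81308 F420266) (tt N64170 F420267) (tt N100020 (iv6 F427231)) (tt N61241 (iv7 D201381)))
theorem Q98272 : ∀ i, i < 98272 → P i := stepQ 98271 Q98271 (allL N98271 (tt N88435 F420271) (tt N96058 F420272) (tt N96137 (iv2 F420273)) (tt N61243 (iv3 D201382)) (tt N93161 F420268) (tt N67139 F420269) (tt N87741 F420274) (tt N93160 F420270))
theorem Q98273 : ∀ i, i < 98273 → P i := stepQ 98272 Q98272 (allL N98272 (tt N87712 F420277) (tt N111789 F477985) (tt N108473 (iv2 F462740)) (tt N87741 F420275) (tt N61244 F420276) (tt N111773 (iv5 F477900)) (tt N61243 (iv6 D201383)) (tt N111788 F477980))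
theorem Q98274 : ∀ i, i < 98274 → P i := stepQ 98273 Q98273 (allL N98273 (tt N79983 (iv1 F420280)) (tt N68392 F420281) (tt N104014 (iv2 F443791)) (tt N86844 F420278) (tt N111788 (iv4 F477977)) (tt N98481 (iv5 F421073)) (tt N68382 F420279) (tt N61244 (iv7 D201384)))
theorem Q98275 : ∀ i, i < 98275 → P i := stepQ 98274 Q98274 (allL N98274 (tt N104025 F443849) (tt N68369 (iv0 F420284)) (tt N74480 F420282) (tt N61249 F420283) (tt N99736 (iv4 F425978)) (tt N101040 (iv5 F431415)) (tt N61246 (iv6 D201385)) (tt N104013 (iv7 F443789)))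
theorem Q98276 : ∀ i, i < 98276 → P i := stepQ 98275 Q98275 (allL N98275 (tt N98345 (iv1 F420577)) (tt N98344 (iv0 F420573)) (tt N74481 F420285) (tt N61251 F420286) (tt N101041 (iv4 F431418)) (tt N61247 (iv5 D201386)) (tt N101040 F431417) (tt N98419 (iv7 F420877)))
theorem Q98277 : ∀ i, i < 98277 → P i := stepQ 98276 Q98276 (allL N98276 (tt N63809 (iv1 F420291)) (tt N74469 F420292) (tt N74482 F420287) (tt N61252 F420288) (tt N74854 F420289) (tt N98419 (iv5 F420878)) (tt N66759 F420290) (tt N61247 (iv7 D201387)))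
theorem Q98278 : ∀ i, i < 98278 → P i := stepQ 98277 Q98277 (allL N98277 (tt N119577 D222836) (tt N74326 (iv0 F420294)) (tt N105030 (iv2 F448466)) (tt N61248 (iv3 D201388)) (tt N99735 (iv4 F425974)) (tt N67136 F420293) (tt N78519 (iv6 F420295)) (tt N105034 (iv7 F448485)))
theorem Q98279 : ∀ i, i < 98279 → P i := stepQ 98278 Q98278 (allL N98278 (tt N103979 F443632) (tt N68387 (iv0 F420299)) (tt N93159 F420296) (tt N78519 F420297) (tt N61249 F420298) (tt N117631 (iv5 F506094)) (tt N61248 (iv6 D201389)) (tt N103978 (iv7 F443626)))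
theorem Q98280 : ∀ i, i < 98280 → P i := stepQ 98279 Q98279 (allL N98279 (tt N61589 F420300) (tt N61561 F420301) (tt N98599 (iv2 F421509)) (tt N119578 D222837) (tt N61251 (iv4 D201390)) (tt N117976 (iv5 F507879)) (tt N106126 (iv6 F453248)) (tt N98601 (iv7 F421519)))
theorem Q98281 : ∀ i, i < 98281 → P i := stepQ 98280 Q98280 (allL N98280 (tt N99738 (iv1 F425992)) (tt N105015 (iv0 F448386)) (tt N108802 F464020) (tt N87627 F420302) (tt N61253 (iv4 D201391)) (tt N74443 F420304) (tt N119579 D222838) (tt N87626 F420303))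
theorem Q98282 : ∀ i, i < 98282 → P i := stepQ 98281 Q98281 (allL N98281 (tt N94020 F420308) (tt N84464 (iv0 F420309)) (tt N109013 (iv2 F464923)) (tt N61254 F420305) (tt N119579 (iv4 F516357)) (tt N92169 F420306) (tt N61253 (iv6 D201392)) (tt N86818 F420307))
theorem Q98283 : ∀ i, i < 98283 → P i := stepQ 98282 Q98282 (allL N98282 (tt N61254 (iv1 D201393)) (tt N88473 F420310) (tt N104941 (iv2 F448040)) (tt N109735 (iv3 F468348)) (tt N116068 (iv4 F498304)) (tt N105922 (iv5 F452360)) (tt N104936 (iv6 F448023)) (tt N97256 F420311))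
theorem Q98284 : ∀ i, i < 98284 → P i := stepQ 98283 Q98283 (allL N98283 (tt N74178 (iv1 F420316)) (tt N62660 F420317) (tt N74175 (iv2 F420320)) (tt N61259 (iv3 D201394)) (tt N97163 F420314) (tt N90770 F420312) (tt N119580 D222839) (tt N74176 F420313))
theorem Q98285 : ∀ i, i < 98285 → P i := stepQ 98284 Q98284 (allL N98284 (tt N95869 (iv1 F420327)) (tt N93120 (iv0 F420324)) (tt N95870 F420322) (tt N118110 (iv3 F508653)) (tt N61259 (iv4 D201395)) (tt N105811 (iv5 F451833)) (tt N70474 (iv6 F420326)) (tt N95868 F420323))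
theorem Q98286 : ∀ i, i < 98286 → P i := stepQ 98285 Q98285 (allL N98285 (tt N69378 F420333) (tt N95658 F420335) (tt N97348 F420330) (tt N119580 (iv3 F516363)) (tt N70474 F420331) (tt N95428 (iv5 F420334)) (tt N61259 (iv6 D201396)) (tt N95866 F420332))
theorem Q98287 : ∀ i, i < 98287 → P i := stepQ 98286 Q98286 (allL N98286 (tt N84804 F420337) (tt N103056 (iv0 F439877)) (tt N104925 (iv2 F447969)) (tt N114987 F492931) (tt N97145 F420336) (tt N61262 (iv5 D201397)) (tt N119576 F516342) (tt N104926 (iv7 F447976)))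
theorem Q98288 : ∀ i, i < 98288 → P i := stepQ 98287 Q98287 (allL N98287 (tt N103056 F439878) (tt N84804 F420339) (tt N104926 (iv2 F447974)) (tt N98364 (iv3 F420650)) (tt N97155 F420338) (tt N61263 (iv5 D201398)) (tt N76232 F420340) (tt N104925 (iv7 F447971)))
theorem Q98289 : ∀ i, i < 98289 → P i := stepQ 98288 Q98288 (allL N98288 (tt N104936 F448024) (tt N97255 (iv0 F420344)) (tt N104927 (iv2 F447979)) (tt N87548 F420341) (tt N97250 F420342) (tt N95892 F420343) (tt N61263 (iv6 D201399)) (tt N104088 (iv7 F444113)))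
theorem Q98290 : ∀ i, i < 98290 → P i := stepQ 98289 Q98289 (allL N98289 (tt N92228 (iv1 F420351)) (tt N61265 (iv0 D201400)) (tt N92214 (iv2 F420348)) (tt N64196 F420347) (tt N96231 F420346) (tt N85067 F420345) (tt N96230 (iv6 F420350)) (tt N92229 F420349))
theorem Q98291 : ∀ i, i < 98291 → P i := stepQ 98290 Q98290 (allL N98290 (tt N92229 (iv1 F420356)) (tt N92214 F420357) (tt N92228 F420352) (tt N73786 F420353) (tt N92837 F420354) (tt N104758 (iv5 F447133)) (tt N90648 F420355) (tt N61265 (iv7 D201401)))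
theorem Q98292 : ∀ i, i < 98292 → P i := stepQ 98291 Q98291 (allL N98291 (tt N103031 (iv1 F439747)) (tt N103033 (iv0 F439765)) (tt N118003 (iv2 F508026)) (tt N119581 D222840) (tt N61266 (iv4 D201402)) (tt N118004 (iv5 F508033)) (tt N103107 (iv6 F440105)) (tt N114973 (iv7 F492848)))
theorem Q98293 : ∀ i, i < 98293 → P i := stepQ 98292 Q98292 (allL N98292 (tt N115057 (iv1 F493274)) (tt N100705 (iv0 F430101)) (tt N87802 F420360) (tt N65138 F420361) (tt N119582 D222841) (tt N61268 (iv5 D201403)) (tt N65414 F420362) (tt N82005 F420363))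
theorem Q98294 : ∀ i, i < 98294 → P i := stepQ 98293 Q98293 (allL N98293 (tt N98504 (iv1 F421154)) (tt N86145 (iv0 F420366)) (tt N61606 F420364) (tt N98513 (iv3 F421178)) (tt N119164 (iv4 F514140)) (tt N61269 (iv5 D201404)) (tt N85895 F420365) (tt N98503 (iv7 F421153)))
theorem Q98295 : ∀ i, i < 98295 → P i := stepQ 98294 Q98294 (allL N98294 (tt N73586 (iv1 F420372)) (tt N61478 (iv0 F420373)) (tt N61607 F420368) (tt N98514 (iv3 F421182)) (tt N74830 F420369) (tt N89853 F420370) (tt N61269 (iv6 D201405)) (tt N79067 F420371))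
theorem Q98296 : ∀ i, i < 98296 → P i := stepQ 98295 Q98295 (allL N98295 (tt N110439 F471594) (tt N110438 F471707) (tt N77502 F420376) (tt N61271 (iv3 D201406)) (tt N119581 (iv4 F516370)) (tt N77501 F420377) (tt N115010 (iv6 F493042)) (tt N114975 (iv7 F492862)))
theorem Q98297 : ∀ i, i < 98297 → P i := stepQ 98296 Q98296 (allL N98296 (tt N108253 (iv1 F461712)) (tt N99566 (iv0 F425198)) (tt N98138 F420378) (tt N61273 F420379) (tt N75027 F420380) (tt N75785 F420381) (tt N61272 (iv6 D201407)) (tt N108252 (iv7 F461707)))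
theorem Q98298 : ∀ i, i < 98298 → P i := stepQ 98297 Q98297 (allL N98297 (tt N92640 F420387) (tt N75274 (iv0 F420388)) (tt N61287 F420382) (tt N75340 F420383) (tt N61274 (iv4 D201408)) (tt N75338 F420384) (tt N88476 F420385) (tt N61286 F420386))
theorem Q98299 : ∀ i, i < 98299 → P i := stepQ 98298 Q98298 (allL N98298 (tt N85615 F420392) (tt N78866 F420393) (tt N61292 F420389) (tt N107222 F457518) (tt N61276 (iv4 D201409)) (tt N109632 (iv5 F467848)) (tt N85191 F420390) (tt N61296 F420391))
theorem Q98300 : ∀ i, i < 98300 → P i := stepQ 98299 Q98299 (allL N98299 (tt N61286 F420398) (tt N61287 (iv0 F420399)) (tt N92640 F420394) (tt N75278 F420395) (tt N63403 F420396) (tt N109233 (iv5 F465899)) (tt N61279 (iv6 D201410)) (tt N75274 F420397))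
theorem Q98301 : ∀ i, i < 98301 → P i := stepQ 98300 Q98300 (allL N98300 (tt N61280 (iv1 D201411)) (tt N98770 (iv0 F422245)) (tt N75263 F420404) (tt N61348 (iv3 F420402)) (tt N62839 F420401) (tt N86420 F420405) (tt N85793 (iv6 F420403)) (tt N63806 F420400))
theorem Q98302 : ∀ i, i < 98302 → P i := stepQ 98301 Q98301 (allL N98301 (tt N87146 F420412) (tt N87570 F420411) (tt N87569 F420406) (tt N61282 F420407) (tt N69443 F420410) (tt N61280 (iv5 D201412)) (tt N61342 F420408) (tt N87568 F420409))
theorem Q98303 : ∀ i, i < 98303 → P i := stepQ 98302 Q98302 (allL N98302 (tt N80338 (iv1 F420414)) (tt N61281 (iv0 D201413)) (tt N110253 F470652) (tt N75499 (iv3 F420416)) (tt N81451 F420413) (tt N112724 (iv5 F482370)) (tt N75497 F420417) (tt N91208 F420415))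
theorem Q98304 : ∀ i, i < 98304 → P i := stepQ 98303 Q98303 (allL N98303 (tt N75252 F420423) (tt N89458 (iv0 F420424)) (tt N97412 F420418) (tt N65389 F420419) (tt N78224 F420422) (tt N61281 (iv5 D201414)) (tt N90397 F420420) (tt N79453 F420421))
theorem Q98305 : ∀ i, i < 98305 → P i := stepQ 98304 Q98304 (allL N98304 (tt N119233 (iv1 F514518)) (tt N81662 F420427) (tt N97272 F420425) (tt N101818 (iv3 F434491)) (tt N61282 (iv4 D201415)) (tt N111713 (iv5 F477620)) (tt N78883 F420426) (tt N112362 (iv7 F480749)))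
theorem Q98306 : ∀ i, i < 98306 → P i := stepQ 98305 Q98305 (allL N98305 (tt N86054 F420436) (tt N61628 F421704) (tt N86052 F420428) (tt N61289 (iv3 D201416)) (tt N118973 (iv4 F513059)) (tt N106846 (iv5 F455963)) (tt N85884 F420429) (tt N86053 F420430))
theorem Q98307 : ∀ i, i < 98307 → P i := stepQ 98306 Q98306 (allL N98306 (tt N95208 F420434) (tt N95178 (iv0 F420437)) (tt N94597 F420431) (tt N95239 (iv3 F420438)) (tt N61289 (iv4 D201417)) (tt N95835 F420435) (tt N94595 F420432) (tt N95236 F420433))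
theorem Q98308 : ∀ i, i < 98308 → P i := stepQ 98307 Q98307 (allL N98307 (tt N79067 F420442) (tt N61607 F420443) (tt N73586 F420439) (tt N106846 F455965) (tt N108287 (iv4 F461891)) (tt N61289 (iv5 D201418)) (tt N91225 F420440) (tt N61478 F420441))
theorem Q98309 : ∀ i, i < 98309 → P i := stepQ 98308 Q98308 (allL N98308 (tt N84250 F420464) (tt N98492 (iv0 F460224)) (tt N113906 (iv2 F487715)) (tt N107908 (iv3 F460219)) (tt N95237 F420444) (tt N108449 (iv5 F462627)) (tt N61290 (iv6 D201419)) (tt N113907 (iv7 F487722)))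
theorem Q98310 : ∀ i, i < 98310 → P i := stepQ 98309 Q98309 (allL N98309 (tt N84850 F420448) (tt N85363 F420449) (tt N85191 F420445) (tt N109634 (iv3 F467855)) (tt N61293 F420446) (tt N115538 (iv5 F495690)) (tt N61292 (iv6 D201420)) (tt N85188 F420447))
theorem Q98311 : ∀ i, i < 98311 → P i := stepQ 98310 Q98310 (allL N98310 (tt N103033 (iv1 F439766)) (tt N103031 (iv0 F439746)) (tt N114973 (iv2 F492847)) (tt N105550 F450693) (tt N61294 (iv4 D201421)) (tt N118005 (iv5 F508041)) (tt N85555 F420455) (tt N118003 (iv7 F508029)))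
theorem Q98312 : ∀ i, i < 98312 → P i := stepQ 98311 Q98311 (allL N98311 (tt N82908 F420453) (tt N119583 D222842) (tt N114974 (iv2 F492853)) (tt N61297 F420451) (tt N85555 (iv4 F420454)) (tt N97542 F420452) (tt N61294 (iv6 D201422)) (tt N118357 (iv7 F509893)))
theorem Q98313 : ∀ i, i < 98313 → P i := stepQ 98312 Q98312 (allL N98312 (tt N65919 F420458) (tt N72206 (iv0 F420459)) (tt N107221 F457514) (tt N61296 (iv3 D201423)) (tt N105550 F450694) (tt N93426 F420456) (tt N73459 F420457) (tt N107222 (iv7 F457517)))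
theorem Q98314 : ∀ i, i < 98314 → P i := stepQ 98313 Q98313 (allL N98313 (tt N61297 (iv1 D201424)) (tt N85189 F420460) (tt N76244 F420463) (tt N100214 F428022) (tt N99293 (iv4 F423967)) (tt N68246 (iv5 F420462)) (tt N85148 (iv6 F420461)) (tt N107760 (iv7 F459604)))
theorem Q98315 : ∀ i, i < 98315 → P i := stepQ 98314 Q98314 (allL N98314 (tt N108981 (iv1 F464758)) (tt N101759 (iv0 F434219)) (tt N101803 (iv2 F434408)) (tt N69559 F420465) (tt N101857 (iv4 F434695)) (tt N61300 (iv5 D201425)) (tt N100279 (iv6 F428229)) (tt N75560 F420466))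
theorem Q98316 : ∀ i, i < 98316 → P i := stepQ 98315 Q98315 (allL N98315 (tt N61383 (iv1 F420469)) (tt N61301 (iv0 D201426)) (tt N98426 (iv2 F420890)) (tt N82913 F420468) (tt N72506 F420467) (tt N98346 (iv5 F420582)) (tt N82912 (iv6 F420470)) (tt N105057 (iv7 F448596)))
theorem Q98317 : ∀ i, i < 98317 → P i := stepQ 98316 Q98316 (allL N98316 (tt N61301 (iv1 D201427)) (tt N61383 F420471) (tt N105057 (iv2 F448594)) (tt N99109 (iv3 F423366)) (tt N72505 F420472) (tt N82335 (iv5 F420473)) (tt N76227 F420474) (tt N98426 (iv7 F420891)))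
theorem Q98318 : ∀ i, i < 98318 → P i := stepQ 98317 Q98317 (allL N98317 (tt N119022 (iv1 F513334)) (tt N107433 F458328) (tt N109046 (iv2 F465087)) (tt N73219 F420475) (tt N61301 (iv4 D201428)) (tt N96495 (iv5 F420476)) (tt N85356 F420477) (tt N107304 (iv7 F457889)))
theorem Q98319 : ∀ i, i < 98319 → P i := stepQ 98318 Q98318 (allL N98318 (tt N84783 F420481) (tt N90182 (iv0 F420483)) (tt N109034 (iv2 F465021)) (tt N61306 F420478) (tt N85356 F420479) (tt N79013 F420480) (tt N61301 (iv6 D201429)) (tt N85179 F420482))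
theorem Q98320 : ∀ i, i < 98320 → P i := stepQ 98319 Q98319 (allL N98319 (tt N88521 (iv1 F420487)) (tt N61302 (iv0 D201430)) (tt N63812 F420489) (tt N85793 F420486) (tt N69667 F420485) (tt N88426 F420484) (tt N61348 (iv6 F420488)) (tt N104242 (iv7 F444889)))
theorem Q98321 : ∀ i, i < 98321 → P i := stepQ 98320 Q98320 (allL N98320 (tt N61302 (iv1 D201431)) (tt N88521 F420490) (tt N104242 (iv2 F444885)) (tt N100496 (iv3 F429185)) (tt N74470 F420493) (tt N90079 F420492) (tt N74469 (iv6 F420494)) (tt N63812 F420491))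
theorem Q98322 : ∀ i, i < 98322 → P i := stepQ 98321 Q98321 (allL N98321 (tt N100169 (iv1 F427817)) (tt N85131 (iv0 F420496)) (tt N100200 (iv2 F427962)) (tt N61303 (iv3 D201432)) (tt N100194 (iv4 F427935)) (tt N61526 F420495) (tt N113702 (iv6 F486713)) (tt N100201 (iv7 F427964)))
theorem Q98323 : ∀ i, i < 98323 → P i := stepQ 98322 Q98322 (allL N98322 (tt N119576 (iv1 F516337)) (tt N118054 (iv0 F508320)) (tt N98611 (iv2 F421571)) (tt N113702 F486716) (tt N108167 (iv4 F461368)) (tt N61528 F420497) (tt N61303 (iv6 D201433)) (tt N76243 F420498))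
theorem Q98324 : ∀ i, i < 98324 → P i := stepQ 98323 Q98323 (allL N98323 (tt N107306 (iv1 F457895)) (tt N107296 (iv0 F457851)) (tt N107298 (iv2 F457859)) (tt N61305 (iv3 D201434)) (tt N73219 F420499) (tt N103203 (iv5 F440555)) (tt N96065 F420500) (tt N107308 (iv7 F457904)))
theorem Q98325 : ∀ i, i < 98325 → P i := stepQ 98324 Q98324 (allL N98324 (tt N61387 (iv1 F420505)) (tt N61354 F420504) (tt N61308 (iv2 D201435)) (tt N62816 F420501) (tt N106327 (iv4 F454041)) (tt N62815 F420502) (tt N106326 F454038) (tt N61385 F420503))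
theorem Q98326 : ∀ i, i < 98326 → P i := stepQ 98325 Q98325 (allL N98325 (tt N114277 F489349) (tt N107257 (iv0 F457675)) (tt N106326 (iv2 F454035)) (tt N61310 F420506) (tt N105962 F452530) (tt N92965 F420507) (tt N61308 (iv6 D201436)) (tt N106324 (iv7 F454028)))
theorem Q98327 : ∀ i, i < 98327 → P i := stepQ 98326 Q98326 (allL N98326 (tt N61599 F420512) (tt N98513 (iv0 F421180)) (tt N74932 F420508) (tt N61312 F420509) (tt N109374 (iv4 F466642)) (tt N76394 F420510) (tt N61311 (iv6 D201437)) (tt N76393 (iv7 F420511)))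
theorem Q98328 : ∀ i, i < 98328 → P i := stepQ 98327 Q98327 (allL N98327 (tt N96102 (iv1 F420517)) (tt N61312 (iv0 D201438)) (tt N98487 (iv2 F421095)) (tt N84250 (iv3 F420518)) (tt N107714 (iv4 F459350)) (tt N71833 F420515) (tt N97988 F420516) (tt N100780 (iv7 F430439)))
theorem Q98329 : ∀ i, i < 98329 → P i := stepQ 98328 Q98328 (allL N98328 (tt N107700 F459293) (tt N116783 (iv0 F501812)) (tt N105623 (iv2 F451005)) (tt N61313 (iv3 D201439)) (tt N95244 F420520) (tt N99314 (iv5 F424064)) (tt N105611 (iv6 F450969)) (tt N98219 F420519))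
theorem Q98330 : ∀ i, i < 98330 → P i := stepQ 98329 Q98329 (allL N98329 (tt N85235 F420522) (tt N99327 (iv0 F424115)) (tt N107801 (iv2 F459774)) (tt N61314 (iv3 D201440)) (tt N116276 (iv4 F499315)) (tt N99315 (iv5 F424068)) (tt N118040 (iv6 F508240)) (tt N98214 F420521))
theorem Q98331 : ∀ i, i < 98331 → P i := stepQ 98330 Q98330 (allL N98330 (tt N119584 D222843) (tt N82899 F420535) (tt N61317 F420523) (tt N100218 (iv3 F428043)) (tt N107093 F456932) (tt N100215 (iv5 F428027)) (tt N61316 (iv6 D201441)) (tt N116618 (iv7 F500999)))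
theorem Q98332 : ∀ i, i < 98332 → P i := stepQ 98331 Q98331 (allL N98331 (tt N116618 F501001) (tt N61317 (iv0 D201442)) (tt N119584 F516390) (tt N82636 F420524) (tt N100016 (iv4 F427208)) (tt N112910 (iv5 F483241)) (tt N76555 F420525) (tt N82899 (iv7 F420526)))
theorem Q98333 : ∀ i, i < 98333 → P i := stepQ 98332 Q98332 (allL N98332 (tt N61317 (iv1 D201443)) (tt N116618 (iv0 F501000)) (tt N82899 F420528) (tt N115739 (iv3 F496598)) (tt N116314 (iv4 F499512)) (tt N104180 (iv5 F444560)) (tt N70658 (iv6 F420527)) (tt N119584 (iv7 F516392)))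
theorem Q98334 : ∀ i, i < 98334 → P i := stepQ 98333 Q98333 (allL N98333 (tt N82894 F420531) (tt N115739 F496603) (tt N100215 (iv2 F428025)) (tt N61320 F420529) (tt N76710 (iv4 F420532)) (tt N61317 (iv5 D201444)) (tt N61371 F420530) (tt N115738 (iv7 F496591)))
theorem Q98335 : ∀ i, i < 98335 → P i := stepQ 98334 Q98334 (allL N98334 (tt N82899 F420534) (tt N119584 F516391) (tt N116618 (iv2 F500996)) (tt N61321 F420533) (tt N107092 (iv4 F456928)) (tt N115738 (iv5 F496592)) (tt N108836 (iv6 F464186)) (tt N61317 (iv7 D201445)))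
theorem Q98336 : ∀ i, i < 98336 → P i := stepQ 98335 Q98335 (allL N98335 (tt N84890 F420537) (tt N84883 F420538) (tt N98494 (iv2 F421116)) (tt N61318 (iv3 D201446)) (tt N83910 F420536) (tt N117927 (iv5 F507641)) (tt N98484 (iv6 F421086)) (tt N100217 (iv7 F428033)))
theorem Q98337 : ∀ i, i < 98337 → P i := stepQ 98336 Q98336 (allL N98336 (tt N114763 (iv1 F491735)) (tt N98664 (iv0 F421791)) (tt N111004 (iv2 F474193)) (tt N117927 (iv3 F507640)) (tt N119585 D222844) (tt N61318 (iv5 D201447)) (tt N117926 (iv6 F507635)) (tt N98047 F420539))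
theorem Q98338 : ∀ i, i < 98338 → P i := stepQ 98337 Q98337 (allL N98337 (tt N98664 F467981) (tt N114763 (iv0 F491733)) (tt N98047 F420540) (tt N113878 F487586) (tt N119586 D222845) (tt N61319 (iv5 D201448)) (tt N78797 F420541) (tt N111004 (iv7 F474195)))
theorem Q98339 : ∀ i, i < 98339 → P i := stepQ 98338 Q98338 (allL N98338 (tt N70654 F420544) (tt N92164 F420545) (tt N97989 F420546) (tt N114301 (iv3 F489479)) (tt N112827 (iv4 F482818)) (tt N97936 F420542) (tt N61319 (iv6 D201449)) (tt N97988 (iv7 F420543)))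
theorem Q98340 : ∀ i, i < 98340 → P i := stepQ 98339 Q98339 (allL N98339 (tt N61320 (iv1 D201450)) (tt N86088 F420548) (tt N98524 (iv2 F421199)) (tt N85894 F420551) (tt N119587 D222846) (tt N98264 (iv5 F420550)) (tt N98512 (iv6 F421176)) (tt N61609 F420549))
theorem Q98341 : ∀ i, i < 98341 → P i := stepQ 98340 Q98340 (allL N98340 (tt N98587 F421468) (tt N119571 (iv0 F516316)) (tt N103191 (iv2 F440494)) (tt N107085 F456907) (tt N61320 (iv4 D201451)) (tt N119588 D222847) (tt N61620 F420552) (tt N116899 (iv7 F502419)))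
theorem Q98342 : ∀ i, i < 98342 → P i := stepQ 98341 Q98341 (allL N98341 (tt N98524 (iv1 F421202)) (tt N61609 (iv0 F420556)) (tt N86088 F420553) (tt N115738 (iv3 F496596)) (tt N116899 (iv4 F502418)) (tt N61321 F420554) (tt N79031 F420555) (tt N61320 (iv7 D201452)))
theorem Q98343 : ∀ i, i < 98343 → P i := stepQ 98342 Q98342 (allL N98342 (tt N61323 (iv1 D201453)) (tt N85232 F420557) (tt N84833 F420560) (tt N85239 (iv3 F420559)) (tt N117752 (iv4 F506787)) (tt N89825 F420561) (tt N101828 F434546) (tt N85233 F420558))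
theorem Q98344 : ∀ i, i < 98344 → P i := stepQ 98343 Q98343 (allL N98343 (tt N70193 (iv1 F420566)) (tt N61326 (iv0 D201454)) (tt N70236 (iv2 F420565)) (tt N101846 (iv3 F434639)) (tt N66813 F420564) (tt N72209 F420563) (tt N117714 (iv6 F506581)) (tt N70237 F420567))
theorem Q98345 : ∀ i, i < 98345 → P i := stepQ 98344 Q98344 (allL N98344 (tt N98275 F420573) (tt N108806 F464040) (tt N61446 F420570) (tt N76552 F420571) (tt N119589 D222848) (tt N61330 (iv5 D201456)) (tt N104055 (iv6 F443950)) (tt N61450 F420572))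
theorem Q98346 : ∀ i, i < 98346 → P i := stepQ 98345 Q98345 (allL N98345 (tt N108806 (iv1 F464041)) (tt N98275 F420577) (tt N61450 F420574) (tt N82895 F420575) (tt N116781 (iv4 F501799)) (tt N61331 (iv5 D201457)) (tt N82894 (iv6 F420578)) (tt N61446 F420576))
theorem Q98347 : ∀ i, i < 98347 → P i := stepQ 98346 Q98346 (allL N98346 (tt N62815 F420584) (tt N61418 F420585) (tt N61451 F420579) (tt N73585 F420580) (tt N62395 F420581) (tt N98315 F420582) (tt N61331 (iv6 D201458)) (tt N73407 F420583))
theorem Q98348 : ∀ i, i < 98348 → P i := stepQ 98347 Q98347 (allL N98347 (tt N61443 F420591) (tt N61332 (iv0 D201459)) (tt N61452 (iv2 F420588)) (tt N76557 F420589) (tt N109880 (iv4 F469058)) (tt N74469 F420586) (tt N90078 F420587) (tt N61453 (iv7 F420590)))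
theorem Q98349 : ∀ i, i < 98349 → P i := stepQ 98348 Q98348 (allL N98348 (tt N61332 (iv1 D201460)) (tt N61443 F420592) (tt N61453 (iv2 F420595)) (tt N73979 (iv3 F420596)) (tt N109881 (iv4 F469064)) (tt N63809 F420594) (tt N113331 (iv6 F485068)) (tt N61452 F420593))
theorem Q98350 : ∀ i, i < 98350 → P i := stepQ 98349 Q98349 (allL N98349 (tt N85607 F420611) (tt N107378 F458150) (tt N61454 F420597) (tt N107639 (iv3 F459045)) (tt N61332 (iv4 D201461)) (tt N119590 D222849) (tt N61334 F420598) (tt N107632 (iv7 F459022)))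
theorem Q98351 : ∀ i, i < 98351 → P i := stepQ 98350 Q98350 (allL N98350 (tt N61453 (iv1 F420603)) (tt N61452 F420604) (tt N61443 F420599) (tt N74967 F420600) (tt N107632 (iv4 F459021)) (tt N61333 F420601) (tt N76809 F420602) (tt N61332 (iv7 D201462)))
theorem Q98352 : ∀ i, i < 98352 → P i := stepQ 98351 Q98351 (allL N98351 (tt N107613 (iv1 F458945)) (tt N107612 F458954) (tt N107615 (iv2 F458951)) (tt N61334 (iv3 D201463)) (tt N100210 (iv4 F428008)) (tt N119591 D222850) (tt N107639 (iv6 F459046)) (tt N76807 F420605))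
theorem Q98353 : ∀ i, i < 98353 → P i := stepQ 98352 Q98352 (allL N98352 (tt N76613 F420609) (tt N76584 F420610) (tt N61465 F420606) (tt N119591 (iv3 F516409)) (tt N62990 F420607) (tt N61334 (iv5 D201464)) (tt N83416 (iv6 F481482)) (tt N63689 F420608))
theorem Q98354 : ∀ i, i < 98354 → P i := stepQ 98353 Q98353 (allL N98353 (tt N80022 F420615) (tt N88437 (iv0 F420616)) (tt N91253 F420612) (tt N61338 (iv3 D201465)) (tt N99446 (iv4 F424616)) (tt N108605 (iv5 F463219)) (tt N84189 F420613) (tt N73962 F420614))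
theorem Q98355 : ∀ i, i < 98355 → P i := stepQ 98354 Q98354 (allL N98354 (tt N68565 F420621) (tt N94167 (iv0 F420622)) (tt N66826 F420617) (tt N68500 F420618) (tt N89716 F420619) (tt N66642 F420620) (tt N61345 (iv6 D201466)) (tt N111940 (iv7 F478780)))
theorem Q98356 : ∀ i, i < 98356 → P i := stepQ 98355 Q98355 (allL N98355 (tt N99748 (iv1 F426042)) (tt N99747 (iv0 F426032)) (tt N63808 F420623) (tt N100656 (iv3 F429871)) (tt N108273 (iv4 F461818)) (tt N61347 (iv5 D201467)) (tt N104023 (iv6 F443827)) (tt N63811 F420624))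
theorem Q98357 : ∀ i, i < 98357 → P i := stepQ 98356 Q98356 (allL N98356 (tt N99747 (iv1 F426033)) (tt N99748 (iv0 F426041)) (tt N63811 F420625) (tt N86420 F420626) (tt N108272 (iv4 F461811)) (tt N61348 (iv5 D201468)) (tt N86419 F420627) (tt N63808 F420628))
theorem Q98358 : ∀ i, i < 98358 → P i := stepQ 98357 Q98357 (allL N98357 (tt N88191 F420632) (tt N110291 (iv0 F470881)) (tt N64641 F420629) (tt N61351 F420630) (tt N64632 F420631) (tt N109226 (iv5 F465857)) (tt N61350 (iv6 D201469)) (tt N109532 (iv7 F467404)))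
theorem Q98359 : ∀ i, i < 98359 → P i := stepQ 98358 Q98358 (allL N98358 (tt N79994 F420635) (tt N79993 (iv0 F420798)) (tt N74483 F420633) (tt N86845 F420634) (tt N99740 (iv4 F425998)) (tt N98401 (iv5 F420797)) (tt N61352 (iv6 D201470)) (tt N110980 (iv7 F474063)))
theorem Q98360 : ∀ i, i < 98360 → P i := stepQ 98359 Q98359 (allL N98359 (tt N88813 (iv1 F430457)) (tt N78961 (iv0 F430456)) (tt N109724 F468300) (tt N61355 (iv3 D201471)) (tt N100783 F430455) (tt N105006 (iv5 F448334)) (tt N115714 (iv6 F496466)) (tt N104979 (iv7 F448241)))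
theorem Q98361 : ∀ i, i < 98361 → P i := stepQ 98360 Q98360 (allL N98360 (tt N92973 (iv1 F420641)) (tt N69564 (iv0 F420640)) (tt N68371 F420636) (tt N115714 (iv3 F496464)) (tt N61356 F420637) (tt N70767 F420639) (tt N61355 (iv6 D201472)) (tt N70766 F420638))
theorem Q98362 : ∀ i, i < 98362 → P i := stepQ 98361 Q98361 (allL N98361 (tt N68374 (iv1 F420645)) (tt N61356 (iv0 D201473)) (tt N68372 (iv2 F420644)) (tt N100519 (iv3 F429289)) (tt N104187 (iv4 F444588)) (tt N82764 F420642) (tt N79994 F420643) (tt N68373 F420646))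
theorem Q98363 : ∀ i, i < 98363 → P i := stepQ 98362 Q98362 (allL N98362 (tt N76453 F448215) (tt N115472 (iv0 F495354)) (tt N115049 (iv2 F493219)) (tt N61357 (iv3 D201474)) (tt N79088 F420647) (tt N104972 (iv5 F448211)) (tt N105018 F448404) (tt N100662 (iv7 F429899)))
theorem Q98364 : ∀ i, i < 98364 → P i := stepQ 98363 Q98363 (allL N98363 (tt N104087 (iv1 F444111)) (tt N104085 (iv0 F444097)) (tt N68147 F420648) (tt N105018 (iv3 F448402)) (tt N61358 F420649) (tt N102141 (iv5 F435918)) (tt N61357 (iv6 D201475)) (tt N115326 (iv7 F494605)))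
theorem Q98365 : ∀ i, i < 98365 → P i := stepQ 98364 Q98364 (allL N98364 (tt N101167 (iv1 F432019)) (tt N101358 (iv0 F432769)) (tt N100302 (iv2 F428336)) (tt N98287 F420650) (tt N68522 F420651) (tt N61359 (iv5 D201476)) (tt N109639 (iv6 F467874)) (tt N79903 F420652))
theorem Q98366 : ∀ i, i < 98366 → P i := stepQ 98365 Q98365 (allL N98365 (tt N61360 (iv1 D201477)) (tt N95871 F420653) (tt N93114 (iv2 F420655)) (tt N76438 (iv3 F420656)) (tt N115371 (iv4 F494856)) (tt N114497 (iv5 F490468)) (tt N119268 (iv6 F514727)) (tt N95878 F420654))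
theorem Q98367 : ∀ i, i < 98367 → P i := stepQ 98366 Q98366 (allL N98366 (tt N98438 (iv1 F420917)) (tt N98437 F420923) (tt N98439 (iv2 F420920)) (tt N61361 F420657) (tt N71274 F420659) (tt N61360 (iv5 D201478)) (tt N98375 (iv6 F420686)) (tt N95879 F420658))
theorem Q98368 : ∀ i, i < 98368 → P i := stepQ 98367 Q98367 (allL N98367 (tt N98256 (iv1 F420662)) (tt N61361 (iv0 D201479)) (tt N98395 F420770) (tt N78393 (iv3 F420663)) (tt N68478 F420661) (tt N78291 F420660) (tt N105828 (iv6 F451910)) (tt N89751 (iv7 F420664)))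
theorem Q98369 : ∀ i, i < 98369 → P i := stepQ 98368 Q98368 (allL N98368 (tt N61361 (iv1 D201480)) (tt N98256 F420665) (tt N89751 (iv2 F420668)) (tt N77672 (iv3 F421662)) (tt N78299 F420667) (tt N68476 F420666) (tt N70784 F420669) (tt N98395 (iv7 F420767)))
theorem Q98370 : ∀ i, i < 98370 → P i := stepQ 98369 Q98369 (allL N98369 (tt N109802 (iv1 F468690)) (tt N99109 (iv0 F423369)) (tt N100198 (iv2 F427950)) (tt N109566 (iv3 F467557)) (tt N83242 F420670) (tt N61367 (iv5 D201481)) (tt N83241 F420671) (tt N111802 (iv7 F478047)))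
theorem Q98371 : ∀ i, i < 98371 → P i := stepQ 98370 Q98370 (allL N98370 (tt N100658 (iv1 F429885)) (tt N100496 (iv0 F429189)) (tt N86471 F420672) (tt N79041 F420673) (tt N76649 F420674) (tt N79040 F420676) (tt N61367 (iv6 D201482)) (tt N86476 F420675))
theorem Q98372 : ∀ i, i < 98372 → P i := stepQ 98371 Q98371 (allL N98371 (tt N99109 F423368) (tt N109802 (iv0 F468689)) (tt N111802 (iv2 F478044)) (tt N100169 (iv3 F427814)) (tt N119116 (iv4 F513869)) (tt N61368 (iv5 D201483)) (tt N119512 (iv6 F515994)) (tt N100198 (iv7 F427952)))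
theorem Q98373 : ∀ i, i < 98373 → P i := stepQ 98372 Q98372 (allL N98372 (tt N111803 (iv1 F478054)) (tt N61369 (iv0 D201484)) (tt N100205 (iv2 F427987)) (tt N61631 (iv3 F420679)) (tt N76673 F420678) (tt N96490 F420677) (tt N112029 (iv6 F479151)) (tt N111157 (iv7 F474984)))
theorem Q98374 : ∀ i, i < 98374 → P i := stepQ 98373 Q98373 (allL N98373 (tt N61369 (iv1 D201485)) (tt N111803 F478053) (tt N111157 (iv2 F474980)) (tt N100171 F427827) (tt N76674 F420680) (tt N100763 (iv5 F430352)) (tt N108806 (iv6 F464039)) (tt N100205 (iv7 F427988)))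
theorem Q98375 : ∀ i, i < 98375 → P i := stepQ 98374 Q98374 (allL N98374 (tt N109070 (iv1 F465211)) (tt N109809 (iv0 F468727)) (tt N109863 (iv2 F468983)) (tt N96684 F420683) (tt N61369 (iv4 D201486)) (tt N96500 F420682) (tt N61373 F420681) (tt N106356 (iv7 F454120)))
theorem Q98376 : ∀ i, i < 98376 → P i := stepQ 98375 Q98375 (allL N98375 (tt N111157 F474986) (tt N100205 (iv0 F427992)) (tt N111803 (iv2 F478049)) (tt N61387 F420684) (tt N106356 (iv4 F454119)) (tt N61370 F420685) (tt N98366 F420686) (tt N61369 (iv7 D201487)))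
theorem Q98377 : ∀ i, i < 98377 → P i := stepQ 98376 Q98376 (allL N98376 (tt N89144 (iv1 F420691)) (tt N89143 F420692) (tt N89146 (iv2 F420690)) (tt N61373 (iv3 D201488)) (tt N61392 F420687) (tt N119592 D222851) (tt N96684 F420688) (tt N88379 F420689))
theorem Q98378 : ∀ i, i < 98378 → P i := stepQ 98377 Q98377 (allL N98377 (tt N100291 (iv1 F428282)) (tt N109811 (iv0 F468740)) (tt N109878 F469056) (tt N119592 (iv3 F516413)) (tt N63687 F420694) (tt N61373 (iv5 D201489)) (tt N119593 D222852) (tt N109877 F469049))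
theorem Q98379 : ∀ i, i < 98379 → P i := stepQ 98378 Q98378 (allL N98378 (tt N73580 F420698) (tt N73599 F420699) (tt N63141 F420695) (tt N109468 (iv3 F467119)) (tt N82099 F420697) (tt N61375 (iv5 D201490)) (tt N108282 (iv6 F461865)) (tt N73565 F420696))
theorem Q98380 : ∀ i, i < 98380 → P i := stepQ 98379 Q98379 (allL N98379 (tt N66712 F420701) (tt N76078 (iv0 F420702)) (tt N63142 F420700) (tt N101313 (iv3 F432612)) (tt N99956 (iv4 F426947)) (tt N100407 (iv5 F428834)) (tt N61375 (iv6 D201491)) (tt N103143 (iv7 F440272)))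
theorem Q98381 : ∀ i, i < 98381 → P i := stepQ 98380 Q98380 (allL N98380 (tt N76197 (iv1 F433935)) (tt N107237 F457591) (tt N63159 F420703) (tt N109810 (iv3 F468730)) (tt N100503 (iv4 F429217)) (tt N74455 F420704) (tt N61377 (iv6 D201492)) (tt N110791 (iv7 F473193)))
theorem Q98382 : ∀ i, i < 98382 → P i := stepQ 98381 Q98381 (allL N98381 (tt N77769 F420710) (tt N112476 (iv0 F481241)) (tt N76041 F420706) (tt N63184 F420707) (tt N74171 F420708) (tt N66828 F420709) (tt N61379 (iv6 D201493)) (tt N110988 (iv7 F474108)))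
theorem Q98383 : ∀ i, i < 98383 → P i := stepQ 98382 Q98382 (allL N98382 (tt N101759 F434220) (tt N108981 F464757) (tt N75560 F420711) (tt N92568 F420712) (tt N101858 (iv4 F434700)) (tt N61382 (iv5 D201494)) (tt N98407 (iv6 F420837)) (tt N101803 (iv7 F434411)))
theorem Q98384 : ∀ i, i < 98384 → P i := stepQ 98383 Q98383 (allL N98383 (tt N107433 F458327) (tt N119022 (iv0 F513333)) (tt N107304 (iv2 F457887)) (tt N108085 (iv3 F461052)) (tt N61383 (iv4 D201495)) (tt N107302 F457881) (tt N106394 F454274) (tt N109046 (iv7 F465090)))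
theorem Q98385 : ∀ i, i < 98385 → P i := stepQ 98384 Q98384 (allL N98384 (tt N63468 F420714) (tt N78325 F420717) (tt N107314 (iv2 F457925)) (tt N70742 F420713) (tt N61385 (iv4 D201496)) (tt N95962 (iv5 F420715)) (tt N77649 (iv6 F420716)) (tt N106327 (iv7 F454042)))
theorem Q98386 : ∀ i, i < 98386 → P i := stepQ 98385 Q98385 (allL N98385 (tt N76552 (iv1 F420724)) (tt N76555 (iv0 F420723)) (tt N109407 (iv2 F466809)) (tt N74932 F420720) (tt N77649 F420721) (tt N77645 (iv5 F420722)) (tt N61385 (iv6 D201497)) (tt N109406 F466802))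
theorem Q98387 : ∀ i, i < 98387 → P i := stepQ 98386 Q98386 (allL N98386 (tt N69716 (iv1 F420727)) (tt N61386 (iv0 D201498)) (tt N62251 (iv2 F420726)) (tt N72421 (iv3 F420729)) (tt N100297 (iv4 F428306)) (tt N62250 F420725) (tt N106233 (iv6 F453695)) (tt N69715 F420728))
theorem Q98388 : ∀ i, i < 98388 → P i := stepQ 98387 Q98387 (allL N98387 (tt N107263 F457696) (tt N90165 (iv0 F420733)) (tt N89147 (iv2 F420734)) (tt N61386 (iv3 D201499)) (tt N96684 F420730) (tt N72498 F420731) (tt N61392 F420732) (tt N106358 (iv7 F454131)))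
theorem Q98389 : ∀ i, i < 98389 → P i := stepQ 98388 Q98388 (allL N98388 (tt N76228 (iv1 F420742)) (tt N61388 (iv0 D201500)) (tt N76226 F420747) (tt N68331 F420746) (tt N119594 D222853) (tt N68330 (iv5 F420745)) (tt N119595 D222854) (tt N76227 F420744))
theorem Q98390 : ∀ i, i < 98390 → P i := stepQ 98389 Q98389 (allL N98389 (tt N61388 (iv1 D201501)) (tt N76228 F420735) (tt N76227 F420737) (tt N119583 (iv3 F516386)) (tt N105058 (iv4 F448600)) (tt N70779 (iv5 F420736)) (tt N105057 (iv6 F448599)) (tt N76226 (iv7 F420749)))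
theorem Q98391 : ∀ i, i < 98391 → P i := stepQ 98390 Q98390 (allL N98390 (tt N76227 (iv1 F420743)) (tt N76226 F420750) (tt N76228 F420738) (tt N74898 F420739) (tt N109121 (iv4 F465425)) (tt N70710 F420740) (tt N76560 F420741) (tt N61388 (iv7 D201502)))
theorem Q98392 : ∀ i, i < 98392 → P i := stepQ 98391 Q98391 (allL N98391 (tt N108836 (iv1 F464188)) (tt N61389 (iv0 D201503)) (tt N85857 (iv2 F420751)) (tt N114274 (iv3 F489335)) (tt N114941 (iv4 F492661)) (tt N115058 (iv5 F493278)) (tt N105915 (iv6 F452330)) (tt N108835 (iv7 F464179)))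
theorem Q98393 : ∀ i, i < 98393 → P i := stepQ 98392 Q98392 (allL N98392 (tt N87516 F420755) (tt N87517 F420756) (tt N91680 F420752) (tt N86293 F420753) (tt N77711 F420754) (tt N61390 (iv5 D201504)) (tt N82943 F420758) (tt N100334 (iv7 F428459)))
theorem Q98394 : ∀ i, i < 98394 → P i := stepQ 98393 Q98393 (allL N98393 (tt N100016 F427210) (tt N116314 F499515) (tt N100331 (iv2 F428446)) (tt N89100 F420759) (tt N98694 (iv4 F421878)) (tt N105487 (iv5 F450442)) (tt N61390 (iv6 D201505)) (tt N116313 (iv7 F499506)))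
theorem Q98395 : ∀ i, i < 98395 → P i := stepQ 98394 Q98394 (allL N98394 (tt N87517 F420763) (tt N87516 F420764) (tt N100334 (iv2 F428456)) (tt N72619 F420760) (tt N77712 F420761) (tt N61391 (iv5 D201506)) (tt N96848 F420765) (tt N91680 F420762))
theorem Q98396 : ∀ i, i < 98396 → P i := stepQ 98395 Q98395 (allL N98395 (tt N61395 (iv1 D201507)) (tt N74488 F420766) (tt N98367 (iv2 F420770)) (tt N109054 (iv3 F465125)) (tt N63455 F420769) (tt N63417 F420768) (tt N105918 (iv6 F452345)) (tt N98368 F420767))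
theorem Q98397 : ∀ i, i < 98397 → P i := stepQ 98396 Q98396 (allL N98396 (tt N94105 F420776) (tt N61764 F420777) (tt N61417 F420771) (tt N74933 F420772) (tt N94579 F420773) (tt N61398 (iv5 D201508)) (tt N77645 F420774) (tt N61419 F420775))
theorem Q98398 : ∀ i, i < 98398 → P i := stepQ 98397 Q98397 (allL N98397 (tt N98750 (iv1 F422148)) (tt N98752 (iv0 F422156)) (tt N76544 F420778) (tt N61404 F420779) (tt N103552 (iv4 F442014)) (tt N61403 (iv5 D201509)) (tt N70613 F420781) (tt N61442 F420780))
theorem Q98399 : ∀ i, i < 98399 → P i := stepQ 98398 Q98398 (allL N98398 (tt N80869 (iv1 F420801)) (tt N80874 (iv0 F420785)) (tt N76545 F420782) (tt N61405 F420783) (tt N100806 (iv4 F430560)) (tt N69487 F420784) (tt N61403 (iv6 D201510)) (tt N99746 (iv7 F426027)))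
theorem Q98400 : ∀ i, i < 98400 → P i := stepQ 98399 Q98399 (allL N98399 (tt N91530 (iv1 F420788)) (tt N109625 (iv0 F467805)) (tt N100583 (iv2 F429555)) (tt N61408 F420786) (tt N84038 F420787) (tt N99344 (iv5 F425941)) (tt N61407 (iv6 D201511)) (tt N107601 (iv7 F458893)))
theorem Q98401 : ∀ i, i < 98401 → P i := stepQ 98400 Q98400 (allL N98400 (tt N76556 F420791) (tt N69511 (iv0 F420792)) (tt N100763 (iv2 F430350)) (tt N61496 F420789) (tt N79913 F420790) (tt N111157 (iv5 F474982)) (tt N61414 (iv6 D201512)) (tt N96490 (iv7 F420793)))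
theorem Q98402 : ∀ i, i < 98402 → P i := stepQ 98401 Q98401 (allL N98401 (tt N99746 F426028) (tt N76545 (iv0 F420800)) (tt N80869 F420794) (tt N61553 F420795) (tt N79914 F420796) (tt N98358 F420797) (tt N61415 (iv6 D201513)) (tt N80874 (iv7 F420799)))
theorem Q98403 : ∀ i, i < 98403 → P i := stepQ 98402 Q98402 (allL N98402 (tt N77635 F420805) (tt N63746 F420806) (tt N77645 F420802) (tt N61487 F420803) (tt N109411 (iv4 F466830)) (tt N109407 (iv5 F466805)) (tt N61417 (iv6 D201514)) (tt N77644 F420804))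
theorem Q98404 : ∀ i, i < 98404 → P i := stepQ 98403 Q98403 (allL N98403 (tt N63811 F420809) (tt N63808 (iv0 F420811)) (tt N99748 (iv2 F426037)) (tt N63390 F420807) (tt N99565 (iv4 F425191)) (tt N61420 (iv5 D201515)) (tt N76381 F420808) (tt N99747 (iv7 F426031)))
theorem Q98405 : ∀ i, i < 98405 → P i := stepQ 98404 Q98404 (allL N98404 (tt N81312 (iv1 F420820)) (tt N61423 (iv0 D201516)) (tt N81309 (iv2 F420817)) (tt N78324 F420816) (tt N84719 F420815) (tt N76480 F420814) (tt N74765 F420818) (tt N81310 F420819))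
theorem Q98406 : ∀ i, i < 98406 → P i := stepQ 98405 Q98405 (allL N98405 (tt N81310 (iv1 F420826)) (tt N81309 F420827) (tt N81312 F420821) (tt N74878 F420822) (tt N74883 F420823) (tt N61424 F420824) (tt N74877 F420825) (tt N61423 (iv7 D201517)))
theorem Q98407 : ∀ i, i < 98407 → P i := stepQ 98406 Q98406 (allL N98406 (tt N74867 F420833) (tt N74866 F420834) (tt N74868 F420828) (tt N61428 (iv3 D201518)) (tt N62792 F420829) (tt N86003 F420830) (tt N63056 F420831) (tt N62789 F420832))
theorem Q98408 : ∀ i, i < 98408 → P i := stepQ 98407 Q98407 (allL N98407 (tt N74681 F420839) (tt N74688 F420840) (tt N74686 F420835) (tt N74321 F420836) (tt N107580 (iv4 F458835)) (tt N61430 (iv5 D201519)) (tt N98382 F420837) (tt N61432 F420838))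
theorem Q98409 : ∀ i, i < 98409 → P i := stepQ 98408 Q98408 (allL N98408 (tt N74686 (iv1 F420843)) (tt N61432 (iv0 D201520)) (tt N74688 (iv2 F420842)) (tt N75179 (iv3 F420845)) (tt N119596 D222855) (tt N74852 F420841) (tt N82545 F420846) (tt N74681 F420844))
theorem Q98410 : ∀ i, i < 98410 → P i := stepQ 98409 Q98409 (allL N98409 (tt N101758 (iv1 F434215)) (tt N61434 (iv0 D201521)) (tt N108322 (iv2 F462056)) (tt N61582 (iv3 F420848)) (tt N98571 (iv4 F421364)) (tt N73155 F420847) (tt N104946 (iv6 F448070)) (tt N86022 (iv7 F420849)))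
theorem Q98411 : ∀ i, i < 98411 → P i := stepQ 98410 Q98410 (allL N98410 (tt N113145 (iv1 F484182)) (tt N113146 (iv0 F484186)) (tt N110280 (iv2 F470810)) (tt N97520 F420850) (tt N61434 (iv4 D201522)) (tt N101214 (iv5 F432231)) (tt N97519 F420851) (tt N108323 (iv7 F462059)))
theorem Q98412 : ∀ i, i < 98412 → P i := stepQ 98411 Q98411 (allL N98411 (tt N63808 F420854) (tt N63811 F420855) (tt N99747 (iv2 F426029)) (tt N61577 F420852) (tt N108259 (iv4 F461741)) (tt N61438 (iv5 D201523)) (tt N92965 F420853) (tt N99748 (iv7 F426040)))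
theorem Q98413 : ∀ i, i < 98413 → P i := stepQ 98412 Q98412 (allL N98412 (tt N111763 (iv1 F477850)) (tt N87510 F420860) (tt N87601 F420856) (tt N97356 F420857) (tt N61439 (iv4 D201524)) (tt N87097 F420859) (tt N104843 (iv6 F447564)) (tt N95887 F420858))
theorem Q98414 : ∀ i, i < 98414 → P i := stepQ 98413 Q98413 (allL N98413 (tt N98752 (iv1 F422157)) (tt N98750 (iv0 F422147)) (tt N61442 F420861) (tt N101758 (iv3 F434212)) (tt N116243 (iv4 F499198)) (tt N61441 (iv5 D201525)) (tt N108634 (iv6 F463297)) (tt N76544 F420862))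
theorem Q98415 : ∀ i, i < 98415 → P i := stepQ 98414 Q98414 (allL N98414 (tt N76544 (iv1 F420864)) (tt N61442 (iv0 D201526)) (tt N98752 (iv2 F422153)) (tt N109438 (iv3 F466960)) (tt N114418 (iv4 F490056)) (tt N61762 F420863) (tt N104817 (iv6 F447430)) (tt N98750 (iv7 F422146)))
theorem Q98416 : ∀ i, i < 98416 → P i := stepQ 98415 Q98415 (allL N98415 (tt N61442 (iv1 D201527)) (tt N76544 F420865) (tt N98750 (iv2 F422145)) (tt N61549 (iv3 F420867)) (tt N118020 (iv4 F508126)) (tt N61761 F420866) (tt N119597 D222856) (tt N98752 (iv7 F422155)))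
theorem Q98417 : ∀ i, i < 98417 → P i := stepQ 98416 Q98416 (allL N98416 (tt N109189 F465712) (tt N117958 (iv0 F507789)) (tt N116243 (iv2 F499197)) (tt N68921 F420868) (tt N61442 (iv4 D201528)) (tt N117677 (iv5 F506367)) (tt N68919 F420869) (tt N103552 F442015))
theorem Q98418 : ∀ i, i < 98418 → P i := stepQ 98417 Q98417 (allL N98417 (tt N107378 F458149) (tt N85607 F420872) (tt N107632 (iv2 F459019)) (tt N71141 F421486) (tt N61443 (iv4 D201529)) (tt N119598 D222857) (tt N95944 F420870) (tt N61454 F420871))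
theorem Q98419 : ∀ i, i < 98419 → P i := stepQ 98418 Q98418 (allL N98418 (tt N108444 (iv1 F462601)) (tt N107908 F460223) (tt N103106 (iv2 F440101)) (tt N61446 F420873) (tt N82898 F420875) (tt N61444 (iv5 D201530)) (tt N105928 (iv6 F452387)) (tt N82895 F420874))
theorem Q98420 : ∀ i, i < 98420 → P i := stepQ 98419 Q98419 (allL N98419 (tt N61446 (iv1 D201531)) (tt N61450 F420876) (tt N108806 (iv2 F464037)) (tt N61602 (iv3 F420879)) (tt N119599 D222858) (tt N98276 F420878) (tt N111157 (iv6 F474983)) (tt N98275 F420877))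
theorem Q98421 : ∀ i, i < 98421 → P i := stepQ 98420 Q98420 (allL N98420 (tt N108798 (iv1 F463998)) (tt N105919 F452351) (tt N119589 (iv2 F516405)) (tt N115098 F493478) (tt N61446 (iv4 D201532)) (tt N119600 D222859) (tt N119601 D222860) (tt N116781 F501800))
theorem Q98422 : ∀ i, i < 98422 → P i := stepQ 98421 Q98421 (allL N98421 (tt N105854 (iv1 F452048)) (tt N70686 (iv0 F420880)) (tt N104055 (iv2 F443948)) (tt N105928 (iv3 F452385)) (tt N119601 (iv4 F516462)) (tt N104052 (iv5 F443941)) (tt N61446 (iv6 D201533)) (tt N105852 (iv7 F452033)))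
theorem Q98423 : ∀ i, i < 98423 → P i := stepQ 98422 Q98422 (allL N98422 (tt N109407 (iv1 F466804)) (tt N109406 F466801) (tt N76555 F420881) (tt N61450 F420882) (tt N100011 (iv4 F427182)) (tt N61448 (iv5 D201534)) (tt N119584 (iv6 F516389)) (tt N76552 F420883))
theorem Q98424 : ∀ i, i < 98424 → P i := stepQ 98423 Q98423 (allL N98423 (tt N96490 (iv1 F420888)) (tt N100763 F430354) (tt N76556 F420884) (tt N61451 F420885) (tt N82453 F420886) (tt N119602 D222861) (tt N61448 (iv6 D201535)) (tt N69511 F420887))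
theorem Q98425 : ∀ i, i < 98425 → P i := stepQ 98424 Q98424 (allL N98424 (tt N105919 F452350) (tt N108798 (iv0 F463997)) (tt N116781 (iv2 F501797)) (tt N107049 (iv3 F456772)) (tt N61450 (iv4 D201536)) (tt N119603 D222862) (tt N107047 F456768) (tt N119589 (iv7 F516406)))
theorem Q98426 : ∀ i, i < 98426 → P i := stepQ 98425 Q98425 (allL N98425 (tt N115738 F496597) (tt N100215 (iv0 F428028)) (tt N82894 F420889) (tt N119584 (iv3 F516388)) (tt N107047 (iv4 F456765)) (tt N113112 (iv5 F484022)) (tt N61450 (iv6 D201537)) (tt N115739 (iv7 F496601)))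
theorem Q98427 : ∀ i, i < 98427 → P i := stepQ 98426 Q98426 (allL N98426 (tt N78381 F420894) (tt N74882 F420893) (tt N98315 F420890) (tt N119602 (iv3 F516465)) (tt N69710 F420892) (tt N61451 (iv5 D201538)) (tt N113112 (iv6 F484023)) (tt N98316 F420891))
theorem Q98428 : ∀ i, i < 98428 → P i := stepQ 98427 Q98427 (allL N98427 (tt N100290 (iv1 F428277)) (tt N109883 F469069) (tt N109881 F469065) (tt N106368 (iv3 F454175)) (tt N61453 (iv4 D201539)) (tt N119604 D222863) (tt N106367 F454173) (tt N109880 F469062))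
theorem Q98429 : ∀ i, i < 98429 → P i := stepQ 98428 Q98428 (allL N98428 (tt N101921 F443846) (tt N119002 (iv0 F513222)) (tt N113331 (iv2 F485066)) (tt N104024 (iv3 F443840)) (tt N106367 (iv4 F454169)) (tt N104023 F443838) (tt N61453 (iv6 D201540)) (tt N106372 (iv7 F454194)))
theorem Q98430 : ∀ i, i < 98430 → P i := stepQ 98429 Q98429 (allL N98429 (tt N61454 (iv1 D201541)) (tt N107632 (iv0 F459023)) (tt N107378 (iv2 F458145)) (tt N85608 (iv3 F420897)) (tt N76685 F420896) (tt N119605 D222864) (tt N101920 (iv6 F434950)) (tt N85607 F420895))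
theorem Q98431 : ∀ i, i < 98431 → P i := stepQ 98430 Q98430 (allL N98430 (tt N71143 (iv1 F420901)) (tt N68912 (iv0 F420900)) (tt N71140 F421489) (tt N61454 (iv3 D201542)) (tt N61617 F420898) (tt N119606 D222865) (tt N61464 F420899) (tt N71141 F421487))
theorem Q98432 : ∀ i, i < 98432 → P i := stepQ 98431 Q98431 (allL N98431 (tt N119607 D222866) (tt N116978 (iv0 F502794)) (tt N119590 (iv2 F516407)) (tt N119606 (iv3 F516478)) (tt N107592 (iv4 F458867)) (tt N61454 (iv5 D201543)) (tt N113359 F485168) (tt N119598 (iv7 F516452)))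
theorem Q98433 : ∀ i, i < 98433 → P i := stepQ 98432 Q98432 (allL N98432 (tt N79045 F420904) (tt N66803 F420905) (tt N82874 F420902) (tt N119608 D222867) (tt N61455 (iv4 D201544)) (tt N118006 (iv5 F508047)) (tt N76933 F420906) (tt N85710 F420903))
theorem Q98434 : ∀ i, i < 98434 → P i := stepQ 98433 Q98433 (allL N98433 (tt N113329 (iv1 F485059)) (tt N63945 (iv0 F420912)) (tt N82873 F420907) (tt N61457 F420908) (tt N76933 F420909) (tt N87128 F420910) (tt N61455 (iv6 D201545)) (tt N82871 (iv7 F420911)))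
theorem Q98435 : ∀ i, i < 98435 → P i := stepQ 98434 Q98434 (allL N98434 (tt N83129 F420914) (tt N114327 (iv0 F489630)) (tt N89145 F420913) (tt N61456 (iv3 D201546)) (tt N119608 (iv4 F516487)) (tt N119609 D222868) (tt N106362 F454150) (tt N109888 (iv7 F469084)))
theorem Q98436 : ∀ i, i < 98436 → P i := stepQ 98435 Q98435 (allL N98435 (tt N109811 (iv1 F468741)) (tt N100291 (iv0 F428281)) (tt N109877 F469048) (tt N119609 (iv3 F516493)) (tt N63688 F420915) (tt N61456 (iv5 D201547)) (tt N119610 D222869) (tt N109878 (iv7 F469053)))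
theorem Q98437 : ∀ i, i < 98437 → P i := stepQ 98436 Q98436 (allL N98436 (tt N106355 (iv1 F454116)) (tt N106325 F454034) (tt N101952 (iv2 F435072)) (tt N106362 (iv3 F454149)) (tt N61457 F420916) (tt N101945 (iv5 F435053)) (tt N61456 (iv6 D201548)) (tt N101944 F435047))
theorem Q98438 : ∀ i, i < 98438 → P i := stepQ 98437 Q98437 (allL N98437 (tt N98366 (iv1 F420923)) (tt N61457 (iv0 D201549)) (tt N106174 (iv2 F453450)) (tt N100227 (iv3 F453456)) (tt N106172 F453442) (tt N115695 (iv5 F496359)) (tt N105854 F452049) (tt N119003 (iv7 F513225)))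
theorem Q98439 : ∀ i, i < 98439 → P i := stepQ 98438 Q98438 (allL N98438 (tt N61457 (iv1 D201550)) (tt N98366 F420917) (tt N119003 (iv2 F513229)) (tt N61625 F420918) (tt N71179 F420919) (tt N115696 (iv5 F496366)) (tt N104066 (iv6 F444013)) (tt N106174 (iv7 F453452)))
theorem Q98440 : ∀ i, i < 98440 → P i := stepQ 98439 Q98439 (allL N98439 (tt N119003 (iv1 F513224)) (tt N106174 (iv0 F453453)) (tt N98366 F420920) (tt N82871 F420921) (tt N101944 (iv4 F435046)) (tt N73679 F420922) (tt N111803 (iv6 F478052)) (tt N61457 (iv7 D201551)))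
theorem Q98441 : ∀ i, i < 98441 → P i := stepQ 98440 Q98440 (allL N98440 (tt N92771 F420926) (tt N66792 F420927) (tt N92826 F420924) (tt N113976 (iv3 F488039)) (tt N61458 (iv4 D201552)) (tt N113072 (iv5 F483846)) (tt N82925 (iv6 F420928)) (tt N92827 F420925))
theorem Q98442 : ∀ i, i < 98442 → P i := stepQ 98441 Q98441 (allL N98441 (tt N105537 (iv1 F450636)) (tt N85540 (iv0 F420931)) (tt N105542 (iv2 F450660)) (tt N61460 F420929) (tt N82925 F420930) (tt N104022 (iv5 F443824)) (tt N61458 (iv6 D201553)) (tt N105541 F450654))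
theorem Q98443 : ∀ i, i < 98443 → P i := stepQ 98442 Q98442 (allL N98442 (tt N117402 (iv1 F504848)) (tt N117401 (iv0 F504847)) (tt N117403 (iv2 F504852)) (tt N61459 (iv3 D201554)) (tt N113976 F488041) (tt N114260 (iv5 F489279)) (tt N103905 F443299) (tt N109870 (iv7 F469008)))
theorem Q98444 : ∀ i, i < 98444 → P i := stepQ 98443 Q98443 (allL N98443 (tt N76697 F420933) (tt N76704 F420934) (tt N109869 (iv2 F469002)) (tt N114260 (iv3 F489277)) (tt N63683 F420932) (tt N61459 (iv5 D201555)) (tt N88609 (iv6 F420937)) (tt N109871 (iv7 F469013)))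
theorem Q98445 : ∀ i, i < 98445 → P i := stepQ 98444 Q98444 (allL N98444 (tt N116762 (iv1 F501696)) (tt N61460 (iv0 D201556)) (tt N101046 (iv2 F431434)) (tt N94004 F431342) (tt N83236 F431338) (tt N94128 (iv5 F431341)) (tt N119002 (iv6 F513220)) (tt N101044 (iv7 F431429)))
theorem Q98446 : ∀ i, i < 98446 → P i := stepQ 98445 Q98445 (allL N98445 (tt N61460 (iv1 D201557)) (tt N116762 (iv0 F501695)) (tt N101044 (iv2 F431427)) (tt N61638 F421784) (tt N83233 F420938) (tt N79902 (iv5 F420939)) (tt N119611 D222870) (tt N101046 (iv7 F431436)))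
theorem Q98447 : ∀ i, i < 98447 → P i := stepQ 98446 Q98446 (allL N98446 (tt N101044 (iv1 F431432)) (tt N101046 F431437) (tt N116762 (iv2 F501691)) (tt N105541 F450655) (tt N112125 (iv4 F479615)) (tt N104025 (iv5 F443848)) (tt N105842 (iv6 F451985)) (tt N61460 (iv7 D201558)))
theorem Q98448 : ∀ i, i < 98448 → P i := stepQ 98447 Q98447 (allL N98447 (tt N107407 (iv1 F458243)) (tt N107396 F458204) (tt N89839 F420942) (tt N61461 (iv3 D201559)) (tt N84852 F420940) (tt N117399 (iv5 F504836)) (tt N111275 (iv6 F475584)) (tt N89837 F420941))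
theorem Q98449 : ∀ i, i < 98449 → P i := stepQ 98448 Q98448 (allL N98448 (tt N76704 F420944) (tt N76697 F420945) (tt N109871 (iv2 F469010)) (tt N117399 (iv3 F504834)) (tt N63680 F420943) (tt N61461 (iv5 D201560)) (tt N114258 (iv6 F489266)) (tt N109869 (iv7 F469003)))
theorem Q98450 : ∀ i, i < 98450 → P i := stepQ 98449 Q98449 (allL N98449 (tt N105842 (iv1 F451987)) (tt N61462 (iv0 D201561)) (tt N119512 F515995) (tt N61642 F431379) (tt N101033 F431378) (tt N104053 (iv5 F443942)) (tt N111802 (iv6 F478046)) (tt N111172 (iv7 F475074)))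
theorem Q98451 : ∀ i, i < 98451 → P i := stepQ 98450 Q98450 (allL N98450 (tt N61462 (iv1 D201562)) (tt N105842 (iv0 F451988)) (tt N111172 (iv2 F475072)) (tt N85133 (iv3 F431374)) (tt N83248 (iv4 F431372)) (tt N104054 (iv5 F443947)) (tt N83247 F431373) (tt N119512 (iv7 F515997)))
theorem Q98452 : ∀ i, i < 98452 → P i := stepQ 98451 Q98451 (allL N98451 (tt N111172 (iv1 F475077)) (tt N119512 F515996) (tt N105842 (iv2 F451983)) (tt N70454 F420946) (tt N111269 (iv4 F475547)) (tt N70453 F420947) (tt N116762 (iv6 F501693)) (tt N61462 (iv7 D201563)))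
theorem Q98453 : ∀ i, i < 98453 → P i := stepQ 98452 Q98452 (allL N98452 (tt N107607 F458928) (tt N61464 (iv0 D201564)) (tt N109534 (iv2 F467408)) (tt N90617 (iv3 F422884)) (tt N119612 D222871) (tt N90616 F422883) (tt N82331 (iv6 F422885)) (tt N116791 (iv7 F501856)))
theorem Q98454 : ∀ i, i < 98454 → P i := stepQ 98453 Q98453 (allL N98453 (tt N61464 (iv1 D201565)) (tt N107607 F458929) (tt N116791 (iv2 F501853)) (tt N90834 (iv3 F458931)) (tt N119613 D222872) (tt N90832 F458930) (tt N108784 (iv6 F463914)) (tt N109534 (iv7 F467410)))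
theorem Q98455 : ∀ i, i < 98455 → P i := stepQ 98454 Q98454 (allL N98454 (tt N109534 (iv1 F467411)) (tt N116791 F501858) (tt N61464 (iv2 D201566)) (tt N107615 (iv3 F458952)) (tt N61651 F420948) (tt N119614 D222873) (tt N71140 (iv6 F421490)) (tt N107607 (iv7 F458926)))
theorem Q98456 : ∀ i, i < 98456 → P i := stepQ 98455 Q98455 (allL N98455 (tt N71213 F420950) (tt N116897 (iv0 F502409)) (tt N119614 (iv2 F516521)) (tt N61465 F420949) (tt N119615 D222874) (tt N61464 (iv5 D201567)) (tt N119616 D222875) (tt N119513 (iv7 F516002)))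
theorem Q98457 : ∀ i, i < 98457 → P i := stepQ 98456 Q98456 (allL N98456 (tt N83417 (iv1 F420953)) (tt N83048 (iv0 F420952)) (tt N83416 (iv2 F481481)) (tt N119616 (iv3 F516530)) (tt N76815 F420951) (tt N113359 (iv5 F485165)) (tt N61465 (iv6 D201568)) (tt N83415 (iv7 F484416)))
theorem Q98458 : ∀ i, i < 98458 → P i := stepQ 98457 Q98457 (allL N98457 (tt N77439 F420957) (tt N110225 (iv0 F470519)) (tt N85802 F420954) (tt N61467 F420955) (tt N85826 F420956) (tt N98949 (iv5 F422846)) (tt N61466 (iv6 D201569)) (tt N102703 (iv7 F438270)))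
theorem Q98459 : ∀ i, i < 98459 → P i := stepQ 98458 Q98458 (allL N98458 (tt N61467 (iv1 D201570)) (tt N61474 F420958) (tt N61472 F420964) (tt N67100 (iv3 F420962)) (tt N85790 F420960) (tt N67117 F420961) (tt N67099 (iv6 F420963)) (tt N61471 F420959))
theorem Q98460 : ∀ i, i < 98460 → P i := stepQ 98459 Q98459 (allL N98459 (tt N81468 F420967) (tt N81471 (iv0 F420969)) (tt N61473 F420965) (tt N98949 F422845) (tt N90563 F420968) (tt N61467 (iv5 D201571)) (tt N81484 F420966) (tt N102700 (iv7 F438256)))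
theorem Q98461 : ∀ i, i < 98461 → P i := stepQ 98460 Q98460 (allL N98460 (tt N100768 F430378) (tt N111256 (iv0 F475474)) (tt N61477 F420970) (tt N80389 F420971) (tt N117365 (iv4 F504684)) (tt N61468 (iv5 D201572)) (tt N108449 (iv6 F462628)) (tt N61480 F420972))
theorem Q98462 : ∀ i, i < 98462 → P i := stepQ 98461 Q98461 (allL N98461 (tt N111256 F475475) (tt N100768 (iv0 F430377)) (tt N61480 F420973) (tt N81464 F420974) (tt N119546 (iv4 F516173)) (tt N61469 (iv5 D201573)) (tt N92203 F420975) (tt N61477 F420976))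
theorem Q98463 : ∀ i, i < 98463 → P i := stepQ 98462 Q98462 (allL N98462 (tt N102700 F438258) (tt N61473 (iv0 D201574)) (tt N81468 (iv2 F420979)) (tt N74822 (iv3 F420980)) (tt N118929 (iv4 F512794)) (tt N80902 F420977) (tt N81827 F420978) (tt N81471 (iv7 F420981)))
theorem Q98464 : ∀ i, i < 98464 → P i := stepQ 98463 Q98463 (allL N98463 (tt N61473 (iv1 D201575)) (tt N102700 (iv0 F438257)) (tt N81471 F420985) (tt N111975 (iv3 F478936)) (tt N119617 D222876) (tt N80903 (iv5 F420983)) (tt N81795 (iv6 F420984)) (tt N81468 F420982))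
theorem Q98465 : ∀ i, i < 98465 → P i := stepQ 98464 Q98464 (allL N98464 (tt N81412 F420990) (tt N75699 (iv0 F420991)) (tt N80484 F420986) (tt N61477 F420987) (tt N81497 F420989) (tt N61475 (iv5 D201576)) (tt N86110 (iv6 F420992)) (tt N81464 F420988))
theorem Q98466 : ∀ i, i < 98466 → P i := stepQ 98465 Q98465 (allL N98465 (tt N74923 F420997) (tt N106838 (iv0 F455919)) (tt N73591 F420994) (tt N61478 F420995) (tt N99841 (iv4 F426477)) (tt N86053 F420996) (tt N61475 (iv6 D201577)) (tt N106846 (iv7 F455962)))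
theorem Q98467 : ∀ i, i < 98467 → P i := stepQ 98466 Q98466 (allL N98466 (tt N80128 F421002) (tt N75483 (iv0 F421003)) (tt N71153 F420998) (tt N91436 F420999) (tt N71170 F421001) (tt N61476 (iv5 D201578)) (tt N71152 (iv6 F421004)) (tt N80137 F421000))
theorem Q98468 : ∀ i, i < 98468 → P i := stepQ 98467 Q98467 (allL N98467 (tt N61477 (iv1 D201579)) (tt N61480 F421005) (tt N111256 (iv2 F475469)) (tt N61485 (iv3 F421006)) (tt N101202 (iv4 F432177)) (tt N109423 (iv5 F466887)) (tt N76037 (iv6 F421007)) (tt N100768 (iv7 F430376)))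
theorem Q98469 : ∀ i, i < 98469 → P i := stepQ 98468 Q98468 (allL N98468 (tt N119618 D222877) (tt N110262 (iv0 F470703)) (tt N117365 (iv2 F504682)) (tt N84472 (iv3 F421009)) (tt N61477 (iv4 D201580)) (tt N91424 (iv5 F421010)) (tt N84470 F421008) (tt N119546 (iv7 F516174)))
theorem Q98470 : ∀ i, i < 98470 → P i := stepQ 98469 Q98469 (allL N98469 (tt N75483 F421016) (tt N80128 F421017) (tt N80137 F421012) (tt N71156 F421013) (tt N71178 F421018) (tt N61479 (iv5 D201581)) (tt N77732 F421014) (tt N71153 F421015))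
theorem Q98471 : ∀ i, i < 98471 → P i := stepQ 98470 Q98470 (allL N98470 (tt N110262 F470704) (tt N119618 F516546) (tt N119546 (iv2 F516171)) (tt N72806 F421019) (tt N61480 (iv4 D201582)) (tt N114769 (iv5 F491762)) (tt N72804 F421020) (tt N117365 (iv7 F504686)))
theorem Q98472 : ∀ i, i < 98472 → P i := stepQ 98471 Q98471 (allL N98471 (tt N75699 F421026) (tt N81412 F421024) (tt N81464 F421021) (tt N80387 F421022) (tt N81498 F421025) (tt N61482 (iv5 D201583)) (tt N76305 F421027) (tt N80484 F421023))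
theorem Q98473 : ∀ i, i < 98473 → P i := stepQ 98472 Q98472 (allL N98472 (tt N91181 F421032) (tt N117742 (iv0 F506742)) (tt N86599 F421028) (tt N80388 F421029) (tt N107123 (iv4 F457080)) (tt N86443 F421031) (tt N61482 (iv6 D201584)) (tt N86597 F421030))
theorem Q98474 : ∀ i, i < 98474 → P i := stepQ 98473 Q98473 (allL N98473 (tt N75567 F421035) (tt N98270 (iv0 F421036)) (tt N98269 (iv2 F421040)) (tt N61484 (iv3 D201585)) (tt N104259 (iv4 F444993)) (tt N78944 F421033) (tt N74866 (iv6 F421037)) (tt N98268 F421034))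
theorem Q98475 : ∀ i, i < 98475 → P i := stepQ 98474 Q98474 (allL N98474 (tt N111319 F475802) (tt N98749 (iv0 F422143)) (tt N100769 (iv2 F430380)) (tt N74866 F421041) (tt N111767 (iv4 F477867)) (tt N78946 F421042) (tt N61484 (iv6 D201586)) (tt N76036 F421043))
theorem Q98476 : ∀ i, i < 98476 → P i := stepQ 98475 Q98475 (allL N98475 (tt N104734 F453124) (tt N87890 (iv0 F421046)) (tt N113919 (iv2 F487787)) (tt N61486 (iv3 D201587)) (tt N119373 (iv4 F515275)) (tt N88099 F421044) (tt N106103 F453123) (tt N88176 F421045))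
theorem Q98477 : ∀ i, i < 98477 → P i := stepQ 98476 Q98476 (allL N98476 (tt N98259 (iv1 F421052)) (tt N79984 F421053) (tt N76388 F421047) (tt N77644 F421048) (tt N66532 F421049) (tt N96102 F421050) (tt N76030 F421051) (tt N61487 (iv7 D201588)))
theorem Q98478 : ∀ i, i < 98478 → P i := stepQ 98477 Q98477 (allL N98477 (tt N61490 (iv1 D201589)) (tt N74933 F421054) (tt N76386 F421059) (tt N81412 (iv3 F421057)) (tt N116151 (iv4 F498764)) (tt N78941 F421056) (tt N81408 (iv6 F421058)) (tt N76372 F421055))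
theorem Q98479 : ∀ i, i < 98479 → P i := stepQ 98478 Q98478 (allL N98478 (tt N118098 (iv1 F508572)) (tt N118046 (iv0 F508274)) (tt N100771 (iv2 F430392)) (tt N76313 F421060) (tt N93083 (iv4 F421063)) (tt N61493 (iv5 D201590)) (tt N61494 F421061) (tt N76387 F421062))
theorem Q98480 : ∀ i, i < 98480 → P i := stepQ 98479 Q98479 (allL N98479 (tt N61496 (iv1 D201591)) (tt N100773 F430407) (tt N66659 F421067) (tt N106838 (iv3 F455915)) (tt N66670 F421064) (tt N98050 (iv5 F421066)) (tt N97913 (iv6 F421065)) (tt N100772 (iv7 F430400)))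
theorem Q98481 : ∀ i, i < 98481 → P i := stepQ 98480 Q98480 (allL N98480 (tt N66659 (iv1 F421071)) (tt N100772 F430401) (tt N100773 (iv2 F430402)) (tt N96490 F421068) (tt N71726 F421069) (tt N61631 F421070) (tt N100774 (iv6 F430410)) (tt N61496 (iv7 D201592)))
theorem Q98482 : ∀ i, i < 98482 → P i := stepQ 98481 Q98481 (allL N98481 (tt N69506 (iv1 F421074)) (tt N69502 F421075) (tt N100774 (iv2 F430409)) (tt N61554 F421072) (tt N104939 (iv4 F448032)) (tt N98273 F421073) (tt N100773 (iv6 F430406)) (tt N61497 (iv7 D201593)))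
theorem Q98483 : ∀ i, i < 98483 → P i := stepQ 98482 Q98482 (allL N98482 (tt N98598 F421507) (tt N119619 D222878) (tt N61505 F421076) (tt N113927 (iv3 F487832)) (tt N106272 (iv4 F453834)) (tt N61501 (iv5 D201594)) (tt N117341 (iv6 F504552)) (tt N61508 F421077))
theorem Q98484 : ∀ i, i < 98484 → P i := stepQ 98483 Q98483 (allL N98483 (tt N78888 (iv1 F421082)) (tt N74797 (iv0 F421081)) (tt N61506 F421078) (tt N81529 F421079) (tt N102952 (iv4 F439410)) (tt N70588 F421080) (tt N61501 (iv6 D201595)) (tt N99812 (iv7 F426345)))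
theorem Q98485 : ∀ i, i < 98485 → P i := stepQ 98484 Q98484 (allL N98484 (tt N119619 (iv1 F516549)) (tt N98598 F421508) (tt N61508 F421083) (tt N93389 F421084) (tt N106360 (iv4 F454138)) (tt N61502 (iv5 D201596)) (tt N98335 F421086) (tt N61505 F421085))
theorem Q98486 : ∀ i, i < 98486 → P i := stepQ 98485 Q98485 (allL N98485 (tt N61503 (iv1 D201597)) (tt N61512 F421087) (tt N61510 F421091) (tt N66815 (iv3 F421089)) (tt N105589 (iv4 F450867)) (tt N75795 (iv5 F421090)) (tt N105588 (iv6 F450864)) (tt N61509 F421088))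
theorem Q98487 : ∀ i, i < 98487 → P i := stepQ 98486 Q98486 (allL N98486 (tt N107268 (iv1 F457717)) (tt N107267 F457712) (tt N61511 F421092) (tt N119620 D222879) (tt N61503 (iv4 D201598)) (tt N63352 F421093) (tt N63312 F421094) (tt N107247 (iv7 F457637)))
theorem Q98488 : ∀ i, i < 98488 → P i := stepQ 98487 Q98487 (allL N98487 (tt N93727 F421099) (tt N78386 F421100) (tt N98327 F421095) (tt N61505 F421096) (tt N93390 F421098) (tt N61504 (iv5 D201599)) (tt N105821 (iv6 F451884)) (tt N93389 F421097))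
theorem Q98489 : ∀ i, i < 98489 → P i := stepQ 98488 Q98488 (allL N98488 (tt N61508 (iv1 F421103)) (tt N61505 (iv0 D201600)) (tt N98598 (iv2 F421504)) (tt N74481 (iv3 F421105)) (tt N86323 F421102) (tt N74479 F421101) (tt N94002 (iv6 F421104)) (tt N119619 (iv7 F516550)))
theorem Q98490 : ∀ i, i < 98490 → P i := stepQ 98489 Q98489 (allL N98489 (tt N61505 (iv1 D201601)) (tt N61508 F421106) (tt N119619 (iv2 F516554)) (tt N61517 F421160) (tt N86322 (iv4 F421163)) (tt N100020 (iv5 F427233)) (tt N63309 F421194) (tt N98598 (iv7 F421506)))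
theorem Q98491 : ∀ i, i < 98491 → P i := stepQ 98490 Q98490 (allL N98490 (tt N94152 F421161) (tt N109790 F468625) (tt N106272 (iv2 F453831)) (tt N99523 F424978) (tt N61505 (iv4 D201602)) (tt N106271 (iv5 F453830)) (tt N99522 (iv6 F424979)) (tt N106360 (iv7 F454140)))
theorem Q98492 : ∀ i, i < 98492 → P i := stepQ 98491 Q98491 (allL N98491 (tt N114937 (iv1 F492640)) (tt N114935 (iv0 F492627)) (tt N117341 (iv2 F504549)) (tt N105821 (iv3 F451882)) (tt N99522 F424980) (tt N105881 (iv5 F452162)) (tt N61505 (iv6 D201603)) (tt N116706 (iv7 F501411)))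
theorem Q98493 : ∀ i, i < 98493 → P i := stepQ 98492 Q98492 (allL N98492 (tt N98308 F460224) (tt N85230 (iv0 F421110)) (tt N85263 F421107) (tt N61508 F421108) (tt N115965 (iv4 F497801)) (tt N61507 (iv5 D201604)) (tt N84837 F421109) (tt N113927 (iv7 F487833)))
theorem Q98494 : ∀ i, i < 98494 → P i := stepQ 98493 Q98493 (allL N98493 (tt N109790 F468624) (tt N94152 F421113) (tt N106360 (iv2 F454136)) (tt N78162 (iv3 F421115)) (tt N61508 (iv4 D201605)) (tt N76257 F421112) (tt N82858 F421114) (tt N106272 (iv7 F453833)))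
theorem Q98495 : ∀ i, i < 98495 → P i := stepQ 98494 Q98494 (allL N98494 (tt N85124 F421119) (tt N63317 (iv0 F421120)) (tt N98335 F421116) (tt N84837 F421117) (tt N82858 F421118) (tt N109036 (iv5 F465032)) (tt N61508 (iv6 D201606)) (tt N85258 (iv7 F421121)))
theorem Q98496 : ∀ i, i < 98496 → P i := stepQ 98495 Q98495 (allL N98495 (tt N106353 (iv1 F454111)) (tt N106361 F454146) (tt N106307 (iv2 F453958)) (tt N105591 (iv3 F450873)) (tt N61509 (iv4 D201607)) (tt N117515 (iv5 F505453)) (tt N114286 (iv6 F489402)) (tt N105589 F450871))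
theorem Q98497 : ∀ i, i < 98497 → P i := stepQ 98496 Q98496 (allL N98496 (tt N100766 F430369) (tt N75562 F421128) (tt N108803 F464027) (tt N98259 F421124) (tt N66722 F421127) (tt N61509 (iv5 D201608)) (tt N66720 F421125) (tt N75795 F421126))
theorem Q98498 : ∀ i, i < 98498 → P i := stepQ 98497 Q98497 (allL N98497 (tt N75562 (iv1 F421133)) (tt N100766 (iv0 F430368)) (tt N75795 F421130) (tt N113711 (iv3 F486771)) (tt N74820 F421132) (tt N61510 (iv5 D201609)) (tt N75789 F421131) (tt N108803 (iv7 F464029)))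
theorem Q98499 : ∀ i, i < 98499 → P i := stepQ 98498 Q98498 (allL N98498 (tt N107247 (iv1 F457639)) (tt N61511 (iv0 D201610)) (tt N107268 F457722) (tt N116983 (iv3 F502819)) (tt N89620 (iv4 F427217)) (tt N107912 (iv5 F460250)) (tt N89619 F427218) (tt N107267 F457716))
theorem Q98500 : ∀ i, i < 98500 → P i := stepQ 98499 Q98499 (allL N98499 (tt N61511 (iv1 D201611)) (tt N107247 (iv0 F457638)) (tt N107267 F457713) (tt N71632 (iv3 F421135)) (tt N100234 (iv4 F428095)) (tt N71627 F421134) (tt N85560 (iv6 F421136)) (tt N107268 (iv7 F457718)))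
theorem Q98501 : ∀ i, i < 98501 → P i := stepQ 98500 Q98500 (allL N98500 (tt N119621 D222880) (tt N105545 (iv0 F450879)) (tt N119622 D222881) (tt N61511 (iv3 D201612)) (tt N61537 F421137) (tt N107261 (iv5 F457687)) (tt N78766 F421138) (tt N107260 F457685))
theorem Q98502 : ∀ i, i < 98502 → P i := stepQ 98501 Q98501 (allL N98501 (tt N98265 (iv1 F421143)) (tt N106542 (iv0 F454821)) (tt N109089 (iv2 F465276)) (tt N61540 F421139) (tt N84901 F421140) (tt N92157 F421141) (tt N61512 (iv6 D201613)) (tt N63314 F421142))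
theorem Q98503 : ∀ i, i < 98503 → P i := stepQ 98502 Q98502 (allL N98502 (tt N80181 F421149) (tt N80341 F421148) (tt N81508 F421144) (tt N66995 F421145) (tt N61513 (iv4 D201614)) (tt N87018 F421150) (tt N80710 F421146) (tt N66994 F421147))
theorem Q98504 : ∀ i, i < 98504 → P i := stepQ 98503 Q98503 (allL N98503 (tt N98608 (iv1 F421559)) (tt N98607 F421555) (tt N61515 F421151) (tt N76343 F421152) (tt N108900 (iv4 F464419)) (tt N61514 (iv5 D201615)) (tt N104969 (iv6 F448196)) (tt N98293 F421153))
theorem Q98505 : ∀ i, i < 98505 → P i := stepQ 98504 Q98504 (allL N98504 (tt N61515 (iv1 D201616)) (tt N98293 F421154) (tt N98607 (iv2 F421558)) (tt N86314 (iv3 F421164)) (tt N119044 (iv4 F513465)) (tt N109550 (iv5 F467469)) (tt N98641 (iv6 F421702)) (tt N98608 (iv7 F421560)))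
theorem Q98506 : ∀ i, i < 98506 → P i := stepQ 98505 Q98505 (allL N98505 (tt N114983 F492908) (tt N114915 F492512) (tt N104969 (iv2 F448195)) (tt N61519 F421155) (tt N93519 F421156) (tt N68240 F421157) (tt N61515 (iv6 D201617)) (tt N114451 (iv7 F490237)))
theorem Q98507 : ∀ i, i < 98507 → P i := stepQ 98506 Q98506 (allL N98506 (tt N61561 F421158) (tt N61589 F421159) (tt N98601 (iv2 F421518)) (tt N102918 (iv3 F439264)) (tt N61517 (iv4 D201619)) (tt N116257 (iv5 F499247)) (tt N98650 (iv6 F421735)) (tt N98599 (iv7 F421510)))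
theorem Q98508 : ∀ i, i < 98508 → P i := stepQ 98507 Q98507 (allL N98507 (tt N61527 (iv1 F421165)) (tt N61518 (iv0 D201620)) (tt N98161 (iv2 F421166)) (tt N104670 (iv3 F446796)) (tt N78847 F421162) (tt N104362 (iv5 F445434)) (tt N115017 (iv6 F493071)) (tt N98560 (iv7 F421335)))
theorem Q98509 : ∀ i, i < 98509 → P i := stepQ 98508 Q98508 (allL N98508 (tt N61518 (iv1 D201621)) (tt N61527 F421167) (tt N98560 (iv2 F421334)) (tt N119623 D222882) (tt N78848 F421169) (tt N104705 (iv5 F446933)) (tt N98646 F421722) (tt N98161 F421168))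
theorem Q98510 : ∀ i, i < 98510 → P i := stepQ 98509 Q98509 (allL N98509 (tt N109430 (iv1 F466920)) (tt N119624 D222883) (tt N98602 (iv2 F421522)) (tt N93526 F421170) (tt N61519 F421171) (tt N114447 (iv5 F490216)) (tt N61518 (iv6 D201622)) (tt N119625 D222884))
theorem Q98511 : ∀ i, i < 98511 → P i := stepQ 98510 Q98510 (allL N98510 (tt N98606 (iv1 F421553)) (tt N61519 (iv0 D201623)) (tt N98604 F421536) (tt N105843 (iv3 F451989)) (tt N103662 (iv4 F442411)) (tt N75710 F421173) (tt N78770 F421172) (tt N98605 (iv7 F421541)))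
theorem Q98512 : ∀ i, i < 98512 → P i := stepQ 98511 Q98511 (allL N98511 (tt N61519 (iv1 D201624)) (tt N98606 F421552) (tt N98605 (iv2 F421544)) (tt N114935 (iv3 F492624)) (tt N104717 (iv4 F446973)) (tt N75709 (iv5 F421174)) (tt N98040 (iv6 F421175)) (tt N98604 F421538))
theorem Q98513 : ∀ i, i < 98513 → P i := stepQ 98512 Q98512 (allL N98512 (tt N98605 (iv1 F421540)) (tt N98604 F421547) (tt N98606 (iv2 F421548)) (tt N114451 (iv3 F490235)) (tt N119625 (iv4 F516581)) (tt N109425 (iv5 F466896)) (tt N98339 F421176) (tt N61519 (iv7 D201625)))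
theorem Q98514 : ∀ i, i < 98514 → P i := stepQ 98513 Q98513 (allL N98513 (tt N98326 F421180) (tt N98596 F421499) (tt N61525 F421177) (tt N98293 F421178) (tt N115033 (iv4 F493130)) (tt N61523 (iv5 D201626)) (tt N114926 (iv6 F492569)) (tt N76343 F421179))
theorem Q98515 : ∀ i, i < 98515 → P i := stepQ 98514 Q98514 (allL N98514 (tt N98553 (iv1 F421308)) (tt N64180 (iv0 F421183)) (tt N61526 F421181) (tt N98294 F421182) (tt N100952 (iv4 F431085)) (tt N100200 (iv5 F427959)) (tt N61523 (iv6 D201627)) (tt N111325 (iv7 F475833)))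
theorem Q98516 : ∀ i, i < 98516 → P i := stepQ 98515 Q98515 (allL N98515 (tt N119626 D222885) (tt N105238 (iv0 F449349)) (tt N100951 (iv2 F431082)) (tt N92667 F421184) (tt N119627 D222886) (tt N61524 (iv5 D201628)) (tt N114538 F490667) (tt N98594 (iv7 F421492)))
theorem Q98517 : ∀ i, i < 98517 → P i := stepQ 98516 Q98516 (allL N98516 (tt N105097 F448779) (tt N100208 (iv0 F428003)) (tt N100952 (iv2 F431083)) (tt N91174 F421185) (tt N61526 F421186) (tt N119628 D222887) (tt N61524 (iv6 D201629)) (tt N105098 (iv7 F448782)))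
theorem Q98518 : ∀ i, i < 98518 → P i := stepQ 98517 Q98517 (allL N98517 (tt N70777 F428267) (tt N117727 (iv0 F506653)) (tt N115033 (iv2 F493128)) (tt N98606 (iv3 F421549)) (tt N61525 (iv4 D201630)) (tt N119629 D222888) (tt N114985 F492920) (tt N98597 (iv7 F421501)))
theorem Q98519 : ∀ i, i < 98519 → P i := stepQ 98518 Q98518 (allL N98518 (tt N114331 (iv1 F489653)) (tt N74520 (iv0 F421188)) (tt N114926 (iv2 F492567)) (tt N61528 F421187) (tt N114985 (iv4 F492915)) (tt N113702 (iv5 F486712)) (tt N61525 (iv6 D201631)) (tt N114985 (iv7 F492918)))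
theorem Q98520 : ∀ i, i < 98520 → P i := stepQ 98519 Q98519 (allL N98519 (tt N111325 F475835) (tt N61526 (iv0 D201632)) (tt N98553 (iv2 F421305)) (tt N104943 F448055) (tt N99764 F426123) (tt N63308 (iv5 F421311)) (tt N98540 F421306) (tt N64180 F421307))
theorem Q98521 : ∀ i, i < 98521 → P i := stepQ 98520 Q98520 (allL N98520 (tt N61526 (iv1 D201633)) (tt N111325 (iv0 F475834)) (tt N64180 (iv2 F421191)) (tt N64192 (iv3 F421189)) (tt N99765 F426128) (tt N63309 F421192) (tt N64170 F421190) (tt N98553 (iv7 F421303)))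
theorem Q98522 : ∀ i, i < 98522 → P i := stepQ 98521 Q98521 (allL N98521 (tt N64180 (iv1 F421197)) (tt N98553 (iv0 F421304)) (tt N111325 (iv2 F475830)) (tt N61529 F421195) (tt N105098 (iv4 F448780)) (tt N100201 (iv5 F427965)) (tt N78992 F421196) (tt N61526 (iv7 D201634)))
theorem Q98523 : ∀ i, i < 98523 → P i := stepQ 98522 Q98522 (allL N98522 (tt N119624 (iv1 F516574)) (tt N109430 (iv0 F466921)) (tt N119625 (iv2 F516579)) (tt N61527 (iv3 D201635)) (tt N98606 (iv4 F421550)) (tt N119524 (iv5 F516057)) (tt N119569 F516311) (tt N98602 (iv7 F421523)))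
theorem Q98524 : ∀ i, i < 98524 → P i := stepQ 98523 Q98523 (allL N98523 (tt N114576 F490842) (tt N98630 (iv0 F421653)) (tt N98610 (iv2 F421568)) (tt N119569 F516310) (tt N61528 F421198) (tt N119630 D222889) (tt N61527 (iv6 D201636)) (tt N119569 (iv7 F516308)))
theorem Q98525 : ∀ i, i < 98525 → P i := stepQ 98524 Q98524 (allL N98524 (tt N78390 (iv1 F421201)) (tt N98341 F421202) (tt N98339 F421199) (tt N114985 F492919) (tt N119569 (iv4 F516309)) (tt N76243 F421200) (tt N98606 (iv6 F421551)) (tt N61528 (iv7 D201637)))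
theorem Q98526 : ∀ i, i < 98526 → P i := stepQ 98525 Q98525 (allL N98525 (tt N118379 (iv1 F510035)) (tt N104525 F446139) (tt N98667 (iv2 F421797)) (tt N61530 (iv3 D201638)) (tt N86102 F421203) (tt N119282 (iv5 F514809)) (tt N86098 F421204) (tt N98612 (iv7 F421577)))
theorem Q98527 : ∀ i, i < 98527 → P i := stepQ 98526 Q98526 (allL N98526 (tt N76278 F421206) (tt N74865 (iv0 F421207)) (tt N105912 (iv2 F452311)) (tt N78789 (iv3 F421208)) (tt N61532 (iv4 D201639)) (tt N92144 (iv5 F421209)) (tt N98653 (iv6 F421748)) (tt N76349 F421205))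
theorem Q98528 : ∀ i, i < 98528 → P i := stepQ 98527 Q98527 (allL N98527 (tt N86065 (iv1 F421215)) (tt N86064 F421216) (tt N86066 F421212) (tt N61534 F421213) (tt N98653 (iv4 F421747)) (tt N100521 (iv5 F429302)) (tt N61532 (iv6 D201640)) (tt N86063 F421214))
theorem Q98529 : ∀ i, i < 98529 → P i := stepQ 98528 Q98528 (allL N98528 (tt N98669 (iv1 F421800)) (tt N98668 F421808) (tt N98671 (iv2 F421806)) (tt N61533 (iv3 D201641)) (tt N78789 F421217) (tt N97819 F421218) (tt N98658 (iv6 F421762)) (tt N78786 F421219))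
theorem Q98530 : ∀ i, i < 98530 → P i := stepQ 98529 Q98529 (allL N98529 (tt N118062 (iv1 F508369)) (tt N104512 (iv0 F446093)) (tt N98614 (iv2 F421581)) (tt N98658 (iv3 F421760)) (tt N61534 F421220) (tt N97892 (iv5 F421221)) (tt N61533 (iv6 D201642)) (tt N98654 (iv7 F421751)))
theorem Q98531 : ∀ i, i < 98531 → P i := stepQ 98530 Q98530 (allL N98530 (tt N93117 (iv1 F421226)) (tt N93115 F421227) (tt N85865 F421222) (tt N86063 F421223) (tt N98654 (iv4 F421750)) (tt N86858 F421224) (tt N79028 F421225) (tt N61534 (iv7 D201643)))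
theorem Q98532 : ∀ i, i < 98532 → P i := stepQ 98531 Q98531 (allL N98531 (tt N104654 F446714) (tt N114419 (iv0 F490063)) (tt N119631 D222890) (tt N61535 (iv3 D201644)) (tt N114313 (iv4 F489544)) (tt N103880 F443199) (tt N114311 (iv6 F489535)) (tt N98618 (iv7 F421611)))
theorem Q98533 : ∀ i, i < 98533 → P i := stepQ 98532 Q98532 (allL N98532 (tt N90082 F442397) (tt N104604 (iv0 F446500)) (tt N117767 (iv2 F506863)) (tt N61536 (iv3 D201645)) (tt N100998 (iv4 F431196)) (tt N82960 F421228) (tt N92286 F421229) (tt N98615 (iv7 F421590)))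
theorem Q98534 : ∀ i, i < 98534 → P i := stepQ 98533 Q98533 (allL N98533 (tt N119632 D222891) (tt N61537 (iv0 D201646)) (tt N119633 D222892) (tt N92256 (iv3 F455986)) (tt N119634 D222893) (tt N92254 F455985) (tt N109172 (iv6 F499235)) (tt N119635 D222894))
theorem Q98535 : ∀ i, i < 98535 → P i := stepQ 98534 Q98534 (allL N98534 (tt N61537 (iv1 D201647)) (tt N119632 F516617) (tt N119635 (iv2 F516629)) (tt N118191 F509066) (tt N119636 D222895) (tt N117684 (iv5 F506408)) (tt N92282 (iv6 F492378)) (tt N119633 F516621))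
theorem Q98536 : ∀ i, i < 98536 → P i := stepQ 98535 Q98535 (allL N98535 (tt N119633 F516622) (tt N119635 F516634) (tt N61537 (iv2 D201648)) (tt N98622 (iv3 F421621)) (tt N119622 (iv4 F516565)) (tt N119637 D222896) (tt N78796 F421230) (tt N119632 (iv7 F516616)))
theorem Q98537 : ∀ i, i < 98537 → P i := stepQ 98536 Q98536 (allL N98536 (tt N104607 F446514) (tt N102907 (iv0 F439214)) (tt N119637 (iv2 F516640)) (tt N61538 F421231) (tt N114377 (iv4 F489869)) (tt N61537 (iv5 D201649)) (tt N117360 (iv6 F504658)) (tt N105493 F450460))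
theorem Q98538 : ∀ i, i < 98538 → P i := stepQ 98537 Q98537 (allL N98537 (tt N119635 (iv1 F516635)) (tt N119633 (iv0 F516623)) (tt N119632 F516615) (tt N61539 F421232) (tt N107260 F457684) (tt N105493 F450459) (tt N119638 D222897) (tt N61537 (iv7 D201650)))
theorem Q98539 : ∀ i, i < 98539 → P i := stepQ 98538 Q98538 (allL N98538 (tt N98052 (iv1 F421236)) (tt N98051 (iv0 F421237)) (tt N98037 F421233) (tt N119638 (iv3 F516645)) (tt N61540 F421234) (tt N119464 (iv5 F515755)) (tt N61539 (iv6 D201651)) (tt N61653 F421235))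
theorem Q98540 : ∀ i, i < 98540 → P i := stepQ 98539 Q98539 (allL N98539 (tt N105833 F451934) (tt N74907 (iv0 F421239)) (tt N61552 F421238) (tt N112468 (iv3 F481211)) (tt N102880 F439076) (tt N111267 (iv5 F475532)) (tt N61543 (iv6 D201652)) (tt N105837 (iv7 F451959)))
theorem Q98541 : ∀ i, i < 98541 → P i := stepQ 98540 Q98540 (allL N98540 (tt N61544 (iv1 D201653)) (tt N61555 F421240) (tt N61554 (iv2 F421242)) (tt N80874 (iv3 F421243)) (tt N105115 (iv4 F448864)) (tt N109720 (iv5 F468280)) (tt N98519 (iv6 F421306)) (tt N61553 F421241))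
theorem Q98542 : ∀ i, i < 98542 → P i := stepQ 98541 Q98541 (allL N98541 (tt N61554 (iv1 F421248)) (tt N61553 F421249) (tt N61555 F421244) (tt N112360 (iv3 F480735)) (tt N69765 F421245) (tt N76365 F421246) (tt N71996 F421247) (tt N61544 (iv7 D201654)))
theorem Q98543 : ∀ i, i < 98543 → P i := stepQ 98542 Q98542 (allL N98542 (tt N76949 (iv1 F421255)) (tt N61546 (iv0 D201655)) (tt N76950 (iv2 F421254)) (tt N73888 F421253) (tt N90648 F421252) (tt N83875 F421251) (tt N92837 (iv6 F421257)) (tt N76947 F421256))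
theorem Q98544 : ∀ i, i < 98544 → P i := stepQ 98543 Q98543 (allL N98543 (tt N76950 (iv1 F421264)) (tt N76947 F421263) (tt N61546 (iv2 D201656)) (tt N84340 F421259) (tt N61557 F421260) (tt N87032 F421261) (tt N104070 (iv6 F444030)) (tt N76949 F421262))
theorem Q98545 : ∀ i, i < 98545 → P i := stepQ 98544 Q98544 (allL N98544 (tt N69785 F421268) (tt N68234 F421269) (tt N69784 F421265) (tt N104068 (iv3 F444021)) (tt N105474 (iv4 F450402)) (tt N61548 (iv5 D201657)) (tt N72009 F421266) (tt N69783 F421267))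
theorem Q98546 : ∀ i, i < 98546 → P i := stepQ 98545 Q98545 (allL N98545 (tt N81408 F421275) (tt N75697 F421274) (tt N63307 F421270) (tt N61761 F421271) (tt N87031 F421273) (tt N61549 (iv5 D201658)) (tt N63279 F421276) (tt N81407 F421272))
theorem Q98547 : ∀ i, i < 98547 → P i := stepQ 98546 Q98546 (allL N98546 (tt N102955 F439426) (tt N105881 (iv0 F452164)) (tt N85022 F421277) (tt N119597 (iv3 F516445)) (tt N62811 F421278) (tt N97984 F421280) (tt N61549 (iv6 D201659)) (tt N85018 F421279))
theorem Q98548 : ∀ i, i < 98548 → P i := stepQ 98547 Q98547 (allL N98547 (tt N100156 F427749) (tt N61551 (iv0 D201660)) (tt N85007 (iv2 F421285)) (tt N70837 F421286) (tt N105866 (iv4 F452076)) (tt N109016 (iv5 F464940)) (tt N85005 F421287) (tt N105866 (iv7 F452079)))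
theorem Q98549 : ∀ i, i < 98549 → P i := stepQ 98548 Q98548 (allL N98548 (tt N61551 (iv1 D201661)) (tt N100156 (iv0 F427748)) (tt N105866 (iv2 F452075)) (tt N85009 (iv3 F421282)) (tt N85007 F421281) (tt N109361 (iv5 F466575)) (tt N85006 (iv6 F421283)) (tt N85007 F421284))
theorem Q98550 : ∀ i, i < 98550 → P i := stepQ 98549 Q98549 (allL N98549 (tt N61679 F421291) (tt N92559 (iv0 F421290)) (tt N102880 F439075) (tt N92819 F421288) (tt N61552 F421289) (tt N119579 (iv5 F516358)) (tt N61551 (iv6 D201662)) (tt N102881 (iv7 F439079)))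
theorem Q98551 : ∀ i, i < 98551 → P i := stepQ 98550 Q98550 (allL N98550 (tt N61552 (iv1 D201663)) (tt N105837 F451958) (tt N74907 F421293) (tt N104194 (iv3 F444631)) (tt N62804 F421294) (tt N104192 F444620) (tt N62803 (iv6 F421292)) (tt N105833 (iv7 F451932)))
theorem Q98552 : ∀ i, i < 98552 → P i := stepQ 98551 Q98551 (allL N98551 (tt N74907 (iv1 F421299)) (tt N105833 F451935) (tt N105837 F451957) (tt N61576 F421297) (tt N102881 (iv4 F439080)) (tt N114074 (iv5 F488459)) (tt N97054 F421298) (tt N61552 (iv7 D201664)))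
theorem Q98553 : ∀ i, i < 98553 → P i := stepQ 98552 Q98552 (allL N98552 (tt N78685 F421301) (tt N108329 (iv0 F462090)) (tt N105115 (iv2 F448863)) (tt N83869 F421302) (tt N61554 (iv4 D201665)) (tt N105169 (iv5 F449085)) (tt N75046 (iv6 F421310)) (tt N84258 F421300))
theorem Q98554 : ∀ i, i < 98554 → P i := stepQ 98553 Q98553 (allL N98553 (tt N98521 F421304) (tt N98514 F421308) (tt N98519 F421305) (tt N100773 (iv3 F430403)) (tt N75046 F421309) (tt N100170 (iv5 F427819)) (tt N61554 (iv6 D201666)) (tt N98520 F421303))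
theorem Q98555 : ∀ i, i < 98555 → P i := stepQ 98554 Q98554 (allL N98554 (tt N89877 F421315) (tt N109075 (iv0 F465236)) (tt N61558 F421312) (tt N98071 F421313) (tt N118820 (iv4 F512251)) (tt N61557 (iv5 D201667)) (tt N101204 (iv6 F432186)) (tt N98097 F421314))
theorem Q98556 : ∀ i, i < 98556 → P i := stepQ 98555 Q98555 (allL N98555 (tt N98097 (iv1 F421317)) (tt N61558 (iv0 D201668)) (tt N89877 (iv2 F421318)) (tt N109077 (iv3 F465241)) (tt N114545 (iv4 F490704)) (tt N85368 F421316) (tt N86898 (iv6 F421319)) (tt N109075 (iv7 F465235)))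
theorem Q98557 : ∀ i, i < 98557 → P i := stepQ 98556 Q98556 (allL N98556 (tt N61558 (iv1 D201669)) (tt N98097 F421320) (tt N109075 (iv2 F465232)) (tt N108799 (iv3 F464001)) (tt N118703 (iv4 F511629)) (tt N85367 F421322) (tt N98703 F421922) (tt N89877 F421321))
theorem Q98558 : ∀ i, i < 98558 → P i := stepQ 98557 Q98557 (allL N98557 (tt N94500 F421323) (tt N118819 (iv0 F512248)) (tt N118820 F512252) (tt N119639 D222898) (tt N61558 (iv4 D201670)) (tt N87271 F475714) (tt N112367 (iv6 F480768)) (tt N111214 (iv7 F475256)))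
theorem Q98559 : ∀ i, i < 98559 → P i := stepQ 98558 Q98558 (allL N98558 (tt N118338 (iv1 F509787)) (tt N104164 (iv0 F444502)) (tt N101204 (iv2 F432184)) (tt N61562 F421324) (tt N112367 (iv4 F480767)) (tt N85980 F421325) (tt N61558 (iv6 D201671)) (tt N114373 (iv7 F489859)))
theorem Q98560 : ∀ i, i < 98560 → P i := stepQ 98559 Q98559 (allL N98559 (tt N75970 F421331) (tt N82931 (iv0 F421333)) (tt N86311 F421326) (tt N61560 (iv3 D201672)) (tt N82896 (iv4 F421330)) (tt N80144 F421327) (tt N73161 F421328) (tt N86312 F421329))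
theorem Q98561 : ∀ i, i < 98561 → P i := stepQ 98560 Q98560 (allL N98560 (tt N61603 F421337) (tt N61608 F421338) (tt N98508 F421334) (tt N69097 (iv3 F421339)) (tt N61560 (iv4 D201673)) (tt N69096 F421336) (tt N98708 (iv6 F421947)) (tt N98507 F421335))
theorem Q98562 : ∀ i, i < 98562 → P i := stepQ 98561 Q98561 (allL N98561 (tt N104735 (iv1 F447039)) (tt N104733 (iv0 F447036)) (tt N119640 D222899) (tt N61561 (iv3 D201674)) (tt N119639 (iv4 F516651)) (tt N104653 (iv5 F446706)) (tt N114414 F490037) (tt N111215 (iv7 F475259)))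
theorem Q98563 : ∀ i, i < 98563 → P i := stepQ 98562 Q98562 (allL N98562 (tt N103662 F442413) (tt N104717 F467003) (tt N111211 (iv2 F475239)) (tt N114414 (iv3 F490035)) (tt N61562 F421341) (tt N114413 (iv5 F490030)) (tt N61561 (iv6 D201675)) (tt N119641 D222900))
theorem Q98564 : ∀ i, i < 98564 → P i := stepQ 98563 Q98563 (allL N98563 (tt N61562 (iv1 D201676)) (tt N105677 F451215) (tt N111212 F475247) (tt N115335 (iv3 F494652)) (tt N119642 D222901) (tt N75735 (iv5 F421342)) (tt N117721 (iv6 F506618)) (tt N98700 F421908))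
theorem Q98565 : ∀ i, i < 98565 → P i := stepQ 98564 Q98564 (allL N98564 (tt N111212 (iv1 F475243)) (tt N98700 F451216) (tt N105677 F451214) (tt N114373 (iv3 F489857)) (tt N119641 (iv4 F516659)) (tt N111235 (iv5 F475357)) (tt N98235 F421343) (tt N61562 (iv7 D201677)))
theorem Q98566 : ∀ i, i < 98566 → P i := stepQ 98565 Q98565 (allL N98565 (tt N114885 F492347) (tt N83969 F421346) (tt N113459 (iv2 F485588)) (tt N84005 F421344) (tt N61565 (iv4 D201678)) (tt N113456 (iv5 F485574)) (tt N85044 (iv6 F448194)) (tt N88731 F421345))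
theorem Q98567 : ∀ i, i < 98567 → P i := stepQ 98566 Q98566 (allL N98566 (tt N119629 (iv1 F516603)) (tt N104968 (iv0 F448190)) (tt N104949 (iv2 F448092)) (tt N61567 F421347) (tt N85044 F448192) (tt N74865 F421348) (tt N61565 (iv6 D201679)) (tt N86002 F421349))
theorem Q98568 : ∀ i, i < 98568 → P i := stepQ 98567 Q98567 (allL N98567 (tt N103333 (iv1 F441180)) (tt N103231 (iv0 F440688)) (tt N103300 F441045) (tt N88727 F421350) (tt N61567 F421351) (tt N88724 F421352) (tt N61566 (iv6 D201680)) (tt N102938 (iv7 F439343)))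
theorem Q98569 : ∀ i, i < 98569 → P i := stepQ 98568 Q98568 (allL N98568 (tt N118064 F508380) (tt N119643 D222902) (tt N118077 (iv2 F508444)) (tt N61571 (iv3 D201681)) (tt N119644 D222903) (tt N113573 (iv5 F486086)) (tt N97910 F421353) (tt N117749 (iv7 F506773)))
theorem Q98570 : ∀ i, i < 98570 → P i := stepQ 98569 Q98569 (allL N98569 (tt N92187 F421356) (tt N92184 F421357) (tt N68720 F421354) (tt N113573 (iv3 F486084)) (tt N117932 (iv4 F507665)) (tt N61571 (iv5 D201682)) (tt N98006 (iv6 F421358)) (tt N93240 F421355))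
theorem Q98571 : ∀ i, i < 98571 → P i := stepQ 98570 Q98570 (allL N98570 (tt N92815 (iv1 F421361)) (tt N61572 (iv0 D201683)) (tt N113148 (iv2 F484192)) (tt N119645 D222904) (tt N85066 F421360) (tt N90240 F421359) (tt N85065 (iv6 F421362)) (tt N113147 (iv7 F484188)))
theorem Q98572 : ∀ i, i < 98572 → P i := stepQ 98571 Q98571 (allL N98571 (tt N61572 (iv1 D201684)) (tt N92815 (iv0 F421366)) (tt N113147 (iv2 F484187)) (tt N88726 (iv3 F421365)) (tt N98409 F421364) (tt N90239 F421363) (tt N102334 F436780) (tt N113148 (iv7 F484196)))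
theorem Q98573 : ∀ i, i < 98573 → P i := stepQ 98572 Q98572 (allL N98572 (tt N113148 (iv1 F484198)) (tt N113147 (iv0 F484190)) (tt N61572 (iv2 D201685)) (tt N115405 F495030) (tt N92807 F421367) (tt N77301 F421368) (tt N103429 (iv6 F441591)) (tt N92815 F421369))
theorem Q98574 : ∀ i, i < 98574 → P i := stepQ 98573 Q98573 (allL N98573 (tt N115752 (iv1 F496672)) (tt N87658 (iv0 F421373)) (tt N103429 (iv2 F441588)) (tt N61574 F421370) (tt N92819 F421371) (tt N69174 F421372) (tt N61572 (iv6 D201686)) (tt N103389 (iv7 F441398)))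
theorem Q98575 : ∀ i, i < 98575 → P i := stepQ 98574 Q98574 (allL N98574 (tt N84958 F421377) (tt N90628 F421378) (tt N61583 F421374) (tt N91082 (iv3 F421379)) (tt N61578 (iv4 D201687)) (tt N77389 F421376) (tt N82989 F421375) (tt N114435 (iv7 F490149)))
theorem Q98576 : ∀ i, i < 98576 → P i := stepQ 98575 Q98575 (allL N98575 (tt N92204 F421410) (tt N86600 F421411) (tt N61585 F421407) (tt N76384 F421408) (tt N119646 D222905) (tt N61579 (iv5 D201688)) (tt N119509 (iv6 F515980)) (tt N86651 F421409))
theorem Q98577 : ∀ i, i < 98577 → P i := stepQ 98576 Q98576 (allL N98576 (tt N105118 (iv1 F448882)) (tt N114381 (iv0 F489891)) (tt N90624 F421412) (tt N84029 F421413) (tt N61582 (iv4 D201689)) (tt N81387 F421414) (tt N90402 F421415) (tt N85990 F421416))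
theorem Q98578 : ∀ i, i < 98578 → P i := stepQ 98577 Q98577 (allL N98577 (tt N61583 (iv1 D201690)) (tt N114435 (iv0 F490150)) (tt N90628 (iv2 F421429)) (tt N113799 F487155) (tt N81405 F421424) (tt N81390 F421423) (tt N110260 (iv6 F470690)) (tt N84958 F421422))
theorem Q98579 : ∀ i, i < 98579 → P i := stepQ 98578 Q98578 (allL N98578 (tt N86616 F421433) (tt N115087 (iv0 F493424)) (tt N119509 (iv2 F515977)) (tt N61594 F421430) (tt N86556 (iv4 F421434)) (tt N61584 (iv5 D201691)) (tt N61585 F421431) (tt N86654 F421432))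
theorem Q98580 : ∀ i, i < 98580 → P i := stepQ 98579 Q98579 (allL N98579 (tt N86651 F421437) (tt N61585 (iv0 D201692)) (tt N92204 (iv2 F421438)) (tt N114547 (iv3 F490711)) (tt N117353 (iv4 F504626)) (tt N76306 F421435) (tt N86144 F421436) (tt N86600 (iv7 F421439)))
theorem Q98581 : ∀ i, i < 98581 → P i := stepQ 98580 Q98580 (allL N98580 (tt N61585 (iv1 D201693)) (tt N86651 F421440) (tt N86600 F421444) (tt N87520 (iv3 F421443)) (tt N119405 (iv4 F515444)) (tt N76305 F421442) (tt N86443 (iv6 F421445)) (tt N92204 F421441))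
theorem Q98582 : ∀ i, i < 98582 → P i := stepQ 98581 Q98581 (allL N98581 (tt N117429 F504995) (tt N119554 (iv0 F516220)) (tt N119646 (iv2 F516686)) (tt N106873 F456090) (tt N61585 (iv4 D201694)) (tt N119647 D222906) (tt N86556 F421446) (tt N119648 D222907))
theorem Q98583 : ∀ i, i < 98583 → P i := stepQ 98582 Q98582 (allL N98582 (tt N86600 (iv1 F421451)) (tt N92204 F421452) (tt N86651 F421447) (tt N61596 F421448) (tt N119648 (iv4 F516700)) (tt N61586 F421449) (tt N69604 F421450) (tt N61585 (iv7 D201695)))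
theorem Q98584 : ∀ i, i < 98584 → P i := stepQ 98583 Q98583 (allL N98583 (tt N98071 (iv1 F421456)) (tt N61587 (iv0 D201696)) (tt N100326 (iv2 F428435)) (tt N98190 F421455) (tt N69718 F421454) (tt N77642 F421453) (tt N69717 (iv6 F421457)) (tt N101315 (iv7 F432623)))
theorem Q98585 : ∀ i, i < 98585 → P i := stepQ 98584 Q98584 (allL N98584 (tt N100502 (iv1 F429215)) (tt N100501 (iv0 F429212)) (tt N109845 (iv2 F468873)) (tt N72112 (iv3 F421459)) (tt N61587 (iv4 D201697)) (tt N75035 F421458) (tt N72109 F421460) (tt N109844 (iv7 F468869)))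
theorem Q98586 : ∀ i, i < 98586 → P i := stepQ 98585 Q98585 (allL N98585 (tt N85349 F421463) (tt N98694 (iv0 F421880)) (tt N100332 F428452) (tt N61590 F421461) (tt N72109 F421462) (tt N113117 (iv5 F484043)) (tt N61587 (iv6 D201698)) (tt N100333 (iv7 F428453)))
theorem Q98587 : ∀ i, i < 98587 → P i := stepQ 98586 Q98586 (allL N98586 (tt N103666 F444422) (tt N68886 F445983) (tt N103663 F442415) (tt N61589 (iv3 D201699)) (tt N72112 F421464) (tt N104602 (iv5 F446491)) (tt N72111 (iv6 F421465)) (tt N103664 (iv7 F442416)))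
theorem Q98588 : ∀ i, i < 98588 → P i := stepQ 98587 Q98587 (allL N98587 (tt N115003 F493009) (tt N98340 (iv0 F421468)) (tt N111216 (iv2 F475260)) (tt N72111 F421466) (tt N61590 F421467) (tt N119649 D222908) (tt N61589 (iv6 D201700)) (tt N119650 D222909))
theorem Q98589 : ∀ i, i < 98589 → P i := stepQ 98588 Q98588 (allL N98588 (tt N66806 (iv1 F421470)) (tt N85283 F421471) (tt N98235 F421469) (tt N100333 F428455) (tt N119650 (iv4 F516710)) (tt N103045 (iv5 F439820)) (tt N105677 (iv6 F451212)) (tt N61590 (iv7 D201701)))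
theorem Q98590 : ∀ i, i < 98590 → P i := stepQ 98589 Q98589 (allL N98589 (tt N103129 (iv1 F440204)) (tt N104430 (iv0 F445728)) (tt N110277 (iv2 F470792)) (tt N61592 F421472) (tt N68949 F421474) (tt N61591 (iv5 D201702)) (tt N87696 F421473) (tt N110335 (iv7 F471104)))
theorem Q98591 : ∀ i, i < 98591 → P i := stepQ 98590 Q98590 (allL N98590 (tt N104908 (iv1 F447885)) (tt N103342 (iv0 F441203)) (tt N104907 (iv2 F447881)) (tt N87696 F421476) (tt N119525 (iv4 F516063)) (tt N87695 F421477) (tt N61592 (iv6 D201703)) (tt N104906 F447877))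
theorem Q98592 : ∀ i, i < 98592 → P i := stepQ 98591 Q98591 (allL N98591 (tt N61594 (iv1 D201704)) (tt N69603 F421478) (tt N70789 F421480) (tt N105835 (iv3 F451944)) (tt N108499 (iv4 F462858)) (tt N70786 (iv5 F421479)) (tt N68138 F421481) (tt N108780 (iv7 F463896)))
theorem Q98593 : ∀ i, i < 98593 → P i := stepQ 98592 Q98592 (allL N98592 (tt N119651 D222910) (tt N119652 D222911) (tt N108276 (iv2 F461826)) (tt N114850 (iv3 F492174)) (tt N61594 (iv4 D201705)) (tt N119335 (iv5 F515084)) (tt N61595 F421482) (tt N108783 (iv7 F463912)))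
theorem Q98594 : ∀ i, i < 98594 → P i := stepQ 98593 Q98593 (allL N98593 (tt N92273 F421488) (tt N106135 F453296) (tt N106133 F453285) (tt N61597 (iv3 D201706)) (tt N71141 (iv4 F421485)) (tt N98028 F421483) (tt N119025 (iv6 F513352)) (tt N61617 F421484))
theorem Q98595 : ∀ i, i < 98595 → P i := stepQ 98594 Q98594 (allL N98594 (tt N119653 D222912) (tt N119654 D222913) (tt N109670 (iv2 F468029)) (tt N92838 F421491) (tt N106546 F454832) (tt N61598 (iv5 D201707)) (tt N106555 (iv6 F454841)) (tt N98515 F421492))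
theorem Q98596 : ∀ i, i < 98596 → P i := stepQ 98595 Q98595 (allL N98595 (tt N110866 (iv1 F473519)) (tt N72170 (iv0 F421496)) (tt N109671 (iv2 F468034)) (tt N92839 F421493) (tt N61600 F421494) (tt N72155 F421495) (tt N61598 (iv6 D201708)) (tt N110860 (iv7 F473481)))
theorem Q98597 : ∀ i, i < 98597 → P i := stepQ 98596 Q98596 (allL N98596 (tt N98513 (iv1 F421499)) (tt N61599 (iv0 D201709)) (tt N76393 (iv2 F421498)) (tt N109406 F466803) (tt N119475 (iv4 F515811)) (tt N76316 F421497) (tt N110524 (iv6 F471977)) (tt N74932 F421500))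
theorem Q98598 : ∀ i, i < 98598 → P i := stepQ 98597 Q98597 (allL N98597 (tt N105914 F452324) (tt N97987 F421526) (tt N105913 F452319) (tt N61604 F421527) (tt N61599 (iv4 D201710)) (tt N111259 (iv5 F475490)) (tt N61599 F421528) (tt N98517 F421501))
theorem Q98599 : ∀ i, i < 98599 → P i := stepQ 98598 Q98598 (allL N98598 (tt N98484 (iv1 F421508)) (tt N98482 (iv0 F421507)) (tt N98488 F421504) (tt N61601 (iv3 D201712)) (tt N109756 (iv4 F468470)) (tt N75562 F421505) (tt N109666 (iv6 F468011)) (tt N98489 F421506))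
theorem Q98600 : ∀ i, i < 98600 → P i := stepQ 98599 Q98599 (allL N98599 (tt N78854 F421511) (tt N78849 F421512) (tt N98279 F421509) (tt N104592 (iv3 F446445)) (tt N61601 (iv4 D201713)) (tt N117945 (iv5 F507722)) (tt N103403 (iv6 F441462)) (tt N98506 F421510))
theorem Q98601 : ∀ i, i < 98601 → P i := stepQ 98600 Q98600 (allL N98600 (tt N86136 F421516) (tt N86130 (iv0 F421517)) (tt N86133 F421513) (tt N109666 (iv3 F468009)) (tt N103403 F441461) (tt N68132 F421514) (tt N61601 (iv6 D201714)) (tt N86134 F421515))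
theorem Q98602 : ∀ i, i < 98602 → P i := stepQ 98601 Q98601 (allL N98601 (tt N78849 F421520) (tt N78854 F421521) (tt N98506 F421518) (tt N119655 D222914) (tt N61602 (iv4 D201715)) (tt N118128 (iv5 F508747)) (tt N103192 F440501) (tt N98279 F421519))
theorem Q98603 : ∀ i, i < 98603 → P i := stepQ 98602 Q98602 (allL N98602 (tt N111250 (iv1 F475436)) (tt N119642 (iv0 F516666)) (tt N98509 F421522) (tt N61603 (iv3 D201716)) (tt N61604 (iv4 F421524)) (tt N114351 (iv5 F489769)) (tt N61603 (iv6 F421525)) (tt N98522 F421523))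
theorem Q98604 : ∀ i, i < 98604 → P i := stepQ 98603 Q98603 (allL N98603 (tt N92782 F421532) (tt N92833 F421533) (tt N98024 F421529) (tt N114351 (iv3 F489767)) (tt N92180 F421530) (tt N61603 (iv5 D201717)) (tt N114350 (iv6 F489766)) (tt N98022 F421531))
theorem Q98605 : ∀ i, i < 98605 → P i := stepQ 98604 Q98604 (allL N98604 (tt N98512 (iv1 F421547)) (tt N61604 (iv0 D201718)) (tt N98510 (iv2 F421536)) (tt N97982 (iv3 F421537)) (tt N109447 (iv4 F467002)) (tt N78915 F421535) (tt N61624 (iv6 F421539)) (tt N98511 (iv7 F421538)))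
theorem Q98606 : ∀ i, i < 98606 → P i := stepQ 98605 Q98605 (allL N98605 (tt N61604 (iv1 D201719)) (tt N98512 F421540) (tt N98511 F421544) (tt N70686 F421545) (tt N119656 D222915) (tt N70684 (iv5 F421542)) (tt N97919 (iv6 F421543)) (tt N98510 F421541))
theorem Q98607 : ∀ i, i < 98607 → P i := stepQ 98606 Q98606 (allL N98606 (tt N98511 (iv1 F421552)) (tt N98510 F421553) (tt N98512 F421548) (tt N98517 F421549) (tt N98522 F421550) (tt N109660 (iv5 F467974)) (tt N98524 F421551) (tt N61604 (iv7 D201720)))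
theorem Q98608 : ∀ i, i < 98608 → P i := stepQ 98607 Q98607 (allL N98607 (tt N98503 (iv1 F421555)) (tt N61606 (iv0 D201721)) (tt N98504 F421558) (tt N113906 (iv3 F487716)) (tt N118637 (iv4 F511274)) (tt N86110 F421554) (tt N86053 (iv6 F421556)) (tt N86145 F421557))
theorem Q98609 : ∀ i, i < 98609 → P i := stepQ 98608 Q98608 (allL N98608 (tt N61606 (iv1 D201722)) (tt N98503 F421559) (tt N86145 F421563) (tt N108444 (iv3 F462598)) (tt N119228 (iv4 F514481)) (tt N86111 (iv5 F421561)) (tt N85883 (iv6 F421562)) (tt N98504 F421560))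
theorem Q98610 : ∀ i, i < 98610 → P i := stepQ 98609 Q98609 (allL N98609 (tt N93457 (iv1 F432654)) (tt N101323 (iv0 F432653)) (tt N119164 (iv2 F514142)) (tt N74591 F421564) (tt N61606 (iv4 D201723)) (tt N74588 (iv5 F421567)) (tt N86174 F421565) (tt N74587 F421566))
theorem Q98611 : ∀ i, i < 98611 → P i := stepQ 98610 Q98610 (allL N98610 (tt N113537 F485938) (tt N98234 (iv0 F421570)) (tt N98523 F421568) (tt N119422 (iv3 F515527)) (tt N61609 F421569) (tt N119199 (iv5 F514322)) (tt N61608 (iv6 D201724)) (tt N119587 (iv7 F516401)))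
theorem Q98612 : ∀ i, i < 98612 → P i := stepQ 98611 Q98611 (allL N98611 (tt N109661 (iv1 F467978)) (tt N109651 (iv0 F467931)) (tt N98322 F421571) (tt N86175 F421572) (tt N73509 F421575) (tt N61609 (iv5 D201725)) (tt N61610 F421573) (tt N98264 F421574))
theorem Q98613 : ∀ i, i < 98613 → P i := stepQ 98612 Q98612 (allL N98612 (tt N108879 (iv1 F464344)) (tt N108878 (iv0 F464338)) (tt N118196 (iv2 F509087)) (tt N61613 (iv3 D201726)) (tt N96026 F421576) (tt N118993 (iv5 F513166)) (tt N71091 F421585) (tt N98525 F421577))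
theorem Q98614 : ∀ i, i < 98614 → P i := stepQ 98613 Q98613 (allL N98613 (tt N104362 (iv1 F445436)) (tt N104705 F446935) (tt N98017 F421578) (tt N118993 (iv3 F513165)) (tt N92176 F421579) (tt N61613 (iv5 D201727)) (tt N106151 (iv6 F453365)) (tt N98020 F421580))
theorem Q98615 : ∀ i, i < 98615 → P i := stepQ 98614 Q98614 (allL N98614 (tt N103719 F442573) (tt N114584 (iv0 F490873)) (tt N98529 F421581) (tt N71091 (iv3 F421584)) (tt N61614 F421582) (tt N97922 (iv5 F421583)) (tt N61613 (iv6 D201728)) (tt N114907 (iv7 F492467)))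
theorem Q98616 : ∀ i, i < 98616 → P i := stepQ 98615 Q98615 (allL N98615 (tt N116890 F502374) (tt N116868 (iv0 F502265)) (tt N116888 F502361) (tt N61615 (iv3 D201729)) (tt N108786 (iv4 F463927)) (tt N92279 (iv5 F421591)) (tt N61650 (iv6 F421604)) (tt N98532 F421590))
theorem Q98617 : ∀ i, i < 98617 → P i := stepQ 98616 Q98616 (allL N98616 (tt N116257 F499248) (tt N117976 F507881) (tt N93239 F421592) (tt N92279 F421593) (tt N92187 F421595) (tt N61615 (iv5 D201730)) (tt N92277 (iv6 F421596)) (tt N98032 F421594))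
theorem Q98618 : ∀ i, i < 98618 → P i := stepQ 98617 Q98617 (allL N98617 (tt N85291 (iv1 F421602)) (tt N85290 (iv0 F421601)) (tt N84848 F421598) (tt N61650 F421603) (tt N78856 F421599) (tt N119657 D222916) (tt N61615 (iv6 D201731)) (tt N85284 (iv7 F421600)))
theorem Q98619 : ∀ i, i < 98619 → P i := stepQ 98618 Q98618 (allL N98618 (tt N119658 D222917) (tt N103598 (iv0 F447056)) (tt N119659 D222918) (tt N61616 (iv3 D201732)) (tt N119660 D222919) (tt N104732 (iv5 F447033)) (tt N119661 D222920) (tt N98531 F421611))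
theorem Q98620 : ∀ i, i < 98620 → P i := stepQ 98619 Q98619 (allL N98619 (tt N117976 F507880) (tt N116257 F499249) (tt N98032 F421612) (tt N104732 F447032) (tt N92184 F421613) (tt N61616 (iv5 D201733)) (tt N113141 (iv6 F484157)) (tt N93239 F421614))
theorem Q98621 : ∀ i, i < 98621 → P i := stepQ 98620 Q98620 (allL N98620 (tt N68852 F421619) (tt N92268 F421620) (tt N92269 F421615) (tt N119661 (iv3 F516776)) (tt N78858 F421616) (tt N68869 (iv5 F421618)) (tt N61616 (iv6 D201734)) (tt N85294 F421617))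
theorem Q98622 : ∀ i, i < 98622 → P i := stepQ 98621 Q98621 (allL N98621 (tt N106133 (iv1 F453287)) (tt N61617 (iv0 D201735)) (tt N106135 (iv2 F453292)) (tt N109181 (iv3 F465686)) (tt N91671 (iv4 F453289)) (tt N119662 D222921) (tt N91670 (iv6 F453290)) (tt N92273 F453288))
theorem Q98623 : ∀ i, i < 98623 → P i := stepQ 98622 Q98622 (allL N98622 (tt N106135 (iv1 F453297)) (tt N92273 F421624) (tt N61617 (iv2 D201737)) (tt N98535 F421621) (tt N71140 F421622) (tt N119663 D222922) (tt N61651 F421623) (tt N106133 (iv7 F453284)))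
theorem Q98624 : ∀ i, i < 98624 → P i := stepQ 98623 Q98623 (allL N98623 (tt N109176 F465678) (tt N119664 D222923) (tt N119663 (iv2 F516784)) (tt N61618 F421625) (tt N119665 D222924) (tt N61617 (iv5 D201738)) (tt N109162 (iv6 F465634)) (tt N98028 F421626))
theorem Q98625 : ∀ i, i < 98625 → P i := stepQ 98624 Q98624 (allL N98624 (tt N92181 (iv1 F421629)) (tt N61618 (iv0 D201739)) (tt N98027 (iv2 F421630)) (tt N119666 D222925) (tt N92249 F421628) (tt N78849 F421627) (tt N114358 (iv6 F489792)) (tt N98026 (iv7 F421631)))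
theorem Q98626 : ∀ i, i < 98626 → P i := stepQ 98625 Q98625 (allL N98625 (tt N61618 (iv1 D201740)) (tt N92181 F421632) (tt N98026 (iv2 F421636)) (tt N103596 (iv3 F442778)) (tt N92244 F421635) (tt N78854 F421634) (tt N104370 (iv6 F445460)) (tt N98027 F421633))
theorem Q98627 : ∀ i, i < 98627 → P i := stepQ 98626 Q98626 (allL N98626 (tt N119667 D222926) (tt N119668 D222927) (tt N98054 F421637) (tt N109162 F465632) (tt N98029 F421638) (tt N61653 F421639) (tt N61618 (iv6 D201741)) (tt N119464 (iv7 F515756)))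
theorem Q98628 : ∀ i, i < 98628 → P i := stepQ 98627 Q98627 (allL N98627 (tt N98684 F421885) (tt N98686 (iv0 F458922)) (tt N116896 (iv2 F502400)) (tt N61619 (iv3 D201742)) (tt N100219 (iv4 F428045)) (tt N79032 F421640) (tt N114441 (iv6 F490185)) (tt N103190 (iv7 F440493)))
theorem Q98629 : ∀ i, i < 98629 → P i := stepQ 98628 Q98628 (allL N98628 (tt N92255 (iv1 F421644)) (tt N106139 F453315) (tt N106138 (iv2 F453312)) (tt N61620 (iv3 D201743)) (tt N71212 F421641) (tt N103190 (iv5 F440492)) (tt N107085 F456908) (tt N79032 F421642))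
theorem Q98630 : ∀ i, i < 98630 → P i := stepQ 98629 Q98629 (allL N98629 (tt N69087 F421648) (tt N119669 D222928) (tt N116349 (iv2 F499658)) (tt N61621 (iv3 D201744)) (tt N85709 F421645) (tt N98233 F421646) (tt N85708 (iv6 F421649)) (tt N79050 F421647))
theorem Q98631 : ∀ i, i < 98631 → P i := stepQ 98630 Q98630 (allL N98630 (tt N98523 F421653) (tt N119587 (iv0 F516402)) (tt N98234 F421650) (tt N85708 F421651) (tt N66806 F421652) (tt N119670 D222929) (tt N61621 (iv6 D201745)) (tt N113537 (iv7 F485937)))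
theorem Q98632 : ∀ i, i < 98632 → P i := stepQ 98631 Q98631 (allL N98631 (tt N61622 (iv1 D201746)) (tt N85875 F421654) (tt N85282 (iv2 F421657)) (tt N113533 (iv3 F485919)) (tt N79049 F421656) (tt N111152 (iv5 F474952)) (tt N113537 (iv6 F485936)) (tt N79048 F421655))
theorem Q98633 : ∀ i, i < 98633 → P i := stepQ 98632 Q98632 (allL N98632 (tt N119555 (iv1 F516228)) (tt N119671 D222930) (tt N86131 F421658) (tt N61623 F421659) (tt N86130 F421660) (tt N119672 D222931) (tt N61622 (iv6 D201747)) (tt N119530 (iv7 F516088)))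
theorem Q98634 : ∀ i, i < 98634 → P i := stepQ 98633 Q98633 (allL N98633 (tt N61623 (iv1 D201748)) (tt N111153 F474960) (tt N98701 (iv2 F421909)) (tt N67709 F421664) (tt N78806 F421661) (tt N67708 (iv5 F421663)) (tt N119529 F516082) (tt N98698 (iv7 F421892)))
theorem Q98635 : ∀ i, i < 98635 → P i := stepQ 98634 Q98634 (allL N98634 (tt N103836 (iv1 F443022)) (tt N69083 F421667) (tt N71082 F421665) (tt N119672 (iv3 F516838)) (tt N66149 F421666) (tt N61623 (iv5 D201749)) (tt N98670 (iv6 F421803)) (tt N97883 (iv7 F421668)))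
theorem Q98636 : ∀ i, i < 98636 → P i := stepQ 98635 Q98635 (allL N98635 (tt N98701 (iv1 F421913)) (tt N98698 (iv0 F421894)) (tt N111153 (iv2 F474955)) (tt N119530 (iv3 F516086)) (tt N61626 F421669) (tt N97883 F421670) (tt N111156 (iv6 F474977)) (tt N61623 (iv7 D201750)))
theorem Q98637 : ∀ i, i < 98637 → P i := stepQ 98636 Q98636 (allL N98636 (tt N70188 F421674) (tt N94000 (iv0 F421672)) (tt N100227 F428068) (tt N61624 (iv3 D201751)) (tt N107002 (iv4 F456604)) (tt N94019 F421673) (tt N97982 F421671) (tt N100228 (iv7 F428067)))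
theorem Q98638 : ∀ i, i < 98638 → P i := stepQ 98637 Q98637 (allL N98637 (tt N92266 F421677) (tt N61657 (iv0 F421678)) (tt N67673 F421675) (tt N104485 (iv3 F445972)) (tt N61624 (iv4 D201752)) (tt N67672 F421676) (tt N109447 (iv6 F467000)) (tt N104466 (iv7 F445888)))
theorem Q98639 : ∀ i, i < 98639 → P i := stepQ 98638 Q98638 (allL N98638 (tt N79894 F421683) (tt N86858 (iv0 F421684)) (tt N86861 F421679) (tt N94019 F421680) (tt N68735 F421681) (tt N61624 (iv5 D201753)) (tt N118052 (iv6 F508309)) (tt N86862 F421682))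
theorem Q98640 : ∀ i, i < 98640 → P i := stepQ 98639 Q98639 (allL N98639 (tt N86137 F421688) (tt N77534 (iv0 F421689)) (tt N85876 F421685) (tt N61627 (iv3 D201754)) (tt N61629 F421686) (tt N77510 F421690) (tt N119039 (iv6 F513432)) (tt N86055 F421687))
theorem Q98641 : ∀ i, i < 98641 → P i := stepQ 98640 Q98640 (allL N98640 (tt N77525 F421696) (tt N72304 F421697) (tt N86050 F421691) (tt N77510 F421692) (tt N85119 F421693) (tt N61627 (iv5 D201755)) (tt N94540 F421694) (tt N86056 F421695))
theorem Q98642 : ∀ i, i < 98642 → P i := stepQ 98641 Q98641 (allL N98641 (tt N61628 (iv1 D201757)) (tt N86054 F421698) (tt N86053 F421701) (tt N73592 (iv3 F421700)) (tt N118974 (iv4 F513063)) (tt N73591 F421699) (tt N98504 F421702) (tt N86052 F421703))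
theorem Q98643 : ∀ i, i < 98643 → P i := stepQ 98642 Q98642 (allL N98642 (tt N86053 (iv1 F421709)) (tt N86052 F421710) (tt N86054 F421705) (tt N61633 F421706) (tt N105027 (iv4 F448452)) (tt N85829 F421707) (tt N86060 F421708) (tt N61628 (iv7 D201758)))
theorem Q98644 : ∀ i, i < 98644 → P i := stepQ 98643 Q98643 (allL N98643 (tt N61629 (iv1 D201759)) (tt N86099 (iv0 F421712)) (tt N111151 F474948) (tt N69092 (iv3 F441482)) (tt N119145 (iv4 F514025)) (tt N79048 F421711) (tt N111151 (iv6 F474946)) (tt N111152 (iv7 F474951)))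
theorem Q98645 : ∀ i, i < 98645 → P i := stepQ 98644 Q98644 (allL N98644 (tt N111152 (iv1 F474950)) (tt N111151 F474947) (tt N61629 (iv2 D201760)) (tt N85875 F421713) (tt N85876 F421714) (tt N85864 F421715) (tt N119027 F513362) (tt N86099 F421716))
theorem Q98646 : ∀ i, i < 98646 → P i := stepQ 98645 Q98645 (allL N98645 (tt N111156 (iv1 F474979)) (tt N61630 (iv0 D201762)) (tt N98212 (iv2 F421719)) (tt N103846 (iv3 F443190)) (tt N67121 F421718) (tt N117974 (iv5 F507867)) (tt N119671 F516835) (tt N98708 (iv7 F421948)))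
theorem Q98647 : ∀ i, i < 98647 → P i := stepQ 98646 Q98646 (allL N98646 (tt N61630 (iv1 D201763)) (tt N111156 F474978) (tt N98708 (iv2 F421946)) (tt N116276 (iv3 F499313)) (tt N66783 F421721) (tt N116275 (iv5 F499310)) (tt N98508 (iv6 F421722)) (tt N98212 F421720))
theorem Q98648 : ∀ i, i < 98648 → P i := stepQ 98647 Q98647 (allL N98647 (tt N98708 F421950) (tt N98212 (iv0 F421725)) (tt N111156 (iv2 F474973)) (tt N119028 F513368) (tt N61633 F421723) (tt N97838 F421724) (tt N111153 (iv6 F474959)) (tt N61630 (iv7 D201764)))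
theorem Q98649 : ∀ i, i < 98649 → P i := stepQ 98648 Q98648 (allL N98648 (tt N103193 (iv1 F440507)) (tt N61665 F421728) (tt N97731 F421726) (tt N105207 F449209) (tt N61631 (iv4 D201765)) (tt N97728 F421727) (tt N103404 F441466) (tt N103192 (iv7 F440497)))
theorem Q98650 : ∀ i, i < 98650 → P i := stepQ 98649 Q98649 (allL N98649 (tt N86130 (iv1 F421733)) (tt N86136 (iv0 F421732)) (tt N86134 F421729) (tt N112029 (iv3 F479150)) (tt N103404 (iv4 F441465)) (tt N68133 F421731) (tt N61631 (iv6 D201766)) (tt N86133 F421730))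
theorem Q98651 : ∀ i, i < 98651 → P i := stepQ 98650 Q98650 (allL N98650 (tt N61665 F421737) (tt N103193 F440506) (tt N103192 F440500) (tt N66610 F421738) (tt N61632 (iv4 D201767)) (tt N66609 F421734) (tt N98506 F421735) (tt N97731 F421736))
theorem Q98652 : ∀ i, i < 98652 → P i := stepQ 98651 Q98651 (allL N98651 (tt N109715 (iv1 F468255)) (tt N61634 (iv0 D201768)) (tt N109713 (iv2 F468241)) (tt N106319 F454011) (tt N114594 (iv4 F490925)) (tt N86540 F421741) (tt N114986 (iv6 F492923)) (tt N109714 (iv7 F468244)))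
theorem Q98653 : ∀ i, i < 98653 → P i := stepQ 98652 Q98652 (allL N98652 (tt N61634 (iv1 D201769)) (tt N109715 F468254) (tt N109714 F468248) (tt N76233 (iv3 F421745)) (tt N114308 (iv4 F489517)) (tt N86539 (iv5 F421742)) (tt N114764 (iv6 F491738)) (tt N109713 (iv7 F468242)))
theorem Q98654 : ∀ i, i < 98654 → P i := stepQ 98653 Q98653 (allL N98653 (tt N109714 (iv1 F468243)) (tt N109713 (iv0 F468240)) (tt N109715 (iv2 F468249)) (tt N61639 F421746) (tt N98527 F421747) (tt N104012 (iv5 F443784)) (tt N98526 F421748) (tt N61634 (iv7 D201770)))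
theorem Q98655 : ∀ i, i < 98655 → P i := stepQ 98654 Q98654 (allL N98654 (tt N114584 (iv1 F490874)) (tt N103719 F442574) (tt N114907 (iv2 F492464)) (tt N61636 F421749) (tt N98530 F421750) (tt N97923 (iv5 F421752)) (tt N61635 (iv6 D201771)) (tt N98529 F421751))
theorem Q98656 : ∀ i, i < 98656 → P i := stepQ 98655 Q98655 (allL N98655 (tt N111165 (iv1 F475037)) (tt N61636 (iv0 D201772)) (tt N111163 (iv2 F475022)) (tt N103648 (iv3 F442353)) (tt N92859 F421753) (tt N67379 F421754) (tt N114584 (iv6 F490872)) (tt N111164 (iv7 F475026)))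
theorem Q98657 : ∀ i, i < 98657 → P i := stepQ 98656 Q98656 (allL N98656 (tt N61636 (iv1 D201773)) (tt N111165 F475036) (tt N111164 F475029) (tt N115334 (iv3 F494641)) (tt N92860 F421755) (tt N67375 (iv5 F421756)) (tt N113118 (iv6 F484048)) (tt N111163 F475024))
theorem Q98658 : ∀ i, i < 98658 → P i := stepQ 98657 Q98657 (allL N98657 (tt N103292 (iv1 F441014)) (tt N103291 (iv0 F441012)) (tt N103689 (iv2 F442484)) (tt N97923 F421757) (tt N97682 (iv4 F421759)) (tt N61636 (iv5 D201774)) (tt N97681 F421758) (tt N119500 (iv7 F515929)))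
theorem Q98659 : ∀ i, i < 98659 → P i := stepQ 98658 Q98658 (allL N98658 (tt N111164 (iv1 F475025)) (tt N111163 (iv0 F475023)) (tt N111165 (iv2 F475031)) (tt N98529 F421760) (tt N61639 F421761) (tt N119500 (iv5 F515928)) (tt N98528 F421762) (tt N61636 (iv7 D201775)))
theorem Q98660 : ∀ i, i < 98660 → P i := stepQ 98659 Q98659 (allL N98659 (tt N94006 (iv1 F421768)) (tt N85084 F421769) (tt N94004 (iv2 F421765)) (tt N61637 (iv3 D201776)) (tt N76485 (iv4 F421766)) (tt N76409 (iv5 F421767)) (tt N85139 F421763) (tt N94005 F421764))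
theorem Q98661 : ∀ i, i < 98661 → P i := stepQ 98660 Q98660 (allL N98660 (tt N106127 (iv1 F453252)) (tt N61646 (iv0 F421774)) (tt N92271 F421770) (tt N69120 F421773) (tt N61637 (iv4 D201777)) (tt N69119 (iv5 F421772)) (tt N92268 F421771) (tt N103401 (iv7 F441450)))
theorem Q98662 : ∀ i, i < 98662 → P i := stepQ 98661 Q98661 (allL N98661 (tt N86135 F421777) (tt N97175 (iv0 F421778)) (tt N104051 F443937) (tt N76409 F421775) (tt N93140 (iv4 F421779)) (tt N61637 (iv5 D201778)) (tt N118097 (iv6 F508568)) (tt N94137 F421776))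
theorem Q98663 : ∀ i, i < 98663 → P i := stepQ 98662 Q98662 (allL N98662 (tt N61646 (iv1 F421783)) (tt N106127 (iv0 F453253)) (tt N103401 (iv2 F441448)) (tt N92276 (iv3 F421781)) (tt N61638 (iv4 D201780)) (tt N92257 (iv5 F421782)) (tt N119673 D222932) (tt N92271 F421780))
theorem Q98664 : ∀ i, i < 98664 → P i := stepQ 98663 Q98663 (allL N98663 (tt N97175 F421787) (tt N86135 (iv0 F421789)) (tt N94137 F421785) (tt N79902 F421786) (tt N97166 (iv4 F421790)) (tt N61638 (iv5 D201781)) (tt N69491 F421788) (tt N104051 (iv7 F443938)))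
theorem Q98665 : ∀ i, i < 98665 → P i := stepQ 98664 Q98664 (allL N98664 (tt N98336 F421791) (tt N98337 (iv0 F467981)) (tt N111166 (iv2 F475038)) (tt N119611 (iv3 F516504)) (tt N119673 (iv4 F516846)) (tt N109661 F467980) (tt N61638 (iv6 D201782)) (tt N118096 (iv7 F508563)))
theorem Q98666 : ∀ i, i < 98666 → P i := stepQ 98665 Q98665 (allL N98665 (tt N111162 (iv1 F475010)) (tt N61640 (iv0 D201783)) (tt N111161 F475012) (tt N103655 F442380) (tt N99334 F424145) (tt N85287 F421792) (tt N108879 (iv6 F464342)) (tt N103727 (iv7 F442599)))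
theorem Q98667 : ∀ i, i < 98667 → P i := stepQ 98666 Q98666 (allL N98666 (tt N61640 (iv1 D201784)) (tt N111162 F475017) (tt N103727 (iv2 F475016)) (tt N108006 (iv3 F460691)) (tt N96629 (iv4 F421794)) (tt N85289 F421793) (tt N96628 F421795) (tt N111161 F475015))
theorem Q98668 : ∀ i, i < 98668 → P i := stepQ 98667 Q98667 (allL N98667 (tt N108878 (iv1 F464339)) (tt N108879 (iv0 F464343)) (tt N98525 F421797) (tt N61641 F421798) (tt N96028 F421799) (tt N118994 (iv5 F513170)) (tt N61640 (iv6 D201785)) (tt N118196 (iv7 F509089)))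
theorem Q98669 : ∀ i, i < 98669 → P i := stepQ 98668 Q98668 (allL N98668 (tt N98528 (iv1 F421808)) (tt N61641 (iv0 D201786)) (tt N111169 F475057) (tt N119674 D222933) (tt N92862 (iv4 F460301)) (tt N111236 F475363) (tt N117951 (iv6 F507755)) (tt N111170 (iv7 F475062)))
theorem Q98670 : ∀ i, i < 98670 → P i := stepQ 98669 Q98669 (allL N98669 (tt N61641 (iv1 D201787)) (tt N98528 F421800) (tt N111170 (iv2 F475065)) (tt N104697 F446909) (tt N92863 F421801) (tt N119675 D222934) (tt N111167 F475046) (tt N111169 F475059))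
theorem Q98671 : ∀ i, i < 98671 → P i := stepQ 98670 Q98670 (allL N98670 (tt N109431 (iv1 F466924)) (tt N78914 (iv0 F421805)) (tt N106141 (iv2 F453318)) (tt N118994 (iv3 F513169)) (tt N75735 (iv4 F421804)) (tt N61641 (iv5 D201788)) (tt N98634 F421803) (tt N109429 (iv7 F466913)))
theorem Q98672 : ∀ i, i < 98672 → P i := stepQ 98671 Q98671 (allL N98671 (tt N111170 (iv1 F475061)) (tt N111169 F475056) (tt N98528 F421806) (tt N118196 (iv3 F509088)) (tt N61644 F421807) (tt N109429 (iv5 F466916)) (tt N111165 (iv6 F475035)) (tt N61641 (iv7 D201789)))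
theorem Q98673 : ∀ i, i < 98673 → P i := stepQ 98672 Q98672 (allL N98672 (tt N106129 F453268) (tt N61648 (iv0 F421835)) (tt N103493 (iv2 F441849)) (tt N116890 (iv3 F502370)) (tt N61642 (iv4 D201791)) (tt N103490 F441847) (tt N119442 (iv6 F515647)) (tt N111173 (iv7 F475081)))
theorem Q98674 : ∀ i, i < 98674 → P i := stepQ 98673 Q98673 (allL N98673 (tt N109660 (iv1 F467977)) (tt N75704 (iv0 F421810)) (tt N111171 (iv2 F475066)) (tt N104053 F443944) (tt N119676 D222935) (tt N61642 (iv5 D201792)) (tt N119677 D222936) (tt N85053 F421809))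
theorem Q98675 : ∀ i, i < 98675 → P i := stepQ 98674 Q98674 (allL N98674 (tt N102956 (iv1 F439433)) (tt N114990 (iv0 F492949)) (tt N100202 (iv2 F427969)) (tt N111802 (iv3 F478045)) (tt N119442 (iv4 F515646)) (tt N80025 F421811) (tt N61642 (iv6 D201793)) (tt N109566 (iv7 F467560)))
theorem Q98676 : ∀ i, i < 98676 → P i := stepQ 98675 Q98675 (allL N98675 (tt N61648 F426361) (tt N106129 F453267) (tt N111173 (iv2 F475078)) (tt N103499 (iv3 F441868)) (tt N61643 (iv4 D201794)) (tt N103494 (iv5 F441857)) (tt N85291 F421812) (tt N103493 F441853))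
theorem Q98677 : ∀ i, i < 98677 → P i := stepQ 98676 Q98676 (allL N98676 (tt N75704 F421816) (tt N109660 (iv0 F467976)) (tt N85053 F421813) (tt N85020 F421814) (tt N114413 (iv4 F490027)) (tt N61643 (iv5 D201795)) (tt N75719 F421815) (tt N111171 (iv7 F475068)))
theorem Q98678 : ∀ i, i < 98678 → P i := stepQ 98677 Q98677 (allL N98677 (tt N105128 (iv1 F448920)) (tt N61647 (iv0 D201796)) (tt N90074 (iv2 F421818)) (tt N114579 (iv3 F490853)) (tt N110034 (iv4 F469655)) (tt N90033 F421817) (tt N119658 F516763) (tt N90081 (iv7 F421819)))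
theorem Q98679 : ∀ i, i < 98679 → P i := stepQ 98678 Q98678 (allL N98678 (tt N61647 (iv1 D201797)) (tt N105128 (iv0 F448919)) (tt N90081 (iv2 F421826)) (tt N95120 (iv3 F421822)) (tt N93292 F421824) (tt N90035 F421821) (tt N93291 F421825) (tt N90074 F421820))
theorem Q98680 : ∀ i, i < 98680 → P i := stepQ 98679 Q98679 (allL N98679 (tt N114796 (iv1 F491915)) (tt N93561 (iv0 F421831)) (tt N85614 F421827) (tt N78866 F421828) (tt N61647 (iv4 D201798)) (tt N74535 F421830) (tt N96159 (iv6 F421832)) (tt N89071 F421829))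
theorem Q98681 : ∀ i, i < 98681 → P i := stepQ 98680 Q98680 (allL N98680 (tt N102796 F438680) (tt N85000 (iv0 F437916)) (tt N109181 (iv2 F465689)) (tt N61648 F421833) (tt N96159 F421834) (tt N102617 (iv5 F437915)) (tt N61647 (iv6 D201799)) (tt N109182 (iv7 F465691)))
theorem Q98682 : ∀ i, i < 98682 → P i := stepQ 98681 Q98681 (allL N98681 (tt N111173 (iv1 F475083)) (tt N103493 (iv0 F441855)) (tt N106129 (iv2 F453263)) (tt N109182 F465692) (tt N78870 F421836) (tt N104715 (iv5 F446961)) (tt N106127 F453254) (tt N61648 (iv7 D201801)))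
theorem Q98683 : ∀ i, i < 98683 → P i := stepQ 98682 Q98682 (allL N98682 (tt N95120 (iv1 F421839)) (tt N109174 F465674) (tt N85292 F421837) (tt N61649 (iv3 D201802)) (tt N85309 F421838) (tt N115136 (iv5 F493662)) (tt N117773 (iv6 F506897)) (tt N119538 (iv7 F516130)))
theorem Q98684 : ∀ i, i < 98684 → P i := stepQ 98683 Q98683 (allL N98683 (tt N73280 F421842) (tt N106397 (iv0 F454287)) (tt N106428 (iv2 F454385)) (tt N113465 (iv3 F485611)) (tt N61649 (iv4 D201803)) (tt N75875 (iv5 F421841)) (tt N64907 F421840) (tt N119539 (iv7 F516137)))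
theorem Q98685 : ∀ i, i < 98685 → P i := stepQ 98684 Q98684 (allL N98684 (tt N116352 F499677) (tt N98627 (iv0 F421885)) (tt N109167 (iv2 F465652)) (tt N115136 (iv3 F493660)) (tt N84761 (iv4 F421844)) (tt N61649 (iv5 D201804)) (tt N75584 F421843) (tt N114891 (iv7 F492375)))
theorem Q98686 : ∀ i, i < 98686 → P i := stepQ 98685 Q98685 (allL N98685 (tt N106397 F454286) (tt N73280 (iv0 F421846)) (tt N119539 (iv2 F516134)) (tt N85350 F421845) (tt N61650 (iv4 D201805)) (tt N113481 (iv5 F485692)) (tt N108786 F463928) (tt N106428 F454388))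
theorem Q98687 : ∀ i, i < 98687 → P i := stepQ 98686 Q98686 (allL N98686 (tt N98627 F458922) (tt N116352 (iv0 F499675)) (tt N114891 (iv2 F492372)) (tt N119657 (iv3 F516752)) (tt N109204 (iv4 F465780)) (tt N61650 (iv5 D201806)) (tt N92278 F421847) (tt N109167 (iv7 F465655)))
theorem Q98688 : ∀ i, i < 98688 → P i := stepQ 98687 Q98687 (allL N98687 (tt N78795 (iv1 F421851)) (tt N78794 F421854) (tt N61652 F421848) (tt N98057 F421849) (tt N119678 D222937) (tt N61651 (iv5 D201807)) (tt N119679 D222938) (tt N78796 F421850))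
theorem Q98689 : ∀ i, i < 98689 → P i := stepQ 98688 Q98688 (allL N98688 (tt N78796 (iv1 F421857)) (tt N61652 (iv0 D201808)) (tt N78795 (iv2 F421858)) (tt N109172 F499236) (tt N116336 (iv4 F499615)) (tt N92255 F421855) (tt N92256 (iv6 F421859)) (tt N78794 (iv7 F421860)))
theorem Q98690 : ∀ i, i < 98690 → P i := stepQ 98689 Q98689 (allL N98689 (tt N61652 (iv1 D201809)) (tt N78796 F421861) (tt N78794 (iv2 F421863)) (tt N117471 (iv3 F505198)) (tt N116333 (iv4 F499604)) (tt N106139 (iv5 F453314)) (tt N104580 (iv6 F446387)) (tt N78795 F421862))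
theorem Q98691 : ∀ i, i < 98691 → P i := stepQ 98690 Q98690 (allL N98690 (tt N109221 F465836) (tt N100613 (iv0 F442568)) (tt N119678 (iv2 F516868)) (tt N63313 F421864) (tt N61652 (iv4 D201810)) (tt N119680 D222939) (tt N109215 F465818) (tt N78766 F421865))
theorem Q98692 : ∀ i, i < 98692 → P i := stepQ 98691 Q98691 (allL N98691 (tt N109107 F465367) (tt N109118 (iv0 F465419)) (tt N119679 (iv2 F516874)) (tt N61653 F421866) (tt N109215 (iv4 F465816)) (tt N109162 F465633) (tt N61652 (iv6 D201811)) (tt N119638 (iv7 F516648)))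
theorem Q98693 : ∀ i, i < 98693 → P i := stepQ 98692 Q98692 (allL N98692 (tt N98037 (iv1 F421867)) (tt N61653 (iv0 D201812)) (tt N98051 (iv2 F421869)) (tt N118144 (iv3 F508836)) (tt N92794 F421868) (tt N119681 D222940) (tt N119574 (iv6 F516329)) (tt N98052 (iv7 F421870)))
theorem Q98694 : ∀ i, i < 98694 → P i := stepQ 98693 Q98693 (allL N98693 (tt N61653 (iv1 D201813)) (tt N98037 F421871) (tt N98052 (iv2 F421875)) (tt N109218 (iv3 F465824)) (tt N92795 F421873) (tt N119682 D222941) (tt N109170 F465665) (tt N98051 F421872))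
theorem Q98695 : ∀ i, i < 98695 → P i := stepQ 98694 Q98694 (allL N98694 (tt N98585 F421880) (tt N105805 (iv0 F451808)) (tt N63473 F421876) (tt N85921 F421877) (tt N98393 F421878) (tt N76579 F421879) (tt N61654 (iv6 D201814)) (tt N114305 (iv7 F489503)))
theorem Q98696 : ∀ i, i < 98696 → P i := stepQ 98695 Q98695 (allL N98695 (tt N109594 (iv1 F467640)) (tt N104585 (iv0 F446418)) (tt N76096 F421881) (tt N61657 F421882) (tt N63126 F421883) (tt N66208 (iv5 F421884)) (tt N61656 (iv6 D201815)) (tt N98745 (iv7 F422125)))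
theorem Q98697 : ∀ i, i < 98697 → P i := stepQ 98696 Q98696 (allL N98696 (tt N104466 (iv1 F445890)) (tt N67673 (iv0 F421890)) (tt N92266 F421887) (tt N98745 (iv3 F422123)) (tt N61660 F421888) (tt N68849 F421889) (tt N103193 (iv6 F440505)) (tt N61657 (iv7 D201816)))
theorem Q98698 : ∀ i, i < 98698 → P i := stepQ 98697 Q98697 (allL N98697 (tt N88452 F421897) (tt N88454 F421898) (tt N103053 (iv2 F439859)) (tt N61658 (iv3 D201817)) (tt N100644 (iv4 F429816)) (tt N87479 (iv5 F421899)) (tt N86741 (iv6 F429821)) (tt N107922 (iv7 F460305)))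
theorem Q98699 : ∀ i, i < 98699 → P i := stepQ 98698 Q98698 (allL N98698 (tt N98635 F421894) (tt N78769 F421895) (tt N97924 F421891) (tt N67867 F421896) (tt N61658 (iv4 D201818)) (tt N68902 F421893) (tt N109430 (iv6 F466918)) (tt N98633 F421892))
theorem Q98700 : ∀ i, i < 98700 → P i := stepQ 98699 Q98699 (allL N98699 (tt N78927 F421903) (tt N68737 F421904) (tt N110979 F474057) (tt N87479 F421900) (tt N97646 F421902) (tt N61658 (iv5 D201819)) (tt N118102 (iv6 F508603)) (tt N92975 F421901))
theorem Q98701 : ∀ i, i < 98701 → P i := stepQ 98700 Q98700 (allL N98700 (tt N98564 (iv1 F451216)) (tt N78850 (iv0 F421907)) (tt N97820 F421905) (tt N86741 F429822) (tt N109430 (iv4 F466919)) (tt N79055 F421906) (tt N61658 (iv6 D201820)) (tt N98563 (iv7 F421908)))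
theorem Q98702 : ∀ i, i < 98702 → P i := stepQ 98701 Q98701 (allL N98701 (tt N78769 F421912) (tt N98635 F421913) (tt N98633 F421909) (tt N94640 (iv3 F445978)) (tt N61659 (iv4 D201821)) (tt N97925 F421910) (tt N103737 F442630) (tt N97924 F421911))
theorem Q98703 : ∀ i, i < 98703 → P i := stepQ 98702 Q98702 (allL N98702 (tt N92636 F421916) (tt N92638 (iv0 F421917)) (tt N111189 (iv2 F475151)) (tt N94769 F421914) (tt N103737 (iv4 F442629)) (tt N97891 F421915) (tt N61659 (iv6 D201822)) (tt N97890 (iv7 F421918)))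
theorem Q98704 : ∀ i, i < 98704 → P i := stepQ 98703 Q98703 (allL N98703 (tt N61663 (iv1 D201823)) (tt N109369 (iv0 F466615)) (tt N74946 F421923) (tt N76573 F421924) (tt N94822 F421920) (tt N74945 (iv5 F421921)) (tt N98556 (iv6 F421922)) (tt N76668 F421919))
theorem Q98705 : ∀ i, i < 98705 → P i := stepQ 98704 Q98704 (allL N98704 (tt N74946 (iv1 F421928)) (tt N76668 F421929) (tt N109369 (iv2 F466611)) (tt N61667 F421925) (tt N95208 F421926) (tt N76654 F421927) (tt N111185 (iv6 F475134)) (tt N61663 (iv7 D201824)))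
theorem Q98706 : ∀ i, i < 98706 → P i := stepQ 98705 Q98705 (allL N98705 (tt N111187 (iv1 F475143)) (tt N111186 F475139) (tt N61664 (iv2 D201825)) (tt N83098 F421930) (tt N83142 F421931) (tt N69809 F421932) (tt N69810 (iv6 F421934)) (tt N83096 F421933))
theorem Q98707 : ∀ i, i < 98707 → P i := stepQ 98706 Q98706 (allL N98706 (tt N94960 (iv1 F421940)) (tt N94674 (iv0 F421939)) (tt N69810 F421935) (tt N61665 F421936) (tt N114475 (iv4 F490373)) (tt N61670 F421937) (tt N61664 (iv6 D201826)) (tt N94966 (iv7 F421938)))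
theorem Q98708 : ∀ i, i < 98708 → P i := stepQ 98707 Q98707 (allL N98707 (tt N103192 (iv1 F440496)) (tt N97731 (iv0 F421945)) (tt N103193 (iv2 F440502)) (tt N94966 F421941) (tt N61667 F421942) (tt N75088 F421943) (tt N92266 F421944) (tt N61665 (iv7 D201827)))
theorem Q98709 : ∀ i, i < 98709 → P i := stepQ 98708 Q98708 (allL N98708 (tt N78774 F421949) (tt N98647 (iv0 F421950)) (tt N98646 F421946) (tt N104706 (iv3 F446937)) (tt N61666 (iv4 D201828)) (tt N117946 (iv5 F507728)) (tt N98560 F421947) (tt N98645 F421948))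
theorem Q98710 : ∀ i, i < 98710 → P i := stepQ 98709 Q98709 (allL N98709 (tt N69806 (iv1 F421952)) (tt N61668 (iv0 D201829)) (tt N69805 F421964) (tt N102534 (iv3 F437546)) (tt N115796 (iv4 F496934)) (tt N94967 F421951) (tt N67808 (iv6 F421954)) (tt N69804 (iv7 F421955)))
theorem Q98711 : ∀ i, i < 98711 → P i := stepQ 98710 Q98710 (allL N98710 (tt N61668 (iv1 D201830)) (tt N69806 F421961) (tt N69804 (iv2 F421962)) (tt N119683 D222942) (tt N110856 (iv4 F473459)) (tt N105203 (iv5 F449193)) (tt N105496 F450475) (tt N69805 (iv7 F421963)))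
theorem Q98712 : ∀ i, i < 98712 → P i := stepQ 98711 Q98711 (allL N98711 (tt N69805 (iv1 F421966)) (tt N69804 F421960) (tt N61668 (iv2 D201831)) (tt N71070 F421956) (tt N69729 F421957) (tt N117763 (iv5 F506850)) (tt N86917 F421958) (tt N69806 F421959))
theorem Q98713 : ∀ i, i < 98713 → P i := stepQ 98712 Q98712 (allL N98712 (tt N61669 (iv1 D201832)) (tt N71070 F421973) (tt N67748 (iv2 F421974)) (tt N104584 (iv3 F446407)) (tt N103230 (iv4 F440682)) (tt N103404 (iv5 F441463)) (tt N104429 (iv6 F445720)) (tt N71069 (iv7 F421975)))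
theorem Q98714 : ∀ i, i < 98714 → P i := stepQ 98713 Q98713 (allL N98713 (tt N71069 (iv1 F421977)) (tt N67748 F421972) (tt N61669 (iv2 D201833)) (tt N69806 F421967) (tt N93224 F421968) (tt N78791 F421969) (tt N75089 F421970) (tt N71070 F421971))
theorem Q98715 : ∀ i, i < 98715 → P i := stepQ 98714 Q98714 (allL N98714 (tt N61955 F421983) (tt N61956 (iv0 F421984)) (tt N71081 F421978) (tt N61695 F421979) (tt N69100 F421980) (tt N68332 F421981) (tt N61671 (iv6 D201834)) (tt N70040 F421982))
theorem Q98716 : ∀ i, i < 98716 → P i := stepQ 98715 Q98715 (allL N98715 (tt N103822 F442960) (tt N103536 (iv0 F441974)) (tt N94485 (iv2 F421988)) (tt N61673 (iv3 D201835)) (tt N70326 F421987) (tt N109596 (iv5 F467646)) (tt N114407 (iv6 F489997)) (tt N94489 F421986))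
theorem Q98717 : ∀ i, i < 98717 → P i := stepQ 98716 Q98716 (allL N98716 (tt N69888 F421989) (tt N69080 (iv0 F421990)) (tt N103835 F443019) (tt N61674 (iv3 D201836)) (tt N105091 (iv4 F448752)) (tt N116882 (iv5 F502330)) (tt N119684 D222943) (tt N103832 (iv7 F443011)))
theorem Q98718 : ∀ i, i < 98718 → P i := stepQ 98717 Q98717 (allL N98717 (tt N97960 F421991) (tt N103547 (iv0 F442002)) (tt N102923 (iv2 F439281)) (tt N119684 (iv3 F516901)) (tt N102913 (iv4 F439244)) (tt N88689 F439245) (tt N61674 (iv6 D201837)) (tt N102921 (iv7 F439276)))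
theorem Q98719 : ∀ i, i < 98719 → P i := stepQ 98718 Q98718 (allL N98718 (tt N71096 (iv1 F421994)) (tt N61675 (iv0 D201838)) (tt N71094 (iv2 F421995)) (tt N119685 D222944) (tt N82334 F421993) (tt N68894 F421992) (tt N116891 (iv6 F502377)) (tt N71095 (iv7 F421996)))
theorem Q98720 : ∀ i, i < 98720 → P i := stepQ 98719 Q98719 (allL N98719 (tt N61675 (iv1 D201839)) (tt N71096 F421997) (tt N71095 (iv2 F422001)) (tt N118653 (iv3 F511363)) (tt N82331 F422000) (tt N68895 F421999) (tt N119612 (iv6 F516512)) (tt N71094 F421998))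
theorem Q98721 : ∀ i, i < 98721 → P i := stepQ 98720 Q98720 (allL N98720 (tt N64210 F422005) (tt N79081 (iv0 F422006)) (tt N79079 F422002) (tt N61676 (iv3 D201840)) (tt N94583 F422003) (tt N76273 F422007) (tt N114429 (iv6 F490112)) (tt N79078 F422004))
theorem Q98722 : ∀ i, i < 98722 → P i := stepQ 98721 Q98721 (allL N98721 (tt N62823 F422013) (tt N61726 F422014) (tt N62824 F422009) (tt N76273 F422010) (tt N62800 F422012) (tt N61676 (iv5 D201841)) (tt N74891 (iv6 F422015)) (tt N62797 F422011))
theorem Q98723 : ∀ i, i < 98723 → P i := stepQ 98722 Q98722 (allL N98722 (tt N102881 (iv1 F439078)) (tt N102880 F439074) (tt N61679 F422016) (tt N68196 F422017) (tt N70593 F422018) (tt N104215 (iv5 F444745)) (tt N61677 (iv6 D201842)) (tt N92559 F422019))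
theorem Q98724 : ∀ i, i < 98724 → P i := stepQ 98723 Q98723 (allL N98723 (tt N92559 (iv1 F422020)) (tt N61679 (iv0 D201843)) (tt N102881 F439081) (tt N113781 (iv3 F487078)) (tt N105837 (iv4 F451955)) (tt N119686 D222945) (tt N70596 (iv6 F451602)) (tt N102880 F439077))
theorem Q98725 : ∀ i, i < 98725 → P i := stepQ 98724 Q98724 (allL N98724 (tt N105901 (iv1 F452265)) (tt N105903 (iv0 F452275)) (tt N104215 (iv2 F444742)) (tt N61682 F422021) (tt N94127 F422023) (tt N61679 (iv5 D201844)) (tt N69631 F422022) (tt N100300 (iv7 F428328)))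
theorem Q98726 : ∀ i, i < 98726 → P i := stepQ 98725 Q98725 (allL N98725 (tt N86721 F422026) (tt N84932 (iv0 F422028)) (tt N109153 F465596) (tt N61681 (iv3 D201845)) (tt N69801 F422024) (tt N105327 (iv5 F449729)) (tt N84960 (iv6 F422027)) (tt N68201 F422025))
theorem Q98727 : ∀ i, i < 98727 → P i := stepQ 98726 Q98726 (allL N98726 (tt N70837 F422034) (tt N70562 F422035) (tt N68205 F422029) (tt N84960 F422030) (tt N94047 F422031) (tt N74430 F422032) (tt N61681 (iv6 D201846)) (tt N70606 F422033))
theorem Q98728 : ∀ i, i < 98728 → P i := stepQ 98727 Q98727 (allL N98727 (tt N105682 F451228) (tt N114367 (iv0 F489831)) (tt N70362 F422036) (tt N61684 (iv3 D201847)) (tt N70170 F422039) (tt N64209 F422037) (tt N109037 (iv6 F465038)) (tt N70366 F422038))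
theorem Q98729 : ∀ i, i < 98729 → P i := stepQ 98728 Q98728 (allL N98728 (tt N74880 F422043) (tt N62783 (iv0 F422045)) (tt N74881 F422040) (tt N109037 (iv3 F465034)) (tt N74899 F422041) (tt N83839 F422044) (tt N61684 (iv6 D201848)) (tt N70617 F422042))
theorem Q98730 : ∀ i, i < 98730 → P i := stepQ 98729 Q98729 (allL N98729 (tt N66655 F422051) (tt N66664 F422052) (tt N66663 F422046) (tt N66666 F422047) (tt N61687 (iv4 D201849)) (tt N72770 F422050) (tt N67053 F422048) (tt N66662 F422049))
theorem Q98731 : ∀ i, i < 98731 → P i := stepQ 98730 Q98730 (allL N98730 (tt N61995 F422057) (tt N61999 (iv0 F422058)) (tt N70018 F422053) (tt N85966 F422054) (tt N104313 (iv4 F445191)) (tt N68326 F422055) (tt N61690 (iv6 D201850)) (tt N70036 F422056))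
theorem Q98732 : ∀ i, i < 98732 → P i := stepQ 98731 Q98731 (allL N98731 (tt N77950 F422062) (tt N93640 F422063) (tt N70022 F422059) (tt N119687 D222946) (tt N61693 (iv4 D201851)) (tt N108542 (iv5 F463013)) (tt N96857 F422060) (tt N70026 F422061))
theorem Q98733 : ∀ i, i < 98733 → P i := stepQ 98732 Q98732 (allL N98732 (tt N61711 F422067) (tt N85016 (iv0 F422070)) (tt N109132 (iv2 F465483)) (tt N61694 (iv3 D201852)) (tt N69098 F422064) (tt N115179 (iv5 F493885)) (tt N97972 F422065) (tt N70020 F422066))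
theorem Q98734 : ∀ i, i < 98734 → P i := stepQ 98733 Q98733 (allL N98733 (tt N86787 F422073) (tt N104818 (iv0 F447440)) (tt N70024 F422071) (tt N115179 F493886) (tt N83391 F422074) (tt N61694 (iv5 D201853)) (tt N91678 F422075) (tt N70021 F422072))
theorem Q98735 : ∀ i, i < 98735 → P i := stepQ 98734 Q98734 (allL N98734 (tt N94488 (iv1 F441424)) (tt N105088 (iv0 F448736)) (tt N70483 F422076) (tt N70164 F422079) (tt N61701 (iv4 D201854)) (tt N119688 D222947) (tt N92155 F422077) (tt N70347 F422078))
theorem Q98736 : ∀ i, i < 98736 → P i := stepQ 98735 Q98735 (allL N98735 (tt N109707 F468222) (tt N75048 (iv0 F422082)) (tt N108355 (iv2 F462217)) (tt N96281 F422080) (tt N61703 (iv4 D201855)) (tt N96279 F422081) (tt N108330 F462096) (tt N98758 (iv7 F422183)))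
theorem Q98737 : ∀ i, i < 98737 → P i := stepQ 98736 Q98736 (allL N98736 (tt N69382 (iv1 F422085)) (tt N69384 F422086) (tt N97963 F422083) (tt N109736 (iv3 F468350)) (tt N108740 (iv4 F463766)) (tt N61707 F422084) (tt N113678 (iv6 F486593)) (tt N61706 (iv7 D201856)))
theorem Q98738 : ∀ i, i < 98738 → P i := stepQ 98737 Q98737 (allL N98737 (tt N70616 F422091) (tt N70619 (iv0 F422092)) (tt N70701 F422087) (tt N61709 (iv3 D201857)) (tt N70700 F422088) (tt N62828 F422089) (tt N85012 F422093) (tt N61713 F422090))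
theorem Q98739 : ∀ i, i < 98739 → P i := stepQ 98738 Q98738 (allL N98738 (tt N70020 F422098) (tt N109132 (iv0 F465487)) (tt N61711 F422094) (tt N85012 F422095) (tt N102617 (iv4 F437914)) (tt N84773 F422096) (tt N61709 (iv6 D201858)) (tt N85016 (iv7 F422097)))
theorem Q98740 : ∀ i, i < 98740 → P i := stepQ 98739 Q98739 (allL N98739 (tt N102552 F437629) (tt N102551 (iv0 F437623)) (tt N102507 (iv2 F437465)) (tt N61710 (iv3 D201859)) (tt N102495 (iv4 F437432)) (tt N109597 (iv5 F467651)) (tt N119662 (iv6 F516781)) (tt N102499 (iv7 F437445)))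
theorem Q98741 : ∀ i, i < 98741 → P i := stepQ 98740 Q98740 (allL N98740 (tt N86913 F422100) (tt N114949 (iv0 F492720)) (tt N102617 (iv2 F437912)) (tt N119662 (iv3 F516780)) (tt N61711 F422099) (tt N109181 (iv5 F465684)) (tt N61710 (iv6 D201860)) (tt N117342 (iv7 F504557)))
theorem Q98742 : ∀ i, i < 98742 → P i := stepQ 98741 Q98741 (allL N98741 (tt N85016 F422105) (tt N61711 (iv0 D201861)) (tt N70020 (iv2 F422102)) (tt N83649 F422103) (tt N114369 (iv4 F489839)) (tt N86765 F422101) (tt N70692 F422104) (tt N109132 (iv7 F465486)))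
theorem Q98743 : ∀ i, i < 98743 → P i := stepQ 98742 Q98742 (allL N98742 (tt N109132 F465488) (tt N70020 (iv0 F422110)) (tt N85016 F422107) (tt N83657 F422108) (tt N117342 (iv4 F504558)) (tt N83656 F422109) (tt N97961 (iv6 F422111)) (tt N61711 (iv7 D201862)))
theorem Q98744 : ∀ i, i < 98744 → P i := stepQ 98743 Q98743 (allL N98743 (tt N97957 F422116) (tt N97962 F422117) (tt N61715 F422112) (tt N78920 F422113) (tt N102619 (iv4 F437923)) (tt N74486 F422114) (tt N61712 (iv6 D201863)) (tt N97961 F422115))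
theorem Q98745 : ∀ i, i < 98745 → P i := stepQ 98744 Q98744 (allL N98744 (tt N74893 F422121) (tt N92170 F422122) (tt N92169 F422118) (tt N61715 F422119) (tt N105844 (iv4 F451994)) (tt N109013 (iv5 F464926)) (tt N61713 (iv6 D201864)) (tt N85017 F422120))
theorem Q98746 : ∀ i, i < 98746 → P i := stepQ 98745 Q98745 (allL N98745 (tt N90064 F422127) (tt N90062 F422126) (tt N102618 (iv2 F437918)) (tt N98696 F422123) (tt N64910 F422124) (tt N61714 (iv5 D201865)) (tt N103680 (iv6 F442460)) (tt N98695 F422125))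
theorem Q98747 : ∀ i, i < 98747 → P i := stepQ 98746 Q98746 (allL N98746 (tt N66611 F422129) (tt N117344 (iv0 F504572)) (tt N102619 (iv2 F437922)) (tt N104439 (iv3 F445770)) (tt N61715 F422128) (tt N82770 (iv5 F422130)) (tt N61714 (iv6 D201866)) (tt N115399 (iv7 F494997)))
theorem Q98748 : ∀ i, i < 98748 → P i := stepQ 98747 Q98747 (allL N98747 (tt N61715 (iv1 D201867)) (tt N97961 F422131) (tt N97962 (iv2 F422133)) (tt N98768 (iv3 F422234)) (tt N103547 (iv4 F442001)) (tt N104187 (iv5 F444589)) (tt N70685 (iv6 F422134)) (tt N97957 F422132))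
theorem Q98749 : ∀ i, i < 98749 → P i := stepQ 98748 Q98748 (allL N98748 (tt N97962 (iv1 F422138)) (tt N97957 F422139) (tt N97961 F422135) (tt N85017 F422136) (tt N115399 (iv4 F494996)) (tt N109014 (iv5 F464929)) (tt N85016 F422137) (tt N61715 (iv7 D201868)))
theorem Q98750 : ∀ i, i < 98750 → P i := stepQ 98749 Q98749 (allL N98749 (tt N98474 F422143) (tt N80031 (iv0 F422144)) (tt N100203 (iv2 F427977)) (tt N61716 (iv3 D201869)) (tt N87452 F422140) (tt N119677 (iv5 F516864)) (tt N80025 F422141) (tt N86479 F422142))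
theorem Q98751 : ∀ i, i < 98751 → P i := stepQ 98750 Q98750 (allL N98750 (tt N98413 F422147) (tt N98397 F422148) (tt N98415 F422145) (tt N119677 (iv3 F516863)) (tt N117959 (iv4 F507792)) (tt N61716 (iv5 D201870)) (tt N104053 (iv6 F443943)) (tt N98414 F422146))
theorem Q98752 : ∀ i, i < 98752 → P i := stepQ 98751 Q98751 (allL N98751 (tt N82034 F422151) (tt N117673 (iv0 F506346)) (tt N98773 (iv2 F422260)) (tt N82013 F422149) (tt N61717 (iv4 D201871)) (tt N82012 F422152) (tt N119689 D222948) (tt N76650 F422150))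
theorem Q98753 : ∀ i, i < 98753 → P i := stepQ 98752 Q98752 (allL N98752 (tt N98397 F422156) (tt N98413 F422157) (tt N98414 F422153) (tt N85023 F422154) (tt N109180 (iv4 F465682)) (tt N61717 (iv5 D201872)) (tt N85021 F422158) (tt N98415 F422155))
theorem Q98754 : ∀ i, i < 98754 → P i := stepQ 98753 Q98753 (allL N98753 (tt N100496 F429190) (tt N100658 (iv0 F429884)) (tt N86476 F422159) (tt N78996 F422160) (tt N119689 (iv4 F516930)) (tt N78994 F422162) (tt N61717 (iv6 D201873)) (tt N86471 F422161))
theorem Q98755 : ∀ i, i < 98755 → P i := stepQ 98754 Q98754 (allL N98754 (tt N85025 (iv1 F422167)) (tt N85024 (iv0 F422166)) (tt N85028 F422163) (tt N115344 (iv3 F494697)) (tt N62812 F422164) (tt N109088 (iv5 F465272)) (tt N61721 (iv6 D201874)) (tt N62809 F422165))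
theorem Q98756 : ∀ i, i < 98756 → P i := stepQ 98755 Q98755 (allL N98755 (tt N73866 F422172) (tt N73725 (iv0 F422173)) (tt N81441 F422168) (tt N61728 F422169) (tt N71983 F422170) (tt N105016 (iv5 F448387)) (tt N61726 (iv6 D201875)) (tt N77628 F422171))
theorem Q98757 : ∀ i, i < 98757 → P i := stepQ 98756 Q98756 (allL N98756 (tt N111331 F475860) (tt N115313 F494534) (tt N109385 (iv2 F466694)) (tt N61731 F422174) (tt N108778 (iv4 F463887)) (tt N61727 (iv5 D201876)) (tt N105016 (iv6 F448390)) (tt N113675 (iv7 F486583)))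
theorem Q98758 : ∀ i, i < 98758 → P i := stepQ 98757 Q98757 (allL N98757 (tt N78993 (iv1 F422178)) (tt N61736 (iv0 D201877)) (tt N78992 (iv2 F422177)) (tt N68245 F422175) (tt N107116 (iv4 F457052)) (tt N68244 F422176) (tt N111325 (iv6 F475832)) (tt N76344 F422179))
theorem Q98759 : ∀ i, i < 98759 → P i := stepQ 98758 Q98758 (allL N98758 (tt N108062 F460946) (tt N105292 F449595) (tt N78990 F422180) (tt N64722 F422181) (tt N61736 (iv4 D201878)) (tt N96208 F422184) (tt N64719 F422182) (tt N98735 F422183))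
theorem Q98760 : ∀ i, i < 98760 → P i := stepQ 98759 Q98759 (allL N98759 (tt N87504 F422188) (tt N102868 F439020) (tt N102867 (iv2 F439013)) (tt N94084 F422185) (tt N61740 (iv4 D201879)) (tt N99707 (iv5 F425837)) (tt N77803 F422186) (tt N87403 F422187))
theorem Q98761 : ∀ i, i < 98761 → P i := stepQ 98760 Q98760 (allL N98760 (tt N74766 (iv1 F422194)) (tt N61741 (iv0 D201880)) (tt N62716 (iv2 F422192)) (tt N62454 F422191) (tt N73654 F422190) (tt N62656 F422189) (tt N104920 (iv6 F447945)) (tt N73755 F422193))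
theorem Q98762 : ∀ i, i < 98762 → P i := stepQ 98761 Q98761 (allL N98761 (tt N73755 (iv1 F422200)) (tt N62716 F422201) (tt N74766 F422195) (tt N86481 F422196) (tt N74339 F422197) (tt N74346 F422198) (tt N78978 F422199) (tt N61741 (iv7 D201881)))
theorem Q98763 : ∀ i, i < 98763 → P i := stepQ 98762 Q98762 (allL N98762 (tt N105688 (iv1 F451261)) (tt N96766 F422204) (tt N74331 F422202) (tt N102067 (iv3 F435577)) (tt N61742 (iv4 D201882)) (tt N118896 (iv5 F512624)) (tt N62681 F422203) (tt N115396 (iv7 F494980)))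
theorem Q98764 : ∀ i, i < 98764 → P i := stepQ 98763 Q98763 (allL N98763 (tt N68748 F422208) (tt N68789 (iv0 F422209)) (tt N68773 F422205) (tt N61745 (iv3 D201883)) (tt N70055 F422206) (tt N118069 (iv5 F508404)) (tt N113811 (iv6 F487232)) (tt N68790 F422207))
theorem Q98765 : ∀ i, i < 98765 → P i := stepQ 98764 Q98764 (allL N98764 (tt N97636 F422212) (tt N114818 (iv0 F492042)) (tt N68776 F422210) (tt N118069 (iv3 F508403)) (tt N80469 F422211) (tt N61745 (iv5 D201884)) (tt N116041 (iv6 F498201)) (tt N111869 F478412))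
theorem Q98766 : ∀ i, i < 98766 → P i := stepQ 98765 Q98765 (allL N98765 (tt N61750 (iv1 F422217)) (tt N61746 (iv0 D201885)) (tt N68180 (iv2 F422216)) (tt N74782 F422215) (tt N73718 F422214) (tt N68179 F422213) (tt N73118 (iv6 F422219)) (tt N81509 F422218))
theorem Q98767 : ∀ i, i < 98767 → P i := stepQ 98766 Q98766 (allL N98766 (tt N114818 F492043) (tt N97636 F422223) (tt N111869 (iv2 F478406)) (tt N68784 F422220) (tt N80472 F422221) (tt N61749 (iv5 D201886)) (tt N83605 F422224) (tt N68776 F422222))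
theorem Q98768 : ∀ i, i < 98768 → P i := stepQ 98767 Q98767 (allL N98767 (tt N80426 F422228) (tt N113153 F484231) (tt N112820 (iv2 F482778)) (tt N68788 F422225) (tt N61751 F422226) (tt N86943 F422227) (tt N61749 (iv6 D201887)) (tt N113152 (iv7 F484218)))
theorem Q98769 : ∀ i, i < 98769 → P i := stepQ 98768 Q98768 (allL N98768 (tt N61751 (iv1 D201888)) (tt N85992 F422229) (tt N70473 (iv2 F422230)) (tt N98747 F422234) (tt N93211 (iv4 F422231)) (tt N118104 (iv5 F508616)) (tt N70806 F422235) (tt N113579 (iv7 F486116)))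
theorem Q98770 : ∀ i, i < 98770 → P i := stepQ 98769 Q98769 (allL N98769 (tt N76037 F422239) (tt N81462 (iv0 F422241)) (tt N80901 F422236) (tt N61753 (iv3 D201889)) (tt N98179 F422240) (tt N97933 F422237) (tt N114081 F488505) (tt N78880 F422238))
theorem Q98771 : ∀ i, i < 98771 → P i := stepQ 98770 Q98770 (allL N98770 (tt N98300 F422245) (tt N79992 F422247) (tt N81460 F422242) (tt N114081 F488504) (tt N75635 F422243) (tt N104876 (iv5 F447757)) (tt N61753 (iv6 D201890)) (tt N75976 F422244))
theorem Q98772 : ∀ i, i < 98772 → P i := stepQ 98771 Q98771 (allL N98771 (tt N63715 (iv1 F422250)) (tt N61756 (iv0 D201891)) (tt N73155 (iv2 F422249)) (tt N84737 (iv3 F422252)) (tt N62243 F422248) (tt N108322 (iv5 F462054)) (tt N62242 (iv6 F422253)) (tt N77242 F422251))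
theorem Q98773 : ∀ i, i < 98773 → P i := stepQ 98772 Q98772 (allL N98772 (tt N69487 F422258) (tt N69486 (iv0 F422259)) (tt N69488 F422254) (tt N76367 F422255) (tt N115389 (iv4 F494944)) (tt N61758 (iv5 D201892)) (tt N94046 F422256) (tt N64034 F422257))
theorem Q98774 : ∀ i, i < 98774 → P i := stepQ 98773 Q98773 (allL N98773 (tt N94063 F422263) (tt N109852 F468917) (tt N98751 F422260) (tt N96566 F422264) (tt N61762 (iv4 D201893)) (tt N97068 F422262) (tt N109851 (iv6 F468911)) (tt N96562 F422261))
theorem Q98775 : ∀ i, i < 98775 → P i := stepQ 98774 Q98774 (allL N98774 (tt N74303 F422267) (tt N107574 F458808) (tt N61868 F422265) (tt N102705 (iv3 F438280)) (tt N61765 (iv4 D201894)) (tt N118481 (iv5 F510602)) (tt N110694 (iv6 F472785)) (tt N61864 F422266))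
theorem Q98776 : ∀ i, i < 98776 → P i := stepQ 98775 Q98775 (allL N98775 (tt N71382 F422270) (tt N71385 F422275) (tt N102702 (iv2 F438263)) (tt N61766 (iv3 D201895)) (tt N69834 F422268) (tt N93634 (iv5 F422271)) (tt N119690 D222949) (tt N61867 F422269))
theorem Q98777 : ∀ i, i < 98777 → P i := stepQ 98776 Q98776 (allL N98776 (tt N72668 F472699) (tt N119691 D222950) (tt N61866 F422276) (tt N119690 (iv3 F516936)) (tt N117826 (iv4 F507153)) (tt N110737 (iv5 F472952)) (tt N61766 (iv6 D201896)) (tt N110693 (iv7 F472779)))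
theorem Q98778 : ∀ i, i < 98778 → P i := stepQ 98777 Q98777 (allL N98777 (tt N119692 D222951) (tt N63607 F422279) (tt N119334 (iv2 F515077)) (tt N61770 F422277) (tt N79387 F422278) (tt N61768 (iv5 D201897)) (tt N110022 (iv6 F469589)) (tt N79419 (iv7 F422280)))
theorem Q98779 : ∀ i, i < 98779 → P i := stepQ 98778 Q98778 (allL N98778 (tt N117488 (iv1 F505301)) (tt N108534 (iv0 F462985)) (tt N99581 (iv2 F425271)) (tt N61769 (iv3 D201898)) (tt N71599 F422282) (tt N82102 F422283) (tt N73348 F422284) (tt N61939 F422285))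
theorem Q98780 : ∀ i, i < 98780 → P i := stepQ 98779 Q98779 (allL N98779 (tt N61944 (iv1 F422293)) (tt N61770 (iv0 D201899)) (tt N61941 (iv2 F422291)) (tt N116934 (iv3 F502574)) (tt N107211 (iv4 F457470)) (tt N110615 (iv5 F472410)) (tt N99963 (iv6 F426981)) (tt N61942 F422292))
theorem Q98781 : ∀ i, i < 98781 → P i := stepQ 98780 Q98780 (allL N98780 (tt N61770 (iv1 D201900)) (tt N61944 F422286) (tt N61942 (iv2 F422288)) (tt N119263 F514696) (tt N107167 (iv4 F457295)) (tt N62020 F422287) (tt N62526 (iv6 F422290)) (tt N61941 (iv7 F422289)))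
theorem Q98782 : ∀ i, i < 98782 → P i := stepQ 98781 Q98781 (allL N98781 (tt N61942 (iv1 F422298)) (tt N61941 F422299) (tt N61944 F422294) (tt N79419 F422295) (tt N73198 F422296) (tt N61771 F422297) (tt N100461 (iv6 F429065)) (tt N61770 (iv7 D201901)))
theorem Q98783 : ∀ i, i < 98783 → P i := stepQ 98782 Q98782 (allL N98782 (tt N107961 (iv1 F460487)) (tt N107960 F460484) (tt N99051 (iv2 F423146)) (tt N61772 (iv3 D201902)) (tt N70949 F422300) (tt N73244 F422301) (tt N99157 (iv6 F423506)) (tt N61947 F422302))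
theorem Q98784 : ∀ i, i < 98784 → P i := stepQ 98783 Q98783 (allL N98783 (tt N70998 F422306) (tt N70993 F422307) (tt N70996 F422303) (tt N61774 (iv3 D201903)) (tt N98815 (iv4 F422439)) (tt N77892 F422304) (tt N101621 F433591) (tt N61969 F422305))
theorem Q98785 : ∀ i, i < 98785 → P i := stepQ 98784 Q98784 (allL N98784 (tt N62162 F433593) (tt N106679 F455251) (tt N61968 F422308) (tt N101621 F433594) (tt N117872 (iv4 F507368)) (tt N110920 (iv5 F473797)) (tt N61774 (iv6 D201904)) (tt N71567 F422309))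
theorem Q98786 : ∀ i, i < 98786 → P i := stepQ 98785 Q98785 (allL N98785 (tt N116499 (iv1 F500466)) (tt N106686 F455272) (tt N61777 F422311) (tt N62006 F422312) (tt N92476 F422313) (tt N109929 (iv5 F469277)) (tt N61775 (iv6 D201905)) (tt N117289 (iv7 F504305)))
theorem Q98787 : ∀ i, i < 98787 → P i := stepQ 98786 Q98786 (allL N98786 (tt N117289 (iv1 F504304)) (tt N61777 (iv0 D201906)) (tt N116499 (iv2 F500460)) (tt N62015 F422314) (tt N119693 D222952) (tt N110672 F472705) (tt N119260 (iv6 F514682)) (tt N106686 (iv7 F455275)))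
theorem Q98788 : ∀ i, i < 98788 → P i := stepQ 98787 Q98787 (allL N98787 (tt N119694 D222953) (tt N117295 F504333) (tt N109929 (iv2 F469275)) (tt N61781 F422315) (tt N83055 F422316) (tt N61777 (iv5 D201907)) (tt N109822 (iv6 F468790)) (tt N83427 (iv7 F422317)))
theorem Q98789 : ∀ i, i < 98789 → P i := stepQ 98788 Q98788 (allL N98788 (tt N106686 F455271) (tt N116499 (iv0 F500464)) (tt N117289 (iv2 F504308)) (tt N61782 F422318) (tt N92484 F422319) (tt N83427 F422320) (tt N61977 F422321) (tt N61777 (iv7 D201908)))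
theorem Q98790 : ∀ i, i < 98790 → P i := stepQ 98789 Q98789 (allL N98789 (tt N62017 (iv1 F422324)) (tt N61778 (iv0 D201909)) (tt N62014 (iv2 F422323)) (tt N106686 F455270) (tt N63516 F422322) (tt N62962 (iv5 F422326)) (tt N106684 (iv6 F455274)) (tt N62015 F422325))
theorem Q98791 : ∀ i, i < 98791 → P i := stepQ 98790 Q98790 (allL N98790 (tt N110514 (iv1 F471934)) (tt N117237 (iv0 F504062)) (tt N62016 F422327) (tt N109822 (iv3 F468788)) (tt N62977 F422329) (tt N61778 (iv5 D201910)) (tt N61781 F422328) (tt N109922 (iv7 F469236)))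
theorem Q98792 : ∀ i, i < 98792 → P i := stepQ 98791 Q98791 (allL N98791 (tt N62525 F422333) (tt N62009 (iv0 F422334)) (tt N109927 F469267) (tt N61780 (iv3 D201911)) (tt N73448 F422331) (tt N110675 (iv5 F472717)) (tt N109949 (iv6 F469353)) (tt N62018 F422332))
theorem Q98793 : ∀ i, i < 98793 → P i := stepQ 98792 Q98792 (allL N98792 (tt N62129 F422338) (tt N61813 F422337) (tt N62051 F422335) (tt N118037 (iv3 F508221)) (tt N119086 (iv4 F513715)) (tt N61784 (iv5 D201912)) (tt N77992 F422339) (tt N62048 F422336))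
theorem Q98794 : ∀ i, i < 98794 → P i := stepQ 98793 Q98793 (allL N98793 (tt N99243 (iv1 F423828)) (tt N62155 (iv0 F422342)) (tt N62052 F422340) (tt N111366 (iv3 F476032)) (tt N100680 (iv4 F429979)) (tt N77993 F422341) (tt N61784 (iv6 D201913)) (tt N99192 (iv7 F423636)))
theorem Q98795 : ∀ i, i < 98795 → P i := stepQ 98794 Q98794 (allL N98794 (tt N62076 F422346) (tt N62079 (iv0 F422347)) (tt N62075 F422343) (tt N61785 (iv3 D201914)) (tt N116508 (iv4 F500519)) (tt N78039 F422348) (tt N77983 F422344) (tt N62049 F422345))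
theorem Q98796 : ∀ i, i < 98796 → P i := stepQ 98795 Q98795 (allL N98795 (tt N61813 F422352) (tt N62129 (iv0 F422354)) (tt N62048 F422349) (tt N78039 F422350) (tt N119695 D222954) (tt N61785 (iv5 D201915)) (tt N78015 F422353) (tt N62051 F422351))
theorem Q98797 : ∀ i, i < 98797 → P i := stepQ 98796 Q98796 (allL N98796 (tt N61787 (iv1 D201916)) (tt N62043 F422355) (tt N62042 (iv2 F422358)) (tt N119696 D222955) (tt N116621 (iv4 F501015)) (tt N94923 F422357) (tt N119697 D222956) (tt N62041 F422356))
theorem Q98798 : ∀ i, i < 98798 → P i := stepQ 98797 Q98797 (allL N98797 (tt N90184 F423514) (tt N73394 (iv0 F422363)) (tt N62040 F422359) (tt N86360 F422360) (tt N61787 (iv4 D201917)) (tt N105506 (iv5 F450504)) (tt N62036 F422361) (tt N62058 F422362))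
theorem Q98799 : ∀ i, i < 98799 → P i := stepQ 98798 Q98798 (allL N98798 (tt N61991 F422369) (tt N95908 F422370) (tt N62034 F422364) (tt N95962 F422365) (tt N61789 (iv4 D201918)) (tt N70742 F422368) (tt N81355 F422366) (tt N62031 F422367))
theorem Q98800 : ∀ i, i < 98800 → P i := stepQ 98799 Q98799 (allL N98799 (tt N93778 F422374) (tt N61798 (iv0 F422375)) (tt N108119 F461186) (tt N61790 (iv3 D201919)) (tt N94566 F422371) (tt N70748 F422372) (tt N94567 (iv6 F422376)) (tt N62033 F422373))
theorem Q98801 : ∀ i, i < 98801 → P i := stepQ 98800 Q98800 (allL N98800 (tt N62152 F423078) (tt N110755 F473027) (tt N62032 F422377) (tt N94567 F422378) (tt N107944 (iv4 F460409)) (tt N70753 F422379) (tt N61790 (iv6 D201920)) (tt N82088 F422380))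
theorem Q98802 : ∀ i, i < 98802 → P i := stepQ 98801 Q98801 (allL N98801 (tt N116580 F500832) (tt N110761 (iv0 F473051)) (tt N61792 F422381) (tt N62054 F422382) (tt N95943 F422383) (tt N119698 D222957) (tt N61791 (iv6 D201921)) (tt N62059 F422384))
theorem Q98803 : ∀ i, i < 98803 → P i := stepQ 98802 Q98802 (allL N98802 (tt N62059 (iv1 F422393)) (tt N61792 (iv0 D201922)) (tt N116580 (iv2 F500829)) (tt N119699 D222958) (tt N116574 (iv4 F500804)) (tt N119700 D222959) (tt N116573 F500805) (tt N110761 F485891))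
theorem Q98804 : ∀ i, i < 98804 → P i := stepQ 98803 Q98803 (allL N98803 (tt N61792 (iv1 D201923)) (tt N62059 F422385) (tt N110761 (iv2 F485890)) (tt N119701 D222960) (tt N116582 (iv4 F500839)) (tt N119702 D222961) (tt N110756 F485888) (tt N116580 (iv7 F500831)))
theorem Q98805 : ∀ i, i < 98805 → P i := stepQ 98804 Q98804 (allL N98804 (tt N119703 D222962) (tt N119704 D222963) (tt N119698 (iv2 F516977)) (tt N61794 F422386) (tt N88411 (iv4 F422388)) (tt N61792 (iv5 D201924)) (tt N62069 F422387) (tt N119705 D222964))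
theorem Q98806 : ∀ i, i < 98806 → P i := stepQ 98805 Q98805 (allL N98805 (tt N110761 F473052) (tt N116580 F500833) (tt N62059 F422389) (tt N61795 F422390) (tt N95949 F422391) (tt N119705 (iv5 F517012)) (tt N62043 F422392) (tt N61792 (iv7 D201925)))
theorem Q98807 : ∀ i, i < 98807 → P i := stepQ 98806 Q98806 (allL N98806 (tt N62054 (iv1 F422395)) (tt N61793 (iv0 D201926)) (tt N62061 (iv2 F422396)) (tt N118039 (iv3 F508233)) (tt N63635 F422394) (tt N117223 (iv5 F503981)) (tt N110620 F472437) (tt N62060 (iv7 F422397)))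
theorem Q98808 : ∀ i, i < 98808 → P i := stepQ 98807 Q98807 (allL N98807 (tt N61793 (iv1 D201927)) (tt N62054 F422398) (tt N62060 F422401) (tt N116506 (iv3 F500507)) (tt N63535 (iv4 F422400)) (tt N117224 (iv5 F503989)) (tt N110826 F473325) (tt N62061 F422399))
theorem Q98809 : ∀ i, i < 98809 → P i := stepQ 98808 Q98808 (allL N98808 (tt N119706 D222965) (tt N109487 (iv0 F467224)) (tt N62066 F422402) (tt N62069 F422403) (tt N88412 (iv4 F422406)) (tt N61793 (iv5 D201928)) (tt N61794 F422404) (tt N62062 F422405))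
theorem Q98810 : ∀ i, i < 98810 → P i := stepQ 98809 Q98809 (allL N98809 (tt N62068 (iv1 F422410)) (tt N62067 F422411) (tt N62069 F422407) (tt N119705 (iv3 F517010)) (tt N88410 F422408) (tt N61795 F422409) (tt N119698 (iv6 F516979)) (tt N61794 (iv7 D201929)))
theorem Q98811 : ∀ i, i < 98811 → P i := stepQ 98810 Q98810 (allL N98810 (tt N101609 (iv1 F433537)) (tt N90260 (iv0 F422416)) (tt N61812 F422412) (tt N62071 F422413) (tt N70992 F422414) (tt N111134 (iv5 F474859)) (tt N61796 (iv6 D201930)) (tt N79167 F422415))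
theorem Q98812 : ∀ i, i < 98812 → P i := stepQ 98811 Q98811 (allL N98811 (tt N62046 F422420) (tt N98857 (iv0 F422597)) (tt N61800 F422417) (tt N108120 (iv3 F461191)) (tt N73067 F422419) (tt N61797 (iv5 D201931)) (tt N93754 (iv6 F422421)) (tt N61805 F422418))
theorem Q98813 : ∀ i, i < 98813 → P i := stepQ 98812 Q98812 (allL N98812 (tt N61993 (iv1 F422428)) (tt N117281 (iv0 F504268)) (tt N61801 F422423) (tt N61800 F422424) (tt N69832 F422425) (tt N61798 F422426) (tt N61797 (iv6 D201932)) (tt N108122 (iv7 F461206)))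
theorem Q98814 : ∀ i, i < 98814 → P i := stepQ 98813 Q98813 (allL N98813 (tt N61798 (iv1 D201933)) (tt N93778 F422429) (tt N62033 (iv2 F422433)) (tt N62090 (iv3 F422430)) (tt N93285 (iv4 F422431)) (tt N111361 (iv5 F476006)) (tt N77968 F422432) (tt N108119 (iv7 F461188)))
theorem Q98815 : ∀ i, i < 98815 → P i := stepQ 98814 Q98814 (allL N98814 (tt N93550 (iv1 F422438)) (tt N93544 (iv0 F422437)) (tt N108120 (iv2 F461190)) (tt N61801 F422434) (tt N99463 (iv4 F424693)) (tt N93754 F422435) (tt N61798 (iv6 D201934)) (tt N93779 (iv7 F422436)))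
theorem Q98816 : ∀ i, i < 98816 → P i := stepQ 98815 Q98815 (allL N98815 (tt N61804 (iv1 F422442)) (tt N61799 (iv0 D201935)) (tt N69835 (iv2 F422441)) (tt N71768 F422440) (tt N98783 F422439) (tt N100821 (iv5 F430630)) (tt N79143 (iv6 F422444)) (tt N69836 F422443))
theorem Q98817 : ∀ i, i < 98817 → P i := stepQ 98816 Q98816 (allL N98816 (tt N79150 (iv1 F422451)) (tt N71785 (iv0 F422450)) (tt N69832 F422445) (tt N90212 F422446) (tt N61801 F422447) (tt N64789 F422448) (tt N61799 (iv6 D201936)) (tt N90211 F422449))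
theorem Q98818 : ∀ i, i < 98818 → P i := stepQ 98817 Q98817 (allL N98817 (tt N70122 F422458) (tt N93302 F422459) (tt N73067 F422454) (tt N93757 F422455) (tt N61800 (iv4 D201937)) (tt N69843 F422456) (tt N93730 F422457) (tt N69842 F422460))
theorem Q98819 : ∀ i, i < 98819 → P i := stepQ 98818 Q98818 (allL N98818 (tt N98857 (iv1 F422598)) (tt N62046 (iv0 F422464)) (tt N61805 F422461) (tt N108122 (iv3 F461204)) (tt N69842 F422462) (tt N61802 F422463) (tt N117282 (iv6 F504273)) (tt N61800 (iv7 D201938)))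
theorem Q98820 : ∀ i, i < 98820 → P i := stepQ 98819 Q98819 (allL N98819 (tt N117281 (iv1 F504269)) (tt N61993 (iv0 F422469)) (tt N108122 (iv2 F461203)) (tt N93779 F422465) (tt N90211 F422466) (tt N93778 F422467) (tt N90210 F422468) (tt N61801 (iv7 D201939)))
theorem Q98821 : ∀ i, i < 98821 → P i := stepQ 98820 Q98820 (allL N98820 (tt N93544 F422472) (tt N93550 F422473) (tt N93779 F422470) (tt N61805 F422471) (tt N99477 (iv4 F424757)) (tt N61803 (iv5 D201940)) (tt N108181 (iv6 F461416)) (tt N108120 F461194))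
theorem Q98822 : ∀ i, i < 98822 → P i := stepQ 98821 Q98821 (allL N98821 (tt N117327 F504479) (tt N118039 (iv0 F508236)) (tt N93780 F422474) (tt N61806 F422475) (tt N93777 F422476) (tt N109520 (iv5 F469347)) (tt N61803 (iv6 D201941)) (tt N117282 (iv7 F504274)))
theorem Q98823 : ∀ i, i < 98823 → P i := stepQ 98822 Q98822 (allL N98822 (tt N118039 F508237) (tt N117327 (iv0 F504478)) (tt N117282 (iv2 F504270)) (tt N108181 (iv3 F461415)) (tt N93786 F422477) (tt N109519 (iv5 F467346)) (tt N61805 (iv6 D201942)) (tt N93780 F422478))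
theorem Q98824 : ∀ i, i < 98824 → P i := stepQ 98823 Q98823 (allL N98823 (tt N101617 (iv1 F433575)) (tt N109823 (iv0 F468798)) (tt N90315 F422479) (tt N109520 F469346) (tt N91121 F422480) (tt N61806 (iv5 D201943)) (tt N109519 F467347) (tt N116547 (iv7 F500703)))
theorem Q98825 : ∀ i, i < 98825 → P i := stepQ 98824 Q98824 (allL N98824 (tt N70748 (iv1 F429664)) (tt N111361 F476011) (tt N107786 (iv2 F459724)) (tt N61808 (iv3 D201944)) (tt N100604 (iv4 F429667)) (tt N99312 F424058) (tt N98861 F504349) (tt N100603 F429663))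
theorem Q98826 : ∀ i, i < 98826 → P i := stepQ 98825 Q98825 (allL N98825 (tt N93545 F422481) (tt N119295 F514891) (tt N119294 (iv2 F514885)) (tt N98861 (iv3 F504350)) (tt N118138 (iv4 F508808)) (tt N101355 F468838) (tt N61808 (iv6 D201945)) (tt N119293 F514877))
theorem Q98827 : ∀ i, i < 98827 → P i := stepQ 98826 Q98826 (allL N98826 (tt N118036 (iv1 F508219)) (tt N118037 (iv0 F508225)) (tt N108470 (iv2 F462723)) (tt N61809 (iv3 D201946)) (tt N107685 (iv4 F459226)) (tt N97010 F422482) (tt N107684 F459224) (tt N118264 (iv7 F509427)))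
theorem Q98828 : ∀ i, i < 98828 → P i := stepQ 98827 Q98827 (allL N98827 (tt N95221 F422484) (tt N101612 (iv0 F433547)) (tt N101638 F433655) (tt N107684 (iv3 F459223)) (tt N101149 (iv4 F431938)) (tt N90260 (iv5 F422483)) (tt N61809 (iv6 D201947)) (tt N101641 (iv7 F433672)))
theorem Q98829 : ∀ i, i < 98829 → P i := stepQ 98828 Q98828 (allL N98828 (tt N118831 F512310) (tt N61811 (iv0 D201948)) (tt N119296 F514895) (tt N99050 F425957) (tt N119234 (iv4 F514522)) (tt N119707 D222966) (tt N109832 (iv6 F468830)) (tt N119286 (iv7 F514836)))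
theorem Q98830 : ∀ i, i < 98830 → P i := stepQ 98829 Q98829 (allL N98829 (tt N61811 (iv1 D201949)) (tt N118831 (iv0 F512309)) (tt N119286 (iv2 F514833)) (tt N119301 (iv3 F514919)) (tt N116833 (iv4 F502077)) (tt N119708 D222967) (tt N93541 (iv6 F462729)) (tt N119296 (iv7 F514897)))
theorem Q98831 : ∀ i, i < 98831 → P i := stepQ 98830 Q98830 (allL N98830 (tt N79164 F422489) (tt N79183 (iv0 F422490)) (tt N111134 (iv2 F474857)) (tt N61820 F422485) (tt N79170 F422488) (tt N61812 (iv5 D201950)) (tt N93408 F422486) (tt N93646 F422487))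
theorem Q98832 : ∀ i, i < 98832 → P i := stepQ 98831 Q98831 (allL N98831 (tt N62051 (iv1 F422495)) (tt N62048 F422494) (tt N61813 (iv2 D201951)) (tt N62123 F422491) (tt N107110 (iv4 F457018)) (tt N66266 F422492) (tt N98867 (iv6 F422629)) (tt N62129 F422493))
theorem Q98833 : ∀ i, i < 98833 → P i := stepQ 98832 Q98832 (allL N98832 (tt N105133 F448940) (tt N105515 F450537) (tt N107110 (iv2 F457017)) (tt N77409 F422496) (tt N61813 (iv4 D201952)) (tt N82786 (iv5 F422498)) (tt N77407 (iv6 F422499)) (tt N62130 F422497))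
theorem Q98834 : ∀ i, i < 98834 → P i := stepQ 98833 Q98833 (allL N98833 (tt N107517 F458628) (tt N107544 F458706) (tt N98867 (iv2 F422627)) (tt N61814 F422500) (tt N77407 F422501) (tt N101464 (iv5 F457392)) (tt N61813 (iv6 D201953)) (tt N107545 (iv7 F458709)))
theorem Q98835 : ∀ i, i < 98835 → P i := stepQ 98834 Q98834 (allL N98834 (tt N62128 F422506) (tt N61814 (iv0 D201954)) (tt N62125 (iv2 F422503)) (tt N119709 D222968) (tt N97063 (iv4 F422504)) (tt N119710 D222969) (tt N94923 F422502) (tt N62126 F422505))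
theorem Q98836 : ∀ i, i < 98836 → P i := stepQ 98835 Q98835 (allL N98835 (tt N61814 (iv1 D201955)) (tt N62128 F422507) (tt N62126 F422510) (tt N119295 (iv3 F514887)) (tt N81105 (iv4 F422509)) (tt N119711 D222970) (tt N81104 F422511) (tt N62125 F422508))
theorem Q98837 : ∀ i, i < 98837 → P i := stepQ 98836 Q98836 (allL N98836 (tt N119712 D222971) (tt N119713 D222972) (tt N62127 F422512) (tt N101464 (iv3 F457391)) (tt N119714 D222973) (tt N61814 (iv5 D201956)) (tt N66268 F422513) (tt N119715 D222974))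
theorem Q98838 : ∀ i, i < 98838 → P i := stepQ 98837 Q98837 (allL N98837 (tt N62126 (iv1 F422517)) (tt N62125 F422518) (tt N62128 F422514) (tt N107545 (iv3 F458708)) (tt N75300 F422515) (tt N119715 (iv5 F517060)) (tt N62134 F422516) (tt N61814 (iv7 D201957)))
theorem Q98839 : ∀ i, i < 98839 → P i := stepQ 98838 Q98838 (allL N98838 (tt N74002 F422521) (tt N71539 (iv0 F422523)) (tt N98984 F422914) (tt N61816 F422519) (tt N66497 F422520) (tt N78048 F422522) (tt N61815 (iv6 D201958)) (tt N98866 (iv7 F422623)))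
theorem Q98840 : ∀ i, i < 98840 → P i := stepQ 98839 Q98839 (allL N98839 (tt N62133 (iv1 F422527)) (tt N62132 F422528) (tt N62134 F422524) (tt N98866 (iv3 F422621)) (tt N108680 (iv4 F463516)) (tt N62120 F422525) (tt N62128 F422526) (tt N61816 (iv7 D201959)))
theorem Q98841 : ∀ i, i < 98841 → P i := stepQ 98840 Q98840 (allL N98840 (tt N119716 D222975) (tt N110781 F473166) (tt N62143 F422529) (tt N116935 (iv3 F502579)) (tt N108041 (iv4 F460852)) (tt N61817 (iv5 D201960)) (tt N119717 D222976) (tt N62147 F422530))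
theorem Q98842 : ∀ i, i < 98842 → P i := stepQ 98841 Q98841 (allL N98841 (tt N110781 F473167) (tt N119716 F517066) (tt N62147 F422531) (tt N94924 F422532) (tt N94377 F422534) (tt N61818 (iv5 D201961)) (tt N99242 (iv6 F423826)) (tt N62143 F422533))
theorem Q98843 : ∀ i, i < 98843 → P i := stepQ 98842 Q98842 (allL N98842 (tt N110831 (iv1 F473345)) (tt N90585 F423205) (tt N62159 F422535) (tt N96070 (iv3 F422538)) (tt N61820 (iv4 D201962)) (tt N78049 F422537) (tt N96069 F422536) (tt N99283 (iv7 F423930)))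
theorem Q98844 : ∀ i, i < 98844 → P i := stepQ 98843 Q98843 (allL N98843 (tt N107800 F459773) (tt N107791 (iv0 F459741)) (tt N94799 (iv2 F422541)) (tt N61821 (iv3 D201964)) (tt N92382 F422540) (tt N117897 (iv5 F507491)) (tt N112631 (iv6 F481914)) (tt N94803 (iv7 F422542)))
theorem Q98845 : ∀ i, i < 98845 → P i := stepQ 98844 Q98844 (allL N98844 (tt N108083 (iv1 F461037)) (tt N72645 F422551) (tt N99100 (iv2 F423336)) (tt N107785 (iv3 F459720)) (tt N61821 (iv4 D201965)) (tt N99099 F423335) (tt N112599 F481775) (tt N99203 (iv7 F423683)))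
theorem Q98846 : ∀ i, i < 98846 → P i := stepQ 98845 Q98845 (allL N98845 (tt N119718 D222977) (tt N94398 F481780) (tt N108694 (iv2 F463587)) (tt N112631 (iv3 F481913)) (tt N112599 (iv4 F481778)) (tt N119719 D222978) (tt N61821 (iv6 D201966)) (tt N119720 D222979))
theorem Q98847 : ∀ i, i < 98847 → P i := stepQ 98846 Q98846 (allL N98846 (tt N72499 (iv1 F422553)) (tt N72501 (iv0 F422552)) (tt N107303 (iv2 F457883)) (tt N61822 (iv3 D201967)) (tt N107302 (iv4 F457880)) (tt N101857 (iv5 F434694)) (tt N119721 D222980) (tt N108693 (iv7 F463584)))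
theorem Q98848 : ∀ i, i < 98848 → P i := stepQ 98847 Q98847 (allL N98847 (tt N77859 F422555) (tt N94382 F422556) (tt N94380 F422554) (tt N119721 (iv3 F517092)) (tt N108084 (iv4 F461047)) (tt N100353 F428553) (tt N61822 (iv6 D201968)) (tt N94379 (iv7 F422557)))
theorem Q98849 : ∀ i, i < 98849 → P i := stepQ 98848 Q98848 (allL N98848 (tt N108765 F463842) (tt N108764 F463839) (tt N61824 F422558) (tt N95325 F422559) (tt N61872 F422560) (tt N119722 D222981) (tt N61823 (iv6 D201969)) (tt N108766 (iv7 F463849)))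
theorem Q98850 : ∀ i, i < 98850 → P i := stepQ 98849 Q98849 (allL N98849 (tt N108766 (iv1 F463850)) (tt N61824 (iv0 D201970)) (tt N108765 (iv2 F463844)) (tt N116683 (iv3 F501292)) (tt N76847 F464122) (tt N119723 D222982) (tt N94383 (iv6 F485495)) (tt N108764 F463845))
theorem Q98851 : ∀ i, i < 98851 → P i := stepQ 98850 Q98850 (allL N98850 (tt N61824 (iv1 D201971)) (tt N108766 F463851) (tt N108764 F463843) (tt N83176 (iv3 F422561)) (tt N76848 F422562) (tt N119724 D222983) (tt N119725 D222984) (tt N108765 (iv7 F463841)))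
theorem Q98852 : ∀ i, i < 98852 → P i := stepQ 98851 Q98851 (allL N98851 (tt N118573 (iv1 F510970)) (tt N118575 (iv0 F510978)) (tt N119722 (iv2 F517097)) (tt N61825 F422564) (tt N119250 (iv4 F514628)) (tt N61824 (iv5 D201972)) (tt N119250 (iv6 F514626)) (tt N108767 (iv7 F463853)))
theorem Q98853 : ∀ i, i < 98853 → P i := stepQ 98852 Q98852 (allL N98852 (tt N117470 F505197) (tt N117837 (iv0 F507198)) (tt N95331 F422565) (tt N119253 (iv3 F514641)) (tt N61825 (iv4 D201973)) (tt N100509 (iv5 F429245)) (tt N119253 (iv6 F514642)) (tt N108768 (iv7 F463855)))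
theorem Q98854 : ∀ i, i < 98854 → P i := stepQ 98853 Q98853 (allL N98853 (tt N71469 F422570) (tt N70267 F422571) (tt N71418 F422566) (tt N71617 F422567) (tt N61827 (iv4 D201974)) (tt N62362 F422569) (tt N72435 (iv6 F422572)) (tt N71468 F422568))
theorem Q98855 : ∀ i, i < 98855 → P i := stepQ 98854 Q98854 (allL N98854 (tt N99051 F423151) (tt N61947 (iv0 F422582)) (tt N107960 F460485) (tt N107789 (iv3 F459734)) (tt N72435 F422581) (tt N101654 (iv5 F433713)) (tt N61827 (iv6 D201975)) (tt N107961 (iv7 F460488)))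
theorem Q98856 : ∀ i, i < 98856 → P i := stepQ 98855 Q98855 (allL N98855 (tt N70267 F422587) (tt N71469 F422588) (tt N71468 F422583) (tt N70899 F422584) (tt N61828 (iv4 D201976)) (tt N62368 F422585) (tt N116999 F502902) (tt N71418 F422586))
theorem Q98857 : ∀ i, i < 98857 → P i := stepQ 98856 Q98856 (allL N98856 (tt N61898 F422590) (tt N63665 F422591) (tt N76609 F422589) (tt N117491 F505313) (tt N116999 F502900) (tt N119726 D222985) (tt N61828 (iv6 D201977)) (tt N76608 (iv7 F422592)))
theorem Q98858 : ∀ i, i < 98858 → P i := stepQ 98857 Q98857 (allL N98857 (tt N98811 F422597) (tt N98818 F422598) (tt N61830 F422593) (tt N72646 F422594) (tt N62359 F422595) (tt N61829 (iv5 D201978)) (tt N119727 D222986) (tt N62358 F422596))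
theorem Q98859 : ∀ i, i < 98859 → P i := stepQ 98858 Q98858 (allL N98858 (tt N119728 D222987) (tt N119729 D222988) (tt N61831 F422599) (tt N72647 F422600) (tt N71387 F422601) (tt N112608 (iv5 F481825)) (tt N61829 (iv6 D201979)) (tt N112607 (iv7 F481819)))
theorem Q98860 : ∀ i, i < 98860 → P i := stepQ 98859 Q98859 (allL N98859 (tt N119730 D222989) (tt N119731 D222990) (tt N119727 (iv2 F517127)) (tt N61832 F422602) (tt N81251 F422603) (tt N112609 (iv5 F481830)) (tt N61830 (iv6 D201980)) (tt N112195 (iv7 F480002)))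
theorem Q98861 : ∀ i, i < 98861 → P i := stepQ 98860 Q98860 (allL N98860 (tt N112607 F481820) (tt N61831 (iv0 D201981)) (tt N119728 F517135) (tt N112597 (iv3 F481768)) (tt N79165 F434657) (tt N119732 D222991) (tt N65026 F434658) (tt N119729 (iv7 F517138)))
theorem Q98862 : ∀ i, i < 98862 → P i := stepQ 98861 Q98861 (allL N98861 (tt N61831 (iv1 D201982)) (tt N112607 F481821) (tt N119729 (iv2 F517142)) (tt N98825 F504350) (tt N119733 D222992) (tt N119734 D222993) (tt N98824 (iv6 F504349)) (tt N119728 F517136))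
theorem Q98863 : ∀ i, i < 98863 → P i := stepQ 98862 Q98862 (allL N98862 (tt N119729 (iv1 F517137)) (tt N119728 F517134) (tt N112607 (iv2 F481816)) (tt N61836 F422604) (tt N71389 F422605) (tt N112604 (iv5 F481799)) (tt N110608 (iv6 F472375)) (tt N61831 (iv7 D201983)))
theorem Q98864 : ∀ i, i < 98864 → P i := stepQ 98863 Q98863 (allL N98863 (tt N72657 (iv1 F422608)) (tt N61832 (iv0 D201984)) (tt N72654 (iv2 F422609)) (tt N119735 D222994) (tt N95779 F422606) (tt N119736 D222995) (tt N78037 F422607) (tt N72655 (iv7 F422610)))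
theorem Q98865 : ∀ i, i < 98865 → P i := stepQ 98864 Q98864 (allL N98864 (tt N61832 (iv1 D201985)) (tt N72657 F422611) (tt N72655 (iv2 F422614)) (tt N78046 (iv3 F422615)) (tt N95780 F422613) (tt N113349 (iv5 F485140)) (tt N78044 (iv6 F422616)) (tt N72654 F422612))
theorem Q98866 : ∀ i, i < 98866 → P i := stepQ 98865 Q98865 (allL N98865 (tt N109213 F465805) (tt N89347 (iv0 F422619)) (tt N72656 F422617) (tt N112609 (iv3 F481828)) (tt N116250 (iv4 F499212)) (tt N61832 (iv5 D201986)) (tt N61835 F422618) (tt N112196 (iv7 F480005)))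
theorem Q98867 : ∀ i, i < 98867 → P i := stepQ 98866 Q98866 (allL N98866 (tt N61901 (iv1 F422626)) (tt N65028 (iv0 F422625)) (tt N72660 F422620) (tt N98839 F422621) (tt N74202 F422622) (tt N62158 F422624) (tt N61833 (iv6 D201987)) (tt N98838 F422623))
theorem Q98868 : ∀ i, i < 98868 → P i := stepQ 98867 Q98867 (allL N98867 (tt N99103 F423348) (tt N112594 F481755) (tt N98833 F422627) (tt N61834 (iv3 D201988)) (tt N72478 F422628) (tt N113521 (iv5 F485885)) (tt N98831 F422629) (tt N72658 F422630))
theorem Q98869 : ∀ i, i < 98869 → P i := stepQ 98868 Q98868 (allL N98868 (tt N72665 (iv1 F422635)) (tt N61835 (iv0 D201989)) (tt N72662 (iv2 F422633)) (tt N119737 D222996) (tt N83272 F422632) (tt N77830 F422631) (tt N112864 (iv6 F483027)) (tt N72663 F422634))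
theorem Q98870 : ∀ i, i < 98870 → P i := stepQ 98869 Q98869 (allL N98869 (tt N72663 (iv1 F422639)) (tt N72662 F422640) (tt N72665 F422636) (tt N112604 (iv3 F481797)) (tt N83166 F422637) (tt N61836 F422638) (tt N113355 (iv6 F485156)) (tt N61835 (iv7 D201990)))
theorem Q98871 : ∀ i, i < 98871 → P i := stepQ 98870 Q98870 (allL N98870 (tt N110685 (iv1 F472759)) (tt N61921 (iv0 F422643)) (tt N118227 F509246) (tt N61837 (iv3 D201991)) (tt N93863 F422641) (tt N101304 (iv5 F432592)) (tt N99292 (iv6 F423963)) (tt N72671 F422642))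
theorem Q98872 : ∀ i, i < 98872 → P i := stepQ 98871 Q98871 (allL N98871 (tt N61866 F422838) (tt N110693 F472781) (tt N119691 (iv2 F516943)) (tt N61838 (iv3 D201992)) (tt N94398 F422644) (tt N113514 (iv5 F485860)) (tt N94396 F422645) (tt N72668 F422646))
theorem Q98873 : ∀ i, i < 98873 → P i := stepQ 98872 Q98872 (allL N98872 (tt N118265 (iv1 F509435)) (tt N97011 (iv0 F422651)) (tt N74087 F422652) (tt N61839 (iv3 D201993)) (tt N62625 F422647) (tt N62105 F422648) (tt N76606 F422649) (tt N72643 F422650))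
theorem Q98874 : ∀ i, i < 98874 → P i := stepQ 98873 Q98873 (allL N98873 (tt N82082 F422655) (tt N76797 F422671) (tt N61843 F422653) (tt N110709 (iv3 F472849)) (tt N62218 F422654) (tt N119738 D222997) (tt N61841 (iv6 D201994)) (tt N110705 (iv7 F472841)))
theorem Q98875 : ∀ i, i < 98875 → P i := stepQ 98874 Q98874 (allL N98874 (tt N90993 F422660) (tt N90995 F422661) (tt N90994 F422656) (tt N83217 F422657) (tt N61842 (iv4 D201995)) (tt N91294 F422659) (tt N83216 (iv6 F422662)) (tt N72648 F422658))
theorem Q98876 : ∀ i, i < 98876 → P i := stepQ 98875 Q98875 (allL N98875 (tt N110619 F472434) (tt N110985 (iv0 F474091)) (tt N99201 (iv2 F423676)) (tt N61844 F422664) (tt N83216 F422665) (tt N109981 (iv5 F469453)) (tt N61842 (iv6 D201996)) (tt N91351 (iv7 F422666)))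
theorem Q98877 : ∀ i, i < 98877 → P i := stepQ 98876 Q98876 (allL N98876 (tt N110705 (iv1 F472842)) (tt N61843 (iv0 D201997)) (tt N82082 (iv2 F422669)) (tt N110814 (iv3 F473279)) (tt N72784 F422667) (tt N119739 D222998) (tt N68337 F422668) (tt N76797 (iv7 F422670)))
theorem Q98878 : ∀ i, i < 98878 → P i := stepQ 98877 Q98877 (allL N98877 (tt N61843 (iv1 D201998)) (tt N110705 F472843) (tt N76797 (iv2 F422676)) (tt N110651 (iv3 F472593)) (tt N72785 (iv4 F422674)) (tt N119740 D222999) (tt N76596 F422675) (tt N82082 F422673))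
theorem Q98879 : ∀ i, i < 98879 → P i := stepQ 98878 Q98878 (allL N98878 (tt N107662 F459134) (tt N119741 D223000) (tt N119738 (iv2 F517178)) (tt N61847 F422677) (tt N113392 (iv4 F485323)) (tt N61843 (iv5 D201999)) (tt N109981 F469455) (tt N110706 (iv7 F472845)))
theorem Q98880 : ∀ i, i < 98880 → P i := stepQ 98879 Q98879 (allL N98879 (tt N61844 (iv1 D202000)) (tt N63796 F422678) (tt N77986 F422682) (tt N86375 (iv3 F422680)) (tt N86376 (iv4 F422681)) (tt N119742 D223001) (tt N119743 D223002) (tt N77977 F422679))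
theorem Q98881 : ∀ i, i < 98881 → P i := stepQ 98880 Q98880 (allL N98880 (tt N102667 (iv1 F438142)) (tt N116947 (iv0 F502646)) (tt N99168 (iv2 F423552)) (tt N109981 F469454) (tt N113189 (iv4 F484394)) (tt N61844 (iv5 D202001)) (tt N61847 F422683) (tt N110564 (iv7 F472164)))
theorem Q98882 : ∀ i, i < 98882 → P i := stepQ 98881 Q98881 (allL N98881 (tt N112083 (iv1 F479420)) (tt N99246 (iv0 F428592)) (tt N100413 (iv2 F428859)) (tt N61846 (iv3 D202002)) (tt N100360 (iv4 F428589)) (tt N107540 (iv5 F458696)) (tt N100359 F428586) (tt N94256 F422684))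
theorem Q98883 : ∀ i, i < 98883 → P i := stepQ 98882 Q98882 (allL N98882 (tt N61867 (iv1 F422688)) (tt N102702 (iv0 F438266)) (tt N71382 (iv2 F422687)) (tt N61848 (iv3 D202003)) (tt N70891 F422686) (tt N118136 (iv5 F508797)) (tt N107288 (iv6 F457816)) (tt N71385 F422685))
theorem Q98884 : ∀ i, i < 98884 → P i := stepQ 98883 Q98883 (allL N98883 (tt N91407 (iv1 F422691)) (tt N93908 F422690) (tt N99684 F425736) (tt N99696 F425782) (tt N61848 (iv4 D202004)) (tt N111119 (iv5 F474766)) (tt N99234 F423792) (tt N91266 F422689))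
theorem Q98885 : ∀ i, i < 98885 → P i := stepQ 98884 Q98884 (allL N98884 (tt N99581 F425274) (tt N61939 F423793) (tt N108534 (iv2 F462982)) (tt N107288 (iv3 F457810)) (tt N99234 F423794) (tt N116575 (iv5 F500809)) (tt N61848 (iv6 D202005)) (tt N117488 (iv7 F505298)))
theorem Q98886 : ∀ i, i < 98886 → P i := stepQ 98885 Q98885 (allL N98885 (tt N93639 (iv1 F422694)) (tt N61915 (iv0 F422693)) (tt N99088 F423295) (tt N61849 (iv3 D202006)) (tt N107292 (iv4 F457831)) (tt N70747 F422692) (tt N114613 (iv6 F491018)) (tt N99089 (iv7 F423299)))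
theorem Q98887 : ∀ i, i < 98887 → P i := stepQ 98886 Q98886 (allL N98886 (tt N99289 F423955) (tt N107562 (iv0 F458756)) (tt N61852 F422697) (tt N81923 F422698) (tt N99655 (iv4 F425613)) (tt N81922 (iv5 F422699)) (tt N61850 (iv6 D202008)) (tt N119744 D223003))
theorem Q98888 : ∀ i, i < 98888 → P i := stepQ 98887 Q98887 (allL N98887 (tt N92544 F422701) (tt N95317 (iv0 F422703)) (tt N99076 (iv2 F423250)) (tt N74306 F422700) (tt N61851 (iv4 D202009)) (tt N74119 (iv5 F422702)) (tt N118325 (iv6 F509715)) (tt N99074 (iv7 F423240)))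
theorem Q98889 : ∀ i, i < 98889 → P i := stepQ 98888 Q98888 (allL N98888 (tt N119745 D223004) (tt N99286 (iv0 F442827)) (tt N99077 (iv2 F423253)) (tt N61853 F422704) (tt N118325 (iv4 F509713)) (tt N116190 F498932) (tt N61851 (iv6 D202010)) (tt N106663 (iv7 F455206)))
theorem Q98890 : ∀ i, i < 98890 → P i := stepQ 98889 Q98889 (allL N98889 (tt N119744 (iv1 F517209)) (tt N61852 (iv0 D202011)) (tt N99289 (iv2 F423953)) (tt N119746 D223005) (tt N90586 F422705) (tt N109979 (iv5 F469450)) (tt N78055 F422706) (tt N107562 (iv7 F458755)))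
theorem Q98891 : ∀ i, i < 98891 → P i := stepQ 98890 Q98890 (allL N98890 (tt N61852 (iv1 D202012)) (tt N119744 F517208) (tt N107562 (iv2 F458752)) (tt N119747 D223006) (tt N99232 (iv4 F423780)) (tt N109826 (iv5 F468806)) (tt N99231 (iv6 F423779)) (tt N99289 (iv7 F423954)))
theorem Q98892 : ∀ i, i < 98892 → P i := stepQ 98891 Q98891 (allL N98891 (tt N119748 D223007) (tt N100476 (iv0 F434934)) (tt N81922 F422707) (tt N61854 F422708) (tt N113179 (iv4 F484351)) (tt N61852 (iv5 D202013)) (tt N116190 (iv6 F498928)) (tt N119749 D223008))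
theorem Q98893 : ∀ i, i < 98893 → P i := stepQ 98892 Q98892 (allL N98892 (tt N107562 (iv1 F458757)) (tt N99289 F458758) (tt N119744 (iv2 F517205)) (tt N61855 F422709) (tt N99661 (iv4 F425633)) (tt N119749 (iv5 F517228)) (tt N108539 (iv6 F462994)) (tt N61852 (iv7 D202014)))
theorem Q98894 : ∀ i, i < 98894 → P i := stepQ 98893 Q98893 (allL N98893 (tt N61853 (iv1 D202015)) (tt N99083 F423272) (tt N99081 F423266) (tt N77705 F422711) (tt N77707 (iv4 F422710)) (tt N119750 D223009) (tt N99609 (iv6 F425399)) (tt N99080 F423261))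
theorem Q98895 : ∀ i, i < 98895 → P i := stepQ 98894 Q98894 (allL N98894 (tt N107336 (iv1 F479951)) (tt N119751 D223010) (tt N99082 (iv2 F423267)) (tt N116190 (iv3 F498927)) (tt N113178 (iv4 F484346)) (tt N61853 (iv5 D202016)) (tt N61854 F422712) (tt N116535 (iv7 F500655)))
theorem Q98896 : ∀ i, i < 98896 → P i := stepQ 98895 Q98895 (allL N98895 (tt N99081 (iv1 F423263)) (tt N99080 F423262) (tt N99083 (iv2 F423269)) (tt N106663 (iv3 F455205)) (tt N97073 F422713) (tt N116535 (iv5 F500654)) (tt N63684 F422714) (tt N61853 (iv7 D202017)))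
theorem Q98897 : ∀ i, i < 98897 → P i := stepQ 98896 Q98896 (allL N98896 (tt N77821 (iv1 F422718)) (tt N77931 F422719) (tt N77929 F422715) (tt N119749 (iv3 F517226)) (tt N88392 F422716) (tt N61855 F422717) (tt N119752 D223011) (tt N61854 (iv7 D202018)))
theorem Q98898 : ∀ i, i < 98898 → P i := stepQ 98897 Q98897 (allL N98897 (tt N101327 (iv1 F432673)) (tt N61882 F422723) (tt N108393 (iv2 F462388)) (tt N72676 F422722) (tt N101112 (iv4 F431733)) (tt N61856 (iv5 D202019)) (tt N106471 (iv6 F454592)) (tt N101111 F431730))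
theorem Q98899 : ∀ i, i < 98899 → P i := stepQ 98898 Q98898 (allL N98898 (tt N102638 F437993) (tt N61863 F422751) (tt N72674 F422724) (tt N61857 (iv3 D202020)) (tt N99265 (iv4 F423875)) (tt N119753 D223012) (tt N98944 F423876) (tt N102701 (iv7 F438260)))
theorem Q98900 : ∀ i, i < 98900 → P i := stepQ 98899 Q98899 (allL N98899 (tt N61882 F422726) (tt N101327 (iv0 F432672)) (tt N101111 (iv2 F431724)) (tt N119753 (iv3 F517243)) (tt N64383 F422725) (tt N61857 (iv5 D202021)) (tt N64384 F422727) (tt N108393 (iv7 F462390)))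
theorem Q98901 : ∀ i, i < 98901 → P i := stepQ 98900 Q98900 (allL N98900 (tt N61936 F423877) (tt N99029 F423878) (tt N110662 F472654) (tt N98944 F423879) (tt N107772 (iv4 F459658)) (tt N107859 (iv5 F460028)) (tt N61857 (iv6 D202022)) (tt N110663 (iv7 F472657)))
theorem Q98902 : ∀ i, i < 98902 → P i := stepQ 98901 Q98901 (allL N98901 (tt N90916 (iv1 F422732)) (tt N90941 F422731) (tt N61859 F422728) (tt N99071 F423232) (tt N79150 F422729) (tt N61858 (iv5 D202023)) (tt N106664 (iv6 F455209)) (tt N90940 F422730))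
theorem Q98903 : ∀ i, i < 98903 → P i := stepQ 98902 Q98902 (allL N98902 (tt N90211 F422737) (tt N69832 F422738) (tt N79150 F422733) (tt N71775 F422734) (tt N61859 (iv4 D202024)) (tt N63950 F422736) (tt N119754 D223013) (tt N71785 F422735))
theorem Q98904 : ∀ i, i < 98904 → P i := stepQ 98903 Q98903 (allL N98903 (tt N105986 F452636) (tt N119755 D223014) (tt N106664 (iv2 F455208)) (tt N61861 F422739) (tt N119754 (iv4 F517251)) (tt N119756 D223015) (tt N61859 (iv6 D202025)) (tt N110565 (iv7 F472166)))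
theorem Q98905 : ∀ i, i < 98905 → P i := stepQ 98904 Q98904 (allL N98904 (tt N119093 (iv1 F513757)) (tt N112568 F481687) (tt N118758 (iv2 F511921)) (tt N61862 F422740) (tt N72484 F422741) (tt N61860 (iv5 D202026)) (tt N119756 (iv6 F517261)) (tt N110699 (iv7 F472811)))
theorem Q98906 : ∀ i, i < 98906 → P i := stepQ 98905 Q98905 (allL N98905 (tt N109608 (iv1 F467714)) (tt N109966 (iv0 F469410)) (tt N99078 (iv2 F423254)) (tt N119756 (iv3 F517260)) (tt N89342 (iv4 F422743)) (tt N61861 (iv5 D202027)) (tt N61862 F422742) (tt N109967 (iv7 F469412)))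
theorem Q98907 : ∀ i, i < 98907 → P i := stepQ 98906 Q98906 (allL N98906 (tt N61863 (iv1 D202029)) (tt N102638 (iv0 F437992)) (tt N102701 (iv2 F438262)) (tt N62214 (iv3 F422748)) (tt N73425 F422747) (tt N119757 D223016) (tt N76159 F422749) (tt N72674 F422750))
theorem Q98908 : ∀ i, i < 98908 → P i := stepQ 98907 Q98907 (allL N98907 (tt N93636 F422754) (tt N99086 F423283) (tt N99085 (iv2 F423278)) (tt N61865 F422752) (tt N73394 F422753) (tt N61863 (iv5 D202030)) (tt N119758 D223017) (tt N99072 (iv7 F423236)))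
theorem Q98909 : ∀ i, i < 98909 → P i := stepQ 98908 Q98908 (allL N98908 (tt N61864 (iv1 D202031)) (tt N61868 F422761) (tt N74303 F422763) (tt N74120 (iv3 F422762)) (tt N107520 (iv4 F458641)) (tt N92419 (iv5 F423223)) (tt N108817 (iv6 F464104)) (tt N107574 (iv7 F458806)))
theorem Q98910 : ∀ i, i < 98910 → P i := stepQ 98909 Q98909 (allL N98909 (tt N106431 (iv1 F454405)) (tt N106429 (iv0 F454393)) (tt N106563 (iv2 F454872)) (tt N61864 (iv3 D202032)) (tt N102640 (iv4 F438001)) (tt N118489 (iv5 F510649)) (tt N119759 D223018) (tt N102705 (iv7 F438281)))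
theorem Q98911 : ∀ i, i < 98911 → P i := stepQ 98910 Q98910 (allL N98910 (tt N92543 (iv1 F426656)) (tt N118482 F510613) (tt N99880 (iv2 F426657)) (tt N118489 F510650) (tt N99879 (iv4 F426653)) (tt N61864 (iv5 D202033)) (tt N119760 D223019) (tt N118481 (iv7 F510606)))
theorem Q98912 : ∀ i, i < 98912 → P i := stepQ 98911 Q98911 (allL N98911 (tt N107599 F517279) (tt N108579 (iv0 F463136)) (tt N117826 (iv2 F507151)) (tt N119759 (iv3 F517273)) (tt N61866 F422764) (tt N118523 (iv5 F510796)) (tt N61864 (iv6 D202034)) (tt N118485 (iv7 F510626)))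
theorem Q98913 : ∀ i, i < 98913 → P i := stepQ 98912 Q98912 (allL N98912 (tt N99048 F423142) (tt N77705 (iv0 F422767)) (tt N99073 (iv2 F423238)) (tt N119758 (iv3 F517269)) (tt N73393 F422765) (tt N119761 D223020) (tt N61865 (iv6 D202035)) (tt N63681 F422766))
theorem Q98914 : ∀ i, i < 98914 → P i := stepQ 98913 Q98913 (allL N98913 (tt N110693 (iv1 F472782)) (tt N61866 (iv0 D202036)) (tt N72668 (iv2 F422840)) (tt N118227 (iv3 F509249)) (tt N119718 (iv4 F517074)) (tt N119762 D223021) (tt N119763 D223022) (tt N119691 (iv7 F516941)))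
theorem Q98915 : ∀ i, i < 98915 → P i := stepQ 98914 Q98914 (allL N98914 (tt N110740 (iv1 F472967)) (tt N71557 (iv0 F422768)) (tt N110737 F472953) (tt N98947 (iv3 F422841)) (tt N119764 D223023) (tt N61866 (iv5 D202038)) (tt N119761 (iv6 F517286)) (tt N110738 (iv7 F472956)))
theorem Q98916 : ∀ i, i < 98916 → P i := stepQ 98915 Q98915 (allL N98915 (tt N119691 (iv1 F516940)) (tt N72668 (iv0 F422770)) (tt N110693 (iv2 F472778)) (tt N93510 F422769) (tt N118485 (iv4 F510625)) (tt N110738 F472957) (tt N110607 F472372) (tt N61866 (iv7 D202039)))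
theorem Q98917 : ∀ i, i < 98917 → P i := stepQ 98916 Q98916 (allL N98916 (tt N102702 F438267) (tt N61867 (iv0 D202040)) (tt N71385 (iv2 F422772)) (tt N99088 (iv3 F423292)) (tt N70890 F422771) (tt N104181 (iv5 F444563)) (tt N116619 (iv6 F501004)) (tt N71382 F422773))
theorem Q98918 : ∀ i, i < 98918 → P i := stepQ 98917 Q98917 (allL N98917 (tt N93635 F422778) (tt N93632 F422779) (tt N93301 F422774) (tt N61869 F422775) (tt N70122 F422777) (tt N61867 (iv5 D202041)) (tt N63682 (iv6 F422780)) (tt N93634 F422776))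
theorem Q98919 : ∀ i, i < 98919 → P i := stepQ 98918 Q98918 (allL N98918 (tt N119765 D223024) (tt N119766 D223025) (tt N106572 (iv2 F454909)) (tt N61870 F422781) (tt N90345 F422782) (tt N117372 (iv5 F504713)) (tt N61867 (iv6 D202042)) (tt N110690 (iv7 F472765)))
theorem Q98920 : ∀ i, i < 98920 → P i := stepQ 98919 Q98919 (allL N98919 (tt N118482 (iv1 F510614)) (tt N92543 F422784) (tt N118481 F510605) (tt N69032 F422783) (tt N99858 (iv4 F426577)) (tt N61868 (iv5 D202043)) (tt N108774 (iv6 F463869)) (tt N99880 (iv7 F426659)))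
theorem Q98921 : ∀ i, i < 98921 → P i := stepQ 98920 Q98920 (allL N98920 (tt N73391 (iv1 F422793)) (tt N62083 (iv0 F422792)) (tt N73357 F422787) (tt N66734 F422788) (tt N61869 (iv4 D202044)) (tt N74420 F422791) (tt N63110 F422789) (tt N73392 F422790))
theorem Q98922 : ∀ i, i < 98922 → P i := stepQ 98921 Q98921 (allL N98921 (tt N109969 F469421) (tt N110234 (iv0 F470557)) (tt N109971 (iv2 F469425)) (tt N117372 (iv3 F504711)) (tt N88609 (iv4 F422795)) (tt N61870 (iv5 D202045)) (tt N63683 F422794) (tt N110692 (iv7 F472773)))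
theorem Q98923 : ∀ i, i < 98923 → P i := stepQ 98922 Q98922 (allL N98922 (tt N61879 (iv1 F422800)) (tt N61872 (iv0 D202047)) (tt N61876 F438324) (tt N119767 D223026) (tt N108815 (iv4 F464093)) (tt N106667 F455223) (tt N110604 (iv6 F472349)) (tt N61877 F438325))
theorem Q98924 : ∀ i, i < 98924 → P i := stepQ 98923 Q98923 (allL N98923 (tt N61872 (iv1 D202048)) (tt N61879 F422796) (tt N61877 F438322) (tt N76824 F422797) (tt N108816 F464098) (tt N106666 (iv5 F455216)) (tt N99037 F423111) (tt N61876 F438323))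
theorem Q98925 : ∀ i, i < 98925 → P i := stepQ 98924 Q98924 (allL N98924 (tt N119768 D223027) (tt N119769 D223028) (tt N61878 F422798) (tt N101455 (iv3 F433023)) (tt N106333 F454071) (tt N61872 (iv5 D202049)) (tt N101453 F433015) (tt N119770 D223029))
theorem Q98926 : ∀ i, i < 98926 → P i := stepQ 98925 Q98925 (allL N98925 (tt N61877 (iv1 F422801)) (tt N61876 F422802) (tt N61879 F422799) (tt N110206 (iv3 F470432)) (tt N108766 (iv4 F463847)) (tt N119770 (iv5 F517335)) (tt N110664 (iv6 F472667)) (tt N61872 (iv7 D202050)))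
theorem Q98927 : ∀ i, i < 98927 → P i := stepQ 98926 Q98926 (allL N98926 (tt N119753 (iv1 F517247)) (tt N119757 (iv0 F517267)) (tt N82103 (iv2 F422805)) (tt N61873 (iv3 D202051)) (tt N99254 F423847) (tt N61966 F422803) (tt N78200 F422804) (tt N102776 (iv7 F438599)))
theorem Q98928 : ∀ i, i < 98928 → P i := stepQ 98927 Q98927 (allL N98927 (tt N104181 F444566) (tt N118136 (iv0 F508800)) (tt N99030 (iv2 F423091)) (tt N61874 (iv3 D202052)) (tt N99487 (iv4 F424815)) (tt N61969 F422806) (tt N99014 (iv6 F423035)) (tt N77892 F422807))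
theorem Q98929 : ∀ i, i < 98929 → P i := stepQ 98928 Q98928 (allL N98928 (tt N74491 F422809) (tt N99226 (iv0 F423755)) (tt N99831 (iv2 F426431)) (tt N73180 F422810) (tt N61874 (iv4 D202053)) (tt N99830 F426429) (tt N73178 F422808) (tt N103154 (iv7 F440330)))
theorem Q98930 : ∀ i, i < 98930 → P i := stepQ 98929 Q98929 (allL N98929 (tt N107563 F458763) (tt N61875 (iv0 D202054)) (tt N99006 (iv2 F423010)) (tt N118303 (iv3 F509600)) (tt N62303 F422811) (tt N109959 (iv5 F469379)) (tt N62302 F422812) (tt N107565 (iv7 F458774)))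
theorem Q98931 : ∀ i, i < 98931 → P i := stepQ 98930 Q98930 (allL N98930 (tt N61875 (iv1 D202055)) (tt N107563 (iv0 F458762)) (tt N107565 F458772) (tt N99011 (iv3 F423024)) (tt N81707 (iv4 F422813)) (tt N109958 (iv5 F469376)) (tt N109932 F469289) (tt N99006 F423014))
theorem Q98932 : ∀ i, i < 98932 → P i := stepQ 98931 Q98931 (allL N98931 (tt N119771 D223030) (tt N119772 D223031) (tt N101453 (iv2 F433010)) (tt N61886 F422814) (tt N83549 (iv4 F433012)) (tt N61875 (iv5 D202056)) (tt N61878 F422815) (tt N107566 (iv7 F458776)))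
theorem Q98933 : ∀ i, i < 98933 → P i := stepQ 98932 Q98932 (allL N98932 (tt N76826 (iv1 F422819)) (tt N76159 (iv0 F422818)) (tt N76825 F438331) (tt N61876 (iv3 D202058)) (tt N102712 (iv4 F438315)) (tt N110566 (iv5 F472167)) (tt N110666 (iv6 F472675)) (tt N76824 F438321))
theorem Q98934 : ∀ i, i < 98934 → P i := stepQ 98933 Q98933 (allL N98933 (tt N63164 F422817) (tt N108817 F464107) (tt N108815 F464095) (tt N102727 (iv3 F438380)) (tt N61876 (iv4 D202059)) (tt N118543 (iv5 F510868)) (tt N110667 (iv6 F472683)) (tt N108816 (iv7 F464097)))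
theorem Q98935 : ∀ i, i < 98935 → P i := stepQ 98934 Q98934 (allL N98934 (tt N106665 F455213) (tt N106668 F455227) (tt N106667 (iv2 F455224)) (tt N110566 F472170) (tt N119773 D223032) (tt N61876 (iv5 D202060)) (tt N119774 D223033) (tt N106666 F455219))
theorem Q98936 : ∀ i, i < 98936 → P i := stepQ 98935 Q98935 (allL N98935 (tt N116619 F501007) (tt N117486 (iv0 F505289)) (tt N106582 (iv2 F454943)) (tt N61877 (iv3 D202063)) (tt N101446 (iv4 F438330)) (tt N112615 (iv5 F481851)) (tt N100947 F438328) (tt N119767 (iv7 F517317)))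
theorem Q98937 : ∀ i, i < 98937 → P i := stepQ 98936 Q98936 (allL N98936 (tt N108817 (iv1 F464106)) (tt N63164 (iv0 F422821)) (tt N108816 (iv2 F464100)) (tt N117830 F507168) (tt N61877 (iv4 D202064)) (tt N118542 (iv5 F510865)) (tt N119775 D223034) (tt N108815 F464096))
theorem Q98938 : ∀ i, i < 98938 → P i := stepQ 98937 Q98937 (allL N98937 (tt N106668 (iv1 F455228)) (tt N106665 (iv0 F455212)) (tt N106666 F455217) (tt N112615 (iv3 F481852)) (tt N119776 D223035) (tt N61877 (iv5 D202065)) (tt N116942 (iv6 F502618)) (tt N106667 (iv7 F455222)))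
theorem Q98939 : ∀ i, i < 98939 → P i := stepQ 98938 Q98938 (allL N98938 (tt N99291 F438329) (tt N119763 (iv0 F517297)) (tt N99037 F438326) (tt N100947 (iv3 F438327)) (tt N119775 (iv4 F517357)) (tt N106779 (iv5 F455648)) (tt N61877 (iv6 D202066)) (tt N110671 (iv7 F472696)))
theorem Q98940 : ∀ i, i < 98940 → P i := stepQ 98939 Q98939 (allL N98939 (tt N119770 (iv1 F517337)) (tt N61878 (iv0 D202067)) (tt N119768 F517322) (tt N100471 F503965) (tt N100252 F503966) (tt N71549 F503967) (tt N119777 D223036) (tt N119769 (iv7 F517326)))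
theorem Q98941 : ∀ i, i < 98941 → P i := stepQ 98940 Q98940 (allL N98940 (tt N61878 (iv1 D202068)) (tt N119770 F517336) (tt N119769 (iv2 F517330)) (tt N119778 D223037) (tt N119779 D223038) (tt N71550 (iv5 F423234)) (tt N119780 D223039) (tt N119768 F517324))
theorem Q98942 : ∀ i, i < 98942 → P i := stepQ 98941 Q98941 (allL N98941 (tt N106641 (iv1 F464787)) (tt N119781 D223040) (tt N106333 (iv2 F454069)) (tt N119782 D223041) (tt N61878 (iv4 D202069)) (tt N106320 (iv5 F454012)) (tt N83549 F433013) (tt N106337 (iv7 F454077)))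
theorem Q98943 : ∀ i, i < 98943 → P i := stepQ 98942 Q98942 (allL N98942 (tt N119769 (iv1 F517325)) (tt N119768 (iv0 F517323)) (tt N119770 (iv2 F517333)) (tt N61896 F422822) (tt N106337 F454078) (tt N61879 F422823) (tt N119783 D223042) (tt N61878 (iv7 D202070)))
theorem Q98944 : ∀ i, i < 98944 → P i := stepQ 98943 Q98943 (allL N98943 (tt N108393 (iv1 F462392)) (tt N101111 (iv0 F431728)) (tt N61882 (iv2 D202071)) (tt N103213 (iv3 F440596)) (tt N69990 F422824) (tt N61965 F422825) (tt N96305 F422826) (tt N101327 (iv7 F432671)))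
theorem Q98945 : ∀ i, i < 98945 → P i := stepQ 98944 Q98944 (allL N98944 (tt N61883 (iv1 D202072)) (tt N97211 F422828) (tt N99731 (iv2 F425958)) (tt N98900 (iv3 F423879)) (tt N62139 F422829) (tt N119784 D223043) (tt N98898 (iv6 F423876)) (tt N103216 (iv7 F440617)))
theorem Q98946 : ∀ i, i < 98946 → P i := stepQ 98945 Q98945 (allL N98945 (tt N99731 F425956) (tt N103216 F440616) (tt N97211 F422830) (tt N72437 F422831) (tt N97060 F422832) (tt N110665 (iv5 F472671)) (tt N97208 F422833) (tt N61883 (iv7 D202073)))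
theorem Q98947 : ∀ i, i < 98947 → P i := stepQ 98946 Q98946 (allL N98946 (tt N74249 F422837) (tt N94037 (iv0 F422839)) (tt N66303 F422834) (tt N114878 (iv3 F492296)) (tt N61884 (iv4 D202074)) (tt N110419 (iv5 F471484)) (tt N66225 F422835) (tt N94931 F422836))
theorem Q98948 : ∀ i, i < 98948 → P i := stepQ 98947 Q98947 (allL N98947 (tt N112580 F481712) (tt N110919 (iv0 F473792)) (tt N118233 (iv2 F509277)) (tt N98914 F422841) (tt N119785 D223044) (tt N61884 (iv5 D202075)) (tt N119786 D223045) (tt N118234 (iv7 F509284)))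
theorem Q98949 : ∀ i, i < 98949 → P i := stepQ 98948 Q98948 (allL N98948 (tt N106471 F454593) (tt N101634 (iv0 F503024)) (tt N119787 D223046) (tt N61885 (iv3 D202076)) (tt N117025 (iv4 F503020)) (tt N119788 D223047) (tt N117024 F503017) (tt N118232 (iv7 F509276)))
theorem Q98950 : ∀ i, i < 98950 → P i := stepQ 98949 Q98949 (allL N98949 (tt N94037 F422847) (tt N74249 F422844) (tt N94931 F422842) (tt N98459 (iv3 F422845)) (tt N61885 (iv4 D202077)) (tt N98457 F422846) (tt N100414 F428864) (tt N66303 F422843))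
theorem Q98951 : ∀ i, i < 98951 → P i := stepQ 98950 Q98950 (allL N98950 (tt N110919 (iv1 F473793)) (tt N112580 (iv0 F481711)) (tt N118234 (iv2 F509282)) (tt N119788 (iv3 F517421)) (tt N119789 D223048) (tt N61885 (iv5 D202078)) (tt N119790 D223049) (tt N118233 (iv7 F509278)))
theorem Q98952 : ∀ i, i < 98952 → P i := stepQ 98951 Q98951 (allL N98951 (tt N100423 F428909) (tt N94989 (iv0 F428866)) (tt N118235 (iv2 F509287)) (tt N117024 (iv3 F503014)) (tt N100414 (iv4 F428865)) (tt N119791 D223050) (tt N61885 (iv6 D202079)) (tt N119792 D223051))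
theorem Q98953 : ∀ i, i < 98953 → P i := stepQ 98952 Q98952 (allL N98952 (tt N101449 (iv1 F432995)) (tt N61886 (iv0 D202080)) (tt N118236 F509296) (tt N110735 (iv3 F472947)) (tt N119793 D223052) (tt N110570 (iv5 F472185)) (tt N110735 F472949) (tt N118237 (iv7 F509299)))
theorem Q98954 : ∀ i, i < 98954 → P i := stepQ 98953 Q98953 (allL N98953 (tt N61886 (iv1 D202081)) (tt N101449 (iv0 F432992)) (tt N118237 (iv2 F509303)) (tt N119794 D223053) (tt N110742 (iv4 F472973)) (tt N99131 (iv5 F423417)) (tt N110741 F472971) (tt N118236 F509297))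
theorem Q98955 : ∀ i, i < 98955 → P i := stepQ 98954 Q98954 (allL N98954 (tt N119795 D223054) (tt N106657 (iv0 F455184)) (tt N118238 (iv2 F509305)) (tt N113354 (iv3 F485153)) (tt N61886 (iv4 D202082)) (tt N119796 D223055) (tt N61895 F422851) (tt N119797 D223056))
theorem Q98956 : ∀ i, i < 98956 → P i := stepQ 98955 Q98955 (allL N98955 (tt N118237 (iv1 F509298)) (tt N118236 F509295) (tt N101449 (iv2 F432994)) (tt N107566 (iv3 F458775)) (tt N119797 (iv4 F517459)) (tt N61887 F422852) (tt N110537 (iv6 F472045)) (tt N61886 (iv7 D202083)))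
theorem Q98957 : ∀ i, i < 98957 → P i := stepQ 98956 Q98956 (allL N98956 (tt N91263 (iv1 F422857)) (tt N91265 F422856) (tt N61888 (iv2 D202084)) (tt N76834 F422853) (tt N87706 F422854) (tt N119798 D223057) (tt N90739 F422855) (tt N108650 (iv7 F463358)))
theorem Q98958 : ∀ i, i < 98958 → P i := stepQ 98957 Q98957 (allL N98957 (tt N117484 (iv1 F505279)) (tt N110000 (iv0 F469512)) (tt N119798 (iv2 F517462)) (tt N61889 F422858) (tt N106669 (iv4 F455229)) (tt N61888 (iv5 D202085)) (tt N106616 (iv6 F455065)) (tt N106669 (iv7 F455231)))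
theorem Q98959 : ∀ i, i < 98959 → P i := stepQ 98958 Q98958 (allL N98958 (tt N107664 (iv1 F459140)) (tt N107667 (iv0 F459151)) (tt N106608 (iv2 F455036)) (tt N106616 (iv3 F455063)) (tt N61889 (iv4 D202086)) (tt N99143 F423449) (tt N61889 F423450) (tt N106616 (iv7 F455066)))
theorem Q98960 : ∀ i, i < 98960 → P i := stepQ 98959 Q98959 (allL N98959 (tt N61890 (iv1 D202088)) (tt N76834 (iv0 F422863)) (tt N76601 F422862) (tt N76826 (iv3 F422861)) (tt N90008 (iv4 F422860)) (tt N119799 D223058) (tt N110663 (iv6 F472660)) (tt N76835 F422859))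
theorem Q98961 : ∀ i, i < 98961 → P i := stepQ 98960 Q98960 (allL N98960 (tt N76835 (iv1 F422866)) (tt N76601 F422865) (tt N61890 (iv2 D202089)) (tt N108650 (iv3 F463354)) (tt N108466 (iv4 F462711)) (tt N119800 D223059) (tt N99024 (iv6 F424184)) (tt N76834 F422864))
theorem Q98962 : ∀ i, i < 98962 → P i := stepQ 98961 Q98961 (allL N98961 (tt N76813 F424166) (tt N119801 D223060) (tt N119800 (iv2 F517475)) (tt N61891 F422867) (tt N119802 D223061) (tt N61890 (iv5 D202090)) (tt N119800 (iv6 F517477)) (tt N106670 (iv7 F455235)))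
theorem Q98963 : ∀ i, i < 98963 → P i := stepQ 98962 Q98962 (allL N98962 (tt N99013 (iv1 F423084)) (tt N99026 (iv0 F423083)) (tt N99024 F424183) (tt N61892 F422868) (tt N99612 (iv4 F425416)) (tt N99024 F424180) (tt N61890 (iv6 D202091)) (tt N99023 F423072))
theorem Q98964 : ∀ i, i < 98964 → P i := stepQ 98963 Q98963 (allL N98963 (tt N107667 (iv1 F459152)) (tt N107664 (iv0 F459139)) (tt N106616 (iv2 F455062)) (tt N119803 D223062) (tt N61891 (iv4 D202092)) (tt N106021 (iv5 F452772)) (tt N119798 (iv6 F517465)) (tt N106608 (iv7 F455038)))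
theorem Q98965 : ∀ i, i < 98965 → P i := stepQ 98964 Q98964 (allL N98964 (tt N110000 (iv1 F469513)) (tt N117484 (iv0 F505278)) (tt N106669 (iv2 F455233)) (tt N119800 (iv3 F517476)) (tt N119798 (iv4 F517464)) (tt N108650 (iv5 F463356)) (tt N61891 (iv6 D202093)) (tt N119798 (iv7 F517466)))
theorem Q98966 : ∀ i, i < 98966 → P i := stepQ 98965 Q98965 (allL N98965 (tt N78052 F422869) (tt N78055 F422870) (tt N99287 F423949) (tt N99024 (iv3 F424182)) (tt N108651 (iv4 F463363)) (tt N61892 (iv5 D202094)) (tt N108650 (iv6 F463357)) (tt N99288 (iv7 F423951)))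
theorem Q98967 : ∀ i, i < 98967 → P i := stepQ 98966 Q98966 (allL N98966 (tt N117487 (iv1 F505294)) (tt N109983 F469459) (tt N119804 D223063) (tt N61893 (iv3 D202095)) (tt N110743 (iv4 F472978)) (tt N71546 F422871) (tt N119805 D223064) (tt N110743 (iv7 F472977)))
theorem Q98968 : ∀ i, i < 98968 → P i := stepQ 98967 Q98967 (allL N98967 (tt N106348 (iv1 F454095)) (tt N102668 (iv0 F438143)) (tt N110741 (iv2 F472968)) (tt N110744 (iv3 F472980)) (tt N61893 (iv4 D202096)) (tt N71524 F422872) (tt N118237 F509302) (tt N110744 (iv7 F472982)))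
theorem Q98969 : ∀ i, i < 98969 → P i := stepQ 98968 Q98968 (allL N98968 (tt N99249 F504707) (tt N119806 D223065) (tt N110742 (iv2 F472972)) (tt N119805 (iv3 F517493)) (tt N118237 (iv4 F509301)) (tt N110703 (iv5 F472824)) (tt N61893 (iv6 D202097)) (tt N119793 (iv7 F517444)))
theorem Q98970 : ∀ i, i < 98970 → P i := stepQ 98969 Q98969 (allL N98969 (tt N76836 F422874) (tt N119799 (iv0 F517473)) (tt N109942 (iv2 F469326)) (tt N61894 (iv3 D202098)) (tt N119807 D223066) (tt N71548 F422873) (tt N99005 (iv6 F423009)) (tt N109943 (iv7 F469329)))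
theorem Q98971 : ∀ i, i < 98971 → P i := stepQ 98970 Q98970 (allL N98970 (tt N102668 (iv1 F438144)) (tt N106348 (iv0 F454094)) (tt N110744 (iv2 F472979)) (tt N119808 D223067) (tt N61894 (iv4 D202099)) (tt N71521 F422875) (tt N110733 (iv6 F472936)) (tt N110741 (iv7 F472969)))
theorem Q98972 : ∀ i, i < 98972 → P i := stepQ 98971 Q98971 (allL N98971 (tt N119809 D223068) (tt N119810 D223069) (tt N110745 (iv2 F472984)) (tt N99005 (iv3 F423008)) (tt N110733 F472939) (tt N99003 (iv5 F423005)) (tt N61894 (iv6 D202100)) (tt N119811 D223070))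
theorem Q98973 : ∀ i, i < 98973 → P i := stepQ 98972 Q98972 (allL N98972 (tt N118239 (iv1 F509313)) (tt N61895 (iv0 D202101)) (tt N110748 (iv2 F472996)) (tt N119812 D223071) (tt N71543 F422877) (tt N71526 F422876) (tt N99248 (iv6 F423837)) (tt N110752 (iv7 F473015)))
theorem Q98974 : ∀ i, i < 98974 → P i := stepQ 98973 Q98973 (allL N98973 (tt N61895 (iv1 D202102)) (tt N118239 F509312) (tt N110752 (iv2 F473013)) (tt N81946 (iv3 F422880)) (tt N71545 F422881) (tt N71525 (iv5 F422879)) (tt N81945 F422882) (tt N110748 (iv7 F472997)))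
theorem Q98975 : ∀ i, i < 98975 → P i := stepQ 98974 Q98974 (allL N98974 (tt N119813 D223072) (tt N119812 (iv0 F517512)) (tt N119814 D223073) (tt N61895 (iv3 D202103)) (tt N119782 (iv4 F517388)) (tt N109936 F469296) (tt N113354 F485152) (tt N119815 D223074))
theorem Q98976 : ∀ i, i < 98976 → P i := stepQ 98975 Q98975 (allL N98975 (tt N99363 (iv1 F424295)) (tt N106033 (iv0 F452819)) (tt N106605 (iv2 F455024)) (tt N109936 (iv3 F469295)) (tt N71219 F422878) (tt N61895 (iv5 D202104)) (tt N109937 F469298) (tt N71218 (iv7 F422886)))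
theorem Q98977 : ∀ i, i < 98977 → P i := stepQ 98976 Q98976 (allL N98976 (tt N110752 (iv1 F473017)) (tt N110748 (iv0 F472999)) (tt N118239 (iv2 F509309)) (tt N119815 (iv3 F517518)) (tt N61896 F422887) (tt N71218 F422888) (tt N119816 D223075) (tt N61895 (iv7 D202105)))
theorem Q98978 : ∀ i, i < 98978 → P i := stepQ 98977 Q98977 (allL N98977 (tt N119817 D223076) (tt N119818 D223077) (tt N118240 (iv2 F509314)) (tt N119783 (iv3 F517394)) (tt N119816 (iv4 F517523)) (tt N100461 F429069) (tt N61896 (iv6 D202106)) (tt N110537 (iv7 F472046)))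
theorem Q98979 : ∀ i, i < 98979 → P i := stepQ 98978 Q98978 (allL N98978 (tt N71545 F422891) (tt N71543 F422892) (tt N72828 F422889) (tt N99269 (iv3 F423883)) (tt N119819 D223078) (tt N61897 (iv5 D202107)) (tt N119820 D223079) (tt N66268 F422890))
theorem Q98980 : ∀ i, i < 98980 → P i := stepQ 98979 Q98979 (allL N98979 (tt N63665 (iv1 F422894)) (tt N61898 (iv0 D202108)) (tt N76608 (iv2 F422893)) (tt N116668 F501226) (tt N116970 (iv4 F502764)) (tt N119821 D223080) (tt N107961 (iv6 F460491)) (tt N76609 F422895))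
theorem Q98981 : ∀ i, i < 98981 → P i := stepQ 98980 Q98980 (allL N98980 (tt N81940 F429043) (tt N117277 F504244) (tt N76610 F422896) (tt N61899 F422897) (tt N110013 (iv4 F469558)) (tt N61898 (iv5 D202109)) (tt N107669 (iv6 F459155)) (tt N106650 (iv7 F455146)))
theorem Q98982 : ∀ i, i < 98982 → P i := stepQ 98981 Q98981 (allL N98981 (tt N61899 (iv1 D202110)) (tt N61900 F422898) (tt N72830 (iv2 F422902)) (tt N116672 F501246) (tt N119822 D223081) (tt N77833 F422900) (tt N119823 D223082) (tt N72829 F422899))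
theorem Q98983 : ∀ i, i < 98983 → P i := stepQ 98982 Q98982 (allL N98982 (tt N106030 (iv1 F452807)) (tt N77953 F422904) (tt N106633 F455107) (tt N119824 D223083) (tt N61900 (iv4 D202111)) (tt N106033 (iv5 F452816)) (tt N91469 (iv6 F422910)) (tt N72831 F422903))
theorem Q98984 : ∀ i, i < 98984 → P i := stepQ 98983 Q98983 (allL N98983 (tt N117494 (iv1 F505321)) (tt N76852 (iv0 F422909)) (tt N106651 (iv2 F455149)) (tt N76861 F422905) (tt N91469 F422908) (tt N76838 (iv5 F422906)) (tt N61900 (iv6 D202112)) (tt N91268 F422907))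
theorem Q98985 : ∀ i, i < 98985 → P i := stepQ 98984 Q98984 (allL N98984 (tt N65028 (iv1 F422915)) (tt N61901 (iv0 D202113)) (tt N98838 (iv2 F422914)) (tt N99252 (iv3 F423844)) (tt N74201 F422912) (tt N62157 F422911) (tt N68335 F422913) (tt N72660 F422916))
theorem Q98986 : ∀ i, i < 98986 → P i := stepQ 98985 Q98985 (allL N98985 (tt N78042 F422919) (tt N78045 F422920) (tt N99229 F423766) (tt N76864 F422917) (tt N90582 (iv4 F422921)) (tt N61901 (iv5 D202114)) (tt N76838 F422918) (tt N99228 (iv7 F423763)))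
theorem Q98987 : ∀ i, i < 98987 → P i := stepQ 98986 Q98986 (allL N98986 (tt N111196 (iv1 F475179)) (tt N70875 (iv0 F422931)) (tt N100236 (iv2 F428101)) (tt N61902 (iv3 D202115)) (tt N71542 F422929) (tt N119825 D223084) (tt N101626 F433604) (tt N71222 F422930))
theorem Q98988 : ∀ i, i < 98988 → P i := stepQ 98987 Q98987 (allL N98987 (tt N71532 F422935) (tt N66276 F422936) (tt N71220 F422932) (tt N119825 (iv3 F517563)) (tt N71525 F422933) (tt N61902 (iv5 D202116)) (tt N113215 F484523) (tt N71223 F422934))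
theorem Q98989 : ∀ i, i < 98989 → P i := stepQ 98988 Q98988 (allL N98988 (tt N71019 F422940) (tt N71814 F422941) (tt N71221 F422937) (tt N101626 F433603) (tt N61903 F422938) (tt N113000 (iv5 F483499)) (tt N61902 (iv6 D202117)) (tt N70963 F422939))
theorem Q98990 : ∀ i, i < 98990 → P i := stepQ 98989 Q98989 (allL N98989 (tt N119826 D223085) (tt N101918 (iv0 F452600)) (tt N119827 D223086) (tt N61904 (iv3 D202118)) (tt N101932 (iv4 F434991)) (tt N71520 F422942) (tt N119828 D223087) (tt N71217 F422943))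
theorem Q98991 : ∀ i, i < 98991 → P i := stepQ 98990 Q98990 (allL N98990 (tt N70456 F422947) (tt N70455 (iv0 F422949)) (tt N71216 F422944) (tt N119828 (iv3 F517583)) (tt N97967 F422945) (tt N71147 F422948) (tt N61904 (iv6 D202119)) (tt N70962 F422946))
theorem Q98992 : ∀ i, i < 98992 → P i := stepQ 98991 Q98991 (allL N98991 (tt N91432 F422955) (tt N61905 (iv0 D202120)) (tt N78838 (iv2 F422952)) (tt N100239 (iv3 F428110)) (tt N67115 F422951) (tt N71489 F422950) (tt N90507 (iv6 F422953)) (tt N71784 (iv7 F422954)))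
theorem Q98993 : ∀ i, i < 98993 → P i := stepQ 98992 Q98992 (allL N98992 (tt N61905 (iv1 D202121)) (tt N91432 (iv0 F422961)) (tt N71784 F422959) (tt N119754 (iv3 F517250)) (tt N67114 (iv4 F422957)) (tt N71490 F422960) (tt N71775 (iv6 F422958)) (tt N78838 F422956))
theorem Q98994 : ∀ i, i < 98994 → P i := stepQ 98993 Q98993 (allL N98993 (tt N78838 (iv1 F422966)) (tt N71784 (iv0 F422967)) (tt N61905 (iv2 D202122)) (tt N71204 F422962) (tt N77733 F422963) (tt N90794 (iv5 F422968)) (tt N61912 F422964) (tt N91432 (iv7 F422965)))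
theorem Q98995 : ∀ i, i < 98995 → P i := stepQ 98994 Q98994 (allL N98994 (tt N106575 (iv1 F454922)) (tt N89900 F422974) (tt N90794 F422972) (tt N61906 F422973) (tt N114778 (iv4 F491810)) (tt N61905 (iv5 D202123)) (tt N114779 (iv6 F491813)) (tt N106579 (iv7 F454937)))
theorem Q98996 : ∀ i, i < 98996 → P i := stepQ 98995 Q98995 (allL N98995 (tt N71784 (iv1 F422979)) (tt N78838 F422980) (tt N91432 F422975) (tt N61907 F422976) (tt N77732 F422977) (tt N106579 (iv5 F454938)) (tt N71178 F422978) (tt N61905 (iv7 D202124)))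
theorem Q98997 : ∀ i, i < 98997 → P i := stepQ 98996 Q98996 (allL N98996 (tt N106033 (iv1 F452820)) (tt N99363 (iv0 F424294)) (tt N71218 F422981) (tt N119829 D223088) (tt N61906 (iv4 D202125)) (tt N118239 (iv5 F509311)) (tt N119830 D223089) (tt N106605 (iv7 F455027)))
theorem Q98998 : ∀ i, i < 98998 → P i := stepQ 98997 Q98997 (allL N98997 (tt N119513 (iv1 F516004)) (tt N119614 (iv0 F516524)) (tt N71213 F422982) (tt N114779 F491814) (tt N119830 (iv4 F517593)) (tt N61914 F422983) (tt N61906 (iv6 D202126)) (tt N116897 (iv7 F502408)))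
theorem Q98999 : ∀ i, i < 98999 → P i := stepQ 98998 Q98998 (allL N98998 (tt N71164 (iv1 F422988)) (tt N71163 F422987) (tt N61908 (iv2 D202127)) (tt N71161 F422984) (tt N72244 F422985) (tt N117772 (iv5 F506889)) (tt N106797 (iv6 F455721)) (tt N71165 F422986))
theorem Q99000 : ∀ i, i < 99000 → P i := stepQ 98999 Q98999 (allL N98999 (tt N73951 F422993) (tt N108408 F462450) (tt N106797 (iv2 F455718)) (tt N61909 F422989) (tt N72245 F422990) (tt N80616 (iv5 F422992)) (tt N61908 (iv6 D202128)) (tt N70953 F422991))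
theorem Q99001 : ∀ i, i < 99001 → P i := stepQ 99000 Q99000 (allL N99000 (tt N71172 F422998) (tt N71171 F422999) (tt N61913 F422994) (tt N71203 F422995) (tt N80528 F422996) (tt N61912 (iv5 D202129)) (tt N116422 F500022) (tt N71169 F422997))
theorem Q99002 : ∀ i, i < 99002 → P i := stepQ 99001 Q99001 (allL N99001 (tt N114405 F489990) (tt N116423 F500028) (tt N116422 (iv2 F500023)) (tt N61914 F423000) (tt N113837 (iv4 F487368)) (tt N114779 F491815) (tt N61913 (iv6 D202130)) (tt N116421 F500018))
theorem Q99003 : ∀ i, i < 99003 → P i := stepQ 99002 Q99002 (allL N99002 (tt N61915 (iv1 D202131)) (tt N93639 F423001) (tt N99089 F423301) (tt N71382 (iv3 F423003)) (tt N99391 (iv4 F424390)) (tt N70746 F423002) (tt N112678 (iv6 F482132)) (tt N99088 F423296))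
theorem Q99004 : ∀ i, i < 99004 → P i := stepQ 99003 Q99003 (allL N99003 (tt N112677 F482129) (tt N119831 D223090) (tt N99090 (iv2 F423303)) (tt N61918 F423004) (tt N105136 F448947) (tt N98971 F423005) (tt N61915 (iv6 D202132)) (tt N110682 (iv7 F472749)))
theorem Q99005 : ∀ i, i < 99005 → P i := stepQ 99004 Q99004 (allL N99004 (tt N118733 (iv1 F511797)) (tt N118254 (iv0 F509385)) (tt N74593 F423006) (tt N118389 (iv3 F510086)) (tt N61918 F423007) (tt N101599 (iv5 F433505)) (tt N61916 (iv6 D202133)) (tt N110683 (iv7 F472751)))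
theorem Q99006 : ∀ i, i < 99006 → P i := stepQ 99005 Q99005 (allL N99005 (tt N119832 D223091) (tt N113347 (iv0 F485132)) (tt N110686 (iv2 F472760)) (tt N98971 F423008) (tt N119833 D223092) (tt N61918 (iv5 D202134)) (tt N98969 F423009) (tt N110684 (iv7 F472755)))
theorem Q99007 : ∀ i, i < 99007 → P i := stepQ 99006 Q99006 (allL N99006 (tt N72682 F423015) (tt N72684 (iv0 F423013)) (tt N98929 F423010) (tt N61921 F423011) (tt N91543 F423012) (tt N119834 D223093) (tt N61919 (iv6 D202136)) (tt N98930 (iv7 F423014)))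
theorem Q99008 : ∀ i, i < 99008 → P i := stepQ 99007 Q99007 (allL N99007 (tt N99463 F424695) (tt N99477 F424759) (tt N93274 F423016) (tt N99480 (iv3 F424775)) (tt N61920 (iv4 D202137)) (tt N103343 (iv5 F441206)) (tt N94699 (iv6 F423017)) (tt N99117 (iv7 F423400)))
theorem Q99009 : ∀ i, i < 99009 → P i := stepQ 99008 Q99008 (allL N99008 (tt N112663 (iv1 F482070)) (tt N119151 F514063) (tt N94997 F423018) (tt N99582 (iv3 F425277)) (tt N94699 F423019) (tt N72266 (iv5 F423021)) (tt N61920 (iv6 D202138)) (tt N95000 (iv7 F423020)))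
theorem Q99010 : ∀ i, i < 99010 → P i := stepQ 99009 Q99009 (allL N99009 (tt N61921 (iv1 D202139)) (tt N110685 F472758) (tt N72671 (iv2 F424774)) (tt N119691 (iv3 F516944)) (tt N97021 F424773) (tt N101307 (iv5 F432601)) (tt N99479 (iv6 F424772)) (tt N118227 (iv7 F509248)))
theorem Q99011 : ∀ i, i < 99011 → P i := stepQ 99010 Q99010 (allL N99010 (tt N101349 (iv1 F432739)) (tt N101347 (iv0 F432728)) (tt N118228 (iv2 F509250)) (tt N119834 (iv3 F517602)) (tt N72259 (iv4 F423023)) (tt N61921 (iv5 D202140)) (tt N72266 F423022) (tt N117242 (iv7 F504077)))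
theorem Q99012 : ∀ i, i < 99012 → P i := stepQ 99011 Q99011 (allL N99011 (tt N72671 F426968) (tt N118227 F509247) (tt N110685 (iv2 F472756)) (tt N98930 F423024) (tt N112481 (iv4 F481270)) (tt N117242 (iv5 F504078)) (tt N110679 F472738) (tt N61921 (iv7 D202141)))
theorem Q99013 : ∀ i, i < 99013 → P i := stepQ 99012 Q99012 (allL N99012 (tt N116834 F502084) (tt N118229 F509260) (tt N61926 F423025) (tt N101777 (iv3 F434296)) (tt N61922 (iv4 D202142)) (tt N93685 F423026) (tt N93363 (iv6 F423030)) (tt N101523 (iv7 F433244)))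
theorem Q99014 : ∀ i, i < 99014 → P i := stepQ 99013 Q99013 (allL N99013 (tt N119835 D223094) (tt N98962 F423084) (tt N61927 F423031) (tt N100449 (iv3 F429029)) (tt N93363 F423032) (tt N108130 (iv5 F461235)) (tt N61922 (iv6 D202143)) (tt N107677 (iv7 F459194)))
theorem Q99015 : ∀ i, i < 99015 → P i := stepQ 99014 Q99014 (allL N99014 (tt N61931 (iv1 F423040)) (tt N61923 (iv0 D202144)) (tt N61928 F423038) (tt N76833 F423034) (tt N74606 F423033) (tt N77874 (iv5 F423036)) (tt N98927 F423035) (tt N61929 (iv7 F423037)))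
theorem Q99016 : ∀ i, i < 99016 → P i := stepQ 99015 Q99015 (allL N99015 (tt N110719 F472891) (tt N119836 D223095) (tt N61930 F423041) (tt N119334 (iv3 F515078)) (tt N116584 (iv4 F500850)) (tt N61923 (iv5 D202145)) (tt N108130 F461237) (tt N119837 D223096))
theorem Q99017 : ∀ i, i < 99017 → P i := stepQ 99016 Q99016 (allL N99016 (tt N61929 (iv1 F423044)) (tt N61928 F423045) (tt N61931 F423042) (tt N110664 F472665) (tt N97024 F423043) (tt N119837 (iv5 F517623)) (tt N110206 (iv6 F470433)) (tt N61923 (iv7 D202146)))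
theorem Q99018 : ∀ i, i < 99018 → P i := stepQ 99017 Q99017 (allL N99017 (tt N72675 (iv1 F423051)) (tt N72676 (iv0 F423052)) (tt N62501 F423046) (tt N61925 (iv3 D202147)) (tt N95382 F423049) (tt N62003 F423047) (tt N77869 (iv6 F423050)) (tt N62503 F423048))
theorem Q99019 : ∀ i, i < 99019 → P i := stepQ 99018 Q99018 (allL N99018 (tt N74008 (iv1 F423058)) (tt N107853 F459995) (tt N78060 F423053) (tt N92892 F423054) (tt N61925 (iv4 D202148)) (tt N92889 F423055) (tt N78059 (iv6 F423057)) (tt N92888 F423056))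
theorem Q99020 : ∀ i, i < 99020 → P i := stepQ 99019 Q99019 (allL N99019 (tt N77872 F423062) (tt N77871 F423064) (tt N77807 F423059) (tt N77869 F423060) (tt N78059 F423061) (tt N82105 (iv5 F423063)) (tt N61925 (iv6 D202149)) (tt N77873 F423065))
theorem Q99021 : ∀ i, i < 99021 → P i := stepQ 99020 Q99020 (allL N99020 (tt N101523 (iv1 F433247)) (tt N61926 (iv0 D202150)) (tt N116834 (iv2 F502078)) (tt N118591 (iv3 F511044)) (tt N118036 (iv4 F508218)) (tt N117910 (iv5 F507548)) (tt N116831 (iv6 F502064)) (tt N118229 (iv7 F509261)))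
theorem Q99022 : ∀ i, i < 99022 → P i := stepQ 99021 Q99021 (allL N99021 (tt N61926 (iv1 D202151)) (tt N101523 F433245) (tt N118229 F509259) (tt N116835 (iv3 F502086)) (tt N118037 (iv4 F508222)) (tt N117909 (iv5 F507541)) (tt N94972 F433246) (tt N116834 (iv7 F502082)))
theorem Q99023 : ∀ i, i < 99023 → P i := stepQ 99022 Q99022 (allL N99022 (tt N117886 (iv1 F507432)) (tt N117885 F507428) (tt N93685 F423066) (tt N118986 (iv3 F513130)) (tt N93681 F423068) (tt N61926 (iv5 D202152)) (tt N73063 F423067) (tt N117883 (iv7 F507418)))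
theorem Q99024 : ∀ i, i < 99024 → P i := stepQ 99023 Q99023 (allL N99023 (tt N107677 (iv1 F459196)) (tt N61927 (iv0 D202153)) (tt N119835 F517611) (tt N77883 F423070) (tt N74005 F423069) (tt N119835 (iv5 F517607)) (tt N77882 (iv6 F423071)) (tt N98962 (iv7 F423072)))
theorem Q99025 : ∀ i, i < 99025 → P i := stepQ 99024 Q99024 (allL N99024 (tt N61927 (iv1 D202154)) (tt N107677 (iv0 F459195)) (tt N98962 (iv2 F424183)) (tt N98965 F424182) (tt N74006 F423073) (tt N98962 (iv5 F424180)) (tt N98960 F424184) (tt N119835 (iv7 F517613)))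
theorem Q99026 : ∀ i, i < 99026 → P i := stepQ 99025 Q99025 (allL N99025 (tt N105447 (iv1 F450307)) (tt N71563 (iv0 F423077)) (tt N108130 (iv2 F461238)) (tt N61934 F423074) (tt N72847 (iv4 F423076)) (tt N61927 (iv5 D202155)) (tt N61930 F423075) (tt N108131 (iv7 F461241)))
theorem Q99027 : ∀ i, i < 99027 → P i := stepQ 99026 Q99026 (allL N99026 (tt N98962 F423083) (tt N119835 F517612) (tt N107677 (iv2 F459191)) (tt N61935 F423081) (tt N93361 F423082) (tt N108131 (iv5 F461243)) (tt N101450 (iv6 F433001)) (tt N61927 (iv7 D202156)))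
theorem Q99028 : ∀ i, i < 99028 → P i := stepQ 99027 Q99027 (allL N99027 (tt N112679 (iv1 F482134)) (tt N112678 F482133) (tt N99042 (iv2 F423121)) (tt N61928 (iv3 D202157)) (tt N100848 F430758) (tt N99041 F423120) (tt N99084 F423276) (tt N110678 (iv7 F472731)))
theorem Q99029 : ∀ i, i < 99029 → P i := stepQ 99028 Q99028 (allL N99028 (tt N119234 (iv1 F514519)) (tt N116833 (iv0 F502074)) (tt N74606 F423085) (tt N109590 (iv3 F467615)) (tt N61928 (iv4 D202158)) (tt N116584 F500853) (tt N107510 F458592) (tt N95290 F423086))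
theorem Q99030 : ∀ i, i < 99030 → P i := stepQ 99029 Q99029 (allL N99029 (tt N98900 (iv1 F423878)) (tt N99039 F423113) (tt N77874 F423087) (tt N99041 (iv3 F423119)) (tt N97034 (iv4 F423089)) (tt N61928 (iv5 D202159)) (tt N77873 (iv6 F423090)) (tt N97033 F423088))
theorem Q99031 : ∀ i, i < 99031 → P i := stepQ 99030 Q99030 (allL N99030 (tt N99479 (iv1 F424771)) (tt N99482 (iv0 F424785)) (tt N98927 F423091) (tt N99084 (iv3 F423274)) (tt N107510 (iv4 F458588)) (tt N71773 F423092) (tt N61928 (iv6 D202160)) (tt N106078 (iv7 F453024)))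
theorem Q99032 : ∀ i, i < 99032 → P i := stepQ 99031 Q99031 (allL N99031 (tt N119837 (iv1 F517626)) (tt N61930 (iv0 D202161)) (tt N110719 (iv2 F472885)) (tt N119838 D223097) (tt N108941 F464592) (tt N119262 (iv5 F514689)) (tt N101088 F433002) (tt N119836 (iv7 F517615)))
theorem Q99033 : ∀ i, i < 99033 → P i := stepQ 99032 Q99032 (allL N99032 (tt N61930 (iv1 D202162)) (tt N119837 F517625) (tt N119836 F517618) (tt N62020 F461441) (tt N73525 F461442) (tt N119263 F514697) (tt N62018 F461443) (tt N110719 (iv7 F472889)))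
theorem Q99034 : ∀ i, i < 99034 → P i := stepQ 99033 Q99033 (allL N99033 (tt N81955 F424181) (tt N116586 F500865) (tt N116584 (iv2 F500854)) (tt N74607 (iv3 F423095)) (tt N61930 (iv4 D202163)) (tt N74606 F423094) (tt N72847 F423093) (tt N116585 (iv7 F500856)))
theorem Q99035 : ∀ i, i < 99035 → P i := stepQ 99034 Q99034 (allL N99034 (tt N119836 (iv1 F517614)) (tt N110719 (iv0 F472890)) (tt N119837 (iv2 F517620)) (tt N61944 F423096) (tt N116585 F500857) (tt N61931 F423097) (tt N118753 (iv6 F511899)) (tt N61930 (iv7 D202164)))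
theorem Q99036 : ∀ i, i < 99036 → P i := stepQ 99035 Q99035 (allL N99035 (tt N77621 F423101) (tt N100449 (iv0 F429032)) (tt N109931 (iv2 F469279)) (tt N95693 F423098) (tt N80346 F423100) (tt N61932 (iv5 D202165)) (tt N106921 (iv6 F456286)) (tt N81722 F423099))
theorem Q99037 : ∀ i, i < 99037 → P i := stepQ 99036 Q99036 (allL N99036 (tt N100366 (iv1 F428624)) (tt N100364 (iv0 F428615)) (tt N100409 (iv2 F428844)) (tt N83274 F423102) (tt N76881 F423103) (tt N117237 (iv5 F504059)) (tt N61932 (iv6 D202166)) (tt N100410 (iv7 F428851)))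
theorem Q99038 : ∀ i, i < 99038 → P i := stepQ 99037 Q99037 (allL N99037 (tt N118601 F511107) (tt N107558 (iv0 F458746)) (tt N98938 (iv2 F438326)) (tt N61933 (iv3 D202167)) (tt N119839 D223098) (tt N109964 (iv5 F469403)) (tt N98923 (iv6 F423111)) (tt N118989 (iv7 F513149)))
theorem Q99039 : ∀ i, i < 99039 → P i := stepQ 99038 Q99038 (allL N99038 (tt N94035 F423107) (tt N97377 F423108) (tt N97376 F423104) (tt N112509 (iv3 F481424)) (tt N61933 (iv4 D202168)) (tt N80987 F423105) (tt N66315 (iv6 F423109)) (tt N97375 F423106))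
theorem Q99040 : ∀ i, i < 99040 → P i := stepQ 99039 Q99039 (allL N99039 (tt N99029 (iv1 F423113)) (tt N61936 (iv0 D202169)) (tt N110663 (iv2 F472659)) (tt N73206 F423112) (tt N107925 (iv4 F460316)) (tt N119254 (iv5 F514648)) (tt N76601 (iv6 F423114)) (tt N110662 F472655))
theorem Q99041 : ∀ i, i < 99041 → P i := stepQ 99040 Q99040 (allL N99040 (tt N61939 (iv1 D202172)) (tt N99581 F425275) (tt N117488 (iv2 F505295)) (tt N112679 F482136) (tt N91264 (iv4 F423117)) (tt N116577 (iv5 F500821)) (tt N91263 F423118) (tt N108534 (iv7 F462984)))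
theorem Q99042 : ∀ i, i < 99042 → P i := stepQ 99041 Q99041 (allL N99041 (tt N108534 F462986) (tt N117488 (iv0 F505299)) (tt N61939 (iv2 D202173)) (tt N99029 F423119) (tt N99714 (iv4 F425874)) (tt N99027 (iv5 F423120)) (tt N103975 (iv6 F443611)) (tt N99581 (iv7 F425276)))
theorem Q99043 : ∀ i, i < 99043 → P i := stepQ 99042 Q99042 (allL N99042 (tt N116150 (iv1 F498761)) (tt N119840 D223099) (tt N99027 F423121) (tt N61940 F423122) (tt N90179 F423124) (tt N61939 (iv5 D202174)) (tt N102776 (iv6 F438598)) (tt N82102 F423123))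
theorem Q99044 : ∀ i, i < 99044 → P i := stepQ 99043 Q99043 (allL N99043 (tt N119254 F514651) (tt N107859 (iv0 F460324)) (tt N119262 F514692) (tt N61941 (iv3 D202175)) (tt N107927 (iv4 F460322)) (tt N110719 (iv5 F472888)) (tt N109955 (iv6 F469366)) (tt N119263 (iv7 F514694)))
theorem Q99045 : ∀ i, i < 99045 → P i := stepQ 99044 Q99044 (allL N99044 (tt N116575 (iv1 F500811)) (tt N116577 (iv0 F500822)) (tt N116932 (iv2 F502561)) (tt N61942 (iv3 D202176)) (tt N100845 (iv4 F430739)) (tt N117294 (iv5 F504328)) (tt N109921 (iv6 F469229)) (tt N116934 (iv7 F502576)))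
theorem Q99046 : ∀ i, i < 99046 → P i := stepQ 99045 Q99045 (allL N99045 (tt N107519 (iv1 F458639)) (tt N107924 F460315) (tt N107167 (iv2 F457291)) (tt N80394 F423127) (tt N61942 (iv4 D202177)) (tt N82578 F423125) (tt N80393 F423126) (tt N107211 (iv7 F457471)))
theorem Q99047 : ∀ i, i < 99047 → P i := stepQ 99046 Q99046 (allL N99046 (tt N74700 F423131) (tt N73788 F423132) (tt N73199 F423128) (tt N61943 (iv3 D202178)) (tt N74607 F423129) (tt N101789 F434351) (tt N62550 F423130) (tt N74706 F423133))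
theorem Q99048 : ∀ i, i < 99048 → P i := stepQ 99047 Q99047 (allL N99047 (tt N62444 (iv1 F423139)) (tt N62689 F423140) (tt N73198 F423134) (tt N74706 F423135) (tt N61944 F423136) (tt N95345 F423137) (tt N78304 F423138) (tt N61943 (iv7 D202179)))
theorem Q99049 : ∀ i, i < 99049 → P i := stepQ 99048 Q99048 (allL N99048 (tt N99969 F427009) (tt N98912 (iv0 F423142)) (tt N100461 (iv2 F429063)) (tt N118753 (iv3 F511898)) (tt N78304 F423141) (tt N118240 (iv5 F509315)) (tt N61944 (iv6 D202180)) (tt N100460 (iv7 F429060)))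
theorem Q99050 : ∀ i, i < 99050 → P i := stepQ 99049 Q99049 (allL N99049 (tt N109920 F469226) (tt N109664 (iv0 F467999)) (tt N73201 F423143) (tt N110805 (iv3 F473242)) (tt N119248 (iv4 F514612)) (tt N61945 (iv5 D202181)) (tt N100457 F429053) (tt N72642 F423144))
theorem Q99051 : ∀ i, i < 99051 → P i := stepQ 99050 Q99050 (allL N99050 (tt N61947 (iv1 D202182)) (tt N99051 (iv0 F423150)) (tt N107961 F460490) (tt N98828 (iv3 F425957)) (tt N72436 F423145) (tt N107287 (iv5 F457807)) (tt N76608 (iv6 F455007)) (tt N107960 F460486))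
theorem Q99052 : ∀ i, i < 99052 → P i := stepQ 99051 Q99051 (allL N99051 (tt N99050 F423150) (tt N98854 (iv0 F423151)) (tt N98782 F423146) (tt N61948 F423147) (tt N72246 F423149) (tt N61947 (iv5 D202183)) (tt N111361 (iv6 F476009)) (tt N73244 F423148))
theorem Q99053 : ∀ i, i < 99053 → P i := stepQ 99052 Q99052 (allL N99052 (tt N92311 F423154) (tt N92319 (iv0 F423156)) (tt N93282 (iv2 F423155)) (tt N61949 (iv3 D202184)) (tt N70125 F423153) (tt N119249 (iv5 F514619)) (tt N117861 (iv6 F507327)) (tt N92470 F423152))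
theorem Q99054 : ∀ i, i < 99054 → P i := stepQ 99053 Q99053 (allL N99053 (tt N117850 F507263) (tt N92518 F423159) (tt N92474 F423157) (tt N117861 F507326) (tt N105894 (iv4 F452223)) (tt N119841 D223100) (tt N61949 (iv6 D202185)) (tt N94220 F423158))
theorem Q99055 : ∀ i, i < 99055 → P i := stepQ 99054 Q99054 (allL N99054 (tt N118576 F510986) (tt N119842 D223101) (tt N61952 F423160) (tt N92459 F423161) (tt N61972 F423162) (tt N92322 F423163) (tt N61951 (iv6 D202186)) (tt N92510 (iv7 F423164)))
theorem Q99056 : ∀ i, i < 99056 → P i := stepQ 99055 Q99055 (allL N99055 (tt N92510 (iv1 F423173)) (tt N61952 (iv0 D202187)) (tt N118576 (iv2 F510981)) (tt N92316 F438373) (tt N119287 (iv4 F514842)) (tt N74115 F423165) (tt N106464 F463104) (tt N119842 (iv7 F517649)))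
theorem Q99057 : ∀ i, i < 99057 → P i := stepQ 99056 Q99056 (allL N99056 (tt N61952 (iv1 D202188)) (tt N92510 F423166) (tt N119842 F517653) (tt N119843 D223102) (tt N119696 (iv4 F516973)) (tt N74112 (iv5 F423167)) (tt N119844 D223103) (tt N118576 F510987))
theorem Q99058 : ∀ i, i < 99058 → P i := stepQ 99057 Q99057 (allL N99057 (tt N119842 (iv1 F517648)) (tt N118576 (iv0 F510985)) (tt N92510 F423168) (tt N61954 F423169) (tt N61977 F423170) (tt N92321 F423171) (tt N92484 F423172) (tt N61952 (iv7 D202189)))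
theorem Q99059 : ∀ i, i < 99059 → P i := stepQ 99058 Q99058 (allL N99058 (tt N105321 (iv1 F449706)) (tt N92517 (iv0 F423177)) (tt N92429 F423174) (tt N92496 F423175) (tt N67518 F423176) (tt N102809 (iv5 F438735)) (tt N61953 (iv6 D202190)) (tt N102732 (iv7 F438399)))
theorem Q99060 : ∀ i, i < 99060 → P i := stepQ 99059 Q99059 (allL N99059 (tt N75733 F423180) (tt N102568 F437700) (tt N73303 F423178) (tt N119845 D223104) (tt N61956 (iv4 D202191)) (tt N103669 (iv5 F442434)) (tt N66139 F423179) (tt N104724 (iv7 F446997)))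
theorem Q99061 : ∀ i, i < 99061 → P i := stepQ 99060 Q99060 (allL N99060 (tt N61976 (iv1 F423185)) (tt N61975 F423189) (tt N61977 F423181) (tt N70999 F423182) (tt N92510 F423184) (tt N61958 (iv5 D202192)) (tt N117289 F504306) (tt N61972 F423183))
theorem Q99062 : ∀ i, i < 99062 → P i := stepQ 99061 Q99061 (allL N99061 (tt N93627 (iv1 F423192)) (tt N61961 (iv0 D202193)) (tt N99064 F423206) (tt N79420 F423191) (tt N99281 (iv4 F423919)) (tt N62168 F423190) (tt N119846 D223105) (tt N99063 F423198))
theorem Q99063 : ∀ i, i < 99063 → P i := stepQ 99062 Q99062 (allL N99062 (tt N61961 (iv1 D202194)) (tt N93627 F423193) (tt N99063 (iv2 F423199)) (tt N119847 D223106) (tt N99280 (iv4 F423915)) (tt N62165 F423194) (tt N119848 D223107) (tt N99064 (iv7 F423201)))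
theorem Q99064 : ∀ i, i < 99064 → P i := stepQ 99063 Q99063 (allL N99063 (tt N71565 (iv1 F423197)) (tt N61962 (iv0 D202195)) (tt N99062 F423199) (tt N65019 F423196) (tt N110831 (iv4 F473347)) (tt N78056 F423195) (tt N119849 D223108) (tt N99061 (iv7 F423198)))
theorem Q99065 : ∀ i, i < 99065 → P i := stepQ 99064 Q99064 (allL N99064 (tt N61962 (iv1 D202196)) (tt N71565 F423200) (tt N99061 (iv2 F423206)) (tt N112685 F482173) (tt N90585 (iv4 F423203)) (tt N72670 F423202) (tt N119850 D223109) (tt N99062 F423201))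
theorem Q99066 : ∀ i, i < 99066 → P i := stepQ 99065 Q99065 (allL N99065 (tt N62018 (iv1 F423210)) (tt N109927 F469268) (tt N62525 F423207) (tt N62017 F423208) (tt N107671 (iv4 F459165)) (tt N116865 (iv5 F502241)) (tt N61964 (iv6 D202197)) (tt N62009 F423209))
theorem Q99067 : ∀ i, i < 99067 → P i := stepQ 99066 Q99066 (allL N99066 (tt N110023 (iv1 F469598)) (tt N110022 (iv0 F469592)) (tt N82104 F423211) (tt N61968 F423212) (tt N99180 (iv4 F423603)) (tt N78201 F423213) (tt N61966 (iv6 D202198)) (tt N99580 (iv7 F425270)))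
theorem Q99068 : ∀ i, i < 99068 → P i := stepQ 99067 Q99067 (allL N99067 (tt N66254 F423215) (tt N66250 (iv0 F423216)) (tt N71938 F423214) (tt N61967 (iv3 D202199)) (tt N99178 (iv4 F423593)) (tt N119851 D223110) (tt N117907 (iv6 F507536)) (tt N102775 (iv7 F438593)))
theorem Q99069 : ∀ i, i < 99069 → P i := stepQ 99068 Q99068 (allL N99068 (tt N92420 (iv1 F423221)) (tt N92419 F423222) (tt N92421 F423217) (tt N119851 (iv3 F517694)) (tt N89362 F423219) (tt N61967 (iv5 D202200)) (tt N89361 (iv6 F423220)) (tt N92418 F423218))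
theorem Q99070 : ∀ i, i < 99070 → P i := stepQ 99069 Q99069 (allL N99069 (tt N108051 (iv1 F460888)) (tt N118479 F510595) (tt N117872 (iv2 F507366)) (tt N117907 F507534) (tt N61968 F423224) (tt N108948 (iv5 F464621)) (tt N61967 (iv6 D202201)) (tt N94294 F423225))
theorem Q99071 : ∀ i, i < 99071 → P i := stepQ 99070 Q99070 (allL N99070 (tt N71567 (iv1 F423227)) (tt N61968 (iv0 D202202)) (tt N62162 (iv2 F423226)) (tt N101633 (iv3 F433630)) (tt N117850 (iv4 F507262)) (tt N101632 F433628) (tt N119852 D223111) (tt N106679 (iv7 F455252)))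
theorem Q99072 : ∀ i, i < 99072 → P i := stepQ 99071 Q99071 (allL N99071 (tt N61977 (iv1 F423230)) (tt N61972 (iv0 D202203)) (tt N61975 (iv2 F423229)) (tt N98901 (iv3 F423232)) (tt N108578 (iv4 F463129)) (tt N74081 F423228) (tt N71550 F423233) (tt N61976 F423231))
theorem Q99073 : ∀ i, i < 99073 → P i := stepQ 99072 Q99072 (allL N99072 (tt N116629 (iv1 F501054)) (tt N61982 (iv0 F423237)) (tt N116937 (iv2 F502589)) (tt N61973 (iv3 D202204)) (tt N99163 (iv4 F423538)) (tt N66305 F423235) (tt N99967 (iv6 F426995)) (tt N98907 F423236))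
theorem Q99074 : ∀ i, i < 99074 → P i := stepQ 99073 Q99073 (allL N99073 (tt N100461 (iv1 F429068)) (tt N100460 F429062) (tt N98912 F423238) (tt N118301 (iv3 F509592)) (tt N101161 (iv4 F432006)) (tt N119853 D223112) (tt N61974 (iv6 D202205)) (tt N99969 (iv7 F427007)))
theorem Q99075 : ∀ i, i < 99075 → P i := stepQ 99074 Q99074 (allL N99074 (tt N108082 F461036) (tt N71067 F423242) (tt N108578 (iv2 F463127)) (tt N72714 F423239) (tt N61975 (iv4 D202206)) (tt N72713 F423241) (tt N94318 F423243) (tt N98887 F423240))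
theorem Q99076 : ∀ i, i < 99076 → P i := stepQ 99075 Q99075 (allL N99075 (tt N71551 (iv1 F423248)) (tt N71553 (iv0 F423247)) (tt N71550 F423244) (tt N61978 F423245) (tt N94318 F423246) (tt N119769 F517329) (tt N61975 (iv6 D202207)) (tt N71549 (iv7 F423249)))
theorem Q99077 : ∀ i, i < 99077 → P i := stepQ 99076 Q99076 (allL N99076 (tt N71067 F423252) (tt N108082 (iv0 F461035)) (tt N98887 F423250) (tt N108342 (iv3 F462159)) (tt N61976 (iv4 D202208)) (tt N92351 F423251) (tt N119854 D223113) (tt N108578 (iv7 F463130)))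
theorem Q99078 : ∀ i, i < 99078 → P i := stepQ 99077 Q99077 (allL N99077 (tt N105323 F449714) (tt N119852 F517704) (tt N98888 F423253) (tt N112588 (iv3 F481732)) (tt N119854 (iv4 F517710)) (tt N110695 (iv5 F472790)) (tt N61976 (iv6 D202209)) (tt N119855 D223114))
theorem Q99079 : ∀ i, i < 99079 → P i := stepQ 99078 Q99078 (allL N99078 (tt N119856 D223115) (tt N76827 F423256) (tt N98905 F423254) (tt N119769 F517327) (tt N116518 (iv4 F500576)) (tt N61978 (iv5 D202210)) (tt N74084 F423255) (tt N100471 (iv7 F429096)))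
theorem Q99080 : ∀ i, i < 99080 → P i := stepQ 99079 Q99079 (allL N99079 (tt N119857 D223116) (tt N101624 (iv0 F455944)) (tt N112588 (iv2 F481731)) (tt N61980 F423257) (tt N106842 (iv4 F455941)) (tt N112525 (iv5 F481506)) (tt N61979 (iv6 D202211)) (tt N119858 D223117))
theorem Q99081 : ∀ i, i < 99081 → P i := stepQ 99080 Q99080 (allL N99080 (tt N98895 (iv1 F423262)) (tt N61980 (iv0 D202212)) (tt N82044 (iv2 F423260)) (tt N100461 (iv3 F429064)) (tt N79407 F423258) (tt N119783 (iv5 F517396)) (tt N79419 F423259) (tt N98893 (iv7 F423261)))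
theorem Q99082 : ∀ i, i < 99082 → P i := stepQ 99081 Q99081 (allL N99081 (tt N61980 (iv1 D202213)) (tt N98895 F423263) (tt N98893 (iv2 F423266)) (tt N118754 (iv3 F511902)) (tt N81101 F423265) (tt N119859 D223118) (tt N110023 (iv6 F469599)) (tt N82044 F423264))
theorem Q99083 : ∀ i, i < 99083 → P i := stepQ 99082 Q99082 (allL N99082 (tt N109207 (iv1 F465789)) (tt N118759 (iv0 F511929)) (tt N98894 F423267) (tt N112525 (iv3 F481504)) (tt N89353 (iv4 F426822)) (tt N61980 (iv5 D202214)) (tt N93494 F423268) (tt N119860 D223119))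
theorem Q99084 : ∀ i, i < 99084 → P i := stepQ 99083 Q99083 (allL N99083 (tt N98893 (iv1 F423272)) (tt N82044 F423273) (tt N98895 F423269) (tt N119858 (iv3 F517731)) (tt N95782 F423270) (tt N119860 (iv5 F517746)) (tt N77754 F423271) (tt N61980 (iv7 D202215)))
theorem Q99085 : ∀ i, i < 99085 → P i := stepQ 99084 Q99084 (allL N99084 (tt N119757 (iv1 F517268)) (tt N119753 (iv0 F517246)) (tt N102776 (iv2 F438596)) (tt N99030 F423274) (tt N99253 (iv4 F423845)) (tt N61981 (iv5 D202216)) (tt N99027 (iv6 F423276)) (tt N82103 F423275))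
theorem Q99086 : ∀ i, i < 99086 → P i := stepQ 99085 Q99085 (allL N99085 (tt N61982 (iv1 D202217)) (tt N116629 (iv0 F501053)) (tt N98907 F423278) (tt N118148 (iv3 F508860)) (tt N99164 (iv4 F423547)) (tt N66301 (iv5 F423277)) (tt N119861 D223120) (tt N116937 (iv7 F502595)))
theorem Q99087 : ∀ i, i < 99087 → P i := stepQ 99086 Q99086 (allL N99086 (tt N98907 (iv1 F423283)) (tt N116937 F502594) (tt N116629 (iv2 F501048)) (tt N62506 F423281) (tt N116620 (iv4 F501009)) (tt N61983 F423282) (tt N117279 (iv6 F504253)) (tt N61982 (iv7 D202218)))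
theorem Q99088 : ∀ i, i < 99088 → P i := stepQ 99087 Q99087 (allL N99087 (tt N62506 (iv1 F423289)) (tt N62497 F423288) (tt N61984 (iv2 D202219)) (tt N62007 F423284) (tt N96830 F423285) (tt N72778 F423286) (tt N109940 (iv6 F469314)) (tt N62504 F423287))
theorem Q99089 : ∀ i, i < 99089 → P i := stepQ 99088 Q99088 (allL N99088 (tt N61987 (iv1 F423293)) (tt N61985 (iv0 D202220)) (tt N98885 (iv2 F423295)) (tt N98916 F423292) (tt N72527 F423291) (tt N68334 F423290) (tt N89486 (iv6 F423297)) (tt N99002 (iv7 F423296)))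
theorem Q99090 : ∀ i, i < 99090 → P i := stepQ 99089 Q99089 (allL N99089 (tt N61985 (iv1 D202221)) (tt N61987 F423298) (tt N99002 (iv2 F423301)) (tt N74080 F423302) (tt N119166 (iv4 F514151)) (tt N68333 F423300) (tt N119840 F517640) (tt N98885 F423299))
theorem Q99091 : ∀ i, i < 99091 → P i := stepQ 99090 Q99090 (allL N99090 (tt N112669 F482100) (tt N119862 D223121) (tt N99003 F423303) (tt N72781 F423304) (tt N72789 F423305) (tt N110745 (iv5 F472987)) (tt N61985 (iv6 D202222)) (tt N119863 D223122))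
theorem Q99092 : ∀ i, i < 99092 → P i := stepQ 99091 Q99091 (allL N99091 (tt N119864 D223123) (tt N119865 D223124) (tt N118303 (iv2 F509599)) (tt N93496 F423306) (tt N95934 F423307) (tt N110701 (iv5 F472817)) (tt N61987 (iv6 D202223)) (tt N119866 D223125))
theorem Q99093 : ∀ i, i < 99093 → P i := stepQ 99092 Q99092 (allL N99092 (tt N101622 F433596) (tt N119847 (iv0 F517678)) (tt N106678 (iv2 F455246)) (tt N62502 F423308) (tt N99160 (iv4 F423524)) (tt N71569 F423309) (tt N61989 (iv6 D202224)) (tt N82108 F423310))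
theorem Q99094 : ∀ i, i < 99094 → P i := stepQ 99093 Q99093 (allL N99093 (tt N107946 (iv1 F460420)) (tt N76690 (iv0 F423312)) (tt N104179 (iv2 F444555)) (tt N107965 (iv3 F460508)) (tt N70745 F423311) (tt N61991 (iv5 D202225)) (tt N113102 (iv6 F483980)) (tt N104067 (iv7 F444015)))
theorem Q99095 : ∀ i, i < 99095 → P i := stepQ 99094 Q99094 (allL N99094 (tt N62034 (iv1 F423315)) (tt N62031 F423316) (tt N95908 F423313) (tt N99506 (iv3 F424904)) (tt N61992 F423314) (tt N104067 (iv5 F444016)) (tt N116581 F500835) (tt N61991 (iv7 D202226)))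
theorem Q99096 : ∀ i, i < 99096 → P i := stepQ 99095 Q99095 (allL N99095 (tt N109921 F469232) (tt N117278 F504248) (tt N116495 (iv2 F500434)) (tt N103212 (iv3 F440589)) (tt N116581 (iv4 F500837)) (tt N109514 (iv5 F467324)) (tt N61992 (iv6 D202227)) (tt N117279 (iv7 F504254)))
theorem Q99097 : ∀ i, i < 99097 → P i := stepQ 99096 Q99096 (allL N99096 (tt N72956 F423321) (tt N72959 F423319) (tt N117298 (iv2 F504342)) (tt N61994 F423317) (tt N94987 F423318) (tt N61993 (iv5 D202228)) (tt N94986 (iv6 F423320)) (tt N107516 (iv7 F458622)))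
theorem Q99098 : ∀ i, i < 99098 → P i := stepQ 99097 Q99097 (allL N99097 (tt N78007 F423324) (tt N119867 D223126) (tt N73412 F423322) (tt N94986 F423323) (tt N119167 (iv4 F514157)) (tt N110753 (iv5 F473019)) (tt N61994 (iv6 D202229)) (tt N119868 D223127))
theorem Q99099 : ∀ i, i < 99099 → P i := stepQ 99098 Q99098 (allL N99098 (tt N61996 (iv1 D202230)) (tt N62087 (iv0 F423329)) (tt N62088 (iv2 F423328)) (tt N119869 D223128) (tt N73391 F423326) (tt N62091 F423327) (tt N62100 F423330) (tt N62074 F423325))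
theorem Q99100 : ∀ i, i < 99100 → P i := stepQ 99099 Q99099 (allL N99099 (tt N62074 (iv1 F423334)) (tt N62088 F423333) (tt N61996 (iv2 D202231)) (tt N117281 (iv3 F504264)) (tt N62396 F423331) (tt N98844 (iv5 F423335)) (tt N100459 (iv6 F429056)) (tt N62087 F423332))
theorem Q99101 : ∀ i, i < 99101 → P i := stepQ 99100 Q99100 (allL N99100 (tt N78036 F423340) (tt N107520 F458645) (tt N98844 F423336) (tt N61997 F423337) (tt N74270 F423339) (tt N61996 (iv5 D202232)) (tt N119870 D223129) (tt N73409 F423338))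
theorem Q99102 : ∀ i, i < 99102 → P i := stepQ 99101 Q99101 (allL N99101 (tt N100457 (iv1 F429051)) (tt N100456 (iv0 F429050)) (tt N100459 (iv2 F429054)) (tt N61998 F423341) (tt N62397 F423342) (tt N113419 (iv5 F485406)) (tt N61996 (iv6 D202233)) (tt N78305 F423343))
theorem Q99103 : ∀ i, i < 99103 → P i := stepQ 99102 Q99102 (allL N99102 (tt N119166 (iv1 F514148)) (tt N72527 F423347) (tt N72442 F423344) (tt N113290 (iv3 F484872)) (tt N61997 (iv4 D202234)) (tt N76690 F423346) (tt N119871 D223130) (tt N73411 F423345))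
theorem Q99104 : ∀ i, i < 99104 → P i := stepQ 99103 Q99103 (allL N99103 (tt N107545 (iv1 F458710)) (tt N98867 (iv0 F423348)) (tt N107517 (iv2 F458625)) (tt N119870 (iv3 F517793)) (tt N119871 (iv4 F517799)) (tt N110764 (iv5 F473062)) (tt N61997 (iv6 D202235)) (tt N107544 (iv7 F458707)))
theorem Q99105 : ∀ i, i < 99105 → P i := stepQ 99104 Q99104 (allL N99104 (tt N71544 (iv1 F423351)) (tt N61998 (iv0 D202236)) (tt N103789 (iv2 F442821)) (tt N119872 D223131) (tt N102421 (iv4 F437166)) (tt N76845 F423349) (tt N76846 F423350) (tt N62154 F423352))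
theorem Q99106 : ∀ i, i < 99106 → P i := stepQ 99105 Q99105 (allL N99105 (tt N69527 F423357) (tt N70739 F423358) (tt N76691 F423353) (tt N85365 F423354) (tt N107946 (iv4 F460416)) (tt N61999 (iv5 D202237)) (tt N76686 F423355) (tt N73413 F423356))
theorem Q99107 : ∀ i, i < 99107 → P i := stepQ 99106 Q99106 (allL N99106 (tt N71799 F423361) (tt N106539 (iv0 F454814)) (tt N91079 (iv2 F423362)) (tt N62000 (iv3 D202238)) (tt N91052 F423359) (tt N114532 (iv5 F490634)) (tt N91053 F423360) (tt N102526 (iv7 F437508)))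
theorem Q99108 : ∀ i, i < 99108 → P i := stepQ 99107 Q99107 (allL N99107 (tt N104312 (iv1 F445185)) (tt N104311 F445180) (tt N104066 (iv2 F444007)) (tt N114532 (iv3 F490635)) (tt N99159 (iv4 F423519)) (tt N62000 (iv5 D202239)) (tt N119003 F513228) (tt N102527 (iv7 F437513)))
theorem Q99109 : ∀ i, i < 99109 → P i := stepQ 99108 Q99108 (allL N99108 (tt N76690 F423364) (tt N107946 (iv0 F460419)) (tt N104067 (iv2 F444014)) (tt N72533 F423365) (tt N62002 (iv4 D202240)) (tt N95908 F423363) (tt N119873 D223132) (tt N104179 (iv7 F444557)))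
theorem Q99110 : ∀ i, i < 99110 → P i := stepQ 99109 Q99109 (allL N99109 (tt N98369 F423369) (tt N98371 (iv0 F423368)) (tt N104065 (iv2 F444004)) (tt N98316 F423366) (tt N119873 (iv4 F517811)) (tt N69511 F423367) (tt N62002 (iv6 D202241)) (tt N119602 (iv7 F516467)))
theorem Q99111 : ∀ i, i < 99111 → P i := stepQ 99110 Q99110 (allL N99110 (tt N62004 (iv1 D202242)) (tt N110609 (iv0 F472382)) (tt N62166 (iv2 F423371)) (tt N106679 F455253) (tt N79428 F423370) (tt N64384 (iv5 F423372)) (tt N107859 (iv6 F460027)) (tt N101633 (iv7 F433632)))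
theorem Q99112 : ∀ i, i < 99112 → P i := stepQ 99111 Q99111 (allL N99111 (tt N65019 F423378) (tt N65016 (iv0 F423379)) (tt N79156 F423373) (tt N82106 F423374) (tt N79142 F423377) (tt N62004 (iv5 D202243)) (tt N82105 F423375) (tt N79160 F423376))
theorem Q99113 : ∀ i, i < 99113 → P i := stepQ 99112 Q99112 (allL N99112 (tt N107759 F459600) (tt N110038 F469668) (tt N62008 F423380) (tt N99497 (iv3 F424863)) (tt N62005 (iv4 D202244)) (tt N93578 F423381) (tt N108233 (iv6 F461606)) (tt N108226 (iv7 F461568)))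
theorem Q99114 : ∀ i, i < 99114 → P i := stepQ 99113 Q99113 (allL N99113 (tt N62013 F423384) (tt N62006 (iv0 D202245)) (tt N62010 F423388) (tt N62526 F423386) (tt N73762 F423382) (tt N119874 D223133) (tt N119263 F514698) (tt N62011 (iv7 F423383)))
theorem Q99115 : ∀ i, i < 99115 → P i := stepQ 99114 Q99114 (allL N99114 (tt N62006 (iv1 D202246)) (tt N62013 F423390) (tt N62011 (iv2 F423392)) (tt N117278 F504250) (tt N118350 (iv4 F509850)) (tt N119875 D223134) (tt N110610 (iv6 F472385)) (tt N62010 F423391))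
theorem Q99116 : ∀ i, i < 99116 → P i := stepQ 99115 Q99115 (allL N99115 (tt N106922 F456295) (tt N106919 (iv0 F456273)) (tt N62012 F423393) (tt N109929 (iv3 F469276)) (tt N112608 (iv4 F481824)) (tt N62006 (iv5 D202247)) (tt N109928 (iv6 F469272)) (tt N112606 F481812))
theorem Q99117 : ∀ i, i < 99117 → P i := stepQ 99116 Q99116 (allL N99116 (tt N62011 (iv1 F423396)) (tt N62010 F423397) (tt N62013 F423394) (tt N117289 (iv3 F504309)) (tt N99484 (iv4 F424796)) (tt N112606 (iv5 F481811)) (tt N70999 F423395) (tt N62006 (iv7 D202248)))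
theorem Q99118 : ∀ i, i < 99118 → P i := stepQ 99117 Q99117 (allL N99117 (tt N116019 F498090) (tt N73460 F423401) (tt N62351 F423398) (tt N93652 F423399) (tt N62007 (iv4 D202249)) (tt N108665 (iv5 F463444)) (tt N109941 (iv6 F469321)) (tt N99007 F423400))
theorem Q99119 : ∀ i, i < 99119 → P i := stepQ 99118 Q99118 (allL N99118 (tt N117910 (iv1 F507547)) (tt N117909 F507545) (tt N93578 F423402) (tt N93760 F423403) (tt N93576 F423404) (tt N62008 (iv5 D202250)) (tt N118792 (iv6 F512100)) (tt N117887 (iv7 F507441)))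
theorem Q99120 : ∀ i, i < 99120 → P i := stepQ 99119 Q99119 (allL N99119 (tt N64953 F459168) (tt N116588 F500874) (tt N108233 (iv2 F461604)) (tt N107674 (iv3 F459177)) (tt N62009 F423405) (tt N119876 D223135) (tt N62008 (iv6 D202251)) (tt N107671 (iv7 F459166)))
theorem Q99121 : ∀ i, i < 99121 → P i := stepQ 99120 Q99120 (allL N99120 (tt N62009 (iv1 D202252)) (tt N62525 F423406) (tt N62018 (iv2 F423407)) (tt N116503 (iv3 F500487)) (tt N73523 F423408) (tt N119877 D223136) (tt N119836 F517619) (tt N109927 (iv7 F469269)))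
theorem Q99122 : ∀ i, i < 99122 → P i := stepQ 99121 Q99121 (allL N99121 (tt N106911 (iv1 F456248)) (tt N116859 (iv0 F502210)) (tt N109928 (iv2 F469270)) (tt N62016 F423409) (tt N112609 (iv4 F481829)) (tt N62009 (iv5 D202253)) (tt N62012 F423410) (tt N116865 (iv7 F502240)))
theorem Q99123 : ∀ i, i < 99123 → P i := stepQ 99122 Q99122 (allL N99122 (tt N117279 (iv1 F504255)) (tt N116495 F500439) (tt N109921 (iv2 F469227)) (tt N62010 (iv3 D202254)) (tt N116933 (iv4 F502568)) (tt N119878 D223137) (tt N116932 F502565) (tt N117278 (iv7 F504249)))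
theorem Q99124 : ∀ i, i < 99124 → P i := stepQ 99123 Q99123 (allL N99123 (tt N119879 D223138) (tt N71883 F500498) (tt N119874 (iv2 F517816)) (tt N119878 (iv3 F517836)) (tt N119880 D223139) (tt N62010 (iv5 D202255)) (tt N119877 (iv6 F517834)) (tt N119875 (iv7 F517823)))
theorem Q99125 : ∀ i, i < 99125 → P i := stepQ 99124 Q99124 (allL N99124 (tt N107859 F500499) (tt N119254 (iv0 F514650)) (tt N119263 (iv2 F514699)) (tt N116932 (iv3 F502564)) (tt N118356 (iv4 F509885)) (tt N119836 (iv5 F517616)) (tt N62010 (iv6 D202256)) (tt N119262 F514693))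
theorem Q99126 : ∀ i, i < 99126 → P i := stepQ 99125 Q99125 (allL N99125 (tt N71883 (iv1 F424800)) (tt N119879 F517843) (tt N119875 (iv2 F517822)) (tt N106594 (iv3 F454989)) (tt N109977 F469444) (tt N62011 (iv5 D202257)) (tt N109976 (iv6 F469445)) (tt N119874 (iv7 F517819)))
theorem Q99127 : ∀ i, i < 99127 → P i := stepQ 99126 Q99126 (allL N99126 (tt N110611 F472390) (tt N77941 (iv0 F424801)) (tt N110610 F472384) (tt N99964 F426987) (tt N110195 (iv4 F470373)) (tt N112569 (iv5 F481690)) (tt N62011 (iv6 D202258)) (tt N109955 (iv7 F469367)))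
theorem Q99128 : ∀ i, i < 99128 → P i := stepQ 99127 Q99127 (allL N99127 (tt N112606 F481814) (tt N62012 (iv0 D202259)) (tt N106922 (iv2 F456297)) (tt N119881 D223140) (tt N119882 D223141) (tt N106920 F456298) (tt N116504 F500497) (tt N106919 F456299))
theorem Q99129 : ∀ i, i < 99129 → P i := stepQ 99128 Q99128 (allL N99128 (tt N62012 (iv1 D202260)) (tt N112606 F481813) (tt N106919 F456279) (tt N109924 (iv3 F469250)) (tt N119883 D223142) (tt N106916 (iv5 F456278)) (tt N119884 D223143) (tt N106922 (iv7 F456294)))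
theorem Q99130 : ∀ i, i < 99130 → P i := stepQ 99129 Q99129 (allL N99129 (tt N106919 (iv1 F456281)) (tt N106922 F456296) (tt N112606 (iv2 F481809)) (tt N62025 F423411) (tt N112604 (iv4 F481798)) (tt N62013 F423412) (tt N116496 (iv6 F500444)) (tt N62012 (iv7 D202261)))
theorem Q99131 : ∀ i, i < 99131 → P i := stepQ 99130 Q99130 (allL N99130 (tt N119885 D223144) (tt N119886 D223145) (tt N62962 F423413) (tt N116501 (iv3 F500476)) (tt N62907 F423415) (tt N62014 (iv5 D202262)) (tt N106026 (iv6 F452792)) (tt N63625 F423414))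
theorem Q99132 : ∀ i, i < 99132 → P i := stepQ 99131 Q99131 (allL N99131 (tt N77756 F423418) (tt N110917 (iv0 F473781)) (tt N106684 F455276) (tt N116502 (iv3 F500481)) (tt N63626 F423416) (tt N98953 F423417) (tt N62014 (iv6 D202263)) (tt N110918 (iv7 F473785)))
theorem Q99133 : ∀ i, i < 99133 → P i := stepQ 99132 Q99132 (allL N99132 (tt N119886 (iv1 F517869)) (tt N119885 F517865) (tt N63625 F423419) (tt N110672 (iv3 F472700)) (tt N62963 F423420) (tt N62015 (iv5 D202264)) (tt N110672 (iv6 F472701)) (tt N62962 F423421))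
theorem Q99134 : ∀ i, i < 99134 → P i := stepQ 99133 Q99133 (allL N99133 (tt N119334 (iv1 F515083)) (tt N79419 (iv0 F423424)) (tt N63607 F423422) (tt N119260 (iv3 F514681)) (tt N63507 F423423) (tt N119260 (iv5 F514679)) (tt N62015 (iv6 D202265)) (tt N119692 (iv7 F516952)))
theorem Q99135 : ∀ i, i < 99135 → P i := stepQ 99134 Q99134 (allL N99134 (tt N109922 (iv1 F469238)) (tt N62016 (iv0 D202266)) (tt N110514 (iv2 F471931)) (tt N116505 F500504) (tt N100424 (iv4 F428912)) (tt N100410 (iv5 F428852)) (tt N119887 D223146) (tt N117237 (iv7 F504061)))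
theorem Q99136 : ∀ i, i < 99136 → P i := stepQ 99135 Q99135 (allL N99135 (tt N62016 (iv1 D202267)) (tt N109922 (iv0 F469237)) (tt N117237 (iv2 F504058)) (tt N119694 (iv3 F516959)) (tt N100427 (iv4 F428928)) (tt N100409 F428848) (tt N109923 F469243) (tt N110514 (iv7 F471932)))
theorem Q99137 : ∀ i, i < 99137 → P i := stepQ 99136 Q99136 (allL N99136 (tt N100428 (iv1 F428936)) (tt N100430 (iv0 F428947)) (tt N62977 F423425) (tt N116250 (iv3 F499211)) (tt N62016 (iv4 D202268)) (tt N62912 F423427) (tt N62024 F423426) (tt N62973 (iv7 F423428)))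
theorem Q99138 : ∀ i, i < 99138 → P i := stepQ 99137 Q99137 (allL N99137 (tt N117237 (iv1 F504063)) (tt N110514 (iv0 F471933)) (tt N109922 (iv2 F469233)) (tt N116865 F502245) (tt N62973 F423429) (tt N62017 F423430) (tt N117280 (iv6 F504260)) (tt N62016 (iv7 D202269)))
theorem Q99139 : ∀ i, i < 99139 → P i := stepQ 99138 Q99138 (allL N99138 (tt N119888 D223147) (tt N119889 D223148) (tt N119877 (iv2 F517832)) (tt N62019 F423431) (tt N113347 (iv4 F485130)) (tt N62018 (iv5 D202270)) (tt N119874 (iv6 F517818)) (tt N110675 (iv7 F472718)))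
theorem Q99140 : ∀ i, i < 99140 → P i := stepQ 99139 Q99139 (allL N99139 (tt N72077 (iv1 F423436)) (tt N76794 (iv0 F423437)) (tt N106597 (iv2 F454994)) (tt N119874 (iv3 F517817)) (tt N90826 F423434) (tt N62526 F423435) (tt N62019 (iv6 D202272)) (tt N106594 (iv7 F454987)))
theorem Q99141 : ∀ i, i < 99141 → P i := stepQ 99140 Q99140 (allL N99140 (tt N75872 F423439) (tt N75874 F431846) (tt N109526 (iv2 F467372)) (tt N62022 F423438) (tt N90613 (iv4 F423440)) (tt N62021 (iv5 D202273)) (tt N119890 D223149) (tt N109525 (iv7 F467365)))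
theorem Q99142 : ∀ i, i < 99142 → P i := stepQ 99141 Q99141 (allL N99141 (tt N119891 D223150) (tt N119892 D223151) (tt N110676 (iv2 F472720)) (tt N119890 (iv3 F517883)) (tt N90091 F423441) (tt N110718 (iv5 F472884)) (tt N62022 (iv6 D202274)) (tt N119893 D223152))
theorem Q99143 : ∀ i, i < 99143 → P i := stepQ 99142 Q99142 (allL N99142 (tt N109485 (iv1 F467210)) (tt N109483 (iv0 F467200)) (tt N109513 F467321) (tt N62023 (iv3 D202275)) (tt N71519 (iv4 F423443)) (tt N77881 F423442) (tt N71518 F423444) (tt N101752 (iv7 F434182)))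
theorem Q99144 : ∀ i, i < 99144 → P i := stepQ 99143 Q99143 (allL N99143 (tt N71266 (iv1 F423452)) (tt N106647 (iv0 F455138)) (tt N71512 F423445) (tt N71518 F423446) (tt N70917 F423447) (tt N98958 (iv5 F423449)) (tt N62023 (iv6 D202276)) (tt N71518 (iv7 F423451)))
theorem Q99145 : ∀ i, i < 99145 → P i := stepQ 99144 Q99144 (allL N99144 (tt N119881 F517851) (tt N119894 D223153) (tt N109514 F467326) (tt N116496 (iv3 F500442)) (tt N109497 (iv4 F467275)) (tt N116495 F500440) (tt N62025 (iv6 D202277)) (tt N117280 (iv7 F504261)))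
theorem Q99146 : ∀ i, i < 99146 → P i := stepQ 99145 Q99145 (allL N99145 (tt N62098 (iv1 F423455)) (tt N62026 (iv0 D202278)) (tt N62100 (iv2 F423454)) (tt N62097 F423453) (tt N109468 (iv4 F467124)) (tt N109515 (iv5 F467327)) (tt N62088 (iv6 F423457)) (tt N62089 F423456))
theorem Q99147 : ∀ i, i < 99147 → P i := stepQ 99146 Q99146 (allL N99146 (tt N71506 F423460) (tt N76799 F423461) (tt N109919 (iv2 F469213)) (tt N62027 F423458) (tt N72076 (iv4 F423463)) (tt N62026 (iv5 D202279)) (tt N62027 F423462) (tt N73616 F423459))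
theorem Q99148 : ∀ i, i < 99148 → P i := stepQ 99147 Q99147 (allL N99147 (tt N72642 F423467) (tt N73201 F423468) (tt N109920 (iv2 F469220)) (tt N62028 F423464) (tt N62444 F423465) (tt N62028 F423466) (tt N62026 (iv6 D202280)) (tt N109664 (iv7 F467998)))
theorem Q99149 : ∀ i, i < 99149 → P i := stepQ 99148 Q99148 (allL N99148 (tt N62028 (iv1 D202281)) (tt N95348 F423469) (tt N76846 (iv2 F423473)) (tt N100401 (iv3 F428812)) (tt N66032 F423472) (tt N73202 F423471) (tt N103789 (iv6 F442823)) (tt N62156 F423470))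
theorem Q99150 : ∀ i, i < 99150 → P i := stepQ 99149 Q99149 (allL N99149 (tt N71527 F467234) (tt N117225 (iv0 F503998)) (tt N73618 F423474) (tt N117283 (iv3 F504276)) (tt N90689 F423475) (tt N110724 (iv5 F472907)) (tt N62029 (iv6 D202282)) (tt N119895 D223154))
theorem Q99151 : ∀ i, i < 99151 → P i := stepQ 99150 Q99150 (allL N99150 (tt N62030 (iv1 D202283)) (tt N62090 F423476) (tt N62072 F423482) (tt N62076 (iv3 F423480)) (tt N92542 F423479) (tt N62074 F423478) (tt N62078 (iv6 F423481)) (tt N62091 F423477))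
theorem Q99152 : ∀ i, i < 99152 → P i := stepQ 99151 Q99151 (allL N99151 (tt N105893 (iv1 F452216)) (tt N99272 (iv0 F423892)) (tt N105894 (iv2 F452221)) (tt N62032 F423483) (tt N92474 F423484) (tt N77960 F423485) (tt N62030 (iv6 D202284)) (tt N68338 F423486))
theorem Q99153 : ∀ i, i < 99153 → P i := stepQ 99152 Q99152 (allL N99152 (tt N95966 F423490) (tt N95963 (iv0 F423491)) (tt N95955 F423487) (tt N62031 (iv3 D202285)) (tt N92472 F423488) (tt N106327 (iv5 F454045)) (tt N119896 D223155) (tt N95962 F423489))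
theorem Q99154 : ∀ i, i < 99154 → P i := stepQ 99153 Q99153 (allL N99153 (tt N104177 (iv1 F444546)) (tt N96699 F423494) (tt N104178 (iv2 F444550)) (tt N106327 (iv3 F454040)) (tt N70743 F423492) (tt N62031 (iv5 D202286)) (tt N106325 (iv6 F454032)) (tt N70742 F423493))
theorem Q99155 : ∀ i, i < 99155 → P i := stepQ 99154 Q99154 (allL N99154 (tt N117087 (iv1 F503309)) (tt N107958 F480515) (tt N107944 (iv2 F460407)) (tt N119896 (iv3 F517909)) (tt N62032 F423495) (tt N119068 (iv5 F513611)) (tt N62031 (iv6 D202287)) (tt N110754 (iv7 F473023)))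
theorem Q99156 : ∀ i, i < 99156 → P i := stepQ 99155 Q99155 (allL N99155 (tt N82088 (iv1 F423496)) (tt N62032 (iv0 D202288)) (tt N62152 (iv2 F423811)) (tt N99243 (iv3 F423832)) (tt N115126 (iv4 F493614)) (tt N110021 (iv5 F469587)) (tt N107538 (iv6 F458694)) (tt N110755 (iv7 F473028)))
theorem Q99157 : ∀ i, i < 99157 → P i := stepQ 99156 Q99156 (allL N99156 (tt N70131 F423503) (tt N62517 (iv0 F423504)) (tt N93285 F423498) (tt N93326 F423499) (tt N62033 (iv4 D202290)) (tt N94563 F423502) (tt N94625 F423500) (tt N94566 F423501))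
theorem Q99158 : ∀ i, i < 99158 → P i := stepQ 99157 Q99157 (allL N99157 (tt N107786 (iv1 F459727)) (tt N100603 (iv0 F429660)) (tt N111361 F476010) (tt N62035 F423505) (tt N99881 (iv4 F426663)) (tt N62033 (iv5 D202291)) (tt N98782 F423506) (tt N70748 F423507))
theorem Q99159 : ∀ i, i < 99159 → P i := stepQ 99158 Q99158 (allL N99158 (tt N95944 F423512) (tt N76808 F423513) (tt N62039 F423508) (tt N95190 F423509) (tt N70739 F423510) (tt N62036 (iv5 D202292)) (tt N113055 (iv6 F483763)) (tt N95942 F423511))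
theorem Q99160 : ∀ i, i < 99160 → P i := stepQ 99159 Q99159 (allL N99159 (tt N95935 F423520) (tt N69719 F423521) (tt N95936 F423516) (tt N62430 F423517) (tt N99107 F423519) (tt N62037 (iv5 D202293)) (tt N106243 (iv6 F453731)) (tt N73349 F423518))
theorem Q99161 : ∀ i, i < 99161 → P i := stepQ 99160 Q99160 (allL N99160 (tt N115126 (iv1 F493617)) (tt N72434 (iv0 F423526)) (tt N71677 F423522) (tt N62431 F423523) (tt N99092 F423524) (tt N71676 (iv5 F423528)) (tt N62037 (iv6 D202294)) (tt N96267 F423525))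
theorem Q99162 : ∀ i, i < 99162 → P i := stepQ 99161 Q99161 (allL N99161 (tt N69719 F423533) (tt N95935 F423534) (tt N73349 F423529) (tt N90116 F423530) (tt N68652 F423531) (tt N62038 (iv5 D202295)) (tt N101032 (iv6 F431369)) (tt N95936 F423532))
theorem Q99163 : ∀ i, i < 99163 → P i := stepQ 99162 Q99162 (allL N99162 (tt N101045 F431433) (tt N101922 (iv0 F434956)) (tt N113055 (iv2 F483760)) (tt N69707 F423535) (tt N104174 (iv4 F444534)) (tt N96600 F423536) (tt N62039 (iv6 D202296)) (tt N96599 (iv7 F423537)))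
theorem Q99164 : ∀ i, i < 99164 → P i := stepQ 99163 Q99163 (allL N99163 (tt N62058 (iv1 F423541)) (tt N62040 (iv0 D202297)) (tt N90184 (iv2 F423542)) (tt N73358 F423539) (tt N99072 F423538) (tt N105568 (iv5 F450766)) (tt N76190 F423540) (tt N73394 (iv7 F423543)))
theorem Q99165 : ∀ i, i < 99165 → P i := stepQ 99164 Q99164 (allL N99164 (tt N62040 (iv1 D202298)) (tt N62058 F423544) (tt N73394 (iv2 F423546)) (tt N71660 (iv3 F423549)) (tt N99085 F423547) (tt N71658 F423548) (tt N115123 F493603) (tt N90184 F423545))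
theorem Q99166 : ∀ i, i < 99166 → P i := stepQ 99165 Q99165 (allL N99165 (tt N119869 F517791) (tt N62078 F438129) (tt N119287 (iv2 F514839)) (tt N62041 (iv3 D202299)) (tt N118576 (iv4 F510983)) (tt N102664 (iv5 F438126)) (tt N77970 (iv6 F429075)) (tt N119696 (iv7 F516971)))
theorem Q99167 : ∀ i, i < 99167 → P i := stepQ 99166 Q99166 (allL N99166 (tt N119872 F517808) (tt N107538 (iv0 F482069)) (tt N119697 (iv2 F516975)) (tt N107758 (iv3 F459594)) (tt N114620 (iv4 F491041)) (tt N119103 (iv5 F513805)) (tt N62042 (iv6 D202300)) (tt N114617 (iv7 F491037)))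
theorem Q99168 : ∀ i, i < 99168 → P i := stepQ 99167 Q99167 (allL N99167 (tt N110636 F472532) (tt N119897 D223156) (tt N99476 (iv2 F424753)) (tt N62047 F423550) (tt N93271 F423551) (tt N113408 (iv5 F485362)) (tt N62046 (iv6 D202301)) (tt N100512 (iv7 F429255)))
theorem Q99169 : ∀ i, i < 99169 → P i := stepQ 99168 Q99168 (allL N99168 (tt N119898 D223157) (tt N99269 (iv0 F423884)) (tt N98880 F423552) (tt N113408 (iv3 F485360)) (tt N83045 F423554) (tt N62047 (iv5 D202302)) (tt N77912 F423553) (tt N100513 (iv7 F429258)))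
theorem Q99170 : ∀ i, i < 99170 → P i := stepQ 99169 Q99169 (allL N99169 (tt N107038 F456738) (tt N119899 D223158) (tt N119695 (iv2 F516963)) (tt N88656 F423555) (tt N62048 (iv4 D202303)) (tt N88639 (iv5 F423556)) (tt N88640 (iv6 F423557)) (tt N119086 (iv7 F513717)))
theorem Q99171 : ∀ i, i < 99171 → P i := stepQ 99170 Q99170 (allL N99170 (tt N78014 (iv1 F423562)) (tt N62145 (iv0 F423561)) (tt N78015 F423558) (tt N116832 (iv3 F502066)) (tt N88640 F423559) (tt N99220 (iv5 F423744)) (tt N62048 (iv6 D202304)) (tt N78004 F423560))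
theorem Q99172 : ∀ i, i < 99172 → P i := stepQ 99171 Q99171 (allL N99171 (tt N62075 (iv1 F423565)) (tt N62049 (iv0 D202305)) (tt N62079 (iv2 F423564)) (tt N62091 (iv3 F423567)) (tt N62609 F423563) (tt N119869 (iv5 F517787)) (tt N109517 (iv6 F467342)) (tt N62076 F423566))
theorem Q99173 : ∀ i, i < 99173 → P i := stepQ 99172 Q99172 (allL N99172 (tt N102861 F438988) (tt N103211 (iv0 F440586)) (tt N93744 F423568) (tt N66443 F423569) (tt N62049 (iv4 D202306)) (tt N88287 F423571) (tt N78049 F423570) (tt N116508 (iv7 F500524)))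
theorem Q99174 : ∀ i, i < 99174 → P i := stepQ 99173 Q99173 (allL N99173 (tt N66481 F423577) (tt N102859 F438976) (tt N69169 F423573) (tt N66444 F423574) (tt N119900 D223159) (tt N62050 (iv5 D202307)) (tt N69167 F423575) (tt N69131 F423576))
theorem Q99175 : ∀ i, i < 99175 → P i := stepQ 99174 Q99174 (allL N99174 (tt N119899 (iv1 F517928)) (tt N107038 (iv0 F456739)) (tt N119086 (iv2 F513713)) (tt N107072 F457023) (tt N62051 (iv4 D202308)) (tt N119901 D223160) (tt N78013 F423578) (tt N119695 (iv7 F516967)))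
theorem Q99176 : ∀ i, i < 99176 → P i := stepQ 99175 Q99175 (allL N99175 (tt N62052 (iv1 D202309)) (tt N99192 F423641) (tt N62155 (iv2 F423642)) (tt N110755 F473029) (tt N100400 (iv4 F428807)) (tt N100446 (iv5 F429008)) (tt N100399 F428804) (tt N99243 (iv7 F423829)))
theorem Q99177 : ∀ i, i < 99177 → P i := stepQ 99176 Q99176 (allL N99176 (tt N109487 (iv1 F467226)) (tt N119706 F517017) (tt N62062 F423579) (tt N119698 (iv3 F516978)) (tt N90847 F423581) (tt N62054 (iv5 D202310)) (tt N119705 (iv6 F517013)) (tt N62066 F423580))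
theorem Q99178 : ∀ i, i < 99178 → P i := stepQ 99177 Q99177 (allL N99177 (tt N66308 F423585) (tt N66227 (iv0 F423588)) (tt N66311 F423582) (tt N71774 F423583) (tt N78913 F423586) (tt N62055 (iv5 D202311)) (tt N104695 (iv6 F446903)) (tt N66310 F423584))
theorem Q99179 : ∀ i, i < 99179 → P i := stepQ 99178 Q99178 (allL N99178 (tt N112043 (iv1 F479229)) (tt N105352 (iv0 F449844)) (tt N71770 F423592) (tt N62056 (iv3 D202312)) (tt N99067 F423593) (tt N66320 (iv5 F423595)) (tt N112506 (iv6 F481410)) (tt N66384 F423594))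
theorem Q99180 : ∀ i, i < 99180 → P i := stepQ 99179 Q99179 (allL N99179 (tt N66227 F423599) (tt N66308 (iv0 F423601)) (tt N66310 F423596) (tt N66320 F423597) (tt N103558 (iv4 F442034)) (tt N62056 (iv5 D202313)) (tt N64142 F423600) (tt N66311 F423598))
theorem Q99181 : ∀ i, i < 99181 → P i := stepQ 99180 Q99180 (allL N99180 (tt N66499 F423605) (tt N100400 (iv0 F428809)) (tt N66383 F423602) (tt N112506 (iv3 F481409)) (tt N99066 F423603) (tt N64143 F423604) (tt N62056 (iv6 D202314)) (tt N110773 (iv7 F473132)))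
theorem Q99182 : ∀ i, i < 99182 → P i := stepQ 99181 Q99181 (allL N99181 (tt N69055 F423609) (tt N68971 F423610) (tt N103594 (iv2 F442174)) (tt N70984 F423606) (tt N62057 (iv4 D202315)) (tt N104488 (iv5 F445989)) (tt N66200 F423607) (tt N66389 F423608))
theorem Q99183 : ∀ i, i < 99183 → P i := stepQ 99182 Q99182 (allL N99182 (tt N95947 (iv1 F423615)) (tt N95946 F423616) (tt N95949 F423611) (tt N86372 F423612) (tt N62059 F423613) (tt N105504 (iv5 F450494)) (tt N62058 (iv6 D202316)) (tt N95943 F423614))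
theorem Q99184 : ∀ i, i < 99184 → P i := stepQ 99183 Q99183 (allL N99183 (tt N119704 (iv1 F517006)) (tt N119703 (iv0 F517005)) (tt N119705 (iv2 F517009)) (tt N62066 F423617) (tt N90848 (iv4 F423619)) (tt N62059 (iv5 D202317)) (tt N62062 F423618) (tt N119698 (iv7 F516980)))
theorem Q99185 : ∀ i, i < 99185 → P i := stepQ 99184 Q99184 (allL N99184 (tt N117282 F504275) (tt N93780 (iv0 F502918)) (tt N117327 (iv2 F504476)) (tt N62060 (iv3 D202318)) (tt N118038 (iv4 F508227)) (tt N119902 D223161) (tt N119903 D223162) (tt N118039 (iv7 F508235)))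
theorem Q99186 : ∀ i, i < 99186 → P i := stepQ 99185 Q99185 (allL N99185 (tt N99928 (iv1 F426863)) (tt N99926 (iv0 F426852)) (tt N117224 F503992) (tt N119902 (iv3 F517947)) (tt N113484 (iv4 F485709)) (tt N62060 (iv5 D202319)) (tt N110810 (iv6 F473254)) (tt N117223 (iv7 F503986)))
theorem Q99187 : ∀ i, i < 99187 → P i := stepQ 99186 Q99186 (allL N99186 (tt N100399 (iv1 F428803)) (tt N100401 (iv0 F428816)) (tt N110826 F473324) (tt N119903 (iv3 F517948)) (tt N79405 F423620) (tt N99266 (iv5 F423880)) (tt N62060 (iv6 D202320)) (tt N110825 (iv7 F473318)))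
theorem Q99188 : ∀ i, i < 99188 → P i := stepQ 99187 Q99187 (allL N99187 (tt N99926 (iv1 F426853)) (tt N99928 (iv0 F426862)) (tt N117223 (iv2 F503985)) (tt N117135 F503567) (tt N108800 (iv4 F464008)) (tt N62061 (iv5 D202321)) (tt N71526 F423621) (tt N117224 (iv7 F503988)))
theorem Q99189 : ∀ i, i < 99189 → P i := stepQ 99188 Q99188 (allL N99188 (tt N110622 (iv1 F472446)) (tt N110618 (iv0 F472427)) (tt N110620 F472436) (tt N110787 (iv3 F473171)) (tt N77758 F423622) (tt N99248 F423836) (tt N62061 (iv6 D202322)) (tt N110621 (iv7 F472439)))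
theorem Q99190 : ∀ i, i < 99190 → P i := stepQ 99189 Q99189 (allL N99189 (tt N62066 (iv1 F423623)) (tt N62062 (iv0 D202323)) (tt N109487 (iv2 F467227)) (tt N109521 (iv3 F467348)) (tt N100430 (iv4 F428946)) (tt N100421 (iv5 F428897)) (tt N105288 (iv6 F449570)) (tt N119706 (iv7 F517018)))
theorem Q99191 : ∀ i, i < 99191 → P i := stepQ 99190 Q99190 (allL N99190 (tt N62062 (iv1 D202324)) (tt N62066 F423624) (tt N119706 F517016) (tt N106653 F455162) (tt N100428 (iv4 F428934)) (tt N100422 (iv5 F428904)) (tt N106652 (iv6 F455163)) (tt N109487 (iv7 F467223)))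
theorem Q99192 : ∀ i, i < 99192 → P i := stepQ 99191 Q99191 (allL N99191 (tt N78022 F423628) (tt N77851 F423631) (tt N62119 F423625) (tt N93377 F423626) (tt N97216 F423627) (tt N77824 (iv5 F423629)) (tt N62070 (iv6 D202325)) (tt N77975 F423630))
theorem Q99193 : ∀ i, i < 99193 → P i := stepQ 99192 Q99192 (allL N99192 (tt N99175 (iv1 F423641)) (tt N78044 F423637) (tt N62122 F423633) (tt N111134 (iv3 F474858)) (tt N64111 F423634) (tt N62071 (iv5 D202326)) (tt N77824 F423635) (tt N98793 F423636))
theorem Q99194 : ∀ i, i < 99194 → P i := stepQ 99193 Q99193 (allL N99193 (tt N119287 (iv1 F514844)) (tt N119696 (iv0 F516972)) (tt N62078 F423643) (tt N62074 F423644) (tt N92544 F423645) (tt N62076 F423646) (tt N62072 (iv6 D202327)) (tt N119869 (iv7 F517789)))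
theorem Q99195 : ∀ i, i < 99195 → P i := stepQ 99194 Q99194 (allL N99194 (tt N62078 (iv1 D202329)) (tt N119869 (iv0 F517790)) (tt N119696 (iv2 F516969)) (tt N93544 (iv3 F423648)) (tt N119842 (iv4 F517651)) (tt N93543 F423647) (tt N113335 (iv6 F485090)) (tt N119287 (iv7 F514841)))
theorem Q99196 : ∀ i, i < 99196 → P i := stepQ 99195 Q99195 (allL N99195 (tt N119696 F516974) (tt N119287 (iv0 F514843)) (tt N119869 (iv2 F517785)) (tt N62086 F423649) (tt N95317 F423650) (tt N62079 F423651) (tt N119904 D223163) (tt N62078 (iv7 D202330)))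
theorem Q99197 : ∀ i, i < 99197 → P i := stepQ 99196 Q99196 (allL N99196 (tt N116506 (iv1 F500511)) (tt N116507 (iv0 F500516)) (tt N109517 (iv2 F467336)) (tt N62089 F423652) (tt N67155 F423653) (tt N90621 (iv5 F423655)) (tt N62079 (iv6 D202331)) (tt N62097 F423654))
theorem Q99198 : ∀ i, i < 99198 → P i := stepQ 99197 Q99197 (allL N99197 (tt N62385 F423660) (tt N102877 (iv0 F439066)) (tt N73318 F423656) (tt N62083 F423657) (tt N73625 F423658) (tt N69975 F423659) (tt N62081 (iv6 D202332)) (tt N108282 (iv7 F461868)))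
theorem Q99199 : ∀ i, i < 99199 → P i := stepQ 99198 Q99198 (allL N99198 (tt N73583 F423663) (tt N73388 (iv0 F423664)) (tt N92539 F423661) (tt N69974 F423662) (tt N107564 (iv4 F458766)) (tt N69973 (iv5 F423665)) (tt N62082 (iv6 D202333)) (tt N96296 F423666))
theorem Q99200 : ∀ i, i < 99200 → P i := stepQ 99199 Q99199 (allL N99199 (tt N109009 (iv1 F464900)) (tt N62850 (iv0 F423671)) (tt N92540 F423667) (tt N69975 F423668) (tt N69988 F423670) (tt N62083 (iv5 D202334)) (tt N69973 F423669) (tt N101314 (iv7 F432618)))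
theorem Q99201 : ∀ i, i < 99201 → P i := stepQ 99200 Q99200 (allL N99200 (tt N73392 (iv1 F423674)) (tt N73357 F423675) (tt N73391 F423672) (tt N108282 (iv3 F461864)) (tt N62088 F423673) (tt N101314 (iv5 F432619)) (tt N109468 (iv6 F467120)) (tt N62083 (iv7 D202335)))
theorem Q99202 : ∀ i, i < 99202 → P i := stepQ 99201 Q99201 (allL N99201 (tt N97237 F423678) (tt N117457 F505138) (tt N98875 F423676) (tt N99476 (iv3 F424754)) (tt N85637 F423677) (tt N119905 D223164) (tt N62085 (iv6 D202336)) (tt N91580 F423679))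
theorem Q99203 : ∀ i, i < 99203 → P i := stepQ 99202 Q99202 (allL N99202 (tt N116507 (iv1 F500517)) (tt N116506 (iv0 F500510)) (tt N62097 F423680) (tt N119904 (iv3 F517951)) (tt N95398 F423681) (tt N109486 (iv5 F467220)) (tt N62086 (iv6 D202337)) (tt N109517 (iv7 F467339)))
theorem Q99204 : ∀ i, i < 99204 → P i := stepQ 99203 Q99203 (allL N99203 (tt N107520 (iv1 F458644)) (tt N78036 F423685) (tt N73409 F423682) (tt N117298 (iv3 F504343)) (tt N74269 F423684) (tt N62087 (iv5 D202338)) (tt N78025 F423686) (tt N98844 F423683))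
theorem Q99205 : ∀ i, i < 99205 → P i := stepQ 99204 Q99204 (allL N99204 (tt N92541 F423693) (tt N92415 F423692) (tt N62092 F423689) (tt N71065 F423690) (tt N62091 (iv4 D202339)) (tt N118482 (iv5 F510611)) (tt N119906 D223165) (tt N92542 F423691))
theorem Q99206 : ∀ i, i < 99206 → P i := stepQ 99205 Q99205 (allL N99205 (tt N119699 F516986) (tt N119907 D223166) (tt N62093 F423694) (tt N109517 (iv3 F467337)) (tt N119906 (iv4 F517965)) (tt N109516 F467334) (tt N62091 (iv6 D202340)) (tt N119904 (iv7 F517954)))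
theorem Q99207 : ∀ i, i < 99207 → P i := stepQ 99206 Q99206 (allL N99206 (tt N99880 (iv1 F426662)) (tt N118481 F510607) (tt N118482 (iv2 F510608)) (tt N73316 F423695) (tt N99989 F432051) (tt N62092 (iv5 D202341)) (tt N108988 (iv6 F464791)) (tt N92543 F423696))
theorem Q99208 : ∀ i, i < 99208 → P i := stepQ 99207 Q99207 (allL N99207 (tt N106964 F456470) (tt N118521 F510793) (tt N119906 (iv2 F517963)) (tt N63140 F423697) (tt N62093 F423698) (tt N119908 D223167) (tt N62092 (iv6 D202342)) (tt N112805 (iv7 F482693)))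
theorem Q99209 : ∀ i, i < 99209 → P i := stepQ 99208 Q99208 (allL N99208 (tt N119904 F517956) (tt N62093 (iv0 D202343)) (tt N119699 (iv2 F516985)) (tt N119909 D223168) (tt N92481 (iv4 F473256)) (tt N110810 (iv5 F473255)) (tt N99266 F461044) (tt N119907 (iv7 F517971)))
theorem Q99210 : ∀ i, i < 99210 → P i := stepQ 99209 Q99209 (allL N99209 (tt N62093 (iv1 D202344)) (tt N119904 (iv0 F517955)) (tt N119907 (iv2 F517975)) (tt N110761 F473162) (tt N92482 F473163) (tt N110811 F473261) (tt N77987 F473164) (tt N119699 (iv7 F516983)))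
theorem Q99211 : ∀ i, i < 99211 → P i := stepQ 99210 Q99210 (allL N99210 (tt N119910 D223169) (tt N119911 D223170) (tt N109516 (iv2 F467333)) (tt N62099 F423699) (tt N119912 D223171) (tt N62093 (iv5 D202345)) (tt N109515 (iv6 F467328)) (tt N109518 (iv7 F467344)))
theorem Q99212 : ∀ i, i < 99212 → P i := stepQ 99211 Q99211 (allL N99211 (tt N119907 (iv1 F517970)) (tt N119699 (iv0 F516984)) (tt N119904 (iv2 F517950)) (tt N62100 F423700) (tt N112805 (iv4 F482691)) (tt N109518 F467345) (tt N119869 (iv6 F517788)) (tt N62093 (iv7 D202346)))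
theorem Q99213 : ∀ i, i < 99213 → P i := stepQ 99212 Q99212 (allL N99212 (tt N62095 (iv1 D202347)) (tt N109468 (iv0 F467122)) (tt N62441 F423702) (tt N76143 (iv3 F423701)) (tt N76777 F423703) (tt N100030 (iv5 F427290)) (tt N81702 F423704) (tt N99592 (iv7 F425318)))
theorem Q99214 : ∀ i, i < 99214 → P i := stepQ 99213 Q99213 (allL N99213 (tt N76799 F423708) (tt N71506 F423706) (tt N73616 F423705) (tt N116497 (iv3 F500449)) (tt N72075 F423707) (tt N62098 (iv5 D202348)) (tt N119895 (iv6 F517905)) (tt N109919 (iv7 F469216)))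
theorem Q99215 : ∀ i, i < 99215 → P i := stepQ 99214 Q99214 (allL N99214 (tt N105329 F449738) (tt N106015 (iv0 F452749)) (tt N90623 F423712) (tt N81385 (iv3 F423715)) (tt N62099 (iv4 D202349)) (tt N87688 F423714) (tt N81382 F423713) (tt N106589 (iv7 F454973)))
theorem Q99216 : ∀ i, i < 99216 → P i := stepQ 99215 Q99215 (allL N99215 (tt N119709 F517034) (tt N119913 D223172) (tt N62106 F423716) (tt N107524 (iv3 F458662)) (tt N99659 (iv4 F425630)) (tt N76851 F423717) (tt N62101 (iv6 D202350)) (tt N107530 (iv7 F458676)))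
theorem Q99217 : ∀ i, i < 99217 → P i := stepQ 99216 Q99216 (allL N99216 (tt N62103 (iv1 D202351)) (tt N62115 F423718) (tt N62111 (iv2 F423722)) (tt N96619 (iv3 F423723)) (tt N72675 F423721) (tt N75600 F423720) (tt N110834 (iv6 F473362)) (tt N62110 F423719))
theorem Q99218 : ∀ i, i < 99218 → P i := stepQ 99217 Q99217 (allL N99217 (tt N87755 F423727) (tt N91619 F423728) (tt N91609 F423724) (tt N62103 (iv3 D202352)) (tt N110474 (iv4 F471754)) (tt N75397 F423725) (tt N91486 (iv6 F423729)) (tt N97217 F423726))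
theorem Q99219 : ∀ i, i < 99219 → P i := stepQ 99218 Q99218 (allL N99218 (tt N91465 F423734) (tt N78652 F423736) (tt N62114 F423730) (tt N91486 F423731) (tt N62104 F423732) (tt N112107 (iv5 F479512)) (tt N62103 (iv6 D202353)) (tt N91606 F423733))
theorem Q99220 : ∀ i, i < 99220 → P i := stepQ 99219 Q99219 (allL N99219 (tt N62104 (iv1 D202354)) (tt N62118 F423737) (tt N62117 F423740) (tt N77854 F423741) (tt N95578 (iv4 F423739)) (tt N110303 (iv5 F470937)) (tt N99652 (iv6 F425595)) (tt N62116 F423738))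
theorem Q99221 : ∀ i, i < 99221 → P i := stepQ 99220 Q99220 (allL N99220 (tt N62117 (iv1 F423746)) (tt N62116 F423747) (tt N62118 F423742) (tt N118831 (iv3 F512305)) (tt N91606 F423743) (tt N99170 F423744) (tt N77975 F423745) (tt N62104 (iv7 D202355)))
theorem Q99222 : ∀ i, i < 99222 → P i := stepQ 99221 Q99221 (allL N99221 (tt N119870 F517797) (tt N119914 D223173) (tt N107532 (iv2 F458680)) (tt N62106 F423748) (tt N108579 (iv4 F463135)) (tt N112619 (iv5 F481866)) (tt N62105 (iv6 D202356)) (tt N119915 D223174))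
theorem Q99223 : ∀ i, i < 99223 → P i := stepQ 99222 Q99222 (allL N99222 (tt N107530 F458678) (tt N62106 (iv0 D202357)) (tt N119709 (iv2 F517031)) (tt N93545 (iv3 F423750)) (tt N117121 (iv4 F503497)) (tt N113336 (iv5 F485093)) (tt N93543 F423749) (tt N119913 (iv7 F518004)))
theorem Q99224 : ∀ i, i < 99224 → P i := stepQ 99223 Q99223 (allL N99223 (tt N62106 (iv1 D202358)) (tt N107530 (iv0 F458677)) (tt N119913 (iv2 F518008)) (tt N62126 F433003) (tt N117120 (iv4 F503492)) (tt N119916 D223175) (tt N119917 D223176) (tt N119709 (iv7 F517033)))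
theorem Q99225 : ∀ i, i < 99225 → P i := stepQ 99224 Q99224 (allL N99224 (tt N101356 F457390) (tt N119918 D223177) (tt N76851 F423751) (tt N112619 F481868) (tt N119919 D223178) (tt N62106 (iv5 D202359)) (tt N76607 F423752) (tt N119920 D223179))
theorem Q99226 : ∀ i, i < 99226 → P i := stepQ 99225 Q99225 (allL N99225 (tt N119913 (iv1 F518003)) (tt N119709 F517035) (tt N107530 F458679) (tt N119915 (iv3 F518016)) (tt N99658 F425625) (tt N119920 (iv5 F518045)) (tt N62153 F423753) (tt N62106 (iv7 D202360)))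
theorem Q99227 : ∀ i, i < 99227 → P i := stepQ 99226 Q99226 (allL N99226 (tt N98928 F423755) (tt N78126 F423756) (tt N104660 (iv2 F446741)) (tt N102967 (iv3 F439487)) (tt N62107 (iv4 D202361)) (tt N92578 F423754) (tt N107660 (iv6 F459126)) (tt N108810 (iv7 F464061)))
theorem Q99228 : ∀ i, i < 99228 → P i := stepQ 99227 Q99227 (allL N99227 (tt N103996 F443707) (tt N108651 (iv0 F463365)) (tt N95573 F423757) (tt N100348 F428532) (tt N62109 F423758) (tt N97245 (iv5 F423759)) (tt N62108 (iv6 D202362)) (tt N108652 (iv7 F463367)))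
theorem Q99229 : ∀ i, i < 99229 → P i := stepQ 99228 Q99228 (allL N99228 (tt N62153 (iv1 F423761)) (tt N62109 (iv0 D202363)) (tt N101640 (iv2 F433661)) (tt N62132 (iv3 F423762)) (tt N109538 (iv4 F467435)) (tt N74002 F423760) (tt N109488 (iv6 F467231)) (tt N98985 F423763))
theorem Q99230 : ∀ i, i < 99230 → P i := stepQ 99229 Q99229 (allL N99229 (tt N62109 (iv1 D202364)) (tt N62153 F423764) (tt N98985 (iv2 F423766)) (tt N101612 (iv3 F433544)) (tt N91471 (iv4 F423767)) (tt N71539 F423765) (tt N91470 F423768) (tt N101640 (iv7 F433664)))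
theorem Q99231 : ∀ i, i < 99231 → P i := stepQ 99230 Q99230 (allL N99230 (tt N71034 (iv1 F423772)) (tt N96612 F423773) (tt N95447 F423769) (tt N62110 (iv3 D202365)) (tt N119921 D223180) (tt N92328 F423770) (tt N117131 (iv6 F503549)) (tt N96619 F423771))
theorem Q99232 : ∀ i, i < 99232 → P i := stepQ 99231 Q99231 (allL N99231 (tt N62501 F423777) (tt N62503 F423778) (tt N72676 F423774) (tt N119757 (iv3 F517264)) (tt N62110 (iv4 D202366)) (tt N62214 F423776) (tt N98890 F423779) (tt N72675 F423775))
theorem Q99233 : ∀ i, i < 99233 → P i := stepQ 99232 Q99232 (allL N99232 (tt N117121 (iv1 F503496)) (tt N117120 (iv0 F503495)) (tt N117123 (iv2 F503504)) (tt N117131 (iv3 F503547)) (tt N98890 F423780) (tt N117655 (iv5 F506244)) (tt N62110 (iv6 D202367)) (tt N117118 (iv7 F503489)))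
theorem Q99234 : ∀ i, i < 99234 → P i := stepQ 99233 Q99233 (allL N99233 (tt N62503 F423785) (tt N62501 F423786) (tt N72675 F423781) (tt N101111 (iv3 F431725)) (tt N62111 (iv4 D202368)) (tt N62216 F423782) (tt N62167 F423783) (tt N72676 F423784))
theorem Q99235 : ∀ i, i < 99235 → P i := stepQ 99234 Q99234 (allL N99234 (tt N62114 (iv1 D202369)) (tt N91606 F423787) (tt N78652 (iv2 F423791)) (tt N117173 (iv3 F503751)) (tt N98884 (iv4 F423794)) (tt N78651 F423790) (tt N98883 (iv6 F423792)) (tt N91465 F423788))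
theorem Q99236 : ∀ i, i < 99236 → P i := stepQ 99235 Q99235 (allL N99235 (tt N80923 F423797) (tt N112106 F479508) (tt N112107 (iv2 F479509)) (tt N91850 F423795) (tt N111589 (iv4 F477040)) (tt N62114 (iv5 D202370)) (tt N81013 F423796) (tt N112038 (iv7 F479199)))
theorem Q99237 : ∀ i, i < 99237 → P i := stepQ 99236 Q99236 (allL N99236 (tt N99714 (iv1 F425877)) (tt N71599 (iv0 F423802)) (tt N96884 F423798) (tt N95531 F423799) (tt N62116 (iv4 D202371)) (tt N96882 F423801) (tt N100346 (iv6 F428521)) (tt N95578 F423800))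
theorem Q99238 : ∀ i, i < 99238 → P i := stepQ 99237 Q99237 (allL N99237 (tt N89428 (iv1 F431298)) (tt N119922 D223181) (tt N101117 (iv2 F431762)) (tt N78037 F423803) (tt N101018 (iv4 F431294)) (tt N62116 (iv5 D202372)) (tt N119735 (iv6 F517164)) (tt N110303 (iv7 F470938)))
theorem Q99239 : ∀ i, i < 99239 → P i := stepQ 99238 Q99238 (allL N99238 (tt N119922 (iv1 F518052)) (tt N89428 F423805) (tt N110303 (iv2 F470935)) (tt N78043 F423804) (tt N101001 (iv4 F431208)) (tt N62117 (iv5 D202373)) (tt N78041 (iv6 F423809)) (tt N101117 (iv7 F431764)))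
theorem Q99240 : ∀ i, i < 99240 → P i := stepQ 99239 Q99239 (allL N99239 (tt N77851 (iv1 F423817)) (tt N78022 F423818) (tt N77975 F423813) (tt N62149 F423814) (tt N115712 (iv4 F496452)) (tt N77825 F423815) (tt N62118 (iv6 D202374)) (tt N62119 F423816))
theorem Q99241 : ∀ i, i < 99241 → P i := stepQ 99240 Q99240 (allL N99240 (tt N80978 F423821) (tt N62429 F423822) (tt N73333 F423819) (tt N108266 (iv3 F461783)) (tt N62120 (iv4 D202375)) (tt N80457 (iv5 F423823)) (tt N112479 (iv6 F481258)) (tt N81714 F423820))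
theorem Q99242 : ∀ i, i < 99242 → P i := stepQ 99241 Q99241 (allL N99241 (tt N100459 (iv1 F429057)) (tt N78305 (iv0 F423824)) (tt N100456 F429049) (tt N99279 (iv3 F423914)) (tt N112479 (iv4 F481261)) (tt N119923 D223182) (tt N62120 (iv6 D202376)) (tt N100457 (iv7 F429052)))
theorem Q99243 : ∀ i, i < 99243 → P i := stepQ 99242 Q99242 (allL N99242 (tt N105894 (iv1 F452227)) (tt N68338 (iv0 F423827)) (tt N99272 (iv2 F423889)) (tt N62121 (iv3 D202377)) (tt N118517 (iv4 F510773)) (tt N62131 F423825) (tt N98841 F423826) (tt N105893 (iv7 F452217)))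
theorem Q99244 : ∀ i, i < 99244 → P i := stepQ 99243 Q99243 (allL N99243 (tt N62122 (iv1 D202378)) (tt N98793 F423828) (tt N78044 (iv2 F423830)) (tt N99155 F423832) (tt N102774 (iv4 F438588)) (tt N76863 (iv5 F423831)) (tt N72655 F423833) (tt N99175 F423829))
theorem Q99245 : ∀ i, i < 99245 → P i := stepQ 99244 Q99244 (allL N99244 (tt N119924 D223183) (tt N107552 (iv0 F458734)) (tt N119710 (iv2 F517036)) (tt N119102 F513804) (tt N119925 D223184) (tt N62125 (iv5 D202379)) (tt N119103 (iv6 F513806)) (tt N119711 (iv7 F517042)))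
theorem Q99246 : ∀ i, i < 99246 → P i := stepQ 99245 Q99245 (allL N99245 (tt N107552 F458733) (tt N119924 F518067) (tt N119711 (iv2 F517039)) (tt N119916 (iv3 F518021)) (tt N119926 D223185) (tt N62126 (iv5 D202381)) (tt N119927 D223186) (tt N119710 (iv7 F517037)))
theorem Q99247 : ∀ i, i < 99247 → P i := stepQ 99246 Q99246 (allL N99246 (tt N98881 F428592) (tt N118488 (iv0 F510645)) (tt N81104 F423834) (tt N119917 (iv3 F518026)) (tt N66915 F423835) (tt N119928 D223187) (tt N62126 (iv6 D202382)) (tt N102665 (iv7 F438130)))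
theorem Q99248 : ∀ i, i < 99248 → P i := stepQ 99247 Q99247 (allL N99247 (tt N119715 (iv1 F517062)) (tt N62127 (iv0 D202383)) (tt N119712 F517045) (tt N64777 F472448) (tt N119795 (iv4 F517450)) (tt N110573 (iv5 F472194)) (tt N100909 F472449) (tt N119713 (iv7 F517050)))
theorem Q99249 : ∀ i, i < 99249 → P i := stepQ 99248 Q99248 (allL N99248 (tt N62127 (iv1 D202384)) (tt N119715 F517061) (tt N119713 (iv2 F517054)) (tt N119918 (iv3 F518035)) (tt N106657 (iv4 F455183)) (tt N99188 (iv5 F423836)) (tt N98972 F423837) (tt N119712 F517047))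
theorem Q99250 : ∀ i, i < 99250 → P i := stepQ 99249 Q99249 (allL N99249 (tt N119929 D223188) (tt N98968 (iv0 F504707)) (tt N119714 (iv2 F517056)) (tt N83361 F423838) (tt N62127 (iv4 D202385)) (tt N117368 (iv5 F504699)) (tt N119375 (iv6 F515288)) (tt N117254 (iv7 F504129)))
theorem Q99251 : ∀ i, i < 99251 → P i := stepQ 99250 Q99250 (allL N99250 (tt N119713 (iv1 F517049)) (tt N119712 F517048) (tt N119715 (iv2 F517059)) (tt N83540 F423839) (tt N117254 (iv4 F504128)) (tt N62128 F423840) (tt N119923 (iv6 F518060)) (tt N62127 (iv7 D202386)))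
theorem Q99252 : ∀ i, i < 99252 → P i := stepQ 99251 Q99251 (allL N99251 (tt N105515 (iv1 F450536)) (tt N105133 F448942) (tt N62130 F423841) (tt N70320 F423842) (tt N62129 (iv4 D202387)) (tt N106513 (iv5 F454727)) (tt N106514 (iv6 F454731)) (tt N107110 (iv7 F457021)))
theorem Q99253 : ∀ i, i < 99253 → P i := stepQ 99252 Q99252 (allL N99252 (tt N119930 D223189) (tt N89544 F431076) (tt N62131 F423843) (tt N98984 F423844) (tt N106514 (iv4 F454732)) (tt N99272 (iv5 F423891)) (tt N62129 (iv6 D202388)) (tt N107546 (iv7 F458715)))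
theorem Q99254 : ∀ i, i < 99254 → P i := stepQ 99253 Q99253 (allL N99253 (tt N107110 F457024) (tt N62130 (iv0 D202389)) (tt N105515 (iv2 F450531)) (tt N106044 F452878) (tt N99084 F423845) (tt N105505 (iv5 F450497)) (tt N100848 (iv6 F430760)) (tt N105133 (iv7 F448939)))
theorem Q99255 : ∀ i, i < 99255 → P i := stepQ 99254 Q99254 (allL N99254 (tt N62130 (iv1 D202390)) (tt N107110 (iv0 F457022)) (tt N105133 (iv2 F448935)) (tt N74922 (iv3 F423846)) (tt N98926 (iv4 F423847)) (tt N69823 F423849) (tt N78127 F423848) (tt N105515 (iv7 F450535)))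
theorem Q99256 : ∀ i, i < 99256 → P i := stepQ 99255 Q99255 (allL N99255 (tt N106041 F452856) (tt N92141 F423852) (tt N106513 (iv2 F454722)) (tt N82754 F423850) (tt N119931 D223190) (tt N62130 (iv5 D202391)) (tt N95857 F423853) (tt N82786 F423851))
theorem Q99257 : ∀ i, i < 99257 → P i := stepQ 99256 Q99256 (allL N99256 (tt N106051 F455707) (tt N106778 (iv0 F455645)) (tt N106514 (iv2 F454729)) (tt N83279 F423854) (tt N62131 F423855) (tt N106006 (iv5 F452718)) (tt N62130 (iv6 D202392)) (tt N106768 (iv7 F455598)))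
theorem Q99258 : ∀ i, i < 99258 → P i := stepQ 99257 Q99257 (allL N99257 (tt N107546 (iv1 F458718)) (tt N62131 (iv0 D202393)) (tt N119930 F518092) (tt N108467 (iv3 F501220)) (tt N89547 F458417) (tt N117852 (iv5 F507272)) (tt N118478 F510590) (tt N89544 (iv7 F458418)))
theorem Q99259 : ∀ i, i < 99259 → P i := stepQ 99258 Q99258 (allL N99258 (tt N62131 (iv1 D202394)) (tt N107546 F458717) (tt N89544 (iv2 F458719)) (tt N109991 (iv3 F469484)) (tt N89540 F458720) (tt N109991 F469485) (tt N89539 F458721) (tt N119930 (iv7 F518094)))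
theorem Q99260 : ∀ i, i < 99260 → P i := stepQ 99259 Q99259 (allL N99259 (tt N89544 F431075) (tt N119930 F518093) (tt N107546 (iv2 F458713)) (tt N62134 F423856) (tt N106768 (iv4 F455599)) (tt N105893 (iv5 F452220)) (tt N107545 (iv6 F458711)) (tt N62131 (iv7 D202395)))
theorem Q99261 : ∀ i, i < 99261 → P i := stepQ 99260 Q99260 (allL N99260 (tt N63621 (iv1 F428611)) (tt N63615 (iv0 F428612)) (tt N100421 (iv2 F428894)) (tt N109488 (iv3 F467229)) (tt N100363 F428610) (tt N109487 F467225) (tt N62132 (iv6 D202396)) (tt N100422 (iv7 F428903)))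
theorem Q99262 : ∀ i, i < 99262 → P i := stepQ 99261 Q99261 (allL N99261 (tt N102666 F438138) (tt N62144 (iv0 F423861)) (tt N77747 F423857) (tt N93554 F423858) (tt N75684 F423859) (tt N100445 (iv5 F429006)) (tt N62133 (iv6 D202397)) (tt N77742 (iv7 F423860)))
theorem Q99263 : ∀ i, i < 99263 → P i := stepQ 99262 Q99262 (allL N99262 (tt N112388 F480874) (tt N106731 (iv0 F455455)) (tt N99896 (iv2 F426722)) (tt N62135 (iv3 D202398)) (tt N99895 (iv4 F426718)) (tt N97084 F423862) (tt N106730 F455449) (tt N116458 (iv7 F500235)))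
theorem Q99264 : ∀ i, i < 99264 → P i := stepQ 99263 Q99263 (allL N99263 (tt N67004 F423864) (tt N64713 (iv0 F423865)) (tt N67001 F423863) (tt N106730 F455450) (tt N108522 (iv4 F462929)) (tt N112376 (iv5 F480799)) (tt N62135 (iv6 D202399)) (tt N67002 F423866))
theorem Q99265 : ∀ i, i < 99265 → P i := stepQ 99264 Q99264 (allL N99264 (tt N103980 (iv1 F443637)) (tt N69447 F423870) (tt N95562 F423867) (tt N68676 F423868) (tt N62136 (iv4 D202400)) (tt N87024 F423869) (tt N108653 (iv6 F463374)) (tt N103959 (iv7 F443528)))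
theorem Q99266 : ∀ i, i < 99266 → P i := stepQ 99265 Q99265 (allL N99265 (tt N68973 F423873) (tt N69056 (iv0 F423874)) (tt N72748 F423871) (tt N72940 F423872) (tt N98898 F423875) (tt N102840 (iv5 F438886)) (tt N62139 (iv6 D202401)) (tt N103749 (iv7 F442664)))
theorem Q99267 : ∀ i, i < 99267 → P i := stepQ 99266 Q99266 (allL N99266 (tt N62147 (iv1 F423881)) (tt N62143 (iv0 D202402)) (tt N119716 F517065) (tt N119932 D223191) (tt N117901 (iv4 F507504)) (tt N99186 F423880) (tt N99208 (iv6 F461044)) (tt N110781 F473319))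
theorem Q99268 : ∀ i, i < 99268 → P i := stepQ 99267 Q99267 (allL N99267 (tt N62143 (iv1 D202403)) (tt N62147 F423882) (tt N110781 (iv2 F473320)) (tt N119922 (iv3 F518057)) (tt N119933 D223192) (tt N111534 (iv5 F476791)) (tt N110628 F473321) (tt N119716 (iv7 F517067)))
theorem Q99269 : ∀ i, i < 99269 → P i := stepQ 99268 Q99268 (allL N99268 (tt N110767 F473082) (tt N119934 D223193) (tt N119717 (iv2 F517070)) (tt N107941 (iv3 F460391)) (tt N108043 F460860) (tt N110236 (iv5 F470563)) (tt N62143 (iv6 D202404)) (tt N119935 D223194))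
theorem Q99270 : ∀ i, i < 99270 → P i := stepQ 99269 Q99269 (allL N99269 (tt N99168 F423884) (tt N110564 (iv0 F472165)) (tt N116947 (iv2 F502643)) (tt N98978 F423883) (tt N116528 (iv4 F500620)) (tt N62144 (iv5 D202405)) (tt N110236 F470564) (tt N102667 (iv7 F438140)))
theorem Q99271 : ∀ i, i < 99271 → P i := stepQ 99270 Q99270 (allL N99270 (tt N119936 D223195) (tt N119937 D223196) (tt N107518 (iv2 F458631)) (tt N62147 F423885) (tt N119247 (iv4 F514606)) (tt N62145 (iv5 D202406)) (tt N62157 F423886) (tt N116935 (iv7 F502581)))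
theorem Q99272 : ∀ i, i < 99272 → P i := stepQ 99271 Q99271 (allL N99271 (tt N108050 (iv1 F460884)) (tt N108049 F460880) (tt N94377 F423887) (tt N111605 (iv3 F477128)) (tt N62147 (iv4 D202407)) (tt N94353 F423888) (tt N118479 (iv6 F510594)) (tt N108041 (iv7 F460853)))
theorem Q99273 : ∀ i, i < 99273 → P i := stepQ 99272 Q99272 (allL N99272 (tt N99151 F423892) (tt N70753 (iv0 F423893)) (tt N99242 F423889) (tt N62157 F423890) (tt N118479 (iv4 F510592)) (tt N99252 F423891) (tt N62147 (iv6 D202408)) (tt N104183 (iv7 F444573)))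
theorem Q99274 : ∀ i, i < 99274 → P i := stepQ 99273 Q99273 (allL N99273 (tt N100422 F428906) (tt N100421 (iv0 F428898)) (tt N63621 F423894) (tt N78006 F423895) (tt N63513 F423896) (tt N109527 (iv5 F467379)) (tt N62150 (iv6 D202409)) (tt N63615 (iv7 F423897)))
theorem Q99275 : ∀ i, i < 99275 → P i := stepQ 99274 Q99274 (allL N99274 (tt N91257 F423902) (tt N97206 F423903) (tt N96069 F423898) (tt N82211 F423899) (tt N62151 (iv4 D202410)) (tt N115688 (iv5 F496322)) (tt N62159 F423900) (tt N91358 F423901))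
theorem Q99276 : ∀ i, i < 99276 → P i := stepQ 99275 Q99275 (allL N99275 (tt N109991 F469486) (tt N117852 F507275) (tt N110021 (iv2 F469586)) (tt N62153 F423904) (tt N119938 D223197) (tt N62152 (iv5 D202411)) (tt N119915 (iv6 F518017)) (tt N110829 (iv7 F473338)))
theorem Q99277 : ∀ i, i < 99277 → P i := stepQ 99276 Q99276 (allL N99276 (tt N119697 F516976) (tt N114617 (iv0 F491038)) (tt N107538 (iv2 F458692)) (tt N62154 F423905) (tt N115124 (iv4 F493605)) (tt N119939 D223198) (tt N62152 (iv6 D202412)) (tt N119872 (iv7 F517807)))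
theorem Q99278 : ∀ i, i < 99278 → P i := stepQ 99277 Q99277 (allL N99277 (tt N108651 (iv1 F463366)) (tt N103996 (iv0 F443706)) (tt N108652 F463370) (tt N95574 (iv3 F423908)) (tt N62153 (iv4 D202413)) (tt N97246 F423906) (tt N99658 (iv6 F425623)) (tt N95573 F423907))
theorem Q99279 : ∀ i, i < 99279 → P i := stepQ 99278 Q99278 (allL N99278 (tt N77912 F423912) (tt N77910 F423913) (tt N83327 F423909) (tt N119939 (iv3 F518138)) (tt N89338 F423911) (tt N62154 (iv5 D202414)) (tt N119920 (iv6 F518046)) (tt N76845 F423910))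
theorem Q99280 : ∀ i, i < 99280 → P i := stepQ 99279 Q99279 (allL N99279 (tt N72649 F433667) (tt N117538 (iv0 F505596)) (tt N110830 (iv2 F473340)) (tt N99241 F423914) (tt N118878 (iv4 F512539)) (tt N113523 (iv5 F485896)) (tt N62158 (iv6 D202415)) (tt N119940 D223199))
theorem Q99281 : ∀ i, i < 99281 → P i := stepQ 99280 Q99280 (allL N99280 (tt N99283 (iv1 F423933)) (tt N62159 (iv0 D202416)) (tt N110831 (iv2 F473349)) (tt N89228 (iv3 F423918)) (tt N99062 F423915) (tt N89227 (iv5 F423917)) (tt N112119 (iv6 F479578)) (tt N90585 (iv7 F423916)))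
theorem Q99282 : ∀ i, i < 99282 → P i := stepQ 99281 Q99281 (allL N99281 (tt N62159 (iv1 D202417)) (tt N99283 (iv0 F423932)) (tt N90585 (iv2 F423920)) (tt N88627 (iv3 F423921)) (tt N99061 F423919) (tt N90584 (iv5 F423922)) (tt N117539 (iv6 F505599)) (tt N110831 (iv7 F473346)))
theorem Q99283 : ∀ i, i < 99283 → P i := stepQ 99282 Q99282 (allL N99282 (tt N111598 F477099) (tt N103150 (iv0 F440313)) (tt N91361 F423924) (tt N62159 (iv3 D202418)) (tt N82213 F423925) (tt N93745 (iv5 F423927)) (tt N82211 F423926) (tt N102818 (iv7 F438788)))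
theorem Q99284 : ∀ i, i < 99284 → P i := stepQ 99283 Q99283 (allL N99283 (tt N99281 F423932) (tt N99280 F423933) (tt N78049 F423928) (tt N93745 F423929) (tt N77857 F423931) (tt N62159 (iv5 D202419)) (tt N93744 (iv6 F423934)) (tt N98842 F423930))
theorem Q99285 : ∀ i, i < 99285 → P i := stepQ 99284 Q99284 (allL N99284 (tt N74368 F423939) (tt N74361 F423940) (tt N74366 F423935) (tt N117851 F507266) (tt N62160 (iv4 D202420)) (tt N94407 F423938) (tt N74729 F423936) (tt N74367 F423937))
theorem Q99286 : ∀ i, i < 99286 → P i := stepQ 99285 Q99285 (allL N99285 (tt N109964 F469404) (tt N119941 D223200) (tt N101632 (iv2 F433626)) (tt N62163 F423941) (tt N89546 (iv4 F423942)) (tt N62162 (iv5 D202423)) (tt N119864 (iv6 F517762)) (tt N110832 (iv7 F473352)))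
theorem Q99287 : ∀ i, i < 99287 → P i := stepQ 99286 Q99286 (allL N99286 (tt N98888 F442827) (tt N119855 F517718) (tt N119852 (iv2 F517700)) (tt N62164 F423943) (tt N118603 (iv4 F511113)) (tt N119942 D223201) (tt N62162 (iv6 D202424)) (tt N105323 (iv7 F449713)))
theorem Q99288 : ∀ i, i < 99288 → P i := stepQ 99287 Q99287 (allL N99287 (tt N62167 (iv1 F423946)) (tt N62163 (iv0 D202425)) (tt N98965 (iv2 F423949)) (tt N74200 (iv3 F423947)) (tt N74206 F423945) (tt N74200 F423944) (tt N74199 F423948) (tt N106914 (iv7 F456266)))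
theorem Q99289 : ∀ i, i < 99289 → P i := stepQ 99288 Q99288 (allL N99288 (tt N62163 (iv1 D202426)) (tt N62167 F423950) (tt N106914 (iv2 F456262)) (tt N119835 (iv3 F517609)) (tt N118939 (iv4 F512856)) (tt N77883 F423952) (tt N106913 F456261) (tt N98965 F423951))
theorem Q99290 : ∀ i, i < 99290 → P i := stepQ 99289 Q99289 (allL N99289 (tt N98892 (iv1 F458758)) (tt N98886 (iv0 F423955)) (tt N98889 F423953) (tt N119864 F517763) (tt N117118 (iv4 F503488)) (tt N119943 D223202) (tt N62163 (iv6 D202427)) (tt N98890 F423954))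
theorem Q99291 : ∀ i, i < 99291 → P i := stepQ 99290 Q99290 (allL N99290 (tt N74084 F423960) (tt N77903 F423959) (tt N83323 F423956) (tt N119942 (iv3 F518154)) (tt N83044 F423958) (tt N62164 (iv5 D202428)) (tt N119943 (iv6 F518160)) (tt N76831 F423957))
theorem Q99292 : ∀ i, i < 99292 → P i := stepQ 99291 Q99291 (allL N99291 (tt N118989 F513151) (tt N98938 (iv0 F438329)) (tt N118601 (iv2 F511102)) (tt N62165 (iv3 D202429)) (tt N117851 (iv4 F507268)) (tt N119847 (iv5 F517676)) (tt N103215 (iv6 F440612)) (tt N107558 (iv7 F458745)))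
theorem Q99293 : ∀ i, i < 99293 → P i := stepQ 99292 Q99292 (allL N99292 (tt N112002 (iv1 F479028)) (tt N95693 (iv0 F423964)) (tt N101623 (iv2 F433597)) (tt N62168 (iv3 D202430)) (tt N95220 F423961) (tt N79420 F423962) (tt N98870 F423963) (tt N101628 (iv7 F433613)))
theorem Q99294 : ∀ i, i < 99294 → P i := stepQ 99293 Q99293 (allL N99293 (tt N72932 F423969) (tt N72931 F423970) (tt N62172 F423965) (tt N72943 F423966) (tt N98313 F423967) (tt N62171 (iv5 D202431)) (tt N95064 F423971) (tt N72929 F423968))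
theorem Q99295 : ∀ i, i < 99295 → P i := stepQ 99294 Q99294 (allL N99294 (tt N119944 D223203) (tt N119054 (iv0 F513526)) (tt N62173 F423972) (tt N72944 F423973) (tt N74584 F423974) (tt N82022 F423975) (tt N62171 (iv6 D202432)) (tt N82029 (iv7 F423976)))
theorem Q99296 : ∀ i, i < 99296 → P i := stepQ 99295 Q99295 (allL N99295 (tt N82029 (iv1 F423983)) (tt N62173 (iv0 D202433)) (tt N119944 F518168) (tt N119056 (iv3 F513536)) (tt N115009 (iv4 F493039)) (tt N119582 (iv5 F516375)) (tt N116845 F502145) (tt N119054 (iv7 F513525)))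
theorem Q99297 : ∀ i, i < 99297 → P i := stepQ 99296 Q99296 (allL N99296 (tt N62173 (iv1 D202434)) (tt N82029 F423977) (tt N119054 (iv2 F513522)) (tt N112627 (iv3 F481898)) (tt N115011 (iv4 F493043)) (tt N112626 F481894) (tt N93773 (iv6 F481896)) (tt N119944 (iv7 F518170)))
theorem Q99298 : ∀ i, i < 99298 → P i := stepQ 99297 Q99297 (allL N99297 (tt N119054 F513527) (tt N119944 F518169) (tt N82029 F423978) (tt N62176 F423979) (tt N74588 F423980) (tt N82025 F423981) (tt N72220 F423982) (tt N62173 (iv7 D202435)))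
theorem Q99299 : ∀ i, i < 99299 → P i := stepQ 99298 Q99298 (allL N99298 (tt N96516 F423985) (tt N81960 (iv0 F433140)) (tt N101528 (iv2 F433261)) (tt N62174 (iv3 D202436)) (tt N117806 (iv4 F507061)) (tt N101494 (iv5 F433133)) (tt N107675 (iv6 F459184)) (tt N72952 F423984))
theorem Q99300 : ∀ i, i < 99300 → P i := stepQ 99299 Q99299 (allL N99299 (tt N62213 F423989) (tt N94509 (iv0 F423990)) (tt N72951 F423986) (tt N107675 (iv3 F459183)) (tt N70242 F423987) (tt N72848 F423988) (tt N62174 (iv6 D202437)) (tt N107495 (iv7 F458528)))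
theorem Q99301 : ∀ i, i < 99301 → P i := stepQ 99300 Q99300 (allL N99300 (tt N73131 F423995) (tt N118713 F511701) (tt N118712 (iv2 F511695)) (tt N62175 (iv3 D202438)) (tt N71392 F423991) (tt N95281 F423992) (tt N93733 F423993) (tt N72949 F423994))
theorem Q99302 : ∀ i, i < 99302 → P i := stepQ 99301 Q99301 (allL N99301 (tt N117235 (iv1 F504049)) (tt N72867 (iv0 F423999)) (tt N117668 (iv2 F506319)) (tt N62177 (iv3 D202439)) (tt N72483 F423996) (tt N112047 (iv5 F479247)) (tt N86165 (iv6 F424175)) (tt N72953 F423998))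
theorem Q99303 : ∀ i, i < 99303 → P i := stepQ 99302 Q99302 (allL N99302 (tt N81963 F424006) (tt N94987 (iv0 F424005)) (tt N73107 F424000) (tt N62178 (iv3 D202440)) (tt N93491 F424003) (tt N70422 F424001) (tt N89548 (iv6 F424004)) (tt N72939 F424002))
theorem Q99304 : ∀ i, i < 99304 → P i := stepQ 99303 Q99303 (allL N99303 (tt N103605 (iv1 F442209)) (tt N69043 (iv0 F424009)) (tt N72747 F424007) (tt N103749 (iv3 F442660)) (tt N62178 (iv4 D202441)) (tt N102838 (iv5 F438880)) (tt N76005 F424010) (tt N72940 F424008))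
theorem Q99305 : ∀ i, i < 99305 → P i := stepQ 99304 Q99304 (allL N99304 (tt N103080 F439988) (tt N62211 (iv0 F424014)) (tt N72942 F424011) (tt N89548 F424012) (tt N76005 F424013) (tt N119159 (iv5 F514107)) (tt N62178 (iv6 D202442)) (tt N103081 (iv7 F439991)))
theorem Q99306 : ∀ i, i < 99306 → P i := stepQ 99305 Q99305 (allL N99305 (tt N70134 F424018) (tt N70132 F424021) (tt N62181 F424015) (tt N72929 F424016) (tt N82864 (iv4 F424020)) (tt N62180 (iv5 D202443)) (tt N82863 F424019) (tt N72943 F424017))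
theorem Q99307 : ∀ i, i < 99307 → P i := stepQ 99306 Q99306 (allL N99306 (tt N94961 F424027) (tt N94971 F424028) (tt N62182 F424023) (tt N72930 F424024) (tt N63545 F424025) (tt N95123 F424026) (tt N62180 (iv6 D202444)) (tt N77570 F424029))
theorem Q99308 : ∀ i, i < 99308 → P i := stepQ 99307 Q99307 (allL N99307 (tt N105970 (iv1 F452561)) (tt N106306 F453957) (tt N82864 F424030) (tt N86272 F424031) (tt N62181 (iv4 D202445)) (tt N83084 (iv5 F424034)) (tt N82850 F424032) (tt N72945 F424033))
theorem Q99309 : ∀ i, i < 99309 → P i := stepQ 99308 Q99308 (allL N99308 (tt N62182 (iv1 D202446)) (tt N77570 F424035) (tt N94971 F424040) (tt N73116 (iv3 F424039)) (tt N82049 F424038) (tt N94962 F424037) (tt N103077 (iv6 F439974)) (tt N94961 F424036))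
theorem Q99310 : ∀ i, i < 99310 → P i := stepQ 99309 Q99309 (allL N99309 (tt N117841 F507223) (tt N94983 (iv0 F424046)) (tt N90363 F424041) (tt N62183 (iv3 D202447)) (tt N74300 F424042) (tt N91508 F424043) (tt N90360 F424044) (tt N72936 F424045))
theorem Q99311 : ∀ i, i < 99311 → P i := stepQ 99310 Q99310 (allL N99310 (tt N117298 (iv1 F504348)) (tt N107516 (iv0 F458623)) (tt N72959 F424047) (tt N93541 F424048) (tt N62184 (iv4 D202448)) (tt N79154 F424050) (tt N119301 (iv6 F514920)) (tt N72956 F424049))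
theorem Q99312 : ∀ i, i < 99312 → P i := stepQ 99311 Q99311 (allL N99311 (tt N102669 (iv1 F438147)) (tt N72860 (iv0 F424054)) (tt N106515 (iv2 F454734)) (tt N62185 (iv3 D202449)) (tt N90391 F424052) (tt N105646 (iv5 F451090)) (tt N86160 (iv6 F424053)) (tt N72958 F424051))
theorem Q99313 : ∀ i, i < 99313 → P i := stepQ 99312 Q99312 (allL N99312 (tt N107516 F458624) (tt N117298 (iv0 F504347)) (tt N72956 F424055) (tt N93487 F424056) (tt N62185 (iv4 D202450)) (tt N98824 (iv5 F424058)) (tt N109834 (iv6 F468833)) (tt N72959 F424057))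
theorem Q99314 : ∀ i, i < 99314 → P i := stepQ 99313 Q99313 (allL N99313 (tt N62203 F424062) (tt N108466 (iv0 F462713)) (tt N72957 F424059) (tt N86160 F424060) (tt N109834 (iv4 F468832)) (tt N64870 F424061) (tt N62185 (iv6 D202451)) (tt N118135 (iv7 F508789)))
theorem Q99315 : ∀ i, i < 99315 → P i := stepQ 99314 Q99314 (allL N99314 (tt N72864 F424067) (tt N104651 (iv0 F446702)) (tt N106438 (iv2 F454432)) (tt N62188 (iv3 D202452)) (tt N66291 F424063) (tt N98328 F424064) (tt N86258 F424065) (tt N72966 F424066))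
theorem Q99316 : ∀ i, i < 99316 → P i := stepQ 99315 Q99315 (allL N99315 (tt N72977 F424071) (tt N62192 (iv0 F424072)) (tt N72976 F424086) (tt N62189 (iv3 D202453)) (tt N108573 (iv4 F463106)) (tt N98329 F424068) (tt N93605 F424069) (tt N72968 F424070))
theorem Q99317 : ∀ i, i < 99317 → P i := stepQ 99316 Q99316 (allL N99316 (tt N110838 F473390) (tt N90775 F424075) (tt N62191 F424073) (tt N72914 F424074) (tt N99642 (iv4 F425559)) (tt N108669 F463470) (tt N62190 (iv6 D202454)) (tt N118651 (iv7 F511352)))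
theorem Q99318 : ∀ i, i < 99318 → P i := stepQ 99317 Q99317 (allL N99317 (tt N118651 (iv1 F511353)) (tt N62191 (iv0 D202455)) (tt N110838 (iv2 F473385)) (tt N111855 (iv3 F478320)) (tt N90778 F424076) (tt N101150 (iv5 F431941)) (tt N72208 F424077) (tt N90775 (iv7 F424078)))
theorem Q99319 : ∀ i, i < 99319 → P i := stepQ 99318 Q99318 (allL N99318 (tt N62191 (iv1 D202456)) (tt N118651 F511354) (tt N90775 F431953) (tt N117509 (iv3 F505415)) (tt N90771 (iv4 F431954)) (tt N101151 (iv5 F431952)) (tt N90767 (iv6 F431955)) (tt N110838 (iv7 F473388)))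
theorem Q99320 : ∀ i, i < 99320 → P i := stepQ 99319 Q99319 (allL N99319 (tt N62192 (iv1 D202457)) (tt N72977 F424083) (tt N72968 (iv2 F424084)) (tt N106438 (iv3 F454438)) (tt N117799 (iv4 F507029)) (tt N114554 (iv5 F490747)) (tt N77478 F454439) (tt N72976 (iv7 F424085)))
theorem Q99321 : ∀ i, i < 99321 → P i := stepQ 99320 Q99320 (allL N99320 (tt N72976 (iv1 F424087)) (tt N72968 F424082) (tt N62192 (iv2 D202458)) (tt N72987 F424079) (tt N92288 F424080) (tt N108139 (iv5 F461271)) (tt N119945 D223204) (tt N72977 F424081))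
theorem Q99322 : ∀ i, i < 99322 → P i := stepQ 99321 Q99321 (allL N99321 (tt N101880 F477610) (tt N101876 (iv0 F434857)) (tt N119945 (iv2 F518172)) (tt N62194 F424088) (tt N92389 F424089) (tt N80745 (iv5 F424090)) (tt N62192 (iv6 D202459)) (tt N119946 D223205))
theorem Q99323 : ∀ i, i < 99323 → P i := stepQ 99322 Q99322 (allL N99322 (tt N72993 (iv1 F424095)) (tt N62194 (iv0 D202460)) (tt N72691 (iv2 F424092)) (tt N117668 F506317) (tt N62229 F424093) (tt N119947 D223206) (tt N77471 F424091) (tt N72991 F424094))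
theorem Q99324 : ∀ i, i < 99324 → P i := stepQ 99323 Q99323 (allL N99323 (tt N72991 (iv1 F424099)) (tt N72691 F424100) (tt N72993 F424096) (tt N119946 (iv3 F518179)) (tt N75179 F424097) (tt N107741 (iv5 F459496)) (tt N72217 F424098) (tt N62194 (iv7 D202461)))
theorem Q99325 : ∀ i, i < 99325 → P i := stepQ 99324 Q99324 (allL N99324 (tt N72955 (iv1 F424106)) (tt N72986 F424105) (tt N62195 (iv2 D202462)) (tt N72977 F424101) (tt N65914 F424102) (tt N93765 F424103) (tt N117642 (iv6 F506172)) (tt N72987 F424104))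
theorem Q99326 : ∀ i, i < 99326 → P i := stepQ 99325 Q99325 (allL N99325 (tt N116772 F501747) (tt N118255 (iv0 F509390)) (tt N117642 (iv2 F506166)) (tt N62196 F424107) (tt N74671 F424108) (tt N117641 F506165) (tt N62195 (iv6 D202463)) (tt N112808 (iv7 F482708)))
theorem Q99327 : ∀ i, i < 99327 → P i := stepQ 99326 Q99326 (allL N99326 (tt N100824 F430651) (tt N82353 F424112) (tt N72985 F424109) (tt N117641 (iv3 F506161)) (tt N82547 F424111) (tt N62196 (iv5 D202464)) (tt N82507 F424110) (tt N111990 (iv7 F478984)))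
theorem Q99328 : ∀ i, i < 99328 → P i := stepQ 99327 Q99327 (allL N99327 (tt N98329 F424115) (tt N114554 F490750) (tt N114555 (iv2 F490752)) (tt N62198 (iv3 D202465)) (tt N105205 (iv4 F449202)) (tt N62340 F424113) (tt N105204 F449200) (tt N72999 F424114))
theorem Q99329 : ∀ i, i < 99329 → P i := stepQ 99328 Q99328 (allL N99328 (tt N83108 F424120) (tt N101768 F434258) (tt N73000 F424116) (tt N116778 (iv3 F501781)) (tt N62199 (iv4 D202466)) (tt N82915 F424117) (tt N83131 F424118) (tt N73003 F424119))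
theorem Q99330 : ∀ i, i < 99330 → P i := stepQ 99329 Q99329 (allL N99329 (tt N94780 (iv1 F424125)) (tt N62202 (iv0 D202467)) (tt N64863 (iv2 F424124)) (tt N64508 (iv3 F424127)) (tt N78732 F424122) (tt N96711 F424121) (tt N64508 F424123) (tt N64861 F424126))
theorem Q99331 : ∀ i, i < 99331 → P i := stepQ 99330 Q99330 (allL N99330 (tt N108466 F462714) (tt N62203 (iv0 D202468)) (tt N118135 (iv2 F508793)) (tt N77466 F424128) (tt N116849 (iv4 F502160)) (tt N96415 F424130) (tt N73038 F424131) (tt N72957 (iv7 F424129)))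
theorem Q99332 : ∀ i, i < 99332 → P i := stepQ 99331 Q99331 (allL N99331 (tt N118135 (iv1 F508788)) (tt N72957 F424134) (tt N62203 (iv2 D202469)) (tt N87707 F424132) (tt N76834 F424133) (tt N118976 (iv5 F513073)) (tt N90349 (iv6 F456245)) (tt N108466 (iv7 F462715)))
theorem Q99333 : ∀ i, i < 99333 → P i := stepQ 99332 Q99332 (allL N99332 (tt N72970 (iv1 F424138)) (tt N91276 F424137) (tt N62204 (iv2 D202470)) (tt N108466 (iv3 F462710)) (tt N85281 F424135) (tt N119145 (iv5 F514024)) (tt N108465 (iv6 F462707)) (tt N87707 F424136))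
theorem Q99334 : ∀ i, i < 99334 → P i := stepQ 99333 Q99333 (allL N99333 (tt N90597 (iv1 F424141)) (tt N90594 (iv0 F424142)) (tt N108465 (iv2 F462703)) (tt N62205 F424139) (tt N91630 F424140) (tt N108465 (iv5 F462704)) (tt N62204 (iv6 D202471)) (tt N108471 (iv7 F462731)))
theorem Q99335 : ∀ i, i < 99335 → P i := stepQ 99334 Q99334 (allL N99334 (tt N91401 F424144) (tt N118443 (iv0 F510386)) (tt N117461 (iv2 F505151)) (tt N62207 (iv3 D202472)) (tt N98665 (iv4 F424145)) (tt N72301 F424143) (tt N74562 (iv6 F424146)) (tt N116398 (iv7 F499886)))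
theorem Q99336 : ∀ i, i < 99336 → P i := stepQ 99335 Q99335 (allL N99335 (tt N64807 F424152) (tt N64495 (iv0 F424153)) (tt N64803 F424147) (tt N74562 F424148) (tt N89390 F424149) (tt N74561 F424150) (tt N62207 (iv6 D202473)) (tt N64804 F424151))
theorem Q99337 : ∀ i, i < 99337 → P i := stepQ 99336 Q99336 (allL N99336 (tt N105083 (iv1 F448712)) (tt N105263 F449457) (tt N96520 F424154) (tt N114980 (iv3 F492887)) (tt N69908 F424155) (tt N96580 F424156) (tt N62210 (iv6 D202474)) (tt N105261 (iv7 F449446)))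
theorem Q99338 : ∀ i, i < 99338 → P i := stepQ 99337 Q99337 (allL N99337 (tt N72942 F424161) (tt N103081 F439993) (tt N62211 (iv2 D202475)) (tt N89628 F424157) (tt N91403 F424158) (tt N89627 F424159) (tt N79614 F424160) (tt N103080 (iv7 F439983)))
theorem Q99339 : ∀ i, i < 99339 → P i := stepQ 99338 Q99338 (allL N99338 (tt N95698 F424164) (tt N110039 (iv0 F469671)) (tt N85937 F424162) (tt N89633 F424163) (tt N112032 (iv4 F479170)) (tt N89549 F424165) (tt N62212 (iv6 D202476)) (tt N110040 (iv7 F469675)))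
theorem Q99340 : ∀ i, i < 99340 → P i := stepQ 99339 Q99339 (allL N99339 (tt N94509 (iv1 F424169)) (tt N62213 (iv0 D202477)) (tt N107495 F458526) (tt N90207 (iv3 F424171)) (tt N70243 F424168) (tt N72847 F424167) (tt N69839 (iv6 F424172)) (tt N72951 F424170))
theorem Q99341 : ∀ i, i < 99341 → P i := stepQ 99340 Q99340 (allL N99340 (tt N93363 F424178) (tt N93361 F424179) (tt N89550 F424176) (tt N116840 (iv3 F502115)) (tt N108468 (iv4 F462716)) (tt N62213 (iv5 D202478)) (tt N89549 F424177) (tt N107676 (iv7 F459188)))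
theorem Q99342 : ∀ i, i < 99342 → P i := stepQ 99341 Q99341 (allL N99341 (tt N80359 F424188) (tt N77706 (iv0 F424189)) (tt N62221 F424185) (tt N72399 F424186) (tt N89454 F424190) (tt N62218 (iv5 D202479)) (tt N75618 F424187) (tt N100316 (iv7 F428404)))
theorem Q99343 : ∀ i, i < 99343 → P i := stepQ 99342 Q99342 (allL N99342 (tt N107627 (iv1 F458996)) (tt N107622 (iv0 F458971)) (tt N82079 F424194) (tt N112185 (iv3 F479953)) (tt N62219 (iv4 D202480)) (tt N119948 D223207) (tt N65296 F424195) (tt N76792 F424196))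
theorem Q99344 : ∀ i, i < 99344 → P i := stepQ 99343 Q99343 (allL N99343 (tt N107622 F458972) (tt N107627 F458995) (tt N76792 F424197) (tt N110697 (iv3 F472798)) (tt N62220 (iv4 D202481)) (tt N118776 (iv5 F512005)) (tt N76594 F424198) (tt N82079 F424199))
theorem Q99345 : ∀ i, i < 99345 → P i := stepQ 99344 Q99344 (allL N99344 (tt N108626 (iv1 F463273)) (tt N62223 (iv0 D202482)) (tt N108625 F463261) (tt N72719 (iv3 F425940)) (tt N74332 (iv4 F425939)) (tt N98399 F425941) (tt N100118 (iv6 F427549)) (tt N72740 F425942))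
theorem Q99346 : ∀ i, i < 99346 → P i := stepQ 99345 Q99345 (allL N99345 (tt N62223 (iv1 D202483)) (tt N108626 F463272) (tt N72740 F463263) (tt N117517 (iv3 F505468)) (tt N74333 F463264) (tt N117514 (iv5 F505446)) (tt N110855 F473455) (tt N108625 F463265))
theorem Q99347 : ∀ i, i < 99347 → P i := stepQ 99346 Q99346 (allL N99346 (tt N72740 (iv1 F424202)) (tt N108625 F463266) (tt N108626 (iv2 F463267)) (tt N62231 F424200) (tt N99701 (iv4 F425802)) (tt N101699 (iv5 F433936)) (tt N72236 F424201) (tt N62223 (iv7 D202484)))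
theorem Q99348 : ∀ i, i < 99348 → P i := stepQ 99347 Q99347 (allL N99347 (tt N94987 F424206) (tt N81963 F424208) (tt N72939 F424203) (tt N62224 (iv3 D202485)) (tt N93490 F424204) (tt N70419 (iv5 F424207)) (tt N108982 (iv6 F464761)) (tt N73107 F424205))
theorem Q99349 : ∀ i, i < 99349 → P i := stepQ 99348 Q99348 (allL N99348 (tt N62375 F424213) (tt N62372 F424214) (tt N73109 F424209) (tt N70419 F424210) (tt N107828 (iv4 F459889)) (tt N62224 (iv5 D202486)) (tt N73763 F424211) (tt N73108 F424212))
theorem Q99350 : ∀ i, i < 99350 → P i := stepQ 99349 Q99349 (allL N99349 (tt N78379 F424219) (tt N78382 F424220) (tt N98208 F424215) (tt N62227 F424216) (tt N66771 F424218) (tt N62226 (iv5 D202487)) (tt N98232 F424221) (tt N73112 F424217))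
theorem Q99351 : ∀ i, i < 99351 → P i := stepQ 99350 Q99350 (allL N99350 (tt N119056 (iv1 F513541)) (tt N93736 (iv0 F424223)) (tt N118710 (iv2 F511675)) (tt N62228 F424222) (tt N99698 (iv4 F425789)) (tt N118709 (iv5 F511671)) (tt N62226 (iv6 D202488)) (tt N119055 (iv7 F513529)))
theorem Q99352 : ∀ i, i < 99352 → P i := stepQ 99351 Q99351 (allL N99351 (tt N95683 F424227) (tt N95681 F424229) (tt N73132 F424224) (tt N98232 F424225) (tt N102798 (iv4 F438687)) (tt N66585 (iv5 F424228)) (tt N62227 (iv6 D202489)) (tt N95682 F424226))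
theorem Q99353 : ∀ i, i < 99353 → P i := stepQ 99352 Q99352 (allL N99352 (tt N73136 (iv1 F424239)) (tt N62228 (iv0 D202490)) (tt N73133 (iv2 F424231)) (tt N81961 (iv3 F424232)) (tt N99618 (iv4 F425440)) (tt N100912 (iv5 F430933)) (tt N90282 F424230) (tt N73134 F424233))
theorem Q99354 : ∀ i, i < 99354 → P i := stepQ 99353 Q99353 (allL N99353 (tt N62228 (iv1 D202491)) (tt N73136 F424234) (tt N73134 (iv2 F424237)) (tt N72947 F424238) (tt N75005 F424236) (tt N101522 (iv5 F433238)) (tt N101778 (iv6 F434303)) (tt N73133 F424235))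
theorem Q99355 : ∀ i, i < 99355 → P i := stepQ 99354 Q99354 (allL N99354 (tt N81957 F424243) (tt N101799 (iv0 F434394)) (tt N73135 F424240) (tt N118709 (iv3 F511669)) (tt N66586 F424242) (tt N62228 (iv5 D202492)) (tt N66585 F424241) (tt N109341 (iv7 F466474)))
theorem Q99356 : ∀ i, i < 99356 → P i := stepQ 99355 Q99355 (allL N99355 (tt N73134 (iv1 F424247)) (tt N73133 F424248) (tt N73136 F424244) (tt N119055 F513531) (tt N62231 F424245) (tt N109341 (iv5 F466469)) (tt N72237 F424246) (tt N62228 (iv7 D202493)))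
theorem Q99357 : ∀ i, i < 99357 → P i := stepQ 99356 Q99356 (allL N99356 (tt N73610 F424254) (tt N76198 F424253) (tt N72693 F424249) (tt N72772 F424250) (tt N98072 (iv4 F424255)) (tt N62229 (iv5 D202494)) (tt N81698 F424251) (tt N73142 F424252))
theorem Q99358 : ∀ i, i < 99358 → P i := stepQ 99357 Q99357 (allL N99357 (tt N89192 (iv1 F424260)) (tt N89155 (iv0 F424259)) (tt N89189 F424256) (tt N90225 F424257) (tt N62235 F424258) (tt N119949 D223208) (tt N62234 (iv6 D202495)) (tt N89190 F424261))
theorem Q99359 : ∀ i, i < 99359 → P i := stepQ 99358 Q99358 (allL N99358 (tt N103917 F443367) (tt N107203 (iv0 F457444)) (tt N73117 F424262) (tt N111993 (iv3 F479001)) (tt N80151 F424263) (tt N62237 (iv5 D202496)) (tt N94717 F424264) (tt N112807 (iv7 F482700)))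
theorem Q99360 : ∀ i, i < 99360 → P i := stepQ 99359 Q99359 (allL N99359 (tt N103004 F439643) (tt N103007 (iv0 F439650)) (tt N103003 (iv2 F439637)) (tt N62240 F424265) (tt N84771 F424266) (tt N101181 (iv5 F432083)) (tt N62238 (iv6 D202497)) (tt N75631 (iv7 F424267)))
theorem Q99361 : ∀ i, i < 99361 → P i := stepQ 99360 Q99360 (allL N99360 (tt N70281 F424272) (tt N86316 (iv0 F424273)) (tt N73007 F424268) (tt N109768 (iv3 F468520)) (tt N62245 (iv4 D202498)) (tt N72994 F424269) (tt N85535 F424270) (tt N73162 F424271))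
theorem Q99362 : ∀ i, i < 99362 → P i := stepQ 99361 Q99361 (allL N99361 (tt N77436 (iv1 F424279)) (tt N88031 (iv0 F424277)) (tt N91739 F424285) (tt N62246 (iv3 D202499)) (tt N90384 F424274) (tt N110370 (iv5 F471278)) (tt N71692 F424275) (tt N66275 F424276))
theorem Q99363 : ∀ i, i < 99363 → P i := stepQ 99362 Q99362 (allL N99362 (tt N71223 F424288) (tt N71220 F424289) (tt N71532 F424286) (tt N110370 (iv3 F471276)) (tt N106619 (iv4 F455069)) (tt N62246 (iv5 D202500)) (tt N110369 F471273) (tt N66276 F424287))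
theorem Q99364 : ∀ i, i < 99364 → P i := stepQ 99363 Q99363 (allL N99363 (tt N98996 F424294) (tt N98975 F424295) (tt N71536 F424290) (tt N76802 (iv3 F424296)) (tt N62247 (iv4 D202501)) (tt N72832 F424293) (tt N71873 F424291) (tt N71540 F424292))
theorem Q99365 : ∀ i, i < 99365 → P i := stepQ 99364 Q99364 (allL N99364 (tt N92491 F424301) (tt N92472 F424302) (tt N69712 F424297) (tt N74730 F424298) (tt N62248 (iv4 D202502)) (tt N74723 F424299) (tt N104725 (iv6 F446999)) (tt N69709 F424300))
theorem Q99366 : ∀ i, i < 99366 → P i := stepQ 99365 Q99365 (allL N99365 (tt N74296 (iv1 F424890)) (tt N62425 (iv0 F424305)) (tt N69714 F424303) (tt N91055 F424304) (tt N104725 (iv4 F446998)) (tt N104718 (iv5 F446974)) (tt N62248 (iv6 D202503)) (tt N119950 D223209))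
theorem Q99367 : ∀ i, i < 99367 → P i := stepQ 99366 Q99366 (allL N99366 (tt N73228 F424309) (tt N73306 (iv0 F424310)) (tt N69711 F424306) (tt N73343 F424307) (tt N92492 F424308) (tt N105519 (iv5 F450554)) (tt N62249 (iv6 D202504)) (tt N73305 (iv7 F424311)))
theorem Q99368 : ∀ i, i < 99368 → P i := stepQ 99367 Q99367 (allL N99367 (tt N96298 (iv1 F424316)) (tt N96297 F424317) (tt N62252 F424313) (tt N72422 F424314) (tt N117869 (iv4 F507358)) (tt N117078 (iv5 F503262)) (tt N62250 (iv6 D202505)) (tt N96283 F424315))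
theorem Q99369 : ∀ i, i < 99369 → P i := stepQ 99368 Q99368 (allL N99368 (tt N107258 (iv1 F457679)) (tt N107255 (iv0 F457670)) (tt N106233 (iv2 F453692)) (tt N62253 F424318) (tt N89871 F424319) (tt N116450 F500186) (tt N62251 (iv6 D202506)) (tt N101316 (iv7 F432629)))
theorem Q99370 : ∀ i, i < 99370 → P i := stepQ 99369 Q99369 (allL N99369 (tt N96283 (iv1 F424321)) (tt N62252 (iv0 D202507)) (tt N96298 (iv2 F425040)) (tt N119951 D223210) (tt N119952 D223211) (tt N90494 F424320) (tt N119953 D223212) (tt N96297 F425041))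
theorem Q99371 : ∀ i, i < 99371 → P i := stepQ 99370 Q99370 (allL N99370 (tt N62252 (iv1 D202508)) (tt N96283 F424322) (tt N96297 F425039) (tt N73345 (iv3 F424323)) (tt N118593 (iv4 F511058)) (tt N90493 (iv5 F430768)) (tt N64651 (iv6 F424324)) (tt N96298 (iv7 F425038)))
theorem Q99372 : ∀ i, i < 99372 → P i := stepQ 99371 Q99371 (allL N99371 (tt N118931 F512813) (tt N116429 (iv0 F500061)) (tt N117078 (iv2 F503260)) (tt N62254 F424325) (tt N108987 (iv4 F464780)) (tt N62252 (iv5 D202509)) (tt N116450 F500187) (tt N96299 F424326))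
theorem Q99373 : ∀ i, i < 99373 → P i := stepQ 99372 Q99372 (allL N99372 (tt N101410 (iv1 F432890)) (tt N101408 (iv0 F432874)) (tt N71125 F424327) (tt N116450 F500185) (tt N77875 F424329) (tt N62253 (iv5 D202510)) (tt N62254 F424328) (tt N101326 (iv7 F432664)))
theorem Q99374 : ∀ i, i < 99374 → P i := stepQ 99373 Q99373 (allL N99373 (tt N106467 F454576) (tt N106803 (iv0 F455745)) (tt N72437 F424330) (tt N77876 F424334) (tt N62254 (iv4 D202511)) (tt N96248 F424333) (tt N77875 F424331) (tt N96305 F424332))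
theorem Q99375 : ∀ i, i < 99375 → P i := stepQ 99374 Q99374 (allL N99374 (tt N69694 (iv1 F424339)) (tt N69690 F424338) (tt N62258 F424335) (tt N72503 F424336) (tt N113104 (iv4 F483987)) (tt N62257 (iv5 D202512)) (tt N119954 D223213) (tt N72467 F424337))
theorem Q99376 : ∀ i, i < 99376 → P i := stepQ 99375 Q99375 (allL N99375 (tt N110858 F473469) (tt N110881 F473586) (tt N62259 F424341) (tt N72504 F424342) (tt N74142 F424343) (tt N119955 D223214) (tt N62257 (iv6 D202513)) (tt N110882 (iv7 F473592)))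
theorem Q99377 : ∀ i, i < 99377 → P i := stepQ 99376 Q99376 (allL N99376 (tt N113105 (iv1 F483996)) (tt N88881 (iv0 F426183)) (tt N113104 F483988) (tt N96548 F424344) (tt N62258 (iv4 D202514)) (tt N91175 (iv5 F424346)) (tt N119956 D223215) (tt N72469 F424345))
theorem Q99378 : ∀ i, i < 99378 → P i := stepQ 99377 Q99377 (allL N99377 (tt N104522 F446129) (tt N85391 (iv0 F424348)) (tt N119954 (iv2 F518228)) (tt N62260 F424347) (tt N119956 (iv4 F518242)) (tt N117630 (iv5 F506089)) (tt N62258 (iv6 D202515)) (tt N119957 D223216))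
theorem Q99379 : ∀ i, i < 99379 → P i := stepQ 99378 Q99378 (allL N99378 (tt N110882 (iv1 F473593)) (tt N62259 (iv0 D202516)) (tt N110858 (iv2 F473467)) (tt N119958 D223217) (tt N119959 D223218) (tt N113970 F488015) (tt N72144 F424349) (tt N110881 (iv7 F473587)))
theorem Q99380 : ∀ i, i < 99380 → P i := stepQ 99379 Q99379 (allL N99379 (tt N62259 (iv1 D202517)) (tt N110882 F473594) (tt N110881 F473585) (tt N86268 F473472) (tt N119960 D223219) (tt N113968 F488009) (tt N86265 (iv6 F473471)) (tt N110858 F473470))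
theorem Q99381 : ∀ i, i < 99381 → P i := stepQ 99380 Q99380 (allL N99380 (tt N116134 F498663) (tt N116699 (iv0 F501374)) (tt N119955 (iv2 F518235)) (tt N62262 F424350) (tt N119961 D223220) (tt N62259 (iv5 D202518)) (tt N117630 F506091) (tt N110883 (iv7 F473598)))
theorem Q99382 : ∀ i, i < 99382 → P i := stepQ 99381 Q99381 (allL N99381 (tt N72516 (iv1 F424361)) (tt N62260 (iv0 D202519)) (tt N72513 F424367) (tt N85650 (iv3 F424364)) (tt N95266 (iv4 F424365)) (tt N110030 (iv5 F469636)) (tt N64857 (iv6 F424366)) (tt N72514 F424363))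
theorem Q99383 : ∀ i, i < 99383 → P i := stepQ 99382 Q99382 (allL N99382 (tt N62260 (iv1 D202520)) (tt N72516 F424351) (tt N72514 F424353) (tt N86214 F424354) (tt N86217 F424355) (tt N111949 (iv5 F478824)) (tt N85647 (iv6 F424352)) (tt N72513 (iv7 F424369)))
theorem Q99384 : ∀ i, i < 99384 → P i := stepQ 99383 Q99383 (allL N99383 (tt N101387 F432831) (tt N101285 (iv0 F432529)) (tt N72515 F424356) (tt N117630 (iv3 F506092)) (tt N119962 D223221) (tt N62260 (iv5 D202521)) (tt N62262 F424357) (tt N119963 D223222))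
theorem Q99385 : ∀ i, i < 99385 → P i := stepQ 99384 Q99384 (allL N99384 (tt N72514 (iv1 F424362)) (tt N72513 F424370) (tt N72516 F424358) (tt N119957 (iv3 F518248)) (tt N96553 F424359) (tt N119963 (iv5 F518284)) (tt N64871 F424360) (tt N62260 (iv7 D202522)))
theorem Q99386 : ∀ i, i < 99386 → P i := stepQ 99385 Q99385 (allL N99385 (tt N72789 F424372) (tt N119964 D223223) (tt N119965 D223224) (tt N62261 (iv3 D202523)) (tt N108088 (iv4 F461064)) (tt N119966 D223225) (tt N119088 (iv6 F513728)) (tt N69815 F424371))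
theorem Q99387 : ∀ i, i < 99387 → P i := stepQ 99386 Q99386 (allL N99386 (tt N110903 (iv1 F473707)) (tt N73309 F424375) (tt N72518 F424373) (tt N119966 (iv3 F518299)) (tt N119967 D223226) (tt N62261 (iv5 D202524)) (tt N111954 F478842) (tt N69816 F424374))
theorem Q99388 : ∀ i, i < 99388 → P i := stepQ 99387 Q99387 (allL N99387 (tt N62262 (iv1 D202525)) (tt N72522 F424376) (tt N72520 (iv2 F424379)) (tt N119968 D223227) (tt N107447 (iv4 F458368)) (tt N96245 F424378) (tt N112797 (iv6 F482658)) (tt N72519 F424377))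
theorem Q99389 : ∀ i, i < 99389 → P i := stepQ 99388 Q99388 (allL N99388 (tt N100591 F429595) (tt N108463 (iv0 F462694)) (tt N72521 F424380) (tt N119969 D223228) (tt N62262 (iv4 D202526)) (tt N119970 D223229) (tt N119962 (iv6 F518281)) (tt N110884 (iv7 F473601)))
theorem Q99390 : ∀ i, i < 99390 → P i := stepQ 99389 Q99389 (allL N99389 (tt N62277 F424386) (tt N72576 (iv0 F424385)) (tt N72575 (iv2 F424384)) (tt N62263 (iv3 D202527)) (tt N62644 F424383) (tt N113243 (iv5 F484679)) (tt N91711 F424381) (tt N72525 F424382))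
theorem Q99391 : ∀ i, i < 99391 → P i := stepQ 99390 Q99390 (allL N99390 (tt N106432 (iv1 F454410)) (tt N102671 F438151) (tt N72528 F424387) (tt N106468 (iv3 F454577)) (tt N62263 (iv4 D202528)) (tt N106079 (iv5 F453028)) (tt N89992 F424388) (tt N72526 F424389))
theorem Q99392 : ∀ i, i < 99392 → P i := stepQ 99391 Q99391 (allL N99391 (tt N73411 (iv1 F424394)) (tt N72442 (iv0 F424393)) (tt N119166 (iv2 F514154)) (tt N62264 (iv3 D202529)) (tt N99002 F424390) (tt N105890 (iv5 F452204)) (tt N89423 F424391) (tt N72527 F424392))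
theorem Q99393 : ∀ i, i < 99393 → P i := stepQ 99392 Q99392 (allL N99392 (tt N110862 F473495) (tt N110868 F473527) (tt N62266 F424395) (tt N72553 F424396) (tt N71444 F424397) (tt N119971 D223230) (tt N62265 (iv6 D202530)) (tt N110869 (iv7 F473535)))
theorem Q99394 : ∀ i, i < 99394 → P i := stepQ 99393 Q99393 (allL N99393 (tt N110869 (iv1 F473536)) (tt N62266 (iv0 D202531)) (tt N110862 (iv2 F473493)) (tt N117196 (iv3 F503860)) (tt N114037 (iv4 F488310)) (tt N106555 F454842) (tt N72155 (iv6 F454843)) (tt N110868 (iv7 F473528)))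
theorem Q99395 : ∀ i, i < 99395 → P i := stepQ 99394 Q99394 (allL N99394 (tt N62266 (iv1 D202532)) (tt N110869 F473537) (tt N110868 F473529) (tt N119972 D223231) (tt N114032 (iv4 F488291)) (tt N119973 D223232) (tt N114031 (iv6 F488288)) (tt N110862 F473496))
theorem Q99396 : ∀ i, i < 99396 → P i := stepQ 99395 Q99395 (allL N99395 (tt N119974 D223233) (tt N119975 D223234) (tt N119971 (iv2 F518323)) (tt N62267 F424398) (tt N88832 (iv4 F449435)) (tt N62266 (iv5 D202533)) (tt N88831 F449434) (tt N110870 (iv7 F473539)))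
theorem Q99397 : ∀ i, i < 99397 → P i := stepQ 99396 Q99396 (allL N99396 (tt N72566 (iv1 F424402)) (tt N62267 (iv0 D202534)) (tt N64328 (iv2 F424401)) (tt N88563 (iv3 F424404)) (tt N100591 (iv4 F429592)) (tt N64565 F424399) (tt N63913 F424400) (tt N72564 F424403))
theorem Q99398 : ∀ i, i < 99398 → P i := stepQ 99397 Q99397 (allL N99397 (tt N107387 (iv1 F458176)) (tt N107389 (iv0 F458184)) (tt N72565 F424405) (tt N100883 (iv3 F430854)) (tt N62267 (iv4 D202535)) (tt N119976 D223235) (tt N108003 (iv6 F460680)) (tt N110871 (iv7 F473543)))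
theorem Q99399 : ∀ i, i < 99399 → P i := stepQ 99398 Q99398 (allL N99398 (tt N72446 F424409) (tt N113290 F484874) (tt N110990 (iv2 F474118)) (tt N62268 (iv3 D202536)) (tt N72490 F424406) (tt N100318 (iv5 F428410)) (tt N89444 F424407) (tt N72547 F424408))
theorem Q99400 : ∀ i, i < 99400 → P i := stepQ 99399 Q99399 (allL N99399 (tt N106795 F455710) (tt N107077 (iv0 F456867)) (tt N62271 F424410) (tt N72531 F424411) (tt N93858 F424412) (tt N119977 D223236) (tt N62270 (iv6 D202537)) (tt N119978 D223237))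
theorem Q99401 : ∀ i, i < 99401 → P i := stepQ 99400 Q99400 (allL N99400 (tt N119978 (iv1 F518363)) (tt N62271 (iv0 D202538)) (tt N106795 (iv2 F455708)) (tt N119979 D223238) (tt N108913 F464464) (tt N106643 (iv5 F455128)) (tt N95608 F424413) (tt N107077 (iv7 F456866)))
theorem Q99402 : ∀ i, i < 99402 → P i := stepQ 99401 Q99401 (allL N99401 (tt N62271 (iv1 D202539)) (tt N119978 F518362) (tt N107077 (iv2 F456865)) (tt N83316 (iv3 F424414)) (tt N108914 F464466) (tt N107062 (iv5 F456828)) (tt N106088 (iv6 F453059)) (tt N106795 (iv7 F455709)))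
theorem Q99403 : ∀ i, i < 99403 → P i := stepQ 99402 Q99402 (allL N99402 (tt N109497 F467277) (tt N83309 (iv0 F457996)) (tt N119977 (iv2 F518351)) (tt N62272 F424415) (tt N119704 (iv4 F517008)) (tt N62271 (iv5 D202540)) (tt N108007 (iv6 F460698)) (tt N107195 (iv7 F457421)))
theorem Q99404 : ∀ i, i < 99404 → P i := stepQ 99403 Q99403 (allL N99403 (tt N107077 (iv1 F456868)) (tt N106795 F456869) (tt N119978 (iv2 F518357)) (tt N62273 F424416) (tt N93862 F424417) (tt N107195 (iv5 F457420)) (tt N72559 F424418) (tt N62271 (iv7 D202541)))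
theorem Q99405 : ∀ i, i < 99405 → P i := stepQ 99404 Q99404 (allL N99404 (tt N107334 (iv1 F457995)) (tt N96276 F424420) (tt N72545 F424419) (tt N119980 D223239) (tt N62272 (iv4 D202542)) (tt N118760 (iv5 F511933)) (tt N108012 (iv6 F460724)) (tt N107196 (iv7 F457424)))
theorem Q99406 : ∀ i, i < 99406 → P i := stepQ 99405 Q99405 (allL N99405 (tt N112166 (iv1 F479856)) (tt N112165 (iv0 F479848)) (tt N102760 (iv2 F438513)) (tt N62276 F424421) (tt N94070 F424422) (tt N77335 F424424) (tt N62274 (iv6 D202543)) (tt N83318 F424423))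
theorem Q99407 : ∀ i, i < 99407 → P i := stepQ 99406 Q99406 (allL N99406 (tt N65289 F424429) (tt N72703 (iv0 F424430)) (tt N62673 F424425) (tt N65299 F424426) (tt N62276 F424427) (tt N104157 (iv5 F444467)) (tt N62275 (iv6 D202544)) (tt N75670 F424428))
theorem Q99408 : ∀ i, i < 99408 → P i := stepQ 99407 Q99407 (allL N99407 (tt N116568 (iv1 F500777)) (tt N108456 (iv0 F462663)) (tt N72582 F424431) (tt N77335 F424432) (tt N119981 D223240) (tt N62276 (iv5 D202545)) (tt N107972 (iv6 F460555)) (tt N83447 F424433))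
theorem Q99409 : ∀ i, i < 99409 → P i := stepQ 99408 Q99408 (allL N99408 (tt N72576 (iv1 F424436)) (tt N62277 (iv0 D202546)) (tt N72525 (iv2 F424435)) (tt N119166 F514152) (tt N62643 F424434) (tt N119229 (iv5 F514487)) (tt N78654 (iv6 F424438)) (tt N72575 F424437))
theorem Q99410 : ∀ i, i < 99410 → P i := stepQ 99409 Q99409 (allL N99409 (tt N72525 (iv1 F424443)) (tt N72575 F424442) (tt N62277 (iv2 D202547)) (tt N72567 F424439) (tt N74325 F424440) (tt N107974 (iv5 F460562)) (tt N119982 D223241) (tt N72576 F424441))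
theorem Q99411 : ∀ i, i < 99411 → P i := stepQ 99410 Q99410 (allL N99410 (tt N117082 F503286) (tt N119983 D223242) (tt N119982 (iv2 F518374)) (tt N62278 F424445) (tt N74327 F424446) (tt N90849 (iv5 F424451)) (tt N62277 (iv6 D202548)) (tt N119984 D223243))
theorem Q99412 : ∀ i, i < 99412 → P i := stepQ 99411 Q99411 (allL N99411 (tt N83314 F424448) (tt N83313 F424449) (tt N72573 F424447) (tt N90849 F424450) (tt N105575 (iv4 F450805)) (tt N62278 (iv5 D202549)) (tt N107980 (iv6 F460582)) (tt N83315 F424452))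
theorem Q99413 : ∀ i, i < 99413 → P i := stepQ 99412 Q99412 (allL N99412 (tt N72487 (iv1 F424457)) (tt N72572 F424458) (tt N72574 F424453) (tt N119984 (iv3 F518387)) (tt N74322 F424454) (tt N83315 F424455) (tt N72583 F424456) (tt N62278 (iv7 D202550)))
theorem Q99414 : ∀ i, i < 99414 → P i := stepQ 99413 Q99413 (allL N99413 (tt N72590 F424463) (tt N72589 F424464) (tt N62283 F424459) (tt N90434 (iv3 F424465)) (tt N62279 (iv4 D202551)) (tt N72819 F424462) (tt N89676 F424460) (tt N72584 F424461))
theorem Q99415 : ∀ i, i < 99415 → P i := stepQ 99414 Q99414 (allL N99414 (tt N108431 (iv1 F462526)) (tt N114676 (iv0 F491325)) (tt N72588 F424466) (tt N113267 (iv3 F484788)) (tt N62410 F424467) (tt N75985 F424468) (tt N62281 (iv6 D202552)) (tt N110523 (iv7 F471972)))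
theorem Q99416 : ∀ i, i < 99416 → P i := stepQ 99415 Q99415 (allL N99415 (tt N119229 (iv1 F514490)) (tt N113243 F484684) (tt N113264 (iv2 F484768)) (tt N62282 (iv3 D202553)) (tt N109388 (iv4 F466713)) (tt N62402 F424469) (tt N117062 (iv6 F503182)) (tt N72586 F424470))
theorem Q99417 : ∀ i, i < 99417 → P i := stepQ 99416 Q99416 (allL N99416 (tt N88856 F424473) (tt N107605 (iv0 F458915)) (tt N70413 F424471) (tt N88905 F424475) (tt N62282 (iv4 D202554)) (tt N114483 (iv5 F490412)) (tt N70411 (iv6 F424474)) (tt N72587 F424472))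
theorem Q99418 : ∀ i, i < 99418 → P i := stepQ 99417 Q99417 (allL N99417 (tt N119034 F513399) (tt N119231 F514505) (tt N70412 F424476) (tt N117062 (iv3 F503181)) (tt N70411 F424477) (tt N110318 (iv5 F471016)) (tt N62282 (iv6 D202555)) (tt N119230 (iv7 F514492)))
theorem Q99419 : ∀ i, i < 99419 → P i := stepQ 99418 Q99418 (allL N99418 (tt N72584 (iv1 F424479)) (tt N62283 (iv0 D202556)) (tt N72590 (iv2 F424480)) (tt N119985 D223244) (tt N62428 F424478) (tt N107609 F458940) (tt N108362 (iv6 F462256)) (tt N72589 (iv7 F424481)))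
theorem Q99420 : ∀ i, i < 99420 → P i := stepQ 99419 Q99419 (allL N99419 (tt N62283 (iv1 D202557)) (tt N72584 F424482) (tt N72589 F424485) (tt N119986 D223245) (tt N62430 (iv4 F424484)) (tt N88886 F424486) (tt N119987 D223246) (tt N72590 F424483))
theorem Q99421 : ∀ i, i < 99421 → P i := stepQ 99420 Q99420 (allL N99420 (tt N107983 (iv1 F460595)) (tt N107985 (iv0 F460602)) (tt N72819 F424488) (tt N101038 (iv3 F431402)) (tt N72803 F424490) (tt N62283 (iv5 D202558)) (tt N88854 F424491) (tt N72591 F424489))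
theorem Q99422 : ∀ i, i < 99422 → P i := stepQ 99421 Q99421 (allL N99421 (tt N72820 (iv1 F424496)) (tt N89675 (iv0 F424497)) (tt N89676 F424492) (tt N100835 (iv3 F430697)) (tt N62284 F424493) (tt N88848 F424494) (tt N62283 (iv6 D202559)) (tt N89650 F424495))
theorem Q99423 : ∀ i, i < 99423 → P i := stepQ 99422 Q99422 (allL N99422 (tt N78654 F424502) (tt N78621 (iv0 F424503)) (tt N65179 F424498) (tt N62286 (iv3 D202560)) (tt N78644 F424499) (tt N65177 F424500) (tt N72162 F424501) (tt N109626 (iv7 F467809)))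
theorem Q99424 : ∀ i, i < 99424 → P i := stepQ 99423 Q99423 (allL N99423 (tt N64554 (iv1 F424509)) (tt N64553 F424508) (tt N62287 (iv2 D202561)) (tt N90045 F424504) (tt N71666 F424505) (tt N64542 F424506) (tt N106487 (iv6 F454641)) (tt N64541 F424507))
theorem Q99425 : ∀ i, i < 99425 → P i := stepQ 99424 Q99424 (allL N99424 (tt N99998 (iv1 F427117)) (tt N100001 (iv0 F427132)) (tt N106487 (iv2 F454636)) (tt N62288 F424511) (tt N71668 F424512) (tt N71985 F424514) (tt N62287 (iv6 D202562)) (tt N72158 F424513))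
theorem Q99426 : ∀ i, i < 99426 → P i := stepQ 99425 Q99425 (allL N99425 (tt N119988 D223247) (tt N117098 (iv0 F503375)) (tt N89934 F424515) (tt N62291 F424516) (tt N96612 F424517) (tt N70316 F424518) (tt N62290 (iv6 D202563)) (tt N72148 F424519))
theorem Q99427 : ∀ i, i < 99427 → P i := stepQ 99426 Q99426 (allL N99426 (tt N62293 (iv1 D202564)) (tt N81709 F424520) (tt N72749 F424525) (tt N80084 F424526) (tt N74674 F424523) (tt N68413 F424522) (tt N77089 (iv6 F424524)) (tt N92602 F424521))
theorem Q99428 : ∀ i, i < 99428 → P i := stepQ 99427 Q99427 (allL N99427 (tt N62430 F424534) (tt N62428 F424535) (tt N72754 F424530) (tt N89147 F424531) (tt N105643 (iv4 F451077)) (tt N62294 (iv5 D202565)) (tt N89136 F424532) (tt N72752 F424533))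
theorem Q99429 : ∀ i, i < 99429 → P i := stepQ 99428 Q99428 (allL N99428 (tt N62428 F424539) (tt N62430 F424540) (tt N72752 F424536) (tt N69716 F424537) (tt N105642 (iv4 F451071)) (tt N62295 (iv5 D202566)) (tt N101360 (iv6 F432778)) (tt N72754 F424538))
theorem Q99430 : ∀ i, i < 99430 → P i := stepQ 99429 Q99429 (allL N99429 (tt N72755 (iv1 F424545)) (tt N72463 F424544) (tt N62296 (iv2 D202567)) (tt N72460 F424541) (tt N93887 F424542) (tt N106203 (iv5 F453593)) (tt N119989 D223248) (tt N72756 F424543))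
theorem Q99431 : ∀ i, i < 99431 → P i := stepQ 99430 Q99430 (allL N99430 (tt N119958 F518259) (tt N119990 D223249) (tt N119989 (iv2 F518415)) (tt N62298 F424546) (tt N93888 F424547) (tt N113554 F486009) (tt N62296 (iv6 D202568)) (tt N110886 (iv7 F473608)))
theorem Q99432 : ∀ i, i < 99432 → P i := stepQ 99431 Q99431 (allL N99431 (tt N111283 F475623) (tt N119510 (iv0 F515987)) (tt N72791 F424548) (tt N104523 (iv3 F446133)) (tt N107984 (iv4 F460598)) (tt N119991 D223250) (tt N62297 (iv6 D202569)) (tt N106200 (iv7 F453589)))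
theorem Q99433 : ∀ i, i < 99433 → P i := stepQ 99432 Q99432 (allL N99432 (tt N62298 (iv1 D202570)) (tt N72795 F424549) (tt N72793 F424552) (tt N72510 F424554) (tt N90409 (iv4 F424551)) (tt N116758 (iv5 F501671)) (tt N92594 F424553) (tt N72792 F424550))
theorem Q99434 : ∀ i, i < 99434 → P i := stepQ 99433 Q99433 (allL N99433 (tt N110534 (iv1 F472035)) (tt N110533 (iv0 F472029)) (tt N72794 F424555) (tt N113554 (iv3 F486008)) (tt N114048 (iv4 F488348)) (tt N62298 (iv5 D202571)) (tt N119991 (iv6 F518428)) (tt N110887 (iv7 F473611)))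
theorem Q99435 : ∀ i, i < 99435 → P i := stepQ 99434 Q99434 (allL N99434 (tt N78346 F424559) (tt N89104 F424560) (tt N72800 F424556) (tt N100313 (iv3 F428390)) (tt N62299 (iv4 D202572)) (tt N90410 F424558) (tt N80437 F424557) (tt N104146 (iv7 F444407)))
theorem Q99436 : ∀ i, i < 99436 → P i := stepQ 99435 Q99435 (allL N99435 (tt N73178 (iv1 F424567)) (tt N62325 (iv0 F424566)) (tt N72708 F424561) (tt N73099 F424562) (tt N72644 F424563) (tt N73099 F424564) (tt N62300 (iv6 D202573)) (tt N76842 F424565))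
theorem Q99437 : ∀ i, i < 99437 → P i := stepQ 99436 Q99436 (allL N99436 (tt N81707 F424571) (tt N62303 (iv0 D202574)) (tt N72738 (iv2 F424570)) (tt N108625 (iv3 F463260)) (tt N72650 (iv4 F426967)) (tt N81679 F424569) (tt N81680 F424568) (tt N117517 (iv7 F505470)))
theorem Q99438 : ∀ i, i < 99438 → P i := stepQ 99437 Q99437 (allL N99437 (tt N62303 (iv1 D202575)) (tt N81707 F424572) (tt N117517 (iv2 F505467)) (tt N72720 F424575) (tt N72651 F424577) (tt N74809 F424576) (tt N74491 (iv6 F424574)) (tt N72738 F424573))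
theorem Q99439 : ∀ i, i < 99439 → P i := stepQ 99438 Q99438 (allL N99438 (tt N97941 (iv1 F424582)) (tt N94456 (iv0 F424581)) (tt N80467 F424578) (tt N62308 F424579) (tt N99823 (iv4 F426395)) (tt N62303 (iv5 D202576)) (tt N80465 F424580) (tt N99737 (iv7 F425986)))
theorem Q99440 : ∀ i, i < 99440 → P i := stepQ 99439 Q99439 (allL N99439 (tt N117517 (iv1 F505473)) (tt N72738 F424586) (tt N81707 F424583) (tt N62309 F424584) (tt N107565 (iv4 F458771)) (tt N99737 (iv5 F425985)) (tt N72787 F424585) (tt N62303 (iv7 D202577)))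
theorem Q99441 : ∀ i, i < 99441 → P i := stepQ 99440 Q99440 (allL N99440 (tt N109270 F466102) (tt N72478 (iv0 F424592)) (tt N95934 F424587) (tt N62306 F424588) (tt N118303 (iv4 F509601)) (tt N83393 F424589) (tt N62304 (iv6 D202578)) (tt N110393 (iv7 F471371)))
theorem Q99442 : ∀ i, i < 99442 → P i := stepQ 99441 Q99441 (allL N99441 (tt N62306 (iv1 D202579)) (tt N72766 F424593) (tt N72764 (iv2 F424596)) (tt N119992 D223251) (tt N74968 F424595) (tt N117731 (iv5 F506675)) (tt N101805 (iv6 F434419)) (tt N72763 F424594))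
theorem Q99443 : ∀ i, i < 99443 → P i := stepQ 99442 Q99442 (allL N99442 (tt N109039 (iv1 F465049)) (tt N112711 (iv0 F482305)) (tt N72765 F424597) (tt N83393 F424598) (tt N117733 (iv4 F506687)) (tt N62306 (iv5 D202580)) (tt N100480 (iv6 F429108)) (tt N119993 D223252))
theorem Q99444 : ∀ i, i < 99444 → P i := stepQ 99443 Q99443 (allL N99443 (tt N72764 (iv1 F424602)) (tt N72763 F424603) (tt N72766 F424599) (tt N110393 F471372) (tt N62309 F424600) (tt N119993 (iv5 F518438)) (tt N72795 F424601) (tt N62306 (iv7 D202581)))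
theorem Q99445 : ∀ i, i < 99445 → P i := stepQ 99444 Q99444 (allL N99444 (tt N63305 F424608) (tt N63302 (iv0 F424609)) (tt N62991 F424604) (tt N62310 (iv3 D202582)) (tt N73145 F424605) (tt N119994 D223253) (tt N62943 F424606) (tt N72802 F424607))
theorem Q99446 : ∀ i, i < 99446 → P i := stepQ 99445 Q99445 (allL N99445 (tt N72818 F424613) (tt N72817 F424614) (tt N62320 F424610) (tt N119994 (iv3 F518443)) (tt N72591 F424611) (tt N62310 (iv5 D202583)) (tt N119995 D223254) (tt N72803 F424612))
theorem Q99447 : ∀ i, i < 99447 → P i := stepQ 99446 Q99446 (allL N99446 (tt N76944 F424620) (tt N92197 F424621) (tt N92195 F424615) (tt N62313 (iv3 D202584)) (tt N98353 F424616) (tt N88881 F424617) (tt N84397 F424618) (tt N72804 F424619))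
theorem Q99448 : ∀ i, i < 99448 → P i := stepQ 99447 Q99447 (allL N99447 (tt N75402 F424626) (tt N75406 F424627) (tt N80438 F424622) (tt N62317 F424623) (tt N74243 F424624) (tt N69641 F424625) (tt N62315 (iv6 D202585)) (tt N75665 F424628))
theorem Q99449 : ∀ i, i < 99449 → P i := stepQ 99448 Q99448 (allL N99448 (tt N88888 F424631) (tt N88887 F424632) (tt N72805 F424629) (tt N110267 (iv3 F470731)) (tt N107609 (iv4 F458937)) (tt N62316 (iv5 D202586)) (tt N88891 (iv6 F424633)) (tt N72810 F424630))
theorem Q99450 : ∀ i, i < 99450 → P i := stepQ 99449 Q99449 (allL N99449 (tt N108432 (iv1 F462534)) (tt N100003 (iv0 F427142)) (tt N72806 F424634) (tt N110268 (iv3 F470737)) (tt N62317 F424635) (tt N89693 F424637) (tt N62316 (iv6 D202587)) (tt N75666 F424636))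
theorem Q99451 : ∀ i, i < 99451 → P i := stepQ 99450 Q99450 (allL N99450 (tt N73352 F424642) (tt N62437 F424643) (tt N72815 F424638) (tt N75570 F424639) (tt N114483 (iv4 F490413)) (tt N62318 (iv5 D202588)) (tt N86301 F424640) (tt N72812 F424641))
theorem Q99452 : ∀ i, i < 99452 → P i := stepQ 99451 Q99451 (allL N99451 (tt N110308 (iv1 F470966)) (tt N63892 (iv0 F424646)) (tt N110306 F470953) (tt N62319 (iv3 D202589)) (tt N73637 F424644) (tt N118972 (iv5 F513052)) (tt N119996 D223255) (tt N72814 F424645))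
theorem Q99453 : ∀ i, i < 99453 → P i := stepQ 99452 Q99452 (allL N99452 (tt N62437 F424650) (tt N73352 F424651) (tt N72812 F424647) (tt N118972 (iv3 F513051)) (tt N62407 F424649) (tt N62319 (iv5 D202590)) (tt N62406 (iv6 F424652)) (tt N72815 F424648))
theorem Q99454 : ∀ i, i < 99454 → P i := stepQ 99453 Q99453 (allL N99453 (tt N63050 (iv1 F424657)) (tt N73924 (iv0 F424656)) (tt N72813 F424653) (tt N119996 (iv3 F518456)) (tt N73620 F424654) (tt N109561 (iv5 F467529)) (tt N62319 (iv6 D202591)) (tt N75648 F424655))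
theorem Q99455 : ∀ i, i < 99455 → P i := stepQ 99454 Q99454 (allL N99454 (tt N107985 (iv1 F460603)) (tt N107983 (iv0 F460594)) (tt N72591 F424658) (tt N105950 F452472) (tt N62320 (iv4 D202592)) (tt N72584 F424659) (tt N116316 (iv6 F499520)) (tt N72819 F424660))
theorem Q99456 : ∀ i, i < 99456 → P i := stepQ 99455 Q99455 (allL N99455 (tt N106259 F459035) (tt N119997 D223256) (tt N119995 (iv2 F518449)) (tt N63002 F424661) (tt N116316 (iv4 F499519)) (tt N73914 F424662) (tt N62320 (iv6 D202593)) (tt N119998 D223257))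
theorem Q99457 : ∀ i, i < 99457 → P i := stepQ 99456 Q99456 (allL N99456 (tt N76136 F424666) (tt N64365 (iv0 F424667)) (tt N73157 F424663) (tt N103003 (iv3 F439638)) (tt N99997 (iv4 F427111)) (tt N69651 F424664) (tt N62321 (iv6 D202594)) (tt N75965 F424665))
theorem Q99458 : ∀ i, i < 99458 → P i := stepQ 99457 Q99457 (allL N99457 (tt N88844 F424673) (tt N88843 F424674) (tt N88845 F424668) (tt N77167 F424669) (tt N65013 F424672) (tt N62323 (iv5 D202595)) (tt N77165 F424670) (tt N81864 F424671))
theorem Q99459 : ∀ i, i < 99459 → P i := stepQ 99458 Q99458 (allL N99458 (tt N62327 (iv1 F424678)) (tt N62324 (iv0 D202596)) (tt N73185 (iv2 F424677)) (tt N73171 F424679) (tt N117286 (iv4 F504287)) (tt N96906 F424675) (tt N80086 F424676) (tt N109003 (iv7 F464860)))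
theorem Q99460 : ∀ i, i < 99460 → P i := stepQ 99459 Q99459 (allL N99459 (tt N108243 (iv1 F461657)) (tt N107277 (iv0 F457761)) (tt N107266 (iv2 F457705)) (tt N115945 (iv3 F497709)) (tt N62324 (iv4 D202597)) (tt N88846 F424680) (tt N107246 F457632) (tt N108357 (iv7 F462233)))
theorem Q99461 : ∀ i, i < 99461 → P i := stepQ 99460 Q99460 (allL N99460 (tt N96836 F424685) (tt N109001 F464848) (tt N73601 F424681) (tt N62327 F424682) (tt N77799 F424684) (tt N62325 (iv5 D202598)) (tt N73599 F424683) (tt N109627 (iv7 F467816)))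
theorem Q99462 : ∀ i, i < 99462 → P i := stepQ 99461 Q99461 (allL N99461 (tt N95614 F424687) (tt N95526 (iv0 F424688)) (tt N100257 F428150) (tt N106750 (iv3 F455531)) (tt N62328 (iv4 D202599)) (tt N119104 (iv5 F513811)) (tt N112737 (iv6 F482443)) (tt N73174 F424686))
theorem Q99463 : ∀ i, i < 99463 → P i := stepQ 99462 Q99462 (allL N99462 (tt N119999 D223258) (tt N106612 (iv0 F455052)) (tt N100944 (iv2 F431055)) (tt N90483 F424689) (tt N73905 F424691) (tt N62329 (iv5 D202600)) (tt N72033 F424690) (tt N107411 (iv7 F458252)))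
theorem Q99464 : ∀ i, i < 99464 → P i := stepQ 99463 Q99463 (allL N99463 (tt N62351 F424694) (tt N99007 (iv0 F424695)) (tt N73460 F424692) (tt N106930 (iv3 F456321)) (tt N98814 F424693) (tt N92886 (iv5 F424696)) (tt N62333 (iv6 D202601)) (tt N116019 (iv7 F498088)))
theorem Q99465 : ∀ i, i < 99465 → P i := stepQ 99464 Q99464 (allL N99464 (tt N70241 (iv1 F424700)) (tt N62336 (iv0 D202602)) (tt N73472 (iv2 F424699)) (tt N93817 F424698) (tt N108469 (iv4 F462720)) (tt N93370 F424697) (tt N108187 F461445) (tt N73473 F424701))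
theorem Q99466 : ∀ i, i < 99466 → P i := stepQ 99465 Q99465 (allL N99465 (tt N73429 F424704) (tt N101829 F434551) (tt N105353 (iv2 F449845)) (tt N62337 (iv3 D202603)) (tt N66379 F424705) (tt N103022 (iv5 F439712)) (tt N93651 F424702) (tt N73463 F424703))
theorem Q99467 : ∀ i, i < 99467 → P i := stepQ 99466 Q99466 (allL N99466 (tt N73476 F424711) (tt N62340 (iv0 F424712)) (tt N73475 F424713) (tt N62338 (iv3 D202604)) (tt N117786 (iv4 F506967)) (tt N103026 (iv5 F439726)) (tt N120000 D223259) (tt N73466 F424710))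
theorem Q99468 : ∀ i, i < 99468 → P i := stepQ 99467 Q99467 (allL N99467 (tt N73446 F424716) (tt N73530 F424717) (tt N73465 F424714) (tt N120000 (iv3 F518481)) (tt N106110 (iv4 F453163)) (tt N120001 D223260) (tt N62338 (iv6 D202605)) (tt N73529 F424715))
theorem Q99469 : ∀ i, i < 99469 → P i := stepQ 99468 Q99468 (allL N99468 (tt N62340 (iv1 D202606)) (tt N73476 F424718) (tt N73466 (iv2 F424720)) (tt N105353 (iv3 F449849)) (tt N117785 (iv4 F506961)) (tt N107804 (iv5 F459780)) (tt N96131 F424721) (tt N73475 F424719))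
theorem Q99470 : ∀ i, i < 99470 → P i := stepQ 99469 Q99469 (allL N99469 (tt N120002 D223261) (tt N118480 (iv0 F510600)) (tt N118345 (iv2 F509816)) (tt N62342 F424723) (tt N74725 F424724) (tt N79601 (iv5 F424725)) (tt N62340 (iv6 D202607)) (tt N101794 (iv7 F434377)))
theorem Q99471 : ∀ i, i < 99471 → P i := stepQ 99470 Q99470 (allL N99470 (tt N110474 (iv1 F471751)) (tt N110473 F471750) (tt N110475 (iv2 F471757)) (tt N118341 (iv3 F509796)) (tt N95530 F424726) (tt N62345 (iv5 D202608)) (tt N91613 (iv6 F424727)) (tt N109273 (iv7 F466118)))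
theorem Q99472 : ∀ i, i < 99472 → P i := stepQ 99471 Q99471 (allL N99471 (tt N110472 (iv1 F471743)) (tt N62346 (iv0 D202609)) (tt N101775 (iv2 F434285)) (tt N93654 (iv3 F424731)) (tt N96797 F424729) (tt N78065 F424728) (tt N96141 F424730) (tt N96108 (iv7 F424732)))
theorem Q99473 : ∀ i, i < 99473 → P i := stepQ 99472 Q99472 (allL N99472 (tt N62346 (iv1 D202610)) (tt N110472 (iv0 F471742)) (tt N96108 F424736) (tt N93320 (iv3 F424734)) (tt N96798 F424733) (tt N101776 (iv5 F434292)) (tt N93318 (iv6 F424735)) (tt N101775 (iv7 F434287)))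
theorem Q99474 : ∀ i, i < 99474 → P i := stepQ 99473 Q99473 (allL N99473 (tt N96108 (iv1 F424741)) (tt N101775 (iv0 F434288)) (tt N110472 (iv2 F471738)) (tt N62359 F424738) (tt N96073 F424739) (tt N62347 F424740) (tt N112204 (iv6 F480041)) (tt N62346 (iv7 D202611)))
theorem Q99475 : ∀ i, i < 99475 → P i := stepQ 99474 Q99474 (allL N99474 (tt N107222 (iv1 F457516)) (tt N107221 F457513) (tt N65919 F424742) (tt N62348 (iv3 D202612)) (tt N104103 (iv4 F444192)) (tt N65917 F424743) (tt N95170 F424744) (tt N72206 F424745))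
theorem Q99476 : ∀ i, i < 99476 → P i := stepQ 99475 Q99475 (allL N99475 (tt N62350 (iv1 D202613)) (tt N95268 F424746) (tt N95267 F424751) (tt N65477 (iv3 F424749)) (tt N77944 F424752) (tt N82515 F424748) (tt N93410 (iv6 F424750)) (tt N65475 F424747))
theorem Q99477 : ∀ i, i < 99477 → P i := stepQ 99476 Q99476 (allL N99476 (tt N118216 F509207) (tt N120003 D223262) (tt N99167 F424753) (tt N99201 F424754) (tt N62350 (iv4 D202614)) (tt N120004 D223263) (tt N62358 F424755) (tt N114798 (iv7 F491931)))
theorem Q99478 : ∀ i, i < 99478 → P i := stepQ 99477 Q99477 (allL N99477 (tt N99007 (iv1 F424759)) (tt N62351 (iv0 D202615)) (tt N116019 (iv2 F498084)) (tt N116997 (iv3 F502887)) (tt N98820 F424757) (tt N92887 F424756) (tt N73522 (iv6 F424761)) (tt N73460 F424760))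
theorem Q99479 : ∀ i, i < 99479 → P i := stepQ 99478 Q99478 (allL N99478 (tt N93396 F434997) (tt N93601 F424768) (tt N108665 (iv2 F463442)) (tt N62353 F424764) (tt N92462 F424767) (tt N62351 (iv5 D202616)) (tt N93597 F424765) (tt N95172 F424766))
theorem Q99480 : ∀ i, i < 99480 → P i := stepQ 99479 Q99479 (allL N99479 (tt N77892 F424770) (tt N99030 F424771) (tt N104181 (iv2 F444561)) (tt N103214 (iv3 F440603)) (tt N62353 (iv4 D202617)) (tt N71385 F424769) (tt N99009 F424772) (tt N118136 (iv7 F508799)))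
theorem Q99481 : ∀ i, i < 99481 → P i := stepQ 99480 Q99480 (allL N99480 (tt N66510 (iv1 F424779)) (tt N66512 F424778) (tt N62354 (iv2 D202618)) (tt N99007 F424775) (tt N108474 (iv4 F462748)) (tt N67309 F424776) (tt N108952 F464636) (tt N93652 F424777))
theorem Q99482 : ∀ i, i < 99482 → P i := stepQ 99481 Q99481 (allL N99481 (tt N93961 F424782) (tt N108953 F464642) (tt N108952 (iv2 F464637)) (tt N62356 F424780) (tt N117563 (iv4 F505716)) (tt N96180 F424781) (tt N62354 (iv6 D202619)) (tt N101152 (iv7 F431958)))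
theorem Q99483 : ∀ i, i < 99483 → P i := stepQ 99482 Q99482 (allL N99482 (tt N99030 F424785) (tt N77892 F424786) (tt N118136 (iv2 F508795)) (tt N70746 F424783) (tt N62355 (iv4 D202620)) (tt N71382 F424784) (tt N101628 (iv6 F433614)) (tt N104181 (iv7 F444565)))
theorem Q99484 : ∀ i, i < 99484 → P i := stepQ 99483 Q99483 (allL N99483 (tt N92887 F424791) (tt N92886 (iv0 F424793)) (tt N92889 F424787) (tt N62357 (iv3 D202621)) (tt N93577 F424788) (tt N78060 F424789) (tt N73035 (iv6 F424792)) (tt N92885 F424790))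
theorem Q99485 : ∀ i, i < 99485 → P i := stepQ 99484 Q99484 (allL N99484 (tt N92899 F424799) (tt N92898 (iv0 F424802)) (tt N92901 F424794) (tt N73035 F424795) (tt N99116 F424796) (tt N72296 F424797) (tt N62357 (iv6 D202622)) (tt N92897 F424798))
theorem Q99486 : ∀ i, i < 99486 → P i := stepQ 99485 Q99485 (allL N99485 (tt N112197 F480012) (tt N93845 (iv0 F424805)) (tt N81251 F424803) (tt N112204 (iv3 F480039)) (tt N119727 (iv4 F517129)) (tt N73545 F424804) (tt N62359 (iv6 D202623)) (tt N112198 (iv7 F480016)))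
theorem Q99487 : ∀ i, i < 99487 → P i := stepQ 99486 Q99486 (allL N99486 (tt N94420 F424810) (tt N93774 (iv0 F424809)) (tt N118157 (iv2 F508914)) (tt N62361 F424806) (tt N119061 (iv4 F513570)) (tt N62360 (iv5 D202624)) (tt N74586 F424807) (tt N118140 (iv7 F508818)))
theorem Q99488 : ∀ i, i < 99488 → P i := stepQ 99487 Q99487 (allL N99487 (tt N62361 (iv1 D202625)) (tt N62367 F424811) (tt N107510 (iv2 F458586)) (tt N74608 (iv3 F424814)) (tt N98927 F424815) (tt N69839 F424813) (tt N74606 F424816) (tt N95284 F424812))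
theorem Q99489 : ∀ i, i < 99489 → P i := stepQ 99488 Q99488 (allL N99488 (tt N118226 F509242) (tt N112481 (iv0 F481273)) (tt N118138 (iv2 F508807)) (tt N74586 F424817) (tt N119294 (iv4 F514882)) (tt N64796 F424818) (tt N62361 (iv6 D202626)) (tt N101659 (iv7 F433736)))
theorem Q99490 : ∀ i, i < 99490 → P i := stepQ 99489 Q99489 (allL N99489 (tt N67809 F424822) (tt N67892 F424823) (tt N71752 F424819) (tt N118996 (iv3 F513181)) (tt N62364 (iv4 D202627)) (tt N103514 (iv5 F441905)) (tt N66138 F424820) (tt N71751 F424821))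
theorem Q99491 : ∀ i, i < 99491 → P i := stepQ 99490 Q99490 (allL N99490 (tt N62366 (iv1 D202628)) (tt N77528 (iv0 F424829)) (tt N97381 (iv2 F424830)) (tt N77508 (iv3 F424826)) (tt N77718 F424825) (tt N90997 F424827) (tt N73558 F424828) (tt N72837 F424824))
theorem Q99492 : ∀ i, i < 99492 → P i := stepQ 99491 Q99491 (allL N99491 (tt N72837 (iv1 F424834)) (tt N97381 F424833) (tt N62366 (iv2 D202629)) (tt N118139 (iv3 F508812)) (tt N100390 (iv4 F428756)) (tt N120005 D223264) (tt N94969 F424831) (tt N77528 F424832))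
theorem Q99493 : ∀ i, i < 99493 → P i := stepQ 99492 Q99492 (allL N99492 (tt N118986 (iv1 F513133)) (tt N120006 D223265) (tt N120005 (iv2 F518508)) (tt N62367 F424835) (tt N100601 (iv4 F429649)) (tt N62366 (iv5 D202630)) (tt N101651 (iv6 F433703)) (tt N118137 (iv7 F508804)))
theorem Q99494 : ∀ i, i < 99494 → P i := stepQ 99493 Q99493 (allL N99493 (tt N62369 (iv1 D202631)) (tt N82582 F424836) (tt N73336 F424840) (tt N81714 (iv3 F424839)) (tt N73634 (iv4 F424838)) (tt N89445 F424837) (tt N96836 (iv6 F424841)) (tt N108266 (iv7 F461787)))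
theorem Q99495 : ∀ i, i < 99495 → P i := stepQ 99494 Q99494 (allL N99494 (tt N62386 F424847) (tt N62388 (iv0 F424848)) (tt N73568 F424842) (tt N72837 F424843) (tt N63786 F424844) (tt N91641 F424845) (tt N62370 (iv6 D202632)) (tt N77508 F424846))
theorem Q99496 : ∀ i, i < 99496 → P i := stepQ 99495 Q99495 (allL N99495 (tt N74886 (iv1 F424853)) (tt N74885 (iv0 F424852)) (tt N62795 F424849) (tt N62376 (iv3 D202633)) (tt N73351 F424850) (tt N114753 (iv5 F491676)) (tt N108793 (iv6 F463973)) (tt N73578 F424851))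
theorem Q99497 : ∀ i, i < 99497 → P i := stepQ 99496 Q99496 (allL N99496 (tt N73772 F424859) (tt N88228 F424860) (tt N62384 F424856) (tt N108793 F463971) (tt N62377 F424857) (tt N97876 F424858) (tt N62376 (iv6 D202634)) (tt N102964 (iv7 F439470)))
theorem Q99498 : ∀ i, i < 99498 → P i := stepQ 99497 Q99497 (allL N99497 (tt N62388 (iv1 F424866)) (tt N62386 (iv0 D202635)) (tt N77508 (iv2 F424865)) (tt N99112 F424863) (tt N75327 F424862) (tt N95304 F424861) (tt N73602 F424864) (tt N73568 F424867))
theorem Q99499 : ∀ i, i < 99499 → P i := stepQ 99498 Q99498 (allL N99498 (tt N96006 F424871) (tt N112708 (iv0 F482287)) (tt N77521 F424868) (tt N67308 F424869) (tt N87755 F424870) (tt N62386 (iv5 D202636)) (tt N74566 F424872) (tt N108666 (iv7 F463451)))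
theorem Q99500 : ∀ i, i < 99500 → P i := stepQ 99499 Q99499 (allL N99499 (tt N112708 (iv1 F482288)) (tt N96006 F424876) (tt N108666 F463453) (tt N109258 F466042) (tt N91619 F424873) (tt N62388 (iv5 D202637)) (tt N91617 F424874) (tt N77521 F424875))
theorem Q99501 : ∀ i, i < 99501 → P i := stepQ 99500 Q99500 (allL N99500 (tt N103142 F440269) (tt N69975 (iv0 F424880)) (tt N108291 (iv2 F461914)) (tt N62389 (iv3 D202638)) (tt N108072 (iv4 F460997)) (tt N78083 F424877) (tt N74439 F424878) (tt N91541 F424879))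
theorem Q99502 : ∀ i, i < 99502 → P i := stepQ 99501 Q99501 (allL N99501 (tt N110590 (iv1 F472262)) (tt N108435 F462551) (tt N108333 (iv2 F462111)) (tt N92429 F424881) (tt N62394 F424882) (tt N118486 (iv5 F510629)) (tt N62393 (iv6 D202639)) (tt N74517 F424883))
theorem Q99503 : ∀ i, i < 99503 → P i := stepQ 99502 Q99502 (allL N99502 (tt N119950 (iv1 F518208)) (tt N69714 (iv0 F424887)) (tt N74296 F424889) (tt N62399 (iv3 D202640)) (tt N74267 F424884) (tt N75144 (iv5 F424888)) (tt N80596 F424885) (tt N62425 F424886))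
theorem Q99504 : ∀ i, i < 99504 → P i := stepQ 99503 Q99503 (allL N99503 (tt N119089 (iv1 F513736)) (tt N69780 F424895) (tt N62423 F424891) (tt N75144 F424892) (tt N112542 (iv4 F481588)) (tt N62399 (iv5 D202641)) (tt N63902 F424893) (tt N62426 F424894))
theorem Q99505 : ∀ i, i < 99505 → P i := stepQ 99504 Q99504 (allL N99504 (tt N72417 F424899) (tt N105038 F448509) (tt N91090 (iv2 F424900)) (tt N62400 (iv3 D202642)) (tt N66534 F424896) (tt N114651 (iv5 F491207)) (tt N72268 F424897) (tt N62422 F424898))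
theorem Q99506 : ∀ i, i < 99506 → P i := stepQ 99505 Q99505 (allL N99505 (tt N69780 F424903) (tt N119089 (iv0 F513735)) (tt N62426 F424901) (tt N114651 (iv3 F491205)) (tt N114523 (iv4 F490586)) (tt N62400 (iv5 D202643)) (tt N114522 (iv6 F490583)) (tt N62423 F424902))
theorem Q99507 : ∀ i, i < 99507 → P i := stepQ 99506 Q99506 (allL N99506 (tt N73251 (iv1 F424907)) (tt N62402 (iv0 D202644)) (tt N73233 (iv2 F424906)) (tt N99094 F424904) (tt N66522 F424905) (tt N107464 (iv5 F458428)) (tt N91067 F424909) (tt N73250 F424908))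
theorem Q99508 : ∀ i, i < 99508 → P i := stepQ 99507 Q99507 (allL N99507 (tt N73233 (iv1 F424914)) (tt N73250 F424913) (tt N62402 (iv2 D202645)) (tt N73246 F424910) (tt N73626 F424911) (tt N113264 (iv5 F484769)) (tt N117079 (iv6 F503270)) (tt N73251 F424912))
theorem Q99509 : ∀ i, i < 99509 → P i := stepQ 99508 Q99508 (allL N99508 (tt N90491 (iv1 F424918)) (tt N90489 (iv0 F424919)) (tt N117079 (iv2 F503267)) (tt N62403 F424915) (tt N73628 F424916) (tt N90521 (iv5 F424917)) (tt N62402 (iv6 D202646)) (tt N110902 (iv7 F473701)))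
theorem Q99510 : ∀ i, i < 99510 → P i := stepQ 99509 Q99509 (allL N99509 (tt N73263 F424924) (tt N73262 F424925) (tt N62406 F424920) (tt N114344 (iv3 F489725)) (tt N62404 (iv4 D202647)) (tt N73384 F424923) (tt N72812 F424921) (tt N73252 F424922))
theorem Q99511 : ∀ i, i < 99511 → P i := stepQ 99510 Q99510 (allL N99510 (tt N88876 (iv1 F424932)) (tt N85416 F424931) (tt N62410 F424926) (tt N83767 F424927) (tt N72588 F424930) (tt N62405 (iv5 D202648)) (tt N72587 F424928) (tt N88875 F424929))
theorem Q99512 : ∀ i, i < 99512 → P i := stepQ 99511 Q99511 (allL N99511 (tt N107609 (iv1 F458941)) (tt N88886 F424936) (tt N73384 F424933) (tt N119116 (iv3 F513868)) (tt N73352 F424934) (tt N62406 (iv5 D202649)) (tt N109561 F467531) (tt N73264 F424935))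
theorem Q99513 : ∀ i, i < 99513 → P i := stepQ 99512 Q99512 (allL N99512 (tt N91067 (iv1 F424939)) (tt N89273 (iv0 F424938)) (tt N91066 (iv2 F466353)) (tt N62409 (iv3 D202650)) (tt N110032 (iv4 F469646)) (tt N117193 (iv5 F503846)) (tt N117241 F504074) (tt N91065 F424937))
theorem Q99514 : ∀ i, i < 99514 → P i := stepQ 99513 Q99513 (allL N99513 (tt N72169 F424940) (tt N109611 (iv0 F467732)) (tt N109613 (iv2 F467746)) (tt N117193 (iv3 F503848)) (tt N110520 (iv4 F471962)) (tt N62409 (iv5 D202651)) (tt N116308 (iv6 F499484)) (tt N109614 (iv7 F467748)))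
theorem Q99515 : ∀ i, i < 99515 → P i := stepQ 99514 Q99514 (allL N99514 (tt N63187 (iv1 F424945)) (tt N72249 (iv0 F424944)) (tt N72253 F424941) (tt N117241 (iv3 F504070)) (tt N72328 F424942) (tt N117397 (iv5 F504825)) (tt N62409 (iv6 D202652)) (tt N72254 F424943))
theorem Q99516 : ∀ i, i < 99516 → P i := stepQ 99515 Q99515 (allL N99515 (tt N88875 (iv1 F424948)) (tt N62410 (iv0 D202653)) (tt N88876 (iv2 F424947)) (tt N112907 (iv3 F483226)) (tt N75649 F424951) (tt N76172 F424946) (tt N88880 (iv6 F424950)) (tt N85416 F424949))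
theorem Q99517 : ∀ i, i < 99517 → P i := stepQ 99516 Q99516 (allL N99516 (tt N106426 (iv1 F454380)) (tt N105993 F452663) (tt N106425 F454374) (tt N62412 (iv3 D202654)) (tt N103532 (iv4 F441960)) (tt N72945 F424952) (tt N120007 D223266) (tt N83084 F424953))
theorem Q99518 : ∀ i, i < 99518 → P i := stepQ 99517 Q99517 (allL N99517 (tt N64406 F424956) (tt N107419 F458278) (tt N105259 (iv2 F449423)) (tt N120007 (iv3 F518523)) (tt N64804 F424954) (tt N100941 (iv5 F431042)) (tt N62412 (iv6 D202655)) (tt N89390 F424955))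
theorem Q99519 : ∀ i, i < 99519 → P i := stepQ 99518 Q99518 (allL N99518 (tt N120008 D223267) (tt N105103 (iv0 F448805)) (tt N73510 F424957) (tt N97997 F424958) (tt N62414 (iv4 D202656)) (tt N73533 F424961) (tt N94602 F424959) (tt N97995 F424960))
theorem Q99520 : ∀ i, i < 99520 → P i := stepQ 99519 Q99519 (allL N99519 (tt N118451 (iv1 F510434)) (tt N118450 (iv0 F510433)) (tt N118452 (iv2 F510440)) (tt N62416 F424962) (tt N95069 F424967) (tt N62415 (iv5 D202657)) (tt N117166 F503714) (tt N100641 F429803))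
theorem Q99521 : ∀ i, i < 99521 → P i := stepQ 99520 Q99520 (allL N99520 (tt N105103 (iv1 F448806)) (tt N120008 F518534) (tt N97995 F424963) (tt N73443 (iv3 F424966)) (tt N62416 (iv4 D202658)) (tt N73527 F424964) (tt N95199 F424968) (tt N73510 F424965))
theorem Q99522 : ∀ i, i < 99522 → P i := stepQ 99521 Q99521 (allL N99521 (tt N100634 (iv1 F429772)) (tt N95700 (iv0 F424970)) (tt N100636 (iv2 F429777)) (tt N117166 (iv3 F503710)) (tt N95199 F424969) (tt N112550 (iv5 F481613)) (tt N62416 (iv6 D202659)) (tt N100571 (iv7 F429517)))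
theorem Q99523 : ∀ i, i < 99523 → P i := stepQ 99522 Q99522 (allL N99522 (tt N89274 F451769) (tt N91050 F451770) (tt N91069 F424973) (tt N62417 (iv3 D202660)) (tt N98491 (iv4 F424980)) (tt N90023 F424971) (tt N98490 F424979) (tt N91070 F424972))
theorem Q99524 : ∀ i, i < 99524 → P i := stepQ 99523 Q99523 (allL N99523 (tt N65364 F424976) (tt N70420 (iv0 F424977)) (tt N82274 F424974) (tt N98490 (iv3 F424978)) (tt N101428 F432952) (tt N116498 (iv5 F500456)) (tt N62417 (iv6 D202661)) (tt N82273 F424975))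
theorem Q99525 : ∀ i, i < 99525 → P i := stepQ 99524 Q99524 (allL N99524 (tt N118720 F511741) (tt N117591 (iv0 F505879)) (tt N120009 D223268) (tt N62419 (iv3 D202662)) (tt N113267 (iv4 F484789)) (tt N111416 F476251) (tt N113266 (iv6 F484786)) (tt N94649 F424981))
theorem Q99526 : ∀ i, i < 99526 → P i := stepQ 99525 Q99525 (allL N99525 (tt N91090 (iv1 F424983)) (tt N62422 (iv0 D202663)) (tt N105038 (iv2 F448504)) (tt N96147 F424982) (tt N115512 (iv4 F495571)) (tt N114711 (iv5 F491472)) (tt N73296 (iv6 F424985)) (tt N72417 F424984))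
theorem Q99527 : ∀ i, i < 99527 → P i := stepQ 99526 Q99526 (allL N99526 (tt N105038 (iv1 F448510)) (tt N72417 F424990) (tt N62422 (iv2 D202664)) (tt N74296 F424986) (tt N89287 F424987) (tt N113838 (iv5 F487372)) (tt N89905 F424988) (tt N91090 F424989))
theorem Q99528 : ∀ i, i < 99528 → P i := stepQ 99527 Q99527 (allL N99527 (tt N120010 D223269) (tt N114780 (iv0 F491819)) (tt N113838 (iv2 F487369)) (tt N62423 F424991) (tt N114653 (iv4 F491215)) (tt N62422 (iv5 D202665)) (tt N63974 F424992) (tt N114651 (iv7 F491208)))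
theorem Q99529 : ∀ i, i < 99529 → P i := stepQ 99528 Q99528 (allL N99528 (tt N62426 (iv1 F424994)) (tt N62423 (iv0 D202666)) (tt N119089 (iv2 F513732)) (tt N113326 (iv3 F485037)) (tt N108169 (iv4 F461376)) (tt N69781 F424993) (tt N105460 F450349) (tt N69780 (iv7 F424995)))
theorem Q99530 : ∀ i, i < 99530 → P i := stepQ 99529 Q99529 (allL N99529 (tt N62423 (iv1 D202667)) (tt N62426 F424996) (tt N69780 F424999) (tt N120011 D223270) (tt N108123 (iv4 F461211)) (tt N69724 F424997) (tt N96301 (iv6 F424998)) (tt N119089 (iv7 F513734)))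
theorem Q99531 : ∀ i, i < 99531 → P i := stepQ 99530 Q99530 (allL N99530 (tt N73543 F425002) (tt N72176 F425003) (tt N112542 (iv2 F481587)) (tt N114528 (iv3 F490612)) (tt N62423 (iv4 D202668)) (tt N73562 F425001) (tt N63975 F425000) (tt N114523 (iv7 F490587)))
theorem Q99532 : ∀ i, i < 99532 → P i := stepQ 99531 Q99531 (allL N99531 (tt N62425 (iv1 D202669)) (tt N74296 F425010) (tt N119950 (iv2 F518202)) (tt N108363 (iv3 F462260)) (tt N104721 (iv4 F446984)) (tt N104723 (iv5 F446991)) (tt N73305 (iv6 F425005)) (tt N69714 F425004))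
theorem Q99533 : ∀ i, i < 99533 → P i := stepQ 99532 Q99532 (allL N99532 (tt N69714 (iv1 F425011)) (tt N119950 F518207) (tt N62425 (iv2 D202670)) (tt N91090 F425006) (tt N74297 F425007) (tt N75145 F425008) (tt N96293 (iv6 F425012)) (tt N74296 F425009))
theorem Q99534 : ∀ i, i < 99534 → P i := stepQ 99533 Q99533 (allL N99533 (tt N72176 F425017) (tt N73543 F425018) (tt N114523 (iv2 F490584)) (tt N104698 (iv3 F446911)) (tt N62426 (iv4 D202671)) (tt N73554 F425016) (tt N95125 (iv6 F425019)) (tt N112542 (iv7 F481590)))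
theorem Q99535 : ∀ i, i < 99535 → P i := stepQ 99534 Q99534 (allL N99534 (tt N118818 (iv1 F512243)) (tt N112844 (iv0 F482922)) (tt N114522 (iv2 F490577)) (tt N104704 F446931) (tt N95125 F425020) (tt N83370 F425021) (tt N62426 (iv6 D202672)) (tt N63968 F425022))
theorem Q99536 : ∀ i, i < 99536 → P i := stepQ 99535 Q99535 (allL N99535 (tt N90044 F425026) (tt N90068 F425027) (tt N90116 F425023) (tt N62428 F425024) (tt N103683 (iv4 F442472)) (tt N62427 (iv5 D202673)) (tt N106248 (iv6 F453756)) (tt N71120 F425025))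
theorem Q99537 : ∀ i, i < 99537 → P i := stepQ 99536 Q99536 (allL N99536 (tt N108420 (iv1 F462495)) (tt N100015 (iv0 F427205)) (tt N73350 F425028) (tt N106248 (iv3 F453753)) (tt N108362 (iv4 F462257)) (tt N77659 F425029) (tt N62428 (iv6 D202674)) (tt N106246 (iv7 F453745)))
theorem Q99538 : ∀ i, i < 99538 → P i := stepQ 99537 Q99537 (allL N99537 (tt N105573 F450795) (tt N105577 F450820) (tt N71119 F425030) (tt N106243 (iv3 F453729)) (tt N119987 (iv4 F518404)) (tt N71118 (iv5 F425031)) (tt N62430 (iv6 D202675)) (tt N106244 (iv7 F453737)))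
theorem Q99539 : ∀ i, i < 99539 → P i := stepQ 99538 Q99538 (allL N99538 (tt N71667 (iv1 F425034)) (tt N62431 (iv0 D202676)) (tt N73344 (iv2 F425033)) (tt N96298 F425037) (tt N77696 F425032) (tt N106903 (iv5 F456215)) (tt N77694 (iv6 F425036)) (tt N73345 F425035))
theorem Q99540 : ∀ i, i < 99540 → P i := stepQ 99539 Q99539 (allL N99539 (tt N71442 F425047) (tt N71665 F425048) (tt N64555 F425042) (tt N71676 F425043) (tt N64541 F425044) (tt N62431 (iv5 D202677)) (tt N71118 F425045) (tt N71666 F425046))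
theorem Q99541 : ∀ i, i < 99541 → P i := stepQ 99540 Q99540 (allL N99540 (tt N75046 (iv1 F425053)) (tt N75045 F425056) (tt N62745 F425049) (tt N62434 (iv3 D202678)) (tt N73578 F425050) (tt N85567 F425054) (tt N76274 F425051) (tt N73351 F425052))
theorem Q99542 : ∀ i, i < 99542 → P i := stepQ 99541 Q99541 (allL N99541 (tt N72815 F425064) (tt N72812 F425065) (tt N62437 F425060) (tt N85567 F425061) (tt N73264 F425062) (tt N62434 (iv5 D202679)) (tt N114641 F491154) (tt N73352 F425063))
theorem Q99543 : ∀ i, i < 99543 → P i := stepQ 99542 Q99542 (allL N99542 (tt N77562 F425069) (tt N78689 (iv0 F425070)) (tt N73383 F425066) (tt N62837 F425067) (tt N62468 F425068) (tt N70661 (iv5 F425071)) (tt N62435 (iv6 D202680)) (tt N73721 F425072))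
theorem Q99544 : ∀ i, i < 99544 → P i := stepQ 99543 Q99543 (allL N99543 (tt N109463 (iv1 F467097)) (tt N96300 (iv0 F425075)) (tt N109102 (iv2 F465350)) (tt N62436 (iv3 D202681)) (tt N73694 F425073) (tt N107656 (iv5 F459108)) (tt N64767 (iv6 F425076)) (tt N73381 F425074))
theorem Q99545 : ∀ i, i < 99545 → P i := stepQ 99544 Q99544 (allL N99544 (tt N77662 F425082) (tt N79097 (iv0 F425080)) (tt N73380 F425077) (tt N64767 F425078) (tt N73692 F425079) (tt N113454 (iv5 F485560)) (tt N62436 (iv6 D202682)) (tt N79112 (iv7 F425081)))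
theorem Q99546 : ∀ i, i < 99546 → P i := stepQ 99545 Q99545 (allL N99545 (tt N96147 F425084) (tt N96125 F425085) (tt N96144 F425086) (tt N62439 (iv3 D202683)) (tt N108308 (iv4 F461994)) (tt N117057 (iv5 F503161)) (tt N76065 (iv6 F425087)) (tt N96145 F425083))
theorem Q99547 : ∀ i, i < 99547 → P i := stepQ 99546 Q99546 (allL N99546 (tt N120012 D223271) (tt N73385 F425089) (tt N108368 (iv2 F462282)) (tt N117057 (iv3 F503160)) (tt N79108 F425088) (tt N62439 (iv5 D202684)) (tt N88850 (iv6 F425090)) (tt N108370 (iv7 F462296)))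
theorem Q99548 : ∀ i, i < 99548 → P i := stepQ 99547 Q99547 (allL N99547 (tt N107939 (iv1 F460382)) (tt N107938 (iv0 F460374)) (tt N108369 (iv2 F462288)) (tt N76065 F425091) (tt N62440 F425092) (tt N76064 F425093) (tt N62439 (iv6 D202685)) (tt N109472 (iv7 F467144)))
theorem Q99549 : ∀ i, i < 99549 → P i := stepQ 99548 Q99548 (allL N99548 (tt N95943 F425095) (tt N95949 (iv0 F425096)) (tt N95947 F425097) (tt N62442 (iv3 D202686)) (tt N99593 (iv4 F425322)) (tt N120013 D223272) (tt N96270 F425105) (tt N95946 F425094))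
theorem Q99550 : ∀ i, i < 99550 → P i := stepQ 99549 Q99549 (allL N99549 (tt N73385 F425098) (tt N120012 F518558) (tt N108370 (iv2 F462294)) (tt N120013 (iv3 F518561)) (tt N116719 (iv4 F501483)) (tt N62442 (iv5 D202687)) (tt N120014 D223273) (tt N108368 (iv7 F462283)))
theorem Q99551 : ∀ i, i < 99551 → P i := stepQ 99550 Q99550 (allL N99550 (tt N74872 (iv1 F425103)) (tt N82163 (iv0 F425101)) (tt N72277 F425099) (tt N96270 (iv3 F425104)) (tt N62443 F425100) (tt N110390 (iv5 F471360)) (tt N62442 (iv6 D202688)) (tt N72279 (iv7 F425102)))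
theorem Q99552 : ∀ i, i < 99552 → P i := stepQ 99551 Q99551 (allL N99551 (tt N96170 F425113) (tt N118638 (iv0 F511281)) (tt N93703 F425106) (tt N62448 F425107) (tt N73478 F425108) (tt N107890 (iv5 F460141)) (tt N62447 (iv6 D202689)) (tt N81739 F425109))
theorem Q99553 : ∀ i, i < 99553 → P i := stepQ 99552 Q99552 (allL N99552 (tt N81674 F425117) (tt N81666 F425118) (tt N73748 F425114) (tt N107890 (iv3 F460140)) (tt N74656 F425115) (tt N62448 (iv5 D202690)) (tt N103275 (iv6 F440930)) (tt N81729 F425116))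
theorem Q99554 : ∀ i, i < 99554 → P i := stepQ 99553 Q99553 (allL N99553 (tt N72714 F425123) (tt N72711 F425124) (tt N73803 F425119) (tt N93702 F425120) (tt N66251 F425122) (tt N62450 (iv5 D202691)) (tt N66250 (iv6 F425126)) (tt N73739 F425121))
theorem Q99555 : ∀ i, i < 99555 → P i := stepQ 99554 Q99554 (allL N99554 (tt N73139 F425133) (tt N80480 (iv0 F425134)) (tt N62459 F425129) (tt N104920 (iv3 F447944)) (tt N62455 F425130) (tt N87146 F425131) (tt N62454 (iv6 D202692)) (tt N75262 F425132))
theorem Q99556 : ∀ i, i < 99556 → P i := stepQ 99555 Q99555 (allL N99555 (tt N69704 F425139) (tt N73404 F425138) (tt N73819 F425135) (tt N118288 (iv3 F509535)) (tt N62462 (iv4 D202693)) (tt N72490 F425137) (tt N111931 (iv6 F478727)) (tt N73818 F425136))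
theorem Q99557 : ∀ i, i < 99557 → P i := stepQ 99556 Q99556 (allL N99556 (tt N92885 F425141) (tt N92889 (iv0 F425142)) (tt N92887 F425143) (tt N62463 (iv3 D202694)) (tt N118288 (iv4 F509536)) (tt N116019 (iv5 F498087)) (tt N116005 (iv6 F498010)) (tt N92886 F425140))
theorem Q99558 : ∀ i, i < 99558 → P i := stepQ 99557 Q99557 (allL N99557 (tt N64214 F425147) (tt N73823 (iv0 F425148)) (tt N73821 F425144) (tt N62466 (iv3 D202695)) (tt N100289 (iv4 F428272)) (tt N108981 (iv5 F464755)) (tt N91560 (iv6 F425146)) (tt N73820 F425145))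
theorem Q99559 : ∀ i, i < 99559 → P i := stepQ 99558 Q99558 (allL N99558 (tt N74837 F425152) (tt N77444 (iv0 F425153)) (tt N78373 F425149) (tt N80334 F425154) (tt N62466 (iv4 D202696)) (tt N75769 F425151) (tt N119415 (iv6 F515499)) (tt N75768 F425150))
theorem Q99560 : ∀ i, i < 99560 → P i := stepQ 99559 Q99559 (allL N99559 (tt N64055 F425159) (tt N74999 (iv0 F425160)) (tt N75003 F425155) (tt N91560 F425156) (tt N119415 (iv4 F515498)) (tt N65285 F425157) (tt N62466 (iv6 D202697)) (tt N75004 F425158))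
theorem Q99561 : ∀ i, i < 99561 → P i := stepQ 99560 Q99560 (allL N99560 (tt N107564 F458770) (tt N108747 F463799) (tt N108748 (iv2 F463800)) (tt N62838 F425161) (tt N62469 (iv4 D202698)) (tt N91357 F425162) (tt N77441 F425163) (tt N73697 F425164))
theorem Q99562 : ∀ i, i < 99562 → P i := stepQ 99561 Q99561 (allL N99561 (tt N77628 F425169) (tt N81441 F425170) (tt N73866 F425165) (tt N73771 F425166) (tt N62470 (iv4 D202699)) (tt N109695 (iv5 F468149)) (tt N69633 F425167) (tt N73725 F425168))
theorem Q99563 : ∀ i, i < 99563 → P i := stepQ 99562 Q99562 (allL N99562 (tt N69988 F425175) (tt N77658 (iv0 F426426)) (tt N101317 F432635) (tt N72003 F425171) (tt N62471 (iv4 D202700)) (tt N73915 F425172) (tt N77563 F425173) (tt N73723 F425174))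
theorem Q99564 : ∀ i, i < 99564 → P i := stepQ 99563 Q99563 (allL N99563 (tt N69689 (iv1 F425182)) (tt N69693 F425181) (tt N62474 (iv2 D202701)) (tt N66452 F425176) (tt N73251 F425177) (tt N86797 F425178) (tt N96220 F425179) (tt N73626 F425180))
theorem Q99565 : ∀ i, i < 99565 → P i := stepQ 99564 Q99564 (allL N99564 (tt N62479 (iv1 F425186)) (tt N62475 (iv0 D202702)) (tt N73630 (iv2 F425185)) (tt N115727 (iv3 F496542)) (tt N92853 F425184) (tt N62674 F425183) (tt N88330 (iv6 F425188)) (tt N73629 F425187))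
theorem Q99566 : ∀ i, i < 99566 → P i := stepQ 99565 Q99565 (allL N99565 (tt N117411 F504902) (tt N117412 F504909) (tt N73644 F425189) (tt N86484 F425190) (tt N98403 F425191) (tt N110910 (iv5 F473745)) (tt N62475 (iv6 D202703)) (tt N86791 (iv7 F425193)))
theorem Q99567 : ∀ i, i < 99567 → P i := stepQ 99566 Q99566 (allL N99566 (tt N98296 F425198) (tt N75288 (iv0 F425199)) (tt N75346 F425194) (tt N62476 (iv3 D202704)) (tt N72814 F425195) (tt N95829 F425196) (tt N81286 F425200) (tt N73637 F425197))
theorem Q99568 : ∀ i, i < 99568 → P i := stepQ 99567 Q99567 (allL N99567 (tt N75408 F425205) (tt N81365 (iv0 F425207)) (tt N73645 F425201) (tt N81286 F425202) (tt N62477 F425203) (tt N76773 F425204) (tt N62476 (iv6 D202705)) (tt N73969 F425206))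
theorem Q99569 : ∀ i, i < 99569 → P i := stepQ 99568 Q99568 (allL N99568 (tt N62656 F425211) (tt N74166 F425212) (tt N73631 F425208) (tt N93121 (iv3 F425213)) (tt N62479 (iv4 D202706)) (tt N74452 F425209) (tt N93120 (iv6 F425214)) (tt N73643 F425210))
theorem Q99570 : ∀ i, i < 99570 → P i := stepQ 99569 Q99569 (allL N99569 (tt N97197 F425218) (tt N100529 (iv0 F429343)) (tt N73632 F425215) (tt N88357 F425216) (tt N93120 F425217) (tt N117505 (iv5 F505392)) (tt N62479 (iv6 D202707)) (tt N117574 (iv7 F505787)))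
theorem Q99571 : ∀ i, i < 99571 → P i := stepQ 99570 Q99570 (allL N99570 (tt N72313 (iv1 F425220)) (tt N62480 (iv0 D202708)) (tt N73633 (iv2 F425219)) (tt N97246 (iv3 F425222)) (tt N108266 (iv4 F461782)) (tt N95574 F425223) (tt N100504 (iv6 F429221)) (tt N73634 F425221))
theorem Q99572 : ∀ i, i < 99572 → P i := stepQ 99571 Q99571 (allL N99571 (tt N118881 (iv1 F512561)) (tt N108248 (iv0 F461678)) (tt N73635 F425225) (tt N111599 (iv3 F477101)) (tt N117915 (iv4 F507577)) (tt N62480 (iv5 D202709)) (tt N117505 (iv6 F505393)) (tt N101823 (iv7 F434519)))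
theorem Q99573 : ∀ i, i < 99573 → P i := stepQ 99572 Q99572 (allL N99572 (tt N104772 (iv1 F447193)) (tt N103008 (iv0 F439654)) (tt N73638 F425226) (tt N75351 F425227) (tt N62482 F425228) (tt N102696 F438233) (tt N62481 (iv6 D202710)) (tt N75616 F425229))
theorem Q99574 : ∀ i, i < 99574 → P i := stepQ 99573 Q99573 (allL N99573 (tt N91251 F425233) (tt N91250 (iv0 F425234)) (tt N71837 F425230) (tt N62487 F425231) (tt N115196 (iv4 F493973)) (tt N62486 (iv5 D202711)) (tt N111730 (iv6 F477708)) (tt N71839 F425232))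
theorem Q99575 : ∀ i, i < 99575 → P i := stepQ 99574 Q99574 (allL N99574 (tt N97352 (iv1 F425238)) (tt N97351 (iv0 F425239)) (tt N73668 F425235) (tt N111730 (iv3 F477710)) (tt N91201 F425236) (tt N110913 (iv5 F473758)) (tt N62487 (iv6 D202712)) (tt N97347 F425237))
theorem Q99576 : ∀ i, i < 99576 → P i := stepQ 99575 Q99575 (allL N99575 (tt N90658 F425242) (tt N71058 F425243) (tt N86351 F425240) (tt N62490 (iv3 D202713)) (tt N108229 (iv4 F461582)) (tt N113908 (iv5 F487728)) (tt N91371 (iv6 F466468)) (tt N90659 F425241))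
theorem Q99577 : ∀ i, i < 99577 → P i := stepQ 99576 Q99576 (allL N99576 (tt N76886 F425246) (tt N88207 F425247) (tt N88206 F425244) (tt N113908 (iv3 F487726)) (tt N96566 F425248) (tt N62490 (iv5 D202714)) (tt N102326 (iv6 F436743)) (tt N77789 F425245))
theorem Q99578 : ∀ i, i < 99578 → P i := stepQ 99577 Q99577 (allL N99577 (tt N75345 F425251) (tt N75277 (iv0 F425253)) (tt N75344 F425252) (tt N62491 (iv3 D202715)) (tt N62874 F425249) (tt N108443 (iv5 F462592)) (tt N112722 (iv6 F482359)) (tt N66997 F425250))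
theorem Q99579 : ∀ i, i < 99579 → P i := stepQ 99578 Q99578 (allL N99578 (tt N80334 F425257) (tt N78370 (iv0 F425259)) (tt N80333 F425258) (tt N62492 (iv3 D202716)) (tt N73119 F425254) (tt N105685 (iv5 F451242)) (tt N77462 F425255) (tt N73698 F425256))
theorem Q99580 : ∀ i, i < 99580 → P i := stepQ 99579 Q99579 (allL N99579 (tt N62511 (iv1 F425265)) (tt N62498 (iv0 D202717)) (tt N62509 (iv2 F425264)) (tt N75184 F425262) (tt N72779 F425261) (tt N85737 F425260) (tt N81504 F425263) (tt N62510 F425266))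
theorem Q99581 : ∀ i, i < 99581 → P i := stepQ 99580 Q99580 (allL N99580 (tt N112681 (iv1 F482142)) (tt N99609 (iv0 F425400)) (tt N82106 F425267) (tt N71569 F425268) (tt N110773 (iv4 F473130)) (tt N62502 (iv5 D202718)) (tt N71568 F425269) (tt N99066 F425270))
theorem Q99582 : ∀ i, i < 99582 → P i := stepQ 99581 Q99581 (allL N99581 (tt N99040 (iv1 F425275)) (tt N98884 (iv0 F425274)) (tt N98778 F425271) (tt N97033 F425272) (tt N97038 F425273) (tt N110678 (iv5 F472730)) (tt N62503 (iv6 D202719)) (tt N99041 F425276))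
theorem Q99583 : ∀ i, i < 99583 → P i := stepQ 99582 Q99582 (allL N99582 (tt N120015 D223274) (tt N119846 (iv0 F517673)) (tt N118302 (iv2 F509594)) (tt N99008 F425277) (tt N118868 (iv4 F512493)) (tt N107199 (iv5 F457434)) (tt N62504 (iv6 D202720)) (tt N118763 (iv7 F511951)))
theorem Q99584 : ∀ i, i < 99584 → P i := stepQ 99583 Q99583 (allL N99583 (tt N102697 (iv1 F438237)) (tt N64045 (iv0 F425280)) (tt N73713 F425278) (tt N101029 (iv3 F431358)) (tt N62508 F425279) (tt N103911 (iv5 F443331)) (tt N62507 (iv6 D202721)) (tt N103910 (iv7 F443326)))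
theorem Q99585 : ∀ i, i < 99585 → P i := stepQ 99584 Q99584 (allL N99584 (tt N81523 (iv1 F425286)) (tt N81522 (iv0 F425287)) (tt N75248 F425281) (tt N62509 (iv3 D202722)) (tt N72796 F425282) (tt N97527 F425283) (tt N67006 F425284) (tt N81515 F425285))
theorem Q99586 : ∀ i, i < 99586 → P i := stepQ 99585 Q99585 (allL N99585 (tt N106991 (iv1 F456548)) (tt N106993 F456559) (tt N82096 F425288) (tt N62513 (iv3 D202723)) (tt N82071 F425289) (tt N120016 D223275) (tt N75151 F425290) (tt N99836 (iv7 F426455)))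
theorem Q99587 : ∀ i, i < 99587 → P i := stepQ 99586 Q99586 (allL N99586 (tt N62922 F425293) (tt N110052 (iv0 F469747)) (tt N92479 F425291) (tt N120016 (iv3 F518570)) (tt N92475 F425292) (tt N62513 (iv5 D202724)) (tt N118945 F512899) (tt N99837 (iv7 F426460)))
theorem Q99588 : ∀ i, i < 99588 → P i := stepQ 99587 Q99587 (allL N99587 (tt N95685 F429473) (tt N95129 F425296) (tt N107670 (iv2 F459156)) (tt N62518 F425294) (tt N69992 F425295) (tt N62517 (iv5 D202725)) (tt N72176 F425297) (tt N108225 (iv7 F461558)))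
theorem Q99589 : ∀ i, i < 99589 → P i := stepQ 99588 Q99588 (allL N99588 (tt N116588 F500875) (tt N64953 F457849) (tt N107671 (iv2 F459163)) (tt N62519 F425298) (tt N62525 F425299) (tt N120017 D223276) (tt N62517 (iv6 D202726)) (tt N108233 (iv7 F461607)))
theorem Q99590 : ∀ i, i < 99590 → P i := stepQ 99589 Q99589 (allL N99589 (tt N64724 F425304) (tt N85662 (iv0 F425303)) (tt N106267 (iv2 F453807)) (tt N72176 F425300) (tt N83126 F425301) (tt N120018 D223277) (tt N62518 (iv6 D202727)) (tt N83123 F425302))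
theorem Q99591 : ∀ i, i < 99591 → P i := stepQ 99590 Q99590 (allL N99590 (tt N88013 F425309) (tt N90383 F425310) (tt N90382 F425306) (tt N120017 (iv3 F518576)) (tt N88009 F425308) (tt N62519 (iv5 D202728)) (tt N120018 (iv6 F518585)) (tt N90381 F425307))
theorem Q99592 : ∀ i, i < 99592 → P i := stepQ 99591 Q99591 (allL N99591 (tt N85549 F425313) (tt N85146 F425314) (tt N82913 F425311) (tt N109802 (iv3 F468687)) (tt N82642 F425312) (tt N62521 (iv5 D202729)) (tt N82641 (iv6 F425315)) (tt N107919 (iv7 F460289)))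
theorem Q99593 : ∀ i, i < 99593 → P i := stepQ 99592 Q99592 (allL N99592 (tt N76763 (iv1 F425321)) (tt N76755 F425320) (tt N80393 F425316) (tt N66563 F425317) (tt N62526 (iv4 D202730)) (tt N75861 F425319) (tt N107167 (iv6 F457293)) (tt N99212 F425318))
theorem Q99594 : ∀ i, i < 99594 → P i := stepQ 99593 Q99593 (allL N99593 (tt N116495 F500438) (tt N117279 F504256) (tt N117278 F504247) (tt N62527 (iv3 D202731)) (tt N99548 F425322) (tt N120019 D223278) (tt N82110 F457386) (tt N109921 (iv7 F469230)))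
theorem Q99595 : ∀ i, i < 99595 → P i := stepQ 99594 Q99594 (allL N99594 (tt N76794 F425323) (tt N72077 F425324) (tt N106594 (iv2 F454986)) (tt N120019 (iv3 F518589)) (tt N106016 (iv4 F452750)) (tt N62527 (iv5 D202732)) (tt N119893 (iv6 F517897)) (tt N106597 (iv7 F454997)))
theorem Q99596 : ∀ i, i < 99596 → P i := stepQ 99595 Q99595 (allL N99595 (tt N109822 (iv1 F468793)) (tt N62528 (iv0 D202733)) (tt N109923 F469242) (tt N106922 (iv3 F456292)) (tt N71501 F431869) (tt N106921 F456290) (tt N117237 (iv6 F504060)) (tt N109924 (iv7 F469246)))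
theorem Q99597 : ∀ i, i < 99597 → P i := stepQ 99596 Q99596 (allL N99596 (tt N62528 (iv1 D202734)) (tt N109822 (iv0 F468792)) (tt N109924 F469249) (tt N119894 F517902) (tt N71503 F425326) (tt N92590 F425325) (tt N120020 D223279) (tt N109923 F469244))
theorem Q99598 : ∀ i, i < 99598 → P i := stepQ 99597 Q99597 (allL N99597 (tt N67738 (iv1 F425331)) (tt N62529 (iv0 D202735)) (tt N74938 (iv2 F425330)) (tt N75203 F425328) (tt N74937 F425327) (tt N95844 F425329) (tt N120021 D223280) (tt N75208 F425332))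
theorem Q99599 : ∀ i, i < 99599 → P i := stepQ 99598 Q99598 (allL N99598 (tt N62530 (iv1 D202736)) (tt N63710 F425333) (tt N63700 F425339) (tt N66993 (iv3 F425337)) (tt N75887 (iv4 F425336)) (tt N63691 F425335) (tt N77577 (iv6 F425338)) (tt N63699 F425334))
theorem Q99600 : ∀ i, i < 99600 → P i := stepQ 99599 Q99599 (allL N99599 (tt N76586 F425346) (tt N76760 F425345) (tt N76759 F425340) (tt N75643 F425341) (tt N76591 F425342) (tt N62530 (iv5 D202737)) (tt N76726 F425343) (tt N76741 F425344))
theorem Q99601 : ∀ i, i < 99601 → P i := stepQ 99600 Q99600 (allL N99600 (tt N63700 (iv1 F425353)) (tt N63699 F425354) (tt N63710 F425348) (tt N76622 F425349) (tt N62532 F425350) (tt N76741 F425351) (tt N75155 F425352) (tt N62530 (iv7 D202738)))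
theorem Q99602 : ∀ i, i < 99602 → P i := stepQ 99601 Q99601 (allL N99601 (tt N65315 F425359) (tt N65314 F425360) (tt N65317 F425355) (tt N65309 F425356) (tt N62533 (iv4 D202739)) (tt N102832 (iv5 F438851)) (tt N65307 F425357) (tt N65309 F425358))
theorem Q99603 : ∀ i, i < 99603 → P i := stepQ 99602 Q99602 (allL N99602 (tt N62548 (iv1 F425362)) (tt N62535 (iv0 D202740)) (tt N62545 F425365) (tt N97627 (iv3 F425363)) (tt N66924 F425361) (tt N100379 (iv5 F428682)) (tt N103008 (iv6 F439652)) (tt N62546 F425364))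
theorem Q99604 : ∀ i, i < 99604 → P i := stepQ 99603 Q99603 (allL N99603 (tt N62535 (iv1 D202741)) (tt N62548 F425366) (tt N62546 (iv2 F425368)) (tt N65164 F425370) (tt N66926 (iv4 F425369)) (tt N100380 (iv5 F428690)) (tt N75159 (iv6 F428692)) (tt N62545 F425367))
theorem Q99605 : ∀ i, i < 99605 → P i := stepQ 99604 Q99604 (allL N99604 (tt N73592 F425375) (tt N73587 F425376) (tt N73967 F425371) (tt N111803 (iv3 F478050)) (tt N82872 F425374) (tt N62537 (iv5 D202742)) (tt N82871 F425372) (tt N75598 F425373))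
theorem Q99606 : ∀ i, i < 99606 → P i := stepQ 99605 Q99605 (allL N99605 (tt N74353 F425382) (tt N74339 F425383) (tt N75390 F425377) (tt N95831 F425378) (tt N92850 F425379) (tt N62544 (iv5 D202743)) (tt N92848 F425380) (tt N94091 F425381))
theorem Q99607 : ∀ i, i < 99607 → P i := stepQ 99606 Q99606 (allL N99606 (tt N65166 F425386) (tt N65162 F425389) (tt N65163 F425384) (tt N62545 (iv3 D202744)) (tt N78573 (iv4 F425387)) (tt N81991 F425388) (tt N104761 (iv6 F447149)) (tt N65164 F425385))
theorem Q99608 : ∀ i, i < 99608 → P i := stepQ 99607 Q99607 (allL N99607 (tt N73638 F425391) (tt N75616 F425393) (tt N103008 (iv2 F439651)) (tt N104761 (iv3 F447148)) (tt N103007 F439649) (tt N67972 (iv5 F425392)) (tt N62545 (iv6 D202745)) (tt N104772 (iv7 F447192)))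
theorem Q99609 : ∀ i, i < 99609 → P i := stepQ 99608 Q99608 (allL N99608 (tt N75163 (iv1 F425396)) (tt N75052 (iv0 F425395)) (tt N75159 F428693) (tt N110772 (iv3 F473123)) (tt N75904 F425394) (tt N110771 (iv5 F473121)) (tt N62546 (iv6 D202746)) (tt N75160 (iv7 F428696)))
theorem Q99610 : ∀ i, i < 99610 → P i := stepQ 99609 Q99609 (allL N99609 (tt N99580 F425400) (tt N82104 (iv0 F425401)) (tt N110023 (iv2 F469594)) (tt N62549 (iv3 D202747)) (tt N79513 F425397) (tt N77621 F425398) (tt N98893 F425399) (tt N110022 (iv7 F469590)))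
theorem Q99611 : ∀ i, i < 99611 → P i := stepQ 99610 Q99610 (allL N99610 (tt N69420 F425407) (tt N62679 (iv0 F425408)) (tt N72707 F425402) (tt N68564 F425403) (tt N67761 F425404) (tt N63776 F425405) (tt N62551 (iv6 D202748)) (tt N67758 F425406))
theorem Q99612 : ∀ i, i < 99612 → P i := stepQ 99611 Q99611 (allL N99611 (tt N111517 F476688) (tt N79335 (iv0 F425413)) (tt N64114 F425409) (tt N100393 (iv3 F428768)) (tt N64081 F425412) (tt N62552 (iv5 D202749)) (tt N64080 F425410) (tt N64110 F425411))
theorem Q99613 : ∀ i, i < 99613 → P i := stepQ 99612 Q99612 (allL N99612 (tt N72851 (iv1 F425418)) (tt N62566 (iv0 D202750)) (tt N74006 F425421) (tt N74010 F425417) (tt N98962 F425416) (tt N74010 F425415) (tt N93262 (iv6 F425419)) (tt N74005 (iv7 F425420)))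
theorem Q99614 : ∀ i, i < 99614 → P i := stepQ 99613 Q99613 (allL N99613 (tt N62566 (iv1 D202751)) (tt N72851 F425422) (tt N74005 (iv2 F425425)) (tt N117125 (iv3 F503520)) (tt N119835 (iv4 F517608)) (tt N74011 F425424) (tt N116017 (iv6 F498075)) (tt N74006 F425423))
theorem Q99615 : ∀ i, i < 99615 → P i := stepQ 99614 Q99614 (allL N99614 (tt N116671 (iv1 F501239)) (tt N120022 D223281) (tt N118168 (iv2 F508972)) (tt N65026 F425426) (tt N62566 (iv4 D202752)) (tt N107680 (iv5 F459206)) (tt N112597 F481767) (tt N74007 F425427))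
theorem Q99616 : ∀ i, i < 99616 → P i := stepQ 99615 Q99615 (allL N99615 (tt N66890 (iv1 F425433)) (tt N63184 F425432) (tt N62569 (iv2 D202753)) (tt N74003 F425428) (tt N109345 (iv4 F466492)) (tt N77450 F425429) (tt N78086 F425430) (tt N66906 F425431))
theorem Q99617 : ∀ i, i < 99617 → P i := stepQ 99616 Q99616 (allL N99616 (tt N117293 (iv1 F504325)) (tt N107503 (iv0 F458553)) (tt N101629 (iv2 F433615)) (tt N116575 (iv3 F500806)) (tt N62571 (iv4 D202754)) (tt N107288 (iv5 F457811)) (tt N101116 (iv6 F431758)) (tt N73995 F425434))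
theorem Q99618 : ∀ i, i < 99618 → P i := stepQ 99617 Q99617 (allL N99617 (tt N100508 (iv1 F429241)) (tt N104863 F447685) (tt N70548 F425435) (tt N80919 F425436) (tt N100898 (iv4 F430882)) (tt N62574 (iv5 D202755)) (tt N70522 F425437) (tt N94568 F425438))
theorem Q99619 : ∀ i, i < 99619 → P i := stepQ 99618 Q99618 (allL N99618 (tt N75179 (iv1 F425443)) (tt N62576 (iv0 D202756)) (tt N75495 (iv2 F425442)) (tt N72678 (iv3 F425445)) (tt N99352 F425440) (tt N80431 F425439) (tt N75511 F425441) (tt N72683 F425444))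
theorem Q99620 : ∀ i, i < 99620 → P i := stepQ 99619 Q99619 (allL N99619 (tt N118373 F509998) (tt N120023 D223282) (tt N93594 F425446) (tt N62580 F425447) (tt N72989 F425448) (tt N120024 D223283) (tt N62578 (iv6 D202757)) (tt N117521 (iv7 F505493)))
theorem Q99621 : ∀ i, i < 99621 → P i := stepQ 99620 Q99620 (allL N99620 (tt N120025 D223284) (tt N110470 F471731) (tt N74689 F425449) (tt N111552 (iv3 F476881)) (tt N74039 F425450) (tt N120026 D223285) (tt N62579 (iv6 D202758)) (tt N111550 (iv7 F476878)))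
theorem Q99622 : ∀ i, i < 99622 → P i := stepQ 99621 Q99621 (allL N99621 (tt N102996 (iv1 F439598)) (tt N119427 (iv0 F515560)) (tt N74691 F425451) (tt N120024 (iv3 F518617)) (tt N117495 (iv4 F505329)) (tt N62580 (iv5 D202759)) (tt N120026 (iv6 F518632)) (tt N117522 (iv7 F505499)))
theorem Q99623 : ∀ i, i < 99623 → P i := stepQ 99622 Q99622 (allL N99622 (tt N72701 F425456) (tt N77004 (iv0 F425457)) (tt N62586 F425452) (tt N72982 F425453) (tt N108724 (iv4 F463707)) (tt N78726 F425454) (tt N62584 (iv6 D202760)) (tt N82545 F425455))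
theorem Q99624 : ∀ i, i < 99624 → P i := stepQ 99623 Q99623 (allL N99623 (tt N101852 F434672) (tt N100080 (iv0 F427463)) (tt N108724 (iv2 F463705)) (tt N93592 F425458) (tt N62586 F425459) (tt N106121 F453221) (tt N62585 (iv6 D202761)) (tt N108726 (iv7 F463719)))
theorem Q99625 : ∀ i, i < 99625 → P i := stepQ 99624 Q99624 (allL N99624 (tt N109791 F468631) (tt N80441 (iv0 F425463)) (tt N78726 F425460) (tt N62589 F425461) (tt N80309 (iv4 F425464)) (tt N62586 (iv5 D202762)) (tt N78595 F425462) (tt N109769 (iv7 F468527)))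
theorem Q99626 : ∀ i, i < 99626 → P i := stepQ 99625 Q99625 (allL N99625 (tt N77004 (iv1 F425468)) (tt N72701 F425469) (tt N82545 F425465) (tt N62590 F425466) (tt N108726 (iv4 F463717)) (tt N109769 (iv5 F468526)) (tt N74688 F425467) (tt N62586 (iv7 D202763)))
theorem Q99627 : ∀ i, i < 99627 → P i := stepQ 99626 Q99626 (allL N99626 (tt N74676 (iv1 F425475)) (tt N62587 (iv0 D202764)) (tt N74673 (iv2 F425472)) (tt N108668 (iv3 F463462)) (tt N92602 F425471) (tt N87431 F425470) (tt N94430 (iv6 F425473)) (tt N74674 (iv7 F425474)))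
theorem Q99628 : ∀ i, i < 99628 → P i := stepQ 99627 Q99627 (allL N99627 (tt N62587 (iv1 D202765)) (tt N74676 F425476) (tt N74674 (iv2 F425481)) (tt N81109 (iv3 F425480)) (tt N72749 F425478) (tt N87430 F425479) (tt N76970 (iv6 F425482)) (tt N74673 F425477))
theorem Q99629 : ∀ i, i < 99629 → P i := stepQ 99628 Q99628 (allL N99628 (tt N87280 (iv1 F425487)) (tt N87285 F425486) (tt N74675 F425483) (tt N93593 F425484) (tt N88126 F425485) (tt N62587 (iv5 D202766)) (tt N115622 (iv6 F496016)) (tt N112306 (iv7 F480465)))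
theorem Q99630 : ∀ i, i < 99630 → P i := stepQ 99629 Q99629 (allL N99629 (tt N74674 (iv1 F425492)) (tt N74673 F425493) (tt N74676 F425488) (tt N93398 (iv3 F425494)) (tt N62590 F425490) (tt N112306 (iv5 F480461)) (tt N74692 F425491) (tt N62587 (iv7 D202767)))
theorem Q99631 : ∀ i, i < 99631 → P i := stepQ 99630 Q99630 (allL N99630 (tt N102740 (iv1 F438439)) (tt N102731 (iv0 F438394)) (tt N77727 F425496) (tt N95330 F425497) (tt N62591 (iv4 D202768)) (tt N77723 F425499) (tt N92369 (iv6 F425500)) (tt N74365 F425498))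
theorem Q99632 : ∀ i, i < 99632 → P i := stepQ 99631 Q99631 (allL N99631 (tt N106455 (iv1 F454524)) (tt N106447 (iv0 F454489)) (tt N117839 (iv2 F507205)) (tt N63176 F425501) (tt N92369 F425502) (tt N106448 (iv5 F454494)) (tt N62591 (iv6 D202769)) (tt N107498 (iv7 F458535)))
theorem Q99633 : ∀ i, i < 99633 → P i := stepQ 99632 Q99632 (allL N99632 (tt N74753 (iv1 F425508)) (tt N64344 F425507) (tt N62598 (iv2 D202770)) (tt N74752 F425503) (tt N76656 F425504) (tt N74752 F425505) (tt N85787 F425509) (tt N74754 F425506))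
theorem Q99634 : ∀ i, i < 99634 → P i := stepQ 99633 Q99633 (allL N99633 (tt N104762 (iv1 F447156)) (tt N104761 (iv0 F447151)) (tt N85787 F425510) (tt N62599 F425511) (tt N79283 F425512) (tt N67593 F425513) (tt N62598 (iv6 D202771)) (tt N104572 (iv7 F446339)))
theorem Q99635 : ∀ i, i < 99635 → P i := stepQ 99634 Q99634 (allL N99634 (tt N74760 (iv1 F425517)) (tt N62601 (iv0 D202772)) (tt N74759 (iv2 F425516)) (tt N79281 F425515) (tt N110308 (iv4 F470963)) (tt N74833 F425514) (tt N80188 (iv6 F425519)) (tt N74758 F425518))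
theorem Q99636 : ∀ i, i < 99636 → P i := stepQ 99635 Q99635 (allL N99635 (tt N74759 (iv1 F425525)) (tt N74758 F425524) (tt N62601 (iv2 D202773)) (tt N74756 F425520) (tt N75028 F425521) (tt N74756 F425522) (tt N103754 F442681) (tt N74760 F425523))
theorem Q99637 : ∀ i, i < 99637 → P i := stepQ 99636 Q99636 (allL N99636 (tt N101832 F434568) (tt N97097 (iv0 F425529)) (tt N103754 (iv2 F442678)) (tt N62602 F425526) (tt N75030 F425527) (tt N68233 F425528) (tt N62601 (iv6 D202774)) (tt N100793 (iv7 F430499)))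
theorem Q99638 : ∀ i, i < 99638 → P i := stepQ 99637 Q99637 (allL N99637 (tt N73014 F425533) (tt N65234 F425534) (tt N110842 F473414) (tt N68350 F425530) (tt N62606 (iv4 D202775)) (tt N110474 (iv5 F471753)) (tt N77470 F425531) (tt N74519 F425532))
theorem Q99639 : ∀ i, i < 99639 → P i := stepQ 99638 Q99638 (allL N99638 (tt N62611 (iv1 D202776)) (tt N67156 F425535) (tt N67157 F425540) (tt N73630 (iv3 F425538)) (tt N99674 (iv4 F425696)) (tt N62625 F425537) (tt N87102 (iv6 F425539)) (tt N67158 F425536))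
theorem Q99640 : ∀ i, i < 99640 → P i := stepQ 99639 Q99639 (allL N99639 (tt N106696 (iv1 F455317)) (tt N115809 F497009) (tt N97189 F425541) (tt N74092 F425542) (tt N62611 (iv4 D202777)) (tt N96840 F425545) (tt N97188 F425543) (tt N67159 F425544))
theorem Q99641 : ∀ i, i < 99641 → P i := stepQ 99640 Q99640 (allL N99640 (tt N97225 (iv1 F425547)) (tt N62612 (iv0 D202778)) (tt N97246 (iv2 F425548)) (tt N95406 F461691) (tt N78047 F425546) (tt N108652 (iv5 F463368)) (tt N95403 (iv6 F461692)) (tt N97245 (iv7 F425549)))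
theorem Q99642 : ∀ i, i < 99642 → P i := stepQ 99641 Q99641 (allL N99641 (tt N62612 (iv1 D202779)) (tt N97225 F425550) (tt N97245 (iv2 F425556)) (tt N73634 (iv3 F425554)) (tt N78048 F425553) (tt N95573 F425552) (tt N96834 (iv6 F425555)) (tt N97246 F425551))
theorem Q99643 : ∀ i, i < 99643 → P i := stepQ 99642 Q99642 (allL N99642 (tt N104870 F447726) (tt N104893 F447830) (tt N62618 F425557) (tt N74091 F425558) (tt N99316 F425559) (tt N120027 D223286) (tt N62616 (iv6 D202780)) (tt N104894 (iv7 F447835)))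
theorem Q99644 : ∀ i, i < 99644 → P i := stepQ 99643 Q99643 (allL N99643 (tt N104894 (iv1 F447836)) (tt N62618 (iv0 D202781)) (tt N104870 (iv2 F447725)) (tt N120028 D223287) (tt N120029 D223288) (tt N120030 D223289) (tt N68084 F425560) (tt N104893 (iv7 F447831)))
theorem Q99645 : ∀ i, i < 99645 → P i := stepQ 99644 Q99644 (allL N99644 (tt N62618 (iv1 D202782)) (tt N104894 F447837) (tt N104893 F447832) (tt N115513 (iv3 F495577)) (tt N90376 F447729) (tt N115594 (iv5 F495913)) (tt N90374 (iv6 F447728)) (tt N104870 F447727))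
theorem Q99646 : ∀ i, i < 99646 → P i := stepQ 99645 Q99645 (allL N99645 (tt N120031 D223290) (tt N120032 D223291) (tt N120027 (iv2 F518636)) (tt N62620 F425561) (tt N119323 (iv4 F515016)) (tt N62618 (iv5 D202783)) (tt N104990 (iv6 F448284)) (tt N104895 (iv7 F447839)))
theorem Q99647 : ∀ i, i < 99647 → P i := stepQ 99646 Q99646 (allL N99646 (tt N111641 F477275) (tt N120033 D223292) (tt N74102 F425562) (tt N104990 (iv3 F448283)) (tt N115862 (iv4 F497288)) (tt N62619 (iv5 D202784)) (tt N62620 F425563) (tt N115859 (iv7 F497271)))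
theorem Q99648 : ∀ i, i < 99648 → P i := stepQ 99647 Q99647 (allL N99647 (tt N74101 (iv1 F425567)) (tt N74100 F425568) (tt N74103 F425564) (tt N95742 F425565) (tt N99694 (iv4 F425773)) (tt N115859 (iv5 F497270)) (tt N74067 F425566) (tt N62619 (iv7 D202785)))
theorem Q99649 : ∀ i, i < 99649 → P i := stepQ 99648 Q99648 (allL N99648 (tt N74108 (iv1 F425570)) (tt N62620 (iv0 D202786)) (tt N74105 (iv2 F425576)) (tt N84574 (iv3 F425572)) (tt N84576 F425571) (tt N97618 F425569) (tt N87394 F425574) (tt N74106 F425575))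
theorem Q99650 : ∀ i, i < 99650 → P i := stepQ 99649 Q99649 (allL N99649 (tt N62620 (iv1 D202787)) (tt N74108 F425579) (tt N74106 (iv2 F425583)) (tt N87387 (iv3 F425584)) (tt N88074 F425582) (tt N97171 F425581) (tt N120034 D223293) (tt N74105 F425580))
theorem Q99651 : ∀ i, i < 99651 → P i := stepQ 99650 Q99650 (allL N99650 (tt N81167 (iv1 F425724)) (tt N115865 F497304) (tt N74107 F425585) (tt N87393 (iv3 F425586)) (tt N62620 (iv4 D202788)) (tt N103383 (iv5 F441385)) (tt N115862 (iv6 F497290)) (tt N104896 (iv7 F447843)))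
theorem Q99652 : ∀ i, i < 99652 → P i := stepQ 99651 Q99651 (allL N99651 (tt N97204 F425593) (tt N65828 F425592) (tt N74248 F425587) (tt N65653 F425588) (tt N87757 F425591) (tt N62621 (iv5 D202789)) (tt N65652 F425589) (tt N65698 F425590))
theorem Q99653 : ∀ i, i < 99653 → P i := stepQ 99652 Q99652 (allL N99652 (tt N97011 F425598) (tt N118265 F509436) (tt N72643 F425594) (tt N108083 F461041) (tt N62624 (iv4 D202790)) (tt N78040 F425597) (tt N99219 F425595) (tt N74087 F425596))
theorem Q99654 : ∀ i, i < 99654 → P i := stepQ 99653 Q99653 (allL N99653 (tt N74051 F425604) (tt N74204 F425605) (tt N74088 F425599) (tt N63458 F425600) (tt N76606 F425601) (tt N87103 F425602) (tt N62625 (iv6 D202791)) (tt N63495 F425603))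
theorem Q99655 : ∀ i, i < 99655 → P i := stepQ 99654 Q99654 (allL N99654 (tt N74093 F425609) (tt N74092 F425610) (tt N62627 F425606) (tt N74057 F425607) (tt N115727 (iv4 F496543)) (tt N62626 (iv5 D202792)) (tt N115726 (iv6 F496540)) (tt N74090 F425608))
theorem Q99656 : ∀ i, i < 99656 → P i := stepQ 99655 Q99655 (allL N99655 (tt N120035 D223294) (tt N95384 (iv0 F425614)) (tt N62628 F425611) (tt N74058 F425612) (tt N98886 F425613) (tt N119342 (iv5 F515117)) (tt N62626 (iv6 D202793)) (tt N120036 D223295))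
theorem Q99657 : ∀ i, i < 99657 → P i := stepQ 99656 Q99656 (allL N99656 (tt N106704 F455341) (tt N115485 (iv0 F495435)) (tt N115727 (iv2 F496541)) (tt N67157 F425615) (tt N62627 (iv4 D202794)) (tt N74086 F425617) (tt N87930 (iv6 F425618)) (tt N74094 F425616))
theorem Q99658 : ∀ i, i < 99658 → P i := stepQ 99657 Q99657 (allL N99657 (tt N88264 (iv1 F425622)) (tt N88266 (iv0 F425621)) (tt N115726 (iv2 F496536)) (tt N62629 F425619) (tt N87930 F425620) (tt N120037 D223296) (tt N62627 (iv6 D202795)) (tt N115724 (iv7 F496525)))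
theorem Q99659 : ∀ i, i < 99659 → P i := stepQ 99658 Q99658 (allL N99658 (tt N120036 (iv1 F518691)) (tt N62628 (iv0 D202796)) (tt N120035 F518683) (tt N95389 (iv3 F425624)) (tt N99225 (iv4 F425625)) (tt N120038 D223297) (tt N99277 F425623) (tt N95384 (iv7 F425626)))
theorem Q99660 : ∀ i, i < 99660 → P i := stepQ 99659 Q99659 (allL N99659 (tt N62628 (iv1 D202797)) (tt N120036 F518690) (tt N95384 F425628) (tt N74333 F425629) (tt N99215 F425630) (tt N120039 D223298) (tt N95380 (iv6 F425627)) (tt N120035 (iv7 F518684)))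
theorem Q99661 : ∀ i, i < 99661 → P i := stepQ 99660 Q99660 (allL N99660 (tt N119344 F515127) (tt N119340 (iv0 F515113)) (tt N119342 F515119) (tt N62632 F425631) (tt N120040 D223299) (tt N62628 (iv5 D202798)) (tt N120037 (iv6 F518693)) (tt N119339 (iv7 F515109)))
theorem Q99662 : ∀ i, i < 99662 → P i := stepQ 99661 Q99661 (allL N99661 (tt N95384 (iv1 F425635)) (tt N120035 F518685) (tt N120036 (iv2 F518686)) (tt N62633 F425632) (tt N98892 F425633) (tt N119339 (iv5 F515108)) (tt N74099 F425634) (tt N62628 (iv7 D202799)))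
theorem Q99663 : ∀ i, i < 99663 → P i := stepQ 99662 Q99662 (allL N99662 (tt N74067 (iv1 F425646)) (tt N62629 (iv0 D202800)) (tt N74064 (iv2 F425638)) (tt N115909 (iv3 F497539)) (tt N74100 F425636) (tt N115861 (iv5 F497282)) (tt N97168 F425637) (tt N74065 (iv7 F425639)))
theorem Q99664 : ∀ i, i < 99664 → P i := stepQ 99663 Q99663 (allL N99663 (tt N62629 (iv1 D202801)) (tt N74067 F425642) (tt N74065 F425645) (tt N120041 D223300) (tt N74101 (iv4 F425644)) (tt N115860 (iv5 F497274)) (tt N114238 (iv6 F489159)) (tt N74064 F425643))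
theorem Q99665 : ∀ i, i < 99665 → P i := stepQ 99664 Q99664 (allL N99664 (tt N120042 D223301) (tt N119355 (iv0 F515189)) (tt N74066 F425647) (tt N120037 (iv3 F518692)) (tt N117661 (iv4 F506276)) (tt N62629 (iv5 D202802)) (tt N62632 F425648) (tt N120043 D223302))
theorem Q99666 : ∀ i, i < 99666 → P i := stepQ 99665 Q99665 (allL N99665 (tt N74065 (iv1 F425651)) (tt N74064 F425652) (tt N74067 F425649) (tt N115724 (iv3 F496524)) (tt N99681 (iv4 F425717)) (tt N120043 (iv5 F518720)) (tt N74103 F425650) (tt N62629 (iv7 D202803)))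
theorem Q99667 : ∀ i, i < 99667 → P i := stepQ 99666 Q99666 (allL N99666 (tt N104884 F447801) (tt N106690 F462927) (tt N90569 F425653) (tt N62630 (iv3 D202804)) (tt N74242 F425654) (tt N115885 (iv5 F497409)) (tt N90567 F425655) (tt N74070 F425656))
theorem Q99668 : ∀ i, i < 99668 → P i := stepQ 99667 Q99667 (allL N99667 (tt N94447 F425660) (tt N94451 F425661) (tt N74069 F425657) (tt N115885 F497410) (tt N95353 F425659) (tt N62630 (iv5 D202805)) (tt N120032 F518665) (tt N74071 F425658))
theorem Q99669 : ∀ i, i < 99669 → P i := stepQ 99668 Q99668 (allL N99668 (tt N94451 F425666) (tt N94447 F425667) (tt N74071 F425662) (tt N81168 F425663) (tt N113655 (iv4 F486504)) (tt N62631 (iv5 D202806)) (tt N81167 F425664) (tt N74069 F425665))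
theorem Q99670 : ∀ i, i < 99670 → P i := stepQ 99669 Q99669 (allL N99669 (tt N84536 F425670) (tt N97131 F425671) (tt N74073 F425668) (tt N114842 (iv3 F492141)) (tt N62632 (iv4 D202807)) (tt N91306 F425669) (tt N117661 F506274) (tt N114205 (iv7 F488975)))
theorem Q99671 : ∀ i, i < 99671 → P i := stepQ 99670 Q99670 (allL N99670 (tt N74039 F425675) (tt N114132 (iv0 F488675)) (tt N114085 (iv2 F488525)) (tt N62634 (iv3 D202808)) (tt N74566 F425672) (tt N84577 (iv5 F425676)) (tt N87755 F425673) (tt N74075 F425674))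
theorem Q99672 : ∀ i, i < 99672 → P i := stepQ 99671 Q99671 (allL N99671 (tt N94441 F425682) (tt N94439 F425683) (tt N74078 F425677) (tt N84577 F425678) (tt N87394 F425681) (tt N62634 (iv5 D202809)) (tt N84576 F425679) (tt N74076 F425680))
theorem Q99673 : ∀ i, i < 99673 → P i := stepQ 99672 Q99672 (allL N99672 (tt N94397 F425686) (tt N94394 F425687) (tt N74115 F425684) (tt N107791 (iv3 F459739)) (tt N62636 (iv4 D202810)) (tt N118576 (iv5 F510984)) (tt N116054 (iv6 F498255)) (tt N74112 F425685))
theorem Q99674 : ∀ i, i < 99674 → P i := stepQ 99673 Q99673 (allL N99673 (tt N94394 F425691) (tt N94397 F425692) (tt N74112 F425688) (tt N92333 F425693) (tt N62637 (iv4 D202811)) (tt N119842 (iv5 F517650)) (tt N93692 F425689) (tt N74115 F425690))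
theorem Q99675 : ∀ i, i < 99675 → P i := stepQ 99674 Q99674 (allL N99674 (tt N74124 (iv1 F425699)) (tt N74123 F425698) (tt N62639 F425694) (tt N74141 F425695) (tt N99638 F425696) (tt N62638 (iv5 D202812)) (tt N114234 F489136) (tt N74117 F425697))
theorem Q99676 : ∀ i, i < 99676 → P i := stepQ 99675 Q99675 (allL N99675 (tt N103960 F443533) (tt N110962 F473981) (tt N62640 F425700) (tt N74142 F425701) (tt N117819 (iv4 F507114)) (tt N115527 (iv5 F495640)) (tt N62638 (iv6 D202813)) (tt N110963 (iv7 F473986)))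
theorem Q99677 : ∀ i, i < 99677 → P i := stepQ 99676 Q99676 (allL N99676 (tt N110963 (iv1 F473987)) (tt N62640 (iv0 D202814)) (tt N103960 (iv2 F443530)) (tt N117186 (iv3 F503815)) (tt N117032 (iv4 F503059)) (tt N114218 (iv5 F489045)) (tt N69435 F425702) (tt N110962 (iv7 F473982)))
theorem Q99678 : ∀ i, i < 99678 → P i := stepQ 99677 Q99677 (allL N99677 (tt N115528 F495648) (tt N115529 F495654) (tt N115527 F495642) (tt N62642 F425703) (tt N120044 D223303) (tt N62640 (iv5 D202815)) (tt N115818 (iv6 F497056)) (tt N110964 (iv7 F473990)))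
theorem Q99679 : ∀ i, i < 99679 → P i := stepQ 99678 Q99678 (allL N99678 (tt N74152 (iv1 F425713)) (tt N62641 (iv0 D202816)) (tt N74149 (iv2 F425709)) (tt N87142 F425711) (tt N99691 (iv4 F425758)) (tt N120045 D223304) (tt N87565 F425712) (tt N74150 (iv7 F425710)))
theorem Q99680 : ∀ i, i < 99680 → P i := stepQ 99679 Q99679 (allL N99679 (tt N62641 (iv1 D202817)) (tt N74152 F425704) (tt N74150 F425706) (tt N87539 F425707) (tt N99692 F425764) (tt N120046 D223305) (tt N87137 (iv6 F425705)) (tt N74149 F425708))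
theorem Q99681 : ∀ i, i < 99681 → P i := stepQ 99680 Q99680 (allL N99680 (tt N120047 D223306) (tt N120048 D223307) (tt N74151 F425714) (tt N115818 F497061) (tt N115969 (iv4 F497828)) (tt N62641 (iv5 D202818)) (tt N62642 F425715) (tt N115867 (iv7 F497316)))
theorem Q99682 : ∀ i, i < 99682 → P i := stepQ 99681 Q99681 (allL N99681 (tt N74150 (iv1 F425719)) (tt N74149 F425720) (tt N74152 F425716) (tt N114233 (iv3 F489127)) (tt N99665 F425717) (tt N115867 (iv5 F497315)) (tt N74133 F425718) (tt N62641 (iv7 D202819)))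
theorem Q99683 : ∀ i, i < 99683 → P i := stepQ 99682 Q99682 (allL N99682 (tt N69467 (iv1 F425723)) (tt N62642 (iv0 D202820)) (tt N74153 (iv2 F425725)) (tt N114789 (iv3 F491868)) (tt N81167 F425722) (tt N67351 F425721) (tt N113655 (iv6 F486505)) (tt N74154 (iv7 F425726)))
theorem Q99684 : ∀ i, i < 99684 → P i := stepQ 99683 Q99683 (allL N99683 (tt N62642 (iv1 D202821)) (tt N69467 F425727) (tt N74154 (iv2 F425730)) (tt N108452 (iv3 F462641)) (tt N115865 (iv4 F497302)) (tt N67353 F425729) (tt N117128 (iv6 F503531)) (tt N74153 F425728))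
theorem Q99685 : ∀ i, i < 99685 → P i := stepQ 99684 Q99684 (allL N99684 (tt N74040 F425734) (tt N106440 (iv0 F454448)) (tt N98883 (iv2 F425736)) (tt N62643 (iv3 D202822)) (tt N74080 F425735) (tt N78675 F425731) (tt N78652 F425732) (tt N74137 F425733))
theorem Q99686 : ∀ i, i < 99686 → P i := stepQ 99685 Q99685 (allL N99685 (tt N74144 F425741) (tt N74143 F425740) (tt N62646 F425737) (tt N74117 F425738) (tt N108790 (iv4 F463950)) (tt N62645 (iv5 D202823)) (tt N85720 F425742) (tt N74141 F425739))
theorem Q99687 : ∀ i, i < 99687 → P i := stepQ 99686 Q99686 (allL N99686 (tt N116460 F500251) (tt N117131 F503550) (tt N62647 F425743) (tt N74118 F425744) (tt N72468 F425745) (tt N115881 (iv5 F497386)) (tt N62645 (iv6 D202824)) (tt N117130 (iv7 F503544)))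
theorem Q99688 : ∀ i, i < 99688 → P i := stepQ 99687 Q99687 (allL N99687 (tt N91207 F425750) (tt N74461 F425751) (tt N108790 (iv2 F463948)) (tt N92200 F425746) (tt N62646 (iv4 D202825)) (tt N74772 F425749) (tt N83748 F425747) (tt N74145 F425748))
theorem Q99689 : ∀ i, i < 99689 → P i := stepQ 99688 Q99688 (allL N99688 (tt N62647 (iv1 D202826)) (tt N117130 F503545) (tt N117131 (iv2 F503546)) (tt N95449 F425753) (tt N119983 (iv4 F518383)) (tt N111461 (iv5 F476454)) (tt N95447 (iv6 F425752)) (tt N116460 (iv7 F500248)))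
theorem Q99690 : ∀ i, i < 99690 → P i := stepQ 99689 Q99689 (allL N99689 (tt N116810 (iv1 F501960)) (tt N119358 (iv0 F515204)) (tt N115881 (iv2 F497384)) (tt N62649 F425754) (tt N113917 F487781) (tt N62647 (iv5 D202827)) (tt N114854 (iv6 F492188)) (tt N115948 (iv7 F497730)))
theorem Q99691 : ∀ i, i < 99691 → P i := stepQ 99690 Q99690 (allL N99690 (tt N117131 (iv1 F503551)) (tt N116460 (iv0 F500250)) (tt N117130 F503541) (tt N62650 F425755) (tt N72474 F425756) (tt N115948 (iv5 F497729)) (tt N69466 F425757) (tt N62647 (iv7 D202828)))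
theorem Q99692 : ∀ i, i < 99692 → P i := stepQ 99691 Q99691 (allL N99691 (tt N74133 (iv1 F425767)) (tt N62648 (iv0 D202829)) (tt N74130 (iv2 F425760)) (tt N104843 (iv3 F447562)) (tt N99678 F425758) (tt N117662 (iv5 F506279)) (tt N97356 F425759) (tt N74131 (iv7 F425761)))
theorem Q99693 : ∀ i, i < 99693 → P i := stepQ 99692 Q99692 (allL N99692 (tt N62648 (iv1 D202830)) (tt N74133 F425762) (tt N74131 F425766) (tt N86768 F425768) (tt N99679 (iv4 F425764)) (tt N115643 (iv5 F496109)) (tt N81609 (iv6 F425765)) (tt N74130 F425763))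
theorem Q99694 : ∀ i, i < 99694 → P i := stepQ 99693 Q99693 (allL N99693 (tt N117659 F506263) (tt N120049 D223308) (tt N74132 F425769) (tt N114854 (iv3 F492187)) (tt N120050 D223309) (tt N62648 (iv5 D202831)) (tt N62649 F425770) (tt N120051 D223310))
theorem Q99695 : ∀ i, i < 99695 → P i := stepQ 99694 Q99694 (allL N99694 (tt N74131 (iv1 F425775)) (tt N74130 F425776) (tt N74133 F425771) (tt N85721 F425772) (tt N99647 F425773) (tt N120051 (iv5 F518774)) (tt N74152 F425774) (tt N62648 (iv7 D202832)))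
theorem Q99696 : ∀ i, i < 99696 → P i := stepQ 99695 Q99695 (allL N99695 (tt N108527 (iv1 F462954)) (tt N97223 F425779) (tt N74135 F425777) (tt N114215 (iv3 F489031)) (tt N62649 (iv4 D202833)) (tt N83771 F425778) (tt N120050 (iv6 F518766)) (tt N106820 (iv7 F455826)))
theorem Q99697 : ∀ i, i < 99697 → P i := stepQ 99696 Q99696 (allL N99696 (tt N62651 (iv1 D202834)) (tt N70905 F425780) (tt N71622 F425783) (tt N98883 (iv3 F425782)) (tt N105996 (iv4 F452677)) (tt N91250 (iv5 F425784)) (tt N117173 (iv6 F503752)) (tt N71621 F425781))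
theorem Q99698 : ∀ i, i < 99698 → P i := stepQ 99697 Q99697 (allL N99697 (tt N95501 F429227) (tt N108452 (iv0 F462643)) (tt N74164 F425785) (tt N87322 F425786) (tt N87323 (iv4 F425787)) (tt N62652 (iv5 D202835)) (tt N108275 (iv6 F461825)) (tt N110955 (iv7 F473953)))
theorem Q99699 : ∀ i, i < 99699 → P i := stepQ 99698 Q99698 (allL N99698 (tt N107797 F459764) (tt N95352 (iv0 F425790)) (tt N117116 (iv2 F503481)) (tt N62654 F425788) (tt N99350 F425789) (tt N117463 (iv5 F505162)) (tt N62653 (iv6 D202836)) (tt N117127 F503528))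
theorem Q99700 : ∀ i, i < 99700 → P i := stepQ 99699 Q99699 (allL N99699 (tt N62654 (iv1 D202837)) (tt N74159 F425791) (tt N72689 F425795) (tt N114085 (iv3 F488526)) (tt N62683 F425793) (tt N87354 F425796) (tt N82132 (iv6 F425794)) (tt N74157 F425792))
theorem Q99701 : ∀ i, i < 99701 → P i := stepQ 99700 Q99700 (allL N99700 (tt N76251 F425800) (tt N107229 (iv0 F457556)) (tt N74158 F425797) (tt N117463 F505164) (tt N87983 F425799) (tt N62654 (iv5 D202838)) (tt N95432 F425798) (tt N107240 (iv7 F457601)))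
theorem Q99702 : ∀ i, i < 99702 → P i := stepQ 99701 Q99701 (allL N99701 (tt N72689 (iv1 F425804)) (tt N74157 F425805) (tt N74159 F425801) (tt N117127 (iv3 F503526)) (tt N99346 F425802) (tt N107240 (iv5 F457602)) (tt N74165 F425803) (tt N62654 (iv7 D202839)))
theorem Q99703 : ∀ i, i < 99703 → P i := stepQ 99702 Q99702 (allL N99702 (tt N112120 (iv1 F479585)) (tt N117173 F503754) (tt N71647 F425806) (tt N62657 (iv3 D202840)) (tt N71635 F425809) (tt N95343 F425807) (tt N95445 (iv6 F425810)) (tt N71650 F425808))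
theorem Q99704 : ∀ i, i < 99704 → P i := stepQ 99703 Q99703 (allL N99703 (tt N82132 (iv1 F425816)) (tt N82131 (iv0 F425815)) (tt N96095 F425811) (tt N95445 F425812) (tt N107923 (iv4 F460309)) (tt N95037 F425813) (tt N62657 (iv6 D202841)) (tt N94411 F425814))
theorem Q99705 : ∀ i, i < 99705 → P i := stepQ 99704 Q99704 (allL N99704 (tt N90747 F425821) (tt N89254 F425822) (tt N90745 F425817) (tt N62660 F425818) (tt N97274 F425819) (tt N105948 (iv5 F452459)) (tt N62659 (iv6 D202842)) (tt N90746 F425820))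
theorem Q99706 : ∀ i, i < 99706 → P i := stepQ 99705 Q99705 (allL N99705 (tt N62660 (iv1 D202843)) (tt N74178 F425823) (tt N74176 (iv2 F425829)) (tt N87121 F425827) (tt N97162 F425825) (tt N90760 F425828) (tt N87117 (iv6 F425826)) (tt N74175 F425824))
theorem Q99707 : ∀ i, i < 99707 → P i := stepQ 99706 Q99706 (allL N99706 (tt N70233 F425834) (tt N70228 F425835) (tt N74177 F425830) (tt N105948 (iv3 F452456)) (tt N94529 F425831) (tt N62660 (iv5 D202844)) (tt N66526 F425832) (tt N97333 F425833))
theorem Q99708 : ∀ i, i < 99708 → P i := stepQ 99707 Q99707 (allL N99707 (tt N87117 F425840) (tt N87488 (iv0 F425839)) (tt N81648 F425836) (tt N113686 (iv3 F486626)) (tt N114237 (iv4 F489154)) (tt N98759 F425837) (tt N62661 (iv6 D202845)) (tt N87490 (iv7 F425838)))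
theorem Q99709 : ∀ i, i < 99709 → P i := stepQ 99708 Q99708 (allL N99708 (tt N102137 F435901) (tt N91933 (iv0 F425844)) (tt N79499 F425841) (tt N62663 F425842) (tt N107737 F459475) (tt N62662 (iv5 D202846)) (tt N71031 F425843) (tt N103962 (iv7 F443545)))
theorem Q99710 : ∀ i, i < 99710 → P i := stepQ 99709 Q99709 (allL N99709 (tt N71710 F425849) (tt N71712 (iv0 F425850)) (tt N71709 F425845) (tt N71031 F425846) (tt N81761 F425847) (tt N71030 F425848) (tt N62663 (iv6 D202847)) (tt N71708 F425851))
theorem Q99711 : ∀ i, i < 99711 → P i := stepQ 99710 Q99710 (allL N99710 (tt N91973 (iv1 F425857)) (tt N81588 (iv0 F425856)) (tt N78646 F425852) (tt N62665 (iv3 D202848)) (tt N96557 F425855) (tt N119320 (iv5 F515000)) (tt N80245 F425853) (tt N91978 F425854))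
theorem Q99712 : ∀ i, i < 99712 → P i := stepQ 99711 Q99711 (allL N99711 (tt N102185 (iv1 F436081)) (tt N71603 F425861) (tt N80229 F425858) (tt N112488 (iv3 F481309)) (tt N62665 (iv4 D202849)) (tt N67473 F425859) (tt N80421 F425860) (tt N102182 (iv7 F436074)))
theorem Q99713 : ∀ i, i < 99713 → P i := stepQ 99712 Q99712 (allL N99712 (tt N62667 (iv1 D202850)) (tt N81752 F425862) (tt N92039 (iv2 F425864)) (tt N80224 (iv3 F425865)) (tt N106692 (iv4 F455301)) (tt N67301 F425863) (tt N65655 (iv6 F425866)) (tt N106723 (iv7 F455414)))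
theorem Q99714 : ∀ i, i < 99714 → P i := stepQ 99713 Q99713 (allL N99713 (tt N62671 (iv1 F425870)) (tt N62668 (iv0 D202851)) (tt N97622 (iv2 F425869)) (tt N90546 (iv3 F425872)) (tt N67475 F425868) (tt N72140 F425867) (tt N103328 (iv6 F441156)) (tt N97617 F425871))
theorem Q99715 : ∀ i, i < 99715 → P i := stepQ 99714 Q99714 (allL N99714 (tt N74089 (iv1 F425878)) (tt N99236 F425877) (tt N62670 (iv2 D202852)) (tt N97040 F425873) (tt N99041 F425874) (tt N118300 (iv5 F509587)) (tt N68093 F425875) (tt N97038 F425876))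
theorem Q99716 : ∀ i, i < 99716 → P i := stepQ 99715 Q99715 (allL N99715 (tt N118106 (iv1 F508632)) (tt N119330 (iv0 F515057)) (tt N67466 F425879) (tt N79884 F425880) (tt N67465 F425881) (tt N68096 F425882) (tt N62671 (iv6 D202853)) (tt N117635 (iv7 F506126)))
theorem Q99717 : ∀ i, i < 99717 → P i := stepQ 99716 Q99716 (allL N99716 (tt N73953 F425886) (tt N77695 F425885) (tt N104157 (iv2 F444464)) (tt N62679 F425883) (tt N64394 (iv4 F425887)) (tt N62673 (iv5 D202854)) (tt N64392 F425884) (tt N104154 (iv7 F444451)))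
theorem Q99718 : ∀ i, i < 99718 → P i := stepQ 99717 Q99717 (allL N99717 (tt N96049 F425892) (tt N105995 (iv0 F452674)) (tt N74086 F425888) (tt N62674 (iv3 D202855)) (tt N72713 F425889) (tt N115727 (iv5 F496544)) (tt N63498 F425890) (tt N74323 F425891))
theorem Q99719 : ∀ i, i < 99719 → P i := stepQ 99718 Q99718 (allL N99718 (tt N74324 (iv1 F425897)) (tt N74055 F425896) (tt N62676 (iv2 D202856)) (tt N71347 F425893) (tt N72576 F425894) (tt N119577 (iv5 F516344)) (tt N104885 (iv6 F447803)) (tt N74325 F425895))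
theorem Q99720 : ∀ i, i < 99720 → P i := stepQ 99719 Q99719 (allL N99719 (tt N105034 (iv1 F448487)) (tt N105030 F448470) (tt N119577 F516347) (tt N62677 F425898) (tt N91178 F425900) (tt N62676 (iv5 D202857)) (tt N104985 F448271) (tt N74326 F425899))
theorem Q99721 : ∀ i, i < 99721 → P i := stepQ 99720 Q99720 (allL N99720 (tt N120028 F518644) (tt N116806 (iv0 F501940)) (tt N104885 (iv2 F447802)) (tt N62678 F425901) (tt N72578 F425902) (tt N120052 D223311) (tt N62676 (iv6 D202858)) (tt N110975 (iv7 F474034)))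
theorem Q99722 : ∀ i, i < 99722 → P i := stepQ 99721 Q99721 (allL N99721 (tt N74351 (iv1 F425905)) (tt N62678 (iv0 D202859)) (tt N74348 (iv2 F425906)) (tt N96928 (iv3 F425907)) (tt N73104 F425903) (tt N120053 D223312) (tt N65319 F425904) (tt N74349 (iv7 F425908)))
theorem Q99723 : ∀ i, i < 99723 → P i := stepQ 99722 Q99722 (allL N99722 (tt N62678 (iv1 D202860)) (tt N74351 F425909) (tt N74349 F425912) (tt N74097 F443607) (tt N73105 (iv4 F425913)) (tt N118918 (iv5 F512740)) (tt N63490 (iv6 F425911)) (tt N74348 F425910))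
theorem Q99724 : ∀ i, i < 99724 → P i := stepQ 99723 Q99723 (allL N99723 (tt N95487 F425915) (tt N120054 D223313) (tt N74350 F425914) (tt N120052 (iv3 F518779)) (tt N118154 (iv4 F508901)) (tt N62678 (iv5 D202861)) (tt N115394 (iv6 F494969)) (tt N110976 (iv7 F474036)))
theorem Q99725 : ∀ i, i < 99725 → P i := stepQ 99724 Q99724 (allL N99724 (tt N102820 (iv1 F438797)) (tt N67131 (iv0 F425918)) (tt N102823 F438811) (tt N62681 F425916) (tt N102061 (iv4 F435557)) (tt N62680 (iv5 D202862)) (tt N102067 (iv6 F435578)) (tt N74344 F425917))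
theorem Q99726 : ∀ i, i < 99726 → P i := stepQ 99725 Q99725 (allL N99725 (tt N90569 (iv1 F425923)) (tt N74070 (iv0 F425922)) (tt N106690 (iv2 F455291)) (tt N62682 F425919) (tt N75673 F425920) (tt N91440 F425921) (tt N62680 (iv6 D202863)) (tt N104884 (iv7 F447800)))
theorem Q99727 : ∀ i, i < 99727 → P i := stepQ 99726 Q99726 (allL N99726 (tt N74335 (iv1 F425932)) (tt N62682 (iv0 D202864)) (tt N74332 F425935) (tt N120035 (iv3 F518681)) (tt N108625 (iv4 F463259)) (tt N115890 (iv5 F497435)) (tt N118880 (iv6 F512551)) (tt N74333 F425934))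
theorem Q99728 : ∀ i, i < 99728 → P i := stepQ 99727 Q99727 (allL N99727 (tt N115892 (iv1 F497448)) (tt N115893 (iv0 F497453)) (tt N74334 F425924) (tt N91440 F425925) (tt N84510 F425926) (tt N62682 (iv5 D202865)) (tt N118896 (iv6 F512626)) (tt N87370 (iv7 F425927)))
theorem Q99729 : ∀ i, i < 99729 → P i := stepQ 99728 Q99728 (allL N99728 (tt N74333 (iv1 F425933)) (tt N74332 F425938) (tt N74335 F425928) (tt N104884 (iv3 F447798)) (tt N62684 F425929) (tt N87370 F425930) (tt N74351 F425931) (tt N62682 (iv7 D202866)))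
theorem Q99730 : ∀ i, i < 99730 → P i := stepQ 99729 Q99729 (allL N99729 (tt N73615 F425948) (tt N72404 F425947) (tt N72286 F425943) (tt N62689 F425944) (tt N117287 (iv4 F504293)) (tt N62687 (iv5 D202867)) (tt N72285 F425945) (tt N73614 F425946))
theorem Q99731 : ∀ i, i < 99731 → P i := stepQ 99730 Q99730 (allL N99730 (tt N73201 F425950) (tt N72642 F425951) (tt N109664 (iv2 F467994)) (tt N117288 (iv3 F504299)) (tt N62689 (iv4 D202868)) (tt N95348 F425949) (tt N99962 (iv6 F426972)) (tt N109920 (iv7 F469224)))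
theorem Q99732 : ∀ i, i < 99732 → P i := stepQ 99731 Q99731 (allL N99731 (tt N67149 F425955) (tt N98945 (iv0 F425956)) (tt N98944 F425958) (tt N62692 (iv3 D202869)) (tt N62693 F425952) (tt N110833 (iv5 F473356)) (tt N72674 F425953) (tt N76828 F425954))
theorem Q99733 : ∀ i, i < 99733 → P i := stepQ 99732 Q99732 (allL N99732 (tt N93586 F425961) (tt N93585 F425962) (tt N74721 F425959) (tt N108814 (iv3 F464086)) (tt N109344 (iv4 F466488)) (tt N62698 (iv5 D202870)) (tt N108813 F464080) (tt N74273 F425960))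
theorem Q99734 : ∀ i, i < 99734 → P i := stepQ 99733 Q99733 (allL N99733 (tt N74719 (iv1 F425965)) (tt N62699 (iv0 D202871)) (tt N74725 (iv2 F425964)) (tt N93705 F425963) (tt N118345 (iv4 F509818)) (tt N107864 (iv5 F460044)) (tt N92298 (iv6 F425967)) (tt N74724 F425966))
theorem Q99735 : ∀ i, i < 99735 → P i := stepQ 99734 Q99734 (allL N99734 (tt N120055 D223314) (tt N118604 (iv0 F511120)) (tt N117867 (iv2 F507346)) (tt N65861 F425968) (tt N107678 (iv4 F459198)) (tt N94220 F425969) (tt N62699 (iv6 D202872)) (tt N119841 (iv7 F517645)))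
theorem Q99736 : ∀ i, i < 99736 → P i := stepQ 99735 Q99735 (allL N99735 (tt N74145 F425975) (tt N108790 (iv0 F463953)) (tt N91207 F425970) (tt N62703 F425971) (tt N98277 F425974) (tt N62702 (iv5 D202873)) (tt N83758 F425972) (tt N74461 F425973))
theorem Q99737 : ∀ i, i < 99737 → P i := stepQ 99736 Q99736 (allL N99736 (tt N76639 F425980) (tt N76636 (iv0 F425981)) (tt N74476 F425976) (tt N83758 F425977) (tt N98274 F425978) (tt N79911 F425979) (tt N62703 (iv6 D202874)) (tt N91203 (iv7 F425982)))
theorem Q99738 : ∀ i, i < 99738 → P i := stepQ 99737 Q99737 (allL N99737 (tt N110792 (iv1 F473200)) (tt N62705 (iv0 D202875)) (tt N66728 (iv2 F425983)) (tt N72281 F425984) (tt N62965 (iv4 F425987)) (tt N99439 F425985) (tt N116209 F499034) (tt N99438 F425986))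
theorem Q99739 : ∀ i, i < 99739 → P i := stepQ 99738 Q99738 (allL N99738 (tt N108356 (iv1 F462228)) (tt N98280 F425992) (tt N75559 F425988) (tt N62707 F425989) (tt N75533 F425991) (tt N62706 (iv5 D202876)) (tt N94139 (iv6 F425993)) (tt N74474 F425990))
theorem Q99740 : ∀ i, i < 99740 → P i := stepQ 99739 Q99739 (allL N99739 (tt N109679 F468070) (tt N79087 (iv0 F425995)) (tt N109665 (iv2 F468001)) (tt N62708 F425994) (tt N99873 (iv4 F426636)) (tt N109371 (iv5 F466626)) (tt N62706 (iv6 D202877)) (tt N109370 F466622))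
theorem Q99741 : ∀ i, i < 99741 → P i := stepQ 99740 Q99740 (allL N99740 (tt N78296 (iv1 F426000)) (tt N68270 (iv0 F425999)) (tt N74464 F425996) (tt N94139 F425997) (tt N98358 F425998) (tt N112030 (iv5 F479154)) (tt N62707 (iv6 D202878)) (tt N78294 (iv7 F426001)))
theorem Q99742 : ∀ i, i < 99742 → P i := stepQ 99741 Q99741 (allL N99741 (tt N74468 (iv1 F426006)) (tt N62708 (iv0 D202879)) (tt N74465 (iv2 F426005)) (tt N79937 (iv3 F426008)) (tt N74765 F426003) (tt N86212 F426002) (tt N84719 F426004) (tt N74466 F426007))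
theorem Q99743 : ∀ i, i < 99743 → P i := stepQ 99742 Q99742 (allL N99742 (tt N110942 F473891) (tt N119544 (iv0 F516167)) (tt N74467 F426009) (tt N109371 (iv3 F466624)) (tt N120056 D223315) (tt N62708 (iv5 D202880)) (tt N112030 (iv6 F479157)) (tt N76672 F426010))
theorem Q99744 : ∀ i, i < 99744 → P i := stepQ 99743 Q99743 (allL N99743 (tt N62712 (iv1 D202881)) (tt N74819 F426011) (tt N66722 F426014) (tt N113706 (iv3 F486741)) (tt N108803 (iv4 F464024)) (tt N87463 (iv5 F426013)) (tt N66719 (iv6 F426015)) (tt N74820 F426012))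
theorem Q99745 : ∀ i, i < 99745 → P i := stepQ 99744 Q99744 (allL N99744 (tt N80145 F426019) (tt N100017 (iv0 F427215)) (tt N91308 F426016) (tt N82037 F426017) (tt N62712 (iv4 D202882)) (tt N109050 (iv5 F465104)) (tt N98107 (iv6 F426020)) (tt N74821 F426018))
theorem Q99746 : ∀ i, i < 99746 → P i := stepQ 99745 Q99745 (allL N99745 (tt N104259 (iv1 F444994)) (tt N111257 (iv0 F475481)) (tt N65087 F426021) (tt N62713 F426022) (tt N98107 F426023) (tt N63079 F426024) (tt N62712 (iv6 D202883)) (tt N109383 (iv7 F466685)))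
theorem Q99747 : ∀ i, i < 99747 → P i := stepQ 99746 Q99746 (allL N99746 (tt N109799 (iv1 F468666)) (tt N98401 (iv0 F426028)) (tt N104920 (iv2 F447943)) (tt N62717 F426025) (tt N73960 F426026) (tt N100659 (iv5 F429886)) (tt N62716 (iv6 D202884)) (tt N98398 F426027))
theorem Q99748 : ∀ i, i < 99748 → P i := stepQ 99747 Q99747 (allL N99747 (tt N98355 F426032) (tt N98356 F426033) (tt N98411 F426029) (tt N68430 F426030) (tt N86791 (iv4 F426035)) (tt N62723 (iv5 D202885)) (tt N95869 F426034) (tt N98403 F426031))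
theorem Q99749 : ∀ i, i < 99749 → P i := stepQ 99748 Q99748 (allL N99748 (tt N98356 F426041) (tt N98355 F426042) (tt N98403 F426037) (tt N64191 F426038) (tt N73644 (iv4 F426043)) (tt N62724 (iv5 D202886)) (tt N73643 F426039) (tt N98411 F426040))
theorem Q99750 : ∀ i, i < 99750 → P i := stepQ 99749 Q99749 (allL N99749 (tt N91202 F426049) (tt N91196 F426051) (tt N91200 F426045) (tt N92032 F426046) (tt N97347 F426050) (tt N62726 (iv5 D202887)) (tt N97346 F426047) (tt N91201 F426048))
theorem Q99751 : ∀ i, i < 99751 → P i := stepQ 99750 Q99750 (allL N99750 (tt N104218 F444760) (tt N76303 (iv0 F426055)) (tt N96233 F426052) (tt N62728 (iv3 D202888)) (tt N96241 F426053) (tt N109739 (iv5 F468371)) (tt N76263 F426054) (tt N105096 (iv7 F448770)))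
theorem Q99752 : ∀ i, i < 99752 → P i := stepQ 99751 Q99751 (allL N99751 (tt N91196 F426060) (tt N91202 F426059) (tt N91201 F426056) (tt N109739 (iv3 F468369)) (tt N73668 (iv4 F426061)) (tt N62728 (iv5 D202889)) (tt N73667 F426057) (tt N91200 F426058))
theorem Q99753 : ∀ i, i < 99753 → P i := stepQ 99752 Q99752 (allL N99752 (tt N108335 (iv1 F462126)) (tt N108334 (iv0 F462121)) (tt N75922 F426062) (tt N95846 F426063) (tt N62729 (iv4 D202890)) (tt N95880 F426066) (tt N75856 F426064) (tt N96761 F426065))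
theorem Q99754 : ∀ i, i < 99754 → P i := stepQ 99753 Q99753 (allL N99753 (tt N79126 F426069) (tt N88197 F426070) (tt N101133 (iv2 F431847)) (tt N62730 (iv3 D202891)) (tt N99849 (iv4 F426518)) (tt N87701 F426067) (tt N66747 F426068) (tt N109490 (iv7 F467241)))
theorem Q99755 : ∀ i, i < 99755 → P i := stepQ 99754 Q99754 (allL N99754 (tt N87714 F426072) (tt N109250 F465992) (tt N109248 F465984) (tt N95882 F426073) (tt N62730 (iv4 D202892)) (tt N100524 (iv5 F429320)) (tt N66748 F426071) (tt N109247 F465981))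
theorem Q99756 : ∀ i, i < 99756 → P i := stepQ 99755 Q99755 (allL N99755 (tt N75998 F426078) (tt N78128 F426079) (tt N82162 F426074) (tt N64643 F426075) (tt N62735 (iv4 D202893)) (tt N65286 F426076) (tt N99909 (iv6 F426772)) (tt N74851 F426077))
theorem Q99757 : ∀ i, i < 99757 → P i := stepQ 99756 Q99756 (allL N99756 (tt N70710 (iv1 F426081)) (tt N62736 (iv0 D202894)) (tt N75040 (iv2 F426080)) (tt N119508 (iv3 F515972)) (tt N104635 (iv4 F446627)) (tt N105916 F452334) (tt N70696 F426083) (tt N75041 F426082))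
theorem Q99758 : ∀ i, i < 99758 → P i := stepQ 99757 Q99757 (allL N99757 (tt N75028 (iv1 F426088)) (tt N62738 (iv0 D202895)) (tt N75027 (iv2 F426089)) (tt N76944 F426086) (tt N98138 F426084) (tt N96477 F426085) (tt N76943 F426087) (tt N75026 (iv7 F426090)))
theorem Q99759 : ∀ i, i < 99759 → P i := stepQ 99758 Q99758 (allL N99758 (tt N62738 (iv1 D202896)) (tt N75028 F426091) (tt N75026 (iv2 F426093)) (tt N100168 (iv3 F427807)) (tt N108252 (iv4 F461703)) (tt N109196 (iv5 F465749)) (tt N109228 (iv6 F465870)) (tt N75027 F426092))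
theorem Q99760 : ∀ i, i < 99760 → P i := stepQ 99759 Q99759 (allL N99759 (tt N96548 F426098) (tt N109454 (iv0 F467040)) (tt N83938 F426094) (tt N62739 F426095) (tt N118950 (iv4 F512929)) (tt N62738 (iv5 D202897)) (tt N83936 F426096) (tt N75029 F426097))
theorem Q99761 : ∀ i, i < 99761 → P i := stepQ 99760 Q99760 (allL N99760 (tt N63008 F426102) (tt N74994 (iv0 F426103)) (tt N63068 F426099) (tt N74870 F426100) (tt N113704 (iv4 F486728)) (tt N69418 F426101) (tt N62741 (iv6 D202898)) (tt N100142 (iv7 F427662)))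
theorem Q99762 : ∀ i, i < 99762 → P i := stepQ 99761 Q99761 (allL N99761 (tt N113113 F484027) (tt N120057 D223316) (tt N75034 F426104) (tt N83945 F426105) (tt N119474 (iv4 F515805)) (tt N89776 (iv5 F426107)) (tt N62743 (iv6 D202899)) (tt N83942 F426106))
theorem Q99763 : ∀ i, i < 99763 → P i := stepQ 99762 Q99762 (allL N99762 (tt N63046 (iv1 F426110)) (tt N62744 (iv0 D202900)) (tt N75035 (iv2 F426109)) (tt N75425 (iv3 F426112)) (tt N75428 F426108) (tt N109845 (iv5 F468874)) (tt N101755 (iv6 F434200)) (tt N75036 F426111))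
theorem Q99764 : ∀ i, i < 99764 → P i := stepQ 99763 Q99763 (allL N99763 (tt N94126 F426119) (tt N109803 F468694) (tt N75037 F426114) (tt N89057 F426115) (tt N98258 F426116) (tt N62744 (iv5 D202901)) (tt N89776 F426117) (tt N75639 F426118))
theorem Q99765 : ∀ i, i < 99765 → P i := stepQ 99764 Q99764 (allL N99764 (tt N73351 (iv1 F426122)) (tt N62745 (iv0 D202902)) (tt N75046 F426124) (tt N105116 (iv3 F448870)) (tt N98519 (iv4 F426123)) (tt N109363 (iv5 F466587)) (tt N105115 F448868) (tt N75045 F426125))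
theorem Q99766 : ∀ i, i < 99766 → P i := stepQ 99765 Q99765 (allL N99765 (tt N62745 (iv1 D202903)) (tt N73351 F426126) (tt N75045 F426129) (tt N110336 (iv3 F471106)) (tt N98520 (iv4 F426128)) (tt N109387 (iv5 F466707)) (tt N100758 (iv6 F430325)) (tt N75046 F426127))
theorem Q99767 : ∀ i, i < 99767 → P i := stepQ 99766 Q99766 (allL N99766 (tt N85566 (iv1 F426136)) (tt N85568 (iv0 F426135)) (tt N85567 F426130) (tt N62746 F426131) (tt N85131 (iv4 F426133)) (tt N62745 (iv5 D202904)) (tt N85130 F426134) (tt N75047 F426132))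
theorem Q99768 : ∀ i, i < 99768 → P i := stepQ 99767 Q99767 (allL N99767 (tt N120058 D223317) (tt N105458 (iv0 F450346)) (tt N62762 F426137) (tt N85130 F426138) (tt N75093 F426139) (tt N114732 (iv5 F491573)) (tt N62746 (iv6 D202905)) (tt N120059 D223318))
theorem Q99769 : ∀ i, i < 99769 → P i := stepQ 99768 Q99768 (allL N99768 (tt N75103 F426143) (tt N109453 F467035) (tt N62768 F426140) (tt N111836 (iv3 F478220)) (tt N62749 (iv4 D202906)) (tt N113924 (iv5 F487813)) (tt N82953 F426141) (tt N62766 F426142))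
theorem Q99770 : ∀ i, i < 99770 → P i := stepQ 99769 Q99769 (allL N99769 (tt N75121 (iv1 F426150)) (tt N75120 F426149) (tt N62751 (iv2 D202907)) (tt N75108 F426144) (tt N88038 F426145) (tt N85846 F426146) (tt N88036 F426147) (tt N75122 F426148))
theorem Q99771 : ∀ i, i < 99771 → P i := stepQ 99770 Q99770 (allL N99770 (tt N75117 (iv1 F426156)) (tt N62753 (iv0 D202908)) (tt N75114 (iv2 F426153)) (tt N91171 F426154) (tt N65102 F426151) (tt N114637 (iv5 F491132)) (tt N77648 F426152) (tt N75115 F426155))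
theorem Q99772 : ∀ i, i < 99772 → P i := stepQ 99771 Q99771 (allL N99771 (tt N120060 D223319) (tt N116250 (iv0 F499214)) (tt N75116 F426157) (tt N107327 F457981) (tt N107336 (iv4 F458003)) (tt N62753 (iv5 D202909)) (tt N114269 (iv6 F489313)) (tt N114024 (iv7 F488245)))
theorem Q99773 : ∀ i, i < 99773 → P i := stepQ 99772 Q99772 (allL N99772 (tt N75115 (iv1 F426162)) (tt N75114 F426163) (tt N75117 F426158) (tt N87969 F426159) (tt N62756 F426160) (tt N114024 (iv5 F488243)) (tt N75128 F426161) (tt N62753 (iv7 D202910)))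
theorem Q99774 : ∀ i, i < 99774 → P i := stepQ 99773 Q99773 (allL N99773 (tt N77666 F426168) (tt N77622 (iv0 F426169)) (tt N69621 F426164) (tt N74934 F426165) (tt N80826 F426170) (tt N62754 (iv5 D202911)) (tt N67904 F426166) (tt N75119 F426167))
theorem Q99775 : ∀ i, i < 99775 → P i := stepQ 99774 Q99774 (allL N99774 (tt N75135 (iv1 F426176)) (tt N62757 (iv0 D202912)) (tt N75134 (iv2 F426175)) (tt N84277 F426172) (tt N86781 F426173) (tt N85572 F426171) (tt N84275 (iv6 F426178)) (tt N75133 F426177))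
theorem Q99776 : ∀ i, i < 99776 → P i := stepQ 99775 Q99775 (allL N99775 (tt N85572 F426182) (tt N113848 F487436) (tt N105036 (iv2 F448493)) (tt N62760 (iv3 D202913)) (tt N72416 F426179) (tt N62999 F426180) (tt N113853 (iv6 F487462)) (tt N75141 F426181))
theorem Q99777 : ∀ i, i < 99777 → P i := stepQ 99776 Q99776 (allL N99776 (tt N107610 F458943) (tt N114342 F489714) (tt N75140 F426184) (tt N113853 (iv3 F487460)) (tt N119470 (iv4 F515787)) (tt N120061 D223320) (tt N62760 (iv6 D202914)) (tt N113850 (iv7 F487446)))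
theorem Q99778 : ∀ i, i < 99778 → P i := stepQ 99777 Q99777 (allL N99777 (tt N120059 (iv1 F518829)) (tt N62762 (iv0 D202915)) (tt N120058 F518821) (tt N105461 (iv3 F450703)) (tt N90108 F426185) (tt N112752 (iv5 F482493)) (tt N120062 D223321) (tt N105458 F450704))
theorem Q99779 : ∀ i, i < 99779 → P i := stepQ 99778 Q99778 (allL N99778 (tt N62762 (iv1 D202916)) (tt N120059 F518828) (tt N105458 (iv2 F450344)) (tt N114702 (iv3 F491423)) (tt N92865 (iv4 F426186)) (tt N114701 F491421) (tt N105456 (iv6 F450342)) (tt N120058 (iv7 F518822)))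
theorem Q99780 : ∀ i, i < 99780 → P i := stepQ 99779 Q99779 (allL N99779 (tt N120063 D223322) (tt N120064 D223323) (tt N114732 (iv2 F491571)) (tt N109559 (iv3 F467518)) (tt N114725 (iv4 F491548)) (tt N62762 (iv5 D202917)) (tt N62764 F426187) (tt N116757 (iv7 F501666)))
theorem Q99781 : ∀ i, i < 99781 → P i := stepQ 99780 Q99780 (allL N99780 (tt N105458 (iv1 F450347)) (tt N120058 F518823) (tt N120059 (iv2 F518824)) (tt N114642 (iv3 F491161)) (tt N116867 (iv4 F502254)) (tt N116757 (iv5 F501665)) (tt N75147 F426188) (tt N62762 (iv7 D202918)))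
theorem Q99782 : ∀ i, i < 99782 → P i := stepQ 99781 Q99781 (allL N99781 (tt N101275 (iv1 F432491)) (tt N101274 (iv0 F432490)) (tt N101276 (iv2 F432497)) (tt N84172 F426189) (tt N83510 F426190) (tt N62763 (iv5 D202919)) (tt N115530 (iv6 F495657)) (tt N101271 (iv7 F432471)))
theorem Q99783 : ∀ i, i < 99783 → P i := stepQ 99782 Q99782 (allL N99782 (tt N84309 (iv1 F426194)) (tt N62764 (iv0 D202920)) (tt N113486 (iv2 F485720)) (tt N101278 F432509) (tt N82710 F426192) (tt N75653 F426191) (tt N120065 D223324) (tt N82842 (iv7 F426193)))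
theorem Q99784 : ∀ i, i < 99784 → P i := stepQ 99783 Q99783 (allL N99783 (tt N62764 (iv1 D202921)) (tt N84309 F426195) (tt N82842 (iv2 F426198)) (tt N89407 (iv3 F426199)) (tt N76098 F426197) (tt N75654 F426196) (tt N100036 (iv6 F427318)) (tt N113486 (iv7 F485723)))
theorem Q99785 : ∀ i, i < 99785 → P i := stepQ 99784 Q99784 (allL N99784 (tt N82842 (iv1 F426204)) (tt N113486 (iv0 F485724)) (tt N84309 F426200) (tt N73929 F426201) (tt N84078 F426202) (tt N62765 F426203) (tt N120066 D223325) (tt N62764 (iv7 D202922)))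
theorem Q99786 : ∀ i, i < 99786 → P i := stepQ 99785 Q99785 (allL N99785 (tt N62768 (iv1 F426206)) (tt N62766 (iv0 D202923)) (tt N109453 (iv2 F467031)) (tt N100572 F429521) (tt N74805 F426205) (tt N83484 (iv5 F426208)) (tt N75150 (iv6 F426209)) (tt N75103 F426207))
theorem Q99787 : ∀ i, i < 99787 → P i := stepQ 99786 Q99786 (allL N99786 (tt N97101 F426212) (tt N96973 (iv0 F426213)) (tt N111087 (iv2 F474592)) (tt N62766 (iv3 D202924)) (tt N74824 F426210) (tt N120067 D223326) (tt N77337 F426211) (tt N111836 (iv7 F478222)))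
theorem Q99788 : ∀ i, i < 99788 → P i := stepQ 99787 Q99787 (allL N99787 (tt N82715 F426957) (tt N110154 (iv0 F470204)) (tt N113923 (iv2 F487809)) (tt N120067 (iv3 F518865)) (tt N113604 (iv4 F486264)) (tt N62766 (iv5 D202925)) (tt N110051 (iv6 F469739)) (tt N113924 (iv7 F487812)))
theorem Q99789 : ∀ i, i < 99789 → P i := stepQ 99788 Q99788 (allL N99788 (tt N62982 F426218) (tt N100315 (iv0 F428400)) (tt N82563 F426214) (tt N63012 F426215) (tt N113707 (iv4 F486749)) (tt N77670 F426216) (tt N62767 (iv6 D202926)) (tt N62930 F426217))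
theorem Q99790 : ∀ i, i < 99790 → P i := stepQ 99789 Q99789 (allL N99789 (tt N74997 (iv1 F426223)) (tt N62774 (iv0 D202927)) (tt N75000 (iv2 F426222)) (tt N66845 F426220) (tt N65097 F426219) (tt N104804 (iv5 F447365)) (tt N75168 F426221) (tt N66648 F426224))
theorem Q99791 : ∀ i, i < 99791 → P i := stepQ 99790 Q99790 (allL N99790 (tt N117518 (iv1 F505480)) (tt N81701 (iv0 F426229)) (tt N84221 F426225) (tt N77567 F426226) (tt N62779 F426227) (tt N114735 (iv5 F491587)) (tt N62777 (iv6 D202928)) (tt N79119 F426228))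
theorem Q99792 : ∀ i, i < 99792 → P i := stepQ 99791 Q99791 (allL N99791 (tt N99957 (iv1 F426953)) (tt N110271 (iv0 F470759)) (tt N75662 F426230) (tt N64255 F426231) (tt N62778 (iv4 D202929)) (tt N84079 F426234) (tt N63006 F426232) (tt N74993 F426233))
theorem Q99793 : ∀ i, i < 99793 → P i := stepQ 99792 Q99792 (allL N99792 (tt N78713 (iv1 F426239)) (tt N62779 (iv0 D202930)) (tt N73708 (iv2 F426238)) (tt N74415 F426235) (tt N109190 (iv4 F465715)) (tt N62985 F426236) (tt N73660 F426237) (tt N74984 F426240))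
theorem Q99794 : ∀ i, i < 99794 → P i := stepQ 99793 Q99793 (allL N99793 (tt N100151 (iv1 F427725)) (tt N75785 F427712) (tt N100149 F427708) (tt N62781 (iv3 D202931)) (tt N111001 (iv4 F474176)) (tt N108746 (iv5 F463788)) (tt N101238 (iv6 F432354)) (tt N100150 (iv7 F427714)))
theorem Q99795 : ∀ i, i < 99795 → P i := stepQ 99794 Q99794 (allL N99794 (tt N62822 F426246) (tt N62808 F426247) (tt N74864 F426241) (tt N76691 F426242) (tt N62788 F426243) (tt N62782 (iv5 D202932)) (tt N76279 F426244) (tt N74860 F426245))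
theorem Q99796 : ∀ i, i < 99796 → P i := stepQ 99795 Q99795 (allL N99795 (tt N62784 (iv1 D202933)) (tt N62788 F426248) (tt N66660 (iv2 F426254)) (tt N86071 (iv3 F426252)) (tt N98261 F426251) (tt N62813 F426250) (tt N98261 (iv6 F426253)) (tt N74863 F426249))
theorem Q99797 : ∀ i, i < 99797 → P i := stepQ 99796 Q99796 (allL N99796 (tt N105912 (iv1 F452315)) (tt N76349 (iv0 F426259)) (tt N74865 F426255) (tt N97954 F426256) (tt N76279 F426257) (tt N104949 (iv5 F448094)) (tt N62788 (iv6 D202934)) (tt N76278 F426258))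
theorem Q99798 : ∀ i, i < 99798 → P i := stepQ 99797 Q99797 (allL N99797 (tt N74868 (iv1 F426264)) (tt N62789 (iv0 D202935)) (tt N74866 (iv2 F426263)) (tt N84736 (iv3 F426266)) (tt N72281 F426261) (tt N92140 F426260) (tt N98269 F426262) (tt N74867 F426265))
theorem Q99799 : ∀ i, i < 99799 → P i := stepQ 99798 Q99798 (allL N99798 (tt N63016 F426271) (tt N75536 F426272) (tt N63071 F426267) (tt N79076 F426268) (tt N62790 (iv4 D202936)) (tt N105787 (iv5 F451716)) (tt N79075 F426269) (tt N74869 F426270))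
theorem Q99800 : ∀ i, i < 99800 → P i := stepQ 99799 Q99799 (allL N99799 (tt N72279 F426276) (tt N72277 F426277) (tt N74872 F426273) (tt N89576 (iv3 F426278)) (tt N62791 (iv4 D202937)) (tt N107619 (iv5 F458958)) (tt N62793 F426274) (tt N82163 F426275))
theorem Q99801 : ∀ i, i < 99801 → P i := stepQ 99800 Q99800 (allL N99800 (tt N73882 (iv1 F426284)) (tt N70624 (iv0 F426283)) (tt N114340 (iv2 F489697)) (tt N62794 (iv3 D202938)) (tt N85033 F426279) (tt N74951 F426280) (tt N85026 F426281) (tt N74884 F426282))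
theorem Q99802 : ∀ i, i < 99802 → P i := stepQ 99801 Q99801 (allL N99801 (tt N62795 (iv1 D202939)) (tt N73578 F426285) (tt N74885 (iv2 F426287)) (tt N108039 (iv3 F460842)) (tt N105097 (iv4 F448776)) (tt N100196 (iv5 F427945)) (tt N105096 F448773) (tt N74886 F426286))
theorem Q99803 : ∀ i, i < 99803 → P i := stepQ 99802 Q99802 (allL N99802 (tt N86192 (iv1 F426290)) (tt N100321 (iv0 F428417)) (tt N114753 (iv2 F491673)) (tt N62796 F426288) (tt N100199 (iv4 F427955)) (tt N62795 (iv5 D202940)) (tt N99816 (iv6 F426363)) (tt N74887 F426289))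
theorem Q99804 : ∀ i, i < 99804 → P i := stepQ 99803 Q99803 (allL N99803 (tt N107126 (iv1 F457102)) (tt N108794 F463977) (tt N108793 (iv2 F463972)) (tt N62797 F426291) (tt N75048 F426292) (tt N79078 (iv5 F426294)) (tt N62795 (iv6 D202941)) (tt N76273 F426293))
theorem Q99805 : ∀ i, i < 99805 → P i := stepQ 99804 Q99804 (allL N99804 (tt N76245 F426299) (tt N76242 F426300) (tt N105820 (iv2 F451876)) (tt N62803 (iv3 D202942)) (tt N97872 F426296) (tt N94772 F426297) (tt N104194 (iv6 F444632)) (tt N74903 F426298))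
theorem Q99806 : ∀ i, i < 99806 → P i := stepQ 99805 Q99805 (allL N99805 (tt N74909 (iv1 F426306)) (tt N62804 (iv0 D202943)) (tt N74379 (iv2 F426302)) (tt N97931 F426303) (tt N105766 F451605) (tt N109731 (iv5 F468328)) (tt N76352 F426301) (tt N74908 (iv7 F426304)))
theorem Q99807 : ∀ i, i < 99807 → P i := stepQ 99806 Q99806 (allL N99806 (tt N74908 (iv1 F426310)) (tt N74379 F426311) (tt N74909 F426307) (tt N102937 (iv3 F439337)) (tt N105833 (iv4 F451931)) (tt N76425 F426308) (tt N74905 F426309) (tt N62804 (iv7 D202944)))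
theorem Q99808 : ∀ i, i < 99808 → P i := stepQ 99807 Q99807 (allL N99807 (tt N74915 (iv1 F426312)) (tt N62807 (iv0 D202945)) (tt N74914 (iv2 F426319)) (tt N117722 (iv3 F506623)) (tt N102407 (iv4 F437106)) (tt N110270 (iv5 F470753)) (tt N118007 F508057) (tt N74913 F426318))
theorem Q99809 : ∀ i, i < 99809 → P i := stepQ 99808 Q99808 (allL N99808 (tt N62807 (iv1 D202946)) (tt N74915 (iv0 F426316)) (tt N74913 (iv2 F426314)) (tt N104072 (iv3 F444037)) (tt N97680 F426313) (tt N115342 (iv5 F494690)) (tt N104161 (iv6 F444484)) (tt N74914 (iv7 F426315)))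
theorem Q99810 : ∀ i, i < 99810 → P i := stepQ 99809 Q99809 (allL N99809 (tt N74914 (iv1 F426324)) (tt N74913 F426323) (tt N62807 (iv2 D202947)) (tt N114340 (iv3 F489698)) (tt N65951 F426320) (tt N85547 F426321) (tt N115337 (iv6 F494663)) (tt N74915 F426322))
theorem Q99811 : ∀ i, i < 99811 → P i := stepQ 99810 Q99810 (allL N99810 (tt N85028 (iv1 F426328)) (tt N62809 (iv0 D202948)) (tt N85024 (iv2 F426327)) (tt N69521 (iv3 F426330)) (tt N85953 F426325) (tt N114626 (iv5 F491075)) (tt N85953 F426326) (tt N85025 F426329))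
theorem Q99812 : ∀ i, i < 99812 → P i := stepQ 99811 Q99811 (allL N99811 (tt N69356 (iv1 F426338)) (tt N75694 (iv0 F426337)) (tt N85052 F426331) (tt N62810 (iv3 D202949)) (tt N84997 F426334) (tt N88963 F426332) (tt N104054 F443946) (tt N85021 F426333))
theorem Q99813 : ∀ i, i < 99813 → P i := stepQ 99812 Q99812 (allL N99812 (tt N62826 F426346) (tt N62828 (iv0 F426347)) (tt N66661 F426341) (tt N86784 F426342) (tt N66655 F426343) (tt N70728 F426344) (tt N62813 (iv6 D202950)) (tt N98483 F426345))
theorem Q99814 : ∀ i, i < 99814 → P i := stepQ 99813 Q99813 (allL N99813 (tt N85881 F426352) (tt N110525 F471986) (tt N74925 F426349) (tt N106326 (iv3 F454036)) (tt N75547 F426350) (tt N93996 F426351) (tt N62816 (iv6 D202951)) (tt N110524 (iv7 F471979)))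
theorem Q99815 : ∀ i, i < 99815 → P i := stepQ 99814 Q99814 (allL N99814 (tt N111945 (iv1 F478807)) (tt N79077 (iv0 F426356)) (tt N74948 F426353) (tt N66756 F426354) (tt N99946 (iv4 F426912)) (tt N62819 (iv5 D202952)) (tt N109370 (iv6 F466619)) (tt N74475 F426355))
theorem Q99816 : ∀ i, i < 99816 → P i := stepQ 99815 Q99815 (allL N99815 (tt N109684 (iv1 F468098)) (tt N100166 (iv0 F427796)) (tt N74950 F426357) (tt N89866 F426358) (tt N76186 F426359) (tt N114372 (iv5 F489854)) (tt N62821 (iv6 D202953)) (tt N76184 F426360))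
theorem Q99817 : ∀ i, i < 99817 → P i := stepQ 99816 Q99816 (allL N99816 (tt N63349 (iv1 F426365)) (tt N114339 F489696) (tt N114341 (iv2 F489703)) (tt N62822 (iv3 D202954)) (tt N114333 (iv4 F489662)) (tt N74884 F426362) (tt N99802 F426363) (tt N74951 F426364))
theorem Q99818 : ∀ i, i < 99818 → P i := stepQ 99817 Q99817 (allL N99817 (tt N105142 F448973) (tt N62832 (iv0 D202955)) (tt N73927 (iv2 F426368)) (tt N76354 F426367) (tt N75958 F426366) (tt N105408 (iv5 F450116)) (tt N73894 F426369) (tt N111125 (iv7 F474802)))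
theorem Q99819 : ∀ i, i < 99819 → P i := stepQ 99818 Q99818 (allL N99818 (tt N111125 (iv1 F474803)) (tt N73927 (iv0 F426373)) (tt N105142 (iv2 F448967)) (tt N70058 F426370) (tt N62833 F426371) (tt N99828 (iv5 F426418)) (tt N72185 F426372) (tt N62832 (iv7 D202956)))
theorem Q99820 : ∀ i, i < 99820 → P i := stepQ 99819 Q99819 (allL N99819 (tt N62984 F426378) (tt N104152 (iv0 F444441)) (tt N62840 (iv2 D202957)) (tt N75172 F426374) (tt N70059 F426375) (tt N62882 F426376) (tt N62841 F426377) (tt N100488 (iv7 F429137)))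
theorem Q99821 : ∀ i, i < 99821 → P i := stepQ 99820 Q99820 (allL N99820 (tt N62842 (iv1 D202958)) (tt N62903 F426379) (tt N62901 F426383) (tt N76920 (iv3 F426382)) (tt N80188 F426381) (tt N106176 (iv5 F453464)) (tt N110308 (iv6 F470964)) (tt N62902 F426380))
theorem Q99822 : ∀ i, i < 99822 → P i := stepQ 99821 Q99821 (allL N99821 (tt N97096 (iv1 F426388)) (tt N97094 (iv0 F426387)) (tt N73892 F426384) (tt N62843 F426385) (tt N75175 F426386) (tt N117817 (iv5 F507105)) (tt N62842 (iv6 D202959)) (tt N118744 (iv7 F511852)))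
theorem Q99823 : ∀ i, i < 99823 → P i := stepQ 99822 Q99822 (allL N99822 (tt N62964 F426392) (tt N62843 (iv0 D202960)) (tt N62965 (iv2 F426390)) (tt N113915 (iv3 F487765)) (tt N66728 F426389) (tt N113942 (iv5 F487893)) (tt N113912 F487751) (tt N62966 (iv7 F426391)))
theorem Q99824 : ∀ i, i < 99824 → P i := stepQ 99823 Q99823 (allL N99823 (tt N62843 (iv1 D202961)) (tt N62964 F426393) (tt N62966 F426397) (tt N89967 F426398) (tt N99438 F426395) (tt N89966 F426399) (tt N70044 (iv6 F426396)) (tt N62965 F426394))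
theorem Q99825 : ∀ i, i < 99825 → P i := stepQ 99824 Q99824 (allL N99824 (tt N117519 (iv1 F505485)) (tt N120068 D223327) (tt N62967 F426400) (tt N117817 (iv3 F507107)) (tt N113493 F485756) (tt N62843 (iv5 D202962)) (tt N90722 F426401) (tt N120069 D223328))
theorem Q99826 : ∀ i, i < 99826 → P i := stepQ 99825 Q99825 (allL N99825 (tt N62966 (iv1 F426405)) (tt N62965 F426406) (tt N62964 F426402) (tt N118744 (iv3 F511849)) (tt N62846 F426403) (tt N120069 (iv5 F518881)) (tt N62908 F426404) (tt N62843 (iv7 D202963)))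
theorem Q99827 : ∀ i, i < 99827 → P i := stepQ 99826 Q99826 (allL N99826 (tt N105241 (iv1 F449353)) (tt N62916 (iv0 F426409)) (tt N62980 F426407) (tt N110153 (iv3 F470198)) (tt N62844 (iv4 D202964)) (tt N110152 F470196) (tt N104153 (iv6 F444444)) (tt N62983 F426408))
theorem Q99828 : ∀ i, i < 99828 → P i := stepQ 99827 Q99827 (allL N99827 (tt N103587 F442146) (tt N96124 (iv0 F426414)) (tt N71802 F426410) (tt N62848 (iv3 D202965)) (tt N69396 F426411) (tt N106045 (iv5 F452882)) (tt N69395 (iv6 F426413)) (tt N92136 F426412))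
theorem Q99829 : ∀ i, i < 99829 → P i := stepQ 99828 Q99828 (allL N99828 (tt N105895 (iv1 F452233)) (tt N70623 (iv0 F426420)) (tt N69820 F426415) (tt N69395 F426416) (tt N62849 F426417) (tt N99818 F426418) (tt N62848 (iv6 D202966)) (tt N71803 F426419))
theorem Q99830 : ∀ i, i < 99830 → P i := stepQ 99829 Q99829 (allL N99829 (tt N62850 (iv1 D202967)) (tt N109009 (iv0 F464899)) (tt N101314 (iv2 F432616)) (tt N73405 F426424) (tt N77658 (iv4 F426423)) (tt N73391 F426422) (tt N77656 F426425) (tt N92540 F426421))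
theorem Q99831 : ∀ i, i < 99831 → P i := stepQ 99830 Q99830 (allL N99830 (tt N92540 (iv1 F426430)) (tt N101314 (iv0 F432620)) (tt N62850 (iv2 D202968)) (tt N74976 F426427) (tt N62862 F426428) (tt N98928 (iv5 F426429)) (tt N109625 (iv6 F467803)) (tt N109009 (iv7 F464901)))
theorem Q99832 : ∀ i, i < 99832 → P i := stepQ 99831 Q99831 (allL N99831 (tt N108810 (iv1 F464062)) (tt N104660 F446746) (tt N98928 F426431) (tt N62851 F426432) (tt N95797 F426434) (tt N62850 (iv5 D202969)) (tt N76203 F426435) (tt N78126 F426433))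
theorem Q99833 : ∀ i, i < 99833 → P i := stepQ 99832 Q99832 (allL N99832 (tt N100583 (iv1 F429559)) (tt N107601 (iv0 F458894)) (tt N109625 (iv2 F467800)) (tt N62852 F426436) (tt N62864 F426437) (tt N100091 (iv5 F427492)) (tt N62850 (iv6 D202970)) (tt N91530 F426438))
theorem Q99834 : ∀ i, i < 99834 → P i := stepQ 99833 Q99833 (allL N99833 (tt N107140 (iv1 F457159)) (tt N107033 (iv0 F456722)) (tt N74979 F426439) (tt N105515 (iv3 F450532)) (tt N62851 (iv4 D202971)) (tt N74408 F426440) (tt N76204 F426441) (tt N74922 F426442))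
theorem Q99835 : ∀ i, i < 99835 → P i := stepQ 99834 Q99834 (allL N99834 (tt N71966 (iv1 F426447)) (tt N71997 F426446) (tt N62856 (iv2 D202972)) (tt N69985 F426443) (tt N74444 F426444) (tt N106796 (iv5 F455714)) (tt N72170 (iv6 F426448)) (tt N71995 F426445))
theorem Q99836 : ∀ i, i < 99836 → P i := stepQ 99835 Q99835 (allL N99835 (tt N109671 F468039) (tt N110860 (iv0 F473484)) (tt N72170 F426449) (tt N62857 F426450) (tt N74446 F426451) (tt N72244 F426452) (tt N62856 (iv6 D202973)) (tt N110866 (iv7 F473518)))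
theorem Q99837 : ∀ i, i < 99837 → P i := stepQ 99836 Q99836 (allL N99836 (tt N88527 F426456) (tt N71975 (iv0 F426457)) (tt N91116 F426453) (tt N62861 (iv3 D202974)) (tt N79786 F426454) (tt N120070 D223329) (tt N100500 (iv6 F429207)) (tt N99585 F426455))
theorem Q99838 : ∀ i, i < 99838 → P i := stepQ 99837 Q99837 (allL N99837 (tt N99858 (iv1 F426579)) (tt N99879 (iv0 F426654)) (tt N96920 F426458) (tt N120070 (iv3 F518885)) (tt N96923 F426459) (tt N62861 (iv5 D202975)) (tt N101910 F434907) (tt N99586 F426460))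
theorem Q99839 : ∀ i, i < 99839 → P i := stepQ 99838 Q99838 (allL N99838 (tt N109190 F465718) (tt N77050 (iv0 F426464)) (tt N109017 (iv2 F464944)) (tt N63911 F426461) (tt N91537 F426462) (tt N112996 (iv5 F483480)) (tt N62866 (iv6 D202976)) (tt N63909 F426463))
theorem Q99840 : ∀ i, i < 99840 → P i := stepQ 99839 Q99839 (allL N99839 (tt N110271 F470761) (tt N99957 (iv0 F426952)) (tt N74993 F426465) (tt N84370 (iv3 F426474)) (tt N62870 (iv4 D202977)) (tt N113500 (iv5 F485793)) (tt N84367 F426473) (tt N75662 F426466))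
theorem Q99841 : ∀ i, i < 99841 → P i := stepQ 99840 Q99840 (allL N99840 (tt N63068 F426471) (tt N100142 (iv0 F427663)) (tt N74994 F426467) (tt N75227 F426468) (tt N84367 (iv4 F426472)) (tt N77666 F426469) (tt N62870 (iv6 D202978)) (tt N63008 F426470))
theorem Q99842 : ∀ i, i < 99842 → P i := stepQ 99841 Q99841 (allL N99841 (tt N111213 F475255) (tt N117247 (iv0 F504105)) (tt N73859 F426476) (tt N62873 (iv3 D202979)) (tt N98465 F426477) (tt N98185 F426479) (tt N98090 (iv6 F426478)) (tt N117604 (iv7 F505958)))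
theorem Q99843 : ∀ i, i < 99843 → P i := stepQ 99842 Q99842 (allL N99842 (tt N75277 F426483) (tt N75345 F426484) (tt N66997 F426480) (tt N80333 F426481) (tt N62873 (iv4 D202980)) (tt N109022 (iv5 F464974)) (tt N64711 (iv6 F426485)) (tt N75344 F426482))
theorem Q99844 : ∀ i, i < 99844 → P i := stepQ 99843 Q99843 (allL N99843 (tt N76930 F426487) (tt N99853 F426545) (tt N99893 F426706) (tt N98185 F426486) (tt N120071 D223330) (tt N62873 (iv5 D202981)) (tt N101907 (iv6 F434901)) (tt N99892 F426703))
theorem Q99845 : ∀ i, i < 99845 → P i := stepQ 99844 Q99844 (allL N99844 (tt N76956 F426494) (tt N65174 (iv0 F426491)) (tt N66996 F426488) (tt N98090 F426489) (tt N64711 F426490) (tt N120072 D223331) (tt N62873 (iv6 D202982)) (tt N66999 (iv7 F426493)))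
theorem Q99846 : ∀ i, i < 99846 → P i := stepQ 99845 Q99845 (allL N99845 (tt N99853 (iv1 F426542)) (tt N76930 F426496) (tt N99892 F426702) (tt N73862 F426495) (tt N108297 (iv4 F461951)) (tt N62874 (iv5 D202983)) (tt N106792 F455696) (tt N99893 (iv7 F426704)))
theorem Q99847 : ∀ i, i < 99847 → P i := stepQ 99846 Q99846 (allL N99846 (tt N63521 F426499) (tt N63526 F426500) (tt N63647 F426497) (tt N100755 F430306) (tt N92609 F426498) (tt N99951 (iv5 F426927)) (tt N62877 (iv6 D202984)) (tt N63646 F426501))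
theorem Q99848 : ∀ i, i < 99848 → P i := stepQ 99847 Q99847 (allL N99847 (tt N67040 F426506) (tt N77631 F426507) (tt N63645 F426502) (tt N64768 F426503) (tt N62881 F426504) (tt N90846 F426505) (tt N62879 (iv6 D202985)) (tt N63643 F426508))
theorem Q99849 : ∀ i, i < 99849 → P i := stepQ 99848 Q99848 (allL N99848 (tt N70099 F426513) (tt N62883 (iv0 D202986)) (tt N81268 (iv2 F426511)) (tt N80823 (iv3 F426512)) (tt N111346 (iv4 F475927)) (tt N63585 F426509) (tt N81365 F426510) (tt N75404 F426514))
theorem Q99850 : ∀ i, i < 99850 → P i := stepQ 99849 Q99849 (allL N99849 (tt N62883 (iv1 D202987)) (tt N70099 F426515) (tt N75404 F426521) (tt N63830 (iv3 F426519)) (tt N99753 F426518) (tt N63829 F426517) (tt N75392 (iv6 F426520)) (tt N81268 F426516))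
theorem Q99851 : ∀ i, i < 99851 → P i := stepQ 99850 Q99850 (allL N99850 (tt N75436 F426526) (tt N75306 (iv0 F426527)) (tt N75370 F426522) (tt N62883 (iv3 D202988)) (tt N63019 F426523) (tt N70096 F426524) (tt N62887 F426525) (tt N75435 F426528))
theorem Q99852 : ∀ i, i < 99852 → P i := stepQ 99851 Q99851 (allL N99851 (tt N75404 (iv1 F426534)) (tt N81268 F426535) (tt N70099 F426529) (tt N75435 F426530) (tt N62884 F426531) (tt N63243 F426532) (tt N75163 F426533) (tt N62883 (iv7 D202989)))
theorem Q99853 : ∀ i, i < 99853 → P i := stepQ 99852 Q99852 (allL N99852 (tt N62980 (iv1 F426539)) (tt N62983 (iv0 F426538)) (tt N62916 F426536) (tt N100945 (iv3 F431063)) (tt N97941 F426537) (tt N120073 D223332) (tt N62888 (iv6 D202990)) (tt N105241 (iv7 F449351)))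
theorem Q99854 : ∀ i, i < 99854 → P i := stepQ 99853 Q99853 (allL N99853 (tt N99843 (iv1 F426545)) (tt N99845 F426542) (tt N109296 (iv2 F466244)) (tt N62890 F426540) (tt N93733 F426543) (tt N62889 (iv5 D202991)) (tt N71392 (iv6 F426544)) (tt N62933 F426541))
theorem Q99855 : ∀ i, i < 99855 → P i := stepQ 99854 Q99854 (allL N99854 (tt N62927 (iv1 F426557)) (tt N62891 (iv0 D202992)) (tt N62924 (iv2 F426556)) (tt N64560 F426554) (tt N80461 F426553) (tt N82861 F426552) (tt N87034 F426555) (tt N62925 F426558))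
theorem Q99856 : ∀ i, i < 99856 → P i := stepQ 99855 Q99855 (allL N99855 (tt N70408 F426564) (tt N70396 F426563) (tt N62926 F426559) (tt N109293 (iv3 F466231)) (tt N94765 F426562) (tt N62891 (iv5 D202993)) (tt N71393 F426560) (tt N70407 F426561))
theorem Q99857 : ∀ i, i < 99857 → P i := stepQ 99856 Q99856 (allL N99856 (tt N62897 F426567) (tt N62942 (iv0 F426568)) (tt N62929 F426565) (tt N110306 (iv3 F470951)) (tt N62892 (iv4 D202994)) (tt N114724 (iv5 F491541)) (tt N113925 (iv6 F487821)) (tt N62928 F426566))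
theorem Q99858 : ∀ i, i < 99858 → P i := stepQ 99857 Q99857 (allL N99857 (tt N100315 F428401) (tt N62982 (iv0 F426573)) (tt N62930 F426569) (tt N75281 F426570) (tt N113925 (iv4 F487819)) (tt N80036 F426572) (tt N62892 (iv6 D202995)) (tt N82563 F426571))
theorem Q99859 : ∀ i, i < 99859 → P i := stepQ 99858 Q99858 (allL N99858 (tt N92479 F426578) (tt N99837 F426579) (tt N110052 (iv2 F469743)) (tt N62894 F426574) (tt N98919 F426577) (tt N62893 (iv5 D202996)) (tt N88623 F426575) (tt N62922 F426576))
theorem Q99860 : ∀ i, i < 99860 → P i := stepQ 99859 Q99859 (allL N99859 (tt N108073 (iv1 F461007)) (tt N105700 (iv0 F451316)) (tt N62941 F426580) (tt N86327 F426581) (tt N94826 F426583) (tt N62897 (iv5 D202997)) (tt N86325 F426582) (tt N108293 (iv7 F461924)))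
theorem Q99861 : ∀ i, i < 99861 → P i := stepQ 99860 Q99860 (allL N99860 (tt N106040 F452850) (tt N90699 F426588) (tt N89219 F426584) (tt N62899 F426585) (tt N111705 (iv4 F477586)) (tt N62898 (iv5 D202998)) (tt N72137 F426586) (tt N62938 F426587))
theorem Q99862 : ∀ i, i < 99862 → P i := stepQ 99861 Q99861 (allL N99861 (tt N106173 (iv1 F453449)) (tt N80020 F426589) (tt N106176 F453465) (tt N100604 (iv3 F429666)) (tt N118137 (iv4 F508805)) (tt N62901 (iv5 D202999)) (tt N106519 F454747) (tt N100601 (iv7 F429648)))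
theorem Q99863 : ∀ i, i < 99863 → P i := stepQ 99862 Q99862 (allL N99862 (tt N72814 F426593) (tt N110306 F470955) (tt N110308 (iv2 F470961)) (tt N63897 F426590) (tt N74759 F426591) (tt N118628 (iv5 F511214)) (tt N62901 (iv6 D203000)) (tt N63892 F426592))
theorem Q99864 : ∀ i, i < 99864 → P i := stepQ 99863 Q99863 (allL N99863 (tt N80020 F426596) (tt N106173 (iv0 F453448)) (tt N100601 (iv2 F429645)) (tt N76919 F426594) (tt N120005 (iv4 F518510)) (tt N62902 (iv5 D203001)) (tt N76916 F426595) (tt N106176 (iv7 F453463)))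
theorem Q99865 : ∀ i, i < 99865 → P i := stepQ 99864 Q99864 (allL N99864 (tt N110324 F471057) (tt N113880 (iv0 F487599)) (tt N62904 F426597) (tt N62948 F426598) (tt N75294 F426599) (tt N110228 F470533) (tt N62903 (iv6 D203002)) (tt N113882 (iv7 F487609)))
theorem Q99866 : ∀ i, i < 99866 → P i := stepQ 99865 Q99865 (allL N99865 (tt N64769 F426601) (tt N110230 F470545) (tt N110228 (iv2 F470534)) (tt N62907 F426600) (tt N117368 (iv4 F504697)) (tt N62904 (iv5 D203004)) (tt N106025 (iv6 F452789)) (tt N110227 F470526))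
theorem Q99867 : ∀ i, i < 99867 → P i := stepQ 99866 Q99866 (allL N99866 (tt N113880 (iv1 F487600)) (tt N110324 (iv0 F471056)) (tt N113882 (iv2 F487613)) (tt N62908 F426602) (tt N75301 F426603) (tt N110227 (iv5 F470524)) (tt N118744 (iv6 F511851)) (tt N62904 (iv7 D203005)))
theorem Q99868 : ∀ i, i < 99868 → P i := stepQ 99867 Q99867 (allL N99867 (tt N66641 F426608) (tt N66711 F426609) (tt N62959 F426604) (tt N66719 F426605) (tt N62906 (iv4 D203006)) (tt N76078 F426607) (tt N113706 (iv6 F486743)) (tt N62957 F426606))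
theorem Q99869 : ∀ i, i < 99869 → P i := stepQ 99868 Q99868 (allL N99868 (tt N62961 (iv1 F426613)) (tt N62960 F426614) (tt N62963 F426610) (tt N110227 F470525) (tt N63625 F426611) (tt N62908 F426612) (tt N106624 (iv6 F455084)) (tt N62907 (iv7 D203007)))
theorem Q99870 : ∀ i, i < 99870 → P i := stepQ 99869 Q99869 (allL N99869 (tt N62912 (iv1 F426616)) (tt N62909 (iv0 D203008)) (tt N62971 (iv2 F426615)) (tt N96195 (iv3 F426618)) (tt N99924 (iv4 F426838)) (tt N113484 (iv5 F485711)) (tt N105241 (iv6 F449350)) (tt N62918 F426617))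
theorem Q99871 : ∀ i, i < 99871 → P i := stepQ 99870 Q99870 (allL N99870 (tt N100430 F428948) (tt N100428 (iv0 F428935)) (tt N62973 F426620) (tt N83311 F426621) (tt N109922 (iv4 F469235)) (tt N62909 (iv5 D203009)) (tt N83309 (iv6 F426623)) (tt N62977 F426622))
theorem Q99872 : ∀ i, i < 99872 → P i := stepQ 99871 Q99871 (allL N99871 (tt N72378 F426629) (tt N74892 (iv0 F426630)) (tt N74964 F426624) (tt N62913 F426625) (tt N92561 F426626) (tt N69661 F426627) (tt N62911 (iv6 D203010)) (tt N74963 F426628))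
theorem Q99873 : ∀ i, i < 99873 → P i := stepQ 99872 Q99872 (allL N99872 (tt N99990 F427078) (tt N109099 F465337) (tt N101698 (iv2 F433924)) (tt N62912 (iv3 D203011)) (tt N92580 F426631) (tt N116250 (iv5 F499213)) (tt N82952 F426632) (tt N62972 F426633))
theorem Q99874 : ∀ i, i < 99874 → P i := stepQ 99873 Q99873 (allL N99873 (tt N119304 F514941) (tt N100520 (iv0 F429297)) (tt N76376 F426634) (tt N62916 F426635) (tt N99739 F426636) (tt N119653 (iv5 F516727)) (tt N62915 (iv6 D203012)) (tt N120074 D223333))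
theorem Q99875 : ∀ i, i < 99875 → P i := stepQ 99874 Q99874 (allL N99874 (tt N120075 D223334) (tt N113488 (iv0 F485737)) (tt N120073 (iv2 F518902)) (tt N119653 (iv3 F516733)) (tt N120076 D223335) (tt N62916 (iv5 D203013)) (tt N71815 F426637) (tt N120077 D223336))
theorem Q99876 : ∀ i, i < 99876 → P i := stepQ 99875 Q99875 (allL N99875 (tt N62983 (iv1 F426640)) (tt N62980 F426641) (tt N105241 F449354) (tt N120074 (iv3 F518908)) (tt N94456 F426638) (tt N120077 (iv5 F518923)) (tt N62971 F426639) (tt N62916 (iv7 D203014)))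
theorem Q99877 : ∀ i, i < 99877 → P i := stepQ 99876 Q99876 (allL N99876 (tt N63649 F426644) (tt N63661 (iv0 F426645)) (tt N108800 (iv2 F464004)) (tt N81905 F426642) (tt N117223 (iv4 F503982)) (tt N62918 (iv5 D203015)) (tt N71223 F426643) (tt N113484 (iv7 F485710)))
theorem Q99878 : ∀ i, i < 99878 → P i := stepQ 99877 Q99877 (allL N99877 (tt N75286 F426650) (tt N75290 (iv0 F426651)) (tt N95635 F426646) (tt N62920 (iv3 D203016)) (tt N82462 F426647) (tt N71974 F426648) (tt N114017 (iv6 F488211)) (tt N82461 F426649))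
theorem Q99879 : ∀ i, i < 99879 → P i := stepQ 99878 Q99878 (allL N99878 (tt N62972 F426926) (tt N101698 (iv0 F433927)) (tt N99990 (iv2 F427073)) (tt N114017 (iv3 F488209)) (tt N99977 (iv4 F427039)) (tt N117384 (iv5 F504768)) (tt N62920 (iv6 D203017)) (tt N109099 (iv7 F465335)))
theorem Q99880 : ∀ i, i < 99880 → P i := stepQ 99879 Q99879 (allL N99879 (tt N99837 F426654) (tt N92479 F426655) (tt N62922 F426652) (tt N109296 (iv3 F466245)) (tt N98910 F426653) (tt N62921 (iv5 D203018)) (tt N118928 (iv6 F512790)) (tt N110052 (iv7 F469746)))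
theorem Q99881 : ∀ i, i < 99881 → P i := stepQ 99880 Q99880 (allL N99880 (tt N94231 F426661) (tt N99206 F426662) (tt N98910 F426657) (tt N71941 F426658) (tt N62922 (iv4 D203019)) (tt N92357 F426660) (tt N117808 (iv6 F507073)) (tt N98919 F426659))
theorem Q99882 : ∀ i, i < 99882 → P i := stepQ 99881 Q99881 (allL N99881 (tt N73906 F426667) (tt N64557 (iv0 F426668)) (tt N100946 F431070) (tt N62923 (iv3 D203020)) (tt N99157 F426663) (tt N78113 F426664) (tt N70949 F426665) (tt N71105 F426666))
theorem Q99883 : ∀ i, i < 99883 → P i := stepQ 99882 Q99882 (allL N99882 (tt N63277 F426672) (tt N63300 (iv0 F426673)) (tt N63298 F426669) (tt N62924 (iv3 D203021)) (tt N63463 F426670) (tt N120078 D223337) (tt N114008 (iv6 F488175)) (tt N63297 F426671))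
theorem Q99884 : ∀ i, i < 99884 → P i := stepQ 99883 Q99883 (allL N99883 (tt N112702 (iv1 F482250)) (tt N109116 (iv0 F465413)) (tt N82861 F426674) (tt N120078 (iv3 F518928)) (tt N95065 F426676) (tt N62924 (iv5 D203022)) (tt N82849 F426675) (tt N108811 (iv7 F464066)))
theorem Q99885 : ∀ i, i < 99885 → P i := stepQ 99884 Q99884 (allL N99884 (tt N104151 F444436) (tt N104153 (iv0 F444446)) (tt N105274 F449505) (tt N100941 (iv3 F431040)) (tt N102968 (iv4 F439491)) (tt N120007 (iv5 F518525)) (tt N62925 (iv6 D203023)) (tt N105258 (iv7 F449420)))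
theorem Q99886 : ∀ i, i < 99886 → P i := stepQ 99885 Q99885 (allL N99885 (tt N70407 (iv1 F426680)) (tt N62926 (iv0 D203024)) (tt N70408 (iv2 F426677)) (tt N76511 F426678) (tt N107728 (iv4 F459420)) (tt N100429 (iv5 F428939)) (tt N100173 (iv6 F427836)) (tt N70396 F426679))
theorem Q99887 : ∀ i, i < 99887 → P i := stepQ 99886 Q99886 (allL N99886 (tt N108284 (iv1 F461873)) (tt N95145 (iv0 F426683)) (tt N94765 F426681) (tt N103738 (iv3 F442632)) (tt N62926 (iv4 D203025)) (tt N96825 F426682) (tt N118921 (iv6 F512755)) (tt N118863 (iv7 F512464)))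
theorem Q99888 : ∀ i, i < 99888 → P i := stepQ 99887 Q99887 (allL N99887 (tt N70396 (iv1 F426688)) (tt N70408 F426689) (tt N70407 F426684) (tt N75111 F426685) (tt N118863 (iv4 F512462)) (tt N62927 F426686) (tt N65358 F426687) (tt N62926 (iv7 D203026)))
theorem Q99889 : ∀ i, i < 99889 → P i := stepQ 99888 Q99888 (allL N99888 (tt N63892 F426693) (tt N110308 F470965) (tt N72814 F426690) (tt N62928 (iv3 D203027)) (tt N75346 F426691) (tt N113875 (iv5 F487577)) (tt N81320 F426692) (tt N110306 (iv7 F470954)))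
theorem Q99890 : ∀ i, i < 99890 → P i := stepQ 99889 Q99889 (allL N99889 (tt N114723 (iv1 F491532)) (tt N85569 (iv0 F426696)) (tt N114724 (iv2 F491540)) (tt N72812 F426694) (tt N114658 (iv4 F491237)) (tt N62929 (iv5 D203028)) (tt N114344 (iv6 F489726)) (tt N75570 F426695))
theorem Q99891 : ∀ i, i < 99891 → P i := stepQ 99890 Q99890 (allL N99890 (tt N70077 F449776) (tt N113912 (iv0 F487754)) (tt N113925 (iv2 F487817)) (tt N72813 F426697) (tt N62930 F426698) (tt N116789 (iv5 F501842)) (tt N62929 (iv6 D203029)) (tt N113707 (iv7 F486751)))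
theorem Q99892 : ∀ i, i < 99892 → P i := stepQ 99891 Q99891 (allL N99891 (tt N110153 F470201) (tt N77224 (iv0 F426700)) (tt N110055 (iv2 F469757)) (tt N73901 F426699) (tt N100485 (iv4 F429117)) (tt N113016 (iv5 F483568)) (tt N62932 (iv6 D203030)) (tt N109556 (iv7 F467503)))
theorem Q99893 : ∀ i, i < 99893 → P i := stepQ 99892 Q99892 (allL N99892 (tt N109296 (iv1 F466249)) (tt N62933 (iv0 D203031)) (tt N99845 (iv2 F426702)) (tt N117104 (iv3 F503410)) (tt N109284 (iv4 F466181)) (tt N91752 F426701) (tt N117103 (iv6 F503408)) (tt N99843 (iv7 F426703)))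
theorem Q99894 : ∀ i, i < 99894 → P i := stepQ 99893 Q99893 (allL N99893 (tt N62933 (iv1 D203032)) (tt N109296 (iv0 F466248)) (tt N99843 (iv2 F426706)) (tt N73904 (iv3 F426707)) (tt N109283 (iv4 F466176)) (tt N91753 F426705) (tt N104963 F448165) (tt N99845 F426704))
theorem Q99895 : ∀ i, i < 99895 → P i := stepQ 99894 Q99894 (allL N99894 (tt N93731 F426713) (tt N93734 F426714) (tt N90277 F426708) (tt N69839 F426709) (tt N62933 (iv4 D203033)) (tt N74608 F426712) (tt N90207 F426710) (tt N93733 F426711))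
theorem Q99896 : ∀ i, i < 99896 → P i := stepQ 99895 Q99895 (allL N99895 (tt N90699 F426719) (tt N106040 (iv0 F452849)) (tt N62938 F426715) (tt N89223 F426716) (tt N99262 F426718) (tt N62936 (iv5 D203034)) (tt N90564 F426720) (tt N89219 F426717))
theorem Q99897 : ∀ i, i < 99897 → P i := stepQ 99896 Q99896 (allL N99896 (tt N106162 F453400) (tt N90520 F426726) (tt N99262 F426722) (tt N67737 F426723) (tt N62938 (iv4 D203035)) (tt N96420 F426725) (tt N74245 F426724) (tt N111705 (iv7 F477588)))
theorem Q99898 : ∀ i, i < 99898 → P i := stepQ 99897 Q99897 (allL N99897 (tt N75580 F426728) (tt N94589 F426729) (tt N107480 (iv2 F458464)) (tt N62941 F426727) (tt N107479 (iv4 F458462)) (tt N62939 (iv5 D203036)) (tt N106484 (iv6 F454631)) (tt N101200 (iv7 F432162)))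
theorem Q99899 : ∀ i, i < 99899 → P i := stepQ 99898 Q99898 (allL N99898 (tt N108293 (iv1 F461923)) (tt N62941 (iv0 D203037)) (tt N108073 (iv2 F461003)) (tt N119155 (iv3 F514083)) (tt N108284 (iv4 F461870)) (tt N100425 F428919) (tt N110213 (iv6 F470458)) (tt N105700 F451318))
theorem Q99900 : ∀ i, i < 99900 → P i := stepQ 99899 Q99899 (allL N99899 (tt N72888 F426733) (tt N94875 F426732) (tt N94826 F426730) (tt N113320 F485014) (tt N62941 (iv4 D203038)) (tt N72897 F426731) (tt N106485 (iv6 F454633)) (tt N94828 F426734))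
theorem Q99901 : ∀ i, i < 99901 → P i := stepQ 99900 Q99900 (allL N99900 (tt N105700 F451317) (tt N108073 (iv0 F461006)) (tt N108293 (iv2 F461929)) (tt N101200 (iv3 F432160)) (tt N94828 F426735) (tt N62942 F426736) (tt N76108 F426737) (tt N62941 (iv7 D203039)))
theorem Q99902 : ∀ i, i < 99902 → P i := stepQ 99901 Q99901 (allL N99901 (tt N73909 (iv1 F426743)) (tt N73908 F426742) (tt N62943 (iv2 D203040)) (tt N62993 F426738) (tt N74472 F426739) (tt N75563 (iv5 F426744)) (tt N62991 F426740) (tt N73910 F426741))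
theorem Q99903 : ∀ i, i < 99903 → P i := stepQ 99902 Q99902 (allL N99902 (tt N90581 F426749) (tt N112737 (iv0 F482445)) (tt N75563 F426745) (tt N62944 F426746) (tt N69560 F426748) (tt N62943 (iv5 D203041)) (tt N95522 F426750) (tt N73911 F426747))
theorem Q99904 : ∀ i, i < 99904 → P i := stepQ 99903 Q99903 (allL N99903 (tt N106998 (iv1 F456585)) (tt N106997 (iv0 F456580)) (tt N72024 F426751) (tt N101805 (iv3 F434417)) (tt N62944 (iv4 D203042)) (tt N72011 F426753) (tt N119992 (iv6 F518432)) (tt N72031 F426752))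
theorem Q99905 : ∀ i, i < 99905 → P i := stepQ 99904 Q99904 (allL N99904 (tt N105999 F452698) (tt N106002 F452704) (tt N73914 F426754) (tt N95522 F426755) (tt N119992 (iv4 F518431)) (tt N119995 (iv5 F518452)) (tt N62944 (iv6 D203043)) (tt N106000 F460239))
theorem Q99906 : ∀ i, i < 99906 → P i := stepQ 99905 Q99905 (allL N99905 (tt N105294 (iv1 F449607)) (tt N106186 F453519) (tt N101173 (iv2 F432045)) (tt N62946 F426756) (tt N96921 F426758) (tt N62945 (iv5 D203044)) (tt N100932 (iv6 F431014)) (tt N63005 F426757))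
theorem Q99907 : ∀ i, i < 99907 → P i := stepQ 99906 Q99906 (allL N99906 (tt N106997 (iv1 F456581)) (tt N106998 (iv0 F456584)) (tt N72031 F426759) (tt N105522 (iv3 F450570)) (tt N62946 (iv4 D203045)) (tt N72014 F426760) (tt N89996 (iv6 F426762)) (tt N72024 F426761))
theorem Q99908 : ∀ i, i < 99908 → P i := stepQ 99907 Q99907 (allL N99907 (tt N77251 F426766) (tt N106610 (iv0 F455044)) (tt N73913 F426763) (tt N100932 (iv3 F431013)) (tt N89996 F426764) (tt N75979 F426765) (tt N62946 (iv6 D203046)) (tt N106615 (iv7 F455058)))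
theorem Q99909 : ∀ i, i < 99909 → P i := stepQ 99908 Q99908 (allL N99908 (tt N89574 F426770) (tt N63350 (iv0 F426769)) (tt N62951 F426767) (tt N106291 (iv3 F453908)) (tt N72041 F426768) (tt N106625 (iv5 F455091)) (tt N62947 (iv6 D203047)) (tt N106289 (iv7 F453904)))
theorem Q99910 : ∀ i, i < 99910 → P i := stepQ 99909 Q99909 (allL N99909 (tt N62955 (iv1 F426775)) (tt N62948 (iv0 D203048)) (tt N62952 (iv2 F426773)) (tt N101178 (iv3 F432067)) (tt N76136 F426771) (tt N83441 (iv5 F426782)) (tt N99755 F426772) (tt N62953 (iv7 F426774)))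
theorem Q99911 : ∀ i, i < 99911 → P i := stepQ 99910 Q99910 (allL N99910 (tt N62948 (iv1 D203049)) (tt N62955 F426776) (tt N62953 F426779) (tt N111946 (iv3 F478809)) (tt N64365 (iv4 F426778)) (tt N83436 F426780) (tt N100158 (iv6 F427757)) (tt N62952 F426777))
theorem Q99912 : ∀ i, i < 99912 → P i := stepQ 99911 Q99911 (allL N99911 (tt N79116 F426784) (tt N120079 D223338) (tt N62954 F426783) (tt N110228 (iv3 F470535)) (tt N113357 F485161) (tt N62948 (iv5 D203050)) (tt N106625 (iv6 F455092)) (tt N120080 D223339))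
theorem Q99913 : ∀ i, i < 99913 → P i := stepQ 99912 Q99912 (allL N99912 (tt N62953 (iv1 F426788)) (tt N62952 F426789) (tt N62955 F426785) (tt N113882 F487611) (tt N63031 F426786) (tt N120080 (iv5 F518943)) (tt N73896 F426787) (tt N62948 (iv7 D203051)))
theorem Q99914 : ∀ i, i < 99914 → P i := stepQ 99913 Q99913 (allL N99913 (tt N89581 F426795) (tt N86357 F426796) (tt N71990 F426790) (tt N73390 F426791) (tt N62949 (iv4 D203052)) (tt N71965 F426794) (tt N91054 F426792) (tt N72006 F426793))
theorem Q99915 : ∀ i, i < 99915 → P i := stepQ 99914 Q99914 (allL N99914 (tt N86357 F426801) (tt N89581 F426802) (tt N72006 F426797) (tt N69711 (iv3 F426803)) (tt N62950 (iv4 D203053)) (tt N71992 F426798) (tt N69708 F426799) (tt N71990 F426800))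
theorem Q99916 : ∀ i, i < 99916 → P i := stepQ 99915 Q99915 (allL N99915 (tt N62951 (iv1 D203054)) (tt N106289 F453906) (tt N63350 (iv2 F426806)) (tt N120081 D223340) (tt N86355 F426805) (tt N120082 D223341) (tt N106257 (iv6 F493551)) (tt N89574 F426804))
theorem Q99917 : ∀ i, i < 99917 → P i := stepQ 99916 Q99916 (allL N99916 (tt N100767 F430372) (tt N76383 (iv0 F426809)) (tt N110317 (iv2 F471009)) (tt N62952 (iv3 D203055)) (tt N79077 F426807) (tt N110365 (iv5 F471249)) (tt N76369 F426808) (tt N111946 (iv7 F478812)))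
theorem Q99918 : ∀ i, i < 99918 → P i := stepQ 99917 Q99917 (allL N99917 (tt N111343 (iv1 F475914)) (tt N108075 (iv0 F461011)) (tt N83441 F426810) (tt N110365 F471251) (tt N83439 (iv4 F426815)) (tt N62952 (iv5 D203056)) (tt N112711 (iv6 F482303)) (tt N83436 F426811))
theorem Q99919 : ∀ i, i < 99919 → P i := stepQ 99918 Q99918 (allL N99918 (tt N111359 F476001) (tt N85808 (iv0 F426820)) (tt N113704 (iv2 F486726)) (tt N62953 (iv3 D203057)) (tt N63068 F426818) (tt N89353 F426821) (tt N63067 F426819) (tt N101178 (iv7 F432069)))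
theorem Q99920 : ∀ i, i < 99920 → P i := stepQ 99919 Q99919 (allL N99919 (tt N108075 (iv1 F461012)) (tt N111343 (iv0 F475913)) (tt N83436 F426823) (tt N89353 F426824) (tt N83434 (iv4 F426826)) (tt N62953 (iv5 D203058)) (tt N110429 (iv6 F471541)) (tt N83441 F426825))
theorem Q99921 : ∀ i, i < 99921 → P i := stepQ 99920 Q99920 (allL N99920 (tt N120080 (iv1 F518946)) (tt N62954 (iv0 D203059)) (tt N79116 (iv2 F426828)) (tt N101094 (iv3 F431642)) (tt N88422 F426830) (tt N79097 F426827) (tt N88421 (iv6 F426829)) (tt N120079 (iv7 F518934)))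
theorem Q99922 : ∀ i, i < 99922 → P i := stepQ 99921 Q99921 (allL N99921 (tt N62954 (iv1 D203060)) (tt N120080 F518945) (tt N120079 (iv2 F518939)) (tt N77665 (iv3 F426833)) (tt N113372 F485231) (tt N77662 F426832) (tt N120083 D223342) (tt N79116 F426831))
theorem Q99923 : ∀ i, i < 99923 → P i := stepQ 99922 Q99922 (allL N99922 (tt N113167 F484300) (tt N120084 D223343) (tt N113357 (iv2 F485160)) (tt N106024 (iv3 F452785)) (tt N62954 (iv4 D203061)) (tt N116817 (iv5 F501987)) (tt N106022 (iv6 F452778)) (tt N120085 D223344))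
theorem Q99924 : ∀ i, i < 99924 → P i := stepQ 99923 Q99923 (allL N99923 (tt N120079 (iv1 F518933)) (tt N79116 (iv0 F426836)) (tt N120080 (iv2 F518940)) (tt N62963 F426834) (tt N120085 (iv4 F518970)) (tt N62955 F426835) (tt N120085 (iv6 F518972)) (tt N62954 (iv7 D203062)))
theorem Q99925 : ∀ i, i < 99925 → P i := stepQ 99924 Q99924 (allL N99924 (tt N62959 (iv1 F426841)) (tt N62957 (iv0 D203063)) (tt N66711 (iv2 F426840)) (tt N83301 F426839) (tt N99869 F426838) (tt N63610 F426837) (tt N110792 (iv6 F473198)) (tt N66641 F426842))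
theorem Q99926 : ∀ i, i < 99926 → P i := stepQ 99925 Q99925 (allL N99925 (tt N103143 (iv1 F440274)) (tt N63142 F426848) (tt N66712 F426843) (tt N79095 F426844) (tt N63623 F426845) (tt N62957 (iv5 D203064)) (tt N79094 F426846) (tt N76078 F426847))
theorem Q99927 : ∀ i, i < 99927 → P i := stepQ 99926 Q99926 (allL N99926 (tt N99185 F426852) (tt N99187 F426853) (tt N109527 (iv2 F467377)) (tt N88406 F426849) (tt N62960 (iv4 D203065)) (tt N63621 F426851) (tt N109489 (iv6 F467236)) (tt N90827 F426850))
theorem Q99928 : ∀ i, i < 99928 → P i := stepQ 99927 Q99927 (allL N99927 (tt N90612 (iv1 F426858)) (tt N90611 F426859) (tt N85489 F426854) (tt N62961 (iv3 D203066)) (tt N106586 (iv4 F454956)) (tt N84155 (iv5 F426856)) (tt N90138 (iv6 F426857)) (tt N81377 F426855))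
theorem Q99929 : ∀ i, i < 99929 → P i := stepQ 99928 Q99928 (allL N99928 (tt N99187 F426862) (tt N99185 F426863) (tt N90827 F426860) (tt N106635 (iv3 F455112)) (tt N62961 (iv4 D203067)) (tt N63615 F426861) (tt N106632 F455100) (tt N109527 (iv7 F467380)))
theorem Q99930 : ∀ i, i < 99930 → P i := stepQ 99929 Q99929 (allL N99929 (tt N63645 (iv1 F426869)) (tt N63643 F426868) (tt N77631 F426864) (tt N84155 F426865) (tt N63620 F426866) (tt N62961 (iv5 D203068)) (tt N106860 (iv6 F456040)) (tt N67040 F426867))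
theorem Q99931 : ∀ i, i < 99931 → P i := stepQ 99930 Q99930 (allL N99930 (tt N90091 (iv1 F426873)) (tt N106285 F453900) (tt N90832 F426870) (tt N90138 F426871) (tt N106632 (iv4 F455099)) (tt N116791 (iv5 F501855)) (tt N62961 (iv6 D203069)) (tt N90616 F426872))
theorem Q99932 : ∀ i, i < 99932 → P i := stepQ 99931 Q99931 (allL N99931 (tt N63625 (iv1 F426876)) (tt N62962 (iv0 D203070)) (tt N119885 (iv2 F517868)) (tt N119889 F517879) (tt N63649 F426875) (tt N63657 F426874) (tt N75872 (iv6 F426877)) (tt N119886 (iv7 F517870)))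
theorem Q99933 : ∀ i, i < 99933 → P i := stepQ 99932 Q99932 (allL N99932 (tt N62962 (iv1 D203071)) (tt N63625 F426878) (tt N119886 F517873) (tt N72077 (iv3 F426880)) (tt N63661 F426879) (tt N63639 F426881) (tt N119892 F517894) (tt N119885 (iv7 F517867)))
theorem Q99934 : ∀ i, i < 99934 → P i := stepQ 99933 Q99933 (allL N99933 (tt N71885 (iv1 F426883)) (tt N90691 (iv0 F426882)) (tt N106622 (iv2 F455076)) (tt N62962 (iv3 D203072)) (tt N106024 (iv4 F452786)) (tt N106686 (iv5 F455269)) (tt N106023 F452783) (tt N110672 (iv7 F472704)))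
theorem Q99935 : ∀ i, i < 99935 → P i := stepQ 99934 Q99934 (allL N99934 (tt N106623 (iv1 F455081)) (tt N88407 (iv0 F426884)) (tt N106624 (iv2 F455082)) (tt N120085 (iv3 F518969)) (tt N110672 F472706) (tt N120086 D223345) (tt N62963 (iv6 D203073)) (tt N106024 (iv7 F452787)))
theorem Q99936 : ∀ i, i < 99936 → P i := stepQ 99935 Q99935 (allL N99935 (tt N120068 (iv1 F518872)) (tt N117519 (iv0 F505484)) (tt N120069 (iv2 F518878)) (tt N73931 F426885) (tt N113494 F485759) (tt N62964 (iv5 D203074)) (tt N120086 (iv6 F518975)) (tt N62967 F426886))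
theorem Q99937 : ∀ i, i < 99937 → P i := stepQ 99936 Q99936 (allL N99936 (tt N85809 (iv1 F426890)) (tt N106843 (iv0 F455950)) (tt N111102 (iv2 F474673)) (tt N62965 (iv3 D203075)) (tt N84736 F426887) (tt N89968 (iv5 F426889)) (tt N112363 (iv6 F480752)) (tt N89967 F426888))
theorem Q99938 : ∀ i, i < 99938 → P i := stepQ 99937 Q99937 (allL N99937 (tt N113862 (iv1 F487514)) (tt N110104 F470008) (tt N113942 (iv2 F487892)) (tt N89968 F426891) (tt N120087 D223346) (tt N62965 (iv5 D203076)) (tt N120088 D223347) (tt N89966 F426892))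
theorem Q99939 : ∀ i, i < 99939 → P i := stepQ 99938 Q99938 (allL N99938 (tt N113925 (iv1 F487823)) (tt N113707 (iv0 F486752)) (tt N113912 (iv2 F487748)) (tt N112363 F480757) (tt N116209 (iv4 F499029)) (tt N106178 F453477) (tt N62965 (iv6 D203077)) (tt N70077 F426893))
theorem Q99940 : ∀ i, i < 99940 → P i := stepQ 99939 Q99939 (allL N99939 (tt N113883 F487619) (tt N113709 (iv0 F486764)) (tt N110305 (iv2 F470945)) (tt N62966 (iv3 D203078)) (tt N96870 F426894) (tt N113610 (iv5 F486291)) (tt N70056 F426895) (tt N113915 (iv7 F487767)))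
theorem Q99941 : ∀ i, i < 99941 → P i := stepQ 99940 Q99940 (allL N99940 (tt N110104 F470007) (tt N113862 (iv0 F487513)) (tt N89966 F426896) (tt N113610 F486295) (tt N120089 D223348) (tt N62966 (iv5 D203079)) (tt N70063 F426897) (tt N113942 (iv7 F487894)))
theorem Q99942 : ∀ i, i < 99942 → P i := stepQ 99941 Q99941 (allL N99941 (tt N120069 (iv1 F518883)) (tt N62967 (iv0 D203080)) (tt N117519 (iv2 F505481)) (tt N90452 F473512) (tt N120090 D223349) (tt N117518 (iv5 F505478)) (tt N116753 F503203) (tt N120068 (iv7 F518873)))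
theorem Q99943 : ∀ i, i < 99943 → P i := stepQ 99942 Q99942 (allL N99942 (tt N62967 (iv1 D203081)) (tt N120069 F518882) (tt N120068 (iv2 F518877)) (tt N84278 F426899) (tt N120091 D223350) (tt N81701 (iv5 F426898)) (tt N88553 (iv6 F464240)) (tt N117519 (iv7 F505483)))
theorem Q99944 : ∀ i, i < 99944 → P i := stepQ 99943 Q99943 (allL N99943 (tt N82697 F478591) (tt N88551 (iv0 F454270)) (tt N113493 F485754) (tt N88571 F462511) (tt N62967 (iv4 D203082)) (tt N83429 F469386) (tt N106210 (iv6 F453604)) (tt N113494 (iv7 F485758)))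
theorem Q99945 : ∀ i, i < 99945 → P i := stepQ 99944 Q99944 (allL N99944 (tt N87699 (iv1 F426904)) (tt N101695 (iv0 F433908)) (tt N80479 F426900) (tt N62969 (iv3 D203083)) (tt N62972 F426901) (tt N68504 F426902) (tt N101175 F432060) (tt N92580 F426903))
theorem Q99946 : ∀ i, i < 99946 → P i := stepQ 99945 Q99945 (allL N99945 (tt N62970 (iv1 D203084)) (tt N69656 F426905) (tt N63334 F426911) (tt N75477 (iv3 F426909)) (tt N68284 F426908) (tt N74928 F426907) (tt N63333 (iv6 F426910)) (tt N69662 F426906))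
theorem Q99947 : ∀ i, i < 99947 → P i := stepQ 99946 Q99946 (allL N99946 (tt N116151 (iv1 F498768)) (tt N90857 (iv0 F426914)) (tt N107185 (iv2 F457397)) (tt N62971 (iv3 D203085)) (tt N99814 F426912) (tt N100761 (iv5 F430340)) (tt N120074 (iv6 F518911)) (tt N76375 F426913))
theorem Q99948 : ∀ i, i < 99948 → P i := stepQ 99947 Q99947 (allL N99947 (tt N63661 F426915) (tt N63649 F426916) (tt N113484 (iv2 F485707)) (tt N100761 F430342) (tt N117224 (iv4 F503990)) (tt N62971 (iv5 D203086)) (tt N113216 F484529) (tt N108800 (iv7 F464007)))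
theorem Q99949 : ∀ i, i < 99949 → P i := stepQ 99948 Q99948 (allL N99948 (tt N109099 F465336) (tt N99990 (iv0 F427077)) (tt N62972 (iv2 D203088)) (tt N77262 F426917) (tt N80479 F426918) (tt N120060 (iv5 F518830)) (tt N77259 (iv6 F426919)) (tt N101698 (iv7 F433926)))
theorem Q99950 : ∀ i, i < 99950 → P i := stepQ 99949 Q99949 (allL N99949 (tt N114024 F488247) (tt N75116 F426921) (tt N120060 F518833) (tt N62973 F426920) (tt N112196 (iv4 F480004)) (tt N62972 (iv5 D203089)) (tt N120092 D223351) (tt N116250 F499216))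
theorem Q99951 : ∀ i, i < 99951 → P i := stepQ 99950 Q99950 (allL N99950 (tt N109225 (iv1 F465855)) (tt N81353 (iv0 F426925)) (tt N77259 F426922) (tt N62974 F426923) (tt N101175 F432058) (tt N95917 (iv5 F426924)) (tt N62972 (iv6 D203090)) (tt N109133 (iv7 F465493)))
theorem Q99952 : ∀ i, i < 99952 → P i := stepQ 99951 Q99951 (allL N99951 (tt N62977 (iv1 F426928)) (tt N62973 (iv0 D203091)) (tt N100430 (iv2 F428942)) (tt N90854 (iv3 F426929)) (tt N109487 (iv4 F467221)) (tt N99846 F426927) (tt N105264 (iv6 F449461)) (tt N100428 (iv7 F428933)))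
theorem Q99953 : ∀ i, i < 99953 → P i := stepQ 99952 Q99952 (allL N99952 (tt N62973 (iv1 D203092)) (tt N62977 F426930) (tt N100428 (iv2 F428932)) (tt N64784 (iv3 F426932)) (tt N119706 (iv4 F517015)) (tt N64783 F426931) (tt N120093 D223352) (tt N100430 (iv7 F428945)))
theorem Q99954 : ∀ i, i < 99954 → P i := stepQ 99953 Q99953 (allL N99953 (tt N119977 (iv1 F518354)) (tt N107195 (iv0 F457422)) (tt N83309 F426933) (tt N120092 (iv3 F518998)) (tt N117280 F504262) (tt N95919 F426934) (tt N62973 (iv6 D203093)) (tt N109497 (iv7 F467276)))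
theorem Q99955 : ∀ i, i < 99955 → P i := stepQ 99954 Q99954 (allL N99954 (tt N63624 F426938) (tt N63623 F426939) (tt N75638 F426935) (tt N104261 F444999) (tt N62975 (iv4 D203094)) (tt N100358 F428580) (tt N78219 F426936) (tt N63488 F426937))
theorem Q99956 : ∀ i, i < 99956 → P i := stepQ 99955 Q99955 (allL N99955 (tt N62978 (iv1 F426942)) (tt N62976 (iv0 D203095)) (tt N69053 (iv2 F426943)) (tt N105724 F451425) (tt N100071 (iv4 F427430)) (tt N77743 F426940) (tt N77744 F426941) (tt N63484 (iv7 F426944)))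
theorem Q99957 : ∀ i, i < 99957 → P i := stepQ 99956 Q99956 (allL N99956 (tt N62976 (iv1 D203096)) (tt N62978 F426945) (tt N63484 F426950) (tt N78560 (iv3 F426948)) (tt N98379 F426947) (tt N100363 (iv5 F428604)) (tt N63444 (iv6 F426949)) (tt N69053 F426946))
theorem Q99958 : ∀ i, i < 99958 → P i := stepQ 99957 Q99957 (allL N99957 (tt N99839 F426952) (tt N99791 F426953) (tt N109097 F465326) (tt N62980 (iv3 D203097)) (tt N92583 F426951) (tt N82715 F426954) (tt N92582 (iv6 F426956)) (tt N105265 (iv7 F449465)))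
theorem Q99959 : ∀ i, i < 99959 → P i := stepQ 99958 Q99958 (allL N99958 (tt N113487 (iv1 F485731)) (tt N100061 (iv0 F429524)) (tt N110152 F470195) (tt N82715 F426958) (tt N82723 F426959) (tt N62980 (iv5 D203098)) (tt N120094 D223353) (tt N105269 (iv7 F449481)))
theorem Q99960 : ∀ i, i < 99960 → P i := stepQ 99959 Q99959 (allL N99959 (tt N105274 (iv1 F449503)) (tt N105258 (iv0 F449421)) (tt N104153 (iv2 F444443)) (tt N92582 F426960) (tt N62982 F426961) (tt N95989 F426962) (tt N62980 (iv6 D203099)) (tt N104151 (iv7 F444433)))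
theorem Q99961 : ∀ i, i < 99961 → P i := stepQ 99960 Q99960 (allL N99960 (tt N72651 F426965) (tt N72650 F426966) (tt N72653 F426963) (tt N112607 (iv3 F481817)) (tt N62981 (iv4 D203100)) (tt N112605 F481805) (tt N110705 (iv6 F472840)) (tt N72647 F426964))
theorem Q99962 : ∀ i, i < 99962 → P i := stepQ 99961 Q99961 (allL N99961 (tt N100061 F427393) (tt N113487 (iv0 F485730)) (tt N105269 (iv2 F449478)) (tt N110066 F469816) (tt N120095 D223354) (tt N62983 (iv5 D203101)) (tt N103912 (iv6 F443336)) (tt N110152 (iv7 F470194)))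
theorem Q99963 : ∀ i, i < 99963 → P i := stepQ 99962 Q99962 (allL N99962 (tt N77994 F426974) (tt N78001 F426975) (tt N76255 F426971) (tt N112611 (iv3 F481837)) (tt N62985 (iv4 D203102)) (tt N120096 D223355) (tt N99730 F426972) (tt N76820 F426973))
theorem Q99964 : ∀ i, i < 99964 → P i := stepQ 99963 Q99963 (allL N99963 (tt N76819 (iv1 F426978)) (tt N62986 (iv0 D203103)) (tt N76816 (iv2 F426979)) (tt N110925 F473812) (tt N72278 F426977) (tt N119771 (iv5 F517339)) (tt N98779 F426981) (tt N76817 (iv7 F426980)))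
theorem Q99965 : ∀ i, i < 99965 → P i := stepQ 99964 Q99964 (allL N99964 (tt N62986 (iv1 D203104)) (tt N76819 F426982) (tt N76817 F426985) (tt N99126 (iv3 F426987)) (tt N81702 (iv4 F426984)) (tt N119772 (iv5 F517347)) (tt N76777 F426986) (tt N76816 F426983))
theorem Q99966 : ∀ i, i < 99966 → P i := stepQ 99965 Q99965 (allL N99965 (tt N120097 D223356) (tt N119834 (iv0 F517605)) (tt N76818 F426988) (tt N110571 (iv3 F472189)) (tt N83428 F458685) (tt N62986 (iv5 D203105)) (tt N120098 D223357) (tt N78208 F426989))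
theorem Q99967 : ∀ i, i < 99967 → P i := stepQ 99966 Q99966 (allL N99966 (tt N77844 F433190) (tt N106654 F455167) (tt N77957 F426990) (tt N62987 (iv3 D203106)) (tt N78827 F426991) (tt N109985 (iv5 F469462)) (tt N90944 F426992) (tt N63672 F426993))
theorem Q99968 : ∀ i, i < 99968 → P i := stepQ 99967 Q99967 (allL N99967 (tt N89489 (iv1 F426998)) (tt N89491 (iv0 F426997)) (tt N90183 (iv2 F426999)) (tt N62988 (iv3 D203107)) (tt N76190 F426994) (tt N109970 (iv5 F469422)) (tt N99072 F426995) (tt N63679 F426996))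
theorem Q99969 : ∀ i, i < 99969 → P i := stepQ 99968 Q99968 (allL N99968 (tt N77944 F427002) (tt N77940 (iv0 F427004)) (tt N77942 F427003) (tt N62989 (iv3 D203108)) (tt N67069 F427000) (tt N109972 (iv5 F469428)) (tt N120099 D223358) (tt N63682 F427001))
theorem Q99970 : ∀ i, i < 99970 → P i := stepQ 99969 Q99969 (allL N99969 (tt N77705 F427008) (tt N99048 (iv0 F427009)) (tt N63681 F427005) (tt N120099 (iv3 F519035)) (tt N67068 F427006) (tt N120100 D223359) (tt N62989 (iv6 D203109)) (tt N99073 F427007))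
theorem Q99971 : ∀ i, i < 99971 → P i := stepQ 99970 Q99970 (allL N99970 (tt N62990 (iv1 D203110)) (tt N63384 F427010) (tt N63687 (iv2 F427013)) (tt N118231 (iv3 F509269)) (tt N109878 (iv4 F469055)) (tt N67066 F427012) (tt N110567 F472175) (tt N63688 F427011))
theorem Q99972 : ∀ i, i < 99972 → P i := stepQ 99971 Q99971 (allL N99971 (tt N120101 D223360) (tt N120102 D223361) (tt N76815 F427014) (tt N110569 (iv3 F472182)) (tt N83416 F481480) (tt N120098 (iv5 F519031)) (tt N62990 (iv6 D203111)) (tt N120103 D223362))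
theorem Q99973 : ∀ i, i < 99973 → P i := stepQ 99972 Q99972 (allL N99972 (tt N72802 (iv1 F427018)) (tt N62991 (iv0 D203112)) (tt N63305 F427020) (tt N63941 F427017) (tt N63279 F427016) (tt N85566 F427015) (tt N87031 (iv6 F427019)) (tt N63302 (iv7 F427021)))
theorem Q99974 : ∀ i, i < 99974 → P i := stepQ 99973 Q99973 (allL N99973 (tt N62991 (iv1 D203113)) (tt N72802 F427022) (tt N63302 F427026) (tt N85576 (iv3 F427025)) (tt N63278 (iv4 F427024)) (tt N85568 F427027) (tt N111300 (iv6 F475701)) (tt N63305 F427023))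
theorem Q99975 : ∀ i, i < 99975 → P i := stepQ 99974 Q99974 (allL N99974 (tt N103068 (iv1 F439940)) (tt N109135 (iv0 F465505)) (tt N119994 (iv2 F518442)) (tt N62992 F427028) (tt N63309 F427030) (tt N62991 (iv5 D203114)) (tt N86322 (iv6 F427031)) (tt N75572 F427029))
theorem Q99976 : ∀ i, i < 99976 → P i := stepQ 99975 Q99975 (allL N99975 (tt N120104 D223363) (tt N120105 D223364) (tt N63002 F427032) (tt N86322 F427033) (tt N102918 (iv4 F439265)) (tt N106566 F454884) (tt N62992 (iv6 D203115)) (tt N120106 D223365))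
theorem Q99977 : ∀ i, i < 99977 → P i := stepQ 99976 Q99976 (allL N99976 (tt N106186 F453518) (tt N105294 (iv0 F449606)) (tt N63005 F427034) (tt N75563 F427035) (tt N96922 F427036) (tt N62993 (iv5 D203116)) (tt N106566 (iv6 F454889)) (tt N101173 (iv7 F432048)))
theorem Q99978 : ∀ i, i < 99978 → P i := stepQ 99977 Q99977 (allL N99977 (tt N100142 F427665) (tt N63068 (iv0 F427042)) (tt N63008 F427037) (tt N74995 F427038) (tt N99878 F427039) (tt N77622 F427040) (tt N62995 (iv6 D203117)) (tt N74994 F427041))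
theorem Q99979 : ∀ i, i < 99979 → P i := stepQ 99978 Q99978 (allL N99978 (tt N74343 (iv1 F427046)) (tt N63067 F427047) (tt N75578 F427043) (tt N96213 F427044) (tt N108796 (iv4 F463986)) (tt N112031 (iv5 F479164)) (tt N63049 F427045) (tt N62998 (iv7 D203118)))
theorem Q99980 : ∀ i, i < 99980 → P i := stepQ 99979 Q99979 (allL N99979 (tt N101202 (iv1 F432179)) (tt N112363 (iv0 F480755)) (tt N101337 (iv2 F432693)) (tt N63000 F427048) (tt N98116 F427049) (tt N101335 F432691) (tt N62999 (iv6 D203119)) (tt N75645 F427050))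
theorem Q99981 : ∀ i, i < 99981 → P i := stepQ 99980 Q99980 (allL N99980 (tt N63754 F427054) (tt N77637 F427055) (tt N75576 F427051) (tt N101335 (iv3 F432689)) (tt N76627 F427052) (tt N63000 (iv5 D203120)) (tt N120061 (iv6 F518838)) (tt N75647 F427053))
theorem Q99982 : ∀ i, i < 99982 → P i := stepQ 99981 Q99981 (allL N99981 (tt N117761 (iv1 F506845)) (tt N69884 F446696) (tt N106250 (iv2 F453764)) (tt N63001 (iv3 D203121)) (tt N105950 (iv4 F452468)) (tt N102910 (iv5 F439225)) (tt N120107 D223366) (tt N75585 F427056))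
theorem Q99983 : ∀ i, i < 99983 → P i := stepQ 99982 Q99982 (allL N99982 (tt N108882 (iv1 F464358)) (tt N113759 (iv0 F486992)) (tt N102918 (iv2 F439263)) (tt N120107 (iv3 F519082)) (tt N63002 F427057) (tt N116253 (iv5 F499233)) (tt N63001 (iv6 D203122)) (tt N103747 (iv7 F442657)))
theorem Q99984 : ∀ i, i < 99984 → P i := stepQ 99983 Q99983 (allL N99983 (tt N120106 (iv1 F519080)) (tt N63002 (iv0 D203123)) (tt N120104 F519065) (tt N105517 (iv3 F457038)) (tt N120108 D223367) (tt N107259 F489715) (tt N105516 F457037) (tt N120105 (iv7 F519069)))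
theorem Q99985 : ∀ i, i < 99985 → P i := stepQ 99984 Q99984 (allL N99984 (tt N63002 (iv1 D203124)) (tt N120106 F519079) (tt N120105 (iv2 F519073)) (tt N84060 F427059) (tt N120109 D223368) (tt N106238 (iv5 F453710)) (tt N84058 (iv6 F427058)) (tt N120104 F519066))
theorem Q99986 : ∀ i, i < 99986 → P i := stepQ 99985 Q99985 (allL N99985 (tt N106562 F454871) (tt N106568 F454891) (tt N106566 (iv2 F454888)) (tt N73914 F427060) (tt N117898 (iv4 F507493)) (tt N63002 (iv5 D203125)) (tt N63005 F427061) (tt N106565 F454887))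
theorem Q99987 : ∀ i, i < 99987 → P i := stepQ 99986 Q99986 (allL N99986 (tt N120105 (iv1 F519068)) (tt N120104 (iv0 F519067)) (tt N120106 (iv2 F519074)) (tt N119998 (iv3 F518468)) (tt N103747 (iv4 F442656)) (tt N106565 (iv5 F454885)) (tt N75586 F427062) (tt N63002 (iv7 D203126)))
theorem Q99988 : ∀ i, i < 99988 → P i := stepQ 99987 Q99987 (allL N99987 (tt N75642 F427065) (tt N73925 (iv0 F427067)) (tt N75654 F427063) (tt N69865 F427064) (tt N102948 (iv4 F439386)) (tt N82842 F427066) (tt N63003 (iv6 D203127)) (tt N75653 (iv7 F427068)))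
theorem Q99989 : ∀ i, i < 99989 → P i := stepQ 99988 Q99988 (allL N99988 (tt N101173 (iv1 F432049)) (tt N63005 (iv0 D203128)) (tt N106186 (iv2 F453513)) (tt N64790 (iv3 F427071)) (tt N94231 F427069) (tt N64781 F427070) (tt N94230 (iv6 F427072)) (tt N105294 (iv7 F449605)))
theorem Q99990 : ∀ i, i < 99990 → P i := stepQ 99989 Q99989 (allL N99989 (tt N63005 (iv1 D203129)) (tt N101173 F432050) (tt N105294 (iv2 F449602)) (tt N106040 (iv3 F452846)) (tt N99206 (iv4 F432051)) (tt N105293 (iv5 F449600)) (tt N106039 F452844) (tt N106186 F453517))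
theorem Q99991 : ∀ i, i < 99991 → P i := stepQ 99990 Q99990 (allL N99990 (tt N99948 F427077) (tt N99872 (iv0 F427078)) (tt N99878 F427073) (tt N83879 F427074) (tt N63008 F427075) (tt N120110 D223369) (tt N63007 (iv6 D203130)) (tt N84367 F427076))
theorem Q99992 : ∀ i, i < 99992 → P i := stepQ 99991 Q99991 (allL N99991 (tt N69621 F427084) (tt N75119 (iv0 F427085)) (tt N77622 F427079) (tt N78308 F427080) (tt N66914 F427083) (tt N63008 (iv5 D203131)) (tt N77618 F427081) (tt N77666 F427082))
theorem Q99993 : ∀ i, i < 99993 → P i := stepQ 99992 Q99992 (allL N99992 (tt N75310 F427090) (tt N75441 F427091) (tt N75348 F427086) (tt N73645 F427087) (tt N63011 F427088) (tt N104801 (iv5 F447349)) (tt N63009 (iv6 D203132)) (tt N75440 F427089))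
theorem Q99994 : ∀ i, i < 99994 → P i := stepQ 99993 Q99993 (allL N99993 (tt N78230 (iv1 F427097)) (tt N108920 F464490) (tt N75349 F427092) (tt N69060 F427093) (tt N63010 (iv4 D203133)) (tt N90307 F427096) (tt N93523 F427094) (tt N75352 F427095))
theorem Q99995 : ∀ i, i < 99995 → P i := stepQ 99994 Q99994 (allL N99994 (tt N117744 (iv1 F506754)) (tt N117351 (iv0 F504618)) (tt N75535 F427098) (tt N85987 F427099) (tt N120111 D223370) (tt N63016 (iv5 D203134)) (tt N114372 (iv6 F489855)) (tt N85984 F427100))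
theorem Q99996 : ∀ i, i < 99996 → P i := stepQ 99995 Q99995 (allL N99995 (tt N108372 F462304) (tt N105792 (iv0 F451740)) (tt N89622 (iv2 F427104)) (tt N63017 (iv3 D203135)) (tt N109768 (iv4 F468521)) (tt N97978 F427101) (tt N86180 F427102) (tt N75545 F427103))
theorem Q99997 : ∀ i, i < 99997 → P i := stepQ 99996 Q99996 (allL N99996 (tt N63032 F427108) (tt N73934 (iv0 F427109)) (tt N73742 F427105) (tt N73968 F427106) (tt N103002 (iv4 F439634)) (tt N76450 F427107) (tt N63021 (iv6 D203136)) (tt N104221 (iv7 F444777)))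
theorem Q99998 : ∀ i, i < 99998 → P i := stepQ 99997 Q99997 (allL N99997 (tt N63033 F427112) (tt N63036 (iv0 F427113)) (tt N73900 F427110) (tt N110054 (iv3 F469752)) (tt N99456 F427111) (tt N116695 (iv5 F501347)) (tt N63024 (iv6 D203137)) (tt N107179 (iv7 F457368)))
theorem Q99999 : ∀ i, i < 99999 → P i := stepQ 99998 Q99998 (allL N99998 (tt N106955 (iv1 F456434)) (tt N99424 F427117) (tt N72036 F427114) (tt N118910 (iv3 F512700)) (tt N63026 (iv4 D203138)) (tt N72016 F427116) (tt N107398 F458213) (tt N72033 F427115))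
theorem Q100000 : ∀ i, i < 100000 → P i := stepQ 99999 Q99999 (allL N99999 (tt N120112 D223371) (tt N120113 D223372) (tt N73907 F427118) (tt N86334 F427119) (tt N107398 (iv4 F458215)) (tt N86333 (iv5 F427122)) (tt N63026 (iv6 D203139)) (tt N107409 (iv7 F458245)))
theorem Q100001 : ∀ i, i < 100001 → P i := stepQ 100000 Q100000 (allL N100000 (tt N73364 F427127) (tt N73372 F427128) (tt N70418 F427123) (tt N86335 F427124) (tt N119225 (iv4 F514467)) (tt N63027 (iv5 D203140)) (tt N86333 F427125) (tt N89663 F427126))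
theorem Q100002 : ∀ i, i < 100002 → P i := stepQ 100001 Q100001 (allL N100001 (tt N99424 F427132) (tt N106955 (iv0 F456433)) (tt N72033 F427129) (tt N116675 (iv3 F501257)) (tt N63028 (iv4 D203141)) (tt N72015 F427130) (tt N100944 (iv6 F431056)) (tt N72036 F427131))
theorem Q100003 : ∀ i, i < 100003 → P i := stepQ 100002 Q100002 (allL N100002 (tt N69649 F427137) (tt N64514 F427138) (tt N63038 F427133) (tt N103906 (iv3 F443301)) (tt N63030 (iv4 D203142)) (tt N64398 F427136) (tt N65002 F427134) (tt N64549 F427135))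
theorem Q100004 : ∀ i, i < 100004 → P i := stepQ 100003 Q100003 (allL N100003 (tt N99449 F427142) (tt N91114 F427143) (tt N73938 F427139) (tt N95997 F427140) (tt N63035 (iv4 D203143)) (tt N95995 (iv5 F427144)) (tt N73897 F427141) (tt N105080 (iv7 F448692)))
theorem Q100005 : ∀ i, i < 100005 → P i := stepQ 100004 Q100004 (allL N100004 (tt N63038 (iv1 D203144)) (tt N64549 F427146) (tt N64514 F427150) (tt N64909 (iv3 F427149)) (tt N69652 F427148) (tt N100957 (iv5 F431093)) (tt N64512 F427151) (tt N69649 F427147))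
theorem Q100006 : ∀ i, i < 100006 → P i := stepQ 100005 Q100005 (allL N100005 (tt N88908 F427155) (tt N80873 (iv0 F427156)) (tt N88910 (iv2 F427157)) (tt N63038 (iv3 D203145)) (tt N63045 F427152) (tt N116553 (iv5 F500734)) (tt N73955 F427153) (tt N65419 F427154))
theorem Q100007 : ∀ i, i < 100007 → P i := stepQ 100006 Q100006 (allL N100006 (tt N64298 F427160) (tt N64388 F427161) (tt N64398 F427158) (tt N116553 F500736) (tt N116818 (iv4 F501992)) (tt N63038 (iv5 D203146)) (tt N107057 (iv6 F456797)) (tt N64399 F427159))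
theorem Q100008 : ∀ i, i < 100008 → P i := stepQ 100007 Q100007 (allL N100007 (tt N103008 (iv1 F439653)) (tt N104772 (iv0 F447194)) (tt N75616 F427162) (tt N81322 (iv3 F427166)) (tt N63039 (iv4 D203147)) (tt N76771 F427165) (tt N73969 F427163) (tt N73638 F427164))
theorem Q100009 : ∀ i, i < 100009 → P i := stepQ 100008 Q100008 (allL N100008 (tt N70067 (iv1 F427171)) (tt N63041 (iv0 D203148)) (tt N75617 (iv2 F427170)) (tt N113030 (iv3 F483619)) (tt N109401 (iv4 F466778)) (tt N68230 F427168) (tt N73971 F427169) (tt N73957 F427172))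
theorem Q100010 : ∀ i, i < 100010 → P i := stepQ 100009 Q100009 (allL N100009 (tt N120114 D223373) (tt N120115 D223374) (tt N84354 F427173) (tt N63046 (iv3 D203149)) (tt N100793 (iv4 F430497)) (tt N89790 F427174) (tt N84352 F427175) (tt N75030 F427176))
theorem Q100011 : ∀ i, i < 100011 → P i := stepQ 100010 Q100010 (allL N100010 (tt N111298 (iv1 F475696)) (tt N111300 (iv0 F475704)) (tt N111265 (iv2 F475519)) (tt N63047 (iv3 D203150)) (tt N75621 F427177) (tt N116925 (iv5 F502528)) (tt N76355 F427178) (tt N75640 F427179))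
theorem Q100012 : ∀ i, i < 100012 → P i := stepQ 100011 Q100011 (allL N100011 (tt N75650 F427184) (tt N64780 F427183) (tt N63051 F427180) (tt N116925 (iv3 F502526)) (tt N98422 F427182) (tt N63047 (iv5 D203151)) (tt N116924 (iv6 F502524)) (tt N75641 F427181))
theorem Q100013 : ∀ i, i < 100013 → P i := stepQ 100012 Q100012 (allL N100012 (tt N75660 F427190) (tt N75659 F427191) (tt N63052 F427185) (tt N76741 F427186) (tt N63048 (iv4 D203152)) (tt N76622 F427187) (tt N66374 F427188) (tt N75643 F427189))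
theorem Q100014 : ∀ i, i < 100014 → P i := stepQ 100013 Q100013 (allL N100013 (tt N73924 (iv1 F427194)) (tt N63050 (iv0 D203153)) (tt N75648 (iv2 F427193)) (tt N113707 (iv3 F486748)) (tt N73939 F427192) (tt N109560 (iv5 F467522)) (tt N100491 (iv6 F429153)) (tt N72813 F427195))
theorem Q100015 : ∀ i, i < 100015 → P i := stepQ 100014 Q100014 (allL N100014 (tt N75648 (iv1 F427199)) (tt N72813 F427198) (tt N63050 (iv2 D203154)) (tt N111265 (iv3 F475520)) (tt N63054 F427196) (tt N88874 (iv5 F427200)) (tt N111125 (iv6 F474801)) (tt N73924 F427197))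
theorem Q100016 : ∀ i, i < 100016 → P i := stepQ 100015 Q100015 (allL N100015 (tt N99536 F427205) (tt N108060 F460936) (tt N88874 F427201) (tt N63051 F427202) (tt N85416 F427204) (tt N63050 (iv5 D203155)) (tt N85415 (iv6 F427206)) (tt N75649 F427203))
theorem Q100017 : ∀ i, i < 100017 → P i := stepQ 100016 Q100016 (allL N100016 (tt N114624 (iv1 F491063)) (tt N98393 (iv0 F427210)) (tt N116924 (iv2 F502519)) (tt N85415 F427207) (tt N98331 F427208) (tt N95901 F427209) (tt N63051 (iv6 D203156)) (tt N88877 (iv7 F427211)))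
theorem Q100018 : ∀ i, i < 100018 → P i := stepQ 100017 Q100017 (allL N100017 (tt N99744 F427215) (tt N75552 (iv0 F427216)) (tt N63060 F427212) (tt N109679 (iv3 F468065)) (tt N63058 F427213) (tt N89620 F427214) (tt N63057 (iv6 D203157)) (tt N105024 (iv7 F448437)))
theorem Q100019 : ∀ i, i < 100019 → P i := stepQ 100018 Q100018 (allL N100018 (tt N66769 (iv1 F427225)) (tt N75623 F427224) (tt N63059 (iv2 D203158)) (tt N84711 F427219) (tt N63066 F427220) (tt N84786 F427221) (tt N66947 F427222) (tt N75624 F427223))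
theorem Q100020 : ∀ i, i < 100020 → P i := stepQ 100019 Q100019 (allL N100019 (tt N100235 F428100) (tt N86224 F427229) (tt N89620 F427226) (tt N75954 F427227) (tt N107268 (iv4 F457719)) (tt N63060 (iv5 D203159)) (tt N86176 F427228) (tt N100234 (iv7 F428092)))
theorem Q100021 : ∀ i, i < 100021 → P i := stepQ 100020 Q100020 (allL N100020 (tt N75795 F427234) (tt N108803 F464028) (tt N100766 (iv2 F430364)) (tt N79895 F427230) (tt N63062 (iv4 D203160)) (tt N98489 F427233) (tt N98270 F427231) (tt N75562 F427232))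
theorem Q100022 : ∀ i, i < 100022 → P i := stepQ 100021 Q100021 (allL N100021 (tt N119239 F514559) (tt N111597 (iv0 F477092)) (tt N75442 F427235) (tt N63069 (iv3 D203161)) (tt N104884 (iv4 F447799)) (tt N66844 F427236) (tt N66934 F427237) (tt N75673 F427238))
theorem Q100023 : ∀ i, i < 100023 → P i := stepQ 100022 Q100022 (allL N100022 (tt N92565 F427243) (tt N109044 F465079) (tt N105787 (iv2 F451713)) (tt N92733 F427239) (tt N69914 F427242) (tt N63071 (iv5 D203162)) (tt N69912 F427240) (tt N75668 F427241))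
theorem Q100024 : ∀ i, i < 100024 → P i := stepQ 100023 Q100023 (allL N100023 (tt N65086 (iv1 F427248)) (tt N64517 F427249) (tt N64925 F427244) (tt N63080 F427245) (tt N64534 F427246) (tt N109383 (iv5 F466684)) (tt N63108 F427247) (tt N63079 (iv7 D203163)))
theorem Q100025 : ∀ i, i < 100025 → P i := stepQ 100024 Q100024 (allL N100024 (tt N81364 F427254) (tt N75401 (iv0 F427253)) (tt N81466 F427250) (tt N63081 (iv3 D203164)) (tt N65113 F427251) (tt N108682 (iv5 F463527)) (tt N65166 F427252) (tt N111920 (iv7 F478655)))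
theorem Q100026 : ∀ i, i < 100026 → P i := stepQ 100025 Q100025 (allL N100025 (tt N76514 F427259) (tt N76374 F427260) (tt N65003 F427255) (tt N63094 F427256) (tt N63327 F427258) (tt N63093 (iv5 D203165)) (tt N63328 F427257) (tt N63370 (iv7 F427261)))
theorem Q100027 : ∀ i, i < 100027 → P i := stepQ 100026 Q100026 (allL N100026 (tt N64552 (iv1 F427267)) (tt N65002 F427268) (tt N64929 F427262) (tt N63095 F427263) (tt N63108 F427264) (tt N63370 F427265) (tt N64534 F427266) (tt N63093 (iv7 D203166)))
theorem Q100028 : ∀ i, i < 100028 → P i := stepQ 100027 Q100027 (allL N100027 (tt N63116 F427273) (tt N63136 F427274) (tt N63134 F427269) (tt N88540 F427270) (tt N116163 (iv4 F498820)) (tt N63097 (iv5 D203167)) (tt N71416 F427271) (tt N63133 F427272))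
theorem Q100029 : ∀ i, i < 100029 → P i := stepQ 100028 Q100028 (allL N100028 (tt N76075 F427278) (tt N76072 F427279) (tt N107101 (iv2 F456969)) (tt N65187 F427275) (tt N112183 (iv4 F479941)) (tt N63098 (iv5 D203168)) (tt N71697 F427276) (tt N77265 F427277))
theorem Q100030 : ∀ i, i < 100030 → P i := stepQ 100029 Q100029 (allL N100029 (tt N88625 F427285) (tt N88618 (iv0 F427286)) (tt N88622 F427281) (tt N63099 (iv3 D203169)) (tt N118605 (iv4 F511123)) (tt N69574 F427282) (tt N71390 F427283) (tt N88623 F427284))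
theorem Q100031 : ∀ i, i < 100031 → P i := stepQ 100030 Q100030 (allL N100030 (tt N63102 (iv1 D203170)) (tt N82318 F427287) (tt N76025 F427293) (tt N82558 (iv3 F427291)) (tt N77612 F427289) (tt N99212 F427290) (tt N82557 (iv6 F427292)) (tt N75861 F427288))
theorem Q100032 : ∀ i, i < 100032 → P i := stepQ 100031 Q100031 (allL N100031 (tt N118435 F510342) (tt N116640 (iv0 F501102)) (tt N118537 (iv2 F510842)) (tt N63111 (iv3 D203171)) (tt N67081 F427294) (tt N120116 D223375) (tt N118320 (iv6 F509689)) (tt N76050 F427295))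
theorem Q100033 : ∀ i, i < 100033 → P i := stepQ 100032 Q100032 (allL N100032 (tt N74507 F427299) (tt N74505 F427300) (tt N76048 F427296) (tt N120116 (iv3 F519134)) (tt N76051 F427297) (tt N63111 (iv5 D203172)) (tt N113272 (iv6 F484811)) (tt N76051 F427298))
theorem Q100034 : ∀ i, i < 100034 → P i := stepQ 100033 Q100033 (allL N100033 (tt N110592 (iv1 F472280)) (tt N92514 (iv0 F427303)) (tt N76049 F427301) (tt N118320 F509688) (tt N76044 F427302) (tt N113270 (iv5 F484802)) (tt N63111 (iv6 D203173)) (tt N111931 (iv7 F478728)))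
theorem Q100035 : ∀ i, i < 100035 → P i := stepQ 100034 Q100034 (allL N100034 (tt N64399 F427310) (tt N64398 F427311) (tt N64298 F427305) (tt N63116 F427306) (tt N83437 F427307) (tt N63113 (iv5 D203174)) (tt N88582 F427308) (tt N64388 F427309))
theorem Q100036 : ∀ i, i < 100036 → P i := stepQ 100035 Q100035 (allL N100035 (tt N63136 (iv1 F427316)) (tt N63116 (iv0 D203175)) (tt N63133 (iv2 F427313)) (tt N76968 (iv3 F427315)) (tt N106504 (iv4 F454690)) (tt N64913 F427312) (tt N112169 (iv6 F479866)) (tt N63134 F427314))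
theorem Q100037 : ∀ i, i < 100037 → P i := stepQ 100036 Q100036 (allL N100036 (tt N110099 (iv1 F469982)) (tt N110101 (iv0 F469993)) (tt N63135 F427317) (tt N113953 F487943) (tt N63116 (iv4 D203176)) (tt N120117 D223376) (tt N99783 F427318) (tt N120118 D223377))
theorem Q100038 : ∀ i, i < 100038 → P i := stepQ 100037 Q100037 (allL N100037 (tt N63134 (iv1 F427322)) (tt N63133 F427323) (tt N63136 F427319) (tt N64388 F427320) (tt N120118 (iv4 F519146)) (tt N63117 F427321) (tt N109668 (iv6 F468022)) (tt N63116 (iv7 D203177)))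
theorem Q100039 : ∀ i, i < 100039 → P i := stepQ 100038 Q100038 (allL N100038 (tt N63156 (iv1 F427329)) (tt N63120 (iv0 D203178)) (tt N63153 (iv2 F427325)) (tt N89367 (iv3 F427326)) (tt N63335 F427324) (tt N108240 (iv5 F461643)) (tt N74282 (iv6 F427327)) (tt N63154 (iv7 F427328)))
theorem Q100040 : ∀ i, i < 100040 → P i := stepQ 100039 Q100039 (allL N100039 (tt N63120 (iv1 D203179)) (tt N63156 F427330) (tt N63154 F427334) (tt N107354 (iv3 F458065)) (tt N76981 F427332) (tt N106503 F454684) (tt N65378 (iv6 F427333)) (tt N63153 F427331))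
theorem Q100041 : ∀ i, i < 100041 → P i := stepQ 100040 Q100040 (allL N100040 (tt N94243 F429269) (tt N112041 (iv0 F479215)) (tt N94251 F427335) (tt N63120 (iv3 D203180)) (tt N63801 F427336) (tt N118541 (iv5 F510862)) (tt N63124 F427337) (tt N111616 (iv7 F477169)))
theorem Q100042 : ∀ i, i < 100042 → P i := stepQ 100041 Q100041 (allL N100041 (tt N92494 F427339) (tt N104720 (iv0 F446978)) (tt N63155 F427338) (tt N118541 (iv3 F510861)) (tt N120119 D223378) (tt N63120 (iv5 D203181)) (tt N102735 F438420) (tt N120120 D223379))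
theorem Q100043 : ∀ i, i < 100043 → P i := stepQ 100042 Q100042 (allL N100042 (tt N63154 (iv1 F427343)) (tt N63153 F427344) (tt N63156 F427340) (tt N111616 (iv3 F477167)) (tt N63121 F427341) (tt N120120 (iv5 F519157)) (tt N77768 F427342) (tt N63120 (iv7 D203182)))
theorem Q100044 : ∀ i, i < 100044 → P i := stepQ 100043 Q100043 (allL N100043 (tt N120121 D223380) (tt N118852 (iv0 F512419)) (tt N116427 (iv2 F500046)) (tt N63122 (iv3 D203183)) (tt N63354 F427345) (tt N108828 (iv5 F464151)) (tt N107936 (iv6 F460368)) (tt N63172 F427346))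
theorem Q100045 : ∀ i, i < 100045 → P i := stepQ 100044 Q100044 (allL N100044 (tt N89557 (iv1 F427352)) (tt N89016 (iv0 F427350)) (tt N89559 (iv2 F427351)) (tt N63123 (iv3 D203184)) (tt N77675 F427347) (tt N103183 (iv5 F440459)) (tt N74274 F427348) (tt N63169 F427349))
theorem Q100046 : ∀ i, i < 100046 → P i := stepQ 100045 Q100045 (allL N100045 (tt N74359 (iv1 F427355)) (tt N63124 (iv0 D203185)) (tt N77761 (iv2 F427356)) (tt N116842 F502128) (tt N66332 F427354) (tt N94325 F427353) (tt N117069 (iv6 F503225)) (tt N66331 (iv7 F427357)))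
theorem Q100047 : ∀ i, i < 100047 → P i := stepQ 100046 Q100046 (allL N100046 (tt N63124 (iv1 D203186)) (tt N74359 F427358) (tt N66331 (iv2 F427361)) (tt N88278 (iv3 F427362)) (tt N66223 F427360) (tt N108772 (iv5 F463859)) (tt N74261 F427363) (tt N77761 F427359))
theorem Q100048 : ∀ i, i < 100048 → P i := stepQ 100047 Q100047 (allL N100047 (tt N117776 (iv1 F506911)) (tt N117838 F507203) (tt N108826 (iv2 F464141)) (tt N63125 F427364) (tt N94328 F427366) (tt N63124 (iv5 D203187)) (tt N110578 F472218) (tt N77762 F427365))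
theorem Q100049 : ∀ i, i < 100049 → P i := stepQ 100048 Q100048 (allL N100048 (tt N120122 D223381) (tt N92363 (iv0 F427368)) (tt N63176 F427367) (tt N110578 F472216) (tt N100097 (iv4 F427506)) (tt N102735 (iv5 F438418)) (tt N63125 (iv6 D203188)) (tt N120123 D223382))
theorem Q100050 : ∀ i, i < 100050 → P i := stepQ 100049 Q100049 (allL N100049 (tt N113749 (iv1 F486951)) (tt N106854 (iv0 F456007)) (tt N77066 F427369) (tt N63129 F427370) (tt N103912 (iv4 F443338)) (tt N63128 (iv5 D203189)) (tt N120095 (iv6 F519015)) (tt N88539 F427371))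
theorem Q100051 : ∀ i, i < 100051 → P i := stepQ 100050 Q100050 (allL N100050 (tt N117058 (iv1 F503166)) (tt N120124 D223383) (tt N112755 (iv2 F482502)) (tt N120125 D223384) (tt N63129 (iv4 D203190)) (tt N120126 D223385) (tt N116654 F501162) (tt N112754 (iv7 F482500)))
theorem Q100052 : ∀ i, i < 100052 → P i := stepQ 100051 Q100051 (allL N100051 (tt N113485 F485719) (tt N113483 (iv0 F485705)) (tt N82736 F427372) (tt N120095 (iv3 F519013)) (tt N116654 (iv4 F501161)) (tt N83426 F427373) (tt N63129 (iv6 D203191)) (tt N120127 D223386))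
theorem Q100053 : ∀ i, i < 100053 → P i := stepQ 100052 Q100052 (allL N100052 (tt N120124 (iv1 F519179)) (tt N117058 (iv0 F503165)) (tt N112754 (iv2 F482497)) (tt N71416 (iv3 F427378)) (tt N63131 (iv4 D203192)) (tt N106092 (iv5 F453074)) (tt N88540 F427377) (tt N112755 (iv7 F482504)))
theorem Q100054 : ∀ i, i < 100054 → P i := stepQ 100053 Q100053 (allL N100053 (tt N104736 (iv1 F447043)) (tt N105270 (iv0 F449485)) (tt N106952 (iv2 F456413)) (tt N77064 F427374) (tt N88540 (iv4 F427376)) (tt N71407 F427375) (tt N63131 (iv6 D203193)) (tt N106953 (iv7 F456418)))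
theorem Q100055 : ∀ i, i < 100055 → P i := stepQ 100054 Q100054 (allL N100054 (tt N88542 F427383) (tt N83169 (iv0 F427382)) (tt N77072 F427379) (tt N63133 (iv3 D203194)) (tt N106953 (iv4 F456419)) (tt N82265 F427380) (tt N116161 (iv6 F498810)) (tt N88540 F427381))
theorem Q100056 : ∀ i, i < 100056 → P i := stepQ 100055 Q100055 (allL N100055 (tt N76999 F427385) (tt N116162 F498817) (tt N116163 (iv2 F498818)) (tt N101913 (iv3 F434923)) (tt N63134 (iv4 D203197)) (tt N101912 F434921) (tt N106395 (iv6 F454277)) (tt N106504 (iv7 F454689)))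
theorem Q100057 : ∀ i, i < 100057 → P i := stepQ 100056 Q100056 (allL N100056 (tt N120118 (iv1 F519149)) (tt N63135 (iv0 D203198)) (tt N110099 (iv2 F469979)) (tt N113598 (iv3 F486231)) (tt N82320 F427386) (tt N116442 (iv5 F500136)) (tt N113597 F486229) (tt N110101 (iv7 F469992)))
theorem Q100058 : ∀ i, i < 100058 → P i := stepQ 100057 Q100057 (allL N100057 (tt N63135 (iv1 D203199)) (tt N120118 F519148) (tt N110101 (iv2 F469989)) (tt N108410 F462463) (tt N82321 F427387) (tt N120128 D223387) (tt N107105 (iv6 F456997)) (tt N110099 (iv7 F469980)))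
theorem Q100059 : ∀ i, i < 100059 → P i := stepQ 100058 Q100058 (allL N100058 (tt N112036 F479191) (tt N114003 F488151) (tt N114002 (iv2 F488145)) (tt N63135 (iv3 D203200)) (tt N64333 F427388) (tt N101645 (iv5 F433682)) (tt N105182 (iv6 F449132)) (tt N114001 F488140))
theorem Q100060 : ∀ i, i < 100060 → P i := stepQ 100059 Q100059 (allL N100059 (tt N117095 F503352) (tt N108406 (iv0 F462457)) (tt N120117 (iv2 F519138)) (tt N101645 F433681) (tt N120120 (iv4 F519156)) (tt N63135 (iv5 D203201)) (tt N73832 F427389) (tt N120119 (iv7 F519153)))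
theorem Q100061 : ∀ i, i < 100061 → P i := stepQ 100060 Q100060 (allL N100060 (tt N110101 (iv1 F469994)) (tt N110099 (iv0 F469981)) (tt N120118 (iv2 F519144)) (tt N114001 (iv3 F488141)) (tt N63136 F427390) (tt N120119 (iv5 F519151)) (tt N120129 D223388) (tt N63135 (iv7 D203202)))
theorem Q100062 : ∀ i, i < 100062 → P i := stepQ 100061 Q100061 (allL N100061 (tt N99958 F429524) (tt N99961 (iv0 F427393)) (tt N109668 (iv2 F468020)) (tt N63910 F427391) (tt N120129 (iv4 F519213)) (tt N63909 F427392) (tt N63136 (iv6 D203203)) (tt N112996 (iv7 F483481)))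
theorem Q100063 : ∀ i, i < 100063 → P i := stepQ 100062 Q100062 (allL N100062 (tt N63137 (iv1 D203204)) (tt N109466 F467110) (tt N76166 F427399) (tt N72235 (iv3 F427397)) (tt N76772 F427395) (tt N73153 F427396) (tt N72234 (iv6 F427398)) (tt N76063 F427394))
theorem Q100064 : ∀ i, i < 100064 → P i := stepQ 100063 Q100063 (allL N100063 (tt N63144 (iv1 F427401)) (tt N63138 (iv0 D203205)) (tt N90436 (iv2 F427407)) (tt N89713 F427403) (tt N120130 D223389) (tt N65242 F427400) (tt N89708 (iv6 F427402)) (tt N110095 (iv7 F469962)))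
theorem Q100065 : ∀ i, i < 100065 → P i := stepQ 100064 Q100064 (allL N100064 (tt N63138 (iv1 D203206)) (tt N63144 F427408) (tt N110095 F469964) (tt N101042 (iv3 F431420)) (tt N120131 D223390) (tt N89195 F427410) (tt N113963 F487984) (tt N90436 F427409))
theorem Q100066 : ∀ i, i < 100066 → P i := stepQ 100065 Q100065 (allL N100065 (tt N112746 (iv1 F482481)) (tt N101482 (iv0 F433101)) (tt N110096 (iv2 F469966)) (tt N120132 D223391) (tt N63138 (iv4 D203207)) (tt N117095 (iv5 F503351)) (tt N120133 D223392) (tt N110098 (iv7 F469976)))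
theorem Q100067 : ∀ i, i < 100067 → P i := stepQ 100066 Q100066 (allL N100066 (tt N117177 F503773) (tt N120134 D223393) (tt N110097 (iv2 F469969)) (tt N89964 F427411) (tt N120133 (iv4 F519236)) (tt N90622 F427412) (tt N63138 (iv6 D203208)) (tt N120135 D223394))
theorem Q100068 : ∀ i, i < 100068 → P i := stepQ 100067 Q100067 (allL N100067 (tt N63139 (iv1 D203209)) (tt N109475 F467161) (tt N109476 (iv2 F467163)) (tt N76524 F427415) (tt N100229 (iv4 F428072)) (tt N75893 F427416) (tt N76107 (iv6 F427414)) (tt N76068 F427413))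
theorem Q100069 : ∀ i, i < 100069 → P i := stepQ 100068 Q100068 (allL N100068 (tt N63146 (iv1 F427418)) (tt N63140 (iv0 D203210)) (tt N92554 (iv2 F427421)) (tt N73036 (iv3 F427419)) (tt N65248 F427417) (tt N118275 (iv5 F509471)) (tt N73053 F427420) (tt N73793 (iv7 F427422)))
theorem Q100070 : ∀ i, i < 100070 → P i := stepQ 100069 Q100069 (allL N100069 (tt N63140 (iv1 D203211)) (tt N63146 F427423) (tt N73793 (iv2 F427426)) (tt N92437 F427427) (tt N73792 F427425) (tt N120136 D223395) (tt N109338 (iv6 F466454)) (tt N92554 F427424))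
theorem Q100071 : ∀ i, i < 100071 → P i := stepQ 100070 Q100070 (allL N100070 (tt N110115 (iv1 F470060)) (tt N110082 (iv0 F469897)) (tt N92555 F427428) (tt N119908 (iv3 F517978)) (tt N108406 F462455) (tt N63140 (iv5 D203212)) (tt N120137 D223396) (tt N110113 (iv7 F470048)))
theorem Q100072 : ∀ i, i < 100072 → P i := stepQ 100071 Q100071 (allL N100071 (tt N76078 (iv1 F427432)) (tt N66712 F427433) (tt N103143 (iv2 F440270)) (tt N63147 F427429) (tt N99955 F427430) (tt N92609 F427431) (tt N103099 (iv6 F440066)) (tt N63142 (iv7 D203213)))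
theorem Q100073 : ∀ i, i < 100073 → P i := stepQ 100072 Q100072 (allL N100072 (tt N90510 F427437) (tt N80508 F427440) (tt N88482 F427434) (tt N63144 F427435) (tt N84288 (iv4 F427439)) (tt N63143 (iv5 D203214)) (tt N84287 F427438) (tt N88479 F427436))
theorem Q100074 : ∀ i, i < 100074 → P i := stepQ 100073 Q100073 (allL N100073 (tt N103937 F443456) (tt N78614 (iv0 F427444)) (tt N88483 F427441) (tt N63145 F427442) (tt N100337 (iv4 F428472)) (tt N85988 F427443) (tt N63143 (iv6 D203215)) (tt N101203 (iv7 F432181)))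
theorem Q100075 : ∀ i, i < 100075 → P i := stepQ 100074 Q100074 (allL N100074 (tt N101482 (iv1 F433102)) (tt N112746 (iv0 F482480)) (tt N110098 (iv2 F469973)) (tt N106554 F454840) (tt N63144 (iv4 D203216)) (tt N108406 (iv5 F462453)) (tt N104204 F444681) (tt N110096 (iv7 F469967)))
theorem Q100076 : ∀ i, i < 100076 → P i := stepQ 100075 Q100075 (allL N100075 (tt N105333 (iv1 F449750)) (tt N105332 (iv0 F449747)) (tt N106851 (iv2 F455987)) (tt N84287 F427445) (tt N104204 (iv4 F444678)) (tt N71451 (iv5 F427446)) (tt N63144 (iv6 D203217)) (tt N106852 (iv7 F455996)))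
theorem Q100077 : ∀ i, i < 100077 → P i := stepQ 100076 Q100076 (allL N100076 (tt N77451 F427451) (tt N77166 F427452) (tt N77456 F427447) (tt N85988 F427448) (tt N67607 F427450) (tt N63145 (iv5 D203218)) (tt N71451 F427449) (tt N77455 (iv7 F427453)))
theorem Q100078 : ∀ i, i < 100078 → P i := stepQ 100077 Q100077 (allL N100077 (tt N76083 (iv1 F427457)) (tt N90061 F427458) (tt N90060 F427454) (tt N101203 (iv3 F432180)) (tt N63147 F427455) (tt N77455 F427456) (tt N109475 (iv6 F467158)) (tt N63145 (iv7 D203219)))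
theorem Q100079 : ∀ i, i < 100079 → P i := stepQ 100078 Q100078 (allL N100078 (tt N110082 (iv1 F469898)) (tt N110115 F470059) (tt N110113 F470050) (tt N108832 F464168) (tt N117095 (iv4 F503348)) (tt N63146 (iv5 D203220)) (tt N117094 F503346) (tt N92555 F427459))
theorem Q100080 : ∀ i, i < 100080 → P i := stepQ 100079 Q100079 (allL N100079 (tt N108326 (iv1 F462074)) (tt N117925 (iv0 F507630)) (tt N110106 (iv2 F470015)) (tt N107370 (iv3 F458134)) (tt N120128 (iv4 F519207)) (tt N63149 (iv5 D203221)) (tt N117889 (iv6 F507453)) (tt N110107 (iv7 F470024)))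
theorem Q100081 : ∀ i, i < 100081 → P i := stepQ 100080 Q100080 (allL N100080 (tt N99623 F427463) (tt N112865 (iv0 F483034)) (tt N74313 F427460) (tt N118459 (iv3 F510485)) (tt N63150 F427461) (tt N115685 (iv5 F496306)) (tt N63149 (iv6 D203222)) (tt N74311 F427462))
theorem Q100082 : ∀ i, i < 100082 → P i := stepQ 100081 Q100081 (allL N100081 (tt N108833 (iv1 F464174)) (tt N94246 (iv0 F427466)) (tt N117168 (iv2 F503720)) (tt N63152 (iv3 D203223)) (tt N89370 F427464) (tt N74282 F427467) (tt N82309 F427465) (tt N110105 (iv7 F470011)))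
theorem Q100083 : ∀ i, i < 100083 → P i := stepQ 100082 Q100082 (allL N100082 (tt N117925 (iv1 F507631)) (tt N108326 (iv0 F462073)) (tt N110107 (iv2 F470020)) (tt N74282 F427468) (tt N116442 (iv4 F500135)) (tt N63152 (iv5 D203224)) (tt N89367 F427469) (tt N110106 (iv7 F470018)))
theorem Q100084 : ∀ i, i < 100084 → P i := stepQ 100083 Q100083 (allL N100083 (tt N74278 F427473) (tt N74284 F427474) (tt N74282 F427470) (tt N107372 (iv3 F458138)) (tt N77004 F427471) (tt N117168 (iv5 F503722)) (tt N63153 (iv6 D203225)) (tt N74281 F427472))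
theorem Q100085 : ∀ i, i < 100085 → P i := stepQ 100084 Q100084 (allL N100084 (tt N82324 F427475) (tt N108239 (iv0 F461640)) (tt N106503 (iv2 F454680)) (tt N108723 (iv3 F463697)) (tt N106502 (iv4 F454678)) (tt N63154 (iv5 D203226)) (tt N115353 (iv6 F494746)) (tt N108240 (iv7 F461642)))
theorem Q100086 : ∀ i, i < 100086 → P i := stepQ 100085 Q100085 (allL N100085 (tt N120120 (iv1 F519160)) (tt N63155 (iv0 D203227)) (tt N92494 (iv2 F427477)) (tt N92524 F429382) (tt N106092 (iv4 F453073)) (tt N73327 F427476) (tt N92523 (iv6 F429381)) (tt N104720 (iv7 F446977)))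
theorem Q100087 : ∀ i, i < 100087 → P i := stepQ 100086 Q100086 (allL N100086 (tt N63155 (iv1 D203228)) (tt N120120 F519159) (tt N104720 F446981) (tt N116448 (iv3 F500171)) (tt N120126 (iv4 F519192)) (tt N73612 F427479) (tt N117074 F503624) (tt N92494 F427478))
theorem Q100088 : ∀ i, i < 100088 → P i := stepQ 100087 Q100087 (allL N100087 (tt N108406 F462456) (tt N117095 (iv0 F503350)) (tt N120119 (iv2 F519150)) (tt N90507 F438430) (tt N63155 (iv4 D203229)) (tt N120118 (iv5 F519147)) (tt N100239 (iv6 F438429)) (tt N120117 F519143))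
theorem Q100089 : ∀ i, i < 100089 → P i := stepQ 100088 Q100088 (allL N100088 (tt N102739 F438435) (tt N102737 (iv0 F438427)) (tt N102735 F438419) (tt N106448 (iv3 F454492)) (tt N100239 F438428) (tt N63176 F427480) (tt N63155 (iv6 D203230)) (tt N102736 (iv7 F438421)))
theorem Q100090 : ∀ i, i < 100090 → P i := stepQ 100089 Q100089 (allL N100089 (tt N104720 F446979) (tt N92494 (iv0 F427483)) (tt N120120 (iv2 F519154)) (tt N92488 F427481) (tt N120117 (iv4 F519141)) (tt N63156 F427482) (tt N92420 (iv6 F427484)) (tt N63155 (iv7 D203231)))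
theorem Q100091 : ∀ i, i < 100091 → P i := stepQ 100090 Q100090 (allL N100090 (tt N77766 (iv1 F427490)) (tt N77765 F427491) (tt N77768 F427485) (tt N74368 F427486) (tt N63157 F427487) (tt N78034 F427488) (tt N63156 (iv6 D203232)) (tt N63178 F427489))
theorem Q100092 : ∀ i, i < 100092 → P i := stepQ 100091 Q100091 (allL N100091 (tt N110791 F473195) (tt N63159 (iv0 D203233)) (tt N76197 (iv2 F427495)) (tt N82222 F427494) (tt N76249 F427493) (tt N99832 F427492) (tt N109627 (iv6 F467815)) (tt N107237 (iv7 F457588)))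
theorem Q100093 : ∀ i, i < 100093 → P i := stepQ 100092 Q100092 (allL N100092 (tt N108831 (iv1 F464162)) (tt N117449 (iv0 F505096)) (tt N117835 (iv2 F507187)) (tt N63161 F427496) (tt N113287 (iv4 F484859)) (tt N63160 (iv5 D203234)) (tt N120138 D223397) (tt N76054 F427497))
theorem Q100094 : ∀ i, i < 100094 → P i := stepQ 100093 Q100093 (allL N100093 (tt N118509 (iv1 F510750)) (tt N118467 (iv0 F510527)) (tt N117836 (iv2 F507191)) (tt N63162 F427498) (tt N110538 (iv4 F472050)) (tt N120139 D223398) (tt N63160 (iv6 D203235)) (tt N97324 F427499))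
theorem Q100095 : ∀ i, i < 100095 → P i := stepQ 100094 Q100094 (allL N100094 (tt N120140 D223399) (tt N120141 D223400) (tt N110129 (iv2 F470101)) (tt N120138 (iv3 F519266)) (tt N100109 (iv4 F427535)) (tt N120142 D223401) (tt N63161 (iv6 D203236)) (tt N120143 D223402))
theorem Q100096 : ∀ i, i < 100096 → P i := stepQ 100095 Q100095 (allL N100095 (tt N118623 (iv1 F511198)) (tt N108970 (iv0 F464716)) (tt N118624 (iv2 F511199)) (tt N120139 (iv3 F519268)) (tt N120144 D223403) (tt N63162 (iv5 D203237)) (tt N120142 (iv6 F519276)) (tt N118619 (iv7 F511186)))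
theorem Q100097 : ∀ i, i < 100097 → P i := stepQ 100096 Q100096 (allL N100096 (tt N108816 (iv1 F464101)) (tt N108815 F464094) (tt N63164 (iv2 D203238)) (tt N108820 (iv3 F464116)) (tt N78038 F427500) (tt N77764 F427502) (tt N77767 (iv6 F427501)) (tt N108817 (iv7 F464105)))
theorem Q100098 : ∀ i, i < 100098 → P i := stepQ 100097 Q100097 (allL N100097 (tt N120145 D223404) (tt N120146 D223405) (tt N77764 F427503) (tt N63165 F427504) (tt N100048 F427506) (tt N63164 (iv5 D203239)) (tt N63177 (iv6 F427505)) (tt N108818 (iv7 F464110)))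
theorem Q100099 : ∀ i, i < 100099 → P i := stepQ 100098 Q100098 (allL N100098 (tt N97328 F427512) (tt N108434 (iv0 F462544)) (tt N77767 F427507) (tt N63166 F427508) (tt N77855 F427509) (tt N63178 F427510) (tt N63164 (iv6 D203240)) (tt N78034 F427511))
theorem Q100100 : ∀ i, i < 100100 → P i := stepQ 100099 Q100099 (allL N100099 (tt N74186 (iv1 F427515)) (tt N108819 F464114) (tt N63167 (iv2 D203241)) (tt N108817 (iv3 F464102)) (tt N91622 F427513) (tt N120147 D223406) (tt N74120 F427514) (tt N108820 (iv7 F464119)))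
theorem Q100101 : ∀ i, i < 100101 → P i := stepQ 100100 Q100100 (allL N100100 (tt N109579 (iv1 F467588)) (tt N92368 F427517) (tt N120147 (iv2 F519294)) (tt N63168 F427516) (tt N113284 (iv4 F484850)) (tt N63167 (iv5 D203242)) (tt N110577 (iv6 F472210)) (tt N108821 (iv7 F464125)))
theorem Q100102 : ∀ i, i < 100102 → P i := stepQ 100101 Q100101 (allL N100101 (tt N106447 F454490) (tt N106455 (iv0 F454523)) (tt N107498 (iv2 F458533)) (tt N110577 F472212) (tt N92370 F427518) (tt N106450 (iv5 F454508)) (tt N63168 (iv6 D203243)) (tt N117839 (iv7 F507208)))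
theorem Q100103 : ∀ i, i < 100103 → P i := stepQ 100102 Q100102 (allL N100102 (tt N108829 (iv1 F464154)) (tt N89521 F427520) (tt N108830 (iv2 F464156)) (tt N63170 F427519) (tt N109581 F467594) (tt N63169 (iv5 D203244)) (tt N117449 (iv6 F505094)) (tt N103183 F440460))
theorem Q100104 : ∀ i, i < 100104 → P i := stepQ 100103 Q100103 (allL N100103 (tt N78031 F427523) (tt N89472 (iv0 F427524)) (tt N116426 (iv2 F500041)) (tt N63171 F427521) (tt N64654 F427522) (tt N107351 (iv5 F458057)) (tt N63169 (iv6 D203245)) (tt N107360 (iv7 F458094)))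
theorem Q100105 : ∀ i, i < 100105 → P i := stepQ 100104 Q100104 (allL N100104 (tt N116427 F500050) (tt N63172 (iv0 D203246)) (tt N118852 (iv2 F512415)) (tt N91391 F427525) (tt N89265 F427526) (tt N120148 D223407) (tt N89264 (iv6 F427527)) (tt N120121 (iv7 F519166)))
theorem Q100106 : ∀ i, i < 100106 → P i := stepQ 100105 Q100105 (allL N100105 (tt N63172 (iv1 D203247)) (tt N116427 F500051) (tt N120121 F519164) (tt N118850 F512410) (tt N117796 F507018) (tt N120149 D223408) (tt N120150 D223409) (tt N118852 (iv7 F512418)))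
theorem Q100107 : ∀ i, i < 100107 → P i := stepQ 100106 Q100106 (allL N100106 (tt N118852 F512420) (tt N120121 F519165) (tt N63172 (iv2 D203248)) (tt N89559 F427528) (tt N111335 (iv4 F475878)) (tt N108827 (iv5 F464149)) (tt N66516 F427529) (tt N116427 (iv7 F500048)))
theorem Q100108 : ∀ i, i < 100108 → P i := stepQ 100107 Q100107 (allL N100107 (tt N110087 F469932) (tt N110131 F470107) (tt N108827 (iv2 F464147)) (tt N63173 F427530) (tt N110578 (iv4 F472215)) (tt N63172 (iv5 D203249)) (tt N94328 F427531) (tt N108828 (iv7 F464153)))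
theorem Q100109 : ∀ i, i < 100109 → P i := stepQ 100108 Q100108 (allL N100108 (tt N113280 (iv1 F484842)) (tt N89561 (iv0 F427533)) (tt N116643 (iv2 F501110)) (tt N63174 (iv3 D203250)) (tt N117452 (iv4 F505114)) (tt N74508 F427532) (tt N117776 (iv6 F506907)) (tt N109584 (iv7 F467604)))
theorem Q100110 : ∀ i, i < 100110 → P i := stepQ 100109 Q100109 (allL N100109 (tt N116843 F502134) (tt N120151 D223410) (tt N109571 (iv2 F467578)) (tt N117776 (iv3 F506912)) (tt N100094 F427535) (tt N116645 F501124) (tt N63174 (iv6 D203251)) (tt N120152 D223411))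
theorem Q100111 : ∀ i, i < 100111 → P i := stepQ 100110 Q100110 (allL N100110 (tt N120148 (iv1 F519306)) (tt N120149 (iv0 F519309)) (tt N120153 D223412) (tt N63175 (iv3 D203252)) (tt N118542 (iv4 F510867)) (tt N74509 F427536) (tt N120154 D223413) (tt N109570 (iv7 F467577)))
theorem Q100112 : ∀ i, i < 100112 → P i := stepQ 100111 Q100111 (allL N100111 (tt N120155 D223414) (tt N120156 D223415) (tt N109585 (iv2 F467605)) (tt N120154 (iv3 F519333)) (tt N94315 F427537) (tt N120157 D223416) (tt N63175 (iv6 D203253)) (tt N120158 D223417))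
theorem Q100113 : ∀ i, i < 100113 → P i := stepQ 100112 Q100112 (allL N100112 (tt N120123 (iv1 F519178)) (tt N63176 (iv0 D203254)) (tt N120122 F519170) (tt N92375 (iv3 F464785)) (tt N118575 (iv4 F510977)) (tt N92364 F464784) (tt N116387 (iv6 F499831)) (tt N92363 (iv7 F464786)))
theorem Q100114 : ∀ i, i < 100114 → P i := stepQ 100113 Q100113 (allL N100113 (tt N63176 (iv1 D203255)) (tt N120123 F519177) (tt N92363 F438448) (tt N120159 D223418) (tt N118573 (iv4 F510969)) (tt N92360 F438449) (tt N94324 (iv6 F438447)) (tt N120122 (iv7 F519171)))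
theorem Q100115 : ∀ i, i < 100115 → P i := stepQ 100114 Q100114 (allL N100114 (tt N92363 (iv1 F427538)) (tt N120122 F519172) (tt N120123 (iv2 F519173)) (tt N107498 (iv3 F458539)) (tt N110579 (iv4 F472220)) (tt N102736 F438423) (tt N108818 (iv6 F464109)) (tt N63176 (iv7 D203256)))
theorem Q100116 : ∀ i, i < 100116 → P i := stepQ 100115 Q100115 (allL N100115 (tt N77768 (iv1 F427540)) (tt N63178 (iv0 D203257)) (tt N77765 F427542) (tt N120160 D223419) (tt N77021 F427539) (tt N108049 (iv5 F460879)) (tt N104648 F446682) (tt N77766 (iv7 F427541)))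
theorem Q100117 : ∀ i, i < 100117 → P i := stepQ 100116 Q100116 (allL N100116 (tt N63178 (iv1 D203258)) (tt N77768 F427543) (tt N77766 (iv2 F427546)) (tt N116445 (iv3 F500154)) (tt N63600 F427545) (tt N108050 (iv5 F460885)) (tt N107579 F458830) (tt N77765 F427544))
theorem Q100118 : ∀ i, i < 100118 → P i := stepQ 100117 Q100117 (allL N100117 (tt N110116 F470066) (tt N108814 (iv0 F464089)) (tt N77770 F427547) (tt N119097 (iv3 F513777)) (tt N63179 (iv4 D203259)) (tt N117901 (iv5 F507505)) (tt N104661 (iv6 F446751)) (tt N77773 F427548))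
theorem Q100119 : ∀ i, i < 100119 → P i := stepQ 100118 Q100118 (allL N100118 (tt N76041 (iv1 F428536)) (tt N110988 (iv0 F474109)) (tt N112476 (iv2 F481237)) (tt N63180 (iv3 D203260)) (tt N100349 F428534) (tt N108055 (iv5 F460904)) (tt N99344 F427549) (tt N77769 F427550))
theorem Q100120 : ∀ i, i < 100120 → P i := stepQ 100119 Q100119 (allL N100119 (tt N108814 (iv1 F464090)) (tt N110116 F470067) (tt N77773 F427551) (tt N107353 (iv3 F458062)) (tt N63180 (iv4 D203261)) (tt N119933 (iv5 F518109)) (tt N107583 (iv6 F458845)) (tt N77770 F427552))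
theorem Q100121 : ∀ i, i < 100121 → P i := stepQ 100120 Q100120 (allL N100120 (tt N108138 (iv1 F461269)) (tt N108136 (iv0 F461261)) (tt N108157 F461332) (tt N64960 F427553) (tt N84627 F427556) (tt N63182 (iv5 D203262)) (tt N64959 F427554) (tt N76176 F427555))
theorem Q100122 : ∀ i, i < 100122 → P i := stepQ 100121 Q100121 (allL N100121 (tt N101425 F432937) (tt N119428 (iv0 F515567)) (tt N110435 (iv2 F471579)) (tt N64302 F427557) (tt N77101 F427558) (tt N72294 F427559) (tt N63185 (iv6 D203263)) (tt N96396 F427560))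
theorem Q100123 : ∀ i, i < 100123 → P i := stepQ 100122 Q100122 (allL N100122 (tt N82163 F427563) (tt N74872 F427564) (tt N72279 F427561) (tt N109474 (iv3 F467151)) (tt N63188 (iv4 D203264)) (tt N117394 (iv5 F504811)) (tt N109472 (iv6 F467148)) (tt N72277 F427562))
theorem Q100124 : ∀ i, i < 100124 → P i := stepQ 100123 Q100123 (allL N100123 (tt N91546 F427569) (tt N91577 (iv0 F427570)) (tt N93749 F427565) (tt N73096 F427566) (tt N77109 F427567) (tt N77106 F427568) (tt N63189 (iv6 D203265)) (tt N108327 (iv7 F462079)))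
theorem Q100125 : ∀ i, i < 100125 → P i := stepQ 100124 Q100124 (allL N100124 (tt N95365 F427575) (tt N118880 (iv0 F512553)) (tt N63500 F427571) (tt N90529 F427572) (tt N63191 F427573) (tt N90565 F427574) (tt N63190 (iv6 D203266)) (tt N116120 (iv7 F498578)))
theorem Q100126 : ∀ i, i < 100126 → P i := stepQ 100125 Q100125 (allL N100125 (tt N63493 (iv1 F427580)) (tt N63191 (iv0 D203267)) (tt N63382 (iv2 F427579)) (tt N76211 (iv3 F427583)) (tt N91616 F427582) (tt N64639 F427577) (tt N82118 F427578) (tt N63501 F427581))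
theorem Q100127 : ∀ i, i < 100127 → P i := stepQ 100126 Q100126 (allL N100126 (tt N108249 F461684) (tt N96888 (iv0 F427586)) (tt N63775 F427584) (tt N111586 F477028) (tt N63193 F427585) (tt N115963 (iv5 F497793)) (tt N63192 (iv6 D203268)) (tt N108265 (iv7 F461777)))
theorem Q100128 : ∀ i, i < 100128 → P i := stepQ 100127 Q100127 (allL N100127 (tt N114645 (iv1 F491175)) (tt N91457 (iv0 F427589)) (tt N106283 (iv2 F453886)) (tt N63194 (iv3 D203269)) (tt N106278 (iv4 F453859)) (tt N88109 F427587) (tt N115897 (iv6 F497471)) (tt N76247 F427588))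
theorem Q100129 : ∀ i, i < 100129 → P i := stepQ 100128 Q100128 (allL N100128 (tt N108256 F461729) (tt N104737 (iv0 F447048)) (tt N76248 F427590) (tt N115897 (iv3 F497469)) (tt N76042 F427591) (tt N88113 F427592) (tt N63194 (iv6 D203270)) (tt N108264 (iv7 F461772)))
theorem Q100130 : ∀ i, i < 100130 → P i := stepQ 100129 Q100129 (allL N100129 (tt N93460 F427597) (tt N120161 D223420) (tt N93299 (iv2 F427598)) (tt N63196 (iv3 D203271)) (tt N63682 F427593) (tt N70121 F427594) (tt N70122 F427595) (tt N67069 F427596))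
theorem Q100131 : ∀ i, i < 100131 → P i := stepQ 100130 Q100130 (allL N100130 (tt N120162 D223421) (tt N91420 (iv0 F427602)) (tt N89065 (iv2 F427601)) (tt N63197 (iv3 D203272)) (tt N76187 F427599) (tt N110034 (iv5 F469652)) (tt N81135 F427609) (tt N67075 F427600))
theorem Q100132 : ∀ i, i < 100132 → P i := stepQ 100131 Q100131 (allL N100131 (tt N93830 F427606) (tt N110986 (iv0 F474097)) (tt N67071 F427603) (tt N81135 (iv3 F427608)) (tt N66735 F427604) (tt N87980 F427607) (tt N63197 (iv6 D203273)) (tt N87979 F427605))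
theorem Q100133 : ∀ i, i < 100133 → P i := stepQ 100132 Q100132 (allL N100132 (tt N120163 D223422) (tt N119162 (iv0 F514128)) (tt N77101 F427612) (tt N108659 (iv3 F463401)) (tt N110435 (iv4 F471581)) (tt N77538 (iv5 F427614)) (tt N63198 (iv6 D203274)) (tt N94863 F427613))
theorem Q100134 : ∀ i, i < 100134 → P i := stepQ 100133 Q100133 (allL N100133 (tt N112482 (iv1 F481280)) (tt N74602 F427621) (tt N77104 F427616) (tt N74589 F427617) (tt N93747 F427618) (tt N63199 (iv5 D203275)) (tt N77538 F427619) (tt N78187 F427620))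
theorem Q100135 : ∀ i, i < 100135 → P i := stepQ 100134 Q100134 (allL N100134 (tt N101851 F434667) (tt N102945 (iv0 F439372)) (tt N77106 F427622) (tt N114931 (iv3 F492602)) (tt N63200 (iv4 D203276)) (tt N93749 F427624) (tt N107826 (iv6 F459880)) (tt N77108 F427623))
theorem Q100136 : ∀ i, i < 100136 → P i := stepQ 100135 Q100135 (allL N100135 (tt N84138 F427629) (tt N68545 F427630) (tt N76562 F427625) (tt N95763 F427626) (tt N96767 F427631) (tt N63203 (iv5 D203277)) (tt N82429 F427627) (tt N76564 F427628))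
theorem Q100137 : ∀ i, i < 100137 → P i := stepQ 100136 Q100136 (allL N100136 (tt N63844 F427636) (tt N63429 (iv0 F427637)) (tt N63242 F427632) (tt N78480 F427633) (tt N75814 F427634) (tt N66958 F427635) (tt N63209 (iv6 D203278)) (tt N63859 F427638))
theorem Q100138 : ∀ i, i < 100138 → P i := stepQ 100137 Q100137 (allL N100137 (tt N104256 (iv1 F444973)) (tt N104264 (iv0 F445017)) (tt N63249 F427639) (tt N69330 F427640) (tt N63213 F427641) (tt N104231 (iv5 F444824)) (tt N63212 (iv6 D203279)) (tt N104253 (iv7 F444955)))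
theorem Q100139 : ∀ i, i < 100139 → P i := stepQ 100138 Q100138 (allL N100138 (tt N104264 F445018) (tt N104256 (iv0 F444972)) (tt N104253 (iv2 F444951)) (tt N63217 F427642) (tt N63224 F427643) (tt N104232 F444835) (tt N63216 (iv6 D203280)) (tt N63249 F427644))
theorem Q100140 : ∀ i, i < 100140 → P i := stepQ 100139 Q100139 (allL N100139 (tt N63217 (iv1 D203281)) (tt N70087 F427645) (tt N70102 F427648) (tt N76520 F427649) (tt N68024 (iv4 F427647)) (tt N94027 (iv5 F427650)) (tt N102646 (iv6 F438030)) (tt N70103 F427646))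
theorem Q100141 : ∀ i, i < 100141 → P i := stepQ 100140 Q100140 (allL N100140 (tt N80003 F427654) (tt N95836 F427655) (tt N76648 F427651) (tt N104232 (iv3 F444836)) (tt N112126 (iv4 F479623)) (tt N63217 (iv5 D203282)) (tt N76567 F427652) (tt N70104 F427653))
theorem Q100142 : ∀ i, i < 100142 → P i := stepQ 100141 Q100141 (allL N100141 (tt N63226 (iv1 D203283)) (tt N109741 F468386) (tt N86772 F427658) (tt N68373 (iv3 F427657)) (tt N114271 (iv4 F489322)) (tt N83240 F427656) (tt N104186 (iv6 F444585)) (tt N100519 F429292))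
theorem Q100143 : ∀ i, i < 100143 → P i := stepQ 100142 Q100142 (allL N100142 (tt N99840 F427663) (tt N99977 (iv0 F427665)) (tt N68291 F427659) (tt N76492 F427660) (tt N96292 F427664) (tt N63233 (iv5 D203284)) (tt N96291 F427661) (tt N99760 F427662))
theorem Q100144 : ∀ i, i < 100144 → P i := stepQ 100143 Q100143 (allL N100143 (tt N63241 (iv1 F427671)) (tt N63238 (iv0 D203285)) (tt N63830 (iv2 F427670)) (tt N80890 F427669) (tt N82942 F427667) (tt N63825 F427666) (tt N95641 (iv6 F427676)) (tt N63824 F427672))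
theorem Q100145 : ∀ i, i < 100145 → P i := stepQ 100144 Q100144 (allL N100144 (tt N104236 (iv1 F444857)) (tt N68290 (iv0 F427681)) (tt N100415 (iv2 F428867)) (tt N80746 F427678) (tt N87925 F427679) (tt N100360 (iv5 F428590)) (tt N63859 F427680) (tt N63239 (iv7 D203286)))
theorem Q100146 : ∀ i, i < 100146 → P i := stepQ 100145 Q100145 (allL N100145 (tt N63240 (iv1 D203287)) (tt N80957 F427682) (tt N103934 (iv2 F443431)) (tt N75776 (iv3 F427686)) (tt N79372 F427685) (tt N87824 F427684) (tt N69301 (iv6 F427687)) (tt N76910 F427683))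
theorem Q100147 : ∀ i, i < 100147 → P i := stepQ 100146 Q100146 (allL N100146 (tt N80701 F427691) (tt N102802 (iv0 F438705)) (tt N66432 F427688) (tt N75777 F427689) (tt N66239 F427690) (tt N112706 (iv5 F482273)) (tt N63243 (iv6 D203288)) (tt N102988 (iv7 F439567)))
theorem Q100148 : ∀ i, i < 100148 → P i := stepQ 100147 Q100147 (allL N100147 (tt N103618 (iv1 F442262)) (tt N78481 (iv0 F427696)) (tt N70097 F427692) (tt N63427 F427693) (tt N68018 F427694) (tt N90231 F427695) (tt N63244 (iv6 D203289)) (tt N63856 (iv7 F427697)))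
theorem Q100149 : ∀ i, i < 100149 → P i := stepQ 100148 Q100148 (allL N100148 (tt N75753 F427702) (tt N87824 (iv0 F427704)) (tt N69266 F427698) (tt N63246 (iv3 D203290)) (tt N69796 (iv4 F427703)) (tt N69236 F427699) (tt N69237 F427700) (tt N97523 F427701))
theorem Q100150 : ∀ i, i < 100150 → P i := stepQ 100149 Q100149 (allL N100149 (tt N95470 F427711) (tt N63247 (iv0 D203291)) (tt N99793 (iv2 F427708)) (tt N74339 F427707) (tt N87357 F427706) (tt N74338 F427705) (tt N87355 (iv6 F427709)) (tt N94085 (iv7 F427710)))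
theorem Q100151 : ∀ i, i < 100151 → P i := stepQ 100150 Q100150 (allL N100150 (tt N63247 (iv1 D203292)) (tt N95470 F427713) (tt N94085 F427717) (tt N75018 (iv3 F427716)) (tt N111721 (iv4 F477659)) (tt N75017 F427715) (tt N94081 F427718) (tt N99793 F427714))
theorem Q100152 : ∀ i, i < 100152 → P i := stepQ 100151 Q100151 (allL N100151 (tt N94085 (iv1 F427724)) (tt N99793 F427725) (tt N95470 F427719) (tt N73693 F427720) (tt N92556 F427721) (tt N75288 F427722) (tt N82063 F427723) (tt N63247 (iv7 D203293)))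
theorem Q100153 : ∀ i, i < 100153 → P i := stepQ 100152 Q100152 (allL N100152 (tt N104253 (iv1 F444957)) (tt N63249 (iv0 D203294)) (tt N104256 (iv2 F444968)) (tt N90172 F427727) (tt N80345 F427726) (tt N100706 (iv5 F430103)) (tt N108757 (iv6 F463826)) (tt N104264 (iv7 F445019)))
theorem Q100154 : ∀ i, i < 100154 → P i := stepQ 100153 Q100153 (allL N100153 (tt N80909 F427731) (tt N63697 F427732) (tt N70095 F427728) (tt N81050 F427729) (tt N111347 (iv4 F475935)) (tt N63255 (iv5 D203295)) (tt N78728 F427733) (tt N70092 F427730))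
theorem Q100155 : ∀ i, i < 100155 → P i := stepQ 100154 Q100154 (allL N100154 (tt N80668 F427737) (tt N77730 (iv0 F427738)) (tt N66473 F427734) (tt N111922 (iv3 F478666)) (tt N63256 F427735) (tt N101862 (iv5 F434716)) (tt N63255 (iv6 D203296)) (tt N70107 F427736))
theorem Q100156 : ∀ i, i < 100156 → P i := stepQ 100155 Q100155 (allL N100155 (tt N66472 (iv1 F427743)) (tt N66471 F427744) (tt N66474 F427739) (tt N111930 (iv3 F478718)) (tt N70107 F427740) (tt N66247 F427741) (tt N70094 F427742) (tt N63256 (iv7 D203297)))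
theorem Q100157 : ∀ i, i < 100157 → P i := stepQ 100156 Q100156 (allL N100156 (tt N98548 F427748) (tt N98547 (iv0 F427749)) (tt N76302 F427745) (tt N117351 (iv3 F504614)) (tt N76352 F427746) (tt N63260 (iv5 D203298)) (tt N105766 F451607) (tt N76304 F427747))
theorem Q100158 : ∀ i, i < 100158 → P i := stepQ 100157 Q100157 (allL N100157 (tt N96233 (iv1 F427754)) (tt N105096 (iv0 F448772)) (tt N76303 F427750) (tt N69639 F427751) (tt N78685 F427752) (tt N79090 F427753) (tt N63260 (iv6 D203299)) (tt N104218 (iv7 F444758)))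
theorem Q100159 : ∀ i, i < 100159 → P i := stepQ 100158 Q100158 (allL N100158 (tt N77552 F427759) (tt N77554 F427760) (tt N66569 F427755) (tt N83829 F427761) (tt N63264 (iv4 D203300)) (tt N77565 F427756) (tt N99910 F427757) (tt N77623 F427758))
theorem Q100160 : ∀ i, i < 100160 → P i := stepQ 100159 Q100159 (allL N100159 (tt N109371 (iv1 F466629)) (tt N74947 (iv0 F427764)) (tt N76272 F427762) (tt N103104 (iv3 F440089)) (tt N109677 (iv4 F468057)) (tt N63265 (iv5 D203301)) (tt N109676 (iv6 F468054)) (tt N76275 F427763))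
theorem Q100161 : ∀ i, i < 100161 → P i := stepQ 100160 Q100160 (allL N100160 (tt N108794 (iv1 F463978)) (tt N107126 (iv0 F457101)) (tt N76273 F427765) (tt N102964 F439474) (tt N109707 (iv4 F468219)) (tt N79079 F427766) (tt N63265 (iv6 D203302)) (tt N108793 (iv7 F463968)))
theorem Q100162 : ∀ i, i < 100162 → P i := stepQ 100161 Q100161 (allL N100161 (tt N74947 F427770) (tt N109371 F466628) (tt N76275 F427767) (tt N74890 F427768) (tt N114338 (iv4 F489687)) (tt N63266 (iv5 D203303)) (tt N113126 (iv6 F484097)) (tt N76272 F427769))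
theorem Q100163 : ∀ i, i < 100163 → P i := stepQ 100162 Q100162 (allL N100162 (tt N76279 F427773) (tt N63267 (iv0 D203304)) (tt N76276 (iv2 F427772)) (tt N103039 (iv3 F439784)) (tt N100166 (iv4 F427794)) (tt N103103 (iv5 F440085)) (tt N76351 F427771) (tt N76277 (iv7 F427774)))
theorem Q100164 : ∀ i, i < 100164 → P i := stepQ 100163 Q100163 (allL N100163 (tt N63267 (iv1 D203305)) (tt N76279 F427775) (tt N76277 (iv2 F427777)) (tt N115056 F493265) (tt N109684 (iv4 F468095)) (tt N100781 (iv5 F430444)) (tt N120164 D223423) (tt N76276 F427776))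
theorem Q100165 : ∀ i, i < 100165 → P i := stepQ 100164 Q100164 (allL N100164 (tt N76349 F427781) (tt N105912 (iv0 F452314)) (tt N76278 F427778) (tt N92166 F427779) (tt N63267 (iv4 D203306)) (tt N86002 (iv5 F427782)) (tt N63270 F427780) (tt N74865 F427783))
theorem Q100166 : ∀ i, i < 100166 → P i := stepQ 100165 Q100165 (allL N100165 (tt N76277 (iv1 F427789)) (tt N76276 F427790) (tt N76279 F427784) (tt N84851 F427785) (tt N74865 F427786) (tt N63268 F427787) (tt N74864 F427788) (tt N63267 (iv7 D203307)))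
theorem Q100167 : ∀ i, i < 100167 → P i := stepQ 100166 Q100166 (allL N100166 (tt N99815 F427796) (tt N76346 (iv0 F427797)) (tt N76281 F427793) (tt N111324 (iv3 F475826)) (tt N100162 F427794) (tt N74404 F427795) (tt N63269 (iv6 D203308)) (tt N109078 (iv7 F465246)))
theorem Q100168 : ∀ i, i < 100168 → P i := stepQ 100167 Q100167 (allL N100167 (tt N63337 (iv1 F427803)) (tt N63769 F427804) (tt N63770 F427798) (tt N63373 F427799) (tt N72168 F427800) (tt N63332 F427801) (tt N76287 F427802) (tt N63273 (iv7 D203309)))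
theorem Q100169 : ∀ i, i < 100169 → P i := stepQ 100168 Q100168 (allL N100168 (tt N63298 (iv1 F427811)) (tt N63297 F427812) (tt N63300 F427806) (tt N99758 F427807) (tt N63281 F427808) (tt N76512 F427809) (tt N76312 F427810) (tt N63277 (iv7 D203310)))
theorem Q100170 : ∀ i, i < 100170 → P i := stepQ 100169 Q100169 (allL N100169 (tt N114486 (iv1 F490428)) (tt N98321 F427817) (tt N63306 F427813) (tt N98371 F427814) (tt N108061 (iv4 F460940)) (tt N63279 (iv5 D203311)) (tt N97984 F427815) (tt N63303 F427816))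
theorem Q100171 : ∀ i, i < 100171 → P i := stepQ 100170 Q100170 (allL N100170 (tt N63311 F427822) (tt N63280 (iv0 D203312)) (tt N63308 F427824) (tt N78775 (iv3 F427821)) (tt N75572 F427818) (tt N98553 F427819) (tt N94003 F427820) (tt N63309 F427823))
theorem Q100172 : ∀ i, i < 100172 → P i := stepQ 100171 Q100171 (allL N100171 (tt N63280 (iv1 D203313)) (tt N63311 F427825) (tt N63309 F427829) (tt N98373 (iv3 F427827)) (tt N119994 (iv4 F518444)) (tt N64180 (iv5 F427828)) (tt N119619 F516553) (tt N63308 F427826))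
theorem Q100173 : ∀ i, i < 100173 → P i := stepQ 100172 Q100172 (allL N100172 (tt N63309 (iv1 F427833)) (tt N63308 F427834) (tt N63311 F427830) (tt N85109 F427831) (tt N100195 (iv4 F427936)) (tt N63281 F427832) (tt N105418 (iv6 F450171)) (tt N63280 (iv7 D203314)))
theorem Q100174 : ∀ i, i < 100174 → P i := stepQ 100173 Q100173 (allL N100173 (tt N85700 F427837) (tt N105637 F451058) (tt N105636 (iv2 F451055)) (tt N63283 (iv3 D203315)) (tt N85104 F427835) (tt N120165 D223424) (tt N99885 F427836) (tt N105599 (iv7 F450922)))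
theorem Q100175 : ∀ i, i < 100175 → P i := stepQ 100174 Q100174 (allL N100174 (tt N117928 (iv1 F507649)) (tt N107274 (iv0 F457748)) (tt N63322 F427838) (tt N120165 (iv3 F519379)) (tt N63369 F427839) (tt N63283 (iv5 D203316)) (tt N100759 F430335) (tt N63367 (iv7 F427840)))
theorem Q100176 : ∀ i, i < 100176 → P i := stepQ 100175 Q100175 (allL N100175 (tt N63320 (iv1 F427844)) (tt N63319 F427845) (tt N63323 F427841) (tt N105599 (iv3 F450920)) (tt N63284 F427842) (tt N63367 F427843) (tt N105405 (iv6 F450097)) (tt N63283 (iv7 D203317)))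
theorem Q100177 : ∀ i, i < 100177 → P i := stepQ 100176 Q100176 (allL N100176 (tt N63372 F427851) (tt N63371 F427852) (tt N63327 F427846) (tt N63669 F427847) (tt N65003 F427848) (tt N63285 (iv5 D203318)) (tt N63286 F427849) (tt N63295 F427850))
theorem Q100178 : ∀ i, i < 100178 → P i := stepQ 100177 Q100177 (allL N100177 (tt N63287 (iv1 D203319)) (tt N63328 F427853) (tt N63339 F427858) (tt N84989 (iv3 F427864)) (tt N78822 F427856) (tt N88962 F427855) (tt N71107 (iv6 F427857)) (tt N63338 F427854))
theorem Q100179 : ∀ i, i < 100179 → P i := stepQ 100178 Q100178 (allL N100178 (tt N78762 F427867) (tt N76496 F427868) (tt N63348 F427865) (tt N114647 (iv3 F491183)) (tt N63288 (iv4 D203320)) (tt N107274 (iv5 F457747)) (tt N120166 D223425) (tt N63342 F427866))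
theorem Q100180 : ∀ i, i < 100180 → P i := stepQ 100179 Q100179 (allL N100179 (tt N74951 F427872) (tt N114341 F489707) (tt N63349 F427869) (tt N63471 F427870) (tt N120166 (iv4 F519385)) (tt N74973 F427871) (tt N63288 (iv6 D203321)) (tt N114339 (iv7 F489694)))
theorem Q100181 : ∀ i, i < 100181 → P i := stepQ 100180 Q100180 (allL N100180 (tt N106841 F455937) (tt N120167 D223426) (tt N120081 (iv2 F518947)) (tt N63289 (iv3 D203322)) (tt N74509 F427873) (tt N119773 (iv5 F517351)) (tt N107261 (iv6 F457688)) (tt N63346 F427874))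
theorem Q100182 : ∀ i, i < 100182 → P i := stepQ 100181 Q100181 (allL N100181 (tt N66870 F427878) (tt N107273 F457741) (tt N63351 F427875) (tt N119773 (iv3 F517354)) (tt N117928 (iv4 F507645)) (tt N63289 (iv5 D203323)) (tt N78767 F427876) (tt N63347 F427877))
theorem Q100183 : ∀ i, i < 100183 → P i := stepQ 100182 Q100182 (allL N100182 (tt N78825 F427881) (tt N78824 F427882) (tt N63355 F427879) (tt N116092 (iv3 F498422)) (tt N111333 (iv4 F475868)) (tt N63290 (iv5 D203324)) (tt N110380 (iv6 F471316)) (tt N63359 F427880))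
theorem Q100184 : ∀ i, i < 100184 → P i := stepQ 100183 Q100183 (allL N100183 (tt N100237 (iv1 F428107)) (tt N66581 F427887) (tt N63364 F427883) (tt N119072 (iv3 F513634)) (tt N83029 F427886) (tt N63291 (iv5 D203325)) (tt N72027 F427884) (tt N63361 F427885))
theorem Q100185 : ∀ i, i < 100185 → P i := stepQ 100184 Q100184 (allL N100184 (tt N65031 F427892) (tt N63292 (iv0 D203326)) (tt N71533 (iv2 F427890)) (tt N89266 F427888) (tt N117486 (iv4 F505287)) (tt N107338 (iv5 F458009)) (tt N71701 F427889) (tt N71386 (iv7 F427891)))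
theorem Q100186 : ∀ i, i < 100186 → P i := stepQ 100185 Q100185 (allL N100185 (tt N63292 (iv1 D203327)) (tt N65031 F427893) (tt N71386 F427897) (tt N91048 (iv3 F427895)) (tt N116619 (iv4 F501003)) (tt N105659 (iv5 F451135)) (tt N70890 (iv6 F427896)) (tt N71533 F427894))
theorem Q100187 : ∀ i, i < 100187 → P i := stepQ 100186 Q100186 (allL N100186 (tt N71386 (iv1 F427903)) (tt N71533 F427904) (tt N65031 F427898) (tt N63294 F427899) (tt N63665 F427900) (tt N64931 F427901) (tt N64932 F427902) (tt N63292 (iv7 D203328)))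
theorem Q100188 : ∀ i, i < 100188 → P i := stepQ 100187 Q100187 (allL N100187 (tt N63293 (iv1 D203329)) (tt N63369 F427905) (tt N63366 (iv2 F427908)) (tt N120168 D223427) (tt N78767 (iv4 F427909)) (tt N76218 F427907) (tt N117928 (iv6 F507646)) (tt N63365 F427906))
theorem Q100189 : ∀ i, i < 100189 → P i := stepQ 100188 Q100188 (allL N100188 (tt N107274 (iv1 F457749)) (tt N117928 (iv0 F507648)) (tt N63367 F427910) (tt N105428 (iv3 F450220)) (tt N63293 (iv4 D203330)) (tt N63323 F427911) (tt N105424 (iv6 F450196)) (tt N63322 (iv7 F427912)))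
theorem Q100190 : ∀ i, i < 100190 → P i := stepQ 100189 Q100189 (allL N100189 (tt N63366 (iv1 F427918)) (tt N63365 F427919) (tt N63369 F427913) (tt N64931 F427914) (tt N63322 F427915) (tt N63294 F427916) (tt N64928 F427917) (tt N63293 (iv7 D203331)))
theorem Q100191 : ∀ i, i < 100191 → P i := stepQ 100190 Q100190 (allL N100190 (tt N76374 F427926) (tt N76514 F427927) (tt N63370 F427921) (tt N64932 F427922) (tt N63295 F427923) (tt N64929 F427924) (tt N63294 (iv6 D203332)) (tt N65003 F427925))
theorem Q100192 : ∀ i, i < 100192 → P i := stepQ 100191 Q100191 (allL N100191 (tt N120169 D223428) (tt N120170 D223429) (tt N76341 F427928) (tt N89969 F427929) (tt N120171 D223430) (tt N63296 (iv5 D203333)) (tt N89962 F427930) (tt N113602 (iv7 F486252)))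
theorem Q100193 : ∀ i, i < 100193 → P i := stepQ 100192 Q100192 (allL N100192 (tt N114490 F490444) (tt N118453 (iv0 F510449)) (tt N119557 (iv2 F516235)) (tt N108811 (iv3 F464065)) (tt N114486 F490432) (tt N63297 (iv5 D203334)) (tt N120172 D223431) (tt N120078 (iv7 F518931)))
theorem Q100194 : ∀ i, i < 100194 → P i := stepQ 100193 Q100193 (allL N100193 (tt N105094 F448764) (tt N114253 F489239) (tt N85817 F427931) (tt N105274 F449506) (tt N85814 F427932) (tt N111273 F475570) (tt N63297 (iv6 D203335)) (tt N111281 (iv7 F475613)))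
theorem Q100195 : ∀ i, i < 100195 → P i := stepQ 100194 Q100194 (allL N100194 (tt N118453 F510450) (tt N114490 (iv0 F490443)) (tt N120078 (iv2 F518927)) (tt N86274 F427933) (tt N98321 F427935) (tt N63298 (iv5 D203336)) (tt N86273 F427934) (tt N119557 (iv7 F516238)))
theorem Q100196 : ∀ i, i < 100196 → P i := stepQ 100195 Q100195 (allL N100195 (tt N76512 (iv1 F427941)) (tt N63299 (iv0 D203337)) (tt N70189 (iv2 F427938)) (tt N70396 F427937) (tt N100172 F427936) (tt N105097 (iv5 F448777)) (tt N70185 F427939) (tt N76511 F427940))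
theorem Q100197 : ∀ i, i < 100197 → P i := stepQ 100196 Q100196 (allL N100196 (tt N75528 F428312) (tt N78820 F427944) (tt N76510 F427942) (tt N100297 (iv3 F428307)) (tt N63299 (iv4 D203338)) (tt N99801 F427945) (tt N76336 F427943) (tt N100324 (iv7 F428426)))
theorem Q100198 : ∀ i, i < 100198 → P i := stepQ 100197 Q100197 (allL N100197 (tt N76511 (iv1 F427948)) (tt N70189 F427949) (tt N76512 F427946) (tt N105039 (iv3 F448512)) (tt N100324 F428428) (tt N63300 F427947) (tt N109087 (iv6 F465265)) (tt N63299 (iv7 D203339)))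
theorem Q100199 : ∀ i, i < 100199 → P i := stepQ 100198 Q100198 (allL N100198 (tt N119602 (iv1 F516469)) (tt N104065 (iv0 F444006)) (tt N98369 F427950) (tt N63303 F427951) (tt N96572 F427953) (tt N63301 (iv5 D203340)) (tt N113305 (iv6 F484937)) (tt N98371 F427952))
theorem Q100200 : ∀ i, i < 100200 → P i := stepQ 100199 Q100199 (allL N100199 (tt N85567 F427957) (tt N75047 F427958) (tt N85568 F427954) (tt N109061 (iv3 F465156)) (tt N99802 F427955) (tt N63302 (iv5 D203341)) (tt N114333 (iv6 F489664)) (tt N85566 F427956))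
theorem Q100201 : ∀ i, i < 100201 → P i := stepQ 100200 Q100200 (allL N100200 (tt N63306 (iv1 F427960)) (tt N63303 (iv0 D203342)) (tt N98321 F427962) (tt N89853 (iv3 F427961)) (tt N120078 (iv4 F518929)) (tt N98514 F427959) (tt N114762 F491729) (tt N114486 (iv7 F490429)))
theorem Q100202 : ∀ i, i < 100202 → P i := stepQ 100201 Q100201 (allL N100201 (tt N63303 (iv1 D203343)) (tt N63306 F427963) (tt N114486 (iv2 F490433)) (tt N78378 (iv3 F427966)) (tt N119557 (iv4 F516239)) (tt N98521 F427965) (tt N98265 F427967) (tt N98321 F427964))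
theorem Q100203 : ∀ i, i < 100203 → P i := stepQ 100202 Q100202 (allL N100202 (tt N98050 F427973) (tt N117926 (iv0 F507637)) (tt N98674 F427969) (tt N63306 F427970) (tt N97688 F427972) (tt N63304 (iv5 D203344)) (tt N78787 F427974) (tt N86097 F427971))
theorem Q100204 : ∀ i, i < 100204 → P i := stepQ 100203 Q100203 (allL N100203 (tt N100769 F430385) (tt N76036 (iv0 F427980)) (tt N98749 F427977) (tt N63307 F427978) (tt N90660 F427979) (tt N114445 (iv5 F490206)) (tt N63304 (iv6 D203345)) (tt N111319 (iv7 F475800)))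
theorem Q100205 : ∀ i, i < 100205 → P i := stepQ 100204 Q100204 (allL N100204 (tt N97986 (iv1 F427986)) (tt N78763 (iv0 F427985)) (tt N97984 F427981) (tt N78787 F427982) (tt N109136 (iv4 F465508)) (tt N85022 F427983) (tt N63306 (iv6 D203346)) (tt N97985 F427984))
theorem Q100206 : ∀ i, i < 100206 → P i := stepQ 100205 Q100205 (allL N100205 (tt N98375 F427992) (tt N79988 F431407) (tt N98372 F427987) (tt N63308 (iv3 D203347)) (tt N101038 (iv4 F431403)) (tt N104943 F448056) (tt N101037 F431400) (tt N98373 F427988))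
theorem Q100207 : ∀ i, i < 100207 → P i := stepQ 100206 Q100206 (allL N100206 (tt N109135 (iv1 F465506)) (tt N103068 (iv0 F439939)) (tt N75572 F427989) (tt N72803 F427991) (tt N63308 (iv4 D203348)) (tt N72802 F427990) (tt N76461 (iv6 F427993)) (tt N119994 (iv7 F518446)))
theorem Q100208 : ∀ i, i < 100208 → P i := stepQ 100207 Q100207 (allL N100207 (tt N84825 F427996) (tt N101473 (iv0 F433075)) (tt N94003 F427994) (tt N101037 (iv3 F431399)) (tt N76461 F427995) (tt N76452 F427997) (tt N63308 (iv6 D203349)) (tt N94002 (iv7 F427998)))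
theorem Q100209 : ∀ i, i < 100209 → P i := stepQ 100208 Q100208 (allL N100208 (tt N98516 F428003) (tt N109193 (iv0 F465733)) (tt N100760 (iv2 F430336)) (tt N69771 F427999) (tt N98108 (iv4 F428002)) (tt N63310 (iv5 D203350)) (tt N98106 F428000) (tt N69767 F428001))
theorem Q100210 : ∀ i, i < 100210 → P i := stepQ 100209 Q100209 (allL N100209 (tt N63312 (iv1 D203351)) (tt N63313 F428004) (tt N78765 (iv2 F428007)) (tt N110379 (iv3 F471309)) (tt N79060 F428006) (tt N110373 (iv5 F471289)) (tt N109774 (iv6 F468552)) (tt N78764 F428005))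
theorem Q100211 : ∀ i, i < 100211 → P i := stepQ 100210 Q100210 (allL N100210 (tt N116727 (iv1 F501524)) (tt N120173 D223432) (tt N120174 D223433) (tt N63312 (iv3 D203352)) (tt N98351 F428008) (tt N120175 D223434) (tt N119620 (iv6 F516558)) (tt N107986 F460607))
theorem Q100212 : ∀ i, i < 100212 → P i := stepQ 100211 Q100211 (allL N100211 (tt N103070 (iv1 F439947)) (tt N103069 (iv0 F439942)) (tt N78767 F428009) (tt N120175 (iv3 F519437)) (tt N63366 F428012) (tt N63312 (iv5 D203353)) (tt N63351 F428010) (tt N78833 F428011))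
theorem Q100213 : ∀ i, i < 100213 → P i := stepQ 100212 Q100212 (allL N100212 (tt N103069 (iv1 F439943)) (tt N103070 (iv0 F439946)) (tt N78833 F428013) (tt N119680 (iv3 F516880)) (tt N63365 F428014) (tt N63313 (iv5 D203354)) (tt N116788 F501840) (tt N78767 F428015))
theorem Q100214 : ∀ i, i < 100214 → P i := stepQ 100213 Q100213 (allL N100213 (tt N84893 F428020) (tt N84903 F428021) (tt N84902 F428016) (tt N109215 (iv3 F465815)) (tt N63314 F428017) (tt N96700 (iv5 F428019)) (tt N63313 (iv6 D203355)) (tt N84901 F428018))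
theorem Q100215 : ∀ i, i < 100215 → P i := stepQ 100214 Q100214 (allL N100214 (tt N63314 (iv1 D203356)) (tt N109089 F465281) (tt N98265 F428024) (tt N98313 (iv3 F428022)) (tt N120172 (iv4 F519420)) (tt N71799 (iv5 F428023)) (tt N114486 (iv6 F490434)) (tt N106542 (iv7 F454820)))
theorem Q100216 : ∀ i, i < 100216 → P i := stepQ 100215 Q100215 (allL N100215 (tt N98425 F428028) (tt N87640 F428029) (tt N98333 F428025) (tt N63317 F428026) (tt N105223 (iv4 F449275)) (tt N98330 F428027) (tt N63315 (iv6 D203357)) (tt N113099 F483966))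
theorem Q100217 : ∀ i, i < 100217 → P i := stepQ 100216 Q100216 (allL N100216 (tt N120176 D223435) (tt N108074 (iv0 F461009)) (tt N120177 D223436) (tt N63316 (iv3 D203358)) (tt N109816 (iv4 F468760)) (tt N114958 (iv5 F492761)) (tt N86320 F428030) (tt N89702 F428031))
theorem Q100218 : ∀ i, i < 100218 → P i := stepQ 100217 Q100217 (allL N100217 (tt N63317 (iv1 D203359)) (tt N85124 F428032) (tt N85258 F428035) (tt N78389 (iv3 F428034)) (tt N84757 F428036) (tt N119531 (iv5 F516095)) (tt N116706 (iv6 F501415)) (tt N98335 F428033))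
theorem Q100219 : ∀ i, i < 100219 → P i := stepQ 100218 Q100218 (allL N100218 (tt N114926 F492572) (tt N114985 F492917) (tt N74520 F428042) (tt N98330 F428043) (tt N113125 F484092) (tt N63317 (iv5 D203360)) (tt N63766 F428044) (tt N114331 (iv7 F489651)))
theorem Q100220 : ∀ i, i < 100220 → P i := stepQ 100219 Q100219 (allL N100219 (tt N75582 F428046) (tt N94656 (iv0 F428047)) (tt N109211 F466730) (tt N63318 (iv3 D203361)) (tt N98627 F428045) (tt N120178 D223437) (tt N114956 (iv6 F492753)) (tt N109210 F465800))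
theorem Q100221 : ∀ i, i < 100221 → P i := stepQ 100220 Q100220 (allL N100220 (tt N77397 F428050) (tt N111146 (iv0 F474924)) (tt N109604 (iv2 F467688)) (tt N120178 (iv3 F519453)) (tt N63361 F428048) (tt N63318 (iv5 D203362)) (tt N113379 F485268) (tt N83029 F428049))
theorem Q100222 : ∀ i, i < 100222 → P i := stepQ 100221 Q100221 (allL N100221 (tt N109636 (iv1 F467866)) (tt N109775 (iv0 F468558)) (tt N111337 (iv2 F475886)) (tt N113469 (iv3 F485627)) (tt N63359 F428052) (tt N63319 (iv5 D203363)) (tt N83028 F428051) (tt N111333 (iv7 F475867)))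
theorem Q100223 : ∀ i, i < 100223 → P i := stepQ 100222 Q100222 (allL N100222 (tt N109198 (iv1 F465761)) (tt N84759 (iv0 F428055)) (tt N110493 (iv2 F471829)) (tt N63320 (iv3 D203364)) (tt N89627 F428053) (tt N120179 D223438) (tt N89625 F428054) (tt N110494 (iv7 F471835)))
theorem Q100224 : ∀ i, i < 100224 → P i := stepQ 100223 Q100223 (allL N100223 (tt N109775 (iv1 F468559)) (tt N109636 (iv0 F467865)) (tt N111333 (iv2 F475866)) (tt N120179 (iv3 F519457)) (tt N63355 F428056) (tt N63320 (iv5 D203365)) (tt N120180 D223439) (tt N111337 (iv7 F475888)))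
theorem Q100225 : ∀ i, i < 100225 → P i := stepQ 100224 Q100224 (allL N100224 (tt N105654 (iv1 F451124)) (tt N105653 F451123) (tt N101319 (iv2 F432637)) (tt N63322 F428057) (tt N120181 D223440) (tt N63321 (iv5 D203366)) (tt N101050 (iv6 F431452)) (tt N105428 (iv7 F450222)))
theorem Q100226 : ∀ i, i < 100226 → P i := stepQ 100225 Q100225 (allL N100225 (tt N63367 (iv1 F428060)) (tt N63322 (iv0 D203367)) (tt N117928 (iv2 F507644)) (tt N116110 (iv3 F498517)) (tt N63351 F428059) (tt N63342 F428058) (tt N63366 (iv6 F428061)) (tt N107274 (iv7 F457746)))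
theorem Q100227 : ∀ i, i < 100227 → P i := stepQ 100226 Q100226 (allL N100226 (tt N63322 (iv1 D203368)) (tt N63367 F428062) (tt N107274 (iv2 F457745)) (tt N119593 (iv3 F516419)) (tt N63347 F428064) (tt N63348 F428063) (tt N119592 (iv6 F516415)) (tt N117928 (iv7 F507647)))
theorem Q100228 : ∀ i, i < 100228 → P i := stepQ 100227 Q100227 (allL N100227 (tt N105418 (iv1 F450175)) (tt N63324 (iv0 D203369)) (tt N98636 (iv2 F428068)) (tt N98437 F453456) (tt N114938 (iv4 F492644)) (tt N111266 (iv5 F475527)) (tt N114937 (iv6 F492641)) (tt N105423 (iv7 F450193)))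
theorem Q100229 : ∀ i, i < 100229 → P i := stepQ 100228 Q100228 (allL N100228 (tt N63324 (iv1 D203370)) (tt N105418 F450174) (tt N105423 F450191) (tt N78771 F428066) (tt N117063 (iv4 F503188)) (tt N95890 (iv5 F428065)) (tt N85201 F452074) (tt N98636 F428067))
theorem Q100230 : ∀ i, i < 100230 → P i := stepQ 100229 Q100229 (allL N100229 (tt N63329 (iv1 D203371)) (tt N77003 F428069) (tt N76877 F428075) (tt N68023 (iv3 F428073)) (tt N100067 F428072) (tt N77549 F428071) (tt N68022 (iv6 F428074)) (tt N75825 F428070))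
theorem Q100231 : ∀ i, i < 100231 → P i := stepQ 100230 Q100230 (allL N100230 (tt N71401 F428080) (tt N71149 F428081) (tt N71405 F428076) (tt N90900 F428077) (tt N80084 F428078) (tt N120182 D223441) (tt N63338 (iv6 D203372)) (tt N71404 F428079))
theorem Q100232 : ∀ i, i < 100232 → P i := stepQ 100231 Q100231 (allL N100231 (tt N104206 (iv1 F444688)) (tt N104009 (iv0 F443772)) (tt N76429 F428082) (tt N76280 F428083) (tt N76332 F428084) (tt N76322 F428085) (tt N63340 (iv6 D203373)) (tt N76427 (iv7 F428086)))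
theorem Q100233 : ∀ i, i < 100233 → P i := stepQ 100232 Q100232 (allL N100232 (tt N114427 (iv1 F490101)) (tt N114426 (iv0 F490094)) (tt N111324 (iv2 F475825)) (tt N103034 (iv3 F439768)) (tt N91059 F428087) (tt N70626 F428088) (tt N63341 (iv6 D203374)) (tt N117066 (iv7 F503207)))
theorem Q100234 : ∀ i, i < 100234 → P i := stepQ 100233 Q100233 (allL N100233 (tt N106307 F453964) (tt N105589 (iv0 F450869)) (tt N106361 (iv2 F454142)) (tt N116419 (iv3 F500004)) (tt N63343 F428089) (tt N78835 F428090) (tt N63342 (iv6 D203375)) (tt N106353 (iv7 F454108)))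
theorem Q100235 : ∀ i, i < 100235 → P i := stepQ 100234 Q100234 (allL N100234 (tt N63343 (iv1 D203376)) (tt N74958 F428091) (tt N115056 (iv2 F493267)) (tt N80146 (iv3 F428093)) (tt N98499 F428095) (tt N80145 (iv5 F428094)) (tt N111268 (iv6 F475538)) (tt N100019 F428092))
theorem Q100236 : ∀ i, i < 100236 → P i := stepQ 100235 Q100235 (allL N100235 (tt N115056 (iv1 F493261)) (tt N100019 (iv0 F428100)) (tt N74958 F428097) (tt N76627 F428098) (tt N106353 (iv4 F454109)) (tt N74889 F428099) (tt N114339 (iv6 F489692)) (tt N63343 (iv7 D203377)))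
theorem Q100237 : ∀ i, i < 100237 → P i := stepQ 100236 Q100236 (allL N100236 (tt N105987 (iv1 F452639)) (tt N105985 F452628) (tt N98986 F428101) (tt N63344 (iv3 D203378)) (tt N63672 F428102) (tt N117376 (iv5 F504734)) (tt N108461 F462684) (tt N78827 F428103))
theorem Q100238 : ∀ i, i < 100238 → P i := stepQ 100237 Q100237 (allL N100237 (tt N76150 F428106) (tt N100183 F428107) (tt N76219 F428104) (tt N117376 (iv3 F504730)) (tt N102879 (iv4 F439072)) (tt N63344 (iv5 D203379)) (tt N117374 (iv6 F504722)) (tt N78828 F428105))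
theorem Q100239 : ∀ i, i < 100239 → P i := stepQ 100238 Q100238 (allL N100238 (tt N103182 F440451) (tt N106863 F456059) (tt N76220 F428108) (tt N108461 F462683) (tt N63345 F428109) (tt N120183 D223442) (tt N63344 (iv6 D203380)) (tt N106862 (iv7 F456056)))
theorem Q100240 : ∀ i, i < 100240 → P i := stepQ 100239 Q100239 (allL N100239 (tt N120081 F518951) (tt N63346 (iv0 D203381)) (tt N120167 (iv2 F519394)) (tt N98991 F428110) (tt N100088 (iv4 F438428)) (tt N106584 (iv5 F454946)) (tt N100087 F438429) (tt N106841 F455936))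
theorem Q100241 : ∀ i, i < 100241 → P i := stepQ 100240 Q100240 (allL N100240 (tt N63346 (iv1 D203382)) (tt N120081 (iv0 F518950)) (tt N106841 F457681) (tt N111360 (iv3 F476002)) (tt N117873 (iv4 F507373)) (tt N120184 D223443) (tt N106839 (iv6 F457680)) (tt N120167 (iv7 F519391)))
theorem Q100242 : ∀ i, i < 100242 → P i := stepQ 100241 Q100241 (allL N100241 (tt N120167 (iv1 F519390)) (tt N106841 F455938) (tt N63346 (iv2 D203383)) (tt N89574 F428111) (tt N109569 (iv4 F467571)) (tt N119776 (iv5 F517362)) (tt N106230 (iv6 F453675)) (tt N120081 (iv7 F518949)))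
theorem Q100243 : ∀ i, i < 100243 → P i := stepQ 100242 Q100242 (allL N100242 (tt N110005 (iv1 F469532)) (tt N117248 F504112) (tt N119776 (iv2 F517360)) (tt N63347 F428112) (tt N106666 (iv4 F455220)) (tt N63346 (iv5 D203384)) (tt N120185 D223444) (tt N119773 (iv7 F517350)))
theorem Q100244 : ∀ i, i < 100244 → P i := stepQ 100243 Q100243 (allL N100243 (tt N110414 F471462) (tt N114791 (iv0 F491885)) (tt N107271 (iv2 F457731)) (tt N120185 (iv3 F519488)) (tt N119592 (iv4 F516414)) (tt N89139 F428113) (tt N63347 (iv6 D203385)) (tt N116788 (iv7 F501837)))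
theorem Q100245 : ∀ i, i < 100245 → P i := stepQ 100244 Q100244 (allL N100244 (tt N120186 D223445) (tt N105735 (iv0 F465214)) (tt N110487 (iv2 F471807)) (tt N63348 (iv3 D203386)) (tt N96501 F428114) (tt N119593 (iv5 F516421)) (tt N96500 (iv6 F428115)) (tt N110488 (iv7 F471812)))
theorem Q100246 : ∀ i, i < 100246 → P i := stepQ 100245 Q100245 (allL N100245 (tt N107405 F458236) (tt N120172 (iv0 F519423)) (tt N120166 (iv2 F519384)) (tt N96500 F428116) (tt N63349 F428117) (tt N96684 F428118) (tt N63348 (iv6 D203387)) (tt N106359 (iv7 F454134)))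
theorem Q100247 : ∀ i, i < 100247 → P i := stepQ 100246 Q100246 (allL N100246 (tt N114341 (iv1 F489708)) (tt N74951 F454798) (tt N114339 F489693) (tt N96624 F428119) (tt N106359 (iv4 F454135)) (tt N106535 (iv5 F454797)) (tt N74958 F428120) (tt N63349 (iv7 D203388)))
theorem Q100248 : ∀ i, i < 100248 → P i := stepQ 100247 Q100247 (allL N100247 (tt N116431 (iv1 F500075)) (tt N71515 F428122) (tt N120082 (iv2 F518952)) (tt N63351 F428121) (tt N116536 (iv4 F500657)) (tt N63350 (iv5 D203389)) (tt N120175 (iv6 F519438)) (tt N107270 (iv7 F457728)))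
theorem Q100249 : ∀ i, i < 100249 → P i := stepQ 100248 Q100248 (allL N100248 (tt N106258 (iv1 F453780)) (tt N105951 (iv0 F452476)) (tt N106257 (iv2 F493550)) (tt N63352 F428123) (tt N89576 F428124) (tt N119620 (iv5 F516557)) (tt N63350 (iv6 D203390)) (tt N106229 (iv7 F453671)))
theorem Q100250 : ∀ i, i < 100250 → P i := stepQ 100249 Q100249 (allL N100249 (tt N63353 (iv1 D203391)) (tt N74680 F428125) (tt N74699 F428128) (tt N65260 (iv3 F428127)) (tt N94404 F428129) (tt N110118 (iv5 F470077)) (tt N108340 (iv6 F462151)) (tt N65246 F428126))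
theorem Q100251 : ∀ i, i < 100251 → P i := stepQ 100250 Q100250 (allL N100250 (tt N111335 (iv1 F475881)) (tt N63354 (iv0 D203392)) (tt N111334 (iv2 F475873)) (tt N71476 F428130) (tt N92362 F428131) (tt N110005 F469533) (tt N110998 (iv6 F474161)) (tt N71483 (iv7 F428132)))
theorem Q100252 : ∀ i, i < 100252 → P i := stepQ 100251 Q100251 (allL N100251 (tt N63354 (iv1 D203393)) (tt N111335 F475882) (tt N71483 F454932) (tt N116511 (iv3 F500537)) (tt N92361 (iv4 F428133)) (tt N117248 (iv5 F504110)) (tt N115785 F496865) (tt N111334 (iv7 F475871)))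
theorem Q100253 : ∀ i, i < 100253 → P i := stepQ 100252 Q100252 (allL N100252 (tt N117219 F503964) (tt N120187 D223446) (tt N116432 (iv2 F500076)) (tt N63355 F428134) (tt N98939 (iv4 F503966)) (tt N63354 (iv5 D203394)) (tt N118769 (iv6 F511979)) (tt N111336 (iv7 F475884)))
theorem Q100254 : ∀ i, i < 100254 → P i := stepQ 100253 Q100253 (allL N100253 (tt N117078 F503266) (tt N96299 (iv0 F457813)) (tt N116429 (iv2 F500057)) (tt N63356 F428135) (tt N107936 (iv4 F460366)) (tt N117096 F503356) (tt N63354 (iv6 D203395)) (tt N118931 (iv7 F512811)))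
theorem Q100255 : ∀ i, i < 100255 → P i := stepQ 100254 Q100254 (allL N100254 (tt N63359 (iv1 F428138)) (tt N63355 (iv0 D203396)) (tt N78825 F428140) (tt N77367 F428141) (tt N90837 F428137) (tt N72385 F428136) (tt N77364 (iv6 F428139)) (tt N78824 (iv7 F428142)))
theorem Q100256 : ∀ i, i < 100256 → P i := stepQ 100255 Q100255 (allL N100255 (tt N63355 (iv1 D203397)) (tt N63359 F428143) (tt N78824 (iv2 F428146)) (tt N113547 (iv3 F485968)) (tt N110373 (iv4 F471288)) (tt N72384 F428145) (tt N113380 (iv6 F485273)) (tt N78825 F428144))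
theorem Q100257 : ∀ i, i < 100257 → P i := stepQ 100256 Q100256 (allL N100256 (tt N110250 F471293) (tt N110382 (iv0 F471325)) (tt N110380 F471317) (tt N118769 (iv3 F511978)) (tt N120180 (iv4 F519464)) (tt N118767 (iv5 F511976)) (tt N63355 (iv6 D203398)) (tt N110381 (iv7 F471319)))
theorem Q100258 : ∀ i, i < 100258 → P i := stepQ 100257 Q100257 (allL N100257 (tt N63356 (iv1 D203399)) (tt N72696 F428147) (tt N99461 (iv2 F428150)) (tt N71635 (iv3 F428151)) (tt N76152 F428149) (tt N116729 (iv5 F501532)) (tt N108354 (iv6 F462216)) (tt N71649 F428148))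
theorem Q100259 : ∀ i, i < 100259 → P i := stepQ 100258 Q100258 (allL N100258 (tt N89123 F431059) (tt N89998 F431061) (tt N89997 F428152) (tt N117096 F503355) (tt N106615 F455061) (tt N63356 (iv5 D203400)) (tt N118767 (iv6 F511971)) (tt N89996 F428153))
theorem Q100260 : ∀ i, i < 100260 → P i := stepQ 100259 Q100259 (allL N100259 (tt N116433 (iv1 F500079)) (tt N71523 F428155) (tt N116436 (iv2 F500098)) (tt N63359 F428154) (tt N116428 (iv4 F500054)) (tt N63358 (iv5 D203401)) (tt N120188 D223447) (tt N116092 (iv7 F498424)))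
theorem Q100261 : ∀ i, i < 100261 → P i := stepQ 100260 Q100260 (allL N100260 (tt N90883 (iv1 F428158)) (tt N83340 (iv0 F428157)) (tt N111338 (iv2 F475892)) (tt N120188 (iv3 F519502)) (tt N83028 F428156) (tt N113187 (iv5 F484380)) (tt N63359 (iv6 D203402)) (tt N113368 (iv7 F485206)))
theorem Q100262 : ∀ i, i < 100262 → P i := stepQ 100261 Q100261 (allL N100261 (tt N90905 (iv1 F428160)) (tt N63360 (iv0 D203403)) (tt N90906 (iv2 F428159)) (tt N117796 F507019) (tt N117557 (iv4 F505681)) (tt N110016 F472838) (tt N105741 (iv6 F462577)) (tt N90899 F428161))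
theorem Q100263 : ∀ i, i < 100263 → P i := stepQ 100262 Q100262 (allL N100262 (tt N90906 (iv1 F428166)) (tt N90899 F428165) (tt N63360 (iv2 D203404)) (tt N90487 F428162) (tt N77111 F428163) (tt N120189 D223448) (tt N90485 F428167) (tt N90905 F428164))
theorem Q100264 : ∀ i, i < 100264 → P i := stepQ 100263 Q100263 (allL N100263 (tt N117386 F504777) (tt N120190 D223449) (tt N120189 (iv2 F519506)) (tt N63361 F428168) (tt N120191 D223450) (tt N63360 (iv5 D203405)) (tt N120192 D223451) (tt N119072 (iv7 F513636)))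
theorem Q100265 : ∀ i, i < 100265 → P i := stepQ 100264 Q100264 (allL N100264 (tt N119068 (iv1 F513609)) (tt N119067 F513606) (tt N90485 F428169) (tt N63362 F428170) (tt N74639 F428171) (tt N116666 F501217) (tt N63360 (iv6 D203406)) (tt N116674 (iv7 F501254)))
theorem Q100266 : ∀ i, i < 100266 → P i := stepQ 100265 Q100265 (allL N100265 (tt N107188 F457406) (tt N120193 D223452) (tt N107410 (iv2 F458247)) (tt N120192 (iv3 F519518)) (tt N113379 (iv4 F485270)) (tt N107397 (iv5 F458206)) (tt N63361 (iv6 D203407)) (tt N107413 (iv7 F458256)))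
theorem Q100267 : ∀ i, i < 100267 → P i := stepQ 100266 Q100266 (allL N100266 (tt N106612 (iv1 F455053)) (tt N119999 F518478) (tt N107411 (iv2 F458249)) (tt N116666 F501216) (tt N65021 F428172) (tt N63362 (iv5 D203408)) (tt N107397 (iv6 F458205)) (tt N100944 (iv7 F431057)))
theorem Q100268 : ∀ i, i < 100268 → P i := stepQ 100267 Q100267 (allL N100267 (tt N90487 (iv1 F428176)) (tt N63363 (iv0 D203409)) (tt N91736 (iv2 F428177)) (tt N83281 F428174) (tt N71341 F428173) (tt N113471 (iv5 F485639)) (tt N81479 F428175) (tt N109602 (iv7 F467683)))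
theorem Q100269 : ∀ i, i < 100269 → P i := stepQ 100268 Q100268 (allL N100268 (tt N63363 (iv1 D203410)) (tt N90487 (iv0 F428181)) (tt N109602 F467681) (tt N77436 (iv3 F428182)) (tt N71342 F428179) (tt N77427 F428183) (tt N77428 (iv6 F428180)) (tt N91736 F428178))
theorem Q100270 : ∀ i, i < 100270 → P i := stepQ 100269 Q100269 (allL N100269 (tt N91736 (iv1 F428187)) (tt N109602 F467682) (tt N63363 (iv2 D203411)) (tt N90905 F428184) (tt N75981 F428185) (tt N112347 (iv5 F480684)) (tt N106569 (iv6 F454895)) (tt N90487 F428186))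
theorem Q100271 : ∀ i, i < 100271 → P i := stepQ 100270 Q100270 (allL N100270 (tt N111198 (iv1 F475193)) (tt N111200 (iv0 F475201)) (tt N112347 (iv2 F480682)) (tt N63364 F428188) (tt N112112 (iv4 F479538)) (tt N63363 (iv5 D203412)) (tt N112111 F479536) (tt N109603 (iv7 F467685)))
theorem Q100272 : ∀ i, i < 100272 → P i := stepQ 100271 Q100271 (allL N100271 (tt N110016 F469576) (tt N89348 (iv0 F428190)) (tt N119610 (iv2 F516496)) (tt N63365 (iv3 D203413)) (tt N117929 (iv4 F507651)) (tt N78811 F428189) (tt N109877 F469051) (tt N120168 (iv7 F519397)))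
theorem Q100273 : ∀ i, i < 100273 → P i := stepQ 100272 Q100272 (allL N100272 (tt N107406 F458239) (tt N120194 D223453) (tt N78834 F428191) (tt N109877 (iv3 F469050)) (tt N116788 (iv4 F501839)) (tt N88379 F428192) (tt N63365 (iv6 D203414)) (tt N119592 (iv7 F516416)))
theorem Q100274 : ∀ i, i < 100274 → P i := stepQ 100273 Q100273 (allL N100273 (tt N113471 (iv1 F485642)) (tt N77427 (iv0 F428196)) (tt N113473 F485652) (tt N63366 (iv3 D203415)) (tt N89810 (iv4 F428195)) (tt N67116 F428193) (tt N116110 (iv6 F498518)) (tt N78832 F428194))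
theorem Q100275 : ∀ i, i < 100275 → P i := stepQ 100274 Q100274 (allL N100274 (tt N120195 D223454) (tt N106350 (iv0 F454099)) (tt N105638 (iv2 F451059)) (tt N63367 (iv3 D203416)) (tt N76802 F428197) (tt N105599 (iv5 F450921)) (tt N72074 (iv6 F428198)) (tt N120165 (iv7 F519382)))
theorem Q100276 : ∀ i, i < 100276 → P i := stepQ 100275 Q100275 (allL N100275 (tt N83034 (iv1 F428206)) (tt N83031 (iv0 F428205)) (tt N105424 (iv2 F450194)) (tt N72074 F428199) (tt N63368 F428200) (tt N72026 F428201) (tt N63367 (iv6 D203417)) (tt N113222 (iv7 F484559)))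
theorem Q100277 : ∀ i, i < 100277 → P i := stepQ 100276 Q100276 (allL N100276 (tt N81834 (iv1 F428210)) (tt N63368 (iv0 D203418)) (tt N113185 (iv2 F484365)) (tt N88524 F428209) (tt N88399 F428208) (tt N88520 F428207) (tt N112321 (iv6 F480540)) (tt N89343 (iv7 F428211)))
theorem Q100278 : ∀ i, i < 100278 → P i := stepQ 100277 Q100277 (allL N100277 (tt N63368 (iv1 D203419)) (tt N81834 F428216) (tt N89343 (iv2 F428220)) (tt N87056 (iv3 F428217)) (tt N88398 F428219) (tt N88600 (iv5 F428218)) (tt N107414 F458259) (tt N113185 (iv7 F484368)))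
theorem Q100279 : ∀ i, i < 100279 → P i := stepQ 100278 Q100278 (allL N100278 (tt N81838 (iv1 F428225)) (tt N81837 (iv0 F428226)) (tt N64928 F428221) (tt N71541 F428222) (tt N100759 (iv4 F430332)) (tt N64534 F428223) (tt N63369 (iv6 D203420)) (tt N75846 F428224))
theorem Q100280 : ∀ i, i < 100280 → P i := stepQ 100279 Q100279 (allL N100279 (tt N77010 F428231) (tt N75508 (iv0 F428233)) (tt N77021 F428227) (tt N63371 (iv3 D203421)) (tt N77765 F428232) (tt N63601 F428228) (tt N98314 F428229) (tt N63600 F428230))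
theorem Q100281 : ∀ i, i < 100281 → P i := stepQ 100280 Q100280 (allL N100280 (tt N63491 F428236) (tt N63490 F428237) (tt N63492 F428234) (tt N114006 (iv3 F488166)) (tt N63373 (iv4 D203422)) (tt N114005 (iv5 F488163)) (tt N116120 (iv6 F498577)) (tt N63445 F428235))
theorem Q100282 : ∀ i, i < 100282 → P i := stepQ 100281 Q100281 (allL N100281 (tt N78219 (iv1 F428239)) (tt N63376 (iv0 D203423)) (tt N63858 F428241) (tt N102966 (iv3 F439485)) (tt N109470 (iv4 F467133)) (tt N77568 F428238) (tt N63428 (iv6 F428240)) (tt N81348 F428242))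
theorem Q100283 : ∀ i, i < 100283 → P i := stepQ 100282 Q100282 (allL N100282 (tt N63376 (iv1 D203424)) (tt N78219 F428243) (tt N81348 F428248) (tt N66432 (iv3 F428246)) (tt N105025 (iv4 F448441)) (tt N77569 F428245) (tt N70098 (iv6 F428247)) (tt N63858 F428244))
theorem Q100284 : ∀ i, i < 100284 → P i := stepQ 100283 Q100283 (allL N100283 (tt N76812 (iv1 F428251)) (tt N63383 (iv0 D203425)) (tt N76811 (iv2 F428250)) (tt N106659 (iv3 F455188)) (tt N95001 F428249) (tt N109975 (iv5 F469439)) (tt N95000 (iv6 F428253)) (tt N76810 F428252))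
theorem Q100285 : ∀ i, i < 100285 → P i := stepQ 100284 Q100284 (allL N100284 (tt N76811 (iv1 F428259)) (tt N76810 F428258) (tt N63383 (iv2 D203426)) (tt N63685 F428254) (tt N76892 F428255) (tt N119801 (iv5 F517483)) (tt N77922 F428256) (tt N76812 F428257))
theorem Q100286 : ∀ i, i < 100286 → P i := stepQ 100285 Q100285 (allL N100285 (tt N119800 (iv1 F517480)) (tt N106670 (iv0 F462393)) (tt N119801 (iv2 F517485)) (tt N63384 F428260) (tt N120196 D223455) (tt N63383 (iv5 D203427)) (tt N120197 D223456) (tt N76813 F428261))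
theorem Q100287 : ∀ i, i < 100287 → P i := stepQ 100286 Q100286 (allL N100286 (tt N110701 F472818) (tt N120198 D223457) (tt N63690 F428262) (tt N120197 (iv3 F519537)) (tt N113421 (iv4 F485427)) (tt N78210 F428263) (tt N63384 (iv6 D203428)) (tt N113425 (iv7 F485441)))
theorem Q100288 : ∀ i, i < 100288 → P i := stepQ 100287 Q100287 (allL N100287 (tt N74467 F428265) (tt N76672 F428266) (tt N119544 (iv2 F516163)) (tt N78842 F428264) (tt N120199 D223458) (tt N63392 (iv5 D203429)) (tt N105885 (iv6 F452176)) (tt N110942 (iv7 F473890)))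
theorem Q100289 : ∀ i, i < 100289 → P i := stepQ 100288 Q100288 (allL N100288 (tt N76672 F428268) (tt N74467 F428269) (tt N110942 (iv2 F473893)) (tt N112661 (iv3 F482056)) (tt N120200 D223459) (tt N63393 (iv5 D203430)) (tt N76699 (iv6 F428270)) (tt N119544 (iv7 F516166)))
theorem Q100290 : ∀ i, i < 100290 → P i := stepQ 100289 Q100289 (allL N100289 (tt N108039 (iv1 F460846)) (tt N79922 (iv0 F428273)) (tt N108339 (iv2 F462140)) (tt N74943 F428271) (tt N99557 F428272) (tt N100319 (iv5 F428412)) (tt N63393 (iv6 D203431)) (tt N108338 (iv7 F462136)))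
theorem Q100291 : ∀ i, i < 100291 → P i := stepQ 100290 Q100290 (allL N100290 (tt N89791 F428276) (tt N98427 F428277) (tt N76684 F428274) (tt N114632 (iv3 F491103)) (tt N63394 (iv4 D203432)) (tt N120201 D223460) (tt N63396 F428275) (tt N115051 (iv7 F493233)))
theorem Q100292 : ∀ i, i < 100292 → P i := stepQ 100291 Q100291 (allL N100291 (tt N98435 F428281) (tt N98377 F428282) (tt N76683 F428278) (tt N114631 (iv3 F491096)) (tt N76612 F428280) (tt N63396 (iv5 D203433)) (tt N120202 D223461) (tt N76689 F428279))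
theorem Q100293 : ∀ i, i < 100293 → P i := stepQ 100292 Q100292 (allL N100292 (tt N75234 F428285) (tt N112358 (iv0 F480730)) (tt N108267 (iv2 F461788)) (tt N76319 F428283) (tt N117429 (iv4 F504991)) (tt N63400 (iv5 D203434)) (tt N76323 F428284) (tt N109382 (iv7 F466678)))
theorem Q100294 : ∀ i, i < 100294 → P i := stepQ 100293 Q100293 (allL N100293 (tt N91240 F428290) (tt N91230 F428291) (tt N91237 F428286) (tt N91238 F428287) (tt N63401 (iv4 D203435)) (tt N102037 (iv5 F435465)) (tt N63404 F428288) (tt N91238 F428289))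
theorem Q100295 : ∀ i, i < 100295 → P i := stepQ 100294 Q100294 (allL N100294 (tt N115190 (iv1 F493943)) (tt N86698 (iv0 F428294)) (tt N118060 (iv2 F508352)) (tt N63404 (iv3 D203436)) (tt N63423 F428292) (tt N115216 (iv5 F494062)) (tt N91238 F428293) (tt N115360 (iv7 F494790)))
theorem Q100296 : ∀ i, i < 100296 → P i := stepQ 100295 Q100295 (allL N100295 (tt N91201 F428298) (tt N91200 F428299) (tt N91202 F428295) (tt N98068 F428296) (tt N108258 (iv4 F461739)) (tt N63406 (iv5 D203437)) (tt N120203 D223462) (tt N91196 F428297))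
theorem Q100297 : ∀ i, i < 100297 → P i := stepQ 100296 Q100296 (allL N100296 (tt N63467 F428305) (tt N63466 F428303) (tt N63469 F428300) (tt N109369 (iv3 F466612)) (tt N78325 F428304) (tt N63415 (iv5 D203438)) (tt N63424 F428301) (tt N63416 F428302))
theorem Q100298 : ∀ i, i < 100298 → P i := stepQ 100297 Q100297 (allL N100297 (tt N63469 (iv1 F428310)) (tt N63416 (iv0 D203439)) (tt N63466 (iv2 F428309)) (tt N100196 F428307) (tt N98386 F428306) (tt N108039 (iv5 F460843)) (tt N97350 F428308) (tt N63467 F428311))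
theorem Q100299 : ∀ i, i < 100299 → P i := stepQ 100298 Q100298 (allL N100298 (tt N70681 (iv1 F428316)) (tt N63419 (iv0 D203440)) (tt N104228 F444810) (tt N113638 F486432) (tt N68202 F428314) (tt N96940 F428313) (tt N68202 F428315) (tt N75236 (iv7 F428317)))
theorem Q100300 : ∀ i, i < 100300 → P i := stepQ 100299 Q100299 (allL N100299 (tt N63419 (iv1 D203441)) (tt N70681 F428318) (tt N75236 F428322) (tt N92013 F428323) (tt N68204 F428319) (tt N96937 (iv5 F428321)) (tt N74432 (iv6 F428320)) (tt N104228 (iv7 F444812)))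
theorem Q100301 : ∀ i, i < 100301 → P i := stepQ 100300 Q100300 (allL N100300 (tt N88811 F428329) (tt N117736 (iv0 F506707)) (tt N86914 F428324) (tt N63422 F428325) (tt N76428 F428326) (tt N66580 F428327) (tt N63420 (iv6 D203442)) (tt N98724 F428328))
theorem Q100302 : ∀ i, i < 100302 → P i := stepQ 100301 Q100301 (allL N100301 (tt N68431 F428334) (tt N92950 (iv0 F428335)) (tt N92949 F428330) (tt N63421 (iv3 D203443)) (tt N76426 F428331) (tt N114986 (iv5 F492921)) (tt N91215 F428332) (tt N92948 F428333))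
theorem Q100303 : ∀ i, i < 100303 → P i := stepQ 100302 Q100302 (allL N100302 (tt N104024 (iv1 F443845)) (tt N104026 (iv0 F443855)) (tt N98364 F428336) (tt N114986 (iv3 F492922)) (tt N63453 F428337) (tt N63421 (iv5 D203444)) (tt N106319 (iv6 F454007)) (tt N98069 F428338))
theorem Q100304 : ∀ i, i < 100304 → P i := stepQ 100303 Q100303 (allL N100303 (tt N111184 (iv1 F475125)) (tt N109379 (iv0 F466664)) (tt N111185 (iv2 F475130)) (tt N63424 F428339) (tt N112762 (iv4 F482534)) (tt N63423 (iv5 D203445)) (tt N109369 (iv6 F466613)) (tt N111182 (iv7 F475118)))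
theorem Q100305 : ∀ i, i < 100305 → P i := stepQ 100304 Q100304 (allL N100304 (tt N63426 (iv1 D203446)) (tt N78482 F428340) (tt N69318 F428345) (tt N63859 (iv3 F428342)) (tt N70543 (iv4 F428343)) (tt N100357 (iv5 F428574)) (tt N80746 (iv6 F428344)) (tt N78480 F428341))
theorem Q100306 : ∀ i, i < 100306 → P i := stepQ 100305 Q100305 (allL N100305 (tt N69318 (iv1 F428350)) (tt N78480 F428351) (tt N78482 F428346) (tt N63430 F428347) (tt N76917 F428348) (tt N103618 (iv5 F442258)) (tt N69238 F428349) (tt N63426 (iv7 D203447)))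
theorem Q100307 : ∀ i, i < 100307 → P i := stepQ 100306 Q100306 (allL N100306 (tt N77615 F428357) (tt N100308 (iv0 F428368)) (tt N63854 F428352) (tt N90231 F428353) (tt N82526 F428356) (tt N63427 (iv5 D203448)) (tt N81352 F428354) (tt N63857 F428355))
theorem Q100308 : ∀ i, i < 100308 → P i := stepQ 100307 Q100307 (allL N100307 (tt N100308 (iv1 F428369)) (tt N77615 F428361) (tt N63857 F428358) (tt N103109 F440114) (tt N81685 F428359) (tt N63428 (iv5 D203449)) (tt N81684 F428362) (tt N63854 F428360))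
theorem Q100309 : ∀ i, i < 100309 → P i := stepQ 100308 Q100308 (allL N100308 (tt N100306 F428368) (tt N100307 F428369) (tt N63862 F428363) (tt N80943 F428364) (tt N63432 (iv4 D203450)) (tt N66959 F428365) (tt N77620 F428366) (tt N63866 F428367))
theorem Q100310 : ∀ i, i < 100310 → P i := stepQ 100309 Q100309 (allL N100309 (tt N79387 F428374) (tt N79418 F428375) (tt N79405 F428370) (tt N80755 F428371) (tt N110826 (iv4 F473323)) (tt N63437 (iv5 D203451)) (tt N63535 F428372) (tt N79413 F428373))
theorem Q100311 : ∀ i, i < 100311 → P i := stepQ 100310 Q100310 (allL N100310 (tt N110907 (iv1 F473731)) (tt N64229 F428379) (tt N102258 (iv2 F436410)) (tt N80715 F428376) (tt N115684 (iv4 F496297)) (tt N63438 (iv5 D203452)) (tt N95637 F428377) (tt N79399 F428378))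
theorem Q100312 : ∀ i, i < 100312 → P i := stepQ 100311 Q100311 (allL N100311 (tt N105806 (iv1 F451810)) (tt N75652 (iv0 F428384)) (tt N68395 F428380) (tt N64502 F428381) (tt N70451 F428382) (tt N105818 (iv5 F451866)) (tt N63446 (iv6 D203453)) (tt N70450 (iv7 F428383)))
theorem Q100313 : ∀ i, i < 100313 → P i := stepQ 100312 Q100312 (allL N100312 (tt N63447 (iv1 D203454)) (tt N68398 F428385) (tt N64648 (iv2 F428387)) (tt N116300 (iv3 F499440)) (tt N105023 (iv4 F448432)) (tt N100938 (iv5 F431032)) (tt N64633 (iv6 F428388)) (tt N68396 F428386))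
theorem Q100314 : ∀ i, i < 100314 → P i := stepQ 100313 Q100313 (allL N100313 (tt N68283 (iv1 F428391)) (tt N63449 (iv0 D203455)) (tt N68280 (iv2 F431274)) (tt N99434 F428390) (tt N68565 F428389) (tt N117053 (iv5 F503139)) (tt N64370 (iv6 F428392)) (tt N68281 (iv7 F431276)))
theorem Q100315 : ∀ i, i < 100315 → P i := stepQ 100314 Q100314 (allL N100314 (tt N63449 (iv1 D203456)) (tt N68283 F428393) (tt N68281 F431277) (tt N114961 (iv3 F492776)) (tt N94167 F428394) (tt N114960 (iv5 F492774)) (tt N100615 (iv6 F431278)) (tt N68280 F431275))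
theorem Q100316 : ∀ i, i < 100316 → P i := stepQ 100315 Q100315 (allL N100315 (tt N99788 F428400) (tt N99857 (iv0 F428401)) (tt N68286 F428395) (tt N63849 F428396) (tt N69967 F428399) (tt N63450 (iv5 D203457)) (tt N69966 F428397) (tt N68288 F428398))
theorem Q100317 : ∀ i, i < 100317 → P i := stepQ 100316 Q100316 (allL N100316 (tt N87922 F428405) (tt N76535 (iv0 F428406)) (tt N68289 F428402) (tt N107172 (iv3 F457321)) (tt N109511 (iv4 F467312)) (tt N78132 F428403) (tt N63451 (iv6 D203458)) (tt N99341 F428404))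
theorem Q100318 : ∀ i, i < 100318 → P i := stepQ 100317 Q100317 (allL N100317 (tt N105965 F452547) (tt N116778 (iv0 F501784)) (tt N104229 (iv2 F444814)) (tt N109070 (iv3 F465209)) (tt N105918 (iv4 F452343)) (tt N116322 (iv5 F499554)) (tt N63455 (iv6 D203459)) (tt N105917 F452340))
theorem Q100319 : ∀ i, i < 100319 → P i := stepQ 100318 Q100318 (allL N100318 (tt N107314 F457930) (tt N106327 (iv0 F454043)) (tt N78325 F428407) (tt N95980 F428408) (tt N63469 F428409) (tt N99398 F428410) (tt N63456 (iv6 D203460)) (tt N63468 F428411))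
theorem Q100320 : ∀ i, i < 100320 → P i := stepQ 100319 Q100319 (allL N100319 (tt N63464 (iv1 F428413)) (tt N63462 (iv0 D203461)) (tt N107367 (iv2 F458121)) (tt N85301 (iv3 F428414)) (tt N119022 (iv4 F513331)) (tt N100289 F428412) (tt N109891 (iv6 F469096)) (tt N107366 F458116))
theorem Q100321 : ∀ i, i < 100321 → P i := stepQ 100320 Q100320 (allL N100320 (tt N63462 (iv1 D203462)) (tt N63464 F428415) (tt N107366 F458115) (tt N103023 F451191) (tt N107433 (iv4 F458326)) (tt N109010 (iv5 F464905)) (tt N105672 (iv6 F451189)) (tt N107367 (iv7 F458118)))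
theorem Q100322 : ∀ i, i < 100322 → P i := stepQ 100321 Q100321 (allL N100321 (tt N99802 F428417) (tt N85544 (iv0 F428421)) (tt N109047 F465094) (tt N63464 F428416) (tt N118453 (iv4 F510447)) (tt N63463 (iv5 D203463)) (tt N114427 (iv6 F490099)) (tt N108812 (iv7 F464074)))
theorem Q100323 : ∀ i, i < 100323 → P i := stepQ 100322 Q100322 (allL N100322 (tt N83839 F428420) (tt N83843 (iv0 F428419)) (tt N109361 (iv2 F466570)) (tt N63465 F428418) (tt N114008 (iv4 F488173)) (tt N105866 (iv5 F452077)) (tt N63463 (iv6 D203464)) (tt N109016 (iv7 F464942)))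
theorem Q100324 : ∀ i, i < 100324 → P i := stepQ 100323 Q100323 (allL N100323 (tt N70634 F428424) (tt N70636 (iv0 F428425)) (tt N104844 (iv2 F447566)) (tt N114427 (iv3 F490097)) (tt N107361 (iv4 F458096)) (tt N68175 F428422) (tt N63464 (iv6 D203465)) (tt N85353 F428423))
theorem Q100325 : ∀ i, i < 100325 → P i := stepQ 100324 Q100324 (allL N100324 (tt N66860 F428427) (tt N107918 (iv0 F460284)) (tt N109362 F466580) (tt N63467 (iv3 D203466)) (tt N100197 (iv4 F428428)) (tt N74886 F428429) (tt N74960 (iv6 F428430)) (tt N100196 F428426))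
theorem Q100326 : ∀ i, i < 100326 → P i := stepQ 100325 Q100325 (allL N100325 (tt N108339 (iv1 F462145)) (tt N108338 (iv0 F462138)) (tt N79922 F428431) (tt N74886 F428432) (tt N67096 F428433) (tt N63467 (iv5 D203467)) (tt N67095 F428434) (tt N108039 (iv7 F460845)))
theorem Q100327 : ∀ i, i < 100327 → P i := stepQ 100326 Q100326 (allL N100326 (tt N76623 (iv1 F428441)) (tt N76624 (iv0 F428440)) (tt N98583 F428435) (tt N74960 F428436) (tt N75650 F428437) (tt N98151 F428438) (tt N63467 (iv6 D203468)) (tt N98150 F428439))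
theorem Q100328 : ∀ i, i < 100328 → P i := stepQ 100327 Q100327 (allL N100327 (tt N109642 (iv1 F467893)) (tt N107365 (iv0 F458111)) (tt N116512 (iv2 F500542)) (tt N113852 (iv3 F487455)) (tt N63471 F428442) (tt N113850 (iv5 F487445)) (tt N63470 (iv6 D203469)) (tt N120061 (iv7 F518839)))
theorem Q100329 : ∀ i, i < 100329 → P i := stepQ 100328 Q100328 (allL N100328 (tt N115054 F493255) (tt N63471 (iv0 D203470)) (tt N105670 (iv2 F451176)) (tt N78878 (iv3 F432785)) (tt N106421 (iv4 F454358)) (tt N70629 F432784) (tt N106419 (iv6 F454347)) (tt N105672 (iv7 F451187)))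
theorem Q100330 : ∀ i, i < 100330 → P i := stepQ 100329 Q100329 (allL N100329 (tt N63471 (iv1 D203471)) (tt N115054 (iv0 F493254)) (tt N105672 (iv2 F451185)) (tt N104075 (iv3 F444048)) (tt N107816 (iv4 F459825)) (tt N70630 (iv5 F428443)) (tt N107366 (iv6 F458113)) (tt N105670 (iv7 F451177)))
theorem Q100331 : ∀ i, i < 100331 → P i := stepQ 100330 Q100330 (allL N100330 (tt N105672 F451190) (tt N105670 (iv0 F451179)) (tt N115054 (iv2 F493249)) (tt N114339 F489695) (tt N120061 (iv4 F518840)) (tt N75069 F428444) (tt N76627 F428445) (tt N63471 (iv7 D203472)))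
theorem Q100332 : ∀ i, i < 100332 → P i := stepQ 100331 Q100331 (allL N100331 (tt N116924 F502523) (tt N88877 (iv0 F428450)) (tt N98393 F428446) (tt N69908 F428447) (tt N63473 F428448) (tt N70286 F428449) (tt N63472 (iv6 D203473)) (tt N114624 (iv7 F491061)))
theorem Q100333 : ∀ i, i < 100333 → P i := stepQ 100332 Q100332 (allL N100332 (tt N114305 F489505) (tt N63473 (iv0 D203474)) (tt N98585 (iv2 F428452)) (tt N114303 F489494) (tt N107091 (iv4 F456926)) (tt N109858 (iv5 F468952)) (tt N76624 F428451) (tt N105805 (iv7 F451807)))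
theorem Q100334 : ∀ i, i < 100334 → P i := stepQ 100333 Q100333 (allL N100333 (tt N63473 (iv1 D203475)) (tt N114305 (iv0 F489504)) (tt N105805 (iv2 F451804)) (tt N98588 (iv3 F428455)) (tt N106090 (iv4 F453068)) (tt N105888 (iv5 F452195)) (tt N70449 (iv6 F428454)) (tt N98585 F428453))
theorem Q100335 : ∀ i, i < 100335 → P i := stepQ 100334 Q100334 (allL N100334 (tt N108637 (iv1 F463314)) (tt N88111 F428460) (tt N98394 F428456) (tt N84194 F428457) (tt N63497 F428458) (tt N63474 (iv5 D203476)) (tt N84192 (iv6 F428461)) (tt N98392 F428459))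
theorem Q100336 : ∀ i, i < 100336 → P i := stepQ 100335 Q100335 (allL N100335 (tt N75820 (iv1 F428466)) (tt N107142 (iv0 F457178)) (tt N75924 F428462) (tt N76756 F428463) (tt N63481 F428464) (tt N66929 F428465) (tt N63479 (iv6 D203477)) (tt N112666 (iv7 F482084)))
theorem Q100337 : ∀ i, i < 100337 → P i := stepQ 100336 Q100336 (allL N100336 (tt N105712 (iv1 F451374)) (tt N109235 (iv0 F465912)) (tt N112380 (iv2 F480819)) (tt N63483 F428467) (tt N64618 F428469) (tt N63482 (iv5 D203478)) (tt N81002 F428470) (tt N80047 F428468))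
theorem Q100338 : ∀ i, i < 100338 → P i := stepQ 100337 Q100337 (allL N100337 (tt N105725 (iv1 F451432)) (tt N105722 (iv0 F451415)) (tt N105723 F451419) (tt N63484 F428471) (tt N100073 F428472) (tt N100420 (iv5 F428889)) (tt N63482 (iv6 D203479)) (tt N105724 (iv7 F451423)))
theorem Q100339 : ∀ i, i < 100339 → P i := stepQ 100338 Q100338 (allL N100338 (tt N96565 F428477) (tt N80161 F428478) (tt N80049 F428473) (tt N94928 F428479) (tt N63483 (iv4 D203480)) (tt N84134 F428474) (tt N68547 F428475) (tt N80048 F428476))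
theorem Q100340 : ∀ i, i < 100340 → P i := stepQ 100339 Q100339 (allL N100339 (tt N78375 F428484) (tt N80187 F428485) (tt N74826 F428480) (tt N96980 F428481) (tt N114005 (iv4 F488160)) (tt N63485 (iv5 D203481)) (tt N75211 F428482) (tt N80186 F428483))
theorem Q100341 : ∀ i, i < 100341 → P i := stepQ 100340 Q100340 (allL N100340 (tt N104262 F445006) (tt N78546 (iv0 F428489)) (tt N78569 F428486) (tt N63488 F428487) (tt N77081 F428488) (tt N100408 (iv5 F428841)) (tt N63486 (iv6 D203482)) (tt N104261 (iv7 F444997)))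
theorem Q100342 : ∀ i, i < 100342 → P i := stepQ 100341 Q100341 (allL N100341 (tt N102848 (iv1 F438926)) (tt N68551 (iv0 F428494)) (tt N76880 F428490) (tt N112288 (iv3 F480373)) (tt N80189 F428491) (tt N97375 F428492) (tt N63487 (iv6 D203483)) (tt N80987 F428493))
theorem Q100343 : ∀ i, i < 100343 → P i := stepQ 100342 Q100342 (allL N100342 (tt N75638 (iv1 F428499)) (tt N63488 (iv0 D203484)) (tt N63623 (iv2 F428498)) (tt N102646 (iv3 F438028)) (tt N66712 F428496) (tt N63514 F428495) (tt N76520 F428497) (tt N63624 F428500))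
theorem Q100344 : ∀ i, i < 100344 → P i := stepQ 100343 Q100343 (allL N100343 (tt N68114 F428506) (tt N101754 (iv0 F434196)) (tt N75901 F428501) (tt N63490 (iv3 D203485)) (tt N76795 (iv4 F428504)) (tt N75852 F428502) (tt N74097 F443608) (tt N75910 F428503))
theorem Q100345 : ∀ i, i < 100345 → P i := stepQ 100344 Q100344 (allL N100344 (tt N80382 F428512) (tt N75816 F428513) (tt N89194 F428507) (tt N76796 F428508) (tt N63490 (iv4 D203486)) (tt N82098 F428509) (tt N73105 F428510) (tt N89193 F428511))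
theorem Q100346 : ∀ i, i < 100346 → P i := stepQ 100345 Q100345 (allL N100345 (tt N118880 (iv1 F512554)) (tt N95365 (iv0 F428518)) (tt N116120 (iv2 F498575)) (tt N81831 F428514) (tt N63493 F428515) (tt N95369 F428516) (tt N63492 (iv6 D203487)) (tt N63500 F428517))
theorem Q100347 : ∀ i, i < 100347 → P i := stepQ 100346 Q100346 (allL N100346 (tt N74204 (iv1 F428524)) (tt N74051 F428523) (tt N63495 (iv2 D203488)) (tt N83156 F428519) (tt N76839 F428520) (tt N114178 (iv5 F488859)) (tt N99236 F428521) (tt N74088 F428522))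
theorem Q100348 : ∀ i, i < 100348 → P i := stepQ 100347 Q100347 (allL N100347 (tt N88342 F428528) (tt N87947 (iv0 F428529)) (tt N114178 (iv2 F488855)) (tt N63497 F428525) (tt N83149 F428527) (tt N63495 (iv5 D203489)) (tt N112070 (iv6 F479347)) (tt N87103 F428526))
theorem Q100349 : ∀ i, i < 100349 → P i := stepQ 100348 Q100348 (allL N100348 (tt N116120 (iv1 F498580)) (tt N63500 (iv0 D203490)) (tt N95365 (iv2 F428531)) (tt N99227 (iv3 F428532)) (tt N109568 (iv4 F467566)) (tt N118881 (iv5 F512558)) (tt N82129 F428530) (tt N118880 (iv7 F512552)))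
theorem Q100350 : ∀ i, i < 100350 → P i := stepQ 100349 Q100349 (allL N100349 (tt N63500 (iv1 D203491)) (tt N116120 (iv0 F498579)) (tt N118880 (iv2 F512548)) (tt N95371 (iv3 F428537)) (tt N100118 (iv4 F428534)) (tt N108248 (iv5 F461677)) (tt N74332 F428535) (tt N95365 F428533))
theorem Q100351 : ∀ i, i < 100351 → P i := stepQ 100350 Q100350 (allL N100350 (tt N102728 (iv1 F438386)) (tt N81477 (iv0 F428540)) (tt N80640 F428538) (tt N112478 (iv3 F481251)) (tt N112802 (iv4 F482680)) (tt N63503 (iv5 D203492)) (tt N109141 (iv6 F465535)) (tt N80637 F428539))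
theorem Q100352 : ∀ i, i < 100352 → P i := stepQ 100351 Q100351 (allL N100351 (tt N80644 F428546) (tt N63504 (iv0 D203493)) (tt N80641 (iv2 F428543)) (tt N91269 F428541) (tt N73329 (iv4 F428544)) (tt N104262 (iv5 F445004)) (tt N73328 F428542) (tt N80642 (iv7 F428545)))
theorem Q100353 : ∀ i, i < 100353 → P i := stepQ 100352 Q100352 (allL N100352 (tt N63504 (iv1 D203494)) (tt N80644 F428547) (tt N80642 F428550) (tt N102770 (iv3 F447320)) (tt N92314 (iv4 F447322)) (tt N78546 (iv5 F428549)) (tt N92312 F447321) (tt N80641 F428548))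
theorem Q100354 : ∀ i, i < 100354 → P i := stepQ 100353 Q100353 (allL N100353 (tt N120204 D223463) (tt N105730 (iv0 F451450)) (tt N80643 F428551) (tt N119693 (iv3 F516954)) (tt N63504 (iv4 D203495)) (tt N98847 (iv5 F428553)) (tt N90464 F428552) (tt N118595 (iv7 F511073)))
theorem Q100355 : ∀ i, i < 100355 → P i := stepQ 100354 Q100354 (allL N100354 (tt N80642 (iv1 F428557)) (tt N80641 F428558) (tt N80644 F428554) (tt N63516 F428555) (tt N118595 (iv4 F511072)) (tt N63505 F428556) (tt N118432 F510326) (tt N63504 (iv7 D203496)))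
theorem Q100356 : ∀ i, i < 100356 → P i := stepQ 100355 Q100355 (allL N100355 (tt N63507 (iv1 D203497)) (tt N63608 F428559) (tt N63606 (iv2 F428562)) (tt N101211 (iv3 F432218)) (tt N78037 (iv4 F428563)) (tt N68552 F428561) (tt N95779 (iv6 F428564)) (tt N63605 F428560))
theorem Q100357 : ∀ i, i < 100357 → P i := stepQ 100356 Q100356 (allL N100356 (tt N63606 (iv1 F428568)) (tt N63605 F428569) (tt N63608 F428565) (tt N76738 F428566) (tt N119692 (iv4 F516947)) (tt N63508 F428567) (tt N94086 F428570) (tt N63507 (iv7 D203498)))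
theorem Q100358 : ∀ i, i < 100358 → P i := stepQ 100357 Q100357 (allL N100357 (tt N80943 (iv1 F428577)) (tt N80942 (iv0 F428576)) (tt N79509 F428571) (tt N63511 F428572) (tt N67046 F428573) (tt N100304 F428574) (tt N63509 (iv6 D203499)) (tt N77594 F428575))
theorem Q100359 : ∀ i, i < 100359 → P i := stepQ 100358 Q100358 (allL N100358 (tt N63510 (iv1 D203500)) (tt N63513 F428578) (tt N63614 F428581) (tt N102728 (iv3 F438383)) (tt N110666 (iv4 F472677)) (tt N99954 (iv5 F428580)) (tt N102712 (iv6 F438316)) (tt N63613 F428579))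
theorem Q100360 : ∀ i, i < 100360 → P i := stepQ 100359 Q100359 (allL N100359 (tt N100421 (iv1 F428899)) (tt N100422 (iv0 F428905)) (tt N63615 F428582) (tt N77886 F428583) (tt N63510 (iv4 D203501)) (tt N90827 F428585) (tt N98881 (iv6 F428586)) (tt N63621 F428584))
theorem Q100361 : ∀ i, i < 100361 → P i := stepQ 100360 Q100360 (allL N100360 (tt N102639 F437999) (tt N102710 F438311) (tt N63616 F428587) (tt N71358 F428588) (tt N98881 F428589) (tt N100144 F428590) (tt N63510 (iv6 D203502)) (tt N94039 F428591))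
theorem Q100362 : ∀ i, i < 100362 → P i := stepQ 100361 Q100361 (allL N100361 (tt N67039 F428599) (tt N67038 F428598) (tt N63620 F428593) (tt N67052 F428594) (tt N77631 F428597) (tt N63512 (iv5 D203503)) (tt N74785 F428595) (tt N63611 F428596))
theorem Q100363 : ∀ i, i < 100363 → P i := stepQ 100362 Q100362 (allL N100362 (tt N94088 (iv1 F428828)) (tt N94082 (iv0 F428603)) (tt N63626 F428600) (tt N118432 F510325) (tt N106684 F455277) (tt N75298 F428601) (tt N63516 (iv6 D203504)) (tt N94086 F428602))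
theorem Q100364 : ∀ i, i < 100364 → P i := stepQ 100363 Q100363 (allL N100363 (tt N63524 (iv1 F428607)) (tt N63519 (iv0 D203505)) (tt N63637 (iv2 F428606)) (tt N81542 (iv3 F428609)) (tt N99260 (iv4 F428610)) (tt N99956 F428604) (tt N95760 F428605) (tt N63638 F428608))
theorem Q100365 : ∀ i, i < 100365 → P i := stepQ 100364 Q100364 (allL N100364 (tt N99036 F428615) (tt N110666 F472681) (tt N63639 F428613) (tt N110673 F472708) (tt N63519 (iv4 D203506)) (tt N119886 (iv5 F517871)) (tt N112184 (iv6 F479948)) (tt N63657 F428614))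
theorem Q100366 : ∀ i, i < 100366 → P i := stepQ 100365 Q100365 (allL N100365 (tt N113484 F485713) (tt N108800 (iv0 F464009)) (tt N63649 F428616) (tt N76958 F428617) (tt N119885 (iv4 F517863)) (tt N63521 (iv5 D203507)) (tt N64590 F428618) (tt N63661 F428619))
theorem Q100367 : ∀ i, i < 100367 → P i := stepQ 100366 Q100366 (allL N100366 (tt N110666 F472680) (tt N99036 F428624) (tt N63657 F428620) (tt N76595 F428621) (tt N63524 (iv4 D203508)) (tt N119885 (iv5 F517862)) (tt N82080 F428622) (tt N63639 F428623))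
theorem Q100368 : ∀ i, i < 100368 → P i := stepQ 100367 Q100367 (allL N100367 (tt N108800 (iv1 F464010)) (tt N113484 (iv0 F485712)) (tt N63661 F428625) (tt N109205 (iv3 F465782)) (tt N119886 (iv4 F517872)) (tt N63526 (iv5 D203509)) (tt N113481 F485693) (tt N63649 F428626))
theorem Q100369 : ∀ i, i < 100369 → P i := stepQ 100368 Q100368 (allL N100368 (tt N80102 F428629) (tt N108384 (iv0 F462353)) (tt N79123 F428627) (tt N101027 (iv3 F431350)) (tt N120182 (iv4 F519473)) (tt N63531 (iv5 D203510)) (tt N88830 F428628) (tt N108417 (iv7 F462486)))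
theorem Q100370 : ∀ i, i < 100370 → P i := stepQ 100369 Q100369 (allL N100369 (tt N63534 (iv1 D203511)) (tt N78215 F428630) (tt N63837 F428636) (tt N64224 (iv3 F428634)) (tt N78011 F428633) (tt N63836 F428632) (tt N78331 (iv6 F428635)) (tt N78211 F428631))
theorem Q100371 : ∀ i, i < 100371 → P i := stepQ 100370 Q100370 (allL N100370 (tt N63539 (iv1 F428640)) (tt N63537 (iv0 D203512)) (tt N82049 (iv2 F428639)) (tt N81102 F428643) (tt N94971 F428638) (tt N63865 F428637) (tt N88461 (iv6 F428642)) (tt N78218 F428641))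
theorem Q100372 : ∀ i, i < 100372 → P i := stepQ 100371 Q100371 (allL N100371 (tt N110506 (iv1 F471894)) (tt N110508 (iv0 F471902)) (tt N82050 F428644) (tt N107753 F459567) (tt N63537 (iv4 D203513)) (tt N112311 (iv5 F480486)) (tt N120205 D223464) (tt N82051 F428645))
theorem Q100373 : ∀ i, i < 100373 → P i := stepQ 100372 Q100372 (allL N100372 (tt N97062 F428649) (tt N65844 (iv0 F428650)) (tt N77448 F428646) (tt N98118 F428647) (tt N120205 (iv4 F519583)) (tt N77447 F428648) (tt N63537 (iv6 D203514)) (tt N103760 (iv7 F442710)))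
theorem Q100374 : ∀ i, i < 100374 → P i := stepQ 100373 Q100373 (allL N100373 (tt N110508 F471903) (tt N110506 (iv0 F471893)) (tt N82051 F428651) (tt N93259 F428652) (tt N63539 (iv4 D203515)) (tt N112312 (iv5 F480493)) (tt N93258 F428653) (tt N82050 F428654))
theorem Q100375 : ∀ i, i < 100375 → P i := stepQ 100374 Q100374 (allL N100374 (tt N80174 (iv1 F428660)) (tt N81246 F428661) (tt N82060 F428655) (tt N81695 F428656) (tt N63542 F428657) (tt N82067 F428658) (tt N94646 F428659) (tt N63541 (iv7 D203516)))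
theorem Q100376 : ∀ i, i < 100376 → P i := stepQ 100375 Q100375 (allL N100375 (tt N63545 (iv1 F428664)) (tt N63543 (iv0 D203517)) (tt N77568 (iv2 F428665)) (tt N94249 F428663) (tt N111704 (iv4 F477582)) (tt N63858 F428662) (tt N112039 (iv6 F479205)) (tt N77569 (iv7 F428666)))
theorem Q100377 : ∀ i, i < 100377 → P i := stepQ 100376 Q100376 (allL N100376 (tt N63543 (iv1 D203518)) (tt N63545 F428667) (tt N77569 F428671) (tt N101819 (iv3 F434497)) (tt N111855 (iv4 F478321)) (tt N81348 F428669) (tt N81350 (iv6 F428670)) (tt N77568 F428668))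
theorem Q100378 : ∀ i, i < 100378 → P i := stepQ 100377 Q100377 (allL N100377 (tt N119541 F516153) (tt N117695 (iv0 F506468)) (tt N77571 F428672) (tt N66297 F428673) (tt N72948 F428674) (tt N100665 (iv5 F429910)) (tt N63543 (iv6 D203519)) (tt N66294 F428675))
theorem Q100379 : ∀ i, i < 100379 → P i := stepQ 100378 Q100378 (allL N100378 (tt N95103 (iv1 F428681)) (tt N97104 F428680) (tt N80121 F428676) (tt N63550 F428677) (tt N77916 F428679) (tt N63549 (iv5 D203520)) (tt N106223 (iv6 F453633)) (tt N95286 F428678))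
theorem Q100380 : ∀ i, i < 100380 → P i := stepQ 100379 Q100379 (allL N100379 (tt N80118 F428686) (tt N63550 (iv0 D203521)) (tt N82065 (iv2 F428684)) (tt N79770 F428683) (tt N112312 (iv4 F480494)) (tt N99602 F428682) (tt N79768 (iv6 F428685)) (tt N82066 (iv7 F428687)))
theorem Q100381 : ∀ i, i < 100381 → P i := stepQ 100380 Q100380 (allL N100380 (tt N63550 (iv1 D203522)) (tt N80118 F428688) (tt N82066 (iv2 F428698)) (tt N80116 (iv3 F428691)) (tt N112311 (iv4 F480487)) (tt N99603 F428690) (tt N81797 F428697) (tt N82065 F428689))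
theorem Q100382 : ∀ i, i < 100382 → P i := stepQ 100381 Q100381 (allL N100381 (tt N82066 (iv1 F428703)) (tt N82065 F428704) (tt N80118 F428699) (tt N95286 F428700) (tt N82059 F428701) (tt N63551 F428702) (tt N82134 (iv6 F428705)) (tt N63550 (iv7 D203523)))
theorem Q100383 : ∀ i, i < 100383 → P i := stepQ 100382 Q100382 (allL N100382 (tt N75435 F428711) (tt N75370 F428712) (tt N75436 F428706) (tt N67925 F428707) (tt N75766 F428708) (tt N63570 (iv5 D203524)) (tt N75441 F428709) (tt N75306 F428710))
theorem Q100384 : ∀ i, i < 100384 → P i := stepQ 100383 Q100383 (allL N100383 (tt N66929 (iv1 F428718)) (tt N66928 F428719) (tt N66931 F428713) (tt N75957 F428714) (tt N77577 F428715) (tt N63574 F428716) (tt N75887 F428717) (tt N63573 (iv7 D203525)))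
theorem Q100385 : ∀ i, i < 100385 → P i := stepQ 100384 Q100384 (allL N100384 (tt N106439 (iv1 F454445)) (tt N100398 (iv0 F428798)) (tt N66370 F428720) (tt N79426 F428721) (tt N73069 F428723) (tt N63576 (iv5 D203526)) (tt N103950 (iv6 F443494)) (tt N68536 F428722))
theorem Q100386 : ∀ i, i < 100386 → P i := stepQ 100385 Q100385 (allL N100385 (tt N68519 (iv1 F428730)) (tt N68516 (iv0 F428729)) (tt N68534 F428724) (tt N80320 F428725) (tt N76481 F428726) (tt N88525 F428728) (tt N63576 (iv6 D203527)) (tt N68491 F428727))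
theorem Q100387 : ∀ i, i < 100387 → P i := stepQ 100386 Q100386 (allL N100386 (tt N81276 (iv1 F428735)) (tt N63577 (iv0 D203528)) (tt N81239 (iv2 F428732)) (tt N92601 (iv3 F428733)) (tt N107887 (iv4 F460128)) (tt N90457 F428731) (tt N102644 (iv6 F438020)) (tt N81274 (iv7 F428734)))
theorem Q100388 : ∀ i, i < 100388 → P i := stepQ 100387 Q100387 (allL N100387 (tt N63577 (iv1 D203529)) (tt N81276 F428736) (tt N81274 (iv2 F428739)) (tt N80831 (iv3 F428740)) (tt N111909 (iv4 F478594)) (tt N81305 F428738) (tt N120206 D223465) (tt N81239 F428737))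
theorem Q100389 : ∀ i, i < 100389 → P i := stepQ 100388 Q100388 (allL N100388 (tt N81274 (iv1 F428745)) (tt N81239 F428746) (tt N81276 F428741) (tt N103153 (iv3 F440323)) (tt N74633 F428742) (tt N63578 F428743) (tt N97078 F428744) (tt N63577 (iv7 D203530)))
theorem Q100390 : ∀ i, i < 100390 → P i := stepQ 100389 Q100389 (allL N100389 (tt N67810 F428752) (tt N67804 (iv0 F428753)) (tt N80834 F428747) (tt N63579 (iv3 D203531)) (tt N94569 F428748) (tt N94073 F428749) (tt N92378 F428750) (tt N80854 F428751))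
theorem Q100391 : ∀ i, i < 100391 → P i := stepQ 100390 Q100390 (allL N100390 (tt N102773 F438583) (tt N102785 F438644) (tt N81278 F428754) (tt N80835 F428755) (tt N99491 F428756) (tt N95825 F428757) (tt N63580 (iv6 D203532)) (tt N102786 (iv7 F438649)))
theorem Q100392 : ∀ i, i < 100392 → P i := stepQ 100391 Q100391 (allL N100391 (tt N81279 (iv1 F428760)) (tt N77740 F428761) (tt N81282 F428758) (tt N108127 (iv3 F461222)) (tt N63582 F428759) (tt N101720 (iv5 F434025)) (tt N108126 F461221) (tt N63581 (iv7 D203533)))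
theorem Q100393 : ∀ i, i < 100393 → P i := stepQ 100392 Q100392 (allL N100392 (tt N80635 F428766) (tt N112074 (iv0 F479373)) (tt N80021 F428762) (tt N63584 F428763) (tt N63833 F428764) (tt N102644 (iv5 F438019)) (tt N63583 (iv6 D203534)) (tt N63831 F428765))
theorem Q100394 : ∀ i, i < 100394 → P i := stepQ 100393 Q100393 (allL N100393 (tt N80239 F428771) (tt N94027 F428772) (tt N81201 F428767) (tt N99611 F428768) (tt N96165 F428770) (tt N63587 (iv5 D203535)) (tt N80232 F428769) (tt N100708 (iv7 F430118)))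
theorem Q100395 : ∀ i, i < 100395 → P i := stepQ 100394 Q100394 (allL N100394 (tt N108729 (iv1 F463732)) (tt N116030 (iv0 F498138)) (tt N81304 F428775) (tt N75408 F428776) (tt N75900 F428778) (tt N63595 (iv5 D203536)) (tt N75405 F428779) (tt N81306 F428777))
theorem Q100396 : ∀ i, i < 100396 → P i := stepQ 100395 Q100395 (allL N100395 (tt N116030 F498139) (tt N108729 (iv0 F463731)) (tt N81306 F428780) (tt N78574 F428781) (tt N111858 (iv4 F478339)) (tt N63596 (iv5 D203537)) (tt N63824 F428782) (tt N81304 F428783))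
theorem Q100397 : ∀ i, i < 100397 → P i := stepQ 100396 Q100396 (allL N100396 (tt N63600 (iv1 D203538)) (tt N77021 F428784) (tt N77010 F428788) (tt N75512 F428789) (tt N108695 (iv4 F463589)) (tt N78313 F428786) (tt N76983 (iv6 F428787)) (tt N75508 F428785))
theorem Q100398 : ∀ i, i < 100398 → P i := stepQ 100397 Q100397 (allL N100397 (tt N63603 (iv1 D203539)) (tt N68473 F428790) (tt N104220 (iv2 F444768)) (tt N80323 (iv3 F428793)) (tt N76451 F428792) (tt N96997 F428795) (tt N81319 (iv6 F428794)) (tt N74524 F428791))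
theorem Q100399 : ∀ i, i < 100399 → P i := stepQ 100398 Q100398 (allL N100398 (tt N100384 F428798) (tt N71612 F428799) (tt N102766 (iv2 F438552)) (tt N90463 F428796) (tt N115063 (iv4 F493304)) (tt N63604 (iv5 D203540)) (tt N102722 (iv6 F438360)) (tt N90465 F428797))
theorem Q100400 : ∀ i, i < 100400 → P i := stepQ 100399 Q100399 (allL N100399 (tt N111534 (iv1 F476793)) (tt N99186 F428803) (tt N78035 F428800) (tt N110303 (iv3 F470936)) (tt N63605 (iv4 D203541)) (tt N77854 F428802) (tt N99175 (iv6 F428804)) (tt N78037 F428801))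
theorem Q100401 : ∀ i, i < 100401 → P i := stepQ 100400 Q100400 (allL N100400 (tt N99180 F428809) (tt N81801 (iv0 F428810)) (tt N94110 F428805) (tt N79527 F428806) (tt N99175 F428807) (tt N68551 F428808) (tt N63605 (iv6 D203542)) (tt N102774 (iv7 F438589)))
theorem Q100402 : ∀ i, i < 100402 → P i := stepQ 100401 Q100401 (allL N100401 (tt N99186 F428816) (tt N111534 (iv0 F476792)) (tt N78037 F428811) (tt N99148 F428812) (tt N63606 (iv4 D203543)) (tt N77855 F428815) (tt N72654 F428813) (tt N78035 F428814))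
theorem Q100403 : ∀ i, i < 100403 → P i := stepQ 100402 Q100402 (allL N100402 (tt N63607 (iv1 D203544)) (tt N119692 F516951) (tt N79419 F428818) (tt N119837 (iv3 F517621)) (tt N79418 (iv4 F428817)) (tt N110664 (iv5 F472664)) (tt N82044 F428819) (tt N119334 (iv7 F515081)))
theorem Q100404 : ∀ i, i < 100404 → P i := stepQ 100403 Q100403 (allL N100403 (tt N110833 F473358) (tt N119261 F514688) (tt N119260 F514683) (tt N107503 F458555) (tt N108049 F460881) (tt N63607 (iv5 D203545)) (tt N116499 (iv6 F500462)) (tt N106689 (iv7 F462675)))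
theorem Q100405 : ∀ i, i < 100405 → P i := stepQ 100404 Q100404 (allL N100404 (tt N79419 (iv1 F428821)) (tt N119334 (iv0 F515082)) (tt N119692 F516950) (tt N117293 (iv3 F504321)) (tt N63608 F428820) (tt N106689 F462677) (tt N110918 F473788) (tt N63607 (iv7 D203546)))
theorem Q100406 : ∀ i, i < 100406 → P i := stepQ 100405 Q100405 (allL N100405 (tt N94082 F428826) (tt N94088 F428827) (tt N94086 F428822) (tt N81413 F428823) (tt N110918 (iv4 F473786)) (tt N75299 F428824) (tt N63608 (iv6 D203547)) (tt N63626 F428825))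
theorem Q100407 : ∀ i, i < 100407 → P i := stepQ 100406 Q100406 (allL N100406 (tt N94070 F428832) (tt N75445 (iv0 F428833)) (tt N94072 F428829) (tt N63616 F428830) (tt N107383 (iv4 F458163)) (tt N103110 (iv5 F440120)) (tt N63609 (iv6 D203548)) (tt N82171 F428831))
theorem Q100408 : ∀ i, i < 100408 → P i := stepQ 100407 Q100407 (allL N100407 (tt N63620 (iv1 F428838)) (tt N63611 (iv0 D203549)) (tt N67038 (iv2 F428837)) (tt N64779 F428836) (tt N64783 F428835) (tt N98379 F428834) (tt N105280 (iv6 F449536)) (tt N67039 F428839))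
theorem Q100409 : ∀ i, i < 100409 → P i := stepQ 100408 Q100408 (allL N100408 (tt N80640 F428843) (tt N80637 (iv0 F428842)) (tt N81477 F428840) (tt N63613 (iv3 D203550)) (tt N118492 (iv4 F510668)) (tt N100340 F428841) (tt N119376 (iv6 F515296)) (tt N102728 F438384))
theorem Q100410 : ∀ i, i < 100410 → P i := stepQ 100409 Q100409 (allL N100409 (tt N63657 F428846) (tt N63639 F428847) (tt N99036 F428844) (tt N110605 (iv3 F472355)) (tt N63613 (iv4 D203551)) (tt N99135 (iv5 F428848)) (tt N95799 F428845) (tt N110666 (iv7 F472676)))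
theorem Q100411 : ∀ i, i < 100411 → P i := stepQ 100410 Q100410 (allL N100410 (tt N63639 F428853) (tt N63657 F428854) (tt N110666 F472678) (tt N90311 F428849) (tt N63614 (iv4 D203552)) (tt N99134 F428852) (tt N76825 F428850) (tt N99036 F428851))
theorem Q100412 : ∀ i, i < 100412 → P i := stepQ 100411 Q100411 (allL N100411 (tt N63615 (iv1 D203553)) (tt N63621 F428855) (tt N100422 (iv2 F428900)) (tt N120207 D223466) (tt N77743 F428856) (tt N119706 (iv5 F517014)) (tt N77742 (iv6 F428857)) (tt N100421 (iv7 F428896)))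
theorem Q100413 : ∀ i, i < 100413 → P i := stepQ 100412 Q100412 (allL N100412 (tt N118478 (iv1 F510586)) (tt N116946 F502641) (tt N106908 (iv2 F456236)) (tt N63615 (iv3 D203554)) (tt N115062 (iv4 F493300)) (tt N106635 F455114) (tt N119867 F517776) (tt N78006 F428858))
theorem Q100414 : ∀ i, i < 100414 → P i := stepQ 100413 Q100413 (allL N100413 (tt N102665 F438132) (tt N81104 (iv0 F428861)) (tt N98881 F428859) (tt N119867 F517775) (tt N63616 F428860) (tt N109213 (iv5 F465804)) (tt N63615 (iv6 D203555)) (tt N118488 (iv7 F510644)))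
theorem Q100415 : ∀ i, i < 100415 → P i := stepQ 100414 Q100414 (allL N100414 (tt N63616 (iv1 D203556)) (tt N94039 F428862) (tt N102710 (iv2 F438307)) (tt N81484 F428863) (tt N98951 F428865) (tt N101196 (iv5 F432140)) (tt N98949 (iv6 F428864)) (tt N102639 (iv7 F437997)))
theorem Q100416 : ∀ i, i < 100416 → P i := stepQ 100415 Q100415 (allL N100415 (tt N69419 (iv1 F428872)) (tt N95781 (iv0 F428870)) (tt N100144 F428867) (tt N103110 (iv3 F440118)) (tt N68506 F428869) (tt N63616 (iv5 D203557)) (tt N63618 F428868) (tt N68503 (iv7 F428871)))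
theorem Q100417 : ∀ i, i < 100417 → P i := stepQ 100416 Q100416 (allL N100416 (tt N102710 (iv1 F438312)) (tt N102639 (iv0 F437998)) (tt N94039 F428873) (tt N82171 F428874) (tt N118488 (iv4 F510643)) (tt N68503 F428875) (tt N82169 F428876) (tt N63616 (iv7 D203558)))
theorem Q100418 : ∀ i, i < 100418 → P i := stepQ 100417 Q100417 (allL N100417 (tt N90691 (iv1 F455080)) (tt N71885 (iv0 F428877)) (tt N110672 F472702) (tt N116500 (iv3 F500468)) (tt N106624 (iv4 F455083)) (tt N116499 F500465) (tt N63625 (iv6 D203559)) (tt N106622 (iv7 F455078)))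
theorem Q100419 : ∀ i, i < 100419 → P i := stepQ 100418 Q100418 (allL N100418 (tt N94086 (iv1 F428880)) (tt N63626 (iv0 D203560)) (tt N94088 (iv2 F428879)) (tt N75431 F428878) (tt N119743 (iv4 F517201)) (tt N101295 F432574) (tt N86376 (iv6 F428882)) (tt N94082 F428881))
theorem Q100420 : ∀ i, i < 100420 → P i := stepQ 100419 Q100419 (allL N100419 (tt N90399 F428886) (tt N90398 (iv0 F428887)) (tt N90401 F428883) (tt N63635 F428884) (tt N112373 (iv4 F480782)) (tt N63634 (iv5 D203561)) (tt N111545 (iv6 F476845)) (tt N81091 F428885))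
theorem Q100421 : ∀ i, i < 100421 → P i := stepQ 100420 Q100420 (allL N100420 (tt N90397 (iv1 F428892)) (tt N79450 F428893) (tt N91338 F428888) (tt N63637 (iv3 D203562)) (tt N110186 (iv4 F470321)) (tt N100337 F428889) (tt N95802 F428890) (tt N91336 F428891))
theorem Q100422 : ∀ i, i < 100422 → P i := stepQ 100421 Q100421 (allL N100421 (tt N99273 F428898) (tt N100359 F428899) (tt N99260 F428894) (tt N118170 (iv3 F508986)) (tt N63637 (iv4 D203563)) (tt N99189 F428897) (tt N95803 F428895) (tt N100411 F428896))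
theorem Q100423 : ∀ i, i < 100423 → P i := stepQ 100422 Q100422 (allL N100422 (tt N100359 F428905) (tt N99273 (iv0 F428906)) (tt N100411 F428900) (tt N75932 F428901) (tt N63638 (iv4 D203564)) (tt N99190 F428904) (tt N91267 F428902) (tt N99260 F428903))
theorem Q100424 : ∀ i, i < 100424 → P i := stepQ 100423 Q100423 (allL N100423 (tt N102708 F438299) (tt N98951 (iv0 F428909)) (tt N112184 (iv2 F479946)) (tt N76792 F428907) (tt N63640 F428908) (tt N109207 (iv5 F465788)) (tt N63639 (iv6 D203565)) (tt N112185 (iv7 F479955)))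
theorem Q100425 : ∀ i, i < 100425 → P i := stepQ 100424 Q100424 (allL N100424 (tt N90847 F428913) (tt N88412 F428914) (tt N77632 F428910) (tt N110224 (iv3 F470511)) (tt N99134 F428912) (tt N63643 (iv5 D203566)) (tt N120208 D223467) (tt N90846 F428911))
theorem Q100426 : ∀ i, i < 100426 → P i := stepQ 100425 Q100425 (allL N100425 (tt N73710 F428918) (tt N73709 F428920) (tt N73377 F428915) (tt N109102 (iv3 F465351)) (tt N63644 F428916) (tt N99898 (iv5 F428919)) (tt N63643 (iv6 D203567)) (tt N73661 F428917))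
theorem Q100427 : ∀ i, i < 100427 → P i := stepQ 100426 Q100426 (allL N100426 (tt N79097 F428925) (tt N77662 (iv0 F428926)) (tt N79112 F428921) (tt N63645 (iv3 D203568)) (tt N63757 F428922) (tt N113455 (iv5 F485568)) (tt N73721 F428923) (tt N73380 F428924))
theorem Q100428 : ∀ i, i < 100428 → P i := stepQ 100427 Q100427 (allL N100427 (tt N88412 F428930) (tt N90847 F428931) (tt N90846 F428927) (tt N113455 F485569) (tt N99135 F428928) (tt N63645 (iv5 D203569)) (tt N105329 (iv6 F449736)) (tt N77632 F428929))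
theorem Q100429 : ∀ i, i < 100429 → P i := stepQ 100428 Q100428 (allL N100428 (tt N99870 F428935) (tt N99136 F428936) (tt N99952 F428932) (tt N100759 (iv3 F430330)) (tt N99190 F428934) (tt N63646 (iv5 D203570)) (tt N120165 (iv6 F519381)) (tt N99951 F428933))
theorem Q100430 : ∀ i, i < 100430 → P i := stepQ 100429 Q100429 (allL N100429 (tt N69978 (iv1 F428941)) (tt N69977 (iv0 F428940)) (tt N69979 F428937) (tt N100760 (iv3 F430337)) (tt N103142 (iv4 F440267)) (tt N99885 F428939) (tt N63646 (iv6 D203571)) (tt N69970 F428938))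
theorem Q100431 : ∀ i, i < 100431 → P i := stepQ 100430 Q100430 (allL N100430 (tt N99136 F428947) (tt N99870 (iv0 F428948)) (tt N99951 F428942) (tt N69995 F428943) (tt N99189 F428946) (tt N63647 (iv5 D203572)) (tt N69981 F428944) (tt N99952 F428945))
theorem Q100432 : ∀ i, i < 100432 → P i := stepQ 100431 Q100431 (allL N100431 (tt N113542 F485953) (tt N117384 F504771) (tt N109206 (iv2 F465784)) (tt N63649 F428949) (tt N112187 (iv4 F479958)) (tt N63648 (iv5 D203573)) (tt N75869 F428950) (tt N109205 (iv7 F465783)))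
theorem Q100433 : ∀ i, i < 100433 → P i := stepQ 100432 Q100432 (allL N100432 (tt N76148 (iv1 F428953)) (tt N63656 (iv0 D203574)) (tt N81538 (iv2 F428952)) (tt N66985 F428951) (tt N86260 F428956) (tt N67759 F428954) (tt N76156 (iv6 F428955)) (tt N102266 (iv7 F436457)))
theorem Q100434 : ∀ i, i < 100434 → P i := stepQ 100433 Q100433 (allL N100433 (tt N118632 (iv1 F511242)) (tt N78079 (iv0 F428957)) (tt N105156 (iv2 F449044)) (tt N118752 (iv3 F511891)) (tt N63656 (iv4 D203575)) (tt N108221 (iv5 F461547)) (tt N72634 F428958) (tt N116127 (iv7 F498618)))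
theorem Q100435 : ∀ i, i < 100435 → P i := stepQ 100434 Q100434 (allL N100434 (tt N78723 F428963) (tt N78720 (iv0 F428964)) (tt N65300 F428959) (tt N63658 F428960) (tt N72634 F428961) (tt N101831 (iv5 F434558)) (tt N63656 (iv6 D203576)) (tt N82139 F428962))
theorem Q100436 : ∀ i, i < 100436 → P i := stepQ 100435 Q100435 (allL N100435 (tt N71875 F428966) (tt N110674 F472716) (tt N76793 F428965) (tt N63657 (iv3 D203577)) (tt N118752 (iv4 F511892)) (tt N119889 (iv5 F517878)) (tt N110603 (iv6 F472348)) (tt N110673 (iv7 F472707)))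
theorem Q100437 : ∀ i, i < 100437 → P i := stepQ 100436 Q100436 (allL N100436 (tt N113371 (iv1 F485229)) (tt N86930 (iv0 F428970)) (tt N113370 F485220) (tt N63661 F428967) (tt N72072 F428969) (tt N63660 (iv5 D203578)) (tt N113214 F484517) (tt N76958 F428968))
theorem Q100438 : ∀ i, i < 100438 → P i := stepQ 100437 Q100437 (allL N100437 (tt N66999 (iv1 F428975)) (tt N66996 (iv0 F428976)) (tt N76956 F428971) (tt N63662 F428972) (tt N101237 (iv4 F432346)) (tt N83124 (iv5 F428974)) (tt N63660 (iv6 D203579)) (tt N65174 F428973))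
theorem Q100439 : ∀ i, i < 100439 → P i := stepQ 100438 Q100438 (allL N100438 (tt N90689 F428978) (tt N113482 F485699) (tt N113481 (iv2 F485694)) (tt N113214 (iv3 F484518)) (tt N119892 (iv4 F517892)) (tt N119539 (iv5 F516138)) (tt N63661 (iv6 D203580)) (tt N75875 F428977))
theorem Q100440 : ∀ i, i < 100440 → P i := stepQ 100439 Q100439 (allL N100439 (tt N120007 F518528) (tt N83089 (iv0 F428980)) (tt N108786 (iv2 F463925)) (tt N83124 F428979) (tt N116888 (iv4 F502360)) (tt N63662 (iv5 D203581)) (tt N119539 (iv6 F516136)) (tt N106427 F454384))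
theorem Q100441 : ∀ i, i < 100441 → P i := stepQ 100440 Q100440 (allL N100440 (tt N76677 (iv1 F428988)) (tt N63664 (iv0 D203582)) (tt N76720 F428983) (tt N109365 F466597) (tt N120209 D223468) (tt N113621 (iv5 F486338)) (tt N97812 F428981) (tt N76721 (iv7 F428982)))
theorem Q100442 : ∀ i, i < 100442 → P i := stepQ 100441 Q100441 (allL N100441 (tt N63664 (iv1 D203583)) (tt N76677 F428984) (tt N76721 F428987) (tt N111184 (iv3 F475129)) (tt N120210 D223469) (tt N104838 (iv5 F447539)) (tt N68329 (iv6 F428986)) (tt N76720 F428985))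
theorem Q100443 : ∀ i, i < 100443 → P i := stepQ 100442 Q100442 (allL N100442 (tt N76721 (iv1 F428991)) (tt N76720 F428992) (tt N76677 F428989) (tt N113640 F486448) (tt N101915 F434937) (tt N119332 (iv5 F515066)) (tt N76575 F428990) (tt N63664 (iv7 D203584)))
theorem Q100444 : ∀ i, i < 100444 → P i := stepQ 100443 Q100443 (allL N100443 (tt N117277 (iv1 F504245)) (tt N81940 (iv0 F428996)) (tt N106650 (iv2 F455144)) (tt N63666 F428993) (tt N83457 (iv4 F428995)) (tt N63665 (iv5 D203585)) (tt N118270 (iv6 F509447)) (tt N76610 F428994))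
theorem Q100445 : ∀ i, i < 100445 → P i := stepQ 100444 Q100444 (allL N100444 (tt N65027 (iv1 F429002)) (tt N65026 F429003) (tt N65030 F428997) (tt N63667 F428998) (tt N64932 F428999) (tt N65057 (iv5 F429001)) (tt N63665 (iv6 D203586)) (tt N65005 F429000))
theorem Q100446 : ∀ i, i < 100446 → P i := stepQ 100445 Q100445 (allL N100445 (tt N119742 (iv1 F517197)) (tt N77985 (iv0 F429007)) (tt N76861 F429004) (tt N118270 (iv3 F509446)) (tt N76718 F429005) (tt N99261 F429006) (tt N63666 (iv6 D203587)) (tt N110556 (iv7 F472125)))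
theorem Q100447 : ∀ i, i < 100447 → P i := stepQ 100446 Q100446 (allL N100446 (tt N76804 F429011) (tt N63667 (iv0 D203588)) (tt N76862 F429012) (tt N110828 (iv3 F473331)) (tt N81713 F429009) (tt N99175 F429008) (tt N82089 (iv6 F429013)) (tt N76863 (iv7 F429010)))
theorem Q100448 : ∀ i, i < 100448 → P i := stepQ 100447 Q100447 (allL N100447 (tt N63667 (iv1 D203589)) (tt N76804 F429014) (tt N76863 (iv2 F429018)) (tt N78045 F429020) (tt N81680 F429017) (tt N78044 F429016) (tt N72650 (iv6 F429019)) (tt N76862 F429015))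
theorem Q100449 : ∀ i, i < 100449 → P i := stepQ 100448 Q100448 (allL N100448 (tt N76863 (iv1 F429026)) (tt N76862 F429027) (tt N76804 F429021) (tt N65005 F429022) (tt N63669 F429023) (tt N95803 F429024) (tt N76600 F429025) (tt N63667 (iv7 D203590)))
theorem Q100450 : ∀ i, i < 100450 → P i := stepQ 100449 Q100449 (allL N100449 (tt N99035 F429032) (tt N76822 F429033) (tt N76865 F429028) (tt N99013 F429029) (tt N63668 (iv4 D203591)) (tt N112681 (iv5 F482144)) (tt N82093 F429030) (tt N76866 F429031))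
theorem Q100451 : ∀ i, i < 100451 → P i := stepQ 100450 Q100450 (allL N100450 (tt N76255 (iv1 F429038)) (tt N76820 (iv0 F429037)) (tt N78001 F429034) (tt N110629 (iv3 F472497)) (tt N76687 F429035) (tt N120211 D223470) (tt N63670 (iv6 D203592)) (tt N77994 F429036))
theorem Q100452 : ∀ i, i < 100452 → P i := stepQ 100451 Q100451 (allL N100451 (tt N77957 (iv1 F429039)) (tt N63672 (iv0 D203593)) (tt N106654 F455166) (tt N120003 F518501) (tt N120212 D223471) (tt N117277 (iv5 F504242)) (tt N112610 (iv6 F481834)) (tt N77844 F429045))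
theorem Q100453 : ∀ i, i < 100453 → P i := stepQ 100452 Q100452 (allL N100452 (tt N63672 (iv1 D203594)) (tt N77957 F429040) (tt N77844 F429044) (tt N110635 (iv3 F472525)) (tt N120213 D223472) (tt N81940 F429041) (tt N77840 (iv6 F429042)) (tt N106654 (iv7 F455168)))
theorem Q100454 : ∀ i, i < 100454 → P i := stepQ 100453 Q100453 (allL N100453 (tt N109833 F468831) (tt N109835 F468839) (tt N106655 (iv2 F455175)) (tt N63673 F429046) (tt N105666 (iv4 F451163)) (tt N63672 (iv5 D203595)) (tt N105665 F451164) (tt N109985 (iv7 F469463)))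
theorem Q100455 : ∀ i, i < 100455 → P i := stepQ 100454 Q100454 (allL N100454 (tt N120214 D223473) (tt N120215 D223474) (tt N106656 (iv2 F455179)) (tt N63674 F429047) (tt N108461 (iv4 F462685)) (tt N112602 (iv5 F481789)) (tt N63672 (iv6 D203596)) (tt N112601 F481786))
theorem Q100456 : ∀ i, i < 100456 → P i := stepQ 100455 Q100455 (allL N100455 (tt N119796 F517455) (tt N120216 D223475) (tt N109987 (iv2 F469470)) (tt N105665 (iv3 F451165)) (tt N110230 (iv4 F470542)) (tt N119926 (iv5 F518071)) (tt N63673 (iv6 D203597)) (tt N110229 F470539))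
theorem Q100457 : ∀ i, i < 100457 → P i := stepQ 100456 Q100456 (allL N100456 (tt N99101 F429050) (tt N63674 (iv0 D203598)) (tt N99241 (iv2 F429049)) (tt N119935 (iv3 F518119)) (tt N103159 (iv4 F440342)) (tt N119741 (iv5 F517190)) (tt N78017 F429048) (tt N107941 (iv7 F460392)))
theorem Q100458 : ∀ i, i < 100458 → P i := stepQ 100457 Q100457 (allL N100457 (tt N63674 (iv1 D203599)) (tt N99101 F429051) (tt N107941 (iv2 F460390)) (tt N119940 (iv3 F518143)) (tt N103160 (iv4 F448421)) (tt N107662 (iv5 F459133)) (tt N99049 (iv6 F429053)) (tt N99241 F429052))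
theorem Q100459 : ∀ i, i < 100459 → P i := stepQ 100458 Q100458 (allL N100458 (tt N112672 (iv1 F482107)) (tt N106634 F455111) (tt N110984 (iv2 F474085)) (tt N112602 (iv3 F481788)) (tt N119927 (iv4 F518075)) (tt N63674 (iv5 D203600)) (tt N119926 F518072) (tt N112600 F481783))
theorem Q100460 : ∀ i, i < 100460 → P i := stepQ 100459 Q100459 (allL N100459 (tt N107941 F460394) (tt N99241 F429057) (tt N99101 F429054) (tt N112601 (iv3 F481784)) (tt N63677 F429055) (tt N112600 (iv5 F481782)) (tt N99099 F429056) (tt N63674 (iv7 D203601)))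
theorem Q100461 : ∀ i, i < 100461 → P i := stepQ 100460 Q100460 (allL N100460 (tt N99073 (iv1 F429062)) (tt N63681 (iv0 F429061)) (tt N77705 F429058) (tt N119151 (iv3 F514060)) (tt N63675 (iv4 D203602)) (tt N120217 D223476) (tt N78222 F429059) (tt N99048 F429060))
theorem Q100462 : ∀ i, i < 100462 → P i := stepQ 100461 Q100461 (allL N100461 (tt N63681 F429067) (tt N99073 F429068) (tt N99048 F429063) (tt N99080 F429064) (tt N63676 (iv4 D203603)) (tt N98977 (iv5 F429069)) (tt N98781 F429065) (tt N77705 F429066))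
theorem Q100463 : ∀ i, i < 100463 → P i := stepQ 100462 Q100462 (allL N100462 (tt N90183 (iv1 F429073)) (tt N63679 (iv0 D203604)) (tt N89491 (iv2 F429072)) (tt N119755 F517256) (tt N85335 F429070) (tt N120218 D223477) (tt N110926 (iv6 F473821)) (tt N89489 F429074))
theorem Q100464 : ∀ i, i < 100464 → P i := stepQ 100463 Q100463 (allL N100463 (tt N89491 (iv1 F429080)) (tt N89489 F429079) (tt N63679 (iv2 D203605)) (tt N77942 F429076) (tt N86362 F429077) (tt N120219 D223478) (tt N120220 D223479) (tt N90183 F429078))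
theorem Q100465 : ∀ i, i < 100465 → P i := stepQ 100464 Q100464 (allL N100464 (tt N120221 D223480) (tt N113515 (iv0 F485868)) (tt N120219 (iv2 F519662)) (tt N63680 F429081) (tt N120222 D223481) (tt N63679 (iv5 D203606)) (tt N120223 D223482) (tt N109970 (iv7 F469423)))
theorem Q100466 : ∀ i, i < 100466 → P i := stepQ 100465 Q100465 (allL N100465 (tt N120224 D223483) (tt N120225 D223484) (tt N120220 (iv2 F519667)) (tt N63681 F429082) (tt N90186 F429083) (tt N119764 F517301) (tt N63679 (iv6 D203607)) (tt N119758 (iv7 F517271)))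
theorem Q100467 : ∀ i, i < 100467 → P i := stepQ 100466 Q100466 (allL N100466 (tt N117368 F504700) (tt N117367 F504695) (tt N109973 (iv2 F469432)) (tt N120223 (iv3 F519681)) (tt N114258 (iv4 F489265)) (tt N120226 D223485) (tt N63680 (iv6 D203608)) (tt N117369 (iv7 F504704)))
theorem Q100468 : ∀ i, i < 100468 → P i := stepQ 100467 Q100467 (allL N100467 (tt N112670 (iv1 F482102)) (tt N109933 (iv0 F469292)) (tt N120100 (iv2 F519040)) (tt N119764 (iv3 F517300)) (tt N120227 D223486) (tt N63681 (iv5 D203609)) (tt N120226 (iv6 F519696)) (tt N119761 (iv7 F517287)))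
theorem Q100469 : ∀ i, i < 100469 → P i := stepQ 100468 Q100468 (allL N100468 (tt N63682 (iv1 D203610)) (tt N77942 (iv0 F429087)) (tt N77944 (iv2 F429086)) (tt N106661 (iv3 F455192)) (tt N95267 F429085) (tt N118644 (iv5 F511307)) (tt N110727 (iv6 F472922)) (tt N77940 F429084))
theorem Q100470 : ∀ i, i < 100470 → P i := stepQ 100469 Q100469 (allL N100469 (tt N77940 (iv1 F429093)) (tt N77944 F429092) (tt N63682 (iv2 D203611)) (tt N90183 F429088) (tt N93299 F429089) (tt N120228 D223487) (tt N93301 F429090) (tt N77942 F429091))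
theorem Q100471 : ∀ i, i < 100471 → P i := stepQ 100470 Q100470 (allL N100470 (tt N93505 F429095) (tt N120229 D223488) (tt N120228 (iv2 F519704)) (tt N63683 F429094) (tt N112551 (iv4 F481620)) (tt N63682 (iv5 D203612)) (tt N117372 (iv6 F504714)) (tt N109972 (iv7 F469429)))
theorem Q100472 : ∀ i, i < 100472 → P i := stepQ 100471 Q100471 (allL N100471 (tt N109966 (iv1 F469411)) (tt N109608 (iv0 F467713)) (tt N109967 F469414) (tt N98939 (iv3 F503965)) (tt N120179 (iv4 F519458)) (tt N63684 (iv5 D203613)) (tt N120230 D223489) (tt N99078 F429096))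
theorem Q100473 : ∀ i, i < 100473 → P i := stepQ 100472 Q100472 (allL N100472 (tt N110567 (iv1 F472172)) (tt N110566 F472168) (tt N63686 F429097) (tt N119801 F517484) (tt N110498 (iv4 F471853)) (tt N63685 (iv5 D203614)) (tt N112585 F481728) (tt N110562 (iv7 F472156)))
theorem Q100474 : ∀ i, i < 100474 → P i := stepQ 100473 Q100473 (allL N100473 (tt N110562 (iv1 F472158)) (tt N63686 (iv0 D203615)) (tt N110567 (iv2 F472176)) (tt N106666 F455218) (tt N119593 (iv4 F516420)) (tt N76824 F429098) (tt N63687 (iv6 F429099)) (tt N110566 F472171))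
theorem Q100475 : ∀ i, i < 100475 → P i := stepQ 100474 Q100474 (allL N100474 (tt N63686 (iv1 D203616)) (tt N110562 (iv0 F472157)) (tt N110566 F472169) (tt N112618 (iv3 F481864)) (tt N117208 (iv4 F503916)) (tt N76825 (iv5 F429100)) (tt N120231 D223490) (tt N110567 (iv7 F472173)))
theorem Q100476 : ∀ i, i < 100476 → P i := stepQ 100475 Q100475 (allL N100475 (tt N76718 F429101) (tt N120232 D223491) (tt N110498 (iv2 F471850)) (tt N120233 D223492) (tt N63686 (iv4 D203617)) (tt N110491 (iv5 F471820)) (tt N113337 (iv6 F485098)) (tt N110568 (iv7 F472178)))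
theorem Q100477 : ∀ i, i < 100477 → P i := stepQ 100476 Q100476 (allL N100476 (tt N98891 F434934) (tt N112523 (iv0 F481497)) (tt N112585 (iv2 F481730)) (tt N63690 F429102) (tt N113337 (iv4 F485095)) (tt N82107 F429103) (tt N63686 (iv6 D203618)) (tt N112584 F482167))
theorem Q100478 : ∀ i, i < 100478 → P i := stepQ 100477 Q100477 (allL N100477 (tt N120218 (iv1 F519661)) (tt N110921 (iv0 F473801)) (tt N116942 (iv2 F502616)) (tt N63687 (iv3 D203619)) (tt N120185 (iv4 F519489)) (tt N76821 F429104) (tt N106666 (iv6 F455221)) (tt N116943 (iv7 F502622)))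
theorem Q100479 : ∀ i, i < 100479 → P i := stepQ 100478 Q100478 (allL N100478 (tt N77943 F429106) (tt N118644 (iv0 F511309)) (tt N118230 (iv2 F509263)) (tt N63688 (iv3 D203620)) (tt N118970 (iv4 F513039)) (tt N76823 F429105) (tt N120234 D223493) (tt N118231 (iv7 F509270)))
theorem Q100480 : ∀ i, i < 100480 → P i := stepQ 100479 Q100479 (allL N100479 (tt N120235 D223494) (tt N106604 (iv0 F455023)) (tt N117929 (iv2 F507650)) (tt N120234 (iv3 F519737)) (tt N119610 (iv4 F516498)) (tt N120236 D223495) (tt N63688 (iv6 D203621)) (tt N120231 (iv7 F519725)))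
theorem Q100481 : ∀ i, i < 100481 → P i := stepQ 100480 Q100480 (allL N100480 (tt N120237 D223496) (tt N120238 D223497) (tt N107614 (iv2 F458948)) (tt N63689 (iv3 D203622)) (tt N120233 (iv4 F519733)) (tt N76807 F429107) (tt N99442 F429108) (tt N119591 (iv7 F516410)))
theorem Q100482 : ∀ i, i < 100482 → P i := stepQ 100481 Q100481 (allL N100481 (tt N113425 F485444) (tt N63690 (iv0 D203623)) (tt N110701 (iv2 F472816)) (tt N109959 F473074) (tt N89345 (iv4 F463020)) (tt N118303 (iv5 F509602)) (tt N89344 F463019) (tt N120198 (iv7 F519543)))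
theorem Q100483 : ∀ i, i < 100483 → P i := stepQ 100482 Q100482 (allL N100482 (tt N63690 (iv1 D203624)) (tt N113425 (iv0 F485442)) (tt N120198 (iv2 F519545)) (tt N112557 (iv3 F481637)) (tt N112688 F482186) (tt N119866 (iv5 F517770)) (tt N112555 F481636) (tt N110701 F472820))
theorem Q100484 : ∀ i, i < 100484 → P i := stepQ 100483 Q100483 (allL N100483 (tt N120198 (iv1 F519542)) (tt N110701 (iv0 F472819)) (tt N113425 (iv2 F485439)) (tt N112584 F482166) (tt N113420 (iv4 F485417)) (tt N82112 F429109) (tt N120103 (iv6 F519060)) (tt N63690 (iv7 D203625)))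
theorem Q100485 : ∀ i, i < 100485 → P i := stepQ 100484 Q100484 (allL N100484 (tt N75857 F429115) (tt N75914 F429116) (tt N75887 F429110) (tt N66954 F429111) (tt N63700 (iv4 D203626)) (tt N75805 F429114) (tt N66931 F429112) (tt N75804 F429113))
theorem Q100486 : ∀ i, i < 100486 → P i := stepQ 100485 Q100485 (allL N100485 (tt N116206 (iv1 F499014)) (tt N80754 (iv0 F429119)) (tt N109281 (iv2 F466165)) (tt N63702 (iv3 D203627)) (tt N99891 F429117) (tt N104239 F444874) (tt N78335 F429118) (tt N108447 (iv7 F462616)))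
theorem Q100487 : ∀ i, i < 100487 → P i := stepQ 100486 Q100486 (allL N100486 (tt N75853 F429125) (tt N75888 F429126) (tt N75890 F429120) (tt N73156 F429121) (tt N63703 (iv4 D203628)) (tt N76063 F429124) (tt N75631 F429122) (tt N73153 F429123))
theorem Q100488 : ∀ i, i < 100488 → P i := stepQ 100487 Q100487 (allL N100487 (tt N80758 F429131) (tt N80757 (iv0 F429132)) (tt N103890 (iv2 F443229)) (tt N63704 (iv3 D203629)) (tt N63706 F429127) (tt N90675 F429128) (tt N69265 F429129) (tt N66941 F429130))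
theorem Q100489 : ∀ i, i < 100489 → P i := stepQ 100488 Q100488 (allL N100488 (tt N69966 F429138) (tt N69958 F429139) (tt N78704 F429133) (tt N88208 F429134) (tt N71801 F429135) (tt N63708 (iv5 D203630)) (tt N63709 F429136) (tt N99819 F429137))
theorem Q100490 : ∀ i, i < 100490 → P i := stepQ 100489 Q100489 (allL N100489 (tt N108748 (iv1 F463805)) (tt N73697 (iv0 F429142)) (tt N108747 F463797) (tt N82587 F429140) (tt N96296 F429141) (tt N111805 (iv5 F478064)) (tt N63711 (iv6 D203631)) (tt N107564 (iv7 F458768)))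
theorem Q100491 : ∀ i, i < 100491 → P i := stepQ 100490 Q100490 (allL N100490 (tt N76590 F429148) (tt N76773 F429149) (tt N76772 F429143) (tt N81265 F429144) (tt N76166 F429147) (tt N63712 (iv5 D203632)) (tt N68493 F429145) (tt N76737 F429146))
theorem Q100492 : ∀ i, i < 100492 → P i := stepQ 100491 Q100491 (allL N100491 (tt N77623 F429155) (tt N66569 F429156) (tt N77552 F429150) (tt N83849 F429151) (tt N63716 (iv4 D203633)) (tt N89133 F429152) (tt N100013 F429153) (tt N77554 F429154))
theorem Q100493 : ∀ i, i < 100493 → P i := stepQ 100492 Q100492 (allL N100492 (tt N63724 (iv1 D203634)) (tt N65247 F429157) (tt N65249 F429163) (tt N77279 (iv3 F429161)) (tt N89195 F429159) (tt N73792 F429160) (tt N77546 (iv6 F429162)) (tt N65239 F429158))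
theorem Q100494 : ∀ i, i < 100494 → P i := stepQ 100493 Q100493 (allL N100493 (tt N77645 F429168) (tt N77644 F429169) (tt N63746 F429164) (tt N77196 F429165) (tt N63739 (iv4 D203635)) (tt N77663 F429167) (tt N109397 (iv6 F466754)) (tt N77635 F429166))
theorem Q100495 : ∀ i, i < 100495 → P i := stepQ 100494 Q100494 (allL N100494 (tt N75647 F429174) (tt N75576 F429175) (tt N63754 F429170) (tt N109705 (iv3 F468208)) (tt N77646 F429171) (tt N63741 (iv5 D203636)) (tt N68277 F429172) (tt N77637 F429173))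
theorem Q100496 : ∀ i, i < 100496 → P i := stepQ 100495 Q100495 (allL N100495 (tt N63746 (iv1 D203637)) (tt N77635 F429176) (tt N77644 F429181) (tt N76316 F429182) (tt N98143 F429178) (tt N109406 (iv5 F466799)) (tt N76314 (iv6 F429180)) (tt N77645 F429177))
theorem Q100497 : ∀ i, i < 100497 → P i := stepQ 100496 Q100496 (allL N100496 (tt N98370 F429189) (tt N98753 (iv0 F429190)) (tt N109397 (iv2 F466751)) (tt N98320 F429185) (tt N63747 F429186) (tt N83333 F429188) (tt N63746 (iv6 D203638)) (tt N79995 F429187))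
theorem Q100498 : ∀ i, i < 100498 → P i := stepQ 100497 Q100497 (allL N100497 (tt N85798 (iv1 F429195)) (tt N76657 F429196) (tt N109276 F466138) (tt N77760 F429191) (tt N79995 F429192) (tt N77759 F429193) (tt N76634 F429194) (tt N63747 (iv7 D203639)))
theorem Q100499 : ∀ i, i < 100499 → P i := stepQ 100498 Q100498 (allL N100498 (tt N63867 F429201) (tt N66373 F429202) (tt N78364 F429197) (tt N89432 F429198) (tt N107879 (iv4 F460089)) (tt N63749 (iv5 D203640)) (tt N66279 F429199) (tt N77604 F429200))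
theorem Q100500 : ∀ i, i < 100500 → P i := stepQ 100499 Q100499 (allL N100499 (tt N80000 F429205) (tt N109910 F469172) (tt N109908 (iv2 F469166)) (tt N74735 F429203) (tt N63750 (iv4 D203641)) (tt N118605 (iv5 F511124)) (tt N109416 (iv6 F466858)) (tt N79382 F429204))
theorem Q100501 : ∀ i, i < 100501 → P i := stepQ 100500 Q100500 (allL N100500 (tt N114882 (iv1 F492328)) (tt N78963 (iv0 F429209)) (tt N115554 (iv2 F495757)) (tt N63751 (iv3 D203642)) (tt N67833 F429206) (tt N119476 (iv5 F515814)) (tt N99836 F429207) (tt N67832 F429208))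
theorem Q100502 : ∀ i, i < 100502 → P i := stepQ 100501 Q100501 (allL N100501 (tt N98584 F429212) (tt N109124 (iv0 F465438)) (tt N77652 F429210) (tt N119476 (iv3 F515813)) (tt N109406 (iv4 F466800)) (tt N63751 (iv5 D203643)) (tt N105963 F452538) (tt N77649 F429211))
theorem Q100503 : ∀ i, i < 100503 → P i := stepQ 100502 Q100502 (allL N100502 (tt N109124 F465441) (tt N98584 F429215) (tt N77649 F429213) (tt N107315 (iv3 F457933)) (tt N109407 (iv4 F466806)) (tt N63752 (iv5 D203644)) (tt N107314 (iv6 F457931)) (tt N77652 F429214))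
theorem Q100504 : ∀ i, i < 100504 → P i := stepQ 100503 Q100503 (allL N100503 (tt N76252 F429219) (tt N75675 (iv0 F429220)) (tt N77709 F429216) (tt N117436 (iv3 F505018)) (tt N98380 F429217) (tt N115892 (iv5 F497446)) (tt N63774 (iv6 D203645)) (tt N82172 F429218))
theorem Q100505 : ∀ i, i < 100505 → P i := stepQ 100504 Q100504 (allL N100504 (tt N108265 F461779) (tt N63775 (iv0 D203646)) (tt N108249 (iv2 F461681)) (tt N118878 (iv3 F512538)) (tt N81690 F453160) (tt N120054 (iv5 F518794)) (tt N99570 F429221) (tt N96888 (iv7 F429222)))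
theorem Q100506 : ∀ i, i < 100506 → P i := stepQ 100505 Q100505 (allL N100505 (tt N76248 F429224) (tt N108264 F461773) (tt N104737 (iv2 F447044)) (tt N91583 (iv3 F429225)) (tt N63776 (iv4 D203647)) (tt N95501 (iv5 F429226)) (tt N95346 F429223) (tt N108256 (iv7 F461727)))
theorem Q100507 : ∀ i, i < 100507 → P i := stepQ 100506 Q100506 (allL N100506 (tt N75777 F429232) (tt N102966 (iv0 F439483)) (tt N102987 F439560) (tt N63778 F429228) (tt N72411 F429231) (tt N63777 (iv5 D203648)) (tt N69336 F429229) (tt N77031 F429230))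
theorem Q100508 : ∀ i, i < 100508 → P i := stepQ 100507 Q100507 (allL N100507 (tt N72132 F429237) (tt N101019 (iv0 F431305)) (tt N63789 F429233) (tt N77724 F429234) (tt N67688 F429235) (tt N105729 (iv5 F451444)) (tt N63788 (iv6 D203649)) (tt N71748 F429236))
theorem Q100509 : ∀ i, i < 100509 → P i := stepQ 100508 Q100508 (allL N100508 (tt N69428 F429240) (tt N99617 F429241) (tt N105729 (iv2 F451442)) (tt N63790 F429238) (tt N116212 (iv4 F499042)) (tt N63789 (iv5 D203650)) (tt N68297 F429239) (tt N102791 (iv7 F438668)))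
theorem Q100510 : ∀ i, i < 100510 → P i := stepQ 100509 Q100509 (allL N100509 (tt N106448 (iv1 F454496)) (tt N106450 (iv0 F454511)) (tt N77722 F429242) (tt N114080 (iv3 F488495)) (tt N63792 (iv4 D203651)) (tt N98852 F429245) (tt N82192 F429243) (tt N77719 F429244))
theorem Q100511 : ∀ i, i < 100511 → P i := stepQ 100510 Q100510 (allL N100510 (tt N102731 (iv1 F438395)) (tt N102740 (iv0 F438438)) (tt N74365 F429246) (tt N67104 F429247) (tt N74360 F429248) (tt N63794 (iv5 D203652)) (tt N74512 F429249) (tt N77727 F429250))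
theorem Q100512 : ∀ i, i < 100512 → P i := stepQ 100511 Q100511 (allL N100511 (tt N71747 (iv1 F429253)) (tt N63795 (iv0 D203653)) (tt N97386 (iv2 F429252)) (tt N109549 (iv3 F467461)) (tt N107575 (iv4 F458812)) (tt N95670 F429251) (tt N102661 (iv6 F438111)) (tt N102654 (iv7 F438081)))
theorem Q100513 : ∀ i, i < 100513 → P i := stepQ 100512 Q100512 (allL N100512 (tt N120003 (iv1 F518498)) (tt N118216 F509208) (tt N114798 (iv2 F491928)) (tt N63796 (iv3 D203654)) (tt N95268 F429254) (tt N83369 (iv5 F429256)) (tt N112195 (iv6 F480001)) (tt N99167 F429255))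
theorem Q100514 : ∀ i, i < 100514 → P i := stepQ 100513 Q100513 (allL N100513 (tt N116947 (iv1 F502647)) (tt N102667 (iv0 F438141)) (tt N110564 (iv2 F472163)) (tt N83369 F429257) (tt N83379 F429259) (tt N63796 (iv5 D203655)) (tt N83367 (iv6 F429260)) (tt N99168 F429258))
theorem Q100515 : ∀ i, i < 100515 → P i := stepQ 100514 Q100514 (allL N100514 (tt N106164 F453409) (tt N63801 (iv0 D203656)) (tt N111617 (iv2 F477177)) (tt N66988 F429262) (tt N110653 (iv4 F472610)) (tt N66980 F429261) (tt N105349 (iv6 F449822)) (tt N66979 (iv7 F429264)))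
theorem Q100516 : ∀ i, i < 100516 → P i := stepQ 100515 Q100515 (allL N100515 (tt N63801 (iv1 D203657)) (tt N106164 F453410) (tt N66979 F429267) (tt N90397 F429268) (tt N118598 (iv4 F511087)) (tt N66975 (iv5 F429265)) (tt N65389 (iv6 F429266)) (tt N111617 (iv7 F477172)))
theorem Q100517 : ∀ i, i < 100517 → P i := stepQ 100516 Q100516 (allL N100516 (tt N63804 (iv1 D203658)) (tt N75241 F429272) (tt N75243 F429277) (tt N75268 (iv3 F429275)) (tt N115760 (iv4 F496713)) (tt N75232 F429274) (tt N75243 (iv6 F429276)) (tt N75231 F429273))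
theorem Q100518 : ∀ i, i < 100518 → P i := stepQ 100517 Q100517 (allL N100517 (tt N91227 F429283) (tt N86595 F429284) (tt N87481 F429278) (tt N63808 F429279) (tt N87121 F429280) (tt N63806 (iv5 D203659)) (tt N87120 F429281) (tt N86420 F429282))
theorem Q100519 : ∀ i, i < 100519 → P i := stepQ 100518 Q100518 (allL N100518 (tt N118999 F513203) (tt N115374 F494876) (tt N104023 (iv2 F443825)) (tt N87120 F429286) (tt N115697 (iv4 F496370)) (tt N113331 (iv5 F485067)) (tt N63808 (iv6 D203660)) (tt N87496 F429287))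
theorem Q100520 : ∀ i, i < 100520 → P i := stepQ 100519 Q100519 (allL N100519 (tt N88947 (iv1 F429293)) (tt N76406 (iv0 F429291)) (tt N86419 F429288) (tt N98361 F429289) (tt N113667 (iv4 F486548)) (tt N85495 F429290) (tt N63811 (iv6 D203661)) (tt N100141 (iv7 F429292)))
theorem Q100521 : ∀ i, i < 100521 → P i := stepQ 100520 Q100520 (allL N100520 (tt N99873 F429297) (tt N109730 F468325) (tt N109719 (iv2 F468273)) (tt N88567 F429294) (tt N63815 F429295) (tt N88566 F429296) (tt N63813 (iv6 D203662)) (tt N109729 F468321))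
theorem Q100522 : ∀ i, i < 100522 → P i := stepQ 100521 Q100521 (allL N100521 (tt N91217 (iv1 F429304)) (tt N91216 F429305) (tt N91218 F429299) (tt N63817 F429300) (tt N86539 F429301) (tt N98527 F429302) (tt N63814 (iv6 D203663)) (tt N91212 F429303))
theorem Q100523 : ∀ i, i < 100523 → P i := stepQ 100522 Q100522 (allL N100522 (tt N65977 F429312) (tt N97646 F429313) (tt N97645 F429308) (tt N106142 (iv3 F453325)) (tt N63817 F429309) (tt N97554 F429310) (tt N63816 (iv6 D203664)) (tt N97644 F429311))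
theorem Q100524 : ∀ i, i < 100524 → P i := stepQ 100523 Q100523 (allL N100523 (tt N93244 F429319) (tt N103572 (iv0 F442085)) (tt N69249 F429314) (tt N63818 (iv3 D203665)) (tt N78513 F429315) (tt N67816 F429316) (tt N78512 F429317) (tt N69247 F429318))
theorem Q100525 : ∀ i, i < 100525 → P i := stepQ 100524 Q100524 (allL N100524 (tt N111750 (iv1 F477784)) (tt N104930 (iv0 F447998)) (tt N116051 (iv2 F498236)) (tt N63819 (iv3 D203666)) (tt N111727 (iv4 F477692)) (tt N99754 F429320) (tt N113564 (iv6 F486051)) (tt N97240 F429331))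
theorem Q100526 : ∀ i, i < 100526 → P i := stepQ 100525 Q100525 (allL N100525 (tt N118998 (iv1 F513198)) (tt N87767 (iv0 F429322)) (tt N104860 (iv2 F447665)) (tt N113564 (iv3 F486050)) (tt N63820 F429321) (tt N95426 F429323) (tt N63819 (iv6 D203667)) (tt N105784 (iv7 F451705)))
theorem Q100527 : ∀ i, i < 100527 → P i := stepQ 100526 Q100526 (allL N100526 (tt N76405 (iv1 F429327)) (tt N69592 F429328) (tt N63827 F429324) (tt N97240 (iv3 F429330)) (tt N63821 F429325) (tt N82941 F429326) (tt N96929 F429329) (tt N63819 (iv7 D203668)))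
theorem Q100528 : ∀ i, i < 100528 → P i := stepQ 100527 Q100527 (allL N100527 (tt N112074 F479374) (tt N80635 (iv0 F429336)) (tt N63831 F429332) (tt N64664 F429333) (tt N63826 F429334) (tt N102800 (iv5 F438697)) (tt N63825 (iv6 D203669)) (tt N80021 F429335))
theorem Q100529 : ∀ i, i < 100529 → P i := stepQ 100528 Q100528 (allL N100528 (tt N82217 F429338) (tt N118913 (iv0 F512720)) (tt N112714 (iv2 F482320)) (tt N63827 (iv3 D203670)) (tt N68095 F429337) (tt N111859 (iv5 F478348)) (tt N82124 (iv6 F429339)) (tt N104198 (iv7 F444654)))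
theorem Q100530 : ∀ i, i < 100530 → P i := stepQ 100529 Q100529 (allL N100529 (tt N99569 F429343) (tt N104928 (iv0 F447987)) (tt N96929 F429340) (tt N82124 F429341) (tt N63828 F429342) (tt N82123 F429344) (tt N63827 (iv6 D203671)) (tt N96927 (iv7 F429345)))
theorem Q100531 : ∀ i, i < 100531 → P i := stepQ 100530 Q100530 (allL N100530 (tt N118457 (iv1 F510477)) (tt N92066 (iv0 F429351)) (tt N95641 F429346) (tt N75392 F429347) (tt N95617 F429348) (tt N94092 F429349) (tt N63830 (iv6 D203672)) (tt N75405 F429350))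
theorem Q100532 : ∀ i, i < 100532 → P i := stepQ 100531 Q100531 (allL N100531 (tt N70536 F429356) (tt N88922 F429357) (tt N94153 F429352) (tt N64000 F429353) (tt N63848 F429354) (tt N103842 (iv5 F443052)) (tt N63847 (iv6 D203673)) (tt N76009 F429355))
theorem Q100533 : ∀ i, i < 100533 → P i := stepQ 100532 Q100532 (allL N100532 (tt N76878 (iv1 F429362)) (tt N63853 (iv0 D203674)) (tt N78586 (iv2 F429361)) (tt N88506 F429364) (tt N64112 F429359) (tt N81267 F429358) (tt N64110 F429360) (tt N78590 F429363))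
theorem Q100534 : ∀ i, i < 100534 → P i := stepQ 100533 Q100533 (allL N100533 (tt N63856 (iv1 D203675)) (tt N70097 F429365) (tt N103618 (iv2 F442256)) (tt N69188 (iv3 F429369)) (tt N70093 F429367) (tt N78482 F429368) (tt N69185 (iv6 F429370)) (tt N78481 F429366))
theorem Q100535 : ∀ i, i < 100535 → P i := stepQ 100534 Q100534 (allL N100534 (tt N102802 F438706) (tt N80701 (iv0 F429375)) (tt N102988 (iv2 F439563)) (tt N63858 F429371) (tt N66433 F429372) (tt N94249 F429373) (tt N63856 (iv6 D203676)) (tt N66432 F429374))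
theorem Q100536 : ∀ i, i < 100536 → P i := stepQ 100535 Q100535 (allL N100535 (tt N117069 (iv1 F503228)) (tt N117067 (iv0 F503214)) (tt N74718 F429376) (tt N74722 F429377) (tt N63867 (iv4 D203677)) (tt N92523 F429380) (tt N73326 F429378) (tt N78365 F429379))
theorem Q100537 : ∀ i, i < 100537 → P i := stepQ 100536 Q100536 (allL N100536 (tt N93553 F433757) (tt N101605 F436691) (tt N100557 (iv2 F429451)) (tt N95666 F429383) (tt N79433 F429384) (tt N101664 (iv5 F433755)) (tt N63871 (iv6 D203678)) (tt N108186 (iv7 F461437)))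
theorem Q100538 : ∀ i, i < 100538 → P i := stepQ 100537 Q100537 (allL N100537 (tt N112859 F483003) (tt N119198 F514319) (tt N108194 (iv2 F461466)) (tt N63873 F429385) (tt N120239 D223498) (tt N63872 (iv5 D203679)) (tt N108190 (iv6 F461456)) (tt N100556 (iv7 F429449)))
theorem Q100539 : ∀ i, i < 100539 → P i := stepQ 100538 Q100538 (allL N100538 (tt N74224 (iv1 F429389)) (tt N103353 F441241) (tt N103352 (iv2 F441237)) (tt N63874 F429386) (tt N82357 F429387) (tt N81986 (iv5 F429390)) (tt N63872 (iv6 D203680)) (tt N96179 F429388))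
theorem Q100540 : ∀ i, i < 100540 → P i := stepQ 100539 Q100539 (allL N100539 (tt N108185 (iv1 F461431)) (tt N108184 F461426) (tt N79433 F429391) (tt N108190 (iv3 F461455)) (tt N100557 (iv4 F429453)) (tt N81987 F429392) (tt N63873 (iv6 D203681)) (tt N108182 (iv7 F461419)))
theorem Q100541 : ∀ i, i < 100541 → P i := stepQ 100540 Q100540 (allL N100540 (tt N111428 (iv1 F476323)) (tt N65436 (iv0 F429395)) (tt N111427 (iv2 F476316)) (tt N63875 (iv3 D203682)) (tt N79312 F429393) (tt N111454 (iv5 F476432)) (tt N95604 (iv6 F429394)) (tt N111389 (iv7 F476128)))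
theorem Q100542 : ∀ i, i < 100542 → P i := stepQ 100541 Q100541 (allL N100541 (tt N65971 F429401) (tt N65976 (iv0 F429402)) (tt N65974 F429398) (tt N117968 F507838) (tt N63875 (iv4 D203683)) (tt N88303 F429400) (tt N95030 F429411) (tt N65973 F429399))
theorem Q100543 : ∀ i, i < 100543 → P i := stepQ 100542 Q100542 (allL N100542 (tt N111385 (iv1 F476111)) (tt N64959 (iv0 F429405)) (tt N111387 F476123) (tt N111454 (iv3 F476430)) (tt N79639 F429404) (tt N63875 (iv5 D203684)) (tt N115900 (iv6 F497487)) (tt N87305 F429403))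
theorem Q100544 : ∀ i, i < 100544 → P i := stepQ 100543 Q100543 (allL N100543 (tt N91615 F429409) (tt N95204 (iv0 F429408)) (tt N95158 F429406) (tt N95604 F429407) (tt N95030 (iv4 F429410)) (tt N117111 (iv5 F503454)) (tt N63875 (iv6 D203685)) (tt N101611 F433542))
theorem Q100545 : ∀ i, i < 100545 → P i := stepQ 100544 Q100544 (allL N100544 (tt N65976 F429418) (tt N65971 (iv0 F429422)) (tt N65973 F429415) (tt N80208 F429421) (tt N63876 (iv4 D203687)) (tt N88304 F429416) (tt N103923 (iv6 F452103)) (tt N65974 F429417))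
theorem Q100546 : ∀ i, i < 100546 → P i := stepQ 100545 Q100545 (allL N100545 (tt N64937 F452104) (tt N112811 (iv0 F482728)) (tt N111390 (iv2 F476132)) (tt N115427 (iv3 F495136)) (tt N103923 F452105) (tt N90300 F429425) (tt N63876 (iv6 D203688)) (tt N120240 D223499))
theorem Q100547 : ∀ i, i < 100547 → P i := stepQ 100546 Q100546 (allL N100546 (tt N101543 F433325) (tt N101539 (iv0 F433294)) (tt N63878 F429426) (tt N111351 (iv3 F475959)) (tt N112405 (iv4 F480967)) (tt N63877 (iv5 D203689)) (tt N119218 (iv6 F514428)) (tt N111391 (iv7 F476140)))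
theorem Q100548 : ∀ i, i < 100548 → P i := stepQ 100547 Q100547 (allL N100547 (tt N111391 (iv1 F476142)) (tt N63878 (iv0 D203690)) (tt N101543 (iv2 F433322)) (tt N111489 (iv3 F476578)) (tt N78493 F429433) (tt N79185 (iv5 F429434)) (tt N108149 F461316) (tt N101539 F433303))
theorem Q100549 : ∀ i, i < 100549 → P i := stepQ 100548 Q100548 (allL N100548 (tt N63878 (iv1 D203691)) (tt N111391 (iv0 F476141)) (tt N101539 F433297) (tt N119128 (iv3 F513935)) (tt N87294 (iv4 F429428)) (tt N79186 F429427) (tt N87293 F429429) (tt N101543 (iv7 F433323)))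
theorem Q100550 : ∀ i, i < 100550 → P i := stepQ 100549 Q100549 (allL N100549 (tt N115664 (iv1 F496211)) (tt N88132 (iv0 F429432)) (tt N112405 (iv2 F480966)) (tt N101574 (iv3 F433431)) (tt N63878 (iv4 D203692)) (tt N84651 F429431) (tt N119224 (iv6 F514461)) (tt N91776 F429430))
theorem Q100551 : ∀ i, i < 100551 → P i := stepQ 100550 Q100550 (allL N100550 (tt N111351 (iv1 F475962)) (tt N64970 (iv0 F429435)) (tt N101548 (iv2 F433348)) (tt N119216 F514415) (tt N120241 D223500) (tt N63884 (iv5 D203693)) (tt N115667 (iv6 F496218)) (tt N101547 (iv7 F433346)))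
theorem Q100552 : ∀ i, i < 100552 → P i := stepQ 100551 Q100551 (allL N100551 (tt N64970 F429436) (tt N111351 (iv0 F475961)) (tt N101547 (iv2 F433344)) (tt N111431 F476336) (tt N108610 (iv4 F463237)) (tt N63885 (iv5 D203694)) (tt N108615 (iv6 F463243)) (tt N101548 (iv7 F433349)))
theorem Q100553 : ∀ i, i < 100553 → P i := stepQ 100552 Q100552 (allL N100552 (tt N101551 (iv1 F433359)) (tt N101550 F433355) (tt N63887 F429437) (tt N101544 (iv3 F433327)) (tt N104986 (iv4 F448276)) (tt N63886 (iv5 D203695)) (tt N115587 F495881) (tt N101549 (iv7 F433352)))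
theorem Q100554 : ∀ i, i < 100554 → P i := stepQ 100553 Q100553 (allL N100553 (tt N101549 (iv1 F433353)) (tt N63887 (iv0 D203696)) (tt N101551 F433362) (tt N96659 (iv3 F429439)) (tt N81646 (iv4 F429441)) (tt N79133 F429438) (tt N81259 (iv6 F429440)) (tt N101550 F433358))
theorem Q100555 : ∀ i, i < 100555 → P i := stepQ 100554 Q100554 (allL N100554 (tt N63887 (iv1 D203697)) (tt N101549 F433354) (tt N101550 F433357) (tt N101893 (iv3 F434853)) (tt N113658 (iv4 F486515)) (tt N79134 F429442) (tt N116996 (iv6 F502882)) (tt N101551 (iv7 F433360)))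
theorem Q100556 : ∀ i, i < 100556 → P i := stepQ 100555 Q100555 (allL N100555 (tt N87987 (iv1 F429446)) (tt N115588 F495885) (tt N115587 F495878) (tt N63889 F429443) (tt N112277 (iv4 F480316)) (tt N86261 F429444) (tt N63887 (iv6 D203698)) (tt N94501 (iv7 F429445)))
theorem Q100557 : ∀ i, i < 100557 → P i := stepQ 100556 Q100556 (allL N100556 (tt N111706 F477592) (tt N118177 (iv0 F509024)) (tt N96590 F429447) (tt N63888 (iv3 D203699)) (tt N119630 (iv4 F516607)) (tt N79132 F429448) (tt N93847 (iv6 F429450)) (tt N100537 F429449))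
theorem Q100558 : ∀ i, i < 100558 → P i := stepQ 100557 Q100557 (allL N100557 (tt N97015 F429455) (tt N112190 (iv0 F479977)) (tt N100536 F429451) (tt N93847 F429452) (tt N100539 F429453) (tt N93845 F429454) (tt N63888 (iv6 D203700)) (tt N108855 (iv7 F464262)))
theorem Q100559 : ∀ i, i < 100559 → P i := stepQ 100558 Q100558 (allL N100558 (tt N82303 F429458) (tt N82652 F429459) (tt N111353 (iv2 F475966)) (tt N90054 F429456) (tt N120242 D223501) (tt N63890 (iv5 D203701)) (tt N101292 (iv6 F432562)) (tt N80604 F429457))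
theorem Q100560 : ∀ i, i < 100560 → P i := stepQ 100559 Q100559 (allL N100559 (tt N90435 F429462) (tt N100835 (iv0 F430700)) (tt N63893 F429460) (tt N63936 F429461) (tt N116326 (iv4 F499570)) (tt N63891 (iv5 D203702)) (tt N110307 (iv6 F470958)) (tt N105705 (iv7 F451336)))
theorem Q100561 : ∀ i, i < 100561 → P i := stepQ 100560 Q100560 (allL N100560 (tt N105508 F450515) (tt N119155 (iv0 F514086)) (tt N110307 (iv2 F470956)) (tt N63896 F429463) (tt N119132 (iv4 F513960)) (tt N63892 (iv5 D203703)) (tt N63893 F429464) (tt N118628 (iv7 F511215)))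
theorem Q100562 : ∀ i, i < 100562 → P i := stepQ 100561 Q100561 (allL N100561 (tt N109782 (iv1 F468591)) (tt N109784 (iv0 F468597)) (tt N116326 F499573) (tt N112766 (iv3 F482555)) (tt N63893 (iv4 D203704)) (tt N105699 (iv5 F451307)) (tt N119132 (iv6 F513961)) (tt N116325 (iv7 F499567)))
theorem Q100563 : ∀ i, i < 100563 → P i := stepQ 100562 Q100562 (allL N100562 (tt N100835 (iv1 F430701)) (tt N90435 (iv0 F429467)) (tt N105705 F451338) (tt N63903 F429465) (tt N116325 (iv4 F499564)) (tt N63894 F429466) (tt N106525 (iv6 F454774)) (tt N63893 (iv7 D203705)))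
theorem Q100564 : ∀ i, i < 100564 → P i := stepQ 100563 Q100563 (allL N100563 (tt N101282 F432518) (tt N96301 F429471) (tt N63954 F429468) (tt N105036 F448497) (tt N95685 (iv4 F429472)) (tt N63895 (iv5 D203706)) (tt N95684 F429469) (tt N63958 F429470))
theorem Q100565 : ∀ i, i < 100565 → P i := stepQ 100564 Q100564 (allL N100564 (tt N63971 (iv1 F429479)) (tt N63925 F429478) (tt N63898 (iv2 D203707)) (tt N63964 F429474) (tt N80342 F429475) (tt N71130 F429476) (tt N89932 F429480) (tt N63972 F429477))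
theorem Q100566 : ∀ i, i < 100566 → P i := stepQ 100565 Q100565 (allL N100565 (tt N88480 (iv1 F429486)) (tt N89930 F429487) (tt N89932 F429481) (tt N63900 F429482) (tt N80343 F429483) (tt N64885 F429485) (tt N63898 (iv6 D203708)) (tt N80598 F429484))
theorem Q100567 : ∀ i, i < 100567 → P i := stepQ 100566 Q100566 (allL N100566 (tt N112844 (iv1 F482923)) (tt N118818 F512242) (tt N63968 F429488) (tt N91692 F429489) (tt N89779 F429490) (tt N64887 F429491) (tt N63899 (iv6 D203709)) (tt N114522 (iv7 F490579)))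
theorem Q100568 : ∀ i, i < 100568 → P i := stepQ 100567 Q100567 (allL N100567 (tt N63901 (iv1 D203710)) (tt N63964 F429498) (tt N63963 F429496) (tt N89666 (iv3 F429494)) (tt N78317 (iv4 F429495)) (tt N75586 F429493) (tt N69571 F429497) (tt N63919 F429492))
theorem Q100569 : ∀ i, i < 100569 → P i := stepQ 100568 Q100568 (allL N100568 (tt N63919 (iv1 F429504)) (tt N63963 F429503) (tt N63901 (iv2 D203711)) (tt N63972 F429499) (tt N73985 F429500) (tt N68907 F429505) (tt N73984 F429501) (tt N63964 F429502))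
theorem Q100570 : ∀ i, i < 100570 → P i := stepQ 100569 Q100569 (allL N100569 (tt N94133 F429511) (tt N103720 F442578) (tt N68907 F429506) (tt N63902 F429507) (tt N68904 F429508) (tt N63901 (iv5 D203712)) (tt N75144 F429509) (tt N63965 F429510))
theorem Q100571 : ∀ i, i < 100571 → P i := stepQ 100570 Q100570 (allL N100570 (tt N88447 F429514) (tt N105517 (iv0 F450545)) (tt N63983 F429512) (tt N106525 (iv3 F454773)) (tt N64869 F429513) (tt N106523 F454768) (tt N63903 (iv6 D203713)) (tt N118629 (iv7 F511221)))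
theorem Q100572 : ∀ i, i < 100572 → P i := stepQ 100571 Q100571 (allL N100571 (tt N118968 F513031) (tt N118971 F513049) (tt N63985 F429515) (tt N113079 (iv3 F483878)) (tt N112843 (iv4 F482917)) (tt N81900 F429516) (tt N63904 (iv6 D203714)) (tt N99521 F429517))
theorem Q100573 : ∀ i, i < 100573 → P i := stepQ 100572 Q100572 (allL N100572 (tt N109017 F464949) (tt N63909 (iv0 D203715)) (tt N77050 (iv2 F429520)) (tt N99785 (iv3 F429521)) (tt N74984 F429518) (tt N113488 (iv5 F485734)) (tt N74983 F429519) (tt N109190 (iv7 F465716)))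
theorem Q100574 : ∀ i, i < 100574 → P i := stepQ 100573 Q100573 (allL N100573 (tt N63909 (iv1 D203716)) (tt N109017 (iv0 F464948)) (tt N109190 (iv2 F465713)) (tt N76961 (iv3 F429525)) (tt N73708 F429523) (tt N120075 (iv5 F518914)) (tt N69978 (iv6 F429526)) (tt N77050 F429522))
theorem Q100575 : ∀ i, i < 100575 → P i := stepQ 100574 Q100574 (allL N100574 (tt N64416 F429530) (tt N63910 (iv0 D203717)) (tt N64413 (iv2 F429528)) (tt N108387 (iv3 F462364)) (tt N101286 (iv4 F432531)) (tt N69929 F429527) (tt N108002 F460676) (tt N64414 (iv7 F429529)))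
theorem Q100576 : ∀ i, i < 100576 → P i := stepQ 100575 Q100575 (allL N100575 (tt N63910 (iv1 D203718)) (tt N64416 F429531) (tt N64414 F429534) (tt N88579 (iv3 F429536)) (tt N101287 (iv4 F432537)) (tt N68688 (iv5 F429533)) (tt N68690 F429535) (tt N64413 F429532))
theorem Q100577 : ∀ i, i < 100577 → P i := stepQ 100576 Q100576 (allL N100576 (tt N120243 D223502) (tt N120244 D223503) (tt N64415 F429537) (tt N100996 F431193) (tt N63910 (iv4 D203719)) (tt N112951 (iv5 F483352)) (tt N63914 F429538) (tt N116137 (iv7 F498677)))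
theorem Q100578 : ∀ i, i < 100578 → P i := stepQ 100577 Q100577 (allL N100577 (tt N64414 (iv1 F429542)) (tt N64413 F429543) (tt N64416 F429539) (tt N112996 (iv3 F483479)) (tt N116137 (iv4 F498675)) (tt N63911 F429540) (tt N64319 F429541) (tt N63910 (iv7 D203720)))
theorem Q100579 : ∀ i, i < 100579 → P i := stepQ 100578 Q100578 (allL N100578 (tt N120245 D223504) (tt N120246 D223505) (tt N64330 F429544) (tt N116726 (iv3 F501518)) (tt N112790 (iv4 F482641)) (tt N65017 F429545) (tt N63912 (iv6 D203721)) (tt N108462 (iv7 F462688)))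
theorem Q100580 : ∀ i, i < 100580 → P i := stepQ 100579 Q100579 (allL N100579 (tt N120247 D223506) (tt N114040 (iv0 F488320)) (tt N120248 D223507) (tt N63914 (iv3 D203722)) (tt N114001 (iv4 F488138)) (tt N100843 (iv5 F430727)) (tt N100996 (iv6 F431192)) (tt N64333 F429546))
theorem Q100581 : ∀ i, i < 100581 → P i := stepQ 100580 Q100580 (allL N100580 (tt N105715 (iv1 F451390)) (tt N101042 (iv0 F431422)) (tt N77080 F429547) (tt N63916 F429548) (tt N120249 D223508) (tt N63915 (iv5 D203723)) (tt N120250 D223509) (tt N64338 F429549))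
theorem Q100582 : ∀ i, i < 100582 → P i := stepQ 100581 Q100581 (allL N100581 (tt N113387 F485305) (tt N113384 (iv0 F485292)) (tt N64336 F429550) (tt N120250 (iv3 F519813)) (tt N112789 (iv4 F482635)) (tt N83401 F429551) (tt N63916 (iv6 D203724)) (tt N114004 (iv7 F488155)))
theorem Q100583 : ∀ i, i < 100583 → P i := stepQ 100582 Q100582 (allL N100582 (tt N89901 F429554) (tt N101439 (iv0 F432975)) (tt N100932 (iv2 F431012)) (tt N89150 F429552) (tt N110580 (iv4 F472222)) (tt N63918 (iv5 D203725)) (tt N101173 (iv6 F432047)) (tt N89167 F429553))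
theorem Q100584 : ∀ i, i < 100584 → P i := stepQ 100583 Q100583 (allL N100583 (tt N87823 F429558) (tt N99832 F429559) (tt N98399 F429555) (tt N81679 F429556) (tt N63922 F429557) (tt N108625 (iv5 F463258)) (tt N63921 (iv6 D203726)) (tt N117514 (iv7 F505452)))
theorem Q100585 : ∀ i, i < 100585 → P i := stepQ 100584 Q100584 (allL N100584 (tt N89177 (iv1 F429564)) (tt N109095 (iv0 F465316)) (tt N90646 F429560) (tt N63924 F429561) (tt N117514 (iv4 F505447)) (tt N87308 F429562) (tt N64751 F429563) (tt N63922 (iv7 D203727)))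
theorem Q100586 : ∀ i, i < 100586 → P i := stepQ 100585 Q100585 (allL N100585 (tt N105183 (iv1 F449144)) (tt N105182 (iv0 F449134)) (tt N64754 F429565) (tt N118571 (iv3 F510962)) (tt N120251 D223510) (tt N63928 (iv5 D203728)) (tt N120252 D223511) (tt N64753 F429566))
theorem Q100587 : ∀ i, i < 100587 → P i := stepQ 100586 Q100586 (allL N100586 (tt N64759 (iv1 F429569)) (tt N63929 (iv0 D203729)) (tt N64756 F429570) (tt N77333 (iv3 F432303)) (tt N120243 (iv4 F519774)) (tt N69867 F429567) (tt N107380 F458157) (tt N64757 (iv7 F429568)))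
theorem Q100588 : ∀ i, i < 100588 → P i := stepQ 100587 Q100587 (allL N100587 (tt N63929 (iv1 D203730)) (tt N64759 F429571) (tt N64757 F429575) (tt N120253 D223512) (tt N120244 (iv4 F519783)) (tt N69741 F429573) (tt N69743 (iv6 F429574)) (tt N64756 F429572))
theorem Q100589 : ∀ i, i < 100589 → P i := stepQ 100588 Q100588 (allL N100588 (tt N100987 (iv1 F431166)) (tt N100989 (iv0 F431171)) (tt N64758 F429576) (tt N88487 F429577) (tt N63929 (iv4 D203731)) (tt N88596 F429579) (tt N63932 F429578) (tt N88595 (iv7 F429580)))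
theorem Q100590 : ∀ i, i < 100590 → P i := stepQ 100589 Q100589 (allL N100589 (tt N64757 (iv1 F429586)) (tt N64756 F429587) (tt N64759 F429581) (tt N89414 F429582) (tt N88595 F429583) (tt N63930 F429584) (tt N82678 F429585) (tt N63929 (iv7 D203732)))
theorem Q100591 : ∀ i, i < 100591 → P i := stepQ 100590 Q100590 (allL N100590 (tt N111353 (iv1 F475971)) (tt N80604 (iv0 F429591)) (tt N82652 F429588) (tt N63931 (iv3 D203733)) (tt N116563 (iv4 F500752)) (tt N64572 F429589) (tt N107386 (iv6 F458172)) (tt N82303 F429590))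
theorem Q100592 : ∀ i, i < 100592 → P i := stepQ 100591 Q100591 (allL N100591 (tt N105196 F449170) (tt N99388 (iv0 F429595)) (tt N100874 (iv2 F430842)) (tt N63932 (iv3 D203734)) (tt N99396 F429592) (tt N105200 (iv5 F449184)) (tt N88487 F429593) (tt N88489 F429594))
theorem Q100593 : ∀ i, i < 100593 → P i := stepQ 100592 Q100592 (allL N100592 (tt N89960 F429600) (tt N89959 F429601) (tt N89962 F429596) (tt N63934 F429597) (tt N117246 (iv4 F504095)) (tt N63933 (iv5 D203735)) (tt N76341 F429598) (tt N82611 F429599))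
theorem Q100594 : ∀ i, i < 100594 → P i := stepQ 100593 Q100593 (allL N100593 (tt N82656 F429605) (tt N82655 F429606) (tt N78329 F429602) (tt N107972 (iv3 F460554)) (tt N63934 (iv4 D203736)) (tt N107968 (iv5 F460528)) (tt N77335 F429603) (tt N82619 F429604))
theorem Q100595 : ∀ i, i < 100595 → P i := stepQ 100594 Q100594 (allL N100594 (tt N82873 F429610) (tt N82871 F429611) (tt N63945 F429607) (tt N86059 F429612) (tt N63936 (iv4 D203737)) (tt N86866 F429609) (tt N86123 F429608) (tt N113329 (iv7 F485057)))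
theorem Q100596 : ∀ i, i < 100596 → P i := stepQ 100595 Q100595 (allL N100595 (tt N76112 (iv1 F429619)) (tt N76111 F429620) (tt N76114 F429614) (tt N82460 F429615) (tt N63943 F429616) (tt N92048 F429617) (tt N78337 F429618) (tt N63939 (iv7 D203738)))
theorem Q100597 : ∀ i, i < 100597 → P i := stepQ 100596 Q100596 (allL N100596 (tt N86747 F429624) (tt N63942 (iv0 D203739)) (tt N105481 (iv2 F450421)) (tt N113855 (iv3 F487474)) (tt N117998 (iv4 F507998)) (tt N77355 F429621) (tt N96485 F429622) (tt N77354 (iv7 F429623)))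
theorem Q100598 : ∀ i, i < 100598 → P i := stepQ 100597 Q100597 (allL N100597 (tt N63942 (iv1 D203740)) (tt N86747 F429625) (tt N77354 F429628) (tt N103068 (iv3 F439936)) (tt N97548 (iv4 F429626)) (tt N77148 (iv5 F429627)) (tt N83382 (iv6 F429629)) (tt N105481 (iv7 F450424)))
theorem Q100599 : ∀ i, i < 100599 → P i := stepQ 100598 Q100598 (allL N100598 (tt N77354 (iv1 F429634)) (tt N105481 (iv0 F450425)) (tt N86747 F429630) (tt N63962 F429631) (tt N105926 (iv4 F452376)) (tt N63943 F429632) (tt N86733 F429633) (tt N63942 (iv7 D203741)))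
theorem Q100600 : ∀ i, i < 100600 → P i := stepQ 100599 Q100599 (allL N100599 (tt N63945 (iv1 D203742)) (tt N113329 (iv0 F485058)) (tt N82871 F429639) (tt N74488 F429640) (tt N76934 F429637) (tt N73966 F429636) (tt N73967 (iv6 F429638)) (tt N82873 F429635))
theorem Q100601 : ∀ i, i < 100601 → P i := stepQ 100600 Q100600 (allL N100600 (tt N82871 (iv1 F429642)) (tt N82873 F429643) (tt N113329 (iv2 F485054)) (tt N112764 (iv3 F482544)) (tt N63946 F429641) (tt N114514 (iv5 F490534)) (tt N86748 (iv6 F429644)) (tt N63945 (iv7 D203743)))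
theorem Q100602 : ∀ i, i < 100602 → P i := stepQ 100601 Q100601 (allL N100601 (tt N108397 F462407) (tt N71114 (iv0 F429661)) (tt N99863 F429645) (tt N63952 F429646) (tt N99492 F429649) (tt N63949 (iv5 D203744)) (tt N79139 F429647) (tt N99861 F429648))
theorem Q100603 : ∀ i, i < 100603 → P i := stepQ 100602 Q100602 (allL N100602 (tt N69832 F429654) (tt N90211 F429655) (tt N71785 F429650) (tt N73832 F429651) (tt N90940 F429653) (tt N63951 (iv5 D203745)) (tt N101645 (iv6 F433680)) (tt N79150 F429652))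
theorem Q100604 : ∀ i, i < 100604 → P i := stepQ 100603 Q100603 (allL N100603 (tt N99157 F429660) (tt N82087 (iv0 F429662)) (tt N79154 F429656) (tt N97413 F429657) (tt N63952 (iv4 D203746)) (tt N72959 F429659) (tt N65027 F429658) (tt N98824 (iv7 F429663)))
theorem Q100605 : ∀ i, i < 100605 → P i := stepQ 100604 Q100604 (allL N100604 (tt N79153 (iv1 F429669)) (tt N69990 F429670) (tt N79155 F429665) (tt N99861 F429666) (tt N98824 F429667) (tt N63953 F429668) (tt N119733 (iv6 F517154)) (tt N63952 (iv7 D203747)))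
theorem Q100606 : ∀ i, i < 100606 → P i := stepQ 100605 Q100605 (allL N100605 (tt N63958 (iv1 F429673)) (tt N63954 (iv0 D203748)) (tt N101282 (iv2 F432513)) (tt N109464 (iv3 F467098)) (tt N72964 F429672) (tt N75129 F429671) (tt N105459 (iv6 F450348)) (tt N96301 F429674))
theorem Q100607 : ∀ i, i < 100607 → P i := stepQ 100606 Q100606 (allL N100606 (tt N108225 (iv1 F461560)) (tt N107670 (iv0 F459161)) (tt N95685 F429675) (tt N93290 F429679) (tt N63954 (iv4 D203749)) (tt N81963 F429678) (tt N81964 F429676) (tt N95129 F429677))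
theorem Q100608 : ∀ i, i < 100608 → P i := stepQ 100607 Q100607 (allL N100607 (tt N101200 (iv1 F432164)) (tt N107480 (iv0 F458467)) (tt N75580 F429680) (tt N63960 (iv3 D203750)) (tt N72424 F429681) (tt N84722 F429682) (tt N85386 F429683) (tt N94589 F429684))
theorem Q100609 : ∀ i, i < 100609 → P i := stepQ 100608 Q100608 (allL N100608 (tt N105517 F450546) (tt N88447 (iv0 F429687)) (tt N118629 (iv2 F511218)) (tt N86733 F429685) (tt N105645 (iv4 F451086)) (tt N111362 (iv5 F476014)) (tt N63962 (iv6 D203751)) (tt N63983 F429686))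
theorem Q100610 : ∀ i, i < 100610 → P i := stepQ 100609 Q100609 (allL N100609 (tt N67868 F429692) (tt N63976 F429693) (tt N75586 F429688) (tt N76460 F429689) (tt N68970 F429690) (tt N63963 (iv5 D203752)) (tt N120106 (iv6 F519078)) (tt N75573 F429691))
theorem Q100611 : ∀ i, i < 100611 → P i := stepQ 100610 Q100610 (allL N100610 (tt N100936 F431026) (tt N104147 (iv0 F444412)) (tt N63966 F429694) (tt N89932 F429695) (tt N77706 F429696) (tt N117132 (iv5 F503553)) (tt N63964 (iv6 D203753)) (tt N89928 F429697))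
theorem Q100612 : ∀ i, i < 100612 → P i := stepQ 100611 Q100611 (allL N100611 (tt N68907 (iv1 F429701)) (tt N63965 (iv0 D203754)) (tt N103720 F442577) (tt N76485 F429700) (tt N69120 F429699) (tt N64822 F429698) (tt N94486 (iv6 F429702)) (tt N94133 (iv7 F429703)))
theorem Q100613 : ∀ i, i < 100613 → P i := stepQ 100612 Q100612 (allL N100612 (tt N63965 (iv1 D203755)) (tt N68907 F429704) (tt N94133 (iv2 F429706)) (tt N110289 (iv3 F470864)) (tt N69116 (iv4 F429707)) (tt N64823 F429705) (tt N87345 (iv6 F429708)) (tt N103720 (iv7 F442579)))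
theorem Q100614 : ∀ i, i < 100614 → P i := stepQ 100613 Q100613 (allL N100613 (tt N98690 F442568) (tt N111147 F474928) (tt N103721 (iv2 F442581)) (tt N63968 F429709) (tt N103716 (iv4 F442565)) (tt N120254 D223513) (tt N63965 (iv6 D203756)) (tt N104704 (iv7 F446929)))
theorem Q100615 : ∀ i, i < 100615 → P i := stepQ 100614 Q100614 (allL N100614 (tt N89928 (iv1 F429721)) (tt N63966 (iv0 D203757)) (tt N100936 (iv2 F431024)) (tt N76487 F429710) (tt N107624 (iv4 F458984)) (tt N101435 (iv5 F432970)) (tt N80501 (iv6 F429711)) (tt N104147 (iv7 F444411)))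
theorem Q100616 : ∀ i, i < 100616 → P i := stepQ 100615 Q100615 (allL N100615 (tt N63966 (iv1 D203758)) (tt N89928 F429712) (tt N104147 (iv2 F444410)) (tt N120255 D223514) (tt N107631 (iv4 F459015)) (tt N101436 (iv5 F432971)) (tt N100314 F431278) (tt N100936 F431029))
theorem Q100617 : ∀ i, i < 100617 → P i := stepQ 100616 Q100616 (allL N100616 (tt N64628 F429714) (tt N105005 (iv0 F448331)) (tt N117132 (iv2 F503552)) (tt N63969 F429713) (tt N120256 D223515) (tt N63966 (iv5 D203759)) (tt N120254 (iv6 F519835)) (tt N64882 (iv7 F429715)))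
theorem Q100618 : ∀ i, i < 100618 → P i := stepQ 100617 Q100617 (allL N100617 (tt N104147 (iv1 F444413)) (tt N100936 F431027) (tt N89928 F429716) (tt N63970 F429717) (tt N80359 F429718) (tt N64882 F429719) (tt N64308 F429720) (tt N63966 (iv7 D203760)))
theorem Q100619 : ∀ i, i < 100619 → P i := stepQ 100618 Q100618 (allL N100618 (tt N118655 F511375) (tt N118657 F511382) (tt N103650 (iv2 F442359)) (tt N63967 (iv3 D203761)) (tt N103646 (iv4 F442347)) (tt N64855 F429722) (tt N95121 (iv6 F429733)) (tt N112541 (iv7 F481585)))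
theorem Q100620 : ∀ i, i < 100620 → P i := stepQ 100619 Q100619 (allL N100619 (tt N95692 F429725) (tt N95701 (iv0 F429728)) (tt N89779 F429723) (tt N95121 F429730) (tt N63968 F429724) (tt N94721 F429726) (tt N63967 (iv6 D203762)) (tt N95125 (iv7 F429727)))
theorem Q100621 : ∀ i, i < 100621 → P i := stepQ 100620 Q100620 (allL N100620 (tt N63968 (iv1 D203763)) (tt N114522 (iv0 F490581)) (tt N118818 (iv2 F512238)) (tt N89856 (iv3 F429734)) (tt N89819 F429729) (tt N113467 (iv5 F485619)) (tt N105466 (iv6 F450681)) (tt N112844 (iv7 F482921)))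
theorem Q100622 : ∀ i, i < 100622 → P i := stepQ 100621 Q100621 (allL N100621 (tt N83359 F429740) (tt N83372 F429741) (tt N64887 F429736) (tt N120254 (iv3 F519834)) (tt N93505 F429739) (tt N63968 (iv5 D203764)) (tt N63969 F429737) (tt N83370 F429738))
theorem Q100623 : ∀ i, i < 100623 → P i := stepQ 100622 Q100622 (allL N100622 (tt N75772 F429746) (tt N80914 F429747) (tt N80913 F429742) (tt N80335 F429743) (tt N63971 (iv4 D203765)) (tt N80670 (iv5 F429748)) (tt N90562 F429744) (tt N76898 F429745))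
theorem Q100624 : ∀ i, i < 100624 → P i := stepQ 100623 Q100623 (allL N100623 (tt N114956 F492755) (tt N89703 (iv0 F429754)) (tt N104689 (iv2 F446883)) (tt N63978 F429749) (tt N104685 (iv4 F446863)) (tt N120257 D223516) (tt N63976 (iv6 D203766)) (tt N120258 D223517))
theorem Q100625 : ∀ i, i < 100625 → P i := stepQ 100624 Q100624 (allL N100624 (tt N118165 (iv1 F508957)) (tt N118162 F508942) (tt N104665 (iv2 F446768)) (tt N63977 (iv3 D203767)) (tt N104663 (iv4 F446758)) (tt N64838 F429750) (tt N118750 (iv6 F511880)) (tt N101368 (iv7 F432798)))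
theorem Q100626 : ∀ i, i < 100626 → P i := stepQ 100625 Q100625 (allL N100625 (tt N82282 F429752) (tt N82284 (iv0 F429753)) (tt N111974 (iv2 F478924)) (tt N118750 (iv3 F511878)) (tt N63978 F429751) (tt N117547 (iv5 F505630)) (tt N63977 (iv6 D203768)) (tt N113260 (iv7 F484748)))
theorem Q100627 : ∀ i, i < 100627 → P i := stepQ 100626 Q100626 (allL N100626 (tt N120252 F519826) (tt N107385 (iv0 F458170)) (tt N80510 F429755) (tt N120257 (iv3 F519851)) (tt N120259 D223518) (tt N63978 (iv5 D203770)) (tt N64334 F429756) (tt N120260 D223519))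
theorem Q100628 : ∀ i, i < 100628 → P i := stepQ 100627 Q100627 (allL N100627 (tt N110211 (iv1 F470453)) (tt N110208 F470445) (tt N105485 (iv2 F450434)) (tt N120258 (iv3 F519857)) (tt N113260 F484749) (tt N120260 (iv5 F519869)) (tt N95238 F429757) (tt N63978 (iv7 D203771)))
theorem Q100629 : ∀ i, i < 100629 → P i := stepQ 100628 Q100628 (allL N100628 (tt N106280 (iv1 F453869)) (tt N106279 F453866) (tt N105949 (iv2 F452462)) (tt N63979 (iv3 D203772)) (tt N85588 F429758) (tt N64825 F429759) (tt N85587 F429760) (tt N106277 (iv7 F453856)))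
theorem Q100630 : ∀ i, i < 100630 → P i := stepQ 100629 Q100629 (allL N100629 (tt N63981 (iv1 D203773)) (tt N112763 (iv0 F482542)) (tt N112762 F482532) (tt N120261 D223520) (tt N111185 (iv4 F475132)) (tt N86147 F429762) (tt N95208 (iv6 F429761)) (tt N111183 (iv7 F475122)))
theorem Q100631 : ∀ i, i < 100631 → P i := stepQ 100630 Q100630 (allL N100630 (tt N111183 (iv1 F482536)) (tt N112762 F482533) (tt N63981 (iv2 D203774)) (tt N110214 (iv3 F470465)) (tt N114280 (iv4 F489364)) (tt N114592 (iv5 F490914)) (tt N114292 (iv6 F489428)) (tt N112763 (iv7 F482539)))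
theorem Q100632 : ∀ i, i < 100632 → P i := stepQ 100631 Q100631 (allL N100631 (tt N114306 (iv1 F489512)) (tt N114593 F490923) (tt N114592 (iv2 F490917)) (tt N63982 F429763) (tt N85086 F429766) (tt N63981 (iv5 D203775)) (tt N85085 F429764) (tt N64509 F429765))
theorem Q100633 : ∀ i, i < 100633 → P i := stepQ 100632 Q100632 (allL N100632 (tt N118629 F511223) (tt N63983 (iv0 D203776)) (tt N88447 (iv2 F429768)) (tt N120105 F519070) (tt N95133 (iv4 F429769)) (tt N116956 (iv5 F502695)) (tt N83374 F429767) (tt N105517 (iv7 F450544)))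
theorem Q100634 : ∀ i, i < 100634 → P i := stepQ 100633 Q100633 (allL N100633 (tt N63983 (iv1 D203777)) (tt N118629 (iv0 F511222)) (tt N105517 (iv2 F450543)) (tt N106240 (iv3 F453716)) (tt N118641 (iv4 F511294)) (tt N106239 F453715) (tt N95952 (iv6 F429771)) (tt N88447 F429770))
theorem Q100635 : ∀ i, i < 100635 → P i := stepQ 100634 Q100634 (allL N100634 (tt N63985 (iv1 D203778)) (tt N99521 F429772) (tt N118971 (iv2 F513044)) (tt N120262 D223521) (tt N93358 (iv4 F429773)) (tt N112616 (iv5 F481855)) (tt N104845 (iv6 F450885)) (tt N118968 (iv7 F513029)))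
theorem Q100636 : ∀ i, i < 100636 → P i := stepQ 100635 Q100635 (allL N100635 (tt N81885 F429776) (tt N105652 (iv0 F451122)) (tt N81900 F429774) (tt N109775 (iv3 F468554)) (tt N120263 D223522) (tt N63985 (iv5 D203779)) (tt N63986 F429775) (tt N107190 (iv7 F457410)))
theorem Q100637 : ∀ i, i < 100637 → P i := stepQ 100636 Q100636 (allL N100636 (tt N118971 (iv1 F513050)) (tt N118968 (iv0 F513030)) (tt N99521 F429777) (tt N66578 F429778) (tt N66579 F429779) (tt N107190 (iv5 F457409)) (tt N95953 F429780) (tt N63985 (iv7 D203780)))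
theorem Q100638 : ∀ i, i < 100638 → P i := stepQ 100637 Q100637 (allL N100637 (tt N64351 F429783) (tt N64873 F429784) (tt N64889 F429781) (tt N101310 (iv3 F432605)) (tt N63986 (iv4 D203781)) (tt N112596 (iv5 F481758)) (tt N120263 (iv6 F519888)) (tt N64888 F429782))
theorem Q100639 : ∀ i, i < 100639 → P i := stepQ 100638 Q100638 (allL N100638 (tt N76091 (iv1 F429789)) (tt N63987 (iv0 D203782)) (tt N78730 (iv2 F429788)) (tt N67932 F429787) (tt N82038 F429786) (tt N96698 F429785) (tt N80591 (iv6 F429791)) (tt N64294 F429790))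
theorem Q100640 : ∀ i, i < 100640 → P i := stepQ 100639 Q100639 (allL N100639 (tt N64394 (iv1 F429796)) (tt N104156 (iv0 F444461)) (tt N106384 (iv2 F454234)) (tt N63989 F429792) (tt N72799 F429793) (tt N70345 F429794) (tt N63987 (iv6 D203783)) (tt N80522 F429795))
theorem Q100641 : ∀ i, i < 100641 → P i := stepQ 100640 Q100640 (allL N100640 (tt N111390 F476137) (tt N120240 F519762) (tt N112811 (iv2 F482723)) (tt N63990 (iv3 D203784)) (tt N79744 F429797) (tt N110995 (iv5 F474146)) (tt N80551 F429798) (tt N64937 F429799))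
theorem Q100642 : ∀ i, i < 100642 → P i := stepQ 100641 Q100641 (allL N100641 (tt N119075 F513653) (tt N118336 (iv0 F509775)) (tt N94155 F429800) (tt N63993 F429801) (tt N108170 (iv4 F461381)) (tt N93711 F429802) (tt N63991 (iv6 D203785)) (tt N99519 (iv7 F429803)))
theorem Q100643 : ∀ i, i < 100643 → P i := stepQ 100642 Q100642 (allL N100642 (tt N68106 F429807) (tt N86991 F429808) (tt N64010 F429804) (tt N116089 (iv3 F498404)) (tt N114514 (iv4 F490537)) (tt N63996 (iv5 D203786)) (tt N87166 F429805) (tt N87973 F429806))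
theorem Q100644 : ∀ i, i < 100644 → P i := stepQ 100643 Q100643 (allL N100643 (tt N80913 F429813) (tt N76898 (iv0 F429814)) (tt N80914 F429809) (tt N63998 (iv3 D203787)) (tt N64001 F429810) (tt N80326 F429811) (tt N103136 (iv6 F440238)) (tt N75772 F429812))
theorem Q100645 : ∀ i, i < 100645 → P i := stepQ 100644 Q100644 (allL N100644 (tt N76934 F429818) (tt N76933 F429819) (tt N76936 F429815) (tt N103842 (iv3 F443051)) (tt N98697 F429816) (tt N64000 (iv5 D203788)) (tt N82902 F429820) (tt N76010 F429817))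
theorem Q100646 : ∀ i, i < 100646 → P i := stepQ 100645 Q100645 (allL N100645 (tt N109772 F468543) (tt N110406 F471433) (tt N109703 (iv2 F468195)) (tt N64002 F429823) (tt N103136 F440240) (tt N113548 (iv5 F485979)) (tt N64001 (iv6 D203789)) (tt N75471 F429824))
theorem Q100647 : ∀ i, i < 100647 → P i := stepQ 100646 Q100646 (allL N100646 (tt N73823 F429828) (tt N64214 (iv0 F429829)) (tt N73820 F429825) (tt N64006 F429826) (tt N109010 (iv4 F464904)) (tt N101759 (iv5 F434218)) (tt N64004 (iv6 D203790)) (tt N73821 F429827))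
theorem Q100648 : ∀ i, i < 100648 → P i := stepQ 100647 Q100647 (allL N100647 (tt N102867 (iv1 F439009)) (tt N87403 (iv0 F429834)) (tt N102868 (iv2 F439016)) (tt N64005 (iv3 D203791)) (tt N97789 F429830) (tt N87127 F429831) (tt N91558 F429832) (tt N87504 F429833))
theorem Q100649 : ∀ i, i < 100649 → P i := stepQ 100648 Q100648 (allL N100648 (tt N104933 (iv1 F448010)) (tt N87942 (iv0 F429836)) (tt N111772 F477895) (tt N64008 (iv3 D203792)) (tt N69502 F429835) (tt N111788 (iv5 F477976)) (tt N115494 F495491) (tt N111773 (iv7 F477898)))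
theorem Q100650 : ∀ i, i < 100650 → P i := stepQ 100649 Q100649 (allL N100649 (tt N112714 F482324) (tt N104198 (iv0 F444655)) (tt N118913 (iv2 F512715)) (tt N64010 F429837) (tt N112433 (iv4 F481082)) (tt N64009 (iv5 D203793)) (tt N87654 F429838) (tt N82217 F429839))
theorem Q100651 : ∀ i, i < 100651 → P i := stepQ 100650 Q100650 (allL N100650 (tt N78711 (iv1 F429846)) (tt N75161 F429845) (tt N64013 (iv2 D203794)) (tt N66940 F429840) (tt N73590 F429841) (tt N65333 F429842) (tt N75176 F429843) (tt N78712 F429844))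
theorem Q100652 : ∀ i, i < 100652 → P i := stepQ 100651 Q100651 (allL N100651 (tt N64015 (iv1 D203795)) (tt N76728 F429847) (tt N72256 F429852) (tt N79074 (iv3 F429850)) (tt N82328 F429849) (tt N78102 (iv5 F429853)) (tt N69957 (iv6 F429851)) (tt N78706 F429848))
theorem Q100653 : ∀ i, i < 100653 → P i := stepQ 100652 Q100652 (allL N100652 (tt N75251 F429858) (tt N75250 (iv0 F429859)) (tt N75253 F429854) (tt N64019 (iv3 D203796)) (tt N109841 (iv4 F468853)) (tt N89458 F429855) (tt N89460 F429856) (tt N75249 F429857))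
theorem Q100654 : ∀ i, i < 100654 → P i := stepQ 100653 Q100653 (allL N100653 (tt N106155 (iv1 F453375)) (tt N106154 F453370) (tt N104516 (iv2 F446108)) (tt N64023 (iv3 D203797)) (tt N104515 F446107) (tt N118056 (iv5 F508331)) (tt N119130 (iv6 F513947)) (tt N64862 F429860))
theorem Q100655 : ∀ i, i < 100655 → P i := stepQ 100654 Q100654 (allL N100654 (tt N80607 (iv1 F429863)) (tt N105742 (iv0 F451489)) (tt N110288 (iv2 F470856)) (tt N64026 (iv3 D203798)) (tt N80747 F429861) (tt N101016 (iv5 F431281)) (tt N105727 F451437) (tt N64339 F429862))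
theorem Q100656 : ∀ i, i < 100656 → P i := stepQ 100655 Q100655 (allL N100655 (tt N78321 (iv1 F429868)) (tt N64029 (iv0 D203799)) (tt N68566 (iv2 F429867)) (tt N107624 (iv3 F458982)) (tt N66854 F429865) (tt N74594 F429864) (tt N69681 F429866) (tt N68569 F429869))
theorem Q100657 : ∀ i, i < 100657 → P i := stepQ 100656 Q100656 (allL N100656 (tt N74483 F429874) (tt N110980 (iv0 F474064)) (tt N79993 F429870) (tt N98355 F429871) (tt N68142 F429873) (tt N64032 (iv5 D203800)) (tt N68141 F429875) (tt N79994 F429872))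
theorem Q100658 : ∀ i, i < 100658 → P i := stepQ 100657 Q100657 (allL N100657 (tt N110980 (iv1 F474065)) (tt N74483 (iv0 F429879)) (tt N79994 F429876) (tt N86771 F429877) (tt N104189 (iv4 F444600)) (tt N64033 (iv5 D203801)) (tt N68372 (iv6 F429880)) (tt N79993 F429878))
theorem Q100659 : ∀ i, i < 100659 → P i := stepQ 100658 Q100658 (allL N100658 (tt N98753 F429884) (tt N98370 F429885) (tt N79995 F429881) (tt N84731 F429882) (tt N109276 (iv4 F466136)) (tt N83335 F429883) (tt N64033 (iv6 D203802)) (tt N109397 (iv7 F466755)))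
theorem Q100660 : ∀ i, i < 100660 → P i := stepQ 100659 Q100659 (allL N100659 (tt N69488 (iv1 F429887)) (tt N64034 (iv0 D203803)) (tt N69486 F429890) (tt N95876 (iv3 F429888)) (tt N105910 (iv4 F452302)) (tt N99746 F429886) (tt N105909 F452300) (tt N69487 (iv7 F429889)))
theorem Q100661 : ∀ i, i < 100661 → P i := stepQ 100660 Q100660 (allL N100660 (tt N64034 (iv1 D203804)) (tt N69488 F429891) (tt N69487 F429894) (tt N109255 (iv3 F466019)) (tt N111758 (iv4 F477822)) (tt N76545 (iv5 F429893)) (tt N105840 (iv6 F451973)) (tt N69486 F429892))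
theorem Q100662 : ∀ i, i < 100662 → P i := stepQ 100661 Q100661 (allL N100661 (tt N93005 F429897) (tt N86452 F429898) (tt N69485 F429895) (tt N109752 (iv3 F468449)) (tt N64034 (iv4 D203805)) (tt N101047 (iv5 F431440)) (tt N64035 F429896) (tt N115389 (iv7 F494947)))
theorem Q100663 : ∀ i, i < 100663 → P i := stepQ 100662 Q100662 (allL N100662 (tt N109751 F468445) (tt N87505 (iv0 F429900)) (tt N109750 F468440) (tt N64035 (iv3 D203806)) (tt N100754 (iv4 F430297)) (tt N104139 (iv5 F444382)) (tt N109752 (iv6 F468450)) (tt N98362 F429899))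
theorem Q100664 : ∀ i, i < 100664 → P i := stepQ 100663 Q100663 (allL N100663 (tt N120264 D223523) (tt N109847 (iv0 F468889)) (tt N69570 F429901) (tt N64507 F429902) (tt N104030 (iv4 F443872)) (tt N94283 F429903) (tt N64036 (iv6 D203807)) (tt N107254 (iv7 F457661)))
theorem Q100665 : ∀ i, i < 100665 → P i := stepQ 100664 Q100664 (allL N100664 (tt N103910 (iv1 F443327)) (tt N73713 (iv0 F429907)) (tt N102697 (iv2 F438235)) (tt N69207 F429904) (tt N107628 (iv4 F458997)) (tt N66393 F429905) (tt N71352 F429906) (tt N64045 (iv7 D203808)))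
theorem Q100666 : ∀ i, i < 100666 → P i := stepQ 100665 Q100665 (allL N100665 (tt N87355 F429911) (tt N87359 (iv0 F429912)) (tt N100668 (iv2 F429925)) (tt N64047 F429908) (tt N82936 F429909) (tt N100377 F429910) (tt N64046 (iv6 D203809)) (tt N102695 (iv7 F438227)))
theorem Q100667 : ∀ i, i < 100667 → P i := stepQ 100666 Q100666 (allL N100666 (tt N64057 (iv1 D203810)) (tt N64078 F429913) (tt N64076 F429917) (tt N111089 (iv3 F474606)) (tt N112838 (iv4 F482883)) (tt N67604 F429915) (tt N79225 (iv6 F429916)) (tt N64077 F429914))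
theorem Q100668 : ∀ i, i < 100668 → P i := stepQ 100667 Q100667 (allL N100667 (tt N97394 F429922) (tt N97404 (iv0 F429923)) (tt N97402 F429924) (tt N64058 (iv3 D203811)) (tt N80215 F429918) (tt N67907 F429919) (tt N65846 F429920) (tt N65875 F429921))
theorem Q100669 : ∀ i, i < 100669 → P i := stepQ 100668 Q100668 (allL N100668 (tt N101238 F432356) (tt N110774 (iv0 F473139)) (tt N100665 F429925) (tt N78578 F429926) (tt N83151 F429927) (tt N77571 F429928) (tt N64061 (iv6 D203812)) (tt N115569 (iv7 F495813)))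
theorem Q100670 : ∀ i, i < 100670 → P i := stepQ 100669 Q100669 (allL N100669 (tt N64062 (iv1 D203813)) (tt N70492 F429929) (tt N64483 F429934) (tt N81049 (iv3 F429932)) (tt N64470 F429931) (tt N120021 (iv5 F518599)) (tt N70517 (iv6 F429933)) (tt N64480 F429930))
theorem Q100671 : ∀ i, i < 100671 → P i := stepQ 100670 Q100670 (allL N100670 (tt N80282 (iv1 F429940)) (tt N79779 (iv0 F429941)) (tt N80281 F429935) (tt N64067 (iv3 D203814)) (tt N78437 F429939) (tt N69245 F429936) (tt N80744 F429937) (tt N80068 F429938))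
theorem Q100672 : ∀ i, i < 100672 → P i := stepQ 100671 Q100671 (allL N100671 (tt N82394 F429946) (tt N92050 F429947) (tt N69294 F429942) (tt N97504 F429943) (tt N64067 (iv4 D203815)) (tt N103325 (iv5 F441144)) (tt N97540 F429944) (tt N80069 F429945))
theorem Q100673 : ∀ i, i < 100673 → P i := stepQ 100672 Q100672 (allL N100672 (tt N97402 (iv1 F429952)) (tt N65875 (iv0 F429950)) (tt N97404 (iv2 F429951)) (tt N64074 (iv3 D203816)) (tt N112490 (iv4 F481323)) (tt N104108 (iv5 F444213)) (tt N79764 F429948) (tt N97394 F429949))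
theorem Q100674 : ∀ i, i < 100674 → P i := stepQ 100673 Q100673 (allL N100673 (tt N64075 (iv1 D203817)) (tt N91989 F429953) (tt N79347 F429956) (tt N91887 (iv3 F429955)) (tt N80063 (iv4 F429954)) (tt N114835 (iv5 F492121)) (tt N91884 F429957) (tt N102969 (iv7 F439497)))
theorem Q100675 : ∀ i, i < 100675 → P i := stepQ 100674 Q100674 (allL N100674 (tt N111650 (iv1 F477307)) (tt N88024 F429960) (tt N107080 (iv2 F456883)) (tt N79258 F429958) (tt N106403 (iv4 F454312)) (tt N64075 (iv5 D203818)) (tt N91894 F429959) (tt N106412 (iv7 F454333)))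
theorem Q100676 : ∀ i, i < 100676 → P i := stepQ 100675 Q100675 (allL N100675 (tt N65877 (iv1 F429965)) (tt N87537 (iv0 F429966)) (tt N111104 (iv2 F474686)) (tt N64076 (iv3 D203819)) (tt N78499 F429964) (tt N102831 (iv5 F438845)) (tt N79226 F429962) (tt N97367 F429963))
theorem Q100677 : ∀ i, i < 100677 → P i := stepQ 100676 Q100676 (allL N100676 (tt N112507 F481418) (tt N82510 F429968) (tt N112838 F482884) (tt N117643 (iv3 F506175)) (tt N64076 (iv4 D203820)) (tt N113080 (iv5 F483883)) (tt N79227 F429967) (tt N102833 (iv7 F438857)))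
theorem Q100678 : ∀ i, i < 100678 → P i := stepQ 100677 Q100677 (allL N100677 (tt N101555 (iv1 F433386)) (tt N64079 (iv0 F429972)) (tt N111105 (iv2 F474693)) (tt N64077 (iv3 D203821)) (tt N96523 F429969) (tt N71742 F429970) (tt N71745 F429971) (tt N111089 (iv7 F474608)))
theorem Q100679 : ∀ i, i < 100679 → P i := stepQ 100678 Q100678 (allL N100678 (tt N111105 (iv1 F474699)) (tt N111089 (iv0 F474609)) (tt N64079 (iv2 D203822)) (tt N112846 (iv3 F482931)) (tt N79133 F429973) (tt N70505 F429974) (tt N112227 (iv6 F480145)) (tt N101555 (iv7 F433384)))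
theorem Q100680 : ∀ i, i < 100680 → P i := stepQ 100679 Q100679 (allL N100679 (tt N79236 (iv1 F430099)) (tt N111472 (iv0 F476500)) (tt N112227 (iv2 F480143)) (tt N64081 F429975) (tt N65052 F429976) (tt N112089 (iv5 F479444)) (tt N64079 (iv6 D203823)) (tt N64109 (iv7 F429977)))
theorem Q100681 : ∀ i, i < 100681 → P i := stepQ 100680 Q100680 (allL N100680 (tt N82214 F429982) (tt N79588 F429983) (tt N64115 F429978) (tt N112089 F479446) (tt N98793 F429979) (tt N64081 (iv5 D203824)) (tt N65873 F429980) (tt N64111 F429981))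
theorem Q100682 : ∀ i, i < 100682 → P i := stepQ 100681 Q100681 (allL N100681 (tt N107078 F456875) (tt N97399 F429984) (tt N64082 (iv2 D203826)) (tt N101555 (iv3 F433383)) (tt N97440 F429985) (tt N104407 (iv5 F445631)) (tt N109229 (iv6 F465875)) (tt N112846 (iv7 F482935)))
theorem Q100683 : ∀ i, i < 100683 → P i := stepQ 100682 Q100682 (allL N100682 (tt N80059 F429992) (tt N80056 F429990) (tt N97440 F429986) (tt N65428 F429987) (tt N64082 (iv4 D203827)) (tt N103324 (iv5 F441140)) (tt N80737 F429988) (tt N78411 F429989))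
theorem Q100684 : ∀ i, i < 100684 → P i := stepQ 100683 Q100683 (allL N100683 (tt N112151 (iv1 F479767)) (tt N91818 (iv0 F429997)) (tt N81761 F429993) (tt N64085 (iv3 D203828)) (tt N71709 F429994) (tt N102102 (iv5 F435732)) (tt N80358 F429995) (tt N79536 F429996))
theorem Q100685 : ∀ i, i < 100685 → P i := stepQ 100684 Q100684 (allL N100684 (tt N79543 (iv1 F430000)) (tt N64087 (iv0 D203829)) (tt N79542 (iv2 F429999)) (tt N67476 F429998) (tt N109600 (iv4 F467668)) (tt N108957 (iv5 F464659)) (tt N87920 (iv6 F430002)) (tt N67472 F430001))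
theorem Q100686 : ∀ i, i < 100686 → P i := stepQ 100685 Q100685 (allL N100685 (tt N79542 (iv1 F430008)) (tt N67472 F430007) (tt N64087 (iv2 D203830)) (tt N93614 F430003) (tt N64092 F430004) (tt N93613 (iv5 F430009)) (tt N97846 F430005) (tt N79543 F430006))
theorem Q100687 : ∀ i, i < 100687 → P i := stepQ 100686 Q100686 (allL N100686 (tt N95031 (iv1 F430015)) (tt N95030 F430014) (tt N93613 F430010) (tt N64088 F430011) (tt N95050 F430012) (tt N64087 (iv5 D203831)) (tt N102173 (iv6 F436036)) (tt N79544 F430013))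
theorem Q100688 : ∀ i, i < 100688 → P i := stepQ 100687 Q100687 (allL N100687 (tt N78411 (iv1 F430020)) (tt N97440 (iv0 F430021)) (tt N80059 F430016) (tt N102173 (iv3 F436034)) (tt N64264 F430017) (tt N68798 F430018) (tt N64088 (iv6 D203832)) (tt N80056 F430019))
theorem Q100689 : ∀ i, i < 100689 → P i := stepQ 100688 Q100688 (allL N100688 (tt N94927 (iv1 F430025)) (tt N112288 F480377) (tt N97079 F430022) (tt N64090 (iv3 D203833)) (tt N94958 F430024) (tt N103144 (iv5 F440277)) (tt N103145 (iv6 F440280)) (tt N79550 F430023))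
theorem Q100690 : ∀ i, i < 100690 → P i := stepQ 100689 Q100689 (allL N100689 (tt N97423 (iv1 F430030)) (tt N81672 F430029) (tt N79554 F430026) (tt N112501 (iv3 F481382)) (tt N64090 (iv4 D203834)) (tt N100799 (iv5 F430526)) (tt N64102 F430027) (tt N79551 F430028))
theorem Q100691 : ∀ i, i < 100691 → P i := stepQ 100690 Q100690 (allL N100690 (tt N82040 (iv1 F430033)) (tt N64094 (iv0 D203835)) (tt N70504 (iv2 F430034)) (tt N67034 F430031) (tt N101760 (iv4 F434222)) (tt N109610 (iv5 F467724)) (tt N67032 F430032) (tt N90505 (iv7 F430035)))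
theorem Q100692 : ∀ i, i < 100692 → P i := stepQ 100691 Q100691 (allL N100691 (tt N64094 (iv1 D203836)) (tt N82040 F430036) (tt N90505 F430039) (tt N70517 (iv3 F430038)) (tt N112537 (iv4 F481563)) (tt N111812 (iv5 F478102)) (tt N81049 F430040) (tt N70504 F430037))
theorem Q100693 : ∀ i, i < 100693 → P i := stepQ 100692 Q100692 (allL N100692 (tt N91933 F430044) (tt N102137 (iv0 F435900)) (tt N103962 (iv2 F443543)) (tt N64095 (iv3 D203837)) (tt N81770 F430041) (tt N103961 (iv5 F443542)) (tt N79861 F430042) (tt N79499 F430043))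
theorem Q100694 : ∀ i, i < 100694 → P i := stepQ 100693 Q100693 (allL N100693 (tt N79505 (iv1 F430045)) (tt N64097 (iv0 D203838)) (tt N79504 (iv2 F430056)) (tt N112156 (iv3 F479791)) (tt N97086 (iv4 F430046)) (tt N93938 F430047) (tt N112150 (iv6 F479759)) (tt N79503 F430055))
theorem Q100695 : ∀ i, i < 100695 → P i := stepQ 100694 Q100694 (allL N100694 (tt N64097 (iv1 D203839)) (tt N79505 (iv0 F430050)) (tt N79503 F430052) (tt N95533 (iv3 F430051)) (tt N81777 (iv4 F430048)) (tt N93934 F430053) (tt N87026 F430049) (tt N79504 (iv7 F430054)))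
theorem Q100696 : ∀ i, i < 100696 → P i := stepQ 100695 Q100695 (allL N100695 (tt N79504 (iv1 F430063)) (tt N79503 F430062) (tt N64097 (iv2 D203840)) (tt N95032 F430058) (tt N64101 F430059) (tt N108932 (iv5 F464551)) (tt N87024 F430060) (tt N79505 F430061))
theorem Q100697 : ∀ i, i < 100697 → P i := stepQ 100696 Q100696 (allL N100696 (tt N91662 F430066) (tt N112502 (iv0 F481391)) (tt N108932 (iv2 F464550)) (tt N64098 F430064) (tt N119084 (iv4 F513703)) (tt N64097 (iv5 D203841)) (tt N116459 (iv6 F500241)) (tt N79506 F430065))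
theorem Q100698 : ∀ i, i < 100698 → P i := stepQ 100697 Q100697 (allL N100697 (tt N95337 F430072) (tt N95335 (iv0 F430073)) (tt N79526 F430067) (tt N91934 F430068) (tt N64099 (iv4 D203842)) (tt N91485 F430071) (tt N93162 F430069) (tt N79523 F430070))
theorem Q100699 : ∀ i, i < 100699 → P i := stepQ 100698 Q100698 (allL N100698 (tt N80987 (iv1 F430076)) (tt N76880 (iv0 F430077)) (tt N102848 (iv2 F438922)) (tt N64100 (iv3 D203843)) (tt N104233 (iv4 F444840)) (tt N102774 (iv5 F438584)) (tt N68550 F430074) (tt N68551 F430075))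
theorem Q100700 : ∀ i, i < 100700 → P i := stepQ 100699 Q100699 (allL N100699 (tt N95335 F430082) (tt N95337 (iv0 F430083)) (tt N79523 F430078) (tt N112107 (iv3 F479510)) (tt N64100 (iv4 D203844)) (tt N91486 F430081) (tt N91296 F430079) (tt N79526 F430080))
theorem Q100701 : ∀ i, i < 100701 → P i := stepQ 100700 Q100700 (allL N100700 (tt N112227 (iv1 F480148)) (tt N64109 F433822) (tt N111472 (iv2 F476496)) (tt N64104 (iv3 D203845)) (tt N101677 (iv4 F433819)) (tt N110588 (iv5 F472255)) (tt N101904 (iv6 F434893)) (tt N79236 F430084))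
theorem Q100702 : ∀ i, i < 100702 → P i := stepQ 100701 Q100701 (allL N100701 (tt N101902 (iv1 F434883)) (tt N101901 F434879) (tt N79580 F430085) (tt N96368 F430088) (tt N64104 (iv4 D203846)) (tt N96371 (iv5 F430089)) (tt N96366 F430086) (tt N79239 F430087))
theorem Q100703 : ∀ i, i < 100703 → P i := stepQ 100702 Q100702 (allL N100702 (tt N117784 (iv1 F506958)) (tt N117881 F507408) (tt N92320 F430090) (tt N73325 F430091) (tt N64106 (iv4 D203847)) (tt N117856 (iv5 F507295)) (tt N73323 F430092) (tt N79587 F430093))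
theorem Q100704 : ∀ i, i < 100704 → P i := stepQ 100703 Q100703 (allL N100703 (tt N64109 (iv1 D203849)) (tt N112227 (iv0 F480149)) (tt N79236 F430096) (tt N79603 (iv3 F430094)) (tt N101678 (iv4 F433828)) (tt N117473 (iv5 F505209)) (tt N64138 (iv6 F430095)) (tt N111472 (iv7 F476499)))
theorem Q100705 : ∀ i, i < 100705 → P i := stepQ 100704 Q100704 (allL N100704 (tt N111472 F476501) (tt N79236 (iv0 F430098)) (tt N64109 (iv2 D203850)) (tt N109335 (iv3 F466437)) (tt N65051 F430097) (tt N112088 (iv5 F479437)) (tt N109333 F466426) (tt N112227 (iv7 F480146)))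
theorem Q100706 : ∀ i, i < 100706 → P i := stepQ 100705 Q100705 (allL N100705 (tt N98292 F430101) (tt N87018 (iv0 F430102)) (tt N109333 (iv2 F466422)) (tt N64112 F430100) (tt N101517 (iv4 F433226)) (tt N109285 F466186) (tt N64109 (iv6 D203851)) (tt N111837 (iv7 F478228)))
theorem Q100707 : ∀ i, i < 100707 → P i := stepQ 100706 Q100706 (allL N100706 (tt N64114 (iv1 F430105)) (tt N64110 (iv0 D203852)) (tt N79335 F430107) (tt N95749 (iv3 F430106)) (tt N75297 F430104) (tt N100152 F430103) (tt N75296 F430108) (tt N111517 (iv7 F476686)))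
theorem Q100708 : ∀ i, i < 100708 → P i := stepQ 100707 Q100707 (allL N100707 (tt N64110 (iv1 D203853)) (tt N64114 F430109) (tt N111517 (iv2 F476682)) (tt N68590 (iv3 F430113)) (tt N81800 F430111) (tt N68588 F430112) (tt N64140 F430114) (tt N79335 F430110))
theorem Q100709 : ∀ i, i < 100709 → P i := stepQ 100708 Q100708 (allL N100708 (tt N105347 (iv1 F449812)) (tt N102397 (iv0 F437061)) (tt N88508 F430115) (tt N64110 (iv3 D203854)) (tt N118816 (iv4 F512226)) (tt N80002 F430116) (tt N88506 F430117) (tt N100393 F430118))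
theorem Q100710 : ∀ i, i < 100710 → P i := stepQ 100709 Q100709 (allL N100709 (tt N64115 (iv1 F430121)) (tt N64111 (iv0 D203855)) (tt N79588 (iv2 F430120)) (tt N79600 (iv3 F430123)) (tt N112681 (iv4 F482145)) (tt N95774 F430119) (tt N109480 (iv6 F467184)) (tt N82214 F430122))
theorem Q100711 : ∀ i, i < 100711 → P i := stepQ 100710 Q100710 (allL N100710 (tt N65959 F430127) (tt N65952 (iv0 F430128)) (tt N65956 F430129) (tt N78413 F430124) (tt N64113 (iv4 D203857)) (tt N103432 (iv5 F441607)) (tt N78411 F430125) (tt N65957 F430126))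
theorem Q100712 : ∀ i, i < 100712 → P i := stepQ 100711 Q100711 (allL N100711 (tt N79699 F430135) (tt N88324 F430136) (tt N79718 F430131) (tt N79362 F430132) (tt N83591 F430137) (tt N64119 (iv5 D203858)) (tt N79361 F430133) (tt N79716 F430134))
theorem Q100713 : ∀ i, i < 100713 → P i := stepQ 100712 Q100712 (allL N100712 (tt N88324 F430141) (tt N79699 F430142) (tt N79716 F430138) (tt N65554 F430139) (tt N83590 F430143) (tt N64120 (iv5 D203859)) (tt N102218 (iv6 F436237)) (tt N79718 F430140))
theorem Q100714 : ∀ i, i < 100714 → P i := stepQ 100713 Q100713 (allL N100713 (tt N79628 (iv1 F430145)) (tt N64121 (iv0 D203860)) (tt N79627 F430148) (tt N85736 F430144) (tt N120265 D223524) (tt N111468 (iv5 F476477)) (tt N92536 (iv6 F430146)) (tt N79626 (iv7 F430147)))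
theorem Q100715 : ∀ i, i < 100715 → P i := stepQ 100714 Q100714 (allL N100714 (tt N64121 (iv1 D203861)) (tt N79628 (iv0 F430154)) (tt N79626 F430151) (tt N91812 (iv3 F430150)) (tt N117445 (iv4 F505067)) (tt N87181 F430152) (tt N86970 F430153) (tt N79627 F430149))
theorem Q100716 : ∀ i, i < 100716 → P i := stepQ 100715 Q100715 (allL N100715 (tt N79627 (iv1 F430159)) (tt N79626 F430158) (tt N64121 (iv2 D203862)) (tt N64124 F430155) (tt N79674 F430156) (tt N111640 (iv5 F477266)) (tt N120266 D223525) (tt N79628 F430157))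
theorem Q100717 : ∀ i, i < 100717 → P i := stepQ 100716 Q100716 (allL N100716 (tt N111757 F477818) (tt N67299 (iv0 F430163)) (tt N120266 (iv2 F519907)) (tt N64122 F430160) (tt N79675 F430161) (tt N120267 D223526) (tt N64121 (iv6 D203863)) (tt N78524 F430162))
theorem Q100718 : ∀ i, i < 100718 → P i := stepQ 100717 Q100717 (allL N100717 (tt N81546 F430166) (tt N95734 F430167) (tt N64128 F430164) (tt N120267 (iv3 F519915)) (tt N120268 D223527) (tt N64122 (iv5 D203864)) (tt N111644 (iv6 F477279)) (tt N78525 F430165))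
theorem Q100719 : ∀ i, i < 100719 → P i := stepQ 100718 Q100718 (allL N100718 (tt N112400 F480943) (tt N112155 (iv0 F479789)) (tt N112822 (iv2 F482790)) (tt N64123 (iv3 D203865)) (tt N78449 F430168) (tt N111501 (iv5 F476620)) (tt N115788 (iv6 F496883)) (tt N79641 F430169))
theorem Q100720 : ∀ i, i < 100720 → P i := stepQ 100719 Q100719 (allL N100719 (tt N79320 F430172) (tt N79318 F430173) (tt N64125 F430170) (tt N111640 (iv3 F477265)) (tt N114811 (iv4 F491996)) (tt N64124 (iv5 D203866)) (tt N120269 D223528) (tt N79645 F430171))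
theorem Q100721 : ∀ i, i < 100721 → P i := stepQ 100720 Q100720 (allL N100720 (tt N109912 (iv1 F469184)) (tt N112150 F479760) (tt N64126 F430174) (tt N120266 (iv3 F519908)) (tt N64135 F430175) (tt N88346 F430176) (tt N64124 (iv6 D203867)) (tt N104398 (iv7 F445596)))
theorem Q100722 : ∀ i, i < 100722 → P i := stepQ 100721 Q100721 (allL N100721 (tt N88316 F430179) (tt N88315 F430180) (tt N114811 (iv2 F491995)) (tt N111621 (iv3 F477186)) (tt N64125 (iv4 D203868)) (tt N84703 F430178) (tt N102978 (iv6 F439526)) (tt N79646 F430177))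
theorem Q100723 : ∀ i, i < 100723 → P i := stepQ 100722 Q100722 (allL N100722 (tt N111498 (iv1 F476609)) (tt N111495 (iv0 F476598)) (tt N120269 (iv2 F519926)) (tt N64127 F430182) (tt N102978 F439528) (tt N104408 (iv5 F445638)) (tt N64125 (iv6 D203869)) (tt N115968 (iv7 F497823)))
theorem Q100724 : ∀ i, i < 100724 → P i := stepQ 100723 Q100723 (allL N100723 (tt N64126 (iv1 D203870)) (tt N104398 (iv0 F445598)) (tt N112150 (iv2 F479755)) (tt N118866 (iv3 F512480)) (tt N104263 F445012) (tt N104411 (iv5 F445648)) (tt N79504 (iv6 F445013)) (tt N109912 (iv7 F469181)))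
theorem Q100725 : ∀ i, i < 100725 → P i := stepQ 100724 Q100724 (allL N100724 (tt N111645 (iv1 F477291)) (tt N64127 (iv0 D203871)) (tt N111642 (iv2 F477289)) (tt N115811 (iv3 F497018)) (tt N114857 (iv4 F492198)) (tt N115810 F497016) (tt N114156 F488787) (tt N111643 F477290))
theorem Q100726 : ∀ i, i < 100726 → P i := stepQ 100725 Q100725 (allL N100725 (tt N64127 (iv1 D203872)) (tt N111645 F477287) (tt N111643 (iv2 F477281)) (tt N119222 (iv3 F514446)) (tt N112471 F492132) (tt N106695 (iv5 F455312)) (tt N88044 (iv6 F430183)) (tt N111642 (iv7 F477288)))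
theorem Q100727 : ∀ i, i < 100727 → P i := stepQ 100726 Q100726 (allL N100726 (tt N115815 F497044) (tt N115741 (iv0 F496612)) (tt N111644 (iv2 F477278)) (tt N104408 (iv3 F445636)) (tt N114865 F492236) (tt N64127 (iv5 D203873)) (tt N64128 F430184) (tt N120270 D223529))
theorem Q100728 : ∀ i, i < 100728 → P i := stepQ 100727 Q100727 (allL N100727 (tt N111643 (iv1 F477277)) (tt N111642 F477286) (tt N111645 (iv2 F477282)) (tt N115968 (iv3 F497820)) (tt N111624 (iv4 F477198)) (tt N120270 (iv5 F519936)) (tt N79652 F430185) (tt N64127 (iv7 D203874)))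
theorem Q100729 : ∀ i, i < 100729 → P i := stepQ 100728 Q100728 (allL N100728 (tt N64128 (iv1 D203875)) (tt N78525 F430186) (tt N95734 F430190) (tt N86405 (iv3 F430189)) (tt N86427 F430191) (tt N79871 F430188) (tt N86424 F430192) (tt N81546 F430187))
theorem Q100730 : ∀ i, i < 100730 → P i := stepQ 100729 Q100729 (allL N100729 (tt N112391 (iv1 F480890)) (tt N120271 D223530) (tt N120268 (iv2 F519920)) (tt N104405 (iv3 F445625)) (tt N64128 (iv4 D203876)) (tt N111074 (iv5 F474539)) (tt N114865 (iv6 F492237)) (tt N112401 (iv7 F480946)))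
theorem Q100731 : ∀ i, i < 100731 → P i := stepQ 100730 Q100730 (allL N100730 (tt N91186 F443828) (tt N101959 (iv0 F435095)) (tt N118942 (iv2 F512876)) (tt N64129 (iv3 D203877)) (tt N111029 (iv4 F474336)) (tt N73680 (iv5 F430196)) (tt N71713 F430194) (tt N79861 F430195))
theorem Q100732 : ∀ i, i < 100732 → P i := stepQ 100731 Q100731 (allL N100731 (tt N95665 F430201) (tt N95610 F430202) (tt N79864 F430197) (tt N73680 F430198) (tt N120272 D223531) (tt N64129 (iv5 D203878)) (tt N85746 F430199) (tt N79862 F430200))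
theorem Q100733 : ∀ i, i < 100733 → P i := stepQ 100732 Q100732 (allL N100732 (tt N95610 F430207) (tt N95665 F430208) (tt N79862 F430203) (tt N68381 F430204) (tt N115209 (iv4 F494030)) (tt N64130 (iv5 D203879)) (tt N68380 F430205) (tt N79864 F430206))
theorem Q100734 : ∀ i, i < 100734 → P i := stepQ 100733 Q100733 (allL N100733 (tt N79784 F430212) (tt N79780 F430213) (tt N80284 F430209) (tt N118423 (iv3 F510270)) (tt N69885 F430211) (tt N64139 (iv5 D203880)) (tt N102690 F438216) (tt N80283 F430210))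
theorem Q100735 : ∀ i, i < 100735 → P i := stepQ 100734 Q100734 (allL N100734 (tt N79780 F430218) (tt N79784 F430219) (tt N80283 F430214) (tt N67588 F430215) (tt N103561 (iv4 F442048)) (tt N64140 (iv5 D203881)) (tt N67586 F430216) (tt N80284 F430217))
theorem Q100736 : ∀ i, i < 100736 → P i := stepQ 100735 Q100735 (allL N100735 (tt N112490 F481325) (tt N97401 (iv0 F430223)) (tt N104779 (iv2 F447225)) (tt N64144 (iv3 D203882)) (tt N64146 F430220) (tt N104342 (iv5 F445338)) (tt N88684 (iv6 F430222)) (tt N97639 F430221))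
theorem Q100737 : ∀ i, i < 100737 → P i := stepQ 100736 Q100736 (allL N100736 (tt N79718 F430227) (tt N79716 F430228) (tt N88324 F430224) (tt N104342 (iv3 F445337)) (tt N83579 F430225) (tt N64144 (iv5 D203883)) (tt N88327 (iv6 F430229)) (tt N79699 F430226))
theorem Q100738 : ∀ i, i < 100738 → P i := stepQ 100737 Q100737 (allL N100737 (tt N97757 (iv1 F430234)) (tt N111682 (iv0 F477460)) (tt N97638 F430230) (tt N88684 F430231) (tt N64145 F430232) (tt N90416 F430233) (tt N64144 (iv6 D203884)) (tt N102162 (iv7 F435984)))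
theorem Q100739 : ∀ i, i < 100739 → P i := stepQ 100738 Q100738 (allL N100738 (tt N64148 (iv1 D203885)) (tt N101873 (iv0 F434775)) (tt N84136 F430240) (tt N76541 (iv3 F430238)) (tt N66878 F430237) (tt N76538 F430236) (tt N76878 (iv6 F430239)) (tt N74527 F430235))
theorem Q100740 : ∀ i, i < 100740 → P i := stepQ 100739 Q100739 (allL N100739 (tt N79797 (iv1 F430242)) (tt N64149 (iv0 D203886)) (tt N79796 F430251) (tt N94423 F430241) (tt N115436 (iv4 F495190)) (tt N101595 (iv5 F433486)) (tt N115435 (iv6 F495187)) (tt N79795 (iv7 F430243)))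
theorem Q100741 : ∀ i, i < 100741 → P i := stepQ 100740 Q100740 (allL N100740 (tt N64149 (iv1 D203887)) (tt N79797 F430248) (tt N79795 (iv2 F430249)) (tt N111047 F474414) (tt N111075 (iv4 F474540)) (tt N101596 (iv5 F433489)) (tt N107767 (iv6 F459632)) (tt N79796 (iv7 F430250)))
theorem Q100742 : ∀ i, i < 100742 → P i := stepQ 100741 Q100741 (allL N100741 (tt N79796 (iv1 F430252)) (tt N79795 F430247) (tt N64149 (iv2 D203888)) (tt N64153 F430244) (tt N79839 F430245) (tt N111696 (iv5 F477543)) (tt N101964 F435112) (tt N79797 F430246))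
theorem Q100743 : ∀ i, i < 100743 → P i := stepQ 100742 Q100742 (allL N100742 (tt N95733 F430256) (tt N95731 F430257) (tt N64159 F430253) (tt N94415 F430254) (tt N112806 (iv4 F482695)) (tt N64150 (iv5 D203889)) (tt N111554 (iv6 F476894)) (tt N82408 F430255))
theorem Q100744 : ∀ i, i < 100744 → P i := stepQ 100743 Q100743 (allL N100743 (tt N79801 (iv1 F430263)) (tt N79800 F430262) (tt N64151 (iv2 D203890)) (tt N79805 F430258) (tt N87778 F430259) (tt N111414 (iv5 F476237)) (tt N97766 F430260) (tt N79802 F430261))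
theorem Q100745 : ∀ i, i < 100745 → P i := stepQ 100744 Q100744 (allL N100744 (tt N80009 F430266) (tt N95291 F430267) (tt N64155 F430264) (tt N101964 (iv3 F435107)) (tt N64164 F430265) (tt N107120 (iv5 F457068)) (tt N64153 (iv6 D203891)) (tt N109903 (iv7 F469141)))
theorem Q100746 : ∀ i, i < 100746 → P i := stepQ 100745 Q100745 (allL N100745 (tt N101900 (iv1 F434872)) (tt N101905 (iv0 F434896)) (tt N87243 F430268) (tt N87269 F430269) (tt N64154 (iv4 D203892)) (tt N112436 (iv5 F481103)) (tt N87241 (iv6 F430271)) (tt N79809 F430270))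
theorem Q100747 : ∀ i, i < 100747 → P i := stepQ 100746 Q100746 (allL N100746 (tt N88123 (iv1 F430276)) (tt N88090 (iv0 F430277)) (tt N87242 F430272) (tt N64156 F430273) (tt N87241 F430274) (tt N107437 (iv5 F458338)) (tt N64154 (iv6 D203893)) (tt N88120 (iv7 F430275)))
theorem Q100748 : ∀ i, i < 100748 → P i := stepQ 100747 Q100747 (allL N100747 (tt N64155 (iv1 D203894)) (tt N109903 F469140) (tt N95291 F430283) (tt N72342 (iv3 F430281)) (tt N80010 F430279) (tt N72341 F430280) (tt N81772 (iv6 F430282)) (tt N80009 F430278))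
theorem Q100749 : ∀ i, i < 100749 → P i := stepQ 100748 Q100748 (allL N100748 (tt N95289 F430286) (tt N94421 F430287) (tt N107120 (iv2 F457067)) (tt N64159 F430284) (tt N78100 F430285) (tt N64155 (iv5 D203895)) (tt N107437 (iv6 F458337)) (tt N107118 (iv7 F457059)))
theorem Q100750 : ∀ i, i < 100750 → P i := stepQ 100749 Q100749 (allL N100749 (tt N108176 (iv1 F461401)) (tt N64156 (iv0 D203896)) (tt N108179 (iv2 F461409)) (tt N117050 (iv3 F503124)) (tt N108105 F461126) (tt N112086 (iv5 F479429)) (tt N117049 (iv6 F503123)) (tt N108104 (iv7 F461127)))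
theorem Q100751 : ∀ i, i < 100751 → P i := stepQ 100750 Q100750 (allL N100750 (tt N118398 (iv1 F510141)) (tt N118276 (iv0 F509478)) (tt N111554 (iv2 F476893)) (tt N107437 F458339) (tt N120273 D223532) (tt N64156 (iv5 D203897)) (tt N64159 F430288) (tt N118397 (iv7 F510131)))
theorem Q100752 : ∀ i, i < 100752 → P i := stepQ 100751 Q100751 (allL N100751 (tt N108104 (iv1 F461121)) (tt N108179 F461411) (tt N108176 (iv2 F461404)) (tt N88120 F430289) (tt N94877 F430290) (tt N118397 (iv5 F510132)) (tt N79818 F430291) (tt N64156 (iv7 D203898)))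
theorem Q100753 : ∀ i, i < 100753 → P i := stepQ 100752 Q100752 (allL N100752 (tt N112131 F479656) (tt N96480 (iv0 F430294)) (tt N118207 (iv2 F509144)) (tt N64158 (iv3 D203899)) (tt N79861 F430292) (tt N106315 F453993) (tt N81770 F430293) (tt N111029 (iv7 F474339)))
theorem Q100754 : ∀ i, i < 100754 → P i := stepQ 100753 Q100753 (allL N100753 (tt N93393 F430295) (tt N93395 F430296) (tt N112806 (iv2 F482694)) (tt N106458 F454535) (tt N64159 (iv4 D203900)) (tt N112825 (iv5 F482809)) (tt N120273 (iv6 F519954)) (tt N111030 (iv7 F474345)))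
theorem Q100755 : ∀ i, i < 100755 → P i := stepQ 100754 Q100754 (allL N100754 (tt N109384 (iv1 F466693)) (tt N76437 (iv0 F430300)) (tt N79086 (iv2 F430301)) (tt N64167 (iv3 D203901)) (tt N100662 F430297) (tt N64203 F430298) (tt N109725 (iv6 F468303)) (tt N79088 F430299))
theorem Q100756 : ∀ i, i < 100756 → P i := stepQ 100755 Q100755 (allL N100755 (tt N64169 (iv1 D203902)) (tt N64176 F430303) (tt N64174 F430308) (tt N99846 (iv3 F430306)) (tt N76263 F430305) (tt N90854 (iv5 F430309)) (tt N96241 (iv6 F430307)) (tt N64173 F430304))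
theorem Q100757 : ∀ i, i < 100757 → P i := stepQ 100756 Q100756 (allL N100756 (tt N91159 (iv1 F430316)) (tt N91158 F430315) (tt N64175 F430310) (tt N91136 F430311) (tt N81368 F430312) (tt N64169 (iv5 D203903)) (tt N77548 F430313) (tt N91160 F430314))
theorem Q100758 : ∀ i, i < 100758 → P i := stepQ 100757 Q100757 (allL N100757 (tt N64174 (iv1 F430321)) (tt N64173 F430322) (tt N64176 F430317) (tt N114880 (iv3 F492310)) (tt N64172 F430318) (tt N91160 F430319) (tt N78967 F430320) (tt N64169 (iv7 D203904)))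
theorem Q100759 : ∀ i, i < 100759 → P i := stepQ 100758 Q100758 (allL N100758 (tt N77356 F430327) (tt N76337 F430328) (tt N64178 F430323) (tt N77345 F430324) (tt N64170 (iv4 D203905)) (tt N110245 (iv5 F470612)) (tt N99765 F430325) (tt N64181 F430326))
theorem Q100760 : ∀ i, i < 100760 → P i := stepQ 100759 Q100759 (allL N100759 (tt N90856 F430334) (tt N88414 F430333) (tt N90855 F430329) (tt N100428 F430330) (tt N100278 F430332) (tt N64173 (iv5 D203906)) (tt N100174 (iv6 F430335)) (tt N90854 F430331))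
theorem Q100761 : ∀ i, i < 100761 → P i := stepQ 100760 Q100760 (allL N100760 (tt N100952 F431087) (tt N105098 F448781) (tt N100208 F430336) (tt N100429 F430337) (tt N74886 F430338) (tt N76511 F430339) (tt N64173 (iv6 D203907)) (tt N105097 (iv7 F448778)))
theorem Q100762 : ∀ i, i < 100762 → P i := stepQ 100761 Q100761 (allL N100761 (tt N91160 (iv1 F430341)) (tt N64175 (iv0 D203908)) (tt N91159 F430344) (tt N99947 (iv3 F430342)) (tt N101093 (iv4 F431637)) (tt N99946 F430340) (tt N120274 D223533) (tt N91158 (iv7 F430343)))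
theorem Q100763 : ∀ i, i < 100763 → P i := stepQ 100762 Q100762 (allL N100762 (tt N64175 (iv1 D203909)) (tt N91160 F430345) (tt N91158 F430349) (tt N100973 F432606) (tt N76497 F430347) (tt N107003 (iv5 F456608)) (tt N78828 (iv6 F430348)) (tt N91159 F430346))
theorem Q100764 : ∀ i, i < 100764 → P i := stepQ 100763 Q100763 (allL N100763 (tt N98423 (iv1 F430354)) (tt N68182 (iv0 F430353)) (tt N98400 F430350) (tt N64180 F430351) (tt N109853 (iv4 F468922)) (tt N98373 F430352) (tt N64177 (iv6 D203910)) (tt N104943 (iv7 F448053)))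
theorem Q100765 : ∀ i, i < 100765 → P i := stepQ 100764 Q100764 (allL N100764 (tt N64181 (iv1 F430357)) (tt N64178 (iv0 D203911)) (tt N77356 (iv2 F430356)) (tt N108068 (iv3 F460976)) (tt N92811 F430355) (tt N110372 (iv5 F471284)) (tt N78981 (iv6 F430359)) (tt N76337 F430358))
theorem Q100766 : ∀ i, i < 100766 → P i := stepQ 100765 Q100765 (allL N100765 (tt N110365 (iv1 F471247)) (tt N83035 (iv0 F430363)) (tt N110245 (iv2 F470611)) (tt N77147 F430360) (tt N81374 F430361) (tt N64178 (iv5 D203912)) (tt N103069 (iv6 F439941)) (tt N77357 F430362))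
theorem Q100767 : ∀ i, i < 100767 → P i := stepQ 100766 Q100766 (allL N100766 (tt N98497 F430368) (tt N98496 (iv0 F430369)) (tt N100020 F430364) (tt N74482 F430365) (tt N80150 F430366) (tt N119619 (iv5 F516551)) (tt N64179 (iv6 D203913)) (tt N74479 F430367))
theorem Q100768 : ∀ i, i < 100768 → P i := stepQ 100767 Q100767 (allL N100767 (tt N83840 F430371) (tt N99916 (iv0 F430372)) (tt N109066 (iv2 F465186)) (tt N83857 (iv3 F430373)) (tt N64183 (iv4 D203914)) (tt N110248 (iv5 F470627)) (tt N108413 F462473) (tt N84212 F430370))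
theorem Q100769 : ∀ i, i < 100769 → P i := stepQ 100768 Q100768 (allL N100768 (tt N98461 F430377) (tt N98460 (iv0 F430378)) (tt N81465 F430374) (tt N64184 (iv3 D203915)) (tt N109403 (iv4 F466787)) (tt N75699 F430375) (tt N78613 (iv6 F430379)) (tt N98467 F430376))
theorem Q100770 : ∀ i, i < 100770 → P i := stepQ 100769 Q100769 (allL N100769 (tt N86479 F430384) (tt N100203 (iv0 F430385)) (tt N98474 F430380) (tt N78613 F430381) (tt N117952 (iv4 F507758)) (tt N75700 F430382) (tt N64184 (iv6 D203916)) (tt N80031 F430383))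
theorem Q100771 : ∀ i, i < 100771 → P i := stepQ 100770 Q100770 (allL N100770 (tt N83878 F430389) (tt N84364 F430390) (tt N84215 (iv2 F430391)) (tt N64186 (iv3 D203917)) (tt N83857 F430386) (tt N111785 (iv5 F477957)) (tt N84359 F430387) (tt N84213 F430388))
theorem Q100772 : ∀ i, i < 100772 → P i := stepQ 100771 Q100771 (allL N100771 (tt N109732 (iv1 F468331)) (tt N105003 F448319) (tt N98478 F430392) (tt N73643 F430393) (tt N116064 (iv4 F498290)) (tt N64190 (iv5 D203918)) (tt N64191 F430394) (tt N93121 F430395))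
theorem Q100773 : ∀ i, i < 100773 → P i := stepQ 100772 Q100772 (allL N100772 (tt N98480 (iv1 F430401)) (tt N64192 (iv0 D203919)) (tt N92569 (iv2 F430398)) (tt N90642 F430397) (tt N90687 F430396) (tt N114990 (iv5 F492946)) (tt N64199 F430399) (tt N98479 F430400))
theorem Q100774 : ∀ i, i < 100774 → P i := stepQ 100773 Q100773 (allL N100773 (tt N98479 (iv1 F430407)) (tt N92569 F430408) (tt N98480 F430402) (tt N98553 F430403) (tt N91557 F430404) (tt N78775 F430405) (tt N98481 F430406) (tt N64192 (iv7 D203920)))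
theorem Q100775 : ∀ i, i < 100775 → P i := stepQ 100774 Q100774 (allL N100774 (tt N92224 (iv1 F430411)) (tt N97254 F430412) (tt N98481 F430409) (tt N109799 F468670) (tt N106816 (iv4 F455807)) (tt N104014 (iv5 F443792)) (tt N98480 F430410) (tt N64194 (iv7 D203921)))
theorem Q100776 : ∀ i, i < 100776 → P i := stepQ 100775 Q100775 (allL N100775 (tt N119677 F516867) (tt N85054 (iv0 F430415)) (tt N92223 F430413) (tt N85067 F430414) (tt N120275 D223534) (tt N64196 (iv5 D203922)) (tt N104940 (iv6 F448035)) (tt N109563 (iv7 F467541)))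
theorem Q100777 : ∀ i, i < 100777 → P i := stepQ 100776 Q100776 (allL N100776 (tt N85054 (iv1 F430420)) (tt N119677 (iv0 F516866)) (tt N109563 (iv2 F467539)) (tt N92217 F430416) (tt N120276 D223535) (tt N64197 (iv5 D203923)) (tt N75731 F430418) (tt N92223 F430417))
theorem Q100778 : ∀ i, i < 100778 → P i := stepQ 100777 Q100777 (allL N100777 (tt N93099 F430424) (tt N86481 (iv0 F430423)) (tt N109564 (iv2 F467544)) (tt N74795 F430421) (tt N92645 F430422) (tt N109732 (iv5 F468332)) (tt N64197 (iv6 D203924)) (tt N104935 (iv7 F448018)))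
theorem Q100779 : ∀ i, i < 100779 → P i := stepQ 100778 Q100778 (allL N100778 (tt N64198 (iv1 D203925)) (tt N70831 F430425) (tt N97902 F430429) (tt N70666 F430430) (tt N92617 F430431) (tt N76036 (iv5 F430427)) (tt N70663 (iv6 F430428)) (tt N78946 F430426))
theorem Q100780 : ∀ i, i < 100780 → P i := stepQ 100779 Q100779 (allL N100779 (tt N102494 F437430) (tt N68853 F430435) (tt N97901 F430432) (tt N70709 F430433) (tt N64198 (iv4 D203926)) (tt N117042 (iv5 F503098)) (tt N74897 F430434) (tt N102505 (iv7 F437461)))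
theorem Q100781 : ∀ i, i < 100781 → P i := stepQ 100780 Q100780 (allL N100780 (tt N78386 F430440) (tt N93727 F430441) (tt N93389 F430436) (tt N85263 F430437) (tt N73032 F430438) (tt N64199 (iv5 D203927)) (tt N78388 F430442) (tt N98327 F430439))
theorem Q100782 : ∀ i, i < 100782 → P i := stepQ 100781 Q100781 (allL N100781 (tt N109665 F468007) (tt N109370 F466621) (tt N79087 F430443) (tt N105024 (iv3 F448435)) (tt N111124 (iv4 F474793)) (tt N100163 F430444) (tt N64203 (iv6 D203928)) (tt N109679 (iv7 F468067)))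
theorem Q100783 : ∀ i, i < 100783 → P i := stepQ 100782 Q100782 (allL N100782 (tt N76437 F430449) (tt N109384 (iv0 F466692)) (tt N79088 F430445) (tt N78922 F430446) (tt N115049 (iv4 F493221)) (tt N64204 (iv5 D203929)) (tt N83950 F430447) (tt N79086 F430448))
theorem Q100784 : ∀ i, i < 100784 → P i := stepQ 100783 Q100783 (allL N100783 (tt N79092 (iv1 F430454)) (tt N64205 (iv0 D203930)) (tt N79089 (iv2 F430452)) (tt N69627 F430450) (tt N98359 (iv4 F430455)) (tt N104218 (iv5 F444756)) (tt N87582 F430451) (tt N79090 F430453))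
theorem Q100785 : ∀ i, i < 100785 → P i := stepQ 100784 Q100784 (allL N100784 (tt N109722 (iv1 F468291)) (tt N94019 F430460) (tt N79091 F430458) (tt N115261 (iv3 F494252)) (tt N64205 (iv4 D203931)) (tt N105588 (iv5 F450860)) (tt N64207 F430459) (tt N109746 (iv7 F468415)))
theorem Q100786 : ∀ i, i < 100786 → P i := stepQ 100785 Q100785 (allL N100785 (tt N79090 (iv1 F430464)) (tt N79089 F430465) (tt N79092 F430461) (tt N97186 F430462) (tt N109746 (iv4 F468413)) (tt N64206 F430463) (tt N109745 (iv6 F468410)) (tt N64205 (iv7 D203932)))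
theorem Q100787 : ∀ i, i < 100787 → P i := stepQ 100786 Q100786 (allL N100786 (tt N114367 F489832) (tt N105682 (iv0 F451227)) (tt N70366 F430466) (tt N111670 (iv3 F477401)) (tt N70169 F430469) (tt N64208 (iv5 D203933)) (tt N70733 F430467) (tt N70362 F430468))
theorem Q100788 : ∀ i, i < 100788 → P i := stepQ 100787 Q100787 (allL N100787 (tt N74948 F430473) (tt N74475 (iv0 F430472)) (tt N79077 F430470) (tt N80486 F430471) (tt N110317 (iv4 F471011)) (tt N109038 (iv5 F465041)) (tt N64209 (iv6 D203934)) (tt N111945 (iv7 F478805)))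
theorem Q100789 : ∀ i, i < 100789 → P i := stepQ 100788 Q100788 (allL N100788 (tt N79081 (iv1 F430478)) (tt N64210 (iv0 D203935)) (tt N79078 (iv2 F430475)) (tt N97876 F430476) (tt N94582 F430474) (tt N108793 (iv5 F463969)) (tt N105791 (iv6 F451737)) (tt N79079 F430477))
theorem Q100790 : ∀ i, i < 100790 → P i := stepQ 100789 Q100789 (allL N100789 (tt N70297 F430481) (tt N104967 (iv0 F448188)) (tt N79080 F430479) (tt N105104 (iv3 F448809)) (tt N64210 (iv4 D203936)) (tt N120277 D223536) (tt N64212 F430480) (tt N106858 (iv7 F456031)))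
theorem Q100791 : ∀ i, i < 100791 → P i := stepQ 100790 Q100790 (allL N100790 (tt N79079 (iv1 F430485)) (tt N79078 F430486) (tt N79081 F430482) (tt N68185 F430483) (tt N106858 (iv4 F456026)) (tt N64211 F430484) (tt N114499 (iv6 F490480)) (tt N64210 (iv7 D203937)))
theorem Q100792 : ∀ i, i < 100792 → P i := stepQ 100791 Q100791 (allL N100791 (tt N64230 F430490) (tt N91017 F430491) (tt N79402 F430487) (tt N116206 (iv3 F499009)) (tt N84118 F430488) (tt N64226 (iv5 D203938)) (tt N112733 (iv6 F482418)) (tt N79403 F430489))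
theorem Q100793 : ∀ i, i < 100793 → P i := stepQ 100792 Q100792 (allL N100792 (tt N102258 F436416) (tt N79399 F430495) (tt N64229 (iv2 D203939)) (tt N91017 F430492) (tt N84205 F430493) (tt N104240 (iv5 F444878)) (tt N88173 F430494) (tt N110907 (iv7 F473730)))
theorem Q100794 : ∀ i, i < 100794 → P i := stepQ 100793 Q100793 (allL N100793 (tt N67825 F430500) (tt N67828 (iv0 F430501)) (tt N104590 (iv2 F446434)) (tt N64231 F430496) (tt N100009 F430497) (tt N67595 F430498) (tt N64230 (iv6 D203940)) (tt N99636 F430499))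
theorem Q100795 : ∀ i, i < 100795 → P i := stepQ 100794 Q100794 (allL N100794 (tt N120278 D223537) (tt N112656 (iv0 F482029)) (tt N116977 (iv2 F502787)) (tt N64236 (iv3 D203941)) (tt N109553 (iv4 F467484)) (tt N102046 F435497) (tt N75521 F430502) (tt N80090 F430503))
theorem Q100796 : ∀ i, i < 100796 → P i := stepQ 100795 Q100795 (allL N100795 (tt N80098 (iv1 F430504)) (tt N64237 (iv0 D203942)) (tt N80097 (iv2 F430510)) (tt N103254 (iv3 F440809)) (tt N111091 (iv4 F474616)) (tt N111849 (iv5 F478295)) (tt N103417 (iv6 F441534)) (tt N80096 (iv7 F430511)))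
theorem Q100797 : ∀ i, i < 100797 → P i := stepQ 100796 Q100796 (allL N100796 (tt N64237 (iv1 D203943)) (tt N80098 F430507) (tt N80096 F430508) (tt N97481 (iv3 F430505)) (tt N81995 (iv4 F430506)) (tt N111850 (iv5 F478304)) (tt N103247 (iv6 F440775)) (tt N80097 F430509))
theorem Q100798 : ∀ i, i < 100798 → P i := stepQ 100797 Q100797 (allL N100797 (tt N80097 (iv1 F430516)) (tt N80096 F430515) (tt N64237 (iv2 D203944)) (tt N108958 (iv3 F464664)) (tt N64241 F430512) (tt N97778 F430517) (tt N81788 F430513) (tt N80098 F430514))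
theorem Q100799 : ∀ i, i < 100799 → P i := stepQ 100798 Q100798 (allL N100798 (tt N97777 F430522) (tt N65510 F430521) (tt N97778 F430518) (tt N64238 F430519) (tt N109341 (iv4 F466470)) (tt N64237 (iv5 D203945)) (tt N97771 (iv6 F430523)) (tt N66586 F430520))
theorem Q100800 : ∀ i, i < 100800 → P i := stepQ 100799 Q100799 (allL N100799 (tt N102338 (iv1 F436795)) (tt N67450 (iv0 F430528)) (tt N111596 (iv2 F477081)) (tt N97771 F430524) (tt N93481 F430525) (tt N100689 F430526) (tt N64238 (iv6 D203946)) (tt N97765 F430527))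
theorem Q100801 : ∀ i, i < 100801 → P i := stepQ 100800 Q100800 (allL N100800 (tt N80737 F430533) (tt N109334 (iv0 F466432)) (tt N80122 F430529) (tt N86933 F430534) (tt N64239 (iv4 D203947)) (tt N86932 F430531) (tt N111682 (iv6 F477457)) (tt N80119 F430530))
theorem Q100802 : ∀ i, i < 100802 → P i := stepQ 100801 Q100801 (allL N100801 (tt N109334 (iv1 F466433)) (tt N80737 (iv0 F430539)) (tt N80119 F430535) (tt N66017 F430536) (tt N64240 (iv4 D203948)) (tt N111832 (iv5 F478202)) (tt N66015 F430537) (tt N80122 F430538))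
theorem Q100803 : ∀ i, i < 100803 → P i := stepQ 100802 Q100802 (allL N100802 (tt N101737 (iv1 F434111)) (tt N112665 (iv0 F482078)) (tt N80171 F430540) (tt N87023 F430541) (tt N64243 (iv4 D203949)) (tt N110508 (iv5 F471901)) (tt N107738 (iv6 F459482)) (tt N79823 F430542))
theorem Q100804 : ∀ i, i < 100804 → P i := stepQ 100803 Q100803 (allL N100803 (tt N79850 F430547) (tt N80168 F430548) (tt N64247 F430543) (tt N81161 F430544) (tt N64246 (iv4 D203950)) (tt N91991 F430546) (tt N112106 (iv6 F479505)) (tt N80167 F430545))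
theorem Q100805 : ∀ i, i < 100805 → P i := stepQ 100804 Q100804 (allL N100804 (tt N81785 F430553) (tt N79885 (iv0 F430554)) (tt N64249 F430549) (tt N80173 F430550) (tt N112106 (iv4 F479504)) (tt N70527 F430551) (tt N64246 (iv6 D203951)) (tt N75601 F430552))
theorem Q100806 : ∀ i, i < 100806 → P i := stepQ 100805 Q100805 (allL N100805 (tt N112107 (iv1 F479515)) (tt N112038 (iv0 F479201)) (tt N112106 F479506) (tt N65151 F430555) (tt N64249 F430556) (tt N117328 (iv5 F504481)) (tt N64247 (iv6 D203952)) (tt N80923 F430557))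
theorem Q100807 : ∀ i, i < 100807 → P i := stepQ 100806 Q100806 (allL N100806 (tt N70493 F430562) (tt N120021 (iv0 F518601)) (tt N81500 F430558) (tt N64250 F430559) (tt N98398 F430560) (tt N104185 (iv5 F444580)) (tt N64248 (iv6 D203953)) (tt N73960 F430561))
theorem Q100808 : ∀ i, i < 100808 → P i := stepQ 100807 Q100807 (allL N100807 (tt N75601 (iv1 F430566)) (tt N64249 (iv0 D203954)) (tt N81785 (iv2 F430567)) (tt N67015 F430564) (tt N106721 (iv4 F455402)) (tt N67011 F430563) (tt N65062 F430565) (tt N79885 (iv7 F430568)))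
theorem Q100809 : ∀ i, i < 100809 → P i := stepQ 100808 Q100808 (allL N100808 (tt N64249 (iv1 D203955)) (tt N75601 F430569) (tt N79885 F430574) (tt N90396 (iv3 F430572)) (tt N118300 (iv4 F509586)) (tt N64458 F430571) (tt N65312 (iv6 F430573)) (tt N81785 F430570))
theorem Q100810 : ∀ i, i < 100810 → P i := stepQ 100809 Q100809 (allL N100809 (tt N97099 F430580) (tt N97098 F430581) (tt N64255 F430575) (tt N91003 F430576) (tt N64252 (iv4 D203956)) (tt N97110 F430579) (tt N90998 F430577) (tt N97066 F430578))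
theorem Q100811 : ∀ i, i < 100811 → P i := stepQ 100810 Q100810 (allL N100810 (tt N118744 (iv1 F511854)) (tt N73892 F430589) (tt N97096 F430582) (tt N110310 (iv3 F470974)) (tt N64253 (iv4 D203957)) (tt N120279 D223538) (tt N103811 (iv6 F442923)) (tt N97094 F430583))
theorem Q100812 : ∀ i, i < 100812 → P i := stepQ 100811 Q100811 (allL N100811 (tt N73892 F430588) (tt N118744 (iv0 F511853)) (tt N97094 F430584) (tt N69741 F430585) (tt N64254 (iv4 D203958)) (tt N120253 (iv5 F519828)) (tt N69739 F430586) (tt N97096 F430587))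
theorem Q100813 : ∀ i, i < 100813 → P i := stepQ 100812 Q100812 (allL N100812 (tt N97066 (iv1 F430591)) (tt N64255 (iv0 D203959)) (tt N97099 (iv2 F430592)) (tt N114082 F488511) (tt N94934 F430590) (tt N116571 (iv5 F500789)) (tt N120114 (iv6 F519123)) (tt N97098 (iv7 F430593)))
theorem Q100814 : ∀ i, i < 100814 → P i := stepQ 100813 Q100813 (allL N100813 (tt N64255 (iv1 D203960)) (tt N97066 F430594) (tt N97098 (iv2 F430597)) (tt N109719 (iv3 F468274)) (tt N94933 F430596) (tt N116570 (iv5 F500785)) (tt N109718 (iv6 F468272)) (tt N97099 F430595))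
theorem Q100815 : ∀ i, i < 100815 → P i := stepQ 100814 Q100814 (allL N100814 (tt N116332 F499601) (tt N94305 (iv0 F430602)) (tt N97110 F430598) (tt N84079 F430599) (tt N92339 F430601) (tt N64255 (iv5 D203961)) (tt N116876 (iv6 F502307)) (tt N97100 F430600))
theorem Q100816 : ∀ i, i < 100816 → P i := stepQ 100815 Q100815 (allL N100815 (tt N79829 F430607) (tt N75335 (iv0 F430608)) (tt N64262 F430603) (tt N96983 F430604) (tt N83778 F430605) (tt N102830 (iv5 F438839)) (tt N64261 (iv6 D203962)) (tt N96984 F430606))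
theorem Q100817 : ∀ i, i < 100817 → P i := stepQ 100816 Q100816 (allL N100816 (tt N96984 (iv1 F430612)) (tt N64262 (iv0 D203963)) (tt N79829 (iv2 F430611)) (tt N80076 F430614) (tt N78526 F430609) (tt N103140 (iv5 F440261)) (tt N76168 F430610) (tt N75335 F430613))
theorem Q100818 : ∀ i, i < 100818 → P i := stepQ 100817 Q100817 (allL N100817 (tt N102822 F438809) (tt N102831 F438847) (tt N102830 F438840) (tt N64263 F430615) (tt N115430 (iv4 F495154)) (tt N64262 (iv5 D203964)) (tt N80083 F430616) (tt N67640 F430617))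
theorem Q100819 : ∀ i, i < 100819 → P i := stepQ 100818 Q100818 (allL N100818 (tt N95105 F430621) (tt N102598 F437850) (tt N67639 F430618) (tt N105754 (iv3 F451541)) (tt N64263 (iv4 D203965)) (tt N104537 (iv5 F446180)) (tt N67570 F430619) (tt N67641 F430620))
theorem Q100820 : ∀ i, i < 100820 → P i := stepQ 100819 Q100819 (allL N100819 (tt N117053 (iv1 F503137)) (tt N114960 (iv0 F492772)) (tt N111810 (iv2 F478089)) (tt N64276 F430622) (tt N104605 (iv4 F446502)) (tt N64275 (iv5 D203966)) (tt N105396 (iv6 F450049)) (tt N64456 F430623))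
theorem Q100821 : ∀ i, i < 100821 → P i := stepQ 100820 Q100820 (allL N100820 (tt N94487 F430627) (tt N104148 F444418) (tt N104150 (iv2 F444424)) (tt N64277 (iv3 D203967)) (tt N69111 F430624) (tt N80518 F430625) (tt N104489 (iv6 F445995)) (tt N70343 F430626))
theorem Q100822 : ∀ i, i < 100822 → P i := stepQ 100821 Q100821 (allL N100821 (tt N93278 F430632) (tt N70435 (iv0 F430633)) (tt N70344 F430628) (tt N104489 (iv3 F445994)) (tt N69110 F430629) (tt N98815 F430630) (tt N64277 (iv6 D203968)) (tt N94912 F430631))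
theorem Q100823 : ∀ i, i < 100823 → P i := stepQ 100822 Q100822 (allL N100822 (tt N64437 (iv1 F430638)) (tt N64279 (iv0 D203969)) (tt N64439 (iv2 F430637)) (tt N77203 F430635) (tt N68403 F430634) (tt N70179 (iv5 F430640)) (tt N64903 F430636) (tt N64438 F430639))
theorem Q100824 : ∀ i, i < 100824 → P i := stepQ 100823 Q100823 (allL N100823 (tt N100959 (iv1 F431099)) (tt N120280 D223539) (tt N106488 (iv2 F454643)) (tt N64280 F430641) (tt N71986 (iv4 F430644)) (tt N64279 (iv5 D203970)) (tt N71985 F430642) (tt N64440 F430643))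
theorem Q100825 : ∀ i, i < 100825 → P i := stepQ 100824 Q100824 (allL N100824 (tt N101129 F431831) (tt N99326 (iv0 F430651)) (tt N88504 F430646) (tt N64281 (iv3 D203971)) (tt N67434 F430647) (tt N80088 F430648) (tt N67433 F430649) (tt N80551 F430650))
theorem Q100826 : ∀ i, i < 100826 → P i := stepQ 100825 Q100825 (allL N100825 (tt N117028 (iv1 F503041)) (tt N117027 (iv0 F503034)) (tt N117636 (iv2 F506129)) (tt N64282 (iv3 D203972)) (tt N111675 (iv4 F477423)) (tt N112656 (iv5 F482026)) (tt N95727 F430652) (tt N80554 F430653))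
theorem Q100827 : ∀ i, i < 100827 → P i := stepQ 100826 Q100826 (allL N100826 (tt N80573 (iv1 F430657)) (tt N64285 (iv0 D203973)) (tt N80572 F430665) (tt N96540 F430656) (tt N92080 F430655) (tt N94842 F430654) (tt N94844 (iv6 F430658)) (tt N80571 (iv7 F430659)))
theorem Q100828 : ∀ i, i < 100828 → P i := stepQ 100827 Q100827 (allL N100827 (tt N64285 (iv1 D203974)) (tt N80573 (iv0 F430662)) (tt N80571 (iv2 F430663)) (tt N120281 D223540) (tt N92079 F430660) (tt N118150 (iv5 F508873)) (tt N117027 (iv6 F503035)) (tt N80572 (iv7 F430664)))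
theorem Q100829 : ∀ i, i < 100829 → P i := stepQ 100828 Q100828 (allL N100828 (tt N80572 (iv1 F430671)) (tt N80571 F430670) (tt N64285 (iv2 D203975)) (tt N80566 F430667) (tt N80213 F430668) (tt N118391 (iv5 F510101)) (tt N108453 (iv6 F462650)) (tt N80573 F430669))
theorem Q100830 : ∀ i, i < 100830 → P i := stepQ 100829 Q100829 (allL N100829 (tt N119163 (iv1 F514135)) (tt N117530 (iv0 F505544)) (tt N118391 (iv2 F510098)) (tt N64286 F430673) (tt N66903 F430676) (tt N64285 (iv5 D203976)) (tt N66902 F430674) (tt N80574 F430675))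
theorem Q100831 : ∀ i, i < 100831 → P i := stepQ 100830 Q100830 (allL N100830 (tt N85110 (iv1 F430683)) (tt N72890 (iv0 F430682)) (tt N80569 F430677) (tt N66902 F430678) (tt N70145 F430679) (tt N67067 F430680) (tt N64286 (iv6 D203977)) (tt N93357 F430681))
theorem Q100832 : ∀ i, i < 100832 → P i := stepQ 100831 Q100831 (allL N100831 (tt N94842 F430686) (tt N118150 (iv0 F508875)) (tt N101798 (iv2 F434388)) (tt N64288 (iv3 D203978)) (tt N101268 (iv4 F432458)) (tt N79357 F430684) (tt N101267 F432456) (tt N80588 F430685))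
theorem Q100833 : ∀ i, i < 100833 → P i := stepQ 100832 Q100832 (allL N100832 (tt N112834 (iv1 F482863)) (tt N108172 (iv0 F461390)) (tt N80587 F430687) (tt N101267 (iv3 F432455)) (tt N80589 F430688) (tt N94626 F430689) (tt N64288 (iv6 D203979)) (tt N101761 (iv7 F434224)))
theorem Q100834 : ∀ i, i < 100834 → P i := stepQ 100833 Q100833 (allL N100833 (tt N112861 (iv1 F483014)) (tt N94957 (iv0 F430692)) (tt N118799 F512138) (tt N64289 (iv3 D203980)) (tt N120282 D223541) (tt N79429 F430690) (tt N120283 D223542) (tt N80586 F430691))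
theorem Q100835 : ∀ i, i < 100835 → P i := stepQ 100834 Q100834 (allL N100834 (tt N101406 F432865) (tt N118151 (iv0 F508882)) (tt N80589 F430693) (tt N120283 (iv3 F520014)) (tt N80587 F430694) (tt N95703 F430695) (tt N64289 (iv6 D203981)) (tt N118801 (iv7 F512150)))
theorem Q100836 : ∀ i, i < 100836 → P i := stepQ 100835 Q100835 (allL N100835 (tt N100559 F430700) (tt N100562 F430701) (tt N70491 F430696) (tt N99421 F430697) (tt N96313 F430699) (tt N64291 (iv5 D203982)) (tt N96312 (iv6 F430702)) (tt N70513 F430698))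
theorem Q100837 : ∀ i, i < 100837 → P i := stepQ 100836 Q100836 (allL N100836 (tt N109777 (iv1 F468569)) (tt N88927 F430706) (tt N83286 F430703) (tt N64864 F430710) (tt N64292 (iv4 D203983)) (tt N105604 F450946) (tt N88972 F430704) (tt N82244 F430705))
theorem Q100838 : ∀ i, i < 100838 → P i := stepQ 100837 Q100837 (allL N100837 (tt N120284 D223543) (tt N120285 D223544) (tt N114510 (iv2 F490518)) (tt N64293 (iv3 D203984)) (tt N64864 (iv4 F430709)) (tt N96396 F430707) (tt N102018 (iv6 F435362)) (tt N72294 F430708))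
theorem Q100839 : ∀ i, i < 100839 → P i := stepQ 100838 Q100838 (allL N100838 (tt N105022 (iv1 F448426)) (tt N101077 (iv0 F431561)) (tt N64396 F430712) (tt N113059 (iv3 F483782)) (tt N120286 D223545) (tt N64296 (iv5 D203985)) (tt N120287 D223546) (tt N64393 F430713))
theorem Q100840 : ∀ i, i < 100840 → P i := stepQ 100839 Q100839 (allL N100839 (tt N101077 (iv1 F431562)) (tt N105022 (iv0 F448425)) (tt N64393 F430714) (tt N116327 (iv3 F499576)) (tt N120288 D223547) (tt N64297 (iv5 D203986)) (tt N116663 (iv6 F501199)) (tt N64396 F430715))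
theorem Q100841 : ∀ i, i < 100841 → P i := stepQ 100840 Q100840 (allL N100840 (tt N80522 (iv1 F444463)) (tt N106384 (iv0 F454239)) (tt N64394 F430716) (tt N116204 (iv3 F498997)) (tt N104157 (iv4 F444466)) (tt N101004 F431219) (tt N64297 (iv6 D203987)) (tt N104156 (iv7 F444460)))
theorem Q100842 : ∀ i, i < 100842 → P i := stepQ 100841 Q100841 (allL N100841 (tt N64388 (iv1 F430719)) (tt N64298 (iv0 D203988)) (tt N64399 (iv2 F430718)) (tt N113061 F483797) (tt N116817 (iv4 F501986)) (tt N64549 F430717) (tt N119974 (iv6 F518338)) (tt N64398 F430720))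
theorem Q100843 : ∀ i, i < 100843 → P i := stepQ 100842 Q100842 (allL N100842 (tt N113374 (iv1 F485238)) (tt N116444 (iv0 F500151)) (tt N83437 F430721) (tt N64323 (iv3 F430725)) (tt N64298 (iv4 D203989)) (tt N83434 F430724) (tt N64320 F430722) (tt N64400 F430723))
theorem Q100844 : ∀ i, i < 100844 → P i := stepQ 100843 Q100843 (allL N100843 (tt N120289 D223548) (tt N120290 D223549) (tt N111915 (iv2 F478623)) (tt N64299 (iv3 D203990)) (tt N64323 F430726) (tt N100579 F430727) (tt N64322 F430728) (tt N64417 F430729))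
theorem Q100845 : ∀ i, i < 100845 → P i := stepQ 100844 Q100844 (allL N100844 (tt N104136 (iv1 F444371)) (tt N85996 (iv0 F430734)) (tt N76064 F430730) (tt N64304 (iv3 D203991)) (tt N88991 F430731) (tt N108369 (iv5 F462291)) (tt N76530 F430732) (tt N90175 F430733))
theorem Q100846 : ∀ i, i < 100846 → P i := stepQ 100845 Q100845 (allL N100845 (tt N77277 F430737) (tt N64571 F430738) (tt N90174 F430735) (tt N108369 (iv3 F462289)) (tt N99044 F430739) (tt N64304 (iv5 D203992)) (tt N95946 (iv6 F430740)) (tt N90176 F430736))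
theorem Q100847 : ∀ i, i < 100847 → P i := stepQ 100846 Q100846 (allL N100846 (tt N64571 F430744) (tt N77277 (iv0 F430746)) (tt N90176 F430741) (tt N76067 F430742) (tt N112691 (iv4 F482190)) (tt N64305 (iv5 D203993)) (tt N96271 F430745) (tt N90174 F430743))
theorem Q100848 : ∀ i, i < 100848 → P i := stepQ 100847 Q100847 (allL N100847 (tt N105727 (iv1 F451433)) (tt N77081 F430754) (tt N90177 F430747) (tt N76068 F430748) (tt N76526 F430749) (tt N77143 F430751) (tt N64305 (iv6 D203994)) (tt N76524 F430750))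
theorem Q100849 : ∀ i, i < 100849 → P i := stepQ 100848 Q100848 (allL N100848 (tt N64306 (iv1 D203995)) (tt N90181 F430755) (tt N90179 F430759) (tt N76070 (iv3 F430761)) (tt N99027 (iv4 F430758)) (tt N90233 F430757) (tt N99253 F430760) (tt N90178 F430756))
theorem Q100850 : ∀ i, i < 100850 → P i := stepQ 100849 Q100849 (allL N100849 (tt N64647 F430765) (tt N64651 F430766) (tt N89927 F430762) (tt N64309 F430763) (tt N120291 D223550) (tt N64308 (iv5 D203996)) (tt N72273 F430767) (tt N80596 F430764))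
theorem Q100851 : ∀ i, i < 100851 → P i := stepQ 100850 Q100850 (allL N100850 (tt N80993 (iv1 F430771)) (tt N64311 (iv0 D203997)) (tt N101124 F431804) (tt N118272 (iv3 F509454)) (tt N81019 F430770) (tt N96555 F430769) (tt N64357 F430974) (tt N101123 (iv7 F431795)))
theorem Q100852 : ∀ i, i < 100852 → P i := stepQ 100851 Q100851 (allL N100851 (tt N64311 (iv1 D203998)) (tt N80993 (iv0 F430776)) (tt N101123 (iv2 F431794)) (tt N96526 (iv3 F430774)) (tt N81020 F430773) (tt N96526 F430772) (tt N96524 F430775) (tt N101124 (iv7 F431797)))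
theorem Q100853 : ∀ i, i < 100853 → P i := stepQ 100852 Q100852 (allL N100852 (tt N101124 (iv1 F431796)) (tt N101123 F431792) (tt N64311 (iv2 D203999)) (tt N80603 F430777) (tt N65069 F430778) (tt N80780 F430779) (tt N78426 F430780) (tt N80993 F430781))
theorem Q100854 : ∀ i, i < 100854 → P i := stepQ 100853 Q100853 (allL N100853 (tt N70541 F430786) (tt N70405 (iv0 F430787)) (tt N109786 F468603) (tt N64312 (iv3 D204000)) (tt N70513 F430782) (tt N70489 F430783) (tt N89632 F430784) (tt N96313 F430785))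
theorem Q100855 : ∀ i, i < 100855 → P i := stepQ 100854 Q100854 (allL N100854 (tt N112953 (iv1 F483363)) (tt N107448 (iv0 F458373)) (tt N84415 F430788) (tt N108003 (iv3 F460679)) (tt N64314 (iv4 D204001)) (tt N120244 (iv5 F519782)) (tt N100883 F449437) (tt N88590 F430789))
theorem Q100856 : ∀ i, i < 100856 → P i := stepQ 100855 Q100855 (allL N100855 (tt N120292 D223551) (tt N117297 (iv0 F504340)) (tt N84416 F430790) (tt N88832 F430791) (tt N100883 (iv4 F449436)) (tt N89374 F430792) (tt N64314 (iv6 D204002)) (tt N120293 D223552))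
theorem Q100857 : ∀ i, i < 100857 → P i := stepQ 100856 Q100856 (allL N100856 (tt N107448 F458374) (tt N112953 (iv0 F483362)) (tt N88590 F430793) (tt N105187 (iv3 F449151)) (tt N64316 (iv4 D204003)) (tt N120243 (iv5 F519773)) (tt N120294 D223553) (tt N84415 F430794))
theorem Q100858 : ∀ i, i < 100858 → P i := stepQ 100857 Q100857 (allL N100857 (tt N101491 F433124) (tt N101079 (iv0 F431570)) (tt N88591 F430795) (tt N83702 F430796) (tt N120294 (iv4 F520079)) (tt N72561 F430797) (tt N64316 (iv6 D204004)) (tt N101489 (iv7 F433118)))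
theorem Q100859 : ∀ i, i < 100859 → P i := stepQ 100858 Q100858 (allL N100858 (tt N112951 (iv1 F483356)) (tt N88443 F430800) (tt N84979 F430798) (tt N120295 D223554) (tt N64317 (iv4 D204005)) (tt N120251 (iv5 F519819)) (tt N120296 D223555) (tt N88592 F430799))
theorem Q100860 : ∀ i, i < 100860 → P i := stepQ 100859 Q100859 (allL N100859 (tt N120297 D223556) (tt N104102 (iv0 F444190)) (tt N82285 F430801) (tt N88834 F430802) (tt N120296 (iv4 F520087)) (tt N82248 F430803) (tt N64317 (iv6 D204006)) (tt N82283 (iv7 F430804)))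
theorem Q100861 : ∀ i, i < 100861 → P i := stepQ 100860 Q100860 (allL N100860 (tt N64318 (iv1 D204007)) (tt N88596 F430805) (tt N82695 (iv2 F430808)) (tt N120298 D223557) (tt N82694 F430807) (tt N100982 (iv5 F431149)) (tt N120299 D223558) (tt N88594 F430806))
theorem Q100862 : ∀ i, i < 100862 → P i := stepQ 100861 Q100861 (allL N100861 (tt N100984 F431154) (tt N100982 (iv0 F449137)) (tt N111914 (iv2 F478617)) (tt N64318 (iv3 D204008)) (tt N105182 F449136) (tt N112954 (iv5 F483367)) (tt N64333 F430809) (tt N120300 D223559))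
theorem Q100863 : ∀ i, i < 100863 → P i := stepQ 100862 Q100862 (allL N100862 (tt N100989 (iv1 F431172)) (tt N100987 (iv0 F431165)) (tt N88595 F430810) (tt N112954 F483369) (tt N64759 F430811) (tt N64318 (iv5 D204009)) (tt N100993 (iv6 F431179)) (tt N64758 F430812))
theorem Q100864 : ∀ i, i < 100864 → P i := stepQ 100863 Q100863 (allL N100863 (tt N82695 (iv1 F430816)) (tt N88594 F430817) (tt N88596 F430813) (tt N120300 (iv3 F520099)) (tt N64319 F430814) (tt N64758 F430815) (tt N116137 (iv6 F498676)) (tt N64318 (iv7 D204010)))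
theorem Q100865 : ∀ i, i < 100865 → P i := stepQ 100864 Q100864 (allL N100864 (tt N64320 (iv1 D204011)) (tt N77046 F430818) (tt N101782 (iv2 F434318)) (tt N116140 F498695) (tt N82616 F430819) (tt N101090 F431628) (tt N116731 (iv6 F501544)) (tt N112539 (iv7 F481574)))
theorem Q100866 : ∀ i, i < 100866 → P i := stepQ 100865 Q100865 (allL N100865 (tt N111918 (iv1 F478643)) (tt N64323 (iv0 D204012)) (tt N111916 (iv2 F478636)) (tt N120301 D223560) (tt N120302 D223561) (tt N91124 F430820) (tt N120292 (iv6 F520066)) (tt N111917 F478637))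
theorem Q100867 : ∀ i, i < 100867 → P i := stepQ 100866 Q100866 (allL N100866 (tt N64323 (iv1 D204013)) (tt N111918 F478642) (tt N111917 (iv2 F478634)) (tt N113483 (iv3 F485702)) (tt N120303 D223562) (tt N91123 (iv5 F430821)) (tt N105242 (iv6 F449356)) (tt N111916 (iv7 F478635)))
theorem Q100868 : ∀ i, i < 100868 → P i := stepQ 100867 Q100867 (allL N100867 (tt N111917 (iv1 F478632)) (tt N111916 (iv0 F478631)) (tt N111918 (iv2 F478638)) (tt N64400 F430822) (tt N64417 F430823) (tt N83440 F430824) (tt N104105 (iv6 F444200)) (tt N64323 (iv7 D204014)))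
theorem Q100869 : ∀ i, i < 100869 → P i := stepQ 100868 Q100868 (allL N100868 (tt N100982 F431150) (tt N100984 F431153) (tt N120300 (iv2 F520098)) (tt N64324 (iv3 D204015)) (tt N105183 (iv4 F449142)) (tt N100873 (iv5 F430839)) (tt N100995 F449145) (tt N111914 (iv7 F478620)))
theorem Q100870 : ∀ i, i < 100870 → P i := stepQ 100869 Q100869 (allL N100869 (tt N111965 (iv1 F478885)) (tt N111966 (iv0 F478890)) (tt N112787 (iv2 F482625)) (tt N100995 (iv3 F449146)) (tt N64325 F430825) (tt N110873 (iv5 F473550)) (tt N64324 (iv6 D204016)) (tt N120304 D223563))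
theorem Q100871 : ∀ i, i < 100871 → P i := stepQ 100870 Q100870 (allL N100870 (tt N70457 (iv1 F430828)) (tt N104330 (iv0 F445288)) (tt N104105 (iv2 F444198)) (tt N88755 F430826) (tt N120304 (iv4 F520117)) (tt N70250 F430827) (tt N111918 (iv6 F478641)) (tt N64325 (iv7 D204017)))
theorem Q100872 : ∀ i, i < 100872 → P i := stepQ 100871 Q100871 (allL N100871 (tt N88583 F430831) (tt N88585 F430832) (tt N112998 (iv2 F483489)) (tt N84414 F430833) (tt N64326 (iv4 D204018)) (tt N89389 F430830) (tt N105198 (iv6 F449175)) (tt N89388 F430829))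
theorem Q100873 : ∀ i, i < 100873 → P i := stepQ 100872 Q100872 (allL N100872 (tt N83447 (iv1 F430837)) (tt N72582 (iv0 F430836)) (tt N116568 (iv2 F500773)) (tt N64328 F430834) (tt N105198 (iv4 F449176)) (tt N77690 F430835) (tt N64326 (iv6 D204019)) (tt N108456 (iv7 F462662)))
theorem Q100874 : ∀ i, i < 100874 → P i := stepQ 100873 Q100873 (allL N100873 (tt N112035 (iv1 F479188)) (tt N82682 (iv0 F430841)) (tt N101288 (iv2 F432539)) (tt N64327 (iv3 D204020)) (tt N84414 F430838) (tt N100868 F430839) (tt N105199 (iv6 F449180)) (tt N89393 F430840))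
theorem Q100875 : ∀ i, i < 100875 → P i := stepQ 100874 Q100874 (allL N100874 (tt N110884 (iv1 F473603)) (tt N72521 (iv0 F430844)) (tt N100591 F430842) (tt N105199 (iv3 F449179)) (tt N64328 F430843) (tt N111962 (iv5 F478866)) (tt N64327 (iv6 D204021)) (tt N108463 (iv7 F462693)))
theorem Q100876 : ∀ i, i < 100876 → P i := stepQ 100875 Q100875 (allL N100875 (tt N101493 F478852) (tt N112792 F482644) (tt N112790 F482640) (tt N112951 (iv3 F483351)) (tt N64330 F430845) (tt N100996 F431191) (tt N64329 (iv6 D204022)) (tt N112791 F482639))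
theorem Q100877 : ∀ i, i < 100877 → P i := stepQ 100876 Q100876 (allL N100876 (tt N108462 F462689) (tt N64330 (iv0 D204023)) (tt N120245 (iv2 F519790)) (tt N70647 (iv3 F430848)) (tt N120305 D223564) (tt N70646 F430846) (tt N69931 F430847) (tt N120246 (iv7 F519793)))
theorem Q100878 : ∀ i, i < 100878 → P i := stepQ 100877 Q100877 (allL N100877 (tt N64330 (iv1 D204024)) (tt N108462 F462690) (tt N120246 F519797) (tt N120306 D223565) (tt N120307 D223566) (tt N120308 D223567) (tt N120297 F520093) (tt N120245 F519791))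
theorem Q100879 : ∀ i, i < 100879 → P i := stepQ 100878 Q100878 (allL N100878 (tt N120246 (iv1 F519792)) (tt N120245 F519788) (tt N108462 (iv2 F462686)) (tt N84036 F430849) (tt N112791 (iv4 F482637)) (tt N107291 (iv5 F457826)) (tt N72564 F430850) (tt N64330 (iv7 D204025)))
theorem Q100880 : ∀ i, i < 100880 → P i := stepQ 100879 Q100879 (allL N100879 (tt N108003 F460681) (tt N120309 D223568) (tt N120310 D223569) (tt N64331 (iv3 D204026)) (tt N107380 (iv4 F469859)) (tt N100899 (iv5 F430885)) (tt N120243 (iv6 F519775)) (tt N111967 (iv7 F478893)))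
theorem Q100881 : ∀ i, i < 100881 → P i := stepQ 100880 Q100880 (allL N100880 (tt N110871 (iv1 F473545)) (tt N72565 (iv0 F430852)) (tt N107387 (iv2 F458173)) (tt N120243 F519777) (tt N81768 F430851) (tt N105187 (iv5 F449152)) (tt N64331 (iv6 D204027)) (tt N107389 (iv7 F458183)))
theorem Q100882 : ∀ i, i < 100882 → P i := stepQ 100881 Q100881 (allL N100881 (tt N120311 D223570) (tt N120312 D223571) (tt N120313 D223572) (tt N64332 (iv3 D204028)) (tt N120314 D223573) (tt N100888 (iv5 F430863)) (tt N120315 D223574) (tt N111960 (iv7 F478864)))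
theorem Q100883 : ∀ i, i < 100883 → P i := stepQ 100882 Q100882 (allL N100882 (tt N120305 (iv1 F520126)) (tt N120307 (iv0 F520135)) (tt N111968 (iv2 F478896)) (tt N120315 (iv3 F520159)) (tt N82304 F430853) (tt N120302 (iv5 F520109)) (tt N64332 (iv6 D204029)) (tt N120316 D223575))
theorem Q100884 : ∀ i, i < 100884 → P i := stepQ 100883 Q100883 (allL N100883 (tt N120248 (iv1 F519805)) (tt N64333 (iv0 D204030)) (tt N114040 (iv2 F488316)) (tt N99397 F430854) (tt N100855 F449436) (tt N120317 D223576) (tt N100854 (iv6 F449437)) (tt N120247 (iv7 F519801)))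
theorem Q100885 : ∀ i, i < 100885 → P i := stepQ 100884 Q100884 (allL N100884 (tt N64333 (iv1 D204031)) (tt N120248 F519806) (tt N120247 F519799) (tt N112953 (iv3 F483364)) (tt N114043 (iv4 F488329)) (tt N120318 D223577) (tt N120319 D223578) (tt N114040 F488321))
theorem Q100886 : ∀ i, i < 100886 → P i := stepQ 100885 Q100885 (allL N100885 (tt N114040 F488319) (tt N120247 F519800) (tt N64333 (iv2 D204032)) (tt N111915 (iv3 F478624)) (tt N114002 F488142) (tt N100997 (iv5 F431194)) (tt N111914 F478622) (tt N120248 (iv7 F519804)))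
theorem Q100887 : ∀ i, i < 100887 → P i := stepQ 100886 Q100886 (allL N100886 (tt N100934 F431020) (tt N100935 (iv0 F431023)) (tt N104205 (iv2 F444682)) (tt N64334 (iv3 D204033)) (tt N104099 (iv4 F444175)) (tt N80519 F430855) (tt N120257 (iv6 F519852)) (tt N80505 F430856))
theorem Q100888 : ∀ i, i < 100888 → P i := stepQ 100887 Q100887 (allL N100887 (tt N82292 F430860) (tt N80316 F430861) (tt N80509 F430857) (tt N104106 (iv3 F444205)) (tt N64334 (iv4 D204034)) (tt N80509 F430858) (tt N120259 (iv6 F519864)) (tt N80506 F430859))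
theorem Q100889 : ∀ i, i < 100889 → P i := stepQ 100888 Q100888 (allL N100888 (tt N120295 F520085) (tt N101490 (iv0 F433121)) (tt N120320 D223579) (tt N64335 (iv3 D204035)) (tt N82683 F430862) (tt N100881 F430863) (tt N82682 (iv6 F430865)) (tt N80512 F430864))
theorem Q100890 : ∀ i, i < 100890 → P i := stepQ 100889 Q100889 (allL N100889 (tt N120302 (iv1 F520110)) (tt N120303 (iv0 F520114)) (tt N112789 (iv2 F482634)) (tt N82682 F430866) (tt N64336 F430867) (tt N120321 D223580) (tt N64335 (iv6 D204036)) (tt N113999 (iv7 F488132)))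
theorem Q100891 : ∀ i, i < 100891 → P i := stepQ 100890 Q100890 (allL N100890 (tt N114004 (iv1 F488156)) (tt N64336 (iv0 D204037)) (tt N113387 (iv2 F485302)) (tt N120129 (iv3 F519212)) (tt N100996 F431190) (tt N113192 F484408) (tt N114001 (iv6 F488139)) (tt N113384 (iv7 F485291)))
theorem Q100892 : ∀ i, i < 100892 → P i := stepQ 100891 Q100891 (allL N100891 (tt N64336 (iv1 D204038)) (tt N114004 F488157) (tt N113384 (iv2 F485289)) (tt N116252 (iv3 F499226)) (tt N100995 (iv4 F431189)) (tt N101305 (iv5 F432596)) (tt N105183 (iv6 F449140)) (tt N113387 (iv7 F485303)))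
theorem Q100893 : ∀ i, i < 100893 → P i := stepQ 100892 Q100892 (allL N100892 (tt N101042 F431423) (tt N105715 (iv0 F451389)) (tt N64338 F430868) (tt N76868 F430869) (tt N120322 D223581) (tt N64337 (iv5 D204039)) (tt N117686 (iv6 F506414)) (tt N77080 F430870))
theorem Q100894 : ∀ i, i < 100894 → P i := stepQ 100893 Q100893 (allL N100893 (tt N105742 F451490) (tt N80607 (iv0 F430874)) (tt N64339 F430871) (tt N76869 F430872) (tt N80743 F430873) (tt N101020 F431308) (tt N64337 (iv6 D204040)) (tt N110288 (iv7 F470860)))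
theorem Q100895 : ∀ i, i < 100895 → P i := stepQ 100894 Q100894 (allL N100894 (tt N77080 (iv1 F430876)) (tt N64338 (iv0 D204041)) (tt N101042 (iv2 F431419)) (tt N113601 F486248) (tt N118585 (iv4 F511016)) (tt N90248 F430875) (tt N118588 (iv6 F511027)) (tt N105715 (iv7 F451388)))
theorem Q100896 : ∀ i, i < 100896 → P i := stepQ 100895 Q100895 (allL N100895 (tt N64338 (iv1 D204042)) (tt N77080 F430877) (tt N105715 (iv2 F451387)) (tt N90436 (iv3 F430879)) (tt N120323 D223582) (tt N90247 F430878) (tt N120324 D223583) (tt N101042 (iv7 F431421)))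
theorem Q100897 : ∀ i, i < 100897 → P i := stepQ 100896 Q100896 (allL N100896 (tt N120325 D223584) (tt N116328 (iv0 F499580)) (tt N120322 (iv2 F520187)) (tt N120326 D223585) (tt N64338 (iv4 D204043)) (tt N118491 F510665) (tt N120327 D223586) (tt N120249 (iv7 F519809)))
theorem Q100898 : ∀ i, i < 100898 → P i := stepQ 100897 Q100897 (allL N100897 (tt N120328 D223587) (tt N120329 D223588) (tt N117686 (iv2 F506412)) (tt N64341 F430880) (tt N120327 (iv4 F520207)) (tt N101208 (iv5 F432204)) (tt N64338 (iv6 D204044)) (tt N120330 D223589))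
theorem Q100899 : ∀ i, i < 100899 → P i := stepQ 100898 Q100898 (allL N100898 (tt N110288 (iv1 F470862)) (tt N64339 (iv0 D204045)) (tt N105742 (iv2 F451484)) (tt N112033 (iv3 F479175)) (tt N99617 F430882) (tt N80547 F430881) (tt N76915 F430883) (tt N80607 (iv7 F430884)))
theorem Q100900 : ∀ i, i < 100900 → P i := stepQ 100899 Q100899 (allL N100899 (tt N118559 F510929) (tt N120331 D223590) (tt N120332 D223591) (tt N64340 (iv3 D204046)) (tt N120326 (iv4 F520202)) (tt N100879 F430885) (tt N120333 D223592) (tt N112788 (iv7 F482633)))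
theorem Q100901 : ∀ i, i < 100901 → P i := stepQ 100900 Q100900 (allL N100900 (tt N105200 (iv1 F449185)) (tt N105199 (iv0 F449181)) (tt N80514 F430886) (tt N120333 (iv3 F520228)) (tt N64341 F430887) (tt N110876 (iv5 F473559)) (tt N64340 (iv6 D204047)) (tt N120334 D223593))
theorem Q100902 : ∀ i, i < 100902 → P i := stepQ 100901 Q100901 (allL N100901 (tt N80516 (iv1 F430890)) (tt N80515 F430891) (tt N80517 F430888) (tt N120330 (iv3 F520220)) (tt N120334 (iv4 F520232)) (tt N70253 F430889) (tt N114004 (iv6 F488154)) (tt N64341 (iv7 D204048)))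
theorem Q100903 : ∀ i, i < 100903 → P i := stepQ 100902 Q100902 (allL N100902 (tt N66978 F430896) (tt N66977 (iv0 F430897)) (tt N66980 F430892) (tt N79495 F430893) (tt N64347 (iv4 D204049)) (tt N111617 F477175) (tt N79493 F430894) (tt N66975 F430895))
theorem Q100904 : ∀ i, i < 100904 → P i := stepQ 100903 Q100903 (allL N100903 (tt N77376 F430900) (tt N83304 F430902) (tt N77140 F430898) (tt N113779 (iv3 F487064)) (tt N120335 D223594) (tt N64347 (iv5 D204050)) (tt N110014 (iv6 F469564)) (tt N77142 F430899))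
theorem Q100905 : ∀ i, i < 100905 → P i := stepQ 100904 Q100904 (allL N100904 (tt N77146 (iv1 F430904)) (tt N64348 (iv0 D204051)) (tt N77143 (iv2 F430905)) (tt N116114 F498542) (tt N119942 (iv4 F518156)) (tt N90177 F430903) (tt N110386 (iv6 F471346)) (tt N77144 (iv7 F430906)))
theorem Q100906 : ∀ i, i < 100906 → P i := stepQ 100905 Q100905 (allL N100905 (tt N64348 (iv1 D204052)) (tt N77146 F430907) (tt N77144 F430910) (tt N75893 F430911) (tt N120336 D223595) (tt N76524 (iv5 F430909)) (tt N113418 (iv6 F485400)) (tt N77143 F430908))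
theorem Q100907 : ∀ i, i < 100907 → P i := stepQ 100906 Q100906 (allL N100906 (tt N120337 D223596) (tt N120338 D223597) (tt N77145 F430912) (tt N120339 D223598) (tt N64348 (iv4 D204053)) (tt N78024 (iv5 F463002)) (tt N101298 (iv6 F432576)) (tt N81943 F430913))
theorem Q100908 : ∀ i, i < 100908 → P i := stepQ 100907 Q100907 (allL N100907 (tt N83457 (iv1 F469562)) (tt N110013 F469560) (tt N64879 F430914) (tt N71488 F430915) (tt N112579 (iv4 F481707)) (tt N71486 F430916) (tt N64349 (iv6 D204054)) (tt N83357 F430917))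
theorem Q100909 : ∀ i, i < 100909 → P i := stepQ 100908 Q100908 (allL N100908 (tt N64873 (iv1 F430920)) (tt N64351 (iv0 D204055)) (tt N64888 (iv2 F430919)) (tt N119732 (iv3 F517150)) (tt N64526 F430918) (tt N112597 (iv5 F481765)) (tt N107194 (iv6 F457419)) (tt N64889 F430921))
theorem Q100910 : ∀ i, i < 100910 → P i := stepQ 100909 Q100909 (allL N100909 (tt N120340 D223599) (tt N120341 D223600) (tt N120342 D223601) (tt N64351 (iv3 D204056)) (tt N120339 (iv4 F520263)) (tt N77988 F472450) (tt N99247 (iv6 F472449)) (tt N81945 F430922))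
theorem Q100911 : ∀ i, i < 100911 → P i := stepQ 100910 Q100910 (allL N100910 (tt N81863 F430926) (tt N81852 F430927) (tt N64891 F430923) (tt N77988 (iv3 F472451)) (tt N64924 F430925) (tt N64351 (iv5 D204057)) (tt N120343 D223602) (tt N64952 F430924))
theorem Q100912 : ∀ i, i < 100912 → P i := stepQ 100911 Q100911 (allL N100911 (tt N118793 (iv1 F512109)) (tt N96582 (iv0 F430931)) (tt N107779 (iv2 F459689)) (tt N64353 (iv3 D204058)) (tt N79465 F430928) (tt N107776 F459673) (tt N95729 F430929) (tt N64944 F430930))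
theorem Q100913 : ∀ i, i < 100913 → P i := stepQ 100912 Q100912 (allL N100912 (tt N108238 (iv1 F461638)) (tt N108454 F462657) (tt N107915 (iv2 F460264)) (tt N64354 (iv3 D204059)) (tt N80094 F430932) (tt N99352 F430933) (tt N80554 F430934) (tt N64942 F430935))
theorem Q100914 : ∀ i, i < 100914 → P i := stepQ 100913 Q100913 (allL N100913 (tt N81951 (iv1 F430941)) (tt N81950 F430940) (tt N64355 (iv2 D204060)) (tt N64948 F430936) (tt N80652 F430937) (tt N115013 (iv5 F493050)) (tt N64359 F430938) (tt N81952 F430939))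
theorem Q100915 : ∀ i, i < 100915 → P i := stepQ 100914 Q100914 (allL N100914 (tt N89584 F430945) (tt N115014 F493059) (tt N115013 F493052) (tt N64356 F430942) (tt N86233 F430943) (tt N64355 (iv5 D204061)) (tt N115103 F493495) (tt N81953 F430944))
theorem Q100916 : ∀ i, i < 100916 → P i := stepQ 100915 Q100915 (allL N100915 (tt N64924 (iv1 F430948)) (tt N64356 (iv0 D204062)) (tt N64950 (iv2 F430947)) (tt N94633 (iv3 F430950)) (tt N109945 (iv4 F469334)) (tt N79458 F430946) (tt N109231 (iv6 F465886)) (tt N64951 F430949))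
theorem Q100917 : ∀ i, i < 100917 → P i := stepQ 100916 Q100916 (allL N100916 (tt N81852 F430954) (tt N81863 F430955) (tt N64952 F430951) (tt N110756 F473031) (tt N64356 (iv4 D204063)) (tt N64873 F430952) (tt N119701 (iv6 F516992)) (tt N64891 F430953))
theorem Q100918 : ∀ i, i < 100918 → P i := stepQ 100917 Q100917 (allL N100917 (tt N107671 F459167) (tt N108233 F461608) (tt N64953 F430956) (tt N115103 F493497) (tt N119701 (iv4 F516991)) (tt N64361 F430957) (tt N64356 (iv6 D204064)) (tt N116588 (iv7 F500872)))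
theorem Q100919 : ∀ i, i < 100919 → P i := stepQ 100918 Q100918 (allL N100918 (tt N93834 F474509) (tt N118363 F509933) (tt N112839 (iv2 F482887)) (tt N64357 (iv3 D204066)) (tt N82509 F430959) (tt N118608 (iv5 F511136)) (tt N118272 (iv6 F509455)) (tt N111354 (iv7 F475974)))
theorem Q100920 : ∀ i, i < 100920 → P i := stepQ 100919 Q100919 (allL N100919 (tt N106711 F455356) (tt N78508 (iv0 F430961)) (tt N111357 (iv2 F475987)) (tt N106804 (iv3 F455748)) (tt N64357 (iv4 D204067)) (tt N86632 F430960) (tt N81019 F430962) (tt N111355 (iv7 F475979)))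
theorem Q100921 : ∀ i, i < 100921 → P i := stepQ 100920 Q100920 (allL N100920 (tt N111691 (iv1 F477510)) (tt N79814 (iv0 F430975)) (tt N111358 (iv2 F475993)) (tt N118608 F511139) (tt N120344 D223603) (tt N64357 (iv5 D204068)) (tt N120345 D223604) (tt N111356 (iv7 F475985)))
theorem Q100922 : ∀ i, i < 100922 → P i := stepQ 100921 Q100921 (allL N100921 (tt N96336 (iv1 F433423)) (tt N96585 (iv0 F430989)) (tt N96523 (iv2 F430988)) (tt N64358 (iv3 D204070)) (tt N111105 (iv4 F474695)) (tt N120346 D223605) (tt N69685 F430987) (tt N96584 (iv7 F430990)))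
theorem Q100923 : ∀ i, i < 100923 → P i := stepQ 100922 Q100922 (allL N100922 (tt N78508 F436502) (tt N106711 (iv0 F455355)) (tt N111355 (iv2 F475977)) (tt N78498 F430978) (tt N64358 (iv4 D204071)) (tt N86637 F430977) (tt N96603 (iv6 F430979)) (tt N111357 (iv7 F475990)))
theorem Q100924 : ∀ i, i < 100924 → P i := stepQ 100923 Q100923 (allL N100923 (tt N79814 F430980) (tt N111691 F477511) (tt N111356 (iv2 F475984)) (tt N120346 (iv3 F520304)) (tt N114852 (iv4 F492181)) (tt N64358 (iv5 D204072)) (tt N120347 D223606) (tt N111358 (iv7 F475994)))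
theorem Q100925 : ∀ i, i < 100925 → P i := stepQ 100924 Q100924 (allL N100924 (tt N95611 (iv1 F430984)) (tt N96322 (iv0 F430982)) (tt N96567 (iv2 F430983)) (tt N69685 (iv3 F430986)) (tt N96603 F430981) (tt N119152 (iv5 F514066)) (tt N64358 (iv6 D204073)) (tt N96524 F430985))
theorem Q100926 : ∀ i, i < 100926 → P i := stepQ 100925 Q100925 (allL N100925 (tt N101596 (iv1 F433493)) (tt N101595 F433485) (tt N64360 F431000) (tt N64988 F431001) (tt N120348 D223607) (tt N64359 (iv5 D204074)) (tt N120349 D223608) (tt N101597 (iv7 F433496)))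
theorem Q100927 : ∀ i, i < 100927 → P i := stepQ 100926 Q100926 (allL N100926 (tt N101597 (iv1 F433497)) (tt N64360 (iv0 D204075)) (tt N101596 (iv2 F433490)) (tt N117041 (iv3 F503092)) (tt N120350 D223609) (tt N79795 F433491) (tt N108212 F461517) (tt N101595 F433492))
theorem Q100928 : ∀ i, i < 100928 → P i := stepQ 100927 Q100927 (allL N100927 (tt N64360 (iv1 D204076)) (tt N101597 F433498) (tt N101595 F433487) (tt N118704 (iv3 F511635)) (tt N119364 (iv4 F515233)) (tt N79796 F431002) (tt N120351 D223610) (tt N101596 (iv7 F433488)))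
theorem Q100929 : ∀ i, i < 100929 → P i := stepQ 100928 Q100928 (allL N100928 (tt N120352 D223611) (tt N120353 D223612) (tt N120348 (iv2 F520313)) (tt N79211 F431003) (tt N64360 (iv4 D204077)) (tt N106699 (iv5 F474759)) (tt N106700 F474761) (tt N101587 (iv7 F433465)))
theorem Q100930 : ∀ i, i < 100930 → P i := stepQ 100929 Q100929 (allL N100929 (tt N116691 (iv1 F501324)) (tt N116690 (iv0 F501319)) (tt N120349 (iv2 F520317)) (tt N64361 F431004) (tt N106700 (iv4 F474762)) (tt N115103 F493496) (tt N64360 (iv6 D204078)) (tt N116590 (iv7 F500882)))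
theorem Q100931 : ∀ i, i < 100931 → P i := stepQ 100930 Q100930 (allL N100930 (tt N65001 (iv1 F431007)) (tt N64361 (iv0 D204079)) (tt N64999 (iv2 F431005)) (tt N108221 (iv3 F461548)) (tt N97015 F436683) (tt N118752 (iv5 F511893)) (tt N118292 (iv6 F509556)) (tt N65000 F431006))
theorem Q100932 : ∀ i, i < 100932 → P i := stepQ 100931 Q100931 (allL N100931 (tt N65000 (iv1 F431010)) (tt N64999 F431011) (tt N65001 F431008) (tt N116590 (iv3 F500881)) (tt N79218 F431009) (tt N116588 (iv5 F500873)) (tt N101602 (iv6 F433513)) (tt N64361 (iv7 D204080)))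
theorem Q100933 : ∀ i, i < 100933 → P i := stepQ 100932 Q100932 (allL N100932 (tt N79161 F431016) (tt N110998 (iv0 F474163)) (tt N100582 F431012) (tt N99907 F431013) (tt N90476 F431015) (tt N64368 (iv5 D204081)) (tt N99905 F431014) (tt N104978 (iv7 F448235)))
theorem Q100934 : ∀ i, i < 100934 → P i := stepQ 100933 Q100933 (allL N100933 (tt N104204 F444680) (tt N101185 (iv0 F432097)) (tt N64372 F431017) (tt N90511 F431018) (tt N105270 (iv4 F449483)) (tt N64369 (iv5 D204082)) (tt N101271 (iv6 F432470)) (tt N109398 (iv7 F466760)))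
theorem Q100935 : ∀ i, i < 100935 → P i := stepQ 100934 Q100934 (allL N100934 (tt N68397 F431019) (tt N100886 (iv0 F431020)) (tt N111947 (iv2 F478816)) (tt N109759 (iv3 F468482)) (tt N105336 (iv4 F449762)) (tt N64370 (iv5 D204083)) (tt N114064 F488407) (tt N105335 F449760))
theorem Q100936 : ∀ i, i < 100936 → P i := stepQ 100935 Q100935 (allL N100935 (tt N100886 F431023) (tt N68397 (iv0 F431028)) (tt N105335 (iv2 F449755)) (tt N83689 F431021) (tt N83696 F431022) (tt N64371 (iv5 D204084)) (tt N116819 (iv6 F501999)) (tt N111947 (iv7 F478819)))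
theorem Q100937 : ∀ i, i < 100937 → P i := stepQ 100936 Q100936 (allL N100936 (tt N100617 (iv1 F431027)) (tt N100610 (iv0 F431026)) (tt N100614 F431024) (tt N116716 (iv3 F501464)) (tt N72786 F431025) (tt N112863 (iv5 F483023)) (tt N64371 (iv6 D204085)) (tt N100615 (iv7 F431029)))
theorem Q100938 : ∀ i, i < 100938 → P i := stepQ 100937 Q100937 (allL N100937 (tt N109398 (iv1 F466762)) (tt N64372 (iv0 D204086)) (tt N104204 (iv2 F444676)) (tt N89165 (iv3 F431031)) (tt N106851 (iv4 F455991)) (tt N89164 F431030) (tt N110098 (iv6 F469975)) (tt N101185 (iv7 F432096)))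
theorem Q100939 : ∀ i, i < 100939 → P i := stepQ 100938 Q100938 (allL N100938 (tt N64372 (iv1 D204087)) (tt N109398 (iv0 F466761)) (tt N101185 (iv2 F432094)) (tt N114393 (iv3 F489938)) (tt N106852 (iv4 F455995)) (tt N100312 F431032) (tt N120354 D223613) (tt N104204 (iv7 F444677)))
theorem Q100940 : ∀ i, i < 100940 → P i := stepQ 100939 Q100939 (allL N100939 (tt N106952 (iv1 F456416)) (tt N106953 (iv0 F456420)) (tt N105270 (iv2 F449482)) (tt N70457 (iv3 F431035)) (tt N64372 (iv4 D204088)) (tt N67836 F431034) (tt N83508 F431033) (tt N104736 (iv7 F447041)))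
theorem Q100941 : ∀ i, i < 100941 → P i := stepQ 100940 Q100940 (allL N100940 (tt N80514 (iv1 F431038)) (tt N120334 F520234) (tt N105199 (iv2 F449178)) (tt N64373 (iv3 D204089)) (tt N70457 F431036) (tt N88489 F431037) (tt N101288 (iv6 F432541)) (tt N105200 (iv7 F449183)))
theorem Q100942 : ∀ i, i < 100942 → P i := stepQ 100941 Q100941 (allL N100941 (tt N69751 F431044) (tt N69950 F431045) (tt N69949 F431039) (tt N99884 F431040) (tt N79151 F431041) (tt N99517 F431042) (tt N64375 (iv6 D204090)) (tt N69948 F431043))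
theorem Q100943 : ∀ i, i < 100943 → P i := stepQ 100942 Q100942 (allL N100942 (tt N76938 (iv1 F431050)) (tt N76942 (iv0 F431049)) (tt N76923 F431046) (tt N64378 (iv3 D204091)) (tt N97393 F431047) (tt N106822 F455836) (tt N116143 (iv6 F498715)) (tt N76941 F431048))
theorem Q100944 : ∀ i, i < 100944 → P i := stepQ 100943 Q100943 (allL N100943 (tt N65015 F431052) (tt N88629 F431054) (tt N78358 F431051) (tt N106822 (iv3 F455833)) (tt N107929 (iv4 F460335)) (tt N64378 (iv5 D204092)) (tt N91051 (iv6 F431053)) (tt N116378 (iv7 F499789)))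
theorem Q100945 : ∀ i, i < 100945 → P i := stepQ 100944 Q100944 (allL N100944 (tt N108464 (iv1 F462702)) (tt N106907 (iv0 F456235)) (tt N99462 F431055) (tt N89545 (iv3 F431060)) (tt N64379 (iv4 D204093)) (tt N95515 F431058) (tt N100001 F431056) (tt N100266 F431057))
theorem Q100946 : ∀ i, i < 100946 → P i := stepQ 100945 Q100945 (allL N100945 (tt N69929 F431066) (tt N68688 (iv0 F431067)) (tt N69927 F431062) (tt N99852 F431063) (tt N84126 F431064) (tt N100980 (iv5 F431145)) (tt N64382 (iv6 D204094)) (tt N69928 F431065))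
theorem Q100947 : ∀ i, i < 100947 → P i := stepQ 100946 Q100946 (allL N100946 (tt N101112 (iv1 F431736)) (tt N64383 (iv0 D204095)) (tt N99881 (iv2 F431070)) (tt N106796 (iv3 F455712)) (tt N111361 (iv4 F476007)) (tt N69985 F431068) (tt N72246 F431069) (tt N101110 (iv7 F431718)))
theorem Q100948 : ∀ i, i < 100948 → P i := stepQ 100947 Q100947 (allL N100947 (tt N64384 (iv1 D204096)) (tt N101606 (iv0 F433520)) (tt N79163 (iv2 F431073)) (tt N98938 F438327) (tt N64880 F431072) (tt N112002 (iv5 F479025)) (tt N98935 (iv6 F438328)) (tt N79162 F431071))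
theorem Q100949 : ∀ i, i < 100949 → P i := stepQ 100948 Q100948 (allL N100948 (tt N119941 (iv1 F518148)) (tt N109964 (iv0 F469405)) (tt N110832 (iv2 F473350)) (tt N64384 (iv3 D204097)) (tt N89545 F431074) (tt N106679 (iv5 F455254)) (tt N119753 F517248) (tt N101632 (iv7 F433627)))
theorem Q100950 : ∀ i, i < 100950 → P i := stepQ 100949 Q100949 (allL N100949 (tt N113744 (iv1 F486922)) (tt N113746 F486934) (tt N112068 (iv2 F479336)) (tt N64387 F431077) (tt N110222 (iv4 F470500)) (tt N64386 (iv5 D204098)) (tt N109261 (iv6 F466050)) (tt N70544 F431078))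
theorem Q100951 : ∀ i, i < 100951 → P i := stepQ 100950 Q100950 (allL N100950 (tt N116444 (iv1 F500152)) (tt N113374 (iv0 F485237)) (tt N64400 F431079) (tt N116567 (iv3 F500768)) (tt N64388 (iv4 D204099)) (tt N83439 F431080) (tt N109673 (iv6 F468045)) (tt N83437 F431081))
theorem Q100952 : ∀ i, i < 100952 → P i := stepQ 100951 Q100951 (allL N100951 (tt N119654 (iv1 F516735)) (tt N119653 F516730) (tt N98515 F431082) (tt N118535 (iv3 F510837)) (tt N120355 D223614) (tt N64389 (iv5 D204100)) (tt N114489 (iv6 F490439)) (tt N109670 (iv7 F468031)))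
theorem Q100953 : ∀ i, i < 100953 → P i := stepQ 100952 Q100952 (allL N100952 (tt N69767 (iv1 F431086)) (tt N100760 (iv0 F431087)) (tt N98516 F431083) (tt N75746 F431084) (tt N98514 F431085) (tt N114490 (iv5 F490442)) (tt N64389 (iv6 D204101)) (tt N109193 (iv7 F465732)))
theorem Q100954 : ∀ i, i < 100954 → P i := stepQ 100953 Q100953 (allL N100953 (tt N109674 (iv1 F468050)) (tt N64390 (iv0 D204102)) (tt N109672 F468041) (tt N88568 F431174) (tt N120356 D223615) (tt N109729 (iv5 F468319)) (tt N120357 D223616) (tt N88566 (iv7 F431175)))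
theorem Q100955 : ∀ i, i < 100955 → P i := stepQ 100954 Q100954 (allL N100954 (tt N64390 (iv1 D204103)) (tt N109674 F468049) (tt N88566 F456756) (tt N116570 (iv3 F500784)) (tt N117725 (iv4 F506641)) (tt N109719 (iv5 F468276)) (tt N88576 (iv6 F456755)) (tt N109672 (iv7 F468042)))
theorem Q100956 : ∀ i, i < 100956 → P i := stepQ 100955 Q100955 (allL N100955 (tt N105236 F449339) (tt N84297 (iv0 F448097)) (tt N109673 (iv2 F468044)) (tt N104105 (iv3 F444199)) (tt N64390 (iv4 D204104)) (tt N104104 (iv5 F444197)) (tt N64400 F431088) (tt N112786 (iv7 F482624)))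
theorem Q100957 : ∀ i, i < 100957 → P i := stepQ 100956 Q100956 (allL N100956 (tt N88566 (iv1 F431092)) (tt N109672 F468043) (tt N109674 (iv2 F468047)) (tt N64416 F431089) (tt N112786 (iv4 F482622)) (tt N64391 F431090) (tt N88589 F431091) (tt N64390 (iv7 D204105)))
theorem Q100958 : ∀ i, i < 100958 → P i := stepQ 100957 Q100957 (allL N100957 (tt N64396 (iv1 F431094)) (tt N64393 (iv0 D204106)) (tt N101077 (iv2 F431558)) (tt N101475 (iv3 F433079)) (tt N83444 (iv4 F431095)) (tt N100004 F431093) (tt N88570 F431096) (tt N105022 (iv7 F448424)))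
theorem Q100959 : ∀ i, i < 100959 → P i := stepQ 100958 Q100958 (allL N100958 (tt N120358 D223617) (tt N109761 (iv0 F468493)) (tt N120288 (iv2 F520039)) (tt N116658 (iv3 F501175)) (tt N64393 (iv4 D204107)) (tt N120359 D223618) (tt N110887 F473617) (tt N120286 (iv7 F520033)))
theorem Q100960 : ∀ i, i < 100960 → P i := stepQ 100959 Q100959 (allL N100959 (tt N101002 (iv1 F431215)) (tt N100823 F431099) (tt N101004 (iv2 F431220)) (tt N84952 F431097) (tt N108345 (iv4 F462176)) (tt N64394 (iv5 D204108)) (tt N84951 F431098) (tt N101003 F431218))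
theorem Q100961 : ∀ i, i < 100961 → P i := stepQ 100960 Q100960 (allL N100960 (tt N106384 F454240) (tt N80522 (iv0 F431101)) (tt N104156 (iv2 F444458)) (tt N110263 (iv3 F470706)) (tt N104154 (iv4 F444449)) (tt N101003 (iv5 F431217)) (tt N94165 F431100) (tt N64394 (iv7 D204109)))
theorem Q100962 : ∀ i, i < 100962 → P i := stepQ 100961 Q100961 (allL N100961 (tt N109761 (iv1 F468494)) (tt N120358 F520359) (tt N120286 (iv2 F520031)) (tt N112967 F483395) (tt N64396 (iv4 D204110)) (tt N113439 (iv5 F485497)) (tt N120360 D223619) (tt N120288 (iv7 F520042)))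
theorem Q100963 : ∀ i, i < 100963 → P i := stepQ 100962 Q100962 (allL N100962 (tt N120301 F520107) (tt N120361 D223620) (tt N120287 (iv2 F520036)) (tt N116557 (iv3 F500746)) (tt N120360 (iv4 F520369)) (tt N112516 (iv5 F481460)) (tt N64396 (iv6 D204111)) (tt N120362 D223621))
theorem Q100964 : ∀ i, i < 100964 → P i := stepQ 100963 Q100963 (allL N100963 (tt N88823 (iv1 F443307)) (tt N76952 (iv0 F443306)) (tt N112283 (iv2 F480344)) (tt N64398 (iv3 D204112)) (tt N116136 (iv4 F498672)) (tt N103906 F443305) (tt N113985 F488068) (tt N113061 (iv7 F483796)))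
theorem Q100965 : ∀ i, i < 100965 → P i := stepQ 100964 Q100964 (allL N100964 (tt N112882 (iv1 F483129)) (tt N116820 F502001) (tt N116818 (iv2 F501994)) (tt N120086 (iv3 F518974)) (tt N64398 (iv4 D204113)) (tt N120085 (iv5 F518971)) (tt N73931 F440455) (tt N116817 (iv7 F501990)))
theorem Q100966 : ∀ i, i < 100966 → P i := stepQ 100965 Q100965 (allL N100965 (tt N71406 F440453) (tt N120306 (iv0 F520131)) (tt N107057 (iv2 F456796)) (tt N113985 F488067) (tt N73931 (iv4 F440454)) (tt N103182 F440452) (tt N64398 (iv6 D204114)) (tt N73930 F440456))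
theorem Q100967 : ∀ i, i < 100967 → P i := stepQ 100966 Q100966 (allL N100966 (tt N116820 (iv1 F502002)) (tt N112882 (iv0 F483128)) (tt N116817 F501988) (tt N112947 F483339) (tt N64399 (iv4 D204115)) (tt N113357 (iv5 F485162)) (tt N120363 D223622) (tt N116818 (iv7 F501991)))
theorem Q100968 : ∀ i, i < 100968 → P i := stepQ 100967 Q100967 (allL N100967 (tt N110870 F500716) (tt N119971 (iv0 F518327)) (tt N119974 F518339) (tt N116560 (iv3 F500748)) (tt N120363 (iv4 F520380)) (tt N116549 (iv5 F500715)) (tt N64399 (iv6 D204116)) (tt N119975 (iv7 F518341)))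
theorem Q100969 : ∀ i, i < 100969 → P i := stepQ 100968 Q100968 (allL N100968 (tt N83437 (iv1 F431104)) (tt N64400 (iv0 D204117)) (tt N116444 (iv2 F500146)) (tt N82669 F431105) (tt N89960 F431103) (tt N86931 F431102) (tt N109557 (iv6 F467509)) (tt N113374 (iv7 F485235)))
theorem Q100970 : ∀ i, i < 100970 → P i := stepQ 100969 Q100969 (allL N100969 (tt N64400 (iv1 D204118)) (tt N83437 F431106) (tt N113374 F485239) (tt N116270 F499293) (tt N89959 F431107) (tt N113373 (iv5 F485240)) (tt N120364 D223623) (tt N116444 (iv7 F500150)))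
theorem Q100971 : ∀ i, i < 100971 → P i := stepQ 100970 Q100970 (allL N100970 (tt N91141 F431111) (tt N113718 (iv0 F486811)) (tt N81397 F431108) (tt N64402 F431109) (tt N120365 D223624) (tt N64401 (iv5 D204119)) (tt N64525 F431110) (tt N114019 (iv7 F488222)))
theorem Q100972 : ∀ i, i < 100972 → P i := stepQ 100971 Q100971 (allL N100971 (tt N91027 (iv1 F431113)) (tt N87276 F431114) (tt N115880 (iv2 F497383)) (tt N64403 F431112) (tt N110337 (iv4 F471111)) (tt N114019 (iv5 F488223)) (tt N110518 F471955) (tt N64401 (iv7 D204120)))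
theorem Q100973 : ∀ i, i < 100973 → P i := stepQ 100972 Q100972 (allL N100972 (tt N81906 F431119) (tt N64402 (iv0 D204121)) (tt N81904 (iv2 F431117)) (tt N113484 (iv3 F485708)) (tt N101309 (iv4 F432603)) (tt N96195 F431115) (tt N91123 F431116) (tt N81905 (iv7 F431118)))
theorem Q100974 : ∀ i, i < 100974 → P i := stepQ 100973 Q100973 (allL N100973 (tt N64402 (iv1 D204122)) (tt N81906 F431120) (tt N81905 F431123) (tt N100762 (iv3 F432606)) (tt N101310 (iv4 F432604)) (tt N96196 (iv5 F431122)) (tt N111197 (iv6 F475187)) (tt N81904 F431121))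
theorem Q100975 : ∀ i, i < 100975 → P i := stepQ 100974 Q100974 (allL N100974 (tt N101351 (iv1 F432745)) (tt N101352 (iv0 F432750)) (tt N81903 F431124) (tt N112690 (iv3 F482188)) (tt N64402 (iv4 D204123)) (tt N110726 (iv5 F472915)) (tt N64527 F431125) (tt N120366 D223625))
theorem Q100976 : ∀ i, i < 100976 → P i := stepQ 100975 Q100975 (allL N100975 (tt N81905 (iv1 F431129)) (tt N81904 F431130) (tt N81906 F431126) (tt N114019 F488225) (tt N120366 (iv4 F520397)) (tt N64403 F431127) (tt N81912 F431128) (tt N64402 (iv7 D204124)))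
theorem Q100977 : ∀ i, i < 100977 → P i := stepQ 100976 Q100976 (allL N100976 (tt N75985 (iv1 F431135)) (tt N73861 F431136) (tt N79109 F431131) (tt N64407 F431132) (tt N73857 F431133) (tt N116719 (iv5 F501482)) (tt N79111 F431134) (tt N64404 (iv7 D204125)))
theorem Q100978 : ∀ i, i < 100978 → P i := stepQ 100977 Q100977 (allL N100977 (tt N101053 (iv1 F431469)) (tt N101054 (iv0 F431474)) (tt N101334 (iv2 F432688)) (tt N119186 (iv3 F514256)) (tt N64406 (iv4 D204126)) (tt N119165 (iv5 F514144)) (tt N64532 F431139) (tt N101333 F432684))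
theorem Q100979 : ∀ i, i < 100979 → P i := stepQ 100978 Q100978 (allL N100978 (tt N105259 (iv1 F449429)) (tt N89390 (iv0 F431142)) (tt N107419 (iv2 F458274)) (tt N116719 (iv3 F501484)) (tt N101333 (iv4 F432681)) (tt N64407 F431140) (tt N73281 F431141) (tt N64406 (iv7 D204127)))
theorem Q100980 : ∀ i, i < 100980 → P i := stepQ 100979 Q100979 (allL N100979 (tt N117335 (iv1 F504516)) (tt N114023 (iv0 F488241)) (tt N117337 (iv2 F504522)) (tt N64409 F431143) (tt N101378 F432813) (tt N64408 (iv5 D204128)) (tt N89535 F431144) (tt N117299 (iv7 F504354)))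
theorem Q100981 : ∀ i, i < 100981 → P i := stepQ 100980 Q100980 (allL N100980 (tt N64411 (iv1 F431146)) (tt N64409 (iv0 D204129)) (tt N105240 (iv2 F449343)) (tt N120073 (iv3 F518903)) (tt N120367 D223626) (tt N100945 F431145) (tt N117297 (iv6 F504338)) (tt N105242 (iv7 F449357)))
theorem Q100982 : ∀ i, i < 100982 → P i := stepQ 100981 Q100981 (allL N100981 (tt N64409 (iv1 D204130)) (tt N64411 F431147) (tt N105242 (iv2 F449355)) (tt N119654 (iv3 F516740)) (tt N120368 D223627) (tt N104328 F445276) (tt N111917 F478633) (tt N105240 (iv7 F449344)))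
theorem Q100983 : ∀ i, i < 100983 → P i := stepQ 100982 Q100982 (allL N100982 (tt N100861 F449137) (tt N100868 (iv0 F431150)) (tt N110867 (iv2 F473521)) (tt N101390 (iv3 F432833)) (tt N64409 (iv4 D204131)) (tt N100860 F431149) (tt N96264 F431148) (tt N116183 (iv7 F498895)))
theorem Q100984 : ∀ i, i < 100984 → P i := stepQ 100983 Q100983 (allL N100983 (tt N109557 (iv1 F467508)) (tt N109555 (iv0 F467499)) (tt N116740 (iv2 F501579)) (tt N64411 F431151) (tt N120306 F520129) (tt N64410 (iv5 D204132)) (tt N112777 (iv6 F482606)) (tt N110865 (iv7 F473508)))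
theorem Q100985 : ∀ i, i < 100985 → P i := stepQ 100984 Q100984 (allL N100984 (tt N100868 (iv1 F431153)) (tt N100861 (iv0 F431154)) (tt N116183 (iv2 F498893)) (tt N120307 (iv3 F520133)) (tt N64411 (iv4 D204133)) (tt N90890 F431152) (tt N112778 (iv6 F482609)) (tt N110867 (iv7 F473523)))
theorem Q100986 : ∀ i, i < 100986 → P i := stepQ 100985 Q100985 (allL N100985 (tt N86274 F431159) (tt N73507 F431158) (tt N69994 F431155) (tt N73880 F431156) (tt N108225 (iv4 F461557)) (tt N64412 (iv5 D204134)) (tt N104100 (iv6 F444179)) (tt N69992 F431157))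
theorem Q100987 : ∀ i, i < 100987 → P i := stepQ 100986 Q100986 (allL N100986 (tt N83908 F431164) (tt N88569 (iv0 F431163)) (tt N88580 F431162) (tt N64413 (iv3 D204135)) (tt N117630 (iv4 F506090)) (tt N84350 F431160) (tt N119961 (iv6 F518273)) (tt N88579 F431161))
theorem Q100988 : ∀ i, i < 100988 → P i := stepQ 100987 Q100987 (allL N100987 (tt N100862 F431165) (tt N100588 F431166) (tt N101286 F432533) (tt N119962 (iv3 F518280)) (tt N64413 (iv4 D204136)) (tt N112952 (iv5 F483358)) (tt N119969 (iv6 F518316)) (tt N101287 (iv7 F432536)))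
theorem Q100989 : ∀ i, i < 100989 → P i := stepQ 100988 Q100988 (allL N100988 (tt N72562 (iv1 F431168)) (tt N108004 F460684) (tt N108002 (iv2 F460677)) (tt N119961 (iv3 F518278)) (tt N119969 (iv4 F518315)) (tt N64918 F431167) (tt N64413 (iv6 D204137)) (tt N108001 F460671))
theorem Q100990 : ∀ i, i < 100990 → P i := stepQ 100989 Q100989 (allL N100989 (tt N100588 F431171) (tt N100862 F431172) (tt N101287 F432538) (tt N120369 D223628) (tt N64414 (iv4 D204138)) (tt N84328 F431170) (tt N69932 F431169) (tt N101286 F432534))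
theorem Q100991 : ∀ i, i < 100991 → P i := stepQ 100990 Q100990 (allL N100990 (tt N116137 (iv1 F498679)) (tt N64415 (iv0 D204139)) (tt N120243 (iv2 F519779)) (tt N120370 D223629) (tt N64756 F431184) (tt N88590 F431185) (tt N120310 (iv6 F520148)) (tt N120244 (iv7 F519781)))
theorem Q100992 : ∀ i, i < 100992 → P i := stepQ 100991 Q100991 (allL N100991 (tt N64415 (iv1 D204140)) (tt N116137 (iv0 F498678)) (tt N120244 (iv2 F519785)) (tt N107389 (iv3 F458182)) (tt N64757 F431173) (tt N84415 (iv5 F431177)) (tt N69874 (iv6 F431176)) (tt N120243 (iv7 F519778)))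
theorem Q100993 : ∀ i, i < 100993 → P i := stepQ 100992 Q100992 (allL N100992 (tt N111966 (iv1 F478891)) (tt N111965 (iv0 F478884)) (tt N120304 (iv2 F520115)) (tt N64415 (iv3 D204141)) (tt N104105 (iv4 F444204)) (tt N110875 (iv5 F473556)) (tt N64417 F431178) (tt N112787 (iv7 F482629)))
theorem Q100994 : ∀ i, i < 100994 → P i := stepQ 100993 Q100993 (allL N100993 (tt N88592 (iv1 F431182)) (tt N84979 F431183) (tt N112951 (iv2 F483350)) (tt N110875 (iv3 F473558)) (tt N84325 F431180) (tt N64415 (iv5 D204142)) (tt N100862 F431179) (tt N88443 F431181))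
theorem Q100995 : ∀ i, i < 100995 → P i := stepQ 100994 Q100994 (allL N100994 (tt N120244 (iv1 F519780)) (tt N120243 F519776) (tt N116137 (iv2 F498674)) (tt N112787 (iv3 F482626)) (tt N64416 F431186) (tt N88443 F431187) (tt N88596 F431188) (tt N64415 (iv7 D204143)))
theorem Q100996 : ∀ i, i < 100996 → P i := stepQ 100995 Q100995 (allL N100995 (tt N111915 F478626) (tt N64417 (iv0 D204144)) (tt N120290 (iv2 F520055)) (tt N100869 F449146) (tt N100891 F431189) (tt N120371 D223630) (tt N100868 (iv6 F449145)) (tt N120289 F520050))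
theorem Q100997 : ∀ i, i < 100997 → P i := stepQ 100996 Q100996 (allL N100996 (tt N64417 (iv1 D204145)) (tt N111915 F478628) (tt N120289 F520049) (tt N100576 (iv3 F431193)) (tt N100890 (iv4 F431190)) (tt N100875 (iv5 F431191)) (tt N100579 F431192) (tt N120290 (iv7 F520052)))
theorem Q100998 : ∀ i, i < 100998 → P i := stepQ 100997 Q100997 (allL N100997 (tt N120290 (iv1 F520051)) (tt N120289 F520048) (tt N64417 (iv2 D204146)) (tt N120248 (iv3 F519802)) (tt N111918 (iv4 F478639)) (tt N100885 F431194) (tt N120304 (iv6 F520119)) (tt N111915 F478627))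
theorem Q100999 : ∀ i, i < 100999 → P i := stepQ 100998 Q100998 (allL N100998 (tt N83089 F431197) (tt N120007 (iv0 F518527)) (tt N106427 (iv2 F454381)) (tt N104200 (iv3 F444665)) (tt N98532 F431196) (tt N64425 (iv5 D204147)) (tt N64589 F431195) (tt N108786 (iv7 F463926)))
theorem Q101000 : ∀ i, i < 101000 → P i := stepQ 100999 Q100999 (allL N100999 (tt N101692 F433894) (tt N92583 F431201) (tt N102947 (iv2 F439379)) (tt N84231 F431198) (tt N75653 F431199) (tt N64426 (iv5 D204148)) (tt N87699 F431200) (tt N102948 (iv7 F439385)))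
theorem Q101001 : ∀ i, i < 101001 → P i := stepQ 101000 Q101000 (allL N101000 (tt N76072 F431203) (tt N76075 F431204) (tt N77265 F431202) (tt N108257 (iv3 F461731)) (tt N112182 (iv4 F479935)) (tt N64431 (iv5 D204149)) (tt N108017 (iv6 F460748)) (tt N107101 (iv7 F456972)))
theorem Q101002 : ∀ i, i < 101002 → P i := stepQ 101001 Q101001 (allL N101001 (tt N90176 F431209) (tt N90174 F431210) (tt N77277 F431205) (tt N64434 F431206) (tt N99238 F431208) (tt N64433 (iv5 D204150)) (tt N72434 F431211) (tt N64571 F431207))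
theorem Q101003 : ∀ i, i < 101003 → P i := stepQ 101002 Q101002 (allL N101002 (tt N120280 (iv1 F519996)) (tt N100959 F431215) (tt N64440 F431212) (tt N64592 F431213) (tt N105450 (iv4 F450316)) (tt N64437 (iv5 D204151)) (tt N69785 F431214) (tt N106488 (iv7 F454647)))
theorem Q101004 : ∀ i, i < 101004 → P i := stepQ 101003 Q101003 (allL N101003 (tt N106488 (iv1 F454649)) (tt N64440 (iv0 D204152)) (tt N120280 (iv2 F520002)) (tt N77213 F431216) (tt N120372 D223631) (tt N100960 F431217) (tt N116102 (iv6 F498466)) (tt N100959 (iv7 F431218)))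
theorem Q101005 : ∀ i, i < 101005 → P i := stepQ 101004 Q101004 (allL N101004 (tt N64440 (iv1 D204153)) (tt N106488 (iv0 F454648)) (tt N100959 F431220) (tt N88637 (iv3 F442482)) (tt N117054 (iv4 F503146)) (tt N100840 (iv5 F431219)) (tt N105451 (iv6 F450324)) (tt N120280 (iv7 F519997)))
theorem Q101006 : ∀ i, i < 101006 → P i := stepQ 101005 Q101005 (allL N101005 (tt N68263 F431226) (tt N88604 (iv0 F431227)) (tt N64603 F431221) (tt N84006 F431222) (tt N67502 F431223) (tt N70002 F431224) (tt N64442 (iv6 D204154)) (tt N88602 F431225))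
theorem Q101007 : ∀ i, i < 101007 → P i := stepQ 101006 Q101006 (allL N101006 (tt N65199 (iv1 F431233)) (tt N83964 (iv0 F431234)) (tt N86001 F431228) (tt N64443 (iv3 D204155)) (tt N83622 F431229) (tt N88490 F431230) (tt N85043 F431231) (tt N64600 F431232))
theorem Q101008 : ∀ i, i < 101008 → P i := stepQ 101007 Q101007 (allL N101007 (tt N107764 F459623) (tt N107767 (iv0 F459631)) (tt N96499 F431235) (tt N64444 (iv3 D204156)) (tt N80810 F431236) (tt N107226 (iv5 F457540)) (tt N82425 F431237) (tt N64611 F431238))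
theorem Q101009 : ∀ i, i < 101009 → P i := stepQ 101008 Q101008 (allL N101008 (tt N77493 (iv1 F431245)) (tt N80409 F431244) (tt N64446 (iv2 D204157)) (tt N64619 F431239) (tt N65405 F431240) (tt N80410 F431241) (tt N64958 F431242) (tt N82347 F431243))
theorem Q101010 : ∀ i, i < 101010 → P i := stepQ 101009 Q101009 (allL N101009 (tt N64503 F431253) (tt N64852 F431254) (tt N64661 F431248) (tt N77285 F431249) (tt N70265 F431252) (tt N64448 (iv5 D204158)) (tt N89851 F431250) (tt N64831 F431251))
theorem Q101011 : ∀ i, i < 101011 → P i := stepQ 101010 Q101010 (allL N101010 (tt N64882 F431256) (tt N117132 (iv0 F503555)) (tt N64628 F431255) (tt N111344 (iv3 F475916)) (tt N112543 (iv4 F481593)) (tt N64452 (iv5 D204159)) (tt N109096 (iv6 F465320)) (tt N105005 (iv7 F448330)))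
theorem Q101012 : ∀ i, i < 101012 → P i := stepQ 101011 Q101011 (allL N101011 (tt N75774 F431261) (tt N103058 (iv0 F439889)) (tt N82333 F431257) (tt N87702 F431258) (tt N64454 F431259) (tt N67822 F431260) (tt N64453 (iv6 D204160)) (tt N103098 (iv7 F440062)))
theorem Q101013 : ∀ i, i < 101013 → P i := stepQ 101012 Q101012 (allL N101012 (tt N87697 F431267) (tt N83975 (iv0 F431268)) (tt N80453 F431262) (tt N81370 F431263) (tt N64455 (iv4 D204161)) (tt N80450 F431266) (tt N68479 F431264) (tt N88619 F431265))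
theorem Q101014 : ∀ i, i < 101014 → P i := stepQ 101013 Q101013 (allL N101013 (tt N70343 F431270) (tt N104150 F444428) (tt N94487 F431269) (tt N110423 (iv3 F471509)) (tt N114407 (iv4 F489996)) (tt N64455 (iv5 D204162)) (tt N70326 (iv6 F431271)) (tt N104148 (iv7 F444417)))
theorem Q101015 : ∀ i, i < 101015 → P i := stepQ 101014 Q101014 (allL N101014 (tt N111810 (iv1 F478094)) (tt N64456 (iv0 D204163)) (tt N114960 (iv2 F492769)) (tt N113865 F487531) (tt N120373 D223632) (tt N68281 F439914) (tt N120374 D223633) (tt N117053 (iv7 F503138)))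
theorem Q101016 : ∀ i, i < 101016 → P i := stepQ 101015 Q101015 (allL N101015 (tt N64456 (iv1 D204164)) (tt N111810 (iv0 F478093)) (tt N117053 (iv2 F503143)) (tt N110425 (iv3 F471525)) (tt N114409 (iv4 F490004)) (tt N68280 F431272) (tt N84964 F431279) (tt N114960 (iv7 F492771)))
theorem Q101017 : ∀ i, i < 101017 → P i := stepQ 101016 Q101016 (allL N101016 (tt N80546 F431283) (tt N64467 (iv0 F431284)) (tt N77298 F431280) (tt N64457 (iv3 D204165)) (tt N104471 (iv4 F445903)) (tt N100654 F431281) (tt N105315 (iv6 F449668)) (tt N64677 F431282))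
theorem Q101018 : ∀ i, i < 101018 → P i := stepQ 101017 Q101017 (allL N101017 (tt N78327 (iv1 F431290)) (tt N78748 F431291) (tt N67011 F431285) (tt N79498 F431286) (tt N64461 F431287) (tt N81785 F431288) (tt N67010 F431289) (tt N64458 (iv7 D204166)))
theorem Q101019 : ∀ i, i < 101019 → P i := stepQ 101018 Q101018 (allL N101018 (tt N90174 F431296) (tt N90176 F431297) (tt N64571 F431292) (tt N64688 F431293) (tt N99237 F431294) (tt N64459 (iv5 D204167)) (tt N113304 (iv6 F484932)) (tt N77277 F431295))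
theorem Q101020 : ∀ i, i < 101020 → P i := stepQ 101019 Q101019 (allL N101019 (tt N100507 F431305) (tt N66404 F431304) (tt N77608 F431299) (tt N66917 F431300) (tt N70572 F431301) (tt N64464 (iv5 D204168)) (tt N77582 F431302) (tt N66494 F431303))
theorem Q101021 : ∀ i, i < 101021 → P i := stepQ 101020 Q101020 (allL N101020 (tt N64467 (iv1 D204169)) (tt N80546 F431306) (tt N64677 F431309) (tt N64696 F431310) (tt N104474 (iv4 F445925)) (tt N100893 (iv5 F431308)) (tt N105501 F450488) (tt N77298 F431307))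
theorem Q101022 : ∀ i, i < 101022 → P i := stepQ 101021 Q101021 (allL N101021 (tt N64479 F431316) (tt N64468 (iv0 D204170)) (tt N64476 (iv2 F431314)) (tt N71810 F431312) (tt N81331 F431311) (tt N106175 (iv5 F453460)) (tt N71809 F431313) (tt N64477 (iv7 F431315)))
theorem Q101023 : ∀ i, i < 101023 → P i := stepQ 101022 Q101022 (allL N101022 (tt N64468 (iv1 D204171)) (tt N64479 F431317) (tt N64477 F431321) (tt N75982 (iv3 F431319)) (tt N81292 F431322) (tt N105853 (iv5 F452040)) (tt N81291 (iv6 F431320)) (tt N64476 F431318))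
theorem Q101024 : ∀ i, i < 101024 → P i := stepQ 101023 Q101023 (allL N101023 (tt N90080 F431328) (tt N113310 F484957) (tt N64478 F431323) (tt N64700 F431324) (tt N97814 F431326) (tt N64468 (iv5 D204172)) (tt N64471 F431325) (tt N85661 (iv7 F431327)))
theorem Q101025 : ∀ i, i < 101025 → P i := stepQ 101024 Q101024 (allL N101024 (tt N64477 (iv1 F431333)) (tt N64476 F431334) (tt N64479 F431329) (tt N64701 F431330) (tt N103807 (iv4 F442913)) (tt N85661 F431331) (tt N77139 F431332) (tt N64468 (iv7 D204173)))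
theorem Q101026 : ∀ i, i < 101026 → P i := stepQ 101025 Q101025 (allL N101025 (tt N104919 (iv1 F447942)) (tt N109868 F469000) (tt N64488 F431335) (tt N93134 F431339) (tt N64471 (iv4 D204174)) (tt N78296 F431336) (tt N97814 F431337) (tt N78295 (iv7 F431340)))
theorem Q101027 : ∀ i, i < 101027 → P i := stepQ 101026 Q101026 (allL N101026 (tt N64487 (iv1 F431348)) (tt N64486 F431349) (tt N64489 F431343) (tt N64703 F431344) (tt N78295 F431345) (tt N64472 F431346) (tt N78297 F431347) (tt N64471 (iv7 D204175)))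
theorem Q101028 : ∀ i, i < 101028 → P i := stepQ 101027 Q101027 (allL N101027 (tt N120279 (iv1 F519994)) (tt N120253 (iv0 F519831)) (tt N101292 (iv2 F432561)) (tt N100368 F431350) (tt N94302 F431351) (tt N64473 (iv5 D204176)) (tt N111353 (iv6 F475968)) (tt N113365 (iv7 F485193)))
theorem Q101029 : ∀ i, i < 101029 → P i := stepQ 101028 Q101028 (allL N101028 (tt N77330 (iv1 F431355)) (tt N64752 F431356) (tt N101293 (iv2 F432564)) (tt N75973 F431352) (tt N81318 F431353) (tt N113365 (iv5 F485192)) (tt N81317 F431354) (tt N64473 (iv7 D204177)))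
theorem Q101030 : ∀ i, i < 101030 → P i := stepQ 101029 Q101029 (allL N101029 (tt N81330 (iv1 F431362)) (tt N79906 (iv0 F431361)) (tt N81331 F431357) (tt N99583 F431358) (tt N64476 (iv4 D204178)) (tt N111101 (iv5 F474669)) (tt N81344 F431359) (tt N81292 F431360))
theorem Q101031 : ∀ i, i < 101031 → P i := stepQ 101030 Q101030 (allL N101030 (tt N117590 F505876) (tt N105060 F448607) (tt N106175 (iv2 F453457)) (tt N108060 (iv3 F460933)) (tt N105854 (iv4 F452045)) (tt N64476 (iv5 D204179)) (tt N106172 (iv6 F453443)) (tt N105853 F452042))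
theorem Q101032 : ∀ i, i < 101032 → P i := stepQ 101031 Q101031 (allL N101031 (tt N74388 (iv1 F431368)) (tt N74387 (iv0 F431367)) (tt N74389 F431363) (tt N64477 (iv3 D204180)) (tt N74386 F431364) (tt N106179 (iv5 F453482)) (tt N80017 F431365) (tt N71810 F431366))
theorem Q101033 : ∀ i, i < 101033 → P i := stepQ 101032 Q101032 (allL N101032 (tt N105060 (iv1 F449253)) (tt N117590 (iv0 F505875)) (tt N105853 (iv2 F452038)) (tt N106179 (iv3 F453480)) (tt N70686 (iv4 F431371)) (tt N64477 (iv5 D204181)) (tt N99161 F431369) (tt N106175 (iv7 F453461)))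
theorem Q101034 : ∀ i, i < 101034 → P i := stepQ 101033 Q101033 (allL N101033 (tt N64478 (iv1 D204182)) (tt N85661 F431375) (tt N113310 (iv2 F484955)) (tt N90084 (iv3 F431377)) (tt N98449 (iv4 F431378)) (tt N105217 (iv5 F449247)) (tt N113308 (iv6 F484951)) (tt N90080 F431376))
theorem Q101035 : ∀ i, i < 101035 → P i := stepQ 101034 Q101034 (allL N101034 (tt N86213 F431386) (tt N97813 (iv0 F431385)) (tt N97814 F431380) (tt N86202 F431383) (tt N64478 (iv4 D204183)) (tt N68321 F431382) (tt N64488 F431381) (tt N97794 (iv7 F431384)))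
theorem Q101036 : ∀ i, i < 101036 → P i := stepQ 101035 Q101035 (allL N101035 (tt N113310 (iv1 F484958)) (tt N90080 F431392) (tt N85661 F431387) (tt N64496 F431388) (tt N97794 F431389) (tt N64479 F431390) (tt N97795 F431391) (tt N64478 (iv7 D204184)))
theorem Q101037 : ∀ i, i < 101037 → P i := stepQ 101036 Q101036 (allL N101036 (tt N73960 F431396) (tt N81500 F431398) (tt N70493 F431393) (tt N82502 F431394) (tt N79911 F431397) (tt N64480 (iv5 D204185)) (tt N70478 F431395) (tt N120021 (iv7 F518600)))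
theorem Q101038 : ∀ i, i < 101038 → P i := stepQ 101037 Q101037 (allL N101037 (tt N116515 (iv1 F500565)) (tt N116761 (iv0 F501689)) (tt N112029 (iv2 F479149)) (tt N100207 F431399) (tt N64481 (iv4 D204186)) (tt N104188 F444596) (tt N100205 (iv6 F431400)) (tt N108804 (iv7 F464033)))
theorem Q101039 : ∀ i, i < 101039 → P i := stepQ 101038 Q101038 (allL N101038 (tt N76676 (iv1 F431406)) (tt N76574 (iv0 F431405)) (tt N76673 F431401) (tt N99420 F431402) (tt N100205 F431403) (tt N96312 F431404) (tt N64481 (iv6 D204187)) (tt N76674 (iv7 F431408)))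
theorem Q101040 : ∀ i, i < 101040 → P i := stepQ 101039 Q101039 (allL N101039 (tt N81500 F431412) (tt N73960 F431411) (tt N120021 (iv2 F518596)) (tt N75183 F431409) (tt N74940 F431413) (tt N64483 (iv5 D204188)) (tt N74938 F431414) (tt N70493 F431410))
theorem Q101041 : ∀ i, i < 101041 → P i := stepQ 101040 Q101040 (allL N101040 (tt N116761 (iv1 F501690)) (tt N116515 (iv0 F500564)) (tt N108804 (iv2 F464030)) (tt N86133 (iv3 F431416)) (tt N64484 (iv4 D204189)) (tt N98274 F431415) (tt N98275 (iv6 F431417)) (tt N112029 (iv7 F479152)))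
theorem Q101042 : ∀ i, i < 101042 → P i := stepQ 101041 Q101041 (allL N101041 (tt N120200 (iv1 F519557)) (tt N120199 (iv0 F519551)) (tt N108805 (iv2 F464035)) (tt N109595 (iv3 F467642)) (tt N98275 F431418) (tt N120375 D223634) (tt N64484 (iv6 D204190)) (tt N119599 (iv7 F516456)))
theorem Q101043 : ∀ i, i < 101043 → P i := stepQ 101042 Q101042 (allL N101042 (tt N100580 F431422) (tt N100892 (iv0 F431423)) (tt N100894 F431419) (tt N100064 F431420) (tt N120376 D223635) (tt N64485 (iv5 D204191)) (tt N120375 (iv6 F520449)) (tt N100895 F431421))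
theorem Q101044 : ∀ i, i < 101044 → P i := stepQ 101043 Q101043 (allL N101043 (tt N104137 F444376) (tt N106378 (iv0 F454218)) (tt N90055 F431424) (tt N64486 (iv3 D204192)) (tt N89161 F431426) (tt N80605 F431425) (tt N114666 (iv6 F491279)) (tt N113307 (iv7 F484947)))
theorem Q101045 : ∀ i, i < 101045 → P i := stepQ 101044 Q101044 (allL N101044 (tt N97975 F431431) (tt N98446 F431432) (tt N98445 F431427) (tt N89162 F431428) (tt N64486 (iv4 D204193)) (tt N76642 F431430) (tt N113106 F483998) (tt N98444 F431429))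
theorem Q101046 : ∀ i, i < 101046 → P i := stepQ 101045 Q101045 (allL N101045 (tt N114786 F491856) (tt N99162 (iv0 F431433)) (tt N105222 (iv2 F449267)) (tt N114666 F491283) (tt N113106 (iv4 F483999)) (tt N105214 (iv5 F449234)) (tt N64486 (iv6 D204194)) (tt N105221 (iv7 F449261)))
theorem Q101047 : ∀ i, i < 101047 → P i := stepQ 101046 Q101046 (allL N101046 (tt N98446 (iv1 F431437)) (tt N97975 F431438) (tt N98444 F431434) (tt N78782 F431435) (tt N64487 (iv4 D204195)) (tt N104081 (iv5 F444080)) (tt N106193 (iv6 F453553)) (tt N98445 F431436))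
theorem Q101048 : ∀ i, i < 101048 → P i := stepQ 101047 Q101047 (allL N101047 (tt N78295 (iv1 F431439)) (tt N64488 (iv0 D204196)) (tt N104919 (iv2 F447937)) (tt N109682 (iv3 F468084)) (tt N116399 (iv4 F499890)) (tt N100661 F431440) (tt N120377 D223636) (tt N109868 (iv7 F469001)))
theorem Q101049 : ∀ i, i < 101049 → P i := stepQ 101048 Q101048 (allL N101048 (tt N115171 (iv1 F493839)) (tt N86210 (iv0 F444691)) (tt N115323 (iv2 F494588)) (tt N64488 (iv3 D204197)) (tt N64509 F431441) (tt N109696 (iv5 F468156)) (tt N86202 F431442) (tt N85086 F431443))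
theorem Q101050 : ∀ i, i < 101050 → P i := stepQ 101049 Q101049 (allL N101049 (tt N78294 (iv1 F431449)) (tt N74464 F431448) (tt N78296 F431444) (tt N109696 (iv3 F468157)) (tt N76639 F431445) (tt N64488 (iv5 D204198)) (tt N92031 F431446) (tt N68270 F431447))
theorem Q101051 : ∀ i, i < 101051 → P i := stepQ 101050 Q101050 (allL N101050 (tt N96197 F431454) (tt N90862 F431455) (tt N64784 F431450) (tt N90855 F431451) (tt N101503 (iv4 F433181)) (tt N64490 (iv5 D204199)) (tt N100224 F431452) (tt N64793 F431453))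
theorem Q101052 : ∀ i, i < 101052 → P i := stepQ 101051 Q101051 (allL N101051 (tt N96000 F431459) (tt N95996 F431460) (tt N64787 F431456) (tt N116367 (iv3 F499743)) (tt N64491 (iv4 D204200)) (tt N120378 D223637) (tt N96479 F431457) (tt N64794 F431458))
theorem Q101053 : ∀ i, i < 101053 → P i := stepQ 101052 Q101052 (allL N101052 (tt N115359 (iv1 F494786)) (tt N89851 (iv0 F431465)) (tt N89096 F431461) (tt N64493 (iv3 D204201)) (tt N119547 (iv4 F516178)) (tt N84187 F431462) (tt N85380 F431463) (tt N64799 F431464))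
theorem Q101054 : ∀ i, i < 101054 → P i := stepQ 101053 Q101053 (allL N101053 (tt N119158 F514104) (tt N100977 F431469) (tt N64796 F431466) (tt N119172 (iv3 F514181)) (tt N64493 (iv4 D204202)) (tt N118138 (iv5 F508809)) (tt N72308 F431467) (tt N64800 F431468))
theorem Q101055 : ∀ i, i < 101055 → P i := stepQ 101054 Q101054 (allL N101054 (tt N100977 F431474) (tt N119158 (iv0 F514103)) (tt N64800 F431470) (tt N86221 F431471) (tt N64494 (iv4 D204203)) (tt N101659 (iv5 F433735)) (tt N95707 F431472) (tt N64796 F431473))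
theorem Q101056 : ∀ i, i < 101056 → P i := stepQ 101055 Q101055 (allL N101055 (tt N86074 F471950) (tt N117479 F505248) (tt N117478 (iv2 F505241)) (tt N64495 (iv3 D204204)) (tt N86202 F431475) (tt N119232 (iv5 F514507)) (tt N64509 F431476) (tt N117477 F505235))
theorem Q101057 : ∀ i, i < 101057 → P i := stepQ 101056 Q101056 (allL N101056 (tt N64804 (iv1 F431481)) (tt N64803 F431482) (tt N64807 F431477) (tt N117477 F505234) (tt N64496 F431478) (tt N93409 F431479) (tt N96415 F431480) (tt N64495 (iv7 D204205)))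
theorem Q101058 : ∀ i, i < 101058 → P i := stepQ 101057 Q101057 (allL N101057 (tt N64852 F431486) (tt N64503 F431487) (tt N64831 F431483) (tt N75909 F431484) (tt N105548 (iv4 F450683)) (tt N64497 (iv5 D204206)) (tt N117232 (iv6 F504033)) (tt N64661 F431485))
theorem Q101059 : ∀ i, i < 101059 → P i := stepQ 101058 Q101058 (allL N101058 (tt N116138 (iv1 F498686)) (tt N105576 (iv0 F450814)) (tt N104769 (iv2 F447177)) (tt N116330 F499591) (tt N64498 (iv4 D204207)) (tt N67945 F431489) (tt N120379 D223638) (tt N64835 F431488))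
theorem Q101060 : ∀ i, i < 101060 → P i := stepQ 101059 Q101059 (allL N101059 (tt N71174 F431492) (tt N114345 (iv0 F489733)) (tt N104770 (iv2 F447184)) (tt N64500 F431490) (tt N120379 (iv4 F520470)) (tt N81432 F431491) (tt N64498 (iv6 D204208)) (tt N114770 (iv7 F491770)))
theorem Q101061 : ∀ i, i < 101061 → P i := stepQ 101060 Q101060 (allL N101060 (tt N110492 F471827) (tt N110499 F471860) (tt N96510 (iv2 F431495)) (tt N64499 (iv3 D204209)) (tt N116330 F499592) (tt N101368 (iv5 F432796)) (tt N96311 F431493) (tt N64838 F431494))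
theorem Q101062 : ∀ i, i < 101062 → P i := stepQ 101061 Q101061 (allL N101061 (tt N114982 (iv1 F492903)) (tt N114458 F490279) (tt N106281 (iv2 F453876)) (tt N64501 (iv3 D204210)) (tt N104980 (iv4 F448249)) (tt N106277 (iv5 F453857)) (tt N120380 D223639) (tt N64825 F431496))
theorem Q101063 : ∀ i, i < 101063 → P i := stepQ 101062 Q101062 (allL N101062 (tt N101484 (iv1 F443981)) (tt N101488 F433117) (tt N64839 F431497) (tt N120380 (iv3 F520475)) (tt N64502 F431498) (tt N120381 D223640) (tt N64501 (iv6 D204211)) (tt N96950 F431499))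
theorem Q101064 : ∀ i, i < 101064 → P i := stepQ 101063 Q101063 (allL N101063 (tt N64843 F431503) (tt N64502 (iv0 D204212)) (tt N64840 (iv2 F431501)) (tt N120200 (iv3 F519553)) (tt N112767 (iv4 F482566)) (tt N107379 (iv5 F458151)) (tt N69910 F431500) (tt N64841 (iv7 F431502)))
theorem Q101065 : ∀ i, i < 101065 → P i := stepQ 101064 Q101064 (allL N101064 (tt N64502 (iv1 D204213)) (tt N64843 F431504) (tt N64841 F431507) (tt N116513 F500552) (tt N102308 F436649) (tt N107380 (iv5 F458156)) (tt N64786 (iv6 F431506)) (tt N64840 F431505))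
theorem Q101066 : ∀ i, i < 101066 → P i := stepQ 101065 Q101065 (allL N101065 (tt N64841 (iv1 F431512)) (tt N64840 F431513) (tt N64843 F431508) (tt N70450 F431509) (tt N96950 F431510) (tt N111950 (iv5 F478831)) (tt N64828 F431511) (tt N64502 (iv7 D204214)))
theorem Q101067 : ∀ i, i < 101067 → P i := stepQ 101066 Q101066 (allL N101066 (tt N113119 F484055) (tt N110259 (iv0 F470684)) (tt N103935 (iv2 F443438)) (tt N88949 F431517) (tt N64503 (iv4 D204215)) (tt N69362 F431515) (tt N87636 (iv6 F431516)) (tt N64853 F431514))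
theorem Q101068 : ∀ i, i < 101068 → P i := stepQ 101067 Q101067 (allL N101067 (tt N84065 (iv1 F431523)) (tt N84062 (iv0 F431522)) (tt N103936 (iv2 F443445)) (tt N64505 F431519) (tt N87636 F431520) (tt N94913 F431521) (tt N64503 (iv6 D204216)) (tt N105227 (iv7 F449298)))
theorem Q101069 : ∀ i, i < 101069 → P i := stepQ 101068 Q101068 (allL N101068 (tt N105559 F450734) (tt N105561 (iv0 F450739)) (tt N114997 (iv2 F492974)) (tt N64504 (iv3 D204217)) (tt N88949 F431524) (tt N112541 (iv5 F481584)) (tt N88948 F431525) (tt N64855 F431526))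
theorem Q101070 : ∀ i, i < 101070 → P i := stepQ 101069 Q101069 (allL N101069 (tt N111132 (iv1 F474851)) (tt N105374 (iv0 F449946)) (tt N64856 F431527) (tt N114283 (iv3 F489384)) (tt N64507 F431528) (tt N95126 F431529) (tt N64506 (iv6 D204218)) (tt N96578 F431530))
theorem Q101071 : ∀ i, i < 101071 → P i := stepQ 101070 Q101070 (allL N101070 (tt N64860 (iv1 F431536)) (tt N64507 (iv0 D204219)) (tt N64857 (iv2 F431533)) (tt N106171 (iv3 F453435)) (tt N94780 F431532) (tt N106169 F453429) (tt N72513 F431534) (tt N64858 F431535))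
theorem Q101072 : ∀ i, i < 101072 → P i := stepQ 101071 Q101071 (allL N101071 (tt N64858 (iv1 F431540)) (tt N64857 F431541) (tt N64860 F431537) (tt N107254 (iv3 F457659)) (tt N96578 F431538) (tt N105148 (iv5 F448995)) (tt N64851 F431539) (tt N64507 (iv7 D204220)))
theorem Q101073 : ∀ i, i < 101073 → P i := stepQ 101072 Q101072 (allL N101072 (tt N114592 (iv1 F490912)) (tt N64509 (iv0 D204221)) (tt N114593 (iv2 F490919)) (tt N109628 F467824) (tt N86040 F431542) (tt N110258 (iv5 F470674)) (tt N119126 (iv6 F513927)) (tt N114306 (iv7 F489509)))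
theorem Q101074 : ∀ i, i < 101074 → P i := stepQ 101073 Q101073 (allL N101073 (tt N114593 (iv1 F490924)) (tt N114306 (iv0 F489511)) (tt N64509 (iv2 D204223)) (tt N64866 F431543) (tt N115323 (iv4 F494584)) (tt N112763 (iv5 F482538)) (tt N117478 F505240) (tt N114592 (iv7 F490913)))
theorem Q101075 : ∀ i, i < 101075 → P i := stepQ 101074 Q101074 (allL N101074 (tt N78298 F431548) (tt N80856 (iv0 F431549)) (tt N80864 F431544) (tt N64511 (iv3 D204224)) (tt N68408 F431545) (tt N106382 (iv5 F454223)) (tt N81835 F431546) (tt N64537 F431547))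
theorem Q101076 : ∀ i, i < 101076 → P i := stepQ 101075 Q101075 (allL N101075 (tt N64902 F431554) (tt N64901 F431555) (tt N64513 F431550) (tt N64908 F431551) (tt N69539 F431552) (tt N64512 (iv5 D204225)) (tt N111279 (iv6 F475602)) (tt N64900 F431553))
theorem Q101077 : ∀ i, i < 101077 → P i := stepQ 101076 Q101076 (allL N101076 (tt N120382 D223641) (tt N120383 D223642) (tt N111279 (iv2 F475600)) (tt N64515 F431557) (tt N111270 F475555) (tt N113776 (iv5 F487055)) (tt N64513 (iv6 D204226)) (tt N111280 (iv7 F475608)))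
theorem Q101078 : ∀ i, i < 101078 → P i := stepQ 101077 Q101077 (allL N101077 (tt N100838 F431561) (tt N100839 F431562) (tt N100957 F431558) (tt N64516 F431559) (tt N112896 (iv4 F483178)) (tt N64514 (iv5 D204227)) (tt N113776 (iv6 F487053)) (tt N82245 F431560))
theorem Q101079 : ∀ i, i < 101079 → P i := stepQ 101078 Q101078 (allL N101078 (tt N64920 (iv1 F431565)) (tt N64515 (iv0 D204228)) (tt N64917 (iv2 F431564)) (tt N89755 (iv3 F431567)) (tt N101383 F443976) (tt N108001 (iv5 F460668)) (tt N69953 F431563) (tt N64918 F431566))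
theorem Q101080 : ∀ i, i < 101080 → P i := stepQ 101079 Q101079 (allL N101079 (tt N100857 F431570) (tt N107444 (iv0 F458362)) (tt N64919 F431568) (tt N113776 (iv3 F487052)) (tt N111957 (iv4 F478856)) (tt N64515 (iv5 D204229)) (tt N64516 F431569) (tt N116180 (iv7 F498887)))
theorem Q101081 : ∀ i, i < 101081 → P i := stepQ 101080 Q101080 (allL N101080 (tt N76117 F431576) (tt N76115 F431577) (tt N76028 F431571) (tt N78745 F431572) (tt N65729 F431573) (tt N64519 (iv5 D204230)) (tt N82365 F431574) (tt N79772 F431575))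
theorem Q101082 : ∀ i, i < 101082 → P i := stepQ 101081 Q101081 (allL N101081 (tt N67302 F431582) (tt N67175 F431583) (tt N67300 F431578) (tt N64520 (iv3 D204231)) (tt N67280 F431579) (tt N106723 (iv5 F455413)) (tt N65122 F431580) (tt N67301 F431581))
theorem Q101083 : ∀ i, i < 101083 → P i := stepQ 101082 Q101082 (allL N101082 (tt N97612 (iv1 F431589)) (tt N97660 F431588) (tt N64521 (iv2 D204232)) (tt N81816 F431584) (tt N64584 F431585) (tt N81815 (iv5 F431590)) (tt N80218 F431586) (tt N97694 F431587))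
theorem Q101084 : ∀ i, i < 101084 → P i := stepQ 101083 Q101083 (allL N101083 (tt N81740 F431594) (tt N111872 (iv0 F478430)) (tt N81815 F431591) (tt N64522 F431592) (tt N80974 (iv4 F431595)) (tt N64521 (iv5 D204233)) (tt N79668 F431593) (tt N102406 (iv7 F437100)))
theorem Q101085 : ∀ i, i < 101085 → P i := stepQ 101084 Q101084 (allL N101084 (tt N65184 F431601) (tt N77268 (iv0 F431602)) (tt N77197 F431597) (tt N64524 F431598) (tt N108055 (iv4 F460903)) (tt N89012 F431600) (tt N64523 (iv6 D204234)) (tt N77267 F431599))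
theorem Q101086 : ∀ i, i < 101086 → P i := stepQ 101085 Q101085 (allL N101085 (tt N83487 F431606) (tt N90606 F431607) (tt N81396 F431603) (tt N117380 F504749) (tt N64525 (iv4 D204235)) (tt N90633 F431605) (tt N120365 (iv6 F520392)) (tt N81399 F431604))
theorem Q101087 : ∀ i, i < 101087 → P i := stepQ 101086 Q101086 (allL N101086 (tt N75847 (iv1 F431612)) (tt N64590 (iv0 F431610)) (tt N75870 (iv2 F431611)) (tt N64526 (iv3 D204236)) (tt N117136 (iv4 F503574)) (tt N76076 F431608) (tt N107193 (iv6 F457415)) (tt N75871 F431609))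
theorem Q101088 : ∀ i, i < 101088 → P i := stepQ 101087 Q101087 (allL N101087 (tt N119943 (iv1 F518163)) (tt N76837 F482151) (tt N120384 D223643) (tt N64527 (iv3 D204237)) (tt N117380 F504750) (tt N112682 F482152) (tt N112690 F482189) (tt N81907 F431613))
theorem Q101089 : ∀ i, i < 101089 → P i := stepQ 101088 Q101088 (allL N101088 (tt N101442 (iv1 F432982)) (tt N76814 F431617) (tt N77926 F431614) (tt N112682 F482149) (tt N81862 F431616) (tt N64527 (iv5 D204238)) (tt N99031 (iv6 F433002)) (tt N81908 F431615))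
theorem Q101090 : ∀ i, i < 101090 → P i := stepQ 101089 Q101089 (allL N101089 (tt N64600 F431624) (tt N86001 F431623) (tt N65199 F431618) (tt N77204 F431619) (tt N85970 F431622) (tt N64528 (iv5 D204239)) (tt N95902 F431620) (tt N83964 F431621))
theorem Q101091 : ∀ i, i < 101091 → P i := stepQ 101090 Q101090 (allL N101090 (tt N64921 F431627) (tt N77258 (iv0 F431629)) (tt N65251 F431625) (tt N105711 (iv3 F451367)) (tt N105714 (iv4 F451386)) (tt N100864 (iv5 F431628)) (tt N64530 (iv6 D204240)) (tt N81871 F431626))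
theorem Q101092 : ∀ i, i < 101092 → P i := stepQ 101091 Q101091 (allL N101091 (tt N110289 (iv1 F470868)) (tt N94144 F431633) (tt N88850 F431630) (tt N76531 F431634) (tt N64531 (iv4 D204241)) (tt N76530 F431631) (tt N108368 (iv6 F462287)) (tt N89667 F431632))
theorem Q101093 : ∀ i, i < 101093 → P i := stepQ 101092 Q101092 (allL N101092 (tt N116147 (iv1 F498746)) (tt N101404 F432861) (tt N105630 (iv2 F451031)) (tt N64532 (iv3 D204242)) (tt N76531 F431635) (tt N101847 (iv5 F434642)) (tt N119186 (iv6 F514257)) (tt N101395 (iv7 F432842)))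
theorem Q101094 : ∀ i, i < 101094 → P i := stepQ 101093 Q101093 (allL N101093 (tt N81836 (iv1 F431641)) (tt N64535 (iv0 D204243)) (tt N81898 (iv2 F431638)) (tt N75870 F431639) (tt N100761 F431637) (tt N94164 F431636) (tt N120193 F519523) (tt N94166 F431640))
theorem Q101095 : ∀ i, i < 101095 → P i := stepQ 101094 Q101094 (allL N101094 (tt N110248 (iv1 F470630)) (tt N77364 F431645) (tt N109667 (iv2 F468015)) (tt N99920 F431642) (tt N64535 (iv4 D204244)) (tt N76337 F431644) (tt N77308 F431643) (tt N110372 (iv7 F471283)))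
theorem Q101096 : ∀ i, i < 101096 → P i := stepQ 101095 Q101095 (allL N101095 (tt N94166 (iv1 F431651)) (tt N81898 F431652) (tt N81836 F431648) (tt N77421 F431649) (tt N110372 (iv4 F471285)) (tt N64536 F431650) (tt N117400 (iv6 F504843)) (tt N64535 (iv7 D204245)))
theorem Q101097 : ∀ i, i < 101097 → P i := stepQ 101096 Q101096 (allL N101096 (tt N82581 F431655) (tt N82583 F431656) (tt N106383 (iv2 F454228)) (tt N120264 (iv3 F519895)) (tt N64538 (iv4 D204246)) (tt N69562 F431654) (tt N111274 (iv6 F475577)) (tt N89184 F431653))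
theorem Q101098 : ∀ i, i < 101098 → P i := stepQ 101097 Q101097 (allL N101097 (tt N80599 F431660) (tt N94163 F431661) (tt N64548 F431657) (tt N111137 (iv3 F474872)) (tt N73992 F431659) (tt N64539 (iv5 D204247)) (tt N116549 F500713) (tt N64551 F431658))
theorem Q101099 : ∀ i, i < 101099 → P i := stepQ 101098 Q101098 (allL N101098 (tt N94163 F431664) (tt N80599 F431665) (tt N64551 F431662) (tt N112285 (iv3 F480356)) (tt N110527 (iv4 F471996)) (tt N64540 (iv5 D204248)) (tt N107058 (iv6 F456805)) (tt N64548 F431663))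
theorem Q101100 : ∀ i, i < 101100 → P i := stepQ 101099 Q101099 (allL N101099 (tt N114008 (iv1 F488177)) (tt N91023 (iv0 F431670)) (tt N81324 F431666) (tt N111255 (iv3 F475463)) (tt N75697 F431667) (tt N82843 F431668) (tt N64543 (iv6 D204249)) (tt N83836 (iv7 F431669)))
theorem Q101101 : ∀ i, i < 101101 → P i := stepQ 101100 Q101100 (allL N101100 (tt N107185 F457401) (tt N76375 (iv0 F431675)) (tt N90857 F431671) (tt N81357 F431672) (tt N76372 F431673) (tt N90856 (iv5 F431674)) (tt N64544 (iv6 D204250)) (tt N116151 (iv7 F498766)))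
theorem Q101102 : ∀ i, i < 101102 → P i := stepQ 101101 Q101101 (allL N101101 (tt N65180 (iv1 F431680)) (tt N65177 F431679) (tt N64546 (iv2 D204251)) (tt N80839 F431676) (tt N65039 F431677) (tt N116576 (iv5 F500813)) (tt N103907 (iv6 F443310)) (tt N65178 F431678))
theorem Q101103 : ∀ i, i < 101103 → P i := stepQ 101102 Q101102 (allL N101102 (tt N80918 F431683) (tt N80935 F431684) (tt N116576 (iv2 F500812)) (tt N64548 F431681) (tt N80921 F431682) (tt N64546 (iv5 D204252)) (tt N120385 D223644) (tt N112285 (iv7 F480358)))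
theorem Q101104 : ∀ i, i < 101104 → P i := stepQ 101103 Q101103 (allL N101103 (tt N105711 F451370) (tt N111971 (iv0 F478912)) (tt N103907 (iv2 F443308)) (tt N64549 F431688) (tt N80922 F431689) (tt N113061 (iv5 F483792)) (tt N64546 (iv6 D204253)) (tt N103906 (iv7 F443303)))
theorem Q101105 : ∀ i, i < 101105 → P i := stepQ 101104 Q101104 (allL N101104 (tt N116548 F500708) (tt N73917 (iv0 F454642)) (tt N116549 (iv2 F500714)) (tt N120385 (iv3 F520505)) (tt N117325 (iv4 F504469)) (tt N119974 (iv5 F518337)) (tt N64548 (iv6 D204254)) (tt N107957 (iv7 F460472)))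
theorem Q101106 : ∀ i, i < 101106 → P i := stepQ 101105 Q101105 (allL N101105 (tt N83914 F431694) (tt N83917 F431696) (tt N83915 F431690) (tt N64552 F431691) (tt N72412 F431692) (tt N96167 (iv5 F431695)) (tt N64550 (iv6 D204255)) (tt N73955 F431693))
theorem Q101107 : ∀ i, i < 101107 → P i := stepQ 101106 Q101106 (allL N101106 (tt N109626 F467811) (tt N65179 (iv0 F431702)) (tt N78654 (iv2 F431701)) (tt N64553 (iv3 D204256)) (tt N74140 F431700) (tt N78619 F431697) (tt N72525 F431698) (tt N78621 F431699))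
theorem Q101108 : ∀ i, i < 101108 → P i := stepQ 101107 Q101107 (allL N101107 (tt N108391 F462380) (tt N73249 F431705) (tt N106466 (iv2 F454566)) (tt N89555 F431706) (tt N64553 (iv4 D204257)) (tt N77677 F431704) (tt N72526 F431703) (tt N110323 (iv7 F471046)))
theorem Q101109 : ∀ i, i < 101109 → P i := stepQ 101108 Q101108 (allL N101108 (tt N73249 F431709) (tt N108391 (iv0 F462379)) (tt N110323 F471049) (tt N73243 F431710) (tt N64554 (iv4 D204258)) (tt N77678 F431707) (tt N89993 F431708) (tt N106466 (iv7 F454570)))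
theorem Q101110 : ∀ i, i < 101110 → P i := stepQ 101109 Q101109 (allL N101109 (tt N71666 (iv1 F431714)) (tt N64555 (iv0 D204259)) (tt N71442 (iv2 F431713)) (tt N72696 F431712) (tt N77318 F431711) (tt N109617 (iv5 F467761)) (tt N70893 (iv6 F431716)) (tt N71665 F431715))
theorem Q101111 : ∀ i, i < 101111 → P i := stepQ 101110 Q101110 (allL N101110 (tt N64557 (iv1 D204260)) (tt N73906 F431717) (tt N71105 F431723) (tt N76377 (iv3 F431721)) (tt N82087 F431720) (tt N90945 F431719) (tt N71103 (iv6 F431722)) (tt N100946 F431718))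
theorem Q101112 : ∀ i, i < 101112 → P i := stepQ 101111 Q101111 (allL N101111 (tt N98943 F431728) (tt N93507 F431729) (tt N98899 F431724) (tt N99233 F431725) (tt N64557 (iv4 D204261)) (tt N93490 F431727) (tt N65025 F431726) (tt N98897 (iv7 F431730)))
theorem Q101113 : ∀ i, i < 101113 → P i := stepQ 101112 Q101112 (allL N101112 (tt N71105 (iv1 F431735)) (tt N100946 F431736) (tt N73906 F431731) (tt N95563 F431732) (tt N98897 F431733) (tt N64558 F431734) (tt N71388 F431738) (tt N64557 (iv7 D204262)))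
theorem Q101114 : ∀ i, i < 101114 → P i := stepQ 101113 Q101113 (allL N101113 (tt N69994 F431742) (tt N69992 F431743) (tt N73507 F431739) (tt N119557 (iv3 F516236)) (tt N73506 F431740) (tt N64559 (iv5 D204263)) (tt N95215 F431744) (tt N86274 F431741))
theorem Q101115 : ∀ i, i < 101115 → P i := stepQ 101114 Q101114 (allL N101114 (tt N77250 F431750) (tt N77249 F431749) (tt N77252 F431745) (tt N90168 F431746) (tt N64566 (iv4 D204264)) (tt N106610 F455043) (tt N83963 F431747) (tt N77248 F431748))
theorem Q101116 : ∀ i, i < 101116 → P i := stepQ 101115 Q101115 (allL N101115 (tt N78358 F431755) (tt N116378 (iv0 F499790)) (tt N88629 F431751) (tt N64570 F431752) (tt N73240 (iv4 F431756)) (tt N64568 (iv5 D204265)) (tt N91057 F431753) (tt N65015 F431754))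
theorem Q101117 : ∀ i, i < 101117 → P i := stepQ 101116 Q101116 (allL N101116 (tt N79160 F431760) (tt N79156 F431761) (tt N65019 F431757) (tt N112684 (iv3 F482169)) (tt N64570 (iv4 D204266)) (tt N111538 (iv5 F476808)) (tt N99616 F431758) (tt N65016 F431759))
theorem Q101118 : ∀ i, i < 101118 → P i := stepQ 101117 Q101117 (allL N101117 (tt N116573 (iv1 F500799)) (tt N110763 (iv0 F473058)) (tt N99237 F431762) (tt N76846 F431763) (tt N64571 (iv4 D204267)) (tt N76841 F431765) (tt N119872 (iv6 F517806)) (tt N99238 F431764))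
theorem Q101119 : ∀ i, i < 101119 → P i := stepQ 101118 Q101118 (allL N101118 (tt N90186 F431767) (tt N115123 F493601) (tt N113304 (iv2 F484930)) (tt N64574 F431766) (tt N119872 (iv4 F517804)) (tt N107386 (iv5 F458171)) (tt N64571 (iv6 D204268)) (tt N115124 (iv7 F493606)))
theorem Q101120 : ∀ i, i < 101120 → P i := stepQ 101119 Q101119 (allL N101119 (tt N107736 F459472) (tt N79584 (iv0 F431771)) (tt N107737 (iv2 F459477)) (tt N64575 (iv3 D204269)) (tt N79499 F431768) (tt N94814 F431769) (tt N106105 (iv6 F453130)) (tt N81770 F431770))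
theorem Q101121 : ∀ i, i < 101121 → P i := stepQ 101120 Q101120 (allL N101120 (tt N118706 (iv1 F511653)) (tt N97768 (iv0 F431776)) (tt N118209 (iv2 F509157)) (tt N64576 (iv3 D204270)) (tt N80360 F431772) (tt N94815 F431773) (tt N96008 F431774) (tt N81769 F431775))
theorem Q101122 : ∀ i, i < 101122 → P i := stepQ 101121 Q101121 (allL N101121 (tt N80781 (iv1 F431783)) (tt N80791 F431782) (tt N64577 (iv2 D204271)) (tt N81773 F431777) (tt N65061 F431778) (tt N80785 F431779) (tt N81967 F431780) (tt N80998 F431781))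
theorem Q101123 : ∀ i, i < 101123 → P i := stepQ 101122 Q101122 (allL N101122 (tt N79174 F431787) (tt N79176 F431788) (tt N65044 F431784) (tt N96505 F431785) (tt N118817 (iv4 F512233)) (tt N64579 (iv5 D204272)) (tt N101339 (iv6 F432702)) (tt N65037 F431786))
theorem Q101124 : ∀ i, i < 101124 → P i := stepQ 101123 Q101123 (allL N101123 (tt N100852 (iv1 F431792)) (tt N64580 (iv0 D204273)) (tt N100851 F431794) (tt N94756 F431791) (tt N78638 F431790) (tt N79287 F431789) (tt N94754 (iv6 F431793)) (tt N100850 F431795))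
theorem Q101125 : ∀ i, i < 101125 → P i := stepQ 101124 Q101124 (allL N101124 (tt N64580 (iv1 D204274)) (tt N100852 F431796) (tt N100850 (iv2 F431804)) (tt N78635 (iv3 F431800)) (tt N79299 F431799) (tt N78635 F431798) (tt N79147 F431801) (tt N100851 F431797))
theorem Q101126 : ∀ i, i < 101126 → P i := stepQ 101125 Q101125 (allL N101125 (tt N93852 (iv1 F431809)) (tt N64581 (iv0 D204275)) (tt N96376 (iv2 F431808)) (tt N79239 F431807) (tt N93831 F431806) (tt N96376 F431805) (tt N79237 (iv6 F431811)) (tt N96368 F431810))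
theorem Q101127 : ∀ i, i < 101127 → P i := stepQ 101126 Q101126 (allL N101126 (tt N64583 (iv1 F431814)) (tt N64582 (iv0 D204276)) (tt N64586 (iv2 F431813)) (tt N81006 (iv3 F431817)) (tt N97694 F431812) (tt N96345 F431816) (tt N95718 F431818) (tt N64584 F431815))
theorem Q101128 : ∀ i, i < 101128 → P i := stepQ 101127 Q101127 (allL N101127 (tt N96371 F431821) (tt N101897 F434863) (tt N91977 F431819) (tt N64582 (iv3 D204277)) (tt N91973 F431820) (tt N112287 (iv5 F480366)) (tt N91972 (iv6 F431822)) (tt N119430 (iv7 F515580)))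
theorem Q101129 : ∀ i, i < 101129 → P i := stepQ 101128 Q101128 (allL N101128 (tt N81227 F431825) (tt N94813 (iv0 F431826)) (tt N80984 F431823) (tt N112287 (iv3 F480365)) (tt N111925 (iv4 F478685)) (tt N64582 (iv5 D204278)) (tt N107741 (iv6 F459497)) (tt N97759 F431824))
theorem Q101130 : ∀ i, i < 101130 → P i := stepQ 101129 Q101129 (allL N101129 (tt N82353 (iv1 F431832)) (tt N100824 (iv0 F431831)) (tt N111990 F478987) (tt N91972 F431827) (tt N80500 F431828) (tt N72217 F431830) (tt N64582 (iv6 D204279)) (tt N72985 F431829))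
theorem Q101131 : ∀ i, i < 101131 → P i := stepQ 101130 Q101130 (allL N101130 (tt N96348 F431836) (tt N96347 (iv0 F431839)) (tt N64585 F431833) (tt N96615 F431834) (tt N97596 (iv4 F431838)) (tt N64584 (iv5 D204280)) (tt N96648 F431837) (tt N96345 F431835))
theorem Q101132 : ∀ i, i < 101132 → P i := stepQ 101131 Q101131 (allL N101131 (tt N96345 (iv1 F431841)) (tt N64585 (iv0 D204281)) (tt N96348 (iv2 F431840)) (tt N101901 F434881) (tt N112487 (iv4 F481304)) (tt N112289 (iv5 F480378)) (tt N118814 (iv6 F512215)) (tt N96347 F431842))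
theorem Q101133 : ∀ i, i < 101133 → P i := stepQ 101132 Q101132 (allL N101132 (tt N109525 (iv1 F467368)) (tt N109526 (iv0 F467375)) (tt N75872 F431843) (tt N120386 D223645) (tt N64590 (iv4 D204282)) (tt N90737 F431845) (tt N119885 (iv6 F517864)) (tt N75874 F431844))
theorem Q101134 : ∀ i, i < 101134 → P i := stepQ 101133 Q101133 (allL N101133 (tt N75935 F431850) (tt N111347 F475938) (tt N99753 F431847) (tt N101176 (iv3 F432062)) (tt N75404 F431849) (tt N64594 (iv5 D204283)) (tt N75402 F431848) (tt N111346 (iv7 F475931)))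
theorem Q101135 : ∀ i, i < 101135 → P i := stepQ 101134 Q101134 (allL N101134 (tt N83976 F431853) (tt N88658 F431854) (tt N77227 F431851) (tt N64596 (iv3 D204284)) (tt N120387 D223646) (tt N89719 (iv5 F431855)) (tt N88718 (iv6 F456188)) (tt N88660 F431852))
theorem Q101136 : ∀ i, i < 101136 → P i := stepQ 101135 Q101135 (allL N101135 (tt N72113 F431860) (tt N66489 F431861) (tt N72117 F431856) (tt N89719 F431857) (tt N77457 F431858) (tt N64596 (iv5 D204285)) (tt N75878 F431862) (tt N72118 F431859))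
theorem Q101137 : ∀ i, i < 101137 → P i := stepQ 101136 Q101136 (allL N101136 (tt N71959 F431867) (tt N101816 (iv0 F434484)) (tt N76783 F431863) (tt N88718 F456187) (tt N76592 F431864) (tt N75879 F431865) (tt N64596 (iv6 D204286)) (tt N76770 F431866))
theorem Q101138 : ∀ i, i < 101138 → P i := stepQ 101137 Q101137 (allL N101137 (tt N89649 F431873) (tt N89670 (iv0 F431876)) (tt N89669 F431870) (tt N64602 F431871) (tt N81914 F431874) (tt N64600 (iv5 D204287)) (tt N81914 F431875) (tt N88490 F431872))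
theorem Q101139 : ∀ i, i < 101139 → P i := stepQ 101138 Q101138 (allL N101138 (tt N83969 F431881) (tt N114885 (iv0 F492346)) (tt N88731 F431877) (tt N64603 F431878) (tt N86003 F431879) (tt N81915 F431880) (tt N64600 (iv6 D204288)) (tt N113459 (iv7 F485592)))
theorem Q101140 : ∀ i, i < 101140 → P i := stepQ 101139 Q101139 (allL N101139 (tt N94482 F431889) (tt N69109 F431890) (tt N96077 F431884) (tt N66377 F431885) (tt N64616 F431886) (tt N64601 (iv5 D204289)) (tt N66375 F431887) (tt N94310 F431888))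
theorem Q101141 : ∀ i, i < 101141 → P i := stepQ 101140 Q101140 (allL N101140 (tt N88604 (iv1 F431895)) (tt N68263 F431896) (tt N88602 F431891) (tt N113459 (iv3 F485589)) (tt N94591 F431892) (tt N70001 F431893) (tt N68220 F431894) (tt N64603 (iv7 D204290)))
theorem Q101142 : ∀ i, i < 101142 → P i := stepQ 101141 Q101141 (allL N101141 (tt N103289 F441004) (tt N116510 (iv0 F500533)) (tt N88647 F431897) (tt N64606 F431898) (tt N103302 (iv4 F441051)) (tt N89410 F431899) (tt N64604 (iv6 D204291)) (tt N88730 F431900))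
theorem Q101143 : ∀ i, i < 101143 → P i := stepQ 101142 Q101142 (allL N101142 (tt N80557 (iv1 F431902)) (tt N64608 (iv0 D204292)) (tt N80556 F431904) (tt N118199 (iv3 F509104)) (tt N87068 (iv4 F431903)) (tt N118160 (iv5 F508931)) (tt N81950 F431905) (tt N80555 (iv7 F431911)))
theorem Q101144 : ∀ i, i < 101144 → P i := stepQ 101143 Q101143 (allL N101143 (tt N64608 (iv1 D204293)) (tt N80557 (iv0 F431908)) (tt N80555 F431909) (tt N112137 (iv3 F479687)) (tt N91979 (iv4 F431907)) (tt N116702 (iv5 F501385)) (tt N118027 (iv6 F508165)) (tt N80556 F431906))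
theorem Q101145 : ∀ i, i < 101145 → P i := stepQ 101144 Q101144 (allL N101144 (tt N80556 (iv1 F431922)) (tt N80555 F431921) (tt N64608 (iv2 D204294)) (tt N82001 F431917) (tt N81015 F431918) (tt N107166 (iv5 F457286)) (tt N80993 F431919) (tt N80557 F431920))
theorem Q101146 : ∀ i, i < 101146 → P i := stepQ 101145 Q101145 (allL N101145 (tt N96499 (iv1 F431924)) (tt N64611 (iv0 D204295)) (tt N107767 (iv2 F459629)) (tt N112639 (iv3 F481950)) (tt N91843 F431923) (tt N107165 (iv5 F459627)) (tt N79795 (iv6 F459633)) (tt N107764 F459626))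
theorem Q101147 : ∀ i, i < 101147 → P i := stepQ 101146 Q101146 (allL N101146 (tt N64611 (iv1 D204296)) (tt N96499 F431925) (tt N107764 (iv2 F459621)) (tt N107735 (iv3 F459463)) (tt N91844 (iv4 F431926)) (tt N107152 (iv5 F457213)) (tt N107734 (iv6 F459461)) (tt N107767 (iv7 F459630)))
theorem Q101148 : ∀ i, i < 101148 → P i := stepQ 101147 Q101147 (allL N101147 (tt N111996 (iv1 F479011)) (tt N111997 (iv0 F479013)) (tt N118751 (iv2 F511883)) (tt N64612 F431927) (tt N93672 (iv4 F431928)) (tt N64611 (iv5 D204297)) (tt N93279 (iv6 F431929)) (tt N107226 (iv7 F457541)))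
theorem Q101149 : ∀ i, i < 101149 → P i := stepQ 101148 Q101148 (allL N101148 (tt N80999 F431934) (tt N93753 F433725) (tt N93818 F431930) (tt N64613 F431931) (tt N80920 F431932) (tt N120388 D223647) (tt N64611 (iv6 D204298)) (tt N65043 F431933))
theorem Q101150 : ∀ i, i < 101150 → P i := stepQ 101149 Q101149 (allL N101149 (tt N79176 F431939) (tt N79174 F431940) (tt N65037 F431935) (tt N120388 (iv3 F520523)) (tt N98827 F431938) (tt N64613 (iv5 D204299)) (tt N93280 F431936) (tt N65044 F431937))
theorem Q101151 : ∀ i, i < 101151 → P i := stepQ 101150 Q101150 (allL N101150 (tt N94698 (iv1 F431944)) (tt N64614 (iv0 D204300)) (tt N94811 (iv2 F431945)) (tt N80171 F431942) (tt N112658 (iv4 F482041)) (tt N99317 F431941) (tt N94669 F431943) (tt N94998 (iv7 F431946)))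
theorem Q101152 : ∀ i, i < 101152 → P i := stepQ 101151 Q101151 (allL N101151 (tt N64614 (iv1 D204301)) (tt N94698 F431947) (tt N94998 F431950) (tt N91509 (iv3 F431949)) (tt N112632 (iv4 F481916)) (tt N99318 F431952) (tt N93400 (iv6 F431951)) (tt N94811 F431948))
theorem Q101153 : ∀ i, i < 101153 → P i := stepQ 101152 Q101152 (allL N101152 (tt N108127 F461224) (tt N74643 (iv0 F431959)) (tt N94999 F431956) (tt N64615 F431957) (tt N91631 F431961) (tt N64614 (iv5 D204302)) (tt N91367 (iv6 F431960)) (tt N99481 F431958))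
theorem Q101154 : ∀ i, i < 101154 → P i := stepQ 101153 Q101153 (allL N101153 (tt N64618 (iv1 F431968)) (tt N64617 (iv0 D204303)) (tt N64621 (iv2 F431963)) (tt N82347 F431964) (tt N65401 F431965) (tt N82556 F431962) (tt N95835 F431966) (tt N64619 F431967))
theorem Q101155 : ∀ i, i < 101155 → P i := stepQ 101154 Q101154 (allL N101154 (tt N109235 F465913) (tt N105712 (iv0 F451373)) (tt N80047 F431969) (tt N78557 F431971) (tt N64617 (iv4 D204305)) (tt N77025 F431970) (tt N118984 (iv6 F513119)) (tt N112380 (iv7 F480822)))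
theorem Q101156 : ∀ i, i < 101156 → P i := stepQ 101155 Q101155 (allL N101155 (tt N82417 (iv1 F431975)) (tt N73090 (iv0 F431976)) (tt N82423 F431972) (tt N65545 (iv3 F431974)) (tt N118984 (iv4 F513117)) (tt N91450 F431973) (tt N64617 (iv6 D204306)) (tt N82422 F431978))
theorem Q101157 : ∀ i, i < 101157 → P i := stepQ 101156 Q101156 (allL N101156 (tt N64619 (iv1 F431980)) (tt N64621 F431981) (tt N64618 F431979) (tt N107746 F459525) (tt N112380 (iv4 F480820)) (tt N112814 (iv5 F482739)) (tt N101686 (iv6 F433866)) (tt N64617 (iv7 D204307)))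
theorem Q101158 : ∀ i, i < 101158 → P i := stepQ 101157 Q101157 (allL N101157 (tt N79823 (iv1 F431985)) (tt N80171 (iv0 F431984)) (tt N101737 (iv2 F434106)) (tt N64618 (iv3 D204308)) (tt N94928 F431982) (tt N81279 F431983) (tt N80949 (iv6 F431986)) (tt N112665 (iv7 F482076)))
theorem Q101159 : ∀ i, i < 101159 → P i := stepQ 101158 Q101158 (allL N101158 (tt N78735 F431989) (tt N111373 F476064) (tt N101686 (iv2 F433862)) (tt N80949 F431987) (tt N81002 F431988) (tt N101682 (iv5 F433847)) (tt N64618 (iv6 D204309)) (tt N111372 (iv7 F476054)))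
theorem Q101160 : ∀ i, i < 101160 → P i := stepQ 101159 Q101159 (allL N101159 (tt N93259 F431993) (tt N94598 F431994) (tt N64620 F431990) (tt N80410 F431991) (tt N107310 (iv4 F457910)) (tt N64619 (iv5 D204310)) (tt N110451 (iv6 F471653)) (tt N82556 F431992))
theorem Q101161 : ∀ i, i < 101161 → P i := stepQ 101160 Q101160 (allL N101160 (tt N64620 (iv1 D204311)) (tt N82556 F431996) (tt N94598 (iv2 F432001)) (tt N82050 (iv3 F431999)) (tt N115071 (iv4 F493339)) (tt N80982 F431998) (tt N91932 (iv6 F432000)) (tt N93259 F431997))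
theorem Q101162 : ∀ i, i < 101162 → P i := stepQ 101161 Q101161 (allL N101161 (tt N110593 F472293) (tt N112479 (iv0 F481260)) (tt N73393 F432002) (tt N67074 F432003) (tt N99073 F432006) (tt N64625 (iv5 D204312)) (tt N73392 F432004) (tt N67068 F432005))
theorem Q101163 : ∀ i, i < 101163 → P i := stepQ 101162 Q101162 (allL N101162 (tt N91129 F432589) (tt N101306 F432742) (tt N109096 (iv2 F465318)) (tt N109667 (iv3 F468016)) (tt N120389 D223648) (tt N64626 (iv5 D204313)) (tt N64628 F432007) (tt N109209 (iv7 F465794)))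
theorem Q101164 : ∀ i, i < 101164 → P i := stepQ 101163 Q101163 (allL N101163 (tt N112863 (iv1 F483021)) (tt N112320 F480538) (tt N64874 F432008) (tt N112327 (iv3 F480575)) (tt N110006 (iv4 F469537)) (tt N64627 (iv5 D204314)) (tt N110005 F469534) (tt N110983 (iv7 F474080)))
theorem Q101165 : ∀ i, i < 101165 → P i := stepQ 101164 Q101164 (allL N101164 (tt N105005 F448332) (tt N64628 (iv0 D204315)) (tt N64882 (iv2 F432011)) (tt N89931 F432010) (tt N120390 D223649) (tt N89928 F432009) (tt N120391 D223650) (tt N117132 (iv7 F503554)))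
theorem Q101166 : ∀ i, i < 101166 → P i := stepQ 101165 Q101165 (allL N101165 (tt N116602 (iv1 F500931)) (tt N120392 D223651) (tt N112543 F481594) (tt N117369 (iv3 F504701)) (tt N64628 (iv4 D204316)) (tt N120227 (iv5 F519702)) (tt N120389 (iv6 F520532)) (tt N120223 F519683))
theorem Q101167 : ∀ i, i < 101167 → P i := stepQ 101166 Q101166 (allL N101166 (tt N117132 F503556) (tt N64882 (iv0 F432014)) (tt N105005 (iv2 F448328)) (tt N77384 F432012) (tt N120223 (iv4 F519682)) (tt N64629 F432013) (tt N120222 (iv6 F519680)) (tt N64628 (iv7 D204317)))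
theorem Q101168 : ∀ i, i < 101168 → P i := stepQ 101167 Q101167 (allL N101167 (tt N98069 F432018) (tt N98364 F432019) (tt N104024 (iv2 F443839)) (tt N82878 F432015) (tt N64631 (iv4 D204318)) (tt N68368 F432017) (tt N76558 F432016) (tt N104026 (iv7 F443854)))
theorem Q101169 : ∀ i, i < 101169 → P i := stepQ 101168 Q101168 (allL N101168 (tt N64643 (iv1 F432024)) (tt N64642 F432025) (tt N64644 F432020) (tt N98176 F432021) (tt N109532 (iv4 F467406)) (tt N70324 F432022) (tt N78681 F432023) (tt N64632 (iv7 D204319)))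
theorem Q101170 : ∀ i, i < 101170 → P i := stepQ 101169 Q101169 (allL N101169 (tt N80596 F432028) (tt N89927 F432029) (tt N64647 F432026) (tt N107938 (iv3 F460376)) (tt N116594 (iv4 F500898)) (tt N64633 (iv5 D204320)) (tt N120393 D223652) (tt N64651 F432027))
theorem Q101171 : ∀ i, i < 101171 → P i := stepQ 101170 Q101170 (allL N101170 (tt N108055 F460908) (tt N112133 (iv0 F479669)) (tt N64650 F432030) (tt N78154 F432031) (tt N64634 (iv4 D204321)) (tt N78150 F432034) (tt N88620 F432032) (tt N64646 F432033))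
theorem Q101172 : ∀ i, i < 101172 → P i := stepQ 101171 Q101171 (allL N101171 (tt N89927 F432038) (tt N80596 (iv0 F432040)) (tt N64651 F432035) (tt N77317 F432036) (tt N116595 (iv4 F500906)) (tt N64634 (iv5 D204322)) (tt N96297 F432039) (tt N64647 F432037))
theorem Q101173 : ∀ i, i < 101173 → P i := stepQ 101172 Q101172 (allL N101172 (tt N107342 F458025) (tt N83173 F432043) (tt N64655 F432041) (tt N92443 F432044) (tt N64635 (iv4 D204323)) (tt N117914 (iv5 F507571)) (tt N106459 (iv6 F454541)) (tt N92435 F432042))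
theorem Q101174 : ∀ i, i < 101174 → P i := stepQ 101173 Q101173 (allL N101173 (tt N99989 (iv1 F432050)) (tt N99988 F432049) (tt N99905 F432045) (tt N104970 (iv3 F448200)) (tt N92478 F432046) (tt N64640 (iv5 D204324)) (tt N100582 F432047) (tt N99976 F432048))
theorem Q101175 : ∀ i, i < 101175 → P i := stepQ 101174 Q101174 (allL N101174 (tt N109532 (iv1 F467407)) (tt N64641 (iv0 D204325)) (tt N88191 (iv2 F432056)) (tt N73590 F432054) (tt N84481 F432053) (tt N73583 F432052) (tt N74457 F432055) (tt N110291 (iv7 F470880)))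
theorem Q101176 : ∀ i, i < 101176 → P i := stepQ 101175 Q101175 (allL N101175 (tt N64641 (iv1 D204326)) (tt N109532 (iv0 F467405)) (tt N110291 (iv2 F470876)) (tt N73389 (iv3 F432059)) (tt N99950 (iv4 F432058)) (tt N73388 F432061) (tt N99944 (iv6 F432060)) (tt N88191 F432057))
theorem Q101177 : ∀ i, i < 101177 → P i := stepQ 101176 Q101176 (allL N101176 (tt N79129 F432063) (tt N109531 F467399) (tt N109226 (iv2 F465856)) (tt N101133 F432062) (tt N109140 (iv4 F465531)) (tt N64641 (iv5 D204327)) (tt N109302 (iv6 F466284)) (tt N103097 F440056))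
theorem Q101178 : ∀ i, i < 101178 → P i := stepQ 101177 Q101177 (allL N101177 (tt N110291 (iv1 F470882)) (tt N88191 (iv0 F440057)) (tt N109532 (iv2 F467401)) (tt N88194 F432064) (tt N64644 F432065) (tt N103097 (iv5 F440055)) (tt N103098 (iv6 F440061)) (tt N64641 (iv7 D204328)))
theorem Q101179 : ∀ i, i < 101179 → P i := stepQ 101178 Q101178 (allL N101178 (tt N109409 F466820) (tt N84720 (iv0 F432070)) (tt N96292 F432066) (tt N99909 F432067) (tt N68291 F432068) (tt N113458 (iv5 F485584)) (tt N64643 (iv6 D204329)) (tt N99918 F432069))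
theorem Q101180 : ∀ i, i < 101180 → P i := stepQ 101179 Q101179 (allL N101179 (tt N76495 F432074) (tt N89074 F432075) (tt N77315 F432071) (tt N64647 F432072) (tt N106903 (iv4 F456216)) (tt N64645 (iv5 D204330)) (tt N113302 F484922) (tt N77317 F432073))
theorem Q101181 : ∀ i, i < 101181 → P i := stepQ 101180 Q101180 (allL N101180 (tt N64650 (iv1 F432079)) (tt N64646 (iv0 D204331)) (tt N112133 (iv2 F479664)) (tt N77771 F432078) (tt N77267 F432077) (tt N77769 F432076) (tt N83975 (iv6 F432080)) (tt N108055 (iv7 F460906)))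
theorem Q101182 : ∀ i, i < 101182 → P i := stepQ 101181 Q101181 (allL N101181 (tt N66824 F432085) (tt N112484 (iv0 F481290)) (tt N105023 (iv2 F448427)) (tt N66852 F432081) (tt N64648 F432082) (tt N99359 F432083) (tt N64646 (iv6 D204332)) (tt N68417 F432084))
theorem Q101183 : ∀ i, i < 101183 → P i := stepQ 101182 Q101182 (allL N101182 (tt N64651 (iv1 F432088)) (tt N64647 (iv0 D204333)) (tt N80596 (iv2 F432087)) (tt N89905 (iv3 F432090)) (tt N74287 (iv4 F432092)) (tt N73984 F432086) (tt N74296 F432091) (tt N89927 F432089))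
theorem Q101184 : ∀ i, i < 101184 → P i := stepQ 101183 Q101183 (allL N101183 (tt N116379 (iv1 F499796)) (tt N116591 (iv0 F500888)) (tt N116594 (iv2 F500903)) (tt N120394 D223653) (tt N64647 (iv4 D204334)) (tt N118845 (iv5 F512385)) (tt N116652 (iv6 F501154)) (tt N116595 (iv7 F500905)))
theorem Q101185 : ∀ i, i < 101185 → P i := stepQ 101184 Q101184 (allL N101184 (tt N89939 F432093) (tt N73308 (iv0 F456670)) (tt N120393 (iv2 F520542)) (tt N113302 (iv3 F484924)) (tt N116652 F501151) (tt N107374 (iv5 F458141)) (tt N64647 (iv6 D204335)) (tt N119953 (iv7 F518225)))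
theorem Q101186 : ∀ i, i < 101186 → P i := stepQ 101185 Q101185 (allL N101185 (tt N100933 F432097) (tt N80503 (iv0 F432098)) (tt N100938 F432094) (tt N89959 F432095) (tt N106557 (iv4 F454851)) (tt N64648 (iv5 D204336)) (tt N107374 (iv6 F458142)) (tt N100937 F432096))
theorem Q101187 : ∀ i, i < 101187 → P i := stepQ 101186 Q101186 (allL N101186 (tt N109472 (iv1 F467146)) (tt N108369 (iv0 F462293)) (tt N107939 (iv2 F460377)) (tt N64651 F432099) (tt N82190 F432100) (tt N64649 (iv5 D204337)) (tt N73345 F432101) (tt N107938 (iv7 F460372)))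
theorem Q101188 : ∀ i, i < 101188 → P i := stepQ 101187 Q101187 (allL N101187 (tt N116591 (iv1 F500889)) (tt N116379 (iv0 F499795)) (tt N116595 F500907) (tt N97329 F432103) (tt N64651 (iv4 D204338)) (tt N97325 F432102) (tt N118593 (iv6 F511060)) (tt N116594 (iv7 F500902)))
theorem Q101189 : ∀ i, i < 101189 → P i := stepQ 101188 Q101188 (allL N101188 (tt N106832 F455887) (tt N69572 F432105) (tt N106834 (iv2 F455896)) (tt N106062 F452958) (tt N106958 (iv4 F456446)) (tt N64652 (iv5 D204339)) (tt N90493 F432104) (tt N106833 F455891))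
theorem Q101190 : ∀ i, i < 101190 → P i := stepQ 101189 Q101189 (allL N101189 (tt N89472 F432107) (tt N78031 F432108) (tt N107360 (iv2 F458091)) (tt N117877 (iv3 F507390)) (tt N64653 (iv4 D204340)) (tt N107350 (iv5 F458055)) (tt N95017 F432106) (tt N116426 (iv7 F500043)))
theorem Q101191 : ∀ i, i < 101191 → P i := stepQ 101190 Q101190 (allL N101190 (tt N92435 F432112) (tt N64655 (iv0 D204341)) (tt N107342 (iv2 F458020)) (tt N110997 (iv3 F474154)) (tt N78326 F432109) (tt N108687 (iv5 F463553)) (tt N92343 F432110) (tt N83173 (iv7 F432111)))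
theorem Q101192 : ∀ i, i < 101192 → P i := stepQ 101191 Q101191 (allL N101191 (tt N64655 (iv1 D204342)) (tt N92435 F432113) (tt N83173 (iv2 F432116)) (tt N73071 (iv3 F432115)) (tt N76092 F432114) (tt N108688 (iv5 F463560)) (tt N83167 (iv6 F432117)) (tt N107342 (iv7 F458023)))
theorem Q101193 : ∀ i, i < 101193 → P i := stepQ 101192 Q101192 (allL N101192 (tt N117794 F507009) (tt N117915 F507580) (tt N117914 (iv2 F507574)) (tt N92403 F432118) (tt N97353 F432119) (tt N64655 (iv5 D204343)) (tt N120395 D223654) (tt N117913 F507566))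
theorem Q101194 : ∀ i, i < 101194 → P i := stepQ 101193 Q101193 (allL N101193 (tt N83173 (iv1 F432124)) (tt N107342 (iv0 F458024)) (tt N92435 F432120) (tt N92296 F432121) (tt N64656 F432122) (tt N117913 (iv5 F507565)) (tt N92431 F432123) (tt N64655 (iv7 D204344)))
theorem Q101195 : ∀ i, i < 101195 → P i := stepQ 101194 Q101194 (allL N101194 (tt N107022 (iv1 F456675)) (tt N120396 D223655) (tt N92434 F432125) (tt N64657 F432126) (tt N92431 F432127) (tt N105396 (iv5 F450048)) (tt N64656 (iv6 D204345)) (tt N70322 F432128))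
theorem Q101196 : ∀ i, i < 101196 → P i := stepQ 101195 Q101195 (allL N101195 (tt N89096 F432134) (tt N64799 F432135) (tt N89851 F432130) (tt N90083 F432131) (tt N71466 F432133) (tt N64660 (iv5 D204346)) (tt N64661 F432132) (tt N115359 (iv7 F494784)))
theorem Q101197 : ∀ i, i < 101197 → P i := stepQ 101196 Q101196 (allL N101196 (tt N101694 F433905) (tt N80629 (iv0 F432142)) (tt N77595 F432137) (tt N64663 F432138) (tt N75119 F432139) (tt N100414 F432140) (tt N64662 (iv6 D204347)) (tt N80826 F432141))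
theorem Q101198 : ∀ i, i < 101198 → P i := stepQ 101197 Q101197 (allL N101197 (tt N78617 F432145) (tt N76145 (iv0 F432147)) (tt N81192 F432143) (tt N102800 (iv3 F438695)) (tt N92919 F432146) (tt N64664 (iv5 D204348)) (tt N112721 (iv6 F482352)) (tt N80824 F432144))
theorem Q101199 : ∀ i, i < 101199 → P i := stepQ 101198 Q101198 (allL N101198 (tt N77687 (iv1 F432152)) (tt N64665 (iv0 D204349)) (tt N81475 (iv2 F432151)) (tt N68063 F432148) (tt N78239 (iv4 F432154)) (tt N68039 F432150) (tt N71367 F432149) (tt N81474 F432153))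
theorem Q101200 : ∀ i, i < 101200 → P i := stepQ 101199 Q101199 (allL N101199 (tt N91574 F432159) (tt N91575 F432158) (tt N77090 F432155) (tt N90901 F432156) (tt N64665 (iv4 D204350)) (tt N114562 (iv5 F490784)) (tt N108667 (iv6 F463457)) (tt N81476 F432157))
theorem Q101201 : ∀ i, i < 101201 → P i := stepQ 101200 Q101200 (allL N101200 (tt N75136 F432163) (tt N100607 F432164) (tt N109388 (iv2 F466711)) (tt N99900 F432160) (tt N113264 (iv4 F484772)) (tt N64666 (iv5 D204351)) (tt N81430 F432161) (tt N99897 F432162))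
theorem Q101202 : ∀ i, i < 101202 → P i := stepQ 101201 Q101201 (allL N101201 (tt N77286 F432169) (tt N77291 (iv0 F432170)) (tt N77290 F432165) (tt N64669 (iv3 D204352)) (tt N86988 F432166) (tt N95904 F432167) (tt N84201 F432171) (tt N77289 F432168))
theorem Q101203 : ∀ i, i < 101203 → P i := stepQ 101202 Q101202 (allL N101202 (tt N84187 F432178) (tt N99979 F432179) (tt N105338 (iv2 F449768)) (tt N84201 F432176) (tt N98467 F432177) (tt N101329 (iv5 F432674)) (tt N64669 (iv6 D204353)) (tt N109403 (iv7 F466789)))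
theorem Q101204 : ∀ i, i < 101204 → P i := stepQ 101203 Q101203 (allL N101203 (tt N68038 F432182) (tt N79159 F432183) (tt N111103 (iv2 F474685)) (tt N100077 F432180) (tt N105724 (iv4 F451424)) (tt N64672 (iv5 D204354)) (tt N112024 (iv6 F479128)) (tt N100073 F432181))
theorem Q101205 : ∀ i, i < 101205 → P i := stepQ 101204 Q101204 (allL N101204 (tt N120397 D223656) (tt N116797 (iv0 F501892)) (tt N98558 F432184) (tt N68188 F432185) (tt N120398 D223657) (tt N64674 (iv5 D204355)) (tt N98554 F432186) (tt N105803 (iv7 F451797)))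
theorem Q101206 : ∀ i, i < 101206 → P i := stepQ 101205 Q101205 (allL N101205 (tt N77237 F432191) (tt N65206 F432192) (tt N77233 F432187) (tt N67245 F432188) (tt N64675 (iv4 D204356)) (tt N120399 D223658) (tt N86929 F432189) (tt N77234 F432190))
theorem Q101207 : ∀ i, i < 101207 → P i := stepQ 101206 Q101206 (allL N101206 (tt N69852 F432195) (tt N94590 F432196) (tt N105316 (iv2 F449669)) (tt N77378 F432193) (tt N81930 (iv4 F432197)) (tt N64676 (iv5 D204357)) (tt N64877 F432194) (tt N105311 (iv7 F449658)))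
theorem Q101208 : ∀ i, i < 101208 → P i := stepQ 101207 Q101207 (allL N101207 (tt N67808 F432201) (tt N67802 (iv0 F432202)) (tt N104474 (iv2 F445924)) (tt N67684 F432199) (tt N64677 (iv4 D204358)) (tt N67684 F432200) (tt N104607 (iv6 F446512)) (tt N104471 (iv7 F445904)))
theorem Q101209 : ∀ i, i < 101209 → P i := stepQ 101208 Q101208 (allL N101208 (tt N105386 (iv1 F450002)) (tt N71793 (iv0 F432205)) (tt N105501 (iv2 F450489)) (tt N64678 F432203) (tt N104607 (iv4 F446511)) (tt N100897 F432204) (tt N64677 (iv6 D204359)) (tt N105452 (iv7 F450326)))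
theorem Q101210 : ∀ i, i < 101210 → P i := stepQ 101209 Q101209 (allL N101209 (tt N67286 (iv1 F432211)) (tt N64681 (iv0 D204360)) (tt N67249 (iv2 F432210)) (tt N67223 F432208) (tt N69517 F432207) (tt N71808 F432206) (tt N97948 F432209) (tt N67285 F432212))
theorem Q101211 : ∀ i, i < 101211 → P i := stepQ 101210 Q101210 (allL N101210 (tt N77189 F432216) (tt N101861 (iv0 F434714)) (tt N77324 F432213) (tt N101807 F434430) (tt N64686 (iv4 D204361)) (tt N96303 F432215) (tt N64689 F432214) (tt N103113 (iv7 F440135)))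
theorem Q101212 : ∀ i, i < 101212 → P i := stepQ 101211 Q101211 (allL N101211 (tt N79369 F432222) (tt N83186 F432223) (tt N77275 F432217) (tt N100355 F432218) (tt N64688 (iv4 D204362)) (tt N69317 F432219) (tt N77701 F432220) (tt N69316 F432221))
theorem Q101213 : ∀ i, i < 101213 → P i := stepQ 101212 Q101212 (allL N101212 (tt N108346 (iv1 F462180)) (tt N108345 (iv0 F462179)) (tt N108348 (iv2 F462182)) (tt N103316 (iv3 F441109)) (tt N64691 (iv4 D204363)) (tt N113992 (iv5 F488100)) (tt N103315 F441108) (tt N106889 (iv7 F456148)))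
theorem Q101214 : ∀ i, i < 101214 → P i := stepQ 101213 Q101213 (allL N101213 (tt N84123 F432226) (tt N85665 F432228) (tt N77297 F432224) (tt N105213 (iv3 F449227)) (tt N112113 (iv4 F479545)) (tt N91687 F432225) (tt N64693 (iv6 D204364)) (tt N85664 (iv7 F432391)))
theorem Q101215 : ∀ i, i < 101215 → P i := stepQ 101214 Q101214 (allL N101214 (tt N65206 F432232) (tt N77237 F432233) (tt N77234 F432229) (tt N98011 F432234) (tt N64696 (iv4 D204365)) (tt N98410 F432231) (tt N97590 (iv6 F432235)) (tt N77233 F432230))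
theorem Q101216 : ∀ i, i < 101216 → P i := stepQ 101215 Q101215 (allL N101215 (tt N105393 F450036) (tt N105473 F450400) (tt N77300 F432236) (tt N105501 F450487) (tt N97590 F432237) (tt N92028 F432238) (tt N64696 (iv6 D204366)) (tt N86928 F432239))
theorem Q101217 : ∀ i, i < 101217 → P i := stepQ 101216 Q101216 (allL N101216 (tt N83303 F432244) (tt N66844 (iv0 F432246)) (tt N64716 F432240) (tt N78979 F432241) (tt N64698 (iv4 D204367)) (tt N82182 F432245) (tt N75016 F432242) (tt N64720 F432243))
theorem Q101218 : ∀ i, i < 101218 → P i := stepQ 101217 Q101217 (allL N101217 (tt N105061 (iv1 F448612)) (tt N114808 (iv0 F491979)) (tt N64717 F432247) (tt N78982 F432248) (tt N117013 (iv4 F502972)) (tt N64698 (iv5 D204368)) (tt N90336 F432249) (tt N64721 F432250))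
theorem Q101219 : ∀ i, i < 101219 → P i := stepQ 101218 Q101218 (allL N101218 (tt N114808 (iv1 F491980)) (tt N105061 (iv0 F448611)) (tt N64721 F432251) (tt N107701 (iv3 F459295)) (tt N94776 (iv4 F432254)) (tt N64699 (iv5 D204369)) (tt N83271 F432252) (tt N64717 F432253))
theorem Q101220 : ∀ i, i < 101220 → P i := stepQ 101219 Q101219 (allL N101219 (tt N83123 F432259) (tt N106267 (iv0 F453811)) (tt N64724 F432255) (tt N97831 F432256) (tt N64700 (iv4 D204370)) (tt N117030 (iv5 F503048)) (tt N64702 F432257) (tt N85662 F432258))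
theorem Q101221 : ∀ i, i < 101221 → P i := stepQ 101220 Q101220 (allL N101220 (tt N109650 (iv1 F467929)) (tt N109648 (iv0 F467920)) (tt N109656 (iv2 F467960)) (tt N64702 (iv3 D204371)) (tt N93134 F432260) (tt N120400 D223659) (tt N97831 F432261) (tt N93133 (iv7 F432262)))
theorem Q101222 : ∀ i, i < 101222 → P i := stepQ 101221 Q101221 (allL N101221 (tt N101467 (iv1 F433047)) (tt N107218 (iv0 F457495)) (tt N64743 F432263) (tt N120400 (iv3 F520585)) (tt N65282 F432264) (tt N64702 (iv5 D204372)) (tt N120401 D223660) (tt N65280 (iv7 F432265)))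
theorem Q101223 : ∀ i, i < 101223 → P i := stepQ 101222 Q101222 (allL N101222 (tt N64741 (iv1 F432271)) (tt N64740 F432272) (tt N64744 F432266) (tt N93133 F432267) (tt N64703 F432268) (tt N65280 F432269) (tt N93135 F432270) (tt N64702 (iv7 D204373)))
theorem Q101224 : ∀ i, i < 101224 → P i := stepQ 101223 Q101223 (allL N101223 (tt N110415 (iv1 F471470)) (tt N110189 (iv0 F470349)) (tt N64745 F432273) (tt N78297 F432274) (tt N93135 F432275) (tt N77164 F432276) (tt N64703 (iv6 D204374)) (tt N85663 F432277))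
theorem Q101225 : ∀ i, i < 101225 → P i := stepQ 101224 Q101224 (allL N101224 (tt N110992 (iv1 F474130)) (tt N113003 (iv0 F483516)) (tt N77329 F432278) (tt N110714 F472871) (tt N86384 F469806) (tt N64705 (iv5 D204375)) (tt N86384 (iv6 F432280)) (tt N77331 F432279))
theorem Q101226 : ∀ i, i < 101226 → P i := stepQ 101225 Q101225 (allL N101225 (tt N113003 (iv1 F483517)) (tt N110992 (iv0 F474129)) (tt N77331 F432281) (tt N64754 F432282) (tt N86385 F432506) (tt N64706 (iv5 D204376)) (tt N118005 F508043) (tt N77329 F432283))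
theorem Q101227 : ∀ i, i < 101227 → P i := stepQ 101226 Q101226 (allL N101226 (tt N77355 (iv1 F432291)) (tt N77148 (iv0 F432289)) (tt N77332 F432284) (tt N64755 F432285) (tt N81523 F432286) (tt N85555 F432288) (tt N64706 (iv6 D204377)) (tt N77353 F432287))
theorem Q101228 : ∀ i, i < 101228 → P i := stepQ 101227 Q101227 (allL N101227 (tt N77336 (iv1 F432292)) (tt N64707 (iv0 D204378)) (tt N77333 (iv2 F432300)) (tt N120279 (iv3 F519990)) (tt N82653 (iv4 F432301)) (tt N110310 (iv5 F470976)) (tt N77076 F432304) (tt N77334 F432299))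
theorem Q101229 : ∀ i, i < 101229 → P i := stepQ 101228 Q101228 (allL N101228 (tt N64707 (iv1 D204379)) (tt N77336 F432293) (tt N77334 F432295) (tt N64757 F432296) (tt N107388 F458179) (tt N69860 (iv5 F432294)) (tt N69862 F432297) (tt N77333 (iv7 F432298)))
theorem Q101230 : ∀ i, i < 101230 → P i := stepQ 101229 Q101229 (allL N101229 (tt N77074 (iv1 F432308)) (tt N83449 F432311) (tt N77335 F432305) (tt N120402 D223661) (tt N64707 (iv4 D204380)) (tt N102760 (iv5 F438515)) (tt N78329 F432306) (tt N82706 F432307))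
theorem Q101231 : ∀ i, i < 101231 → P i := stepQ 101230 Q101230 (allL N101230 (tt N64710 (iv1 D204381)) (tt N97088 F432315) (tt N65350 F432318) (tt N77446 F432319) (tt N114881 (iv4 F492317)) (tt N77750 (iv5 F432316)) (tt N65346 (iv6 F432317)) (tt N109459 (iv7 F467072)))
theorem Q101232 : ∀ i, i < 101232 → P i := stepQ 101231 Q101231 (allL N101231 (tt N65350 (iv1 F432325)) (tt N109459 (iv0 F467073)) (tt N97088 F432320) (tt N64714 F432321) (tt N64770 F432322) (tt N97063 F432323) (tt N67831 F432324) (tt N64710 (iv7 D204382)))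
theorem Q101233 : ∀ i, i < 101233 → P i := stepQ 101232 Q101232 (allL N101232 (tt N65174 F432330) (tt N76956 F432329) (tt N66999 F432326) (tt N75985 F432327) (tt N64712 (iv4 D204383)) (tt N113267 (iv5 F484790)) (tt N101820 (iv6 F434507)) (tt N66996 F432328))
theorem Q101234 : ∀ i, i < 101234 → P i := stepQ 101233 Q101233 (allL N101233 (tt N78722 (iv1 F432334)) (tt N110043 F469697) (tt N67000 F432331) (tt N78717 F432332) (tt N101820 (iv4 F434505)) (tt N82191 F432333) (tt N64712 (iv6 D204384)) (tt N112722 (iv7 F482360)))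
theorem Q101235 : ∀ i, i < 101235 → P i := stepQ 101234 Q101234 (allL N101234 (tt N117472 (iv1 F505203)) (tt N117442 (iv0 F505050)) (tt N67003 F432335) (tt N117120 (iv3 F503493)) (tt N64713 (iv4 D204385)) (tt N114117 (iv5 F488613)) (tt N66920 F432336) (tt N106442 (iv7 F454460)))
theorem Q101236 : ∀ i, i < 101236 → P i := stepQ 101235 Q101235 (allL N101235 (tt N113887 (iv1 F487642)) (tt N84039 (iv0 F432341)) (tt N87400 F432337) (tt N87350 F432340) (tt N64715 (iv4 D204386)) (tt N111566 (iv5 F476952)) (tt N90686 F432338) (tt N87358 F432339))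
theorem Q101237 : ∀ i, i < 101237 → P i := stepQ 101236 Q101236 (allL N101236 (tt N113916 (iv1 F487774)) (tt N113914 (iv0 F487763)) (tt N90712 F432342) (tt N64717 F432343) (tt N107705 (iv4 F459308)) (tt N64715 (iv5 D204387)) (tt N71205 F432344) (tt N107701 (iv7 F459297)))
theorem Q101238 : ∀ i, i < 101238 → P i := stepQ 101237 Q101237 (allL N101237 (tt N64720 (iv1 F432348)) (tt N64716 (iv0 D204388)) (tt N83303 (iv2 F432347)) (tt N69211 (iv3 F432350)) (tt N100437 F432346) (tt N75673 F432345) (tt N69210 F432351) (tt N66844 F432349))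
theorem Q101239 : ∀ i, i < 101239 → P i := stepQ 101238 Q101238 (allL N101238 (tt N102695 (iv1 F438228)) (tt N100668 (iv0 F432356)) (tt N87355 F432352) (tt N64716 (iv3 D204389)) (tt N87350 F432353) (tt N117467 (iv5 F505183)) (tt N99793 F432354) (tt N87359 F432355))
theorem Q101240 : ∀ i, i < 101240 → P i := stepQ 101239 Q101239 (allL N101239 (tt N64717 (iv1 D204390)) (tt N64721 F432357) (tt N114808 (iv2 F491976)) (tt N64786 F438230) (tt N118720 (iv4 F511737)) (tt N110311 (iv5 F470982)) (tt N116513 F500553) (tt N105061 (iv7 F448610)))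
theorem Q101241 : ∀ i, i < 101241 → P i := stepQ 101240 Q101240 (allL N101240 (tt N117589 F505870) (tt N120403 D223662) (tt N117013 (iv2 F502969)) (tt N94778 (iv3 F432359)) (tt N64717 (iv4 D204391)) (tt N114116 (iv5 F488612)) (tt N95258 (iv6 F432360)) (tt N94776 F432358))
theorem Q101242 : ∀ i, i < 101242 → P i := stepQ 101241 Q101241 (allL N101241 (tt N114758 F491709) (tt N107285 (iv0 F457798)) (tt N90336 F432361) (tt N71205 F432362) (tt N95258 F432363) (tt N89240 (iv5 F432365)) (tt N64717 (iv6 D204392)) (tt N90338 F432364))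
theorem Q101243 : ∀ i, i < 101243 → P i := stepQ 101242 Q101242 (allL N101242 (tt N76919 F432372) (tt N78343 F432371) (tt N78341 F432366) (tt N81615 F432367) (tt N93734 F432370) (tt N64718 (iv5 D204393)) (tt N89240 F432368) (tt N78340 F432369))
theorem Q101244 : ∀ i, i < 101244 → P i := stepQ 101243 Q101243 (allL N101243 (tt N120404 D223663) (tt N116925 (iv0 F502529)) (tt N78989 F432373) (tt N64721 F432374) (tt N120405 D223664) (tt N64719 (iv5 D204394)) (tt N114794 (iv6 F491904)) (tt N78982 F432375))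
theorem Q101245 : ∀ i, i < 101245 → P i := stepQ 101244 Q101244 (allL N101244 (tt N120403 (iv1 F520598)) (tt N117589 (iv0 F505869)) (tt N94776 F432376) (tt N95247 (iv3 F432378)) (tt N64721 (iv4 D204395)) (tt N117014 (iv5 F502976)) (tt N94775 F432377) (tt N117013 (iv7 F502973)))
theorem Q101246 : ∀ i, i < 101246 → P i := stepQ 101245 Q101245 (allL N101245 (tt N89846 (iv1 F432383)) (tt N89845 (iv0 F432381)) (tt N89847 F432379) (tt N64723 (iv3 D204396)) (tt N114654 (iv4 F491218)) (tt N86475 F432382) (tt N108134 (iv6 F461250)) (tt N85634 F432380))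
theorem Q101247 : ∀ i, i < 101247 → P i := stepQ 101246 Q101246 (allL N101246 (tt N77297 (iv1 F432389)) (tt N85664 F432390) (tt N85665 F432384) (tt N86475 F432385) (tt N75373 (iv4 F432388)) (tt N64723 (iv5 D204397)) (tt N75372 F432387) (tt N84123 F432386))
theorem Q101248 : ∀ i, i < 101248 → P i := stepQ 101247 Q101247 (allL N101247 (tt N110035 F469658) (tt N93307 (iv0 F432394)) (tt N120406 D223665) (tt N64724 (iv3 D204398)) (tt N64805 F432392) (tt N118722 (iv5 F511748)) (tt N64742 F432393) (tt N120407 D223666))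
theorem Q101249 : ∀ i, i < 101249 → P i := stepQ 101248 Q101248 (allL N101248 (tt N114124 F488654) (tt N111416 (iv0 F476252)) (tt N117030 F503050) (tt N118722 (iv3 F511750)) (tt N114118 (iv4 F488622)) (tt N64724 (iv5 D204399)) (tt N120408 D223667) (tt N117029 F503046))
theorem Q101250 : ∀ i, i < 101250 → P i := stepQ 101249 Q101249 (allL N101249 (tt N106267 (iv1 F453812)) (tt N83123 (iv0 F432397)) (tt N85662 F432395) (tt N120407 (iv3 F520622)) (tt N64725 F432396) (tt N117029 (iv5 F503043)) (tt N97834 (iv6 F432398)) (tt N64724 (iv7 D204400)))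
theorem Q101251 : ∀ i, i < 101251 → P i := stepQ 101250 Q101250 (allL N101250 (tt N110189 (iv1 F470350)) (tt N110415 (iv0 F471469)) (tt N85663 F432399) (tt N64808 F432400) (tt N97834 F432401) (tt N77372 F432402) (tt N64725 (iv6 D204401)) (tt N64745 F432403))
theorem Q101252 : ∀ i, i < 101252 → P i := stepQ 101251 Q101251 (allL N101251 (tt N116926 F502535) (tt N120409 D223668) (tt N111289 (iv2 F475654)) (tt N64733 F432404) (tt N107264 (iv4 F457700)) (tt N112955 (iv5 F483373)) (tt N64729 (iv6 D204402)) (tt N111295 (iv7 F475681)))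
theorem Q101253 : ∀ i, i < 101253 → P i := stepQ 101252 Q101252 (allL N101252 (tt N109760 (iv1 F468487)) (tt N109759 F468486) (tt N109762 (iv2 F468495)) (tt N64734 F432405) (tt N120358 (iv4 F520357)) (tt N64730 (iv5 D204403)) (tt N112955 (iv6 F483374)) (tt N109699 (iv7 F468175)))
theorem Q101254 : ∀ i, i < 101254 → P i := stepQ 101253 Q101253 (allL N101253 (tt N109628 (iv1 F467819)) (tt N72293 (iv0 F432410)) (tt N95265 F432406) (tt N86206 F432407) (tt N65278 F432408) (tt N64732 (iv5 D204404)) (tt N110200 (iv6 F470401)) (tt N86204 F432409))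
theorem Q101255 : ∀ i, i < 101255 → P i := stepQ 101254 Q101254 (allL N101254 (tt N73010 (iv1 F432416)) (tt N73009 (iv0 F432415)) (tt N73011 F432411) (tt N117171 (iv3 F503738)) (tt N64733 F432412) (tt N73757 F432414) (tt N64732 (iv6 D204405)) (tt N72995 F432413))
theorem Q101256 : ∀ i, i < 101256 → P i := stepQ 101255 Q101255 (allL N101255 (tt N64733 (iv1 D204406)) (tt N73008 F432417) (tt N116513 (iv2 F500554)) (tt N120199 (iv3 F519548)) (tt N76885 (iv4 F432419)) (tt N77076 F432418) (tt N114808 (iv6 F491977)) (tt N110933 (iv7 F473858)))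
theorem Q101257 : ∀ i, i < 101257 → P i := stepQ 101256 Q101256 (allL N101256 (tt N116513 (iv1 F500548)) (tt N110933 (iv0 F473860)) (tt N73008 F432420) (tt N111295 (iv3 F475679)) (tt N72995 F432421) (tt N110029 F469632) (tt N72994 F432422) (tt N64733 (iv7 D204407)))
theorem Q101258 : ∀ i, i < 101258 → P i := stepQ 101257 Q101257 (allL N101257 (tt N77068 F432427) (tt N77063 F432428) (tt N82738 F432424) (tt N114060 F488390) (tt N64734 (iv4 D204408)) (tt N65253 (iv5 F432429)) (tt N65255 F432425) (tt N82737 F432426))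
theorem Q101259 : ∀ i, i < 101259 → P i := stepQ 101258 Q101258 (allL N101258 (tt N64738 (iv1 F432432)) (tt N64735 (iv0 D204409)) (tt N101763 (iv2 F434235)) (tt N114588 (iv3 F490893)) (tt N91724 F432431) (tt N72293 F432430) (tt N110190 (iv6 F470352)) (tt N101740 (iv7 F434120)))
theorem Q101260 : ∀ i, i < 101260 → P i := stepQ 101259 Q101259 (allL N101259 (tt N82814 (iv1 F432437)) (tt N70283 F432438) (tt N113313 (iv2 F484970)) (tt N82420 F432433) (tt N78431 F432434) (tt N94914 F432435) (tt N85645 F432436) (tt N64736 (iv7 D204410)))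
theorem Q101261 : ∀ i, i < 101261 → P i := stepQ 101260 Q101260 (allL N101260 (tt N109654 F467947) (tt N64742 (iv0 D204411)) (tt N112022 (iv2 F479113)) (tt N118657 (iv3 F511380)) (tt N120410 D223669) (tt N77540 F467948) (tt N112020 (iv6 F479108)) (tt N65281 F467949))
theorem Q101262 : ∀ i, i < 101262 → P i := stepQ 101261 Q101261 (allL N101261 (tt N64742 (iv1 D204412)) (tt N109654 F467951) (tt N65281 F467952) (tt N112023 (iv3 F479120)) (tt N120411 D223670) (tt N76894 F467953) (tt N65218 F467954) (tt N112022 (iv7 F479117)))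
theorem Q101263 : ∀ i, i < 101263 → P i := stepQ 101262 Q101262 (allL N101262 (tt N112022 (iv1 F479119)) (tt N65281 F451464) (tt N64742 (iv2 D204413)) (tt N109656 (iv3 F467961)) (tt N64866 F432439) (tt N120410 (iv5 F520636)) (tt N120406 (iv6 F520617)) (tt N109654 (iv7 F467950)))
theorem Q101264 : ∀ i, i < 101264 → P i := stepQ 101263 Q101263 (allL N101263 (tt N120412 D223671) (tt N120413 D223672) (tt N120410 (iv2 F520633)) (tt N64743 F432440) (tt N112022 (iv4 F479115)) (tt N64742 (iv5 D204414)) (tt N112021 F479112) (tt N120411 (iv7 F520641)))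
theorem Q101265 : ∀ i, i < 101265 → P i := stepQ 101264 Q101264 (allL N101264 (tt N65281 F451463) (tt N112022 F479118) (tt N109654 (iv2 F467941)) (tt N64744 F432441) (tt N64868 F432442) (tt N120411 (iv5 F520639)) (tt N109652 F467936) (tt N64742 (iv7 D204415)))
theorem Q101266 : ∀ i, i < 101266 → P i := stepQ 101265 Q101265 (allL N101265 (tt N65280 (iv1 F432446)) (tt N64743 (iv0 D204416)) (tt N101467 (iv2 F433048)) (tt N109792 (iv3 F468633)) (tt N65257 (iv4 F432445)) (tt N65228 F432443) (tt N76003 (iv6 F432444)) (tt N107218 (iv7 F457494)))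
theorem Q101267 : ∀ i, i < 101267 → P i := stepQ 101266 Q101266 (allL N101266 (tt N64743 (iv1 D204417)) (tt N65280 F432447) (tt N107218 (iv2 F457491)) (tt N64848 (iv3 F432450)) (tt N65233 F432449) (tt N65252 F432448) (tt N110196 (iv6 F470380)) (tt N101467 (iv7 F433045)))
theorem Q101268 : ∀ i, i < 101268 → P i := stepQ 101267 Q101267 (allL N101267 (tt N65279 F432453) (tt N65278 F432454) (tt N65282 F432451) (tt N100832 F432455) (tt N64743 (iv4 D204418)) (tt N65219 F432452) (tt N100831 (iv6 F432456)) (tt N65218 F432457))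
theorem Q101269 : ∀ i, i < 101269 → P i := stepQ 101268 Q101268 (allL N101268 (tt N120414 D223673) (tt N96329 (iv0 F432459)) (tt N120401 (iv2 F520589)) (tt N112021 (iv3 F479110)) (tt N100831 F432458) (tt N120408 (iv5 F520628)) (tt N64743 (iv6 D204419)) (tt N112021 (iv7 F479111)))
theorem Q101270 : ∀ i, i < 101270 → P i := stepQ 101269 Q101269 (allL N101269 (tt N107218 (iv1 F457496)) (tt N101467 (iv0 F433046)) (tt N65280 F432460) (tt N120411 (iv3 F520638)) (tt N65218 F432461) (tt N64744 F432462) (tt N120411 (iv6 F520640)) (tt N64743 (iv7 D204420)))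
theorem Q101271 : ∀ i, i < 101271 → P i := stepQ 101270 Q101270 (allL N101270 (tt N97833 (iv1 F432466)) (tt N97832 F432467) (tt N93135 F432463) (tt N109652 (iv3 F467933)) (tt N64745 F432464) (tt N109652 (iv5 F467934)) (tt N64744 (iv6 D204421)) (tt N97834 F432465))
theorem Q101272 : ∀ i, i < 101272 → P i := stepQ 101271 Q101271 (allL N101271 (tt N75655 F432473) (tt N84295 F432474) (tt N64750 F432468) (tt N89412 F432469) (tt N82714 F432472) (tt N64746 (iv5 D204422)) (tt N100933 F432470) (tt N99781 F432471))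
theorem Q101273 : ∀ i, i < 101273 → P i := stepQ 101272 Q101272 (allL N101272 (tt N74767 (iv1 F432479)) (tt N64748 (iv0 D204423)) (tt N74805 (iv2 F432477)) (tt N65097 F432476) (tt N109453 (iv4 F467033)) (tt N65096 F432475) (tt N105278 (iv6 F449525)) (tt N66645 F432478))
theorem Q101274 : ∀ i, i < 101274 → P i := stepQ 101273 Q101273 (allL N101273 (tt N66645 (iv1 F432483)) (tt N74805 F432484) (tt N74767 F432480) (tt N66644 F432481) (tt N64751 F432482) (tt N111941 (iv5 F478787)) (tt N117514 (iv6 F505449)) (tt N64748 (iv7 D204424)))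
theorem Q101275 : ∀ i, i < 101275 → P i := stepQ 101274 Q101274 (allL N101274 (tt N99781 F432490) (tt N64750 (iv0 D204425)) (tt N75655 F432489) (tt N120169 (iv3 F519402)) (tt N83691 F432486) (tt N75642 F432485) (tt N90723 (iv6 F432487)) (tt N84295 (iv7 F432488)))
theorem Q101276 : ∀ i, i < 101276 → P i := stepQ 101275 Q101275 (allL N101275 (tt N64750 (iv1 D204426)) (tt N99781 F432491) (tt N84295 F432494) (tt N73926 F432495) (tt N84076 F432496) (tt N73925 (iv5 F432493)) (tt N113988 (iv6 F488080)) (tt N75655 F432492))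
theorem Q101277 : ∀ i, i < 101277 → P i := stepQ 101276 Q101276 (allL N101276 (tt N84295 (iv1 F432501)) (tt N75655 F432502) (tt N99781 F432497) (tt N64759 F432498) (tt N82713 F432499) (tt N64751 F432500) (tt N113995 (iv6 F488109)) (tt N64750 (iv7 D204427)))
theorem Q101278 : ∀ i, i < 101278 → P i := stepQ 101277 Q101277 (allL N101277 (tt N64754 (iv1 F432504)) (tt N64753 (iv0 D204428)) (tt N105182 (iv2 F449130)) (tt N88559 (iv3 F432505)) (tt N111914 (iv4 F478618)) (tt N79152 F432503) (tt N114002 F488144) (tt N105183 (iv7 F449141)))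
theorem Q101279 : ∀ i, i < 101279 → P i := stepQ 101278 Q101278 (allL N101278 (tt N64753 (iv1 D204429)) (tt N64754 F432507) (tt N105183 (iv2 F449138)) (tt N99782 (iv3 F432509)) (tt N120300 (iv4 F520100)) (tt N84348 F432508) (tt N113384 (iv6 F485290)) (tt N105182 (iv7 F449133)))
theorem Q101280 : ∀ i, i < 101280 → P i := stepQ 101279 Q101279 (allL N101279 (tt N120367 (iv1 F520405)) (tt N120368 (iv0 F520410)) (tt N117379 (iv2 F504744)) (tt N118559 (iv3 F510927)) (tt N64753 (iv4 D204430)) (tt N88592 F432510) (tt N105140 (iv6 F448961)) (tt N120251 (iv7 F519820)))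
theorem Q101281 : ∀ i, i < 101281 → P i := stepQ 101280 Q101280 (allL N101280 (tt N120368 (iv1 F520411)) (tt N120367 (iv0 F520404)) (tt N120251 (iv2 F519818)) (tt N107384 (iv3 F458166)) (tt N64754 (iv4 D204431)) (tt N84979 F432511) (tt N112781 (iv6 F482615)) (tt N117379 (iv7 F504745)))
theorem Q101282 : ∀ i, i < 101282 → P i := stepQ 101281 Q101281 (allL N101281 (tt N120260 (iv1 F519872)) (tt N80510 (iv0 F432512)) (tt N120252 (iv2 F519822)) (tt N118005 (iv3 F508045)) (tt N112781 (iv4 F482614)) (tt N105550 F450695) (tt N64754 (iv6 D204432)) (tt N107385 (iv7 F458169)))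
theorem Q101283 : ∀ i, i < 101283 → P i := stepQ 101282 Q101282 (allL N101282 (tt N88449 F432517) (tt N100563 (iv0 F432518)) (tt N100605 F432513) (tt N85555 F432514) (tt N73459 F432516) (tt N64755 (iv5 D204433)) (tt N105550 (iv6 F450691)) (tt N96238 F432515))
theorem Q101284 : ∀ i, i < 101284 → P i := stepQ 101283 Q101283 (allL N101283 (tt N113365 F485196) (tt N101292 (iv0 F432563)) (tt N120279 (iv2 F519989)) (tt N64756 (iv3 D204434)) (tt N97108 (iv4 F432519)) (tt N97096 F432520) (tt N119607 (iv6 F516483)) (tt N120253 (iv7 F519830)))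
theorem Q101285 : ∀ i, i < 101285 → P i := stepQ 101284 Q101284 (allL N101284 (tt N69866 F432527) (tt N69865 F432525) (tt N69867 F432521) (tt N97096 F432522) (tt N84113 F432523) (tt N64756 (iv5 D204435)) (tt N69902 F432526) (tt N69741 F432524))
theorem Q101286 : ∀ i, i < 101286 → P i := stepQ 101285 Q101285 (allL N101285 (tt N99383 F432529) (tt N107382 F458161) (tt N107380 (iv2 F458158)) (tt N119607 (iv3 F516485)) (tt N120310 (iv4 F520147)) (tt N64841 F432528) (tt N64756 (iv6 D204436)) (tt N107379 F458154))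
theorem Q101287 : ∀ i, i < 101287 → P i := stepQ 101286 Q101286 (allL N101286 (tt N88595 (iv1 F432532)) (tt N64758 (iv0 D204437)) (tt N100987 (iv2 F432533)) (tt N120321 (iv3 F520183)) (tt N100574 F432531) (tt N82682 F432530) (tt N120415 D223674) (tt N100989 (iv7 F432534)))
theorem Q101288 : ∀ i, i < 101288 → P i := stepQ 101287 Q101287 (allL N101287 (tt N64758 (iv1 D204438)) (tt N88595 F432535) (tt N100989 (iv2 F432538)) (tt N120416 D223675) (tt N100575 F432537) (tt N112035 (iv5 F479187)) (tt N104332 (iv6 F445296)) (tt N100987 F432536))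
theorem Q101289 : ∀ i, i < 101289 → P i := stepQ 101288 Q101288 (allL N101288 (tt N84328 (iv1 F432542)) (tt N112952 (iv0 F483360)) (tt N100873 F432539) (tt N64758 (iv3 D204439)) (tt N84978 F432540) (tt N120300 (iv5 F520101)) (tt N100940 F432541) (tt N112954 (iv7 F483366)))
theorem Q101290 : ∀ i, i < 101290 → P i := stepQ 101289 Q101289 (allL N101289 (tt N80019 F432548) (tt N71809 F432549) (tt N80018 F432543) (tt N64762 F432544) (tt N82459 F432545) (tt N71806 F432546) (tt N64760 (iv6 D204440)) (tt N69829 F432547))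
theorem Q101291 : ∀ i, i < 101291 → P i := stepQ 101290 Q101290 (allL N101290 (tt N71785 F432554) (tt N79150 F432555) (tt N90211 F432550) (tt N71806 F432551) (tt N108122 (iv4 F461205)) (tt N64762 (iv5 D204441)) (tt N81880 F432552) (tt N69832 F432553))
theorem Q101292 : ∀ i, i < 101292 → P i := stepQ 101291 Q101291 (allL N101291 (tt N81701 F432560) (tt N117518 (iv0 F505479)) (tt N79119 F432556) (tt N64766 F432557) (tt N78713 F432558) (tt N116823 (iv5 F502013)) (tt N64764 (iv6 D204442)) (tt N84221 F432559))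
theorem Q101293 : ∀ i, i < 101293 → P i := stepQ 101292 Q101292 (allL N101292 (tt N101283 F432563) (tt N110333 (iv0 F471091)) (tt N101027 F432561) (tt N116823 F502019) (tt N107205 (iv4 F457450)) (tt N64766 (iv5 D204443)) (tt N100558 F432562) (tt N112926 (iv7 F483295)))
theorem Q101294 : ∀ i, i < 101294 → P i := stepQ 101293 Q101293 (allL N101293 (tt N96981 (iv1 F432568)) (tt N97093 F432569) (tt N101028 F432564) (tt N84221 F432565) (tt N95833 F432566) (tt N112926 (iv5 F483294)) (tt N84117 F432567) (tt N64766 (iv7 D204444)))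
theorem Q101295 : ∀ i, i < 101295 → P i := stepQ 101294 Q101294 (allL N101294 (tt N110340 F471126) (tt N113196 (iv0 F484426)) (tt N110224 (iv2 F470510)) (tt N113454 F485563) (tt N110569 (iv4 F472183)) (tt N64767 (iv5 D204445)) (tt N110568 (iv6 F472181)) (tt N110226 (iv7 F470522)))
theorem Q101296 : ∀ i, i < 101296 → P i := stepQ 101295 Q101295 (allL N101295 (tt N85802 F432573) (tt N102703 (iv0 F438271)) (tt N110225 (iv2 F470515)) (tt N75261 F432570) (tt N64768 (iv4 D204446)) (tt N100418 (iv5 F432574)) (tt N75260 F432571) (tt N77439 F432572))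
theorem Q101297 : ∀ i, i < 101297 → P i := stepQ 101296 Q101296 (allL N101296 (tt N113196 F484427) (tt N110340 F471127) (tt N110226 (iv2 F470521)) (tt N90846 F432575) (tt N117240 (iv4 F504067)) (tt N64768 (iv5 D204447)) (tt N105212 (iv6 F449224)) (tt N110224 (iv7 F470512)))
theorem Q101298 : ∀ i, i < 101298 → P i := stepQ 101297 Q101297 (allL N101297 (tt N110230 (iv1 F470546)) (tt N64769 (iv0 D204448)) (tt N110227 (iv2 F470528)) (tt N120080 (iv3 F518941)) (tt N117367 (iv4 F504693)) (tt N113882 F487612) (tt N83377 F470529) (tt N110228 (iv7 F470532)))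
theorem Q101299 : ∀ i, i < 101299 → P i := stepQ 101298 Q101298 (allL N101298 (tt N120216 (iv1 F519645)) (tt N119796 F517456) (tt N110229 (iv2 F470536)) (tt N119795 F517451) (tt N64769 (iv4 D204449)) (tt N119925 (iv5 F518069)) (tt N100906 F432576) (tt N109987 (iv7 F469472)))
theorem Q101300 : ∀ i, i < 101300 → P i := stepQ 101299 Q101299 (allL N101299 (tt N110228 (iv1 F470531)) (tt N110227 (iv0 F470530)) (tt N110230 (iv2 F470540)) (tt N64778 F432577) (tt N109987 (iv4 F469471)) (tt N64770 F432578) (tt N109892 (iv6 F469104)) (tt N64769 (iv7 D204450)))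
theorem Q101301 : ∀ i, i < 101301 → P i := stepQ 101300 Q101300 (allL N101300 (tt N118228 (iv1 F509256)) (tt N117242 (iv0 F504079)) (tt N101347 (iv2 F432725)) (tt N77821 F432579) (tt N64771 (iv4 D204451)) (tt N77818 F432580) (tt N110725 (iv6 F472911)) (tt N101349 (iv7 F432738)))
theorem Q101302 : ∀ i, i < 101302 → P i := stepQ 101301 Q101301 (allL N101301 (tt N113467 F485621) (tt N118671 F511454) (tt N101348 (iv2 F432731)) (tt N90841 F432581) (tt N110725 (iv4 F472912)) (tt N94561 F432582) (tt N64771 (iv6 D204452)) (tt N94560 F432583))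
theorem Q101303 : ∀ i, i < 101303 → P i := stepQ 101302 Q101302 (allL N101302 (tt N74424 F432588) (tt N74423 (iv0 F432590)) (tt N74425 F432584) (tt N80452 F432585) (tt N64773 (iv4 D204453)) (tt N87925 F432587) (tt N103059 (iv6 F439897)) (tt N74421 F432586))
theorem Q101304 : ∀ i, i < 101304 → P i := stepQ 101303 Q101303 (allL N101303 (tt N117242 (iv1 F504080)) (tt N118228 (iv0 F509255)) (tt N101349 (iv2 F432736)) (tt N110740 (iv3 F472964)) (tt N64774 (iv4 D204454)) (tt N110727 (iv5 F472921)) (tt N105166 (iv6 F449074)) (tt N101347 (iv7 F432726)))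
theorem Q101305 : ∀ i, i < 101305 → P i := stepQ 101304 Q101304 (allL N101304 (tt N120366 (iv1 F520401)) (tt N81903 F432593) (tt N101351 (iv2 F432743)) (tt N83537 F432591) (tt N64775 (iv4 D204455)) (tt N98870 F432592) (tt N120417 D223676) (tt N101352 (iv7 F432748)))
theorem Q101306 : ∀ i, i < 101306 → P i := stepQ 101305 Q101305 (allL N101305 (tt N83046 F432735) (tt N83353 (iv0 F432597)) (tt N83351 F432594) (tt N88734 F432595) (tt N120417 (iv4 F520669)) (tt N100891 F432596) (tt N64775 (iv6 D204456)) (tt N83352 (iv7 F432598)))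
theorem Q101307 : ∀ i, i < 101307 → P i := stepQ 101306 Q101306 (allL N101306 (tt N101162 (iv1 F432742)) (tt N77665 F432600) (tt N90816 F432599) (tt N64776 (iv3 D204457)) (tt N119736 (iv4 F517169)) (tt N111359 (iv5 F476000)) (tt N120184 (iv6 F519485)) (tt N101350 (iv7 F432741)))
theorem Q101308 : ∀ i, i < 101308 → P i := stepQ 101307 Q101307 (allL N101307 (tt N81903 F432602) (tt N120366 F520400) (tt N101352 (iv2 F432746)) (tt N120418 D223677) (tt N64776 (iv4 D204458)) (tt N99009 F432601) (tt N120419 D223678) (tt N101351 (iv7 F432744)))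
theorem Q101309 : ∀ i, i < 101309 → P i := stepQ 101308 Q101308 (allL N101308 (tt N105314 F449667) (tt N107331 (iv0 F457987)) (tt N101353 (iv2 F432751)) (tt N120184 (iv3 F519483)) (tt N120419 (iv4 F520681)) (tt N111360 (iv5 F476004)) (tt N64776 (iv6 D204459)) (tt N120420 D223679))
theorem Q101310 : ∀ i, i < 101310 → P i := stepQ 101309 Q101309 (allL N101309 (tt N101346 (iv1 F432724)) (tt N64777 (iv0 D204460)) (tt N101354 (iv2 F432757)) (tt N120421 D223680) (tt N100972 F432603) (tt N119293 (iv5 F514873)) (tt N117373 (iv6 F504716)) (tt N101355 (iv7 F432759)))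
theorem Q101311 : ∀ i, i < 101311 → P i := stepQ 101310 Q101310 (allL N101310 (tt N64777 (iv1 D204461)) (tt N101346 (iv0 F432723)) (tt N101355 F432761) (tt N100637 F432605) (tt N100973 F432604) (tt N119294 (iv5 F514881)) (tt N119726 (iv6 F517122)) (tt N101354 (iv7 F432756)))
theorem Q101312 : ∀ i, i < 101312 → P i := stepQ 101311 Q101311 (allL N101311 (tt N112648 (iv1 F481989)) (tt N112530 (iv0 F481533)) (tt N101357 (iv2 F432764)) (tt N110573 (iv3 F472447)) (tt N93409 F432609) (tt N64777 (iv5 D204463)) (tt N120422 D223681) (tt N112647 (iv7 F481984)))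
theorem Q101313 : ∀ i, i < 101313 → P i := stepQ 101312 Q101312 (allL N101312 (tt N101355 (iv1 F432758)) (tt N101354 F432754) (tt N101346 (iv2 F432720)) (tt N119713 F517052) (tt N64778 F432610) (tt N112647 (iv5 F481980)) (tt N112621 (iv6 F481871)) (tt N64777 (iv7 D204464)))
theorem Q101314 : ∀ i, i < 101314 → P i := stepQ 101313 Q101313 (allL N101313 (tt N109313 (iv1 F466343)) (tt N75811 F432614) (tt N76764 F432611) (tt N98379 F432612) (tt N75659 F432613) (tt N64779 (iv5 D204465)) (tt N75808 F432615) (tt N110517 (iv7 F471947)))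
theorem Q101315 : ∀ i, i < 101315 → P i := stepQ 101314 Q101314 (allL N101314 (tt N99830 F432620) (tt N74816 F432621) (tt N99829 F432616) (tt N105280 (iv3 F449534)) (tt N64781 F432617) (tt N99200 F432619) (tt N64779 (iv6 D204466)) (tt N99199 F432618))
theorem Q101316 : ∀ i, i < 101316 → P i := stepQ 101315 Q101315 (allL N101315 (tt N76624 F432625) (tt N76623 F432626) (tt N98150 F432622) (tt N112660 (iv3 F482049)) (tt N64780 (iv4 D204467)) (tt N98142 F432624) (tt N106328 (iv6 F454048)) (tt N98583 F432623))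
theorem Q101317 : ∀ i, i < 101317 → P i := stepQ 101316 Q101316 (allL N101316 (tt N72362 F432630) (tt N120423 D223682) (tt N106185 (iv2 F453509)) (tt N64788 F432627) (tt N106328 (iv4 F454047)) (tt N94230 F432628) (tt N64780 (iv6 D204468)) (tt N99368 F432629))
theorem Q101318 : ∀ i, i < 101318 → P i := stepQ 101317 Q101317 (allL N101317 (tt N105293 F449601) (tt N64781 (iv0 D204469)) (tt N99562 (iv2 F432635)) (tt N73852 F432633) (tt N82094 F432632) (tt N73834 F432631) (tt N89177 F432634) (tt N73833 F432636))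
theorem Q101319 : ∀ i, i < 101319 → P i := stepQ 101318 Q101318 (allL N101318 (tt N112529 (iv1 F481525)) (tt N112528 F481522) (tt N101503 F433184) (tt N112603 (iv3 F481792)) (tt N64784 (iv4 D204470)) (tt N112648 (iv5 F481987)) (tt N120424 D223683) (tt N105297 (iv7 F449619)))
theorem Q101320 : ∀ i, i < 101320 → P i := stepQ 101319 Q101319 (allL N101319 (tt N112616 F481857) (tt N118970 (iv0 F513042)) (tt N100224 F432637) (tt N120093 (iv3 F519004)) (tt N120424 (iv4 F520707)) (tt N70423 F432638) (tt N64784 (iv6 D204471)) (tt N70425 F432639))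
theorem Q101321 : ∀ i, i < 101321 → P i := stepQ 101320 Q101320 (allL N101320 (tt N105853 F452043) (tt N106175 (iv0 F453462)) (tt N117590 (iv2 F505871)) (tt N64785 (iv3 D204472)) (tt N105886 (iv4 F452179)) (tt N69896 F432640) (tt N69899 F432641) (tt N105060 (iv7 F448606)))
theorem Q101322 : ∀ i, i < 101322 → P i := stepQ 101321 Q101321 (allL N101321 (tt N64794 (iv1 F432643)) (tt N64787 (iv0 D204474)) (tt N96000 (iv2 F432644)) (tt N120425 D223684) (tt N95913 F432642) (tt N120426 D223685) (tt N105083 (iv6 F448711)) (tt N95996 (iv7 F432645)))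
theorem Q101323 : ∀ i, i < 101323 → P i := stepQ 101322 Q101322 (allL N101322 (tt N64787 (iv1 D204475)) (tt N64794 F432646) (tt N95996 (iv2 F432649)) (tt N93886 F432651) (tt N95912 F432648) (tt N93884 (iv5 F432650)) (tt N101488 (iv6 F433113)) (tt N96000 F432647))
theorem Q101324 : ∀ i, i < 101324 → P i := stepQ 101323 Q101323 (allL N101323 (tt N98609 F432653) (tt N108900 F464442) (tt N108904 F464440) (tt N64787 (iv3 D204476)) (tt N112660 (iv4 F482051)) (tt N112646 (iv5 F481976)) (tt N114473 (iv6 F490362)) (tt N96474 F432652))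
theorem Q101325 : ∀ i, i < 101325 → P i := stepQ 101324 Q101324 (allL N101324 (tt N120427 D223686) (tt N110195 (iv0 F470375)) (tt N120378 (iv2 F520463)) (tt N112646 (iv3 F481974)) (tt N112530 (iv4 F481532)) (tt N64787 (iv5 D204477)) (tt N103161 (iv6 F440351)) (tt N96475 F432655))
theorem Q101326 : ∀ i, i < 101326 → P i := stepQ 101325 Q101325 (allL N101325 (tt N95703 (iv1 F432659)) (tt N96478 (iv0 F432660)) (tt N96479 F432656) (tt N114473 (iv3 F490361)) (tt N64788 F432657) (tt N105373 (iv5 F449937)) (tt N64787 (iv6 D204478)) (tt N69688 F432658))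
theorem Q101327 : ∀ i, i < 101327 → P i := stepQ 101326 Q101326 (allL N101326 (tt N106169 F453431) (tt N90216 (iv0 F432666)) (tt N90698 F432661) (tt N94230 F432662) (tt N71562 F432665) (tt N64788 (iv5 D204479)) (tt N64790 F432663) (tt N99372 F432664))
theorem Q101328 : ∀ i, i < 101328 → P i := stepQ 101327 Q101327 (allL N101327 (tt N98899 F432672) (tt N98897 F432673) (tt N93507 F432667) (tt N71564 F432668) (tt N64790 (iv4 D204480)) (tt N93625 F432669) (tt N71562 F432670) (tt N98943 F432671))
theorem Q101329 : ∀ i, i < 101329 → P i := stepQ 101328 Q101328 (allL N101328 (tt N106188 F453529) (tt N64792 (iv0 D204481)) (tt N119551 (iv2 F516203)) (tt N106178 F453479) (tt N113846 (iv4 F487421)) (tt N112363 (iv5 F480754)) (tt N120428 D223687) (tt N113844 F487413))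
theorem Q101330 : ∀ i, i < 101330 → P i := stepQ 101329 Q101329 (allL N101329 (tt N64792 (iv1 D204482)) (tt N106188 (iv0 F453528)) (tt N113844 (iv2 F487407)) (tt N113916 (iv3 F487772)) (tt N85466 F432676) (tt N101202 F432674) (tt N85465 (iv6 F432675)) (tt N119551 (iv7 F516198)))
theorem Q101331 : ∀ i, i < 101331 → P i := stepQ 101330 Q101330 (allL N101330 (tt N115737 F500290) (tt N111847 (iv0 F478287)) (tt N115735 F496584) (tt N116360 F499710) (tt N64792 (iv4 D204483)) (tt N112364 (iv5 F480758)) (tt N69699 F432677) (tt N115736 (iv7 F496585)))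
theorem Q101332 : ∀ i, i < 101332 → P i := stepQ 101331 Q101331 (allL N101331 (tt N120429 D223688) (tt N120430 D223689) (tt N116366 (iv2 F499737)) (tt N64794 (iv3 D204484)) (tt N116360 (iv4 F499705)) (tt N118213 (iv5 F509187)) (tt N69700 F432678) (tt N116367 (iv7 F499745)))
theorem Q101333 : ∀ i, i < 101333 → P i := stepQ 101332 Q101332 (allL N101332 (tt N110195 (iv1 F470377)) (tt N120427 F520727) (tt N96475 F432679) (tt N118213 (iv3 F509185)) (tt N112648 (iv4 F481986)) (tt N64794 (iv5 D204485)) (tt N96321 F432680) (tt N120378 (iv7 F520466)))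
theorem Q101334 : ∀ i, i < 101334 → P i := stepQ 101333 Q101333 (allL N101333 (tt N64800 (iv1 F432683)) (tt N64796 (iv0 D204486)) (tt N119158 (iv2 F514098)) (tt N120431 D223690) (tt N100978 F432681) (tt N120427 (iv5 F520724)) (tt N96545 F432682) (tt N100977 (iv7 F432684)))
theorem Q101335 : ∀ i, i < 101335 → P i := stepQ 101334 Q101334 (allL N101334 (tt N64796 (iv1 D204487)) (tt N64800 F432685) (tt N100977 F432688) (tt N110196 (iv3 F470379)) (tt N79392 (iv4 F432686)) (tt N110195 F470376) (tt N64848 (iv6 F432687)) (tt N119158 (iv7 F514102)))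
theorem Q101336 : ∀ i, i < 101336 → P i := stepQ 101335 Q101335 (allL N101335 (tt N89851 (iv1 F432692)) (tt N115359 (iv0 F494785)) (tt N64799 (iv2 D204488)) (tt N99980 F432689) (tt N119548 (iv4 F516184)) (tt N99979 (iv5 F432691)) (tt N120432 D223691) (tt N89096 F432690))
theorem Q101337 : ∀ i, i < 101337 → P i := stepQ 101336 Q101336 (allL N101336 (tt N119543 (iv1 F516162)) (tt N119550 F516195) (tt N119548 (iv2 F516186)) (tt N117311 (iv3 F504405)) (tt N64799 (iv4 D204489)) (tt N117310 F504403) (tt N119169 (iv6 F514165)) (tt N119547 F516181))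
theorem Q101338 : ∀ i, i < 101338 → P i := stepQ 101337 Q101337 (allL N101337 (tt N105338 F449771) (tt N109403 F466788) (tt N99979 F432693) (tt N64801 F432694) (tt N92199 F432696) (tt N64799 (iv5 D204490)) (tt N92198 F432697) (tt N84187 F432695))
theorem Q101339 : ∀ i, i < 101339 → P i := stepQ 101338 Q101338 (allL N101338 (tt N107280 (iv1 F457773)) (tt N85400 (iv0 F432701)) (tt N120432 (iv2 F520752)) (tt N64802 F432698) (tt N119169 (iv4 F514164)) (tt N85577 (iv5 F432700)) (tt N64799 (iv6 D204491)) (tt N89091 F432699))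
theorem Q101340 : ∀ i, i < 101340 → P i := stepQ 101339 Q101339 (allL N101339 (tt N112481 F481274) (tt N118226 (iv0 F509240)) (tt N101659 (iv2 F433734)) (tt N106524 F454771) (tt N119293 (iv4 F514874)) (tt N64800 (iv5 D204492)) (tt N101122 F432702) (tt N118138 (iv7 F508810)))
theorem Q101341 : ∀ i, i < 101341 → P i := stepQ 101340 Q101340 (allL N101340 (tt N64805 (iv1 D204494)) (tt N110469 F471726) (tt N110471 (iv2 F471732)) (tt N86107 (iv3 F432703)) (tt N114529 (iv4 F490616)) (tt N120025 (iv5 F518622)) (tt N110455 (iv6 F471669)) (tt N109347 F471585))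
theorem Q101342 : ∀ i, i < 101342 → P i := stepQ 101341 Q101341 (allL N101341 (tt N109347 F466506) (tt N110471 F471734) (tt N64805 (iv2 D204495)) (tt N117478 (iv3 F505242)) (tt N120406 (iv4 F520616)) (tt N117503 (iv5 F505382)) (tt N64866 F432704) (tt N110469 (iv7 F471724)))
theorem Q101343 : ∀ i, i < 101343 → P i := stepQ 101342 Q101342 (allL N101342 (tt N110471 (iv1 F471735)) (tt N109347 F471725) (tt N110469 F471723) (tt N64807 F432705) (tt N120407 (iv4 F520623)) (tt N117502 (iv5 F505376)) (tt N117481 F505262) (tt N64805 (iv7 D204496)))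
theorem Q101344 : ∀ i, i < 101344 → P i := stepQ 101343 Q101343 (allL N101343 (tt N112530 (iv1 F481534)) (tt N112648 F481990) (tt N112647 F481983) (tt N110775 (iv3 F473142)) (tt N64806 (iv4 D204497)) (tt N101346 (iv5 F432721)) (tt N118351 (iv6 F509859)) (tt N101357 (iv7 F432765)))
theorem Q101345 : ∀ i, i < 101345 → P i := stepQ 101344 Q101344 (allL N101344 (tt N92897 F432709) (tt N92901 (iv0 F432710)) (tt N92899 F432706) (tt N96139 F432707) (tt N118351 (iv4 F509856)) (tt N64869 F432708) (tt N64806 (iv6 D204498)) (tt N92898 (iv7 F432711)))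
theorem Q101346 : ∀ i, i < 101346 → P i := stepQ 101345 Q101345 (allL N101345 (tt N81948 F432716) (tt N81947 F432717) (tt N81949 F432712) (tt N77372 F432713) (tt N120433 D223692) (tt N64808 (iv5 D204499)) (tt N64809 F432714) (tt N64872 F432715))
theorem Q101347 : ∀ i, i < 101347 → P i := stepQ 101346 Q101346 (allL N101346 (tt N101310 F432723) (tt N101309 F432724) (tt N101312 F432720) (tt N109997 F469497) (tt N64809 (iv4 D204500)) (tt N101343 F432721) (tt N120433 (iv6 F520759)) (tt N64816 F432722))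
theorem Q101348 : ∀ i, i < 101348 → P i := stepQ 101347 Q101347 (allL N101347 (tt N99010 F432728) (tt N112557 (iv0 F481641)) (tt N101300 F432725) (tt N77947 (iv3 F432729)) (tt N64811 (iv4 D204501)) (tt N77941 F432727) (tt N77943 (iv6 F432730)) (tt N101303 F432726))
theorem Q101349 : ∀ i, i < 101349 → P i := stepQ 101348 Q101348 (allL N101348 (tt N118643 (iv1 F511303)) (tt N118642 F511301) (tt N101301 F432731) (tt N109212 (iv3 F465801)) (tt N77943 F432732) (tt N94659 F432733) (tt N64811 (iv6 D204502)) (tt N94658 F432734))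
theorem Q101350 : ∀ i, i < 101350 → P i := stepQ 101349 Q101349 (allL N101349 (tt N112557 (iv1 F481642)) (tt N99010 F432739) (tt N101303 F432736) (tt N88990 F432737) (tt N64813 (iv4 D204503)) (tt N110611 (iv5 F472388)) (tt N112581 (iv6 F481715)) (tt N101300 F432738))
theorem Q101351 : ∀ i, i < 101351 → P i := stepQ 101350 Q101350 (allL N101350 (tt N109209 (iv1 F465796)) (tt N109096 F465323) (tt N91129 F432740) (tt N64814 (iv3 D204504)) (tt N107539 F458695) (tt N109409 (iv5 F466819)) (tt N113382 (iv6 F485285)) (tt N101306 F432741))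
theorem Q101352 : ∀ i, i < 101352 → P i := stepQ 101351 Q101351 (allL N101351 (tt N112569 (iv1 F481692)) (tt N100974 F432745) (tt N101304 F432743) (tt N119762 (iv3 F517290)) (tt N64814 (iv4 D204505)) (tt N118227 (iv5 F509243)) (tt N113383 (iv6 F485286)) (tt N101307 F432744))
theorem Q101353 : ∀ i, i < 101353 → P i := stepQ 101352 Q101352 (allL N101352 (tt N100974 F432750) (tt N112569 F481691) (tt N101307 F432746) (tt N72672 F432747) (tt N64815 (iv4 D204506)) (tt N72671 F432749) (tt N120434 D223693) (tt N101304 F432748))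
theorem Q101354 : ∀ i, i < 101354 → P i := stepQ 101353 Q101353 (allL N101353 (tt N105666 F451162) (tt N118765 (iv0 F511964)) (tt N101308 F432751) (tt N71490 F432752) (tt N120434 (iv4 F520765)) (tt N119754 (iv5 F517252)) (tt N64815 (iv6 D204507)) (tt N113388 (iv7 F485307)))
theorem Q101355 : ∀ i, i < 101355 → P i := stepQ 101354 Q101354 (allL N101354 (tt N101312 (iv1 F432754)) (tt N64816 (iv0 D204508)) (tt N101309 F432757) (tt N64888 (iv3 F432755)) (tt N81904 F432753) (tt N118266 (iv5 F509437)) (tt N113350 F485146) (tt N101310 F432756))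
theorem Q101356 : ∀ i, i < 101356 → P i := stepQ 101355 Q101355 (allL N101355 (tt N64816 (iv1 D204509)) (tt N101312 F432758) (tt N101310 (iv2 F432761)) (tt N119734 (iv3 F517161)) (tt N81905 F432760) (tt N98825 (iv5 F468838)) (tt N109835 (iv6 F468837)) (tt N101309 F432759))
theorem Q101357 : ∀ i, i < 101357 → P i := stepQ 101356 Q101356 (allL N101356 (tt N109998 F469506) (tt N99224 (iv0 F457390)) (tt N109996 F469499) (tt N64816 (iv3 D204510)) (tt N77369 F432762) (tt N110788 (iv5 F473178)) (tt N64890 F432763) (tt N109997 (iv7 F469498)))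
theorem Q101358 : ∀ i, i < 101358 → P i := stepQ 101357 Q101357 (allL N101357 (tt N81989 (iv1 F432767)) (tt N120435 D223694) (tt N101311 F432764) (tt N110788 F473179) (tt N96720 F432766) (tt N64816 (iv5 D204511)) (tt N120436 D223695) (tt N101343 F432765))
theorem Q101359 : ∀ i, i < 101359 → P i := stepQ 101358 Q101358 (allL N101358 (tt N98364 F432769) (tt N98069 F432770) (tt N104026 (iv2 F443850)) (tt N106372 (iv3 F454192)) (tt N64817 (iv4 D204512)) (tt N68366 F432768) (tt N90182 (iv6 F432771)) (tt N104024 (iv7 F443842)))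
theorem Q101360 : ∀ i, i < 101360 → P i := stepQ 101359 Q101359 (allL N101359 (tt N89869 F432773) (tt N86198 F432774) (tt N104138 (iv2 F444377)) (tt N106373 (iv3 F454198)) (tt N90182 F432772) (tt N120222 (iv5 F519677)) (tt N64817 (iv6 D204513)) (tt N110516 (iv7 F471940)))
theorem Q101361 : ∀ i, i < 101361 → P i := stepQ 101360 Q101360 (allL N101360 (tt N107658 F459116) (tt N112028 (iv0 F479147)) (tt N88855 F432775) (tt N64819 (iv3 D204514)) (tt N81867 F432776) (tt N68274 F432777) (tt N99428 F432778) (tt N88859 F432779))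
theorem Q101362 : ∀ i, i < 101362 → P i := stepQ 101361 Q101361 (allL N101361 (tt N105801 (iv1 F451784)) (tt N105800 F451780) (tt N105007 (iv2 F448337)) (tt N89629 F432780) (tt N64821 F432781) (tt N70445 F432782) (tt N64820 (iv6 D204515)) (tt N70444 F432783))
theorem Q101363 : ∀ i, i < 101363 → P i := stepQ 101362 Q101362 (allL N101362 (tt N105010 (iv1 F448353)) (tt N64821 (iv0 D204516)) (tt N105008 F448345) (tt N72367 F432786) (tt N105826 F451905) (tt N114342 (iv5 F489710)) (tt N72362 F432787) (tt N105009 (iv7 F448344)))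
theorem Q101364 : ∀ i, i < 101364 → P i := stepQ 101363 Q101363 (allL N101363 (tt N64821 (iv1 D204517)) (tt N105010 F448352) (tt N105009 (iv2 F448347)) (tt N107487 F458494) (tt N105825 (iv4 F451899)) (tt N107610 (iv5 F458942)) (tt N114403 (iv6 F489980)) (tt N105008 F448346))
theorem Q101365 : ∀ i, i < 101365 → P i := stepQ 101364 Q101364 (allL N101364 (tt N120437 D223696) (tt N107484 (iv0 F458483)) (tt N103844 (iv2 F443057)) (tt N64827 F432788) (tt N103839 (iv4 F443034)) (tt N64821 (iv5 D204518)) (tt N64824 F432789) (tt N118821 (iv7 F512257)))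
theorem Q101366 : ∀ i, i < 101366 → P i := stepQ 101365 Q101365 (allL N101365 (tt N105009 (iv1 F448342)) (tt N105008 F448348) (tt N105010 (iv2 F448349)) (tt N64828 F432790) (tt N70444 F432791) (tt N118821 (iv5 F512256)) (tt N70450 F432792) (tt N64821 (iv7 D204519)))
theorem Q101367 : ∀ i, i < 101367 → P i := stepQ 101366 Q101366 (allL N101366 (tt N64825 (iv1 D204520)) (tt N106281 (iv0 F453880)) (tt N114982 (iv2 F492898)) (tt N114599 (iv3 F490946)) (tt N114459 (iv4 F490282)) (tt N90716 F432793) (tt N96423 (iv6 F453875)) (tt N114458 (iv7 F490277)))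
theorem Q101368 : ∀ i, i < 101368 → P i := stepQ 101367 Q101367 (allL N101367 (tt N114458 F490278) (tt N114982 F492902) (tt N64825 (iv2 D204521)) (tt N96510 F432794) (tt N113623 (iv4 F486346)) (tt N105949 F452467) (tt N96508 F432795) (tt N106281 (iv7 F453879)))
theorem Q101369 : ∀ i, i < 101369 → P i := stepQ 101368 Q101368 (allL N101368 (tt N93344 F432799) (tt N117305 (iv0 F504380)) (tt N94964 (iv2 F432800)) (tt N64829 (iv3 D204522)) (tt N103824 (iv4 F442966)) (tt N101060 F432796) (tt N94673 F432797) (tt N100624 F432798))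
theorem Q101370 : ∀ i, i < 101370 → P i := stepQ 101369 Q101369 (allL N101369 (tt N72470 F432802) (tt N114627 (iv0 F491081)) (tt N117232 (iv2 F504029)) (tt N90117 F432801) (tt N105549 (iv4 F450689)) (tt N112328 (iv5 F480583)) (tt N64831 (iv6 D204523)) (tt N114721 (iv7 F491526)))
theorem Q101371 : ∀ i, i < 101371 → P i := stepQ 101370 Q101370 (allL N101370 (tt N105576 (iv1 F450815)) (tt N116138 (iv0 F498685)) (tt N64835 F432803) (tt N105417 F450166) (tt N64832 (iv4 D204524)) (tt N104159 (iv5 F444473)) (tt N116310 F499495) (tt N104769 (iv7 F447179)))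
theorem Q101372 : ∀ i, i < 101372 → P i := stepQ 101371 Q101371 (allL N101371 (tt N113842 F487397) (tt N120428 (iv0 F520733)) (tt N64836 F432804) (tt N68395 F432805) (tt N116310 (iv4 F499497)) (tt N106510 (iv5 F454714)) (tt N64832 (iv6 D204525)) (tt N105807 (iv7 F451819)))
theorem Q101373 : ∀ i, i < 101373 → P i := stepQ 101372 Q101372 (allL N101372 (tt N104769 (iv1 F447181)) (tt N64835 (iv0 D204526)) (tt N105576 (iv2 F450809)) (tt N104387 (iv3 F445540)) (tt N101766 (iv4 F434254)) (tt N104386 (iv5 F445539)) (tt N107282 (iv6 F457780)) (tt N116138 (iv7 F498684)))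
theorem Q101374 : ∀ i, i < 101374 → P i := stepQ 101373 Q101373 (allL N101373 (tt N64835 (iv1 D204527)) (tt N104769 (iv0 F447180)) (tt N116138 (iv2 F498680)) (tt N105401 (iv3 F450073)) (tt N101471 (iv4 F433065)) (tt N104759 (iv5 F447140)) (tt N114888 (iv6 F492359)) (tt N105576 (iv7 F450812)))
theorem Q101375 : ∀ i, i < 101375 → P i := stepQ 101374 Q101374 (allL N101374 (tt N105592 F450890) (tt N116331 F499599) (tt N105420 (iv2 F450178)) (tt N64835 (iv3 D204528)) (tt N64838 F432806) (tt N102555 (iv5 F437639)) (tt N113653 (iv6 F486499)) (tt N116330 (iv7 F499589)))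
theorem Q101376 : ∀ i, i < 101376 → P i := stepQ 101375 Q101375 (allL N101375 (tt N82891 F443444) (tt N116311 F499501) (tt N116310 (iv2 F499496)) (tt N113653 F486497) (tt N64836 F432807) (tt N116481 (iv5 F500364)) (tt N64835 (iv6 D204529)) (tt N116309 (iv7 F499490)))
theorem Q101377 : ∀ i, i < 101377 → P i := stepQ 101376 Q101376 (allL N101376 (tt N105807 (iv1 F451822)) (tt N64836 (iv0 D204530)) (tt N113842 (iv2 F487393)) (tt N116878 F502311) (tt N85469 (iv4 F432812)) (tt N91798 F432810) (tt N85468 (iv6 F432811)) (tt N120428 (iv7 F520732)))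
theorem Q101378 : ∀ i, i < 101378 → P i := stepQ 101377 Q101377 (allL N101377 (tt N64836 (iv1 D204531)) (tt N105807 F451820) (tt N120428 (iv2 F520729)) (tt N116424 F500032) (tt N86329 (iv4 F451821)) (tt N113888 (iv5 F487643)) (tt N119551 F516202) (tt N113842 F487399))
theorem Q101379 : ∀ i, i < 101379 → P i := stepQ 101378 Q101378 (allL N101378 (tt N117188 F503829) (tt N120438 D223697) (tt N106510 (iv2 F454713)) (tt N64842 F432808) (tt N100979 (iv4 F432813)) (tt N64836 (iv5 D204532)) (tt N64837 F432809) (tt N120439 D223698))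
theorem Q101380 : ∀ i, i < 101380 → P i := stepQ 101379 Q101379 (allL N101379 (tt N120428 (iv1 F520734)) (tt N113842 F487398) (tt N105807 (iv2 F451817)) (tt N64843 F432814) (tt N116309 F499489) (tt N120439 (iv5 F520792)) (tt N114770 F491771) (tt N64836 (iv7 D204533)))
theorem Q101381 : ∀ i, i < 101381 → P i := stepQ 101380 Q101380 (allL N101380 (tt N96510 (iv1 F432816)) (tt N64838 (iv0 D204534)) (tt N110499 (iv2 F471856)) (tt N95703 F432815) (tt N70306 (iv4 F432818)) (tt N120283 (iv5 F520016)) (tt N95702 (iv6 F432817)) (tt N110492 (iv7 F471826)))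
theorem Q101382 : ∀ i, i < 101382 → P i := stepQ 101381 Q101381 (allL N101381 (tt N110499 (iv1 F471861)) (tt N110492 F471828) (tt N64838 (iv2 D204536)) (tt N106281 (iv3 F453877)) (tt N105420 F450179) (tt N104665 F446771) (tt N120440 D223699) (tt N96510 F432819))
theorem Q101383 : ∀ i, i < 101383 → P i := stepQ 101382 Q101382 (allL N101382 (tt N120425 F520717) (tt N108915 (iv0 F489595)) (tt N120440 (iv2 F520794)) (tt N64839 F432821) (tt N113653 (iv4 F486498)) (tt N120441 D223700) (tt N64838 (iv6 D204537)) (tt N96512 F432822))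
theorem Q101384 : ∀ i, i < 101384 → P i := stepQ 101383 Q101383 (allL N101383 (tt N96950 (iv1 F432828)) (tt N64839 (iv0 D204538)) (tt N101484 F443977) (tt N117554 F505667) (tt N101078 (iv4 F443976)) (tt N119047 (iv5 F513481)) (tt N105263 (iv6 F449456)) (tt N101488 F443978))
theorem Q101385 : ∀ i, i < 101385 → P i := stepQ 101384 Q101384 (allL N101384 (tt N64839 (iv1 D204539)) (tt N96950 F432823) (tt N101488 (iv2 F443979)) (tt N120429 (iv3 F520736)) (tt N95998 F443983) (tt N118353 (iv5 F509866)) (tt N95996 (iv6 F443984)) (tt N101484 (iv7 F443980)))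
theorem Q101386 : ∀ i, i < 101386 → P i := stepQ 101385 Q101385 (allL N101385 (tt N117550 F505643) (tt N118553 F510918) (tt N120381 (iv2 F520481)) (tt N120441 (iv3 F520799)) (tt N120442 D223701) (tt N64839 (iv5 D204540)) (tt N117547 F505632) (tt N120443 D223702))
theorem Q101387 : ∀ i, i < 101387 → P i := stepQ 101386 Q101386 (allL N101386 (tt N101488 F433116) (tt N101484 F443982) (tt N96950 F432824) (tt N96512 F432825) (tt N64843 F432826) (tt N120443 (iv5 F520809)) (tt N82452 F432827) (tt N64839 (iv7 D204541)))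
theorem Q101388 : ∀ i, i < 101388 → P i := stepQ 101387 Q101387 (allL N101387 (tt N107382 (iv1 F458162)) (tt N99383 (iv0 F432831)) (tt N107379 F458153) (tt N77075 F432829) (tt N111967 (iv4 F478892)) (tt N64840 (iv5 D204543)) (tt N69875 F432830) (tt N107380 (iv7 F458155)))
theorem Q101389 : ∀ i, i < 101389 → P i := stepQ 101388 Q101388 (allL N101388 (tt N108805 F475610) (tt N119599 (iv0 F516457)) (tt N120199 (iv2 F519547)) (tt N64841 (iv3 D204544)) (tt N119544 (iv4 F516169)) (tt N119607 (iv5 F516481)) (tt N105060 (iv6 F448605)) (tt N120200 (iv7 F519555)))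
theorem Q101390 : ∀ i, i < 101390 → P i := stepQ 101389 Q101389 (allL N101389 (tt N64842 (iv1 D204545)) (tt N111950 F478832) (tt N110030 F469640) (tt N120444 D223703) (tt N111959 (iv4 F478861)) (tt N72513 (iv5 F432832)) (tt N120445 D223704) (tt N111949 (iv7 F478827)))
theorem Q101391 : ∀ i, i < 101391 → P i := stepQ 101390 Q101390 (allL N101390 (tt N120294 F520080) (tt N120446 D223705) (tt N111948 (iv2 F478822)) (tt N100982 F432833) (tt N64842 (iv4 D204546)) (tt N120298 (iv5 F520094)) (tt N64844 F432834) (tt N120447 D223706))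
theorem Q101392 : ∀ i, i < 101392 → P i := stepQ 101391 Q101391 (allL N101391 (tt N110030 (iv1 F469639)) (tt N111949 F478828) (tt N111950 (iv2 F478829)) (tt N120439 (iv3 F520790)) (tt N120447 (iv4 F520827)) (tt N64843 F432835) (tt N111955 (iv6 F478848)) (tt N64842 (iv7 D204547)))
theorem Q101393 : ∀ i, i < 101393 → P i := stepQ 101392 Q101392 (allL N101392 (tt N120448 D223707) (tt N119572 F516324) (tt N104140 (iv2 F444383)) (tt N86211 F432836) (tt N64846 F432837) (tt N120449 D223708) (tt N64845 (iv6 D204548)) (tt N120450 D223709))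
theorem Q101394 : ∀ i, i < 101394 → P i := stepQ 101393 Q101393 (allL N101393 (tt N104144 (iv1 F444404)) (tt N64846 (iv0 D204549)) (tt N104141 (iv2 F444390)) (tt N106386 F454246) (tt N119595 (iv4 F516431)) (tt N116286 (iv5 F499364)) (tt N119594 (iv6 F516428)) (tt N104142 (iv7 F444392)))
theorem Q101395 : ∀ i, i < 101395 → P i := stepQ 101394 Q101394 (allL N101394 (tt N104142 (iv1 F444391)) (tt N104141 (iv0 F444389)) (tt N104144 (iv2 F444402)) (tt N64851 F432838) (tt N120450 (iv4 F520847)) (tt N94911 F432839) (tt N107254 (iv6 F457660)) (tt N64846 (iv7 D204550)))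
theorem Q101396 : ∀ i, i < 101396 → P i := stepQ 101395 Q101395 (allL N101395 (tt N114505 (iv1 F490504)) (tt N120451 D223710) (tt N109792 (iv2 F468632)) (tt N64847 (iv3 D204551)) (tt N70531 F432840) (tt N70403 F432841) (tt N119159 (iv6 F514108)) (tt N101092 F432842))
theorem Q101397 : ∀ i, i < 101397 → P i := stepQ 101396 Q101396 (allL N101396 (tt N120452 D223711) (tt N119153 (iv0 F514073)) (tt N114998 (iv2 F492981)) (tt N64850 F432843) (tt N86211 F432844) (tt N119196 (iv5 F514308)) (tt N64849 (iv6 D204552)) (tt N96577 (iv7 F432845)))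
theorem Q101398 : ∀ i, i < 101398 → P i := stepQ 101397 Q101397 (allL N101397 (tt N110259 (iv1 F470685)) (tt N113119 (iv0 F484054)) (tt N64853 F432846) (tt N70178 (iv3 F432849)) (tt N64852 (iv4 D204553)) (tt N70176 F432847) (tt N94156 F432848) (tt N103935 (iv7 F443440)))
theorem Q101399 : ∀ i, i < 101399 → P i := stepQ 101398 Q101398 (allL N101398 (tt N103935 (iv1 F443442)) (tt N64853 (iv0 D204554)) (tt N110259 (iv2 F470680)) (tt N86730 (iv3 F432851)) (tt N101741 (iv4 F434125)) (tt N92132 F432850) (tt N119543 (iv6 F516159)) (tt N113119 (iv7 F484053)))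
theorem Q101400 : ∀ i, i < 101400 → P i := stepQ 101399 Q101399 (allL N101399 (tt N64853 (iv1 D204555)) (tt N103935 (iv0 F443441)) (tt N113119 (iv2 F484050)) (tt N70371 (iv3 F432853)) (tt N101468 (iv4 F433051)) (tt N85047 F432852) (tt N114744 (iv6 F491625)) (tt N110259 (iv7 F470682)))
theorem Q101401 : ∀ i, i < 101401 → P i := stepQ 101400 Q101400 (allL N101400 (tt N85428 F432857) (tt N115076 F493366) (tt N115075 F493358) (tt N64853 (iv3 D204556)) (tt N64855 F432854) (tt N102435 (iv5 F437221)) (tt N88907 F432855) (tt N88949 F432856))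
theorem Q101402 : ∀ i, i < 101402 → P i := stepQ 101401 Q101401 (allL N101401 (tt N114997 F492979) (tt N64855 (iv0 D204557)) (tt N105561 F450741) (tt N111132 (iv3 F474846)) (tt N70299 F450742) (tt N118165 (iv5 F508954)) (tt N119154 (iv6 F514078)) (tt N105559 F450743))
theorem Q101403 : ∀ i, i < 101403 → P i := stepQ 101402 Q101402 (allL N101402 (tt N64855 (iv1 D204558)) (tt N114997 (iv0 F492978)) (tt N105559 (iv2 F450728)) (tt N120412 (iv3 F520644)) (tt N70302 (iv4 F434128)) (tt N118162 (iv5 F508939)) (tt N114992 (iv6 F492960)) (tt N105561 (iv7 F450738)))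
theorem Q101404 : ∀ i, i < 101404 → P i := stepQ 101403 Q101403 (allL N101403 (tt N105561 F450740) (tt N105559 (iv0 F450730)) (tt N64855 (iv2 D204559)) (tt N86208 F432858) (tt N115075 (iv4 F493356)) (tt N103650 F442361) (tt N114505 (iv6 F490501)) (tt N114997 (iv7 F492977)))
theorem Q101405 : ∀ i, i < 101405 → P i := stepQ 101404 Q101404 (allL N101404 (tt N101092 (iv1 F432861)) (tt N109792 (iv0 F468636)) (tt N114505 (iv2 F490499)) (tt N64856 F432859) (tt N88907 F432860) (tt N104097 (iv5 F444166)) (tt N64855 (iv6 D204560)) (tt N120451 (iv7 F520853)))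
theorem Q101406 : ∀ i, i < 101406 → P i := stepQ 101405 Q101405 (allL N101405 (tt N96578 (iv1 F432869)) (tt N64856 (iv0 D204561)) (tt N111132 (iv2 F474845)) (tt N120413 F520650) (tt N70878 F449000) (tt N105375 (iv5 F449952)) (tt N96550 (iv6 F449001)) (tt N105374 F449949))
theorem Q101407 : ∀ i, i < 101407 → P i := stepQ 101406 Q101406 (allL N101406 (tt N112023 F479124) (tt N100834 (iv0 F432865)) (tt N95126 F432862) (tt N104097 (iv3 F444164)) (tt N72204 F432864) (tt N64856 (iv5 D204562)) (tt N94721 F432863) (tt N107219 (iv7 F457500)))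
theorem Q101408 : ∀ i, i < 101408 → P i := stepQ 101407 Q101407 (allL N101407 (tt N105374 (iv1 F449948)) (tt N111132 (iv0 F474850)) (tt N96578 F432866) (tt N120451 F520856) (tt N64860 F432867) (tt N107219 (iv5 F457498)) (tt N96334 F432868) (tt N64856 (iv7 D204563)))
theorem Q101409 : ∀ i, i < 101409 → P i := stepQ 101408 Q101408 (allL N101408 (tt N99372 F432874) (tt N90698 F432873) (tt N106169 (iv2 F453426)) (tt N90220 F432870) (tt N70749 F432872) (tt N64857 (iv5 D204564)) (tt N90347 (iv6 F432875)) (tt N90216 F432871))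
theorem Q101410 : ∀ i, i < 101410 → P i := stepQ 101409 Q101409 (allL N101409 (tt N106192 (iv1 F453550)) (tt N65460 (iv0 F432879)) (tt N85643 F432876) (tt N64858 (iv3 D204565)) (tt N85898 F432877) (tt N90319 F432880) (tt N85641 F432878) (tt N106171 (iv7 F453436)))
theorem Q101411 : ∀ i, i < 101411 → P i := stepQ 101410 Q101410 (allL N101410 (tt N90698 F432889) (tt N99372 F432890) (tt N90216 F432885) (tt N90319 F432886) (tt N70750 F432887) (tt N64858 (iv5 D204566)) (tt N89309 F432888) (tt N106169 (iv7 F453427)))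
theorem Q101412 : ∀ i, i < 101412 → P i := stepQ 101411 Q101411 (allL N101411 (tt N105148 (iv1 F448999)) (tt N64859 (iv0 D204567)) (tt N77842 (iv2 F432893)) (tt N106275 F453844) (tt N77840 F432892) (tt N72428 F432891) (tt N120213 (iv6 F519630)) (tt N77837 (iv7 F432894)))
theorem Q101413 : ∀ i, i < 101413 → P i := stepQ 101412 Q101412 (allL N101412 (tt N64859 (iv1 D204568)) (tt N105148 (iv0 F448997)) (tt N77837 (iv2 F432899)) (tt N65457 (iv3 F432898)) (tt N77835 F432897) (tt N72429 F432896) (tt N117000 F502906) (tt N77842 F432895))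
theorem Q101414 : ∀ i, i < 101414 → P i := stepQ 101413 Q101413 (allL N101413 (tt N104516 (iv1 F446113)) (tt N64862 (iv0 D204569)) (tt N106154 F453371) (tt N120453 D223712) (tt N117769 (iv4 F506874)) (tt N93718 F432900) (tt N93412 (iv6 F432901)) (tt N106155 (iv7 F453376)))
theorem Q101415 : ∀ i, i < 101415 → P i := stepQ 101414 Q101414 (allL N101414 (tt N64862 (iv1 D204570)) (tt N104516 (iv0 F446111)) (tt N106155 F453378) (tt N109777 (iv3 F468570)) (tt N120454 D223713) (tt N94774 F432902) (tt N91401 (iv6 F432903)) (tt N106154 F453374))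
theorem Q101416 : ∀ i, i < 101416 → P i := stepQ 101415 Q101415 (allL N101415 (tt N64865 (iv1 F432906)) (tt N64864 (iv0 D204571)) (tt N64868 (iv2 F432904)) (tt N114592 (iv3 F490918)) (tt N109654 (iv4 F467943)) (tt N110214 F470463) (tt N109653 F467940) (tt N64866 F432905))
theorem Q101417 : ∀ i, i < 101417 → P i := stepQ 101416 Q101416 (allL N101416 (tt N64868 (iv1 F432914)) (tt N64866 F432916) (tt N64864 (iv2 D204572)) (tt N86084 (iv3 F432926)) (tt N114510 (iv4 F490519)) (tt N120285 (iv5 F520028)) (tt N119214 (iv6 F514402)) (tt N64865 (iv7 F432907)))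
theorem Q101418 : ∀ i, i < 101418 → P i := stepQ 101417 Q101417 (allL N101417 (tt N114510 F490522) (tt N72294 (iv0 F432908)) (tt N120285 (iv2 F520030)) (tt N105604 F450948) (tt N120455 D223714) (tt N64864 (iv5 D204573)) (tt N106532 (iv6 F454789)) (tt N120284 F520025))
theorem Q101419 : ∀ i, i < 101419 → P i := stepQ 101418 Q101418 (allL N101418 (tt N64866 (iv1 F432915)) (tt N64868 (iv0 F432913)) (tt N64865 F432909) (tt N82244 F432910) (tt N72294 F432911) (tt N120284 (iv5 F520020)) (tt N72293 (iv6 F432912)) (tt N64864 (iv7 D204574)))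
theorem Q101420 : ∀ i, i < 101420 → P i := stepQ 101419 Q101419 (allL N101419 (tt N86206 F432921) (tt N85899 (iv0 F432922)) (tt N86082 F432918) (tt N64865 (iv3 D204575)) (tt N85869 (iv4 F432917)) (tt N91697 F432920) (tt N114306 (iv6 F489508)) (tt N86084 F432919))
theorem Q101421 : ∀ i, i < 101421 → P i := stepQ 101420 Q101420 (allL N101420 (tt N120285 (iv1 F520026)) (tt N120284 F520023) (tt N72294 F432927) (tt N114285 (iv3 F489394)) (tt N64865 (iv4 D204576)) (tt N110435 (iv5 F471582)) (tt N72290 (iv6 F432928)) (tt N114510 (iv7 F490520)))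
theorem Q101422 : ∀ i, i < 101422 → P i := stepQ 101421 Q101421 (allL N101421 (tt N72294 F432931) (tt N114510 (iv0 F490521)) (tt N120284 F520024) (tt N91697 F432929) (tt N120456 D223715) (tt N64865 (iv5 D204577)) (tt N91696 (iv6 F432930)) (tt N120285 (iv7 F520027)))
theorem Q101423 : ∀ i, i < 101423 → P i := stepQ 101422 Q101422 (allL N101422 (tt N95265 (iv1 F432935)) (tt N86204 (iv0 F432934)) (tt N72293 F432932) (tt N114306 (iv3 F489507)) (tt N72290 F432933) (tt N101763 (iv5 F434237)) (tt N64865 (iv6 D204578)) (tt N109628 (iv7 F467820)))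
theorem Q101424 : ∀ i, i < 101424 → P i := stepQ 101423 Q101423 (allL N101423 (tt N110216 (iv1 F470475)) (tt N77537 F432940) (tt N64867 F432936) (tt N112763 (iv3 F482537)) (tt N110215 F470470) (tt N64866 (iv5 D204579)) (tt N117528 (iv6 F505530)) (tt N110214 (iv7 F470461)))
theorem Q101425 : ∀ i, i < 101425 → P i := stepQ 101424 Q101424 (allL N101424 (tt N110214 (iv1 F470460)) (tt N64867 (iv0 D204580)) (tt N110216 (iv2 F470471)) (tt N105699 F451310) (tt N77540 F451312) (tt N112766 F482559) (tt N95222 F451313) (tt N77537 (iv7 F451311)))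
theorem Q101426 : ∀ i, i < 101426 → P i := stepQ 101425 Q101425 (allL N101425 (tt N118719 F511736) (tt N100121 (iv0 F432937)) (tt N110215 (iv2 F470466)) (tt N116325 F499566) (tt N64867 (iv4 D204582)) (tt N77537 F432938) (tt N108978 F464743) (tt N112766 (iv7 F482557)))
theorem Q101427 : ∀ i, i < 101427 → P i := stepQ 101426 Q101426 (allL N101426 (tt N91572 F432944) (tt N91569 (iv0 F432945)) (tt N117528 (iv2 F505529)) (tt N64869 F432941) (tt N108978 (iv4 F464742)) (tt N96139 F432942) (tt N64867 (iv6 D204583)) (tt N117524 (iv7 F505507)))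
theorem Q101428 : ∀ i, i < 101428 → P i := stepQ 101427 Q101427 (allL N101427 (tt N110548 (iv1 F472090)) (tt N86073 F432948) (tt N109653 (iv2 F467937)) (tt N64870 F432946) (tt N109652 (iv4 F467935)) (tt N86160 (iv5 F432947)) (tt N64868 (iv6 D204584)) (tt N117481 (iv7 F505261)))
theorem Q101429 : ∀ i, i < 101429 → P i := stepQ 101428 Q101428 (allL N101428 (tt N64869 (iv1 D204585)) (tt N105645 F451089) (tt N73028 F432953) (tt N93390 F432951) (tt N99523 (iv4 F432952)) (tt N93385 (iv5 F432950)) (tt N78071 F432954) (tt N93384 F432949))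
theorem Q101430 : ∀ i, i < 101430 → P i := stepQ 101429 Q101429 (allL N101429 (tt N73028 (iv1 F432957)) (tt N93384 F432958) (tt N105645 (iv2 F451085)) (tt N117524 (iv3 F505506)) (tt N118629 (iv4 F511220)) (tt N92898 F432955) (tt N72960 F432956) (tt N64869 (iv7 D204586)))
theorem Q101431 : ∀ i, i < 101431 → P i := stepQ 101430 Q101430 (allL N101430 (tt N117232 (iv1 F504035)) (tt N114721 F491528) (tt N114627 (iv2 F491078)) (tt N64871 (iv3 D204587)) (tt N120457 D223716) (tt N114895 (iv5 F492399)) (tt N119957 (iv6 F518251)) (tt N72470 F432960))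
theorem Q101432 : ∀ i, i < 101432 → P i := stepQ 101431 Q101431 (allL N101431 (tt N110012 (iv1 F469552)) (tt N109819 (iv0 F468778)) (tt N110011 F469545) (tt N114895 (iv3 F492401)) (tt N120458 D223717) (tt N64871 (iv5 D204588)) (tt N113200 F484445) (tt N72475 F432961))
theorem Q101433 : ∀ i, i < 101433 → P i := stepQ 101432 Q101432 (allL N101432 (tt N81949 (iv1 F432963)) (tt N64872 (iv0 D204589)) (tt N81947 (iv2 F432962)) (tt N114623 (iv3 F491056)) (tt N112571 (iv4 F481876)) (tt N114622 (iv5 F491053)) (tt N105664 F451155) (tt N81948 F432964))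
theorem Q101434 : ∀ i, i < 101434 → P i := stepQ 101433 Q101433 (allL N101433 (tt N120459 D223718) (tt N117259 F504153) (tt N81946 F432965) (tt N119813 (iv3 F517515)) (tt N64872 (iv4 D204590)) (tt N120460 D223719) (tt N64873 F432966) (tt N120433 (iv7 F520760)))
theorem Q101435 : ∀ i, i < 101435 → P i := stepQ 101434 Q101434 (allL N101434 (tt N113521 F485887) (tt N120461 D223720) (tt N110760 (iv2 F473046)) (tt N64873 (iv3 D204591)) (tt N77408 F432967) (tt N110756 (iv5 F473030)) (tt N119813 F517516) (tt N64890 F432968))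
theorem Q101436 : ∀ i, i < 101436 → P i := stepQ 101435 Q101435 (allL N101435 (tt N110983 (iv1 F474082)) (tt N64874 (iv0 D204592)) (tt N112863 (iv2 F483025)) (tt N77386 F432969) (tt N120462 D223721) (tt N100614 F432970) (tt N120463 D223722) (tt N112320 (iv7 F480535)))
theorem Q101437 : ∀ i, i < 101437 → P i := stepQ 101436 Q101436 (allL N101436 (tt N64874 (iv1 D204593)) (tt N110983 (iv0 F474081)) (tt N112320 (iv2 F480536)) (tt N112552 (iv3 F481629)) (tt N112553 (iv4 F481630)) (tt N100615 F432971) (tt N120464 D223723) (tt N112863 (iv7 F483022)))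
theorem Q101438 : ∀ i, i < 101438 → P i := stepQ 101437 Q101437 (allL N101437 (tt N110411 (iv1 F471451)) (tt N109510 (iv0 F467308)) (tt N110006 (iv2 F469535)) (tt N120465 D223724) (tt N64874 (iv4 D204594)) (tt N120466 D223725) (tt N110004 F469528) (tt N112864 (iv7 F483028)))
theorem Q101439 : ∀ i, i < 101439 → P i := stepQ 101438 Q101438 (allL N101438 (tt N119773 (iv1 F517353)) (tt N119776 (iv0 F517363)) (tt N110005 (iv2 F469529)) (tt N64879 F432972) (tt N110004 (iv4 F469527)) (tt N111334 (iv5 F475875)) (tt N64874 (iv6 D204595)) (tt N117248 (iv7 F504111)))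
theorem Q101440 : ∀ i, i < 101440 → P i := stepQ 101439 Q101439 (allL N101439 (tt N100582 F432975) (tt N104978 (iv0 F448236)) (tt N110998 (iv2 F474159)) (tt N64880 F432973) (tt N120467 D223726) (tt N64875 (iv5 D204596)) (tt N111334 F475872) (tt N79161 F432974))
theorem Q101441 : ∀ i, i < 101441 → P i := stepQ 101440 Q101440 (allL N101440 (tt N77142 (iv1 F432979)) (tt N77140 F432980) (tt N77376 F432976) (tt N64876 (iv3 D204597)) (tt N120468 D223727) (tt N81970 F432977) (tt N113195 (iv6 F484420)) (tt N83304 F432978))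
theorem Q101442 : ∀ i, i < 101442 → P i := stepQ 101441 Q101441 (allL N101441 (tt N118233 (iv1 F509281)) (tt N118234 (iv0 F509285)) (tt N110919 (iv2 F473789)) (tt N64878 (iv3 D204598)) (tt N120465 (iv4 F520921)) (tt N110917 F473783) (tt N117484 (iv6 F505276)) (tt N112580 (iv7 F481710)))
theorem Q101443 : ∀ i, i < 101443 → P i := stepQ 101442 Q101442 (allL N101442 (tt N109949 (iv1 F469348)) (tt N101088 F432982) (tt N109950 (iv2 F469355)) (tt N110917 (iv3 F473778)) (tt N64951 F432981) (tt N64878 (iv5 D204599)) (tt N71560 (iv6 F432983)) (tt N109945 (iv7 F469335)))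
theorem Q101444 : ∀ i, i < 101444 → P i := stepQ 101443 Q101443 (allL N101443 (tt N112615 F481853) (tt N112618 (iv0 F481865)) (tt N112579 (iv2 F481706)) (tt N117484 (iv3 F505275)) (tt N64879 F432984) (tt N105986 (iv5 F452635)) (tt N64878 (iv6 D204600)) (tt N117251 (iv7 F504123)))
theorem Q101445 : ∀ i, i < 101445 → P i := stepQ 101444 Q101444 (allL N101444 (tt N83357 (iv1 F432985)) (tt N64879 (iv0 D204601)) (tt N83457 (iv2 F455172)) (tt N110015 (iv3 F469571)) (tt N106650 F455173) (tt N120212 (iv5 F519625)) (tt N118643 (iv6 F511305)) (tt N110013 F469559))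
theorem Q101446 : ∀ i, i < 101446 → P i := stepQ 101445 Q101445 (allL N101445 (tt N64879 (iv1 D204602)) (tt N83357 F432986) (tt N110013 (iv2 F469556)) (tt N77383 F455170) (tt N76610 (iv4 F455169)) (tt N120213 (iv5 F519629)) (tt N110012 F469555) (tt N83457 F455171))
theorem Q101447 : ∀ i, i < 101447 → P i := stepQ 101446 Q101446 (allL N101446 (tt N116999 (iv1 F502898)) (tt N116970 (iv0 F502765)) (tt N71486 F432987) (tt N111334 (iv3 F475874)) (tt N98935 F438330) (tt N64879 (iv5 D204603)) (tt N64880 F432988) (tt N116511 (iv7 F500539)))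
theorem Q101448 : ∀ i, i < 101448 → P i := stepQ 101447 Q101447 (allL N101447 (tt N110398 (iv1 F471400)) (tt N109500 (iv0 F467284)) (tt N120390 (iv2 F520535)) (tt N120469 D223728) (tt N64882 (iv4 D204604)) (tt N120470 D223729) (tt N120471 D223730) (tt N120256 (iv7 F519848)))
theorem Q101449 : ∀ i, i < 101449 → P i := stepQ 101448 Q101448 (allL N101448 (tt N118769 F511980) (tt N118772 (iv0 F511990)) (tt N120391 (iv2 F520537)) (tt N64884 F432989) (tt N120471 (iv4 F520952)) (tt N72273 F432990) (tt N64882 (iv6 D204605)) (tt N119092 (iv7 F513751)))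
theorem Q101450 : ∀ i, i < 101450 → P i := stepQ 101449 Q101449 (allL N101449 (tt N98953 F432992) (tt N98952 F432995) (tt N98955 F432994) (tt N64883 (iv3 D204606)) (tt N120469 (iv4 F520942)) (tt N93512 (iv5 F432993)) (tt N120217 (iv6 F519652)) (tt N93511 F432991))
theorem Q101451 : ∀ i, i < 101451 → P i := stepQ 101450 Q101450 (allL N101450 (tt N81918 F432999) (tt N81923 F433000) (tt N112567 (iv2 F481677)) (tt N93512 F432996) (tt N64945 F432998) (tt N64883 (iv5 D204607)) (tt N99026 F433001) (tt N93502 F432997))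
theorem Q101452 : ∀ i, i < 101452 → P i := stepQ 101451 Q101451 (allL N101451 (tt N118758 (iv1 F511925)) (tt N110699 F472814) (tt N112568 (iv2 F481684)) (tt N120217 (iv3 F519651)) (tt N64884 F433004) (tt N119151 (iv5 F514058)) (tt N64883 (iv6 D204608)) (tt N119093 (iv7 F513755)))
theorem Q101453 : ∀ i, i < 101453 → P i := stepQ 101452 Q101452 (allL N101452 (tt N114708 F491460) (tt N114716 F491500) (tt N114715 (iv2 F491494)) (tt N64887 F433005) (tt N91144 F433006) (tt N91692 F433007) (tt N64885 (iv6 D204609)) (tt N114650 (iv7 F491199)))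
theorem Q101454 : ∀ i, i < 101454 → P i := stepQ 101453 Q101453 (allL N101453 (tt N109956 F469373) (tt N109957 (iv0 F469374)) (tt N98931 F433010) (tt N64886 (iv3 D204610)) (tt N91142 F433011) (tt N72684 (iv5 F433014)) (tt N98924 (iv6 F433015)) (tt N112566 (iv7 F481675)))
theorem Q101455 : ∀ i, i < 101455 → P i := stepQ 101454 Q101454 (allL N101454 (tt N81923 F433019) (tt N81918 F433020) (tt N93502 F433016) (tt N72684 F433017) (tt N64943 F433018) (tt N64886 (iv5 D204611)) (tt N93497 (iv6 F433021)) (tt N112567 (iv7 F481680)))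
theorem Q101456 : ∀ i, i < 101456 → P i := stepQ 101455 Q101455 (allL N101455 (tt N109972 F469430) (tt N120228 (iv0 F519708)) (tt N93505 F433022) (tt N98924 F433023) (tt N64887 F433024) (tt N93498 F433025) (tt N64886 (iv6 D204612)) (tt N120229 (iv7 F519711)))
theorem Q101457 : ∀ i, i < 101457 → P i := stepQ 101456 Q101456 (allL N101456 (tt N64887 (iv1 D204613)) (tt N83370 F433026) (tt N83372 (iv2 F433030)) (tt N113417 (iv3 F485392)) (tt N120004 (iv4 F518504)) (tt N94657 F433028) (tt N113193 (iv6 F484410)) (tt N83359 F433027))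
theorem Q101458 : ∀ i, i < 101458 → P i := stepQ 101457 Q101457 (allL N101457 (tt N83372 (iv1 F433033)) (tt N83359 F433034) (tt N83370 F433031) (tt N114650 (iv3 F491198)) (tt N120229 (iv4 F519713)) (tt N114522 (iv5 F490580)) (tt N72269 F433032) (tt N64887 (iv7 D204614)))
theorem Q101459 : ∀ i, i < 101459 → P i := stepQ 101458 Q101458 (allL N101458 (tt N112493 (iv1 F481341)) (tt N112527 (iv0 F481518)) (tt N112597 F481769) (tt N118266 F509440) (tt N64941 F433035) (tt N64888 (iv5 D204615)) (tt N118168 (iv6 F508975)) (tt N112596 F481762))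
theorem Q101460 : ∀ i, i < 101460 → P i := stepQ 101459 Q101459 (allL N101459 (tt N118757 (iv1 F511920)) (tt N110237 (iv0 F470568)) (tt N107194 (iv2 F457418)) (tt N113350 (iv3 F485145)) (tt N81899 F433036) (tt N118762 (iv5 F511946)) (tt N64888 (iv6 D204616)) (tt N107189 (iv7 F457407)))
theorem Q101461 : ∀ i, i < 101461 → P i := stepQ 101460 Q101460 (allL N101460 (tt N120472 D223731) (tt N110723 (iv0 F472904)) (tt N119734 (iv2 F517160)) (tt N64889 (iv3 D204617)) (tt N120473 D223732) (tt N119729 F517143) (tt N120474 D223733) (tt N119732 (iv7 F517151)))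
theorem Q101462 : ∀ i, i < 101462 → P i := stepQ 101461 Q101461 (allL N101461 (tt N112527 (iv1 F481519)) (tt N112493 (iv0 F481340)) (tt N112596 F481761) (tt N119729 F517140) (tt N64938 F433037) (tt N64889 (iv5 D204618)) (tt N119284 (iv6 F514825)) (tt N112597 (iv7 F481764)))
theorem Q101463 : ∀ i, i < 101463 → P i := stepQ 101462 Q101462 (allL N101462 (tt N83369 F467295) (tt N120004 (iv0 F518507)) (tt N120263 (iv2 F519886)) (tt N120474 (iv3 F520963)) (tt N81900 F433038) (tt N119285 (iv5 F514829)) (tt N64889 (iv6 D204619)) (tt N120475 D223734))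
theorem Q101464 : ∀ i, i < 101464 → P i := stepQ 101463 Q101463 (allL N101463 (tt N110760 (iv1 F473050)) (tt N64890 (iv0 D204620)) (tt N120461 (iv2 F520907)) (tt N72659 F469519) (tt N120476 D223735) (tt N72658 F469520) (tt N110235 F470559) (tt N113521 (iv7 F485886)))
theorem Q101465 : ∀ i, i < 101465 → P i := stepQ 101464 Q101464 (allL N101464 (tt N64890 (iv1 D204621)) (tt N110760 (iv0 F473048)) (tt N113521 (iv2 F485884)) (tt N98836 F457391) (tt N120477 D223736) (tt N98833 F457392) (tt N102667 (iv6 F457389)) (tt N120461 (iv7 F520904)))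
theorem Q101466 : ∀ i, i < 101466 → P i := stepQ 101465 Q101465 (allL N101465 (tt N120461 (iv1 F520903)) (tt N113521 F485889) (tt N64890 (iv2 D204622)) (tt N120342 (iv3 F520280)) (tt N77406 F433039) (tt N110757 F473038) (tt N109996 (iv6 F469501)) (tt N110760 (iv7 F473047)))
theorem Q101467 : ∀ i, i < 101467 → P i := stepQ 101466 Q101466 (allL N101466 (tt N119298 (iv1 F514905)) (tt N119297 (iv0 F514902)) (tt N120343 (iv2 F520286)) (tt N110763 (iv3 F473056)) (tt N81955 F433041) (tt N120436 (iv5 F520778)) (tt N64891 (iv6 D204624)) (tt N116578 (iv7 F500825)))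
theorem Q101468 : ∀ i, i < 101468 → P i := stepQ 101467 Q101467 (allL N101467 (tt N101269 F433046) (tt N101221 F433047) (tt N101265 F433048) (tt N64895 (iv3 D204625)) (tt N72292 F433042) (tt N83107 F433043) (tt N66896 F433044) (tt N101266 F433045))
theorem Q101469 : ∀ i, i < 101469 → P i := stepQ 101468 Q101468 (allL N101468 (tt N109794 (iv1 F468645)) (tt N83100 F433052) (tt N103905 (iv2 F443294)) (tt N64899 F433049) (tt N101399 F433051) (tt N64897 (iv5 D204626)) (tt N117403 (iv6 F504856)) (tt N77201 F433050))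
theorem Q101470 : ∀ i, i < 101470 → P i := stepQ 101469 Q101469 (allL N101469 (tt N82583 F433055) (tt N82581 F433056) (tt N89184 F433053) (tt N105581 (iv3 F450827)) (tt N64899 (iv4 D204627)) (tt N69563 F433054) (tt N84853 (iv6 F433057)) (tt N106383 (iv7 F454231)))
theorem Q101471 : ∀ i, i < 101471 → P i := stepQ 101470 Q101470 (allL N101470 (tt N107396 F458203) (tt N107407 F458242) (tt N89837 F433058) (tt N117403 (iv3 F504853)) (tt N84853 F433059) (tt N117400 (iv5 F504842)) (tt N64899 (iv6 D204628)) (tt N89839 F433060))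
theorem Q101472 : ∀ i, i < 101472 → P i := stepQ 101471 Q101471 (allL N101471 (tt N89672 F433064) (tt N65227 (iv0 F433066)) (tt N88493 F433061) (tt N64901 (iv3 D204629)) (tt N101373 F433065) (tt N69182 F433062) (tt N87050 F433063) (tt N103892 (iv7 F443245)))
theorem Q101473 : ∀ i, i < 101473 → P i := stepQ 101472 Q101472 (allL N101472 (tt N80865 F433069) (tt N80872 (iv0 F433070)) (tt N89734 (iv2 F433071)) (tt N64902 (iv3 D204630)) (tt N120478 D223737) (tt N89039 F433067) (tt N105890 (iv6 F452207)) (tt N89329 F433068))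
theorem Q101474 : ∀ i, i < 101474 → P i := stepQ 101473 Q101473 (allL N101473 (tt N100207 F433075) (tt N109666 (iv0 F468013)) (tt N76411 F433072) (tt N111003 F474190) (tt N64904 (iv4 D204631)) (tt N69647 F433073) (tt N114534 (iv6 F490649)) (tt N76416 F433074))
theorem Q101475 : ∀ i, i < 101475 → P i := stepQ 101474 Q101474 (allL N101474 (tt N72105 F433077) (tt N119029 (iv0 F513374)) (tt N64912 F433076) (tt N111279 (iv3 F475601)) (tt N103856 (iv4 F443111)) (tt N106399 (iv5 F454290)) (tt N64908 (iv6 D204632)) (tt N120479 D223738))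
theorem Q101476 : ∀ i, i < 101476 → P i := stepQ 101475 Q101475 (allL N101475 (tt N82267 F433081) (tt N82266 F433082) (tt N64914 F433078) (tt N100957 F433079) (tt N113990 (iv4 F488089)) (tt N64909 (iv5 D204633)) (tt N106399 (iv6 F454292)) (tt N82255 F433080))
theorem Q101477 : ∀ i, i < 101477 → P i := stepQ 101476 Q101476 (allL N101476 (tt N71088 F433087) (tt N71084 (iv0 F433088)) (tt N67692 F433084) (tt N64911 (iv3 D204634)) (tt N64915 F433085) (tt N67691 F433086) (tt N108880 (iv6 F464348)) (tt N103853 (iv7 F443094)))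
theorem Q101478 : ∀ i, i < 101478 → P i := stepQ 101477 Q101477 (allL N101477 (tt N120480 D223739) (tt N120481 D223740) (tt N103856 (iv2 F443109)) (tt N108880 (iv3 F464346)) (tt N64912 F433091) (tt N104532 (iv5 F446171)) (tt N64911 (iv6 D204635)) (tt N103863 (iv7 F443136)))
theorem Q101479 : ∀ i, i < 101479 → P i := stepQ 101478 Q101478 (allL N101478 (tt N120479 (iv1 F520994)) (tt N64912 (iv0 D204636)) (tt N72105 (iv2 F433093)) (tt N105678 F451220) (tt N120482 D223741) (tt N120483 D223742) (tt N71017 F433092) (tt N119029 (iv7 F513373)))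
theorem Q101480 : ∀ i, i < 101480 → P i := stepQ 101479 Q101479 (allL N101479 (tt N64912 (iv1 D204637)) (tt N120479 F520993) (tt N119029 (iv2 F513371)) (tt N107832 (iv3 F459910)) (tt N120484 D223743) (tt N110172 (iv5 F470273)) (tt N106168 F453425) (tt N72105 F433094))
theorem Q101481 : ∀ i, i < 101481 → P i := stepQ 101480 Q101480 (allL N101480 (tt N106402 F454308) (tt N105990 (iv0 F452650)) (tt N106399 F454293) (tt N64919 F433095) (tt N113989 (iv4 F488082)) (tt N64912 (iv5 D204638)) (tt N64914 F433096) (tt N106400 (iv7 F454299)))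
theorem Q101482 : ∀ i, i < 101482 → P i := stepQ 101481 Q101481 (allL N101481 (tt N119029 F513375) (tt N72105 (iv0 F433099)) (tt N120479 (iv2 F520989)) (tt N64920 F433097) (tt N103863 (iv4 F443135)) (tt N106400 F454300) (tt N71239 F433098) (tt N64912 (iv7 D204639)))
theorem Q101483 : ∀ i, i < 101483 → P i := stepQ 101482 Q101482 (allL N101482 (tt N100065 F433101) (tt N100074 F433102) (tt N113990 (iv2 F488087)) (tt N111969 F478905) (tt N64914 (iv4 D204640)) (tt N117023 (iv5 F503008)) (tt N113989 F488086) (tt N82268 F433100))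
theorem Q101484 : ∀ i, i < 101484 → P i := stepQ 101483 Q101483 (allL N101483 (tt N120485 D223744) (tt N89673 (iv0 F448709)) (tt N114677 (iv2 F491328)) (tt N64917 (iv3 D204641)) (tt N119997 (iv4 F518466)) (tt N120486 D223745) (tt N85835 F433111) (tt N119032 (iv7 F513388)))
theorem Q101485 : ∀ i, i < 101485 → P i := stepQ 101484 Q101484 (allL N101484 (tt N101386 (iv1 F443982)) (tt N101062 F443981) (tt N101383 (iv2 F443977)) (tt N120487 D223746) (tt N64917 (iv4 D204642)) (tt N118796 (iv5 F512122)) (tt N119182 F514237) (tt N101384 F443980))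
theorem Q101486 : ∀ i, i < 101486 → P i := stepQ 101485 Q101485 (allL N101485 (tt N108004 (iv1 F460685)) (tt N72562 (iv0 F433109)) (tt N108001 F460670) (tt N120486 (iv3 F521022)) (tt N120488 D223747) (tt N64917 (iv5 D204643)) (tt N69933 F433106) (tt N108002 (iv7 F460674)))
theorem Q101487 : ∀ i, i < 101487 → P i := stepQ 101486 Q101486 (allL N101486 (tt N69951 (iv1 F433108)) (tt N69408 (iv0 F433107)) (tt N69953 F433103) (tt N85835 (iv3 F433110)) (tt N119182 (iv4 F514235)) (tt N69753 F433105) (tt N64917 (iv6 D204644)) (tt N69752 F433104))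
theorem Q101488 : ∀ i, i < 101488 → P i := stepQ 101487 Q101487 (allL N101487 (tt N89048 (iv1 F451816)) (tt N89758 (iv0 F451815)) (tt N89756 F499917) (tt N64918 (iv3 D204645)) (tt N95248 (iv4 F436653)) (tt N119961 (iv5 F518275)) (tt N117339 (iv6 F504541)) (tt N89755 F433112))
theorem Q101489 : ∀ i, i < 101489 → P i := stepQ 101488 Q101488 (allL N101488 (tt N101062 (iv1 F433117)) (tt N101386 (iv0 F433116)) (tt N101384 F443979) (tt N96052 (iv3 F433114)) (tt N64918 (iv4 D204646)) (tt N96047 F433115) (tt N101322 F433113) (tt N101383 (iv7 F443978)))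
theorem Q101490 : ∀ i, i < 101490 → P i := stepQ 101489 Q101489 (allL N101489 (tt N64919 (iv1 D204647)) (tt N116180 F498886) (tt N107444 (iv2 F458360)) (tt N113617 (iv3 F486322)) (tt N120319 (iv4 F520174)) (tt N73274 F433119) (tt N114043 (iv6 F488330)) (tt N100857 F433118))
theorem Q101491 : ∀ i, i < 101491 → P i := stepQ 101490 Q101490 (allL N101490 (tt N100888 F433121) (tt N111959 F478862) (tt N111957 (iv2 F478854)) (tt N105246 (iv3 F449377)) (tt N64919 (iv4 D204648)) (tt N120489 D223748) (tt N64922 F433120) (tt N111958 (iv7 F478858)))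
theorem Q101492 : ∀ i, i < 101492 → P i := stepQ 101491 Q101491 (allL N101491 (tt N107444 F458363) (tt N100857 (iv0 F433124)) (tt N116180 F498885) (tt N106400 (iv3 F454301)) (tt N111958 (iv4 F478859)) (tt N64920 F433122) (tt N82289 F433123) (tt N64919 (iv7 D204649)))
theorem Q101493 : ∀ i, i < 101493 → P i := stepQ 101492 Q101492 (allL N101492 (tt N81871 (iv1 F433131)) (tt N65251 F433130) (tt N64921 (iv2 D204650)) (tt N81416 F433125) (tt N77258 F433126) (tt N77048 F433127) (tt N65014 F433128) (tt N77258 F433129))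
theorem Q101494 : ∀ i, i < 101494 → P i := stepQ 101493 Q101493 (allL N101493 (tt N120371 F520429) (tt N100875 (iv0 F478852)) (tt N120490 D223749) (tt N64922 (iv3 D204651)) (tt N111969 (iv4 F478901)) (tt N111956 (iv5 F478850)) (tt N105246 F449378) (tt N82295 F433132))
theorem Q101495 : ∀ i, i < 101495 → P i := stepQ 101494 Q101494 (allL N101494 (tt N64948 (iv1 F433136)) (tt N64923 (iv0 D204652)) (tt N64947 F433138) (tt N73563 F433135) (tt N80742 F433134) (tt N99298 F433133) (tt N81999 (iv6 F433137)) (tt N64946 F433139))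
theorem Q101496 : ∀ i, i < 101496 → P i := stepQ 101495 Q101495 (allL N101495 (tt N64923 (iv1 D204653)) (tt N64948 (iv0 F433144)) (tt N64946 (iv2 F433145)) (tt N110904 (iv3 F473709)) (tt N78545 F433142) (tt N107784 (iv5 F459715)) (tt N90459 (iv6 F433143)) (tt N64947 F433141))
theorem Q101497 : ∀ i, i < 101497 → P i := stepQ 101496 Q101496 (allL N101496 (tt N64947 (iv1 F433152)) (tt N64946 F433151) (tt N64923 (iv2 D204654)) (tt N81952 F433146) (tt N65399 F433147) (tt N96517 F433148) (tt N80947 F433149) (tt N64948 F433150))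
theorem Q101498 : ∀ i, i < 101498 → P i := stepQ 101497 Q101497 (allL N101497 (tt N116585 F500862) (tt N116584 F500851) (tt N81955 F433153) (tt N116604 (iv3 F500934)) (tt N120343 (iv4 F520288)) (tt N101662 (iv5 F433749)) (tt N64924 (iv6 D204655)) (tt N116586 (iv7 F500863)))
theorem Q101499 : ∀ i, i < 101499 → P i := stepQ 101498 Q101498 (allL N101498 (tt N111257 F475482) (tt N104259 (iv0 F444992)) (tt N109383 (iv2 F466681)) (tt N64926 F433154) (tt N109366 (iv4 F466600)) (tt N64925 (iv5 D204656)) (tt N87749 F433155) (tt N65087 F433156))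
theorem Q101500 : ∀ i, i < 101500 → P i := stepQ 101499 Q101499 (allL N101499 (tt N102894 F439158) (tt N117056 (iv0 F503156)) (tt N118711 F511686) (tt N64927 (iv3 D204657)) (tt N64933 F433157) (tt N120491 D223750) (tt N65899 F433158) (tt N65094 F433159))
theorem Q101501 : ∀ i, i < 101501 → P i := stepQ 101500 Q101500 (allL N101500 (tt N65133 F433163) (tt N65132 F433164) (tt N65136 F433160) (tt N120491 (iv3 F521051)) (tt N65114 F433161) (tt N64927 (iv5 D204658)) (tt N120492 D223751) (tt N65095 F433162))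
theorem Q101502 : ∀ i, i < 101502 → P i := stepQ 101501 Q101501 (allL N101501 (tt N75846 (iv1 F433166)) (tt N64928 (iv0 D204659)) (tt N81838 (iv2 F433167)) (tt N77424 F433179) (tt N110365 (iv4 F471250)) (tt N76491 F433165) (tt N113206 (iv6 F484478)) (tt N81837 (iv7 F433168)))
theorem Q101503 : ∀ i, i < 101503 → P i := stepQ 101502 Q101502 (allL N101502 (tt N64928 (iv1 D204660)) (tt N75846 F433169) (tt N81837 F433173) (tt N88610 (iv3 F433180)) (tt N83035 F433171) (tt N68295 (iv5 F433172)) (tt N83034 F433178) (tt N81838 F433170))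
theorem Q101504 : ∀ i, i < 101504 → P i := stepQ 101503 Q101503 (allL N101503 (tt N119102 (iv1 F513803)) (tt N83411 (iv0 F433185)) (tt N101318 (iv2 F433184)) (tt N64930 (iv3 D204661)) (tt N101050 F433181) (tt N81989 F433182) (tt N120181 (iv6 F519470)) (tt N81851 F433183))
theorem Q101505 : ∀ i, i < 101505 → P i := stepQ 101504 Q101504 (allL N101504 (tt N106650 (iv1 F455147)) (tt N76610 (iv0 F433189)) (tt N81940 F433186) (tt N120181 (iv3 F519468)) (tt N64931 F433187) (tt N77844 F433188) (tt N64930 (iv6 D204662)) (tt N117277 (iv7 F504243)))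
theorem Q101506 : ∀ i, i < 101506 → P i := stepQ 101505 Q101505 (allL N101505 (tt N71534 (iv1 F433192)) (tt N64931 (iv0 D204663)) (tt N81941 (iv2 F452632)) (tt N89359 (iv3 F492395)) (tt N120493 D223752) (tt N105987 (iv5 F452637)) (tt N105654 (iv6 F453922)) (tt N81942 F452631))
theorem Q101507 : ∀ i, i < 101507 → P i := stepQ 101506 Q101506 (allL N101506 (tt N64931 (iv1 D204664)) (tt N71534 F433193) (tt N81942 F452629) (tt N116838 F502106) (tt N120494 D223753) (tt N105985 (iv5 F452626)) (tt N107422 F458284) (tt N81941 (iv7 F452630)))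
theorem Q101508 : ∀ i, i < 101508 → P i := stepQ 101507 Q101507 (allL N101507 (tt N81860 (iv1 F433194)) (tt N64933 (iv0 D204665)) (tt N81859 (iv2 F433200)) (tt N117410 (iv3 F504894)) (tt N92058 (iv4 F433878)) (tt N120495 D223754) (tt N112289 (iv6 F480379)) (tt N81858 (iv7 F433202)))
theorem Q101509 : ∀ i, i < 101509 → P i := stepQ 101508 Q101508 (allL N101508 (tt N64933 (iv1 D204666)) (tt N81860 (iv0 F433198)) (tt N81858 F433201) (tt N87060 (iv3 F433195)) (tt N92059 (iv4 F433196)) (tt N118134 (iv5 F508784)) (tt N94786 F433197) (tt N81859 F433199))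
theorem Q101510 : ∀ i, i < 101510 → P i := stepQ 101509 Q101509 (allL N101509 (tt N81859 (iv1 F433207)) (tt N81858 F433206) (tt N64933 (iv2 D204667)) (tt N81976 F433203) (tt N118711 (iv4 F511683)) (tt N115350 (iv5 F494727)) (tt N97495 F433204) (tt N81860 F433205))
theorem Q101511 : ∀ i, i < 101511 → P i := stepQ 101510 Q101510 (allL N101510 (tt N117601 (iv1 F505943)) (tt N90300 (iv0 F433212)) (tt N115350 (iv2 F494724)) (tt N64934 F433208) (tt N90294 (iv4 F433211)) (tt N64933 (iv5 D204668)) (tt N86155 F433209) (tt N81861 F433210))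
theorem Q101512 : ∀ i, i < 101512 → P i := stepQ 101511 Q101511 (allL N101511 (tt N112474 F481231) (tt N111865 (iv0 F478387)) (tt N67442 F433213) (tt N64935 (iv3 D204669)) (tt N64937 F433214) (tt N90426 F433215) (tt N67435 F433216) (tt N79744 F433217))
theorem Q101513 : ∀ i, i < 101513 → P i := stepQ 101512 Q101512 (allL N101512 (tt N112811 F482729) (tt N64937 (iv0 D204670)) (tt N120240 (iv2 F519757)) (tt N117650 (iv3 F506217)) (tt N103922 F443389) (tt N117601 (iv5 F505940)) (tt N101611 F457622) (tt N111390 (iv7 F476135)))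
theorem Q101514 : ∀ i, i < 101514 → P i := stepQ 101513 Q101513 (allL N101513 (tt N120240 (iv1 F519763)) (tt N111390 (iv0 F476136)) (tt N64937 (iv2 D204672)) (tt N111839 (iv3 F478236)) (tt N67442 F433218) (tt N115348 (iv5 F494715)) (tt N67441 F433219) (tt N112811 (iv7 F482727)))
theorem Q101515 : ∀ i, i < 101515 → P i := stepQ 101514 Q101514 (allL N101514 (tt N112533 (iv1 F481542)) (tt N112535 (iv0 F481553)) (tt N115348 (iv2 F494714)) (tt N64938 F433220) (tt N110994 (iv4 F474138)) (tt N64937 (iv5 D204673)) (tt N110993 F474135) (tt N110995 (iv7 F474147)))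
theorem Q101516 : ∀ i, i < 101516 → P i := stepQ 101515 Q101515 (allL N101515 (tt N78060 F433222) (tt N92888 (iv0 F433223)) (tt N107853 F459994) (tt N110993 (iv3 F474132)) (tt N119284 (iv4 F514821)) (tt N118024 (iv5 F508150)) (tt N64938 (iv6 D204674)) (tt N74008 F433221))
theorem Q101517 : ∀ i, i < 101517 → P i := stepQ 101516 Q101516 (allL N101516 (tt N111839 (iv1 F478240)) (tt N64940 (iv0 D204675)) (tt N111350 (iv2 F475953)) (tt N108162 (iv3 F461351)) (tt N115057 (iv4 F493270)) (tt N81981 F433224) (tt N64967 (iv6 F433225)) (tt N101666 (iv7 F433763)))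
theorem Q101518 : ∀ i, i < 101518 → P i := stepQ 101517 Q101517 (allL N101517 (tt N64940 (iv1 D204676)) (tt N111839 (iv0 F478239)) (tt N101666 (iv2 F433762)) (tt N116146 (iv3 F498735)) (tt N100705 F433226) (tt N81982 F433228) (tt N95214 (iv6 F433227)) (tt N111350 (iv7 F475955)))
theorem Q101519 : ∀ i, i < 101519 → P i := stepQ 101518 Q101518 (allL N101518 (tt N111350 (iv1 F475957)) (tt N101666 (iv0 F466428)) (tt N64940 (iv2 D204677)) (tt N112811 (iv3 F482724)) (tt N81994 F433229) (tt N107813 (iv5 F459809)) (tt N82359 F433230) (tt N111839 (iv7 F478238)))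
theorem Q101520 : ∀ i, i < 101520 → P i := stepQ 101519 Q101519 (allL N101519 (tt N107815 F459823) (tt N107812 (iv0 F459807)) (tt N107813 F459812) (tt N64941 F433231) (tt N108898 F464411) (tt N64940 (iv5 D204678)) (tt N110433 F471569) (tt N107814 (iv7 F459816)))
theorem Q101521 : ∀ i, i < 101521 → P i := stepQ 101520 Q101520 (allL N101520 (tt N107915 (iv1 F460268)) (tt N64942 (iv0 D204679)) (tt N108454 (iv2 F462651)) (tt N118786 (iv3 F512061)) (tt N97663 F433233) (tt N78158 F433232) (tt N97662 F433234) (tt N108238 (iv7 F461636)))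
theorem Q101522 : ∀ i, i < 101522 → P i := stepQ 101521 Q101521 (allL N101521 (tt N64942 (iv1 D204680)) (tt N107915 (iv0 F460267)) (tt N108238 (iv2 F461634)) (tt N118200 F509114) (tt N80155 (iv4 F433236)) (tt N78157 F433235) (tt N64973 F433237) (tt N108454 (iv7 F462655)))
theorem Q101523 : ∀ i, i < 101523 → P i := stepQ 101522 Q101522 (allL N101522 (tt N108454 F462656) (tt N108238 (iv0 F461637)) (tt N64942 (iv2 D204681)) (tt N107779 (iv3 F459690)) (tt N111841 (iv4 F478250)) (tt N99353 F433238) (tt N96022 F433239) (tt N107915 (iv7 F460266)))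
theorem Q101524 : ∀ i, i < 101524 → P i := stepQ 101523 Q101523 (allL N101523 (tt N99021 (iv1 F433245)) (tt N99020 F433247) (tt N93501 F433240) (tt N96084 F433241) (tt N93497 F433242) (tt N92463 F433243) (tt N64943 (iv6 D204682)) (tt N99012 F433244))
theorem Q101525 : ∀ i, i < 101525 → P i := stepQ 101524 Q101524 (allL N101524 (tt N107779 (iv1 F459693)) (tt N64944 (iv0 D204683)) (tt N96582 (iv2 F433249)) (tt N111838 (iv3 F478234)) (tt N115425 (iv4 F495128)) (tt N94632 F433248) (tt N64978 F433250) (tt N118793 (iv7 F512107)))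
theorem Q101526 : ∀ i, i < 101526 → P i := stepQ 101525 Q101525 (allL N101525 (tt N96582 F433253) (tt N118793 (iv0 F512108)) (tt N64944 (iv2 D204684)) (tt N107915 (iv3 F460265)) (tt N91504 F433251) (tt N102260 F436426) (tt N91503 F433252) (tt N107779 (iv7 F459692)))
theorem Q101527 : ∀ i, i < 101527 → P i := stepQ 101526 Q101526 (allL N101526 (tt N88506 F433259) (tt N78417 (iv0 F433260)) (tt N78545 F433254) (tt N95753 F433255) (tt N64946 (iv4 D204685)) (tt N78479 F433258) (tt N80859 F433256) (tt N80742 F433257))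
theorem Q101528 : ∀ i, i < 101528 → P i := stepQ 101527 Q101527 (allL N101527 (tt N115352 (iv1 F494741)) (tt N118786 (iv0 F512065)) (tt N107782 (iv2 F459704)) (tt N64947 (iv3 D204686)) (tt N105869 (iv4 F452098)) (tt N107781 F459703) (tt N107906 F460210) (tt N110904 (iv7 F473711)))
theorem Q101529 : ∀ i, i < 101529 → P i := stepQ 101528 Q101528 (allL N101528 (tt N107783 F459714) (tt N94801 F433262) (tt N99298 F433261) (tt N107781 (iv3 F459700)) (tt N118286 (iv4 F509523)) (tt N64947 (iv5 D204687)) (tt N116955 (iv6 F502689)) (tt N107784 (iv7 F459716)))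
theorem Q101530 : ∀ i, i < 101530 → P i := stepQ 101529 Q101529 (allL N101529 (tt N118586 F511022) (tt N107249 (iv0 F457644)) (tt N118584 F511013) (tt N106680 (iv3 F455255)) (tt N64949 (iv4 D204688)) (tt N116561 (iv5 F500749)) (tt N120496 D223755) (tt N118564 (iv7 F510944)))
theorem Q101531 : ∀ i, i < 101531 → P i := stepQ 101530 Q101530 (allL N101530 (tt N70128 F433265) (tt N88017 F433267) (tt N91758 F433458) (tt N64953 F433263) (tt N120496 (iv4 F521085)) (tt N64992 F433264) (tt N64949 (iv6 D204689)) (tt N91757 (iv7 F433460)))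
theorem Q101532 : ∀ i, i < 101532 → P i := stepQ 101531 Q101531 (allL N101531 (tt N77990 (iv1 F472495)) (tt N77832 (iv0 F433269)) (tt N77987 F472453) (tt N64952 (iv3 D204690)) (tt N106680 (iv4 F455256)) (tt N81945 F433268) (tt N119907 (iv6 F517976)) (tt N77988 (iv7 F472452)))
theorem Q101533 : ∀ i, i < 101533 → P i := stepQ 101532 Q101532 (allL N101532 (tt N90314 F433271) (tt N108181 (iv0 F461417)) (tt N119701 (iv2 F516996)) (tt N119907 F517974) (tt N64953 F433270) (tt N120497 D223756) (tt N64952 (iv6 D204691)) (tt N119909 (iv7 F517984)))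
theorem Q101534 : ∀ i, i < 101534 → P i := stepQ 101533 Q101533 (allL N101533 (tt N108233 (iv1 F461609)) (tt N107671 F461610) (tt N116588 (iv2 F500870)) (tt N91757 F433461) (tt N119909 (iv4 F517983)) (tt N65001 F433272) (tt N116586 (iv6 F500866)) (tt N64953 (iv7 D204694)))
theorem Q101535 : ∀ i, i < 101535 → P i := stepQ 101534 Q101534 (allL N101534 (tt N64954 (iv1 D204695)) (tt N65495 F433273) (tt N79825 F433277) (tt N112854 (iv3 F482976)) (tt N78235 F433275) (tt N119198 (iv5 F514316)) (tt N94668 (iv6 F433276)) (tt N93400 F433274))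
theorem Q101536 : ∀ i, i < 101536 → P i := stepQ 101535 Q101535 (allL N101535 (tt N96383 F433281) (tt N120498 D223757) (tt N94907 F433278) (tt N64955 F433279) (tt N120499 D223758) (tt N64954 (iv5 D204696)) (tt N120500 D223759) (tt N93401 F433280))
theorem Q101537 : ∀ i, i < 101537 → P i := stepQ 101536 Q101536 (allL N101536 (tt N73521 F433285) (tt N73444 (iv0 F433286)) (tt N73518 F433282) (tt N120500 (iv3 F521107)) (tt N93399 F433283) (tt N82412 F433284) (tt N64955 (iv6 D204697)) (tt N73519 (iv7 F433287)))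
theorem Q101538 : ∀ i, i < 101538 → P i := stepQ 101537 Q101537 (allL N101537 (tt N112854 (iv1 F482980)) (tt N79821 (iv0 F433290)) (tt N111449 (iv2 F476413)) (tt N64956 (iv3 D204699)) (tt N79301 F433289) (tt N111878 (iv5 F478461)) (tt N65491 (iv6 F433313)) (tt N111383 (iv7 F476102)))
theorem Q101539 : ∀ i, i < 101539 → P i := stepQ 101538 Q101538 (allL N101538 (tt N79715 F433291) (tt N88305 F433292) (tt N94793 F433304) (tt N120501 D223760) (tt N64956 (iv4 D204700)) (tt N102354 (iv5 F436868)) (tt N67980 F433293) (tt N94792 (iv7 F433302)))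
theorem Q101540 : ∀ i, i < 101540 → P i := stepQ 101539 Q101539 (allL N101539 (tt N100546 F433294) (tt N79194 F433306) (tt N100548 (iv2 F433297)) (tt N111878 (iv3 F478459)) (tt N80257 F433295) (tt N64956 (iv5 D204701)) (tt N87431 F433296) (tt N100547 (iv7 F433303)))
theorem Q101541 : ∀ i, i < 101541 → P i := stepQ 101540 Q101540 (allL N101540 (tt N72335 F433309) (tt N72337 (iv0 F433310)) (tt N101860 (iv2 F434706)) (tt N65491 F433311) (tt N67980 F433307) (tt N94430 F433308) (tt N64956 (iv6 D204702)) (tt N103433 (iv7 F441614)))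
theorem Q101542 : ∀ i, i < 101542 → P i := stepQ 101541 Q101541 (allL N101541 (tt N111061 F474472) (tt N93254 (iv0 F433319)) (tt N112407 (iv2 F480974)) (tt N64957 (iv3 D204703)) (tt N112406 F480972) (tt N115562 (iv5 F495795)) (tt N111022 (iv6 F474299)) (tt N111384 (iv7 F476105)))
theorem Q101543 : ∀ i, i < 101543 → P i := stepQ 101542 Q101542 (allL N101542 (tt N88305 F433318) (tt N79715 (iv0 F433321)) (tt N94792 F433314) (tt N79676 F433320) (tt N64957 (iv4 D204704)) (tt N86859 F433317) (tt N93076 F433315) (tt N94793 F433316))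
theorem Q101544 : ∀ i, i < 101544 → P i := stepQ 101543 Q101543 (allL N101543 (tt N79194 F433324) (tt N100546 (iv0 F433325)) (tt N100547 F433322) (tt N115562 (iv3 F495794)) (tt N111054 (iv4 F474439)) (tt N64957 (iv5 D204705)) (tt N114804 F491960) (tt N100548 F433323))
theorem Q101545 : ∀ i, i < 101545 → P i := stepQ 101544 Q101544 (allL N101544 (tt N111387 (iv1 F476119)) (tt N87305 F433329) (tt N64959 F433326) (tt N100552 F433327) (tt N88027 F433328) (tt N64958 (iv5 D204706)) (tt N108157 (iv6 F461331)) (tt N111385 (iv7 F476110)))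
theorem Q101546 : ∀ i, i < 101546 → P i := stepQ 101545 Q101545 (allL N101545 (tt N94905 F433335) (tt N97760 (iv0 F433334)) (tt N97761 F433330) (tt N64961 (iv3 D204707)) (tt N86943 F433333) (tt N96662 F433336) (tt N82414 F433331) (tt N97762 F433332))
theorem Q101547 : ∀ i, i < 101547 → P i := stepQ 101546 Q101546 (allL N101546 (tt N80076 (iv1 F433343)) (tt N79832 F433341) (tt N79777 F433337) (tt N80082 F433338) (tt N64961 (iv4 D204708)) (tt N104077 (iv5 F444062)) (tt N79776 F433339) (tt N80077 F433340))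
theorem Q101548 : ∀ i, i < 101548 → P i := stepQ 101547 Q101547 (allL N101547 (tt N101556 (iv1 F433389)) (tt N79136 (iv0 F433347)) (tt N100551 F433344) (tt N96662 F433345) (tt N120502 D223761) (tt N64961 (iv5 D204709)) (tt N120503 D223762) (tt N100550 F433346))
theorem Q101549 : ∀ i, i < 101549 → P i := stepQ 101548 Q101548 (allL N101548 (tt N79136 F433350) (tt N101556 (iv0 F433390)) (tt N100550 F433348) (tt N101899 F434868) (tt N120504 D223763) (tt N64962 (iv5 D204710)) (tt N115992 (iv6 F497940)) (tt N100551 F433349))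
theorem Q101550 : ∀ i, i < 101550 → P i := stepQ 101549 Q101549 (allL N101549 (tt N100554 (iv1 F433354)) (tt N100553 F433353) (tt N64964 F433351) (tt N111385 (iv3 F476108)) (tt N81187 (iv4 F433369)) (tt N64963 (iv5 D204711)) (tt N113900 (iv6 F487694)) (tt N100552 F433352))
theorem Q101551 : ∀ i, i < 101551 → P i := stepQ 101550 Q101550 (allL N101550 (tt N100552 (iv1 F433355)) (tt N64964 (iv0 D204712)) (tt N100554 (iv2 F433357)) (tt N108161 (iv3 F461346)) (tt N112464 (iv4 F481195)) (tt N64967 F433356) (tt N108159 (iv6 F461340)) (tt N100553 (iv7 F433358)))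
theorem Q101552 : ∀ i, i < 101552 → P i := stepQ 101551 Q101551 (allL N101551 (tt N64964 (iv1 D204713)) (tt N100552 F433359) (tt N100553 (iv2 F433362)) (tt N111426 (iv3 F476307)) (tt N83774 (iv4 F433364)) (tt N64968 F433361) (tt N83773 (iv6 F433363)) (tt N100554 F433360))
theorem Q101553 : ∀ i, i < 101553 → P i := stepQ 101552 Q101552 (allL N101552 (tt N81189 F433367) (tt N80818 (iv0 F433371)) (tt N81187 F433368) (tt N87303 F433365) (tt N64964 (iv4 D204714)) (tt N113594 (iv5 F486206)) (tt N87235 (iv6 F433370)) (tt N81188 F433366))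
theorem Q101554 : ∀ i, i < 101554 → P i := stepQ 101553 Q101553 (allL N101553 (tt N114638 F491137) (tt N114314 (iv0 F489547)) (tt N113900 (iv2 F487693)) (tt N64966 F433372) (tt N87235 F433373) (tt N95237 F433374) (tt N64964 (iv6 D204715)) (tt N91435 F433375))
theorem Q101555 : ∀ i, i < 101555 → P i := stepQ 101554 Q101554 (allL N101554 (tt N64965 (iv1 D204716)) (tt N95835 F433376) (tt N81977 F433380) (tt N94925 (iv3 F433378)) (tt N80182 (iv4 F433379)) (tt N112842 (iv5 F482907)) (tt N80180 F433381) (tt N80990 F433377))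
theorem Q101556 : ∀ i, i < 101556 → P i := stepQ 101555 Q101555 (allL N101555 (tt N78633 F433387) (tt N100677 F433386) (tt N82454 F433382) (tt N100681 F433383) (tt N64967 (iv4 D204717)) (tt N83636 F433385) (tt N115057 (iv6 F493271)) (tt N100678 F433384))
theorem Q101557 : ∀ i, i < 101557 → P i := stepQ 101556 Q101556 (allL N101556 (tt N101548 F433390) (tt N101547 F433389) (tt N64970 F433388) (tt N111391 (iv3 F476139)) (tt N111083 (iv4 F474583)) (tt N64969 (iv5 D204718)) (tt N120505 D223764) (tt N111351 (iv7 F475960)))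
theorem Q101558 : ∀ i, i < 101558 → P i := stepQ 101557 Q101557 (allL N101557 (tt N120506 D223765) (tt N120507 D223766) (tt N111083 (iv2 F474582)) (tt N101566 (iv3 F433406)) (tt N64970 (iv4 D204719)) (tt N81581 F433391) (tt N120508 D223767) (tt N111086 (iv7 F474591)))
theorem Q101559 : ∀ i, i < 101559 → P i := stepQ 101558 Q101558 (allL N101558 (tt N86169 F476935) (tt N115677 (iv0 F496266)) (tt N120505 (iv2 F521140)) (tt N64971 F433392) (tt N120508 (iv4 F521158)) (tt N118975 (iv5 F513069)) (tt N64970 (iv6 D204720)) (tt N119119 (iv7 F513885)))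
theorem Q101560 : ∀ i, i < 101560 → P i := stepQ 101559 Q101559 (allL N101559 (tt N111414 (iv1 F476239)) (tt N64993 (iv0 F433395)) (tt N111393 (iv2 F476147)) (tt N114125 (iv3 F488656)) (tt N88129 F433393) (tt N64972 (iv5 D204721)) (tt N88128 (iv6 F433394)) (tt N108237 (iv7 F461630)))
theorem Q101561 : ∀ i, i < 101561 → P i := stepQ 101560 Q101560 (allL N101560 (tt N112839 (iv1 F482889)) (tt N111354 (iv0 F475983)) (tt N118363 (iv2 F509929)) (tt N64973 (iv3 D204722)) (tt N112008 F479050) (tt N120509 D223768) (tt N118200 (iv6 F509116)) (tt N93834 F433397))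
theorem Q101562 : ∀ i, i < 101562 → P i := stepQ 101561 Q101561 (allL N101561 (tt N64993 F433398) (tt N111414 F476241) (tt N108237 (iv2 F461627)) (tt N120509 (iv3 F521163)) (tt N114121 F488639) (tt N64973 (iv5 D204723)) (tt N108230 (iv6 F461589)) (tt N111393 (iv7 F476150)))
theorem Q101563 : ∀ i, i < 101563 → P i := stepQ 101562 Q101562 (allL N101562 (tt N111396 (iv1 F476164)) (tt N111395 F476161) (tt N64975 F433399) (tt N111399 (iv3 F476179)) (tt N118108 (iv4 F508641)) (tt N64974 (iv5 D204724)) (tt N111402 (iv6 F476196)) (tt N111394 (iv7 F476156)))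
theorem Q101564 : ∀ i, i < 101564 → P i := stepQ 101563 Q101563 (allL N101563 (tt N96544 (iv1 F433404)) (tt N94844 F433405) (tt N64976 F433400) (tt N96557 F433401) (tt N112488 (iv4 F481310)) (tt N96534 (iv5 F433403)) (tt N64974 (iv6 D204725)) (tt N96533 F433402))
theorem Q101565 : ∀ i, i < 101565 → P i := stepQ 101564 Q101564 (allL N101564 (tt N111394 F476158) (tt N64975 (iv0 D204726)) (tt N111396 F476167) (tt N94871 (iv3 F433444)) (tt N87558 F433445) (tt N94870 F433443) (tt N115605 (iv6 F495961)) (tt N111395 F476163))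
theorem Q101566 : ∀ i, i < 101566 → P i := stepQ 101565 Q101565 (allL N101565 (tt N64975 (iv1 D204727)) (tt N111394 (iv0 F476157)) (tt N111395 F476162) (tt N93472 F434982) (tt N87556 F434983) (tt N93469 (iv5 F434981)) (tt N101929 (iv6 F434980)) (tt N111396 (iv7 F476165)))
theorem Q101567 : ∀ i, i < 101567 → P i := stepQ 101566 Q101566 (allL N101566 (tt N115609 F495973) (tt N115733 (iv0 F496574)) (tt N118108 (iv2 F508640)) (tt N101557 F433406) (tt N64975 (iv4 D204728)) (tt N112412 (iv5 F480991)) (tt N111056 F474449) (tt N111397 (iv7 F476170)))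
theorem Q101568 : ∀ i, i < 101568 → P i := stepQ 101567 Q101567 (allL N101567 (tt N94871 (iv1 F433442)) (tt N94872 (iv0 F433409)) (tt N111402 (iv2 F476194)) (tt N64977 F433407) (tt N111056 (iv4 F474448)) (tt N96333 F433408) (tt N64975 (iv6 D204729)) (tt N96332 (iv7 F433410)))
theorem Q101569 : ∀ i, i < 101569 → P i := stepQ 101568 Q101568 (allL N101568 (tt N64976 (iv1 D204730)) (tt N96533 F433411) (tt N94844 F433415) (tt N93825 (iv3 F433413)) (tt N65670 (iv4 F433414)) (tt N94687 (iv5 F433416)) (tt N80572 (iv6 F433417)) (tt N96544 F433412))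
theorem Q101570 : ∀ i, i < 101570 → P i := stepQ 101569 Q101569 (allL N101569 (tt N96584 F433421) (tt N96523 (iv0 F433422)) (tt N96336 F433418) (tt N64978 (iv3 D204731)) (tt N67959 F433420) (tt N118734 (iv5 F511801)) (tt N111838 (iv6 F478232)) (tt N96585 F433419))
theorem Q101571 : ∀ i, i < 101571 → P i := stepQ 101570 Q101570 (allL N101570 (tt N111417 (iv1 F476257)) (tt N64995 F449454) (tt N96581 F433424) (tt N118734 (iv3 F511799)) (tt N111634 (iv4 F477235)) (tt N64978 (iv5 D204732)) (tt N108220 (iv6 F461545)) (tt N111398 (iv7 F476174)))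
theorem Q101572 : ∀ i, i < 101572 → P i := stepQ 101571 Q101571 (allL N101571 (tt N94889 F474342) (tt N111400 F476186) (tt N64981 F433425) (tt N111394 (iv3 F476155)) (tt N111478 (iv4 F476530)) (tt N64980 (iv5 D204733)) (tt N120510 D223769) (tt N111399 (iv7 F476181)))
theorem Q101573 : ∀ i, i < 101573 → P i := stepQ 101572 Q101572 (allL N101572 (tt N111399 F476183) (tt N64981 (iv0 D204734)) (tt N94889 (iv2 F433429)) (tt N120511 D223770) (tt N111497 (iv4 F476606)) (tt N94887 F433430) (tt N120512 D223771) (tt N111400 (iv7 F476187)))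
theorem Q101574 : ∀ i, i < 101574 → P i := stepQ 101573 Q101573 (allL N101573 (tt N64981 (iv1 D204735)) (tt N111399 (iv0 F476182)) (tt N111400 F476185) (tt N94679 (iv3 F433426)) (tt N118951 (iv4 F512936)) (tt N94678 (iv5 F433427)) (tt N115984 F497906) (tt N94889 F433428))
theorem Q101575 : ∀ i, i < 101575 → P i := stepQ 101574 Q101574 (allL N101574 (tt N111877 (iv1 F478458)) (tt N79314 (iv0 F433433)) (tt N111478 (iv2 F476527)) (tt N100549 F433431) (tt N64981 (iv4 D204736)) (tt N79250 (iv5 F433432)) (tt N120513 D223772) (tt N111401 (iv7 F476191)))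
theorem Q101576 : ∀ i, i < 101576 → P i := stepQ 101575 Q101575 (allL N101575 (tt N116361 (iv1 F499716)) (tt N116362 (iv0 F499720)) (tt N120510 (iv2 F521168)) (tt N64982 F433434) (tt N120513 (iv4 F521186)) (tt N96574 F433435) (tt N64981 (iv6 D204737)) (tt N96573 F433436))
theorem Q101577 : ∀ i, i < 101577 → P i := stepQ 101576 Q101576 (allL N101576 (tt N96333 (iv1 F433440)) (tt N64986 (iv0 D204738)) (tt N96330 (iv2 F433439)) (tt N118363 (iv3 F509930)) (tt N79731 F433438) (tt N88026 F433437) (tt N115352 (iv6 F494738)) (tt N96331 F433441))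
theorem Q101578 : ∀ i, i < 101578 → P i := stepQ 101577 Q101577 (allL N101577 (tt N94872 F433449) (tt N94871 (iv0 F433450)) (tt N96332 F433447) (tt N64987 F433448) (tt N111055 (iv4 F474441)) (tt N64986 (iv5 D204739)) (tt N91770 (iv6 F433451)) (tt N111402 (iv7 F476197)))
theorem Q101579 : ∀ i, i < 101579 → P i := stepQ 101578 Q101578 (allL N101578 (tt N115976 (iv1 F497872)) (tt N115993 F497949) (tt N96576 F433452) (tt N117623 (iv3 F506053)) (tt N64987 (iv4 D204740)) (tt N108583 F463150) (tt N120514 D223773) (tt N111403 (iv7 F476201)))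
theorem Q101580 : ∀ i, i < 101580 → P i := stepQ 101579 Q101579 (allL N101579 (tt N116362 (iv1 F499721)) (tt N116361 (iv0 F499715)) (tt N96573 F433453) (tt N91770 F433454) (tt N120514 (iv4 F521193)) (tt N96569 F433455) (tt N64987 (iv6 D204741)) (tt N120510 (iv7 F521171)))
theorem Q101581 : ∀ i, i < 101581 → P i := stepQ 101580 Q101580 (allL N101580 (tt N114123 F488650) (tt N108215 (iv0 F461528)) (tt N64992 F433456) (tt N120349 (iv3 F520318)) (tt N112450 (iv4 F481157)) (tt N91758 (iv5 F433457)) (tt N64988 (iv6 D204742)) (tt N117033 (iv7 F503061)))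
theorem Q101582 : ∀ i, i < 101582 → P i := stepQ 101581 Q101581 (allL N101581 (tt N108585 (iv1 F463160)) (tt N120515 D223774) (tt N110953 (iv2 F473941)) (tt N113058 (iv3 F483778)) (tt N64989 (iv4 D204743)) (tt N110950 (iv5 F473931)) (tt N110951 (iv6 F473934)) (tt N111405 (iv7 F476206)))
theorem Q101583 : ∀ i, i < 101583 → P i := stepQ 101582 Q101582 (allL N101582 (tt N108220 F461546) (tt N108116 (iv0 F461177)) (tt N108222 F461554) (tt N65000 F433462) (tt N110951 F473938) (tt N116127 (iv5 F498619)) (tt N64989 (iv6 D204744)) (tt N108221 F461549))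
theorem Q101584 : ∀ i, i < 101584 → P i := stepQ 101583 Q101583 (allL N101583 (tt N120515 (iv1 F521197)) (tt N108585 (iv0 F463161)) (tt N111405 (iv2 F476204)) (tt N110961 (iv3 F473976)) (tt N64990 (iv4 D204745)) (tt N110954 (iv5 F473949)) (tt N115978 F497881) (tt N110953 F473945))
theorem Q101585 : ∀ i, i < 101585 → P i := stepQ 101584 Q101584 (allL N101584 (tt N118920 (iv1 F512753)) (tt N115519 (iv0 F495611)) (tt N111406 (iv2 F476208)) (tt N118716 (iv3 F511715)) (tt N115978 (iv4 F497884)) (tt N118672 (iv5 F511459)) (tt N64990 (iv6 D204746)) (tt N118919 (iv7 F512745)))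
theorem Q101586 : ∀ i, i < 101586 → P i := stepQ 101585 Q101585 (allL N101585 (tt N111123 (iv1 F474788)) (tt N64991 (iv0 D204747)) (tt N111409 F476228) (tt N95423 (iv3 F474789)) (tt N79822 F433463) (tt N111142 (iv5 F474901)) (tt N120053 (iv6 F518788)) (tt N111408 F476222))
theorem Q101587 : ∀ i, i < 101587 → P i := stepQ 101586 Q101586 (allL N101586 (tt N64991 (iv1 D204748)) (tt N111123 F474790) (tt N111408 F476221) (tt N116050 (iv3 F498234)) (tt N79826 (iv4 F434847)) (tt N111140 (iv5 F474891)) (tt N115517 (iv6 F495598)) (tt N111409 (iv7 F476225)))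
theorem Q101588 : ∀ i, i < 101588 → P i := stepQ 101587 Q101587 (allL N101587 (tt N120516 D223775) (tt N120517 D223776) (tt N120518 D223777) (tt N64991 (iv3 D204749)) (tt N64997 F433464) (tt N112437 (iv5 F481110)) (tt N112270 (iv6 F480293)) (tt N100928 F433465))
theorem Q101589 : ∀ i, i < 101589 → P i := stepQ 101588 Q101588 (allL N101588 (tt N112259 F480255) (tt N118925 F512778) (tt N112450 (iv2 F481156)) (tt N112270 F480291) (tt N64992 F433466) (tt N120044 (iv5 F518727)) (tt N64991 (iv6 D204750)) (tt N118924 F512772))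
theorem Q101590 : ∀ i, i < 101590 → P i := stepQ 101589 Q101589 (allL N101589 (tt N117033 (iv1 F503060)) (tt N64992 (iv0 D204751)) (tt N114123 (iv2 F488645)) (tt N70211 (iv3 F433468)) (tt N118965 (iv4 F513010)) (tt N70210 F433467) (tt N110849 (iv6 F473436)) (tt N108215 (iv7 F461527)))
theorem Q101591 : ∀ i, i < 101591 → P i := stepQ 101590 Q101590 (allL N101590 (tt N108215 (iv1 F461529)) (tt N114123 (iv0 F488648)) (tt N117033 (iv2 F503063)) (tt N65001 F433469) (tt N118924 (iv4 F512771)) (tt N91757 F433470) (tt N111413 (iv6 F476235)) (tt N64992 (iv7 D204752)))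
theorem Q101592 : ∀ i, i < 101592 → P i := stepQ 101591 Q101591 (allL N101591 (tt N96581 F459675) (tt N111398 (iv0 F476176)) (tt N64995 (iv2 D204755)) (tt N111414 (iv3 F476236)) (tt N111480 (iv4 F476539)) (tt N79805 F433471) (tt N112263 F480270) (tt N111417 (iv7 F476256)))
theorem Q101593 : ∀ i, i < 101593 → P i := stepQ 101592 Q101592 (allL N101592 (tt N111479 (iv1 F476534)) (tt N79253 (iv0 F433474)) (tt N111480 (iv2 F476541)) (tt N84531 F433472) (tt N64995 (iv4 D204756)) (tt N80243 (iv5 F433473)) (tt N106812 F455787) (tt N111418 (iv7 F476260)))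
theorem Q101594 : ∀ i, i < 101594 → P i := stepQ 101593 Q101593 (allL N101593 (tt N94506 (iv1 F433478)) (tt N64996 (iv0 D204758)) (tt N73562 (iv2 F433479)) (tt N118920 (iv3 F512749)) (tt N73457 F433476) (tt N112542 (iv5 F481589)) (tt N94895 F433477) (tt N73554 (iv7 F433480)))
theorem Q101595 : ∀ i, i < 101595 → P i := stepQ 101594 Q101594 (allL N101594 (tt N64996 (iv1 D204759)) (tt N94506 F433481) (tt N73554 (iv2 F433484)) (tt N114527 (iv3 F490608)) (tt N73455 F433483) (tt N114523 (iv5 F490589)) (tt N114524 (iv6 F490595)) (tt N73562 F433482))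
theorem Q101596 : ∀ i, i < 101596 → P i := stepQ 101595 Q101595 (allL N101595 (tt N100925 (iv1 F433485)) (tt N64997 (iv0 D204760)) (tt N100927 (iv2 F433487)) (tt N118606 (iv3 F511129)) (tt N120519 D223778) (tt N100739 F433486) (tt N120520 D223779) (tt N100926 (iv7 F433492)))
theorem Q101597 : ∀ i, i < 101597 → P i := stepQ 101596 Q101596 (allL N101596 (tt N64997 (iv1 D204761)) (tt N100925 F433493) (tt N100926 F433490) (tt N112276 F480313) (tt N120521 D223780) (tt N100740 F433489) (tt N112224 (iv6 F480129)) (tt N100927 F433488))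
theorem Q101598 : ∀ i, i < 101598 → P i := stepQ 101597 Q101597 (allL N101597 (tt N100927 (iv1 F433498)) (tt N100926 F433497) (tt N64997 (iv2 D204762)) (tt N79208 F433494) (tt N120518 (iv4 F521214)) (tt N79148 F433495) (tt N118361 (iv6 F509915)) (tt N100925 F433496))
theorem Q101599 : ∀ i, i < 101599 → P i := stepQ 101598 Q101598 (allL N101598 (tt N93535 F459182) (tt N112222 (iv0 F480122)) (tt N118361 (iv2 F509913)) (tt N64998 F433501) (tt N112270 F480292) (tt N112208 (iv5 F480062)) (tt N64997 (iv6 D204763)) (tt N120522 D223781))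
theorem Q101600 : ∀ i, i < 101600 → P i := stepQ 101599 Q101599 (allL N101599 (tt N79218 (iv1 F433510)) (tt N64998 (iv0 D204764)) (tt N79216 (iv2 F433506)) (tt N112220 F480112) (tt N108185 F461435) (tt N99004 F433505) (tt N112274 F480310) (tt N79217 (iv7 F433508)))
theorem Q101601 : ∀ i, i < 101601 → P i := stepQ 101600 Q101600 (allL N101600 (tt N64998 (iv1 D204765)) (tt N79218 F433502) (tt N79217 F433509) (tt N108911 (iv3 F464455)) (tt N108184 (iv4 F461424)) (tt N108910 (iv5 F464454)) (tt N105262 (iv6 F449452)) (tt N79216 F433507))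
theorem Q101602 : ∀ i, i < 101602 → P i := stepQ 101601 Q101601 (allL N101601 (tt N112217 F480100) (tt N103165 (iv0 F440369)) (tt N79184 F433503) (tt N112208 F480064) (tt N119731 F517147) (tt N64998 (iv5 D204766)) (tt N65048 F433504) (tt N120523 D223782))
theorem Q101603 : ∀ i, i < 101603 → P i := stepQ 101602 Q101602 (allL N101602 (tt N79217 (iv1 F433514)) (tt N79216 F433515) (tt N79218 F433511) (tt N120522 (iv3 F521234)) (tt N65001 F433512) (tt N120523 (iv5 F521242)) (tt N100931 F433513) (tt N64998 (iv7 D204767)))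
theorem Q101604 : ∀ i, i < 101604 → P i := stepQ 101603 Q101603 (allL N101603 (tt N84607 F436686) (tt N108230 (iv0 F461591)) (tt N108236 F461626) (tt N64999 (iv3 D204768)) (tt N79475 F436684) (tt N66889 (iv5 F436687)) (tt N118724 (iv6 F511758)) (tt N108235 (iv7 F461622)))
theorem Q101605 : ∀ i, i < 101605 → P i := stepQ 101604 Q101604 (allL N101604 (tt N90011 F469674) (tt N117031 (iv0 F503055)) (tt N118752 (iv2 F511890)) (tt N66889 F436688) (tt N76793 F436685) (tt N64999 (iv5 D204770)) (tt N107168 (iv6 F457299)) (tt N110135 (iv7 F470126)))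
theorem Q101606 : ∀ i, i < 101606 → P i := stepQ 101605 Q101605 (allL N101605 (tt N100536 (iv1 F436691)) (tt N108855 F464264) (tt N112190 (iv2 F479973)) (tt N114201 (iv3 F488960)) (tt N65000 (iv4 D204771)) (tt N97016 F436690) (tt N118675 (iv6 F511478)) (tt N97015 (iv7 F436689)))
theorem Q101607 : ∀ i, i < 101607 → P i := stepQ 101606 Q101606 (allL N101606 (tt N100947 F433520) (tt N83717 F433521) (tt N65022 F433516) (tt N78055 F433517) (tt N65004 (iv4 D204772)) (tt N78054 F433518) (tt N119746 (iv6 F517213)) (tt N65025 F433519))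
theorem Q101608 : ∀ i, i < 101608 → P i := stepQ 101607 Q101607 (allL N101607 (tt N71389 F433527) (tt N71387 (iv0 F433526)) (tt N65023 F433522) (tt N86343 F433523) (tt N119746 (iv4 F517212)) (tt N65364 F433524) (tt N65004 (iv6 D204773)) (tt N71388 F433525))
theorem Q101609 : ∀ i, i < 101609 → P i := stepQ 101608 Q101608 (allL N101608 (tt N65030 (iv1 F433531)) (tt N65005 (iv0 D204774)) (tt N65026 (iv2 F433530)) (tt N118817 (iv3 F512234)) (tt N79144 F433529) (tt N79183 F433528) (tt N119728 (iv6 F517133)) (tt N65027 F433532))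
theorem Q101610 : ∀ i, i < 101610 → P i := stepQ 101609 Q101609 (allL N101609 (tt N77850 F433536) (tt N98810 F433537) (tt N65032 F433533) (tt N79183 F433534) (tt N65006 (iv4 D204775)) (tt N118817 (iv5 F512232)) (tt N120214 (iv6 F519636)) (tt N65041 F433535))
theorem Q101611 : ∀ i, i < 101611 → P i := stepQ 101610 Q101610 (allL N101610 (tt N106842 F455943) (tt N120524 D223783) (tt N65033 F433538) (tt N106827 (iv3 F455863)) (tt N120214 (iv4 F519634)) (tt N82304 F433539) (tt N65006 (iv6 D204776)) (tt N119096 (iv7 F513773)))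
theorem Q101612 : ∀ i, i < 101612 → P i := stepQ 101611 Q101611 (allL N101611 (tt N117537 (iv1 F505592)) (tt N65007 (iv0 D204777)) (tt N117559 F505696) (tt N96174 F433540) (tt N111593 (iv4 F477065)) (tt N96173 (iv5 F433541)) (tt N101512 (iv6 F457622)) (tt N100543 (iv7 F433542)))
theorem Q101613 : ∀ i, i < 101613 → P i := stepQ 101612 Q101612 (allL N101612 (tt N98827 F433547) (tt N118817 F512236) (tt N65057 F433543) (tt N99229 F433544) (tt N65008 (iv4 D204779)) (tt N65030 F433545) (tt N117493 (iv6 F505319)) (tt N65029 F433546))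
theorem Q101614 : ∀ i, i < 101614 → P i := stepQ 101613 Q101613 (allL N101613 (tt N90311 F433550) (tt N89310 F433551) (tt N84384 F433548) (tt N112676 (iv3 F482125)) (tt N65010 (iv4 D204780)) (tt N113435 (iv5 F485483)) (tt N110661 F472648) (tt N89373 F433549))
theorem Q101615 : ∀ i, i < 101615 → P i := stepQ 101614 Q101614 (allL N101614 (tt N71103 F433555) (tt N68865 (iv0 F433557)) (tt N71102 F433552) (tt N89637 F433553) (tt N110661 (iv4 F472644)) (tt N70877 F433554) (tt N65010 (iv6 D204781)) (tt N71101 (iv7 F433561)))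
theorem Q101616 : ∀ i, i < 101616 → P i := stepQ 101615 Q101615 (allL N101615 (tt N89310 F433565) (tt N90311 F433566) (tt N89373 F433562) (tt N89256 F433563) (tt N65011 (iv4 D204782)) (tt N117291 (iv5 F504316)) (tt N119766 F517311) (tt N84384 F433564))
theorem Q101617 : ∀ i, i < 101617 → P i := stepQ 101616 Q101616 (allL N101616 (tt N70646 F433570) (tt N120308 (iv0 F520141)) (tt N89374 F433567) (tt N83891 F433568) (tt N119766 (iv4 F517313)) (tt N84416 F433569) (tt N65011 (iv6 D204783)) (tt N120525 D223784))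
theorem Q101618 : ∀ i, i < 101618 → P i := stepQ 101617 Q101617 (allL N101617 (tt N116957 (iv1 F502700)) (tt N98823 F433575) (tt N89376 F433571) (tt N71874 F433572) (tt N81892 F433574) (tt N65012 (iv5 D204784)) (tt N75884 (iv6 F433576)) (tt N90913 F433573))
theorem Q101619 : ∀ i, i < 101619 → P i := stepQ 101618 Q101618 (allL N101618 (tt N116378 (iv1 F499791)) (tt N78358 F433580) (tt N65015 F433577) (tt N81415 F433578) (tt N73239 (iv4 F433581)) (tt N65014 (iv5 D204785)) (tt N120526 D223785) (tt N88629 F433579))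
theorem Q101620 : ∀ i, i < 101620 → P i := stepQ 101619 Q101619 (allL N101619 (tt N72245 F433584) (tt N73238 F433585) (tt N73239 F433582) (tt N120527 D223786) (tt N65015 (iv4 D204786)) (tt N117286 (iv5 F504286)) (tt N108402 (iv6 F462434)) (tt N73240 F433583))
theorem Q101621 : ∀ i, i < 101621 → P i := stepQ 101620 Q101620 (allL N101620 (tt N106948 F456406) (tt N113300 (iv0 F484915)) (tt N120526 (iv2 F521257)) (tt N65017 F433586) (tt N108402 F462433) (tt N116726 (iv5 F501520)) (tt N65015 (iv6 D204787)) (tt N108455 (iv7 F462659)))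
theorem Q101622 : ∀ i, i < 101622 → P i := stepQ 101621 Q101621 (allL N101621 (tt N65016 (iv1 D204788)) (tt N65019 F433587) (tt N79160 (iv2 F433590)) (tt N98784 (iv3 F433594)) (tt N79143 F433589) (tt N110609 (iv5 F472380)) (tt N98783 (iv6 F433591)) (tt N79156 F433588))
theorem Q101623 : ∀ i, i < 101623 → P i := stepQ 101622 Q101622 (allL N101622 (tt N110920 F473799) (tt N99092 (iv0 F433596)) (tt N112685 (iv2 F482175)) (tt N65016 (iv3 D204789)) (tt N120527 (iv4 F521265)) (tt N119763 (iv5 F517298)) (tt N120224 (iv6 F519687)) (tt N112684 F482171))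
theorem Q101624 : ∀ i, i < 101624 → P i := stepQ 101623 Q101623 (allL N101623 (tt N111365 (iv1 F476028)) (tt N111364 (iv0 F476021)) (tt N99292 F433597) (tt N119763 (iv3 F517294)) (tt N65056 F433598) (tt N65016 (iv5 D204790)) (tt N118227 (iv6 F509245)) (tt N111538 (iv7 F476809)))
theorem Q101625 : ∀ i, i < 101625 → P i := stepQ 101624 Q101624 (allL N101624 (tt N99079 F455944) (tt N120528 D223787) (tt N111537 (iv2 F476805)) (tt N120224 (iv3 F519686)) (tt N65017 F433599) (tt N113383 (iv5 F485287)) (tt N65016 (iv6 D204791)) (tt N108460 (iv7 F462679)))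
theorem Q101626 : ∀ i, i < 101626 → P i := stepQ 101625 Q101625 (allL N101625 (tt N107291 F457828) (tt N65017 (iv0 D204792)) (tt N90943 (iv2 F433601)) (tt N106862 (iv3 F456054)) (tt N112601 F481785) (tt N114042 F488326) (tt N90917 F433600) (tt N108461 (iv7 F462682)))
theorem Q101627 : ∀ i, i < 101627 → P i := stepQ 101626 Q101626 (allL N101626 (tt N65017 (iv1 D204793)) (tt N107291 F457829) (tt N108461 F462680) (tt N98988 (iv3 F433603)) (tt N106656 (iv4 F455181)) (tt N114041 (iv5 F488322)) (tt N98986 (iv6 F433604)) (tt N90943 F433602))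
theorem Q101628 : ∀ i, i < 101628 → P i := stepQ 101627 Q101627 (allL N101627 (tt N71840 F433609) (tt N89196 F433610) (tt N88630 F433605) (tt N110831 F473348) (tt N65018 (iv4 D204794)) (tt N89234 F433608) (tt N90662 F433606) (tt N88627 F433607))
theorem Q101629 : ∀ i, i < 101629 → P i := stepQ 101628 Q101628 (allL N101628 (tt N111364 (iv1 F476022)) (tt N111365 (iv0 F476027)) (tt N111538 (iv2 F476807)) (tt N78056 F433611) (tt N65055 F433612) (tt N65019 (iv5 D204795)) (tt N99482 F433614) (tt N99292 F433613))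
theorem Q101630 : ∀ i, i < 101630 → P i := stepQ 101629 Q101629 (allL N101629 (tt N108458 (iv1 F462670)) (tt N90932 (iv0 F433617)) (tt N99616 F433615) (tt N119849 (iv3 F517683)) (tt N65020 F433616) (tt N106467 (iv5 F454574)) (tt N65019 (iv6 D204796)) (tt N107290 (iv7 F457824)))
theorem Q101631 : ∀ i, i < 101631 → P i := stepQ 101630 Q101630 (allL N101630 (tt N88847 (iv1 F433622)) (tt N81865 F433621) (tt N65021 (iv2 D204797)) (tt N83918 F433618) (tt N107411 (iv4 F458250)) (tt N88992 F433619) (tt N107409 F458246) (tt N73905 F433620))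
theorem Q101632 : ∀ i, i < 101632 → P i := stepQ 101631 Q101631 (allL N101631 (tt N120113 (iv1 F519115)) (tt N120112 F519112) (tt N107409 (iv2 F458244)) (tt N65023 F433623) (tt N107397 F458207) (tt N82271 F433624) (tt N65021 (iv6 D204798)) (tt N73907 F433625))
theorem Q101633 : ∀ i, i < 101633 → P i := stepQ 101632 Q101632 (allL N101632 (tt N106779 F455647) (tt N120529 D223788) (tt N99285 F433626) (tt N65022 (iv3 D204799)) (tt N116666 (iv4 F501219)) (tt N99070 (iv5 F433628)) (tt N120530 D223789) (tt N100948 F433627))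
theorem Q101634 : ∀ i, i < 101634 → P i := stepQ 101633 Q101633 (allL N101633 (tt N77939 F433633) (tt N93630 F433634) (tt N78054 F433629) (tt N99070 F433630) (tt N65050 F433631) (tt N65022 (iv5 D204800)) (tt N120531 D223790) (tt N99110 F433632))
theorem Q101635 : ∀ i, i < 101635 → P i := stepQ 101634 Q101634 (allL N101634 (tt N98948 F503024) (tt N119690 (iv0 F516938)) (tt N119746 (iv2 F517216)) (tt N120530 (iv3 F521284)) (tt N65023 F433635) (tt N119880 (iv5 F517847)) (tt N65022 (iv6 D204801)) (tt N120532 D223791))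
theorem Q101636 : ∀ i, i < 101636 → P i := stepQ 101635 Q101635 (allL N101635 (tt N71388 (iv1 F433638)) (tt N65023 (iv0 D204802)) (tt N71389 (iv2 F433636)) (tt N117515 (iv3 F505456)) (tt N112607 (iv4 F481818)) (tt N105591 (iv5 F450875)) (tt N120308 (iv6 F520139)) (tt N71387 F433637))
theorem Q101637 : ∀ i, i < 101637 → P i := stepQ 101636 Q101636 (allL N101636 (tt N71387 (iv1 F433643)) (tt N71389 F433644) (tt N71388 F433639) (tt N73907 F433640) (tt N120532 (iv4 F521296)) (tt N70420 F433641) (tt N73906 F433642) (tt N65023 (iv7 D204803)))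
theorem Q101638 : ∀ i, i < 101638 → P i := stepQ 101637 Q101637 (allL N101637 (tt N111134 (iv1 F474862)) (tt N93646 F433648) (tt N79183 F433645) (tt N107680 F459207) (tt N65048 F433647) (tt N65026 (iv5 D204804)) (tt N119731 F517148) (tt N79164 F433646))
theorem Q101639 : ∀ i, i < 101639 → P i := stepQ 101638 Q101638 (allL N101638 (tt N65029 F433651) (tt N65057 (iv0 F433653)) (tt N98827 (iv2 F433655)) (tt N65027 (iv3 D204806)) (tt N65037 F433652) (tt N65041 F433654) (tt N97413 F433650) (tt N118817 (iv7 F512237)))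
theorem Q101640 : ∀ i, i < 101640 → P i := stepQ 101639 Q101639 (allL N101639 (tt N93646 F433660) (tt N111134 (iv0 F474861)) (tt N79164 F433656) (tt N65041 F433657) (tt N65046 F433658) (tt N65027 (iv5 D204807)) (tt N120533 D223792) (tt N79183 F433659))
theorem Q101641 : ∀ i, i < 101641 → P i := stepQ 101640 Q101640 (allL N101640 (tt N78045 F433665) (tt N78042 F433666) (tt N99228 F433661) (tt N65029 F433662) (tt N90583 (iv4 F433668)) (tt N65028 (iv5 D204808)) (tt N75885 F433663) (tt N99229 F433664))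
theorem Q101642 : ∀ i, i < 101642 → P i := stepQ 101641 Q101641 (allL N101641 (tt N65057 (iv1 F433671)) (tt N65029 (iv0 D204809)) (tt N118817 F512235) (tt N118168 (iv3 F508973)) (tt N65044 F433670) (tt N65032 F433669) (tt N118266 (iv6 F509439)) (tt N98827 F433672))
theorem Q101643 : ∀ i, i < 101643 → P i := stepQ 101642 Q101642 (allL N101642 (tt N120534 D223793) (tt N117015 (iv0 F502980)) (tt N118170 (iv2 F508985)) (tt N75885 F433674) (tt N117499 (iv4 F505352)) (tt N75884 F433675) (tt N65029 (iv6 D204810)) (tt N117483 (iv7 F505272)))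
theorem Q101644 : ∀ i, i < 101644 → P i := stepQ 101643 Q101643 (allL N101643 (tt N93367 (iv1 F433677)) (tt N94663 (iv0 F433678)) (tt N107680 (iv2 F459208)) (tt N65032 (iv3 D204811)) (tt N74013 F433676) (tt N118168 (iv5 F508974)) (tt N118762 (iv6 F511944)) (tt N107679 F459203))
theorem Q101645 : ∀ i, i < 101645 → P i := stepQ 101644 Q101644 (allL N101644 (tt N112601 F481787) (tt N106656 (iv0 F481735)) (tt N120214 F519638) (tt N118762 (iv3 F511943)) (tt N65033 F433679) (tt N113350 (iv5 F485144)) (tt N65032 (iv6 D204812)) (tt N120215 (iv7 F519640)))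
theorem Q101646 : ∀ i, i < 101646 → P i := stepQ 101645 Q101645 (allL N101645 (tt N119096 F513775) (tt N65033 (iv0 D204813)) (tt N106842 (iv2 F455939)) (tt N100059 (iv3 F433681)) (tt N112588 (iv4 F481734)) (tt N100058 F433682) (tt N100602 F433680) (tt N120524 (iv7 F521247)))
theorem Q101647 : ∀ i, i < 101647 → P i := stepQ 101646 Q101646 (allL N101646 (tt N65033 (iv1 D204814)) (tt N119096 (iv0 F513774)) (tt N120524 (iv2 F521250)) (tt N106845 (iv3 F455956)) (tt N119858 (iv4 F517732)) (tt N120535 D223794) (tt N111208 (iv6 F475227)) (tt N106842 F455945))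
theorem Q101648 : ∀ i, i < 101648 → P i := stepQ 101647 Q101647 (allL N101647 (tt N120524 (iv1 F521246)) (tt N106842 (iv0 F455942)) (tt N119096 (iv2 F513771)) (tt N116953 (iv3 F502674)) (tt N120215 F519642) (tt N107390 (iv5 F458189)) (tt N72432 F433683) (tt N65033 (iv7 D204815)))
theorem Q101649 : ∀ i, i < 101649 → P i := stepQ 101648 Q101648 (allL N101648 (tt N96448 F433688) (tt N93839 (iv0 F433689)) (tt N81721 (iv2 F433690)) (tt N65034 (iv3 D204816)) (tt N79538 F433684) (tt N78183 F433685) (tt N81769 F433686) (tt N81720 F433687))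
theorem Q101650 : ∀ i, i < 101650 → P i := stepQ 101649 Q101649 (allL N101649 (tt N95595 F433693) (tt N94946 (iv0 F433694)) (tt N108312 (iv2 F462017)) (tt N65035 (iv3 D204817)) (tt N71713 F433691) (tt N71678 F433692) (tt N111029 (iv6 F474338)) (tt N106105 (iv7 F453131)))
theorem Q101651 : ∀ i, i < 101651 → P i := stepQ 101650 Q101650 (allL N101650 (tt N65036 (iv1 D204818)) (tt N80948 F433695) (tt N96410 F433700) (tt N93743 (iv3 F433697)) (tt N80003 (iv4 F433698)) (tt N93741 F433701) (tt N80009 (iv6 F433699)) (tt N96504 F433696))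
theorem Q101652 : ∀ i, i < 101652 → P i := stepQ 101651 Q101651 (allL N101651 (tt N94704 F433706) (tt N116982 F502815) (tt N110047 (iv2 F469718)) (tt N65037 F433702) (tt N79139 F433705) (tt N65036 (iv5 D204819)) (tt N99492 F433703) (tt N96505 F433704))
theorem Q101653 : ∀ i, i < 101653 → P i := stepQ 101652 Q101652 (allL N101652 (tt N106956 F456439) (tt N116763 (iv0 F501703)) (tt N106828 (iv2 F455864)) (tt N65046 F433707) (tt N65040 (iv4 D204820)) (tt N65045 F433708) (tt N120536 D223795) (tt N79180 F433709))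
theorem Q101654 : ∀ i, i < 101654 → P i := stepQ 101653 Q101653 (allL N101653 (tt N116991 F510458) (tt N106067 (iv0 F452974)) (tt N106829 (iv2 F455869)) (tt N65042 F433710) (tt N120536 (iv4 F521320)) (tt N72434 F433711) (tt N65040 (iv6 D204821)) (tt N116990 (iv7 F502855)))
theorem Q101655 : ∀ i, i < 101655 → P i := stepQ 101654 Q101654 (allL N101654 (tt N108457 (iv1 F462668)) (tt N90926 (iv0 F433714)) (tt N116979 (iv2 F502795)) (tt N120533 (iv3 F521301)) (tt N65042 F433712) (tt N98854 F433713) (tt N65041 (iv6 D204822)) (tt N119095 (iv7 F513768)))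
theorem Q101656 : ∀ i, i < 101656 → P i := stepQ 101655 Q101655 (allL N101655 (tt N72432 (iv1 F433716)) (tt N65042 (iv0 D204823)) (tt N107138 (iv2 F457151)) (tt N81414 (iv3 F433718)) (tt N117293 (iv4 F504322)) (tt N73998 F433715) (tt N106239 (iv6 F453713)) (tt N81426 F433717))
theorem Q101657 : ∀ i, i < 101657 → P i := stepQ 101656 Q101656 (allL N101656 (tt N65043 (iv1 D204824)) (tt N93818 F433726) (tt N80999 F433721) (tt N96429 (iv3 F433723)) (tt N81038 (iv4 F433720)) (tt N93448 (iv5 F433724)) (tt N80781 F433722) (tt N93753 F433719))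
theorem Q101658 : ∀ i, i < 101658 → P i := stepQ 101657 Q101657 (allL N101657 (tt N93753 (iv1 F433731)) (tt N80999 F433730) (tt N65043 (iv2 D204825)) (tt N80948 F433727) (tt N117152 (iv4 F503654)) (tt N108903 (iv5 F464436)) (tt N96308 F433728) (tt N93818 F433729))
theorem Q101659 : ∀ i, i < 101659 → P i := stepQ 101658 Q101658 (allL N101658 (tt N93565 F433733) (tt N120537 D223796) (tt N108903 (iv2 F464433)) (tt N65044 F433732) (tt N110433 F471568) (tt N65043 (iv5 D204826)) (tt N108898 (iv6 F464406)) (tt N120388 (iv7 F520526)))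
theorem Q101660 : ∀ i, i < 101660 → P i := stepQ 101659 Q101659 (allL N101659 (tt N120426 (iv1 F520723)) (tt N93884 (iv0 F433737)) (tt N101339 F433734) (tt N108898 F464409) (tt N118266 (iv4 F509438)) (tt N101054 F433735) (tt N65044 (iv6 D204827)) (tt N99488 F433736))
theorem Q101661 : ∀ i, i < 101661 → P i := stepQ 101660 Q101660 (allL N101660 (tt N65045 (iv1 D204828)) (tt N79179 F433738) (tt N79177 F433742) (tt N95050 (iv3 F433741)) (tt N80239 F433740) (tt N116982 (iv5 F502811)) (tt N78433 (iv6 F433743)) (tt N79178 F433739))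
theorem Q101662 : ∀ i, i < 101662 → P i := stepQ 101661 Q101661 (allL N101661 (tt N65046 (iv1 D204829)) (tt N65048 F433744) (tt N79181 (iv2 F433747)) (tt N106050 (iv3 F452906)) (tt N110609 (iv4 F472379)) (tt N73210 F433746) (tt N95292 (iv6 F433748)) (tt N79182 F433745))
theorem Q101663 : ∀ i, i < 101663 → P i := stepQ 101662 Q101662 (allL N101662 (tt N107927 F492677) (tt N118356 (iv0 F509888)) (tt N112630 (iv2 F481908)) (tt N120536 (iv3 F521319)) (tt N120533 (iv4 F521302)) (tt N101497 F433749) (tt N65046 (iv6 D204830)) (tt N120538 D223797))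
theorem Q101664 : ∀ i, i < 101664 → P i := stepQ 101663 Q101663 (allL N101663 (tt N65047 (iv1 D204831)) (tt N112011 F479067) (tt N112012 (iv2 F479068)) (tt N95036 F433752) (tt N90673 (iv4 F433750)) (tt N120537 (iv5 F521326)) (tt N95034 F433751) (tt N111017 (iv7 F474275)))
theorem Q101665 : ∀ i, i < 101665 → P i := stepQ 101664 Q101664 (allL N101664 (tt N81251 F433756) (tt N112198 F480018) (tt N93845 F433753) (tt N96904 F433754) (tt N120531 (iv4 F521291)) (tt N100536 F433755) (tt N65050 (iv6 D204832)) (tt N112197 (iv7 F480008)))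
theorem Q101666 : ∀ i, i < 101666 → P i := stepQ 101665 Q101665 (allL N101665 (tt N108299 (iv1 F461962)) (tt N111133 (iv0 F474856)) (tt N118360 (iv2 F509906)) (tt N73747 F433758) (tt N79521 F433760) (tt N65051 (iv5 D204833)) (tt N81245 (iv6 F433761)) (tt N81260 F433759))
theorem Q101667 : ∀ i, i < 101667 → P i := stepQ 101666 Q101666 (allL N101666 (tt N101518 F466428) (tt N80114 F466429) (tt N101517 F433762) (tt N109337 (iv3 F466448)) (tt N109333 (iv4 F466427)) (tt N109336 (iv5 F466446)) (tt N65051 (iv6 D204834)) (tt N101516 F433763))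
theorem Q101668 : ∀ i, i < 101668 → P i := stepQ 101667 Q101667 (allL N101667 (tt N97407 F433768) (tt N112194 (iv0 F479999)) (tt N91409 F433764) (tt N95761 F433765) (tt N65054 (iv4 D204836)) (tt N111588 (iv5 F477031)) (tt N91408 F433766) (tt N95802 F433767))
theorem Q101669 : ∀ i, i < 101669 → P i := stepQ 101668 Q101668 (allL N101668 (tt N81014 (iv1 F433773)) (tt N65060 (iv0 D204837)) (tt N81013 (iv2 F433772)) (tt N91296 F433771) (tt N66500 F433770) (tt N75398 F433769) (tt N112107 (iv6 F479513)) (tt N81012 F433774))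
theorem Q101670 : ∀ i, i < 101670 → P i := stepQ 101669 Q101669 (allL N101669 (tt N115121 (iv1 F493597)) (tt N112381 (iv0 F480831)) (tt N109600 (iv2 F467666)) (tt N65062 (iv3 D204838)) (tt N79542 F433778) (tt N66493 F433775) (tt N67015 F433776) (tt N81782 F433777))
theorem Q101671 : ∀ i, i < 101671 → P i := stepQ 101670 Q101670 (allL N101670 (tt N95465 F433782) (tt N95466 F433783) (tt N81784 F433779) (tt N106722 (iv3 F455406)) (tt N65062 (iv4 D204839)) (tt N79591 F433780) (tt N106721 (iv6 F455400)) (tt N81783 F433781))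
theorem Q101672 : ∀ i, i < 101672 → P i := stepQ 101671 Q101671 (allL N101671 (tt N97087 F433788) (tt N97085 (iv0 F433787)) (tt N97086 (iv2 F433786)) (tt N65065 (iv3 D204840)) (tt N79504 F433785) (tt N110297 (iv5 F470908)) (tt N104263 (iv6 F445011)) (tt N81777 F433784))
theorem Q101673 : ∀ i, i < 101673 → P i := stepQ 101672 Q101672 (allL N101672 (tt N112287 (iv1 F480369)) (tt N80988 (iv0 F433792)) (tt N81780 F433789) (tt N112495 (iv3 F481349)) (tt N65065 (iv4 D204841)) (tt N112494 (iv5 F481347)) (tt N93476 F433790) (tt N81778 F433791))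
theorem Q101674 : ∀ i, i < 101674 → P i := stepQ 101673 Q101673 (allL N101673 (tt N80988 (iv1 F433798)) (tt N112287 F480370) (tt N81778 F433793) (tt N93480 F433794) (tt N65066 (iv4 D204842)) (tt N93844 F433797) (tt N80951 F433795) (tt N81780 F433796))
theorem Q101675 : ∀ i, i < 101675 → P i := stepQ 101674 Q101674 (allL N101674 (tt N77794 F433803) (tt N80540 F433804) (tt N78422 F433799) (tt N72095 F433800) (tt N78426 F433801) (tt N101724 (iv5 F434046)) (tt N65069 (iv6 D204843)) (tt N80541 F433802))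
theorem Q101676 : ∀ i, i < 101676 → P i := stepQ 101675 Q101675 (allL N101675 (tt N65081 F433808) (tt N65080 (iv0 F433809)) (tt N65084 F433805) (tt N81795 F433806) (tt N81727 (iv4 F433812)) (tt N65070 (iv5 D204844)) (tt N111975 F478934) (tt N65079 F433807))
theorem Q101677 : ∀ i, i < 101677 → P i := stepQ 101676 Q101676 (allL N101676 (tt N95036 (iv1 F433818)) (tt N95075 (iv0 F433817)) (tt N65072 F433813) (tt N95079 F433814) (tt N65071 (iv4 D204845)) (tt N93794 F433816) (tt N112649 (iv6 F481992)) (tt N65077 F433815))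
theorem Q101678 : ∀ i, i < 101678 → P i := stepQ 101677 Q101677 (allL N101677 (tt N65077 (iv1 F433821)) (tt N65072 (iv0 D204846)) (tt N95036 F433824) (tt N93824 F433820) (tt N100700 F433819) (tt N118368 (iv5 F509964)) (tt N70199 (iv6 F433823)) (tt N95075 F433825))
theorem Q101679 : ∀ i, i < 101679 → P i := stepQ 101678 Q101678 (allL N101678 (tt N65072 (iv1 D204847)) (tt N65077 F433826) (tt N95075 F433830) (tt N111017 (iv3 F474273)) (tt N100703 F433828) (tt N118358 (iv5 F509899)) (tt N82517 (iv6 F433829)) (tt N95036 F433827))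
theorem Q101680 : ∀ i, i < 101680 → P i := stepQ 101679 Q101679 (allL N101679 (tt N119582 (iv1 F516379)) (tt N112626 (iv0 F481895)) (tt N112649 (iv2 F481991)) (tt N94520 F433831) (tt N65074 F433832) (tt N94519 F433833) (tt N65072 (iv6 D204848)) (tt N110893 (iv7 F473647)))
theorem Q101681 : ∀ i, i < 101681 → P i := stepQ 101680 Q101680 (allL N101680 (tt N94032 F433838) (tt N80063 (iv0 F433839)) (tt N95104 F433834) (tt N65078 F433835) (tt N95650 F433836) (tt N71346 F433837) (tt N65076 (iv6 D204849)) (tt N102286 (iv7 F436559)))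
theorem Q101682 : ∀ i, i < 101682 → P i := stepQ 101681 Q101681 (allL N101681 (tt N65084 (iv1 F433842)) (tt N65079 (iv0 D204850)) (tt N65080 (iv2 F433841)) (tt N94065 (iv3 F433844)) (tt N118368 (iv4 F509963)) (tt N78738 F433840) (tt N81474 (iv6 F433845)) (tt N65081 F433843))
theorem Q101683 : ∀ i, i < 101683 → P i := stepQ 101682 Q101682 (allL N101682 (tt N81726 F433849) (tt N81725 (iv0 F433850)) (tt N65082 F433846) (tt N112128 (iv3 F479633)) (tt N65079 (iv4 D204851)) (tt N101158 F433847) (tt N117480 (iv6 F505254)) (tt N81727 F433848))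
theorem Q101684 : ∀ i, i < 101684 → P i := stepQ 101683 Q101683 (allL N101683 (tt N102765 F438546) (tt N112295 F480412) (tt N65083 F433851) (tt N81820 F433852) (tt N117480 (iv4 F505252)) (tt N65423 F433853) (tt N65079 (iv6 D204852)) (tt N112073 (iv7 F479365)))
theorem Q101685 : ∀ i, i < 101685 → P i := stepQ 101684 Q101684 (allL N101684 (tt N95084 F433855) (tt N118219 (iv0 F509220)) (tt N118368 F509968) (tt N120537 F521328) (tt N65080 (iv4 D204853)) (tt N95036 F433854) (tt N116144 (iv6 F498722)) (tt N118358 (iv7 F509900)))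
theorem Q101686 : ∀ i, i < 101686 → P i := stepQ 101685 Q101685 (allL N101685 (tt N81727 (iv1 F433859)) (tt N65082 (iv0 D204854)) (tt N81726 (iv2 F433858)) (tt N91579 F433857) (tt N117448 (iv4 F505086)) (tt N95210 F433856) (tt N91575 (iv6 F433861)) (tt N81725 F433860))
theorem Q101687 : ∀ i, i < 101687 → P i := stepQ 101686 Q101686 (allL N101686 (tt N81233 (iv1 F433867)) (tt N79171 F433865) (tt N101158 F433862) (tt N81674 F433863) (tt N112075 (iv4 F479377)) (tt N65082 (iv5 D204855)) (tt N101156 F433866) (tt N81728 F433864))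
theorem Q101688 : ∀ i, i < 101688 → P i := stepQ 101687 Q101687 (allL N101687 (tt N85959 F433872) (tt N83614 F433873) (tt N65114 F433868) (tt N67606 F433869) (tt N65136 F433871) (tt N65091 (iv5 D204856)) (tt N109821 (iv6 F468783)) (tt N65134 F433870))
theorem Q101689 : ∀ i, i < 101689 → P i := stepQ 101688 Q101688 (allL N101688 (tt N65094 (iv1 D204857)) (tt N118711 F511687) (tt N102894 F439157) (tt N103450 (iv3 F441688)) (tt N96318 (iv4 F433874)) (tt N105925 (iv5 F452371)) (tt N103435 F441625) (tt N117056 (iv7 F503154)))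
theorem Q101690 : ∀ i, i < 101690 → P i := stepQ 101689 Q101689 (allL N101689 (tt N117056 F503158) (tt N102894 F439159) (tt N65094 (iv2 D204858)) (tt N65129 F433875) (tt N81860 F433876) (tt N114434 (iv5 F490142)) (tt N80418 F433877) (tt N118711 (iv7 F511688)))
theorem Q101691 : ∀ i, i < 101691 → P i := stepQ 101690 Q101690 (allL N101690 (tt N118047 F508281) (tt N65955 (iv0 F433881)) (tt N114434 (iv2 F490139)) (tt N65095 F433879) (tt N86008 F433882) (tt N65094 (iv5 D204859)) (tt N86007 F433880) (tt N120491 (iv7 F521054)))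
theorem Q101692 : ∀ i, i < 101692 → P i := stepQ 101691 Q101691 (allL N101691 (tt N83614 F433888) (tt N85959 F433889) (tt N65134 F433883) (tt N85958 F433884) (tt N65095 (iv4 D204860)) (tt N65115 F433885) (tt N85957 F433886) (tt N65114 F433887))
theorem Q101693 : ∀ i, i < 101693 → P i := stepQ 101692 Q101692 (allL N101692 (tt N74492 (iv1 F433893)) (tt N100999 (iv0 F433894)) (tt N109592 (iv2 F467624)) (tt N65098 (iv3 D204861)) (tt N110271 (iv4 F470757)) (tt N83851 F433890) (tt N75774 F433891) (tt N84232 F433892))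
theorem Q101694 : ∀ i, i < 101694 → P i := stepQ 101693 Q101693 (allL N101693 (tt N75348 F433899) (tt N75440 F433900) (tt N75441 F433895) (tt N81041 F433901) (tt N65098 (iv4 D204862)) (tt N81039 F433896) (tt N75436 F433897) (tt N75310 F433898))
theorem Q101695 : ∀ i, i < 101695 → P i := stepQ 101694 Q101694 (allL N101694 (tt N102709 (iv1 F438304)) (tt N101196 (iv0 F433905)) (tt N110512 F471923) (tt N103889 F443227) (tt N65101 (iv4 D204863)) (tt N97072 F433904) (tt N81712 F433902) (tt N81676 F433903))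
theorem Q101696 : ∀ i, i < 101696 → P i := stepQ 101695 Q101695 (allL N101695 (tt N99944 F433908) (tt N65106 (iv0 F433911)) (tt N111944 (iv2 F478800)) (tt N74454 F433906) (tt N84720 F433909) (tt N65101 (iv5 D204864)) (tt N74453 F433910) (tt N81677 F433907))
theorem Q101697 : ∀ i, i < 101697 → P i := stepQ 101696 Q101696 (allL N101696 (tt N69237 F433916) (tt N69269 (iv0 F433917)) (tt N69210 F433912) (tt N65104 (iv3 D204865)) (tt N91171 F433913) (tt N104567 (iv5 F446310)) (tt N83303 F433914) (tt N66843 F433915))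
theorem Q101698 : ∀ i, i < 101698 → P i := stepQ 101697 Q101697 (allL N101697 (tt N67591 F433923) (tt N67590 F433922) (tt N67592 F433918) (tt N104567 (iv3 F446308)) (tt N65133 F433919) (tt N65104 (iv5 D204866)) (tt N66421 F433920) (tt N67589 F433921))
theorem Q101699 : ∀ i, i < 101699 → P i := stepQ 101698 Q101698 (allL N101698 (tt N99878 F433927) (tt N84367 F433928) (tt N99872 F433924) (tt N84468 F433925) (tt N65106 (iv4 D204867)) (tt N107542 (iv5 F458702)) (tt N75043 (iv6 F433929)) (tt N99948 F433926))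
theorem Q101700 : ∀ i, i < 101700 → P i := stepQ 101699 Q101699 (allL N101699 (tt N74458 F433933) (tt N74455 (iv0 F433934)) (tt N74456 F433930) (tt N65108 F433931) (tt N75043 F433932) (tt N99346 F433936) (tt N65106 (iv6 D204868)) (tt N74457 (iv7 F433937)))
theorem Q101701 : ∀ i, i < 101701 → P i := stepQ 101700 Q101700 (allL N101700 (tt N65109 (iv1 F433942)) (tt N65107 (iv0 D204869)) (tt N75351 (iv2 F433941)) (tt N114453 (iv3 F490246)) (tt N75281 F433939) (tt N67591 F433938) (tt N75279 F433940) (tt N82564 F433943))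
theorem Q101702 : ∀ i, i < 101702 → P i := stepQ 101701 Q101701 (allL N101701 (tt N65110 (iv1 D204870)) (tt N73590 F433944) (tt N80147 F433950) (tt N88192 (iv3 F433948)) (tt N69425 F433946) (tt N79130 F433947) (tt N75778 (iv6 F433949)) (tt N94104 F433945))
theorem Q101703 : ∀ i, i < 101703 → P i := stepQ 101702 Q101702 (allL N101702 (tt N79276 F433955) (tt N69425 (iv0 F433957)) (tt N94099 F433951) (tt N82198 F433952) (tt N87891 F433953) (tt N82197 (iv5 F433956)) (tt N65112 (iv6 D204871)) (tt N82212 F433954))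
theorem Q101704 : ∀ i, i < 101704 → P i := stepQ 101703 Q101703 (allL N101703 (tt N94107 (iv1 F433960)) (tt N65113 (iv0 D204872)) (tt N111921 (iv2 F478664)) (tt N67825 (iv3 F433961)) (tt N88645 F433958) (tt N67823 F433959) (tt N88644 F433962) (tt N111919 (iv7 F478648)))
theorem Q101705 : ∀ i, i < 101705 → P i := stepQ 101704 Q101704 (allL N101704 (tt N65113 (iv1 D204873)) (tt N94107 (iv0 F433966)) (tt N111919 (iv2 F478644)) (tt N103112 (iv3 F440126)) (tt N80912 (iv4 F433963)) (tt N92120 F433965) (tt N79278 (iv6 F433964)) (tt N111921 (iv7 F478659)))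
theorem Q101706 : ∀ i, i < 101706 → P i := stepQ 101705 Q101705 (allL N101705 (tt N111921 (iv1 F478658)) (tt N111919 (iv0 F478649)) (tt N65113 (iv2 D204874)) (tt N77643 F433968) (tt N81466 F433969) (tt N104577 (iv5 F446365)) (tt N77641 F433970) (tt N94107 F433971))
theorem Q101707 : ∀ i, i < 101707 → P i := stepQ 101706 Q101706 (allL N101706 (tt N109914 (iv1 F469190)) (tt N104222 (iv0 F444783)) (tt N109821 (iv2 F468781)) (tt N80955 F433972) (tt N120492 (iv4 F521059)) (tt N80954 F433973) (tt N65114 (iv6 D204875)) (tt N109913 (iv7 F469187)))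
theorem Q101708 : ∀ i, i < 101708 → P i := stepQ 101707 Q101707 (allL N101707 (tt N65117 (iv1 D204876)) (tt N93868 F433974) (tt N93420 F433978) (tt N103925 (iv3 F443397)) (tt N78145 F433976) (tt N95851 F433979) (tt N80412 (iv6 F433977)) (tt N66018 F433975))
theorem Q101709 : ∀ i, i < 101709 → P i := stepQ 101708 Q101708 (allL N101708 (tt N97655 F433983) (tt N97737 F433985) (tt N92107 F433980) (tt N97002 F433981) (tt N102648 (iv4 F438046)) (tt N95442 F433982) (tt N65121 (iv6 D204877)) (tt N97738 F433984))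
theorem Q101710 : ∀ i, i < 101710 → P i := stepQ 101709 Q101709 (allL N101709 (tt N69260 F433990) (tt N69288 F433991) (tt N69286 F433986) (tt N68740 F433987) (tt N104407 (iv4 F445632)) (tt N80051 F433988) (tt N65123 (iv6 D204878)) (tt N69285 F433989))
theorem Q101711 : ∀ i, i < 101711 → P i := stepQ 101710 Q101710 (allL N101710 (tt N102842 (iv1 F438897)) (tt N102663 (iv0 F438123)) (tt N102372 (iv2 F436957)) (tt N67352 F433992) (tt N67845 F433993) (tt N118049 (iv5 F508291)) (tt N65124 (iv6 D204879)) (tt N102843 F438902))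
theorem Q101712 : ∀ i, i < 101712 → P i := stepQ 101711 Q101711 (allL N101711 (tt N65897 F433997) (tt N65886 F433998) (tt N65894 F433994) (tt N65707 F433995) (tt N102188 (iv4 F436094)) (tt N65125 (iv5 D204880)) (tt N118049 (iv6 F508292)) (tt N65728 F433996))
theorem Q101713 : ∀ i, i < 101713 → P i := stepQ 101712 Q101712 (allL N101712 (tt N102093 (iv1 F435691)) (tt N65126 (iv0 D204881)) (tt N111811 (iv2 F478100)) (tt N97600 (iv3 F434002)) (tt N80368 F434000) (tt N97599 F433999) (tt N82383 F434001) (tt N81528 F434003))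
theorem Q101714 : ∀ i, i < 101714 → P i := stepQ 101713 Q101713 (allL N101713 (tt N65126 (iv1 D204882)) (tt N102093 F435690) (tt N81528 F434006) (tt N91520 (iv3 F434005)) (tt N81517 F434004) (tt N104269 (iv5 F445039)) (tt N102885 (iv6 F439099)) (tt N111811 (iv7 F478096)))
theorem Q101715 : ∀ i, i < 101715 → P i := stepQ 101714 Q101714 (allL N101714 (tt N103416 (iv1 F441529)) (tt N67205 (iv0 F436039)) (tt N67350 F434007) (tt N65127 F434008) (tt N93069 F434009) (tt N65126 (iv5 D204883)) (tt N93075 (iv6 F434010)) (tt N102373 (iv7 F436964)))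
theorem Q101716 : ∀ i, i < 101716 → P i := stepQ 101715 Q101715 (allL N101715 (tt N92173 F434014) (tt N103485 (iv0 F441824)) (tt N114382 (iv2 F489893)) (tt N65135 F434011) (tt N90412 F434012) (tt N82388 F434013) (tt N65130 (iv6 D204884)) (tt N113823 (iv7 F487300)))
theorem Q101717 : ∀ i, i < 101717 → P i := stepQ 101716 Q101716 (allL N101716 (tt N67605 F434020) (tt N67608 (iv0 F434021)) (tt N67607 F434015) (tt N65134 (iv3 D204885)) (tt N77456 F434016) (tt N94043 F434017) (tt N74240 F434018) (tt N67606 F434019))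
theorem Q101718 : ∀ i, i < 101718 → P i := stepQ 101717 Q101717 (allL N101717 (tt N65135 (iv1 D204886)) (tt N104559 F446261) (tt N104320 (iv2 F445225)) (tt N103930 (iv3 F443413)) (tt N104567 (iv4 F446309)) (tt N103929 (iv5 F443411)) (tt N102828 (iv6 F443419)) (tt N104558 (iv7 F446254)))
theorem Q101719 : ∀ i, i < 101719 → P i := stepQ 101718 Q101718 (allL N101718 (tt N104320 (iv1 F445230)) (tt N104558 (iv0 F446255)) (tt N104559 F446260) (tt N113823 (iv3 F487298)) (tt N103128 F440199) (tt N82391 F434022) (tt N109915 (iv6 F469197)) (tt N65135 (iv7 D204887)))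
theorem Q101720 : ∀ i, i < 101720 → P i := stepQ 101719 Q101719 (allL N101719 (tt N104310 F445177) (tt N120539 D223798) (tt N120492 (iv2 F521057)) (tt N87689 F434023) (tt N109821 (iv4 F468785)) (tt N104347 (iv5 F445352)) (tt N65136 (iv6 D204888)) (tt N109915 (iv7 F469198)))
theorem Q101721 : ∀ i, i < 101721 → P i := stepQ 101720 Q101720 (allL N101720 (tt N112312 (iv1 F480491)) (tt N112311 F480488) (tt N82003 F434024) (tt N118169 (iv3 F508980)) (tt N65138 (iv4 D204889)) (tt N100391 F434025) (tt N65415 F434026) (tt N82006 F434027))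
theorem Q101722 : ∀ i, i < 101722 → P i := stepQ 101721 Q101721 (allL N101721 (tt N80807 F434031) (tt N80817 F434032) (tt N74574 F434028) (tt N118251 (iv3 F509374)) (tt N80539 F434030) (tt N65142 (iv5 D204890)) (tt N118251 (iv6 F509375)) (tt N81140 F434029))
theorem Q101723 : ∀ i, i < 101723 → P i := stepQ 101722 Q101722 (allL N101722 (tt N95603 F434037) (tt N97483 (iv0 F434038)) (tt N117639 (iv2 F506154)) (tt N65145 (iv3 D204891)) (tt N80092 F434034) (tt N112238 (iv5 F480177)) (tt N95453 F434035) (tt N79469 F434036))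
theorem Q101724 : ∀ i, i < 101724 → P i := stepQ 101723 Q101723 (allL N101723 (tt N80817 F434042) (tt N80807 F434043) (tt N81140 F434039) (tt N74579 F434044) (tt N65146 (iv4 D204892)) (tt N74575 F434040) (tt N120540 D223799) (tt N74574 F434041))
theorem Q101725 : ∀ i, i < 101725 → P i := stepQ 101724 Q101724 (allL N101724 (tt N111984 (iv1 F478963)) (tt N111983 F478961) (tt N81156 F434045) (tt N107080 (iv3 F456884)) (tt N120540 (iv4 F521343)) (tt N101674 F434046) (tt N65146 (iv6 D204893)) (tt N111982 (iv7 F478958)))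
theorem Q101726 : ∀ i, i < 101726 → P i := stepQ 101725 Q101725 (allL N101725 (tt N75493 (iv1 F434052)) (tt N75498 (iv0 F434051)) (tt N111091 (iv2 F474614)) (tt N65147 (iv3 D204894)) (tt N80097 F434050) (tt N98072 F434047) (tt N82338 F434048) (tt N81995 F434049))
theorem Q101727 : ∀ i, i < 101727 → P i := stepQ 101726 Q101726 (allL N101726 (tt N117638 (iv1 F506147)) (tt N95590 F434057) (tt N81998 F434053) (tt N91809 F434054) (tt N65147 (iv4 D204895)) (tt N115511 (iv5 F495565)) (tt N82339 F434055) (tt N81996 F434056))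
theorem Q101728 : ∀ i, i < 101728 → P i := stepQ 101727 Q101727 (allL N101727 (tt N95590 F434061) (tt N117638 (iv0 F506146)) (tt N81996 F434058) (tt N103377 (iv3 F441350)) (tt N65148 (iv4 D204896)) (tt N108570 (iv5 F463091)) (tt N95631 F434059) (tt N81998 F434060))
theorem Q101729 : ∀ i, i < 101729 → P i := stepQ 101728 Q101728 (allL N101728 (tt N108888 (iv1 F464377)) (tt N108890 (iv0 F464379)) (tt N81133 F434062) (tt N101930 F434988) (tt N65150 (iv4 D204897)) (tt N80804 F434064) (tt N120541 D223800) (tt N81134 F434063))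
theorem Q101730 : ∀ i, i < 101730 → P i := stepQ 101729 Q101729 (allL N101729 (tt N117197 F503869) (tt N74148 F481192) (tt N81163 F434065) (tt N117652 (iv3 F506227)) (tt N120541 (iv4 F521349)) (tt N116811 (iv5 F501963)) (tt N65150 (iv6 D204898)) (tt N117124 (iv7 F503511)))
theorem Q101731 : ∀ i, i < 101731 → P i := stepQ 101730 Q101730 (allL N101730 (tt N79483 F434068) (tt N79257 F434069) (tt N80921 F434066) (tt N117328 F504482) (tt N116576 F500815) (tt N65151 (iv5 D204899)) (tt N116811 F501965) (tt N80924 F434067))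
theorem Q101732 : ∀ i, i < 101732 → P i := stepQ 101731 Q101731 (allL N101731 (tt N65164 F434075) (tt N65163 F434074) (tt N65166 F434070) (tt N81469 F434071) (tt N77641 F434072) (tt N65152 (iv5 D204900)) (tt N81466 (iv6 F434076)) (tt N65162 F434073))
theorem Q101733 : ∀ i, i < 101733 → P i := stepQ 101732 Q101732 (allL N101732 (tt N79836 F434083) (tt N80896 (iv0 F434084)) (tt N65157 F434079) (tt N76653 F434080) (tt N116220 (iv4 F499089)) (tt N76647 F434081) (tt N65153 (iv6 D204901)) (tt N76646 F434082))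
theorem Q101734 : ∀ i, i < 101734 → P i := stepQ 101733 Q101733 (allL N101733 (tt N65160 (iv1 F434087)) (tt N65155 (iv0 D204902)) (tt N116219 F499083) (tt N103371 F441327) (tt N95787 F434086) (tt N88648 F434085) (tt N95785 (iv6 F434088)) (tt N111752 (iv7 F477793)))
theorem Q101735 : ∀ i, i < 101735 → P i := stepQ 101734 Q101734 (allL N101734 (tt N65155 (iv1 D204903)) (tt N65160 F434089) (tt N111752 (iv2 F477790)) (tt N97561 (iv3 F434092)) (tt N95840 F434091) (tt N88646 F434090) (tt N82393 F434093) (tt N116219 (iv7 F499085)))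
theorem Q101736 : ∀ i, i < 101736 → P i := stepQ 101735 Q101735 (allL N101735 (tt N95837 (iv1 F434098)) (tt N81532 (iv0 F434097)) (tt N116220 (iv2 F499087)) (tt N65552 F434094) (tt N65157 F434095) (tt N119383 (iv5 F515339)) (tt N65155 (iv6 D204904)) (tt N97422 F434096))
theorem Q101737 : ∀ i, i < 101737 → P i := stepQ 101736 Q101736 (allL N101736 (tt N76645 F434103) (tt N75383 F434105) (tt N76647 F434099) (tt N75174 F434100) (tt N76307 F434104) (tt N65157 (iv5 D204905)) (tt N74751 F434101) (tt N75289 F434102))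
theorem Q101738 : ∀ i, i < 101738 → P i := stepQ 101737 Q101737 (allL N101737 (tt N82500 F434110) (tt N100802 F434111) (tt N101157 F434106) (tt N72910 F434107) (tt N65159 (iv4 D204906)) (tt N82055 F434109) (tt N81763 F434108) (tt N110554 (iv7 F472117)))
theorem Q101739 : ∀ i, i < 101739 → P i := stepQ 101738 Q101738 (allL N101738 (tt N116593 (iv1 F500897)) (tt N113532 F485917) (tt N75869 F434112) (tt N65173 F434113) (tt N120542 D223801) (tt N65171 (iv5 D204907)) (tt N109206 (iv6 F465786)) (tt N77418 F434114))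
theorem Q101740 : ∀ i, i < 101740 → P i := stepQ 101739 Q101739 (allL N101739 (tt N86930 F434117) (tt N113371 F485228) (tt N76958 F434115) (tt N109206 (iv3 F465785)) (tt N110350 (iv4 F471170)) (tt N65172 (iv5 D204908)) (tt N65173 F434116) (tt N113370 (iv7 F485221)))
theorem Q101741 : ∀ i, i < 101741 → P i := stepQ 101740 Q101740 (allL N101740 (tt N83256 F434122) (tt N83258 F434123) (tt N77198 F434118) (tt N105564 (iv3 F450746)) (tt N65175 (iv4 D204909)) (tt N78137 F434121) (tt N73493 F434119) (tt N101258 F434120))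
theorem Q101742 : ∀ i, i < 101742 → P i := stepQ 101741 Q101741 (allL N101741 (tt N83100 F434127) (tt N109794 (iv0 F468644)) (tt N77201 F434124) (tt N112125 (iv3 F479614)) (tt N101398 F434125) (tt N65176 (iv5 D204910)) (tt N98092 F434126) (tt N103905 (iv7 F443296)))
theorem Q101743 : ∀ i, i < 101743 → P i := stepQ 101742 Q101742 (allL N101742 (tt N80935 F434130) (tt N80918 F434131) (tt N112285 (iv2 F480355)) (tt N112127 (iv3 F479628)) (tt N80924 F434129) (tt N65178 (iv5 D204911)) (tt N112354 (iv6 F480715)) (tt N116576 (iv7 F500814)))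
theorem Q101744 : ∀ i, i < 101744 → P i := stepQ 101743 Q101743 (allL N101743 (tt N65179 (iv1 D204912)) (tt N109626 (iv0 F467810)) (tt N78621 F434136) (tt N89331 F434137) (tt N78640 F434134) (tt N78483 F434133) (tt N87051 (iv6 F434135)) (tt N78654 F434132))
theorem Q101745 : ∀ i, i < 101745 → P i := stepQ 101744 Q101744 (allL N101744 (tt N65291 F434141) (tt N65182 (iv0 D204913)) (tt N77263 (iv2 F434139)) (tt N109192 (iv3 F465726)) (tt N66983 F434138) (tt N109191 (iv5 F465722)) (tt N66987 (iv6 F434140)) (tt N77264 (iv7 F434142)))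
theorem Q101746 : ∀ i, i < 101746 → P i := stepQ 101745 Q101745 (allL N101745 (tt N65182 (iv1 D204914)) (tt N65291 F434143) (tt N77264 (iv2 F434147)) (tt N72160 F434146) (tt N110255 (iv4 F470659)) (tt N77053 (iv5 F434145)) (tt N112166 (iv6 F479852)) (tt N77263 F434144))
theorem Q101747 : ∀ i, i < 101747 → P i := stepQ 101746 Q101746 (allL N101746 (tt N77264 (iv1 F434151)) (tt N77263 F434152) (tt N65291 F434148) (tt N104873 (iv3 F447742)) (tt N65302 F434149) (tt N65183 F434150) (tt N113292 (iv6 F484882)) (tt N65182 (iv7 D204915)))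
theorem Q101748 : ∀ i, i < 101748 → P i := stepQ 101747 Q101747 (allL N101747 (tt N107962 F460495) (tt N79569 (iv0 F455698)) (tt N77271 F434153) (tt N71697 F434154) (tt N112163 (iv4 F479838)) (tt N91745 F434155) (tt N65187 (iv6 D204916)) (tt N107963 F460499))
theorem Q101749 : ∀ i, i < 101749 → P i := stepQ 101748 Q101748 (allL N101748 (tt N65195 (iv1 F434160)) (tt N65194 F434161) (tt N65197 F434156) (tt N65208 F434157) (tt N103995 (iv4 F443700)) (tt N65190 F434158) (tt N65197 F434159) (tt N65189 (iv7 D204917)))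
theorem Q101750 : ∀ i, i < 101750 → P i := stepQ 101749 Q101749 (allL N101749 (tt N65191 (iv1 D204918)) (tt N83963 F434162) (tt N81369 F434166) (tt N69612 (iv3 F434165)) (tt N94145 F434164) (tt N89641 (iv5 F434168)) (tt N69611 F434167) (tt N79115 F434163))
theorem Q101751 : ∀ i, i < 101751 → P i := stepQ 101750 Q101750 (allL N101750 (tt N89349 F434173) (tt N89643 F434172) (tt N110232 (iv2 F470549)) (tt N65192 F434169) (tt N89063 F434171) (tt N65191 (iv5 D204919)) (tt N89063 F434170) (tt N106614 F455057))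
theorem Q101752 : ∀ i, i < 101752 → P i := stepQ 101751 Q101751 (allL N101751 (tt N90027 (iv1 F434176)) (tt N65192 (iv0 D204920)) (tt N81382 (iv2 F434175)) (tt N89889 F434178) (tt N109486 (iv4 F467212)) (tt N109475 (iv5 F467156)) (tt N90623 F434174) (tt N90025 F434177))
theorem Q101753 : ∀ i, i < 101753 → P i := stepQ 101752 Q101752 (allL N101752 (tt N75877 F434183) (tt N75880 F434185) (tt N90026 F434179) (tt N71878 F434180) (tt N65192 (iv4 D204921)) (tt N71877 F434184) (tt N71878 F434181) (tt N99142 F434182))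
theorem Q101754 : ∀ i, i < 101754 → P i := stepQ 101753 Q101753 (allL N101753 (tt N73816 F434191) (tt N73814 (iv0 F434192)) (tt N73817 F434186) (tt N73715 F434187) (tt N75930 F434188) (tt N75230 F434189) (tt N65194 (iv6 D204922)) (tt N73806 F434190))
theorem Q101755 : ∀ i, i < 101755 → P i := stepQ 101754 Q101754 (allL N101754 (tt N100343 F434196) (tt N103973 (iv0 F443595)) (tt N97124 F434193) (tt N79971 F434194) (tt N90739 F434197) (tt N65196 (iv5 D204923)) (tt N87706 F434195) (tt N103994 (iv7 F443693)))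
theorem Q101756 : ∀ i, i < 101756 → P i := stepQ 101755 Q101755 (allL N101755 (tt N78680 F434202) (tt N78678 (iv0 F434203)) (tt N102604 (iv2 F437864)) (tt N65202 (iv3 D204924)) (tt N76079 F434198) (tt N78699 F434199) (tt N99762 F434200) (tt N77221 F434201))
theorem Q101757 : ∀ i, i < 101757 → P i := stepQ 101756 Q101756 (allL N101756 (tt N88658 (iv1 F434208)) (tt N83976 (iv0 F434207)) (tt N88660 F434204) (tt N65205 (iv3 D204925)) (tt N119666 (iv4 F516803)) (tt N89718 F434205) (tt N114969 (iv6 F492825)) (tt N77227 F434206))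
theorem Q101758 : ∀ i, i < 101758 → P i := stepQ 101757 Q101757 (allL N101757 (tt N86021 F434209) (tt N86007 F434210) (tt N114432 F490130) (tt N65206 (iv3 D204926)) (tt N102939 (iv4 F439347)) (tt N102403 (iv5 F437091)) (tt N102404 (iv6 F437093)) (tt N113142 (iv7 F484163)))
theorem Q101759 : ∀ i, i < 101759 → P i := stepQ 101758 Q101758 (allL N101758 (tt N85066 F434214) (tt N98409 F434215) (tt N73787 F434211) (tt N98413 F434212) (tt N120399 (iv4 F520580)) (tt N65207 (iv5 D204927)) (tt N104092 (iv6 F444140)) (tt N77244 F434213))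
theorem Q101760 : ∀ i, i < 101760 → P i := stepQ 101759 Q101759 (allL N101759 (tt N98314 F434219) (tt N98382 (iv0 F434220)) (tt N94433 F434216) (tt N65212 F434217) (tt N105046 (iv4 F448546)) (tt N100646 F434218) (tt N65209 (iv6 D204928)) (tt N108340 (iv7 F462147)))
theorem Q101761 : ∀ i, i < 101761 → P i := stepQ 101760 Q101760 (allL N101760 (tt N103906 F443304) (tt N103907 (iv0 F443312)) (tt N105711 (iv2 F451366)) (tt N65215 F434221) (tt N100690 F434222) (tt N110158 (iv5 F470216)) (tt N65214 (iv6 D204929)) (tt N111971 (iv7 F478911)))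
theorem Q101762 : ∀ i, i < 101762 → P i := stepQ 101761 Q101761 (allL N101761 (tt N95068 F434225) (tt N110642 (iv0 F472555)) (tt N112019 (iv2 F479101)) (tt N65218 F434223) (tt N112023 (iv4 F479121)) (tt N65217 (iv5 D204930)) (tt N112023 (iv6 F479123)) (tt N100832 F434224))
theorem Q101763 : ∀ i, i < 101763 → P i := stepQ 101762 Q101762 (allL N101762 (tt N73609 (iv1 F434233)) (tt N75505 F434234) (tt N65283 F434228) (tt N82544 F434229) (tt N65220 F434230) (tt N82543 F434231) (tt N65219 (iv6 D204932)) (tt N75181 F434232))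
theorem Q101764 : ∀ i, i < 101764 → P i := stepQ 101763 Q101763 (allL N101763 (tt N83258 F434239) (tt N83256 F434240) (tt N101258 F434235) (tt N84842 F434236) (tt N65225 (iv4 D204933)) (tt N101422 F434237) (tt N84841 (iv6 F434241)) (tt N77198 F434238))
theorem Q101765 : ∀ i, i < 101765 → P i := stepQ 101764 Q101764 (allL N101764 (tt N107452 F458389) (tt N112924 (iv0 F483289)) (tt N113465 F485610) (tt N78302 F434242) (tt N84841 F434243) (tt N77420 F434244) (tt N65225 (iv6 D204934)) (tt N85357 F434245))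
theorem Q101766 : ∀ i, i < 101766 → P i := stepQ 101765 Q101765 (allL N101765 (tt N88493 F434249) (tt N103892 (iv0 F443246)) (tt N65227 F434246) (tt N88849 F434247) (tt N94557 F434250) (tt N65226 (iv5 D204935)) (tt N120543 D223802) (tt N89672 F434248))
theorem Q101767 : ∀ i, i < 101767 → P i := stepQ 101766 Q101766 (allL N101766 (tt N65227 (iv1 D204936)) (tt N89672 F434251) (tt N103892 (iv2 F443242)) (tt N89734 F434255) (tt N101372 F434254) (tt N69187 F434253) (tt N119229 (iv6 F514488)) (tt N88493 F434252))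
theorem Q101768 : ∀ i, i < 101768 → P i := stepQ 101767 Q101767 (allL N101767 (tt N119226 F514474) (tt N120544 D223803) (tt N120543 (iv2 F521358)) (tt N65229 F434256) (tt N118648 (iv4 F511331)) (tt N113088 (iv5 F483928)) (tt N65227 (iv6 D204937)) (tt N120545 D223804))
theorem Q101769 : ∀ i, i < 101769 → P i := stepQ 101768 Q101768 (allL N101768 (tt N99328 (iv1 F434258)) (tt N71235 F434259) (tt N107828 F459892) (tt N120545 (iv3 F521368)) (tt N73109 F434257) (tt N109395 (iv5 F466744)) (tt N113239 (iv6 F484663)) (tt N65229 (iv7 D204938)))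
theorem Q101770 : ∀ i, i < 101770 → P i := stepQ 101769 Q101769 (allL N101769 (tt N78152 F434263) (tt N78155 F434264) (tt N101795 F434380) (tt N90130 F434260) (tt N83261 F434261) (tt N65231 (iv5 D204939)) (tt N117555 (iv6 F505669)) (tt N82137 F434262))
theorem Q101771 : ∀ i, i < 101771 → P i := stepQ 101770 Q101770 (allL N101770 (tt N110835 F473373) (tt N90330 F434266) (tt N65232 (iv2 D204940)) (tt N110840 (iv3 F473398)) (tt N93394 F434265) (tt N89728 (iv5 F434267)) (tt N119064 (iv6 F513590)) (tt N110843 (iv7 F473420)))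
theorem Q101772 : ∀ i, i < 101772 → P i := stepQ 101771 Q101771 (allL N101771 (tt N89105 F434271) (tt N89108 F434273) (tt N89728 F434268) (tt N65233 F434269) (tt N79391 F434272) (tt N65232 (iv5 D204941)) (tt N85253 F434274) (tt N89726 F434270))
theorem Q101773 : ∀ i, i < 101773 → P i := stepQ 101772 Q101772 (allL N101772 (tt N119062 (iv1 F513575)) (tt N119061 (iv0 F513574)) (tt N119064 (iv2 F513586)) (tt N65234 F434275) (tt N110948 (iv4 F473920)) (tt N118156 (iv5 F508910)) (tt N65232 (iv6 D204942)) (tt N118155 F508906))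
theorem Q101774 : ∀ i, i < 101774 → P i := stepQ 101773 Q101773 (allL N101773 (tt N91479 (iv1 F434279)) (tt N91578 F434280) (tt N91576 F434276) (tt N85253 F434277) (tt N110196 (iv4 F470384)) (tt N112480 (iv5 F481265)) (tt N65233 (iv6 D204943)) (tt N77116 F434278))
theorem Q101775 : ∀ i, i < 101775 → P i := stepQ 101774 Q101774 (allL N101774 (tt N65234 (iv1 D204944)) (tt N73014 F434281) (tt N74519 (iv2 F434283)) (tt N117728 (iv3 F506655)) (tt N66686 F434282) (tt N110473 (iv5 F471745)) (tt N72991 (iv6 F434284)) (tt N110842 (iv7 F473416)))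
theorem Q101776 : ∀ i, i < 101776 → P i := stepQ 101775 Q101775 (allL N101775 (tt N99473 F434288) (tt N85670 F434289) (tt N99471 F434285) (tt N118156 (iv3 F508908)) (tt N91642 F434286) (tt N65234 (iv5 D204945)) (tt N112480 (iv6 F481266)) (tt N99472 F434287))
theorem Q101777 : ∀ i, i < 101777 → P i := stepQ 101776 Q101776 (allL N101776 (tt N74519 (iv1 F434294)) (tt N110842 F473415) (tt N73014 F434290) (tt N118155 (iv3 F508903)) (tt N65238 F434291) (tt N99472 F434292) (tt N72996 F434293) (tt N65234 (iv7 D204946)))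
theorem Q101778 : ∀ i, i < 101778 → P i := stepQ 101777 Q101777 (allL N101777 (tt N96081 F434300) (tt N78085 F434301) (tt N82156 F434295) (tt N99012 F434296) (tt N65235 (iv4 D204947)) (tt N93936 F434299) (tt N77474 F434297) (tt N96084 F434298))
theorem Q101779 : ∀ i, i < 101779 → P i := stepQ 101778 Q101778 (allL N101778 (tt N78085 F434305) (tt N96081 F434306) (tt N96084 F434302) (tt N105150 F449008) (tt N65236 (iv4 D204948)) (tt N101928 (iv5 F434977)) (tt N99353 F434303) (tt N82156 F434304))
theorem Q101780 : ∀ i, i < 101780 → P i := stepQ 101779 Q101779 (allL N101779 (tt N110320 F471032) (tt N104203 (iv0 F444675)) (tt N105714 (iv2 F451384)) (tt N65242 F434307) (tt N65251 F434308) (tt N89713 F434309) (tt N65240 (iv6 D204949)) (tt N88858 F434310))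
theorem Q101781 : ∀ i, i < 101781 → P i := stepQ 101780 Q101780 (allL N101780 (tt N112723 F482369) (tt N111932 (iv0 F478735)) (tt N74710 F434311) (tt N65259 F434312) (tt N73053 F434314) (tt N65246 (iv5 D204950)) (tt N65248 F434313) (tt N110118 (iv7 F470078)))
theorem Q101782 : ∀ i, i < 101782 → P i := stepQ 101781 Q101781 (allL N101781 (tt N114677 F491329) (tt N119032 (iv0 F513389)) (tt N89673 F434315) (tt N65253 F434316) (tt N82271 F434317) (tt N114060 F488392) (tt N65250 (iv6 D204951)) (tt N120485 (iv7 F521021)))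
theorem Q101783 : ∀ i, i < 101783 → P i := stepQ 101782 Q101782 (allL N101782 (tt N89405 F434322) (tt N82291 F434323) (tt N100864 F434318) (tt N65255 F434319) (tt N83025 F434321) (tt N65251 (iv5 D204952)) (tt N114060 F488391) (tt N88861 F434320))
theorem Q101784 : ∀ i, i < 101784 → P i := stepQ 101783 Q101783 (allL N101783 (tt N77087 F434328) (tt N76885 (iv0 F434330)) (tt N73766 F434324) (tt N82272 F434325) (tt N65253 F434326) (tt N73753 F434329) (tt N65252 (iv6 D204953)) (tt N73763 F434327))
theorem Q101785 : ∀ i, i < 101785 → P i := stepQ 101784 Q101784 (allL N101784 (tt N113239 (iv1 F484665)) (tt N65253 (iv0 D204954)) (tt N107835 (iv2 F459914)) (tt N72105 (iv3 F434333)) (tt N107822 (iv4 F459859)) (tt N82656 F434331) (tt N72099 F434332) (tt N107832 (iv7 F459906)))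
theorem Q101786 : ∀ i, i < 101786 → P i := stepQ 101785 Q101785 (allL N101785 (tt N65253 (iv1 D204955)) (tt N113239 F484664) (tt N107832 (iv2 F459905)) (tt N104071 (iv3 F444035)) (tt N107821 (iv4 F459850)) (tt N82655 F434334) (tt N120546 D223805) (tt N107835 (iv7 F459918)))
theorem Q101787 : ∀ i, i < 101787 → P i := stepQ 101786 Q101786 (allL N101786 (tt N107832 (iv1 F459909)) (tt N107835 (iv0 F459919)) (tt N113239 (iv2 F484660)) (tt N120485 (iv3 F521017)) (tt N73763 F434335) (tt N82737 F434336) (tt N107828 F459891) (tt N65253 (iv7 D204956)))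
theorem Q101788 : ∀ i, i < 101788 → P i := stepQ 101787 Q101787 (allL N101787 (tt N82252 F434341) (tt N75865 F434342) (tt N90438 F434337) (tt N65257 F434338) (tt N90430 F434340) (tt N65256 (iv5 D204957)) (tt N77112 (iv6 F434343)) (tt N90440 F434339))
theorem Q101789 : ∀ i, i < 101789 → P i := stepQ 101788 Q101788 (allL N101788 (tt N93605 F434347) (tt N119069 F513619) (tt N118412 (iv2 F510207)) (tt N65258 F434344) (tt N92395 F434345) (tt N74639 F434346) (tt N65256 (iv6 D204958)) (tt N73012 F434348))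
theorem Q101790 : ∀ i, i < 101790 → P i := stepQ 101789 Q101789 (allL N101789 (tt N65259 (iv1 D204959)) (tt N73791 F434349) (tt N66041 F434353) (tt N73207 F434354) (tt N107926 (iv4 F460319)) (tt N99046 (iv5 F434351)) (tt N78311 (iv6 F434352)) (tt N73751 F434350))
theorem Q101791 : ∀ i, i < 101791 → P i := stepQ 101790 Q101790 (allL N101790 (tt N73757 (iv1 F434357)) (tt N65261 (iv0 D204960)) (tt N73789 (iv2 F434356)) (tt N93714 (iv3 F434359)) (tt N66871 F434355) (tt N110079 (iv5 F469878)) (tt N109259 (iv6 F466048)) (tt N73729 F434358))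
theorem Q101792 : ∀ i, i < 101792 → P i := stepQ 101791 Q101791 (allL N101791 (tt N94402 F434363) (tt N94471 F434364) (tt N94458 F434360) (tt N94312 F434361) (tt N65267 F434362) (tt N117917 (iv5 F507589)) (tt N65265 (iv6 D204961)) (tt N108036 (iv7 F460829)))
theorem Q101793 : ∀ i, i < 101793 → P i := stepQ 101792 Q101792 (allL N101792 (tt N105442 (iv1 F450286)) (tt N105435 (iv0 F450257)) (tt N65268 (iv2 D204962)) (tt N89771 F434365) (tt N94190 F434366) (tt N89768 (iv5 F434368)) (tt N108995 (iv6 F464820)) (tt N89767 F434367))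
theorem Q101794 : ∀ i, i < 101794 → P i := stepQ 101793 Q101793 (allL N101793 (tt N82258 F434374) (tt N82257 F434373) (tt N89768 F434369) (tt N65269 F434370) (tt N90429 F434371) (tt N65268 (iv5 D204963)) (tt N106931 (iv6 F456328)) (tt N89766 F434372))
theorem Q101795 : ∀ i, i < 101795 → P i := stepQ 101794 Q101794 (allL N101794 (tt N108128 F461227) (tt N117862 (iv0 F507331)) (tt N108995 (iv2 F464818)) (tt N65270 F434375) (tt N94312 F434376) (tt N102263 (iv5 F436445)) (tt N65268 (iv6 D204964)) (tt N99469 F434377))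
theorem Q101796 : ∀ i, i < 101796 → P i := stepQ 101795 Q101795 (allL N101795 (tt N65276 (iv1 F434381)) (tt N65275 (iv0 D204965)) (tt N101769 (iv2 F434380)) (tt N93359 (iv3 F434383)) (tt N89320 F434379) (tt N72223 F434378) (tt N94869 (iv6 F434384)) (tt N94692 F434382))
theorem Q101797 : ∀ i, i < 101797 → P i := stepQ 101796 Q101796 (allL N101796 (tt N118197 F509096) (tt N114909 (iv0 F492481)) (tt N109655 (iv2 F467955)) (tt N65280 (iv3 D204966)) (tt N118125 (iv4 F508738)) (tt N93133 F434385) (tt N109655 (iv6 F467957)) (tt N120400 (iv7 F520586)))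
theorem Q101798 : ∀ i, i < 101798 → P i := stepQ 101797 Q101797 (allL N101797 (tt N120413 (iv1 F520647)) (tt N120412 F520645) (tt N120411 (iv2 F520637)) (tt N109655 (iv3 F467956)) (tt N65281 F434386) (tt N109654 (iv5 F467944)) (tt N65280 (iv6 D204967)) (tt N120410 (iv7 F520635)))
theorem Q101799 : ∀ i, i < 101799 → P i := stepQ 101798 Q101798 (allL N101798 (tt N95052 F434389) (tt N106936 (iv0 F456349)) (tt N100831 F434388) (tt N112017 (iv3 F479096)) (tt N120401 (iv4 F520590)) (tt N111522 (iv5 F476712)) (tt N65282 (iv6 D204971)) (tt N112020 (iv7 F479106)))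
theorem Q101800 : ∀ i, i < 101800 → P i := stepQ 101799 Q101799 (allL N101799 (tt N99354 F434394) (tt N107916 F460272) (tt N82543 F434390) (tt N94834 F434391) (tt N82549 F434392) (tt N65283 (iv5 D204972)) (tt N111522 (iv6 F476713)) (tt N75507 F434393))
theorem Q101801 : ∀ i, i < 101801 → P i := stepQ 101800 Q101800 (allL N101800 (tt N72277 (iv1 F434399)) (tt N72279 F434400) (tt N82163 F434395) (tt N96284 F434396) (tt N65287 F434397) (tt N107620 (iv5 F458964)) (tt N65286 (iv6 D204973)) (tt N74872 F434398))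
theorem Q101802 : ∀ i, i < 101802 → P i := stepQ 101801 Q101801 (allL N101801 (tt N109727 (iv1 F468312)) (tt N77312 F445881) (tt N107111 (iv2 F457027)) (tt N65290 (iv3 D204974)) (tt N71116 F434401) (tt N108062 F460945) (tt N89638 F434402) (tt N82165 F434403))
theorem Q101803 : ∀ i, i < 101803 → P i := stepQ 101802 Q101802 (allL N101802 (tt N106085 (iv1 F453048)) (tt N113155 (iv0 F484241)) (tt N113292 (iv2 F484879)) (tt N65293 F434404) (tt N65303 F434405) (tt N87049 F434406) (tt N65291 (iv6 D204975)) (tt N77274 F434407))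
theorem Q101804 : ∀ i, i < 101804 → P i := stepQ 101803 Q101803 (allL N101803 (tt N108340 (iv1 F462150)) (tt N94433 (iv0 F434412)) (tt N98314 F434408) (tt N65294 (iv3 D204976)) (tt N104648 (iv4 F446679)) (tt N74877 F434409) (tt N77021 F434410) (tt N98382 F434411))
theorem Q101805 : ∀ i, i < 101805 → P i := stepQ 101804 Q101804 (allL N101804 (tt N74979 F434415) (tt N74922 F434416) (tt N107033 (iv2 F456718)) (tt N120396 F520563) (tt N65294 (iv4 D204977)) (tt N74972 F434414) (tt N77681 F434413) (tt N107140 (iv7 F457160)))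
theorem Q101806 : ∀ i, i < 101806 → P i := stepQ 101805 Q101805 (allL N101805 (tt N74922 F434420) (tt N74979 F434421) (tt N107140 F457163) (tt N99903 F434417) (tt N65295 (iv4 D204978)) (tt N74875 F434418) (tt N99441 F434419) (tt N107033 (iv7 F456720)))
theorem Q101807 : ∀ i, i < 101807 → P i := stepQ 101806 Q101806 (allL N101806 (tt N82139 (iv1 F434423)) (tt N65300 (iv0 D204979)) (tt N78723 F434425) (tt N81543 (iv3 F434427)) (tt N118650 (iv4 F511343)) (tt N65347 F434422) (tt N95758 (iv6 F434424)) (tt N78720 F434426))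
theorem Q101808 : ∀ i, i < 101808 → P i := stepQ 101807 Q101807 (allL N101807 (tt N65300 (iv1 D204980)) (tt N82139 F434428) (tt N78720 F434434) (tt N101210 (iv3 F434430)) (tt N94498 (iv4 F434431)) (tt N65348 (iv5 F434432)) (tt N74713 (iv6 F434433)) (tt N78723 F434429))
theorem Q101809 : ∀ i, i < 101809 → P i := stepQ 101808 Q101808 (allL N101808 (tt N79856 (iv1 F434440)) (tt N79855 F434439) (tt N65313 F434435) (tt N112428 F481050) (tt N65308 (iv4 D204981)) (tt N82127 F434436) (tt N80073 F434437) (tt N79852 F434438))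
theorem Q101810 : ∀ i, i < 101810 → P i := stepQ 101809 Q101809 (allL N101809 (tt N79783 (iv1 F434447)) (tt N80970 (iv0 F434446)) (tt N67471 F434441) (tt N65311 (iv3 D204982)) (tt N67470 F434445) (tt N75844 F434442) (tt N81782 F434443) (tt N79883 F434444))
theorem Q101811 : ∀ i, i < 101811 → P i := stepQ 101810 Q101810 (allL N101810 (tt N109804 (iv1 F468702)) (tt N95417 F434451) (tt N79887 F434448) (tt N117635 (iv3 F506123)) (tt N65311 (iv4 D204983)) (tt N111143 (iv5 F474909)) (tt N81783 F434449) (tt N79884 F434450))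
theorem Q101812 : ∀ i, i < 101812 → P i := stepQ 101811 Q101811 (allL N101811 (tt N95417 F434454) (tt N109804 (iv0 F468701)) (tt N79884 F434452) (tt N103334 (iv3 F441182)) (tt N65312 (iv4 D204984)) (tt N112713 (iv5 F482315)) (tt N118300 (iv6 F509588)) (tt N79887 F434453))
theorem Q101813 : ∀ i, i < 101813 → P i := stepQ 101812 Q101812 (allL N101812 (tt N79852 (iv1 F434457)) (tt N65313 (iv0 D204985)) (tt N79856 F434459) (tt N68542 F434456) (tt N68545 F434455) (tt N104410 (iv5 F445645)) (tt N81012 (iv6 F434458)) (tt N79855 (iv7 F434460)))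
theorem Q101814 : ∀ i, i < 101814 → P i := stepQ 101813 Q101813 (allL N101813 (tt N65313 (iv1 D204986)) (tt N79852 F434461) (tt N79855 F434465) (tt N93155 (iv3 F434464)) (tt N84138 F434463) (tt N93154 F434466) (tt N112038 (iv6 F479198)) (tt N79856 F434462))
theorem Q101815 : ∀ i, i < 101815 → P i := stepQ 101814 Q101814 (allL N101814 (tt N84667 F434471) (tt N78197 F434472) (tt N82127 F434467) (tt N79868 F434468) (tt N82116 F434470) (tt N65313 (iv5 D204987)) (tt N112441 (iv6 F481127)) (tt N79857 F434469))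
theorem Q101816 : ∀ i, i < 101816 → P i := stepQ 101815 Q101815 (allL N101815 (tt N69290 F434478) (tt N90517 (iv0 F434479)) (tt N81525 F434473) (tt N65314 (iv3 D204988)) (tt N81516 F434474) (tt N70109 F434475) (tt N79379 F434476) (tt N77599 F434477))
theorem Q101817 : ∀ i, i < 101817 → P i := stepQ 101816 Q101816 (allL N101816 (tt N101136 F434484) (tt N106954 F456427) (tt N106987 (iv2 F456528)) (tt N69409 F434480) (tt N65316 (iv4 D204989)) (tt N72075 F434482) (tt N67649 F434481) (tt N104132 (iv7 F444348)))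
theorem Q101818 : ∀ i, i < 101818 → P i := stepQ 101817 Q101817 (allL N101817 (tt N65320 (iv1 D204990)) (tt N82116 F434485) (tt N82125 F434489) (tt N96930 (iv3 F434488)) (tt N112816 (iv4 F482754)) (tt N65329 F434487) (tt N112452 F481164) (tt N82126 F434486))
theorem Q101819 : ∀ i, i < 101819 → P i := stepQ 101818 Q101818 (allL N101818 (tt N78197 F434494) (tt N84667 F434495) (tt N79857 F434490) (tt N98304 F434491) (tt N65320 (iv4 D204991)) (tt N79852 F434492) (tt N111229 (iv6 F475328)) (tt N82127 F434493))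
theorem Q101820 : ∀ i, i < 101820 → P i := stepQ 101819 Q101819 (allL N101819 (tt N66934 F434500) (tt N67044 (iv0 F434501)) (tt N82150 F434496) (tt N100376 F434497) (tt N67028 F434498) (tt N66726 F434499) (tt N65323 (iv6 D204992)) (tt N110044 (iv7 F469703)))
theorem Q101821 : ∀ i, i < 101821 → P i := stepQ 101820 Q101820 (allL N101820 (tt N82136 F434506) (tt N110063 F469801) (tt N103122 (iv2 F440172)) (tt N65327 F434503) (tt N101233 F434505) (tt N65326 (iv5 D204993)) (tt N101232 F434507) (tt N82186 F434504))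
theorem Q101822 : ∀ i, i < 101822 → P i := stepQ 101821 Q101821 (allL N101821 (tt N75675 F434511) (tt N76252 (iv0 F434512)) (tt N82172 F434508) (tt N117582 F505833) (tt N94453 F434509) (tt N115893 (iv5 F497451)) (tt N65329 (iv6 D204994)) (tt N77709 F434510))
theorem Q101823 : ∀ i, i < 101823 → P i := stepQ 101822 Q101822 (allL N101822 (tt N78261 F434516) (tt N111726 (iv0 F477689)) (tt N107228 (iv2 F457546)) (tt N81600 F434513) (tt N65330 (iv4 D204995)) (tt N91995 F434515) (tt N115732 (iv6 F496569)) (tt N82176 F434514))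
theorem Q101824 : ∀ i, i < 101824 → P i := stepQ 101823 Q101823 (allL N101823 (tt N95406 F461694) (tt N108250 F461698) (tt N106866 (iv2 F456065)) (tt N96080 F434517) (tt N92511 (iv4 F434520)) (tt N65331 (iv5 D204996)) (tt N92509 F434518) (tt N99571 F434519))
theorem Q101825 : ∀ i, i < 101825 → P i := stepQ 101824 Q101824 (allL N101824 (tt N65342 F434523) (tt N94100 F434524) (tt N110420 (iv2 F471490)) (tt N65334 (iv3 D204997)) (tt N77261 F434521) (tt N112722 (iv5 F482358)) (tt N75464 (iv6 F434525)) (tt N82191 F434522))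
theorem Q101826 : ∀ i, i < 101826 → P i := stepQ 101825 Q101825 (allL N101825 (tt N94094 F434530) (tt N75678 (iv0 F434531)) (tt N82195 F434526) (tt N75464 F434527) (tt N113367 (iv4 F485205)) (tt N85799 F434528) (tt N65334 (iv6 D204998)) (tt N77720 F434529))
theorem Q101827 : ∀ i, i < 101827 → P i := stepQ 101826 Q101826 (allL N101826 (tt N65338 (iv1 D204999)) (tt N65343 F434532) (tt N94574 (iv2 F434535)) (tt N105442 (iv3 F450282)) (tt N94076 F434534) (tt N120547 D223806) (tt N77737 F434536) (tt N94571 F434533))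
theorem Q101828 : ∀ i, i < 101828 → P i := stepQ 101827 Q101827 (allL N101827 (tt N93454 F434539) (tt N105383 (iv0 F449988)) (tt N71228 F434537) (tt N65338 (iv3 D205000)) (tt N70859 F434538) (tt N95256 (iv5 F434541)) (tt N70987 (iv6 F434542)) (tt N71225 F434540))
theorem Q101829 : ∀ i, i < 101829 → P i := stepQ 101828 Q101828 (allL N101828 (tt N105445 F450297) (tt N120548 D223807) (tt N114298 (iv2 F489461)) (tt N95256 F434543) (tt N92253 F434544) (tt N65338 (iv5 D205001)) (tt N98342 (iv6 F434546)) (tt N105204 (iv7 F449198)))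
theorem Q101830 : ∀ i, i < 101830 → P i := stepQ 101829 Q101829 (allL N101829 (tt N99465 (iv1 F434551)) (tt N102768 (iv0 F438561)) (tt N93265 F434547) (tt N70987 F434548) (tt N65340 F434549) (tt N116783 (iv5 F501810)) (tt N65338 (iv6 D205002)) (tt N71891 (iv7 F434550)))
theorem Q101831 : ∀ i, i < 101831 → P i := stepQ 101830 Q101830 (allL N101830 (tt N94574 (iv1 F434555)) (tt N94571 F434556) (tt N65343 F434552) (tt N71225 F434553) (tt N65341 F434554) (tt N105204 (iv5 F449199)) (tt N79601 (iv6 F434557)) (tt N65338 (iv7 D205003)))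
theorem Q101832 : ∀ i, i < 101832 → P i := stepQ 101831 Q101831 (allL N101831 (tt N65344 (iv1 F434560)) (tt N65339 (iv0 D205004)) (tt N78707 (iv2 F434559)) (tt N82205 F434564) (tt N80849 (iv4 F434562)) (tt N100434 F434558) (tt N78332 (iv6 F434563)) (tt N78217 F434561))
theorem Q101833 : ∀ i, i < 101833 → P i := stepQ 101832 Q101832 (allL N101832 (tt N104590 (iv1 F446439)) (tt N99636 (iv0 F434568)) (tt N67828 F434565) (tt N111919 (iv3 F478645)) (tt N105213 (iv4 F449228)) (tt N67818 F434567) (tt N65339 (iv6 D205005)) (tt N67825 F434566))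
theorem Q101834 : ∀ i, i < 101834 → P i := stepQ 101833 Q101833 (allL N101833 (tt N102838 (iv1 F438881)) (tt N66519 (iv0 F434574)) (tt N67829 F434569) (tt N71339 F434570) (tt N97792 F434573) (tt N65340 (iv5 D205006)) (tt N67818 F434571) (tt N67909 F434572))
theorem Q101835 : ∀ i, i < 101835 → P i := stepQ 101834 Q101834 (allL N101834 (tt N112163 F479842) (tt N112162 (iv0 F479834)) (tt N112170 F479875) (tt N65345 F434575) (tt N96207 F434576) (tt N65848 F434577) (tt N65342 (iv6 D205007)) (tt N79605 (iv7 F434578)))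
theorem Q101836 : ∀ i, i < 101836 → P i := stepQ 101835 Q101835 (allL N101835 (tt N120548 (iv1 F521384)) (tt N105445 (iv0 F450296)) (tt N105204 (iv2 F449196)) (tt N94596 F434579) (tt N105201 (iv4 F449187)) (tt N65343 (iv5 D205008)) (tt N114555 (iv6 F490755)) (tt N114298 F489464))
theorem Q101837 : ∀ i, i < 101837 → P i := stepQ 101836 Q101836 (allL N101836 (tt N118987 (iv1 F513139)) (tt N108126 (iv0 F461219)) (tt N79601 F434580) (tt N94600 F434581) (tt N65345 F434582) (tt N118345 (iv5 F509819)) (tt N65343 (iv6 D205009)) (tt N79606 F434583))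
theorem Q101838 : ∀ i, i < 101838 → P i := stepQ 101837 Q101837 (allL N101837 (tt N70464 F434588) (tt N75256 (iv0 F434589)) (tt N81435 F434587) (tt N65347 (iv3 D205010)) (tt N109237 (iv4 F465923)) (tt N81543 F434584) (tt N75201 F434585) (tt N78718 F434586))
theorem Q101839 : ∀ i, i < 101839 → P i := stepQ 101838 Q101838 (allL N101838 (tt N78697 (iv1 F434593)) (tt N65349 (iv0 D205011)) (tt N78696 (iv2 F434592)) (tt N90869 F434591) (tt N94054 F434590) (tt N106990 F456543) (tt N106991 (iv6 F456545)) (tt N78695 F434594))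
theorem Q101840 : ∀ i, i < 101840 → P i := stepQ 101839 Q101839 (allL N101839 (tt N105091 (iv1 F448753)) (tt N105085 F448722) (tt N104321 (iv2 F445231)) (tt N78700 F434595) (tt N92250 F434596) (tt N65349 (iv5 D205012)) (tt N107015 (iv6 F456649)) (tt N78698 F434597))
theorem Q101841 : ∀ i, i < 101841 → P i := stepQ 101840 Q101840 (allL N101840 (tt N75681 (iv1 F434600)) (tt N65351 (iv0 D205013)) (tt N75461 F434603) (tt N80128 (iv3 F434601)) (tt N117600 (iv4 F505934)) (tt N65842 F434598) (tt N80127 F434599) (tt N75680 (iv7 F434602)))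
theorem Q101842 : ∀ i, i < 101842 → P i := stepQ 101841 Q101841 (allL N101841 (tt N65351 (iv1 D205014)) (tt N75681 F434604) (tt N75680 F434609) (tt N75322 (iv3 F434607)) (tt N116826 (iv4 F502030)) (tt N65843 F434606) (tt N80306 (iv6 F434608)) (tt N75461 F434605))
theorem Q101843 : ∀ i, i < 101843 → P i := stepQ 101842 Q101842 (allL N101842 (tt N83927 F434615) (tt N88920 F434616) (tt N88898 F434610) (tt N65356 F434611) (tt N67713 F434612) (tt N65355 (iv5 D205015)) (tt N70385 F434613) (tt N75864 F434614))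
theorem Q101844 : ∀ i, i < 101844 → P i := stepQ 101843 Q101843 (allL N101843 (tt N90440 F434620) (tt N90438 F434621) (tt N82252 F434617) (tt N120547 (iv3 F521378)) (tt N65356 (iv4 D205016)) (tt N105442 (iv5 F450284)) (tt N70389 F434618) (tt N75865 F434619))
theorem Q101845 : ∀ i, i < 101845 → P i := stepQ 101844 Q101844 (allL N101844 (tt N83923 (iv1 F434627)) (tt N88899 (iv0 F434628)) (tt N88900 F434622) (tt N65358 (iv3 D205017)) (tt N67866 F434626) (tt N89420 F434623) (tt N75111 F434624) (tt N82256 F434625))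
theorem Q101846 : ∀ i, i < 101846 → P i := stepQ 101845 Q101845 (allL N101845 (tt N89766 F434632) (tt N89768 F434633) (tt N82258 F434629) (tt N120548 F521388) (tt N65358 (iv4 D205018)) (tt N94366 F434631) (tt N118863 (iv6 F512463)) (tt N82257 F434630))
theorem Q101847 : ∀ i, i < 101847 → P i := stepQ 101846 Q101846 (allL N101846 (tt N89768 F434637) (tt N89766 F434638) (tt N82257 F434634) (tt N98343 F434639) (tt N65359 (iv4 D205019)) (tt N94369 F434635) (tt N118923 (iv6 F512768)) (tt N82258 F434636))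
theorem Q101848 : ∀ i, i < 101848 → P i := stepQ 101847 Q101847 (allL N101847 (tt N70395 F434644) (tt N70406 (iv0 F434645)) (tt N70404 F434640) (tt N65363 (iv3 D205020)) (tt N86342 F434641) (tt N101092 F434642) (tt N86340 (iv6 F434646)) (tt N70403 F434643))
theorem Q101849 : ∀ i, i < 101849 → P i := stepQ 101848 Q101848 (allL N101848 (tt N95133 F434650) (tt N118641 (iv0 F511296)) (tt N82272 F434647) (tt N86340 F434648) (tt N65364 F434649) (tt N118350 F509851) (tt N65363 (iv6 D205021)) (tt N118355 (iv7 F509878)))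
theorem Q101850 : ∀ i, i < 101850 → P i := stepQ 101849 Q101849 (allL N101849 (tt N82274 (iv1 F434655)) (tt N82273 F434656) (tt N70420 F434651) (tt N83933 F434652) (tt N118355 (iv4 F509879)) (tt N71388 F434653) (tt N70195 F434654) (tt N65364 (iv7 D205022)))
theorem Q101851 : ∀ i, i < 101851 → P i := stepQ 101850 Q101850 (allL N101850 (tt N67597 F434663) (tt N67599 F434664) (tt N68968 F434659) (tt N67167 F434660) (tt N65369 (iv4 D205023)) (tt N95024 F434662) (tt N104315 (iv6 F445201)) (tt N67037 F434661))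
theorem Q101852 : ∀ i, i < 101852 → P i := stepQ 101851 Q101851 (allL N101851 (tt N73794 (iv1 F434668)) (tt N100134 (iv0 F434667)) (tt N110198 F470392) (tt N112720 (iv3 F482345)) (tt N65372 F434665) (tt N108979 (iv5 F464746)) (tt N65371 (iv6 D205024)) (tt N66732 F434666))
theorem Q101853 : ∀ i, i < 101853 → P i := stepQ 101852 Q101852 (allL N101852 (tt N112865 (iv1 F483035)) (tt N99623 (iv0 F434672)) (tt N74311 F434669) (tt N117821 (iv3 F507121)) (tt N65375 F434670) (tt N116540 (iv5 F500679)) (tt N65374 (iv6 D205025)) (tt N74313 F434671))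
theorem Q101854 : ∀ i, i < 101854 → P i := stepQ 101853 Q101853 (allL N101853 (tt N119265 (iv1 F514711)) (tt N110654 F472615) (tt N117889 (iv2 F507450)) (tt N65377 (iv3 D205026)) (tt N104971 (iv4 F448205)) (tt N94368 F434673) (tt N110106 (iv6 F470017)) (tt N82310 F434674))
theorem Q101855 : ∀ i, i < 101855 → P i := stepQ 101854 Q101854 (allL N101854 (tt N74284 (iv1 F434679)) (tt N74278 (iv0 F434678)) (tt N74281 F434675) (tt N110106 (iv3 F470016)) (tt N72701 F434676) (tt N110105 (iv5 F470013)) (tt N65377 (iv6 D205027)) (tt N74282 F434677))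
theorem Q101856 : ∀ i, i < 101856 → P i := stepQ 101855 Q101855 (allL N101855 (tt N65379 (iv1 D205028)) (tt N77858 F434680) (tt N82313 F434684) (tt N92467 (iv3 F434683)) (tt N75162 (iv4 F434682)) (tt N94206 (iv5 F434685)) (tt N112041 (iv6 F479213)) (tt N82314 F434681))
theorem Q101857 : ∀ i, i < 101857 → P i := stepQ 101856 Q101856 (allL N101856 (tt N92319 F434691) (tt N92311 (iv0 F434693)) (tt N92470 F434687) (tt N92491 F434688) (tt N70124 F434689) (tt N92492 F434690) (tt N65380 (iv6 D205029)) (tt N93282 F434692))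
theorem Q101858 : ∀ i, i < 101858 → P i := stepQ 101857 Q101857 (allL N101857 (tt N74723 (iv1 F434697)) (tt N65381 (iv0 D205030)) (tt N104648 F446681) (tt N92478 F434698) (tt N98314 F434695) (tt N98846 F434694) (tt N77765 (iv6 F434696)) (tt N104649 (iv7 F446685)))
theorem Q101859 : ∀ i, i < 101859 → P i := stepQ 101858 Q101858 (allL N101858 (tt N65381 (iv1 D205031)) (tt N74723 F434699) (tt N104649 (iv2 F446687)) (tt N118474 F510567) (tt N98382 F434700) (tt N107359 (iv5 F458086)) (tt N107580 F458836) (tt N104648 F446683))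
theorem Q101860 : ∀ i, i < 101860 → P i := stepQ 101859 Q101859 (allL N101859 (tt N104649 (iv1 F446684)) (tt N104648 F446680) (tt N74723 F434701) (tt N73326 F434702) (tt N65382 F434703) (tt N69712 F434704) (tt N74722 F434705) (tt N65381 (iv7 D205032)))
theorem Q101861 : ∀ i, i < 101861 → P i := stepQ 101860 Q101860 (allL N101860 (tt N67449 F434709) (tt N67452 F434710) (tt N101540 F434706) (tt N112704 (iv3 F482258)) (tt N103908 (iv4 F443314)) (tt N65384 (iv5 D205033)) (tt N79186 F434707) (tt N82231 F434708))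
theorem Q101862 : ∀ i, i < 101862 → P i := stepQ 101861 Q101861 (allL N101861 (tt N101210 F434714) (tt N106160 F453397) (tt N110255 (iv2 F470657)) (tt N65388 (iv3 D205034)) (tt N77264 F434713) (tt N66984 F434711) (tt N110422 F471506) (tt N66983 F434712))
theorem Q101863 : ∀ i, i < 101863 → P i := stepQ 101862 Q101862 (allL N101862 (tt N104862 F447680) (tt N73424 (iv0 F434717)) (tt N79451 F434715) (tt N110422 F471505) (tt N102876 (iv4 F439059)) (tt N100154 F434716) (tt N65388 (iv6 D205035)) (tt N105349 (iv7 F449823)))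
theorem Q101864 : ∀ i, i < 101864 → P i := stepQ 101863 Q101863 (allL N101863 (tt N65390 (iv1 D205036)) (tt N92493 F434718) (tt N108332 F462110) (tt N95786 (iv3 F434722)) (tt N74682 F434721) (tt N85733 F434720) (tt N112193 (iv6 F479992)) (tt N85732 F434719))
theorem Q101865 : ∀ i, i < 101865 → P i := stepQ 101864 Q101864 (allL N101864 (tt N65391 (iv1 D205037)) (tt N82233 (iv0 F434727)) (tt N82232 F434726) (tt N107923 (iv3 F460308)) (tt N108354 (iv4 F462213)) (tt N92231 F434724) (tt N76152 (iv6 F434725)) (tt N82221 F434723))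
theorem Q101866 : ∀ i, i < 101866 → P i := stepQ 101865 Q101865 (allL N101865 (tt N82221 (iv1 F434733)) (tt N82232 F434732) (tt N65391 (iv2 D205038)) (tt N82234 F434728) (tt N106798 (iv4 F455726)) (tt N75551 F434729) (tt N91533 F434730) (tt N82233 F434731))
theorem Q101867 : ∀ i, i < 101867 → P i := stepQ 101866 Q101866 (allL N101866 (tt N111014 (iv1 F474259)) (tt N116146 (iv0 F498737)) (tt N65415 F434734) (tt N115424 (iv3 F495124)) (tt N65397 (iv4 D205039)) (tt N120549 D223808) (tt N82003 F434735) (tt N65411 F434736))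
theorem Q101868 : ∀ i, i < 101868 → P i := stepQ 101867 Q101867 (allL N101867 (tt N80778 (iv1 F434741)) (tt N79763 F434742) (tt N80983 F434737) (tt N65398 (iv3 D205040)) (tt N108674 (iv4 F463487)) (tt N88822 F434738) (tt N80961 F434739) (tt N65414 F434740))
theorem Q101869 : ∀ i, i < 101869 → P i := stepQ 101868 Q101868 (allL N101868 (tt N116146 (iv1 F498738)) (tt N111014 (iv0 F474258)) (tt N65411 F434743) (tt N74224 F434746) (tt N65398 (iv4 D205041)) (tt N107799 (iv5 F459769)) (tt N74222 F434744) (tt N65415 F434745))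
theorem Q101870 : ∀ i, i < 101870 → P i := stepQ 101869 Q101869 (allL N101869 (tt N80045 (iv1 F434751)) (tt N65400 (iv0 D205042)) (tt N80044 (iv2 F434750)) (tt N75337 F434748) (tt N120550 D223809) (tt N65418 F434747) (tt N75336 F434749) (tt N79831 F434752))
theorem Q101871 : ∀ i, i < 101871 → P i := stepQ 101870 Q101870 (allL N101870 (tt N118169 (iv1 F508984)) (tt N74233 (iv0 F434757)) (tt N107339 (iv2 F458012)) (tt N65406 (iv3 D205043)) (tt N96179 F434753) (tt N94599 F434754) (tt N96178 F434755) (tt N82357 F434756))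
theorem Q101872 : ∀ i, i < 101872 → P i := stepQ 101871 Q101871 (allL N101871 (tt N82359 (iv1 F434761)) (tt N65407 (iv0 D205044)) (tt N80982 (iv2 F434760)) (tt N117026 (iv3 F503026)) (tt N80778 F434759) (tt N94598 F434758) (tt N80777 (iv6 F434763)) (tt N82358 F434762))
theorem Q101873 : ∀ i, i < 101873 → P i := stepQ 101872 Q101872 (allL N101872 (tt N89029 F434768) (tt N89603 F434769) (tt N88505 F434764) (tt N65408 F434765) (tt N85342 F434767) (tt N65407 (iv5 D205045)) (tt N89438 (iv6 F434770)) (tt N82360 F434766))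
theorem Q101874 : ∀ i, i < 101874 → P i := stepQ 101873 Q101873 (allL N101873 (tt N100738 F434775) (tt N78591 F434776) (tt N81802 F434771) (tt N82066 F434777) (tt N65409 (iv4 D205046)) (tt N96564 F434772) (tt N80979 F434773) (tt N79770 F434774))
theorem Q101875 : ∀ i, i < 101875 → P i := stepQ 101874 Q101874 (allL N101874 (tt N65411 (iv1 D205047)) (tt N65415 F434778) (tt N111014 (iv2 F474254)) (tt N111350 (iv3 F475954)) (tt N111012 (iv4 F474244)) (tt N120551 D223810) (tt N65435 (iv6 F434856)) (tt N116146 (iv7 F498736)))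
theorem Q101876 : ∀ i, i < 101876 → P i := stepQ 101875 Q101875 (allL N101875 (tt N117650 (iv1 F506221)) (tt N91900 (iv0 F434779)) (tt N103351 (iv2 F441231)) (tt N65411 (iv3 D205048)) (tt N115426 (iv4 F495132)) (tt N120552 D223811) (tt N103350 F441230) (tt N115424 (iv7 F495126)))
theorem Q101877 : ∀ i, i < 101877 → P i := stepQ 101876 Q101876 (allL N101876 (tt N99321 F434857) (tt N112640 (iv0 F481956)) (tt N107799 F459771) (tt N120552 (iv3 F521411)) (tt N120553 D223812) (tt N65411 (iv5 D205049)) (tt N96132 F463425) (tt N120549 (iv7 F521394)))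
theorem Q101878 : ∀ i, i < 101878 → P i := stepQ 101877 Q101877 (allL N101877 (tt N96031 (iv1 F434785)) (tt N96038 F434784) (tt N74222 F434780) (tt N103350 (iv3 F441225)) (tt N65413 F434781) (tt N74221 (iv5 F434783)) (tt N65411 (iv6 D205050)) (tt N96036 F434782))
theorem Q101879 : ∀ i, i < 101879 → P i := stepQ 101878 Q101878 (allL N101878 (tt N82522 F434788) (tt N81011 F434787) (tt N110133 (iv2 F470112)) (tt N108677 (iv3 F463499)) (tt N65414 (iv4 D205051)) (tt N89605 F434786) (tt N119582 (iv6 F516376)) (tt N108674 F463491))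
theorem Q101880 : ∀ i, i < 101880 → P i := stepQ 101879 Q101879 (allL N101879 (tt N103352 (iv1 F441234)) (tt N96179 (iv0 F434790)) (tt N103353 (iv2 F441240)) (tt N65415 (iv3 D205052)) (tt N108677 (iv4 F463500)) (tt N107794 (iv5 F459750)) (tt N118169 (iv6 F508982)) (tt N74224 F434789))
theorem Q101881 : ∀ i, i < 101881 → P i := stepQ 101880 Q101880 (allL N101880 (tt N112640 (iv1 F481957)) (tt N99321 (iv0 F477610)) (tt N120549 (iv2 F521391)) (tt N107794 F459755) (tt N120554 D223813) (tt N65415 (iv5 D205053)) (tt N117126 (iv6 F503522)) (tt N107799 (iv7 F459770)))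
theorem Q101882 : ∀ i, i < 101882 → P i := stepQ 101881 Q101881 (allL N101881 (tt N80873 F434794) (tt N88908 F434795) (tt N65419 F434791) (tt N103907 (iv3 F443309)) (tt N65417 (iv4 D205054)) (tt N116552 (iv5 F500727)) (tt N80839 F434792) (tt N88910 F434793))
theorem Q101883 : ∀ i, i < 101883 → P i := stepQ 101882 Q101882 (allL N101882 (tt N88910 (iv1 F434799)) (tt N65419 (iv0 D205055)) (tt N80873 (iv2 F434798)) (tt N78300 F434797) (tt N80858 F434796) (tt N120555 D223814) (tt N78298 (iv6 F434801)) (tt N88908 F434800))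
theorem Q101884 : ∀ i, i < 101884 → P i := stepQ 101883 Q101883 (allL N101883 (tt N65420 (iv1 D205056)) (tt N65422 F434802) (tt N82392 F434808) (tt N82378 (iv3 F434806)) (tt N85729 F434805) (tt N83990 F434804) (tt N95789 (iv6 F434807)) (tt N82393 F434803))
theorem Q101885 : ∀ i, i < 101885 → P i := stepQ 101884 Q101884 (allL N101884 (tt N88677 F434813) (tt N82494 F434814) (tt N82395 F434809) (tt N111936 (iv3 F478756)) (tt N90149 F434810) (tt N65422 (iv5 D205057)) (tt N88747 F434811) (tt N82400 F434812))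
theorem Q101886 : ∀ i, i < 101886 → P i := stepQ 101885 Q101885 (allL N101885 (tt N81248 F434819) (tt N81247 F434820) (tt N67112 F434815) (tt N102786 (iv3 F438645)) (tt N92912 F434818) (tt N65424 (iv5 D205058)) (tt N66765 F434816) (tt N80835 F434817))
theorem Q101887 : ∀ i, i < 101887 → P i := stepQ 101886 Q101886 (allL N101886 (tt N90420 F434825) (tt N90419 F434826) (tt N71638 F434821) (tt N73828 F434822) (tt N65426 (iv4 D205059)) (tt N112829 (iv5 F482828)) (tt N70909 F434823) (tt N78404 F434824))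
theorem Q101888 : ∀ i, i < 101888 → P i := stepQ 101887 Q101887 (allL N101887 (tt N82785 (iv1 F434828)) (tt N65427 (iv0 D205060)) (tt N82782 (iv2 F434829)) (tt N102230 F436338) (tt N83008 F434827) (tt N102229 (iv5 F436337)) (tt N104383 (iv6 F445522)) (tt N82783 (iv7 F434830)))
theorem Q101889 : ∀ i, i < 101889 → P i := stepQ 101888 Q101888 (allL N101888 (tt N65427 (iv1 D205061)) (tt N82785 F434831) (tt N82783 F434835) (tt N102889 (iv3 F439125)) (tt N71011 F434833) (tt N118785 (iv5 F512056)) (tt N71010 (iv6 F434834)) (tt N82782 F434832))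
theorem Q101890 : ∀ i, i < 101890 → P i := stepQ 101889 Q101889 (allL N101889 (tt N97370 F434840) (tt N97368 F434841) (tt N97434 F434836) (tt N96340 F434837) (tt N65432 (iv4 D205062)) (tt N120556 D223815) (tt N67270 F434838) (tt N96635 F434839))
theorem Q101891 : ∀ i, i < 101891 → P i := stepQ 101890 Q101890 (allL N101890 (tt N102264 F436450) (tt N90196 (iv0 F434844)) (tt N111608 (iv2 F477140)) (tt N65439 F434842) (tt N91718 F434843) (tt N65433 (iv5 D205063)) (tt N111748 (iv6 F477774)) (tt N109240 (iv7 F465940)))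
theorem Q101892 : ∀ i, i < 101892 → P i := stepQ 101891 Q101891 (allL N101891 (tt N79826 F434845) (tt N79822 F434846) (tt N111426 (iv2 F476306)) (tt N115709 (iv3 F496437)) (tt N120557 D223816) (tt N65434 (iv5 D205064)) (tt N115883 (iv6 F497397)) (tt N111013 (iv7 F474251)))
theorem Q101893 : ∀ i, i < 101893 → P i := stepQ 101892 Q101892 (allL N101892 (tt N111422 (iv1 F476285)) (tt N111425 F476305) (tt N96165 F434848) (tt N94731 F434849) (tt N81201 F434850) (tt N96154 (iv5 F434852)) (tt N65434 (iv6 D205065)) (tt N96168 (iv7 F434851)))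
theorem Q101894 : ∀ i, i < 101894 → P i := stepQ 101893 Q101893 (allL N101893 (tt N79822 F434854) (tt N79826 F434855) (tt N111013 (iv2 F474249)) (tt N100554 F434853) (tt N120558 D223817) (tt N65435 (iv5 D205066)) (tt N120559 D223818) (tt N111426 (iv7 F476309)))
theorem Q101895 : ∀ i, i < 101895 → P i := stepQ 101894 Q101894 (allL N101894 (tt N65436 (iv1 D205067)) (tt N111428 F476324) (tt N111389 (iv2 F476127)) (tt N111067 (iv3 F474504)) (tt N79311 (iv4 F434858)) (tt N120560 D223819) (tt N91900 F434859) (tt N111427 (iv7 F476313)))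
theorem Q101896 : ∀ i, i < 101896 → P i := stepQ 101895 Q101895 (allL N101895 (tt N111427 (iv1 F476318)) (tt N111389 F476131) (tt N65436 (iv2 D205068)) (tt N111349 F475952) (tt N111496 (iv4 F476601)) (tt N111436 F476358) (tt N111437 (iv6 F476361)) (tt N111428 (iv7 F476322)))
theorem Q101897 : ∀ i, i < 101897 → P i := stepQ 101896 Q101896 (allL N101896 (tt N111489 (iv1 F476580)) (tt N120561 D223820) (tt N111436 (iv2 F476357)) (tt N65437 F434860) (tt N95412 F434875) (tt N65436 (iv5 D205069)) (tt N65437 (iv6 F434876)) (tt N111429 (iv7 F476326)))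
theorem Q101898 : ∀ i, i < 101898 → P i := stepQ 101897 Q101897 (allL N101897 (tt N101127 (iv1 F434863)) (tt N112141 (iv0 F479711)) (tt N111437 (iv2 F476359)) (tt N65438 F434861) (tt N96879 F434862) (tt N65438 F434877) (tt N65436 (iv6 D205070)) (tt N111600 (iv7 F477109)))
theorem Q101899 : ∀ i, i < 101899 → P i := stepQ 101898 Q101898 (allL N101898 (tt N65444 (iv1 F434865)) (tt N65437 (iv0 D205071)) (tt N111431 F476335) (tt N119217 F514421) (tt N119193 (iv4 F514293)) (tt N82397 F434864) (tt N118874 F512520) (tt N111430 F476331))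
theorem Q101900 : ∀ i, i < 101900 → P i := stepQ 101899 Q101899 (allL N101899 (tt N65437 (iv1 D205072)) (tt N65444 F434866) (tt N111430 F476330) (tt N101548 (iv3 F434868)) (tt N88115 F434870) (tt N82486 F434867) (tt N88114 (iv6 F434869)) (tt N111431 (iv7 F476333)))
theorem Q101901 : ∀ i, i < 101901 → P i := stepQ 101900 Q101900 (allL N101900 (tt N111693 (iv1 F477525)) (tt N100745 F434872) (tt N111435 (iv2 F476352)) (tt N95413 (iv3 F434874)) (tt N65437 (iv4 D205073)) (tt N111122 (iv5 F474782)) (tt N95412 F434873) (tt N111432 (iv7 F476339)))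
theorem Q101902 : ∀ i, i < 101902 → P i := stepQ 101901 Q101901 (allL N101901 (tt N100701 (iv1 F434879)) (tt N65438 (iv0 D205074)) (tt N80980 F434882) (tt N101131 (iv3 F434881)) (tt N81797 F434878) (tt N118941 (iv5 F512871)) (tt N112311 F480490) (tt N81812 (iv7 F434880)))
theorem Q101903 : ∀ i, i < 101903 → P i := stepQ 101902 Q101902 (allL N101902 (tt N65438 (iv1 D205075)) (tt N100701 F434883) (tt N81812 F434887) (tt N80776 (iv3 F434885)) (tt N81811 (iv4 F434886)) (tt N112292 (iv5 F480395)) (tt N82441 F434888) (tt N80980 F434884))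
theorem Q101904 : ∀ i, i < 101904 → P i := stepQ 101903 Q101903 (allL N101903 (tt N118323 (iv1 F509705)) (tt N118322 (iv0 F509698)) (tt N111438 (iv2 F476364)) (tt N117318 (iv3 F504440)) (tt N65439 (iv4 D205076)) (tt N117317 (iv5 F504439)) (tt N108037 F460838) (tt N111601 (iv7 F477113)))
theorem Q101905 : ∀ i, i < 101905 → P i := stepQ 101904 Q101904 (allL N101904 (tt N80963 (iv1 F434894)) (tt N82456 F434895) (tt N79282 F434889) (tt N65447 F434890) (tt N70199 F434891) (tt N76656 F434892) (tt N100700 F434893) (tt N65443 (iv7 D205077)))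
theorem Q101906 : ∀ i, i < 101906 → P i := stepQ 101905 Q101905 (allL N101905 (tt N100745 F434896) (tt N111693 (iv0 F477524)) (tt N111432 (iv2 F476337)) (tt N116055 (iv3 F498259)) (tt N65444 (iv4 D205078)) (tt N111121 (iv5 F474772)) (tt N91198 F434900) (tt N111435 (iv7 F476354)))
theorem Q101907 : ∀ i, i < 101907 → P i := stepQ 101906 Q101906 (allL N101906 (tt N114748 (iv1 F491649)) (tt N116363 (iv0 F499727)) (tt N88973 F434897) (tt N119141 (iv3 F514007)) (tt N91198 (iv4 F434899)) (tt N88970 F434898) (tt N65444 (iv6 D205079)) (tt N120562 D223821))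
theorem Q101908 : ∀ i, i < 101908 → P i := stepQ 101907 Q101907 (allL N101907 (tt N104964 (iv1 F448174)) (tt N65448 (iv0 D205080)) (tt N104963 (iv2 F448166)) (tt N112387 (iv3 F480866)) (tt N116960 (iv4 F502713)) (tt N105975 (iv5 F452587)) (tt N99843 F434901) (tt N104962 (iv7 F448169)))
theorem Q101909 : ∀ i, i < 101909 → P i := stepQ 101908 Q101908 (allL N101908 (tt N65448 (iv1 D205081)) (tt N104964 F448175) (tt N104962 F448162) (tt N105641 (iv3 F451067)) (tt N94592 F434903) (tt N94551 F434902) (tt N107964 (iv6 F460502)) (tt N104963 (iv7 F448163)))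
theorem Q101910 : ∀ i, i < 101910 → P i := stepQ 101909 Q101909 (allL N101909 (tt N89364 (iv1 F434905)) (tt N65452 (iv0 D205082)) (tt N94215 (iv2 F434911)) (tt N84387 F434904) (tt N119265 (iv4 F514707)) (tt N105962 (iv5 F452529)) (tt N118944 (iv6 F512891)) (tt N94214 (iv7 F434906)))
theorem Q101911 : ∀ i, i < 101911 → P i := stepQ 101910 Q101910 (allL N101910 (tt N65452 (iv1 D205083)) (tt N89364 (iv0 F434909)) (tt N94214 F434908) (tt N120563 D223822) (tt N110654 (iv4 F472614)) (tt N105963 (iv5 F452537)) (tt N99837 (iv6 F434907)) (tt N94215 (iv7 F434910)))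
theorem Q101912 : ∀ i, i < 101912 → P i := stepQ 101911 Q101911 (allL N101911 (tt N94215 (iv1 F434916)) (tt N94214 F434915) (tt N65452 (iv2 D205084)) (tt N104964 (iv3 F448170)) (tt N94188 F434912) (tt N71308 F434913) (tt N120564 D223823) (tt N89364 F434914))
theorem Q101913 : ∀ i, i < 101913 → P i := stepQ 101912 Q101912 (allL N101912 (tt N117185 F503813) (tt N106978 (iv0 F456507)) (tt N120564 (iv2 F521476)) (tt N65453 F434918) (tt N74298 F434919) (tt N100055 (iv5 F434921)) (tt N65452 (iv6 D205085)) (tt N71413 F434920))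
theorem Q101914 : ∀ i, i < 101914 → P i := stepQ 101913 Q101913 (allL N101913 (tt N71815 F434926) (tt N113000 F483502) (tt N71412 F434922) (tt N100055 F434923) (tt N110167 (iv4 F470258)) (tt N65453 (iv5 D205086)) (tt N71313 F434924) (tt N71414 F434925))
theorem Q101915 : ∀ i, i < 101915 → P i := stepQ 101914 Q101914 (allL N101914 (tt N65880 F434931) (tt N74552 F434933) (tt N94275 F434927) (tt N95916 F434928) (tt N95605 F434932) (tt N65454 (iv5 D205087)) (tt N97204 F434929) (tt N94276 F434930))
theorem Q101916 : ∀ i, i < 101916 → P i := stepQ 101915 Q101915 (allL N101915 (tt N106243 (iv1 F453733)) (tt N71113 (iv0 F434939)) (tt N106227 (iv2 F453655)) (tt N72429 F434935) (tt N100442 (iv4 F434937)) (tt N65457 (iv5 D205088)) (tt N96674 F434938) (tt N96708 F434936))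
theorem Q101917 : ∀ i, i < 101917 → P i := stepQ 101916 Q101916 (allL N101916 (tt N106254 F453775) (tt N105953 F453776) (tt N106228 (iv2 F453667)) (tt N117000 F502909) (tt N118213 (iv4 F509186)) (tt N120565 D223824) (tt N65457 (iv6 D205089)) (tt N106253 (iv7 F494722)))
theorem Q101918 : ∀ i, i < 101918 → P i := stepQ 101917 Q101917 (allL N101917 (tt N82580 F434944) (tt N78345 (iv0 F434943)) (tt N106275 (iv2 F453845)) (tt N65458 (iv3 D205090)) (tt N106297 (iv4 F453927)) (tt N109898 (iv5 F469128)) (tt N83455 F434942) (tt N106226 (iv7 F453652)))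
theorem Q101919 : ∀ i, i < 101919 → P i := stepQ 101918 Q101918 (allL N101918 (tt N98989 F452600) (tt N106291 (iv0 F453910)) (tt N106225 (iv2 F453648)) (tt N83455 (iv3 F434941)) (tt N114470 (iv4 F490347)) (tt N83453 F434940) (tt N65458 (iv6 D205091)) (tt N106290 (iv7 F453907)))
theorem Q101920 : ∀ i, i < 101920 → P i := stepQ 101919 Q101919 (allL N101919 (tt N85643 F434946) (tt N106171 (iv0 F453437)) (tt N65460 F434945) (tt N106194 (iv3 F453556)) (tt N114497 (iv4 F490467)) (tt N65459 (iv5 D205092)) (tt N105221 (iv6 F449260)) (tt N106192 (iv7 F453549)))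
theorem Q101921 : ∀ i, i < 101921 → P i := stepQ 101920 Q101920 (allL N101920 (tt N65460 (iv1 D205093)) (tt N106192 F453551) (tt N106171 (iv2 F453434)) (tt N85646 (iv3 F434949)) (tt N109884 (iv4 F469072)) (tt N90325 F434948) (tt N98429 F434950) (tt N85643 F434947))
theorem Q101922 : ∀ i, i < 101922 → P i := stepQ 101921 Q101921 (allL N101921 (tt N113091 F483943) (tt N98428 (iv0 F443846)) (tt N114497 (iv2 F490466)) (tt N93115 F434951) (tt N65460 (iv4 D205094)) (tt N93114 F434952) (tt N113107 F484001) (tt N106193 (iv7 F453554)))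
theorem Q101923 : ∀ i, i < 101923 → P i := stepQ 101922 Q101922 (allL N101922 (tt N99162 F434956) (tt N114786 (iv0 F491855)) (tt N105221 (iv2 F449259)) (tt N65461 F434953) (tt N113107 F484000) (tt N95859 F434954) (tt N65460 (iv6 D205095)) (tt N105222 (iv7 F449270)))
theorem Q101924 : ∀ i, i < 101924 → P i := stepQ 101923 Q101923 (allL N101923 (tt N65461 (iv1 D205096)) (tt N90059 F434957) (tt N106198 (iv2 F453585)) (tt N84065 (iv3 F434958)) (tt N104519 (iv4 F446120)) (tt N104110 (iv5 F444227)) (tt N90076 (iv6 F444228)) (tt N106197 F453576))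
theorem Q101925 : ∀ i, i < 101925 → P i := stepQ 101924 Q101924 (allL N101924 (tt N106198 (iv1 F453581)) (tt N106197 F453574) (tt N90059 F434960) (tt N105222 (iv3 F449268)) (tt N104447 (iv4 F445803)) (tt N95861 F434961) (tt N76082 F434962) (tt N65461 (iv7 D205097)))
theorem Q101926 : ∀ i, i < 101926 → P i := stepQ 101925 Q101925 (allL N101925 (tt N94277 F434968) (tt N71957 (iv0 F434969)) (tt N72128 F434963) (tt N65927 F434964) (tt N71021 F434965) (tt N65926 F434966) (tt N65462 (iv6 D205098)) (tt N95587 F434967))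
theorem Q101927 : ∀ i, i < 101927 → P i := stepQ 101926 Q101926 (allL N101926 (tt N115515 F495593) (tt N104868 F447718) (tt N90708 F434970) (tt N96910 F434971) (tt N65463 (iv4 D205099)) (tt N84660 F434972) (tt N111582 (iv6 F477008)) (tt N96005 F434973))
theorem Q101928 : ∀ i, i < 101928 → P i := stepQ 101927 Q101927 (allL N101927 (tt N106170 F488274) (tt N90323 (iv0 F488275)) (tt N118977 (iv2 F513080)) (tt N65464 (iv3 D205100)) (tt N114029 (iv4 F488272)) (tt N117681 (iv5 F506386)) (tt N120006 F518520) (tt N96007 F434974))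
theorem Q101929 : ∀ i, i < 101929 → P i := stepQ 101928 Q101928 (allL N101928 (tt N108666 (iv1 F463454)) (tt N77521 (iv0 F434978)) (tt N96006 F434975) (tt N120006 F518519) (tt N96908 F434976) (tt N101778 F434977) (tt N65464 (iv6 D205101)) (tt N112708 (iv7 F482286)))
theorem Q101930 : ∀ i, i < 101930 → P i := stepQ 101929 Q101929 (allL N101929 (tt N117050 F503127) (tt N117545 (iv0 F505624)) (tt N115888 (iv2 F497423)) (tt N65467 F434979) (tt N108487 (iv4 F462797)) (tt N65466 (iv5 D205102)) (tt N101565 F434980) (tt N118258 (iv7 F509401)))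
theorem Q101931 : ∀ i, i < 101931 → P i := stepQ 101930 Q101930 (allL N101930 (tt N65467 (iv1 D205103)) (tt N74319 F434985) (tt N94428 (iv2 F434989)) (tt N101728 (iv3 F434988)) (tt N118185 (iv4 F509043)) (tt N74214 F434987) (tt N118392 (iv6 F510105)) (tt N94427 F434986))
theorem Q101932 : ∀ i, i < 101932 → P i := stepQ 101931 Q101931 (allL N101931 (tt N120566 D223825) (tt N120567 D223826) (tt N94429 F434990) (tt N120568 D223827) (tt N65467 (iv4 D205104)) (tt N104364 F445438) (tt N118223 (iv6 F509229)) (tt N118259 (iv7 F509406)))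
theorem Q101933 : ∀ i, i < 101933 → P i := stepQ 101932 Q101932 (allL N101932 (tt N120569 D223828) (tt N65488 (iv0 F434994)) (tt N116874 (iv2 F502296)) (tt N65468 (iv3 D205105)) (tt N98989 F434991) (tt N93559 F434992) (tt N119081 F513688) (tt N74212 F434993))
theorem Q101934 : ∀ i, i < 101934 → P i := stepQ 101933 Q101933 (allL N101933 (tt N112768 (iv1 F482572)) (tt N65473 (iv0 D205106)) (tt N93708 (iv2 F434998)) (tt N73794 F434995) (tt N118620 (iv4 F511188)) (tt N95266 F434996) (tt N73037 (iv6 F434999)) (tt N73056 (iv7 F435000)))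
theorem Q101935 : ∀ i, i < 101935 → P i := stepQ 101934 Q101934 (allL N101934 (tt N65473 (iv1 D205107)) (tt N112768 (iv0 F482571)) (tt N73056 F435005) (tt N86218 (iv3 F435003)) (tt N120570 D223829) (tt N86217 F435002) (tt N72883 (iv6 F435004)) (tt N93708 F435001))
theorem Q101936 : ∀ i, i < 101936 → P i := stepQ 101935 Q101935 (allL N101935 (tt N74590 F435007) (tt N117693 (iv0 F506454)) (tt N93416 F435006) (tt N103863 (iv3 F443134)) (tt N65474 (iv4 D205108)) (tt N102902 (iv5 F439191)) (tt N103861 F443126) (tt N108880 (iv7 F464349)))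
theorem Q101937 : ∀ i, i < 101937 → P i := stepQ 101936 Q101936 (allL N101936 (tt N65491 (iv1 F435011)) (tt N65490 F435012) (tt N65493 F435008) (tt N93476 F435009) (tt N118866 (iv4 F512481)) (tt N65478 (iv5 D205109)) (tt N112495 (iv6 F481350)) (tt N65489 F435010))
theorem Q101938 : ∀ i, i < 101938 → P i := stepQ 101937 Q101937 (allL N101937 (tt N74232 F435016) (tt N103350 F441228) (tt N65482 F435013) (tt N97582 F435014) (tt N108281 (iv4 F461857)) (tt N65479 (iv5 D205110)) (tt N97580 (iv6 F435017)) (tt N65487 F435015))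
theorem Q101939 : ∀ i, i < 101939 → P i := stepQ 101938 Q101938 (allL N101938 (tt N93411 F435020) (tt N118440 F510369) (tt N65483 F435018) (tt N110198 F470395) (tt N71275 F435019) (tt N108875 F464310) (tt N65479 (iv6 D205111)) (tt N117308 (iv7 F504389)))
theorem Q101940 : ∀ i, i < 101940 → P i := stepQ 101939 Q101939 (allL N101939 (tt N65480 (iv1 D205112)) (tt N67064 F435021) (tt N82201 F435025) (tt N96042 (iv3 F435023)) (tt N82200 F435022) (tt N120571 D223830) (tt N93647 (iv6 F435024)) (tt N112719 (iv7 F482342)))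
theorem Q101941 : ∀ i, i < 101941 → P i := stepQ 101940 Q101940 (allL N101940 (tt N119232 F514511) (tt N112179 (iv0 F479920)) (tt N112720 (iv2 F482344)) (tt N65483 F435026) (tt N112718 (iv4 F482333)) (tt N119123 (iv5 F513909)) (tt N65480 (iv6 D205113)) (tt N120572 D223831))
theorem Q101942 : ∀ i, i < 101942 → P i := stepQ 101941 Q101941 (allL N101941 (tt N65486 F435030) (tt N65481 (iv0 D205114)) (tt N71248 F435032) (tt N89750 (iv3 F435028)) (tt N93441 F435027) (tt N89742 (iv5 F435033)) (tt N89743 F435031) (tt N71273 (iv7 F435029)))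
theorem Q101943 : ∀ i, i < 101943 → P i := stepQ 101942 Q101942 (allL N101942 (tt N65481 (iv1 D205115)) (tt N65486 F435034) (tt N71273 (iv2 F435036)) (tt N70852 (iv3 F435037)) (tt N93449 (iv4 F453646)) (tt N120573 D223832) (tt N70978 F435038) (tt N71248 F435035))
theorem Q101944 : ∀ i, i < 101944 → P i := stepQ 101943 Q101943 (allL N101943 (tt N71224 F435042) (tt N71283 (iv0 F435043)) (tt N71270 F435040) (tt N65481 (iv3 D205116)) (tt N82224 F435041) (tt N113087 (iv5 F483923)) (tt N117310 (iv6 F504399)) (tt N71284 F435044))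
theorem Q101945 : ∀ i, i < 101945 → P i := stepQ 101944 Q101944 (allL N101944 (tt N120210 (iv1 F519616)) (tt N120209 (iv0 F519607)) (tt N71274 F435045) (tt N113087 (iv3 F483922)) (tt N98439 F435046) (tt N65481 (iv5 D205117)) (tt N119170 (iv6 F514170)) (tt N98436 (iv7 F435047)))
theorem Q101946 : ∀ i, i < 101946 → P i := stepQ 101945 Q101945 (allL N101945 (tt N71273 (iv1 F435054)) (tt N71248 F435055) (tt N65486 F435050) (tt N71284 F435051) (tt N65484 F435052) (tt N98436 F435053) (tt N111194 (iv6 F475173)) (tt N65481 (iv7 D205119)))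
theorem Q101947 : ∀ i, i < 101947 → P i := stepQ 101946 Q101946 (allL N101946 (tt N65487 (iv1 F435059)) (tt N65482 (iv0 D205120)) (tt N74232 (iv2 F435058)) (tt N96036 (iv3 F435060)) (tt N87808 F435056) (tt N74231 F435057) (tt N87807 (iv6 F435061)) (tt N103350 (iv7 F441226)))
theorem Q101948 : ∀ i, i < 101948 → P i := stepQ 101947 Q101947 (allL N101947 (tt N117308 F504391) (tt N65483 (iv0 D205121)) (tt N93411 (iv2 F473672)) (tt N96039 F473673) (tt N106254 F473674) (tt N120574 D223833) (tt N93715 F473675) (tt N118440 (iv7 F510367)))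
theorem Q101949 : ∀ i, i < 101949 → P i := stepQ 101948 Q101948 (allL N101948 (tt N108866 F464295) (tt N108877 F464314) (tt N108875 (iv2 F464311)) (tt N119123 (iv3 F513907)) (tt N86744 (iv4 F464330)) (tt N65483 (iv5 D205123)) (tt N119122 (iv6 F513901)) (tt N108874 (iv7 F464332)))
theorem Q101950 : ∀ i, i < 101950 → P i := stepQ 101949 Q101949 (allL N101949 (tt N118440 (iv1 F510368)) (tt N93411 (iv0 F494677)) (tt N117308 (iv2 F504386)) (tt N120572 (iv3 F521518)) (tt N117302 (iv4 F504366)) (tt N108874 F464333) (tt N120569 (iv6 F521502)) (tt N65483 (iv7 D205124)))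
theorem Q101951 : ∀ i, i < 101951 → P i := stepQ 101950 Q101950 (allL N101950 (tt N116874 F502300) (tt N74212 (iv0 F435064)) (tt N65488 F435062) (tt N67088 F435063) (tt N111194 (iv4 F475172)) (tt N110212 (iv5 F470455)) (tt N65484 (iv6 D205125)) (tt N120569 (iv7 F521505)))
theorem Q101952 : ∀ i, i < 101952 → P i := stepQ 101951 Q101951 (allL N101951 (tt N67441 F435070) (tt N67433 F435071) (tt N67065 F435065) (tt N65487 F435066) (tt N95024 F435067) (tt N65485 (iv5 D205126)) (tt N95023 F435068) (tt N97582 F435069))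
theorem Q101953 : ∀ i, i < 101953 → P i := stepQ 101952 Q101952 (allL N101952 (tt N120209 (iv1 F519608)) (tt N120210 (iv0 F519615)) (tt N98436 F435072) (tt N71279 F435073) (tt N95879 F435074) (tt N65486 (iv5 D205127)) (tt N76694 F435076) (tt N71274 F435075))
theorem Q101954 : ∀ i, i < 101954 → P i := stepQ 101953 Q101953 (allL N101953 (tt N65488 (iv1 D205128)) (tt N120569 F521504) (tt N74212 (iv2 F453912)) (tt N96043 (iv3 F453913)) (tt N106291 F453911) (tt N119073 F513640) (tt N93650 (iv6 F453914)) (tt N116874 (iv7 F502298)))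
theorem Q101955 : ∀ i, i < 101955 → P i := stepQ 101954 Q101954 (allL N101954 (tt N74212 (iv1 F435079)) (tt N116874 (iv0 F502299)) (tt N120569 F521503) (tt N66638 F435077) (tt N109635 (iv4 F467858)) (tt N77536 F435078) (tt N117308 (iv6 F504388)) (tt N65488 (iv7 D205129)))
theorem Q101956 : ∀ i, i < 101956 → P i := stepQ 101955 Q101955 (allL N101955 (tt N65493 (iv1 F435080)) (tt N65489 (iv0 D205130)) (tt N65490 F435083) (tt N103433 F441615) (tt N111720 (iv4 F477652)) (tt N67313 F435081) (tt N111021 (iv6 F474296)) (tt N65491 (iv7 F435082)))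
theorem Q101957 : ∀ i, i < 101957 → P i := stepQ 101956 Q101956 (allL N101956 (tt N65489 (iv1 D205131)) (tt N65493 F435087) (tt N65491 F435090) (tt N112153 (iv3 F479776)) (tt N111450 (iv4 F476418)) (tt N67312 (iv5 F435089)) (tt N111449 F476415) (tt N65490 F435088))
theorem Q101958 : ∀ i, i < 101958 → P i := stepQ 101957 Q101957 (allL N101957 (tt N118217 (iv1 F509215)) (tt N118730 F511787) (tt N65492 F435092) (tt N109912 (iv3 F469179)) (tt N65489 (iv4 D205132)) (tt N115370 (iv5 F494853)) (tt N95538 F435093) (tt N118866 (iv7 F512483)))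
theorem Q101959 : ∀ i, i < 101959 → P i := stepQ 101958 Q101958 (allL N101958 (tt N112429 (iv1 F481058)) (tt N120571 (iv0 F521515)) (tt N112154 (iv2 F479780)) (tt N65490 (iv3 D205133)) (tt N112080 F479402) (tt N108667 (iv5 F463456)) (tt N114561 (iv6 F490781)) (tt N112153 (iv7 F479777)))
theorem Q101960 : ∀ i, i < 101960 → P i := stepQ 101959 Q101959 (allL N101959 (tt N100730 F435095) (tt N108279 (iv0 F461845)) (tt N111450 (iv2 F476416)) (tt N115694 (iv3 F496354)) (tt N65491 (iv4 D205134)) (tt N115693 F496352) (tt N79301 F435094) (tt N111720 (iv7 F477653)))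
theorem Q101961 : ∀ i, i < 101961 → P i := stepQ 101960 Q101960 (allL N101960 (tt N118866 F512485) (tt N65492 (iv0 D205135)) (tt N118217 (iv2 F509209)) (tt N78529 (iv3 F435098)) (tt N96480 F435096) (tt N119272 (iv5 F514748)) (tt N78528 (iv6 F435097)) (tt N118730 (iv7 F511784)))
theorem Q101962 : ∀ i, i < 101962 → P i := stepQ 101961 Q101961 (allL N101961 (tt N65492 (iv1 D205136)) (tt N118866 (iv0 F512484)) (tt N118730 (iv2 F511781)) (tt N111756 (iv3 F477813)) (tt N112131 (iv4 F479653)) (tt N113620 (iv5 F486335)) (tt N115790 F496898) (tt N118217 (iv7 F509212)))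
theorem Q101963 : ∀ i, i < 101963 → P i := stepQ 101962 Q101962 (allL N101962 (tt N118730 F511786) (tt N118217 (iv0 F509214)) (tt N118866 (iv2 F512479)) (tt N92883 F435099) (tt N65493 F435100) (tt N115371 (iv5 F494857)) (tt N95584 F435101) (tt N65492 (iv7 D205137)))
theorem Q101964 : ∀ i, i < 101964 → P i := stepQ 101963 Q101963 (allL N101963 (tt N120498 (iv1 F521093)) (tt N96383 F435106) (tt N93401 F435102) (tt N94683 F435103) (tt N120575 D223834) (tt N65495 (iv5 D205138)) (tt N74544 F435104) (tt N94907 F435105))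
theorem Q101965 : ∀ i, i < 101965 → P i := stepQ 101964 Q101964 (allL N101964 (tt N92880 (iv1 F435110)) (tt N65496 (iv0 D205139)) (tt N92882 (iv2 F435109)) (tt N100744 F435107) (tt N111713 (iv4 F477619)) (tt N78223 F435108) (tt N100741 (iv6 F435112)) (tt N92881 F435111))
theorem Q101966 : ∀ i, i < 101966 → P i := stepQ 101965 Q101965 (allL N101965 (tt N112657 F482040) (tt N79689 (iv0 F435118)) (tt N79545 F435113) (tt N65498 (iv3 D205140)) (tt N79558 F435114) (tt N95029 F435115) (tt N79543 F435116) (tt N65629 F435117))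
theorem Q101967 : ∀ i, i < 101967 → P i := stepQ 101966 Q101966 (allL N101966 (tt N65637 F435122) (tt N65636 F435123) (tt N65501 F435119) (tt N65588 F435120) (tt N103309 (iv4 F441080)) (tt N65500 (iv5 D205141)) (tt N94794 F435124) (tt N65634 F435121))
theorem Q101968 : ∀ i, i < 101968 → P i := stepQ 101967 Q101967 (allL N101967 (tt N65501 (iv1 D205142)) (tt N65634 F435125) (tt N65636 (iv2 F435131)) (tt N65781 (iv3 F435128)) (tt N65803 F435129) (tt N65515 F435127) (tt N65779 F435130) (tt N65637 F435126))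
theorem Q101969 : ∀ i, i < 101969 → P i := stepQ 101968 Q101968 (allL N101968 (tt N68672 F435136) (tt N68675 F435137) (tt N103309 F441082) (tt N97427 F435132) (tt N65501 (iv4 D205143)) (tt N73294 F435135) (tt N65797 F435133) (tt N65638 F435134))
theorem Q101970 : ∀ i, i < 101970 → P i := stepQ 101969 Q101969 (allL N101969 (tt N65603 (iv1 F435140)) (tt N65503 (iv0 D205144)) (tt N65600 (iv2 F435139)) (tt N120576 D223835) (tt N65644 F435138) (tt N120577 D223836) (tt N120578 D223837) (tt N65601 (iv7 F435141)))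
theorem Q101971 : ∀ i, i < 101971 → P i := stepQ 101970 Q101970 (allL N101970 (tt N65503 (iv1 D205145)) (tt N65603 F435142) (tt N65601 (iv2 F435144)) (tt N65600 F435146) (tt N65598 (iv4 F435145)) (tt N120579 D223838) (tt N65801 F435147) (tt N65600 F435143))
theorem Q101972 : ∀ i, i < 101972 → P i := stepQ 101971 Q101971 (allL N101971 (tt N65601 (iv1 F435153)) (tt N65600 F435154) (tt N65603 F435148) (tt N94795 F435149) (tt N97433 F435150) (tt N92935 F435151) (tt N65645 F435152) (tt N65503 (iv7 D205146)))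
theorem Q101973 : ∀ i, i < 101973 → P i := stepQ 101972 Q101972 (allL N101972 (tt N95697 F435158) (tt N95695 F435159) (tt N65585 F435155) (tt N94848 F435156) (tt N65506 (iv4 D205147)) (tt N118681 (iv5 F511516)) (tt N117035 (iv6 F503069)) (tt N65581 F435157))
theorem Q101974 : ∀ i, i < 101974 → P i := stepQ 101973 Q101973 (allL N101973 (tt N66590 F435163) (tt N66597 F435164) (tt N65587 F435160) (tt N94851 F435161) (tt N117035 (iv4 F503067)) (tt N103251 F440799) (tt N65506 (iv6 D205148)) (tt N66595 F435162))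
theorem Q101975 : ∀ i, i < 101975 → P i := stepQ 101974 Q101974 (allL N101974 (tt N93973 F435170) (tt N67487 F435171) (tt N94839 F435165) (tt N65507 (iv3 D205149)) (tt N96449 F435166) (tt N95814 F435167) (tt N67474 F435168) (tt N65584 F435169))
theorem Q101976 : ∀ i, i < 101976 → P i := stepQ 101975 Q101975 (allL N101975 (tt N65591 F435175) (tt N65590 F435176) (tt N65509 F435172) (tt N65634 F435173) (tt N102291 (iv4 F436584)) (tt N65508 (iv5 D205150)) (tt N120580 D223839) (tt N65588 F435174))
theorem Q101977 : ∀ i, i < 101977 → P i := stepQ 101976 Q101976 (allL N101976 (tt N97778 F435180) (tt N66586 (iv0 F435181)) (tt N65510 F435177) (tt N65635 F435178) (tt N103079 (iv4 F439980)) (tt N80153 F435179) (tt N65508 (iv6 D205151)) (tt N97777 F435182))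
theorem Q101978 : ∀ i, i < 101978 → P i := stepQ 101977 Q101977 (allL N101977 (tt N117997 F507995) (tt N102240 (iv0 F436321)) (tt N120580 (iv2 F521565)) (tt N65511 F435183) (tt N118785 (iv4 F512055)) (tt N112657 (iv5 F482037)) (tt N65509 (iv6 D205152)) (tt N114810 (iv7 F491991)))
theorem Q101979 : ∀ i, i < 101979 → P i := stepQ 101978 Q101978 (allL N101978 (tt N65511 (iv1 D205153)) (tt N65645 F435184) (tt N65598 (iv2 F435188)) (tt N97441 (iv3 F435189)) (tt N65601 F435186) (tt N65656 F435187) (tt N102008 (iv6 F435333)) (tt N65644 F435185))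
theorem Q101980 : ∀ i, i < 101980 → P i := stepQ 101979 Q101979 (allL N101979 (tt N65598 (iv1 F435194)) (tt N65644 F435195) (tt N65645 F435190) (tt N114810 (iv3 F491989)) (tt N94796 F435191) (tt N65567 F435192) (tt N65603 F435193) (tt N65511 (iv7 D205154)))
theorem Q101981 : ∀ i, i < 101981 → P i := stepQ 101980 Q101980 (allL N101980 (tt N65651 F435200) (tt N65513 (iv0 F435201)) (tt N65649 F435196) (tt N65512 (iv3 D205155)) (tt N95354 F435197) (tt N92071 F435202) (tt N97043 F435198) (tt N65647 F435199))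
theorem Q101982 : ∀ i, i < 101982 → P i := stepQ 101981 Q101981 (allL N101981 (tt N97482 F435207) (tt N97481 F435208) (tt N65646 F435203) (tt N92071 F435204) (tt N95603 F435206) (tt N65512 (iv5 D205156)) (tt N92069 F435209) (tt N65648 F435205))
theorem Q101983 : ∀ i, i < 101983 → P i := stepQ 101982 Q101982 (allL N101982 (tt N87785 (iv1 F435214)) (tt N92680 (iv0 F435213)) (tt N65887 F435210) (tt N65514 (iv3 D205157)) (tt N94028 F435211) (tt N102240 F436322) (tt N103249 F440787) (tt N65702 F435212))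
theorem Q101984 : ∀ i, i < 101984 → P i := stepQ 101983 Q101983 (allL N101983 (tt N97674 F435218) (tt N65829 (iv0 F435219)) (tt N65705 F435215) (tt N103249 (iv3 F440783)) (tt N103219 (iv4 F440631)) (tt N93977 F435216) (tt N65514 (iv6 D205158)) (tt N92073 F435217))
theorem Q101985 : ∀ i, i < 101985 → P i := stepQ 101984 Q101984 (allL N101984 (tt N80206 F435223) (tt N81747 F435224) (tt N65518 F435220) (tt N65665 F435221) (tt N106093 (iv4 F453077)) (tt N112151 (iv5 F479764)) (tt N65516 (iv6 D205159)) (tt N81746 F435222))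
theorem Q101986 : ∀ i, i < 101986 → P i := stepQ 101985 Q101985 (allL N101985 (tt N65756 F435698) (tt N102387 (iv0 F437012)) (tt N118086 (iv2 F508496)) (tt N65519 F435225) (tt N68823 F435226) (tt N102223 (iv5 F436254)) (tt N65517 (iv6 D205160)) (tt N115762 (iv7 F496727)))
theorem Q101987 : ∀ i, i < 101987 → P i := stepQ 101986 Q101986 (allL N101986 (tt N79536 F435230) (tt N81761 (iv0 F435231)) (tt N112151 (iv2 F479762)) (tt N65521 F435227) (tt N91821 F435229) (tt N65518 (iv5 D205161)) (tt N102223 F436257) (tt N91818 F435228))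
theorem Q101988 : ∀ i, i < 101988 → P i := stepQ 101987 Q101987 (allL N101987 (tt N65519 (iv1 D205162)) (tt N65679 F435232) (tt N65677 (iv2 F435235)) (tt N65534 F435237) (tt N65711 F435234) (tt N65532 (iv5 F435236)) (tt N120581 D223840) (tt N65676 F435233))
theorem Q101989 : ∀ i, i < 101989 → P i := stepQ 101988 Q101988 (allL N101988 (tt N117444 F505063) (tt N102024 F435404) (tt N65678 F435239) (tt N102223 F436255) (tt N96800 F435241) (tt N65519 (iv5 D205163)) (tt N65521 F435240) (tt N102081 (iv7 F435638)))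
theorem Q101990 : ∀ i, i < 101990 → P i := stepQ 101989 Q101989 (allL N101989 (tt N65677 (iv1 F435245)) (tt N65676 F435246) (tt N65679 F435242) (tt N115762 (iv3 F496725)) (tt N92945 F435243) (tt N102081 (iv5 F435636)) (tt N65713 F435244) (tt N65519 (iv7 D205164)))
theorem Q101991 : ∀ i, i < 101991 → P i := stepQ 101990 Q101990 (allL N101990 (tt N93967 F435250) (tt N93964 F435251) (tt N65680 F435247) (tt N81756 F435248) (tt N111874 (iv4 F478438)) (tt N65520 (iv5 D205165)) (tt N111873 (iv6 F478435)) (tt N65682 F435249))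
theorem Q101992 : ∀ i, i < 101992 → P i := stepQ 101991 Q101991 (allL N101991 (tt N74657 F435257) (tt N74628 F435258) (tt N65685 F435252) (tt N91826 F435253) (tt N65521 (iv4 D205166)) (tt N74637 F435256) (tt N96800 F435254) (tt N91824 F435255))
theorem Q101993 : ∀ i, i < 101993 → P i := stepQ 101992 Q101992 (allL N101992 (tt N65831 F435264) (tt N94448 (iv0 F435265)) (tt N65714 F435259) (tt N65648 F435260) (tt N92035 F435261) (tt N65647 F435262) (tt N65523 (iv6 D205167)) (tt N92071 F435263))
theorem Q101994 : ∀ i, i < 101994 → P i := stepQ 101993 Q101993 (allL N101993 (tt N96076 F435270) (tt N65736 (iv0 F435271)) (tt N117920 (iv2 F507607)) (tt N65526 (iv3 D205168)) (tt N92090 F435266) (tt N65676 F435267) (tt N97667 F435268) (tt N65532 F435269))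
theorem Q101995 : ∀ i, i < 101995 → P i := stepQ 101994 Q101994 (allL N101994 (tt N119383 F515344) (tt N97445 (iv0 F435274)) (tt N118074 (iv2 F508430)) (tt N65529 F435272) (tt N120582 D223841) (tt N65527 (iv5 D205169)) (tt N65675 (iv6 F435273)) (tt N119374 (iv7 F515284)))
theorem Q101996 : ∀ i, i < 101996 → P i := stepQ 101995 Q101995 (allL N101995 (tt N81806 (iv1 F435281)) (tt N81798 (iv0 F435280)) (tt N81803 F435275) (tt N65530 F435276) (tt N90560 F435277) (tt N96979 F435278) (tt N65527 (iv6 D205170)) (tt N81804 F435279))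
theorem Q101997 : ∀ i, i < 101997 → P i := stepQ 101996 Q101996 (allL N101996 (tt N75409 F435283) (tt N92097 (iv0 F435284)) (tt N92083 F435282) (tt N65528 (iv3 D205171)) (tt N102255 (iv4 F436396)) (tt N118315 (iv5 F509658)) (tt N81790 (iv6 F435285)) (tt N80219 F435286))
theorem Q101998 : ∀ i, i < 101998 → P i := stepQ 101997 Q101997 (allL N101997 (tt N86965 (iv1 F435290)) (tt N97657 (iv0 F435289)) (tt N67303 F435287) (tt N118315 (iv3 F509660)) (tt N78905 F435288) (tt N65528 (iv5 D205172)) (tt N120583 D223842) (tt N104284 (iv7 F445097)))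
theorem Q101999 : ∀ i, i < 101999 → P i := stepQ 101998 Q101998 (allL N101998 (tt N97614 (iv1 F435296)) (tt N65963 (iv0 F435294)) (tt N92087 F435291) (tt N81790 F435292) (tt N65530 F435293) (tt N106726 (iv5 F455428)) (tt N65528 (iv6 D205173)) (tt N97611 (iv7 F435295)))
theorem Q102000 : ∀ i, i < 102000 → P i := stepQ 101999 Q101999 (allL N101999 (tt N92086 (iv1 F435301)) (tt N67244 F435302) (tt N65533 F435297) (tt N80219 F435298) (tt N65531 F435299) (tt N104284 (iv5 F445094)) (tt N68829 F435300) (tt N65528 (iv7 D205174)))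
theorem Q102001 : ∀ i, i < 102001 → P i := stepQ 102000 Q102000 (allL N102000 (tt N65534 F435307) (tt N65529 (iv0 D205175)) (tt N65731 (iv2 F435305)) (tt N65759 F435306) (tt N102163 (iv4 F435988)) (tt N94783 F435303) (tt N92108 F435304) (tt N102026 (iv7 F435415)))
theorem Q102002 : ∀ i, i < 102002 → P i := stepQ 102001 Q102001 (allL N102001 (tt N102026 (iv1 F435416)) (tt N65731 (iv0 F435310)) (tt N65534 F435308) (tt N119374 (iv3 F515282)) (tt N102041 (iv4 F435475)) (tt N65531 F435309) (tt N102041 (iv6 F435476)) (tt N65529 (iv7 D205176)))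
theorem Q102003 : ∀ i, i < 102003 → P i := stepQ 102002 Q102002 (allL N102002 (tt N117920 (iv1 F507601)) (tt N65532 (iv0 D205177)) (tt N65736 (iv2 F435313)) (tt N65754 F435312) (tt N65694 F435311) (tt N103310 (iv5 F441088)) (tt N92686 F435314) (tt N96076 F435315))
theorem Q102004 : ∀ i, i < 102004 → P i := stepQ 102003 Q102003 (allL N102003 (tt N65736 (iv1 F435321)) (tt N96076 F435320) (tt N65532 (iv2 D205178)) (tt N82495 F435316) (tt N68679 F435317) (tt N65677 F435318) (tt N82493 F435319) (tt N117920 (iv7 F507602)))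
theorem Q102005 : ∀ i, i < 102005 → P i := stepQ 102004 Q102004 (allL N102004 (tt N93108 (iv1 F435439)) (tt N102039 F435470) (tt N102041 (iv2 F435474)) (tt N120581 (iv3 F521573)) (tt N65534 (iv4 D205179)) (tt N119425 (iv5 F515545)) (tt N65534 (iv6 F435323)) (tt N65674 F435322))
theorem Q102006 : ∀ i, i < 102006 → P i := stepQ 102005 Q102005 (allL N102005 (tt N93058 F435326) (tt N82379 F435327) (tt N87910 F435324) (tt N116131 (iv3 F498644)) (tt N120584 D223843) (tt N65535 (iv5 D205180)) (tt N119425 (iv6 F515546)) (tt N87909 F435325))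
theorem Q102007 : ∀ i, i < 102007 → P i := stepQ 102006 Q102006 (allL N102006 (tt N102207 (iv1 F436184)) (tt N102206 F436181) (tt N65539 F435328) (tt N92730 F435329) (tt N65536 (iv4 D205181)) (tt N92729 F435331) (tt N65541 F435330) (tt N102098 (iv7 F435713)))
theorem Q102008 : ∀ i, i < 102008 → P i := stepQ 102007 Q102007 (allL N102007 (tt N119381 (iv1 F515330)) (tt N106747 (iv0 F455522)) (tt N118992 (iv2 F513161)) (tt N65537 (iv3 D205182)) (tt N119393 (iv4 F515393)) (tt N96976 F435332) (tt N102074 (iv6 F435608)) (tt N102224 (iv7 F436260)))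
theorem Q102009 : ∀ i, i < 102009 → P i := stepQ 102008 Q102008 (allL N102008 (tt N119412 (iv1 F515483)) (tt N117687 (iv0 F506421)) (tt N102069 (iv2 F435582)) (tt N106745 F455516) (tt N65537 (iv4 D205183)) (tt N117359 (iv5 F504652)) (tt N101978 F435333) (tt N102225 (iv7 F436266)))
theorem Q102010 : ∀ i, i < 102010 → P i := stepQ 102009 Q102009 (allL N102009 (tt N103310 (iv1 F441089)) (tt N117689 (iv0 F506433)) (tt N102226 (iv2 F436270)) (tt N65538 (iv3 D205184)) (tt N102227 F436277) (tt N102130 (iv5 F435875)) (tt N65538 F435605) (tt N102073 F435606))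
theorem Q102011 : ∀ i, i < 102011 → P i := stepQ 102010 Q102010 (allL N102010 (tt N117687 F506422) (tt N119412 F515482) (tt N102225 (iv2 F436265)) (tt N102071 (iv3 F435593)) (tt N65538 (iv4 D205185)) (tt N104438 (iv5 F445761)) (tt N102227 (iv6 F436278)) (tt N102069 F435586))
theorem Q102012 : ∀ i, i < 102012 → P i := stepQ 102011 Q102011 (allL N102011 (tt N65539 (iv1 D205187)) (tt N102098 (iv0 F435714)) (tt N102206 F436182) (tt N102216 (iv3 F436233)) (tt N65639 (iv4 F435334)) (tt N104432 (iv5 F445734)) (tt N65638 (iv6 F435335)) (tt N102207 (iv7 F436185)))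
theorem Q102013 : ∀ i, i < 102013 → P i := stepQ 102012 Q102012 (allL N102012 (tt N102213 F436220) (tt N97427 (iv0 F435340)) (tt N92761 (iv2 F435338)) (tt N65541 (iv3 D205188)) (tt N117997 (iv4 F507991)) (tt N92942 (iv5 F435339)) (tt N92730 F435336) (tt N65810 F435337))
theorem Q102014 : ∀ i, i < 102014 → P i := stepQ 102013 Q102013 (allL N102013 (tt N118088 F508516) (tt N97888 F435344) (tt N65809 F435341) (tt N92942 F435342) (tt N111180 (iv4 F475105)) (tt N65541 (iv5 D205189)) (tt N110283 (iv6 F470831)) (tt N65812 F435343))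
theorem Q102015 : ∀ i, i < 102015 → P i := stepQ 102014 Q102014 (allL N102014 (tt N119380 F515326) (tt N120585 D223844) (tt N92718 F435348) (tt N65542 (iv3 D205190)) (tt N102210 (iv4 F436202)) (tt N92713 (iv5 F435347)) (tt N102099 (iv6 F435718)) (tt N65808 F435346))
theorem Q102016 : ∀ i, i < 102016 → P i := stepQ 102015 Q102015 (allL N102015 (tt N97888 F435354) (tt N118088 (iv0 F508515)) (tt N65812 F435349) (tt N92713 F435350) (tt N97785 F435353) (tt N65542 (iv5 D205191)) (tt N74664 F435351) (tt N65809 F435352))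
theorem Q102017 : ∀ i, i < 102017 → P i := stepQ 102016 Q102016 (allL N102016 (tt N82414 F435357) (tt N111038 F474380) (tt N65547 F435355) (tt N119015 (iv3 F513292)) (tt N65589 F435356) (tt N120586 D223845) (tt N65546 (iv6 D205192)) (tt N111037 (iv7 F474368)))
theorem Q102018 : ∀ i, i < 102018 → P i := stepQ 102017 Q102017 (allL N102017 (tt N111037 F474373) (tt N65547 (iv0 D205193)) (tt N82414 (iv2 F435359)) (tt N105717 F451395) (tt N82570 F435358) (tt N110220 (iv5 F470488)) (tt N97761 F435360) (tt N111038 (iv7 F474378)))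
theorem Q102019 : ∀ i, i < 102019 → P i := stepQ 102018 Q102018 (allL N102018 (tt N95193 F435366) (tt N95195 (iv0 F435364)) (tt N120586 (iv2 F521601)) (tt N65548 F435361) (tt N96654 (iv4 F435365)) (tt N65547 (iv5 D205194)) (tt N100837 F435362) (tt N78138 F435363))
theorem Q102020 : ∀ i, i < 102020 → P i := stepQ 102019 Q102019 (allL N102019 (tt N96960 F435376) (tt N66025 (iv0 F435377)) (tt N92117 F435371) (tt N65550 F435372) (tt N78529 F435373) (tt N92332 F435374) (tt N65549 (iv6 D205195)) (tt N92332 F435375))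
theorem Q102021 : ∀ i, i < 102021 → P i := stepQ 102020 Q102020 (allL N102020 (tt N95440 (iv1 F435383)) (tt N112870 (iv0 F483062)) (tt N81767 (iv2 F435381)) (tt N65551 (iv3 D205196)) (tt N81730 F435380) (tt N65896 F435378) (tt N65898 (iv6 F435382)) (tt N97419 F435379))
theorem Q102022 : ∀ i, i < 102022 → P i := stepQ 102021 Q102021 (allL N102021 (tt N111687 (iv1 F477485)) (tt N95788 (iv0 F435387)) (tt N86370 F435384) (tt N106825 (iv3 F455850)) (tt N65551 (iv4 D205197)) (tt N86359 F435386) (tt N91410 F435388) (tt N97420 F435385))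
theorem Q102023 : ∀ i, i < 102023 → P i := stepQ 102022 Q102022 (allL N102022 (tt N79551 (iv1 F435395)) (tt N79554 (iv0 F435394)) (tt N97423 F435389) (tt N65898 F435390) (tt N91410 F435391) (tt N65893 F435392) (tt N65551 (iv6 D205198)) (tt N81672 F435393))
theorem Q102024 : ∀ i, i < 102024 → P i := stepQ 102023 Q102023 (allL N102023 (tt N97773 F435400) (tt N66587 (iv0 F435402)) (tt N97046 F435396) (tt N97837 F435397) (tt N65555 (iv4 D205199)) (tt N98006 F435401) (tt N97911 F435398) (tt N97772 F435399))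
theorem Q102025 : ∀ i, i < 102025 → P i := stepQ 102024 Q102024 (allL N102024 (tt N101988 (iv1 F435404)) (tt N102084 F435649) (tt N102131 (iv2 F435882)) (tt N65556 (iv3 D205200)) (tt N95392 F435403) (tt N102073 (iv5 F435604)) (tt N105874 (iv6 F452126)) (tt N102130 F435877))
theorem Q102026 : ∀ i, i < 102026 → P i := stepQ 102025 Q102025 (allL N102025 (tt N66587 F435408) (tt N97773 F435410) (tt N97772 F435405) (tt N66582 F435411) (tt N65556 (iv4 D205201)) (tt N92100 F435409) (tt N67492 F435406) (tt N97046 F435407))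
theorem Q102027 : ∀ i, i < 102027 → P i := stepQ 102026 Q102026 (allL N102026 (tt N65571 F435417) (tt N102001 F435416) (tt N65558 F435413) (tt N95810 F435414) (tt N97001 (iv4 F435418)) (tt N65557 (iv5 D205202)) (tt N102114 (iv6 F435798)) (tt N102000 F435415))
theorem Q102028 : ∀ i, i < 102028 → P i := stepQ 102027 Q102027 (allL N102027 (tt N65732 F435424) (tt N97003 F435425) (tt N97001 F435421) (tt N95441 F435422) (tt N65558 (iv4 D205203)) (tt N119449 (iv5 F515680)) (tt N104421 F445682) (tt N97000 F435423))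
theorem Q102029 : ∀ i, i < 102029 → P i := stepQ 102028 Q102028 (allL N102028 (tt N95815 (iv1 F435428)) (tt N65560 (iv0 D205204)) (tt N95813 F435431) (tt N65586 (iv3 F435429)) (tt N102039 (iv4 F435469)) (tt N65584 F435426) (tt N66013 F435427) (tt N95814 F435430))
theorem Q102030 : ∀ i, i < 102030 → P i := stepQ 102029 Q102029 (allL N102029 (tt N65560 (iv1 D205205)) (tt N95815 F435432) (tt N95814 F435436) (tt N94840 (iv3 F435435)) (tt N93108 F435437) (tt N94839 F435434) (tt N102181 (iv6 F436071)) (tt N95813 F435433))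
theorem Q102031 : ∀ i, i < 102031 → P i := stepQ 102030 Q102030 (allL N102030 (tt N102120 F435837) (tt N102089 (iv0 F435669)) (tt N97770 F435440) (tt N65561 (iv3 D205206)) (tt N96785 F435441) (tt N66588 F435442) (tt N97756 F435443) (tt N95817 F435444))
theorem Q102032 : ∀ i, i < 102032 → P i := stepQ 102031 Q102031 (allL N102031 (tt N87709 F435451) (tt N87721 F435450) (tt N87719 F435445) (tt N95468 F435446) (tt N65566 (iv4 D205207)) (tt N87172 F435449) (tt N65650 F435447) (tt N87718 F435448))
theorem Q102033 : ∀ i, i < 102033 → P i := stepQ 102032 Q102032 (allL N102032 (tt N102114 F435801) (tt N102111 (iv0 F435784)) (tt N65569 F435452) (tt N102126 (iv3 F435862)) (tt N93025 F435453) (tt N65568 (iv5 D205208)) (tt N93028 F435454) (tt N102121 (iv7 F435840)))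
theorem Q102034 : ∀ i, i < 102034 → P i := stepQ 102033 Q102033 (allL N102033 (tt N117634 F506120) (tt N117633 (iv0 F506114)) (tt N65570 F435455) (tt N81214 F435456) (tt N71710 F435457) (tt N112504 (iv5 F481400)) (tt N65568 (iv6 D205209)) (tt N117513 (iv7 F505443)))
theorem Q102035 : ∀ i, i < 102035 → P i := stepQ 102034 Q102034 (allL N102034 (tt N117513 F505445) (tt N65570 (iv0 D205210)) (tt N117634 (iv2 F506115)) (tt N67218 F435458) (tt N117632 F506105) (tt N117671 (iv5 F506334)) (tt N67217 F435459) (tt N117633 (iv7 F506110)))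
theorem Q102036 : ∀ i, i < 102036 → P i := stepQ 102035 Q102035 (allL N102035 (tt N65570 (iv1 D205211)) (tt N117513 (iv0 F505444)) (tt N117633 (iv2 F506108)) (tt N79542 F435461) (tt N106722 (iv4 F455407)) (tt N117670 (iv5 F506329)) (tt N97041 (iv6 F435460)) (tt N117634 (iv7 F506118)))
theorem Q102037 : ∀ i, i < 102037 → P i := stepQ 102036 Q102036 (allL N102036 (tt N117633 (iv1 F506112)) (tt N117634 (iv0 F506119)) (tt N117513 (iv2 F505439)) (tt N65572 F435462) (tt N71712 F435463) (tt N112489 (iv5 F481318)) (tt N66601 F435464) (tt N65570 (iv7 D205212)))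
theorem Q102038 : ∀ i, i < 102038 → P i := stepQ 102037 Q102037 (allL N102037 (tt N120587 D223846) (tt N120582 (iv0 F521581)) (tt N117427 (iv2 F504984)) (tt N102127 (iv3 F435867)) (tt N65576 (iv4 D205213)) (tt N100293 F435465) (tt N120588 D223847) (tt N102127 (iv7 F435868)))
theorem Q102039 : ∀ i, i < 102039 → P i := stepQ 102038 Q102038 (allL N102038 (tt N71848 F435468) (tt N120589 D223848) (tt N116215 (iv2 F499059)) (tt N65578 F435466) (tt N120588 (iv4 F521611)) (tt N71641 F435467) (tt N65576 (iv6 D205214)) (tt N117357 (iv7 F504644)))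
theorem Q102040 : ∀ i, i < 102040 → P i := stepQ 102039 Q102039 (allL N102039 (tt N102004 (iv1 F435470)) (tt N65578 (iv0 D205215)) (tt N102124 (iv2 F435856)) (tt N102155 (iv3 F435953)) (tt N102028 F435469) (tt N118093 (iv5 F508544)) (tt N102389 (iv6 F437018)) (tt N102125 (iv7 F435858)))
theorem Q102041 : ∀ i, i < 102041 → P i := stepQ 102040 Q102040 (allL N102040 (tt N120590 D223849) (tt N103474 (iv0 F441786)) (tt N97578 F435471) (tt N71641 F435472) (tt N103697 (iv4 F442521)) (tt N65578 (iv5 D205216)) (tt N65579 F435473) (tt N115833 (iv7 F497141)))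
theorem Q102042 : ∀ i, i < 102042 → P i := stepQ 102041 Q102041 (allL N102041 (tt N102125 (iv1 F435857)) (tt N102124 F435852) (tt N102004 F435474) (tt N117357 (iv3 F504643)) (tt N102001 F435475) (tt N115833 (iv5 F497140)) (tt N102001 F435476) (tt N65578 (iv7 D205217)))
theorem Q102043 : ∀ i, i < 102043 → P i := stepQ 102042 Q102042 (allL N102042 (tt N118994 (iv1 F513172)) (tt N118993 (iv0 F513167)) (tt N97577 F435477) (tt N103700 (iv3 F442523)) (tt N65579 (iv4 D205218)) (tt N103695 F442512) (tt N103697 (iv6 F442520)) (tt N97573 F435478))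
theorem Q102044 : ∀ i, i < 102044 → P i := stepQ 102043 Q102043 (allL N102043 (tt N67453 F435483) (tt N79540 F435484) (tt N94841 F435479) (tt N65583 F435480) (tt N94687 F435481) (tt N80231 F435482) (tt N65580 (iv6 D205219)) (tt N111939 (iv7 F478775)))
theorem Q102045 : ∀ i, i < 102045 → P i := stepQ 102044 Q102044 (allL N102044 (tt N65581 (iv1 D205220)) (tt N65585 F435485) (tt N95697 F435488) (tt N94948 (iv3 F435487)) (tt N112870 (iv4 F483060)) (tt N109360 (iv5 F466566)) (tt N111026 (iv6 F474323)) (tt N95695 F435486))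
theorem Q102046 : ∀ i, i < 102046 → P i := stepQ 102045 Q102045 (allL N102045 (tt N97911 F435492) (tt N97904 F435493) (tt N117985 (iv2 F507918)) (tt N65587 F435489) (tt N86939 F435490) (tt N66014 F435491) (tt N65584 (iv6 D205221)) (tt N115245 (iv7 F494193)))
theorem Q102047 : ∀ i, i < 102047 → P i := stepQ 102046 Q102046 (allL N102046 (tt N117036 (iv1 F503078)) (tt N79803 (iv0 F435496)) (tt N117035 F503068) (tt N86940 F435494) (tt N65587 F435495) (tt N100794 (iv5 F435497)) (tt N65585 (iv6 D205222)) (tt N111830 (iv7 F478190)))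
theorem Q102048 : ∀ i, i < 102048 → P i := stepQ 102047 Q102047 (allL N102047 (tt N102155 (iv1 F435955)) (tt N92943 F435815) (tt N102116 (iv2 F435809)) (tt N66013 F435498) (tt N111594 (iv4 F477070)) (tt N66012 (iv5 F435499)) (tt N65586 (iv6 D205223)) (tt N102160 (iv7 F435975)))
theorem Q102049 : ∀ i, i < 102049 → P i := stepQ 102048 Q102048 (allL N102048 (tt N65587 (iv1 D205224)) (tt N66595 F435500) (tt N66597 (iv2 F435502)) (tt N97845 (iv3 F435503)) (tt N107749 (iv4 F459544)) (tt N103569 (iv5 F442073)) (tt N97781 (iv6 F435504)) (tt N66590 F435501))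
theorem Q102050 : ∀ i, i < 102050 → P i := stepQ 102049 Q102049 (allL N102049 (tt N103248 F440781) (tt N103253 F440806) (tt N103251 F440796) (tt N66014 F435505) (tt N87840 F435507) (tt N65587 (iv5 D205225)) (tt N66012 F435506) (tt N80423 (iv7 F435508)))
theorem Q102051 : ∀ i, i < 102051 → P i := stepQ 102050 Q102050 (allL N102050 (tt N66597 (iv1 F435512)) (tt N66590 F435513) (tt N66595 F435509) (tt N115245 (iv3 F494191)) (tt N111830 (iv4 F478192)) (tt N80423 F435510) (tt N80230 F435511) (tt N65587 (iv7 D205226)))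
theorem Q102052 : ∀ i, i < 102052 → P i := stepQ 102051 Q102051 (allL N102051 (tt N94791 F435516) (tt N88285 (iv0 F435517)) (tt N65593 F435514) (tt N94794 F435515) (tt N103308 (iv4 F441078)) (tt N119006 (iv5 F513241)) (tt N65588 (iv6 D205227)) (tt N102200 (iv7 F436151)))
theorem Q102053 : ∀ i, i < 102053 → P i := stepQ 102052 Q102052 (allL N102052 (tt N65597 F435524) (tt N65589 (iv0 D205228)) (tt N65594 (iv2 F435520)) (tt N67221 (iv3 F435521)) (tt N96468 (iv4 F435522)) (tt N88229 F435518) (tt N93212 F435519) (tt N65595 (iv7 F435523)))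
theorem Q102054 : ∀ i, i < 102054 → P i := stepQ 102053 Q102053 (allL N102053 (tt N65589 (iv1 D205229)) (tt N65597 F435525) (tt N65595 F435530) (tt N67447 (iv3 F435528)) (tt N96010 F435531) (tt N93078 F435527) (tt N67211 (iv6 F435529)) (tt N65594 F435526))
theorem Q102055 : ∀ i, i < 102055 → P i := stepQ 102054 Q102054 (allL N102054 (tt N104390 F476727) (tt N117622 (iv0 F506051)) (tt N65596 F435532) (tt N84697 F435533) (tt N120591 D223850) (tt N65589 (iv5 D205230)) (tt N119006 (iv6 F513244)) (tt N111676 (iv7 F477432)))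
theorem Q102056 : ∀ i, i < 102056 → P i := stepQ 102055 Q102055 (allL N102055 (tt N65595 (iv1 F435537)) (tt N65594 F435538) (tt N65597 F435534) (tt N79673 F435535) (tt N111037 (iv4 F474369)) (tt N111676 (iv5 F477429)) (tt N97777 F435536) (tt N65589 (iv7 D205231)))
theorem Q102057 : ∀ i, i < 102057 → P i := stepQ 102056 Q102056 (allL N102056 (tt N102222 (iv1 F436250)) (tt N65639 (iv0 F435540)) (tt N102245 (iv2 F436344)) (tt N65591 (iv3 D205232)) (tt N97475 F435542) (tt N65662 F435539) (tt N65804 (iv6 F435541)) (tt N103411 (iv7 F441501)))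
theorem Q102058 : ∀ i, i < 102058 → P i := stepQ 102057 Q102057 (allL N102057 (tt N97473 F435545) (tt N102170 (iv0 F436017)) (tt N118697 (iv2 F511598)) (tt N65804 F435543) (tt N102060 (iv4 F435553)) (tt N97655 F435544) (tt N65591 (iv6 D205233)) (tt N102209 (iv7 F436199)))
theorem Q102059 : ∀ i, i < 102059 → P i := stepQ 102058 Q102058 (allL N102058 (tt N65592 (iv1 D205234)) (tt N102291 (iv0 F436588)) (tt N118707 (iv2 F511654)) (tt N83571 (iv3 F435547)) (tt N119121 (iv4 F513896)) (tt N83570 F435546) (tt N116083 (iv6 F498373)) (tt N102415 (iv7 F437141)))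
theorem Q102060 : ∀ i, i < 102060 → P i := stepQ 102059 Q102059 (allL N102059 (tt N102844 (iv1 F438905)) (tt N102202 (iv0 F436158)) (tt N103308 (iv2 F441075)) (tt N65784 F435548) (tt N65593 F435549) (tt N102367 (iv5 F436934)) (tt N65592 (iv6 D205235)) (tt N102198 (iv7 F436144)))
theorem Q102061 : ∀ i, i < 102061 → P i := stepQ 102060 Q102060 (allL N102060 (tt N102200 (iv1 F436150)) (tt N65593 (iv0 D205236)) (tt N94791 (iv2 F435551)) (tt N102214 (iv3 F436223)) (tt N102057 F435553) (tt N88286 (iv5 F435554)) (tt N94787 F435550) (tt N88285 F435552))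
theorem Q102062 : ∀ i, i < 102062 → P i := stepQ 102061 Q102061 (allL N102061 (tt N119008 (iv1 F513259)) (tt N88243 F435558) (tt N119006 F513245) (tt N65602 F435555) (tt N99724 F435557) (tt N65593 (iv5 D205237)) (tt N65596 F435556) (tt N104316 (iv7 F445209)))
theorem Q102063 : ∀ i, i < 102063 → P i := stepQ 102062 Q102062 (allL N102062 (tt N88285 (iv1 F435560)) (tt N94791 F435561) (tt N102200 (iv2 F436153)) (tt N65603 F435559) (tt N102198 (iv4 F436143)) (tt N104316 (iv5 F445207)) (tt N114810 (iv6 F491990)) (tt N65593 (iv7 D205238)))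
theorem Q102064 : ∀ i, i < 102064 → P i := stepQ 102063 Q102063 (allL N102063 (tt N79357 F435566) (tt N111026 F474325) (tt N96468 F435562) (tt N96014 F435563) (tt N65594 (iv4 D205239)) (tt N112007 (iv5 F479046)) (tt N79801 F435564) (tt N96010 F435565))
theorem Q102065 : ∀ i, i < 102065 → P i := stepQ 102064 Q102064 (allL N102064 (tt N111026 (iv1 F474324)) (tt N79357 F435571) (tt N96010 F435567) (tt N96458 F435568) (tt N65595 (iv4 D205240)) (tt N112006 (iv5 F479042)) (tt N67214 F435569) (tt N96468 F435570))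
theorem Q102066 : ∀ i, i < 102066 → P i := stepQ 102065 Q102065 (allL N102065 (tt N111676 F477431) (tt N65596 (iv0 D205241)) (tt N104390 (iv2 F445551)) (tt N88308 F435572) (tt N85694 (iv4 F435574)) (tt N92079 (iv5 F435575)) (tt N85692 F435573) (tt N117622 (iv7 F506050)))
theorem Q102067 : ∀ i, i < 102067 → P i := stepQ 102066 Q102066 (allL N102066 (tt N65596 (iv1 D205242)) (tt N111676 (iv0 F477430)) (tt N117622 (iv2 F506046)) (tt N102357 (iv3 F436882)) (tt N116012 (iv4 F498042)) (tt N92080 (iv5 F435576)) (tt N102355 F436874) (tt N104390 (iv7 F445554)))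
theorem Q102068 : ∀ i, i < 102068 → P i := stepQ 102067 Q102067 (allL N102067 (tt N115600 (iv1 F495938)) (tt N108511 (iv0 F462899)) (tt N120591 (iv2 F521625)) (tt N98762 F435577) (tt N65596 (iv4 D205243)) (tt N117476 (iv5 F505227)) (tt N99724 F435578) (tt N113562 (iv7 F486042)))
theorem Q102069 : ∀ i, i < 102069 → P i := stepQ 102068 Q102068 (allL N102068 (tt N117622 (iv1 F506052)) (tt N104390 (iv0 F445555)) (tt N111676 (iv2 F477427)) (tt N65610 F435579) (tt N113562 (iv4 F486041)) (tt N65597 F435580) (tt N79691 (iv6 F435581)) (tt N65596 (iv7 D205244)))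
theorem Q102070 : ∀ i, i < 102070 → P i := stepQ 102069 Q102069 (allL N102069 (tt N120592 D223851) (tt N97475 (iv0 F435587)) (tt N102008 F435582) (tt N65599 F435583) (tt N65801 F435584) (tt N93107 F435585) (tt N65598 (iv6 D205245)) (tt N102010 (iv7 F435586)))
theorem Q102071 : ∀ i, i < 102071 → P i := stepQ 102070 Q102070 (allL N102070 (tt N119498 F515920) (tt N116233 (iv0 F499153)) (tt N97471 F435588) (tt N93107 F435589) (tt N119464 (iv4 F515754)) (tt N65599 (iv5 D205246)) (tt N65658 F435590) (tt N98029 (iv7 F435591)))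
theorem Q102072 : ∀ i, i < 102072 → P i := stepQ 102071 Q102071 (allL N102071 (tt N97470 (iv1 F435597)) (tt N97469 F435598) (tt N97472 F435592) (tt N102010 F435593) (tt N92045 F435594) (tt N98029 F435595) (tt N92045 F435596) (tt N65599 (iv7 D205247)))
theorem Q102073 : ∀ i, i < 102073 → P i := stepQ 102072 Q102072 (allL N102072 (tt N93083 (iv1 F435600)) (tt N104356 (iv0 F445408)) (tt N120577 (iv2 F521545)) (tt N120579 (iv3 F521559)) (tt N98158 F435599) (tt N65600 (iv5 D205248)) (tt N104353 F445391) (tt N120579 (iv7 F521562)))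
theorem Q102074 : ∀ i, i < 102074 → P i := stepQ 102073 Q102073 (allL N102073 (tt N97477 (iv1 F435607)) (tt N102165 (iv0 F436001)) (tt N120578 (iv2 F521551)) (tt N65801 F435601) (tt N92042 F435602) (tt N102024 F435604) (tt N65600 (iv6 D205249)) (tt N102009 (iv7 F435606)))
theorem Q102075 : ∀ i, i < 102075 → P i := stepQ 102074 Q102074 (allL N102074 (tt N97455 F515385) (tt N97455 (iv0 F435968)) (tt N120576 (iv2 F521539)) (tt N65601 (iv3 D205250)) (tt N120593 D223852) (tt N120594 D223853) (tt N102007 F435608) (tt N120576 (iv7 F521541)))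
theorem Q102076 : ∀ i, i < 102076 → P i := stepQ 102075 Q102075 (allL N102075 (tt N104356 F445407) (tt N93083 (iv0 F435610)) (tt N120579 (iv2 F521558)) (tt N120594 (iv3 F521645)) (tt N92657 F435609) (tt N65601 (iv5 D205251)) (tt N115826 F497109) (tt N120577 (iv7 F521546)))
theorem Q102077 : ∀ i, i < 102077 → P i := stepQ 102076 Q102076 (allL N102076 (tt N91193 (iv1 F435614)) (tt N65604 (iv0 D205252)) (tt N79690 (iv2 F435613)) (tt N67220 F435612) (tt N106719 (iv4 F455394)) (tt N86833 F435611) (tt N65651 (iv6 F435616)) (tt N67484 F435615))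
theorem Q102078 : ∀ i, i < 102078 → P i := stepQ 102077 Q102077 (allL N102077 (tt N79683 F435620) (tt N88374 (iv0 F435621)) (tt N88372 F435617) (tt N65608 (iv3 D205253)) (tt N115175 (iv4 F493858)) (tt N80215 F435618) (tt N115716 (iv6 F496478)) (tt N88373 F435619))
theorem Q102079 : ∀ i, i < 102079 → P i := stepQ 102078 Q102078 (allL N102078 (tt N68007 F435624) (tt N118123 F508735) (tt N118122 (iv2 F508729)) (tt N65613 (iv3 D205254)) (tt N102564 (iv4 F437678)) (tt N104306 (iv5 F445155)) (tt N93038 F435622) (tt N67365 F435623))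
theorem Q102080 : ∀ i, i < 102080 → P i := stepQ 102079 Q102079 (allL N102079 (tt N93067 F435627) (tt N70716 (iv0 F435628)) (tt N93063 F435625) (tt N65615 (iv3 D205255)) (tt N103267 (iv4 F440883)) (tt N112318 (iv5 F480523)) (tt N114955 (iv6 F492748)) (tt N67329 F435626))
theorem Q102081 : ∀ i, i < 102081 → P i := stepQ 102080 Q102080 (allL N102080 (tt N67362 (iv1 F435633)) (tt N66629 F435634) (tt N67364 F435629) (tt N80740 F435630) (tt N103254 (iv4 F440810)) (tt N97746 F435631) (tt N67340 F435632) (tt N65617 (iv7 D205256)))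
theorem Q102082 : ∀ i, i < 102082 → P i := stepQ 102081 Q102081 (allL N102081 (tt N102131 (iv1 F435879)) (tt N102130 F435876) (tt N102084 (iv2 F435645)) (tt N87720 F435635) (tt N65618 (iv4 D205257)) (tt N101989 F435636) (tt N67344 F435637) (tt N101988 F435638))
theorem Q102083 : ∀ i, i < 102083 → P i := stepQ 102082 Q102082 (allL N102082 (tt N73686 (iv1 F435641)) (tt N73688 (iv0 F435640)) (tt N111482 F476548) (tt N65619 (iv3 D205258)) (tt N118696 (iv4 F511593)) (tt N82131 F435639) (tt N102137 (iv6 F435899)) (tt N109386 (iv7 F466703)))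
theorem Q102084 : ∀ i, i < 102084 → P i := stepQ 102083 Q102083 (allL N102083 (tt N96848 F435643) (tt N96849 F435644) (tt N113705 (iv2 F486733)) (tt N109042 (iv3 F465064)) (tt N65622 (iv4 D205259)) (tt N110720 (iv5 F472894)) (tt N109041 (iv6 F465062)) (tt N87366 F435642))
theorem Q102085 : ∀ i, i < 102085 → P i := stepQ 102084 Q102084 (allL N102084 (tt N102024 (iv1 F435649)) (tt N117444 (iv0 F505062)) (tt N102081 F435645) (tt N65624 (iv3 D205260)) (tt N96801 F435648) (tt N65679 F435646) (tt N103241 (iv6 F440736)) (tt N65678 F435647))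
theorem Q102086 : ∀ i, i < 102086 → P i := stepQ 102085 Q102085 (allL N102085 (tt N111386 F476117) (tt N94816 (iv0 F435652)) (tt N94786 F435650) (tt N118862 (iv3 F512455)) (tt N65624 (iv4 D205261)) (tt N118787 (iv5 F512068)) (tt N81858 (iv6 F435653)) (tt N94784 F435651))
theorem Q102087 : ∀ i, i < 102087 → P i := stepQ 102086 Q102086 (allL N102086 (tt N92057 F435657) (tt N92061 F435658) (tt N92059 F435654) (tt N103241 (iv3 F440735)) (tt N81858 F435655) (tt N97951 F435656) (tt N65624 (iv6 D205262)) (tt N92058 (iv7 F435659)))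
theorem Q102088 : ∀ i, i < 102088 → P i := stepQ 102087 Q102087 (allL N102087 (tt N71731 (iv1 F435661)) (tt N71734 F435662) (tt N102223 (iv2 F436258)) (tt N65625 (iv3 D205263)) (tt N112152 (iv4 F479771)) (tt N118086 (iv5 F508497)) (tt N112151 F479768) (tt N94785 F435660))
theorem Q102089 : ∀ i, i < 102089 → P i := stepQ 102088 Q102088 (allL N102088 (tt N94816 F435665) (tt N111386 F476118) (tt N94784 F435663) (tt N93252 F435666) (tt N65625 (iv4 D205264)) (tt N114657 (iv5 F491231)) (tt N112132 (iv6 F479663)) (tt N94786 F435664))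
theorem Q102090 : ∀ i, i < 102090 → P i := stepQ 102089 Q102089 (allL N102089 (tt N102030 F435669) (tt N112501 (iv0 F481385)) (tt N65671 F435667) (tt N112151 (iv3 F479763)) (tt N112132 (iv4 F479660)) (tt N65665 F435668) (tt N65625 (iv6 D205265)) (tt N112290 (iv7 F480387)))
theorem Q102091 : ∀ i, i < 102091 → P i := stepQ 102090 Q102090 (allL N102090 (tt N97117 (iv1 F435674)) (tt N65628 (iv0 D205266)) (tt N91955 (iv2 F435673)) (tt N80415 F435672) (tt N91963 F435671) (tt N65932 F435670) (tt N103452 (iv6 F441698)) (tt N80414 F435675))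
theorem Q102092 : ∀ i, i < 102092 → P i := stepQ 102091 Q102091 (allL N102091 (tt N65629 (iv1 D205267)) (tt N79545 F435676) (tt N112657 (iv2 F482034)) (tt N93973 (iv3 F435679)) (tt N97082 F435678) (tt N120580 (iv5 F521568)) (tt N80153 (iv6 F435680)) (tt N79689 F435677))
theorem Q102093 : ∀ i, i < 102093 → P i := stepQ 102092 Q102092 (allL N102092 (tt N115779 (iv1 F496829)) (tt N95812 F435684) (tt N102293 (iv2 F436595)) (tt N65631 F435681) (tt N65766 F435683) (tt N65629 (iv5 D205268)) (tt N65765 F435685) (tt N95029 F435682))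
theorem Q102094 : ∀ i, i < 102094 → P i := stepQ 102093 Q102093 (allL N102093 (tt N101713 (iv1 F435690)) (tt N101712 F435691) (tt N80038 F435686) (tt N65632 F435687) (tt N80041 F435688) (tt N103243 (iv5 F440746)) (tt N65629 (iv6 D205269)) (tt N97846 F435689))
theorem Q102095 : ∀ i, i < 102095 → P i := stepQ 102094 Q102094 (allL N102094 (tt N68675 F435694) (tt N68672 F435695) (tt N65638 F435692) (tt N117687 (iv3 F506418)) (tt N65634 (iv4 D205270)) (tt N67497 F435693) (tt N102206 (iv6 F436180)) (tt N103309 (iv7 F441084)))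
theorem Q102096 : ∀ i, i < 102096 → P i := stepQ 102095 Q102095 (allL N102095 (tt N102245 F436347) (tt N103411 (iv0 F441502)) (tt N65639 F435696) (tt N120580 (iv3 F521566)) (tt N102206 (iv4 F436178)) (tt N93973 (iv5 F435697)) (tt N65634 (iv6 D205271)) (tt N102222 (iv7 F436248)))
theorem Q102097 : ∀ i, i < 102097 → P i := stepQ 102096 Q102096 (allL N102096 (tt N112809 F482715) (tt N97776 F435704) (tt N65642 F435699) (tt N80153 F435700) (tt N93974 F435703) (tt N65635 (iv5 D205272)) (tt N93973 F435701) (tt N67490 F435702))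
theorem Q102098 : ∀ i, i < 102098 → P i := stepQ 102097 Q102097 (allL N102097 (tt N114810 (iv1 F491994)) (tt N120580 (iv0 F521570)) (tt N117997 (iv2 F507989)) (tt N65636 (iv3 D205273)) (tt N92761 F435707) (tt N65702 F435705) (tt N92760 (iv6 F435706)) (tt N102240 (iv7 F436320)))
theorem Q102099 : ∀ i, i < 102099 → P i := stepQ 102098 Q102098 (allL N102098 (tt N102011 F435714) (tt N97476 (iv0 F435715)) (tt N65779 F435709) (tt N92760 F435710) (tt N65802 F435711) (tt N97670 F435712) (tt N65636 (iv6 D205274)) (tt N102006 F435713))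
theorem Q102100 : ∀ i, i < 102100 → P i := stepQ 102099 Q102099 (allL N102099 (tt N66059 (iv1 F435721)) (tt N66062 F435722) (tt N65888 (iv2 F435720)) (tt N65637 (iv3 D205275)) (tt N65785 F435716) (tt N65704 F435717) (tt N102014 F435718) (tt N65781 F435719))
theorem Q102101 : ∀ i, i < 102101 → P i := stepQ 102100 Q102100 (allL N102100 (tt N65639 (iv1 D205276)) (tt N102222 (iv0 F436251)) (tt N103411 (iv2 F441498)) (tt N95043 (iv3 F435724)) (tt N120592 (iv4 F521632)) (tt N67257 F435723) (tt N67258 (iv6 F435725)) (tt N102245 (iv7 F436345)))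
theorem Q102102 : ∀ i, i < 102102 → P i := stepQ 102101 Q102101 (allL N102101 (tt N103411 (iv1 F441503)) (tt N102245 F436348) (tt N102222 (iv2 F436246)) (tt N65645 F435726) (tt N102207 F436186) (tt N67487 F435727) (tt N94795 F435728) (tt N65639 (iv7 D205277)))
theorem Q102103 : ∀ i, i < 102103 → P i := stepQ 102102 Q102102 (allL N102102 (tt N97842 F435734) (tt N93963 F435735) (tt N97844 F435729) (tt N87919 F435730) (tt N86986 F435731) (tt N100683 F435732) (tt N65640 (iv6 D205278)) (tt N92119 F435733))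
theorem Q102104 : ∀ i, i < 102104 → P i := stepQ 102103 Q102103 (allL N102103 (tt N67490 (iv1 F435739)) (tt N65642 (iv0 D205279)) (tt N112809 (iv2 F482710)) (tt N97778 F435738) (tt N103450 (iv4 F441689)) (tt N108958 (iv5 F464666)) (tt N67468 F435736) (tt N97776 (iv7 F435737)))
theorem Q102105 : ∀ i, i < 102105 → P i := stepQ 102104 Q102104 (allL N102104 (tt N97776 (iv1 F435745)) (tt N112809 (iv0 F482714)) (tt N67490 F435740) (tt N65651 F435741) (tt N97664 F435742) (tt N65643 F435743) (tt N67220 F435744) (tt N65642 (iv7 D205280)))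
theorem Q102106 : ∀ i, i < 102106 → P i := stepQ 102105 Q102105 (allL N102105 (tt N92946 (iv1 F435750)) (tt N65803 (iv0 F435749)) (tt N92042 F435746) (tt N97453 F435747) (tt N120578 (iv4 F521553)) (tt N92099 F435748) (tt N65644 (iv6 D205281)) (tt N103487 (iv7 F441829)))
theorem Q102107 : ∀ i, i < 102107 → P i := stepQ 102106 Q102106 (allL N102106 (tt N92085 F435755) (tt N92095 F435756) (tt N92069 F435751) (tt N80734 F435752) (tt N95601 F435753) (tt N102136 (iv5 F435897)) (tt N65646 (iv6 D205282)) (tt N92093 F435754))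
theorem Q102108 : ∀ i, i < 102108 → P i := stepQ 102107 Q102107 (allL N102107 (tt N117639 (iv1 F506148)) (tt N79469 F435763) (tt N97483 F435759) (tt N95504 F435760) (tt N65648 (iv4 D205283)) (tt N108598 (iv5 F463192)) (tt N80248 F435761) (tt N95603 F435762))
theorem Q102109 : ∀ i, i < 102109 → P i := stepQ 102108 Q102108 (allL N102108 (tt N97041 (iv1 F435769)) (tt N67467 (iv0 F435768)) (tt N97043 F435764) (tt N80374 F435765) (tt N102324 (iv4 F436730)) (tt N97620 F435766) (tt N65649 (iv6 D205284)) (tt N97042 F435767))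
theorem Q102110 : ∀ i, i < 102110 → P i := stepQ 102109 Q102109 (allL N102109 (tt N80814 F435773) (tt N81166 F435774) (tt N81164 F435770) (tt N65650 (iv3 D205285)) (tt N104270 (iv4 F445049)) (tt N115843 (iv5 F497189)) (tt N95468 F435771) (tt N81165 F435772))
theorem Q102111 : ∀ i, i < 102111 → P i := stepQ 102110 Q102110 (allL N102110 (tt N97131 F435779) (tt N84536 F435780) (tt N114205 (iv2 F488980)) (tt N115843 (iv3 F497187)) (tt N74074 F435776) (tt N65650 (iv5 D205286)) (tt N87171 F435777) (tt N74073 F435778))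
theorem Q102112 : ∀ i, i < 102112 → P i := stepQ 102111 Q102111 (allL N102111 (tt N102032 F435784) (tt N65673 F435785) (tt N92041 F435781) (tt N92690 F435782) (tt N118085 (iv4 F508491)) (tt N65654 (iv5 D205287)) (tt N92106 (iv6 F435786)) (tt N92038 F435783))
theorem Q102113 : ∀ i, i < 102113 → P i := stepQ 102112 Q102112 (allL N102112 (tt N97052 F435790) (tt N65715 F435791) (tt N87783 F435787) (tt N92691 F435788) (tt N111875 (iv4 F478443)) (tt N68739 F435789) (tt N65654 (iv6 D205288)) (tt N108777 (iv7 F463883)))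
theorem Q102114 : ∀ i, i < 102114 → P i := stepQ 102113 Q102113 (allL N102113 (tt N65887 (iv1 F435795)) (tt N65702 F435796) (tt N92680 F435792) (tt N65655 (iv3 D205289)) (tt N118967 (iv4 F513019)) (tt N118778 (iv5 F512009)) (tt N80224 F435793) (tt N87785 F435794))
theorem Q102115 : ∀ i, i < 102115 → P i := stepQ 102114 Q102114 (allL N102114 (tt N65673 F435800) (tt N102032 (iv0 F435801)) (tt N92038 F435797) (tt N118778 (iv3 F512011)) (tt N118084 (iv4 F508483)) (tt N65655 (iv5 D205290)) (tt N102026 F435798) (tt N92041 F435799))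
theorem Q102116 : ∀ i, i < 102116 → P i := stepQ 102115 Q102115 (allL N102115 (tt N67240 (iv1 F435808)) (tt N67239 F435807) (tt N67164 F435802) (tt N67254 F435803) (tt N65990 F435804) (tt N65661 (iv5 D205291)) (tt N65989 F435805) (tt N67241 F435806))
theorem Q102117 : ∀ i, i < 102117 → P i := stepQ 102116 Q102116 (allL N102116 (tt N65727 (iv1 F435814)) (tt N118048 (iv0 F508287)) (tt N102047 F435809) (tt N92739 F435810) (tt N95029 F435811) (tt N92738 F435813) (tt N65666 (iv6 D205292)) (tt N65766 F435812))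
theorem Q102118 : ∀ i, i < 102118 → P i := stepQ 102117 Q102117 (allL N102117 (tt N118676 (iv1 F511487)) (tt N65668 (iv0 D205293)) (tt N65892 (iv2 F435817)) (tt N97442 F435818) (tt N119270 (iv4 F514738)) (tt N65891 F435816) (tt N65726 F435819) (tt N97446 F435820))
theorem Q102119 : ∀ i, i < 102119 → P i := stepQ 102118 Q102118 (allL N102118 (tt N81671 (iv1 F435826)) (tt N65893 (iv0 F435825)) (tt N81670 F435821) (tt N65670 (iv3 D205294)) (tt N93822 F435822) (tt N79576 F435823) (tt N80216 F435827) (tt N81669 F435824))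
theorem Q102120 : ∀ i, i < 102120 → P i := stepQ 102119 Q102119 (allL N102119 (tt N92076 F435831) (tt N81745 (iv0 F435832)) (tt N92080 F435828) (tt N80216 F435829) (tt N80572 F435830) (tt N117622 (iv5 F506048)) (tt N65670 (iv6 D205295)) (tt N92079 (iv7 F435833)))
theorem Q102121 : ∀ i, i < 102121 → P i := stepQ 102120 Q102120 (allL N102120 (tt N112501 (iv1 F481386)) (tt N102030 (iv0 F435837)) (tt N112290 (iv2 F480384)) (tt N65686 F435834) (tt N112289 (iv4 F480382)) (tt N65672 F435835) (tt N92058 F435836) (tt N65671 (iv7 D205296)))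
theorem Q102122 : ∀ i, i < 102122 → P i := stepQ 102121 Q102121 (allL N102121 (tt N92041 (iv1 F435842)) (tt N92038 F435841) (tt N65673 (iv2 D205297)) (tt N97443 F435838) (tt N118073 (iv4 F508425)) (tt N88189 F435839) (tt N120595 D223854) (tt N102032 F435840))
theorem Q102123 : ∀ i, i < 102123 → P i := stepQ 102122 Q102122 (allL N102122 (tt N118072 (iv1 F508418)) (tt N102183 (iv0 F436076)) (tt N118073 (iv2 F508424)) (tt N68666 F435843) (tt N65673 (iv4 D205298)) (tt N68659 F435844) (tt N68662 (iv6 F435846)) (tt N68666 F435845))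
theorem Q102124 : ∀ i, i < 102124 → P i := stepQ 102123 Q102123 (allL N102123 (tt N117984 (iv1 F507916)) (tt N117982 (iv0 F507907)) (tt N120595 (iv2 F521648)) (tt N65674 F435847) (tt N68662 F435848) (tt N92705 F435849) (tt N65673 (iv6 D205299)) (tt N120581 (iv7 F521576)))
theorem Q102125 : ∀ i, i < 102125 → P i := stepQ 102124 Q102124 (allL N102124 (tt N102041 (iv1 F435852)) (tt N65674 (iv0 D205300)) (tt N102039 F435856) (tt N65749 (iv3 F435853)) (tt N95813 F435850) (tt N93109 F435851) (tt N117984 (iv6 F507913)) (tt N93108 F435854))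
theorem Q102126 : ∀ i, i < 102126 → P i := stepQ 102125 Q102125 (allL N102125 (tt N65674 (iv1 D205301)) (tt N102041 F435857) (tt N93108 F435861) (tt N118048 (iv3 F508283)) (tt N95814 F435859) (tt N93105 (iv5 F435860)) (tt N102183 (iv6 F436075)) (tt N102039 F435858))
theorem Q102127 : ∀ i, i < 102127 → P i := stepQ 102126 Q102126 (allL N102126 (tt N97442 (iv1 F435866)) (tt N65901 F435865) (tt N65675 (iv2 D205302)) (tt N102032 F435862) (tt N120596 D223855) (tt N75362 F435863) (tt N118074 (iv6 F508432)) (tt N97443 F435864))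
theorem Q102128 : ∀ i, i < 102128 → P i := stepQ 102127 Q102127 (allL N102127 (tt N120597 D223856) (tt N120598 D223857) (tt N120596 (iv2 F521655)) (tt N102037 F435867) (tt N65675 (iv4 D205303)) (tt N91238 F435869) (tt N120582 (iv6 F521579)) (tt N102037 F435868))
theorem Q102129 : ∀ i, i < 102129 → P i := stepQ 102128 Q102128 (allL N102128 (tt N97445 F436115) (tt N119383 (iv0 F515342)) (tt N119374 (iv2 F515281)) (tt N65677 (iv3 D205304)) (tt N120587 (iv4 F521609)) (tt N82495 F435870) (tt N106743 (iv6 F455509)) (tt N118074 (iv7 F508433)))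
theorem Q102130 : ∀ i, i < 102130 → P i := stepQ 102129 Q102129 (allL N102129 (tt N117982 (iv1 F507908)) (tt N117984 (iv0 F507915)) (tt N120581 (iv2 F521572)) (tt N106743 (iv3 F455508)) (tt N97741 F435871) (tt N92704 (iv5 F435872)) (tt N65677 (iv6 D205305)) (tt N120595 (iv7 F521652)))
theorem Q102131 : ∀ i, i < 102131 → P i := stepQ 102130 Q102130 (allL N102130 (tt N102081 (iv1 F435876)) (tt N65678 (iv0 D205306)) (tt N117444 (iv2 F505058)) (tt N94782 F435874) (tt N86982 F435873) (tt N102009 F435875) (tt N86981 (iv6 F435878)) (tt N102024 (iv7 F435877)))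
theorem Q102132 : ∀ i, i < 102132 → P i := stepQ 102131 Q102131 (allL N102131 (tt N65678 (iv1 D205307)) (tt N102081 F435879) (tt N102024 F435882) (tt N95837 (iv3 F435881)) (tt N92536 F435880) (tt N120578 (iv5 F521554)) (tt N120265 (iv6 F519903)) (tt N117444 (iv7 F505064)))
theorem Q102133 : ∀ i, i < 102133 → P i := stepQ 102132 Q102132 (allL N102132 (tt N79563 F435883) (tt N109308 (iv0 F466318)) (tt N111874 (iv2 F478436)) (tt N106691 (iv3 F455294)) (tt N65680 (iv4 D205308)) (tt N108930 (iv5 F464539)) (tt N79266 F435888) (tt N106725 (iv7 F455423)))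
theorem Q102134 : ∀ i, i < 102134 → P i := stepQ 102133 Q102133 (allL N102133 (tt N111863 F478376) (tt N102351 (iv0 F436856)) (tt N111873 (iv2 F478431)) (tt N87901 F435884) (tt N79266 (iv4 F435887)) (tt N93214 F435885) (tt N65680 (iv6 D205309)) (tt N92689 F435886))
theorem Q102135 : ∀ i, i < 102135 → P i := stepQ 102134 Q102134 (allL N102134 (tt N109308 F466319) (tt N79563 F435891) (tt N106725 (iv2 F455419)) (tt N78747 F435889) (tt N65682 (iv4 D205310)) (tt N108931 (iv5 F464546)) (tt N86972 F435890) (tt N111874 (iv7 F478439)))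
theorem Q102136 : ∀ i, i < 102136 → P i := stepQ 102135 Q102135 (allL N102135 (tt N81760 F435895) (tt N81757 F435896) (tt N81758 F435892) (tt N65684 (iv3 D205311)) (tt N109288 (iv4 F466203)) (tt N80730 F435893) (tt N111972 (iv6 F478916)) (tt N81759 F435894))
theorem Q102137 : ∀ i, i < 102137 → P i := stepQ 102136 Q102136 (allL N102136 (tt N97494 F439207) (tt N91957 (iv0 F435898)) (tt N117696 (iv2 F506470)) (tt N111972 F478920) (tt N112497 (iv4 F481359)) (tt N102106 F435897) (tt N65684 (iv6 D205312)) (tt N117701 (iv7 F506505)))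
theorem Q102138 : ∀ i, i < 102138 → P i := stepQ 102137 Q102137 (allL N102137 (tt N100692 F435900) (tt N99708 (iv0 F435901)) (tt N111579 F476994) (tt N65685 (iv3 D205313)) (tt N112291 (iv4 F480390)) (tt N118416 (iv5 F510233)) (tt N102082 F435899) (tt N111580 (iv7 F476998)))
theorem Q102139 : ∀ i, i < 102139 → P i := stepQ 102138 Q102138 (allL N102138 (tt N74628 (iv1 F435906)) (tt N74657 F435907) (tt N91824 F435902) (tt N111580 F476999) (tt N65686 F435903) (tt N74642 F435904) (tt N91823 F435905) (tt N65685 (iv7 D205314)))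
theorem Q102140 : ∀ i, i < 102140 → P i := stepQ 102139 Q102139 (allL N102139 (tt N93746 F435910) (tt N117581 (iv0 F505830)) (tt N120599 D223858) (tt N65689 (iv3 D205315)) (tt N102323 (iv4 F436726)) (tt N90298 F435908) (tt N104371 (iv6 F445463)) (tt N93836 F435909))
theorem Q102141 : ∀ i, i < 102141 → P i := stepQ 102140 Q102140 (allL N102140 (tt N65696 (iv1 D205316)) (tt N80656 F435911) (tt N91982 (iv2 F435914)) (tt N78659 (iv3 F435915)) (tt N108954 (iv4 F464645)) (tt N97200 F435913) (tt N108937 (iv6 F464573)) (tt N81589 F435912))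
theorem Q102142 : ∀ i, i < 102142 → P i := stepQ 102141 Q102141 (allL N102141 (tt N96937 F435919) (tt N96940 F435920) (tt N104031 (iv2 F443875)) (tt N93991 F435916) (tt N65697 (iv4 D205317)) (tt N98363 F435918) (tt N93989 F435917) (tt N115713 (iv7 F496460)))
theorem Q102143 : ∀ i, i < 102143 → P i := stepQ 102142 Q102142 (allL N102142 (tt N65705 (iv1 D205318)) (tt N92073 F435921) (tt N65829 (iv2 F435925)) (tt N97650 (iv3 F435927)) (tt N91949 F435924) (tt N98033 F435923) (tt N91948 (iv6 F435926)) (tt N97674 F435922))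
theorem Q102144 : ∀ i, i < 102144 → P i := stepQ 102143 Q102143 (allL N102143 (tt N117707 (iv1 F506542)) (tt N117708 (iv0 F506548)) (tt N65709 F435928) (tt N117990 (iv3 F507945)) (tt N102179 (iv4 F436060)) (tt N113157 (iv5 F484252)) (tt N65706 (iv6 D205319)) (tt N117995 (iv7 F507979)))
theorem Q102145 : ∀ i, i < 102145 → P i := stepQ 102144 Q102144 (allL N102144 (tt N66010 F435930) (tt N66013 (iv0 F435931)) (tt N102179 (iv2 F436059)) (tt N102161 (iv3 F435977)) (tt N65709 F435929) (tt N118088 (iv5 F508513)) (tt N65708 (iv6 D205320)) (tt N117981 (iv7 F507901)))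
theorem Q102146 : ∀ i, i < 102146 → P i := stepQ 102145 Q102145 (allL N102145 (tt N102246 (iv1 F436352)) (tt N102244 (iv0 F436342)) (tt N113157 (iv2 F484249)) (tt N65712 F435932) (tt N103867 (iv4 F443147)) (tt N65709 (iv5 D205322)) (tt N65710 F435933) (tt N103374 (iv7 F441336)))
theorem Q102147 : ∀ i, i < 102147 → P i := stepQ 102146 Q102146 (allL N102146 (tt N117708 (iv1 F506549)) (tt N117707 (iv0 F506541)) (tt N117995 (iv2 F507976)) (tt N65713 F435934) (tt N117981 (iv4 F507897)) (tt N103374 F441337) (tt N115762 (iv6 F496726)) (tt N65709 (iv7 D205323)))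
theorem Q102148 : ∀ i, i < 102148 → P i := stepQ 102147 Q102147 (allL N102147 (tt N92106 F435939) (tt N92108 (iv0 F435940)) (tt N97741 F435938) (tt N65711 (iv3 D205324)) (tt N120581 (iv4 F521574)) (tt N68663 F435935) (tt N65711 (iv6 F435937)) (tt N68662 F435936))
theorem Q102149 : ∀ i, i < 102149 → P i := stepQ 102148 Q102148 (allL N102148 (tt N65715 (iv1 D205325)) (tt N97052 F435941) (tt N108777 F463881) (tt N80051 (iv3 F435944)) (tt N106724 (iv4 F455418)) (tt N68740 F435943) (tt N106723 (iv6 F455417)) (tt N87783 F435942))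
theorem Q102150 : ∀ i, i < 102150 → P i := stepQ 102149 Q102149 (allL N102149 (tt N119379 (iv1 F515319)) (tt N118988 (iv0 F513145)) (tt N116827 (iv2 F502034)) (tt N106731 (iv3 F455452)) (tt N77328 F435946) (tt N65718 (iv5 D205326)) (tt N77327 F435945) (tt N119378 (iv7 F515310)))
theorem Q102151 : ∀ i, i < 102151 → P i := stepQ 102150 Q102150 (allL N102150 (tt N118785 F512059) (tt N102229 (iv0 F436281)) (tt N119382 (iv2 F515332)) (tt N102196 F436135) (tt N65719 (iv4 D205327)) (tt N102416 (iv5 F437145)) (tt N65719 F436177) (tt N102201 (iv7 F436154)))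
theorem Q102152 : ∀ i, i < 102152 → P i := stepQ 102151 Q102151 (allL N102151 (tt N118992 (iv1 F513164)) (tt N102224 (iv0 F436269)) (tt N106747 (iv2 F455519)) (tt N65723 F435947) (tt N119647 (iv4 F516694)) (tt N65721 (iv5 D205329)) (tt N106740 (iv6 F455494)) (tt N119381 (iv7 F515328)))
theorem Q102153 : ∀ i, i < 102153 → P i := stepQ 102152 Q102152 (allL N102152 (tt N118988 (iv1 F513146)) (tt N119379 F515320) (tt N119378 (iv2 F515307)) (tt N79619 F435948) (tt N105102 (iv4 F448799)) (tt N65722 (iv5 D205330)) (tt N103113 (iv6 F440133)) (tt N116827 (iv7 F502038)))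
theorem Q102154 : ∀ i, i < 102154 → P i := stepQ 102153 Q102153 (allL N102153 (tt N102229 F456153) (tt N118785 (iv0 F512058)) (tt N102201 (iv2 F436156)) (tt N106891 (iv3 F456155)) (tt N65723 (iv4 D205331)) (tt N106890 F456152) (tt N120585 F521600) (tt N119382 (iv7 F515334)))
theorem Q102155 : ∀ i, i < 102155 → P i := stepQ 102154 Q102154 (allL N102154 (tt N65808 (iv1 F435951)) (tt N92718 (iv0 F435950)) (tt N119380 (iv2 F515321)) (tt N106740 (iv3 F455493)) (tt N120585 (iv4 F521598)) (tt N92736 F435949) (tt N65723 (iv6 D205332)) (tt N120585 (iv7 F521596)))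
theorem Q102156 : ∀ i, i < 102156 → P i := stepQ 102155 Q102155 (allL N102155 (tt N65766 F435954) (tt N102047 F435955) (tt N65727 F435952) (tt N102039 F435953) (tt N65724 (iv4 D205333)) (tt N113057 (iv5 F483773)) (tt N102189 F436102) (tt N118048 (iv7 F508286)))
theorem Q102157 : ∀ i, i < 102157 → P i := stepQ 102156 Q102156 (allL N102156 (tt N65764 (iv1 F435959)) (tt N118708 (iv0 F511666)) (tt N119270 F514740) (tt N65725 (iv3 D205334)) (tt N65892 F435956) (tt N97419 F435957) (tt N113043 (iv6 F483695)) (tt N65896 F435958))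
theorem Q102158 : ∀ i, i < 102158 → P i := stepQ 102157 Q102157 (allL N102157 (tt N118419 (iv1 F510256)) (tt N95441 (iv0 F435964)) (tt N65902 F435960) (tt N113043 (iv3 F483692)) (tt N65897 F435961) (tt N65999 F435963) (tt N65725 (iv6 D205335)) (tt N65895 F435962))
theorem Q102159 : ∀ i, i < 102159 → P i := stepQ 102158 Q102158 (allL N102158 (tt N118074 F508434) (tt N119374 (iv0 F515285)) (tt N97445 (iv2 F435967)) (tt N65726 (iv3 D205336)) (tt N117431 (iv4 F504998)) (tt N97422 F435965) (tt N97442 F435966) (tt N119383 (iv7 F515341)))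
theorem Q102160 : ∀ i, i < 102160 → P i := stepQ 102159 Q102159 (allL N102159 (tt N113042 (iv1 F483687)) (tt N113041 F483696) (tt N113043 (iv2 F483691)) (tt N97718 (iv3 F435971)) (tt N65726 (iv4 D205337)) (tt N97717 F435970) (tt N119270 (iv6 F514739)) (tt N65903 F435969))
theorem Q102161 : ∀ i, i < 102161 → P i := stepQ 102160 Q102160 (allL N102160 (tt N118048 (iv1 F508288)) (tt N65727 (iv0 D205338)) (tt N65766 (iv2 F435973)) (tt N92707 (iv3 F435976)) (tt N102293 F436597) (tt N83007 F435972) (tt N65761 F435974) (tt N102047 F435975))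
theorem Q102162 : ∀ i, i < 102162 → P i := stepQ 102161 Q102161 (allL N102161 (tt N65744 (iv1 F435979)) (tt N102191 F436108) (tt N102189 F436101) (tt N102144 F435977) (tt N65728 F435978) (tt N102408 (iv5 F437111)) (tt N65727 (iv6 D205339)) (tt N102188 F436096))
theorem Q102163 : ∀ i, i < 102163 → P i := stepQ 102162 Q102162 (allL N102162 (tt N79757 F435985) (tt N79754 (iv0 F435987)) (tt N102413 (iv2 F437129)) (tt N81805 F435981) (tt N82365 F435982) (tt N97697 F435983) (tt N65729 (iv6 D205340)) (tt N100737 F435984))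
theorem Q102164 : ∀ i, i < 102164 → P i := stepQ 102163 Q102163 (allL N102163 (tt N97003 (iv1 F435991)) (tt N65732 (iv0 D205341)) (tt N97000 (iv2 F435989)) (tt N117996 F507988) (tt N102000 F435988) (tt N111243 (iv5 F475400)) (tt N117708 (iv6 F506545)) (tt N97001 F435990))
theorem Q102165 : ∀ i, i < 102165 → P i := stepQ 102164 Q102164 (allL N102164 (tt N97001 (iv1 F435997)) (tt N97000 F435998) (tt N97003 F435992) (tt N92106 F435993) (tt N95815 F435994) (tt N92105 F435995) (tt N92690 F435996) (tt N65732 (iv7 D205342)))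
theorem Q102166 : ∀ i, i < 102166 → P i := stepQ 102165 Q102165 (allL N102165 (tt N102073 F436001) (tt N102226 (iv0 F436271)) (tt N103310 (iv2 F441085)) (tt N65737 F435999) (tt N68675 F436000) (tt N65736 (iv5 D205343)) (tt N119412 (iv6 F515481)) (tt N117689 (iv7 F506434)))
theorem Q102167 : ∀ i, i < 102167 → P i := stepQ 102166 Q102166 (allL N102166 (tt N92761 F436004) (tt N65810 F436005) (tt N97427 F436002) (tt N119412 (iv3 F515479)) (tt N97424 F436003) (tt N102347 (iv5 F436838)) (tt N65737 (iv6 D205344)) (tt N102213 (iv7 F436219)))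
theorem Q102168 : ∀ i, i < 102168 → P i := stepQ 102167 Q102167 (allL N102167 (tt N65758 (iv1 F436011)) (tt N65755 F436010) (tt N65738 (iv2 D205345)) (tt N96076 F436006) (tt N95616 F436007) (tt N65798 F436008) (tt N103330 F441166) (tt N65754 F436009))
theorem Q102169 : ∀ i, i < 102169 → P i := stepQ 102168 Q102168 (allL N102168 (tt N117511 F505431) (tt N102302 (iv0 F436620)) (tt N103330 (iv2 F441164)) (tt N65740 F436012) (tt N103409 (iv4 F441489)) (tt N103329 F441163) (tt N65738 (iv6 D205346)) (tt N102348 (iv7 F436843)))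
theorem Q102170 : ∀ i, i < 102170 → P i := stepQ 102169 Q102169 (allL N102169 (tt N96638 F436015) (tt N96636 F436016) (tt N102194 (iv2 F436121)) (tt N97433 F436013) (tt N65739 (iv4 D205347)) (tt N112870 (iv5 F483063)) (tt N102219 (iv6 F436241)) (tt N97428 F436014))
theorem Q102171 : ∀ i, i < 102171 → P i := stepQ 102170 Q102170 (allL N102170 (tt N102057 F436017) (tt N102199 (iv0 F436242)) (tt N117688 (iv2 F506423)) (tt N102207 (iv3 F436189)) (tt N102219 (iv4 F436240)) (tt N102824 (iv5 F438813)) (tt N65739 (iv6 D205348)) (tt N102216 (iv7 F436235)))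
theorem Q102172 : ∀ i, i < 102172 → P i := stepQ 102171 Q102171 (allL N102171 (tt N65748 (iv1 F436024)) (tt N65742 (iv0 D205349)) (tt N65745 (iv2 F436021)) (tt N86955 (iv3 F436023)) (tt N82507 F436018) (tt N93986 F436020) (tt N82547 F436019) (tt N65746 F436022))
theorem Q102173 : ∀ i, i < 102173 → P i := stepQ 102172 Q102172 (allL N102172 (tt N93077 F436030) (tt N93071 (iv0 F436031)) (tt N65747 F436027) (tt N104378 (iv3 F445498)) (tt N92777 F436029) (tt N65742 (iv5 D205350)) (tt N92776 F436028) (tt N93075 F436032))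
theorem Q102174 : ∀ i, i < 102174 → P i := stepQ 102173 Q102173 (allL N102173 (tt N65746 (iv1 F436037)) (tt N65745 F436038) (tt N65748 F436033) (tt N100687 F436034) (tt N111024 (iv4 F474309)) (tt N93075 F436035) (tt N100686 F436036) (tt N65742 (iv7 D205351)))
theorem Q102175 : ∀ i, i < 102175 → P i := stepQ 102174 Q102174 (allL N102174 (tt N102387 F437013) (tt N65756 (iv0 F436041)) (tt N115762 (iv2 F496724)) (tt N65743 (iv3 D205352)) (tt N118087 (iv4 F508505)) (tt N94785 F436040) (tt N117995 (iv6 F507978)) (tt N118086 F508502))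
theorem Q102176 : ∀ i, i < 102176 → P i := stepQ 102175 Q102175 (allL N102175 (tt N65896 F436045) (tt N119270 F514741) (tt N65764 F436042) (tt N102387 (iv3 F437009)) (tt N65743 (iv4 D205353)) (tt N65763 F436044) (tt N92744 F436043) (tt N118708 (iv7 F511665)))
theorem Q102177 : ∀ i, i < 102177 → P i := stepQ 102176 Q102176 (allL N102176 (tt N102191 (iv1 F436109)) (tt N65744 (iv0 D205354)) (tt N102188 F436095) (tt N117982 (iv3 F507904)) (tt N65894 F436046) (tt N102409 (iv5 F437115)) (tt N116084 (iv6 F498380)) (tt N102189 (iv7 F436099)))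
theorem Q102178 : ∀ i, i < 102178 → P i := stepQ 102177 Q102177 (allL N102177 (tt N87908 F436050) (tt N82493 (iv0 F436051)) (tt N91981 F436047) (tt N65745 (iv3 D205355)) (tt N81589 F436048) (tt N116235 (iv5 F499161)) (tt N91980 F436049) (tt N108954 (iv7 F464646)))
theorem Q102179 : ∀ i, i < 102179 → P i := stepQ 102178 Q102178 (allL N102178 (tt N93075 (iv1 F436053)) (tt N65747 (iv0 D205356)) (tt N93077 (iv2 F436052)) (tt N117737 (iv3 F506710)) (tt N88777 F436057) (tt N97502 (iv5 F436056)) (tt N93070 (iv6 F436055)) (tt N93071 F436054))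
theorem Q102180 : ∀ i, i < 102180 → P i := stepQ 102179 Q102179 (allL N102179 (tt N92707 F436061) (tt N92709 F436062) (tt N102144 F436059) (tt N117984 (iv3 F507917)) (tt N102143 F436060) (tt N102235 (iv5 F436296)) (tt N65749 (iv6 D205357)) (tt N102385 (iv7 F437006)))
theorem Q102181 : ∀ i, i < 102181 → P i := stepQ 102180 Q102180 (allL N102180 (tt N73294 (iv1 F436068)) (tt N67497 F436069) (tt N67352 F436063) (tt N92773 F436064) (tt N67186 F436065) (tt N65751 F436066) (tt N67185 F436067) (tt N65750 (iv7 D205358)))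
theorem Q102182 : ∀ i, i < 102182 → P i := stepQ 102181 Q102181 (allL N102181 (tt N115762 (iv1 F496730)) (tt N118086 (iv0 F508499)) (tt N65756 F436070) (tt N118708 (iv3 F511662)) (tt N104317 (iv4 F445212)) (tt N65755 (iv5 D205359)) (tt N102029 F436071) (tt N102387 (iv7 F437011)))
theorem Q102183 : ∀ i, i < 102183 → P i := stepQ 102182 Q102182 (allL N102182 (tt N106693 (iv1 F455310)) (tt N106726 F455429) (tt N65757 F436072) (tt N111872 (iv3 F478426)) (tt N77802 F436073) (tt N103282 (iv5 F440973)) (tt N65755 (iv6 D205360)) (tt N99711 F436074))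
theorem Q102184 : ∀ i, i < 102184 → P i := stepQ 102183 Q102183 (allL N102183 (tt N102122 F436076) (tt N93025 F436077) (tt N104317 F445214) (tt N116065 (iv3 F498295)) (tt N65756 (iv4 D205361)) (tt N116064 F498293) (tt N102125 F436075) (tt N104318 (iv7 F445216)))
theorem Q102185 : ∀ i, i < 102185 → P i := stepQ 102184 Q102184 (allL N102184 (tt N118086 (iv1 F508500)) (tt N115762 (iv0 F496729)) (tt N102387 (iv2 F437008)) (tt N65761 F436078) (tt N104318 F445217) (tt N65758 F436079) (tt N92707 F436080) (tt N65756 (iv7 D205362)))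
theorem Q102186 : ∀ i, i < 102186 → P i := stepQ 102185 Q102185 (allL N102185 (tt N65757 (iv1 D205363)) (tt N99711 F436081) (tt N106726 (iv2 F455425)) (tt N92094 (iv3 F436084)) (tt N97623 F436083) (tt N92087 F436082) (tt N103375 (iv6 F441342)) (tt N106693 (iv7 F455307)))
theorem Q102187 : ∀ i, i < 102187 → P i := stepQ 102186 Q102186 (allL N102186 (tt N65902 F436087) (tt N65895 F436088) (tt N95441 F436085) (tt N97875 F436089) (tt N65759 (iv4 D205364)) (tt N74662 F436086) (tt N116066 (iv6 F498298)) (tt N118419 (iv7 F510254)))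
theorem Q102188 : ∀ i, i < 102188 → P i := stepQ 102187 Q102187 (allL N102187 (tt N118420 F510260) (tt N119462 (iv0 F515746)) (tt N95442 F436090) (tt N92108 F436091) (tt N116066 (iv4 F498299)) (tt N92107 F436092) (tt N65759 (iv6 D205365)) (tt N97740 (iv7 F436093)))
theorem Q102189 : ∀ i, i < 102189 → P i := stepQ 102188 Q102188 (allL N102188 (tt N65765 (iv1 F436097)) (tt N65760 (iv0 D205366)) (tt N102176 (iv2 F436095)) (tt N117981 F507902) (tt N101711 F436094) (tt N102362 (iv5 F436908)) (tt N116063 (iv6 F498286)) (tt N102161 (iv7 F436096)))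
theorem Q102190 : ∀ i, i < 102190 → P i := stepQ 102189 Q102189 (allL N102189 (tt N65760 (iv1 D205367)) (tt N65765 F436098) (tt N102161 (iv2 F436101)) (tt N102389 F437019) (tt N79547 F436100) (tt N102361 (iv5 F436903)) (tt N102155 (iv6 F436102)) (tt N102176 F436099))
theorem Q102191 : ∀ i, i < 102191 → P i := stepQ 102190 Q102190 (allL N102190 (tt N120600 D223859) (tt N120601 D223860) (tt N97439 F436103) (tt N65760 (iv3 D205368)) (tt N116065 F498297) (tt N117999 (iv5 F508005)) (tt N97436 F436104) (tt N102294 (iv7 F436600)))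
theorem Q102192 : ∀ i, i < 102192 → P i := stepQ 102191 Q102191 (allL N102191 (tt N102161 (iv1 F436108)) (tt N102176 F436109) (tt N65765 F436105) (tt N102294 (iv3 F436599)) (tt N65761 F436106) (tt N65996 F436107) (tt N102293 (iv6 F436598)) (tt N65760 (iv7 D205369)))
theorem Q102193 : ∀ i, i < 102193 → P i := stepQ 102192 Q102192 (allL N102192 (tt N118708 F511667) (tt N65764 (iv0 D205370)) (tt N65896 (iv2 F436112)) (tt N97445 F436113) (tt N97446 F436111) (tt N81767 F436110) (tt N65886 F436114) (tt N119270 (iv7 F514742)))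
theorem Q102194 : ∀ i, i < 102194 → P i := stepQ 102193 Q102193 (allL N102193 (tt N117986 (iv1 F507927)) (tt N117987 (iv0 F507928)) (tt N92744 F436116) (tt N65766 F436117) (tt N97950 F436118) (tt N92726 F436119) (tt N65764 (iv6 D205371)) (tt N92739 F436120))
theorem Q102195 : ∀ i, i < 102195 → P i := stepQ 102194 Q102194 (allL N102194 (tt N102205 (iv1 F436174)) (tt N119121 (iv0 F513898)) (tt N102169 F436121) (tt N65767 (iv3 D205372)) (tt N94788 (iv4 F436124)) (tt N82573 F436122) (tt N116062 (iv6 F498281)) (tt N65774 F436123))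
theorem Q102196 : ∀ i, i < 102196 → P i := stepQ 102195 Q102195 (allL N102195 (tt N65782 (iv1 F436127)) (tt N65769 (iv0 D205373)) (tt N65777 (iv2 F436128)) (tt N97463 (iv3 F436130)) (tt N66062 F436126) (tt N66055 F436125) (tt N120602 D223861) (tt N65778 (iv7 F436129)))
theorem Q102197 : ∀ i, i < 102197 → P i := stepQ 102196 Q102196 (allL N102196 (tt N65769 (iv1 D205374)) (tt N65782 F436131) (tt N65778 (iv2 F436136)) (tt N102150 (iv3 F436135)) (tt N66059 F436133) (tt N66060 F436134) (tt N96638 (iv6 F436176)) (tt N65777 F436132))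
theorem Q102198 : ∀ i, i < 102198 → P i := stepQ 102197 Q102197 (allL N102197 (tt N65784 (iv1 F436141)) (tt N65783 F436142) (tt N65785 F436137) (tt N65811 F436138) (tt N65888 F436139) (tt N102368 (iv5 F436939)) (tt N92759 F436140) (tt N65770 (iv7 D205375)))
theorem Q102199 : ∀ i, i < 102199 → P i := stepQ 102198 Q102198 (allL N102198 (tt N120602 F521698) (tt N120603 D223862) (tt N104319 (iv2 F445218)) (tt N65772 (iv3 D205376)) (tt N102062 F436143) (tt N102828 (iv5 F438834)) (tt N113040 (iv6 F483685)) (tt N102059 F436144))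
theorem Q102200 : ∀ i, i < 102200 → P i := stepQ 102199 Q102199 (allL N102199 (tt N102170 F436242) (tt N97473 (iv0 F436149)) (tt N102209 (iv2 F436196)) (tt N113040 (iv3 F483684)) (tt N65773 F436145) (tt N97737 F436146) (tt N65772 (iv6 D205377)) (tt N118697 (iv7 F511601)))
theorem Q102201 : ∀ i, i < 102201 → P i := stepQ 102200 Q102200 (allL N102200 (tt N65773 (iv1 D205378)) (tt N102060 F436150) (tt N102062 F436153) (tt N65794 (iv3 F436152)) (tt N104319 (iv4 F445223)) (tt N111662 (iv5 F477366)) (tt N111663 (iv6 F477368)) (tt N102051 F436151))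
theorem Q102202 : ∀ i, i < 102202 → P i := stepQ 102201 Q102201 (allL N102201 (tt N113040 (iv1 F483686)) (tt N102243 (iv0 F436335)) (tt N102153 F436156) (tt N65777 (iv3 D205379)) (tt N97425 (iv4 F436155)) (tt N110316 (iv5 F471007)) (tt N102233 (iv6 F436289)) (tt N102150 F436154))
theorem Q102203 : ∀ i, i < 102203 → P i := stepQ 102202 Q102202 (allL N102202 (tt N102059 F436158) (tt N104319 (iv0 F445221)) (tt N120602 (iv2 F521692)) (tt N102233 F436288) (tt N88355 F436157) (tt N103441 (iv5 F441652)) (tt N65777 (iv6 D205380)) (tt N120603 (iv7 F521700)))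
theorem Q102204 : ∀ i, i < 102204 → P i := stepQ 102203 Q102203 (allL N102203 (tt N97453 F436160) (tt N97465 (iv0 F436161)) (tt N97464 (iv2 F436163)) (tt N65778 (iv3 D205381)) (tt N120604 D223863) (tt N67271 F436162) (tt N120556 (iv6 F521436)) (tt N97463 F436159))
theorem Q102205 : ∀ i, i < 102205 → P i := stepQ 102204 Q102204 (allL N102204 (tt N108963 (iv1 F464695)) (tt N93980 F436168) (tt N66060 F436164) (tt N67271 F436165) (tt N65905 F436166) (tt N65778 (iv5 D205382)) (tt N67268 (iv6 F436169)) (tt N66055 F436167))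
theorem Q102206 : ∀ i, i < 102206 → P i := stepQ 102205 Q102205 (allL N102205 (tt N97428 F436175) (tt N102194 F436174) (tt N96638 F436172) (tt N120556 (iv3 F521434)) (tt N97456 F436170) (tt N96340 (iv5 F436171)) (tt N65778 (iv6 D205383)) (tt N96636 F436173))
theorem Q102207 : ∀ i, i < 102207 → P i := stepQ 102206 Q102206 (allL N102206 (tt N102006 (iv1 F436181)) (tt N65779 (iv0 D205384)) (tt N102011 (iv2 F436182)) (tt N92043 F436179) (tt N102095 F436178) (tt N103478 (iv5 F441797)) (tt N102094 F436180) (tt N97476 (iv7 F436183)))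
theorem Q102208 : ∀ i, i < 102208 → P i := stepQ 102207 Q102207 (allL N102207 (tt N65779 (iv1 D205385)) (tt N102006 F436184) (tt N97476 F436188) (tt N102170 F436189) (tt N102101 (iv4 F436186)) (tt N120605 D223864) (tt N97432 (iv6 F436187)) (tt N102011 F436185))
theorem Q102209 : ∀ i, i < 102209 → P i := stepQ 102208 Q102208 (allL N102208 (tt N92105 F436195) (tt N97002 F436194) (tt N97670 F436190) (tt N65780 F436191) (tt N117970 (iv4 F507846)) (tt N65779 (iv5 D205386)) (tt N66616 F436192) (tt N97743 F436193))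
theorem Q102210 : ∀ i, i < 102210 → P i := stepQ 102209 Q102209 (allL N102209 (tt N117688 F506427) (tt N102216 (iv0 F436905)) (tt N102199 F436196) (tt N65816 F436197) (tt N88285 F436198) (tt N104809 (iv5 F447399)) (tt N65783 (iv6 D205387)) (tt N102057 F436199))
theorem Q102211 : ∀ i, i < 102211 → P i := stepQ 102210 Q102210 (allL N102210 (tt N92730 F436205) (tt N92762 (iv0 F436206)) (tt N92759 F436200) (tt N65814 F436201) (tt N102014 F436202) (tt N97874 F436203) (tt N65785 (iv6 D205388)) (tt N65786 F436204))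
theorem Q102212 : ∀ i, i < 102212 → P i := stepQ 102211 Q102211 (allL N102211 (tt N102348 F436844) (tt N103330 (iv0 F441167)) (tt N117511 (iv2 F505427)) (tt N65787 (iv3 D205389)) (tt N96793 F436207) (tt N70719 F436208) (tt N79745 F436209) (tt N102302 (iv7 F436619)))
theorem Q102213 : ∀ i, i < 102213 → P i := stepQ 102212 Q102212 (allL N102212 (tt N103320 F441128) (tt N95180 (iv0 F436214)) (tt N93065 F436215) (tt N65788 (iv3 D205390)) (tt N93444 F436210) (tt N70716 F436211) (tt N86932 F436212) (tt N93074 F436213))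
theorem Q102214 : ∀ i, i < 102214 → P i := stepQ 102213 Q102213 (allL N102213 (tt N102237 (iv1 F436304)) (tt N102012 (iv0 F436220)) (tt N65791 F436216) (tt N97475 F436217) (tt N65790 (iv4 D205391)) (tt N82787 F436218) (tt N97473 (iv6 F436221)) (tt N102166 F436219))
theorem Q102215 : ∀ i, i < 102215 → P i := stepQ 102214 Q102214 (allL N102214 (tt N102420 F437160) (tt N116083 (iv0 F498375)) (tt N65792 F436222) (tt N102060 F436223) (tt N97473 F436224) (tt N111674 (iv5 F477418)) (tt N65790 (iv6 D205392)) (tt N116062 (iv7 F498282)))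
theorem Q102216 : ∀ i, i < 102216 → P i := stepQ 102215 Q102215 (allL N102215 (tt N66012 F436229) (tt N80427 F436228) (tt N82787 F436225) (tt N68836 F436226) (tt N82753 (iv4 F436230)) (tt N65791 (iv5 D205393)) (tt N68834 F436231) (tt N82788 F436227))
theorem Q102217 : ∀ i, i < 102217 → P i := stepQ 102216 Q102216 (allL N102216 (tt N102209 F436905) (tt N118697 (iv0 F511602)) (tt N97473 F436232) (tt N102011 F436233) (tt N65792 F436234) (tt N106443 (iv5 F454468)) (tt N65791 (iv6 D205394)) (tt N102170 F436235))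
theorem Q102218 : ∀ i, i < 102218 → P i := stepQ 102217 Q102217 (allL N102217 (tt N65792 (iv1 D205395)) (tt N116062 (iv0 F498283)) (tt N116083 (iv2 F498371)) (tt N119392 (iv3 F515390)) (tt N102844 (iv4 F438906)) (tt N111659 (iv5 F477346)) (tt N118707 (iv6 F511657)) (tt N102420 F437161))
theorem Q102219 : ∀ i, i < 102219 → P i := stepQ 102218 Q102218 (allL N102218 (tt N103201 (iv1 F440546)) (tt N68806 (iv0 F436238)) (tt N111674 (iv2 F477415)) (tt N65795 F436236) (tt N106444 (iv4 F454474)) (tt N65792 (iv5 D205396)) (tt N100712 F436237) (tt N116045 (iv7 F498219)))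
theorem Q102220 : ∀ i, i < 102220 → P i := stepQ 102219 Q102219 (allL N102219 (tt N116083 (iv1 F498376)) (tt N102420 (iv0 F477335)) (tt N116062 (iv2 F498279)) (tt N65796 F436239) (tt N102170 F436240) (tt N116045 (iv5 F498217)) (tt N102169 F436241) (tt N65792 (iv7 D205397)))
theorem Q102221 : ∀ i, i < 102221 → P i := stepQ 102220 Q102220 (allL N102220 (tt N111778 (iv1 F477929)) (tt N93247 (iv0 F436245)) (tt N114246 (iv2 F489193)) (tt N68664 F436243) (tt N118046 (iv4 F508271)) (tt N65793 (iv5 D205398)) (tt N83601 F436244) (tt N103465 (iv7 F441746)))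
theorem Q102222 : ∀ i, i < 102222 → P i := stepQ 102221 Q102221 (allL N102221 (tt N93247 F440984) (tt N111778 (iv0 F477928)) (tt N103465 (iv2 F441743)) (tt N111662 (iv3 F477363)) (tt N118098 (iv4 F508575)) (tt N65794 (iv5 D205399)) (tt N103284 (iv6 F440981)) (tt N114246 (iv7 F489196)))
theorem Q102223 : ∀ i, i < 102223 → P i := stepQ 102222 Q102222 (allL N102222 (tt N102100 F436251) (tt N102056 F436250) (tt N102101 F436246) (tt N111663 (iv3 F477367)) (tt N97476 F436247) (tt N97484 (iv5 F436249)) (tt N65794 (iv6 D205400)) (tt N102095 F436248))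
theorem Q102224 : ∀ i, i < 102224 → P i := stepQ 102223 Q102223 (allL N102223 (tt N65799 (iv1 D205401)) (tt N96746 F436252) (tt N102087 F436258) (tt N101988 (iv3 F436255)) (tt N87721 (iv4 F436256)) (tt N101985 F436254) (tt N101986 (iv6 F436257)) (tt N87720 F436253))
theorem Q102225 : ∀ i, i < 102225 → P i := stepQ 102224 Q102224 (allL N102224 (tt N102151 F436269) (tt N120556 (iv0 F521438)) (tt N117428 (iv2 F504986)) (tt N65800 (iv3 D205402)) (tt N97459 F436261) (tt N81532 F436259) (tt N117428 (iv6 F504987)) (tt N102007 F436260))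
theorem Q102226 : ∀ i, i < 102226 → P i := stepQ 102225 Q102225 (allL N102225 (tt N97475 F436268) (tt N120592 F521636) (tt N102010 F436265) (tt N106893 (iv3 F456165)) (tt N65800 (iv4 D205403)) (tt N93106 F436267) (tt N103487 (iv6 F441828)) (tt N102008 F436266))
theorem Q102227 : ∀ i, i < 102227 → P i := stepQ 102226 Q102226 (allL N102226 (tt N102165 F436271) (tt N97477 (iv0 F436272)) (tt N102009 F436270) (tt N117428 (iv3 F504989)) (tt N103487 (iv4 F441832)) (tt N117444 (iv5 F505061)) (tt N65800 (iv6 D205404)) (tt N120578 (iv7 F521555)))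
theorem Q102228 : ∀ i, i < 102228 → P i := stepQ 102227 Q102227 (allL N102227 (tt N65803 (iv1 D205405)) (tt N92946 F436273) (tt N103487 (iv2 F441827)) (tt N92045 (iv3 F436276)) (tt N102009 (iv4 F436277)) (tt N68847 F436275) (tt N102010 F436278) (tt N92042 F436274))
theorem Q102229 : ∀ i, i < 102229 → P i := stepQ 102228 Q102228 (allL N102228 (tt N113157 F484254) (tt N103374 (iv0 F441339)) (tt N102244 (iv2 F436339)) (tt N97655 F436279) (tt N119682 (iv4 F516891)) (tt N65804 (iv5 D205406)) (tt N97652 F436280) (tt N102246 (iv7 F436351)))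
theorem Q102230 : ∀ i, i < 102230 → P i := stepQ 102229 Q102229 (allL N102229 (tt N102150 F436281) (tt N102153 (iv0 F456153)) (tt N113040 (iv2 F483683)) (tt N65805 (iv3 D205407)) (tt N111663 (iv4 F477370)) (tt N101887 F436337) (tt N104319 F445224) (tt N102243 (iv7 F436334)))
theorem Q102231 : ∀ i, i < 102231 → P i := stepQ 102230 Q102230 (allL N102230 (tt N103374 F441338) (tt N113157 (iv0 F484253)) (tt N102246 (iv2 F436349)) (tt N101887 (iv3 F436338)) (tt N119681 (iv4 F516888)) (tt N65805 (iv5 D205408)) (tt N68758 F436282) (tt N102244 (iv7 F436341)))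
theorem Q102232 : ∀ i, i < 102232 → P i := stepQ 102231 Q102231 (allL N102231 (tt N102242 (iv1 F436333)) (tt N65806 (iv0 D205409)) (tt N102247 F436356) (tt N104576 (iv3 F446360)) (tt N119668 (iv4 F516816)) (tt N97742 F436283) (tt N69471 F436284) (tt N102248 (iv7 F436359)))
theorem Q102233 : ∀ i, i < 102233 → P i := stepQ 102232 Q102232 (allL N102232 (tt N65806 (iv1 D205410)) (tt N102242 (iv0 F436332)) (tt N102248 F436360) (tt N116289 (iv3 F499382)) (tt N119667 (iv4 F516809)) (tt N97745 (iv5 F436285)) (tt N104301 F447903) (tt N102247 F436357))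
theorem Q102234 : ∀ i, i < 102234 → P i := stepQ 102233 Q102233 (allL N102233 (tt N92718 (iv1 F436287)) (tt N65808 (iv0 D205411)) (tt N120585 F521599) (tt N102202 (iv3 F436288)) (tt N119380 (iv4 F515322)) (tt N92737 F436286) (tt N102201 F436289) (tt N119380 (iv7 F515324)))
theorem Q102235 : ∀ i, i < 102235 → P i := stepQ 102234 Q102234 (allL N102234 (tt N120585 (iv1 F521595)) (tt N119380 (iv0 F515325)) (tt N65808 (iv2 D205412)) (tt N92761 F436290) (tt N97940 F436291) (tt N92572 F436292) (tt N92757 F436293) (tt N92718 F436294))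
theorem Q102236 : ∀ i, i < 102236 → P i := stepQ 102235 Q102235 (allL N102235 (tt N65812 (iv1 F436297)) (tt N65809 (iv0 D205413)) (tt N118088 (iv2 F508510)) (tt N119410 F515472) (tt N97891 F436295) (tt N102179 F436296) (tt N92927 (iv6 F436299)) (tt N97888 F436298))
theorem Q102237 : ∀ i, i < 102237 → P i := stepQ 102236 Q102236 (allL N102236 (tt N97905 F436301) (tt N110281 F470819) (tt N110283 (iv2 F470827)) (tt N92723 F436300) (tt N116705 (iv4 F501403)) (tt N117738 (iv5 F506718)) (tt N65809 (iv6 D205414)) (tt N110282 F470823))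
theorem Q102238 : ∀ i, i < 102238 → P i := stepQ 102237 Q102237 (allL N102237 (tt N97427 (iv1 F436305)) (tt N102213 F436304) (tt N65810 (iv2 D205415)) (tt N92718 F436302) (tt N102240 (iv4 F436319)) (tt N92717 (iv5 F436306)) (tt N102238 F436309) (tt N92761 F436303))
theorem Q102239 : ∀ i, i < 102239 → P i := stepQ 102238 Q102238 (allL N102238 (tt N120580 F521571) (tt N114810 (iv0 F491993)) (tt N102240 (iv2 F436317)) (tt N65888 F436307) (tt N65810 (iv4 D205416)) (tt N65887 F436308) (tt N102237 (iv6 F436309)) (tt N117997 (iv7 F507993)))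
theorem Q102240 : ∀ i, i < 102240 → P i := stepQ 102239 Q102239 (allL N102239 (tt N92941 (iv1 F436316)) (tt N92944 (iv0 F436315)) (tt N92717 F436310) (tt N65812 F436311) (tt N87857 (iv4 F436314)) (tt N65810 (iv5 D205417)) (tt N67287 F436313) (tt N92942 F436312))
theorem Q102241 : ∀ i, i < 102241 → P i := stepQ 102240 Q102240 (allL N102240 (tt N101977 F436321) (tt N111663 (iv0 F477369)) (tt N102238 F436317) (tt N65813 F436318) (tt N102237 F436319) (tt N101982 (iv5 F436322)) (tt N65810 (iv6 D205418)) (tt N102097 F436320))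
theorem Q102242 : ∀ i, i < 102242 → P i := stepQ 102241 Q102241 (allL N102241 (tt N92705 F436326) (tt N92704 (iv0 F436327)) (tt N92706 F436323) (tt N102368 (iv3 F436937)) (tt N119438 (iv4 F515627)) (tt N65811 (iv5 D205419)) (tt N93042 F436324) (tt N92695 F436325))
theorem Q102243 : ∀ i, i < 102243 → P i := stepQ 102242 Q102242 (allL N102242 (tt N102232 F436332) (tt N102231 F436333) (tt N68667 F436328) (tt N97874 F436329) (tt N103736 (iv4 F442625)) (tt N65814 (iv5 D205420)) (tt N92783 F436330) (tt N65817 F436331))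
theorem Q102244 : ∀ i, i < 102244 → P i := stepQ 102243 Q102243 (allL N102243 (tt N102201 F436335) (tt N119382 (iv0 F515335)) (tt N118785 (iv2 F512053)) (tt N65815 (iv3 D205421)) (tt N120580 (iv4 F521567)) (tt N82783 (iv5 F436336)) (tt N102291 (iv6 F436585)) (tt N102229 F436334))
theorem Q102245 : ∀ i, i < 102245 → P i := stepQ 102244 Q102244 (allL N102244 (tt N102145 F436342) (tt N92749 (iv0 F436343)) (tt N102228 F436339) (tt N82783 F436340) (tt N119535 (iv4 F516114)) (tt N65815 (iv5 D205422)) (tt N117700 (iv6 F506497)) (tt N102230 F436341))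
theorem Q102246 : ∀ i, i < 102246 → P i := stepQ 102245 Q102245 (allL N102245 (tt N102101 (iv1 F436348)) (tt N102095 (iv0 F436347)) (tt N102056 F436344) (tt N102291 (iv3 F436583)) (tt N117687 (iv4 F506419)) (tt N97651 F436346) (tt N65815 (iv6 D205423)) (tt N102100 F436345))
theorem Q102247 : ∀ i, i < 102247 → P i := stepQ 102246 Q102246 (allL N102246 (tt N92749 (iv1 F436353)) (tt N102145 F436352) (tt N102230 F436349) (tt N104809 (iv3 F447397)) (tt N119533 (iv4 F516103)) (tt N65816 (iv5 D205424)) (tt N93051 F436350) (tt N102228 F436351))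
theorem Q102248 : ∀ i, i < 102248 → P i := stepQ 102247 Q102247 (allL N102247 (tt N68667 (iv1 F436355)) (tt N65817 (iv0 D205425)) (tt N102231 (iv2 F436356)) (tt N120606 D223865) (tt N119537 (iv4 F516125)) (tt N117707 (iv5 F506540)) (tt N68625 F436354) (tt N102232 (iv7 F436357)))
theorem Q102249 : ∀ i, i < 102249 → P i := stepQ 102248 Q102248 (allL N102248 (tt N65817 (iv1 D205426)) (tt N68667 F436358) (tt N102232 (iv2 F436360)) (tt N103581 F442116) (tt N119536 (iv4 F516119)) (tt N117708 (iv5 F506547)) (tt N118044 (iv6 F508259)) (tt N102231 F436359))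
theorem Q102250 : ∀ i, i < 102250 → P i := stepQ 102249 Q102249 (allL N102249 (tt N119429 (iv1 F515575)) (tt N103421 (iv0 F441552)) (tt N103272 (iv2 F440914)) (tt N65825 F436361) (tt N95277 F436362) (tt N92025 (iv5 F436363)) (tt N65823 (iv6 D205427)) (tt N118439 (iv7 F510363)))
theorem Q102251 : ∀ i, i < 102251 → P i := stepQ 102250 Q102250 (allL N102250 (tt N92185 (iv1 F436370)) (tt N98034 F436368) (tt N98033 F436364) (tt N65830 F436365) (tt N85943 F436367) (tt N65829 (iv5 D205428)) (tt N85942 F436369) (tt N97516 F436366))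
theorem Q102252 : ∀ i, i < 102252 → P i := stepQ 102251 Q102251 (allL N102251 (tt N90421 F436376) (tt N97576 (iv0 F436377)) (tt N97750 F436372) (tt N85942 F436373) (tt N70583 F436374) (tt N87723 F436375) (tt N65830 (iv6 D205429)) (tt N116213 (iv7 F499048)))
theorem Q102253 : ∀ i, i < 102253 → P i := stepQ 102252 Q102252 (allL N102252 (tt N79614 F436383) (tt N79613 F436384) (tt N65851 F436378) (tt N93361 F436379) (tt N65833 (iv4 D205430)) (tt N74726 F436380) (tt N72946 F436381) (tt N79607 F436382))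
theorem Q102254 : ∀ i, i < 102254 → P i := stepQ 102253 Q102253 (allL N102253 (tt N95770 F436389) (tt N95769 F436390) (tt N65855 F436385) (tt N93792 F436386) (tt N72838 F436388) (tt N65834 (iv5 D205431)) (tt N66380 (iv6 F436391)) (tt N65859 F436387))
theorem Q102255 : ∀ i, i < 102255 → P i := stepQ 102254 Q102254 (allL N102254 (tt N92446 F436394) (tt N107206 F457454) (tt N65856 F436392) (tt N119841 (iv3 F517643)) (tt N65835 (iv4 D205432)) (tt N117861 (iv5 F507324)) (tt N104673 (iv6 F446813)) (tt N65861 F436393))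
theorem Q102256 : ∀ i, i < 102256 → P i := stepQ 102255 Q102255 (allL N102255 (tt N65944 F436399) (tt N65948 F436400) (tt N97629 F436395) (tt N65837 (iv3 D205433)) (tt N101996 F436396) (tt N75359 F436397) (tt N112499 (iv6 F481370)) (tt N97369 F436398))
theorem Q102257 : ∀ i, i < 102257 → P i := stepQ 102256 Q102256 (allL N102256 (tt N79604 (iv1 F436405)) (tt N65848 (iv0 F436404)) (tt N75216 F436401) (tt N111472 (iv3 F476497)) (tt N79564 F436402) (tt N116951 (iv5 F502664)) (tt N65840 (iv6 D205434)) (tt N79603 F436403))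
theorem Q102258 : ∀ i, i < 102258 → P i := stepQ 102257 Q102257 (allL N102257 (tt N102979 F439533) (tt N65938 (iv0 F436409)) (tt N75455 F436406) (tt N87489 F436407) (tt N65842 (iv4 D205435)) (tt N114216 (iv5 F489039)) (tt N87125 F436408) (tt N102980 (iv7 F439536)))
theorem Q102259 : ∀ i, i < 102259 → P i := stepQ 102258 Q102258 (allL N102258 (tt N78189 F436415) (tt N100792 (iv0 F436416)) (tt N100310 F436410) (tt N75323 F436411) (tt N87475 F436412) (tt N74530 F436413) (tt N65843 (iv6 D205436)) (tt N87470 F436414))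
theorem Q102260 : ∀ i, i < 102260 → P i := stepQ 102259 Q102259 (allL N102259 (tt N65844 (iv1 D205437)) (tt N97062 F436417) (tt N103760 (iv2 F442707)) (tt N77184 (iv3 F436419)) (tt N107696 (iv4 F459271)) (tt N77183 (iv5 F436420)) (tt N103605 (iv6 F442207)) (tt N77448 F436418))
theorem Q102261 : ∀ i, i < 102261 → P i := stepQ 102260 Q102260 (allL N102260 (tt N72948 F436424) (tt N72944 (iv0 F436427)) (tt N72946 F436421) (tt N73133 F436422) (tt N65844 (iv4 D205438)) (tt N101525 (iv5 F436426)) (tt N65851 F436423) (tt N72947 (iv7 F436425)))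
theorem Q102262 : ∀ i, i < 102262 → P i := stepQ 102261 Q102261 (allL N102261 (tt N103760 F442712) (tt N77448 (iv0 F436433)) (tt N97062 F436428) (tt N75006 F436429) (tt N72947 F436430) (tt N65845 F436431) (tt N79620 F436432) (tt N65844 (iv7 D205439)))
theorem Q102263 : ∀ i, i < 102263 → P i := stepQ 102262 Q102262 (allL N102262 (tt N79595 (iv1 F436440)) (tt N79590 F436439) (tt N65846 (iv2 D205440)) (tt N79604 F436434) (tt N81755 F436435) (tt N71740 F436436) (tt N97402 F436437) (tt N79596 F436438))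
theorem Q102264 : ∀ i, i < 102264 → P i := stepQ 102263 Q102263 (allL N102263 (tt N108126 F461220) (tt N118987 (iv0 F513138)) (tt N79606 F436441) (tt N71893 F436442) (tt N65847 (iv4 D205441)) (tt N101794 F436445) (tt N71891 F436443) (tt N79601 F436444))
theorem Q102265 : ∀ i, i < 102265 → P i := stepQ 102264 Q102264 (allL N102264 (tt N116951 (iv1 F502661)) (tt N101890 (iv0 F436450)) (tt N103114 (iv2 F440136)) (tt N65850 (iv3 D205442)) (tt N83280 F436448) (tt N97087 F436446) (tt N77193 (iv6 F436449)) (tt N79611 F436447))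
theorem Q102266 : ∀ i, i < 102266 → P i := stepQ 102265 Q102265 (allL N102265 (tt N118458 (iv1 F510483)) (tt N117129 (iv0 F503536)) (tt N79609 F436451) (tt N106753 (iv3 F455543)) (tt N65850 (iv4 D205443)) (tt N93587 F436453) (tt N113221 (iv6 F484552)) (tt N79612 F436452))
theorem Q102267 : ∀ i, i < 102267 → P i := stepQ 102266 Q102266 (allL N102266 (tt N88462 F436458) (tt N88461 (iv0 F436459)) (tt N79610 F436454) (tt N77193 F436455) (tt N113221 (iv4 F484551)) (tt N80728 F436456) (tt N65850 (iv6 D205444)) (tt N100432 F436457))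
theorem Q102268 : ∀ i, i < 102268 → P i := stepQ 102267 Q102267 (allL N102267 (tt N65851 (iv1 D205445)) (tt N79607 F436460) (tt N79613 (iv2 F436463)) (tt N116847 (iv3 F502151)) (tt N97081 F436462) (tt N116844 (iv5 F502138)) (tt N110852 (iv6 F473446)) (tt N79614 F436461))
theorem Q102269 : ∀ i, i < 102269 → P i := stepQ 102268 Q102268 (allL N102268 (tt N72841 F436467) (tt N93284 F436468) (tt N74726 F436464) (tt N106933 (iv3 F456340)) (tt N74719 F436465) (tt N65851 (iv5 D205446)) (tt N116660 (iv6 F501185)) (tt N79616 F436466))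
theorem Q102270 : ∀ i, i < 102270 → P i := stepQ 102269 Q102269 (allL N102269 (tt N65861 (iv1 F436472)) (tt N65856 (iv0 D205447)) (tt N92446 (iv2 F436471)) (tt N108689 (iv3 F463565)) (tt N93588 F436470) (tt N92405 F436469) (tt N92304 (iv6 F436473)) (tt N107206 (iv7 F457453)))
theorem Q102271 : ∀ i, i < 102271 → P i := stepQ 102270 Q102270 (allL N102270 (tt N106966 F462669) (tt N117076 F503255) (tt N117074 (iv2 F503625)) (tt N65856 (iv3 D205448)) (tt N90976 F436476) (tt N120607 D223866) (tt N104720 (iv6 F446976)) (tt N107099 (iv7 F456964)))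
theorem Q102272 : ∀ i, i < 102272 → P i := stepQ 102271 Q102271 (allL N102271 (tt N117608 (iv1 F505980)) (tt N94229 F436479) (tt N117861 F507328) (tt N120607 (iv3 F521725)) (tt N93284 F436478) (tt N65856 (iv5 D205449)) (tt N93282 (iv6 F436480)) (tt N82316 F436477))
theorem Q102273 : ∀ i, i < 102273 → P i := stepQ 102272 Q102272 (allL N102272 (tt N94229 F436485) (tt N117608 (iv0 F505979)) (tt N82316 F436481) (tt N94220 F436482) (tt N72841 F436483) (tt N65861 (iv5 D205450)) (tt N78081 F436484) (tt N117861 (iv7 F507323)))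
theorem Q102274 : ∀ i, i < 102274 → P i := stepQ 102273 Q102273 (allL N102273 (tt N67553 F436490) (tt N67552 F436491) (tt N65879 F436486) (tt N66171 F436487) (tt N65868 (iv4 D205451)) (tt N66167 F436488) (tt N104510 F446086) (tt N67547 F436489))
theorem Q102275 : ∀ i, i < 102275 → P i := stepQ 102274 Q102274 (allL N102274 (tt N96666 F436496) (tt N89747 (iv0 F436497)) (tt N71745 F436492) (tt N65869 (iv3 D205452)) (tt N69685 F436493) (tt N71741 F436494) (tt N111105 (iv6 F474697)) (tt N90641 F436495))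
theorem Q102276 : ∀ i, i < 102276 → P i := stepQ 102275 Q102275 (allL N102275 (tt N87537 F436500) (tt N65877 F436501) (tt N97367 F436498) (tt N111105 (iv3 F474694)) (tt N78498 F436499) (tt N102822 (iv5 F438807)) (tt N65869 (iv6 D205453)) (tt N111104 (iv7 F474689)))
theorem Q102277 : ∀ i, i < 102277 → P i := stepQ 102276 Q102276 (allL N102276 (tt N79760 F436507) (tt N80733 (iv0 F436508)) (tt N97366 F436503) (tt N79228 F436504) (tt N79297 F436505) (tt N105345 (iv5 F449798)) (tt N65870 (iv6 D205454)) (tt N79226 F436506))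
theorem Q102278 : ∀ i, i < 102278 → P i := stepQ 102277 Q102277 (allL N102277 (tt N68581 (iv1 F436514)) (tt N65872 (iv0 D205455)) (tt N75218 (iv2 F436513)) (tt N89722 F436511) (tt N87021 F436510) (tt N69262 F436509) (tt N76167 F436512) (tt N75217 F436515))
theorem Q102279 : ∀ i, i < 102279 → P i := stepQ 102278 Q102278 (allL N102278 (tt N97404 (iv1 F436521)) (tt N97394 F436520) (tt N65875 (iv2 D205456)) (tt N87537 F436516) (tt N80214 F436517) (tt N83672 F436518) (tt N80672 (iv6 F436522)) (tt N97402 F436519))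
theorem Q102280 : ∀ i, i < 102280 → P i := stepQ 102279 Q102279 (allL N102279 (tt N80673 F436528) (tt N78567 (iv0 F436529)) (tt N80672 F436523) (tt N65876 F436524) (tt N88665 F436525) (tt N88644 F436526) (tt N65875 (iv6 D205457)) (tt N79598 F436527))
theorem Q102281 : ∀ i, i < 102281 → P i := stepQ 102280 Q102280 (allL N102280 (tt N97367 (iv1 F436535)) (tt N111104 (iv0 F474690)) (tt N65877 (iv2 D205458)) (tt N97402 F436530) (tt N81606 F436531) (tt N97725 F436532) (tt N79604 F436533) (tt N87537 F436534))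
theorem Q102282 : ∀ i, i < 102282 → P i := stepQ 102281 Q102281 (allL N102281 (tt N104108 F444216) (tt N97403 (iv0 F436540)) (tt N116329 (iv2 F499582)) (tt N65878 (iv3 D205459)) (tt N69365 F436539) (tt N80033 F436536) (tt N80721 F436537) (tt N67638 F436538))
theorem Q102283 : ∀ i, i < 102283 → P i := stepQ 102282 Q102282 (allL N102282 (tt N102598 F437849) (tt N95105 F436543) (tt N67641 F436541) (tt N102576 F437733) (tt N65878 (iv4 D205460)) (tt N104538 (iv5 F446183)) (tt N111911 (iv6 F478604)) (tt N67639 F436542))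
theorem Q102284 : ∀ i, i < 102284 → P i := stepQ 102283 Q102283 (allL N102283 (tt N67547 (iv1 F436545)) (tt N65879 (iv0 D205461)) (tt N67553 (iv2 F436546)) (tt N119205 (iv3 F514349)) (tt N96967 F436544) (tt N103851 (iv5 F443079)) (tt N111912 (iv6 F478611)) (tt N67552 (iv7 F436547)))
theorem Q102285 : ∀ i, i < 102285 → P i := stepQ 102284 Q102284 (allL N102284 (tt N65879 (iv1 D205462)) (tt N67547 F436548) (tt N67552 (iv2 F436551)) (tt N109446 (iv3 F466994)) (tt N68252 F436550) (tt N103852 (iv5 F443086)) (tt N67560 (iv6 F436552)) (tt N67553 F436549))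
theorem Q102286 : ∀ i, i < 102286 → P i := stepQ 102285 Q102285 (allL N102285 (tt N104545 (iv1 F446204)) (tt N104544 F446201) (tt N66167 F436553) (tt N67567 F436554) (tt N103825 (iv4 F442970)) (tt N65879 (iv5 D205463)) (tt N66165 (iv6 F436556)) (tt N67554 F436555))
theorem Q102287 : ∀ i, i < 102287 → P i := stepQ 102286 Q102286 (allL N102286 (tt N111516 F476680) (tt N80032 F436560) (tt N65881 (iv2 D205464)) (tt N67959 F436557) (tt N118948 (iv4 F512916)) (tt N67958 F436561) (tt N91860 F436558) (tt N101680 F436559))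
theorem Q102288 : ∀ i, i < 102288 → P i := stepQ 102287 Q102287 (allL N102287 (tt N67976 F436566) (tt N71016 (iv0 F436567)) (tt N67958 F436562) (tt N65882 F436563) (tt N95861 F436565) (tt N65881 (iv5 D205465)) (tt N104781 (iv6 F447237)) (tt N66319 F436564))
theorem Q102289 : ∀ i, i < 102289 → P i := stepQ 102288 Q102288 (allL N102288 (tt N111101 (iv1 F474672)) (tt N67961 (iv0 F436569)) (tt N67916 F436568) (tt N104781 (iv3 F447236)) (tt N67783 F436570) (tt N118647 (iv5 F511325)) (tt N65882 (iv6 D205466)) (tt N104783 (iv7 F447248)))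
theorem Q102290 : ∀ i, i < 102290 → P i := stepQ 102289 Q102289 (allL N102289 (tt N104808 F447395) (tt N66313 (iv0 F436575)) (tt N66318 F436572) (tt N67957 F436573) (tt N103862 (iv4 F443130)) (tt N66380 F436574) (tt N65885 (iv6 D205467)) (tt N105355 (iv7 F449858)))
theorem Q102291 : ∀ i, i < 102291 → P i := stepQ 102290 Q102290 (allL N102290 (tt N95441 F436580) (tt N118419 (iv0 F510255)) (tt N65895 F436576) (tt N97448 F436581) (tt N65886 (iv4 D205468)) (tt N65998 F436577) (tt N97446 F436578) (tt N65902 F436579))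
theorem Q102292 : ∀ i, i < 102292 → P i := stepQ 102291 Q102291 (allL N102291 (tt N102058 F436588) (tt N97456 F436587) (tt N95045 F436582) (tt N102245 F436583) (tt N101975 F436584) (tt N65890 (iv5 D205469)) (tt N102243 F436585) (tt N95043 F436586))
theorem Q102293 : ∀ i, i < 102293 → P i := stepQ 102292 Q102292 (allL N102292 (tt N81670 F436593) (tt N81669 F436594) (tt N65893 F436589) (tt N81751 F436590) (tt N117537 (iv4 F505588)) (tt N97423 F436591) (tt N65891 (iv6 D205470)) (tt N81671 F436592))
theorem Q102294 : ∀ i, i < 102294 → P i := stepQ 102293 Q102293 (allL N102293 (tt N118779 (iv1 F512016)) (tt N118778 F512013) (tt N102092 F436595) (tt N65894 (iv3 D205471)) (tt N102160 (iv4 F436597)) (tt N82435 F436596) (tt N102191 F436598) (tt N111594 (iv7 F477072)))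
theorem Q102295 : ∀ i, i < 102295 → P i := stepQ 102294 Q102294 (allL N102294 (tt N102829 F438836) (tt N119384 F515349) (tt N118049 (iv2 F508289)) (tt N102191 F436599) (tt N116084 (iv4 F498379)) (tt N102372 (iv5 F436958)) (tt N65894 (iv6 D205472)) (tt N102190 F436600))
theorem Q102296 : ∀ i, i < 102296 → P i := stepQ 102295 Q102295 (allL N102295 (tt N93203 F436603) (tt N67464 (iv0 F436604)) (tt N104347 (iv2 F445350)) (tt N82978 F436601) (tt N97551 F436602) (tt N120492 (iv5 F521060)) (tt N65900 (iv6 D205473)) (tt N104417 (iv7 F445668)))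
theorem Q102297 : ∀ i, i < 102297 → P i := stepQ 102296 Q102296 (allL N102296 (tt N117431 (iv1 F504999)) (tt N117430 F515361) (tt N97447 F436605) (tt N120608 D223867) (tt N65901 (iv4 D205474)) (tt N119554 (iv5 F516217)) (tt N120609 D223868) (tt N97444 F436606))
theorem Q102298 : ∀ i, i < 102298 → P i := stepQ 102297 Q102297 (allL N102297 (tt N117364 (iv1 F504681)) (tt N115747 (iv0 F496646)) (tt N97448 F436607) (tt N65903 F436608) (tt N120609 (iv4 F521738)) (tt N97709 F436609) (tt N65901 (iv6 D205475)) (tt N97718 (iv7 F436610)))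
theorem Q102299 : ∀ i, i < 102299 → P i := stepQ 102298 Q102298 (allL N102298 (tt N115747 (iv1 F496647)) (tt N117364 F504680) (tt N97718 (iv2 F436613)) (tt N65902 (iv3 D205476)) (tt N120608 (iv4 F521732)) (tt N97710 F436611) (tt N119383 (iv6 F515340)) (tt N97448 F436612))
theorem Q102300 : ∀ i, i < 102300 → P i := stepQ 102299 Q102299 (allL N102299 (tt N113043 (iv1 F483698)) (tt N65903 (iv0 D205477)) (tt N113041 F499390) (tt N117707 (iv3 F506543)) (tt N118779 (iv4 F512019)) (tt N120606 (iv5 F521718)) (tt N116067 (iv6 F498302)) (tt N113042 F499388))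
theorem Q102301 : ∀ i, i < 102301 → P i := stepQ 102300 Q102300 (allL N102300 (tt N65903 (iv1 D205478)) (tt N113043 F483697) (tt N113042 (iv2 F499387)) (tt N118420 (iv3 F510257)) (tt N118778 (iv4 F512010)) (tt N113050 (iv5 F483731)) (tt N118419 (iv6 F510253)) (tt N113041 (iv7 F499389)))
theorem Q102302 : ∀ i, i < 102302 → P i := stepQ 102301 Q102301 (allL N102301 (tt N103294 (iv1 F441026)) (tt N103293 (iv0 F441017)) (tt N66061 F436614) (tt N105391 (iv3 F450022)) (tt N67268 F436615) (tt N79701 F436616) (tt N65905 (iv6 D205479)) (tt N105471 (iv7 F450389)))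
theorem Q102303 : ∀ i, i < 102303 → P i := stepQ 102302 Q102302 (allL N102302 (tt N102168 F436620) (tt N103381 (iv0 F441378)) (tt N118082 (iv2 F508468)) (tt N65906 (iv3 D205480)) (tt N95453 F436617) (tt N103359 (iv5 F441270)) (tt N80092 F436618) (tt N102211 F436619))
theorem Q102304 : ∀ i, i < 102304 → P i := stepQ 102303 Q102303 (allL N102303 (tt N67165 (iv1 F436623)) (tt N65908 (iv0 D205481)) (tt N67259 (iv2 F436622)) (tt N97682 (iv3 F436626)) (tt N104161 (iv4 F444482)) (tt N70724 F436621) (tt N97680 F436625) (tt N67260 F436624))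
theorem Q102305 : ∀ i, i < 102305 → P i := stepQ 102304 Q102304 (allL N102304 (tt N65915 (iv1 F436628)) (tt N65912 (iv0 D205482)) (tt N93590 (iv2 F436629)) (tt N102677 (iv3 F438170)) (tt N73066 F436627) (tt N118034 (iv5 F508206)) (tt N73065 (iv6 F436630)) (tt N93589 (iv7 F436631)))
theorem Q102306 : ∀ i, i < 102306 → P i := stepQ 102305 Q102305 (allL N102305 (tt N65912 (iv1 D205483)) (tt N65915 F436632) (tt N93589 (iv2 F436635)) (tt N92344 (iv3 F436636)) (tt N93776 F436634) (tt N108336 (iv5 F462128)) (tt N77013 F436637) (tt N93590 F436633))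
theorem Q102307 : ∀ i, i < 102307 → P i := stepQ 102306 Q102306 (allL N102306 (tt N118174 (iv1 F509010)) (tt N118299 F509584) (tt N93595 F436638) (tt N74682 F436639) (tt N116631 (iv4 F501066)) (tt N65912 (iv5 D205484)) (tt N118296 F509573) (tt N93591 F436640))
theorem Q102308 : ∀ i, i < 102308 → P i := stepQ 102307 Q102307 (allL N102307 (tt N118795 F512121) (tt N118294 (iv0 F509567)) (tt N93596 F436641) (tt N74683 F436642) (tt N65913 F436643) (tt N120610 D223869) (tt N65912 (iv6 D205485)) (tt N120611 D223870))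
theorem Q102309 : ∀ i, i < 102309 → P i := stepQ 102308 Q102308 (allL N102308 (tt N82279 (iv1 F436648)) (tt N95705 (iv0 F436647)) (tt N93598 F436644) (tt N74691 F436645) (tt N101064 (iv4 F436649)) (tt N65913 (iv5 D205486)) (tt N93547 F436646) (tt N95725 (iv7 F436652)))
theorem Q102310 : ∀ i, i < 102310 → P i := stepQ 102309 Q102309 (allL N102309 (tt N93597 (iv1 F436658)) (tt N74559 F436659) (tt N93599 F436654) (tt N74692 F436655) (tt N120611 (iv4 F521745)) (tt N95725 F436656) (tt N93398 F436657) (tt N65913 (iv7 D205487)))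
theorem Q102311 : ∀ i, i < 102311 → P i := stepQ 102310 Q102310 (allL N102310 (tt N107763 F459620) (tt N107766 F464237) (tt N74671 F436660) (tt N65916 F436661) (tt N117642 (iv4 F506168)) (tt N111573 (iv5 F476980)) (tt N65914 (iv6 D205488)) (tt N120612 D223871))
theorem Q102312 : ∀ i, i < 102312 → P i := stepQ 102311 Q102311 (allL N102311 (tt N118299 F509583) (tt N118174 (iv0 F509009)) (tt N93591 F436662) (tt N92386 F436663) (tt N95089 F436665) (tt N65915 (iv5 D205489)) (tt N95088 (iv6 F436666)) (tt N93595 F436664))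
theorem Q102313 : ∀ i, i < 102313 → P i := stepQ 102312 Q102312 (allL N102312 (tt N120273 (iv1 F519957)) (tt N110657 (iv0 F472624)) (tt N93592 F436668) (tt N92387 F436669) (tt N65916 F436670) (tt N93687 (iv5 F436671)) (tt N65915 (iv6 D205490)) (tt N118490 (iv7 F510655)))
theorem Q102314 : ∀ i, i < 102314 → P i := stepQ 102313 Q102313 (allL N102313 (tt N65916 (iv1 D205491)) (tt N93398 F436672) (tt N74545 (iv2 F436675)) (tt N93552 (iv3 F436676)) (tt N118594 (iv4 F511066)) (tt N111542 (iv5 F476831)) (tt N73030 (iv6 F436674)) (tt N93397 F436673))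
theorem Q102315 : ∀ i, i < 102315 → P i := stepQ 102314 Q102314 (allL N102314 (tt N107867 F460056) (tt N95666 F436679) (tt N93593 F436677) (tt N111573 (iv3 F476978)) (tt N94882 F436681) (tt N65916 (iv5 D205492)) (tt N93553 F436678) (tt N94881 (iv7 F436680)))
theorem Q102316 : ∀ i, i < 102316 → P i := stepQ 102315 Q102315 (allL N102315 (tt N74545 (iv1 F436695)) (tt N93397 F436696) (tt N93398 F436692) (tt N120612 (iv3 F521750)) (tt N118490 (iv4 F510656)) (tt N94881 F436693) (tt N93599 F436694) (tt N65916 (iv7 D205493)))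
theorem Q102317 : ∀ i, i < 102317 → P i := stepQ 102316 Q102316 (allL N102316 (tt N76978 F436702) (tt N76977 F436703) (tt N76208 F436697) (tt N65918 (iv3 D205494)) (tt N77467 (iv4 F436701)) (tt N84801 F436698) (tt N95167 F436699) (tt N76979 F436700))
theorem Q102318 : ∀ i, i < 102318 → P i := stepQ 102317 Q102317 (allL N102317 (tt N77013 (iv1 F436708)) (tt N77012 (iv0 F436707)) (tt N77016 F436704) (tt N108758 (iv3 F463830)) (tt N65918 (iv4 D205495)) (tt N120613 D223872) (tt N95175 F436705) (tt N77014 F436706))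
theorem Q102319 : ∀ i, i < 102319 → P i := stepQ 102318 Q102318 (allL N102318 (tt N72206 (iv1 F436711)) (tt N65919 (iv0 D205496)) (tt N107222 (iv2 F457520)) (tt N67082 F436709) (tt N105551 (iv4 F450700)) (tt N67081 F436710) (tt N120008 (iv6 F518532)) (tt N107221 F457515))
theorem Q102320 : ∀ i, i < 102320 → P i := stepQ 102319 Q102319 (allL N102319 (tt N104101 (iv1 F444185)) (tt N104100 (iv0 F444183)) (tt N104103 (iv2 F444191)) (tt N114286 (iv3 F489401)) (tt N65919 (iv4 D205497)) (tt N120297 (iv5 F520089)) (tt N105591 (iv6 F450876)) (tt N70249 F436712))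
theorem Q102321 : ∀ i, i < 102321 → P i := stepQ 102320 Q102320 (allL N102320 (tt N89071 F436715) (tt N85614 (iv0 F436716)) (tt N114796 F491919) (tt N65921 (iv3 D205498)) (tt N103728 (iv4 F442604)) (tt N74210 F436713) (tt N119482 (iv6 F515840)) (tt N93561 F436714))
theorem Q102322 : ∀ i, i < 102322 → P i := stepQ 102321 Q102321 (allL N102321 (tt N118380 (iv1 F510042)) (tt N77112 (iv0 F436719)) (tt N119073 (iv2 F513641)) (tt N65922 (iv3 D205499)) (tt N118625 (iv4 F511201)) (tt N74212 F436717) (tt N103022 (iv6 F439713)) (tt N93559 F436718))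
theorem Q102323 : ∀ i, i < 102323 → P i := stepQ 102322 Q102322 (allL N102322 (tt N73078 F436724) (tt N73075 F436725) (tt N73556 F436720) (tt N120614 D223873) (tt N65925 (iv4 D205500)) (tt N95098 F436723) (tt N80553 F436721) (tt N72846 F436722))
theorem Q102324 : ∀ i, i < 102324 → P i := stepQ 102323 Q102323 (allL N102323 (tt N75416 F436728) (tt N111521 F476709) (tt N117527 (iv2 F505528)) (tt N65930 (iv3 D205501)) (tt N102139 F436726) (tt N111590 F477050) (tt N85628 F436727) (tt N117526 F505522))
theorem Q102325 : ∀ i, i < 102325 → P i := stepQ 102324 Q102324 (allL N102324 (tt N93912 F436732) (tt N68083 F436733) (tt N96819 F436729) (tt N111590 F477047) (tt N102108 F436730) (tt N65930 (iv5 D205502)) (tt N83770 F436734) (tt N96818 F436731))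
theorem Q102326 : ∀ i, i < 102326 → P i := stepQ 102325 Q102325 (allL N102325 (tt N87352 F436738) (tt N87365 (iv0 F436739)) (tt N87363 F436735) (tt N87405 F436736) (tt N116026 (iv4 F498118)) (tt N65938 (iv5 D205503)) (tt N65939 F436737) (tt N87362 (iv7 F436740)))
theorem Q102327 : ∀ i, i < 102327 → P i := stepQ 102326 Q102326 (allL N102326 (tt N102980 (iv1 F439537)) (tt N75455 (iv0 F436744)) (tt N102979 (iv2 F439531)) (tt N86478 F436741) (tt N118457 (iv4 F510474)) (tt N87362 F436742) (tt N99576 F436743) (tt N65938 (iv7 D205504)))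
theorem Q102328 : ∀ i, i < 102328 → P i := stepQ 102327 Q102327 (allL N102327 (tt N95652 F436745) (tt N95655 F436746) (tt N110599 (iv2 F472317)) (tt N79650 (iv3 F436747)) (tt N65939 (iv4 D205505)) (tt N118998 (iv5 F513195)) (tt N116026 (iv6 F498116)) (tt N115905 (iv7 F497520)))
theorem Q102329 : ∀ i, i < 102329 → P i := stepQ 102328 Q102328 (allL N102328 (tt N81515 (iv1 F436754)) (tt N75248 F436752) (tt N81523 F436748) (tt N75202 F436749) (tt N77332 F436753) (tt N65944 (iv5 D205506)) (tt N66992 F436750) (tt N81522 F436751))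
theorem Q102330 : ∀ i, i < 102330 → P i := stepQ 102329 Q102329 (allL N102329 (tt N105324 F449720) (tt N119508 F515975) (tt N97545 F436755) (tt N83633 F436758) (tt N65945 (iv4 D205507)) (tt N118357 (iv5 F509891)) (tt N70824 F436756) (tt N97542 F436757))
theorem Q102331 : ∀ i, i < 102331 → P i := stepQ 102330 Q102330 (allL N102330 (tt N75248 F436762) (tt N81515 (iv0 F436765)) (tt N81522 F436759) (tt N78724 F436760) (tt N77353 F436763) (tt N65948 (iv5 D205508)) (tt N78722 (iv6 F436764)) (tt N81523 F436761))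
theorem Q102332 : ∀ i, i < 102332 → P i := stepQ 102331 Q102331 (allL N102331 (tt N114434 F490144) (tt N120491 (iv0 F521055)) (tt N65955 F436766) (tt N97585 F436767) (tt N115337 (iv4 F494664)) (tt N112474 (iv5 F481228)) (tt N65951 (iv6 D205509)) (tt N118047 (iv7 F508279)))
theorem Q102333 : ∀ i, i < 102333 → P i := stepQ 102332 Q102332 (allL N102332 (tt N65952 (iv1 D205510)) (tt N65959 F436768) (tt N65957 F436772) (tt N81733 (iv3 F436771)) (tt N109335 (iv4 F466438)) (tt N81732 F436770) (tt N109334 (iv6 F466435)) (tt N65956 F436769))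
theorem Q102334 : ∀ i, i < 102334 → P i := stepQ 102333 Q102333 (allL N102333 (tt N75424 F436777) (tt N75307 F436778) (tt N75373 F436773) (tt N92066 F436774) (tt N85665 F436775) (tt N111597 (iv5 F477090)) (tt N65954 (iv6 D205511)) (tt N75423 F436776))
theorem Q102335 : ∀ i, i < 102335 → P i := stepQ 102334 Q102334 (allL N102334 (tt N65955 (iv1 D205512)) (tt N118047 (iv0 F508280)) (tt N120491 (iv2 F521050)) (tt N90413 (iv3 F436779)) (tt N104946 (iv4 F448069)) (tt N118711 (iv5 F511682)) (tt N98571 (iv6 F436780)) (tt N114434 (iv7 F490143)))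
theorem Q102336 : ∀ i, i < 102336 → P i := stepQ 102335 Q102335 (allL N102335 (tt N79744 F436783) (tt N67442 (iv0 F436784)) (tt N112474 (iv2 F481226)) (tt N65960 F436781) (tt N118786 (iv4 F512062)) (tt N65955 (iv5 D205513)) (tt N65958 F436782) (tt N111865 (iv7 F478386)))
theorem Q102337 : ∀ i, i < 102337 → P i := stepQ 102336 Q102336 (allL N102336 (tt N120491 (iv1 F521056)) (tt N114434 (iv0 F490145)) (tt N118047 (iv2 F508276)) (tt N65961 F436785) (tt N115344 (iv4 F494698)) (tt N111865 (iv5 F478385)) (tt N97637 F436786) (tt N65955 (iv7 D205514)))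
theorem Q102338 : ∀ i, i < 102338 → P i := stepQ 102337 Q102337 (allL N102337 (tt N80056 F436789) (tt N80059 (iv0 F436790)) (tt N78411 F436787) (tt N80424 F436788) (tt N112846 (iv4 F482932)) (tt N103305 (iv5 F441062)) (tt N65956 (iv6 D205515)) (tt N97440 F436791))
theorem Q102339 : ∀ i, i < 102339 → P i := stepQ 102338 Q102338 (allL N102338 (tt N96450 F436794) (tt N100799 F436795) (tt N81732 F436792) (tt N93620 F436793) (tt N111370 (iv4 F476043)) (tt N65957 (iv5 D205516)) (tt N103437 (iv6 F441632)) (tt N103432 F441609))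
theorem Q102340 : ∀ i, i < 102340 → P i := stepQ 102339 Q102339 (allL N102339 (tt N80122 F436798) (tt N80119 F436799) (tt N109334 (iv2 F466430)) (tt N78566 F436796) (tt N109230 (iv4 F465883)) (tt N111095 (iv5 F474638)) (tt N65957 (iv6 D205517)) (tt N80737 F436797))
theorem Q102341 : ∀ i, i < 102341 → P i := stepQ 102340 Q102340 (allL N102340 (tt N67420 (iv1 F436805)) (tt N65960 (iv0 D205518)) (tt N67422 (iv2 F436801)) (tt N87723 (iv3 F436803)) (tt N103240 (iv4 F440729)) (tt N85942 F436800) (tt N67399 (iv6 F436804)) (tt N67200 F436802))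
theorem Q102342 : ∀ i, i < 102342 → P i := stepQ 102341 Q102341 (allL N102341 (tt N67200 (iv1 F436809)) (tt N67422 F436810) (tt N67420 F436806) (tt N111865 (iv3 F478384)) (tt N86985 F436807) (tt N65961 F436808) (tt N104425 F445697) (tt N65960 (iv7 D205519)))
theorem Q102343 : ∀ i, i < 102343 → P i := stepQ 102342 Q102342 (allL N102342 (tt N65963 (iv1 D205520)) (tt N97614 F436811) (tt N97611 F436815) (tt N92095 (iv3 F436816)) (tt N81744 F436813) (tt N106693 (iv5 F455308)) (tt N68826 (iv6 F436814)) (tt N92087 F436812))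
theorem Q102344 : ∀ i, i < 102344 → P i := stepQ 102343 Q102343 (allL N102343 (tt N97611 (iv1 F436821)) (tt N92087 F436822) (tt N97614 F436817) (tt N81741 F436818) (tt N65964 F436819) (tt N97625 F436820) (tt N119219 (iv6 F514433)) (tt N65963 (iv7 D205521)))
theorem Q102345 : ∀ i, i < 102345 → P i := stepQ 102344 Q102344 (allL N102344 (tt N93088 F436826) (tt N79733 (iv0 F436827)) (tt N97615 F436823) (tt N79732 F436824) (tt N119219 (iv4 F514432)) (tt N97649 F436825) (tt N65964 (iv6 D205522)) (tt N104425 (iv7 F445695)))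
theorem Q102346 : ∀ i, i < 102346 → P i := stepQ 102345 Q102345 (allL N102345 (tt N92629 (iv1 F439253)) (tt N116283 F499348) (tt N93668 F436828) (tt N65966 F436829) (tt N102915 F439250) (tt N65965 (iv5 D205523)) (tt N120590 (iv6 F521621)) (tt N97505 F436830))
theorem Q102347 : ∀ i, i < 102347 → P i := stepQ 102346 Q102346 (allL N102346 (tt N106742 (iv1 F455506)) (tt N83297 F436833) (tt N82790 F436831) (tt N95857 F436834) (tt N65966 (iv4 D205524)) (tt N106005 (iv5 F452713)) (tt N82754 (iv6 F436835)) (tt N97506 F436832))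
theorem Q102348 : ∀ i, i < 102348 → P i := stepQ 102347 Q102347 (allL N102347 (tt N80427 F436839) (tt N66012 F436840) (tt N82788 F436836) (tt N120590 (iv3 F521620)) (tt N82754 F436837) (tt N102166 F436838) (tt N65966 (iv6 D205525)) (tt N82787 F436841))
theorem Q102349 : ∀ i, i < 102349 → P i := stepQ 102348 Q102348 (allL N102348 (tt N118082 F508474) (tt N102211 (iv0 F436844)) (tt N103381 (iv2 F441373)) (tt N65969 F436842) (tt N117631 (iv4 F506095)) (tt N103480 (iv5 F441805)) (tt N65967 (iv6 D205526)) (tt N102168 F436843))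
theorem Q102350 : ∀ i, i < 102350 → P i := stepQ 102349 Q102349 (allL N102349 (tt N83297 F436850) (tt N106742 F455507) (tt N97506 F436845) (tt N70435 F436846) (tt N65968 (iv4 D205527)) (tt N90391 F436849) (tt N70433 F436847) (tt N82790 F436848))
theorem Q102351 : ∀ i, i < 102351 → P i := stepQ 102350 Q102350 (allL N102350 (tt N78512 F436854) (tt N115373 F494871) (tt N65975 F436851) (tt N80234 F436852) (tt N114815 (iv4 F492019)) (tt N65971 (iv5 D205528)) (tt N68770 F436853) (tt N111681 (iv7 F477451)))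
theorem Q102352 : ∀ i, i < 102352 → P i := stepQ 102351 Q102351 (allL N102351 (tt N102133 F436856) (tt N111463 (iv0 F476461)) (tt N104354 (iv2 F445393)) (tt N65973 (iv3 D205529)) (tt N111876 (iv4 F478449)) (tt N68622 F436855) (tt N67346 (iv6 F436857)) (tt N117968 (iv7 F507836)))
theorem Q102353 : ∀ i, i < 102353 → P i := stepQ 102352 Q102352 (allL N102352 (tt N103918 F443371) (tt N103925 F443400) (tt N103923 F452100) (tt N67346 F436858) (tt N111390 (iv4 F476133)) (tt N68621 F436859) (tt N65973 (iv6 D205530)) (tt N103922 F443388))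
theorem Q102354 : ∀ i, i < 102354 → P i := stepQ 102353 Q102353 (allL N102353 (tt N93613 F436864) (tt N79544 (iv0 F436865)) (tt N95030 F436860) (tt N71603 F436861) (tt N95158 F436862) (tt N79570 F436863) (tt N65974 (iv6 D205531)) (tt N95031 (iv7 F436867)))
theorem Q102355 : ∀ i, i < 102355 → P i := stepQ 102354 Q102354 (allL N102354 (tt N111681 (iv1 F477453)) (tt N65975 (iv0 D205532)) (tt N78512 (iv2 F436871)) (tt N118050 (iv3 F508295)) (tt N78509 F436869) (tt N101538 F436868) (tt N69249 F436870) (tt N115373 (iv7 F494869)))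
theorem Q102356 : ∀ i, i < 102356 → P i := stepQ 102355 Q102355 (allL N102355 (tt N115373 (iv1 F494870)) (tt N78512 (iv0 F436875)) (tt N111681 (iv2 F477449)) (tt N65979 F436872) (tt N114824 (iv4 F492070)) (tt N65976 F436873) (tt N102066 (iv6 F436874)) (tt N65975 (iv7 D205533)))
theorem Q102357 : ∀ i, i < 102357 → P i := stepQ 102356 Q102356 (allL N102356 (tt N97645 (iv1 F436879)) (tt N97644 F436880) (tt N97646 F436876) (tt N68769 F436877) (tt N110979 (iv4 F474056)) (tt N65978 F436878) (tt N103463 F441740) (tt N65977 (iv7 D205534)))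
theorem Q102358 : ∀ i, i < 102358 → P i := stepQ 102357 Q102357 (allL N102357 (tt N103284 (iv1 F440983)) (tt N103285 F440989) (tt N97649 F436881) (tt N102066 F436882) (tt N92976 F436883) (tt N97615 F436884) (tt N65979 (iv6 D205535)) (tt N103463 (iv7 F441739)))
theorem Q102359 : ∀ i, i < 102359 → P i := stepQ 102358 Q102358 (allL N102358 (tt N82536 (iv1 F436887)) (tt N65982 (iv0 D205536)) (tt N82535 (iv2 F436888)) (tt N97586 F436885) (tt N112078 (iv4 F479391)) (tt N117710 (iv5 F506557)) (tt N80419 F436886) (tt N82534 (iv7 F436889)))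
theorem Q102360 : ∀ i, i < 102360 → P i := stepQ 102359 Q102359 (allL N102359 (tt N65982 (iv1 D205537)) (tt N82536 F436890) (tt N82534 F436895) (tt N74648 (iv3 F436893)) (tt N81027 (iv4 F436892)) (tt N74647 F436896) (tt N91875 (iv6 F436894)) (tt N82535 F436891))
theorem Q102361 : ∀ i, i < 102361 → P i := stepQ 102360 Q102360 (allL N102360 (tt N66060 F436901) (tt N66055 F436902) (tt N93980 F436898) (tt N119280 (iv3 F514795)) (tt N65983 (iv4 D205538)) (tt N95811 F436899) (tt N87663 F436900) (tt N108963 (iv7 F464692)))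
theorem Q102362 : ∀ i, i < 102362 → P i := stepQ 102361 Q102361 (allL N102361 (tt N65989 (iv1 F436906)) (tt N65984 (iv0 D205539)) (tt N102408 (iv2 F437109)) (tt N116233 (iv3 F499151)) (tt N97683 F436904) (tt N102189 F436903) (tt N104307 (iv6 F445160)) (tt N102409 (iv7 F437116)))
theorem Q102363 : ∀ i, i < 102363 → P i := stepQ 102362 Q102362 (allL N102362 (tt N65984 (iv1 D205540)) (tt N65989 F436907) (tt N102409 (iv2 F437114)) (tt N97643 (iv3 F436910)) (tt N95849 F436909) (tt N102188 F436908) (tt N93015 F436911) (tt N102408 (iv7 F437110)))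
theorem Q102364 : ∀ i, i < 102364 → P i := stepQ 102363 Q102363 (allL N102363 (tt N98023 (iv1 F436916)) (tt N119416 (iv0 F515508)) (tt N103930 (iv2 F443412)) (tt N67248 F436912) (tt N65985 F436913) (tt N69324 F436915) (tt N65984 (iv6 D205541)) (tt N67243 F436914))
theorem Q102365 : ∀ i, i < 102365 → P i := stepQ 102364 Q102364 (allL N102364 (tt N79740 (iv1 F436918)) (tt N65985 (iv0 D205542)) (tt N97599 (iv2 F436917)) (tt N98025 F436919) (tt N110315 (iv4 F471001)) (tt N111811 (iv5 F478097)) (tt N98023 (iv6 F436920)) (tt N104269 (iv7 F445042)))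
theorem Q102366 : ∀ i, i < 102366 → P i := stepQ 102365 Q102365 (allL N102365 (tt N79739 F436925) (tt N67416 (iv0 F436926)) (tt N79741 F436921) (tt N103255 (iv3 F440820)) (tt N79753 F436924) (tt N65985 (iv5 D205543)) (tt N65986 F436922) (tt N79735 F436923))
theorem Q102367 : ∀ i, i < 102367 → P i := stepQ 102366 Q102366 (allL N102366 (tt N67305 (iv1 F436931)) (tt N65988 (iv0 D205544)) (tt N97632 (iv2 F436930)) (tt N116208 F499025) (tt N73419 F436928) (tt N97758 F436927) (tt N67253 F436929) (tt N102855 (iv7 F438957)))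
theorem Q102368 : ∀ i, i < 102368 → P i := stepQ 102367 Q102367 (allL N102367 (tt N102651 (iv1 F438060)) (tt N102821 (iv0 F438801)) (tt N67256 F436932) (tt N65989 (iv3 D205545)) (tt N67600 F436933) (tt N102059 F436934) (tt N67254 F436935) (tt N102828 (iv7 F438830)))
theorem Q102369 : ∀ i, i < 102369 → P i := stepQ 102368 Q102368 (allL N102368 (tt N65996 (iv1 F436940)) (tt N65993 F436941) (tt N66001 F436936) (tt N102241 F436937) (tt N92015 F436938) (tt N102197 F436939) (tt N103276 (iv6 F440933)) (tt N65991 (iv7 D205546)))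
theorem Q102370 : ∀ i, i < 102370 → P i := stepQ 102369 Q102369 (allL N102369 (tt N103273 (iv1 F440919)) (tt N65994 (iv0 D205547)) (tt N67418 (iv2 F436944)) (tt N113822 (iv3 F487291)) (tt N92018 F436943) (tt N67412 F436942) (tt N103269 F440899) (tt N103270 (iv7 F440904)))
theorem Q102371 : ∀ i, i < 102371 → P i := stepQ 102370 Q102370 (allL N102370 (tt N97541 (iv1 F436948)) (tt N103444 F441669) (tt N65995 (iv2 D205548)) (tt N68730 F436945) (tt N69144 F436946) (tt N97524 F436947) (tt N68728 F436949) (tt N102762 (iv7 F438526)))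
theorem Q102372 : ∀ i, i < 102372 → P i := stepQ 102371 Q102371 (allL N102371 (tt N68775 F436954) (tt N68787 F436956) (tt N68728 F436950) (tt N65997 F436951) (tt N69142 F436952) (tt N86922 (iv5 F436955)) (tt N65995 (iv6 D205549)) (tt N68785 F436953))
theorem Q102373 : ∀ i, i < 102373 → P i := stepQ 102372 Q102372 (allL N102372 (tt N66483 F436959) (tt N103441 F441654) (tt N101710 F436957) (tt N65996 (iv3 D205550)) (tt N102761 (iv4 F438518)) (tt N102294 F436958) (tt N80039 (iv6 F436960)) (tt N117999 (iv7 F508007)))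
theorem Q102374 : ∀ i, i < 102374 → P i := stepQ 102373 Q102373 (allL N102373 (tt N103266 F440881) (tt N103269 F440897) (tt N103243 (iv2 F440744)) (tt N80039 F436961) (tt N65997 F436962) (tt N80038 F436963) (tt N65996 (iv6 D205551)) (tt N101714 F436964))
theorem Q102375 : ∀ i, i < 102375 → P i := stepQ 102374 Q102374 (allL N102374 (tt N118018 (iv1 F508115)) (tt N92669 (iv0 F436966)) (tt N112866 (iv2 F483036)) (tt N86922 F436965) (tt N103578 (iv4 F442107)) (tt N65997 (iv5 D205552)) (tt N103577 (iv6 F442105)) (tt N109925 (iv7 F469254)))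
theorem Q102376 : ∀ i, i < 102376 → P i := stepQ 102375 Q102375 (allL N102375 (tt N105868 (iv1 F452093)) (tt N116221 F499097) (tt N97551 F436967) (tt N92023 F436968) (tt N104347 (iv4 F445351)) (tt N97421 F436969) (tt N65999 (iv6 D205553)) (tt N92020 F436970))
theorem Q102377 : ∀ i, i < 102377 → P i := stepQ 102376 Q102376 (allL N102376 (tt N67444 F436973) (tt N70812 F436975) (tt N66004 F436971) (tt N97501 F436972) (tt N116292 (iv4 F499405)) (tt N90696 (iv5 F436974)) (tt N66002 (iv6 D205554)) (tt N103418 (iv7 F441538)))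
theorem Q102378 : ∀ i, i < 102378 → P i := stepQ 102377 Q102377 (allL N102377 (tt N109058 (iv1 F465146)) (tt N109059 (iv0 F465149)) (tt N117998 (iv2 F507996)) (tt N75529 F436976) (tt N105481 (iv4 F450422)) (tt N66003 (iv5 D205555)) (tt N105480 F450420) (tt N97548 F436977))
theorem Q102379 : ∀ i, i < 102379 → P i := stepQ 102378 Q102378 (allL N102378 (tt N115702 (iv1 F496407)) (tt N105871 (iv0 F452116)) (tt N116292 (iv2 F499403)) (tt N92168 F436978) (tt N66004 F436979) (tt N97194 F436980) (tt N66003 (iv6 D205556)) (tt N105902 (iv7 F452268)))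
theorem Q102380 : ∀ i, i < 102380 → P i := stepQ 102379 Q102379 (allL N102379 (tt N103418 (iv1 F441540)) (tt N66004 (iv0 D205557)) (tt N67444 (iv2 F436983)) (tt N84098 F436984) (tt N70817 F436981) (tt N67437 F436982) (tt N90426 F436985) (tt N70812 F436986))
theorem Q102381 : ∀ i, i < 102381 → P i := stepQ 102380 Q102380 (allL N102380 (tt N70812 (iv1 F436990)) (tt N67444 F436991) (tt N103418 (iv2 F441537)) (tt N66005 F436987) (tt N105902 (iv4 F452267)) (tt N68649 F436988) (tt N97550 F436989) (tt N66004 (iv7 D205558)))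
theorem Q102382 : ∀ i, i < 102382 → P i := stepQ 102381 Q102381 (allL N102381 (tt N108323 (iv1 F462061)) (tt N110280 (iv0 F470813)) (tt N113145 (iv2 F484179)) (tt N66008 F436992) (tt N92813 F436994) (tt N66007 (iv5 D205559)) (tt N92060 F436993) (tt N113146 (iv7 F484185)))
theorem Q102383 : ∀ i, i < 102383 → P i := stepQ 102382 Q102382 (allL N102382 (tt N97560 (iv1 F436997)) (tt N66008 (iv0 D205560)) (tt N92663 (iv2 F436995)) (tt N118018 (iv3 F508111)) (tt N119458 (iv4 F515727)) (tt N110281 (iv5 F470814)) (tt N120615 D223874) (tt N97558 F436996))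
theorem Q102384 : ∀ i, i < 102384 → P i := stepQ 102383 Q102383 (allL N102383 (tt N120616 D223875) (tt N120617 D223876) (tt N97559 F436998) (tt N117953 (iv3 F507763)) (tt N66008 (iv4 D205561)) (tt N120618 D223877) (tt N92064 F436999) (tt N120619 D223878))
theorem Q102385 : ∀ i, i < 102385 → P i := stepQ 102384 Q102384 (allL N102384 (tt N97558 (iv1 F437002)) (tt N92663 F437003) (tt N97560 F437000) (tt N113146 (iv3 F484183)) (tt N120619 (iv4 F521791)) (tt N66009 F437001) (tt N104428 F445718) (tt N66008 (iv7 D205562)))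
theorem Q102386 : ∀ i, i < 102386 → P i := stepQ 102385 Q102385 (allL N102385 (tt N66013 (iv1 F437005)) (tt N66010 (iv0 D205563)) (tt N117981 F507899) (tt N102386 (iv3 F437007)) (tt N117995 (iv4 F507980)) (tt N97888 F437004) (tt N118087 (iv6 F508507)) (tt N102179 F437006))
theorem Q102387 : ∀ i, i < 102387 → P i := stepQ 102386 Q102386 (allL N102386 (tt N120595 F521654) (tt N120581 (iv0 F521577)) (tt N117982 (iv2 F507903)) (tt N102385 F437007) (tt N66010 (iv4 D205564)) (tt N119498 (iv5 F515917)) (tt N118072 F508423) (tt N117984 (iv7 F507914)))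
theorem Q102388 : ∀ i, i < 102388 → P i := stepQ 102387 Q102387 (allL N102387 (tt N101985 F437012) (tt N102174 (iv0 F437013)) (tt N102184 F437008) (tt N102175 F437009) (tt N118072 (iv4 F508420)) (tt N95451 F437010) (tt N66010 (iv6 D205565)) (tt N102181 F437011))
theorem Q102389 : ∀ i, i < 102389 → P i := stepQ 102388 Q102388 (allL N102388 (tt N113154 (iv1 F484232)) (tt N97557 (iv0 F437017)) (tt N80422 F437014) (tt N113153 (iv3 F484225)) (tt N68161 F437015) (tt N80421 F437016) (tt N114966 (iv6 F492806)) (tt N66011 (iv7 D205566)))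
theorem Q102390 : ∀ i, i < 102390 → P i := stepQ 102389 Q102389 (allL N102389 (tt N120581 (iv1 F521578)) (tt N120595 (iv0 F521653)) (tt N117984 (iv2 F507912)) (tt N102189 (iv3 F437019)) (tt N66013 (iv4 D205567)) (tt N116233 F499154) (tt N102039 F437018) (tt N117982 (iv7 F507906)))
theorem Q102391 : ∀ i, i < 102391 → P i := stepQ 102390 Q102390 (allL N102390 (tt N114966 (iv1 F492809)) (tt N66014 (iv0 D205568)) (tt N85942 (iv2 F437023)) (tt N103266 (iv3 F440879)) (tt N83612 F437021) (tt N67422 F437020) (tt N98033 F437022) (tt N67421 F437024))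
theorem Q102392 : ∀ i, i < 102392 → P i := stepQ 102391 Q102391 (allL N102391 (tt N91817 F437027) (tt N103373 (iv0 F441333)) (tt N93228 F437025) (tt N92022 F437026) (tt N102596 (iv4 F437842)) (tt N112393 (iv5 F480901)) (tt N66016 (iv6 D205569)) (tt N103372 (iv7 F441328)))
theorem Q102393 : ∀ i, i < 102393 → P i := stepQ 102392 Q102392 (allL N102392 (tt N97478 F437032) (tt N92112 F437033) (tt N97753 F437028) (tt N68001 F437029) (tt N66019 (iv4 D205570)) (tt N68000 F437031) (tt N117963 (iv6 F507816)) (tt N97754 F437030))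
theorem Q102394 : ∀ i, i < 102394 → P i := stepQ 102393 Q102393 (allL N102393 (tt N67303 (iv1 F437038)) (tt N104284 (iv0 F445095)) (tt N97657 F437034) (tt N71902 F437035) (tt N117963 (iv4 F507813)) (tt N96449 F437036) (tt N66019 (iv6 D205571)) (tt N86965 F437037))
theorem Q102395 : ∀ i, i < 102395 → P i := stepQ 102394 Q102394 (allL N102394 (tt N92112 F437043) (tt N97478 F437044) (tt N97754 F437039) (tt N66195 F437040) (tt N66020 (iv4 D205572)) (tt N66193 F437041) (tt N115795 (iv6 F496929)) (tt N97753 F437042))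
theorem Q102396 : ∀ i, i < 102396 → P i := stepQ 102395 Q102395 (allL N102395 (tt N108962 (iv1 F464683)) (tt N79675 (iv0 F437048)) (tt N103454 (iv2 F441707)) (tt N66027 (iv3 D205573)) (tt N117672 (iv4 F506338)) (tt N93979 F437045) (tt N93963 F437046) (tt N93970 F437047))
theorem Q102397 : ∀ i, i < 102397 → P i := stepQ 102396 Q102396 (allL N102396 (tt N78630 F437053) (tt N70088 F437055) (tt N78627 (iv2 F437054)) (tt N66031 (iv3 D205574)) (tt N89430 F437049) (tt N91295 F437050) (tt N78213 F437051) (tt N78628 F437052))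
theorem Q102398 : ∀ i, i < 102398 → P i := stepQ 102397 Q102397 (allL N102397 (tt N100708 F437061) (tt N81201 (iv0 F437062)) (tt N80239 F437056) (tt N66033 (iv3 D205575)) (tt N79177 F437057) (tt N70103 F437058) (tt N95102 F437059) (tt N94027 F437060))
theorem Q102399 : ∀ i, i < 102399 → P i := stepQ 102398 Q102398 (allL N102398 (tt N91874 F437065) (tt N91879 F437066) (tt N91878 F437063) (tt N111049 (iv3 F474418)) (tt N66039 (iv4 D205576)) (tt N108927 (iv5 F464524)) (tt N111861 (iv6 F478360)) (tt N91877 F437064))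
theorem Q102400 : ∀ i, i < 102400 → P i := stepQ 102399 Q102399 (allL N102399 (tt N73764 (iv1 F437070)) (tt N103084 (iv0 F440003)) (tt N107926 F460320) (tt N66040 (iv3 D205577)) (tt N66041 F437067) (tt N73605 F437068) (tt N103168 F440382) (tt N73988 F437069))
theorem Q102401 : ∀ i, i < 102401 → P i := stepQ 102400 Q102400 (allL N102400 (tt N106099 F453109) (tt N94031 F437075) (tt N82457 F437071) (tt N97695 F437072) (tt N66042 (iv4 D205578)) (tt N118426 (iv5 F510288)) (tt N75295 F437073) (tt N68535 F437074))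
theorem Q102402 : ∀ i, i < 102402 → P i := stepQ 102401 Q102401 (allL N102401 (tt N94031 F437079) (tt N106099 (iv0 F453108)) (tt N68535 F437076) (tt N94024 F437080) (tt N66043 (iv4 D205579)) (tt N106732 (iv5 F455462)) (tt N68492 F437077) (tt N82457 F437078))
theorem Q102403 : ∀ i, i < 102403 → P i := stepQ 102402 Q102402 (allL N102402 (tt N67190 (iv1 F437087)) (tt N67411 (iv0 F437086)) (tt N67413 F437081) (tt N66049 F437082) (tt N79373 F437083) (tt N67288 F437084) (tt N66047 (iv6 D205580)) (tt N67414 F437085))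
theorem Q102404 : ∀ i, i < 102404 → P i := stepQ 102403 Q102403 (allL N102403 (tt N114955 (iv1 F492751)) (tt N104395 (iv0 F445579)) (tt N117683 (iv2 F506398)) (tt N92764 F437088) (tt N92781 F437089) (tt N101757 F437091) (tt N66048 (iv6 D205581)) (tt N92758 F437090))
theorem Q102405 : ∀ i, i < 102405 → P i := stepQ 102404 Q102404 (allL N102404 (tt N79888 F437096) (tt N103304 (iv0 F441059)) (tt N105880 (iv2 F452153)) (tt N67288 F437092) (tt N92721 F437095) (tt N66049 (iv5 D205582)) (tt N101757 F437093) (tt N92719 F437094))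
theorem Q102406 : ∀ i, i < 102406 → P i := stepQ 102405 Q102405 (allL N102405 (tt N110278 F470802) (tt N112818 (iv0 F482769)) (tt N90414 F437097) (tt N66056 F437098) (tt N105473 (iv4 F450398)) (tt N111679 F477444) (tt N66051 (iv6 D205583)) (tt N105472 (iv7 F450396)))
theorem Q102407 : ∀ i, i < 102407 → P i := stepQ 102406 Q102406 (allL N102406 (tt N80231 F437101) (tt N112488 F481315) (tt N112487 F481306) (tt N66057 F437099) (tt N96348 F437102) (tt N66052 (iv5 D205584)) (tt N111679 F477445) (tt N101083 F437100))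
theorem Q102408 : ∀ i, i < 102408 → P i := stepQ 102407 Q102407 (allL N102407 (tt N93678 (iv1 F437107)) (tt N93679 (iv0 F437108)) (tt N93677 F437103) (tt N66053 (iv3 D205585)) (tt N99807 F437106) (tt N80156 F437104) (tt N97782 F474225) (tt N93676 F437105))
theorem Q102409 : ∀ i, i < 102409 → P i := stepQ 102408 Q102408 (allL N102408 (tt N68674 F437112) (tt N95676 F437113) (tt N102361 F437109) (tt N118088 (iv3 F508511)) (tt N66053 (iv4 D205586)) (tt N102161 F437111) (tt N113047 (iv6 F483713)) (tt N102362 F437110))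
theorem Q102410 : ∀ i, i < 102410 → P i := stepQ 102409 Q102409 (allL N102409 (tt N95676 F437117) (tt N68674 F437118) (tt N102362 F437114) (tt N119409 (iv3 F515465)) (tt N66054 (iv4 D205587)) (tt N102176 F437115) (tt N68600 F437119) (tt N102361 F437116))
theorem Q102411 : ∀ i, i < 102411 → P i := stepQ 102410 Q102410 (allL N102410 (tt N102417 F437151) (tt N103235 (iv0 F440705)) (tt N103311 (iv2 F441090)) (tt N97841 F437120) (tt N68600 F437121) (tt N111673 (iv5 F477413)) (tt N66054 (iv6 D205588)) (tt N103319 F441123))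
theorem Q102412 : ∀ i, i < 102412 → P i := stepQ 102411 Q102411 (allL N102411 (tt N110315 (iv1 F470999)) (tt N110314 F470997) (tt N103440 (iv2 F441644)) (tt N106737 (iv3 F455482)) (tt N66056 F437123) (tt N68813 (iv5 F437124)) (tt N66055 (iv6 D205589)) (tt N103443 (iv7 F441662)))
theorem Q102413 : ∀ i, i < 102413 → P i := stepQ 102412 Q102412 (allL N102412 (tt N90416 (iv1 F437128)) (tt N66056 (iv0 D205590)) (tt N97553 (iv2 F437126)) (tt N120620 D223879) (tt N103296 F441034) (tt N97540 F437125) (tt N119431 (iv6 F515585)) (tt N97539 F437127))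
theorem Q102414 : ∀ i, i < 102414 → P i := stepQ 102413 Q102413 (allL N102413 (tt N111682 (iv1 F477461)) (tt N97757 F437133) (tt N102162 F437129) (tt N111679 F477443) (tt N78561 F437131) (tt N66056 (iv5 D205591)) (tt N66057 F437130) (tt N97638 F437132))
theorem Q102415 : ∀ i, i < 102415 → P i := stepQ 102414 Q102414 (allL N102414 (tt N97539 (iv1 F437136)) (tt N97553 F437137) (tt N90416 F437134) (tt N105472 (iv3 F450394)) (tt N103443 (iv4 F441661)) (tt N97638 F437135) (tt N105471 F450391) (tt N66056 (iv7 D205592)))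
theorem Q102416 : ∀ i, i < 102416 → P i := stepQ 102415 Q102415 (allL N102415 (tt N95045 F437143) (tt N95043 F437144) (tt N97456 F437138) (tt N66059 F437139) (tt N96638 F437142) (tt N66058 (iv5 D205593)) (tt N66059 F437140) (tt N102058 F437141))
theorem Q102417 : ∀ i, i < 102417 → P i := stepQ 102416 Q102416 (allL N102416 (tt N120621 D223880) (tt N116289 (iv0 F499385)) (tt N105113 (iv2 F448855)) (tt N66060 (iv3 D205594)) (tt N105067 (iv4 F448640)) (tt N102150 F437145) (tt N87047 (iv6 F437146)) (tt N110316 (iv7 F471008)))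
theorem Q102418 : ∀ i, i < 102418 → P i := stepQ 102417 Q102417 (allL N102417 (tt N104268 (iv1 F445038)) (tt N102410 (iv0 F437151)) (tt N67268 F437147) (tt N87047 F437148) (tt N66061 F437149) (tt N96639 F437150) (tt N66060 (iv6 D205595)) (tt N105111 (iv7 F448845)))
theorem Q102419 : ∀ i, i < 102419 → P i := stepQ 102418 Q102418 (allL N102418 (tt N105471 (iv1 F450392)) (tt N66061 (iv0 D205596)) (tt N103294 (iv2 F441020)) (tt N118063 (iv3 F508372)) (tt N103229 (iv4 F440680)) (tt N116033 (iv5 F498152)) (tt N87678 F437152) (tt N103293 (iv7 F441016)))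
theorem Q102420 : ∀ i, i < 102420 → P i := stepQ 102419 Q102419 (allL N102419 (tt N66061 (iv1 D205597)) (tt N105471 (iv0 F450390)) (tt N103293 (iv2 F441015)) (tt N68617 F437156) (tt N74663 F437153) (tt N95888 (iv5 F437155)) (tt N74662 (iv6 F437154)) (tt N103294 (iv7 F441023)))
theorem Q102421 : ∀ i, i < 102421 → P i := stepQ 102420 Q102420 (allL N102420 (tt N102219 F477335) (tt N102214 (iv0 F437160)) (tt N88355 F437157) (tt N97455 F437158) (tt N120602 (iv4 F521694)) (tt N79684 F437159) (tt N66062 (iv6 D205598)) (tt N102217 (iv7 F437161)))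
theorem Q102422 : ∀ i, i < 102422 → P i := stepQ 102421 Q102421 (allL N102421 (tt N102676 F438169) (tt N92534 F437167) (tt N67800 F437162) (tt N95898 F437163) (tt N99104 F437166) (tt N66065 (iv5 D205599)) (tt N92673 F437164) (tt N97056 F437165))
theorem Q102423 : ∀ i, i < 102423 → P i := stepQ 102422 Q102422 (allL N102422 (tt N78945 F437170) (tt N67776 F437171) (tt N70582 F437168) (tt N93004 F437169) (tt N66070 (iv4 D205600)) (tt N118090 (iv5 F508524)) (tt N113575 (iv6 F486097)) (tt N104741 (iv7 F447074)))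
theorem Q102424 : ∀ i, i < 102424 → P i := stepQ 102423 Q102423 (allL N102423 (tt N67776 F437174) (tt N78945 F437175) (tt N104741 F447072) (tt N67770 F437172) (tt N66071 (iv4 D205601)) (tt N104614 (iv5 F446546)) (tt N102935 (iv6 F439330)) (tt N70582 F437173))
theorem Q102425 : ∀ i, i < 102425 → P i := stepQ 102424 Q102424 (allL N102424 (tt N91084 (iv1 F437183)) (tt N91083 (iv0 F437180)) (tt N91087 F437176) (tt N66074 F437177) (tt N82981 F437178) (tt N109742 (iv5 F468391)) (tt N66073 (iv6 D205602)) (tt N91053 (iv7 F437182)))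
theorem Q102426 : ∀ i, i < 102426 → P i := stepQ 102425 Q102425 (allL N102425 (tt N97948 F437189) (tt N68844 (iv0 F437190)) (tt N93013 F437184) (tt N67233 F437185) (tt N70606 F437186) (tt N94047 F437187) (tt N66075 (iv6 D205603)) (tt N94047 F437188))
theorem Q102427 : ∀ i, i < 102427 → P i := stepQ 102426 Q102426 (allL N102426 (tt N70365 F437193) (tt N98036 F437194) (tt N69362 F437191) (tt N70180 F437195) (tt N66078 (iv4 D205604)) (tt N103935 (iv5 F443439)) (tt N87837 (iv6 F437196)) (tt N70176 F437192))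
theorem Q102428 : ∀ i, i < 102428 → P i := stepQ 102427 Q102427 (allL N102427 (tt N70035 F437199) (tt N85965 (iv0 F437200)) (tt N69363 F437197) (tt N105764 (iv3 F451590)) (tt N87837 F437198) (tt N115147 (iv5 F493714)) (tt N66078 (iv6 D205605)) (tt N86723 (iv7 F437201)))
theorem Q102429 : ∀ i, i < 102429 → P i := stepQ 102428 Q102428 (allL N102428 (tt N109419 (iv1 F466867)) (tt N102479 (iv0 F437376)) (tt N102534 (iv2 F437544)) (tt N118092 (iv3 F508538)) (tt N66081 (iv4 D205606)) (tt N120622 D223881) (tt N120623 D223882) (tt N102532 (iv7 F437542)))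
theorem Q102430 : ∀ i, i < 102430 → P i := stepQ 102429 Q102429 (allL N102429 (tt N120624 D223883) (tt N104611 (iv0 F446533)) (tt N102535 (iv2 F437547)) (tt N97567 F437202) (tt N120623 (iv4 F521817)) (tt N104458 (iv5 F445843)) (tt N66081 (iv6 D205607)) (tt N104527 (iv7 F446154)))
theorem Q102431 : ∀ i, i < 102431 → P i := stepQ 102430 Q102430 (allL N102430 (tt N102479 F437377) (tt N109419 (iv0 F466865)) (tt N102532 (iv2 F437541)) (tt N69804 F437203) (tt N66082 (iv4 D205608)) (tt N118658 (iv5 F511385)) (tt N75725 F442356) (tt N102534 (iv7 F437545)))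
theorem Q102432 : ∀ i, i < 102432 → P i := stepQ 102431 Q102431 (allL N102431 (tt N67667 F442354) (tt N103847 (iv0 F443066)) (tt N102533 (iv2 F437543)) (tt N103527 (iv3 F441954)) (tt N75725 (iv4 F442355)) (tt N120625 D223884) (tt N66082 (iv6 D205609)) (tt N120626 D223885))
theorem Q102433 : ∀ i, i < 102433 → P i := stepQ 102432 Q102432 (allL N102432 (tt N67774 F437207) (tt N70348 (iv0 F437206)) (tt N66084 F437204) (tt N67546 F437205) (tt N105406 (iv4 F450103)) (tt N66083 (iv5 D205610)) (tt N102464 F437326) (tt N102536 (iv7 F437551)))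
theorem Q102434 : ∀ i, i < 102434 → P i := stepQ 102433 Q102433 (allL N102433 (tt N69158 F437211) (tt N69157 F437213) (tt N66085 F437208) (tt N67547 F437209) (tt N96991 F437210) (tt N66172 (iv5 F437212)) (tt N66083 (iv6 D205611)) (tt N66171 F437214))
theorem Q102435 : ∀ i, i < 102435 → P i := stepQ 102434 Q102434 (allL N102434 (tt N102536 (iv1 F437552)) (tt N66084 (iv0 D205612)) (tt N67774 (iv2 F437217)) (tt N78945 F437215) (tt N70164 F437216) (tt N66091 F437218) (tt N120627 D223886) (tt N70348 F437219))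
theorem Q102436 : ∀ i, i < 102436 → P i := stepQ 102435 Q102435 (allL N102435 (tt N102581 F437775) (tt N102579 (iv0 F437749)) (tt N105406 (iv2 F450102)) (tt N68316 F437220) (tt N66084 (iv4 D205613)) (tt N101400 F437221) (tt N103788 (iv6 F442818)) (tt N102538 (iv7 F437560)))
theorem Q102437 : ∀ i, i < 102437 → P i := stepQ 102436 Q102436 (allL N102436 (tt N67558 (iv1 F437223)) (tt N66086 (iv0 D205614)) (tt N67555 F437226) (tt N66097 (iv3 F437225)) (tt N70453 F437222) (tt N104509 (iv5 F446077)) (tt N67883 F437227) (tt N67556 F437228))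
theorem Q102438 : ∀ i, i < 102438 → P i := stepQ 102437 Q102437 (allL N102437 (tt N66086 (iv1 D205615)) (tt N67558 F437229) (tt N67556 F437232) (tt N113582 (iv3 F486137)) (tt N70702 (iv4 F437231)) (tt N67710 (iv5 F437234)) (tt N75021 F437233) (tt N67555 F437230))
theorem Q102439 : ∀ i, i < 102439 → P i := stepQ 102438 Q102438 (allL N102438 (tt N67790 (iv1 F437239)) (tt N66096 (iv0 F437240)) (tt N67788 F437237) (tt N66087 (iv3 D205616)) (tt N69381 F437235) (tt N103870 (iv5 F443153)) (tt N104090 (iv6 F444125)) (tt N67561 F437236))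
theorem Q102440 : ∀ i, i < 102440 → P i := stepQ 102439 Q102439 (allL N102439 (tt N104613 F446542) (tt N120628 D223887) (tt N115799 (iv2 F496950)) (tt N66088 (iv3 D205617)) (tt N67281 F437241) (tt N103868 (iv5 F443148)) (tt N120629 D223888) (tt N67559 F437242))
theorem Q102441 : ∀ i, i < 102441 → P i := stepQ 102440 Q102440 (allL N102440 (tt N102525 (iv1 F437503)) (tt N69351 (iv0 F437245)) (tt N67563 F437243) (tt N120629 (iv3 F521843)) (tt N70579 F437244) (tt N103941 (iv5 F443462)) (tt N66088 (iv6 D205618)) (tt N103945 (iv7 F443472)))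
theorem Q102442 : ∀ i, i < 102442 → P i := stepQ 102441 Q102441 (allL N102441 (tt N67567 (iv1 F437248)) (tt N66089 (iv0 D205619)) (tt N67564 (iv2 F437249)) (tt N105569 (iv3 F450771)) (tt N79769 F437247) (tt N67852 F437246) (tt N69088 (iv6 F437251)) (tt N67565 (iv7 F437250)))
theorem Q102443 : ∀ i, i < 102443 → P i := stepQ 102442 Q102442 (allL N102442 (tt N66089 (iv1 D205620)) (tt N67567 F437252) (tt N67565 (iv2 F437256)) (tt N75713 (iv3 F437257)) (tt N69224 F437255) (tt N67793 F437254) (tt N75712 (iv6 F437258)) (tt N67564 F437253))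
theorem Q102444 : ∀ i, i < 102444 → P i := stepQ 102443 Q102443 (allL N102443 (tt N102499 (iv1 F437446)) (tt N102507 (iv0 F437468)) (tt N102552 (iv2 F437625)) (tt N93236 F437259) (tt N66091 (iv4 D205621)) (tt N120630 D223889) (tt N118080 (iv6 F508461)) (tt N102551 (iv7 F437622)))
theorem Q102445 : ∀ i, i < 102445 → P i := stepQ 102444 Q102444 (allL N102444 (tt N120631 D223890) (tt N102629 (iv0 F488824)) (tt N102553 (iv2 F437630)) (tt N118075 F508438) (tt N118080 (iv4 F508459)) (tt N114093 (iv5 F488823)) (tt N66091 (iv6 D205622)) (tt N104662 (iv7 F446754)))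
theorem Q102446 : ∀ i, i < 102446 → P i := stepQ 102445 Q102445 (allL N102445 (tt N102507 F437469) (tt N102499 (iv0 F437447)) (tt N102551 (iv2 F437620)) (tt N69879 F437260) (tt N66092 (iv4 D205623)) (tt N120632 D223891) (tt N102578 F437762) (tt N102552 (iv7 F437627)))
theorem Q102447 : ∀ i, i < 102447 → P i := stepQ 102446 Q102446 (allL N102446 (tt N67539 F437266) (tt N70298 (iv0 F437265)) (tt N66094 F437263) (tt N67777 F437264) (tt N105448 (iv4 F450309)) (tt N66093 (iv5 D205625)) (tt N120633 D223892) (tt N102554 (iv7 F437634)))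
theorem Q102448 : ∀ i, i < 102448 → P i := stepQ 102447 Q102447 (allL N102447 (tt N120634 D223893) (tt N120635 D223894) (tt N66095 F437267) (tt N67778 F437268) (tt N104664 (iv4 F446763)) (tt N103541 (iv5 F441989)) (tt N66093 (iv6 D205626)) (tt N103540 F441984))
theorem Q102449 : ∀ i, i < 102449 → P i := stepQ 102448 Q102448 (allL N102448 (tt N102554 F437636) (tt N66094 (iv0 D205627)) (tt N67539 (iv2 F437271)) (tt N78900 F437269) (tt N70153 F437270) (tt N66153 F437272) (tt N120636 D223895) (tt N70298 F437273))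
theorem Q102450 : ∀ i, i < 102450 → P i := stepQ 102449 Q102449 (allL N102449 (tt N103288 F441001) (tt N105491 (iv0 F450454)) (tt N105448 (iv2 F450308)) (tt N67945 F437274) (tt N66094 (iv4 D205628)) (tt N116330 (iv5 F499590)) (tt N88697 (iv6 F443266)) (tt N102555 (iv7 F437638)))
theorem Q102451 : ∀ i, i < 102451 → P i := stepQ 102450 Q102450 (allL N102450 (tt N119203 (iv1 F514343)) (tt N119205 (iv0 F514352)) (tt N120633 (iv2 F521865)) (tt N66096 F437275) (tt N88697 (iv4 F443265)) (tt N120637 D223896) (tt N66094 (iv6 D205629)) (tt N119507 (iv7 F515968)))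
theorem Q102452 : ∀ i, i < 102452 → P i := stepQ 102451 Q102451 (allL N102451 (tt N103540 (iv1 F441986)) (tt N66095 (iv0 D205630)) (tt N120634 F521875) (tt N103483 F441819) (tt N120638 D223897) (tt N120639 D223898) (tt N68922 F437276) (tt N120635 (iv7 F521878)))
theorem Q102453 : ∀ i, i < 102453 → P i := stepQ 102452 Q102452 (allL N102452 (tt N66095 (iv1 D205631)) (tt N103540 F441985) (tt N120635 F521880) (tt N120640 D223899) (tt N120641 D223900) (tt N120642 D223901) (tt N120643 D223902) (tt N120634 F521876))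
theorem Q102454 : ∀ i, i < 102454 → P i := stepQ 102453 Q102453 (allL N102453 (tt N103539 (iv1 F441979)) (tt N103538 F441990) (tt N103541 (iv2 F441987)) (tt N66099 F437277) (tt N105184 (iv4 F449147)) (tt N66095 (iv5 D205632)) (tt N120637 (iv6 F521889)) (tt N103534 F441969))
theorem Q102455 : ∀ i, i < 102455 → P i := stepQ 102454 Q102454 (allL N102454 (tt N120635 (iv1 F521877)) (tt N120634 F521874) (tt N103540 (iv2 F441981)) (tt N66100 F437278) (tt N68915 F437279) (tt N103534 (iv5 F441968)) (tt N68924 F437280) (tt N66095 (iv7 D205633)))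
theorem Q102456 : ∀ i, i < 102456 → P i := stepQ 102455 Q102455 (allL N102455 (tt N66096 (iv1 D205634)) (tt N67790 F437281) (tt N67561 (iv2 F437283)) (tt N115799 (iv3 F496951)) (tt N70676 (iv4 F437284)) (tt N112916 (iv5 F483269)) (tt N109798 (iv6 F468664)) (tt N67788 F437282))
theorem Q102457 : ∀ i, i < 102457 → P i := stepQ 102456 Q102456 (allL N102456 (tt N105569 (iv1 F450775)) (tt N105567 (iv0 F450761)) (tt N67789 F437285) (tt N120637 (iv3 F521887)) (tt N83892 F437287) (tt N66096 (iv5 D205635)) (tt N66099 F437286) (tt N88686 (iv7 F437288)))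
theorem Q102458 : ∀ i, i < 102458 → P i := stepQ 102457 Q102457 (allL N102457 (tt N67561 (iv1 F437292)) (tt N67788 F437293) (tt N67790 F437289) (tt N119507 (iv3 F515965)) (tt N70034 F437290) (tt N88686 F437291) (tt N102561 (iv6 F437663)) (tt N66096 (iv7 D205636)))
theorem Q102459 : ∀ i, i < 102459 → P i := stepQ 102458 Q102458 (allL N102458 (tt N104477 (iv1 F445940)) (tt N104476 (iv0 F445934)) (tt N67792 F437294) (tt N104509 (iv3 F446075)) (tt N90232 F437296) (tt N66097 (iv5 D205637)) (tt N104631 (iv6 F446610)) (tt N67794 F437295))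
theorem Q102460 : ∀ i, i < 102460 → P i := stepQ 102459 Q102459 (allL N102459 (tt N70583 F437299) (tt N103484 (iv0 F441820)) (tt N113582 (iv2 F486136)) (tt N66098 (iv3 D205638)) (tt N67343 F437297) (tt N109435 (iv5 F466947)) (tt N117977 F507886) (tt N67791 F437298))
theorem Q102461 : ∀ i, i < 102461 → P i := stepQ 102460 Q102460 (allL N102460 (tt N104476 (iv1 F445935)) (tt N104477 (iv0 F445939)) (tt N67794 F437300) (tt N109435 (iv3 F466945)) (tt N90234 F437301) (tt N66098 (iv5 D205639)) (tt N104506 (iv6 F446058)) (tt N67792 F437302))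
theorem Q102462 : ∀ i, i < 102462 → P i := stepQ 102461 Q102461 (allL N102461 (tt N66403 F437307) (tt N66405 F437308) (tt N67795 F437303) (tt N117977 F507885) (tt N70581 F437304) (tt N67726 (iv5 F437306)) (tt N66098 (iv6 D205640)) (tt N67882 F437305))
theorem Q102463 : ∀ i, i < 102463 → P i := stepQ 102462 Q102462 (allL N102462 (tt N66099 (iv1 D205641)) (tt N67799 F437309) (tt N67797 (iv2 F437313)) (tt N113585 (iv3 F486157)) (tt N90235 F437312) (tt N68893 F437311) (tt N120644 D223903) (tt N67796 F437310))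
theorem Q102464 : ∀ i, i < 102464 → P i := stepQ 102463 Q102463 (allL N102463 (tt N88667 F437317) (tt N83983 (iv0 F437319)) (tt N67798 F437314) (tt N81833 F437318) (tt N66099 (iv4 D205642)) (tt N80850 F437316) (tt N83892 F437315) (tt N88635 (iv7 F437320)))
theorem Q102465 : ∀ i, i < 102465 → P i := stepQ 102464 Q102464 (allL N102464 (tt N67797 (iv1 F437324)) (tt N67796 F437325) (tt N67799 F437321) (tt N103534 (iv3 F441966)) (tt N88635 F437322) (tt N66100 F437323) (tt N102432 (iv6 F437326)) (tt N66099 (iv7 D205643)))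
theorem Q102466 : ∀ i, i < 102466 → P i := stepQ 102465 Q102465 (allL N102465 (tt N102601 (iv1 F442853)) (tt N102594 (iv0 F437835)) (tt N102599 F437852) (tt N66101 (iv3 D205644)) (tt N69868 F437327) (tt N120645 D223904) (tt N67893 F437328) (tt N67807 F437329))
theorem Q102467 : ∀ i, i < 102467 → P i := stepQ 102466 Q102466 (allL N102466 (tt N104474 (iv1 F445928)) (tt N104471 (iv0 F445907)) (tt N67802 F437330) (tt N120645 (iv3 F521930)) (tt N88636 F437332) (tt N66101 (iv5 D205645)) (tt N105495 (iv6 F450470)) (tt N67808 F437331))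
theorem Q102468 : ∀ i, i < 102468 → P i := stepQ 102467 Q102467 (allL N102467 (tt N66122 F437335) (tt N113581 (iv0 F486133)) (tt N114053 (iv2 F488365)) (tt N66103 (iv3 D205646)) (tt N70016 F437333) (tt N120646 D223905) (tt N109126 (iv6 F465452)) (tt N67801 F437334))
theorem Q102469 : ∀ i, i < 102469 → P i := stepQ 102468 Q102468 (allL N102468 (tt N104471 (iv1 F445908)) (tt N104474 (iv0 F445927)) (tt N67808 F437336) (tt N120646 (iv3 F521935)) (tt N80851 F437337) (tt N66103 (iv5 D205647)) (tt N69805 (iv6 F437339)) (tt N67802 F437338))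
theorem Q102470 : ∀ i, i < 102470 → P i := stepQ 102469 Q102469 (allL N102469 (tt N71751 (iv1 F437345)) (tt N71752 (iv0 F437344)) (tt N67809 F437340) (tt N109126 F465450) (tt N66104 F437341) (tt N94960 F437342) (tt N66103 (iv6 D205648)) (tt N67892 F437343))
theorem Q102471 : ∀ i, i < 102471 → P i := stepQ 102470 Q102470 (allL N102470 (tt N66124 (iv1 F437349)) (tt N66131 (iv0 F437348)) (tt N102582 (iv2 F437777)) (tt N66105 (iv3 D205650)) (tt N67847 F437347) (tt N66105 F437448) (tt N120647 D223906) (tt N102578 F437763))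
theorem Q102472 : ∀ i, i < 102472 → P i := stepQ 102471 Q102471 (allL N102471 (tt N102538 (iv1 F437562)) (tt N105406 (iv0 F450106)) (tt N102581 (iv2 F437771)) (tt N105594 (iv3 F450899)) (tt N66105 (iv4 D205651)) (tt N116331 (iv5 F499596)) (tt N120648 D223907) (tt N102579 F437766))
theorem Q102473 : ∀ i, i < 102473 → P i := stepQ 102472 Q102472 (allL N102472 (tt N120649 D223908) (tt N102624 F445443) (tt N102583 (iv2 F437782)) (tt N120647 (iv3 F521941)) (tt N120648 (iv4 F521948)) (tt N120650 D223909) (tt N66105 (iv6 D205653)) (tt N117750 (iv7 F506776)))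
theorem Q102474 : ∀ i, i < 102474 → P i := stepQ 102473 Q102473 (allL N102473 (tt N93227 (iv1 F437354)) (tt N93230 (iv0 F437355)) (tt N102595 (iv2 F437840)) (tt N66106 (iv3 D205655)) (tt N97749 F437352) (tt N102595 (iv5 F437837)) (tt N93237 F437353) (tt N102580 (iv7 F437767)))
theorem Q102475 : ∀ i, i < 102475 → P i := stepQ 102474 Q102474 (allL N102474 (tt N66131 (iv1 F437435)) (tt N66124 (iv0 F437356)) (tt N102578 (iv2 F437758)) (tt N102595 F437839) (tt N67846 F437357) (tt N66106 (iv5 D205656)) (tt N102551 (iv6 F437621)) (tt N102582 (iv7 F437778)))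
theorem Q102476 : ∀ i, i < 102476 → P i := stepQ 102475 Q102475 (allL N102475 (tt N102585 (iv1 F437793)) (tt N102584 F437784) (tt N66108 F437358) (tt N67509 F437359) (tt N120651 D223910) (tt N66107 (iv5 D205657)) (tt N102493 (iv6 F437424)) (tt N75705 F437360))
theorem Q102477 : ∀ i, i < 102477 → P i := stepQ 102476 Q102476 (allL N102476 (tt N102486 (iv1 F437404)) (tt N67685 F437366) (tt N66109 F437361) (tt N93220 F437362) (tt N90236 F437363) (tt N66182 (iv5 F437365)) (tt N66107 (iv6 D205658)) (tt N66181 F437364))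
theorem Q102478 : ∀ i, i < 102478 → P i := stepQ 102477 Q102477 (allL N102477 (tt N75705 (iv1 F437368)) (tt N66108 (iv0 D205659)) (tt N102585 (iv2 F437797)) (tt N70564 (iv3 F437370)) (tt N67664 F437367) (tt N70290 F437369) (tt N119527 (iv6 F516071)) (tt N102584 (iv7 F437788)))
theorem Q102479 : ∀ i, i < 102479 → P i := stepQ 102478 Q102478 (allL N102478 (tt N66108 (iv1 D205660)) (tt N75705 F437371) (tt N102584 (iv2 F437786)) (tt N97755 (iv3 F437373)) (tt N67663 F437374) (tt N70291 F437372) (tt N109421 F466876) (tt N102585 (iv7 F437794)))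
theorem Q102480 : ∀ i, i < 102480 → P i := stepQ 102479 Q102479 (allL N102479 (tt N102428 F437376) (tt N102430 (iv0 F437377)) (tt N120651 (iv2 F521960)) (tt N68869 F437375) (tt N66108 (iv4 D205661)) (tt N119661 F516779) (tt N120652 D223911) (tt N102586 (iv7 F437801)))
theorem Q102481 : ∀ i, i < 102481 → P i := stepQ 102480 Q102480 (allL N102480 (tt N96999 (iv1 F437382)) (tt N96995 (iv0 F437381)) (tt N102493 (iv2 F437422)) (tt N66110 F437378) (tt N120652 (iv4 F521967)) (tt N66190 F437379) (tt N66108 (iv6 D205662)) (tt N66189 (iv7 F437380)))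
theorem Q102482 : ∀ i, i < 102482 → P i := stepQ 102481 Q102481 (allL N102481 (tt N66181 (iv1 F437384)) (tt N66109 (iv0 D205663)) (tt N102486 F437408) (tt N120653 D223912) (tt N103787 (iv4 F442811)) (tt N67686 F437383) (tt N120654 D223913) (tt N67685 F437385))
theorem Q102483 : ∀ i, i < 102483 → P i := stepQ 102482 Q102482 (allL N102482 (tt N102577 (iv1 F437742)) (tt N66110 (iv0 D205664)) (tt N88694 (iv2 F437387)) (tt N67639 F437734) (tt N70031 (iv4 F437388)) (tt N88687 F437386) (tt N104594 (iv6 F446454)) (tt N102576 (iv7 F437731)))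
theorem Q102484 : ∀ i, i < 102484 → P i := stepQ 102483 Q102483 (allL N102483 (tt N66110 (iv1 D205665)) (tt N102577 F437741) (tt N102576 F437735) (tt N105755 F451544) (tt N70032 F437390) (tt N83999 (iv5 F437391)) (tt N92660 (iv6 F437392)) (tt N88694 F437389))
theorem Q102485 : ∀ i, i < 102485 → P i := stepQ 102484 Q102484 (allL N102484 (tt N88736 (iv1 F437399)) (tt N84017 F437398) (tt N82650 F437393) (tt N66190 F437394) (tt N70358 F437396) (tt N66110 (iv5 D205666)) (tt N66111 F437395) (tt N66187 F437397))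
theorem Q102486 : ∀ i, i < 102486 → P i := stepQ 102485 Q102485 (allL N102485 (tt N102576 (iv1 F437730)) (tt N88694 (iv0 F437403)) (tt N102577 (iv2 F437736)) (tt N66189 F437400) (tt N70792 F437401) (tt N66187 F437402) (tt N102591 (iv6 F437826)) (tt N66110 (iv7 D205667)))
theorem Q102487 : ∀ i, i < 102487 → P i := stepQ 102486 Q102486 (allL N102486 (tt N66111 (iv1 D205668)) (tt N102476 F437404) (tt N102481 (iv2 F437408)) (tt N109439 (iv3 F466964)) (tt N83983 F437407) (tt N68877 F437406) (tt N105206 F449206) (tt N68876 F437405))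
theorem Q102488 : ∀ i, i < 102488 → P i := stepQ 102487 Q102487 (allL N102487 (tt N102622 F437935) (tt N120655 D223914) (tt N102571 (iv2 F437711)) (tt N66137 F437409) (tt N92177 F437410) (tt N120656 D223915) (tt N66114 (iv6 D205669)) (tt N98014 F437411))
theorem Q102489 : ∀ i, i < 102489 → P i := stepQ 102488 Q102488 (allL N102488 (tt N120657 D223916) (tt N103875 (iv0 F443174)) (tt N66116 F437412) (tt N82801 F437413) (tt N82379 F437414) (tt N75729 F437415) (tt N66115 (iv6 D205670)) (tt N111007 (iv7 F474214)))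
theorem Q102490 : ∀ i, i < 102490 → P i := stepQ 102489 Q102489 (allL N102489 (tt N111007 (iv1 F474216)) (tt N66116 (iv0 D205671)) (tt N120657 F521999) (tt N103793 (iv3 F442839)) (tt N103471 (iv4 F442835)) (tt N103791 F442834) (tt N117964 (iv6 F507819)) (tt N103875 (iv7 F443172)))
theorem Q102491 : ∀ i, i < 102491 → P i := stepQ 102490 Q102490 (allL N102490 (tt N66116 (iv1 D205672)) (tt N111007 (iv0 F474215)) (tt N103875 (iv2 F443170)) (tt N102615 (iv3 F437905)) (tt N97564 F437416) (tt N103874 F443169) (tt N97563 (iv6 F437417)) (tt N120657 (iv7 F522001)))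
theorem Q102492 : ∀ i, i < 102492 → P i := stepQ 102491 Q102491 (allL N102491 (tt N103875 F443175) (tt N120657 F522000) (tt N111007 (iv2 F474210)) (tt N66118 F437418) (tt N93058 F437419) (tt N103489 (iv5 F441842)) (tt N102575 (iv6 F437729)) (tt N66116 (iv7 D205673)))
theorem Q102493 : ∀ i, i < 102493 → P i := stepQ 102492 Q102492 (allL N102492 (tt N104538 (iv1 F446185)) (tt N104537 (iv0 F446181)) (tt N102592 (iv2 F437829)) (tt N75084 F437420) (tt N66117 (iv4 D205674)) (tt N103881 F443203) (tt N75082 F437421) (tt N120658 D223917))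
theorem Q102494 : ∀ i, i < 102494 → P i := stepQ 102493 Q102493 (allL N102493 (tt N68927 (iv1 F437425)) (tt N68930 F437426) (tt N102480 F437422) (tt N103489 (iv3 F441840)) (tt N120658 (iv4 F522004)) (tt N66118 F437423) (tt N102475 F437424) (tt N66117 (iv7 D205675)))
theorem Q102495 : ∀ i, i < 102495 → P i := stepQ 102494 Q102494 (allL N102494 (tt N104444 (iv1 F445794)) (tt N100779 (iv0 F437430)) (tt N66130 F437427) (tt N102593 (iv3 F437832)) (tt N78897 F437428) (tt N120659 D223918) (tt N66119 (iv6 D205676)) (tt N92622 F437429))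
theorem Q102496 : ∀ i, i < 102496 → P i := stepQ 102495 Q102495 (allL N102495 (tt N102582 F437781) (tt N102578 (iv0 F437746)) (tt N66131 F437431) (tt N66120 (iv3 D205677)) (tt N98739 F437432) (tt N70566 F437433) (tt N114443 (iv6 F490194)) (tt N66124 F437434))
theorem Q102497 : ∀ i, i < 102497 → P i := stepQ 102496 Q102496 (allL N102496 (tt N113581 (iv1 F486134)) (tt N66122 (iv0 D205678)) (tt N67801 (iv2 F437437)) (tt N102599 (iv3 F437853)) (tt N85964 F437436) (tt N120660 D223919) (tt N113139 (iv6 F484146)) (tt N114053 (iv7 F488368)))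
theorem Q102498 : ∀ i, i < 102498 → P i := stepQ 102497 Q102497 (allL N102497 (tt N114364 (iv1 F489819)) (tt N109439 (iv0 F466967)) (tt N114362 F489804) (tt N102612 (iv3 F437887)) (tt N111678 (iv4 F477440)) (tt N66122 (iv5 D205679)) (tt N105756 (iv6 F451548)) (tt N114363 (iv7 F489809)))
theorem Q102499 : ∀ i, i < 102499 → P i := stepQ 102498 Q102498 (allL N102498 (tt N75737 F437441) (tt N102569 (iv0 F437704)) (tt N66127 F437438) (tt N66133 F437439) (tt N75715 F437440) (tt N86964 (iv5 F437442)) (tt N66123 (iv6 D205680)) (tt N104748 (iv7 F447097)))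
theorem Q102500 : ∀ i, i < 102500 → P i := stepQ 102499 Q102499 (allL N102499 (tt N102445 F437447) (tt N102443 F437446) (tt N92265 F437443) (tt N66209 F437444) (tt N66124 (iv4 D205681)) (tt N120661 D223920) (tt N104546 (iv6 F446214)) (tt N98739 F437445))
theorem Q102501 : ∀ i, i < 102501 → P i := stepQ 102500 Q102500 (allL N102500 (tt N103886 (iv1 F443215)) (tt N103884 (iv0 F443211)) (tt N102613 (iv2 F437891)) (tt N66127 F437449) (tt N104546 (iv4 F446211)) (tt N103610 (iv5 F442237)) (tt N66124 (iv6 D205682)) (tt N118798 (iv7 F512133)))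
theorem Q102502 : ∀ i, i < 102502 → P i := stepQ 102501 Q102501 (allL N102501 (tt N111260 F475498) (tt N104591 (iv0 F446442)) (tt N70570 F437450) (tt N105494 (iv3 F450463)) (tt N93105 F437451) (tt N117962 (iv5 F507805)) (tt N66126 (iv6 D205683)) (tt N120662 D223921))
theorem Q102503 : ∀ i, i < 102503 → P i := stepQ 102502 Q102502 (allL N102502 (tt N66127 (iv1 D205684)) (tt N104748 F447096) (tt N102569 F437706) (tt N102605 (iv3 F444401)) (tt N75739 (iv4 F437453)) (tt N118129 (iv5 F508753)) (tt N104716 (iv6 F446969)) (tt N75737 F437452))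
theorem Q102504 : ∀ i, i < 102504 → P i := stepQ 102503 Q102503 (allL N102503 (tt N115794 F496922) (tt N115793 F496916) (tt N86964 F437454) (tt N103610 F442236) (tt N86962 F437455) (tt N66127 (iv5 D205685)) (tt N117962 (iv6 F507808)) (tt N115795 (iv7 F496930)))
theorem Q102505 : ∀ i, i < 102505 → P i := stepQ 102504 Q102504 (allL N102504 (tt N102569 (iv1 F437705)) (tt N75737 (iv0 F437457)) (tt N104748 F447095) (tt N118798 (iv3 F512130)) (tt N75714 F437456) (tt N115795 (iv5 F496928)) (tt N113581 (iv6 F486131)) (tt N66127 (iv7 D205686)))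
theorem Q102506 : ∀ i, i < 102506 → P i := stepQ 102505 Q102505 (allL N102505 (tt N92622 (iv1 F437460)) (tt N66130 (iv0 D205687)) (tt N104444 (iv2 F445797)) (tt N70830 F437459) (tt N90779 F437458) (tt N120663 D223922) (tt N97807 (iv6 F437462)) (tt N100779 F437461))
theorem Q102507 : ∀ i, i < 102507 → P i := stepQ 102506 Q102506 (allL N102506 (tt N120664 D223923) (tt N115939 (iv0 F497686)) (tt N120659 (iv2 F522009)) (tt N66140 F437463) (tt N90766 F437464) (tt N66130 (iv5 D205688)) (tt N120656 (iv6 F521992)) (tt N104445 (iv7 F445799)))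
theorem Q102508 : ∀ i, i < 102508 → P i := stepQ 102507 Q102507 (allL N102507 (tt N102443 F437468) (tt N102445 (iv0 F437469)) (tt N98739 F437465) (tt N68850 F437466) (tt N66131 (iv4 D205689)) (tt N111188 F475150) (tt N120665 D223924) (tt N92265 F437467))
theorem Q102509 : ∀ i, i < 102509 → P i := stepQ 102508 Q102508 (allL N102508 (tt N120653 F521977) (tt N120666 D223925) (tt N114443 (iv2 F490192)) (tt N66132 F437470) (tt N120665 (iv4 F522044)) (tt N103795 (iv5 F442855)) (tt N66131 (iv6 D205690)) (tt N120667 D223926))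
theorem Q102510 : ∀ i, i < 102510 → P i := stepQ 102509 Q102509 (allL N102509 (tt N97809 (iv1 F437474)) (tt N66132 (iv0 D205691)) (tt N97810 (iv2 F437472)) (tt N67824 (iv3 F437475)) (tt N68321 F437471) (tt N104589 (iv5 F446429)) (tt N117344 (iv6 F504570)) (tt N97793 F437473))
theorem Q102511 : ∀ i, i < 102511 → P i := stepQ 102510 Q102510 (allL N102510 (tt N103806 (iv1 F442905)) (tt N103804 F442893) (tt N102612 (iv2 F437886)) (tt N103795 (iv3 F442854)) (tt N111101 (iv4 F474668)) (tt N66132 (iv5 D205692)) (tt N70568 F437476) (tt N103800 (iv7 F442877)))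
theorem Q102512 : ∀ i, i < 102512 → P i := stepQ 102511 Q102511 (allL N102511 (tt N97793 (iv1 F437479)) (tt N97810 F437480) (tt N97809 F437477) (tt N120667 (iv3 F522057)) (tt N70687 F437478) (tt N103800 (iv5 F442876)) (tt N102616 (iv6 F437909)) (tt N66132 (iv7 D205693)))
theorem Q102513 : ∀ i, i < 102513 → P i := stepQ 102512 Q102512 (allL N102512 (tt N102616 (iv1 F437911)) (tt N66133 (iv0 D205694)) (tt N102614 F437896) (tt N120657 (iv3 F521997)) (tt N70600 F437900) (tt N82967 F437481) (tt N109127 (iv6 F465455)) (tt N102615 (iv7 F437902)))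
theorem Q102514 : ∀ i, i < 102514 → P i := stepQ 102513 Q102513 (allL N102513 (tt N66133 (iv1 D205695)) (tt N102616 F437910) (tt N102615 F437903) (tt N103830 (iv3 F442997)) (tt N70601 (iv4 F437483)) (tt N82968 F437482) (tt N86913 F437484) (tt N102614 F437898))
theorem Q102515 : ∀ i, i < 102515 → P i := stepQ 102514 Q102514 (allL N102514 (tt N114172 F488843) (tt N120668 D223927) (tt N102621 (iv2 F437931)) (tt N120656 (iv3 F521991)) (tt N95492 F437486) (tt N66137 (iv5 D205696)) (tt N66140 F437485) (tt N117948 (iv7 F507741)))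
theorem Q102516 : ∀ i, i < 102516 → P i := stepQ 102515 Q102515 (allL N102515 (tt N117750 F506777) (tt N102583 (iv0 F445450)) (tt N120649 F521954) (tt N66138 (iv3 D205697)) (tt N70009 F437487) (tt N120669 D223928) (tt N118996 (iv6 F513182)) (tt N102624 (iv7 F437939)))
theorem Q102517 : ∀ i, i < 102517 → P i := stepQ 102516 Q102516 (allL N102516 (tt N103567 (iv1 F442064)) (tt N119278 (iv0 F514787)) (tt N102623 (iv2 F437936)) (tt N120669 (iv3 F522066)) (tt N114112 (iv4 F495747)) (tt N66138 (iv5 D205698)) (tt N120670 D223929) (tt N102625 (iv7 F437941)))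
theorem Q102518 : ∀ i, i < 102518 → P i := stepQ 102517 Q102517 (allL N102517 (tt N102571 F437714) (tt N98014 (iv0 F437489)) (tt N120655 (iv2 F521990)) (tt N66139 (iv3 D205699)) (tt N67495 F437488) (tt N120671 D223930) (tt N119845 (iv6 F517666)) (tt N102622 (iv7 F437934)))
theorem Q102519 : ∀ i, i < 102519 → P i := stepQ 102518 Q102518 (allL N102518 (tt N119278 (iv1 F514788)) (tt N103567 (iv0 F442063)) (tt N102625 (iv2 F437940)) (tt N120671 (iv3 F522070)) (tt N115682 F496289) (tt N66139 (iv5 D205700)) (tt N120672 D223931) (tt N102623 (iv7 F437937)))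
theorem Q102520 : ∀ i, i < 102520 → P i := stepQ 102519 Q102519 (allL N102519 (tt N67662 (iv1 F437490)) (tt N66140 (iv0 D205701)) (tt N102626 F445915) (tt N120673 D223932) (tt N120674 D223933) (tt N104472 (iv5 F445913)) (tt N120673 F522083) (tt N102627 F445916))
theorem Q102521 : ∀ i, i < 102521 → P i := stepQ 102520 Q102520 (allL N102520 (tt N66140 (iv1 D205702)) (tt N67662 F437491) (tt N102627 (iv2 F445917)) (tt N119459 (iv3 F515732)) (tt N120675 D223934) (tt N104555 (iv5 F446233)) (tt N116342 (iv6 F499630)) (tt N102626 (iv7 F445918)))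
theorem Q102522 : ∀ i, i < 102522 → P i := stepQ 102521 Q102521 (allL N102521 (tt N115854 F497246) (tt N120676 D223935) (tt N102628 (iv2 F437944)) (tt N95495 (iv3 F437493)) (tt N66140 (iv4 D205703)) (tt N103640 (iv5 F442340)) (tt N95492 F437492) (tt N104448 (iv7 F445808)))
theorem Q102523 : ∀ i, i < 102523 → P i := stepQ 102522 Q102522 (allL N102522 (tt N104662 (iv1 F474831)) (tt N102553 (iv0 F474830)) (tt N120631 F521855) (tt N66141 (iv3 D205704)) (tt N102629 (iv4 F437945)) (tt N115803 (iv5 F496976)) (tt N120677 D223936) (tt N102629 (iv7 F437946)))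
theorem Q102524 : ∀ i, i < 102524 → P i := stepQ 102523 Q102523 (allL N102523 (tt N103554 (iv1 F442018)) (tt N104814 F447425) (tt N68049 F437494) (tt N115803 F496981) (tt N116024 (iv4 F498108)) (tt N66141 (iv5 D205705)) (tt N120678 D223937) (tt N102630 (iv7 F437948)))
theorem Q102525 : ∀ i, i < 102525 → P i := stepQ 102524 Q102524 (allL N102524 (tt N67795 (iv1 F437500)) (tt N67882 (iv0 F437499)) (tt N66405 F437495) (tt N120677 (iv3 F522093)) (tt N66143 F437496) (tt N94956 F437497) (tt N66141 (iv6 D205706)) (tt N66403 (iv7 F437498)))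
theorem Q102526 : ∀ i, i < 102526 → P i := stepQ 102525 Q102525 (allL N102525 (tt N68921 F437504) (tt N102440 F437503) (tt N68050 F437501) (tt N120679 D223938) (tt N66142 (iv4 D205707)) (tt N103765 (iv5 F442734)) (tt N68878 F437502) (tt N102632 (iv7 F437956)))
theorem Q102527 : ∀ i, i < 102527 → P i := stepQ 102526 Q102526 (allL N102526 (tt N71446 (iv1 F437509)) (tt N106856 (iv0 F456017)) (tt N106857 F456023) (tt N66145 F437505) (tt N70994 F437506) (tt N85202 F437507) (tt N66144 (iv6 D205708)) (tt N99106 F437508))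
theorem Q102528 : ∀ i, i < 102528 → P i := stepQ 102527 Q102527 (allL N102527 (tt N97973 F437515) (tt N97971 F437516) (tt N68652 F437510) (tt N85202 F437511) (tt N73349 F437514) (tt N66145 (iv5 D205709)) (tt N70703 F437512) (tt N99107 F437513))
theorem Q102529 : ∀ i, i < 102529 → P i := stepQ 102528 Q102528 (allL N102528 (tt N70755 F437521) (tt N79707 F437523) (tt N70717 F437517) (tt N66149 (iv3 D205710)) (tt N67323 F437522) (tt N92130 F437518) (tt N92741 F437519) (tt N70720 F437520))
theorem Q102530 : ∀ i, i < 102530 → P i := stepQ 102529 Q102529 (allL N102529 (tt N69083 F437526) (tt N103836 F443023) (tt N97883 F437524) (tt N69076 F437527) (tt N66150 (iv4 D205711)) (tt N111153 (iv5 F474958)) (tt N120680 D223939) (tt N71082 F437525))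
theorem Q102531 : ∀ i, i < 102531 → P i := stepQ 102530 Q102530 (allL N102530 (tt N70768 F437532) (tt N93197 (iv0 F437533)) (tt N97884 F437528) (tt N97825 F437529) (tt N120680 (iv4 F522105)) (tt N92976 F437530) (tt N66150 (iv6 D205712)) (tt N97821 F437531))
theorem Q102532 : ∀ i, i < 102532 → P i := stepQ 102531 Q102531 (allL N102531 (tt N93013 F437539) (tt N94047 F437540) (tt N68844 F437534) (tt N94495 F437535) (tt N74803 F437536) (tt N66152 (iv5 D205713)) (tt N93011 F437537) (tt N97948 F437538))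
theorem Q102533 : ∀ i, i < 102533 → P i := stepQ 102532 Q102532 (allL N102532 (tt N120651 (iv1 F521965)) (tt N102586 (iv0 F437802)) (tt N102430 F437541) (tt N117969 (iv3 F507841)) (tt N66153 (iv4 D205714)) (tt N120681 D223940) (tt N109443 F466984) (tt N102428 F437542))
theorem Q102534 : ∀ i, i < 102534 → P i := stepQ 102533 Q102533 (allL N102533 (tt N103647 F445837) (tt N103515 F445838) (tt N102431 F437543) (tt N117967 (iv3 F507830)) (tt N109443 (iv4 F466981)) (tt N120682 D223941) (tt N66153 (iv6 D205715)) (tt N103652 (iv7 F443068)))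
theorem Q102535 : ∀ i, i < 102535 → P i := stepQ 102534 Q102534 (allL N102534 (tt N102586 (iv1 F437803)) (tt N120651 (iv0 F521964)) (tt N102428 F437544) (tt N98709 F437546) (tt N66154 (iv4 D205716)) (tt N118164 (iv5 F508950)) (tt N103797 F442862) (tt N102430 F437545))
theorem Q102536 : ∀ i, i < 102536 → P i := stepQ 102535 Q102535 (allL N102535 (tt N103500 F445931) (tt N120683 D223942) (tt N102429 F437547) (tt N103773 (iv3 F442761)) (tt N103797 (iv4 F442863)) (tt N68914 F437548) (tt N66154 (iv6 D205717)) (tt N120684 D223943))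
theorem Q102537 : ∀ i, i < 102537 → P i := stepQ 102536 Q102536 (allL N102536 (tt N69146 F437553) (tt N102434 F437552) (tt N66156 F437549) (tt N69012 F437550) (tt N70181 (iv4 F437554)) (tt N66155 (iv5 D205718)) (tt N88686 F437555) (tt N102432 F437551))
theorem Q102538 : ∀ i, i < 102538 → P i := stepQ 102537 Q102537 (allL N102537 (tt N104641 F446654) (tt N103642 (iv0 F442342)) (tt N66157 F437556) (tt N69013 F437557) (tt N103647 (iv4 F442351)) (tt N102561 (iv5 F437662)) (tt N66155 (iv6 D205719)) (tt N102560 F437656))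
theorem Q102539 : ∀ i, i < 102539 → P i := stepQ 102538 Q102538 (allL N102538 (tt N70377 F437561) (tt N102471 F437562) (tt N70181 F437558) (tt N69362 F437559) (tt N66156 (iv4 D205720)) (tt N88949 (iv5 F437563)) (tt N83994 F437564) (tt N102435 F437560))
theorem Q102540 : ∀ i, i < 102540 → P i := stepQ 102539 Q102539 (allL N102539 (tt N105567 (iv1 F450762)) (tt N105569 (iv0 F450774)) (tt N88686 F437565) (tt N66158 F437566) (tt N83994 F437567) (tt N67790 F437568) (tt N66156 (iv6 D205721)) (tt N67789 F437569))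
theorem Q102541 : ∀ i, i < 102541 → P i := stepQ 102540 Q102540 (allL N102540 (tt N102560 (iv1 F437658)) (tt N66157 (iv0 D205722)) (tt N104641 F446655) (tt N98065 F445768) (tt N109162 (iv4 F465631)) (tt N104635 (iv5 F446628)) (tt N119665 (iv6 F516798)) (tt N103642 F442982))
theorem Q102542 : ∀ i, i < 102542 → P i := stepQ 102541 Q102541 (allL N102541 (tt N66157 (iv1 D205723)) (tt N102560 F437657) (tt N103642 (iv2 F442981)) (tt N102547 (iv3 F437618)) (tt N109161 (iv4 F465629)) (tt N104709 F446944) (tt N68857 F442980) (tt N104641 (iv7 F446652)))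
theorem Q102543 : ∀ i, i < 102543 → P i := stepQ 102542 Q102542 (allL N102542 (tt N69023 (iv1 F437575)) (tt N66158 (iv0 D205724)) (tt N69020 (iv2 F437573)) (tt N66169 F437572) (tt N70041 F437571) (tt N82965 F437570) (tt N109129 (iv6 F465465)) (tt N69021 F437574))
theorem Q102544 : ∀ i, i < 102544 → P i := stepQ 102543 Q102543 (allL N102543 (tt N88712 F437579) (tt N83987 F437580) (tt N69022 F437576) (tt N67790 F437577) (tt N116285 (iv4 F499357)) (tt N66158 (iv5 D205725)) (tt N66160 F437578) (tt N67782 (iv7 F437581)))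
theorem Q102545 : ∀ i, i < 102545 → P i := stepQ 102544 Q102544 (allL N102544 (tt N69021 (iv1 F437589)) (tt N69020 F437590) (tt N69023 F437584) (tt N67789 F437585) (tt N69371 F437586) (tt N67782 F437587) (tt N67785 F437588) (tt N66158 (iv7 D205726)))
theorem Q102546 : ∀ i, i < 102546 → P i := stepQ 102545 Q102545 (allL N102545 (tt N69154 F437614) (tt N66168 (iv0 F437594)) (tt N69152 F437591) (tt N66159 (iv3 D205727)) (tt N68330 F437592) (tt N120685 D223944) (tt N103710 (iv6 F442552)) (tt N68897 F437593))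
theorem Q102547 : ∀ i, i < 102547 → P i := stepQ 102546 Q102546 (allL N102546 (tt N103702 (iv1 F442530)) (tt N103701 F442528) (tt N69025 F437595) (tt N120685 (iv3 F522136)) (tt N70979 F437596) (tt N66159 (iv5 D205728)) (tt N104627 (iv6 F446601)) (tt N68898 F437597))
theorem Q102548 : ∀ i, i < 102548 → P i := stepQ 102547 Q102547 (allL N102547 (tt N69029 (iv1 F437600)) (tt N66160 (iv0 D205729)) (tt N69026 (iv2 F437601)) (tt N102541 F437618) (tt N70983 F437599) (tt N69100 F437598) (tt N104451 (iv6 F445820)) (tt N69027 (iv7 F437602)))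
theorem Q102549 : ∀ i, i < 102549 → P i := stepQ 102548 Q102548 (allL N102548 (tt N66160 (iv1 D205730)) (tt N69029 F437603) (tt N69027 (iv2 F437607)) (tt N111242 F475394) (tt N70982 F437606) (tt N69156 F437605) (tt N120639 (iv6 F521899)) (tt N69026 F437604))
theorem Q102550 : ∀ i, i < 102550 → P i := stepQ 102549 Q102549 (allL N102549 (tt N69833 (iv1 F437612)) (tt N71778 F437613) (tt N69028 F437608) (tt N71766 F437611) (tt N66160 (iv4 D205731)) (tt N71764 F437609) (tt N116285 (iv6 F499359)) (tt N73830 F437610))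
theorem Q102551 : ∀ i, i < 102551 → P i := stepQ 102550 Q102550 (allL N102550 (tt N70571 F437617) (tt N70984 (iv0 F437619)) (tt N71952 F437615) (tt N66162 (iv3 D205732)) (tt N104643 (iv4 F446659)) (tt N102568 (iv5 F437698)) (tt N103679 (iv6 F442457)) (tt N68885 F437616))
theorem Q102552 : ∀ i, i < 102552 → P i := stepQ 102551 Q102551 (allL N102551 (tt N98739 F437623) (tt N92265 (iv0 F437624)) (tt N102445 F437620) (tt N104380 (iv3 F445507)) (tt N66163 (iv4 D205733)) (tt N118656 (iv5 F511377)) (tt N102474 F437621) (tt N102443 F437622))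
theorem Q102553 : ∀ i, i < 102553 → P i := stepQ 102552 Q102552 (allL N102552 (tt N92265 F437628) (tt N98739 (iv0 F437629)) (tt N102443 F437625) (tt N92250 F437626) (tt N66164 (iv4 D205734)) (tt N118654 (iv5 F511369)) (tt N120686 D223945) (tt N102445 F437627))
theorem Q102554 : ∀ i, i < 102554 → P i := stepQ 102553 Q102553 (allL N102553 (tt N102522 F474830) (tt N120687 D223946) (tt N102444 F437630) (tt N103535 (iv3 F441970)) (tt N120686 (iv4 F522143)) (tt N114169 F488832) (tt N66164 (iv6 D205735)) (tt N103823 (iv7 F442961)))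
theorem Q102555 : ∀ i, i < 102555 → P i := stepQ 102554 Q102554 (allL N102554 (tt N69007 F437635) (tt N102448 (iv0 F437636)) (tt N66166 F437631) (tt N69149 F437632) (tt N108352 (iv4 F462198)) (tt N66165 (iv5 D205736)) (tt N97926 F437633) (tt N102446 F437634))
theorem Q102556 : ∀ i, i < 102556 → P i := stepQ 102555 Q102555 (allL N102555 (tt N105746 (iv1 F451510)) (tt N105744 (iv0 F451499)) (tt N108352 (iv2 F462196)) (tt N69192 F437637) (tt N66166 (iv4 D205737)) (tt N101374 F437639) (tt N108351 F462194) (tt N102449 F437638))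
theorem Q102557 : ∀ i, i < 102557 → P i := stepQ 102556 Q102556 (allL N102556 (tt N75717 F437642) (tt N97928 (iv0 F437643)) (tt N97926 F437640) (tt N66168 F437641) (tt N108351 (iv4 F462193)) (tt N104510 (iv5 F446083)) (tt N66166 (iv6 D205738)) (tt N97927 F437644))
theorem Q102558 : ∀ i, i < 102558 → P i := stepQ 102557 Q102557 (allL N102557 (tt N67554 (iv1 F437646)) (tt N66167 (iv0 D205739)) (tt N104545 F446208) (tt N120584 (iv3 F521589)) (tt N102570 (iv4 F437708)) (tt N67871 F437645) (tt N104743 (iv6 F447077)) (tt N104544 F446203))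
theorem Q102559 : ∀ i, i < 102559 → P i := stepQ 102558 Q102558 (allL N102558 (tt N66167 (iv1 D205740)) (tt N67554 F437647) (tt N104544 F446202) (tt N107090 F456919) (tt N102567 (iv4 F437692)) (tt N67870 F437648) (tt N104533 F446172) (tt N104545 (iv7 F446205)))
theorem Q102560 : ∀ i, i < 102560 → P i := stepQ 102559 Q102559 (allL N102559 (tt N66168 (iv1 D205741)) (tt N69154 F437649) (tt N68897 F437652) (tt N103692 (iv3 F442496)) (tt N70779 F437653) (tt N120688 D223947) (tt N68896 (iv6 F437651)) (tt N69152 F437650))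
theorem Q102561 : ∀ i, i < 102561 → P i := stepQ 102560 Q102560 (allL N102560 (tt N102541 (iv1 F437657)) (tt N102540 F437658) (tt N69153 F437654) (tt N104510 F446085) (tt N103847 F443064) (tt N66168 (iv5 D205742)) (tt N66171 F437655) (tt N102537 (iv7 F437656)))
theorem Q102562 : ∀ i, i < 102562 → P i := stepQ 102561 Q102561 (allL N102561 (tt N68897 (iv1 F437664)) (tt N69152 F437665) (tt N69154 F437659) (tt N97927 F437660) (tt N70445 F437661) (tt N102537 F437662) (tt N102457 F437663) (tt N66168 (iv7 D205743)))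
theorem Q102563 : ∀ i, i < 102563 → P i := stepQ 102562 Q102562 (allL N102562 (tt N67850 F437670) (tt N68863 F437671) (tt N68922 F437667) (tt N82965 F437668) (tt N103884 (iv4 F443210)) (tt N66169 (iv5 D205744)) (tt N120634 (iv6 F521873)) (tt N68923 F437669))
theorem Q102564 : ∀ i, i < 102564 → P i := stepQ 102563 Q102563 (allL N102563 (tt N69350 (iv1 F437677)) (tt N92427 (iv0 F437676)) (tt N69156 F437672) (tt N109129 (iv3 F465464)) (tt N70040 F437673) (tt N69027 F437675) (tt N66169 (iv6 D205745)) (tt N69100 F437674))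
theorem Q102565 : ∀ i, i < 102565 → P i := stepQ 102564 Q102564 (allL N102564 (tt N103762 F442723) (tt N105762 F451581) (tt N105760 (iv2 F451572)) (tt N66170 (iv3 D205746)) (tt N102078 F437678) (tt N116274 (iv5 F499306)) (tt N69096 F437679) (tt N69155 F437680))
theorem Q102566 : ∀ i, i < 102566 → P i := stepQ 102565 Q102565 (allL N102565 (tt N68863 F437683) (tt N67850 F437684) (tt N68923 F437681) (tt N116274 (iv3 F499304)) (tt N103886 (iv4 F443214)) (tt N66170 (iv5 D205747)) (tt N120689 D223948) (tt N68922 F437682))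
theorem Q102567 : ∀ i, i < 102567 → P i := stepQ 102566 Q102566 (allL N102566 (tt N120690 D223949) (tt N66201 (iv0 F437689)) (tt N104645 (iv2 F446667)) (tt N66173 (iv3 D205748)) (tt N94911 F437685) (tt N120654 (iv5 F521982)) (tt N72081 (iv6 F437688)) (tt N69163 F437686))
theorem Q102568 : ∀ i, i < 102568 → P i := stepQ 102567 Q102567 (allL N102567 (tt N106137 (iv1 F453308)) (tt N95108 F437693) (tt N69161 F437690) (tt N120654 (iv3 F521980)) (tt N102558 F437692) (tt N66173 (iv5 D205749)) (tt N120653 (iv6 F521978)) (tt N69164 F437691))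
theorem Q102569 : ∀ i, i < 102569 → P i := stepQ 102568 Q102568 (allL N102568 (tt N99059 (iv1 F437700)) (tt N72082 (iv0 F437699)) (tt N69162 F437694) (tt N72081 F437695) (tt N66174 F437696) (tt N102550 F437698) (tt N66173 (iv6 D205750)) (tt N69113 F437697))
theorem Q102570 : ∀ i, i < 102570 → P i := stepQ 102569 Q102569 (allL N102569 (tt N102498 F437704) (tt N102504 F437705) (tt N102502 (iv2 F437706)) (tt N66175 (iv3 D205751)) (tt N70468 F437701) (tt N113140 (iv5 F484151)) (tt N69106 F437702) (tt N69160 F437703))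
theorem Q102571 : ∀ i, i < 102571 → P i := stepQ 102570 Q102570 (allL N102570 (tt N95108 F437710) (tt N106137 F453307) (tt N69164 F437707) (tt N113140 F484152) (tt N102557 F437708) (tt N66175 (iv5 D205752)) (tt N109105 (iv6 F465370)) (tt N69161 F437709))
theorem Q102572 : ∀ i, i < 102572 → P i := stepQ 102571 Q102571 (allL N102571 (tt N119456 F515722) (tt N102517 (iv0 F437714)) (tt N102487 F437711) (tt N69166 F437712) (tt N97816 F437713) (tt N120691 D223950) (tt N66176 (iv6 D205753)) (tt N103402 (iv7 F441457)))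
theorem Q102573 : ∀ i, i < 102573 → P i := stepQ 102572 Q102572 (allL N102572 (tt N103559 (iv1 F442039)) (tt N95807 (iv0 F437718)) (tt N103489 (iv2 F441839)) (tt N66180 F437715) (tt N78949 F437716) (tt N111007 (iv5 F474212)) (tt N66178 (iv6 D205754)) (tt N75729 F437717))
theorem Q102574 : ∀ i, i < 102574 → P i := stepQ 102573 Q102573 (allL N102573 (tt N102574 F437724) (tt N66179 (iv0 D205755)) (tt N104433 (iv2 F445736)) (tt N103804 (iv3 F442889)) (tt N67500 F437719) (tt N103477 (iv5 F441795)) (tt N103885 (iv6 F443213)) (tt N103813 (iv7 F442933)))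
theorem Q102575 : ∀ i, i < 102575 → P i := stepQ 102574 Q102574 (allL N102574 (tt N97732 F437723) (tt N102573 (iv0 F437724)) (tt N102575 (iv2 F437725)) (tt N66181 F437720) (tt N67325 F437721) (tt N66179 (iv5 D205756)) (tt N111007 (iv6 F474213)) (tt N93220 F437722))
theorem Q102576 : ∀ i, i < 102576 → P i := stepQ 102575 Q102575 (allL N102575 (tt N103813 F442935) (tt N104433 (iv0 F445740)) (tt N102574 F437725) (tt N66182 F437726) (tt N68757 F437727) (tt N93220 F437728) (tt N102491 F437729) (tt N66179 (iv7 D205757)))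
theorem Q102577 : ∀ i, i < 102577 → P i := stepQ 102576 Q102576 (allL N102576 (tt N66180 (iv1 D205758)) (tt N102485 F437730) (tt N102483 (iv2 F437735)) (tt N102282 (iv3 F437733)) (tt N70765 F437732) (tt N113793 (iv5 F487139)) (tt N109843 (iv6 F468865)) (tt N102482 F437731))
theorem Q102578 : ∀ i, i < 102578 → P i := stepQ 102577 Q102577 (allL N102577 (tt N102483 (iv1 F437741)) (tt N102482 F437742) (tt N102485 F437736) (tt N75729 F437737) (tt N70678 F437738) (tt N82801 F437739) (tt N75727 F437740) (tt N66180 (iv7 D205759)))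
theorem Q102579 : ∀ i, i < 102579 → P i := stepQ 102578 Q102578 (allL N102578 (tt N102495 F437746) (tt N66205 (iv0 F437745)) (tt N102474 F437758) (tt N66183 (iv3 D205761)) (tt N69064 F437744) (tt N66183 (iv5 F437747)) (tt N102445 (iv6 F437762)) (tt N102470 (iv7 F437763)))
theorem Q102580 : ∀ i, i < 102580 → P i := stepQ 102579 Q102579 (allL N102579 (tt N102435 F437749) (tt N70181 F437748) (tt N70377 F437752) (tt N70383 F437750) (tt N66183 (iv4 D205762)) (tt N109456 (iv5 F467050)) (tt N78698 (iv6 F437751)) (tt N102471 (iv7 F437766)))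
theorem Q102581 : ∀ i, i < 102581 → P i := stepQ 102580 Q102580 (allL N102580 (tt N68000 (iv1 F437769)) (tt N66193 (iv0 F437770)) (tt N118120 F508714) (tt N66184 (iv3 D205763)) (tt N97521 F437768) (tt N118120 (iv5 F508711)) (tt N104367 (iv6 F445449)) (tt N102473 F437767))
theorem Q102582 : ∀ i, i < 102582 → P i := stepQ 102581 Q102581 (allL N102581 (tt N70181 F437773) (tt N102435 (iv0 F437775)) (tt N102471 F437771) (tt N67317 F437774) (tt N66184 (iv4 D205764)) (tt N88917 (iv5 F437776)) (tt N107016 (iv6 F456652)) (tt N70377 F437772))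
theorem Q102583 : ∀ i, i < 102583 → P i := stepQ 102582 Q102582 (allL N102582 (tt N66205 F437779) (tt N102495 (iv0 F437781)) (tt N102470 F437777) (tt N118120 (iv3 F508713)) (tt N69063 F437780) (tt N66184 (iv5 D205765)) (tt N120692 D223951) (tt N102474 F437778))
theorem Q102584 : ∀ i, i < 102584 → P i := stepQ 102583 Q102583 (allL N102583 (tt N102515 F445450) (tt N120693 D223952) (tt N102472 F437782) (tt N104367 (iv3 F445446)) (tt N107016 (iv4 F456651)) (tt N118387 (iv5 F510079)) (tt N66184 (iv6 D205766)) (tt N104365 F445442))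
theorem Q102585 : ∀ i, i < 102585 → P i := stepQ 102584 Q102584 (allL N102584 (tt N102475 (iv1 F437784)) (tt N66186 (iv0 D205767)) (tt N102478 F437786) (tt N70290 (iv3 F437785)) (tt N68857 F437783) (tt N70564 F437787) (tt N109161 (iv6 F465630)) (tt N102477 F437788))
theorem Q102586 : ∀ i, i < 102586 → P i := stepQ 102585 Q102585 (allL N102585 (tt N66186 (iv1 D205768)) (tt N102475 F437793) (tt N102477 F437797) (tt N92112 (iv3 F437796)) (tt N68856 F437799) (tt N70565 F437795) (tt N98028 F437798) (tt N102478 F437794))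
theorem Q102587 : ∀ i, i < 102587 → P i := stepQ 102586 Q102586 (allL N102586 (tt N102532 F437802) (tt N102534 F437803) (tt N109419 (iv2 F466862)) (tt N67671 F437800) (tt N66186 (iv4 D205769)) (tt N114582 F490865) (tt N109422 (iv6 F466880)) (tt N102479 F437801))
theorem Q102588 : ∀ i, i < 102588 → P i := stepQ 102587 Q102587 (allL N102587 (tt N82650 (iv1 F437806)) (tt N66187 (iv0 D205770)) (tt N84017 (iv2 F437805)) (tt N104542 (iv3 F446194)) (tt N84016 F437804) (tt N117344 (iv5 F504569)) (tt N104657 (iv6 F446729)) (tt N88736 F437807))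
theorem Q102589 : ∀ i, i < 102589 → P i := stepQ 102588 Q102588 (allL N102588 (tt N75727 (iv1 F437816)) (tt N66188 (iv0 D205771)) (tt N78950 (iv2 F437812)) (tt N69055 (iv3 F437815)) (tt N70442 F437813) (tt N119502 (iv5 F515936)) (tt N103810 (iv6 F442922)) (tt N78951 F437814))
theorem Q102590 : ∀ i, i < 102590 → P i := stepQ 102589 Q102589 (allL N102589 (tt N66188 (iv1 D205772)) (tt N75727 F437808) (tt N78951 (iv2 F437810)) (tt N105751 F451530) (tt N70443 F437809) (tt N117975 (iv5 F507873)) (tt N103745 (iv6 F442649)) (tt N78950 (iv7 F437811)))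
theorem Q102591 : ∀ i, i < 102591 → P i := stepQ 102590 Q102590 (allL N102590 (tt N75725 (iv1 F437820)) (tt N75724 F437821) (tt N75728 F437817) (tt N102591 (iv3 F437823)) (tt N109163 (iv4 F465636)) (tt N66188 (iv5 D205773)) (tt N66189 F437818) (tt N75726 (iv7 F437819)))
theorem Q102592 : ∀ i, i < 102592 → P i := stepQ 102591 Q102591 (allL N102591 (tt N78951 (iv1 F437827)) (tt N78950 F437828) (tt N75727 F437822) (tt N102590 F437823) (tt N70657 F437824) (tt N75726 F437825) (tt N102485 F437826) (tt N66188 (iv7 D205774)))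
theorem Q102593 : ∀ i, i < 102593 → P i := stepQ 102592 Q102592 (allL N102592 (tt N103616 (iv1 F442254)) (tt N103611 (iv0 F442242)) (tt N102492 F437829) (tt N119275 F514767) (tt N66189 (iv4 D205775)) (tt N69275 F437830) (tt N109163 (iv6 F465637)) (tt N120652 (iv7 F521969)))
theorem Q102594 : ∀ i, i < 102594 → P i := stepQ 102593 Q102593 (allL N102593 (tt N103634 (iv1 F442324)) (tt N103633 F442323) (tt N66203 F437831) (tt N102494 F437832) (tt N105161 (iv4 F449065)) (tt N120694 D223953) (tt N66191 (iv6 D205776)) (tt N103630 (iv7 F442308)))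
theorem Q102595 : ∀ i, i < 102595 → P i := stepQ 102594 Q102594 (allL N102594 (tt N102465 F437835) (tt N103796 F442860) (tt N66196 F437833) (tt N103800 (iv3 F442874)) (tt N69956 F437834) (tt N120667 (iv5 F522059)) (tt N66192 (iv6 D205777)) (tt N103795 (iv7 F442850)))
theorem Q102596 : ∀ i, i < 102596 → P i := stepQ 102595 Q102595 (allL N102595 (tt N66193 (iv1 D205778)) (tt N68000 F437836) (tt N102473 F437840) (tt N102474 (iv3 F437839)) (tt N67378 F437838) (tt N102473 F437837) (tt N104380 (iv6 F445508)) (tt N118120 (iv7 F508716)))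
theorem Q102597 : ∀ i, i < 102597 → P i := stepQ 102596 Q102596 (allL N102596 (tt N109439 F466968) (tt N114364 F489818) (tt N114363 (iv2 F489814)) (tt N66196 F437841) (tt N102391 F437842) (tt N113581 (iv5 F486130)) (tt N66193 (iv6 D205779)) (tt N114362 F489806))
theorem Q102598 : ∀ i, i < 102598 → P i := stepQ 102597 Q102597 (allL N102597 (tt N82966 F437847) (tt N113810 F487224) (tt N69956 F437844) (tt N83001 F437845) (tt N66196 F437846) (tt N120695 D223954) (tt N66194 (iv6 D205780)) (tt N113809 (iv7 F487216)))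
theorem Q102599 : ∀ i, i < 102599 → P i := stepQ 102598 Q102598 (allL N102598 (tt N100818 (iv1 F437850)) (tt N102282 (iv0 F437849)) (tt N103595 (iv2 F442179)) (tt N115795 (iv3 F496926)) (tt N96993 F437848) (tt N118798 (iv5 F512131)) (tt N66195 (iv6 D205781)) (tt N103610 (iv7 F442235)))
theorem Q102600 : ∀ i, i < 102600 → P i := stepQ 102599 Q102599 (allL N102599 (tt N103795 (iv1 F442856)) (tt N66196 (iv0 D205782)) (tt N102465 (iv2 F437852)) (tt N102496 F437853) (tt N91788 F437851) (tt N109442 (iv5 F466978)) (tt N82967 F437854) (tt N103796 (iv7 F442858)))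
theorem Q102601 : ∀ i, i < 102601 → P i := stepQ 102600 Q102600 (allL N102600 (tt N120666 (iv1 F522049)) (tt N120653 (iv0 F521976)) (tt N120667 (iv2 F522056)) (tt N113581 F486135) (tt N117765 F506861) (tt N66196 (iv5 D205783)) (tt N118798 (iv6 F512132)) (tt N114443 (iv7 F490195)))
theorem Q102602 : ∀ i, i < 102602 → P i := stepQ 102601 Q102601 (allL N102601 (tt N103796 (iv1 F442859)) (tt N102465 F442853) (tt N103795 F442851) (tt N114362 F489805) (tt N113809 (iv4 F487215)) (tt N114443 (iv5 F490193)) (tt N120690 (iv6 F522168)) (tt N66196 (iv7 D205784)))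
theorem Q102603 : ∀ i, i < 102603 → P i := stepQ 102602 Q102602 (allL N102602 (tt N104645 F446670) (tt N69163 F437880) (tt N66201 F437855) (tt N118121 (iv3 F508719)) (tt N72108 F437856) (tt N113054 (iv5 F483756)) (tt N66197 (iv6 D205785)) (tt N120690 (iv7 F522171)))
theorem Q102604 : ∀ i, i < 102604 → P i := stepQ 102603 Q102603 (allL N102603 (tt N67894 (iv1 F437863)) (tt N67891 (iv0 F437862)) (tt N68002 F437857) (tt N66201 F437858) (tt N67999 F437859) (tt N67568 F437860) (tt N66198 (iv6 D205786)) (tt N70568 (iv7 F437861)))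
theorem Q102605 : ∀ i, i < 102605 → P i := stepQ 102604 Q102604 (allL N102604 (tt N75589 F437868) (tt N82242 F437869) (tt N101755 F437864) (tt N69960 F437865) (tt N103058 (iv4 F439887)) (tt N66199 (iv5 D205787)) (tt N75035 F437866) (tt N69955 F437867))
theorem Q102606 : ∀ i, i < 102606 → P i := stepQ 102605 Q102605 (allL N102605 (tt N66201 (iv1 D205788)) (tt N120690 F522170) (tt N69163 F444400) (tt N102502 F444401) (tt N104143 (iv4 F444399)) (tt N120696 D223955) (tt N104149 (iv6 F444419)) (tt N104645 (iv7 F446669)))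
theorem Q102607 : ∀ i, i < 102607 → P i := stepQ 102606 Q102606 (allL N102606 (tt N104552 F446230) (tt N88695 (iv0 F437875)) (tt N113054 (iv2 F483754)) (tt N67568 F437872) (tt N96600 (iv4 F437873)) (tt N66201 (iv5 D205789)) (tt N104488 (iv6 F445990)) (tt N70567 (iv7 F437874)))
theorem Q102608 : ∀ i, i < 102608 → P i := stepQ 102607 Q102607 (allL N102607 (tt N69163 F437879) (tt N104645 F446671) (tt N120690 F522169) (tt N70568 F437876) (tt N71015 F437877) (tt N70567 F437878) (tt N103795 F442852) (tt N66201 (iv7 D205790)))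
theorem Q102609 : ∀ i, i < 102609 → P i := stepQ 102608 Q102608 (allL N102608 (tt N103804 (iv1 F442892)) (tt N103806 (iv0 F442904)) (tt N103800 (iv2 F442873)) (tt N114363 F489812) (tt N67961 F437881) (tt N97809 F437882) (tt N66202 (iv6 D205791)) (tt N102612 (iv7 F437889)))
theorem Q102610 : ∀ i, i < 102610 → P i := stepQ 102609 Q102609 (allL N102609 (tt N103630 (iv1 F442311)) (tt N66203 (iv0 D205792)) (tt N103634 (iv2 F442441)) (tt N104364 F445439) (tt N116279 (iv4 F499329)) (tt N120568 (iv5 F521499)) (tt N116277 F499320) (tt N103633 F442440))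
theorem Q102611 : ∀ i, i < 102611 → P i := stepQ 102610 Q102610 (allL N102610 (tt N66203 (iv1 D205793)) (tt N103630 F442309) (tt N103633 F442438) (tt N103802 (iv3 F442884)) (tt N71007 (iv4 F437883)) (tt N120697 D223956) (tt N71006 F437884) (tt N103634 (iv7 F442439)))
theorem Q102612 : ∀ i, i < 102612 → P i := stepQ 102611 Q102611 (allL N102611 (tt N115615 F499206) (tt N120698 D223957) (tt N120694 (iv2 F522191)) (tt N66214 F437885) (tt N120699 D223958) (tt N66203 (iv5 D205794)) (tt N103803 (iv6 F442887)) (tt N103635 (iv7 F442326)))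
theorem Q102613 : ∀ i, i < 102613 → P i := stepQ 102612 Q102612 (allL N102612 (tt N67827 F437890) (tt N67824 F442677) (tt N102510 F437886) (tt N102497 F437887) (tt N103821 (iv4 F442957)) (tt N66204 (iv5 D205795)) (tt N70577 F437888) (tt N102608 F437889))
theorem Q102614 : ∀ i, i < 102614 → P i := stepQ 102613 Q102613 (allL N102613 (tt N104542 (iv1 F446197)) (tt N104541 (iv0 F446192)) (tt N102500 F437891) (tt N66206 F437892) (tt N106137 (iv4 F453305)) (tt N95105 F437893) (tt N66205 (iv6 D205796)) (tt N106136 (iv7 F453302)))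
theorem Q102615 : ∀ i, i < 102615 → P i := stepQ 102614 Q102614 (allL N102614 (tt N87847 (iv1 F437899)) (tt N66206 (iv0 D205797)) (tt N102512 (iv2 F437896)) (tt N67894 (iv3 F437897)) (tt N69368 F437894) (tt N67893 F437895) (tt N119472 (iv6 F515792)) (tt N102513 (iv7 F437898)))
theorem Q102616 : ∀ i, i < 102616 → P i := stepQ 102615 Q102615 (allL N102615 (tt N66206 (iv1 D205798)) (tt N87847 F437901) (tt N102513 (iv2 F437903)) (tt N102490 F437905) (tt N69369 (iv4 F437904)) (tt N113033 (iv5 F483639)) (tt N114368 (iv6 F489835)) (tt N102512 F437902))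
theorem Q102617 : ∀ i, i < 102617 → P i := stepQ 102616 Q102616 (allL N102616 (tt N102513 (iv1 F437910)) (tt N102512 F437911) (tt N87847 F437906) (tt N106136 (iv3 F453298)) (tt N70699 F437907) (tt N87844 F437908) (tt N102511 F437909) (tt N66206 (iv7 D205799)))
theorem Q102618 : ∀ i, i < 102618 → P i := stepQ 102617 Q102617 (allL N102617 (tt N114368 (iv1 F489836)) (tt N91040 (iv0 F437917)) (tt N98740 F437912) (tt N92264 F437913) (tt N98738 F437914) (tt N98680 F437915) (tt N66208 (iv6 D205800)) (tt N114425 (iv7 F490087)))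
theorem Q102619 : ∀ i, i < 102619 → P i := stepQ 102618 Q102618 (allL N102618 (tt N104585 (iv1 F446419)) (tt N109594 (iv0 F467639)) (tt N98745 F437918) (tt N120661 (iv3 F522021)) (tt N76097 F437919) (tt N66209 (iv5 D205801)) (tt N95984 (iv6 F437921)) (tt N76096 F437920))
theorem Q102620 : ∀ i, i < 102620 → P i := stepQ 102619 Q102619 (allL N102619 (tt N102911 (iv1 F439233)) (tt N102920 F439274) (tt N98746 F437922) (tt N104546 (iv3 F446209)) (tt N98743 F437923) (tt N88692 (iv5 F437924)) (tt N66209 (iv6 D205802)) (tt N102919 F439269))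
theorem Q102621 : ∀ i, i < 102621 → P i := stepQ 102620 Q102620 (allL N102620 (tt N70709 (iv1 F437930)) (tt N70708 (iv0 F437929)) (tt N92633 F437925) (tt N69117 F437926) (tt N75062 F437927) (tt N120700 D223959) (tt N66210 (iv6 D205803)) (tt N66211 F437928))
theorem Q102622 : ∀ i, i < 102622 → P i := stepQ 102621 Q102621 (allL N102621 (tt N120701 D223960) (tt N114099 (iv0 F488556)) (tt N102514 F437931) (tt N103803 (iv3 F442886)) (tt N118922 (iv4 F512760)) (tt N66211 (iv5 D205804)) (tt N66214 F437932) (tt N120700 (iv7 F522227)))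
theorem Q102623 : ∀ i, i < 102623 → P i := stepQ 102622 Q102622 (allL N102622 (tt N103402 F441458) (tt N102487 (iv0 F437935)) (tt N119456 (iv2 F515719)) (tt N66212 (iv3 D205805)) (tt N68831 F437933) (tt N120702 D223961) (tt N102914 F439248) (tt N102517 F437934))
theorem Q102624 : ∀ i, i < 102624 → P i := stepQ 102623 Q102623 (allL N102623 (tt N118990 (iv1 F513154)) (tt N104556 (iv0 F446241)) (tt N102516 F437936) (tt N120702 (iv3 F522237)) (tt N116021 F498100) (tt N66212 (iv5 D205806)) (tt N120703 D223962) (tt N102518 F437937))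
theorem Q102625 : ∀ i, i < 102625 → P i := stepQ 102624 Q102624 (allL N102624 (tt N102472 (iv1 F445443)) (tt N104365 (iv0 F445441)) (tt N120693 (iv2 F522189)) (tt N66213 (iv3 D205807)) (tt N70437 F437938) (tt N120704 D223963) (tt N108026 (iv6 F460792)) (tt N102515 F437939))
theorem Q102626 : ∀ i, i < 102626 → P i := stepQ 102625 Q102625 (allL N102625 (tt N104556 (iv1 F446242)) (tt N118990 (iv0 F513153)) (tt N102518 F437940) (tt N120704 (iv3 F522241)) (tt N114195 F495745) (tt N66213 (iv5 D205808)) (tt N120697 (iv6 F522210)) (tt N102516 F437941))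
theorem Q102627 : ∀ i, i < 102627 → P i := stepQ 102626 Q102626 (allL N102626 (tt N68855 (iv1 F437942)) (tt N66214 (iv0 D205809)) (tt N102519 (iv2 F445915)) (tt N120705 D223964) (tt N120706 D223965) (tt N103566 (iv5 F442059)) (tt N120707 D223966) (tt N102520 F445918))
theorem Q102628 : ∀ i, i < 102628 → P i := stepQ 102627 Q102627 (allL N102627 (tt N66214 (iv1 D205810)) (tt N68855 F437943) (tt N102520 F445917) (tt N120708 D223967) (tt N120709 D223968) (tt N103496 (iv5 F441861)) (tt N88939 (iv6 F441862)) (tt N102519 (iv7 F445916)))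
theorem Q102629 : ∀ i, i < 102629 → P i := stepQ 102628 Q102628 (allL N102628 (tt N120710 D223969) (tt N120711 D223970) (tt N102521 F437944) (tt N120712 D223971) (tt N66214 (iv4 D205811)) (tt N104448 (iv5 F445809)) (tt N118922 (iv6 F512762)) (tt N103640 (iv7 F442339)))
theorem Q102630 : ∀ i, i < 102630 → P i := stepQ 102629 Q102629 (allL N102629 (tt N102444 F488824) (tt N103823 F488825) (tt N120687 (iv2 F522153)) (tt N66215 (iv3 D205812)) (tt N102522 F437945) (tt N115446 F495234) (tt N120713 D223972) (tt N102522 F437946))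
theorem Q102631 : ∀ i, i < 102631 → P i := stepQ 102630 Q102630 (allL N102630 (tt N103942 (iv1 F443465)) (tt N103941 F443463) (tt N69349 F437947) (tt N115446 (iv3 F495233)) (tt N115863 (iv4 F497294)) (tt N66215 (iv5 D205813)) (tt N120714 D223973) (tt N102523 F437948))
theorem Q102632 : ∀ i, i < 102632 → P i := stepQ 102631 Q102631 (allL N102631 (tt N69100 (iv1 F437952)) (tt N69156 (iv0 F437953)) (tt N69350 F437949) (tt N120713 (iv3 F522292)) (tt N66217 F437950) (tt N104504 (iv5 F446050)) (tt N66215 (iv6 D205814)) (tt N92427 F437951))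
theorem Q102633 : ∀ i, i < 102633 → P i := stepQ 102632 Q102632 (allL N102632 (tt N67563 F437957) (tt N103945 F443471) (tt N69351 F437954) (tt N120715 D223974) (tt N66216 (iv4 D205815)) (tt N104677 (iv5 F446829)) (tt N67517 F437955) (tt N102525 F437956))
theorem Q102634 : ∀ i, i < 102634 → P i := stepQ 102633 Q102633 (allL N102633 (tt N91405 F437962) (tt N88291 (iv0 F437964)) (tt N69059 F437958) (tt N66218 (iv3 D205816)) (tt N71575 F437959) (tt N69058 F437960) (tt N109269 (iv6 F466094)) (tt N66354 F437961))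
theorem Q102635 : ∀ i, i < 102635 → P i := stepQ 102634 Q102634 (allL N102634 (tt N66358 (iv1 F437968)) (tt N66221 (iv0 D205817)) (tt N66361 (iv2 F437967)) (tt N104755 (iv3 F447116)) (tt N92775 F437966) (tt N66230 F437965) (tt N67913 (iv6 F437970)) (tt N66360 F437969))
theorem Q102636 : ∀ i, i < 102636 → P i := stepQ 102635 Q102635 (allL N102635 (tt N104755 F447120) (tt N67845 (iv0 F437975)) (tt N91404 F437971) (tt N66222 F437972) (tt N102889 (iv4 F439126)) (tt N88291 F437973) (tt N66221 (iv6 D205818)) (tt N68029 F437974))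
theorem Q102637 : ∀ i, i < 102637 → P i := stepQ 102636 Q102636 (allL N102636 (tt N71464 F437979) (tt N66304 (iv0 F437981)) (tt N66322 F437976) (tt N88291 F437977) (tt N74261 F437980) (tt N66222 (iv5 D205819)) (tt N66223 F437978) (tt N117068 (iv7 F503221)))
theorem Q102638 : ∀ i, i < 102638 → P i := stepQ 102637 Q102637 (allL N102637 (tt N66321 (iv1 F437987)) (tt N66320 F437988) (tt N66323 F437983) (tt N68029 F437984) (tt N71014 F437985) (tt N117068 (iv5 F503220)) (tt N66366 F437986) (tt N66222 (iv7 D205820)))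
theorem Q102639 : ∀ i, i < 102639 → P i := stepQ 102638 Q102638 (allL N102638 (tt N98906 F437992) (tt N98898 (iv0 F437993)) (tt N66305 F437989) (tt N71470 F437990) (tt N66224 (iv4 D205821)) (tt N116937 (iv5 F502593)) (tt N119792 (iv6 F517441)) (tt N66301 F437991))
theorem Q102640 : ∀ i, i < 102640 → P i := stepQ 102639 Q102639 (allL N102639 (tt N100416 F437998) (tt N100360 (iv0 F437999)) (tt N66307 F437994) (tt N71472 F437995) (tt N119792 (iv4 F517439)) (tt N80826 F437996) (tt N66224 (iv6 D205822)) (tt N100414 F437997))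
theorem Q102641 : ∀ i, i < 102641 → P i := stepQ 102640 Q102640 (allL N102640 (tt N117068 F503223) (tt N66322 (iv0 F438003)) (tt N71464 F438000) (tt N66225 (iv3 D205823)) (tt N98909 F438001) (tt N102778 (iv5 F438604)) (tt N114878 (iv6 F492298)) (tt N66304 F438002))
theorem Q102642 : ∀ i, i < 102642 → P i := stepQ 102641 Q102641 (allL N102641 (tt N66311 F438009) (tt N66310 F438008) (tt N66227 F438004) (tt N66358 F438005) (tt N120716 D223975) (tt N66226 (iv5 D205824)) (tt N68030 F438006) (tt N66308 F438007))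
theorem Q102643 : ∀ i, i < 102643 → P i := stepQ 102642 Q102642 (allL N102642 (tt N112729 (iv1 F482399)) (tt N119900 (iv0 F517939)) (tt N120716 (iv2 F522310)) (tt N71006 F438010) (tt N66227 (iv4 D205825)) (tt N108026 (iv5 F460791)) (tt N103802 (iv6 F442885)) (tt N66312 F438011))
theorem Q102644 : ∀ i, i < 102644 → P i := stepQ 102643 Q102643 (allL N102643 (tt N82184 F438016) (tt N82183 (iv0 F438017)) (tt N66552 F438012) (tt N66230 (iv3 D205826)) (tt N67129 F438013) (tt N104755 (iv5 F447117)) (tt N79577 F438014) (tt N66417 F438015))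
theorem Q102645 : ∀ i, i < 102645 → P i := stepQ 102644 Q102644 (allL N102644 (tt N112042 F479222) (tt N104798 (iv0 F447332)) (tt N111807 (iv2 F478071)) (tt N66238 (iv3 D205827)) (tt N73454 F438018) (tt N100392 F438019) (tt N100386 F438020) (tt N66428 F438021))
theorem Q102646 : ∀ i, i < 102646 → P i := stepQ 102645 Q102645 (allL N102645 (tt N66239 (iv1 D205828)) (tt N66433 F438022) (tt N66431 (iv2 F438025)) (tt N68039 (iv3 F438026)) (tt N102837 (iv4 F438875)) (tt N68063 F438024) (tt N102804 F438715) (tt N66430 F438023))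
theorem Q102647 : ∀ i, i < 102647 → P i := stepQ 102646 Q102646 (allL N102646 (tt N66431 (iv1 F438031)) (tt N66430 F438032) (tt N66433 F438027) (tt N100342 F438028) (tt N102988 (iv4 F439564)) (tt N66240 F438029) (tt N100139 F438030) (tt N66239 (iv7 D205829)))
theorem Q102648 : ∀ i, i < 102648 → P i := stepQ 102647 Q102647 (allL N102647 (tt N105731 (iv1 F451456)) (tt N66255 (iv0 F438039)) (tt N79378 F438033) (tt N66241 (iv3 D205830)) (tt N93695 F438034) (tt N66977 F438035) (tt N77579 F438036) (tt N66434 F438037))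
theorem Q102649 : ∀ i, i < 102649 → P i := stepQ 102648 Q102648 (allL N102648 (tt N66482 F438044) (tt N66261 F438045) (tt N66448 F438040) (tt N69131 F438041) (tt N101708 F438046) (tt N66242 (iv5 D205831)) (tt N69128 F438042) (tt N66444 F438043))
theorem Q102650 : ∀ i, i < 102650 → P i := stepQ 102649 Q102649 (allL N102649 (tt N66493 F438048) (tt N110397 F471397) (tt N66445 F438047) (tt N81143 (iv3 F451383)) (tt N117446 (iv4 F505073)) (tt N82468 F438049) (tt N66243 (iv6 D205832)) (tt N110396 (iv7 F471390)))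
theorem Q102651 : ∀ i, i < 102651 → P i := stepQ 102650 Q102650 (allL N102650 (tt N66456 F438054) (tt N66455 (iv0 F438055)) (tt N66245 F438050) (tt N66469 F438051) (tt N103307 (iv4 F441070)) (tt N66244 (iv5 D205833)) (tt N69044 F438052) (tt N66450 F438053))
theorem Q102652 : ∀ i, i < 102652 → P i := stepQ 102651 Q102651 (allL N102651 (tt N68671 F438059) (tt N102367 F438060) (tt N103307 F441072) (tt N70958 F438056) (tt N66245 (iv4 D205834)) (tt N120600 (iv5 F521679)) (tt N68613 F438057) (tt N66457 F438058))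
theorem Q102653 : ∀ i, i < 102653 → P i := stepQ 102652 Q102652 (allL N102652 (tt N95937 (iv1 F438066)) (tt N66466 (iv0 F438067)) (tt N92910 F438061) (tt N66249 (iv3 D205835)) (tt N73245 F438064) (tt N97658 F438062) (tt N86369 (iv6 F438065)) (tt N66253 F438063))
theorem Q102654 : ∀ i, i < 102654 → P i := stepQ 102653 Q102653 (allL N102653 (tt N71938 F438071) (tt N102775 (iv0 F438595)) (tt N66250 F438068) (tt N69701 F438069) (tt N66249 (iv4 D205836)) (tt N94260 F438074) (tt N73803 (iv6 F438073)) (tt N66254 F438070))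
theorem Q102655 : ∀ i, i < 102655 → P i := stepQ 102654 Q102654 (allL N102654 (tt N66400 F438079) (tt N95795 (iv0 F438080)) (tt N66251 F438075) (tt N86369 F438076) (tt N73803 F438077) (tt N95628 F438078) (tt N66249 (iv6 D205837)) (tt N100511 F438081))
theorem Q102656 : ∀ i, i < 102656 → P i := stepQ 102655 Q102655 (allL N102655 (tt N120717 D223976) (tt N104646 F449005) (tt N94260 F438082) (tt N118174 (iv3 F509005)) (tt N96134 F438084) (tt N66250 (iv5 D205838)) (tt N94182 F438083) (tt N96133 (iv7 F438085)))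
theorem Q102657 : ∀ i, i < 102657 → P i := stepQ 102656 Q102656 (allL N102656 (tt N102775 (iv1 F438594)) (tt N71938 (iv0 F438090)) (tt N66254 F438086) (tt N92916 F438087) (tt N66252 F438088) (tt N96133 F438089) (tt N105730 (iv6 F451449)) (tt N66250 (iv7 D205839)))
theorem Q102658 : ∀ i, i < 102658 → P i := stepQ 102657 Q102657 (allL N102657 (tt N92910 (iv1 F438094)) (tt N66253 (iv0 D205840)) (tt N66466 (iv2 F438093)) (tt N66475 (iv3 F438096)) (tt N66409 F438091) (tt N102887 (iv5 F439110)) (tt N96277 F438092) (tt N95937 F438095))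
theorem Q102659 : ∀ i, i < 102659 → P i := stepQ 102658 Q102658 (allL N102658 (tt N104646 F449004) (tt N120717 F522322) (tt N96133 F438097) (tt N107344 F458032) (tt N96111 F438098) (tt N66254 (iv5 D205841)) (tt N107836 (iv6 F459922)) (tt N94260 F438099))
theorem Q102660 : ∀ i, i < 102660 → P i := stepQ 102659 Q102659 (allL N102659 (tt N80643 F438102) (tt N118595 (iv0 F511075)) (tt N105730 (iv2 F451448)) (tt N74295 (iv3 F438101)) (tt N66255 F438100) (tt N118603 (iv5 F511114)) (tt N66254 (iv6 D205842)) (tt N120204 (iv7 F519580)))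
theorem Q102661 : ∀ i, i < 102661 → P i := stepQ 102660 Q102660 (allL N102660 (tt N66255 (iv1 D205843)) (tt N105731 F451455) (tt N66434 F438107) (tt N66479 (iv3 F438106)) (tt N108042 (iv4 F460854)) (tt N66978 F438105) (tt N77759 F438108) (tt N79378 F438104))
theorem Q102662 : ∀ i, i < 102662 → P i := stepQ 102661 Q102661 (allL N102661 (tt N66434 (iv1 F438112)) (tt N79378 F438113) (tt N105731 (iv2 F451451)) (tt N75948 F438109) (tt N120204 (iv4 F519576)) (tt N76526 F438110) (tt N100511 F438111) (tt N66255 (iv7 D205844)))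
theorem Q102663 : ∀ i, i < 102663 → P i := stepQ 102662 Q102662 (allL N102662 (tt N67970 F438118) (tt N69963 F438119) (tt N69133 F438114) (tt N72047 F438115) (tt N66259 F438116) (tt N120718 D223977) (tt N66258 (iv6 D205845)) (tt N69961 F438117))
theorem Q102664 : ∀ i, i < 102664 → P i := stepQ 102663 Q102663 (allL N102663 (tt N101710 F438123) (tt N117999 (iv0 F508008)) (tt N103441 (iv2 F441649)) (tt N70910 F438120) (tt N66261 (iv4 D205846)) (tt N120602 (iv5 F521695)) (tt N68813 F438121) (tt N66483 F438122))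
theorem Q102665 : ∀ i, i < 102665 → P i := stepQ 102664 Q102664 (allL N102664 (tt N74087 F438127) (tt N72643 (iv0 F438128)) (tt N97011 F438124) (tt N66265 (iv3 D205847)) (tt N91407 F438125) (tt N99165 F438126) (tt N110816 F473283) (tt N118265 (iv7 F509434)))
theorem Q102666 : ∀ i, i < 102666 → P i := stepQ 102665 Q102665 (allL N102665 (tt N94256 F438131) (tt N100413 (iv0 F438132)) (tt N112083 (iv2 F479416)) (tt N110816 (iv3 F473284)) (tt N103092 (iv4 F440028)) (tt N120719 D223978) (tt N66265 (iv6 D205848)) (tt N99246 F438130))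
theorem Q102667 : ∀ i, i < 102667 → P i := stepQ 102666 Q102666 (allL N102666 (tt N91267 F438137) (tt N99261 (iv0 F438138)) (tt N66267 F438133) (tt N86364 F438134) (tt N66309 F438135) (tt N119898 (iv5 F517921)) (tt N66266 (iv6 D205849)) (tt N90192 F438136))
theorem Q102668 : ∀ i, i < 102668 → P i := stepQ 102667 Q102667 (allL N102667 (tt N100513 F438141) (tt N98880 F438142) (tt N119898 F517924) (tt N66268 F438139) (tt N113528 (iv4 F485908)) (tt N66267 (iv5 D205850)) (tt N101464 F457389) (tt N99269 F438140))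
theorem Q102669 : ∀ i, i < 102669 → P i := stepQ 102668 Q102668 (allL N102668 (tt N98967 F438143) (tt N98970 F438144) (tt N119375 (iv2 F515286)) (tt N113529 (iv3 F485909)) (tt N66268 (iv4 D205851)) (tt N106647 (iv5 F455136)) (tt N119714 (iv6 F517057)) (tt N119819 (iv7 F517532)))
theorem Q102670 : ∀ i, i < 102670 → P i := stepQ 102669 Q102669 (allL N102669 (tt N107691 (iv1 F459246)) (tt N99311 F438147) (tt N93256 F438145) (tt N103759 (iv3 F442705)) (tt N66272 (iv4 D205852)) (tt N96530 F438146) (tt N112533 (iv6 F481543)) (tt N106939 (iv7 F456363)))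
theorem Q102671 : ∀ i, i < 102671 → P i := stepQ 102670 Q102670 (allL N102670 (tt N110056 F469766) (tt N71392 (iv0 F438148)) (tt N106942 (iv2 F456377)) (tt N106729 (iv3 F455442)) (tt N112533 (iv4 F481541)) (tt N106303 (iv5 F453950)) (tt N66272 (iv6 D205853)) (tt N118926 (iv7 F512783)))
theorem Q102672 : ∀ i, i < 102672 → P i := stepQ 102671 Q102671 (allL N102671 (tt N99390 (iv1 F438151)) (tt N71381 (iv0 F438150)) (tt N106727 (iv2 F455431)) (tt N66273 (iv3 D205854)) (tt N107358 (iv4 F458083)) (tt N91078 F438149) (tt N120720 D223979) (tt N106941 (iv7 F456373)))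
theorem Q102673 : ∀ i, i < 102673 → P i := stepQ 102672 Q102672 (allL N102672 (tt N71411 F438152) (tt N86757 (iv0 F438153)) (tt N106940 (iv2 F456366)) (tt N120720 (iv3 F522338)) (tt N107692 (iv4 F459254)) (tt N120721 D223980) (tt N66273 (iv6 D205855)) (tt N113017 (iv7 F483573)))
theorem Q102674 : ∀ i, i < 102674 → P i := stepQ 102673 Q102673 (allL N102673 (tt N88031 F438156) (tt N77436 (iv0 F438157)) (tt N66275 F438154) (tt N117795 (iv3 F507011)) (tt N90385 F438155) (tt N113376 (iv5 F485252)) (tt N66274 (iv6 D205856)) (tt N91739 F438158))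
theorem Q102675 : ∀ i, i < 102675 → P i := stepQ 102674 Q102674 (allL N102674 (tt N90886 F438161) (tt N110395 (iv0 F471384)) (tt N113376 (iv2 F485251)) (tt N66276 F438159) (tt N113214 (iv4 F484516)) (tt N66275 (iv5 D205857)) (tt N72072 F438160) (tt N110370 (iv7 F471279)))
theorem Q102676 : ∀ i, i < 102676 → P i := stepQ 102675 Q102675 (allL N102675 (tt N106023 (iv1 F452782)) (tt N106026 (iv0 F452794)) (tt N106620 F455074) (tt N119892 F517893) (tt N66276 (iv4 D205858)) (tt N107667 (iv5 F459149)) (tt N72077 F438162) (tt N106619 F455071))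
theorem Q102677 : ∀ i, i < 102677 → P i := stepQ 102676 Q102676 (allL N102676 (tt N66498 F438167) (tt N102421 (iv0 F438169)) (tt N96067 F438163) (tt N94310 F438164) (tt N77950 F438165) (tt N68651 F438168) (tt N66277 (iv6 D205859)) (tt N66377 F438166))
theorem Q102678 : ∀ i, i < 102678 → P i := stepQ 102677 Q102677 (allL N102677 (tt N102705 F438283) (tt N106563 (iv0 F454876)) (tt N106431 (iv2 F454402)) (tt N102304 F438170) (tt N66279 (iv4 D205860)) (tt N120722 D223981) (tt N107879 (iv6 F460090)) (tt N106429 (iv7 F454392)))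
theorem Q102679 : ∀ i, i < 102679 → P i := stepQ 102678 Q102678 (allL N102678 (tt N106563 (iv1 F454877)) (tt N102705 (iv0 F438282)) (tt N106429 (iv2 F454389)) (tt N72489 F438171) (tt N66280 (iv4 D205861)) (tt N110459 (iv5 F471687)) (tt N71366 F438172) (tt N106431 (iv7 F454403)))
theorem Q102680 : ∀ i, i < 102680 → P i := stepQ 102679 Q102679 (allL N102679 (tt N109277 (iv1 F466147)) (tt N112193 (iv0 F479994)) (tt N66283 F438173) (tt N66763 F438174) (tt N107577 (iv4 F458823)) (tt N98079 F438175) (tt N66281 (iv6 D205862)) (tt N109842 (iv7 F468861)))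
theorem Q102681 : ∀ i, i < 102681 → P i := stepQ 102680 Q102680 (allL N102680 (tt N73313 F438180) (tt N73312 F438181) (tt N67768 F438176) (tt N71402 F438177) (tt N66282 (iv4 D205863)) (tt N72087 F438179) (tt N92605 F438182) (tt N73314 F438178))
theorem Q102682 : ∀ i, i < 102682 → P i := stepQ 102681 Q102681 (allL N102681 (tt N67607 F438187) (tt N67606 (iv0 F438188)) (tt N67608 F438183) (tt N66284 F438184) (tt N92605 F438185) (tt N103181 (iv5 F440443)) (tt N66282 (iv6 D205864)) (tt N67605 F438186))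
theorem Q102683 : ∀ i, i < 102683 → P i := stepQ 102682 Q102682 (allL N102682 (tt N109842 (iv1 F468863)) (tt N66283 (iv0 D205865)) (tt N109277 (iv2 F466142)) (tt N79445 (iv3 F466148)) (tt N120723 D223982) (tt N76657 F438189) (tt N77778 F438190) (tt N112193 (iv7 F479993)))
theorem Q102684 : ∀ i, i < 102684 → P i := stepQ 102683 Q102683 (allL N102683 (tt N66283 (iv1 D205866)) (tt N109842 (iv0 F468862)) (tt N112193 (iv2 F479990)) (tt N109271 (iv3 F466106)) (tt N117922 (iv4 F507611)) (tt N85798 F438191) (tt N108332 F462109) (tt N109277 (iv7 F466145)))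
theorem Q102685 : ∀ i, i < 102685 → P i := stepQ 102684 Q102684 (allL N102684 (tt N112193 F479995) (tt N109277 (iv0 F466146)) (tt N109842 (iv2 F468858)) (tt N66288 F438192) (tt N107586 (iv4 F458859)) (tt N76536 F438193) (tt N104862 (iv6 F447677)) (tt N66283 (iv7 D205867)))
theorem Q102686 : ∀ i, i < 102686 → P i := stepQ 102685 Q102685 (allL N102685 (tt N106434 F454417) (tt N71609 (iv0 F438199)) (tt N90561 F438194) (tt N66285 (iv3 D205868)) (tt N90557 F438195) (tt N81498 F438196) (tt N90555 F438197) (tt N74245 F438198))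
theorem Q102687 : ∀ i, i < 102687 → P i := stepQ 102686 Q102686 (allL N102686 (tt N104651 (iv1 F446701)) (tt N72864 (iv0 F438202)) (tt N72966 F438200) (tt N72976 F438201) (tt N66290 (iv4 D205869)) (tt N118822 (iv5 F512262)) (tt N117070 (iv6 F503231)) (tt N106438 (iv7 F454434)))
theorem Q102688 : ∀ i, i < 102688 → P i := stepQ 102687 Q102687 (allL N102687 (tt N105355 (iv1 F449860)) (tt N66318 (iv0 F438205)) (tt N104808 (iv2 F447390)) (tt N66323 F438203) (tt N119469 (iv4 F515782)) (tt N66290 (iv5 D205870)) (tt N104224 (iv6 F444790)) (tt N66313 F438204))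
theorem Q102689 : ∀ i, i < 102689 → P i := stepQ 102688 Q102688 (allL N102688 (tt N66318 F438209) (tt N105355 (iv0 F449861)) (tt N66313 F438206) (tt N91404 F438207) (tt N119468 (iv4 F515775)) (tt N66291 (iv5 D205871)) (tt N66308 F438208) (tt N104808 (iv7 F447392)))
theorem Q102690 : ∀ i, i < 102690 → P i := stepQ 102689 Q102689 (allL N102689 (tt N117695 (iv1 F506469)) (tt N119541 (iv0 F516152)) (tt N66294 F438210) (tt N81148 F438211) (tt N72944 F438212) (tt N115569 (iv5 F495815)) (tt N66292 (iv6 D205872)) (tt N77571 F438213))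
theorem Q102691 : ∀ i, i < 102691 → P i := stepQ 102690 Q102690 (allL N102690 (tt N69542 (iv1 F438214)) (tt N66293 (iv0 D205873)) (tt N102772 (iv2 F438574)) (tt N114963 (iv3 F492788)) (tt N104650 F446692) (tt N70117 F438215) (tt N100733 (iv6 F438216)) (tt N102769 (iv7 F438564)))
theorem Q102692 : ∀ i, i < 102692 → P i := stepQ 102691 Q102691 (allL N102691 (tt N66293 (iv1 D205874)) (tt N69542 F438217) (tt N102769 (iv2 F438563)) (tt N68959 (iv3 F438219)) (tt N104581 (iv4 F446391)) (tt N70118 F438218) (tt N68957 F438220) (tt N102772 (iv7 F438576)))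
theorem Q102693 : ∀ i, i < 102693 → P i := stepQ 102692 Q102692 (allL N102692 (tt N104115 (iv1 F444251)) (tt N104114 F444258) (tt N104116 (iv2 F444254)) (tt N66295 F438221) (tt N103530 (iv4 F441956)) (tt N110339 (iv5 F471119)) (tt N66293 (iv6 D205875)) (tt N103525 (iv7 F441946)))
theorem Q102694 : ∀ i, i < 102694 → P i := stepQ 102693 Q102693 (allL N102693 (tt N77571 (iv1 F438223)) (tt N66294 (iv0 D205876)) (tt N117695 (iv2 F506463)) (tt N109850 (iv3 F468904)) (tt N120724 D223983) (tt N94174 F438224) (tt N94175 F438222) (tt N119541 (iv7 F516151)))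
theorem Q102695 : ∀ i, i < 102695 → P i := stepQ 102694 Q102694 (allL N102694 (tt N66294 (iv1 D205877)) (tt N77571 F438225) (tt N119541 (iv2 F516148)) (tt N109311 (iv3 F466334)) (tt N118310 (iv4 F509637)) (tt N109303 (iv5 F466289)) (tt N112707 (iv6 F482279)) (tt N117695 (iv7 F506466)))
theorem Q102696 : ∀ i, i < 102696 → P i := stepQ 102695 Q102695 (allL N102695 (tt N110774 (iv1 F473140)) (tt N101238 F438228) (tt N115569 (iv2 F495810)) (tt N66296 F438226) (tt N87961 F438229) (tt N66294 (iv5 D205878)) (tt N110339 (iv6 F471120)) (tt N100665 F438227))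
theorem Q102697 : ∀ i, i < 102697 → P i := stepQ 102696 Q102696 (allL N102696 (tt N69549 F438234) (tt N66295 (iv0 D205879)) (tt N102781 F438619) (tt N103576 F442098) (tt N71407 F438231) (tt N99572 (iv5 F438233)) (tt N79916 F438232) (tt N102782 (iv7 F438623)))
theorem Q102698 : ∀ i, i < 102698 → P i := stepQ 102697 Q102697 (allL N102697 (tt N67974 F438239) (tt N99583 F438237) (tt N100664 F438235) (tt N110339 (iv3 F471118)) (tt N75940 F438238) (tt N66295 (iv5 D205880)) (tt N66296 F438236) (tt N75938 F438240))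
theorem Q102699 : ∀ i, i < 102699 → P i := stepQ 102698 Q102698 (allL N102698 (tt N102782 (iv1 F438622)) (tt N102781 F438618) (tt N69549 F438241) (tt N103525 (iv3 F441943)) (tt N71797 F438242) (tt N75938 F438243) (tt N69547 F438244) (tt N66295 (iv7 D205881)))
theorem Q102700 : ∀ i, i < 102700 → P i := stepQ 102699 Q102699 (allL N102699 (tt N75984 F438249) (tt N73103 F438250) (tt N80477 F438245) (tt N68475 F438251) (tt N66296 (iv4 D205882)) (tt N68457 F438248) (tt N75940 F438246) (tt N68456 F438247))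
theorem Q102701 : ∀ i, i < 102701 → P i := stepQ 102700 Q102700 (allL N102700 (tt N98463 F438257) (tt N98462 (iv0 F438258)) (tt N71465 F438252) (tt N66303 F438253) (tt N70931 F438254) (tt N81440 F438255) (tt N66300 (iv6 D205883)) (tt N98459 F438256))
theorem Q102702 : ∀ i, i < 102702 → P i := stepQ 102701 Q102701 (allL N102701 (tt N66301 (iv1 D205884)) (tt N66305 F438259) (tt N98906 F438262) (tt N93491 (iv3 F438261)) (tt N103749 (iv4 F442659)) (tt N112680 (iv5 F482139)) (tt N109606 (iv6 F467701)) (tt N98898 F438260))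
theorem Q102703 : ∀ i, i < 102703 → P i := stepQ 102702 Q102702 (allL N102702 (tt N98882 F438266) (tt N98916 (iv0 F438267)) (tt N98775 F438263) (tt N66301 (iv3 D205885)) (tt N70267 F438264) (tt N118148 (iv5 F508862)) (tt N118232 (iv6 F509275)) (tt N71470 F438265))
theorem Q102704 : ∀ i, i < 102704 → P i := stepQ 102703 Q102703 (allL N102703 (tt N101295 F438271) (tt N94087 (iv0 F438272)) (tt N110419 F471487) (tt N81440 F438268) (tt N114880 (iv4 F492309)) (tt N66303 (iv5 D205886)) (tt N81330 F438269) (tt N98457 F438270))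
theorem Q102705 : ∀ i, i < 102705 → P i := stepQ 102704 Q102704 (allL N102704 (tt N66322 (iv1 F438277)) (tt N117068 (iv0 F503222)) (tt N66304 (iv2 D205887)) (tt N69398 F438273) (tt N92359 F438278) (tt N69396 (iv5 F438275)) (tt N81269 (iv6 F438276)) (tt N71464 F438274))
theorem Q102706 : ∀ i, i < 102706 → P i := stepQ 102705 Q102705 (allL N102705 (tt N102678 F438282) (tt N102677 (iv0 F438283)) (tt N92359 F438279) (tt N98774 F438280) (tt N66304 (iv4 D205888)) (tt N120717 (iv5 F522317)) (tt N93696 (iv6 F438284)) (tt N98909 F438281))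
theorem Q102707 : ∀ i, i < 102707 → P i := stepQ 102706 Q102706 (allL N102706 (tt N103570 F442080) (tt N114963 F492790) (tt N69396 F438285) (tt N66306 F438286) (tt N71802 F438287) (tt N66304 (iv5 D205889)) (tt N69394 F438288) (tt N102778 (iv7 F438606)))
theorem Q102708 : ∀ i, i < 102708 → P i := stepQ 102707 Q102707 (allL N102707 (tt N112706 (iv1 F482276)) (tt N94249 (iv0 F438295)) (tt N81269 F438290) (tt N66307 F438291) (tt N93696 F438292) (tt N76732 F438293) (tt N66304 (iv6 D205890)) (tt N77596 (iv7 F438294)))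
theorem Q102709 : ∀ i, i < 102709 → P i := stepQ 102708 Q102708 (allL N102708 (tt N94989 (iv1 F438298)) (tt N100423 (iv0 F438299)) (tt N119792 (iv2 F517437)) (tt N77899 F438296) (tt N66307 F438297) (tt N120725 D223984) (tt N66305 (iv6 D205891)) (tt N118235 (iv7 F509290)))
theorem Q102710 : ∀ i, i < 102710 → P i := stepQ 102709 Q102709 (allL N102709 (tt N80629 F438305) (tt N101694 F438304) (tt N80826 F438300) (tt N76732 F438301) (tt N69621 F438303) (tt N66307 (iv5 D205892)) (tt N69620 F438302) (tt N77595 F438306))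
theorem Q102711 : ∀ i, i < 102711 → P i := stepQ 102710 Q102710 (allL N102710 (tt N100360 (iv1 F438311)) (tt N100416 F438312) (tt N100414 F438307) (tt N77596 F438308) (tt N118235 (iv4 F509289)) (tt N77595 F438309) (tt N94931 F438310) (tt N66307 (iv7 D205893)))
theorem Q102712 : ∀ i, i < 102712 → P i := stepQ 102711 Q102711 (allL N102711 (tt N119900 (iv1 F517940)) (tt N112729 (iv0 F482398)) (tt N66312 F438313) (tt N117943 (iv3 F507712)) (tt N66308 (iv4 D205894)) (tt N119931 (iv5 F518096)) (tt N119468 F515778) (tt N120716 (iv7 F522314)))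
theorem Q102713 : ∀ i, i < 102713 → P i := stepQ 102712 Q102712 (allL N102712 (tt N66317 (iv1 F438317)) (tt N66309 (iv0 D205895)) (tt N66314 (iv2 F438318)) (tt N66329 F438320) (tt N98932 F438315) (tt N77522 F438314) (tt N100358 F438316) (tt N66315 (iv7 F438319)))
theorem Q102714 : ∀ i, i < 102714 → P i := stepQ 102713 Q102713 (allL N102713 (tt N66309 (iv1 D205896)) (tt N66317 F438332) (tt N66315 F438336) (tt N71487 (iv3 F438335)) (tt N109607 (iv4 F467707)) (tt N77526 F438334) (tt N97376 F438337) (tt N66314 F438333))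
theorem Q102715 : ∀ i, i < 102715 → P i := stepQ 102714 Q102714 (allL N102714 (tt N109433 (iv1 F466932)) (tt N102841 (iv0 F438892)) (tt N78913 F438338) (tt N103713 (iv3 F442556)) (tt N66311 (iv4 D205897)) (tt N97928 F438339) (tt N104686 F446866) (tt N103558 F442035))
theorem Q102716 : ∀ i, i < 102716 → P i := stepQ 102715 Q102715 (allL N102715 (tt N104756 F447125) (tt N104738 (iv0 F447054)) (tt N104695 (iv2 F446901)) (tt N67973 F438340) (tt N104686 (iv4 F446868)) (tt N118428 (iv5 F510300)) (tt N66311 (iv6 D205898)) (tt N104694 (iv7 F446898)))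
theorem Q102717 : ∀ i, i < 102717 → P i := stepQ 102716 Q102716 (allL N102716 (tt N120716 (iv1 F522316)) (tt N66312 (iv0 D205899)) (tt N119900 (iv2 F517934)) (tt N119472 (iv3 F515791)) (tt N69169 F438341) (tt N105495 (iv5 F450469)) (tt N67894 (iv6 F438342)) (tt N112729 (iv7 F482396)))
theorem Q102718 : ∀ i, i < 102718 → P i := stepQ 102717 Q102717 (allL N102717 (tt N66312 (iv1 D205900)) (tt N120716 (iv0 F522315)) (tt N112729 (iv2 F482393)) (tt N119281 (iv3 F514801)) (tt N69131 (iv4 F438343)) (tt N105496 (iv5 F450474)) (tt N69129 F438344) (tt N119900 (iv7 F517937)))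
theorem Q102719 : ∀ i, i < 102719 → P i := stepQ 102718 Q102718 (allL N102718 (tt N104657 (iv1 F446728)) (tt N104593 (iv0 F446449)) (tt N119931 (iv2 F518095)) (tt N72082 F438345) (tt N106513 (iv4 F454724)) (tt N66312 (iv5 D205901)) (tt N106512 (iv6 F454721)) (tt N108026 (iv7 F460793)))
theorem Q102720 : ∀ i, i < 102720 → P i := stepQ 102719 Q102719 (allL N102719 (tt N102910 F439228) (tt N103815 (iv0 F442940)) (tt N119468 F515777) (tt N72083 F438346) (tt N66313 F438347) (tt N116885 (iv5 F502347)) (tt N66312 (iv6 D205902)) (tt N119469 (iv7 F515780)))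
theorem Q102721 : ∀ i, i < 102721 → P i := stepQ 102720 Q102720 (allL N102720 (tt N90200 (iv1 F438352)) (tt N66316 (iv0 D205903)) (tt N66324 (iv2 F438350)) (tt N76153 F438348) (tt N103080 (iv4 F439984)) (tt N78837 F438349) (tt N112366 (iv6 F480765)) (tt N91403 F438351))
theorem Q102722 : ∀ i, i < 102722 → P i := stepQ 102721 Q102721 (allL N102721 (tt N86259 F438354) (tt N85890 F438355) (tt N86258 F438353) (tt N77478 F438356) (tt N66316 (iv4 D205904)) (tt N110551 (iv5 F472099)) (tt N106438 (iv6 F454433)) (tt N86257 F438364))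
theorem Q102723 : ∀ i, i < 102723 → P i := stepQ 102722 Q102722 (allL N102722 (tt N91403 (iv1 F438361)) (tt N66324 F438362) (tt N90200 F438357) (tt N66332 F438358) (tt N86257 (iv4 F438363)) (tt N66317 F438359) (tt N100398 F438360) (tt N66316 (iv7 D205905)))
theorem Q102724 : ∀ i, i < 102724 → P i := stepQ 102723 Q102723 (allL N102723 (tt N120726 D223985) (tt N102839 (iv0 F438885)) (tt N103862 (iv2 F443128)) (tt N95858 F438365) (tt N66318 (iv4 D205906)) (tt N103828 (iv5 F442984)) (tt N67870 F438366) (tt N103864 (iv7 F443141)))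
theorem Q102725 : ∀ i, i < 102725 → P i := stepQ 102724 Q102724 (allL N102724 (tt N105352 F449843) (tt N112043 (iv0 F479228)) (tt N66384 F438367) (tt N66553 F438368) (tt N92417 F438370) (tt N66321 (iv5 D205907)) (tt N112734 (iv6 F482425)) (tt N71770 F438369))
theorem Q102726 : ∀ i, i < 102726 → P i := stepQ 102725 Q102725 (allL N102725 (tt N77719 F438375) (tt N77722 F438376) (tt N106448 (iv2 F454491)) (tt N102745 (iv3 F438459)) (tt N66325 (iv4 D205908)) (tt N117839 (iv5 F507207)) (tt N92489 F438374) (tt N106450 (iv7 F454510)))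
theorem Q102727 : ∀ i, i < 102727 → P i := stepQ 102726 Q102726 (allL N102726 (tt N77722 F438378) (tt N77719 F438379) (tt N106450 (iv2 F454506)) (tt N102736 F438422) (tt N66327 (iv4 D205909)) (tt N107498 (iv5 F458536)) (tt N74304 F438377) (tt N106448 (iv7 F454493)))
theorem Q102728 : ∀ i, i < 102728 → P i := stepQ 102727 Q102727 (allL N102727 (tt N83181 F438381) (tt N71344 F438382) (tt N106445 F454480) (tt N98933 F438380) (tt N66329 (iv4 D205910)) (tt N117837 (iv5 F507196)) (tt N120727 D223986) (tt N106446 (iv7 F454483)))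
theorem Q102729 : ∀ i, i < 102729 → P i := stepQ 102728 Q102728 (allL N102728 (tt N91331 (iv1 F438385)) (tt N100350 F438386) (tt N111440 (iv2 F476371)) (tt N100358 F438383) (tt N120727 (iv4 F522383)) (tt N104261 (iv5 F445001)) (tt N66329 (iv6 D205911)) (tt N100408 (iv7 F438384)))
theorem Q102730 : ∀ i, i < 102730 → P i := stepQ 102729 Q102729 (allL N102729 (tt N71344 F438388) (tt N83181 F438389) (tt N106446 F454485) (tt N92362 F438387) (tt N66330 (iv4 D205912)) (tt N117470 (iv5 F505196)) (tt N112510 (iv6 F481428)) (tt N106445 F454481))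
theorem Q102731 : ∀ i, i < 102731 → P i := stepQ 102730 Q102730 (allL N102730 (tt N89560 F438391) (tt N116839 (iv0 F502112)) (tt N116841 F502122) (tt N66331 (iv3 D205913)) (tt N77478 F438390) (tt N120728 D223987) (tt N117799 (iv6 F507031)) (tt N116842 (iv7 F502126)))
theorem Q102732 : ∀ i, i < 102732 → P i := stepQ 102731 Q102731 (allL N102731 (tt N99630 F438394) (tt N100510 F438395) (tt N108772 F463861) (tt N120728 (iv3 F522387)) (tt N94326 F438393) (tt N66331 (iv5 D205914)) (tt N120729 D223988) (tt N94325 F438392))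
theorem Q102733 : ∀ i, i < 102733 → P i := stepQ 102732 Q102732 (allL N102732 (tt N94405 F438400) (tt N108027 (iv0 F460800)) (tt N74373 F438396) (tt N92450 F438397) (tt N66334 F438398) (tt N94245 F438401) (tt N66333 (iv6 D205915)) (tt N99058 F438399))
theorem Q102734 : ∀ i, i < 102734 → P i := stepQ 102733 Q102733 (allL N102733 (tt N89514 F438405) (tt N89516 (iv0 F438408)) (tt N89938 F438402) (tt N66335 (iv3 D205916)) (tt N76293 F438403) (tt N113288 (iv5 F484863)) (tt N117902 F507512) (tt N94323 F438404))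
theorem Q102735 : ∀ i, i < 102735 → P i := stepQ 102734 Q102734 (allL N102734 (tt N69114 F438412) (tt N69108 (iv0 F438414)) (tt N94322 F438409) (tt N117902 F507510) (tt N71345 F438410) (tt N94273 F438413) (tt N66335 (iv6 D205917)) (tt N73302 F438411))
theorem Q102736 : ∀ i, i < 102736 → P i := stepQ 102735 Q102735 (allL N102735 (tt N120730 D223989) (tt N66337 (iv0 D205918)) (tt N100088 (iv2 F438419)) (tt N94317 F454498) (tt N120167 (iv4 F519392)) (tt N100048 F438418) (tt N100041 (iv6 F438420)) (tt N117873 (iv7 F507376)))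
theorem Q102737 : ∀ i, i < 102737 → P i := stepQ 102736 Q102736 (allL N102736 (tt N66337 (iv1 D205919)) (tt N120730 F522399) (tt N117873 (iv2 F507371)) (tt N102726 (iv3 F438422)) (tt N106841 (iv4 F455935)) (tt N100114 (iv5 F438423)) (tt N106840 (iv6 F455933)) (tt N100088 F438421))
theorem Q102738 : ∀ i, i < 102738 → P i := stepQ 102737 Q102737 (allL N102737 (tt N100088 F438427) (tt N117873 (iv0 F507374)) (tt N66337 (iv2 D205920)) (tt N94313 F438424) (tt N71253 F438425) (tt N109583 (iv5 F467601)) (tt N66342 F438426) (tt N120730 (iv7 F522400)))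
theorem Q102739 : ∀ i, i < 102739 → P i := stepQ 102738 Q102738 (allL N102738 (tt N118544 F510878) (tt N120731 D223990) (tt N109583 (iv2 F467599)) (tt N66338 F438431) (tt N118578 (iv4 F510992)) (tt N66337 (iv5 D205921)) (tt N109580 (iv6 F467591)) (tt N120732 D223991))
theorem Q102740 : ∀ i, i < 102740 → P i := stepQ 102739 Q102739 (allL N102739 (tt N117873 (iv1 F507375)) (tt N100088 (iv0 F438435)) (tt N120730 F522398) (tt N66339 F438432) (tt N71261 F438433) (tt N120732 (iv5 F522408)) (tt N94292 F438434) (tt N66337 (iv7 D205922)))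
theorem Q102741 : ∀ i, i < 102741 → P i := stepQ 102740 Q102740 (allL N102740 (tt N100510 F438438) (tt N99630 F438439) (tt N94325 F438436) (tt N91392 F438440) (tt N66338 (iv4 D205923)) (tt N77761 F438437) (tt N117833 (iv6 F507182)) (tt N108772 (iv7 F463863)))
theorem Q102742 : ∀ i, i < 102742 → P i := stepQ 102741 Q102741 (allL N102741 (tt N120733 D223992) (tt N116650 F501146) (tt N94319 F438441) (tt N109580 (iv3 F467590)) (tt N117833 (iv4 F507181)) (tt N66343 F438442) (tt N66338 (iv6 D205924)) (tt N120734 D223993))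
theorem Q102743 : ∀ i, i < 102743 → P i := stepQ 102742 Q102742 (allL N102742 (tt N92369 (iv1 F438445)) (tt N92370 F438446) (tt N94326 F438443) (tt N120732 (iv3 F522406)) (tt N108772 (iv4 F463860)) (tt N66339 F438444) (tt N120735 D223994) (tt N66338 (iv7 D205925)))
theorem Q102744 : ∀ i, i < 102744 → P i := stepQ 102743 Q102743 (allL N102743 (tt N96254 F438453) (tt N96250 F438454) (tt N94293 F438450) (tt N66341 (iv3 D205926)) (tt N82584 F438451) (tt N106459 (iv5 F454540)) (tt N117906 (iv6 F507528)) (tt N94285 F438452))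
theorem Q102745 : ∀ i, i < 102745 → P i := stepQ 102744 Q102744 (allL N102744 (tt N72125 (iv1 F438458)) (tt N108991 F464804) (tt N94284 F438455) (tt N117906 F507530) (tt N69572 F438456) (tt N109910 (iv5 F469171)) (tt N66341 (iv6 D205927)) (tt N71940 F438457))
theorem Q102746 : ∀ i, i < 102746 → P i := stepQ 102745 Q102745 (allL N102745 (tt N94320 F438461) (tt N66343 (iv0 D205928)) (tt N94317 F438463) (tt N102725 F438459) (tt N71549 (iv4 F438460)) (tt N120146 F519291) (tt N117908 (iv6 F507539)) (tt N94318 F438462))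
theorem Q102747 : ∀ i, i < 102747 → P i := stepQ 102746 Q102746 (allL N102746 (tt N66343 (iv1 D205929)) (tt N94320 F438464) (tt N94318 (iv2 F438466)) (tt N117873 (iv3 F507372)) (tt N71550 F438467) (tt N120145 (iv5 F519281)) (tt N108578 (iv6 F463132)) (tt N94317 F438465))
theorem Q102748 : ∀ i, i < 102748 → P i := stepQ 102747 Q102747 (allL N102747 (tt N94318 (iv1 F438471)) (tt N94317 F438472) (tt N94320 F438468) (tt N92367 F438469) (tt N110625 (iv4 F472475)) (tt N120734 (iv5 F522420)) (tt N94298 F438470) (tt N66343 (iv7 D205930)))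
theorem Q102749 : ∀ i, i < 102749 → P i := stepQ 102748 Q102748 (allL N102748 (tt N72751 F438475) (tt N72498 F438476) (tt N90019 F438473) (tt N66345 (iv3 D205931)) (tt N106432 (iv4 F454407)) (tt N114317 (iv5 F489564)) (tt N109320 (iv6 F466371)) (tt N95928 F438474))
theorem Q102750 : ∀ i, i < 102750 → P i := stepQ 102749 Q102749 (allL N102749 (tt N71384 (iv1 F438482)) (tt N97715 (iv0 F438483)) (tt N71579 (iv2 F438480)) (tt N66349 (iv3 D205932)) (tt N70888 F438479) (tt N89308 F438477) (tt N84408 (iv6 F438481)) (tt N71582 F438478))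
theorem Q102751 : ∀ i, i < 102751 → P i := stepQ 102750 Q102750 (allL N102750 (tt N66516 F438486) (tt N74275 F438487) (tt N93571 F438484) (tt N108572 F463103) (tt N66349 (iv4 D205933)) (tt N74729 F438485) (tt N117925 (iv6 F507629)) (tt N104647 (iv7 F446676)))
theorem Q102752 : ∀ i, i < 102752 → P i := stepQ 102751 Q102751 (allL N102751 (tt N120564 F521482) (tt N71413 (iv0 F438489)) (tt N106978 (iv2 F456506)) (tt N84408 F438488) (tt N117925 (iv4 F507632)) (tt N120124 (iv5 F519182)) (tt N66349 (iv6 D205934)) (tt N117185 (iv7 F503811)))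
theorem Q102753 : ∀ i, i < 102753 → P i := stepQ 102752 Q102752 (allL N102752 (tt N71390 F438490) (tt N118928 F512793) (tt N106974 (iv2 F456491)) (tt N119066 (iv3 F513598)) (tt N118848 (iv4 F512400)) (tt N119636 (iv5 F516638)) (tt N66350 (iv6 D205935)) (tt N118927 (iv7 F512784)))
theorem Q102754 : ∀ i, i < 102754 → P i := stepQ 102753 Q102753 (allL N102753 (tt N118945 F512901) (tt N118944 F512892) (tt N66352 F438491) (tt N117597 (iv3 F505914)) (tt N108024 (iv4 F460785)) (tt N116388 (iv5 F499836)) (tt N66351 (iv6 D205936)) (tt N118946 (iv7 F512906)))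
theorem Q102755 : ∀ i, i < 102755 → P i := stepQ 102754 Q102754 (allL N102754 (tt N118946 (iv1 F512907)) (tt N66352 (iv0 D205937)) (tt N118945 (iv2 F512900)) (tt N95564 F438492) (tt N92480 F438493) (tt N119100 (iv5 F513788)) (tt N92479 F438494) (tt N118944 F512894))
theorem Q102756 : ∀ i, i < 102756 → P i := stepQ 102755 Q102755 (allL N102755 (tt N66352 (iv1 D205938)) (tt N118946 F512908) (tt N118944 F512893) (tt N119068 (iv3 F513615)) (tt N120736 D223995) (tt N119896 (iv5 F517911)) (tt N94215 (iv6 F452523)) (tt N118945 (iv7 F512895)))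
theorem Q102757 : ∀ i, i < 102757 → P i := stepQ 102756 Q102756 (allL N102756 (tt N116390 (iv1 F499850)) (tt N83178 (iv0 F438497)) (tt N116388 F499837) (tt N66353 F438495) (tt N117842 (iv4 F507226)) (tt N66352 (iv5 D205939)) (tt N72085 F438496) (tt N116389 (iv7 F499840)))
theorem Q102758 : ∀ i, i < 102758 → P i := stepQ 102757 Q102757 (allL N102757 (tt N71693 (iv1 F438499)) (tt N66353 (iv0 D205940)) (tt N107131 (iv2 F457117)) (tt N119999 (iv3 F518475)) (tt N71686 (iv4 F438501)) (tt N71199 F438498) (tt N107129 F457109) (tt N71870 F438500))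
theorem Q102759 : ∀ i, i < 102759 → P i := stepQ 102758 Q102758 (allL N102758 (tt N66354 (iv1 D205941)) (tt N69059 F438502) (tt N91405 F438507) (tt N117068 (iv3 F503218)) (tt N88292 F438504) (tt N68029 (iv5 F438505)) (tt N91396 (iv6 F438506)) (tt N88291 F438503))
theorem Q102760 : ∀ i, i < 102760 → P i := stepQ 102759 Q102759 (allL N102759 (tt N95189 F438510) (tt N95186 F438511) (tt N73256 F438508) (tt N107462 (iv3 F458424)) (tt N95681 F438509) (tt N66355 (iv5 D205942)) (tt N91672 (iv6 F438512)) (tt N107450 (iv7 F458378)))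
theorem Q102761 : ∀ i, i < 102761 → P i := stepQ 102760 Q102760 (allL N102760 (tt N110294 F470896) (tt N107438 F458346) (tt N99405 F438513) (tt N107463 (iv3 F458426)) (tt N66357 F438514) (tt N101229 F438515) (tt N66355 (iv6 D205943)) (tt N109317 (iv7 F466358)))
theorem Q102762 : ∀ i, i < 102762 → P i := stepQ 102761 Q102761 (allL N102761 (tt N91404 F438521) (tt N68029 (iv0 F438522)) (tt N67845 F438517) (tt N66360 (iv3 D205944)) (tt N102372 F438518) (tt N66417 F438519) (tt N67844 F438520) (tt N104755 (iv7 F447118)))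
theorem Q102763 : ∀ i, i < 102763 → P i := stepQ 102762 Q102762 (allL N102762 (tt N95179 F438527) (tt N95177 F438528) (tt N92775 F438523) (tt N67371 F438524) (tt N66361 (iv4 D205945)) (tt N107740 (iv5 F459489)) (tt N67369 F438525) (tt N102370 F438526))
theorem Q102764 : ∀ i, i < 102764 → P i := stepQ 102763 Q102763 (allL N102763 (tt N90201 F438532) (tt N91396 F438533) (tt N79424 F438529) (tt N66362 (iv3 D205946)) (tt N103983 (iv4 F443645)) (tt N68541 F438530) (tt N112511 (iv6 F481435)) (tt N91395 F438531))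
theorem Q102765 : ∀ i, i < 102765 → P i := stepQ 102764 Q102764 (allL N102764 (tt N94036 F438537) (tt N79717 (iv0 F438539)) (tt N96945 F438534) (tt N112511 (iv3 F481432)) (tt N83189 F438535) (tt N94028 F438538) (tt N66362 (iv6 D205947)) (tt N97373 F438536))
theorem Q102766 : ∀ i, i < 102766 → P i := stepQ 102765 Q102765 (allL N102765 (tt N82236 F438545) (tt N101683 (iv0 F438546)) (tt N81238 F438540) (tt N66369 F438541) (tt N74614 F438542) (tt N95101 F438543) (tt N66367 (iv6 D205948)) (tt N97698 F438544))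
theorem Q102767 : ∀ i, i < 102767 → P i := stepQ 102766 Q102766 (allL N102766 (tt N66370 (iv1 D205949)) (tt N68536 F438547) (tt N100398 F438552) (tt N90201 (iv3 F438549)) (tt N93604 (iv4 F438550)) (tt N76074 F438548) (tt N90200 (iv6 F438551)) (tt N106439 (iv7 F454443)))
theorem Q102768 : ∀ i, i < 102768 → P i := stepQ 102767 Q102767 (allL N102767 (tt N75657 F438557) (tt N75656 F438558) (tt N76785 F438553) (tt N68534 F438554) (tt N109469 (iv4 F467127)) (tt N76549 F438555) (tt N66371 (iv6 D205950)) (tt N68530 F438556))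
theorem Q102769 : ∀ i, i < 102769 → P i := stepQ 102768 Q102768 (allL N102768 (tt N101829 F438561) (tt N73429 (iv0 F438562)) (tt N73463 F438559) (tt N73475 F438560) (tt N66378 (iv4 D205951)) (tt N119562 (iv5 F516266)) (tt N116129 F498632) (tt N105353 (iv7 F449846)))
theorem Q102770 : ∀ i, i < 102770 → P i := stepQ 102769 Q102769 (allL N102769 (tt N68344 F438565) (tt N66390 (iv0 F438567)) (tt N102691 F438563) (tt N104851 (iv3 F447622)) (tt N103601 (iv4 F442192)) (tt N66378 (iv5 D205952)) (tt N68339 F438566) (tt N102690 F438564))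
theorem Q102771 : ∀ i, i < 102771 → P i := stepQ 102770 Q102770 (allL N102770 (tt N111807 (iv1 F478076)) (tt N66428 F447318) (tt N104798 (iv2 F447329)) (tt N100352 F447320) (tt N116129 (iv4 F498630)) (tt N104796 (iv5 F447316)) (tt N66378 (iv6 D205953)) (tt N112042 (iv7 F479220)))
theorem Q102772 : ∀ i, i < 102772 → P i := stepQ 102771 Q102771 (allL N102771 (tt N66552 F438569) (tt N66417 (iv0 F438570)) (tt N82183 (iv2 F438573)) (tt N66379 (iv3 D205954)) (tt N108271 (iv4 F461805)) (tt N67601 F438571) (tt N77716 F438572) (tt N82184 F438568))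
theorem Q102773 : ∀ i, i < 102773 → P i := stepQ 102772 Q102772 (allL N102772 (tt N66390 F438577) (tt N68344 (iv0 F438578)) (tt N102690 F438574) (tt N67601 F438575) (tt N103602 (iv4 F442196)) (tt N66379 (iv5 D205955)) (tt N80284 (iv6 F438579)) (tt N102691 F438576))
theorem Q102774 : ∀ i, i < 102774 → P i := stepQ 102773 Q102773 (allL N102773 (tt N66397 F438582) (tt N100390 (iv0 F438583)) (tt N105354 (iv2 F449850)) (tt N77716 F438580) (tt N93651 F438581) (tt N104247 (iv5 F444914)) (tt N66379 (iv6 D205956)) (tt N112310 (iv7 F480480)))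
theorem Q102775 : ∀ i, i < 102775 → P i := stepQ 102774 Q102774 (allL N102774 (tt N110773 F473134) (tt N66383 (iv0 D205957)) (tt N66499 (iv2 F438586)) (tt N79568 F438587) (tt N99243 F438588) (tt N100698 F438584) (tt N97072 F438585) (tt N100400 F438589))
theorem Q102776 : ∀ i, i < 102776 → P i := stepQ 102775 Q102775 (allL N102775 (tt N102653 F438595) (tt N102656 F438594) (tt N92417 F438590) (tt N92541 F438591) (tt N66384 (iv4 D205958)) (tt N117782 (iv5 F506947)) (tt N94224 F438592) (tt N99067 F438593))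
theorem Q102777 : ∀ i, i < 102777 → P i := stepQ 102776 Q102776 (allL N102776 (tt N112680 (iv1 F482138)) (tt N107561 (iv0 F458750)) (tt N99084 F438596) (tt N95797 F438597) (tt N105515 (iv4 F450533)) (tt N66385 (iv5 D205959)) (tt N99042 F438598) (tt N98926 F438599))
theorem Q102778 : ∀ i, i < 102778 → P i := stepQ 102777 Q102777 (allL N102777 (tt N68971 F438601) (tt N69055 F438602) (tt N66389 F438600) (tt N117962 (iv3 F507807)) (tt N66386 (iv4 D205960)) (tt N105494 (iv5 F450465)) (tt N103610 F442238) (tt N103594 F442176))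
theorem Q102779 : ∀ i, i < 102779 → P i := stepQ 102778 Q102778 (allL N102778 (tt N104658 F446735) (tt N104851 F447625) (tt N86006 F438603) (tt N66388 (iv3 D205961)) (tt N106859 (iv4 F456034)) (tt N102640 F438604) (tt N86015 F438605) (tt N102706 F438606))
theorem Q102780 : ∀ i, i < 102780 → P i := stepQ 102779 Q102779 (allL N102779 (tt N66389 (iv1 D205962)) (tt N103594 F442178) (tt N69055 (iv2 F438609)) (tt N105750 (iv3 F451526)) (tt N68974 F438608) (tt N113820 (iv5 F487280)) (tt N103753 (iv6 F442676)) (tt N68971 F438607))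
theorem Q102781 : ∀ i, i < 102781 → P i := stepQ 102780 Q102780 (allL N102780 (tt N85211 F438614) (tt N85213 F438615) (tt N68345 F438610) (tt N71446 F438611) (tt N66392 (iv4 D205963)) (tt N107760 (iv5 F459602)) (tt N86009 F438612) (tt N68246 F438613))
theorem Q102782 : ∀ i, i < 102782 → P i := stepQ 102781 Q102781 (allL N102781 (tt N102698 (iv1 F438618)) (tt N66393 (iv0 D205964)) (tt N102696 (iv2 F438619)) (tt N104849 F447603) (tt N71924 (iv4 F438620)) (tt N73638 F438616) (tt N86014 F438617) (tt N76771 (iv7 F438621)))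
theorem Q102783 : ∀ i, i < 102783 → P i := stepQ 102782 Q102782 (allL N102782 (tt N66393 (iv1 D205965)) (tt N102698 F438622) (tt N76771 F438626) (tt N67590 F438627) (tt N71925 F438628) (tt N75616 (iv5 F438625)) (tt N76589 (iv6 F438624)) (tt N102696 F438623))
theorem Q102784 : ∀ i, i < 102784 → P i := stepQ 102783 Q102783 (allL N102783 (tt N76589 (iv1 F438635)) (tt N76592 (iv0 F438633)) (tt N76769 F438629) (tt N80285 F438630) (tt N84085 F438631) (tt N90458 F438632) (tt N66394 (iv6 D205966)) (tt N76768 (iv7 F438636)))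
theorem Q102785 : ∀ i, i < 102785 → P i := stepQ 102784 Q102784 (allL N102784 (tt N118423 (iv1 F510274)) (tt N104574 (iv0 F446351)) (tt N96992 F438637) (tt N68248 F438638) (tt N84084 F438639) (tt N78474 F438640) (tt N66395 (iv6 D205967)) (tt N68254 (iv7 F438641)))
theorem Q102786 : ∀ i, i < 102786 → P i := stepQ 102785 Q102785 (allL N102785 (tt N100390 (iv1 F438644)) (tt N66397 (iv0 D205968)) (tt N112310 (iv2 F480484)) (tt N95748 F438643) (tt N110559 (iv4 F472139)) (tt N75296 F438642) (tt N112042 (iv6 F479219)) (tt N105354 F449855))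
theorem Q102787 : ∀ i, i < 102787 → P i := stepQ 102786 Q102786 (allL N102786 (tt N112310 (iv1 F480479)) (tt N105354 (iv0 F449853)) (tt N66397 (iv2 D205969)) (tt N101885 F438645) (tt N77528 F438646) (tt N96965 F438647) (tt N77526 F438648) (tt N100390 F438649))
theorem Q102788 : ∀ i, i < 102788 → P i := stepQ 102787 Q102787 (allL N102787 (tt N107738 (iv1 F459478)) (tt N79827 F438653) (tt N94926 F438650) (tt N80990 F438651) (tt N66398 (iv4 D205970)) (tt N118688 (iv5 F511555)) (tt N80988 (iv6 F438654)) (tt N94925 F438652))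
theorem Q102789 : ∀ i, i < 102789 → P i := stepQ 102788 Q102788 (allL N102788 (tt N79550 F438658) (tt N97079 F438659) (tt N94927 F438655) (tt N80987 F438656) (tt N80988 F438657) (tt N112509 (iv5 F481425)) (tt N66398 (iv6 D205971)) (tt N112288 (iv7 F480375)))
theorem Q102790 : ∀ i, i < 102790 → P i := stepQ 102789 Q102789 (allL N102789 (tt N71752 F438664) (tt N71751 F438665) (tt N67892 F438660) (tt N107066 (iv3 F456835)) (tt N66402 (iv4 D205972)) (tt N94674 F438661) (tt N67855 F438662) (tt N67809 F438663))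
theorem Q102791 : ∀ i, i < 102791 → P i := stepQ 102790 Q102790 (allL N102790 (tt N120689 F522164) (tt N120643 F521922) (tt N120737 D223996) (tt N66403 (iv3 D205973)) (tt N109152 (iv4 F465593)) (tt N109151 F465588) (tt N109152 (iv6 F465590)) (tt N120677 F522096))
theorem Q102792 : ∀ i, i < 102792 → P i := stepQ 102791 Q102791 (allL N102791 (tt N70548 F438669) (tt N94568 F438670) (tt N104863 F447684) (tt N70556 F438666) (tt N116204 (iv4 F498998)) (tt N66404 (iv5 D205974)) (tt N82364 F438667) (tt N100508 F438668))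
theorem Q102793 : ∀ i, i < 102793 → P i := stepQ 102792 Q102792 (allL N102792 (tt N103864 (iv1 F443142)) (tt N103862 (iv0 F443131)) (tt N120726 F522378) (tt N66405 (iv3 D205975)) (tt N66519 F438671) (tt N106409 (iv5 F454328)) (tt N68048 F438672) (tt N102839 (iv7 F438884)))
theorem Q102794 : ∀ i, i < 102794 → P i := stepQ 102793 Q102793 (allL N102793 (tt N66407 (iv1 D205976)) (tt N103740 F442638) (tt N97872 F442409) (tt N109163 (iv3 F465635)) (tt N105820 (iv4 F451878)) (tt N119031 (iv5 F513383)) (tt N119275 F514768) (tt N103661 F442408))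
theorem Q102795 : ∀ i, i < 102795 → P i := stepQ 102794 Q102794 (allL N102794 (tt N103661 F442406) (tt N97872 F438675) (tt N66407 (iv2 D205977)) (tt N103505 (iv3 F441879)) (tt N98062 F438673) (tt N119184 (iv5 F514247)) (tt N68991 F438674) (tt N103740 (iv7 F442636)))
theorem Q102796 : ∀ i, i < 102796 → P i := stepQ 102795 Q102795 (allL N102795 (tt N96374 F438677) (tt N96381 (iv0 F463549)) (tt N119184 (iv2 F514246)) (tt N66408 F438676) (tt N108686 (iv4 F463547)) (tt N66407 (iv5 D205978)) (tt N108685 F463544) (tt N103741 (iv7 F442640)))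
theorem Q102797 : ∀ i, i < 102797 → P i := stepQ 102796 Q102796 (allL N102796 (tt N114420 (iv1 F490064)) (tt N98680 (iv0 F438680)) (tt N103510 (iv2 F441885)) (tt N108685 F463543) (tt N114402 (iv4 F489975)) (tt N68993 F438678) (tt N66408 (iv6 D205979)) (tt N75096 (iv7 F438679)))
theorem Q102798 : ∀ i, i < 102798 → P i := stepQ 102797 Q102797 (allL N102797 (tt N72431 F438683) (tt N77278 (iv0 F438684)) (tt N95938 F438681) (tt N107929 (iv3 F460333)) (tt N106821 (iv4 F455830)) (tt N107928 F460330) (tt N66410 (iv6 D205980)) (tt N96282 F438682))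
theorem Q102799 : ∀ i, i < 102799 → P i := stepQ 102798 Q102798 (allL N102798 (tt N95182 F438690) (tt N94730 F438691) (tt N66412 F438685) (tt N95942 F438686) (tt N99351 F438687) (tt N66411 (iv5 D205981)) (tt N73491 F438688) (tt N95190 F438689))
theorem Q102800 : ∀ i, i < 102800 → P i := stepQ 102799 Q102799 (allL N102799 (tt N95974 F438694) (tt N109548 (iv0 F467458)) (tt N109315 (iv2 F466349)) (tt N80395 F438692) (tt N66423 (iv4 D205982)) (tt N113094 (iv5 F483952)) (tt N107180 (iv6 F457372)) (tt N83185 F438693))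
theorem Q102801 : ∀ i, i < 102801 → P i := stepQ 102800 Q102800 (allL N102800 (tt N104798 F447333) (tt N112042 (iv0 F479221)) (tt N66428 (iv2 D205984)) (tt N101197 F438695) (tt N73559 F438696) (tt N100527 F438697) (tt N117466 F505177) (tt N111807 (iv7 F478074)))
theorem Q102802 : ∀ i, i < 102802 → P i := stepQ 102801 Q102801 (allL N102801 (tt N104796 F447319) (tt N104799 F447339) (tt N104797 (iv2 F447327)) (tt N66431 (iv3 D205985)) (tt N69420 F438698) (tt N94064 F438699) (tt N69419 (iv6 F438701)) (tt N74356 F438700))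
theorem Q102803 : ∀ i, i < 102803 → P i := stepQ 102802 Q102802 (allL N102802 (tt N100146 F438705) (tt N100534 (iv0 F438706)) (tt N102804 (iv2 F438716)) (tt N69419 F438702) (tt N67766 F438703) (tt N81270 F438704) (tt N66431 (iv6 D205986)) (tt N102803 F438712))
theorem Q102804 : ∀ i, i < 102804 → P i := stepQ 102803 Q102803 (allL N102803 (tt N102988 (iv1 F439569)) (tt N66432 (iv0 D205987)) (tt N80701 (iv2 F438710)) (tt N68290 (iv3 F438711)) (tt N66471 F438708) (tt N97070 F438707) (tt N78587 F438709) (tt N102802 (iv7 F438712)))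
theorem Q102805 : ∀ i, i < 102805 → P i := stepQ 102804 Q102804 (allL N102804 (tt N66432 (iv1 D205988)) (tt N102988 (iv0 F439568)) (tt N102802 F438716) (tt N88499 F438717) (tt N66472 F438714) (tt N106449 (iv5 F454502)) (tt N102645 (iv6 F438715)) (tt N80701 F438713))
theorem Q102806 : ∀ i, i < 102806 → P i := stepQ 102805 Q102805 (allL N102805 (tt N77596 F438721) (tt N81269 F438722) (tt N112706 (iv2 F482270)) (tt N77569 F438718) (tt N94250 F438720) (tt N66432 (iv5 D205989)) (tt N112705 (iv6 F482269)) (tt N94249 F438719))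
theorem Q102807 : ∀ i, i < 102807 → P i := stepQ 102806 Q102806 (allL N102806 (tt N112041 (iv1 F479216)) (tt N94243 F476377) (tt N111616 (iv2 F477166)) (tt N66436 (iv3 D205990)) (tt N106164 (iv4 F453405)) (tt N118325 (iv5 F509714)) (tt N111614 (iv6 F477158)) (tt N94251 F438723))
theorem Q102808 : ∀ i, i < 102808 → P i := stepQ 102807 Q102807 (allL N102807 (tt N74367 F438728) (tt N74366 (iv0 F438729)) (tt N74368 F438724) (tt N111614 (iv3 F477157)) (tt N66437 F438725) (tt N74307 F438726) (tt N66436 (iv6 D205991)) (tt N74361 F438727))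
theorem Q102809 : ∀ i, i < 102809 → P i := stepQ 102808 Q102808 (allL N102808 (tt N110105 F470012) (tt N117168 (iv0 F503725)) (tt N108833 (iv2 F464169)) (tt N66438 (iv3 D205992)) (tt N74187 F438730) (tt N77780 F438731) (tt N74186 F438732) (tt N94246 F438733))
theorem Q102810 : ∀ i, i < 102810 → P i := stepQ 102809 Q102809 (allL N102809 (tt N74292 F438737) (tt N74290 (iv0 F438738)) (tt N110677 F472724) (tt N66439 (iv3 D205993)) (tt N72180 F438734) (tt N99058 F438735) (tt N120738 D223997) (tt N94245 F438736))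
theorem Q102811 : ∀ i, i < 102811 → P i := stepQ 102810 Q102810 (allL N102810 (tt N74371 (iv1 F438744)) (tt N74370 (iv0 F438743)) (tt N94247 F438739) (tt N120738 (iv3 F522437)) (tt N72179 F438740) (tt N74276 F438741) (tt N66439 (iv6 D205994)) (tt N72612 F438742))
theorem Q102812 : ∀ i, i < 102812 → P i := stepQ 102811 Q102811 (allL N102811 (tt N90361 (iv1 F438758)) (tt N66440 (iv0 D205995)) (tt N110081 F469893) (tt N110110 (iv3 F470025)) (tt N110440 (iv4 F471597)) (tt N93584 (iv5 F438761)) (tt N110085 (iv6 F469919)) (tt N93583 F438760))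
theorem Q102813 : ∀ i, i < 102813 → P i := stepQ 102812 Q102812 (allL N102812 (tt N110081 F469891) (tt N93583 (iv0 F438748)) (tt N66440 (iv2 D205996)) (tt N89363 F438745) (tt N90227 F438746) (tt N120739 D223998) (tt N94184 F438747) (tt N90361 (iv7 F438749)))
theorem Q102814 : ∀ i, i < 102814 → P i := stepQ 102813 Q102813 (allL N102813 (tt N117879 (iv1 F507399)) (tt N117184 (iv0 F503807)) (tt N120739 (iv2 F522442)) (tt N66441 F438751) (tt N91329 (iv4 F438753)) (tt N66440 (iv5 D205997)) (tt N91328 F438752) (tt N119266 (iv7 F514716)))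
theorem Q102815 : ∀ i, i < 102815 → P i := stepQ 102814 Q102814 (allL N102814 (tt N93583 (iv1 F438759)) (tt N110081 (iv0 F469890)) (tt N90361 F438754) (tt N66442 F438755) (tt N90360 F438756) (tt N119266 (iv5 F514715)) (tt N74300 F438757) (tt N66440 (iv7 D205998)))
theorem Q102816 : ∀ i, i < 102816 → P i := stepQ 102815 Q102815 (allL N102815 (tt N81269 F438772) (tt N77596 F438773) (tt N94249 F438770) (tt N91332 F438771) (tt N66441 (iv4 D205999)) (tt N102988 (iv5 F439565)) (tt N91331 (iv6 F438774)) (tt N112706 (iv7 F482274)))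
theorem Q102817 : ∀ i, i < 102817 → P i := stepQ 102816 Q102816 (allL N102816 (tt N111616 F477170) (tt N94251 (iv0 F438779)) (tt N94243 F438775) (tt N91328 F438776) (tt N91331 F438777) (tt N94185 F438778) (tt N66441 (iv6 D206000)) (tt N112041 (iv7 F479214)))
theorem Q102818 : ∀ i, i < 102818 → P i := stepQ 102817 Q102817 (allL N102817 (tt N94248 (iv1 F438782)) (tt N74264 F438783) (tt N94250 F438780) (tt N119266 (iv3 F514713)) (tt N112706 (iv4 F482272)) (tt N66442 F438781) (tt N82314 F438784) (tt N66441 (iv7 D206001)))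
theorem Q102819 : ∀ i, i < 102819 → P i := stepQ 102818 Q102818 (allL N102818 (tt N91621 F438789) (tt N91618 (iv0 F438790)) (tt N117446 (iv2 F505071)) (tt N78049 F438785) (tt N66445 F438786) (tt N96070 F438787) (tt N66443 (iv6 D206002)) (tt N99282 F438788))
theorem Q102820 : ∀ i, i < 102820 → P i := stepQ 102819 Q102819 (allL N102819 (tt N110334 F471098) (tt N68795 (iv0 F438794)) (tt N104794 (iv2 F447303)) (tt N69167 F438791) (tt N104787 (iv4 F447270)) (tt N82455 F438792) (tt N66444 (iv6 D206003)) (tt N69170 F438793))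
theorem Q102821 : ∀ i, i < 102821 → P i := stepQ 102820 Q102820 (allL N102820 (tt N103200 (iv1 F440537)) (tt N99724 F438797) (tt N66453 F438795) (tt N103195 (iv3 F440512)) (tt N68806 (iv4 F438798)) (tt N66449 (iv5 D206004)) (tt N68805 F438796) (tt N103199 (iv7 F440533)))
theorem Q102822 : ∀ i, i < 102822 → P i := stepQ 102821 Q102821 (allL N102821 (tt N102367 F438801) (tt N68671 F438802) (tt N66457 F438799) (tt N92716 F438800) (tt N66450 (iv4 D206005)) (tt N120601 (iv5 F521688)) (tt N90697 (iv6 F438803)) (tt N103307 (iv7 F441074)))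
theorem Q102823 : ∀ i, i < 102823 → P i := stepQ 102822 Q102822 (allL N102822 (tt N103612 (iv1 F442245)) (tt N100817 (iv0 F438809)) (tt N66458 F438804) (tt N78634 F438805) (tt N90697 F438806) (tt N102275 F438807) (tt N66450 (iv6 D206006)) (tt N78626 F438808))
theorem Q102824 : ∀ i, i < 102824 → P i := stepQ 102823 Q102823 (allL N102823 (tt N66453 (iv1 D206007)) (tt N103199 (iv0 F440534)) (tt N99724 (iv2 F438811)) (tt N108734 (iv3 F463749)) (tt N119006 (iv4 F513242)) (tt N71575 F438810) (tt N120591 (iv6 F521627)) (tt N103200 (iv7 F440538)))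
theorem Q102825 : ∀ i, i < 102825 → P i := stepQ 102824 Q102824 (allL N102824 (tt N104576 F446363) (tt N104659 (iv0 F446739)) (tt N104315 F445203) (tt N120605 (iv3 F521712)) (tt N66455 (iv4 D206008)) (tt N102170 F438813) (tt N68968 F438812) (tt N106443 (iv7 F454467)))
theorem Q102826 : ∀ i, i < 102826 → P i := stepQ 102825 Q102825 (allL N102825 (tt N92911 (iv1 F438820)) (tt N92918 (iv0 F438819)) (tt N69054 F438814) (tt N66456 (iv3 D206009)) (tt N68318 F438817) (tt N81118 F438815) (tt N82505 (iv6 F438818)) (tt N78624 F438816))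
theorem Q102827 : ∀ i, i < 102827 → P i := stepQ 102826 Q102826 (allL N102826 (tt N104659 (iv1 F446740)) (tt N104576 (iv0 F446362)) (tt N106443 (iv2 F454464)) (tt N97474 (iv3 F438823)) (tt N66456 (iv4 D206010)) (tt N97473 F438822) (tt N120740 D223999) (tt N104315 (iv7 F445202)))
theorem Q102828 : ∀ i, i < 102828 → P i := stepQ 102827 Q102827 (allL N102827 (tt N77341 F438828) (tt N77340 F438829) (tt N77343 F438824) (tt N82505 F438825) (tt N120740 (iv4 F522449)) (tt N67005 F438826) (tt N66456 (iv6 D206011)) (tt N67008 F438827))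
theorem Q102829 : ∀ i, i < 102829 → P i := stepQ 102828 Q102828 (allL N102828 (tt N66457 (iv1 D206012)) (tt N103307 F441073) (tt N68671 (iv2 F438832)) (tt N95676 (iv3 F438833)) (tt N69058 F438831) (tt N102198 F438834) (tt N101717 F443419) (tt N102367 F438830))
theorem Q102830 : ∀ i, i < 102830 → P i := stepQ 102829 Q102829 (allL N102829 (tt N97439 (iv1 F438837)) (tt N102294 (iv0 F438836)) (tt N120601 (iv2 F521691)) (tt N71848 F438835) (tt N116049 (iv4 F498233)) (tt N66457 (iv5 D206013)) (tt N117991 (iv6 F507953)) (tt N120600 F521684))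
theorem Q102831 : ∀ i, i < 102831 → P i := stepQ 102830 Q102830 (allL N102830 (tt N66458 (iv1 D206014)) (tt N78626 F438838) (tt N100817 (iv2 F438840)) (tt N103608 (iv3 F442221)) (tt N104305 (iv4 F445149)) (tt N100815 F438839) (tt N111825 (iv6 F478164)) (tt N103612 (iv7 F442244)))
theorem Q102832 : ∀ i, i < 102832 → P i := stepQ 102831 Q102831 (allL N102831 (tt N100817 (iv1 F438847)) (tt N103612 (iv0 F442247)) (tt N78626 F438842) (tt N66463 F438843) (tt N87659 F438844) (tt N100675 F438845) (tt N68237 F438846) (tt N66458 (iv7 D206015)))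
theorem Q102833 : ∀ i, i < 102833 → P i := stepQ 102832 Q102832 (allL N102832 (tt N76585 F438853) (tt N76588 (iv0 F438854)) (tt N68264 F438848) (tt N76757 F438849) (tt N71959 F438850) (tt N99601 F438851) (tt N66461 (iv6 D206016)) (tt N76757 F438852))
theorem Q102834 : ∀ i, i < 102834 → P i := stepQ 102833 Q102833 (allL N102833 (tt N95192 F438858) (tt N82441 F438859) (tt N94760 F438855) (tt N112416 (iv3 F481011)) (tt N66462 (iv4 D206017)) (tt N116346 (iv5 F499648)) (tt N66464 F438856) (tt N100676 F438857))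
theorem Q102835 : ∀ i, i < 102835 → P i := stepQ 102834 Q102834 (allL N102834 (tt N66464 (iv1 D206018)) (tt N94746 F438860) (tt N94725 F438864) (tt N82444 (iv3 F438863)) (tt N94024 F438862) (tt N114475 (iv5 F490374)) (tt N96038 F438865) (tt N94758 F438861))
theorem Q102836 : ∀ i, i < 102836 → P i := stepQ 102835 Q102835 (allL N102835 (tt N95185 F438867) (tt N118745 (iv0 F511859)) (tt N94759 F438866) (tt N118932 (iv3 F512815)) (tt N103523 (iv4 F441936)) (tt N66464 (iv5 D206019)) (tt N85308 (iv6 F438868)) (tt N103522 F441933))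
theorem Q102837 : ∀ i, i < 102837 → P i := stepQ 102836 Q102836 (allL N102836 (tt N94725 (iv1 F438872)) (tt N94758 F438873) (tt N94746 F438869) (tt N94750 F438870) (tt N66465 F438871) (tt N103522 (iv5 F441932)) (tt N111425 (iv6 F476304)) (tt N66464 (iv7 D206020)))
theorem Q102838 : ∀ i, i < 102838 → P i := stepQ 102837 Q102837 (allL N102837 (tt N66473 F438878) (tt N70107 (iv0 F438879)) (tt N77730 F438874) (tt N105729 (iv3 F451443)) (tt N102645 F438875) (tt N77724 F438876) (tt N66472 (iv6 D206021)) (tt N80668 F438877))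
theorem Q102839 : ∀ i, i < 102839 → P i := stepQ 102838 Q102838 (allL N102838 (tt N96988 (iv1 F438882)) (tt N101833 F438881) (tt N66480 (iv2 D206022)) (tt N102859 (iv3 F438972)) (tt N120741 D224000) (tt N99303 F438880) (tt N102859 (iv6 F438973)) (tt N102860 (iv7 F438980)))
theorem Q102840 : ∀ i, i < 102840 → P i := stepQ 102839 Q102839 (allL N102839 (tt N102723 F438885) (tt N103776 F443133) (tt N120741 (iv2 F522454)) (tt N92538 F438883) (tt N66480 (iv4 D206023)) (tt N114660 (iv5 F491251)) (tt N102857 (iv6 F438967)) (tt N102792 F438884))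
theorem Q102841 : ∀ i, i < 102841 → P i := stepQ 102840 Q102840 (allL N102840 (tt N69131 (iv1 F438889)) (tt N69169 F438888) (tt N66481 (iv2 D206024)) (tt N102860 (iv3 F438977)) (tt N111249 (iv4 F475429)) (tt N99265 F438886) (tt N69118 F438887) (tt N102859 (iv7 F438974)))
theorem Q102842 : ∀ i, i < 102842 → P i := stepQ 102841 Q102841 (allL N102841 (tt N102714 F438892) (tt N75712 F438893) (tt N111249 F475430) (tt N69350 F438890) (tt N66481 (iv4 D206025)) (tt N107037 F456736) (tt N69348 F438891) (tt N102857 (iv7 F438968)))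
theorem Q102843 : ∀ i, i < 102843 → P i := stepQ 102842 Q102842 (allL N102842 (tt N117999 F508009) (tt N101710 F438897) (tt N66483 F438894) (tt N97543 F438895) (tt N66482 (iv4 D206026)) (tt N120603 (iv5 F521701)) (tt N97541 F438896) (tt N103441 (iv7 F441653)))
theorem Q102844 : ∀ i, i < 102844 → P i := stepQ 102843 Q102843 (allL N102843 (tt N103441 (iv1 F441655)) (tt N66483 (iv0 D206027)) (tt N117999 (iv2 F508003)) (tt N68746 F438899) (tt N69173 F438898) (tt N97439 (iv5 F438900)) (tt N68745 (iv6 F438901)) (tt N101710 (iv7 F438902)))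
theorem Q102845 : ∀ i, i < 102845 → P i := stepQ 102844 Q102844 (allL N102844 (tt N104319 (iv1 F445222)) (tt N102059 F438905) (tt N120603 (iv2 F521705)) (tt N71642 F438903) (tt N102217 F438906) (tt N66483 (iv5 D206028)) (tt N96636 F438904) (tt N120602 (iv7 F521696)))
theorem Q102846 : ∀ i, i < 102846 → P i := stepQ 102845 Q102845 (allL N102845 (tt N71897 F438912) (tt N105587 (iv0 F450857)) (tt N92154 F438907) (tt N66486 (iv3 D206029)) (tt N74921 F438908) (tt N71381 F438909) (tt N74920 F438910) (tt N71000 F438911))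
theorem Q102847 : ∀ i, i < 102847 → P i := stepQ 102846 Q102846 (allL N102846 (tt N69204 F438915) (tt N69200 (iv0 F438916)) (tt N111248 (iv2 F475424)) (tt N90394 F438913) (tt N66491 (iv4 D206030)) (tt N114983 (iv5 F492905)) (tt N83626 F438914) (tt N103891 (iv7 F443239)))
theorem Q102848 : ∀ i, i < 102848 → P i := stepQ 102847 Q102847 (allL N102847 (tt N69170 F438921) (tt N104794 (iv0 F447307)) (tt N110334 (iv2 F471093)) (tt N66492 (iv3 D206031)) (tt N68800 F438917) (tt N80071 F438918) (tt N70050 F438919) (tt N68795 F438920))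
theorem Q102849 : ∀ i, i < 102849 → P i := stepQ 102848 Q102848 (allL N102848 (tt N104254 (iv1 F444958)) (tt N100341 F438926) (tt N100698 F438922) (tt N66500 F438923) (tt N68550 F438924) (tt N66499 (iv5 D206032)) (tt N104233 (iv6 F444842)) (tt N68546 F438925))
theorem Q102850 : ∀ i, i < 102850 → P i := stepQ 102849 Q102849 (allL N102849 (tt N66500 (iv1 D206033)) (tt N66506 F438927) (tt N95766 F438933) (tt N78738 (iv3 F438931)) (tt N95594 F438930) (tt N94065 F438929) (tt N82350 (iv6 F438932)) (tt N95765 F438928))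
theorem Q102851 : ∀ i, i < 102851 → P i := stepQ 102850 Q102850 (allL N102850 (tt N66507 (iv1 F438939)) (tt N66503 (iv0 D206034)) (tt N94065 (iv2 F438938)) (tt N95773 F438936) (tt N68065 F438935) (tt N95766 F438934) (tt N68064 F438937) (tt N71371 F438940))
theorem Q102852 : ∀ i, i < 102852 → P i := stepQ 102851 Q102851 (allL N102851 (tt N76562 F438945) (tt N76564 F438946) (tt N68545 F438941) (tt N69296 F438942) (tt N79856 F438943) (tt N69295 F438944) (tt N66506 (iv6 D206035)) (tt N84138 F438947))
theorem Q102853 : ∀ i, i < 102853 → P i := stepQ 102852 Q102852 (allL N102852 (tt N110561 F472152) (tt N106945 (iv0 F456395)) (tt N110559 F472140) (tt N66512 F438948) (tt N112310 (iv4 F480482)) (tt N66511 (iv5 D206036)) (tt N116128 F498626) (tt N93651 F438949))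
theorem Q102854 : ∀ i, i < 102854 → P i := stepQ 102853 Q102853 (allL N102853 (tt N80836 F438951) (tt N119077 (iv0 F513663)) (tt N119079 (iv2 F513672)) (tt N66513 F438950) (tt N106065 (iv4 F452966)) (tt N120742 D224001) (tt N66511 (iv6 D206037)) (tt N119081 (iv7 F513686)))
theorem Q102855 : ∀ i, i < 102855 → P i := stepQ 102854 Q102854 (allL N102854 (tt N74546 F438954) (tt N74544 F438955) (tt N93402 F438952) (tt N120742 (iv3 F522461)) (tt N120566 (iv4 F521490)) (tt N66513 (iv5 D206038)) (tt N117447 (iv6 F505080)) (tt N93403 F438953))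
theorem Q102856 : ∀ i, i < 102856 → P i := stepQ 102855 Q102855 (allL N102855 (tt N66514 (iv1 D206039)) (tt N95675 F438956) (tt N97525 F438960) (tt N112072 (iv3 F479356)) (tt N97658 F438958) (tt N72902 (iv5 F438959)) (tt N103324 F441142) (tt N102366 F438957))
theorem Q102857 : ∀ i, i < 102857 → P i := stepQ 102856 Q102856 (allL N102856 (tt N71459 F438964) (tt N70929 F438965) (tt N71458 F438961) (tt N70894 F438962) (tt N66516 (iv4 D206040)) (tt N120743 D224002) (tt N111335 (iv6 F475879)) (tt N71439 F438963))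
theorem Q102858 : ∀ i, i < 102858 → P i := stepQ 102857 Q102857 (allL N102857 (tt N103558 F442036) (tt N78913 (iv0 F438969)) (tt N109433 F466934) (tt N66517 (iv3 D206041)) (tt N66518 F438966) (tt N109426 (iv5 F466899)) (tt N102839 F438967) (tt N102841 F438968))
theorem Q102859 : ∀ i, i < 102859 → P i := stepQ 102858 Q102858 (allL N102858 (tt N69025 F438970) (tt N68898 F438971) (tt N103701 F442529) (tt N109426 (iv3 F466903)) (tt N118930 (iv4 F512803)) (tt N66517 (iv5 D206042)) (tt N109149 (iv6 F465579)) (tt N103702 (iv7 F442531)))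
theorem Q102860 : ∀ i, i < 102860 → P i := stepQ 102859 Q102859 (allL N102859 (tt N99173 (iv1 F438976)) (tt N82209 F438975) (tt N66518 (iv2 D206043)) (tt N102838 F438972) (tt N109433 (iv4 F466933)) (tt N103749 (iv5 F442658)) (tt N102838 F438973) (tt N102840 F438974))
theorem Q102861 : ∀ i, i < 102861 → P i := stepQ 102860 Q102860 (allL N102860 (tt N67829 (iv1 F438982)) (tt N67909 F438981) (tt N66519 (iv2 D206044)) (tt N102840 F438977) (tt N120726 (iv4 F522377)) (tt N72940 F438978) (tt N67815 F438979) (tt N102838 F438980))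
theorem Q102862 : ∀ i, i < 102862 → P i := stepQ 102861 Q102861 (allL N102861 (tt N96072 F438987) (tt N99172 (iv0 F438988)) (tt N89304 F438983) (tt N66522 (iv3 D206045)) (tt N67146 F438984) (tt N108604 (iv5 F463216)) (tt N75929 F438985) (tt N97286 F438986))
theorem Q102863 : ∀ i, i < 102863 → P i := stepQ 102862 Q102862 (allL N102862 (tt N93612 F438993) (tt N108481 (iv0 F462780)) (tt N108472 (iv2 F462734)) (tt N78344 F438989) (tt N66526 (iv4 D206046)) (tt N97359 F438992) (tt N94529 F438990) (tt N97323 F438991))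
theorem Q102864 : ∀ i, i < 102864 → P i := stepQ 102863 Q102863 (allL N102863 (tt N103220 (iv1 F440642)) (tt N67127 F438996) (tt N103217 F440621) (tt N82481 F438994) (tt N66527 (iv4 D206047)) (tt N111757 (iv5 F477815)) (tt N82476 F438995) (tt N103218 (iv7 F440624)))
theorem Q102865 : ∀ i, i < 102865 → P i := stepQ 102864 Q102864 (allL N102864 (tt N108606 F463224) (tt N112427 F481046) (tt N86812 F438997) (tt N66528 (iv3 D206048)) (tt N69479 F438999) (tt N111809 (iv5 F478085)) (tt N69478 (iv6 F438998)) (tt N111808 (iv7 F478080)))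
theorem Q102866 : ∀ i, i < 102866 → P i := stepQ 102865 Q102865 (allL N102865 (tt N67127 F439002) (tt N103220 F440641) (tt N103218 (iv2 F440627)) (tt N68387 F439000) (tt N66528 (iv4 D206049)) (tt N67299 F439001) (tt N68386 (iv6 F439003)) (tt N103217 F440622))
theorem Q102867 : ∀ i, i < 102867 → P i := stepQ 102866 Q102866 (allL N102866 (tt N87563 F439007) (tt N97319 F439008) (tt N115690 (iv2 F496332)) (tt N69478 F439004) (tt N68386 F439005) (tt N115263 (iv5 F494268)) (tt N66528 (iv6 D206050)) (tt N86807 F439006))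
theorem Q102868 : ∀ i, i < 102868 → P i := stepQ 102867 Q102867 (allL N102867 (tt N66529 (iv1 D206051)) (tt N100647 F439009) (tt N98759 F439013) (tt N81651 F439014) (tt N98004 F439010) (tt N81648 (iv5 F439012)) (tt N71735 (iv6 F439011)) (tt N111293 (iv7 F475671)))
theorem Q102869 : ∀ i, i < 102869 → P i := stepQ 102868 Q102868 (allL N102868 (tt N98759 (iv1 F439020)) (tt N111293 (iv0 F475672)) (tt N100647 F439016) (tt N110602 F472339) (tt N81438 F439017) (tt N66530 F439018) (tt N97677 F439019) (tt N66529 (iv7 D206052)))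
theorem Q102870 : ∀ i, i < 102870 → P i := stepQ 102869 Q102869 (allL N102869 (tt N118416 F510237) (tt N117669 (iv0 F506324)) (tt N106104 (iv2 F453125)) (tt N66533 F439021) (tt N117882 (iv4 F507412)) (tt N91978 F439022) (tt N66531 (iv6 D206053)) (tt N119320 (iv7 F515001)))
theorem Q102871 : ∀ i, i < 102871 → P i := stepQ 102870 Q102870 (allL N102870 (tt N103205 (iv1 F440564)) (tt N66537 (iv0 D206054)) (tt N92644 (iv2 F439024)) (tt N89916 F439028) (tt N96088 F439025) (tt N79970 F439023) (tt N96087 F439026) (tt N74022 F439027))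
theorem Q102872 : ∀ i, i < 102872 → P i := stepQ 102871 Q102871 (allL N102871 (tt N92644 (iv1 F439030)) (tt N74022 F439029) (tt N66537 (iv2 D206055)) (tt N106882 (iv3 F456115)) (tt N108106 (iv4 F461129)) (tt N86973 (iv5 F439031)) (tt N108931 F464549) (tt N103205 (iv7 F440565)))
theorem Q102873 : ∀ i, i < 102873 → P i := stepQ 102872 Q102872 (allL N102872 (tt N117952 (iv1 F507762)) (tt N102994 (iv0 F439595)) (tt N86973 F439032) (tt N66538 F439033) (tt N66777 F439034) (tt N66537 (iv5 D206056)) (tt N66775 F439035) (tt N106884 (iv7 F456123)))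
theorem Q102874 : ∀ i, i < 102874 → P i := stepQ 102873 Q102873 (allL N102873 (tt N93611 (iv1 F439038)) (tt N93617 (iv0 F439039)) (tt N108931 F464548) (tt N66539 F439036) (tt N74636 F439037) (tt N106725 (iv5 F455421)) (tt N66537 (iv6 D206057)) (tt N108930 (iv7 F464544)))
theorem Q102875 : ∀ i, i < 102875 → P i := stepQ 102874 Q102874 (allL N102874 (tt N67155 (iv1 F439042)) (tt N95398 F439041) (tt N66540 (iv2 D206058)) (tt N103205 F440566) (tt N90933 F439040) (tt N75898 F439043) (tt N97233 (iv6 F439044)) (tt N106882 (iv7 F456116)))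
theorem Q102876 : ∀ i, i < 102876 → P i := stepQ 102875 Q102875 (allL N102875 (tt N75854 (iv1 F439054)) (tt N75852 F439052) (tt N75898 F439048) (tt N66541 F439049) (tt N73932 F439051) (tt N66540 (iv5 D206059)) (tt N79934 (iv6 F439055)) (tt N75899 F439050))
theorem Q102877 : ∀ i, i < 102877 → P i := stepQ 102876 Q102876 (allL N102876 (tt N66542 (iv1 D206060)) (tt N93696 F439056) (tt N110659 (iv2 F472630)) (tt N107346 (iv3 F458042)) (tt N101862 F439059) (tt N74293 F439058) (tt N96255 (iv6 F439060)) (tt N77860 F439057))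
theorem Q102878 : ∀ i, i < 102878 → P i := stepQ 102877 Q102877 (allL N102877 (tt N99197 F439066) (tt N96837 (iv0 F439067)) (tt N73687 F439061) (tt N66549 (iv3 D206061)) (tt N73651 F439062) (tt N80459 F439063) (tt N81683 F439064) (tt N73685 F439065))
theorem Q102879 : ∀ i, i < 102879 → P i := stepQ 102878 Q102878 (allL N102878 (tt N90400 (iv1 F439071)) (tt N112373 F480783) (tt N96157 F439068) (tt N66560 F439069) (tt N66565 F439070) (tt N114797 (iv5 F491924)) (tt N66558 (iv6 D206062)) (tt N108324 (iv7 F462065)))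
theorem Q102880 : ∀ i, i < 102880 → P i := stepQ 102879 Q102879 (allL N102879 (tt N111333 (iv1 F475870)) (tt N111337 (iv0 F475889)) (tt N109636 (iv2 F467862)) (tt N107190 (iv3 F457408)) (tt N100237 F439072) (tt N66578 (iv5 D206063)) (tt N107188 (iv6 F457405)) (tt N109775 (iv7 F468557)))
theorem Q102881 : ∀ i, i < 102881 → P i := stepQ 102880 Q102880 (allL N102880 (tt N98722 (iv1 F439074)) (tt N66580 (iv0 D206064)) (tt N98549 (iv2 F439075)) (tt N111328 (iv3 F475844)) (tt N98539 (iv4 F439076)) (tt N105904 (iv5 F452278)) (tt N76304 F439073) (tt N98723 (iv7 F439077)))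
theorem Q102882 : ∀ i, i < 102882 → P i := stepQ 102881 Q102881 (allL N102881 (tt N66580 (iv1 D206065)) (tt N98722 F439078) (tt N98723 (iv2 F439081)) (tt N93984 (iv3 F439082)) (tt N98551 F439080) (tt N105905 F452280) (tt N105765 F451600) (tt N98549 F439079))
theorem Q102883 : ∀ i, i < 102883 → P i := stepQ 102882 Q102882 (allL N102882 (tt N111337 (iv1 F475890)) (tt N111333 (iv0 F475869)) (tt N109775 (iv2 F468553)) (tt N90694 F439085) (tt N66581 (iv4 D206066)) (tt N85083 F439083) (tt N94166 F439084) (tt N109636 (iv7 F467863)))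
theorem Q102884 : ∀ i, i < 102884 → P i := stepQ 102883 Q102883 (allL N102883 (tt N103328 (iv1 F441159)) (tt N87459 F439090) (tt N95375 F439086) (tt N95392 F439087) (tt N66582 (iv4 D206067)) (tt N96078 F439088) (tt N111619 (iv6 F477182)) (tt N87728 F439089))
theorem Q102885 : ∀ i, i < 102885 → P i := stepQ 102884 Q102884 (allL N102884 (tt N92014 F439095) (tt N92051 F439096) (tt N97048 F439091) (tt N67492 F439092) (tt N111619 (iv4 F477181)) (tt N93988 F439093) (tt N66582 (iv6 D206068)) (tt N97518 F439094))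
theorem Q102886 : ∀ i, i < 102886 → P i := stepQ 102885 Q102885 (allL N102885 (tt N80156 (iv1 F439102)) (tt N92118 (iv0 F439101)) (tt N97837 F439097) (tt N66583 (iv3 D206069)) (tt N109598 (iv4 F467654)) (tt N92101 F439098) (tt N101713 F439099) (tt N97047 F439100))
theorem Q102887 : ∀ i, i < 102887 → P i := stepQ 102886 Q102886 (allL N102886 (tt N93966 (iv1 F439107)) (tt N97769 F439108) (tt N97771 F439103) (tt N67468 F439104) (tt N118706 (iv4 F511649)) (tt N95817 F439105) (tt N97778 F439106) (tt N66588 (iv7 D206070)))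
theorem Q102888 : ∀ i, i < 102888 → P i := stepQ 102887 Q102887 (allL N102887 (tt N97724 F439112) (tt N97723 (iv0 F439114)) (tt N66593 F439109) (tt N67829 F439113) (tt N66589 (iv4 D206071)) (tt N102657 F439110) (tt N67826 (iv6 F439115)) (tt N97721 F439111))
theorem Q102889 : ∀ i, i < 102889 → P i := stepQ 102888 Q102888 (allL N102888 (tt N69234 (iv1 F439123)) (tt N69259 (iv0 F439122)) (tt N66594 F439118) (tt N68838 F439119) (tt N67826 F439120) (tt N113164 (iv5 F484282)) (tt N66589 (iv6 D206072)) (tt N69258 F439121))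
theorem Q102890 : ∀ i, i < 102890 → P i := stepQ 102889 Q102889 (allL N102889 (tt N97738 (iv1 F439129)) (tt N92107 (iv0 F439128)) (tt N97655 F439124) (tt N101888 F439125) (tt N102635 F439126) (tt N118697 (iv5 F511600)) (tt N66591 (iv6 D206073)) (tt N97737 F439127))
theorem Q102891 : ∀ i, i < 102891 → P i := stepQ 102890 Q102890 (allL N102890 (tt N98006 F439134) (tt N92100 (iv0 F439135)) (tt N98005 F439130) (tt N66592 (iv3 D206074)) (tt N117973 (iv4 F507862)) (tt N67244 F439131) (tt N67247 F439132) (tt N97652 F439133))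
theorem Q102892 : ∀ i, i < 102892 → P i := stepQ 102891 Q102891 (allL N102891 (tt N66593 (iv1 D206075)) (tt N97721 F439136) (tt N97723 F439141) (tt N93772 (iv3 F439140)) (tt N95179 F439139) (tt N93771 F439138) (tt N104416 (iv6 F445659)) (tt N97724 F439137))
theorem Q102893 : ∀ i, i < 102893 → P i := stepQ 102892 Q102892 (allL N102892 (tt N66594 (iv1 D206076)) (tt N69258 F439142) (tt N69259 F439146) (tt N92184 F439147) (tt N69141 F439148) (tt N92183 F439144) (tt N69288 (iv6 F439145)) (tt N69234 F439143))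
theorem Q102894 : ∀ i, i < 102894 → P i := stepQ 102893 Q102893 (allL N102893 (tt N69259 (iv1 F439152)) (tt N69234 F439153) (tt N69258 F439149) (tt N66600 F439150) (tt N104396 (iv4 F445581)) (tt N110279 (iv5 F470806)) (tt N97727 F439151) (tt N66594 (iv7 D206077)))
theorem Q102895 : ∀ i, i < 102895 → P i := stepQ 102894 Q102894 (allL N102894 (tt N101689 (iv1 F439159)) (tt N101499 (iv0 F439158)) (tt N101688 (iv2 F439157)) (tt N66595 (iv3 D206078)) (tt N94855 F439156) (tt N90425 F439154) (tt N111939 (iv6 F478772)) (tt N94851 F439155))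
theorem Q102896 : ∀ i, i < 102896 → P i := stepQ 102895 Q102895 (allL N102895 (tt N79803 F439161) (tt N117036 F503077) (tt N111830 (iv2 F478188)) (tt N93840 (iv3 F439162)) (tt N66595 (iv4 D206079)) (tt N106938 (iv5 F456360)) (tt N93839 F439160) (tt N117035 (iv7 F503070)))
theorem Q102897 : ∀ i, i < 102897 → P i := stepQ 102896 Q102896 (allL N102896 (tt N68740 (iv1 F439168)) (tt N68739 (iv0 F439169)) (tt N68741 F439163) (tt N82386 F439164) (tt N92165 F439165) (tt N82385 F439166) (tt N66598 (iv6 D206080)) (tt N68734 F439167))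
theorem Q102898 : ∀ i, i < 102898 → P i := stepQ 102897 Q102897 (allL N102897 (tt N97736 (iv1 F439177)) (tt N66599 (iv0 D206081)) (tt N88724 (iv2 F439173)) (tt N103301 (iv3 F441048)) (tt N120616 (iv4 F521774)) (tt N103300 F441046) (tt N88723 F439174) (tt N97734 (iv7 F439175)))
theorem Q102899 : ∀ i, i < 102899 → P i := stepQ 102898 Q102898 (allL N102898 (tt N66599 (iv1 D206082)) (tt N97736 F439170) (tt N97734 F439176) (tt N88728 (iv3 F439171)) (tt N120617 (iv4 F521782)) (tt N102938 (iv5 F439345)) (tt N103466 (iv6 F441749)) (tt N88724 F439172))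
theorem Q102900 : ∀ i, i < 102900 → P i := stepQ 102899 Q102899 (allL N102899 (tt N117960 F507797) (tt N119417 (iv0 F515513)) (tt N97735 F439178) (tt N115404 (iv3 F495022)) (tt N66599 (iv4 D206083)) (tt N120744 D224003) (tt N66605 F439179) (tt N120745 D224004))
theorem Q102901 : ∀ i, i < 102901 → P i := stepQ 102900 Q102900 (allL N102900 (tt N97734 (iv1 F439182)) (tt N88724 F439183) (tt N97736 F439180) (tt N110279 (iv3 F470804)) (tt N120745 (iv4 F522478)) (tt N66600 F439181) (tt N104435 (iv6 F445747)) (tt N66599 (iv7 D206084)))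
theorem Q102902 : ∀ i, i < 102902 → P i := stepQ 102901 Q102901 (allL N102901 (tt N116213 (iv1 F499047)) (tt N97750 F439188) (tt N90421 F439184) (tt N66602 F439185) (tt N84927 F439187) (tt N66601 (iv5 D206085)) (tt N115830 (iv6 F497128)) (tt N97576 F439186))
theorem Q102903 : ∀ i, i < 102903 → P i := stepQ 102902 Q102902 (allL N102902 (tt N118993 (iv1 F513168)) (tt N118994 (iv0 F513171)) (tt N97573 F439189) (tt N104666 (iv3 F446773)) (tt N66602 (iv4 D206086)) (tt N101935 F439191) (tt N115831 (iv6 F497131)) (tt N97577 F439190))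
theorem Q102904 : ∀ i, i < 102904 → P i := stepQ 102903 Q102903 (allL N102903 (tt N97903 F439196) (tt N117512 (iv0 F505437)) (tt N88652 F439192) (tt N66603 (iv3 D206087)) (tt N120660 (iv4 F522015)) (tt N115763 (iv5 F496734)) (tt N92677 (iv6 F439194)) (tt N97849 F439193))
theorem Q102905 : ∀ i, i < 102905 → P i := stepQ 102904 Q102904 (allL N102904 (tt N97570 F439199) (tt N92064 F439200) (tt N97566 F439197) (tt N104527 (iv3 F446153)) (tt N66603 (iv4 D206088)) (tt N104525 F446138) (tt N119445 (iv6 F515659)) (tt N97567 F439198))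
theorem Q102906 : ∀ i, i < 102906 → P i := stepQ 102905 Q102905 (allL N102905 (tt N96096 F439205) (tt N97493 F439206) (tt N97848 F439201) (tt N92677 F439202) (tt N119445 (iv4 F515657)) (tt N92676 F439203) (tt N66603 (iv6 D206089)) (tt N92688 F439204))
theorem Q102907 : ∀ i, i < 102907 → P i := stepQ 102906 Q102906 (allL N102906 (tt N92064 F439212) (tt N97570 F439213) (tt N97567 F439208) (tt N88661 F439209) (tt N66604 (iv4 D206090)) (tt N118379 (iv5 F510032)) (tt N92924 F439210) (tt N97566 F439211))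
theorem Q102908 : ∀ i, i < 102908 → P i := stepQ 102907 Q102907 (allL N102907 (tt N98536 F439214) (tt N105745 F451503) (tt N103495 (iv2 F441859)) (tt N66605 (iv3 D206091)) (tt N106849 F455977) (tt N120746 D224005) (tt N115404 (iv6 F495023)) (tt N120747 D224006))
theorem Q102909 : ∀ i, i < 102909 → P i := stepQ 102908 Q102908 (allL N102908 (tt N93438 F439218) (tt N118249 (iv0 F509365)) (tt N97852 F439215) (tt N120746 (iv3 F522483)) (tt N74565 F439216) (tt N66605 (iv5 D206092)) (tt N120748 D224007) (tt N74564 F439217))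
theorem Q102910 : ∀ i, i < 102910 → P i := stepQ 102909 Q102909 (allL N102909 (tt N97851 (iv1 F439222)) (tt N97850 F439223) (tt N97853 F439219) (tt N120747 (iv3 F522490)) (tt N66606 F439220) (tt N74564 F439221) (tt N119520 (iv6 F516033)) (tt N66605 (iv7 D206093)))
theorem Q102911 : ∀ i, i < 102911 → P i := stepQ 102910 Q102910 (allL N102910 (tt N120749 D224008) (tt N102719 (iv0 F439228)) (tt N119274 (iv2 F514759)) (tt N66607 (iv3 D206094)) (tt N67909 F439224) (tt N99981 F439225) (tt N67908 (iv6 F439227)) (tt N97792 F439226))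
theorem Q102912 : ∀ i, i < 102912 → P i := stepQ 102911 Q102911 (allL N102911 (tt N115399 (iv1 F494999)) (tt N102619 F439233) (tt N66611 F439229) (tt N67908 F439230) (tt N66608 F439231) (tt N88736 (iv5 F439232)) (tt N66607 (iv6 D206095)) (tt N117344 (iv7 F504571)))
theorem Q102913 : ∀ i, i < 102913 → P i := stepQ 102912 Q102912 (allL N102912 (tt N66614 (iv1 F439235)) (tt N66608 (iv0 D206096)) (tt N66612 (iv2 F439236)) (tt N108787 (iv3 F463934)) (tt N116227 (iv4 F499126)) (tt N108795 (iv5 F463981)) (tt N83645 F439234) (tt N66613 (iv7 F439237)))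
theorem Q102914 : ∀ i, i < 102914 → P i := stepQ 102913 Q102913 (allL N102913 (tt N66608 (iv1 D206097)) (tt N66614 F439238) (tt N66613 F439243) (tt N84947 (iv3 F439241)) (tt N98717 F439244) (tt N74777 F439240) (tt N74780 (iv6 F439242)) (tt N66612 F439239))
theorem Q102915 : ∀ i, i < 102915 → P i := stepQ 102914 Q102914 (allL N102914 (tt N97728 (iv1 F439247)) (tt N66609 (iv0 D206098)) (tt N97730 (iv2 F439255)) (tt N71752 F439246) (tt N104427 (iv4 F445710)) (tt N109169 (iv5 F465659)) (tt N102622 (iv6 F439248)) (tt N97729 (iv7 F439249)))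
theorem Q102916 : ∀ i, i < 102916 → P i := stepQ 102915 Q102915 (allL N102915 (tt N66609 (iv1 D206099)) (tt N97728 F439254) (tt N97729 F439251) (tt N118997 (iv3 F513188)) (tt N102345 (iv4 F439250)) (tt N109170 (iv5 F465662)) (tt N120750 D224009) (tt N97730 F439252))
theorem Q102917 : ∀ i, i < 102917 → P i := stepQ 102916 Q102916 (allL N102916 (tt N97730 (iv1 F439259)) (tt N97729 F439258) (tt N66609 (iv2 D206100)) (tt N119274 (iv3 F514760)) (tt N66617 F439256) (tt N103192 (iv5 F440498)) (tt N117758 (iv6 F506823)) (tt N97728 F439257))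
theorem Q102918 : ∀ i, i < 102918 → P i := stepQ 102917 Q102917 (allL N102917 (tt N117760 (iv1 F506839)) (tt N117755 (iv0 F506807)) (tt N117758 F506824) (tt N66611 F439260) (tt N66618 F439261) (tt N88738 (iv5 F439262)) (tt N66609 (iv6 D206101)) (tt N117759 (iv7 F506828)))
theorem Q102919 : ∀ i, i < 102919 → P i := stepQ 102918 Q102918 (allL N102918 (tt N120751 D224010) (tt N120746 (iv0 F522485)) (tt N99982 F439263) (tt N98506 F439264) (tt N99975 F439265) (tt N88739 F439266) (tt N66610 (iv6 D206102)) (tt N104592 (iv7 F446446)))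
theorem Q102920 : ∀ i, i < 102920 → P i := stepQ 102919 Q102919 (allL N102919 (tt N117344 (iv1 F504573)) (tt N66611 (iv0 D206103)) (tt N115399 (iv2 F494994)) (tt N95108 F439270) (tt N97961 F439268) (tt N95107 F439267) (tt N117342 F504560) (tt N102619 (iv7 F439269)))
theorem Q102921 : ∀ i, i < 102921 → P i := stepQ 102920 Q102920 (allL N102920 (tt N102619 (iv1 F439274)) (tt N115399 (iv0 F494998)) (tt N117344 (iv2 F504567)) (tt N117759 F506830) (tt N66614 F439271) (tt N84017 F439272) (tt N97810 F439273) (tt N66611 (iv7 D206104)))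
theorem Q102922 : ∀ i, i < 102922 → P i := stepQ 102921 Q102921 (allL N102921 (tt N67883 F439277) (tt N109145 F465559) (tt N116227 (iv2 F499124)) (tt N120752 D224011) (tt N66612 (iv4 D206105)) (tt N113795 (iv5 F487146)) (tt N84943 F439275) (tt N98717 F439276))
theorem Q102923 : ∀ i, i < 102923 → P i := stepQ 102922 Q102922 (allL N102922 (tt N94130 (iv1 F439280)) (tt N82998 (iv0 F439279)) (tt N108788 (iv2 F463942)) (tt N66613 (iv3 D206106)) (tt N86817 F439278) (tt N108792 (iv5 F463963)) (tt N105572 F450792) (tt N108787 F463935))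
theorem Q102924 : ∀ i, i < 102924 → P i := stepQ 102923 Q102923 (allL N102923 (tt N109145 F465557) (tt N67883 (iv0 F439283)) (tt N98717 F439281) (tt N109156 (iv3 F465613)) (tt N66613 (iv4 D206107)) (tt N109154 (iv5 F465604)) (tt N67856 F439282) (tt N116227 (iv7 F499128)))
theorem Q102925 : ∀ i, i < 102925 → P i := stepQ 102924 Q102924 (allL N102924 (tt N92101 (iv1 F439289)) (tt N98008 F439290) (tt N98007 F439284) (tt N66615 (iv3 D206108)) (tt N97547 F439287) (tt N75409 F439285) (tt N77236 (iv6 F439288)) (tt N97668 F439286))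
theorem Q102926 : ∀ i, i < 102926 → P i := stepQ 102925 Q102925 (allL N102925 (tt N117974 (iv1 F507871)) (tt N116275 F499312) (tt N97672 F439291) (tt N119148 F514043) (tt N66615 (iv4 D206109)) (tt N119560 (iv5 F516251)) (tt N120753 D224012) (tt N97669 F439292))
theorem Q102927 : ∀ i, i < 102927 → P i := stepQ 102926 Q102926 (allL N102926 (tt N97556 F439297) (tt N92177 F439298) (tt N97673 F439293) (tt N77236 F439294) (tt N120753 (iv4 F522529)) (tt N77235 F439295) (tt N66615 (iv6 D206110)) (tt N98013 F439296))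
theorem Q102928 : ∀ i, i < 102928 → P i := stepQ 102927 Q102927 (allL N102927 (tt N116275 F499311) (tt N117974 (iv0 F507870)) (tt N97669 F439299) (tt N117971 (iv3 F507853)) (tt N66616 (iv4 D206111)) (tt N119561 (iv5 F516259)) (tt N117970 (iv6 F507851)) (tt N97672 F439300))
theorem Q102929 : ∀ i, i < 102929 → P i := stepQ 102928 Q102928 (allL N102928 (tt N116284 F499355) (tt N105870 (iv0 F452108)) (tt N66618 F439301) (tt N97722 F439302) (tt N117758 (iv4 F506821)) (tt N115412 (iv5 F495068)) (tt N66617 (iv6 D206112)) (tt N103481 (iv7 F441811)))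
theorem Q102930 : ∀ i, i < 102930 → P i := stepQ 102929 Q102929 (allL N102929 (tt N103481 F441812) (tt N66618 (iv0 D206113)) (tt N116284 (iv2 F499350)) (tt N68010 (iv3 F439305)) (tt N116273 (iv4 F499302)) (tt N68007 F439304) (tt N97005 F439303) (tt N105870 (iv7 F452107)))
theorem Q102931 : ∀ i, i < 102931 → P i := stepQ 102930 Q102930 (allL N102930 (tt N66618 (iv1 D206114)) (tt N103481 F441813) (tt N105870 (iv2 F452111)) (tt N113052 F483744) (tt N106145 (iv4 F453338)) (tt N118123 (iv5 F508733)) (tt N103378 F452112) (tt N116284 (iv7 F499353)))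
theorem Q102932 : ∀ i, i < 102932 → P i := stepQ 102931 Q102931 (allL N102931 (tt N105870 F452109) (tt N116284 (iv0 F499354)) (tt N103481 (iv2 F441809)) (tt N66619 F439306) (tt N117759 (iv4 F506829)) (tt N68644 F439307) (tt N68837 F439308) (tt N66618 (iv7 D206115)))
theorem Q102933 : ∀ i, i < 102933 → P i := stepQ 102932 Q102932 (allL N102932 (tt N92746 (iv1 F439311)) (tt N66620 (iv0 D206116)) (tt N92748 (iv2 F439310)) (tt N82998 F439309) (tt N82999 (iv4 F439313)) (tt N93145 (iv5 F439314)) (tt N92743 (iv6 F439315)) (tt N92727 F439312))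
theorem Q102934 : ∀ i, i < 102934 → P i := stepQ 102933 Q102933 (allL N102933 (tt N92748 (iv1 F439321)) (tt N92727 F439320) (tt N66620 (iv2 D206117)) (tt N79057 F439317) (tt N93213 (iv4 F439322)) (tt N115476 (iv5 F495377)) (tt N84915 F439318) (tt N92746 F439319))
theorem Q102935 : ∀ i, i < 102935 → P i := stepQ 102934 Q102934 (allL N102934 (tt N93211 F439329) (tt N92754 F439328) (tt N93213 F439323) (tt N82778 F439324) (tt N66620 (iv4 D206118)) (tt N97779 F439325) (tt N93207 F439326) (tt N93208 F439327))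
theorem Q102936 : ∀ i, i < 102936 → P i := stepQ 102935 Q102935 (allL N102935 (tt N75713 F439332) (tt N111254 F475460) (tt N109449 (iv2 F467009)) (tt N103762 (iv3 F442721)) (tt N66622 (iv4 D206119)) (tt N120628 (iv5 F521838)) (tt N102423 F439330) (tt N97861 F439331))
theorem Q102937 : ∀ i, i < 102937 → P i := stepQ 102936 Q102936 (allL N102936 (tt N66625 (iv1 D206120)) (tt N104942 (iv0 F448050)) (tt N68211 F439335) (tt N87532 F439336) (tt N103780 (iv4 F442782)) (tt N87530 F439333) (tt N70790 (iv6 F439334)) (tt N108634 (iv7 F463298)))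
theorem Q102938 : ∀ i, i < 102938 → P i := stepQ 102937 Q102937 (allL N102937 (tt N68211 (iv1 F439340)) (tt N108634 F463300) (tt N104942 (iv2 F448046)) (tt N99806 F439337) (tt N82970 F439338) (tt N109747 (iv5 F468420)) (tt N68168 F439339) (tt N66625 (iv7 D206121)))
theorem Q102939 : ∀ i, i < 102939 → P i := stepQ 102938 Q102938 (allL N102938 (tt N67295 F439344) (tt N103473 (iv0 F441782)) (tt N97665 F439341) (tt N116207 (iv3 F499016)) (tt N92135 F439342) (tt N102898 F439345) (tt N66627 (iv6 D206122)) (tt N98567 F439343))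
theorem Q102940 : ∀ i, i < 102940 → P i := stepQ 102939 Q102939 (allL N102939 (tt N84920 (iv1 F439349)) (tt N66631 (iv0 D206123)) (tt N92724 (iv2 F439348)) (tt N84933 F439346) (tt N101757 F439347) (tt N83615 (iv5 F439351)) (tt N92721 (iv6 F439352)) (tt N85847 F439350))
theorem Q102941 : ∀ i, i < 102941 → P i := stepQ 102940 Q102940 (allL N102940 (tt N92724 (iv1 F439356)) (tt N85847 F439355) (tt N66631 (iv2 D206124)) (tt N78903 F439353) (tt N103313 (iv4 F441098)) (tt N114052 (iv5 F488362)) (tt N120754 D224013) (tt N84920 F439354))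
theorem Q102942 : ∀ i, i < 102942 → P i := stepQ 102941 Q102941 (allL N102941 (tt N92780 F439358) (tt N85848 (iv0 F439359)) (tt N103313 F441099) (tt N119431 (iv3 F515584)) (tt N66631 (iv4 D206125)) (tt N119643 (iv5 F516670)) (tt N120620 (iv6 F521799)) (tt N97908 F439357))
theorem Q102943 : ∀ i, i < 102943 → P i := stepQ 102942 Q102942 (allL N102942 (tt N114875 (iv1 F492285)) (tt N86767 F439362) (tt N114052 (iv2 F488360)) (tt N66632 F439360) (tt N114052 (iv4 F488361)) (tt N66631 (iv5 D206126)) (tt N86682 (iv6 F439363)) (tt N97909 F439361))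
theorem Q102944 : ∀ i, i < 102944 → P i := stepQ 102943 Q102943 (allL N102943 (tt N119540 F516147) (tt N86742 (iv0 F470826)) (tt N120754 (iv2 F522533)) (tt N66633 F439364) (tt N120620 (iv4 F521797)) (tt N115042 (iv5 F493183)) (tt N66631 (iv6 D206127)) (tt N117961 (iv7 F507802)))
theorem Q102945 : ∀ i, i < 102945 → P i := stepQ 102944 Q102944 (allL N102944 (tt N66633 (iv1 D206128)) (tt N92844 F439365) (tt N97907 F439369) (tt N105799 (iv3 F451773)) (tt N103473 (iv4 F441781)) (tt N97818 (iv5 F439367)) (tt N97889 (iv6 F439368)) (tt N97880 F439366))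
theorem Q102946 : ∀ i, i < 102946 → P i := stepQ 102945 Q102945 (allL N102945 (tt N100134 F439372) (tt N73794 F439373) (tt N66732 F439370) (tt N117308 (iv3 F504387)) (tt N66636 (iv4 D206129)) (tt N108978 (iv5 F464741)) (tt N66638 F439371) (tt N110198 (iv7 F470394)))
theorem Q102947 : ∀ i, i < 102947 → P i := stepQ 102946 Q102946 (allL N102946 (tt N66670 (iv1 F439377)) (tt N66639 (iv0 D206130)) (tt N66669 (iv2 F439376)) (tt N115495 (iv3 F495493)) (tt N98121 F439375) (tt N86974 F439374) (tt N104933 (iv6 F448007)) (tt N66668 F439378))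
theorem Q102948 : ∀ i, i < 102948 → P i := stepQ 102947 Q102947 (allL N102947 (tt N109592 F467629) (tt N84232 F439383) (tt N100999 F439379) (tt N66760 F439380) (tt N108421 (iv4 F462498)) (tt N66643 (iv5 D206131)) (tt N81677 F439381) (tt N74492 F439382))
theorem Q102949 : ∀ i, i < 102949 → P i := stepQ 102948 Q102948 (allL N102948 (tt N84232 F439387) (tt N109592 (iv0 F467628)) (tt N74492 F439384) (tt N111941 (iv3 F478784)) (tt N99987 F439386) (tt N66644 (iv5 D206132)) (tt N74489 F439388) (tt N100999 F439385))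
theorem Q102950 : ∀ i, i < 102950 → P i := stepQ 102949 Q102949 (allL N102949 (tt N66647 (iv1 D206133)) (tt N82157 F439389) (tt N77349 F439394) (tt N109853 (iv3 F468921)) (tt N77148 F439391) (tt N80070 (iv5 F439392)) (tt N69269 (iv6 F439393)) (tt N97522 F439390))
theorem Q102951 : ∀ i, i < 102951 → P i := stepQ 102950 Q102950 (allL N102950 (tt N88038 (iv1 F439399)) (tt N66652 (iv0 D206134)) (tt N95141 (iv2 F439398)) (tt N88048 F439397) (tt N85570 F439396) (tt N94740 F439395) (tt N96758 (iv6 F439401)) (tt N95146 F439400))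
theorem Q102952 : ∀ i, i < 102952 → P i := stepQ 102951 Q102951 (allL N102951 (tt N95141 (iv1 F439408)) (tt N95146 F439407) (tt N66652 (iv2 D206135)) (tt N78362 F439402) (tt N75122 F439403) (tt N87065 F439404) (tt N84256 F439405) (tt N88038 F439406))
theorem Q102953 : ∀ i, i < 102953 → P i := stepQ 102952 Q102952 (allL N102952 (tt N66663 (iv1 F439413)) (tt N66662 F439414) (tt N66664 F439409) (tt N105276 (iv3 F449513)) (tt N98483 F439410) (tt N79128 F439411) (tt N74818 F439412) (tt N66655 (iv7 D206136)))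
theorem Q102954 : ∀ i, i < 102954 → P i := stepQ 102953 Q102953 (allL N102953 (tt N86124 F439415) (tt N86125 (iv0 F439416)) (tt N114967 (iv2 F492811)) (tt N66656 (iv3 D206137)) (tt N107993 (iv4 F460631)) (tt N114569 (iv5 F490809)) (tt N85036 F439428) (tt N109053 (iv7 F465123)))
theorem Q102955 : ∀ i, i < 102955 → P i := stepQ 102954 Q102954 (allL N102954 (tt N98262 F439420) (tt N74895 F439421) (tt N98045 F439417) (tt N114569 (iv3 F490808)) (tt N74863 F439419) (tt N66656 (iv5 D206138)) (tt N114565 (iv6 F490799)) (tt N98261 F439418))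
theorem Q102956 : ∀ i, i < 102956 → P i := stepQ 102955 Q102955 (allL N102955 (tt N85020 F439425) (tt N98546 (iv0 F439426)) (tt N89615 F439422) (tt N85036 (iv3 F439427)) (tt N66657 F439423) (tt N114566 (iv5 F490801)) (tt N66656 (iv6 D206139)) (tt N91029 F439424))
theorem Q102957 : ∀ i, i < 102957 → P i := stepQ 102956 Q102956 (allL N102956 (tt N86097 F439432) (tt N98674 F439433) (tt N98050 F439429) (tt N66660 F439430) (tt N119561 (iv4 F516260)) (tt N66659 (iv5 D206140)) (tt N78798 F439431) (tt N117926 (iv7 F507636)))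
theorem Q102958 : ∀ i, i < 102958 → P i := stepQ 102957 Q102957 (allL N102957 (tt N74895 F439437) (tt N98262 F439438) (tt N98261 F439434) (tt N78798 F439439) (tt N66660 (iv4 D206141)) (tt N74855 F439435) (tt N66660 (iv6 F439440)) (tt N98045 F439436))
theorem Q102959 : ∀ i, i < 102959 → P i := stepQ 102958 Q102958 (allL N102958 (tt N111773 (iv1 F477897)) (tt N111772 F477894) (tt N104933 (iv2 F448005)) (tt N108334 (iv3 F462118)) (tt N98127 F439441) (tt N68111 F439443) (tt N66669 (iv6 D206142)) (tt N87942 F439442))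
theorem Q102960 : ∀ i, i < 102960 → P i := stepQ 102959 Q102959 (allL N102959 (tt N115500 (iv1 F495517)) (tt N98081 (iv0 F439450)) (tt N66672 F439444) (tt N84257 F439445) (tt N97913 F439446) (tt N71827 (iv5 F439448)) (tt N66670 (iv6 D206143)) (tt N71826 F439447))
theorem Q102961 : ∀ i, i < 102961 → P i := stepQ 102960 Q102960 (allL N102960 (tt N103239 (iv1 F440726)) (tt N103380 (iv0 F441371)) (tt N96867 F439451) (tt N66673 F439452) (tt N92073 F439453) (tt N103220 (iv5 F440639)) (tt N66671 (iv6 D206144)) (tt N103219 (iv7 F440633)))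
theorem Q102962 : ∀ i, i < 102962 → P i := stepQ 102961 Q102961 (allL N102961 (tt N71826 (iv1 F439456)) (tt N66672 (iv0 D206145)) (tt N115500 (iv2 F495511)) (tt N104933 (iv3 F448006)) (tt N98082 F439454) (tt N104932 F448003) (tt N115495 (iv6 F495496)) (tt N98081 (iv7 F439455)))
theorem Q102963 : ∀ i, i < 102963 → P i := stepQ 102962 Q102962 (allL N102962 (tt N71825 F439460) (tt N71824 F439461) (tt N71827 F439457) (tt N66675 F439458) (tt N103220 (iv4 F440638)) (tt N66672 (iv5 D206146)) (tt N103220 (iv6 F440640)) (tt N67133 F439459))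
theorem Q102964 : ∀ i, i < 102964 → P i := stepQ 102963 Q102963 (allL N102963 (tt N98081 (iv1 F439467)) (tt N115500 F495516) (tt N71826 F439462) (tt N66676 F439463) (tt N97915 F439464) (tt N67133 F439465) (tt N67134 F439466) (tt N66672 (iv7 D206147)))
theorem Q102965 : ∀ i, i < 102965 → P i := stepQ 102964 Q102964 (allL N102964 (tt N92193 F439472) (tt N74695 F439473) (tt N74848 F439468) (tt N100160 (iv3 F439474)) (tt N66677 (iv4 D206148)) (tt N98058 F439471) (tt N66948 F439469) (tt N99496 F439470))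
theorem Q102966 : ∀ i, i < 102966 → P i := stepQ 102965 Q102965 (allL N102965 (tt N85770 F439478) (tt N85775 (iv0 F439479)) (tt N111775 F477914) (tt N66679 (iv3 D206149)) (tt N79986 F439475) (tt N114221 (iv5 F489059)) (tt N79985 F439476) (tt N66723 F439477))
theorem Q102967 : ∀ i, i < 102967 → P i := stepQ 102966 Q102966 (allL N102966 (tt N100506 F439483) (tt N66882 F439484) (tt N66717 F439480) (tt N100281 F439485) (tt N66680 (iv4 D206150)) (tt N110044 (iv5 F469698)) (tt N68016 F439481) (tt N66726 F439482))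
theorem Q102968 : ∀ i, i < 102968 → P i := stepQ 102967 Q102967 (allL N102967 (tt N73169 F439489) (tt N109492 (iv0 F467253)) (tt N74496 F439486) (tt N99226 F439487) (tt N82129 F439488) (tt N66684 (iv5 D206151)) (tt N109568 (iv6 F467568)) (tt N110855 (iv7 F473450)))
theorem Q102969 : ∀ i, i < 102969 → P i := stepQ 102968 Q102968 (allL N102968 (tt N88195 F439493) (tt N116209 F499032) (tt N74497 F439490) (tt N111944 F478798) (tt N99884 F439491) (tt N82957 F439492) (tt N66684 (iv6 D206152)) (tt N113926 (iv7 F487828)))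
theorem Q102970 : ∀ i, i < 102970 → P i := stepQ 102969 Q102969 (allL N102969 (tt N78489 (iv1 F439499)) (tt N72095 (iv0 F439498)) (tt N66696 F439494) (tt N88185 F439495) (tt N80032 F439496) (tt N111821 (iv5 F478147)) (tt N66693 (iv6 D206153)) (tt N100673 F439497))
theorem Q102971 : ∀ i, i < 102971 → P i := stepQ 102970 Q102970 (allL N102970 (tt N66694 (iv1 D206154)) (tt N66700 F439500) (tt N66698 F439504) (tt N113909 (iv3 F487734)) (tt N73934 F439502) (tt N115999 (iv5 F497979)) (tt N73933 (iv6 F439503)) (tt N66697 F439501))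
theorem Q102972 : ∀ i, i < 102972 → P i := stepQ 102971 Q102971 (allL N102971 (tt N66698 (iv1 F439510)) (tt N66697 F439511) (tt N66700 F439505) (tt N87893 F439506) (tt N66746 F439507) (tt N88130 F439508) (tt N80103 F439509) (tt N66694 (iv7 D206155)))
theorem Q102973 : ∀ i, i < 102973 → P i := stepQ 102972 Q102972 (allL N102972 (tt N111820 (iv1 F478146)) (tt N85719 (iv0 F439514)) (tt N111821 (iv2 F478149)) (tt N66704 F439512) (tt N120755 D224014) (tt N66696 (iv5 D206156)) (tt N66699 F439513) (tt N111518 (iv7 F476690)))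
theorem Q102974 : ∀ i, i < 102974 → P i := stepQ 102973 Q102973 (allL N102973 (tt N90650 (iv1 F439517)) (tt N113911 F487746) (tt N105255 (iv2 F449407)) (tt N66697 (iv3 D206157)) (tt N91021 F439516) (tt N120756 D224015) (tt N87862 F439515) (tt N113909 (iv7 F487737)))
theorem Q102975 : ∀ i, i < 102975 → P i := stepQ 102974 Q102974 (allL N102974 (tt N87423 F439518) (tt N87379 F439519) (tt N115450 (iv2 F495248)) (tt N120756 (iv3 F522545)) (tt N103838 (iv4 F443031)) (tt N66697 (iv5 D206158)) (tt N120757 D224016) (tt N115999 (iv7 F497978)))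
theorem Q102976 : ∀ i, i < 102976 → P i := stepQ 102975 Q102975 (allL N102975 (tt N87379 F439520) (tt N87423 F439521) (tt N115999 F497980) (tt N113716 (iv3 F486798)) (tt N103770 (iv4 F442745)) (tt N66698 (iv5 D206159)) (tt N114176 F488850) (tt N115450 (iv7 F495249)))
theorem Q102977 : ∀ i, i < 102977 → P i := stepQ 102976 Q102976 (allL N102976 (tt N66699 (iv1 D206160)) (tt N88130 F439522) (tt N115444 (iv2 F495224)) (tt N111491 F476586) (tt N120758 D224017) (tt N75947 F439524) (tt N120759 D224018) (tt N75946 F439523))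
theorem Q102978 : ∀ i, i < 102978 → P i := stepQ 102977 Q102977 (allL N102977 (tt N120760 D224019) (tt N120761 D224020) (tt N115663 (iv2 F496202)) (tt N120762 D224021) (tt N66699 (iv4 D206161)) (tt N104728 F447015) (tt N120755 (iv6 F522541)) (tt N115637 (iv7 F496081)))
theorem Q102979 : ∀ i, i < 102979 → P i := stepQ 102978 Q102978 (allL N102978 (tt N80271 (iv1 F439527)) (tt N66704 (iv0 D206162)) (tt N111513 (iv2 F476662)) (tt N111459 F476451) (tt N100722 (iv4 F439528)) (tt N91525 F439525) (tt N100721 F439526) (tt N111514 (iv7 F476665)))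
theorem Q102980 : ∀ i, i < 102980 → P i := stepQ 102979 Q102979 (allL N102979 (tt N66706 (iv1 D206163)) (tt N102257 (iv0 F439533)) (tt N102326 F439531) (tt N90650 F439532) (tt N109303 F466290) (tt N115602 (iv5 F495947)) (tt N88206 (iv6 F439530)) (tt N77795 F439529))
theorem Q102981 : ∀ i, i < 102981 → P i := stepQ 102980 Q102980 (allL N102980 (tt N77795 (iv1 F439538)) (tt N102326 F439537) (tt N66706 (iv2 D206164)) (tt N79930 F439534) (tt N95637 F439535) (tt N114143 (iv5 F488733)) (tt N115684 (iv6 F496299)) (tt N102257 F439536))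
theorem Q102982 : ∀ i, i < 102982 → P i := stepQ 102981 Q102981 (allL N102981 (tt N87356 F461881) (tt N87360 F439540) (tt N114143 (iv2 F488731)) (tt N66707 F439539) (tt N114142 F488729) (tt N66706 (iv5 D206165)) (tt N114180 (iv6 F488868)) (tt N109322 (iv7 F466382)))
theorem Q102983 : ∀ i, i < 102983 → P i := stepQ 102982 Q102982 (allL N102982 (tt N117652 F506230) (tt N120763 D224022) (tt N120764 D224023) (tt N66708 (iv3 D206166)) (tt N120762 (iv4 F522577)) (tt N116470 F500301) (tt N116069 F498312) (tt N115525 (iv7 F495633)))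
theorem Q102984 : ∀ i, i < 102984 → P i := stepQ 102983 Q102983 (allL N102983 (tt N66822 F439546) (tt N77601 (iv0 F439547)) (tt N79094 F439541) (tt N66718 F439542) (tt N76520 F439543) (tt N75812 F439544) (tt N66712 (iv6 D206167)) (tt N76080 F439545))
theorem Q102985 : ∀ i, i < 102985 → P i := stepQ 102984 Q102984 (allL N102984 (tt N113917 (iv1 F487778)) (tt N87277 F439549) (tt N113918 (iv2 F487783)) (tt N66715 F439548) (tt N119326 (iv4 F515033)) (tt N66714 (iv5 D206168)) (tt N120765 D224024) (tt N113708 (iv7 F486757)))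
theorem Q102986 : ∀ i, i < 102986 → P i := stepQ 102985 Q102985 (allL N102985 (tt N115228 (iv1 F494125)) (tt N88434 (iv0 F439551)) (tt N114222 (iv2 F489064)) (tt N120765 (iv3 F522589)) (tt N113568 (iv4 F486069)) (tt N86423 F439550) (tt N66715 (iv6 D206169)) (tt N115357 (iv7 F494773)))
theorem Q102987 : ∀ i, i < 102987 → P i := stepQ 102986 Q102986 (allL N102986 (tt N67026 F439555) (tt N67023 F439556) (tt N76170 F439552) (tt N103757 (iv3 F442692)) (tt N66716 (iv4 D206170)) (tt N77414 F439553) (tt N103105 (iv6 F440096)) (tt N66885 F439554))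
theorem Q102988 : ∀ i, i < 102988 → P i := stepQ 102987 Q102987 (allL N102987 (tt N66726 (iv1 F439561)) (tt N66717 (iv0 D206171)) (tt N100506 (iv2 F439560)) (tt N104802 (iv3 F447353)) (tt N75457 F439558) (tt N91355 F439557) (tt N68020 F439559) (tt N66882 F439562))
theorem Q102989 : ∀ i, i < 102989 → P i := stepQ 102988 Q102988 (allL N102988 (tt N102804 F439568) (tt N102803 F439569) (tt N100534 F439563) (tt N66717 (iv3 D206172)) (tt N102646 F439564) (tt N102815 F439565) (tt N68024 F439566) (tt N100146 F439567))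
theorem Q102990 : ∀ i, i < 102990 → P i := stepQ 102989 Q102989 (allL N102989 (tt N66868 F439575) (tt N77559 F439576) (tt N66721 F439570) (tt N76078 F439571) (tt N76442 F439572) (tt N66719 (iv5 D206173)) (tt N66862 F439573) (tt N79095 F439574))
theorem Q102991 : ∀ i, i < 102991 → P i := stepQ 102990 Q102990 (allL N102990 (tt N66723 (iv1 D206174)) (tt N111775 F477915) (tt N85770 (iv2 F439579)) (tt N109529 (iv3 F467387)) (tt N85766 F439578) (tt N111313 (iv5 F475765)) (tt N109528 F467385) (tt N85775 F439577))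
theorem Q102992 : ∀ i, i < 102992 → P i := stepQ 102991 Q102991 (allL N102991 (tt N87171 F439582) (tt N87174 F439583) (tt N108568 (iv2 F463081)) (tt N66724 F439580) (tt N117614 (iv4 F506004)) (tt N66723 (iv5 D206175)) (tt N69465 F439581) (tt N114221 (iv7 F489060)))
theorem Q102993 : ∀ i, i < 102993 → P i := stepQ 102992 Q102992 (allL N102992 (tt N74497 F439586) (tt N113926 (iv0 F487829)) (tt N116209 F499031) (tt N66730 F439584) (tt N113912 (iv4 F487750)) (tt N103062 F439912) (tt N66728 (iv6 D206176)) (tt N88195 F439585))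
theorem Q102994 : ∀ i, i < 102994 → P i := stepQ 102993 Q102993 (allL N102993 (tt N96872 F439589) (tt N87753 (iv0 F439590)) (tt N96869 F439591) (tt N66729 (iv3 D206177)) (tt N113915 (iv4 F487766)) (tt N89918 F439587) (tt N113913 F487759) (tt N96870 F439588))
theorem Q102995 : ∀ i, i < 102995 → P i := stepQ 102994 Q102994 (allL N102994 (tt N102872 F439595) (tt N109528 (iv0 F467384)) (tt N111231 (iv2 F475338)) (tt N66731 (iv3 D206178)) (tt N76036 F439592) (tt N92647 F439593) (tt N76035 F439594) (tt N111767 (iv7 F477868)))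
theorem Q102996 : ∀ i, i < 102996 → P i := stepQ 102995 Q102995 (allL N102995 (tt N112179 F479921) (tt N119232 (iv0 F514510)) (tt N120572 (iv2 F521517)) (tt N66732 (iv3 D206179)) (tt N66764 F439596) (tt N119207 (iv5 F514359)) (tt N66736 F439597) (tt N112720 (iv7 F482348)))
theorem Q102997 : ∀ i, i < 102997 → P i := stepQ 102996 Q102996 (allL N102996 (tt N108980 F464751) (tt N99621 F439598) (tt N108978 F464744) (tt N119207 (iv3 F514357)) (tt N117528 (iv4 F505531)) (tt N66732 (iv5 D206180)) (tt N110215 (iv6 F470468)) (tt N108979 (iv7 F464745)))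
theorem Q102998 : ∀ i, i < 102998 → P i := stepQ 102997 Q102997 (allL N102997 (tt N67080 (iv1 F439604)) (tt N66734 (iv0 D206181)) (tt N67078 (iv2 F439602)) (tt N71984 F439599) (tt N109259 (iv4 F466043)) (tt N74975 F439600) (tt N66871 F439601) (tt N67079 F439603))
theorem Q102999 : ∀ i, i < 102999 → P i := stepQ 102998 Q102998 (allL N102998 (tt N67079 (iv1 F439610)) (tt N67078 F439611) (tt N67080 F439605) (tt N73392 F439606) (tt N91748 F439607) (tt N75379 F439608) (tt N67074 F439609) (tt N66734 (iv7 D206182)))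
theorem Q103000 : ∀ i, i < 103000 → P i := stepQ 102999 Q102999 (allL N102999 (tt N66735 (iv1 D206183)) (tt N67074 F439612) (tt N67073 F439617) (tt N80086 F439618) (tt N81255 F439615) (tt N78321 F439614) (tt N73171 (iv6 F439616)) (tt N67072 F439613))
theorem Q103001 : ∀ i, i < 103001 → P i := stepQ 103000 Q103000 (allL N103000 (tt N67073 (iv1 F439624)) (tt N67072 F439625) (tt N67074 F439619) (tt N73360 F439620) (tt N87979 F439621) (tt N68414 F439622) (tt N67080 F439623) (tt N66735 (iv7 D206184)))
theorem Q103002 : ∀ i, i < 103002 → P i := stepQ 103001 Q103001 (allL N103001 (tt N67087 (iv1 F439630)) (tt N67086 F439629) (tt N66736 (iv2 D206185)) (tt N120569 (iv3 F521501)) (tt N66767 F439626) (tt N89809 F439627) (tt N120572 (iv6 F521520)) (tt N67088 F439628))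
theorem Q103003 : ∀ i, i < 103003 → P i := stepQ 103002 Q103002 (allL N103002 (tt N66748 (iv1 F439636)) (tt N66751 (iv0 F439635)) (tt N98125 F439632) (tt N85775 F439633) (tt N99996 F439634) (tt N115503 (iv5 F495528)) (tt N66739 (iv6 D206186)) (tt N109529 (iv7 F467389)))
theorem Q103004 : ∀ i, i < 103004 → P i := stepQ 103003 Q103003 (allL N103003 (tt N109302 F466287) (tt N66750 (iv0 F439640)) (tt N99359 F439637) (tt N99456 F439638) (tt N73957 F439639) (tt N105023 (iv5 F448428)) (tt N66740 (iv6 D206187)) (tt N109401 (iv7 F466781)))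
theorem Q103005 : ∀ i, i < 103005 → P i := stepQ 103004 Q103004 (allL N103004 (tt N109401 (iv1 F466782)) (tt N99359 (iv0 F439643)) (tt N109302 (iv2 F466281)) (tt N66744 (iv3 D206188)) (tt N103913 (iv4 F443343)) (tt N88538 F439641) (tt N109226 (iv6 F465858)) (tt N66750 F439642))
theorem Q103006 : ∀ i, i < 103006 → P i := stepQ 103005 Q103005 (allL N103005 (tt N109529 (iv1 F467391)) (tt N98125 F439646) (tt N66748 F439644) (tt N115421 (iv3 F495109)) (tt N66744 (iv4 D206189)) (tt N120766 D224025) (tt N109248 F465985) (tt N66751 F439645))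
theorem Q103007 : ∀ i, i < 103007 → P i := stepQ 103006 Q103006 (allL N103006 (tt N109540 (iv1 F467444)) (tt N109539 (iv0 F467440)) (tt N120766 (iv2 F522592)) (tt N115876 (iv3 F497353)) (tt N104729 (iv4 F447019)) (tt N66748 (iv5 D206190)) (tt N118903 (iv6 F512665)) (tt N109530 (iv7 F467394)))
theorem Q103008 : ∀ i, i < 103008 → P i := stepQ 103007 Q103007 (allL N103007 (tt N99359 F439650) (tt N109401 F466783) (tt N66750 (iv2 D206191)) (tt N109300 (iv3 F466270)) (tt N99607 (iv4 F439649)) (tt N83168 F439647) (tt N82048 F439648) (tt N109302 (iv7 F466285)))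
theorem Q103009 : ∀ i, i < 103009 → P i := stepQ 103008 Q103008 (allL N103008 (tt N99572 F439654) (tt N100007 F439653) (tt N99607 F439651) (tt N119432 (iv3 F515590)) (tt N66750 (iv4 D206192)) (tt N103909 (iv5 F443318)) (tt N99602 F439652) (tt N103913 (iv7 F443341)))
theorem Q103010 : ∀ i, i < 103010 → P i := stepQ 103009 Q103009 (allL N103009 (tt N115420 F495108) (tt N115422 F495118) (tt N96876 F439655) (tt N66751 (iv3 D206193)) (tt N119432 (iv4 F515591)) (tt N95480 (iv5 F439657)) (tt N80200 F439656) (tt N115421 (iv7 F495111)))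
theorem Q103011 : ∀ i, i < 103011 → P i := stepQ 103010 Q103010 (allL N103010 (tt N109539 (iv1 F467441)) (tt N109540 (iv0 F467443)) (tt N109530 (iv2 F467392)) (tt N95480 F439658) (tt N104753 (iv4 F447108)) (tt N66751 (iv5 D206194)) (tt N108556 (iv6 F463062)) (tt N120766 (iv7 F522596)))
theorem Q103012 : ∀ i, i < 103012 → P i := stepQ 103011 Q103011 (allL N103011 (tt N105023 F448433) (tt N68417 (iv0 F439663)) (tt N112484 (iv2 F481285)) (tt N66752 (iv3 D206195)) (tt N83924 F439659) (tt N75940 F439660) (tt N68481 F439661) (tt N66824 F439662))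
theorem Q103013 : ∀ i, i < 103013 → P i := stepQ 103012 Q103012 (allL N103012 (tt N69126 F439667) (tt N69130 (iv0 F439668)) (tt N103599 (iv2 F442187)) (tt N66755 (iv3 D206196)) (tt N115422 (iv4 F495115)) (tt N68232 F439664) (tt N78189 F439665) (tt N74757 F439666))
theorem Q103014 : ∀ i, i < 103014 → P i := stepQ 103013 Q103013 (allL N103013 (tt N112718 F482337) (tt N66764 (iv0 D206197)) (tt N81241 (iv2 F439671)) (tt N120206 (iv3 F519587)) (tt N119042 (iv4 F513451)) (tt N81364 F439669) (tt N80831 F439670) (tt N112721 (iv7 F482355)))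
theorem Q103015 : ∀ i, i < 103015 → P i := stepQ 103014 Q103014 (allL N103014 (tt N66764 (iv1 D206198)) (tt N112718 (iv0 F482336)) (tt N112721 F482353) (tt N75403 (iv3 F439673)) (tt N93418 (iv4 F439674)) (tt N75401 (iv5 F439676)) (tt N81192 (iv6 F439675)) (tt N81241 F439672))
theorem Q103016 : ∀ i, i < 103016 → P i := stepQ 103015 Q103015 (allL N103015 (tt N81241 F439680) (tt N112721 F482354) (tt N66764 (iv2 D206199)) (tt N81472 F439677) (tt N120572 (iv4 F521519)) (tt N80535 F439678) (tt N66767 F439679) (tt N112718 (iv7 F482335)))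
theorem Q103017 : ∀ i, i < 103017 → P i := stepQ 103016 Q103016 (allL N103016 (tt N92879 F439685) (tt N108656 F463391) (tt N67110 F439681) (tt N93461 F439682) (tt N66765 (iv4 D206200)) (tt N114460 (iv5 F490289)) (tt N92912 F439683) (tt N67107 F439684))
theorem Q103018 : ∀ i, i < 103018 → P i := stepQ 103017 Q103017 (allL N103017 (tt N82642 F439689) (tt N82916 F439690) (tt N82915 F439686) (tt N106306 (iv3 F453954)) (tt N66768 (iv4 D206201)) (tt N73000 F439688) (tt N114899 (iv6 F492418)) (tt N82914 F439687))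
theorem Q103019 : ∀ i, i < 103019 → P i := stepQ 103018 Q103018 (allL N103018 (tt N84785 F439693) (tt N84782 F439694) (tt N114310 (iv2 F489527)) (tt N66773 F439691) (tt N114899 (iv4 F492417)) (tt N84708 F439692) (tt N66768 (iv6 D206202)) (tt N86186 F439695))
theorem Q103020 : ∀ i, i < 103020 → P i := stepQ 103019 Q103019 (allL N103019 (tt N86197 (iv1 F439699)) (tt N84721 F439700) (tt N86195 F439696) (tt N66770 (iv3 D206203)) (tt N117482 (iv4 F505264)) (tt N78853 F439697) (tt N114575 (iv6 F490836)) (tt N86196 F439698))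
theorem Q103021 : ∀ i, i < 103021 → P i := stepQ 103020 Q103020 (allL N103020 (tt N78382 F439704) (tt N78379 F439705) (tt N73112 F439701) (tt N93306 F439706) (tt N66770 (iv4 D206204)) (tt N73111 F439702) (tt N120767 D224026) (tt N98208 F439703))
theorem Q103022 : ∀ i, i < 103022 → P i := stepQ 103021 Q103021 (allL N103021 (tt N82920 F439710) (tt N82922 (iv0 F439711)) (tt N82919 F439707) (tt N114575 (iv3 F490835)) (tt N120767 (iv4 F522601)) (tt N78855 F439708) (tt N66770 (iv6 D206205)) (tt N82918 F439709))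
theorem Q103023 : ∀ i, i < 103023 → P i := stepQ 103022 Q103022 (allL N103022 (tt N108095 F461091) (tt N114774 (iv0 F491789)) (tt N120768 D224027) (tt N66772 (iv3 D206206)) (tt N106306 (iv4 F453955)) (tt N99465 F439712) (tt N102321 F439713) (tt N98211 F439714))
theorem Q103024 : ∀ i, i < 103024 → P i := stepQ 103023 Q103023 (allL N103023 (tt N98203 (iv1 F439716)) (tt N66776 (iv0 D206207)) (tt N98205 F439718) (tt N100320 (iv3 F451191)) (tt N109170 (iv4 F465663)) (tt N79953 F439715) (tt N92795 (iv6 F439717)) (tt N98204 (iv7 F439719)))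
theorem Q103025 : ∀ i, i < 103025 → P i := stepQ 103024 Q103024 (allL N103024 (tt N66776 (iv1 D206208)) (tt N98203 F439720) (tt N98204 (iv2 F439724)) (tt N89860 (iv3 F439723)) (tt N109169 (iv4 F465660)) (tt N78846 F439722) (tt N103046 (iv6 F439824)) (tt N98205 F439721))
theorem Q103026 : ∀ i, i < 103026 → P i := stepQ 103025 Q103025 (allL N103025 (tt N119437 (iv1 F515625)) (tt N119439 (iv0 F515635)) (tt N117951 (iv2 F507754)) (tt N120769 D224028) (tt N66776 (iv4 D206209)) (tt N118091 (iv5 F508534)) (tt N111169 F475058) (tt N98206 F439725))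
theorem Q103027 : ∀ i, i < 103027 → P i := stepQ 103026 Q103026 (allL N103026 (tt N108139 (iv1 F461273)) (tt N72979 (iv0 F439728)) (tt N108132 (iv2 F461246)) (tt N66778 (iv3 D206210)) (tt N120769 (iv4 F522613)) (tt N99466 F439726) (tt N119515 (iv6 F516013)) (tt N98209 F439727))
theorem Q103028 : ∀ i, i < 103028 → P i := stepQ 103027 Q103027 (allL N103027 (tt N82872 F439732) (tt N109565 (iv0 F467554)) (tt N108142 (iv2 F461283)) (tt N95244 F439729) (tt N66781 (iv4 D206211)) (tt N72983 F439731) (tt N105610 (iv6 F450964)) (tt N98218 F439730))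
theorem Q103029 : ∀ i, i < 103029 → P i := stepQ 103028 Q103028 (allL N103028 (tt N115720 (iv1 F496505)) (tt N115721 (iv0 F496511)) (tt N108231 (iv2 F461593)) (tt N66782 F439733) (tt N105610 F450966) (tt N92986 (iv5 F439734)) (tt N66781 (iv6 D206212)) (tt N105625 (iv7 F451008)))
theorem Q103030 : ∀ i, i < 103030 → P i := stepQ 103029 Q103029 (allL N103029 (tt N66782 (iv1 D206213)) (tt N92985 F439735) (tt N98217 (iv2 F439738)) (tt N104176 (iv3 F444540)) (tt N113316 (iv4 F484989)) (tt N93198 F439737) (tt N104175 F444537) (tt N98216 F439736))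
theorem Q103031 : ∀ i, i < 103031 → P i := stepQ 103030 Q103030 (allL N103030 (tt N108659 F463404) (tt N113316 F484990) (tt N98221 F439739) (tt N93337 F439740) (tt N78384 F439741) (tt N106153 (iv5 F453368)) (tt N66785 (iv6 D206214)) (tt N93728 F439742))
theorem Q103032 : ∀ i, i < 103032 → P i := stepQ 103031 Q103031 (allL N103031 (tt N98310 F439746) (tt N98291 F439747) (tt N92823 F439743) (tt N115036 (iv3 F493146)) (tt N66790 (iv4 D206215)) (tt N90895 F439745) (tt N70337 (iv6 F439748)) (tt N92825 F439744))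
theorem Q103033 : ∀ i, i < 103033 → P i := stepQ 103032 Q103032 (allL N103032 (tt N87507 F439758) (tt N82924 (iv0 F439759)) (tt N92824 F439754) (tt N94141 F439755) (tt N70337 F439756) (tt N93146 F439757) (tt N66790 (iv6 D206216)) (tt N105476 (iv7 F450410)))
theorem Q103034 : ∀ i, i < 103034 → P i := stepQ 103033 Q103033 (allL N103033 (tt N98291 F439765) (tt N98310 F439766) (tt N92825 F439762) (tt N114741 (iv3 F491605)) (tt N66791 (iv4 D206217)) (tt N90894 F439764) (tt N114759 F491714) (tt N92823 F439763))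
theorem Q103035 : ∀ i, i < 103035 → P i := stepQ 103034 Q103034 (allL N103034 (tt N97826 F439770) (tt N111222 (iv0 F475289)) (tt N92742 F439767) (tt N100232 F439768) (tt N114759 F491712) (tt N92725 F439769) (tt N66791 (iv6 D206218)) (tt N120770 D224029))
theorem Q103036 : ∀ i, i < 103036 → P i := stepQ 103035 Q103035 (allL N103035 (tt N66792 (iv1 D206219)) (tt N92771 F439771) (tt N92827 (iv2 F439774)) (tt N114482 F490411) (tt N76222 F439773) (tt N113071 (iv5 F483838)) (tt N106304 (iv6 F469769)) (tt N92826 F439772))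
theorem Q103037 : ∀ i, i < 103037 → P i := stepQ 103036 Q103036 (allL N103036 (tt N104098 F444173) (tt N106308 F453969) (tt N114493 F490449) (tt N66792 (iv3 D206220)) (tt N66794 F439775) (tt N112751 (iv5 F482489)) (tt N118450 (iv6 F510431)) (tt N98224 F439776))
theorem Q103038 : ∀ i, i < 103038 → P i := stepQ 103037 Q103037 (allL N103037 (tt N118006 (iv1 F508051)) (tt N113026 (iv0 F483606)) (tt N92829 F439777) (tt N112751 F482490) (tt N110151 (iv4 F470191)) (tt N66792 (iv5 D206221)) (tt N110150 F470188) (tt N98225 F439778))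
theorem Q103039 : ∀ i, i < 103039 → P i := stepQ 103038 Q103038 (allL N103038 (tt N114901 F492433) (tt N82879 (iv0 F439782)) (tt N92822 F439779) (tt N118450 (iv3 F510428)) (tt N66793 F439780) (tt N91721 (iv5 F439781)) (tt N66792 (iv6 D206222)) (tt N110257 (iv7 F470671)))
theorem Q103040 : ∀ i, i < 103040 → P i := stepQ 103039 Q103039 (allL N103039 (tt N92820 (iv1 F439788)) (tt N66793 (iv0 D206223)) (tt N75954 (iv2 F439786)) (tt N100162 F439784) (tt N111845 (iv4 F478276)) (tt N66947 F439783) (tt N84785 F439785) (tt N92821 F439787))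
theorem Q103041 : ∀ i, i < 103041 → P i := stepQ 103040 Q103040 (allL N103040 (tt N92821 (iv1 F439793)) (tt N75954 F439794) (tt N92820 F439789) (tt N66797 F439790) (tt N110257 (iv4 F470670)) (tt N75969 F439791) (tt N98227 F439792) (tt N66793 (iv7 D206224)))
theorem Q103042 : ∀ i, i < 103042 → P i := stepQ 103041 Q103041 (allL N103041 (tt N66794 (iv1 D206225)) (tt N98229 F439799) (tt N91698 (iv2 F439800)) (tt N114500 (iv3 F490488)) (tt N106534 (iv4 F454794)) (tt N98223 F439801) (tt N106309 F453972) (tt N98228 (iv7 F439802)))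
theorem Q103043 : ∀ i, i < 103043 → P i := stepQ 103042 Q103042 (allL N103042 (tt N98228 (iv1 F439805)) (tt N91698 F439798) (tt N66794 (iv2 D206226)) (tt N89827 F439795) (tt N114493 (iv4 F490448)) (tt N89826 F439796) (tt N96151 F439806) (tt N98229 F439797))
theorem Q103044 : ∀ i, i < 103044 → P i := stepQ 103043 Q103043 (allL N103043 (tt N96135 F439812) (tt N96153 (iv0 F439811)) (tt N96151 F439807) (tt N66795 F439808) (tt N118450 (iv4 F510429)) (tt N78244 F439809) (tt N66794 (iv6 D206227)) (tt N93719 F439810))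
theorem Q103045 : ∀ i, i < 103045 → P i := stepQ 103044 Q103044 (allL N103044 (tt N82882 F439816) (tt N86189 F439817) (tt N86190 F439813) (tt N109884 (iv3 F469071)) (tt N96106 F439814) (tt N113632 (iv5 F486392)) (tt N66796 (iv6 D206228)) (tt N86185 F439815))
theorem Q103046 : ∀ i, i < 103046 → P i := stepQ 103045 Q103045 (allL N103045 (tt N82922 F439822) (tt N82920 (iv0 F439821)) (tt N82918 F439818) (tt N105888 (iv3 F452194)) (tt N109657 (iv4 F467964)) (tt N98588 F439820) (tt N66799 (iv6 D206229)) (tt N82919 F439819))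
theorem Q103047 : ∀ i, i < 103047 → P i := stepQ 103046 Q103046 (allL N103046 (tt N112912 (iv1 F483253)) (tt N82921 (iv0 F439826)) (tt N98238 F439823) (tt N115041 (iv3 F493175)) (tt N120771 D224030) (tt N66804 (iv5 D206230)) (tt N103024 F439824) (tt N98240 F439825))
theorem Q103048 : ∀ i, i < 103048 → P i := stepQ 103047 Q103047 (allL N103047 (tt N66809 (iv1 F439835)) (tt N96063 (iv0 F439834)) (tt N98239 F439828) (tt N91685 F439831) (tt N66805 (iv4 D206232)) (tt N78238 F439830) (tt N119477 (iv6 F515818)) (tt N78237 F439829))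
theorem Q103049 : ∀ i, i < 103049 → P i := stepQ 103048 Q103048 (allL N103048 (tt N82921 F439840) (tt N112912 F483254) (tt N98240 F439837) (tt N106419 F454348) (tt N106422 (iv4 F454366)) (tt N66805 (iv5 D206233)) (tt N78878 F439838) (tt N98238 F439839))
theorem Q103050 : ∀ i, i < 103050 → P i := stepQ 103049 Q103049 (allL N103049 (tt N98255 F439845) (tt N117712 (iv0 F506573)) (tt N98245 F439841) (tt N70740 F439842) (tt N93446 F439843) (tt N97896 F439844) (tt N66808 (iv6 D206234)) (tt N104175 (iv7 F444536)))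
theorem Q103051 : ∀ i, i < 103051 → P i := stepQ 103050 Q103050 (allL N103050 (tt N120281 F520008) (tt N118364 (iv0 F509940)) (tt N96380 F439846) (tt N78424 F439847) (tt N96377 F439850) (tt N66809 (iv5 D206235)) (tt N74238 F439848) (tt N80575 F439849))
theorem Q103052 : ∀ i, i < 103052 → P i := stepQ 103051 Q103051 (allL N103051 (tt N70140 F439854) (tt N84826 (iv0 F439856)) (tt N85205 F439851) (tt N66811 (iv3 D206236)) (tt N89706 F439855) (tt N116775 (iv5 F501762)) (tt N83130 F439852) (tt N85204 F439853))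
theorem Q103053 : ∀ i, i < 103053 → P i := stepQ 103052 Q103052 (allL N103052 (tt N76235 F439858) (tt N117720 F506615) (tt N110483 (iv2 F471790)) (tt N116775 (iv3 F501764)) (tt N110480 (iv4 F471779)) (tt N66811 (iv5 D206237)) (tt N93748 F439857) (tt N117719 (iv7 F506603)))
theorem Q103054 : ∀ i, i < 103054 → P i := stepQ 103053 Q103053 (allL N103053 (tt N73163 F439862) (tt N83288 F439863) (tt N98697 F439859) (tt N66813 (iv3 D206238)) (tt N76936 F439860) (tt N109019 (iv5 F464960)) (tt N115336 F494660) (tt N76935 F439861))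
theorem Q103055 : ∀ i, i < 103055 → P i := stepQ 103054 Q103054 (allL N103054 (tt N83745 F439866) (tt N83740 F439867) (tt N83743 F439864) (tt N109019 (iv3 F464961)) (tt N108641 (iv4 F463331)) (tt N66813 (iv5 D206239)) (tt N115701 (iv6 F496397)) (tt N83744 F439865))
theorem Q103056 : ∀ i, i < 103056 → P i := stepQ 103055 Q103055 (allL N103055 (tt N83740 F439873) (tt N83745 F439872) (tt N83744 F439868) (tt N93125 F439869) (tt N85695 F439871) (tt N66814 (iv5 D206240)) (tt N68127 F439874) (tt N83743 F439870))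
theorem Q103057 : ∀ i, i < 103057 → P i := stepQ 103056 Q103056 (allL N103056 (tt N98286 F439877) (tt N98287 (iv0 F439878)) (tt N98260 F439875) (tt N105588 (iv3 F450859)) (tt N72211 F439876) (tt N115261 (iv5 F494254)) (tt N66815 (iv6 D206241)) (tt N107220 (iv7 F457505)))
theorem Q103058 : ∀ i, i < 103058 → P i := stepQ 103057 Q103057 (allL N103057 (tt N78317 (iv1 F439883)) (tt N66818 (iv0 D206242)) (tt N78316 (iv2 F439882)) (tt N76039 F439881) (tt N88922 F439880) (tt N68587 F439879) (tt N107630 F459012) (tt N78315 F439884))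
theorem Q103059 : ∀ i, i < 103059 → P i := stepQ 103058 Q103058 (allL N103058 (tt N101011 F439889) (tt N75905 F439890) (tt N76079 F439885) (tt N76138 F439886) (tt N102604 F439887) (tt N66819 (iv5 D206243)) (tt N92574 F439891) (tt N76077 F439888))
theorem Q103060 : ∀ i, i < 103060 → P i := stepQ 103059 Q103059 (allL N103059 (tt N74769 (iv1 F439898)) (tt N74768 F439899) (tt N74770 F439893) (tt N95921 F439894) (tt N69799 F439895) (tt N66821 F439896) (tt N101302 F439897) (tt N66820 (iv7 D206244)))
theorem Q103061 : ∀ i, i < 103061 → P i := stepQ 103060 Q103060 (allL N103060 (tt N112484 F481291) (tt N66824 (iv0 D206245)) (tt N68417 (iv2 F439903)) (tt N75801 F439901) (tt N68396 F439900) (tt N109401 (iv5 F466779)) (tt N75798 F439902) (tt N105023 (iv7 F448430)))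
theorem Q103062 : ∀ i, i < 103062 → P i := stepQ 103061 Q103061 (allL N103061 (tt N111940 (iv1 F478781)) (tt N66826 (iv0 D206246)) (tt N68565 (iv2 F439906)) (tt N80436 (iv3 F439907)) (tt N68280 F439904) (tt N105339 (iv5 F449774)) (tt N80434 F439905) (tt N94167 F439908))
theorem Q103063 : ∀ i, i < 103063 → P i := stepQ 103062 Q103062 (allL N103062 (tt N66826 (iv1 D206247)) (tt N111940 (iv0 F478782)) (tt N94167 F439913) (tt N66855 (iv3 F439911)) (tt N68281 (iv4 F439910)) (tt N102992 (iv5 F439912)) (tt N104260 (iv6 F444996)) (tt N68565 F439909))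
theorem Q103064 : ∀ i, i < 103064 → P i := stepQ 103063 Q103063 (allL N103063 (tt N94167 (iv1 F439919)) (tt N68565 F439920) (tt N111940 (iv2 F478776)) (tt N68489 F439915) (tt N89720 F439916) (tt N74786 F439917) (tt N68526 F439918) (tt N66826 (iv7 D206248)))
theorem Q103065 : ∀ i, i < 103065 → P i := stepQ 103064 Q103064 (allL N103064 (tt N79772 F439925) (tt N76028 F439926) (tt N76117 F439921) (tt N78739 F439922) (tt N80224 F439923) (tt N66832 (iv5 D206249)) (tt N118967 (iv6 F513021)) (tt N76115 F439924))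
theorem Q103066 : ∀ i, i < 103066 → P i := stepQ 103065 Q103065 (allL N103065 (tt N110535 (iv1 F472042)) (tt N76782 (iv0 F439929)) (tt N80304 F439927) (tt N104804 (iv3 F447364)) (tt N105348 (iv4 F449816)) (tt N66845 (iv5 D206250)) (tt N80303 F439928) (tt N104803 (iv7 F447361)))
theorem Q103067 : ∀ i, i < 103067 → P i := stepQ 103066 Q103066 (allL N103066 (tt N86055 F439933) (tt N85876 F439934) (tt N86137 F439930) (tt N66859 F439931) (tt N114583 (iv4 F490867)) (tt N66858 (iv5 D206251)) (tt N120772 D224031) (tt N77534 F439932))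
theorem Q103068 : ∀ i, i < 103068 → P i := stepQ 103067 Q103067 (allL N103067 (tt N117621 (iv1 F506040)) (tt N117620 F506036) (tt N66903 F439935) (tt N120772 (iv3 F522633)) (tt N118391 (iv4 F510100)) (tt N115920 (iv5 F497589)) (tt N66859 (iv6 D206252)) (tt N115919 (iv7 F497584)))
theorem Q103069 : ∀ i, i < 103069 → P i := stepQ 103068 Q103068 (allL N103068 (tt N100206 F439939) (tt N99974 F439940) (tt N109387 F466709) (tt N100597 F439936) (tt N66860 (iv4 D206253)) (tt N75045 F439938) (tt N66861 F439937) (tt N109363 (iv7 F466586)))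
theorem Q103070 : ∀ i, i < 103070 → P i := stepQ 103069 Q103069 (allL N103069 (tt N100211 F439942) (tt N100212 F439943) (tt N111150 (iv2 F474942)) (tt N110240 (iv3 F470583)) (tt N107273 (iv4 F457739)) (tt N66861 (iv5 D206254)) (tt N100765 F439941) (tt N111149 F474936))
theorem Q103071 : ∀ i, i < 103071 → P i := stepQ 103070 Q103070 (allL N103070 (tt N100212 F439946) (tt N100211 F439947) (tt N111149 F474934) (tt N85482 (iv3 F439948)) (tt N66870 (iv4 D206255)) (tt N85481 F439945) (tt N83040 F439944) (tt N111150 (iv7 F474938)))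
theorem Q103072 : ∀ i, i < 103072 → P i := stepQ 103071 Q103071 (allL N103071 (tt N118789 F512082) (tt N120773 D224032) (tt N116411 (iv2 F499962)) (tt N66874 (iv3 D206256)) (tt N106777 (iv4 F455636)) (tt N108319 (iv5 F462042)) (tt N66875 F439949) (tt N106774 (iv7 F455627)))
theorem Q103073 : ∀ i, i < 103073 → P i := stepQ 103072 Q103072 (allL N103072 (tt N103110 F440122) (tt N94071 (iv0 F439952)) (tt N104806 (iv2 F447382)) (tt N66882 F439950) (tt N76782 F439951) (tt N103146 (iv5 F440286)) (tt N66880 (iv6 D206257)) (tt N104802 (iv7 F447355)))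
theorem Q103074 : ∀ i, i < 103074 → P i := stepQ 103073 Q103073 (allL N103073 (tt N81170 F439958) (tt N81169 F439959) (tt N80812 F439953) (tt N81166 F439954) (tt N66881 (iv4 D206258)) (tt N87333 F439955) (tt N87814 F439956) (tt N81171 F439957))
theorem Q103075 : ∀ i, i < 103075 → P i := stepQ 103074 Q103074 (allL N103074 (tt N73439 (iv1 F439965)) (tt N73438 (iv0 F439964)) (tt N73441 F439960) (tt N66886 (iv3 D206259)) (tt N88946 F439961) (tt N112206 (iv5 F480051)) (tt N89505 F439962) (tt N73433 F439963))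
theorem Q103076 : ∀ i, i < 103076 → P i := stepQ 103075 Q103075 (allL N103075 (tt N73503 F439969) (tt N73502 F439970) (tt N73505 F439966) (tt N112206 (iv3 F480049)) (tt N87437 F439967) (tt N66886 (iv5 D206260)) (tt N112205 (iv6 F480047)) (tt N73485 F439968))
theorem Q103077 : ∀ i, i < 103077 → P i := stepQ 103076 Q103076 (allL N103076 (tt N108136 (iv1 F461262)) (tt N108138 (iv0 F461268)) (tt N76176 F439971) (tt N115064 (iv3 F493309)) (tt N84628 F439972) (tt N66887 (iv5 D206261)) (tt N120774 D224033) (tt N108157 (iv7 F461334)))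
theorem Q103078 : ∀ i, i < 103078 → P i := stepQ 103077 Q103077 (allL N103077 (tt N78079 F439975) (tt N118632 F511243) (tt N116127 (iv2 F498615)) (tt N66888 (iv3 D206262)) (tt N76148 F439973) (tt N108222 F461551) (tt N99308 F439974) (tt N105156 (iv7 F449047)))
theorem Q103079 : ∀ i, i < 103079 → P i := stepQ 103078 Q103078 (allL N103078 (tt N108230 (iv1 F461592)) (tt N84607 F439976) (tt N108235 (iv2 F461621)) (tt N108222 (iv3 F461552)) (tt N110970 (iv4 F474013)) (tt N66888 (iv5 D206263)) (tt N111407 (iv6 F476214)) (tt N108236 (iv7 F461624)))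
theorem Q103080 : ∀ i, i < 103080 → P i := stepQ 103079 Q103079 (allL N103079 (tt N107820 (iv1 F459848)) (tt N72904 F439981) (tt N76196 F439977) (tt N91930 F439978) (tt N101976 F439980) (tt N66891 (iv5 D206264)) (tt N95932 F439979) (tt N107819 (iv7 F459837)))
theorem Q103081 : ∀ i, i < 103081 → P i := stepQ 103080 Q103080 (allL N103080 (tt N66892 (iv1 D206265)) (tt N99304 (iv0 F439988)) (tt N72623 F439986) (tt N89083 (iv3 F439985)) (tt N102720 F439984) (tt N77531 F439987) (tt N118632 (iv6 F511240)) (tt N99337 F439983))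
theorem Q103082 : ∀ i, i < 103082 → P i := stepQ 103081 Q103081 (allL N103081 (tt N99337 (iv1 F439993)) (tt N72623 F439992) (tt N66892 (iv2 D206266)) (tt N90008 F439989) (tt N76157 F439990) (tt N110486 (iv5 F471803)) (tt N107726 F459411) (tt N99304 F439991))
theorem Q103083 : ∀ i, i < 103083 → P i := stepQ 103082 Q103082 (allL N103082 (tt N107227 (iv1 F457545)) (tt N96501 F439995) (tt N110486 F471805) (tt N66893 F439994) (tt N120775 D224034) (tt N66892 (iv5 D206267)) (tt N119187 F514263) (tt N107774 (iv7 F459662)))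
theorem Q103084 : ∀ i, i < 103084 → P i := stepQ 103083 Q103083 (allL N103083 (tt N107567 (iv1 F458781)) (tt N108917 (iv0 F464477)) (tt N110136 (iv2 F470128)) (tt N119187 F514262) (tt N96140 F439997) (tt N77102 F439998) (tt N66893 (iv6 D206268)) (tt N108318 (iv7 F462039)))
theorem Q103085 : ∀ i, i < 103085 → P i := stepQ 103084 Q103084 (allL N103084 (tt N102399 F440003) (tt N108307 (iv0 F461991)) (tt N73173 F439999) (tt N107880 (iv3 F460092)) (tt N73149 F440000) (tt N66894 (iv5 D206269)) (tt N77102 F440001) (tt N73177 F440002))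
theorem Q103086 : ∀ i, i < 103086 → P i := stepQ 103085 Q103085 (allL N103085 (tt N110480 (iv1 F471781)) (tt N109357 (iv0 F466554)) (tt N110482 F471789) (tt N115043 (iv3 F493186)) (tt N114500 (iv4 F490485)) (tt N66897 (iv5 D206270)) (tt N110484 (iv6 F471797)) (tt N110481 F471784))
theorem Q103087 : ∀ i, i < 103087 → P i := stepQ 103086 Q103086 (allL N103086 (tt N93942 (iv1 F440009)) (tt N93932 F440010) (tt N93940 F440007) (tt N107873 (iv3 F460069)) (tt N106793 (iv4 F455699)) (tt N117581 (iv5 F505828)) (tt N66897 (iv6 D206271)) (tt N93941 F440008))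
theorem Q103088 : ∀ i, i < 103088 → P i := stepQ 103087 Q103087 (allL N103087 (tt N109357 F466555) (tt N110480 (iv0 F471780)) (tt N110481 F471783) (tt N94666 F440011) (tt N91696 F440012) (tt N66898 (iv5 D206272)) (tt N120456 (iv6 F520884)) (tt N110482 (iv7 F471785)))
theorem Q103089 : ∀ i, i < 103089 → P i := stepQ 103088 Q103088 (allL N103088 (tt N110219 (iv1 F470485)) (tt N89038 (iv0 F440018)) (tt N77535 F440013) (tt N66904 F440014) (tt N93356 F440015) (tt N66900 F440016) (tt N66904 F440017) (tt N66899 (iv7 D206273)))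
theorem Q103090 : ∀ i, i < 103090 → P i := stepQ 103089 Q103089 (allL N103089 (tt N115919 (iv1 F497585)) (tt N66903 (iv0 D206274)) (tt N117621 F506045) (tt N114727 (iv3 F491553)) (tt N110220 F470491) (tt N120776 D224035) (tt N118407 (iv6 F510181)) (tt N117620 F506039))
theorem Q103091 : ∀ i, i < 103091 → P i := stepQ 103090 Q103090 (allL N103090 (tt N66903 (iv1 D206275)) (tt N115919 (iv0 F497586)) (tt N117620 (iv2 F506038)) (tt N69952 F464058) (tt N110221 (iv4 F470497)) (tt N120777 D224036) (tt N112482 (iv6 F481281)) (tt N117621 (iv7 F506041)))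
theorem Q103092 : ∀ i, i < 103092 → P i := stepQ 103091 Q103091 (allL N103091 (tt N66907 (iv1 D206276)) (tt N66945 F440019) (tt N66943 F440024) (tt N91330 (iv3 F440022)) (tt N83209 F440025) (tt N69675 F440021) (tt N79528 (iv6 F440023)) (tt N66942 F440020))
theorem Q103093 : ∀ i, i < 103093 → P i := stepQ 103092 Q103092 (allL N103092 (tt N81103 (iv1 F440031)) (tt N81102 F440032) (tt N80800 F440026) (tt N66921 F440027) (tt N102665 F440028) (tt N66916 F440029) (tt N68973 F440030) (tt N66915 (iv7 D206277)))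
theorem Q103094 : ∀ i, i < 103094 → P i := stepQ 103093 Q103093 (allL N103093 (tt N80755 F440038) (tt N81092 (iv0 F440039)) (tt N67020 F440033) (tt N77582 F440034) (tt N91965 F440035) (tt N80938 F440036) (tt N66917 (iv6 D206278)) (tt N77605 F440037))
theorem Q103095 : ∀ i, i < 103095 → P i := stepQ 103094 Q103094 (allL N103094 (tt N109537 F467432) (tt N116472 F500314) (tt N116471 (iv2 F500306)) (tt N66920 (iv3 D206279)) (tt N119917 (iv4 F518027)) (tt N115525 (iv5 F495631)) (tt N117120 F503494) (tt N116470 (iv7 F500302)))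
theorem Q103096 : ∀ i, i < 103096 → P i := stepQ 103095 Q103095 (allL N103095 (tt N66926 (iv1 F440042)) (tt N66924 (iv0 D206280)) (tt N75903 (iv2 F440041)) (tt N72811 (iv3 F440044)) (tt N77573 F440040) (tt N109470 (iv5 F467134)) (tt N75665 (iv6 F440045)) (tt N72808 F440043))
theorem Q103097 : ∀ i, i < 103097 → P i := stepQ 103096 Q103096 (allL N103096 (tt N73153 F440050) (tt N75890 F440051) (tt N75853 F440046) (tt N66926 F440047) (tt N81365 F440048) (tt N66925 (iv5 D206281)) (tt N111346 (iv6 F475929)) (tt N75888 F440049))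
theorem Q103098 : ∀ i, i < 103098 → P i := stepQ 103097 Q103097 (allL N103097 (tt N111348 (iv1 F475946)) (tt N75934 (iv0 F440054)) (tt N75904 F440052) (tt N111346 (iv3 F475928)) (tt N75159 F440053) (tt N101177 F440055) (tt N66926 (iv6 D206282)) (tt N101176 (iv7 F440056)))
theorem Q103099 : ∀ i, i < 103099 → P i := stepQ 103098 Q103098 (allL N103098 (tt N76079 F440063) (tt N76077 F440064) (tt N75905 F440058) (tt N87466 F440059) (tt N69864 F440060) (tt N66927 (iv5 D206283)) (tt N101177 F440061) (tt N101011 F440062))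
theorem Q103100 : ∀ i, i < 103100 → P i := stepQ 103099 Q103099 (allL N103099 (tt N107142 F457179) (tt N75820 F440069) (tt N112666 (iv2 F482080)) (tt N75839 F440065) (tt N77744 F440068) (tt N66928 (iv5 D206284)) (tt N100071 F440066) (tt N75924 F440067))
theorem Q103101 : ∀ i, i < 103101 → P i := stepQ 103100 Q103100 (allL N103100 (tt N75804 F440075) (tt N75887 (iv0 F440076)) (tt N75857 F440070) (tt N66929 (iv3 D206285)) (tt N81366 F440071) (tt N76756 F440072) (tt N72782 F440073) (tt N75914 F440074))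
theorem Q103102 : ∀ i, i < 103102 → P i := stepQ 103101 Q103101 (allL N103101 (tt N103890 F443235) (tt N66941 (iv0 D206286)) (tt N80757 (iv2 F440080)) (tt N81684 F440079) (tt N77587 F440078) (tt N90772 F440077) (tt N103109 F440115) (tt N80758 F440081))
theorem Q103103 : ∀ i, i < 103103 → P i := stepQ 103102 Q103102 (allL N103102 (tt N83291 F440083) (tt N111845 (iv0 F478279)) (tt N113327 (iv2 F485042)) (tt N69780 F440082) (tt N108232 (iv4 F461600)) (tt N66944 (iv5 D206287)) (tt N110345 (iv6 F471145)) (tt N113326 (iv7 F485038)))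
theorem Q103104 : ∀ i, i < 103104 → P i := stepQ 103103 Q103103 (allL N103103 (tt N109370 (iv1 F466620)) (tt N109665 (iv0 F468006)) (tt N109679 (iv2 F468064)) (tt N66947 (iv3 D206288)) (tt N73922 F440084) (tt N100162 F440085) (tt N84711 F440086) (tt N79087 F440087))
theorem Q103105 : ∀ i, i < 103105 → P i := stepQ 103104 Q103104 (allL N103104 (tt N86312 F440092) (tt N86311 F440093) (tt N75970 F440088) (tt N100159 F440089) (tt N82934 F440091) (tt N66948 (iv5 D206289)) (tt N115338 (iv6 F494668)) (tt N82931 F440090))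
theorem Q103106 : ∀ i, i < 103106 → P i := stepQ 103105 Q103105 (allL N103105 (tt N80367 F440098) (tt N80366 F440099) (tt N75971 F440094) (tt N67759 F440100) (tt N66949 (iv4 D206290)) (tt N66985 F440095) (tt N102986 F440096) (tt N80362 F440097))
theorem Q103107 : ∀ i, i < 103107 → P i := stepQ 103106 Q103106 (allL N103106 (tt N86317 F440103) (tt N86314 F440104) (tt N98418 F440101) (tt N75651 F440102) (tt N112907 (iv4 F483227)) (tt N66950 (iv5 D206291)) (tt N104947 (iv6 F448073)) (tt N109801 (iv7 F468684)))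
theorem Q103108 : ∀ i, i < 103108 → P i := stepQ 103107 Q103107 (allL N103107 (tt N111845 (iv1 F478280)) (tt N83291 F440107) (tt N113326 (iv2 F485036)) (tt N120778 D224037) (tt N66952 (iv4 D206292)) (tt N86253 F440106) (tt N98291 F440105) (tt N113327 (iv7 F485045)))
theorem Q103109 : ∀ i, i < 103109 → P i := stepQ 103108 Q103108 (allL N103108 (tt N108448 (iv1 F462625)) (tt N85856 (iv0 F440110)) (tt N108232 (iv2 F461598)) (tt N85873 F440108) (tt N113327 (iv4 F485043)) (tt N66953 F440109) (tt N113108 (iv6 F484005)) (tt N66952 (iv7 D206293)))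
theorem Q103110 : ∀ i, i < 103110 → P i := stepQ 103109 Q103109 (allL N103109 (tt N66963 (iv1 D206294)) (tt N66966 F440111) (tt N68025 F440116) (tt N100307 (iv3 F440114)) (tt N110510 (iv4 F471913)) (tt N68016 F440113) (tt N103101 (iv6 F440115)) (tt N68026 F440112))
theorem Q103111 : ∀ i, i < 103111 → P i := stepQ 103110 Q103110 (allL N103110 (tt N77702 F440121) (tt N103072 (iv0 F440122)) (tt N69320 F440117) (tt N100415 F440118) (tt N81059 F440119) (tt N100406 F440120) (tt N66969 (iv6 D206295)) (tt N104234 (iv7 F444849)))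
theorem Q103112 : ∀ i, i < 103112 → P i := stepQ 103111 Q103111 (allL N103111 (tt N118597 (iv1 F511080)) (tt N118492 (iv0 F510669)) (tt N118598 (iv2 F511086)) (tt N74292 (iv3 F440125)) (tt N66979 (iv4 D206296)) (tt N74291 F440124) (tt N82325 F440123) (tt N110653 (iv7 F472609)))
theorem Q103113 : ∀ i, i < 103113 → P i := stepQ 103112 Q103112 (allL N103112 (tt N113030 (iv1 F483624)) (tt N82748 (iv0 F440130)) (tt N103812 (iv2 F442925)) (tt N101704 F440126) (tt N77322 F440127) (tt N70049 F440128) (tt N66982 (iv6 D206297)) (tt N84125 F440129))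
theorem Q103114 : ∀ i, i < 103114 → P i := stepQ 103113 Q103113 (allL N103113 (tt N110255 (iv1 F470663)) (tt N66983 (iv0 D206298)) (tt N106160 (iv2 F453393)) (tt N78723 (iv3 F440134)) (tt N69778 F440132) (tt N78722 F440131) (tt N102152 F440133) (tt N101210 F440135))
theorem Q103115 : ∀ i, i < 103115 → P i := stepQ 103114 Q103114 (allL N103114 (tt N109240 F465943) (tt N111608 (iv0 F477141)) (tt N102264 F440136) (tt N80377 F440137) (tt N90199 F440138) (tt N80365 F440139) (tt N66986 (iv6 D206299)) (tt N90196 F440140))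
theorem Q103116 : ∀ i, i < 103116 → P i := stepQ 103115 Q103115 (allL N103115 (tt N89558 F440143) (tt N89565 (iv0 F440144)) (tt N89564 (iv2 F446572)) (tt N66987 (iv3 D206300)) (tt N74292 F440141) (tt N103519 (iv5 F441921)) (tt N109192 (iv6 F465727)) (tt N89563 F440142))
theorem Q103117 : ∀ i, i < 103117 → P i := stepQ 103116 Q103116 (allL N103116 (tt N82879 F440147) (tt N114901 (iv0 F492432)) (tt N110257 (iv2 F470669)) (tt N103519 (iv3 F441919)) (tt N92820 F440145) (tt N66987 (iv5 D206301)) (tt N82909 (iv6 F440148)) (tt N92822 F440146))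
theorem Q103118 : ∀ i, i < 103118 → P i := stepQ 103117 Q103117 (allL N103117 (tt N66994 (iv1 D206302)) (tt N81508 F440149) (tt N80181 F440154) (tt N119415 (iv3 F515497)) (tt N98070 (iv4 F440151)) (tt N80179 (iv5 F440152)) (tt N80334 (iv6 F440153)) (tt N80341 F440150))
theorem Q103119 : ∀ i, i < 103119 → P i := stepQ 103118 Q103118 (allL N103118 (tt N110274 (iv1 F470779)) (tt N120546 (iv0 F521375)) (tt N120072 (iv2 F518896)) (tt N110523 (iv3 F471969)) (tt N94649 F440155) (tt N66996 (iv5 D206303)) (tt N71233 F440156) (tt N113267 (iv7 F484791)))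
theorem Q103120 : ∀ i, i < 103120 → P i := stepQ 103119 Q103119 (allL N103119 (tt N66997 (iv1 D206304)) (tt N75344 F440157) (tt N75345 F440162) (tt N109233 (iv3 F465898)) (tt N90310 F440159) (tt N75278 F440160) (tt N80907 (iv6 F440161)) (tt N75277 F440158))
theorem Q103121 : ∀ i, i < 103121 → P i := stepQ 103120 Q103120 (allL N103120 (tt N75249 F440167) (tt N75253 (iv0 F440168)) (tt N75251 F440163) (tt N67000 F440164) (tt N86855 F440165) (tt N82199 F440166) (tt N66998 (iv6 D206305)) (tt N75250 (iv7 F440169)))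
theorem Q103122 : ∀ i, i < 103122 → P i := stepQ 103121 Q103121 (allL N103121 (tt N120546 F521376) (tt N110274 (iv0 F470778)) (tt N113267 (iv2 F484787)) (tt N98100 F440170) (tt N120009 (iv4 F518537)) (tt N66999 (iv5 D206306)) (tt N85631 F440171) (tt N120072 (iv7 F518900)))
theorem Q103123 : ∀ i, i < 103123 → P i := stepQ 103122 Q103122 (allL N103122 (tt N109191 F465724) (tt N77053 (iv0 F440176)) (tt N101820 F440172) (tt N98101 F440173) (tt N67000 F440174) (tt N91421 F440175) (tt N66999 (iv6 D206307)) (tt N112703 (iv7 F482255)))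
theorem Q103124 : ∀ i, i < 103124 → P i := stepQ 103123 Q103123 (allL N103123 (tt N112722 (iv1 F482362)) (tt N67000 (iv0 D206308)) (tt N78722 (iv2 F440178)) (tt N81435 F440179) (tt N96237 F440177) (tt N106160 (iv5 F453394)) (tt N81522 F440180) (tt N110043 (iv7 F469695)))
theorem Q103125 : ∀ i, i < 103125 → P i := stepQ 103124 Q103124 (allL N103124 (tt N110043 F469696) (tt N78722 (iv0 F440183)) (tt N112722 (iv2 F482356)) (tt N75250 F440181) (tt N112703 (iv4 F482252)) (tt N110420 (iv5 F471493)) (tt N75344 F440182) (tt N67000 (iv7 D206309)))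
theorem Q103126 : ∀ i, i < 103126 → P i := stepQ 103125 Q103125 (allL N103125 (tt N112379 (iv1 F480818)) (tt N112113 (iv0 F479546)) (tt N112376 (iv2 F480797)) (tt N75605 F440184) (tt N83125 F440186) (tt N67001 (iv5 D206310)) (tt N83127 F440185) (tt N108678 (iv7 F463504)))
theorem Q103127 : ∀ i, i < 103127 → P i := stepQ 103126 Q103126 (allL N103126 (tt N112113 F479547) (tt N112379 F480817) (tt N108678 (iv2 F463502)) (tt N75360 F440187) (tt N109294 (iv4 F466235)) (tt N67002 (iv5 D206311)) (tt N75359 F440188) (tt N112376 (iv7 F480800)))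
theorem Q103128 : ∀ i, i < 103128 → P i := stepQ 103127 Q103127 (allL N103127 (tt N114085 F488529) (tt N74075 (iv0 F440191)) (tt N114132 (iv2 F488673)) (tt N67003 (iv3 D206313)) (tt N111550 (iv4 F476874)) (tt N84621 F440192) (tt N67029 F440189) (tt N74039 F440190))
theorem Q103129 : ∀ i, i < 103129 → P i := stepQ 103128 Q103128 (allL N103128 (tt N77343 (iv1 F440197)) (tt N67008 (iv0 D206314)) (tt N77340 (iv2 F440196)) (tt N68230 F440194) (tt N101718 (iv4 F440199)) (tt N113030 (iv5 F483621)) (tt N76753 F440195) (tt N77341 F440198))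
theorem Q103130 : ∀ i, i < 103130 → P i := stepQ 103129 Q103129 (allL N103129 (tt N104568 (iv1 F446316)) (tt N98589 F440204) (tt N77342 F440200) (tt N67295 F440201) (tt N67008 (iv4 D206315)) (tt N97507 F440203) (tt N67037 F440202) (tt N120740 (iv7 F522451)))
theorem Q103131 : ∀ i, i < 103131 → P i := stepQ 103130 Q103130 (allL N103130 (tt N81068 F440209) (tt N82054 F440210) (tt N67018 F440205) (tt N77608 F440206) (tt N90492 F440208) (tt N67017 (iv5 D206316)) (tt N77607 F440207) (tt N107102 (iv7 F456978)))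
theorem Q103132 : ∀ i, i < 103132 → P i := stepQ 103131 Q103131 (allL N103131 (tt N67018 (iv1 D206317)) (tt N107102 F456981) (tt N82054 F440213) (tt N81055 (iv3 F440212)) (tt N112097 (iv4 F479480)) (tt N110132 (iv5 F470111)) (tt N106824 F455848) (tt N81068 F440211))
theorem Q103133 : ∀ i, i < 103133 → P i := stepQ 103132 Q103132 (allL N103132 (tt N77605 F440219) (tt N67020 (iv0 D206318)) (tt N80755 (iv2 F440216)) (tt N80797 (iv3 F440217)) (tt N91883 (iv4 F440218)) (tt N77586 F440214) (tt N80756 F440215) (tt N81092 F440220))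
theorem Q103134 : ∀ i, i < 103134 → P i := stepQ 103133 Q103133 (allL N103133 (tt N67020 (iv1 D206319)) (tt N77605 F440221) (tt N81092 (iv2 F440225)) (tt N79413 (iv3 F440226)) (tt N91886 F440224) (tt N77598 F440223) (tt N112732 (iv6 F482410)) (tt N80755 F440222))
theorem Q103135 : ∀ i, i < 103135 → P i := stepQ 103134 Q103134 (allL N103134 (tt N81092 (iv1 F440230)) (tt N80755 F440231) (tt N77605 F440227) (tt N80706 F440228) (tt N112121 (iv4 F479591)) (tt N81081 F440229) (tt N110397 (iv6 F471396)) (tt N67020 (iv7 D206320)))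
theorem Q103136 : ∀ i, i < 103136 → P i := stepQ 103135 Q103135 (allL N103135 (tt N67022 (iv1 D206321)) (tt N67025 F440232) (tt N69453 (iv2 F440236)) (tt N120779 D224038) (tt N76909 F440235) (tt N87213 F440234) (tt N108521 F462923) (tt N69454 F440233))
theorem Q103137 : ∀ i, i < 103137 → P i := stepQ 103136 Q103136 (allL N103136 (tt N112116 (iv1 F479562)) (tt N112115 F479558) (tt N112114 (iv2 F479548)) (tt N67026 F440237) (tt N100645 (iv4 F440240)) (tt N67024 (iv5 D206322)) (tt N100643 F440238) (tt N79487 F440239))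
theorem Q103138 : ∀ i, i < 103138 → P i := stepQ 103137 Q103137 (allL N103137 (tt N94099 F440247) (tt N82212 F440246) (tt N69425 F440241) (tt N79279 F440242) (tt N80147 F440243) (tt N67027 (iv5 D206323)) (tt N80149 F440244) (tt N79276 F440245))
theorem Q103139 : ∀ i, i < 103139 → P i := stepQ 103138 Q103138 (allL N103138 (tt N74109 (iv1 F440250)) (tt N91566 F440249) (tt N67029 (iv2 D206324)) (tt N116471 F500305) (tt N111560 (iv4 F476925)) (tt N115683 (iv5 F496292)) (tt N114132 (iv6 F488677)) (tt N74042 F440248))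
theorem Q103140 : ∀ i, i < 103140 → P i := stepQ 103139 Q103139 (allL N103139 (tt N114788 F491867) (tt N114789 (iv0 F491872)) (tt N115683 (iv2 F496291)) (tt N67030 F440251) (tt N115575 (iv4 F495836)) (tt N67029 (iv5 D206325)) (tt N88152 F440252) (tt N115526 (iv7 F495636)))
theorem Q103141 : ∀ i, i < 103141 → P i := stepQ 103140 Q103140 (allL N103140 (tt N97725 F440262) (tt N67910 F440263) (tt N67440 F440258) (tt N70499 F440259) (tt N67437 F440260) (tt N100816 F440261) (tt N67033 (iv6 D206326)) (tt N109279 (iv7 F466160)))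
theorem Q103142 : ∀ i, i < 103142 → P i := stepQ 103141 Q103141 (allL N103141 (tt N111825 (iv1 F478167)) (tt N68983 (iv0 F440265)) (tt N103583 (iv2 F442124)) (tt N103593 (iv3 F442170)) (tt N103305 (iv4 F441061)) (tt N87782 F440264) (tt N67036 (iv6 D206327)) (tt N111826 (iv7 F478172)))
theorem Q103143 : ∀ i, i < 103143 → P i := stepQ 103142 Q103142 (allL N103142 (tt N105279 (iv1 F449529)) (tt N99500 (iv0 F440269)) (tt N105280 (iv2 F449533)) (tt N67096 F440266) (tt N100429 F440267) (tt N96837 F440268) (tt N67038 (iv6 D206328)) (tt N105277 (iv7 F449522)))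
theorem Q103144 : ∀ i, i < 103144 → P i := stepQ 103143 Q103143 (allL N103143 (tt N75775 F440273) (tt N99925 F440274) (tt N100071 F440270) (tt N110517 (iv3 F471944)) (tt N69053 F440271) (tt N67039 (iv5 D206329)) (tt N112666 (iv6 F482083)) (tt N98379 F440272))
theorem Q103145 : ∀ i, i < 103145 → P i := stepQ 103144 Q103144 (allL N103144 (tt N112503 F481397) (tt N112506 (iv0 F481411)) (tt N112309 (iv2 F480474)) (tt N67049 F440275) (tt N92442 F440276) (tt N100688 F440277) (tt N67045 (iv6 D206330)) (tt N109911 (iv7 F469176)))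
theorem Q103146 : ∀ i, i < 103146 → P i := stepQ 103145 Q103145 (allL N103145 (tt N76648 F440282) (tt N70104 F440283) (tt N95836 F440278) (tt N67050 F440279) (tt N96504 F440284) (tt N67046 (iv5 D206331)) (tt N100688 F440280) (tt N80003 F440281))
theorem Q103147 : ∀ i, i < 103147 → P i := stepQ 103146 Q103146 (allL N103146 (tt N77701 (iv1 F440290)) (tt N77700 (iv0 F440291)) (tt N77703 F440285) (tt N67047 (iv3 D206332)) (tt N83204 F440288) (tt N103072 F440286) (tt N97372 (iv6 F440289)) (tt N77699 F440287))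
theorem Q103148 : ∀ i, i < 103148 → P i := stepQ 103147 Q103147 (allL N103147 (tt N87386 F440295) (tt N77415 F440296) (tt N91416 F440292) (tt N111587 F477030) (tt N67047 (iv4 D206333)) (tt N87240 F440293) (tt N90680 (iv6 F440297)) (tt N83220 F440294))
theorem Q103149 : ∀ i, i < 103149 → P i := stepQ 103148 Q103148 (allL N103148 (tt N77716 F440303) (tt N71044 F440304) (tt N77717 F440298) (tt N97372 F440299) (tt N90680 F440300) (tt N79661 F440301) (tt N67047 (iv6 D206334)) (tt N77715 F440302))
theorem Q103150 : ∀ i, i < 103150 → P i := stepQ 103149 Q103149 (allL N103149 (tt N71045 F440306) (tt N106116 F453196) (tt N106114 F453181) (tt N67048 (iv3 D206335)) (tt N92438 F440305) (tt N115529 (iv5 F495652)) (tt N97354 (iv6 F440307)) (tt N106113 (iv7 F453185)))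
theorem Q103151 : ∀ i, i < 103151 → P i := stepQ 103150 Q103150 (allL N103150 (tt N99282 F440313) (tt N117446 (iv0 F505076)) (tt N91621 F440308) (tt N97354 F440309) (tt N67049 F440310) (tt N91492 F440311) (tt N67048 (iv6 D206336)) (tt N91618 (iv7 F440312)))
theorem Q103152 : ∀ i, i < 103152 → P i := stepQ 103151 Q103151 (allL N103151 (tt N114571 F490817) (tt N106109 (iv0 F453159)) (tt N108951 (iv2 F464628)) (tt N67056 (iv3 D206337)) (tt N93961 F440315) (tt N88056 F440316) (tt N93960 F440317) (tt N117460 (iv7 F505149)))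
theorem Q103153 : ∀ i, i < 103153 → P i := stepQ 103152 Q103152 (allL N103152 (tt N67057 (iv1 D206338)) (tt N107942 F460398) (tt N79370 (iv2 F440322)) (tt N83186 (iv3 F440319)) (tt N80932 (iv4 F440320)) (tt N79423 F440318) (tt N91437 F440321) (tt N107943 (iv7 F460404)))
theorem Q103154 : ∀ i, i < 103154 → P i := stepQ 103153 Q103153 (allL N103153 (tt N79370 (iv1 F440326)) (tt N107943 F460406) (tt N107942 F460397) (tt N100388 F440323) (tt N108944 (iv4 F464606)) (tt N79366 F440324) (tt N79578 F440325) (tt N67057 (iv7 D206339)))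
theorem Q103155 : ∀ i, i < 103155 → P i := stepQ 103154 Q103154 (allL N103154 (tt N104660 F446747) (tt N108810 (iv0 F464063)) (tt N78126 F440327) (tt N67061 F440328) (tt N95798 F440329) (tt N109009 (iv5 F464898)) (tt N67059 (iv6 D206340)) (tt N98928 F440330))
theorem Q103156 : ∀ i, i < 103156 → P i := stepQ 103155 Q103155 (allL N103155 (tt N74975 F440336) (tt N74974 F440335) (tt N73396 F440331) (tt N109009 (iv3 F464896)) (tt N75014 F440334) (tt N67061 (iv5 D206341)) (tt N67062 F440332) (tt N74976 F440333))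
theorem Q103157 : ∀ i, i < 103157 → P i := stepQ 103156 Q103156 (allL N103156 (tt N116409 F499953) (tt N67067 (iv0 D206342)) (tt N118146 (iv2 F508845)) (tt N74583 F440338) (tt N119285 (iv4 F514828)) (tt N85099 F440337) (tt N74582 F440339) (tt N118147 (iv7 F508855)))
theorem Q103158 : ∀ i, i < 103158 → P i := stepQ 103157 Q103157 (allL N103157 (tt N67067 (iv1 D206343)) (tt N116409 (iv0 F499952)) (tt N118147 (iv2 F508852)) (tt N106600 (iv3 F455008)) (tt N109832 (iv4 F468829)) (tt N105356 (iv5 F449866)) (tt N119234 F514523) (tt N118146 (iv7 F508848)))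
theorem Q103159 : ∀ i, i < 103159 → P i := stepQ 103158 Q103158 (allL N103158 (tt N118146 (iv1 F508850)) (tt N118147 (iv0 F508856)) (tt N67067 (iv2 D206344)) (tt N106780 (iv3 F455650)) (tt N116941 (iv4 F502608)) (tt N80569 F440340) (tt N80570 F440341) (tt N116409 (iv7 F499951)))
theorem Q103160 : ∀ i, i < 103160 → P i := stepQ 103159 Q103159 (allL N103159 (tt N73393 (iv1 F440344)) (tt N67068 (iv0 D206345)) (tt N112479 (iv2 F481256)) (tt N73335 (iv3 F440345)) (tt N100456 F440342) (tt N107630 (iv5 F459011)) (tt N73333 F440343) (tt N110593 (iv7 F472291)))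
theorem Q103161 : ∀ i, i < 103161 → P i := stepQ 103160 Q103160 (allL N103160 (tt N67068 (iv1 D206346)) (tt N73393 F440346) (tt N110593 (iv2 F472294)) (tt N112477 (iv3 F481245)) (tt N100457 F448421) (tt N107629 (iv5 F459003)) (tt N119248 (iv6 F514613)) (tt N112479 (iv7 F481259)))
theorem Q103162 : ∀ i, i < 103162 → P i := stepQ 103161 Q103161 (allL N103161 (tt N93299 (iv1 F440349)) (tt N67069 (iv0 D206347)) (tt N120161 (iv2 F519358)) (tt N85111 F440348) (tt N119897 (iv4 F517917)) (tt N85110 F440347) (tt N101324 F440351) (tt N93460 (iv7 F440350)))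
theorem Q103163 : ∀ i, i < 103163 → P i := stepQ 103162 Q103162 (allL N103162 (tt N67069 (iv1 D206348)) (tt N93299 (iv0 F440355)) (tt N93460 (iv2 F440353)) (tt N117571 (iv3 F505765)) (tt N110636 (iv4 F472531)) (tt N72890 F440352) (tt N72891 (iv6 F440354)) (tt N120161 (iv7 F519354)))
theorem Q103164 : ∀ i, i < 103164 → P i := stepQ 103163 Q103163 (allL N103163 (tt N120161 (iv1 F519353)) (tt N93460 F440359) (tt N67069 (iv2 D206349)) (tt N89065 F440356) (tt N77942 F440357) (tt N93300 (iv5 F440360)) (tt N111381 F476094) (tt N93299 F440358))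
theorem Q103165 : ∀ i, i < 103165 → P i := stepQ 103164 Q103164 (allL N103164 (tt N93298 (iv1 F440367)) (tt N93297 F440364) (tt N93300 F440361) (tt N67070 F440362) (tt N94660 F440365) (tt N67069 (iv5 D206350)) (tt N93311 (iv6 F440366)) (tt N70121 F440363))
theorem Q103166 : ∀ i, i < 103166 → P i := stepQ 103165 Q103165 (allL N103165 (tt N101601 F440369) (tt N111382 F476100) (tt N111381 (iv2 F476095)) (tt N67071 F440368) (tt N120099 (iv4 F519036)) (tt N111698 (iv5 F477555)) (tt N67069 (iv6 D206351)) (tt N111380 (iv7 F476093)))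
theorem Q103167 : ∀ i, i < 103167 → P i := stepQ 103166 Q103166 (allL N103166 (tt N120407 (iv1 F520626)) (tt N120406 F520619) (tt N110035 (iv2 F469656)) (tt N93311 F440370) (tt N77520 F440371) (tt N111697 (iv5 F477548)) (tt N67070 (iv6 D206352)) (tt N93307 F440372))
theorem Q103168 : ∀ i, i < 103168 → P i := stepQ 103167 Q103167 (allL N103167 (tt N87979 (iv1 F440375)) (tt N67071 (iv0 D206353)) (tt N93830 F440377) (tt N114787 (iv3 F491858)) (tt N68563 F440374) (tt N88128 F440373) (tt N81718 (iv6 F440376)) (tt N110986 (iv7 F474096)))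
theorem Q103169 : ∀ i, i < 103169 → P i := stepQ 103168 Q103168 (allL N103168 (tt N67071 (iv1 D206354)) (tt N87979 F440378) (tt N110986 (iv2 F474093)) (tt N67840 F440383) (tt N67842 F440381) (tt N88127 F440380) (tt N102399 (iv6 F440382)) (tt N93830 F440379))
theorem Q103170 : ∀ i, i < 103170 → P i := stepQ 103169 Q103169 (allL N103169 (tt N81254 F440388) (tt N67083 F440389) (tt N81257 F440384) (tt N119077 (iv3 F513660)) (tt N67072 (iv4 D206355)) (tt N87971 F440385) (tt N73746 F440386) (tt N81255 F440387))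
theorem Q103171 : ∀ i, i < 103171 → P i := stepQ 103170 Q103170 (allL N103170 (tt N89065 (iv1 F440391)) (tt N67075 (iv0 D206356)) (tt N91420 (iv2 F440392)) (tt N117565 F505728) (tt N89379 F440390) (tt N94965 (iv5 F440394)) (tt N95113 (iv6 F440393)) (tt N120162 (iv7 F519364)))
theorem Q103172 : ∀ i, i < 103172 → P i := stepQ 103171 Q103171 (allL N103171 (tt N67075 (iv1 D206357)) (tt N89065 (iv0 F440397)) (tt N120162 F519362) (tt N108656 (iv3 F463389)) (tt N89380 F440396) (tt N116922 (iv5 F502509)) (tt N120780 D224039) (tt N91420 F440395))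
theorem Q103173 : ∀ i, i < 103173 → P i := stepQ 103172 Q103172 (allL N103172 (tt N91420 (iv1 F440401)) (tt N120162 F519363) (tt N67075 (iv2 D206358)) (tt N93299 F440398) (tt N84235 F440399) (tt N93292 (iv5 F440402)) (tt N93295 F440403) (tt N89065 F440400))
theorem Q103174 : ∀ i, i < 103174 → P i := stepQ 103173 Q103173 (allL N103173 (tt N90112 (iv1 F440409)) (tt N90052 F440407) (tt N93292 F440404) (tt N67076 F440405) (tt N90081 F440406) (tt N67075 (iv5 D206359)) (tt N93287 (iv6 F440408)) (tt N110034 (iv7 F469653)))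
theorem Q103175 : ∀ i, i < 103175 → P i := stepQ 103174 Q103174 (allL N103174 (tt N118590 (iv1 F511042)) (tt N92908 (iv0 F440414)) (tt N93295 F440410) (tt N67077 F440411) (tt N71656 F440412) (tt N93288 F440413) (tt N67075 (iv6 D206360)) (tt N93732 (iv7 F440415)))
theorem Q103176 : ∀ i, i < 103176 → P i := stepQ 103175 Q103175 (allL N103175 (tt N73396 F440422) (tt N74976 F440421) (tt N74974 F440416) (tt N71983 F440417) (tt N74837 F440420) (tt N67079 (iv5 D206361)) (tt N75255 F440418) (tt N74975 F440419))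
theorem Q103177 : ∀ i, i < 103177 → P i := stepQ 103176 Q103176 (allL N103176 (tt N93428 (iv1 F440425)) (tt N93425 F440424) (tt N67081 (iv2 D206362)) (tt N109632 (iv3 F467846)) (tt N118537 (iv4 F510843)) (tt N107222 F457519) (tt N118797 F512127) (tt N93426 F440423))
theorem Q103178 : ∀ i, i < 103178 → P i := stepQ 103177 Q103177 (allL N103177 (tt N96904 F440427) (tt N73050 (iv0 F440428)) (tt N118797 (iv2 F512128)) (tt N67083 F440426) (tt N118320 (iv4 F509687)) (tt N111541 (iv5 F476824)) (tt N67081 (iv6 D206363)) (tt N116005 (iv7 F498007)))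
theorem Q103179 : ∀ i, i < 103179 → P i := stepQ 103178 Q103178 (allL N103178 (tt N120781 D224040) (tt N120782 D224041) (tt N109634 (iv2 F467854)) (tt N120008 (iv3 F518531)) (tt N77504 F440429) (tt N116006 (iv5 F498014)) (tt N67082 (iv6 D206364)) (tt N116020 (iv7 F498094)))
theorem Q103180 : ∀ i, i < 103180 → P i := stepQ 103179 Q103179 (allL N103179 (tt N95232 (iv1 F440434)) (tt N95239 F440435) (tt N95222 F440430) (tt N94738 F440431) (tt N94864 F440432) (tt N94736 F440433) (tt N110216 (iv6 F470473)) (tt N67090 (iv7 D206365)))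
theorem Q103181 : ∀ i, i < 103181 → P i := stepQ 103180 Q103180 (allL N103180 (tt N75811 F440440) (tt N109313 (iv0 F466341)) (tt N110517 (iv2 F471943)) (tt N67094 F440436) (tt N75660 F440437) (tt N67093 (iv5 D206366)) (tt N75916 F440438) (tt N76764 F440439))
theorem Q103182 : ∀ i, i < 103182 → P i := stepQ 103181 Q103181 (allL N103181 (tt N70478 F440446) (tt N70497 F440447) (tt N67837 F440441) (tt N81503 F440442) (tt N67098 (iv4 D206367)) (tt N102681 F440443) (tt N94101 F440444) (tt N70496 F440445))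
theorem Q103183 : ∀ i, i < 103183 → P i := stepQ 103182 Q103182 (allL N103182 (tt N71813 F440450) (tt N100238 (iv0 F440451)) (tt N72061 F440448) (tt N110536 (iv3 F472043)) (tt N67101 (iv4 D206368)) (tt N100965 (iv5 F440452)) (tt N71305 F440449) (tt N108427 (iv7 F462515)))
theorem Q103184 : ∀ i, i < 103184 → P i := stepQ 103183 Q103183 (allL N103183 (tt N116632 (iv1 F501072)) (tt N116386 (iv0 F499828)) (tt N74515 F440457) (tt N74512 F440458) (tt N108831 (iv4 F464160)) (tt N100044 F440459) (tt N67104 (iv6 D206369)) (tt N100102 (iv7 F440460)))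
theorem Q103185 : ∀ i, i < 103185 → P i := stepQ 103184 Q103184 (allL N103184 (tt N67106 (iv1 D206370)) (tt N91375 F440461) (tt N85271 F440465) (tt N91356 (iv3 F440464)) (tt N77737 F440467) (tt N97077 F440463) (tt N94076 F440466) (tt N91376 F440462))
theorem Q103186 : ∀ i, i < 103186 → P i := stepQ 103185 Q103185 (allL N103185 (tt N67110 (iv1 F440470)) (tt N67107 (iv0 D206371)) (tt N108656 F463390) (tt N117564 (iv3 F505722)) (tt N81124 F440469) (tt N89805 F440468) (tt N111546 (iv6 F476849)) (tt N92879 (iv7 F440471)))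
theorem Q103187 : ∀ i, i < 103187 → P i := stepQ 103186 Q103186 (allL N103186 (tt N67107 (iv1 D206372)) (tt N67110 F440472) (tt N92879 (iv2 F440475)) (tt N91420 (iv3 F440477)) (tt N81125 F440473) (tt N89804 F440474) (tt N92875 F440476) (tt N108656 (iv7 F463392)))
theorem Q103188 : ∀ i, i < 103188 → P i := stepQ 103187 Q103187 (allL N103187 (tt N78830 F440480) (tt N78829 F440481) (tt N67116 F440478) (tt N120783 D224042) (tt N67113 (iv4 D206373)) (tt N113473 (iv5 F485651)) (tt N111846 (iv6 F478283)) (tt N78831 F440479))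
theorem Q103189 : ∀ i, i < 103189 → P i := stepQ 103188 Q103188 (allL N103188 (tt N78831 (iv1 F440486)) (tt N67116 (iv0 D206374)) (tt N78830 (iv2 F440485)) (tt N86356 F440484) (tt N86358 F440482) (tt N90139 F440483) (tt N98182 F440488) (tt N78829 F440487))
theorem Q103190 : ∀ i, i < 103190 → P i := stepQ 103189 Q103189 (allL N103189 (tt N109330 (iv1 F466414)) (tt N91740 (iv0 F440491)) (tt N111846 F478282) (tt N78835 F440489) (tt N67117 F440490) (tt N116419 (iv5 F500006)) (tt N67116 (iv6 D206375)) (tt N106352 (iv7 F454105)))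
theorem Q103191 : ∀ i, i < 103191 → P i := stepQ 103190 Q103190 (allL N103190 (tt N114891 (iv1 F492376)) (tt N109167 (iv0 F465656)) (tt N116352 (iv2 F499672)) (tt N67118 (iv3 D206376)) (tt N109210 F465799) (tt N98628 F440492) (tt N113757 F486984) (tt N98627 F440493))
theorem Q103192 : ∀ i, i < 103192 → P i := stepQ 103191 Q103191 (allL N103191 (tt N111216 F475262) (tt N119650 F516711) (tt N98340 F440494) (tt N113757 F486983) (tt N78390 F440495) (tt N120784 D224043) (tt N67118 (iv6 D206377)) (tt N115003 (iv7 F493008)))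
theorem Q103193 : ∀ i, i < 103193 → P i := stepQ 103192 Q103192 (allL N103192 (tt N67120 (iv1 D206378)) (tt N98707 F440496) (tt N98650 (iv2 F440500)) (tt N106250 (iv3 F453768)) (tt N78776 F440499) (tt N102916 F440498) (tt N98601 (iv6 F440501)) (tt N98648 F440497))
theorem Q103194 : ∀ i, i < 103194 → P i := stepQ 103193 Q103193 (allL N103193 (tt N98650 (iv1 F440506)) (tt N98648 F440507) (tt N98707 F440502) (tt N103680 F442462) (tt N67122 F440503) (tt N97687 F440504) (tt N98696 F440505) (tt N67120 (iv7 D206379)))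
theorem Q103195 : ∀ i, i < 103195 → P i := stepQ 103194 Q103194 (allL N103194 (tt N86887 F440510) (tt N117756 (iv0 F506814)) (tt N98213 F440508) (tt N108231 (iv3 F461594)) (tt N119671 (iv4 F516832)) (tt N69480 F440509) (tt N67121 (iv6 D206380)) (tt N104000 (iv7 F443724)))
theorem Q103196 : ∀ i, i < 103196 → P i := stepQ 103195 Q103195 (allL N103195 (tt N71821 F440515) (tt N71820 F440516) (tt N67126 F440511) (tt N102820 F440512) (tt N120785 D224044) (tt N67125 (iv5 D206381)) (tt N96919 F440513) (tt N71819 F440514))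
theorem Q103197 : ∀ i, i < 103197 → P i := stepQ 103196 Q103196 (allL N103196 (tt N106736 (iv1 F455480)) (tt N106738 (iv0 F455489)) (tt N120785 (iv2 F522697)) (tt N71822 F440517) (tt N67126 (iv4 D206382)) (tt N120786 D224045) (tt N118934 (iv6 F512829)) (tt N71822 F440518))
theorem Q103198 : ∀ i, i < 103198 → P i := stepQ 103197 Q103197 (allL N103197 (tt N103218 (iv1 F440623)) (tt N103217 F440628) (tt N103220 (iv2 F440636)) (tt N96868 F440519) (tt N71827 F440520) (tt N96867 F440521) (tt N71827 F440522) (tt N67127 (iv7 D206383)))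
theorem Q103199 : ∀ i, i < 103199 → P i := stepQ 103198 Q103198 (allL N103198 (tt N90527 F440528) (tt N89208 F440529) (tt N79579 F440523) (tt N90571 F440524) (tt N79577 F440525) (tt N91650 F440526) (tt N67129 (iv6 D206384)) (tt N90526 F440527))
theorem Q103200 : ∀ i, i < 103200 → P i := stepQ 103199 Q103199 (allL N103199 (tt N102823 F440534) (tt N74344 F440535) (tt N67131 F440530) (tt N71819 F440531) (tt N88251 (iv4 F440536)) (tt N67130 (iv5 D206385)) (tt N87747 F440532) (tt N102820 F440533))
theorem Q103201 : ∀ i, i < 103201 → P i := stepQ 103200 Q103200 (allL N103200 (tt N67131 (iv1 D206386)) (tt N102820 F440537) (tt N74344 (iv2 F440540)) (tt N119577 (iv3 F516346)) (tt N111662 (iv4 F477364)) (tt N71347 F440539) (tt N83577 (iv6 F440541)) (tt N102823 F440538))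
theorem Q103202 : ∀ i, i < 103202 → P i := stepQ 103201 Q103201 (allL N103201 (tt N88282 (iv1 F440547)) (tt N102218 F440546) (tt N88251 F440542) (tt N93179 F440543) (tt N67131 (iv4 D206387)) (tt N120787 D224046) (tt N79703 F440544) (tt N93179 F440545))
theorem Q103203 : ∀ i, i < 103203 → P i := stepQ 103202 Q103202 (allL N103202 (tt N67133 (iv1 D206388)) (tt N71827 F440548) (tt N71825 (iv2 F440551)) (tt N120788 D224047) (tt N96074 (iv4 F440552)) (tt N87715 F440550) (tt N115710 (iv6 F496440)) (tt N71824 F440549))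
theorem Q103204 : ∀ i, i < 103204 → P i := stepQ 103203 Q103203 (allL N103203 (tt N93281 F440558) (tt N93326 (iv0 F440559)) (tt N93316 F440553) (tt N67137 (iv3 D206389)) (tt N72418 F440554) (tt N98323 F440555) (tt N89596 F440556) (tt N93327 F440557))
theorem Q103205 : ∀ i, i < 103205 → P i := stepQ 103204 Q103204 (allL N103204 (tt N90297 F440563) (tt N108229 (iv0 F461584)) (tt N108227 (iv2 F461569)) (tt N93325 F440560) (tt N67141 F440561) (tt N90379 F461585) (tt N67140 (iv6 D206390)) (tt N93674 F440562))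
theorem Q103206 : ∀ i, i < 103206 → P i := stepQ 103205 Q103205 (allL N103205 (tt N67141 (iv1 D206391)) (tt N102870 F440564) (tt N71831 F440568) (tt N102874 (iv3 F440566)) (tt N73530 (iv4 F440567)) (tt N109528 (iv5 F467382)) (tt N97152 F440569) (tt N102871 F440565))
theorem Q103207 : ∀ i, i < 103207 → P i := stepQ 103206 Q103206 (allL N103206 (tt N115195 F493970) (tt N115196 (iv0 F493975)) (tt N112881 (iv2 F483120)) (tt N71589 F440570) (tt N67142 (iv4 D206392)) (tt N120789 D224048) (tt N112877 (iv6 F483099)) (tt N71589 F440571))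
theorem Q103208 : ∀ i, i < 103208 → P i := stepQ 103207 Q103207 (allL N103207 (tt N116076 F498341) (tt N120790 D224049) (tt N103225 (iv2 F440659)) (tt N119351 (iv3 F515163)) (tt N97280 F440572) (tt N108565 F463077) (tt N67143 (iv6 D206393)) (tt N120791 D224050))
theorem Q103209 : ∀ i, i < 103209 → P i := stepQ 103208 Q103208 (allL N103208 (tt N104418 (iv1 F445672)) (tt N93081 (iv0 F440573)) (tt N104419 (iv2 F445675)) (tt N67144 (iv3 D206394)) (tt N68783 F440575) (tt N87617 F440574) (tt N68782 (iv6 F440576)) (tt N103223 (iv7 F440655)))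
theorem Q103210 : ∀ i, i < 103210 → P i := stepQ 103209 Q103209 (allL N103209 (tt N83742 F440579) (tt N119350 F515160) (tt N103227 (iv2 F440666)) (tt N87617 F440577) (tt N86607 F440578) (tt N67144 (iv5 D206395)) (tt N104193 (iv6 F444624)) (tt N103224 (iv7 F440658)))
theorem Q103211 : ∀ i, i < 103211 → P i := stepQ 103210 Q103210 (allL N103210 (tt N103382 F441380) (tt N114237 (iv0 F489156)) (tt N103228 (iv2 F440670)) (tt N68782 F440580) (tt N97282 F440581) (tt N103341 F441198) (tt N67144 (iv6 D206396)) (tt N116073 (iv7 F498324)))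
theorem Q103212 : ∀ i, i < 103212 → P i := stepQ 103211 Q103211 (allL N103211 (tt N99172 F440586) (tt N96072 (iv0 F440587)) (tt N97286 F440582) (tt N71835 F440583) (tt N67145 (iv4 D206397)) (tt N120792 D224051) (tt N90995 F440584) (tt N89304 F440585))
theorem Q103213 : ∀ i, i < 103213 → P i := stepQ 103212 Q103212 (allL N103212 (tt N90934 (iv1 F440593)) (tt N90933 (iv0 F440594)) (tt N89300 F440588) (tt N99095 F440589) (tt N75929 F440590) (tt N75880 F440591) (tt N67146 (iv6 D206398)) (tt N90935 F440592))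
theorem Q103214 : ∀ i, i < 103214 → P i := stepQ 103213 Q103213 (allL N103213 (tt N94396 F440600) (tt N94393 F440599) (tt N67148 F440595) (tt N98943 F440596) (tt N97327 F440597) (tt N67147 (iv5 D206399)) (tt N110665 (iv6 F472672)) (tt N71564 F440598))
theorem Q103215 : ∀ i, i < 103215 → P i := stepQ 103214 Q103214 (allL N103214 (tt N71564 (iv1 F440604)) (tt N67148 (iv0 D206400)) (tt N94396 (iv2 F440605)) (tt N99479 F440603) (tt N94211 F440602) (tt N74079 F440601) (tt N119691 F516942) (tt N94393 (iv7 F440606)))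
theorem Q103216 : ∀ i, i < 103216 → P i := stepQ 103215 Q103215 (allL N103215 (tt N67148 (iv1 D206401)) (tt N71564 F440607) (tt N94393 (iv2 F440613)) (tt N68333 (iv3 F440611)) (tt N94210 F440610) (tt N74080 F440609) (tt N99291 F440612) (tt N94396 F440608))
theorem Q103217 : ∀ i, i < 103217 → P i := stepQ 103216 Q103216 (allL N103216 (tt N98945 (iv1 F440616)) (tt N67149 (iv0 D206402)) (tt N76828 (iv2 F440615)) (tt N110663 F472658) (tt N79414 F440614) (tt N119261 (iv5 F514686)) (tt N76826 F440618) (tt N98944 F440617))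
theorem Q103218 : ∀ i, i < 103218 → P i := stepQ 103217 Q103217 (allL N103217 (tt N103197 (iv1 F440628)) (tt N67150 (iv0 D206403)) (tt N102863 (iv2 F440621)) (tt N104199 (iv3 F444658)) (tt N80028 F440619) (tt N103234 (iv5 F440702)) (tt N87396 F440620) (tt N102865 (iv7 F440622)))
theorem Q103219 : ∀ i, i < 103219 → P i := stepQ 103218 Q103218 (allL N103218 (tt N67150 (iv1 D206404)) (tt N103197 F440623) (tt N102865 F440627) (tt N112713 (iv3 F482314)) (tt N87487 F440625) (tt N103334 (iv5 F441183)) (tt N97148 (iv6 F440626)) (tt N102863 F440624))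
theorem Q103220 : ∀ i, i < 103220 → P i := stepQ 103219 Q103219 (allL N103219 (tt N67360 F440634) (tt N86980 (iv0 F440635)) (tt N95557 F440629) (tt N87019 F440630) (tt N101983 F440631) (tt N67150 (iv5 D206405)) (tt N67151 F440632) (tt N102960 F440633))
theorem Q103221 : ∀ i, i < 103221 → P i := stepQ 103220 Q103220 (allL N103220 (tt N102865 (iv1 F440641)) (tt N102863 F440642) (tt N103197 F440636) (tt N68803 F440637) (tt N102962 F440638) (tt N102960 F440639) (tt N102962 F440640) (tt N67150 (iv7 D206406)))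
theorem Q103222 : ∀ i, i < 103222 → P i := stepQ 103221 Q103221 (allL N103221 (tt N97189 (iv1 F440644)) (tt N67159 (iv0 D206407)) (tt N115809 (iv2 F497003)) (tt N71821 F440646) (tt N87105 F440643) (tt N105995 (iv5 F452672)) (tt N87104 (iv6 F440645)) (tt N106696 (iv7 F455315)))
theorem Q103223 : ∀ i, i < 103223 → P i := stepQ 103222 Q103222 (allL N103222 (tt N67159 (iv1 D206408)) (tt N97189 F440647) (tt N106696 (iv2 F455313)) (tt N88435 (iv3 F440650)) (tt N78675 F440649) (tt N96049 F440648) (tt N78674 F440654) (tt N115809 (iv7 F497006)))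
theorem Q103224 : ∀ i, i < 103224 → P i := stepQ 103223 Q103223 (allL N103223 (tt N117575 (iv1 F505797)) (tt N68820 (iv0 F440656)) (tt N115731 (iv2 F496561)) (tt N67161 (iv3 D206409)) (tt N104400 (iv4 F445603)) (tt N115484 (iv5 F495424)) (tt N119433 (iv6 F515598)) (tt N103208 F440655))
theorem Q103225 : ∀ i, i < 103225 → P i := stepQ 103224 Q103224 (allL N103224 (tt N113633 (iv1 F486401)) (tt N113631 (iv0 F486388)) (tt N97259 F440657) (tt N115484 (iv3 F495426)) (tt N111005 (iv4 F474198)) (tt N67161 (iv5 D206410)) (tt N120793 D224052) (tt N103209 F440658))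
theorem Q103226 : ∀ i, i < 103226 → P i := stepQ 103225 Q103225 (allL N103225 (tt N106720 F486390) (tt N120794 D224053) (tt N103207 F440659) (tt N119433 (iv3 F515596)) (tt N97161 F440660) (tt N120033 F518671) (tt N67161 (iv6 D206411)) (tt N120795 D224054))
theorem Q103227 : ∀ i, i < 103227 → P i := stepQ 103226 Q103226 (allL N103226 (tt N93113 F440662) (tt N115180 (iv0 F493894)) (tt N88818 F440665) (tt N67162 (iv3 D206412)) (tt N118100 (iv4 F508588)) (tt N78517 (iv5 F440663)) (tt N78525 (iv6 F440664)) (tt N97260 F440661))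
theorem Q103228 : ∀ i, i < 103228 → P i := stepQ 103227 Q103227 (allL N103227 (tt N113631 F486389) (tt N113633 F486400) (tt N103209 F440666) (tt N78517 F440667) (tt N104021 (iv4 F443816)) (tt N67162 (iv5 D206413)) (tt N78516 F440669) (tt N97259 F440668))
theorem Q103229 : ∀ i, i < 103229 → P i := stepQ 103228 Q103228 (allL N103228 (tt N115691 (iv1 F496342)) (tt N88337 (iv0 F440674)) (tt N103210 F440670) (tt N78525 F440671) (tt N97159 F440672) (tt N78524 F440673) (tt N67162 (iv6 D206414)) (tt N120267 (iv7 F519917)))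
theorem Q103230 : ∀ i, i < 103230 → P i := stepQ 103229 Q103229 (allL N103229 (tt N67241 (iv1 F440678)) (tt N67164 (iv0 D206415)) (tt N67240 (iv2 F440677)) (tt N92111 F440676) (tt N102418 F440680) (tt N67212 F440675) (tt N115754 (iv6 F496679)) (tt N67239 F440679))
theorem Q103231 : ∀ i, i < 103231 → P i := stepQ 103230 Q103230 (allL N103230 (tt N97682 F440683) (tt N119491 F515881) (tt N103480 (iv2 F441802)) (tt N67166 (iv3 D206416)) (tt N98712 F440682) (tt N103381 (iv5 F441375)) (tt N68832 (iv6 F440684)) (tt N67291 F440681))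
theorem Q103232 : ∀ i, i < 103232 → P i := stepQ 103231 Q103231 (allL N103231 (tt N98567 F440688) (tt N97665 (iv0 F440690)) (tt N67295 F440685) (tt N68832 F440686) (tt N97880 F440687) (tt N68831 F440689) (tt N67166 (iv6 D206417)) (tt N103473 (iv7 F441780)))
theorem Q103233 : ∀ i, i < 103233 → P i := stepQ 103232 Q103232 (allL N103232 (tt N67298 F440694) (tt N67297 F440695) (tt N67169 F440691) (tt N67272 F440692) (tt N111757 (iv4 F477814)) (tt N67168 (iv5 D206418)) (tt N117701 (iv6 F506504)) (tt N67296 F440693))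
theorem Q103234 : ∀ i, i < 103234 → P i := stepQ 103233 Q103233 (allL N103233 (tt N67169 (iv1 D206419)) (tt N67296 F440696) (tt N67297 (iv2 F440700)) (tt N67980 (iv3 F440699)) (tt N115694 (iv4 F496356)) (tt N67176 F440698) (tt N120501 (iv6 F521116)) (tt N67298 F440697))
theorem Q103235 : ∀ i, i < 103235 → P i := stepQ 103234 Q103234 (allL N103234 (tt N78524 F440703) (tt N120266 (iv0 F519911)) (tt N111757 F477819) (tt N103280 (iv3 F440959)) (tt N67169 (iv4 D206420)) (tt N103217 F440702) (tt N113624 F486354) (tt N67299 F440701))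
theorem Q103236 : ∀ i, i < 103236 → P i := stepQ 103235 Q103235 (allL N103235 (tt N102410 F440705) (tt N104268 (iv0 F445037)) (tt N105111 (iv2 F448841)) (tt N67171 (iv3 D206421)) (tt N105471 (iv4 F450388)) (tt N103366 (iv5 F441303)) (tt N103443 (iv6 F441663)) (tt N67268 F440704))
theorem Q103237 : ∀ i, i < 103237 → P i := stepQ 103236 Q103236 (allL N103236 (tt N104562 F446281) (tt N116207 (iv0 F499020)) (tt N67267 F440706) (tt N103443 (iv3 F441660)) (tt N105470 (iv4 F450383)) (tt N103442 F441657) (tt N67171 (iv6 D206422)) (tt N106737 (iv7 F455484)))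
theorem Q103238 : ∀ i, i < 103238 → P i := stepQ 103237 Q103237 (allL N103237 (tt N67275 F440712) (tt N67274 F440713) (tt N67173 F440707) (tt N67296 F440708) (tt N84146 F440709) (tt N67172 (iv5 D206423)) (tt N81759 F440710) (tt N67272 F440711))
theorem Q103239 : ∀ i, i < 103239 → P i := stepQ 103238 Q103238 (allL N103238 (tt N81757 F440718) (tt N81760 F440719) (tt N81759 F440714) (tt N67175 F440715) (tt N109287 (iv4 F466194)) (tt N93621 F440716) (tt N67173 (iv6 D206424)) (tt N81758 F440717))
theorem Q103240 : ∀ i, i < 103240 → P i := stepQ 103239 Q103239 (allL N103239 (tt N95557 F440725) (tt N102960 F440726) (tt N86980 F440720) (tt N91806 F440721) (tt N67178 (iv4 D206425)) (tt N88337 F440724) (tt N85946 F440722) (tt N67360 F440723))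
theorem Q103241 : ∀ i, i < 103241 → P i := stepQ 103240 Q103240 (allL N103240 (tt N67338 (iv1 F440732)) (tt N67337 F440733) (tt N67340 F440727) (tt N86977 F440728) (tt N102340 F440729) (tt N80739 F440730) (tt N67364 F440731) (tt N67180 (iv7 D206426)))
theorem Q103242 : ∀ i, i < 103242 → P i := stepQ 103241 Q103241 (allL N103241 (tt N104270 (iv1 F445048)) (tt N104271 (iv0 F445052)) (tt N67344 F440734) (tt N102086 F440735) (tt N87761 F440738) (tt N67182 (iv5 D206427)) (tt N102084 F440736) (tt N67342 F440737))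
theorem Q103243 : ∀ i, i < 103243 → P i := stepQ 103242 Q103242 (allL N103242 (tt N67183 (iv1 D206428)) (tt N67349 F440739) (tt N67347 (iv2 F440743)) (tt N103922 (iv3 F443387)) (tt N91903 F440742) (tt N68623 F440741) (tt N117699 (iv6 F506491)) (tt N67346 F440740))
theorem Q103244 : ∀ i, i < 103244 → P i := stepQ 103243 Q103243 (allL N103243 (tt N67205 F440749) (tt N103416 (iv0 F441528)) (tt N102373 F440744) (tt N67185 (iv3 D206429)) (tt N92774 F440745) (tt N102093 F440746) (tt N92773 F440747) (tt N67350 F440748))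
theorem Q103245 : ∀ i, i < 103245 → P i := stepQ 103244 Q103244 (allL N103244 (tt N69964 F440754) (tt N67968 F440755) (tt N67408 F440750) (tt N112342 (iv3 F480659)) (tt N67187 (iv4 D206430)) (tt N80908 F440753) (tt N72070 F440751) (tt N67405 F440752))
theorem Q103246 : ∀ i, i < 103246 → P i := stepQ 103245 Q103245 (allL N103245 (tt N67470 F440760) (tt N67216 F440761) (tt N67409 F440756) (tt N108962 F464687) (tt N79722 F440759) (tt N67187 (iv5 D206431)) (tt N80067 F440757) (tt N67406 F440758))
theorem Q103247 : ∀ i, i < 103247 → P i := stepQ 103246 Q103246 (allL N103246 (tt N67968 F440767) (tt N69964 F440768) (tt N67405 F440762) (tt N69746 F440763) (tt N67188 (iv4 D206432)) (tt N81514 F440764) (tt N82761 F440765) (tt N67408 F440766))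
theorem Q103248 : ∀ i, i < 103248 → P i := stepQ 103247 Q103247 (allL N103247 (tt N67414 F440773) (tt N67413 F440774) (tt N67190 F440769) (tt N67382 F440770) (tt N81512 F440771) (tt N67189 (iv5 D206433)) (tt N100796 F440775) (tt N67411 F440772))
theorem Q103249 : ∀ i, i < 103249 → P i := stepQ 103248 Q103248 (allL N103248 (tt N83000 F440780) (tt N102049 (iv0 F440781)) (tt N67191 F440776) (tt N67383 F440777) (tt N69858 F440778) (tt N118439 (iv5 F510361)) (tt N67189 (iv6 D206434)) (tt N92025 F440779))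
theorem Q103250 : ∀ i, i < 103250 → P i := stepQ 103249 Q103249 (allL N103249 (tt N67411 (iv1 F440785)) (tt N67190 (iv0 D206435)) (tt N67414 (iv2 F440784)) (tt N101983 F440783) (tt N104250 (iv4 F444932)) (tt N67287 F440782) (tt N101982 (iv6 F440787)) (tt N67413 F440786))
theorem Q103251 : ∀ i, i < 103251 → P i := stepQ 103250 Q103250 (allL N103250 (tt N89745 F440792) (tt N68509 F440793) (tt N81512 F440788) (tt N78564 F440789) (tt N67190 (iv4 D206436)) (tt N78556 F440790) (tt N109332 F466421) (tt N67415 F440791))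
theorem Q103252 : ∀ i, i < 103252 → P i := stepQ 103251 Q103251 (allL N103251 (tt N67191 (iv1 D206437)) (tt N92025 F440794) (tt N102049 (iv2 F440796)) (tt N92740 (iv3 F440797)) (tt N83002 (iv4 F440798)) (tt N101973 (iv5 F440799)) (tt N92738 (iv6 F440800)) (tt N83000 F440795))
theorem Q103253 : ∀ i, i < 103253 → P i := stepQ 103252 Q103252 (allL N103252 (tt N103421 F441553) (tt N119429 (iv0 F515574)) (tt N118439 (iv2 F510360)) (tt N67193 F440801) (tt N116975 (iv4 F502780)) (tt N67191 (iv5 D206438)) (tt N111833 (iv6 F478208)) (tt N103272 F440918))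
theorem Q103254 : ∀ i, i < 103254 → P i := stepQ 103253 Q103253 (allL N103253 (tt N102049 (iv1 F440806)) (tt N83000 F440807) (tt N92025 F440802) (tt N67194 F440803) (tt N69863 F440804) (tt N103272 (iv5 F440916)) (tt N67419 F440805) (tt N67191 (iv7 D206439)))
theorem Q103255 : ∀ i, i < 103255 → P i := stepQ 103254 Q103254 (allL N103254 (tt N67397 (iv1 F440813)) (tt N67396 F440814) (tt N67399 F440808) (tt N100795 F440809) (tt N102080 F440810) (tt N91948 F440811) (tt N67422 F440812) (tt N67192 (iv7 D206440)))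
theorem Q103256 : ∀ i, i < 103256 → P i := stepQ 103255 Q103255 (allL N103255 (tt N67193 (iv1 D206441)) (tt N67403 F440815) (tt N67401 F440819) (tt N102365 F440820) (tt N110971 (iv4 F474020)) (tt N68608 F440817) (tt N81747 (iv6 F440818)) (tt N67400 F440816))
theorem Q103257 : ∀ i, i < 103257 → P i := stepQ 103256 Q103256 (allL N103256 (tt N67401 (iv1 F440825)) (tt N67400 F440826) (tt N67403 F440821) (tt N103272 (iv3 F440915)) (tt N91888 F440822) (tt N67194 F440823) (tt N97674 F440824) (tt N67193 (iv7 D206442)))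
theorem Q103258 : ∀ i, i < 103258 → P i := stepQ 103257 Q103257 (allL N103257 (tt N67425 (iv1 F440832)) (tt N67439 (iv0 F440833)) (tt N67438 F440827) (tt N67195 (iv3 D206443)) (tt N67318 F440830) (tt N88914 (iv5 F440831)) (tt N93054 F440828) (tt N67374 F440829))
theorem Q103259 : ∀ i, i < 103259 → P i := stepQ 103258 Q103258 (allL N103258 (tt N119672 (iv1 F516843)) (tt N71086 (iv0 F441359)) (tt N67379 F440835) (tt N103536 (iv3 F441971)) (tt N67195 (iv4 D206444)) (tt N111163 (iv5 F475018)) (tt N93055 F440836) (tt N67375 F440837))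
theorem Q103260 : ∀ i, i < 103260 → P i := stepQ 103259 Q103259 (allL N103259 (tt N67465 (iv1 F440844)) (tt N67217 (iv0 F440843)) (tt N67380 F440838) (tt N88914 F440839) (tt N91194 F440842) (tt N67195 (iv5 D206445)) (tt N91193 F440840) (tt N67376 F440841))
theorem Q103261 : ∀ i, i < 103261 → P i := stepQ 103260 Q103260 (allL N103260 (tt N71086 F441357) (tt N119672 (iv0 F516842)) (tt N67375 F440845) (tt N69063 F440847) (tt N67196 (iv4 D206446)) (tt N111164 (iv5 F475028)) (tt N119457 (iv6 F515724)) (tt N67379 F440846))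
theorem Q103262 : ∀ i, i < 103262 → P i := stepQ 103261 Q103261 (allL N103261 (tt N67217 F440852) (tt N67465 (iv0 F440853)) (tt N67376 F440848) (tt N92052 F440849) (tt N95436 F440854) (tt N67196 (iv5 D206447)) (tt N92051 F440850) (tt N67380 F440851))
theorem Q103263 : ∀ i, i < 103263 → P i := stepQ 103262 Q103262 (allL N103262 (tt N88767 F440858) (tt N84010 (iv0 F440859)) (tt N67199 F440855) (tt N67412 F440856) (tt N117755 (iv4 F506806)) (tt N113822 (iv5 F487293)) (tt N67197 (iv6 D206448)) (tt N88766 F440857))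
theorem Q103264 : ∀ i, i < 103264 → P i := stepQ 103263 Q103263 (allL N103263 (tt N67199 (iv1 D206449)) (tt N88766 F440860) (tt N84010 (iv2 F440862)) (tt N88745 (iv3 F440863)) (tt N104540 (iv4 F446188)) (tt N113803 (iv5 F487177)) (tt N93218 (iv6 F440864)) (tt N88767 F440861))
theorem Q103265 : ∀ i, i < 103265 → P i := stepQ 103264 Q103264 (allL N103264 (tt N84010 (iv1 F440869)) (tt N88767 F440870) (tt N88766 F440865) (tt N67201 F440866) (tt N117760 (iv4 F506836)) (tt N97515 F440867) (tt N67391 F440868) (tt N67199 (iv7 D206450)))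
theorem Q103266 : ∀ i, i < 103266 → P i := stepQ 103265 Q103265 (allL N103265 (tt N92781 F440876) (tt N92778 (iv0 F440877)) (tt N67215 F440871) (tt N67424 F440872) (tt N92779 F440873) (tt N93207 F440874) (tt N67202 (iv6 D206451)) (tt N92779 F440875))
theorem Q103267 : ∀ i, i < 103267 → P i := stepQ 103266 Q103266 (allL N103266 (tt N67350 (iv1 F440882)) (tt N102373 (iv0 F440881)) (tt N67205 F440878) (tt N102390 F440879) (tt N93203 F440880) (tt N103417 (iv5 F441533)) (tt N67203 (iv6 D206452)) (tt N103416 (iv7 F441527)))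
theorem Q103268 : ∀ i, i < 103268 → P i := stepQ 103267 Q103267 (allL N103267 (tt N67208 (iv1 F440887)) (tt N67204 (iv0 D206453)) (tt N93047 (iv2 F440885)) (tt N70331 F440884) (tt N102079 F440883) (tt N104393 F445571) (tt N104395 (iv6 F445578)) (tt N93202 F440886))
theorem Q103269 : ∀ i, i < 103269 → P i := stepQ 103268 Q103268 (allL N103268 (tt N93202 (iv1 F440893)) (tt N93047 F440894) (tt N67208 F440888) (tt N93185 F440889) (tt N67206 F440890) (tt N88320 F440891) (tt N82779 F440892) (tt N67204 (iv7 D206454)))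
theorem Q103270 : ∀ i, i < 103270 → P i := stepQ 103269 Q103269 (allL N103269 (tt N102373 (iv1 F440897)) (tt N67350 F440898) (tt N103416 (iv2 F441524)) (tt N115764 (iv3 F496738)) (tt N67464 F440895) (tt N82367 F440896) (tt N102369 (iv6 F440899)) (tt N67205 (iv7 D206455)))
theorem Q103271 : ∀ i, i < 103271 → P i := stepQ 103270 Q103270 (allL N103270 (tt N92777 F440905) (tt N67372 F440906) (tt N67210 F440900) (tt N88743 F440901) (tt N82779 F440902) (tt N97509 F440903) (tt N67206 (iv6 D206456)) (tt N102369 F440904))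
theorem Q103272 : ∀ i, i < 103272 → P i := stepQ 103271 Q103271 (allL N103271 (tt N88327 F440912) (tt N79701 (iv0 F440913)) (tt N88320 F440907) (tt N87892 F440908) (tt N83584 F440909) (tt N67208 (iv5 D206457)) (tt N88322 F440910) (tt N88214 F440911))
theorem Q103273 : ∀ i, i < 103273 → P i := stepQ 103272 Q103272 (allL N103272 (tt N97592 F440917) (tt N117698 (iv0 F506488)) (tt N102249 F440914) (tt N103256 F440915) (tt N118810 (iv4 F512187)) (tt N103253 F440916) (tt N67209 (iv6 D206458)) (tt N103252 (iv7 F440918)))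
theorem Q103274 : ∀ i, i < 103274 → P i := stepQ 103273 Q103273 (allL N103273 (tt N67210 (iv1 D206459)) (tt N102369 F440919) (tt N67372 F440924) (tt N67443 (iv3 F440923)) (tt N93075 F440922) (tt N93095 F440921) (tt N93069 F440925) (tt N92777 F440920))
theorem Q103275 : ∀ i, i < 103275 → P i := stepQ 103274 Q103274 (allL N103274 (tt N96044 F440929) (tt N111039 (iv0 F474382)) (tt N103455 (iv2 F441712)) (tt N93382 F440926) (tt N67212 (iv4 D206460)) (tt N93407 F440928) (tt N94813 F440927) (tt N103453 (iv7 F441705)))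
theorem Q103276 : ∀ i, i < 103276 → P i := stepQ 103275 Q103275 (allL N103275 (tt N111039 F474383) (tt N96044 (iv0 F440932)) (tt N103453 (iv2 F441702)) (tt N120571 (iv3 F521511)) (tt N67213 (iv4 D206461)) (tt N96042 F440931) (tt N99552 F440930) (tt N103455 (iv7 F441713)))
theorem Q103277 : ∀ i, i < 103277 → P i := stepQ 103276 Q103276 (allL N103276 (tt N92779 (iv1 F440935)) (tt N67215 (iv0 D206462)) (tt N92781 (iv2 F440934)) (tt N93042 (iv3 F440938)) (tt N117683 (iv4 F506400)) (tt N85848 F440937) (tt N102368 F440933) (tt N92778 F440936))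
theorem Q103278 : ∀ i, i < 103278 → P i := stepQ 103277 Q103277 (allL N103277 (tt N93040 F440945) (tt N93206 F440944) (tt N93207 F440939) (tt N67222 F440940) (tt N84915 F440943) (tt N67215 (iv5 D206463)) (tt N93213 F440941) (tt N93080 F440942))
theorem Q103279 : ∀ i, i < 103279 → P i := stepQ 103278 Q103278 (allL N103278 (tt N80970 F440952) (tt N79783 F440953) (tt N79883 F440947) (tt N80716 F440948) (tt N67216 (iv4 D206464)) (tt N75843 F440949) (tt N80939 F440950) (tt N67471 F440951))
theorem Q103280 : ∀ i, i < 103280 → P i := stepQ 103279 Q103279 (allL N103279 (tt N67380 (iv1 F440958)) (tt N67376 F440957) (tt N67217 (iv2 D206465)) (tt N67470 F440954) (tt N117635 (iv4 F506124)) (tt N93224 F440955) (tt N117634 (iv6 F506121)) (tt N67465 F440956))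
theorem Q103281 : ∀ i, i < 103281 → P i := stepQ 103280 Q103280 (allL N103280 (tt N119330 (iv1 F515058)) (tt N118106 (iv0 F508631)) (tt N117635 (iv2 F506122)) (tt N103234 F440959) (tt N67217 (iv4 D206466)) (tt N104199 (iv5 F444660)) (tt N117632 F506106) (tt N67466 F440960))
theorem Q103282 : ∀ i, i < 103282 → P i := stepQ 103281 Q103281 (allL N103281 (tt N67476 (iv1 F440962)) (tt N67218 (iv0 D206467)) (tt N67473 (iv2 F440963)) (tt N80230 (iv3 F440966)) (tt N97605 F440961) (tt N80229 (iv5 F440965)) (tt N115245 (iv6 F494192)) (tt N67474 (iv7 F440964)))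
theorem Q103283 : ∀ i, i < 103283 → P i := stepQ 103282 Q103282 (allL N103282 (tt N67218 (iv1 D206468)) (tt N67476 F440967) (tt N67474 F440972) (tt N94841 (iv3 F440970)) (tt N97606 F440969) (tt N102182 F440973) (tt N94839 (iv6 F440971)) (tt N67473 F440968))
theorem Q103284 : ∀ i, i < 103284 → P i := stepQ 103283 Q103283 (allL N103283 (tt N97625 F440977) (tt N97613 F440978) (tt N67475 F440974) (tt N117671 (iv3 F506332)) (tt N97622 F440976) (tt N67218 (iv5 D206469)) (tt N93226 F440975) (tt N111924 (iv7 F478679)))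
theorem Q103285 : ∀ i, i < 103285 → P i := stepQ 103284 Q103284 (allL N103284 (tt N119434 F515608) (tt N102357 F440983) (tt N67486 F440979) (tt N79688 F440980) (tt N111262 (iv4 F475508)) (tt N67219 (iv5 D206470)) (tt N102221 F440981) (tt N67489 F440982))
theorem Q103286 : ∀ i, i < 103286 → P i := stepQ 103285 Q103285 (allL N103285 (tt N102357 (iv1 F440989)) (tt N119434 (iv0 F515607)) (tt N67489 F440985) (tt N86833 F440986) (tt N105002 (iv4 F448313)) (tt N67220 (iv5 D206471)) (tt N84696 F440987) (tt N67486 F440988))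
theorem Q103287 : ∀ i, i < 103287 → P i := stepQ 103286 Q103286 (allL N103286 (tt N104382 (iv1 F445519)) (tt N104381 (iv0 F445514)) (tt N67501 F440990) (tt N84916 F440991) (tt N67222 (iv4 D206472)) (tt N68839 F440993) (tt N103459 (iv6 F441724)) (tt N93089 F440992))
theorem Q103288 : ∀ i, i < 103288 → P i := stepQ 103287 Q103287 (allL N103287 (tt N70246 (iv1 F440996)) (tt N67226 (iv0 D206473)) (tt N70245 (iv2 F440995)) (tt N103893 (iv3 F443251)) (tt N88784 F440998) (tt N70186 F447183) (tt N88783 F440994) (tt N70244 F440997))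
theorem Q103289 : ∀ i, i < 103289 → P i := stepQ 103288 Q103288 (allL N103288 (tt N108352 F462202) (tt N102449 (iv0 F441001)) (tt N105744 (iv2 F451497)) (tt N67227 (iv3 D206474)) (tt N70291 F440999) (tt N86275 F441000) (tt N114436 (iv6 F490156)) (tt N105746 (iv7 F451507)))
theorem Q103290 : ∀ i, i < 103290 → P i := stepQ 103289 Q103289 (allL N103289 (tt N113805 F487193) (tt N101141 (iv0 F441004)) (tt N114669 (iv2 F491294)) (tt N114436 (iv3 F490153)) (tt N92173 F441002) (tt N114699 (iv5 F491407)) (tt N67227 (iv6 D206475)) (tt N91108 F441003))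
theorem Q103291 : ∀ i, i < 103291 → P i := stepQ 103290 Q103290 (allL N103290 (tt N97720 F441009) (tt N97719 F441010) (tt N97468 F441005) (tt N93223 F441011) (tt N67228 (iv4 D206476)) (tt N80723 F441006) (tt N91105 F441007) (tt N97693 F441008))
theorem Q103292 : ∀ i, i < 103292 → P i := stepQ 103291 Q103291 (allL N103291 (tt N98657 F441012) (tt N104492 F446008) (tt N104449 F445812) (tt N120796 D224055) (tt N67234 (iv4 D206477)) (tt N119671 (iv5 F516833)) (tt N104436 (iv6 F445753)) (tt N118119 (iv7 F508709)))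
theorem Q103293 : ∀ i, i < 103293 → P i := stepQ 103292 Q103292 (allL N103292 (tt N104492 (iv1 F446009)) (tt N98657 F441014) (tt N118119 (iv2 F508705)) (tt N67663 F441013) (tt N67235 (iv4 D206478)) (tt N119555 (iv5 F516226)) (tt N111241 F475389) (tt N104449 (iv7 F445811)))
theorem Q103294 : ∀ i, i < 103294 → P i := stepQ 103293 Q103293 (allL N103293 (tt N102301 F441017) (tt N93018 F441018) (tt N102419 F441015) (tt N97690 F441019) (tt N67239 (iv4 D206479)) (tt N117549 (iv5 F505636)) (tt N108963 (iv6 F464691)) (tt N102418 F441016))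
theorem Q103295 : ∀ i, i < 103295 → P i := stepQ 103294 Q103294 (allL N103294 (tt N93018 F441024) (tt N102301 F441026) (tt N102418 F441020) (tt N88235 F441021) (tt N67240 (iv4 D206480)) (tt N88234 F441025) (tt N87664 F441022) (tt N102419 F441023))
theorem Q103296 : ∀ i, i < 103296 → P i := stepQ 103295 Q103295 (allL N103295 (tt N119416 (iv1 F515509)) (tt N98023 (iv0 F441030)) (tt N67243 F441027) (tt N104558 (iv3 F446251)) (tt N79740 F441028) (tt N69321 F441029) (tt N67241 (iv6 D206481)) (tt N103930 (iv7 F443416)))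
theorem Q103297 : ∀ i, i < 103297 → P i := stepQ 103296 Q103296 (allL N103296 (tt N67243 (iv1 D206482)) (tt N103930 F443417) (tt N98023 F441033) (tt N97601 (iv3 F441031)) (tt N102412 (iv4 F441034)) (tt N115780 (iv5 F496834)) (tt N97599 (iv6 F441032)) (tt N119416 (iv7 F515507)))
theorem Q103298 : ∀ i, i < 103298 → P i := stepQ 103297 Q103297 (allL N103297 (tt N67839 F441035) (tt N93045 F441036) (tt N104304 (iv2 F445143)) (tt N120399 (iv3 F520579)) (tt N120797 D224056) (tt N67245 (iv5 D206483)) (tt N104302 F445139) (tt N104369 (iv7 F445458)))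
theorem Q103299 : ∀ i, i < 103299 → P i := stepQ 103298 Q103298 (allL N103298 (tt N93045 F441039) (tt N67839 F441040) (tt N104369 F445456) (tt N67282 F441037) (tt N120629 (iv4 F521844)) (tt N67246 (iv5 D206484)) (tt N67281 F441038) (tt N104304 (iv7 F445146)))
theorem Q103300 : ∀ i, i < 103300 → P i := stepQ 103299 Q103299 (allL N103299 (tt N108862 (iv1 F464287)) (tt N68723 F441041) (tt N104561 (iv2 F446270)) (tt N103931 (iv3 F443421)) (tt N67247 (iv4 D206485)) (tt N108732 (iv5 F463746)) (tt N117973 (iv6 F507866)) (tt N118079 (iv7 F508454)))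
theorem Q103301 : ∀ i, i < 103301 → P i := stepQ 103300 Q103300 (allL N103300 (tt N103473 F441784) (tt N67295 F441047) (tt N98567 (iv2 F441045)) (tt N67250 (iv3 D206486)) (tt N92239 F441042) (tt N102897 (iv5 F441046)) (tt N92238 F441043) (tt N97665 F441044))
theorem Q103302 : ∀ i, i < 103302 → P i := stepQ 103301 Q103301 (allL N103301 (tt N93039 F441049) (tt N93041 F441050) (tt N104360 F445428) (tt N102897 F441048) (tt N120798 D224057) (tt N67250 (iv5 D206487)) (tt N113803 (iv6 F487178)) (tt N104359 F445422))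
theorem Q103303 : ∀ i, i < 103303 → P i := stepQ 103302 Q103302 (allL N103302 (tt N67267 F441053) (tt N106737 F455488) (tt N116207 (iv2 F499015)) (tt N67251 (iv3 D206488)) (tt N101141 F441051) (tt N113804 (iv5 F487185)) (tt N97701 F441052) (tt N104562 (iv7 F446279)))
theorem Q103304 : ∀ i, i < 103304 → P i := stepQ 103303 Q103303 (allL N103303 (tt N93041 F441054) (tt N93039 F441055) (tt N104359 F445420) (tt N113804 (iv3 F487183)) (tt N120799 D224058) (tt N67251 (iv5 D206489)) (tt N116236 (iv6 F499170)) (tt N104360 (iv7 F445424)))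
theorem Q103305 : ∀ i, i < 103305 → P i := stepQ 103304 Q103304 (allL N103304 (tt N102404 F441059) (tt N105763 (iv0 F451587)) (tt N70813 (iv2 F441060)) (tt N67252 (iv3 D206490)) (tt N68302 F441056) (tt N67448 F441057) (tt N111935 (iv6 F478749)) (tt N70804 F441058))
theorem Q103306 : ∀ i, i < 103306 → P i := stepQ 103305 Q103305 (allL N103305 (tt N104598 (iv1 F446474)) (tt N67283 (iv0 F441063)) (tt N104557 (iv2 F446243)) (tt N111935 (iv3 F478748)) (tt N103141 F441061) (tt N102337 F441062) (tt N67252 (iv6 D206491)) (tt N104597 (iv7 F446467)))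
theorem Q103307 : ∀ i, i < 103307 → P i := stepQ 103306 Q103306 (allL N103306 (tt N97468 F441068) (tt N97693 F441069) (tt N97719 F441064) (tt N67253 (iv3 D206492)) (tt N86345 F441065) (tt N67451 F441066) (tt N116208 F499026) (tt N97720 F441067))
theorem Q103308 : ∀ i, i < 103308 → P i := stepQ 103307 Q103307 (allL N103307 (tt N102828 (iv1 F441073)) (tt N67256 (iv0 D206493)) (tt N102651 (iv2 F441072)) (tt N114450 (iv3 F490229)) (tt N102650 F441070) (tt N119384 (iv5 F515345)) (tt N67575 F441071) (tt N102821 F441074))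
theorem Q103309 : ∀ i, i < 103309 → P i := stepQ 103308 Q103308 (allL N103308 (tt N120603 (iv1 F521699)) (tt N120602 (iv0 F521697)) (tt N102059 F441075) (tt N67258 F441076) (tt N102051 F441078) (tt N67256 (iv5 D206494)) (tt N95043 F441077) (tt N104319 (iv7 F445220)))
theorem Q103310 : ∀ i, i < 103310 → P i := stepQ 103309 Q103309 (allL N103309 (tt N93030 (iv1 F441083)) (tt N67258 (iv0 D206495)) (tt N101968 (iv2 F441082)) (tt N120592 (iv3 F521633)) (tt N101966 F441080) (tt N93669 F441079) (tt N97431 F441081) (tt N102094 F441084))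
theorem Q103311 : ∀ i, i < 103311 → P i := stepQ 103310 Q103310 (allL N103310 (tt N120578 (iv1 F521557)) (tt N102009 F441089) (tt N102165 F441085) (tt N97431 F441086) (tt N67258 (iv4 D206496)) (tt N102002 F441088) (tt N120592 (iv6 F521634)) (tt N97477 F441087))
theorem Q103312 : ∀ i, i < 103312 → P i := stepQ 103311 Q103311 (allL N103311 (tt N67268 F441094) (tt N105111 (iv0 F448846)) (tt N102410 F441090) (tt N67259 (iv3 D206497)) (tt N93015 F441091) (tt N79710 F441092) (tt N95849 F441093) (tt N104268 (iv7 F445036)))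
theorem Q103313 : ∀ i, i < 103313 → P i := stepQ 103312 Q103312 (allL N103312 (tt N103480 (iv1 F441807)) (tt N67291 F441701) (tt N119491 (iv2 F515876)) (tt N67260 (iv3 D206498)) (tt N119500 (iv4 F515927)) (tt N79708 F441095) (tt N119467 (iv6 F515770)) (tt N97682 F441096))
theorem Q103314 : ∀ i, i < 103314 → P i := stepQ 103313 Q103313 (allL N103313 (tt N67261 (iv1 D206499)) (tt N84774 F441097) (tt N102941 (iv2 F441099)) (tt N103475 (iv3 F445076)) (tt N102940 F441098) (tt N119414 (iv5 F515492)) (tt N104277 F445075) (tt N114352 (iv7 F489773)))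
theorem Q103315 : ∀ i, i < 103315 → P i := stepQ 103314 Q103314 (allL N103314 (tt N67772 F441102) (tt N93052 F441103) (tt N92615 F441100) (tt N120800 D224059) (tt N67262 (iv4 D206500)) (tt N108854 (iv5 F464259)) (tt N92614 F441101) (tt N104384 (iv7 F445526)))
theorem Q103316 : ∀ i, i < 103316 → P i := stepQ 103315 Q103315 (allL N103315 (tt N71991 F441107) (tt N105474 F450404) (tt N105392 (iv2 F450028)) (tt N67265 (iv3 D206501)) (tt N76356 F441104) (tt N86296 F441105) (tt N101212 (iv6 F441108)) (tt N73840 F441106))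
theorem Q103317 : ∀ i, i < 103317 → P i := stepQ 103316 Q103316 (allL N103316 (tt N106556 F454848) (tt N84961 (iv0 F441113)) (tt N105470 (iv2 F450381)) (tt N101212 F441109) (tt N67267 F441110) (tt N84319 (iv5 F441112)) (tt N67265 (iv6 D206502)) (tt N71845 F441111))
theorem Q103318 : ∀ i, i < 103318 → P i := stepQ 103317 Q103317 (allL N103317 (tt N103391 F441411) (tt N68708 F441117) (tt N103442 (iv2 F441656)) (tt N97546 F441115) (tt N113039 (iv4 F483677)) (tt N67267 (iv5 D206503)) (tt N97544 F441116) (tt N120801 D224060))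
theorem Q103319 : ∀ i, i < 103319 → P i := stepQ 103318 Q103318 (allL N103318 (tt N116207 F499021) (tt N104562 (iv0 F446280)) (tt N106737 (iv2 F455481)) (tt N90237 F441118) (tt N71845 F441119) (tt N120801 (iv5 F522793)) (tt N71844 F441120) (tt N67267 (iv7 D206504)))
theorem Q103320 : ∀ i, i < 103320 → P i := stepQ 103319 Q103319 (allL N103319 (tt N105111 (iv1 F448847)) (tt N67268 (iv0 D206505)) (tt N104268 (iv2 F445033)) (tt N119491 (iv3 F515877)) (tt N93014 F441121) (tt N118208 (iv5 F509152)) (tt N82805 F441122) (tt N102410 (iv7 F441123)))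
theorem Q103321 : ∀ i, i < 103321 → P i := stepQ 103320 Q103320 (allL N103320 (tt N118083 (iv1 F508481)) (tt N102212 (iv0 F441128)) (tt N96639 F441124) (tt N67270 F441125) (tt N96342 F441127) (tt N67268 (iv5 D206506)) (tt N96340 F441126) (tt N103366 (iv7 F441305)))
theorem Q103322 : ∀ i, i < 103322 → P i := stepQ 103321 Q103321 (allL N103321 (tt N79724 F441132) (tt N79574 (iv0 F441133)) (tt N105168 (iv2 F449079)) (tt N67274 (iv3 D206507)) (tt N68466 F441129) (tt N67326 F441130) (tt N82394 F441131) (tt N105171 (iv7 F449099)))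
theorem Q103323 : ∀ i, i < 103323 → P i := stepQ 103322 Q103322 (allL N103322 (tt N118208 (iv1 F509155)) (tt N79710 (iv0 F441135)) (tt N112869 (iv2 F483051)) (tt N67275 (iv3 D206508)) (tt N117534 (iv4 F505569)) (tt N67329 F441134) (tt N79358 F441136) (tt N112318 (iv7 F480525)))
theorem Q103324 : ∀ i, i < 103324 → P i := stepQ 103323 Q103323 (allL N103323 (tt N111907 (iv1 F478579)) (tt N105337 (iv0 F449766)) (tt N104780 (iv2 F447230)) (tt N79358 F441137) (tt N69406 F441138) (tt N104296 (iv5 F445121)) (tt N67275 (iv6 D206509)) (tt N82401 F441139))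
theorem Q103325 : ∀ i, i < 103325 → P i := stepQ 103324 Q103324 (allL N103324 (tt N67283 (iv1 D206510)) (tt N104598 F446475) (tt N104597 F446465) (tt N88794 (iv3 F441141)) (tt N104131 (iv4 F444339)) (tt N100682 F441140) (tt N102855 (iv6 F441142)) (tt N104557 (iv7 F446247)))
theorem Q103326 : ∀ i, i < 103326 → P i := stepQ 103325 Q103325 (allL N103325 (tt N104557 F446249) (tt N104597 F446466) (tt N67283 (iv2 D206511)) (tt N119413 (iv3 F515485)) (tt N67654 F441143) (tt N100671 F441144) (tt N120539 F521339) (tt N104598 (iv7 F446473)))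
theorem Q103327 : ∀ i, i < 103327 → P i := stepQ 103326 Q103326 (allL N103326 (tt N120492 F521062) (tt N109915 (iv0 F469200)) (tt N120539 (iv2 F521340)) (tt N67284 F441145) (tt N67655 F441146) (tt N110315 (iv5 F471000)) (tt N67283 (iv6 D206512)) (tt N104310 (iv7 F445176)))
theorem Q103328 : ∀ i, i < 103328 → P i := stepQ 103327 Q103327 (allL N103327 (tt N92522 F441151) (tt N93031 (iv0 F441153)) (tt N97967 F441147) (tt N89391 F441148) (tt N71216 F441152) (tt N67285 (iv5 D206513)) (tt N70222 F441149) (tt N71808 F441150))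
theorem Q103329 : ∀ i, i < 103329 → P i := stepQ 103328 Q103328 (allL N103328 (tt N91814 F441158) (tt N102883 F441159) (tt N96796 F441154) (tt N115787 F496876) (tt N67290 (iv4 D206514)) (tt N96093 F441155) (tt N99713 F441156) (tt N97500 F441157))
theorem Q103330 : ∀ i, i < 103330 → P i := stepQ 103329 Q103329 (allL N103329 (tt N119491 (iv1 F515882)) (tt N97682 F441162) (tt N67291 (iv2 D206516)) (tt N68968 F441160) (tt N68969 F441161) (tt N102168 (iv5 F441163)) (tt N120605 (iv6 F521714)) (tt N103480 (iv7 F441808)))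
theorem Q103331 : ∀ i, i < 103331 → P i := stepQ 103330 Q103330 (allL N103330 (tt N102211 F441167) (tt N118082 (iv0 F508473)) (tt N102168 F441164) (tt N67292 F441165) (tt N113510 (iv4 F485841)) (tt N67291 (iv5 D206517)) (tt N102167 (iv6 F441166)) (tt N103381 (iv7 F441377)))
theorem Q103332 : ∀ i, i < 103332 → P i := stepQ 103331 Q103331 (allL N103331 (tt N98060 (iv1 F441170)) (tt N119280 (iv0 F514798)) (tt N120605 (iv2 F521711)) (tt N67293 F441168) (tt N105751 F451531) (tt N97476 F441169) (tt N67291 (iv6 D206518)) (tt N103478 (iv7 F441798)))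
theorem Q103333 : ∀ i, i < 103333 → P i := stepQ 103332 Q103332 (allL N103332 (tt N97733 F441174) (tt N68751 F441175) (tt N68831 F441171) (tt N97507 F441172) (tt N119456 (iv4 F515720)) (tt N67295 (iv5 D206519)) (tt N97505 F441173) (tt N103397 (iv7 F441436)))
theorem Q103334 : ∀ i, i < 103334 → P i := stepQ 103333 Q103333 (allL N103333 (tt N97665 (iv1 F441179)) (tt N98567 F441180) (tt N103473 (iv2 F441778)) (tt N120740 (iv3 F522448)) (tt N97907 F441177) (tt N103397 (iv5 F441433)) (tt N97474 F441178) (tt N67295 (iv7 D206520)))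
theorem Q103335 : ∀ i, i < 103335 → P i := stepQ 103334 Q103334 (allL N103334 (tt N120266 F519913) (tt N78524 (iv0 F441185)) (tt N67299 F441181) (tt N101811 F441182) (tt N67296 (iv4 D206521)) (tt N103218 F441183) (tt N93622 F441184) (tt N111757 (iv7 F477816)))
theorem Q103336 : ∀ i, i < 103336 → P i := stepQ 103335 Q103335 (allL N103335 (tt N79708 F441188) (tt N119490 (iv0 F515874)) (tt N112867 (iv2 F483042)) (tt N67297 (iv3 D206522)) (tt N103447 F441676) (tt N67354 F441186) (tt N79677 (iv6 F441187)) (tt N115410 (iv7 F495056)))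
theorem Q103337 : ∀ i, i < 103337 → P i := stepQ 103336 Q103336 (allL N103336 (tt N115377 (iv1 F494893)) (tt N118418 (iv0 F510248)) (tt N115694 (iv2 F496353)) (tt N92009 F441190) (tt N67297 (iv4 D206523)) (tt N92008 F441189) (tt N112404 (iv6 F480964)) (tt N118112 (iv7 F508668)))
theorem Q103338 : ∀ i, i < 103338 → P i := stepQ 103337 Q103337 (allL N103337 (tt N120265 (iv1 F519906)) (tt N117445 (iv0 F505070)) (tt N120501 (iv2 F521113)) (tt N79677 F441191) (tt N112404 (iv4 F480963)) (tt N104299 (iv5 F445129)) (tt N67297 (iv6 D206524)) (tt N112868 (iv7 F483048)))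
theorem Q103339 : ∀ i, i < 103339 → P i := stepQ 103338 Q103338 (allL N103338 (tt N104563 (iv1 F446287)) (tt N104564 (iv0 F446293)) (tt N67978 F441195) (tt N67298 (iv3 D206525)) (tt N103433 (iv4 F441611)) (tt N67356 F441192) (tt N97502 (iv6 F441194)) (tt N67980 F441193))
theorem Q103340 : ∀ i, i < 103340 → P i := stepQ 103339 Q103339 (allL N103339 (tt N118418 F510249) (tt N115377 (iv0 F494894)) (tt N118112 (iv2 F508665)) (tt N111720 (iv3 F477651)) (tt N67298 (iv4 D206526)) (tt N115469 (iv5 F495333)) (tt N106818 (iv6 F455817)) (tt N115694 (iv7 F496355)))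
theorem Q103341 : ∀ i, i < 103341 → P i := stepQ 103340 Q103340 (allL N103340 (tt N103461 F441732) (tt N111751 (iv0 F477788)) (tt N115409 (iv2 F495048)) (tt N97502 F441196) (tt N106818 F455816) (tt N117737 (iv5 F506712)) (tt N67298 (iv6 D206527)) (tt N97511 (iv7 F441197)))
theorem Q103342 : ∀ i, i < 103342 → P i := stepQ 103341 Q103341 (allL N103341 (tt N67299 (iv1 D206528)) (tt N111757 (iv0 F477817)) (tt N78524 F441199) (tt N104398 (iv3 F445593)) (tt N108962 (iv4 F464686)) (tt N103210 (iv5 F441198)) (tt N78523 (iv6 F441200)) (tt N120266 (iv7 F519910)))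
theorem Q103343 : ∀ i, i < 103343 → P i := stepQ 103342 Q103342 (allL N103342 (tt N98590 F441203) (tt N104374 (iv0 F445480)) (tt N120583 (iv2 F521582)) (tt N67304 F441201) (tt N104499 (iv4 F446033)) (tt N103375 (iv5 F441341)) (tt N67303 (iv6 D206529)) (tt N69469 F441202))
theorem Q103344 : ∀ i, i < 103344 → P i := stepQ 103343 Q103343 (allL N103343 (tt N93601 F441209) (tt N93396 (iv0 F441208)) (tt N95172 F441204) (tt N67309 (iv3 D206530)) (tt N92461 F441205) (tt N99007 F441206) (tt N94734 F441207) (tt N108665 (iv7 F463446)))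
theorem Q103345 : ∀ i, i < 103345 → P i := stepQ 103344 Q103344 (allL N103344 (tt N118414 F510225) (tt N67311 (iv0 D206531)) (tt N118415 (iv2 F510232)) (tt N117480 (iv3 F505251)) (tt N119556 (iv4 F516233)) (tt N110561 F472150) (tt N112128 (iv6 F479635)) (tt N110560 (iv7 F472151)))
theorem Q103346 : ∀ i, i < 103346 → P i := stepQ 103345 Q103345 (allL N103345 (tt N67311 (iv1 D206532)) (tt N118414 (iv0 F510224)) (tt N110560 (iv2 F472141)) (tt N106946 (iv3 F456400)) (tt N120802 D224061) (tt N106945 F456401) (tt N74556 F456402) (tt N118415 (iv7 F510227)))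
theorem Q103347 : ∀ i, i < 103347 → P i := stepQ 103346 Q103346 (allL N103346 (tt N118415 (iv1 F510226)) (tt N110560 F472146) (tt N67311 (iv2 D206533)) (tt N108662 (iv3 F463420)) (tt N106173 (iv4 F453446)) (tt N118309 (iv5 F509634)) (tt N67314 F441210) (tt N118414 (iv7 F510223)))
theorem Q103348 : ∀ i, i < 103348 → P i := stepQ 103347 Q103347 (allL N103347 (tt N117170 F503736) (tt N120563 (iv0 F521474)) (tt N104965 F448178) (tt N112361 (iv3 F480742)) (tt N67312 (iv4 D206534)) (tt N120803 D224062) (tt N118383 (iv6 F510060)) (tt N90902 F441217))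
theorem Q103349 : ∀ i, i < 103349 → P i := stepQ 103348 Q103348 (allL N103348 (tt N120563 F521475) (tt N117170 (iv0 F503735)) (tt N90902 F441214) (tt N71107 F441211) (tt N67313 (iv4 D206535)) (tt N71290 (iv5 F441212)) (tt N84989 (iv6 F441213)) (tt N104965 (iv7 F448177)))
theorem Q103350 : ∀ i, i < 103350 → P i := stepQ 103349 Q103349 (allL N103349 (tt N90285 F441221) (tt N90170 (iv0 F441223)) (tt N90901 F441218) (tt N76971 F441219) (tt N84989 F441220) (tt N120804 D224063) (tt N67313 (iv6 D206536)) (tt N77088 (iv7 F441222)))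
theorem Q103351 : ∀ i, i < 103351 → P i := stepQ 103350 Q103350 (allL N103350 (tt N101937 (iv1 F441228)) (tt N91998 F441229) (tt N67315 F441224) (tt N101877 F441225) (tt N95550 (iv4 F441227)) (tt N67314 (iv5 D206537)) (tt N101875 (iv6 F441230)) (tt N101946 F441226))
theorem Q103352 : ∀ i, i < 103352 → P i := stepQ 103351 Q103351 (allL N103351 (tt N91892 F441233) (tt N117658 (iv0 F506256)) (tt N101875 F441231) (tt N67316 F441232) (tt N117645 (iv4 F506185)) (tt N118310 (iv5 F509638)) (tt N67315 (iv6 D206538)) (tt N117640 (iv7 F506158)))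
theorem Q103353 : ∀ i, i < 103353 → P i := stepQ 103352 Q103352 (allL N103352 (tt N67316 (iv1 D206539)) (tt N101879 F441234) (tt N100538 F441237) (tt N72954 F441238) (tt N108669 (iv4 F463468)) (tt N73532 (iv5 F441236)) (tt N96338 (iv6 F441239)) (tt N93853 F441235))
theorem Q103354 : ∀ i, i < 103354 → P i := stepQ 103353 Q103353 (allL N103353 (tt N100538 (iv1 F441241)) (tt N93853 F441242) (tt N101879 F441240) (tt N117640 (iv3 F506156)) (tt N118199 (iv4 F509105)) (tt N72973 (iv5 F441243)) (tt N108670 (iv6 F463474)) (tt N67316 (iv7 D206540)))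
theorem Q103355 : ∀ i, i < 103355 → P i := stepQ 103354 Q103354 (allL N103354 (tt N67439 F441249) (tt N67425 F441250) (tt N67374 F441245) (tt N97521 F441246) (tt N67317 (iv4 D206541)) (tt N88903 F441247) (tt N104349 (iv6 F445367)) (tt N67438 F441248))
theorem Q103356 : ∀ i, i < 103356 → P i := stepQ 103355 Q103355 (allL N103355 (tt N105251 (iv1 F449390)) (tt N70428 (iv0 F441252)) (tt N70381 F441251) (tt N107016 F456650) (tt N104349 (iv4 F445365)) (tt N114267 (iv5 F489302)) (tt N67317 (iv6 D206542)) (tt N104323 (iv7 F445245)))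
theorem Q103357 : ∀ i, i < 103357 → P i := stepQ 103356 Q103356 (allL N103356 (tt N70384 F441257) (tt N70387 (iv0 F441258)) (tt N70383 F441253) (tt N67318 (iv3 D206543)) (tt N103536 (iv4 F441972)) (tt N75124 F441254) (tt N75127 F441255) (tt N70379 F441256))
theorem Q103358 : ∀ i, i < 103358 → P i := stepQ 103357 Q103357 (allL N103357 (tt N79707 F441263) (tt N70755 F441264) (tt N70720 F441259) (tt N92786 F441260) (tt N67322 (iv4 D206544)) (tt N92720 F441261) (tt N120805 D224064) (tt N70717 F441262))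
theorem Q103359 : ∀ i, i < 103359 → P i := stepQ 103358 Q103358 (allL N103358 (tt N103927 (iv1 F443403)) (tt N67367 (iv0 F441268)) (tt N70721 F441265) (tt N88778 F441266) (tt N120805 (iv4 F522819)) (tt N97726 F441267) (tt N67322 (iv6 D206545)) (tt N103919 (iv7 F443374)))
theorem Q103360 : ∀ i, i < 103360 → P i := stepQ 103359 Q103359 (allL N103359 (tt N67977 F441272) (tt N67354 (iv0 F441273)) (tt N93064 F441269) (tt N67323 (iv3 D206546)) (tt N119672 (iv4 F516839)) (tt N102302 F441270) (tt N95851 F441274) (tt N70719 F441271))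
theorem Q103361 : ∀ i, i < 103361 → P i := stepQ 103360 Q103360 (allL N103360 (tt N67341 F441279) (tt N92751 (iv0 F441278)) (tt N70718 F441275) (tt N95851 F441276) (tt N92741 F441277) (tt N103925 (iv5 F443398)) (tt N67323 (iv6 D206547)) (tt N103924 (iv7 F443395)))
theorem Q103362 : ∀ i, i < 103362 → P i := stepQ 103361 Q103361 (allL N103361 (tt N104383 F445523) (tt N72069 (iv0 F441282)) (tt N104402 (iv2 F445613)) (tt N67328 F441280) (tt N94920 F441281) (tt N104372 (iv5 F445473)) (tt N67326 (iv6 D206548)) (tt N104334 (iv7 F445305)))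
theorem Q103363 : ∀ i, i < 103363 → P i := stepQ 103362 Q103362 (allL N103362 (tt N69761 F441285) (tt N69757 (iv0 F441286)) (tt N96486 F441283) (tt N67327 (iv3 D206549)) (tt N94919 F441284) (tt N113856 (iv5 F487482)) (tt N113188 (iv6 F484389)) (tt N105170 (iv7 F449092)))
theorem Q103364 : ∀ i, i < 103364 → P i := stepQ 103363 Q103363 (allL N103363 (tt N70911 F445362) (tt N113039 (iv0 F483680)) (tt N105534 (iv2 F450612)) (tt N113188 (iv3 F484386)) (tt N67328 F441287) (tt N112334 F480618) (tt N67327 (iv6 D206550)) (tt N104336 (iv7 F445317)))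
theorem Q103365 : ∀ i, i < 103365 → P i := stepQ 103364 Q103364 (allL N103364 (tt N88750 F441291) (tt N84011 (iv0 F441292)) (tt N88747 F441288) (tt N104372 F445474) (tt N88803 F441293) (tt N67328 (iv5 D206551)) (tt N82395 F441289) (tt N88748 F441290))
theorem Q103366 : ∀ i, i < 103366 → P i := stepQ 103365 Q103365 (allL N103365 (tt N70716 (iv1 F441300)) (tt N93067 F441299) (tt N67329 (iv2 D206552)) (tt N67981 F441295) (tt N68699 F441296) (tt N112869 (iv5 F483054)) (tt N93202 F441297) (tt N93063 F441298))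
theorem Q103367 : ∀ i, i < 103367 → P i := stepQ 103366 Q103366 (allL N103366 (tt N93065 F441306) (tt N93074 (iv0 F441307)) (tt N95180 F441301) (tt N67333 (iv3 D206553)) (tt N94727 F441302) (tt N103235 F441303) (tt N94726 F441304) (tt N103320 F441305))
theorem Q103368 : ∀ i, i < 103368 → P i := stepQ 103367 Q103367 (allL N103367 (tt N83986 (iv1 F441311)) (tt N67336 (iv0 D206554)) (tt N88684 (iv2 F441310)) (tt N111651 (iv3 F477308)) (tt N81991 F441309) (tt N68633 F441308) (tt N104779 (iv6 F447227)) (tt N88683 F441312))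
theorem Q103369 : ∀ i, i < 103369 → P i := stepQ 103368 Q103368 (allL N103368 (tt N92751 (iv1 F441314)) (tt N67341 (iv0 D206555)) (tt N103924 (iv2 F443390)) (tt N111683 (iv3 F477462)) (tt N92123 F441313) (tt N103918 (iv5 F443370)) (tt N103919 (iv6 F443373)) (tt N70718 F441315))
theorem Q103370 : ∀ i, i < 103370 → P i := stepQ 103369 Q103369 (allL N103369 (tt N103924 (iv1 F443394)) (tt N70718 F441319) (tt N67341 (iv2 D206556)) (tt N114449 (iv3 F490222)) (tt N70806 F441316) (tt N112534 (iv5 F481549)) (tt N93211 F441317) (tt N92751 F441318))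
theorem Q103371 : ∀ i, i < 103371 → P i := stepQ 103370 Q103370 (allL N103370 (tt N67344 (iv1 F441322)) (tt N67342 (iv0 D206557)) (tt N104271 (iv2 F445050)) (tt N97664 (iv3 F441323)) (tt N81165 F441321) (tt N67582 F441320) (tt N111073 (iv6 F474536)) (tt N104270 (iv7 F445046)))
theorem Q103372 : ∀ i, i < 103372 → P i := stepQ 103371 Q103371 (allL N103371 (tt N67342 (iv1 D206558)) (tt N67344 F441324) (tt N104270 (iv2 F445043)) (tt N101733 (iv3 F441327)) (tt N81164 F441326) (tt N67580 F441325) (tt N115414 (iv6 F495074)) (tt N104271 (iv7 F445051)))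
theorem Q103373 : ∀ i, i < 103373 → P i := stepQ 103372 Q103372 (allL N103372 (tt N67343 (iv1 D206559)) (tt N114449 (iv0 F490226)) (tt N111678 (iv2 F477436)) (tt N78407 (iv3 F441329)) (tt N114362 (iv4 F489803)) (tt N91518 F441345) (tt N118123 (iv6 F508734)) (tt N102391 F441328))
theorem Q103374 : ∀ i, i < 103374 → P i := stepQ 103373 Q103373 (allL N103373 (tt N102391 F441333) (tt N111678 (iv0 F477441)) (tt N67343 (iv2 D206560)) (tt N92751 F441330) (tt N113582 (iv4 F486138)) (tt N87711 F441331) (tt N92749 F441332) (tt N114449 (iv7 F490225)))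
theorem Q103375 : ∀ i, i < 103375 → P i := stepQ 103374 Q103374 (allL N103374 (tt N102228 F441339) (tt N102230 (iv0 F441338)) (tt N92749 F441334) (tt N67345 F441335) (tt N117977 (iv4 F507884)) (tt N102146 (iv5 F441337)) (tt N67343 (iv6 D206561)) (tt N102145 F441336))
theorem Q103376 : ∀ i, i < 103376 → P i := stepQ 103375 Q103375 (allL N103375 (tt N81552 F441343) (tt N91518 (iv0 F441344)) (tt N111677 F477434) (tt N67347 (iv3 D206562)) (tt N84563 F441340) (tt N103342 F441341) (tt N102185 F441342) (tt N104909 (iv7 F447889)))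
theorem Q103377 : ∀ i, i < 103377 → P i := stepQ 103376 Q103376 (allL N103376 (tt N103383 F441386) (tt N67348 (iv0 D206563)) (tt N79437 (iv2 F441348)) (tt N79474 F441347) (tt N67400 F441346) (tt N110972 (iv5 F474026)) (tt N80242 F441349) (tt N110971 (iv7 F474021)))
theorem Q103378 : ∀ i, i < 103378 → P i := stepQ 103377 Q103377 (allL N103377 (tt N110971 (iv1 F474023)) (tt N79437 (iv0 F441353)) (tt N103383 (iv2 F441381)) (tt N101727 F441350) (tt N67349 F441351) (tt N74107 F441352) (tt N103380 (iv6 F441369)) (tt N67348 (iv7 D206564)))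
theorem Q103379 : ∀ i, i < 103379 → P i := stepQ 103378 Q103378 (allL N103378 (tt N67354 (iv1 D206565)) (tt N67977 (iv0 F441358)) (tt N70719 (iv2 F441360)) (tt N93067 (iv3 F441355)) (tt N71086 (iv4 F441356)) (tt N117511 (iv5 F505430)) (tt N102930 (iv6 F452112)) (tt N93064 F441354))
theorem Q103380 : ∀ i, i < 103380 → P i := stepQ 103379 Q103379 (allL N103379 (tt N93064 (iv1 F441366)) (tt N70719 F441365) (tt N67354 (iv2 D206566)) (tt N67962 F441361) (tt N69119 F441362) (tt N112867 (iv5 F483044)) (tt N93183 F441363) (tt N67977 F441364))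
theorem Q103381 : ∀ i, i < 103381 → P i := stepQ 103380 Q103380 (allL N103380 (tt N102960 F441371) (tt N95557 F441372) (tt N67360 F441367) (tt N95631 F441368) (tt N67357 (iv4 D206567)) (tt N115691 (iv5 F496340)) (tt N103377 F441369) (tt N86980 F441370))
theorem Q103382 : ∀ i, i < 103382 → P i := stepQ 103381 Q103381 (allL N103381 (tt N102302 F441378) (tt N117511 (iv0 F505429)) (tt N102348 F441373) (tt N67358 (iv3 D206568)) (tt N92004 F441374) (tt N103230 F441375) (tt N96098 F441376) (tt N103330 F441377))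
theorem Q103383 : ∀ i, i < 103383 → P i := stepQ 103382 Q103382 (allL N103382 (tt N120267 (iv1 F519919)) (tt N103210 (iv0 F441380)) (tt N115691 (iv2 F496339)) (tt N103410 (iv3 F441493)) (tt N112465 (iv4 F481199)) (tt N67360 (iv5 D206569)) (tt N104040 (iv6 F443906)) (tt N88337 F441379))
theorem Q103384 : ∀ i, i < 103384 → P i := stepQ 103383 Q103383 (allL N103383 (tt N83769 (iv1 F441387)) (tt N103376 (iv0 F441386)) (tt N103377 F441381) (tt N91983 F441382) (tt N67361 F441383) (tt N99650 F441385) (tt N67360 (iv6 D206570)) (tt N86978 F441384))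
theorem Q103385 : ∀ i, i < 103385 → P i := stepQ 103384 Q103384 (allL N103384 (tt N118122 (iv1 F508724)) (tt N67365 (iv0 D206571)) (tt N118123 (iv2 F508730)) (tt N68011 F441388) (tt N105756 F451549) (tt N105870 F452110) (tt N111678 (iv6 F477438)) (tt N68007 (iv7 F441389)))
theorem Q103386 : ∀ i, i < 103386 → P i := stepQ 103385 Q103385 (allL N103385 (tt N118123 (iv1 F508736)) (tt N68007 F441390) (tt N67365 (iv2 D206572)) (tt N103927 (iv3 F443406)) (tt N104634 F446623) (tt N120806 D224065) (tt N117703 (iv6 F506518)) (tt N118122 (iv7 F508725)))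
theorem Q103387 : ∀ i, i < 103387 → P i := stepQ 103386 Q103386 (allL N103386 (tt N120807 D224066) (tt N115753 (iv0 F496676)) (tt N120806 (iv2 F522824)) (tt N67366 F441391) (tt N116231 (iv4 F499143)) (tt N67365 (iv5 D206573)) (tt N103469 (iv6 F441765)) (tt N104306 (iv7 F445157)))
theorem Q103388 : ∀ i, i < 103388 → P i := stepQ 103387 Q103387 (allL N103387 (tt N70721 (iv1 F441394)) (tt N103919 (iv0 F443375)) (tt N67367 (iv2 D206574)) (tt N118122 F508727) (tt N70815 F441392) (tt N103613 (iv5 F442250)) (tt N93206 F441393) (tt N103927 (iv7 F443404)))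
theorem Q103389 : ∀ i, i < 103389 → P i := stepQ 103388 Q103388 (allL N103388 (tt N104575 F446357) (tt N104599 (iv0 F446479)) (tt N103613 (iv2 F442248)) (tt N67368 F441395) (tt N103612 (iv4 F442246)) (tt N67367 (iv5 D206575)) (tt N92845 (iv6 F441396)) (tt N104305 (iv7 F445152)))
theorem Q103390 : ∀ i, i < 103390 → P i := stepQ 103389 Q103389 (allL N103389 (tt N115746 (iv1 F496640)) (tt N87677 (iv0 F441400)) (tt N111938 (iv2 F478764)) (tt N67370 F441397) (tt N93984 F441399) (tt N67369 (iv5 D206576)) (tt N111937 (iv6 F478763)) (tt N98573 F441398))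
theorem Q103391 : ∀ i, i < 103391 → P i := stepQ 103390 Q103390 (allL N103390 (tt N93094 F441406) (tt N93097 F441405) (tt N93095 F441401) (tt N67373 F441402) (tt N87041 F441404) (tt N67372 (iv5 D206577)) (tt N92243 (iv6 F441407)) (tt N86951 F441403))
theorem Q103392 : ∀ i, i < 103392 → P i := stepQ 103391 Q103391 (allL N103391 (tt N104348 (iv1 F445357)) (tt N103317 (iv0 F441411)) (tt N104349 (iv2 F445363)) (tt N67377 F441408) (tt N70381 F441409) (tt N88752 F441410) (tt N67374 (iv6 D206578)) (tt N104339 (iv7 F445328)))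
theorem Q103393 : ∀ i, i < 103393 → P i := stepQ 103392 Q103392 (allL N103392 (tt N67379 (iv1 F441413)) (tt N67375 (iv0 D206579)) (tt N71086 F441415) (tt N97883 (iv3 F441414)) (tt N70719 F441412) (tt N119530 (iv5 F516090)) (tt N120808 D224067) (tt N119672 (iv7 F516841)))
theorem Q103394 : ∀ i, i < 103394 → P i := stepQ 103393 Q103393 (allL N103393 (tt N67375 (iv1 D206580)) (tt N67379 F441416) (tt N119672 (iv2 F516837)) (tt N69077 (iv3 F441419)) (tt N93064 (iv4 F441418)) (tt N86131 (iv5 F441420)) (tt N119282 (iv6 F514807)) (tt N71086 F441417))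
theorem Q103395 : ∀ i, i < 103395 → P i := stepQ 103394 Q103394 (allL N103394 (tt N94489 F441422) (tt N94485 (iv0 F441425)) (tt N103822 (iv2 F442959)) (tt N67375 (iv3 D206581)) (tt N70379 F441421) (tt N115334 (iv5 F494644)) (tt N120809 D224068) (tt N103536 F441973))
theorem Q103396 : ∀ i, i < 103396 → P i := stepQ 103395 Q103395 (allL N103395 (tt N111795 F478013) (tt N119440 F515639) (tt N119457 (iv2 F515723)) (tt N120809 (iv3 F522845)) (tt N67377 F441426) (tt N120810 D224069) (tt N67375 (iv6 D206582)) (tt N104379 (iv7 F445505)))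
theorem Q103397 : ∀ i, i < 103397 → P i := stepQ 103396 Q103396 (allL N103396 (tt N79863 (iv1 F441432)) (tt N103963 F443549) (tt N95436 F441427) (tt N84702 F441428) (tt N67376 (iv4 D206583)) (tt N84701 F441431) (tt N79632 F441429) (tt N91194 F441430))
theorem Q103398 : ∀ i, i < 103398 → P i := stepQ 103397 Q103397 (allL N103397 (tt N93035 (iv1 F441435)) (tt N67377 (iv0 D206584)) (tt N67495 (iv2 F441434)) (tt N104389 F445550) (tt N120655 (iv4 F521988)) (tt N103333 F441433) (tt N113045 (iv6 F483704)) (tt N103332 F441436))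
theorem Q103399 : ∀ i, i < 103399 → P i := stepQ 103398 Q103398 (allL N103398 (tt N106126 (iv1 F453247)) (tt N103750 (iv0 F442669)) (tt N67385 F441437) (tt N117751 (iv3 F506779)) (tt N86887 F441438) (tt N67381 (iv5 D206585)) (tt N86890 F441439) (tt N117754 (iv7 F506801)))
theorem Q103400 : ∀ i, i < 103400 → P i := stepQ 103399 Q103399 (allL N103399 (tt N97563 (iv1 F441442)) (tt N97006 (iv0 F441443)) (tt N67386 F441440) (tt N116258 F499250) (tt N67383 F441441) (tt N118442 (iv5 F510376)) (tt N67381 (iv6 D206586)) (tt N118995 (iv7 F513177)))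
theorem Q103401 : ∀ i, i < 103401 → P i := stepQ 103400 Q103400 (allL N103400 (tt N113510 F485846) (tt N117631 F506098) (tt N67388 F441444) (tt N82119 F441445) (tt N67382 (iv4 D206587)) (tt N104889 F447818) (tt N91880 F441446) (tt N87726 F441447))
theorem Q103402 : ∀ i, i < 103402 → P i := stepQ 103401 Q103401 (allL N103401 (tt N78791 F441451) (tt N71071 (iv0 F441453)) (tt N98662 F441448) (tt N67899 F441449) (tt N78783 F441452) (tt N67384 (iv5 D206588)) (tt N116370 (iv6 F499753)) (tt N98660 F441450))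
theorem Q103403 : ∀ i, i < 103403 → P i := stepQ 103402 Q103402 (allL N103402 (tt N120655 (iv1 F521986)) (tt N102622 (iv0 F441458)) (tt N98014 F441454) (tt N67900 F441455) (tt N97556 F441456) (tt N120811 D224070) (tt N67384 (iv6 D206589)) (tt N102571 F441457))
theorem Q103404 : ∀ i, i < 103404 → P i := stepQ 103403 Q103403 (allL N103403 (tt N117754 (iv1 F506803)) (tt N67385 (iv0 D206590)) (tt N106126 (iv2 F453243)) (tt N68970 F441460) (tt N98600 (iv4 F441461)) (tt N68969 F441459) (tt N98599 F441462) (tt N103750 (iv7 F442668)))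
theorem Q103405 : ∀ i, i < 103405 → P i := stepQ 103404 Q103404 (allL N103404 (tt N67385 (iv1 D206591)) (tt N117754 (iv0 F506802)) (tt N103750 (iv2 F442665)) (tt N90064 (iv3 F441464)) (tt N98649 F441465) (tt N98712 F441463) (tt N98648 (iv6 F441466)) (tt N106126 (iv7 F453244)))
theorem Q103406 : ∀ i, i < 103406 → P i := stepQ 103405 Q103405 (allL N103405 (tt N104000 F443725) (tt N98213 F441469) (tt N86887 F441467) (tt N71256 F441468) (tt N67385 (iv4 D206592)) (tt N86883 F441470) (tt N79047 F441471) (tt N117756 (iv7 F506813)))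
theorem Q103407 : ∀ i, i < 103407 → P i := stepQ 103406 Q103406 (allL N103406 (tt N85049 F441475) (tt N90094 F441476) (tt N86890 F441472) (tt N71077 F441473) (tt N79047 F441474) (tt N111176 (iv5 F475094)) (tt N67385 (iv6 D206593)) (tt N111316 (iv7 F475784)))
theorem Q103408 : ∀ i, i < 103408 → P i := stepQ 103407 Q103407 (allL N103407 (tt N118247 (iv1 F509352)) (tt N109171 (iv0 F465670)) (tt N118442 (iv2 F510375)) (tt N71078 F441483) (tt N93414 F441484) (tt N67386 (iv5 D206594)) (tt N111176 (iv6 F475095)) (tt N118438 (iv7 F510355)))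
theorem Q103409 : ∀ i, i < 103409 → P i := stepQ 103408 Q103408 (allL N103408 (tt N97006 (iv1 F441487)) (tt N97563 F441488) (tt N118995 F513175) (tt N71079 F441485) (tt N67391 F441486) (tt N118438 (iv5 F510356)) (tt N117760 (iv6 F506837)) (tt N67386 (iv7 D206595)))
theorem Q103410 : ∀ i, i < 103410 → P i := stepQ 103409 Q103409 (allL N103409 (tt N87726 (iv1 F441490)) (tt N67388 (iv0 D206596)) (tt N113510 (iv2 F485840)) (tt N95142 (iv3 F441491)) (tt N102168 F441489) (tt N103978 (iv5 F443627)) (tt N95140 F441492) (tt N117631 (iv7 F506099)))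
theorem Q103411 : ∀ i, i < 103411 → P i := stepQ 103410 Q103410 (allL N103410 (tt N118105 (iv1 F508623)) (tt N97249 (iv0 F441497)) (tt N104889 (iv2 F447816)) (tt N103382 F441493) (tt N86888 (iv4 F441496)) (tt N67388 (iv5 D206597)) (tt N68156 F441495) (tt N86884 F441494))
theorem Q103412 : ∀ i, i < 103412 → P i := stepQ 103411 Q103411 (allL N103411 (tt N102095 F441502) (tt N102101 F441503) (tt N102100 F441498) (tt N96649 F441499) (tt N119412 (iv4 F515480)) (tt N67393 (iv5 D206598)) (tt N68675 F441500) (tt N102056 F441501))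
theorem Q103413 : ∀ i, i < 103413 → P i := stepQ 103412 Q103412 (allL N103412 (tt N97610 F441506) (tt N111815 (iv0 F478124)) (tt N115416 (iv2 F495085)) (tt N78395 F441504) (tt N103422 (iv4 F441554)) (tt N97685 F441505) (tt N67397 (iv6 D206599)) (tt N115777 (iv7 F496816)))
theorem Q103414 : ∀ i, i < 103414 → P i := stepQ 103413 Q103413 (allL N103413 (tt N103454 F441711) (tt N93970 F441510) (tt N79675 F441507) (tt N67406 F441508) (tt N120266 (iv4 F519909)) (tt N67404 (iv5 D206600)) (tt N79674 F441509) (tt N108962 (iv7 F464684)))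
theorem Q103415 : ∀ i, i < 103415 → P i := stepQ 103414 Q103414 (allL N103414 (tt N70720 F441516) (tt N70717 F441517) (tt N70755 F441511) (tt N69912 F441512) (tt N67407 (iv4 D206601)) (tt N70618 F441515) (tt N92733 F441513) (tt N79707 F441514))
theorem Q103416 : ∀ i, i < 103416 → P i := stepQ 103415 Q103415 (allL N103415 (tt N72073 F441522) (tt N72067 (iv0 F441523)) (tt N72070 F441518) (tt N69914 F441519) (tt N67410 F441520) (tt N110241 (iv5 F470588)) (tt N67408 (iv6 D206602)) (tt N72071 F441521))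
theorem Q103417 : ∀ i, i < 103417 → P i := stepQ 103416 Q103416 (allL N103416 (tt N103243 F441528) (tt N101714 F441529) (tt N103269 F441524) (tt N67421 F441525) (tt N103423 (iv4 F441560)) (tt N67416 (iv5 D206603)) (tt N67418 F441526) (tt N103266 F441527))
theorem Q103418 : ∀ i, i < 103418 → P i := stepQ 103417 Q103417 (allL N103417 (tt N79735 (iv1 F441535)) (tt N79741 F441536) (tt N79739 F441530) (tt N67422 F441531) (tt N78562 F441532) (tt N103266 F441533) (tt N100795 F441534) (tt N67416 (iv7 D206604)))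
theorem Q103419 : ∀ i, i < 103419 → P i := stepQ 103418 Q103418 (allL N103418 (tt N84099 (iv1 F441539)) (tt N102379 F441540) (tt N102380 F441537) (tt N67417 (iv3 D206605)) (tt N119333 (iv4 F515072)) (tt N104309 (iv5 F445170)) (tt N104394 (iv6 F445573)) (tt N102376 F441538))
theorem Q103420 : ∀ i, i < 103420 → P i := stepQ 103419 Q103419 (allL N103419 (tt N69965 F441545) (tt N72097 F441546) (tt N72096 F441541) (tt N88842 (iv3 F441547)) (tt N67417 (iv4 D206606)) (tt N88841 F441544) (tt N82629 F441542) (tt N71899 F441543))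
theorem Q103421 : ∀ i, i < 103421 → P i := stepQ 103420 Q103420 (allL N103420 (tt N93096 F441549) (tt N104307 F445161) (tt N93016 F441548) (tt N104309 (iv3 F445168)) (tt N119413 (iv4 F515486)) (tt N67417 (iv5 D206607)) (tt N119504 (iv6 F515950)) (tt N104308 (iv7 F445167)))
theorem Q103422 : ∀ i, i < 103422 → P i := stepQ 103421 Q103421 (allL N103421 (tt N102249 F441552) (tt N103252 (iv0 F441553)) (tt N117698 (iv2 F506484)) (tt N67420 (iv3 D206608)) (tt N111993 (iv4 F479000)) (tt N93092 F441550) (tt N112003 (iv6 F479031)) (tt N97592 F441551))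
theorem Q103423 : ∀ i, i < 103423 → P i := stepQ 103422 Q103422 (allL N103422 (tt N79733 F441556) (tt N93088 (iv0 F441557)) (tt N104425 (iv2 F445698)) (tt N112003 (iv3 F479030)) (tt N103412 F441554) (tt N103463 (iv5 F441737)) (tt N67420 (iv6 D206609)) (tt N97615 F441555))
theorem Q103424 : ∀ i, i < 103424 → P i := stepQ 103423 Q103423 (allL N103423 (tt N104347 F445355) (tt N104417 F445667) (tt N67464 F441558) (tt N93207 F441559) (tt N103416 F441560) (tt N67424 (iv5 D206610)) (tt N82778 F441561) (tt N93203 F441562))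
theorem Q103425 : ∀ i, i < 103425 → P i := stepQ 103424 Q103424 (allL N103424 (tt N67823 F441566) (tt N92120 (iv0 F441567)) (tt N70476 F441563) (tt N67431 F441564) (tt N104757 (iv4 F447128)) (tt N79439 F441565) (tt N67430 (iv6 D206611)) (tt N82501 F441568))
theorem Q103426 : ∀ i, i < 103426 → P i := stepQ 103425 Q103425 (allL N103425 (tt N70480 (iv1 F441573)) (tt N70479 F441574) (tt N70482 F441569) (tt N82501 F441570) (tt N67436 F441571) (tt N74743 F441572) (tt N109279 (iv6 F466159)) (tt N67431 (iv7 D206612)))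
theorem Q103427 : ∀ i, i < 103427 → P i := stepQ 103426 Q103426 (allL N103426 (tt N67440 (iv1 D206613)) (tt N109279 (iv0 F466161)) (tt N67910 F441579) (tt N83672 (iv3 F441578)) (tt N97727 (iv4 F441577)) (tt N87537 F441576) (tt N104396 (iv6 F445583)) (tt N97725 F441575))
theorem Q103428 : ∀ i, i < 103428 → P i := stepQ 103427 Q103427 (allL N103427 (tt N80966 F441584) (tt N80962 F441585) (tt N81402 F441580) (tt N67441 (iv3 D206614)) (tt N80882 F441581) (tt N78250 F441582) (tt N111839 (iv6 F478237)) (tt N81359 F441583))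
theorem Q103429 : ∀ i, i < 103429 → P i := stepQ 103428 Q103428 (allL N103428 (tt N67442 (iv1 D206615)) (tt N79744 F441586) (tt N111865 (iv2 F478383)) (tt N117698 (iv3 F506485)) (tt N115352 F494742) (tt N118047 (iv5 F508278)) (tt N79731 (iv6 F441587)) (tt N112474 (iv7 F481229)))
theorem Q103430 : ∀ i, i < 103430 → P i := stepQ 103429 Q103429 (allL N103429 (tt N87677 F441592) (tt N115746 F496641) (tt N98573 F441588) (tt N93095 F441589) (tt N93983 F441590) (tt N67443 (iv5 D206616)) (tt N98572 F441591) (tt N111938 (iv7 F478768)))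
theorem Q103431 : ∀ i, i < 103431 → P i := stepQ 103430 Q103430 (allL N103430 (tt N70815 (iv1 F441599)) (tt N70773 F441598) (tt N70817 F441593) (tt N80688 F441594) (tt N67444 (iv4 D206617)) (tt N87531 F441597) (tt N70808 F441595) (tt N70809 F441596))
theorem Q103432 : ∀ i, i < 103432 → P i := stepQ 103431 Q103431 (allL N103431 (tt N88903 F441604) (tt N88914 F441605) (tt N79706 F441600) (tt N67445 (iv3 D206618)) (tt N79729 F441601) (tt N97720 F441602) (tt N111011 (iv6 F474238)) (tt N67451 F441603))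
theorem Q103433 : ∀ i, i < 103433 → P i := stepQ 103432 Q103432 (allL N103432 (tt N111596 (iv1 F477087)) (tt N97765 (iv0 F441608)) (tt N67450 F441606) (tt N111011 (iv3 F474236)) (tt N107244 (iv4 F457618)) (tt N100710 F441607) (tt N67445 (iv6 D206619)) (tt N102338 (iv7 F441609)))
theorem Q103434 : ∀ i, i < 103434 → P i := stepQ 103433 Q103433 (allL N103433 (tt N67452 (iv1 F441613)) (tt N67449 (iv0 D206620)) (tt N82231 (iv2 F441612)) (tt N101955 (iv3 F441615)) (tt N103338 F441611) (tt N78249 F441610) (tt N78428 (iv6 F441616)) (tt N101540 F441614))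
theorem Q103435 : ∀ i, i < 103435 → P i := stepQ 103434 Q103434 (allL N103434 (tt N111933 F478742) (tt N117690 (iv0 F506439)) (tt N107244 (iv2 F457617)) (tt N79145 F441617) (tt N67450 F441618) (tt N93642 F441619) (tt N67449 (iv6 D206621)) (tt N79169 F441620))
theorem Q103436 : ∀ i, i < 103436 → P i := stepQ 103435 Q103435 (allL N103435 (tt N79540 F441624) (tt N67453 (iv0 D206622)) (tt N111939 F478773) (tt N67473 F441622) (tt N94845 F441621) (tt N112488 (iv5 F481311)) (tt N101688 (iv6 F441625)) (tt N94841 (iv7 F441623)))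
theorem Q103437 : ∀ i, i < 103437 → P i := stepQ 103436 Q103436 (allL N103436 (tt N111926 (iv1 F478695)) (tt N108959 (iv0 F464675)) (tt N107743 (iv2 F459505)) (tt N81215 F441626) (tt N97759 F441628) (tt N67453 (iv5 D206623)) (tt N97758 F441627) (tt N111925 (iv7 F478691)))
theorem Q103438 : ∀ i, i < 103438 → P i := stepQ 103437 Q103437 (allL N103437 (tt N94841 (iv1 F441633)) (tt N111939 F478774) (tt N79540 F441629) (tt N81216 F441630) (tt N81228 F441631) (tt N111925 (iv5 F478686)) (tt N102338 F441632) (tt N67453 (iv7 D206624)))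
theorem Q103439 : ∀ i, i < 103439 → P i := stepQ 103438 Q103438 (allL N103438 (tt N67978 F441637) (tt N67980 F441638) (tt N104564 (iv2 F446288)) (tt N79574 F441634) (tt N67454 (iv4 D206625)) (tt N67597 F441635) (tt N79573 F441636) (tt N104563 (iv7 F446284)))
theorem Q103440 : ∀ i, i < 103440 → P i := stepQ 103439 Q103439 (allL N103439 (tt N111402 (iv1 F476198)) (tt N96332 F441643) (tt N94872 F441639) (tt N111395 (iv3 F476160)) (tt N88132 F441642) (tt N67457 (iv5 D206626)) (tt N87977 F441640) (tt N94871 F441641))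
theorem Q103441 : ∀ i, i < 103441 → P i := stepQ 103440 Q103440 (allL N103440 (tt N119431 (iv1 F515588)) (tt N120812 D224071) (tt N102411 F441644) (tt N77305 F441645) (tt N97697 F441647) (tt N67462 (iv5 D206627)) (tt N97696 (iv6 F441648)) (tt N77303 F441646))
theorem Q103442 : ∀ i, i < 103442 → P i := stepQ 103441 Q103441 (allL N103441 (tt N102372 (iv1 F441654)) (tt N102843 F441655) (tt N102663 F441649) (tt N92737 F441650) (tt N97860 F441651) (tt N102202 F441652) (tt N67462 (iv6 D206628)) (tt N102842 F441653))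
theorem Q103443 : ∀ i, i < 103443 → P i := stepQ 103442 Q103442 (allL N103442 (tt N104349 F445368) (tt N104339 (iv0 F445329)) (tt N103317 F441656) (tt N67463 (iv3 D206629)) (tt N105350 (iv4 F449827)) (tt N103236 (iv5 F441657)) (tt N88769 (iv6 F441658)) (tt N104348 (iv7 F445358)))
theorem Q103444 : ∀ i, i < 103444 → P i := stepQ 103443 Q103443 (allL N103443 (tt N120812 (iv1 F522856)) (tt N119431 (iv0 F515587)) (tt N77303 F441659) (tt N103236 F441660) (tt N102414 F441661) (tt N67463 (iv5 D206630)) (tt N103235 F441663) (tt N102411 F441662))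
theorem Q103445 : ∀ i, i < 103445 → P i := stepQ 103444 Q103444 (allL N103444 (tt N102370 (iv1 F441669)) (tt N92775 F441670) (tt N95179 F441664) (tt N88769 F441665) (tt N97723 F441666) (tt N94726 F441667) (tt N67463 (iv6 D206631)) (tt N95177 F441668))
theorem Q103446 : ∀ i, i < 103446 → P i := stepQ 103445 Q103445 (allL N103445 (tt N67464 (iv1 D206632)) (tt N93203 F441671) (tt N104417 F445666) (tt N84022 (iv3 F441673)) (tt N92020 F441672) (tt N109915 (iv5 F469199)) (tt N84021 (iv6 F441674)) (tt N104347 (iv7 F445354)))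
theorem Q103447 : ∀ i, i < 103447 → P i := stepQ 103446 Q103446 (allL N103446 (tt N117635 F506128) (tt N67466 (iv0 D206633)) (tt N118106 (iv2 F508627)) (tt N81036 F443349) (tt N103914 (iv4 F443348)) (tt N118105 F508625) (tt N115775 (iv6 F496803)) (tt N119330 (iv7 F515056)))
theorem Q103448 : ∀ i, i < 103448 → P i := stepQ 103447 Q103447 (allL N103447 (tt N67466 (iv1 D206634)) (tt N117635 (iv0 F506127)) (tt N119330 (iv2 F515052)) (tt N81574 (iv3 F441675)) (tt N103335 (iv4 F441676)) (tt N97249 (iv5 F441678)) (tt N81571 (iv6 F441677)) (tt N118106 (iv7 F508629)))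
theorem Q103449 : ∀ i, i < 103449 → P i := stepQ 103448 Q103448 (allL N103448 (tt N79883 (iv1 F441682)) (tt N67471 (iv0 D206635)) (tt N79783 (iv2 F441681)) (tt N80273 F441680) (tt N103915 (iv4 F443350)) (tt N69264 F441679) (tt N79781 (iv6 F441684)) (tt N80970 F441683))
theorem Q103450 : ∀ i, i < 103450 → P i := stepQ 103449 Q103449 (allL N103449 (tt N112381 F480832) (tt N115121 (iv0 F493596)) (tt N81782 F441685) (tt N80732 F441686) (tt N67472 F441687) (tt N110397 (iv5 F471395)) (tt N67471 (iv6 D206636)) (tt N109600 (iv7 F467670)))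
theorem Q103451 : ∀ i, i < 103451 → P i := stepQ 103450 Q103450 (allL N103450 (tt N97904 F441690) (tt N97911 (iv0 F441691)) (tt N115245 (iv2 F494190)) (tt N101688 F441688) (tt N102103 F441689) (tt N114966 (iv5 F492805)) (tt N67473 (iv6 D206637)) (tt N117985 (iv7 F507922)))
theorem Q103452 : ∀ i, i < 103452 → P i := stepQ 103451 Q103451 (allL N103451 (tt N111924 (iv1 F478678)) (tt N67475 (iv0 D206638)) (tt N97625 (iv2 F441694)) (tt N111926 (iv3 F478692)) (tt N68083 F441693) (tt N97614 F441692) (tt N111671 (iv6 F477408)) (tt N97613 F441695))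
theorem Q103453 : ∀ i, i < 103453 → P i := stepQ 103452 Q103452 (allL N103452 (tt N97613 (iv1 F441699)) (tt N97625 F441700) (tt N111924 (iv2 F478684)) (tt N108957 F464660) (tt N97617 F441696) (tt N67476 F441697) (tt N102090 F441698) (tt N67475 (iv7 D206639)))
theorem Q103454 : ∀ i, i < 103454 → P i := stepQ 103453 Q103453 (allL N103453 (tt N117534 (iv1 F505572)) (tt N112130 (iv0 F479650)) (tt N103275 F441702) (tt N96408 F441703) (tt N67477 (iv4 D206640)) (tt N73745 F441706) (tt N73748 F441704) (tt N103274 F441705))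
theorem Q103455 : ∀ i, i < 103455 → P i := stepQ 103454 Q103454 (allL N103454 (tt N82382 (iv1 F441710)) (tt N103413 (iv0 F441711)) (tt N102395 F441707) (tt N67478 (iv3 D206641)) (tt N115377 (iv4 F494892)) (tt N74666 F441708) (tt N117710 (iv6 F506560)) (tt N74658 F441709))
theorem Q103456 : ∀ i, i < 103456 → P i := stepQ 103455 Q103455 (allL N103455 (tt N112130 (iv1 F479651)) (tt N117534 (iv0 F505571)) (tt N103274 F441712) (tt N112293 (iv3 F480399)) (tt N67478 (iv4 D206642)) (tt N91591 F441714) (tt N112138 F479698) (tt N103275 F441713))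
theorem Q103457 : ∀ i, i < 103457 → P i := stepQ 103456 Q103456 (allL N103456 (tt N97685 F441716) (tt N119467 (iv0 F515772)) (tt N103469 (iv2 F441763)) (tt N87044 F441715) (tt N103560 F442043) (tt N67480 (iv5 D206643)) (tt N120806 (iv6 F522827)) (tt N103470 (iv7 F441770)))
theorem Q103458 : ∀ i, i < 103458 → P i := stepQ 103457 Q103457 (allL N103457 (tt N119467 F515773) (tt N97685 (iv0 F441719)) (tt N103470 (iv2 F441767)) (tt N74376 F441717) (tt N106130 (iv4 F453270)) (tt N67481 (iv5 D206644)) (tt N92855 F441718) (tt N103469 (iv7 F441766)))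
theorem Q103459 : ∀ i, i < 103459 → P i := stepQ 103458 Q103458 (allL N103458 (tt N67482 (iv1 D206645)) (tt N103468 (iv0 F441761)) (tt N103471 F441775) (tt N68739 F441722) (tt N120657 (iv4 F521996)) (tt N92691 (iv5 F441721)) (tt N92105 F441723) (tt N97564 F441720))
theorem Q103460 : ∀ i, i < 103460 → P i := stepQ 103459 Q103459 (allL N103459 (tt N115831 (iv1 F497133)) (tt N115832 (iv0 F497135)) (tt N103472 (iv2 F441776)) (tt N109434 (iv3 F466936)) (tt N67482 (iv4 D206646)) (tt N111237 (iv5 F475366)) (tt N103286 F441724) (tt N111246 (iv7 F475415)))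
theorem Q103461 : ∀ i, i < 103461 → P i := stepQ 103460 Q103460 (allL N103460 (tt N111652 (iv1 F477315)) (tt N81571 F441728) (tt N79874 F441725) (tt N81567 F441729) (tt N67484 (iv4 D206647)) (tt N88340 F441726) (tt N87718 F441727) (tt N106719 (iv7 F455395)))
theorem Q103462 : ∀ i, i < 103462 → P i := stepQ 103461 Q103461 (allL N103461 (tt N115776 F496812) (tt N103340 (iv0 F441732)) (tt N111072 (iv2 F474530)) (tt N67485 (iv3 D206648)) (tt N81567 F441730) (tt N116234 (iv5 F499158)) (tt N93975 F441731) (tt N111073 (iv7 F474537)))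
theorem Q103463 : ∀ i, i < 103463 → P i := stepQ 103462 Q103462 (allL N103462 (tt N87911 F441736) (tt N82524 F441735) (tt N87913 F441733) (tt N116234 (iv3 F499156)) (tt N120813 D224072) (tt N67485 (iv5 D206649)) (tt N113792 (iv6 F487133)) (tt N87912 F441734))
theorem Q103464 : ∀ i, i < 103464 → P i := stepQ 103463 Q103463 (allL N103463 (tt N67489 (iv1 F441738)) (tt N67486 (iv0 D206650)) (tt N119434 (iv2 F515602)) (tt N104390 (iv3 F445552)) (tt N118057 (iv4 F508336)) (tt N103422 F441737) (tt N102356 (iv6 F441740)) (tt N102357 F441739))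
theorem Q103465 : ∀ i, i < 103465 → P i := stepQ 103464 Q103464 (allL N103464 (tt N118052 (iv1 F508311)) (tt N93119 (iv0 F441742)) (tt N111262 (iv2 F475506)) (tt N109737 (iv3 F468355)) (tt N67486 (iv4 D206651)) (tt N75731 F441741) (tt N109732 F468335) (tt N105002 F448316))
theorem Q103466 : ∀ i, i < 103466 → P i := stepQ 103465 Q103465 (allL N103465 (tt N94011 F441747) (tt N117950 (iv0 F507752)) (tt N102221 F441743) (tt N92935 F441744) (tt N109732 (iv4 F468333)) (tt N94795 F441745) (tt N67486 (iv6 D206652)) (tt N102220 F441746))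
theorem Q103467 : ∀ i, i < 103467 → P i := stepQ 103466 Q103466 (allL N103466 (tt N82524 F441752) (tt N87911 F441751) (tt N87912 F441748) (tt N111010 F474234) (tt N120814 D224073) (tt N67488 (iv5 D206653)) (tt N102898 F441749) (tt N87913 F441750))
theorem Q103468 : ∀ i, i < 103468 → P i := stepQ 103467 Q103467 (allL N103467 (tt N93119 F441755) (tt N118052 F508310) (tt N105002 (iv2 F448311)) (tt N85759 (iv3 F441756)) (tt N67489 (iv4 D206654)) (tt N75732 F441754) (tt N85756 F441753) (tt N111262 (iv7 F475507)))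
theorem Q103469 : ∀ i, i < 103469 → P i := stepQ 103468 Q103468 (allL N103468 (tt N103458 F441761) (tt N95853 (iv0 F441762)) (tt N93210 F441757) (tt N82779 F441758) (tt N105759 (iv4 F451566)) (tt N67491 (iv5 D206655)) (tt N93185 F441759) (tt N67494 F441760))
theorem Q103470 : ∀ i, i < 103470 → P i := stepQ 103469 Q103469 (allL N103469 (tt N97839 (iv1 F441772)) (tt N113048 F483720) (tt N103456 F441763) (tt N93988 F441764) (tt N120815 D224074) (tt N67492 (iv5 D206656)) (tt N103386 F441765) (tt N103457 F441766))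
theorem Q103471 : ∀ i, i < 103471 → P i := stepQ 103470 Q103470 (allL N103470 (tt N113048 (iv1 F483721)) (tt N97839 (iv0 F441771)) (tt N103457 F441767) (tt N87787 F441768) (tt N104596 (iv4 F446460)) (tt N67493 (iv5 D206657)) (tt N97558 F441769) (tt N103456 F441770))
theorem Q103472 : ∀ i, i < 103472 → P i := stepQ 103471 Q103471 (allL N103471 (tt N67494 (iv1 D206658)) (tt N93210 F441773) (tt N103458 (iv2 F441775)) (tt N104787 F447274) (tt N102489 F442835) (tt N111815 (iv5 F478121)) (tt N117705 (iv6 F506531)) (tt N95853 F441774))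
theorem Q103473 : ∀ i, i < 103473 → P i := stepQ 103472 Q103472 (allL N103472 (tt N119424 F515541) (tt N120584 (iv0 F521593)) (tt N103459 F441776) (tt N105762 (iv3 F451579)) (tt N67494 (iv4 D206659)) (tt N111244 (iv5 F475404)) (tt N67501 F441777) (tt N105759 (iv7 F451568)))
theorem Q103474 : ∀ i, i < 103474 → P i := stepQ 103473 Q103473 (allL N103473 (tt N102938 F441782) (tt N103300 (iv0 F441784)) (tt N103333 F441778) (tt N67496 F441779) (tt N102944 F441781) (tt N67495 (iv5 D206660)) (tt N68660 F441783) (tt N103231 F441780))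
theorem Q103475 : ∀ i, i < 103475 → P i := stepQ 103474 Q103474 (allL N103474 (tt N102040 F441786) (tt N119425 F515547) (tt N113045 (iv2 F483702)) (tt N67497 F441785) (tt N119845 (iv4 F517664)) (tt N117687 (iv5 F506420)) (tt N67495 (iv6 D206661)) (tt N118313 (iv7 F509653)))
theorem Q103476 : ∀ i, i < 103476 → P i := stepQ 103475 Q103475 (allL N103475 (tt N67499 (iv1 F441788)) (tt N67496 (iv0 D206662)) (tt N97571 F441790) (tt N103313 F445076) (tt N114446 (iv4 F490210)) (tt N97517 F441787) (tt N92065 (iv6 F441789)) (tt N104428 (iv7 F445717)))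
theorem Q103477 : ∀ i, i < 103477 → P i := stepQ 103476 Q103476 (allL N103476 (tt N67496 (iv1 D206663)) (tt N67499 F441791) (tt N104428 F445715) (tt N120812 F522860) (tt N119521 (iv4 F516038)) (tt N68650 F441793) (tt N97560 (iv6 F441794)) (tt N97571 F441792))
theorem Q103478 : ∀ i, i < 103478 → P i := stepQ 103477 Q103477 (allL N103477 (tt N104473 (iv1 F445923)) (tt N120816 D224075) (tt N104431 (iv2 F445729)) (tt N111261 (iv3 F475501)) (tt N67496 (iv4 D206664)) (tt N102573 F441795) (tt N111260 (iv6 F475499)) (tt N104429 (iv7 F445721)))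
theorem Q103479 : ∀ i, i < 103479 → P i := stepQ 103478 Q103478 (allL N103478 (tt N111243 (iv1 F475401)) (tt N119449 (iv0 F515682)) (tt N104432 (iv2 F445733)) (tt N68660 F441796) (tt N111260 (iv4 F475494)) (tt N102206 F441797) (tt N67496 (iv6 D206665)) (tt N103331 F441798))
theorem Q103480 : ∀ i, i < 103480 → P i := stepQ 103479 Q103479 (allL N103479 (tt N120816 (iv1 F522881)) (tt N104473 (iv0 F445922)) (tt N104429 (iv2 F445719)) (tt N67750 F441799) (tt N67499 (iv4 D206666)) (tt N97732 F441800) (tt N67748 F441801) (tt N104431 (iv7 F445731)))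
theorem Q103481 : ∀ i, i < 103481 → P i := stepQ 103480 Q103480 (allL N103480 (tt N97841 F441806) (tt N103312 F441807) (tt N103230 F441802) (tt N67747 F441803) (tt N67748 F441804) (tt N102348 F441805) (tt N67499 (iv6 D206667)) (tt N103329 F441808))
theorem Q103482 : ∀ i, i < 103482 → P i := stepQ 103481 Q103481 (allL N103481 (tt N102930 (iv1 F441813)) (tt N102929 (iv0 F441812)) (tt N102931 F441809) (tt N68009 F441810) (tt N103885 (iv4 F443212)) (tt N104302 (iv5 F445138)) (tt N67500 (iv6 D206668)) (tt N102928 F441811))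
theorem Q103483 : ∀ i, i < 103483 → P i := stepQ 103482 Q103482 (allL N103482 (tt N93089 (iv1 F441815)) (tt N67501 (iv0 D206669)) (tt N104382 (iv2 F445516)) (tt N103539 F441980) (tt N93219 F441814) (tt N98012 (iv5 F441816)) (tt N119436 F515619) (tt N104381 (iv7 F445513)))
theorem Q103484 : ∀ i, i < 103484 → P i := stepQ 103483 Q103483 (allL N103483 (tt N67501 (iv1 D206670)) (tt N93089 F441817) (tt N104381 (iv2 F445512)) (tt N102451 (iv3 F441819)) (tt N93218 F441818) (tt N103486 (iv5 F441826)) (tt N104540 (iv6 F446187)) (tt N104382 (iv7 F445517)))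
theorem Q103485 : ∀ i, i < 103485 → P i := stepQ 103484 Q103484 (allL N103484 (tt N102459 F441820) (tt N85058 (iv0 F441821)) (tt N103782 F442789) (tt N67501 (iv3 D206671)) (tt N115764 (iv4 F496739)) (tt N113575 (iv5 F486093)) (tt N105762 (iv6 F451580)) (tt N103763 F442729))
theorem Q103486 : ∀ i, i < 103486 → P i := stepQ 103485 Q103485 (allL N103485 (tt N101715 F441824) (tt N87684 F441823) (tt N117362 (iv2 F504670)) (tt N67505 F441822) (tt N116510 (iv4 F500530)) (tt N67504 (iv5 D206672)) (tt N71847 F441825) (tt N104434 (iv7 F445745)))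
theorem Q103487 : ∀ i, i < 103487 → P i := stepQ 103486 Q103486 (allL N103486 (tt N114446 (iv1 F490213)) (tt N119521 F516040) (tt N104437 (iv2 F445756)) (tt N120639 (iv3 F521898)) (tt N67505 (iv4 D206673)) (tt N103483 F441826) (tt N111242 F475395) (tt N104436 (iv7 F445754)))
theorem Q103488 : ∀ i, i < 103488 → P i := stepQ 103487 Q103487 (allL N103487 (tt N68670 F441830) (tt N68668 F441831) (tt N102227 F441827) (tt N119397 (iv3 F515409)) (tt N102226 F441832) (tt N67506 (iv5 D206674)) (tt N102225 F441828) (tt N102105 F441829))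
theorem Q103489 : ∀ i, i < 103489 → P i := stepQ 103488 Q103488 (allL N103488 (tt N84027 F441837) (tt N87685 F441838) (tt N87683 F441833) (tt N67507 (iv3 D206675)) (tt N84006 F441834) (tt N113812 (iv5 F487237)) (tt N88648 F441835) (tt N87682 F441836))
theorem Q103490 : ∀ i, i < 103490 → P i := stepQ 103489 Q103489 (allL N103489 (tt N67569 (iv1 F441844)) (tt N109444 F466988) (tt N102572 F441839) (tt N102493 F441840) (tt N75706 F441841) (tt N102491 F441842) (tt N67509 (iv6 D206676)) (tt N75730 F441843))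
theorem Q103491 : ∀ i, i < 103491 → P i := stepQ 103490 Q103490 (allL N103490 (tt N119676 (iv1 F516860)) (tt N114413 F490031) (tt N67512 F441845) (tt N103600 (iv3 F442190)) (tt N78899 F441846) (tt N98672 (iv5 F441847)) (tt N67510 (iv6 D206677)) (tt N120817 D224076))
theorem Q103492 : ∀ i, i < 103492 → P i := stepQ 103491 Q103491 (allL N103491 (tt N120817 (iv1 F522894)) (tt N67512 (iv0 D206678)) (tt N119676 (iv2 F516857)) (tt N75095 F441848) (tt N111171 (iv4 F475069)) (tt N119641 (iv5 F516660)) (tt N117954 F507770) (tt N114413 (iv7 F490028)))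
theorem Q103493 : ∀ i, i < 103493 → P i := stepQ 103492 Q103492 (allL N103492 (tt N67512 (iv1 D206679)) (tt N120817 F522893) (tt N114413 F490032) (tt N119526 (iv3 F516791)) (tt N85053 (iv4 F446965)) (tt N111211 F475242) (tt N84924 F446966) (tt N119676 (iv7 F516858)))
theorem Q103494 : ∀ i, i < 103494 → P i := stepQ 103493 Q103493 (allL N103493 (tt N98681 F441855) (tt N78793 (iv0 F441854)) (tt N98672 F441849) (tt N67515 F441850) (tt N78787 (iv4 F441852)) (tt N67512 (iv5 D206680)) (tt N97688 F441851) (tt N98675 (iv7 F441853)))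
theorem Q103495 : ∀ i, i < 103495 → P i := stepQ 103494 Q103494 (allL N103494 (tt N114413 F490029) (tt N119676 (iv0 F516859)) (tt N120817 (iv2 F522888)) (tt N67516 F441856) (tt N104956 (iv4 F448132)) (tt N98675 F441857) (tt N67730 F441858) (tt N67512 (iv7 D206681)))
theorem Q103496 : ∀ i, i < 103496 → P i := stepQ 103495 Q103495 (allL N103495 (tt N119637 F516644) (tt N105493 (iv0 F450461)) (tt N102907 F441859) (tt N67513 (iv3 D206682)) (tt N105452 (iv4 F450325)) (tt N113759 (iv5 F486994)) (tt N120818 D224077) (tt N104607 (iv7 F446513)))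
theorem Q103497 : ∀ i, i < 103497 → P i := stepQ 103496 Q103496 (allL N103496 (tt N67574 (iv1 F441864)) (tt N96996 (iv0 F441863)) (tt N104555 F446235) (tt N120818 (iv3 F522896)) (tt N70436 F441860) (tt N102627 F441861) (tt N67513 (iv6 D206683)) (tt N104472 (iv7 F445911)))
theorem Q103498 : ∀ i, i < 103498 → P i := stepQ 103497 Q103497 (allL N103497 (tt N104674 (iv1 F446821)) (tt N104672 (iv0 F446810)) (tt N104608 (iv2 F446515)) (tt N93867 F441865) (tt N116345 (iv4 F499644)) (tt N67514 (iv5 D206684)) (tt N108882 (iv6 F464356)) (tt N104606 (iv7 F446506)))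
theorem Q103499 : ∀ i, i < 103499 → P i := stepQ 103498 Q103498 (allL N103498 (tt N104610 (iv1 F446529)) (tt N67515 (iv0 D206685)) (tt N104609 F446522) (tt N119635 (iv3 F516630)) (tt N113753 (iv4 F486967)) (tt N69105 F441866) (tt N104582 (iv6 F446398)) (tt N92256 (iv7 F441867)))
theorem Q103500 : ∀ i, i < 103500 → P i := stepQ 103499 Q103499 (allL N103499 (tt N92256 (iv1 F441870)) (tt N104609 F446524) (tt N104610 (iv2 F446525)) (tt N98675 F441868) (tt N109137 (iv4 F465512)) (tt N67516 F441869) (tt N109175 (iv6 F465677)) (tt N67515 (iv7 D206686)))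
theorem Q103501 : ∀ i, i < 103501 → P i := stepQ 103500 Q103500 (allL N103500 (tt N104527 F446156) (tt N102535 (iv0 F445931)) (tt N120624 F521822) (tt N67517 (iv3 D206687)) (tt N104475 (iv4 F445929)) (tt N120819 D224078) (tt N120715 (iv6 F522306)) (tt N104611 (iv7 F446532)))
theorem Q103502 : ∀ i, i < 103502 → P i := stepQ 103501 Q103501 (allL N103501 (tt N104669 (iv1 F446794)) (tt N104670 (iv0 F446798)) (tt N104573 (iv2 F446343)) (tt N120819 (iv3 F522901)) (tt N114710 (iv4 F491467)) (tt N67517 (iv5 D206688)) (tt N114709 (iv6 F491465)) (tt N104612 (iv7 F446535)))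
theorem Q103503 : ∀ i, i < 103503 → P i := stepQ 103502 Q103502 (allL N103502 (tt N67542 F441947) (tt N104623 F446588) (tt N104621 F446582) (tt N67519 (iv3 D206689)) (tt N67596 F441871) (tt N120820 D224079) (tt N104112 (iv6 F444239)) (tt N104111 (iv7 F444232)))
theorem Q103504 : ∀ i, i < 103504 → P i := stepQ 103503 Q103503 (allL N103503 (tt N104670 (iv1 F446799)) (tt N104669 (iv0 F446793)) (tt N104612 (iv2 F446534)) (tt N120820 (iv3 F522907)) (tt N105516 F450541) (tt N67519 (iv5 D206690)) (tt N120108 (iv6 F519087)) (tt N104573 (iv7 F446344)))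
theorem Q103505 : ∀ i, i < 103505 → P i := stepQ 103504 Q103504 (allL N103504 (tt N67781 (iv1 F441877)) (tt N69786 F441876) (tt N67520 (iv2 D206691)) (tt N69790 F441872) (tt N67523 F441873) (tt N78681 F441874) (tt N105520 (iv6 F450560)) (tt N69787 F441875))
theorem Q103506 : ∀ i, i < 103506 → P i := stepQ 103505 Q103505 (allL N103505 (tt N104484 F445968) (tt N120821 D224080) (tt N67524 F441878) (tt N102794 F441879) (tt N105520 (iv4 F450559)) (tt N120822 D224081) (tt N67523 (iv6 D206692)) (tt N120823 D224082))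
theorem Q103507 : ∀ i, i < 103507 → P i := stepQ 103506 Q103506 (allL N103506 (tt N120823 (iv1 F522930)) (tt N67524 (iv0 D206693)) (tt N104484 (iv2 F445966)) (tt N119537 F516127) (tt N120824 D224083) (tt N114553 (iv5 F490744)) (tt N67677 F442314) (tt N120821 (iv7 F522912)))
theorem Q103508 : ∀ i, i < 103508 → P i := stepQ 103507 Q103507 (allL N103507 (tt N67524 (iv1 D206694)) (tt N120823 F522929) (tt N120821 (iv2 F522915)) (tt N104650 (iv3 F446697)) (tt N119023 (iv4 F513338)) (tt N105205 (iv5 F449203)) (tt N104550 F446227) (tt N104484 F445970))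
theorem Q103509 : ∀ i, i < 103509 → P i := stepQ 103508 Q103508 (allL N103508 (tt N119534 F516111) (tt N107805 (iv0 F459784)) (tt N120822 (iv2 F522917)) (tt N67527 F441880) (tt N70127 F441881) (tt N67524 (iv5 D206695)) (tt N103598 (iv6 F442186)) (tt N93291 (iv7 F441882)))
theorem Q103510 : ∀ i, i < 103510 → P i := stepQ 103509 Q103509 (allL N103509 (tt N120821 (iv1 F522911)) (tt N104484 (iv0 F445969)) (tt N120823 (iv2 F522924)) (tt N67528 F441883) (tt N105396 (iv4 F450047)) (tt N93291 F441884) (tt N104605 (iv6 F446503)) (tt N67524 (iv7 D206696)))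
theorem Q103511 : ∀ i, i < 103511 → P i := stepQ 103510 Q103510 (allL N103510 (tt N109182 (iv1 F465690)) (tt N109181 F465687) (tt N102796 F441885) (tt N103598 (iv3 F442185)) (tt N94703 F441886) (tt N67525 (iv5 D206697)) (tt N67527 F441887) (tt N85000 F441888))
theorem Q103512 : ∀ i, i < 103512 → P i := stepQ 103511 Q103511 (allL N103511 (tt N105492 F450457) (tt N117360 (iv0 F504661)) (tt N106521 (iv2 F454753)) (tt N67526 (iv3 D206698)) (tt N69831 F441889) (tt N95984 (iv5 F441892)) (tt N88692 F441890) (tt N69808 F441891))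
theorem Q103513 : ∀ i, i < 103513 → P i := stepQ 103512 Q103512 (allL N103512 (tt N94674 F441897) (tt N94960 F441898) (tt N94966 F441893) (tt N95984 F441894) (tt N95176 F441896) (tt N67526 (iv5 D206699)) (tt N120661 (iv6 F522023)) (tt N69810 F441895))
theorem Q103514 : ∀ i, i < 103514 → P i := stepQ 103513 Q103513 (allL N103513 (tt N67731 (iv1 F441900)) (tt N67527 (iv0 D206700)) (tt N95119 (iv2 F441901)) (tt N119447 (iv3 F515667)) (tt N118745 (iv4 F511857)) (tt N93665 F441899) (tt N119534 (iv6 F516108)) (tt N95118 (iv7 F441902)))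
theorem Q103515 : ∀ i, i < 103515 → P i := stepQ 103514 Q103514 (allL N103514 (tt N67527 (iv1 D206701)) (tt N67731 F441903) (tt N95118 (iv2 F441907)) (tt N106416 F454340) (tt N95185 F441906) (tt N99489 F441905) (tt N106414 (iv6 F454343)) (tt N95119 F441904))
theorem Q103516 : ∀ i, i < 103516 → P i := stepQ 103515 Q103515 (allL N103515 (tt N102533 (iv1 F445838)) (tt N120626 F521828) (tt N103847 (iv2 F443061)) (tt N67529 (iv3 D206702)) (tt N69153 F441908) (tt N103839 (iv5 F443035)) (tt N69159 F441909) (tt N67667 F441910))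
theorem Q103517 : ∀ i, i < 103517 → P i := stepQ 103516 Q103516 (allL N103516 (tt N67727 F441914) (tt N67726 F441915) (tt N67729 F441911) (tt N103839 (iv3 F443033)) (tt N94673 F441912) (tt N67529 (iv5 D206703)) (tt N103824 F442967) (tt N67669 F441913))
theorem Q103518 : ∀ i, i < 103518 → P i := stepQ 103517 Q103517 (allL N103517 (tt N92924 F441917) (tt N92925 (iv0 F441918)) (tt N118090 F508527) (tt N67531 (iv3 D206704)) (tt N118063 (iv4 F508371)) (tt N70582 F441916) (tt N120825 D224084) (tt N104614 (iv7 F446548)))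
theorem Q103519 : ∀ i, i < 103519 → P i := stepQ 103518 Q103518 (allL N103518 (tt N67559 F451563) (tt N115799 (iv0 F496953)) (tt N104613 (iv2 F446539)) (tt N120825 (iv3 F522938)) (tt N117709 (iv4 F506552)) (tt N97861 F451564) (tt N67531 (iv6 D206705)) (tt N120628 (iv7 F521837)))
theorem Q103520 : ∀ i, i < 103520 → P i := stepQ 103519 Q103519 (allL N103519 (tt N120826 D224085) (tt N117753 (iv0 F506795)) (tt N104618 (iv2 F446569)) (tt N103116 F441919) (tt N67533 (iv4 D206706)) (tt N103115 F441921) (tt N75032 F441920) (tt N116688 (iv7 F501309)))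
theorem Q103521 : ∀ i, i < 103521 → P i := stepQ 103520 Q103520 (allL N103520 (tt N75065 F441927) (tt N75061 F441928) (tt N97944 F441922) (tt N67537 F441923) (tt N75740 F441926) (tt N67535 (iv5 D206707)) (tt N69005 F441924) (tt N97945 F441925))
theorem Q103522 : ∀ i, i < 103522 → P i := stepQ 103521 Q103521 (allL N103521 (tt N111218 (iv1 F475268)) (tt N90113 (iv0 F441931)) (tt N103777 (iv2 F442767)) (tt N69005 F441929) (tt N116931 (iv4 F502557)) (tt N67536 (iv5 D206708)) (tt N67537 F441930) (tt N104711 (iv7 F446952)))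
theorem Q103523 : ∀ i, i < 103523 → P i := stepQ 103522 Q103522 (allL N103522 (tt N107739 (iv1 F459488)) (tt N118688 F511560) (tt N104617 (iv2 F446564)) (tt N118685 (iv3 F511540)) (tt N67537 (iv4 D206709)) (tt N102836 F441932) (tt N116931 (iv6 F502558)) (tt N102835 (iv7 F441933)))
theorem Q103524 : ∀ i, i < 103524 → P i := stepQ 103523 Q103523 (allL N103523 (tt N95115 (iv1 F441938)) (tt N95117 F441939) (tt N67725 F441934) (tt N97945 F441935) (tt N102835 F441936) (tt N67538 F441937) (tt N111224 (iv6 F475296)) (tt N67537 (iv7 D206710)))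
theorem Q103525 : ∀ i, i < 103525 → P i := stepQ 103524 Q103524 (allL N103524 (tt N114374 F489862) (tt N120827 D224086) (tt N120636 (iv2 F521881)) (tt N67542 F441940) (tt N70303 F441941) (tt N120828 D224087) (tt N67539 (iv6 D206711)) (tt N106848 (iv7 F455973)))
theorem Q103526 : ∀ i, i < 103526 → P i := stepQ 103525 Q103525 (allL N103525 (tt N111100 F474665) (tt N104570 (iv0 F446325)) (tt N68239 F441942) (tt N102698 F441943) (tt N67542 F441944) (tt N95477 F441945) (tt N67540 (iv6 D206712)) (tt N102692 F441946))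
theorem Q103527 : ∀ i, i < 103527 → P i := stepQ 103526 Q103526 (allL N103526 (tt N78690 F441951) (tt N78693 F441952) (tt N87849 F441948) (tt N105120 (iv3 F448888)) (tt N67541 (iv4 D206713)) (tt N82242 F441949) (tt N120829 D224088) (tt N87848 F441950))
theorem Q103528 : ∀ i, i < 103528 → P i := stepQ 103527 Q103527 (allL N103527 (tt N106992 F456553) (tt N97868 (iv0 F442357)) (tt N103774 (iv2 F442763)) (tt N102431 F441954) (tt N120829 (iv4 F522961)) (tt N120830 D224089) (tt N67541 (iv6 D206714)) (tt N109158 (iv7 F501064)))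
theorem Q103529 : ∀ i, i < 103529 → P i := stepQ 103528 Q103528 (allL N103528 (tt N104623 (iv1 F446589)) (tt N67542 (iv0 D206715)) (tt N104111 F444235) (tt N120624 (iv3 F521821)) (tt N67625 F444236) (tt N120831 D224090) (tt N111910 (iv6 F478599)) (tt N104621 (iv7 F446580)))
theorem Q103530 : ∀ i, i < 103530 → P i := stepQ 103529 Q103529 (allL N103529 (tt N104456 F446882) (tt N69090 (iv0 F441955)) (tt N104622 (iv2 F446584)) (tt N120828 (iv3 F522956)) (tt N120832 D224091) (tt N67542 (iv5 D206716)) (tt N120830 (iv6 F522968)) (tt N116913 (iv7 F502471)))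
theorem Q103531 : ∀ i, i < 103531 → P i := stepQ 103530 Q103530 (allL N103530 (tt N104621 (iv1 F446579)) (tt N104111 (iv0 F444233)) (tt N104623 (iv2 F446585)) (tt N106848 (iv3 F455971)) (tt N102692 F441956) (tt N116913 (iv5 F502468)) (tt N67717 F441957) (tt N67542 (iv7 D206717)))
theorem Q103532 : ∀ i, i < 103532 → P i := stepQ 103531 Q103531 (allL N103531 (tt N119147 (iv1 F514038)) (tt N119146 (iv0 F514033)) (tt N109424 (iv2 F466891)) (tt N67545 F441958) (tt N76245 F441959) (tt N119150 (iv5 F514055)) (tt N67543 (iv6 D206718)) (tt N119575 (iv7 F516334)))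
theorem Q103533 : ∀ i, i < 103533 → P i := stepQ 103532 Q103532 (allL N103532 (tt N114660 (iv1 F491253)) (tt N116886 (iv0 F502354)) (tt N104619 (iv2 F446573)) (tt N119150 (iv3 F514054)) (tt N99516 F441960) (tt N67545 (iv5 D206719)) (tt N116211 (iv6 F499039)) (tt N103729 F442610))
theorem Q103534 : ∀ i, i < 103534 → P i := stepQ 103533 Q103533 (allL N103533 (tt N67719 (iv1 F441963)) (tt N67712 F441964) (tt N67717 F441961) (tt N119575 (iv3 F516332)) (tt N68344 F441962) (tt N103729 (iv5 F442609)) (tt N104623 (iv6 F446587)) (tt N67545 (iv7 D206720)))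
theorem Q103535 : ∀ i, i < 103535 → P i := stepQ 103534 Q103534 (allL N103534 (tt N113808 F487208) (tt N120640 F521907) (tt N67551 F441965) (tt N102464 F441966) (tt N95900 F441967) (tt N102454 F441968) (tt N67546 (iv6 D206721)) (tt N102453 (iv7 F441969)))
theorem Q103536 : ∀ i, i < 103536 → P i := stepQ 103535 Q103535 (allL N103535 (tt N120833 D224092) (tt N105937 (iv0 F454809)) (tt N104626 (iv2 F446599)) (tt N102553 F441970) (tt N111129 (iv4 F474827)) (tt N120834 D224093) (tt N67548 (iv6 D206722)) (tt N120835 D224094))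
theorem Q103537 : ∀ i, i < 103537 → P i := stepQ 103536 Q103536 (allL N103536 (tt N98715 F441974) (tt N105526 (iv0 F450586)) (tt N104625 (iv2 F446592)) (tt N103258 F441971) (tt N103356 F441972) (tt N104513 (iv5 F446095)) (tt N67549 (iv6 D206723)) (tt N103394 (iv7 F441973)))
theorem Q103538 : ∀ i, i < 103538 → P i := stepQ 103537 Q103537 (allL N103537 (tt N69868 F441977) (tt N91795 F441978) (tt N95900 F441975) (tt N105883 (iv3 F452170)) (tt N67551 F441976) (tt N113988 (iv5 F488075)) (tt N67550 (iv6 D206724)) (tt N117626 (iv7 F506071)))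
theorem Q103539 : ∀ i, i < 103539 → P i := stepQ 103538 Q103538 (allL N103538 (tt N102453 (iv1 F441990)) (tt N67551 (iv0 D206725)) (tt N113808 (iv2 F487205)) (tt N120634 (iv3 F521872)) (tt N82966 (iv4 F442750)) (tt N120836 D224095) (tt N82965 F442749) (tt N120640 (iv7 F521904)))
theorem Q103540 : ∀ i, i < 103540 → P i := stepQ 103539 Q103539 (allL N103539 (tt N67551 (iv1 D206726)) (tt N102453 F441979) (tt N120640 (iv2 F521903)) (tt N103482 (iv3 F441980)) (tt N113810 (iv4 F487222)) (tt N104450 (iv5 F445818)) (tt N109148 (iv6 F487211)) (tt N113808 F487210))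
theorem Q103541 : ∀ i, i < 103541 → P i := stepQ 103540 Q103540 (allL N103540 (tt N102452 (iv1 F441985)) (tt N102451 F441986) (tt N102454 F441981) (tt N67557 F441982) (tt N104459 F445847) (tt N67551 (iv5 D206727)) (tt N67554 F441983) (tt N102447 (iv7 F441984)))
theorem Q103542 : ∀ i, i < 103542 → P i := stepQ 103541 Q103541 (allL N103541 (tt N120640 F521908) (tt N113808 F487209) (tt N102453 F441987) (tt N67558 F441988) (tt N117626 (iv4 F506065)) (tt N102447 F441989) (tt N104630 (iv6 F446608)) (tt N67551 (iv7 D206728)))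
theorem Q103543 : ∀ i, i < 103543 → P i := stepQ 103542 Q103542 (allL N103542 (tt N119507 F515969) (tt N120633 (iv0 F521870)) (tt N119203 (iv2 F514338)) (tt N67552 (iv3 D206729)) (tt N106898 (iv4 F456191)) (tt N113135 (iv5 F484133)) (tt N103870 (iv6 F443154)) (tt N119205 (iv7 F514350)))
theorem Q103544 : ∀ i, i < 103544 → P i := stepQ 103543 Q103543 (allL N103543 (tt N69159 F441993) (tt N96991 F441994) (tt N103852 F443088) (tt N113135 (iv3 F484131)) (tt N96999 F441992) (tt N67552 (iv5 D206730)) (tt N69158 F441991) (tt N103851 F443083))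
theorem Q103545 : ∀ i, i < 103545 → P i := stepQ 103544 Q103544 (allL N103544 (tt N111244 F475406) (tt N78910 (iv0 F444286)) (tt N109445 (iv2 F466992)) (tt N67553 (iv3 D206731)) (tt N78952 (iv4 F441995)) (tt N115835 (iv5 F497148)) (tt N120837 D224096) (tt N109446 (iv7 F466996)))
theorem Q103546 : ∀ i, i < 103546 → P i := stepQ 103545 Q103545 (allL N103545 (tt N96991 F441997) (tt N69159 F441998) (tt N103851 F443082) (tt N115835 (iv3 F497147)) (tt N96995 F441996) (tt N67553 (iv5 D206732)) (tt N115448 (iv6 F495241)) (tt N103852 (iv7 F443085)))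
theorem Q103547 : ∀ i, i < 103547 → P i := stepQ 103546 Q103546 (allL N103546 (tt N103946 F443476) (tt N111910 (iv0 F478600)) (tt N111912 F478610) (tt N120837 (iv3 F523000)) (tt N96997 F441999) (tt N115443 (iv5 F495222)) (tt N67553 (iv6 D206733)) (tt N103869 (iv7 F443151)))
theorem Q103548 : ∀ i, i < 103548 → P i := stepQ 103547 Q103547 (allL N103547 (tt N98717 F442002) (tt N116227 (iv0 F499129)) (tt N67883 F442000) (tt N106149 F453354) (tt N98747 F442001) (tt N105567 (iv5 F450760)) (tt N67555 (iv6 D206734)) (tt N109145 (iv7 F465556)))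
theorem Q103549 : ∀ i, i < 103549 → P i := stepQ 103548 Q103548 (allL N103548 (tt N115799 (iv1 F496954)) (tt N67559 (iv0 D206735)) (tt N120628 (iv2 F521841)) (tt N78910 F442004) (tt N97488 F442003) (tt N109449 (iv5 F467012)) (tt N78908 (iv6 F442005)) (tt N104613 (iv7 F446541)))
theorem Q103550 : ∀ i, i < 103550 → P i := stepQ 103549 Q103549 (allL N103549 (tt N120628 (iv1 F521836)) (tt N104613 F446543) (tt N67559 (iv2 D206737)) (tt N67788 F442006) (tt N86963 F442007) (tt N120838 D224097) (tt N104535 (iv6 F446174)) (tt N115799 (iv7 F496952)))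
theorem Q103551 : ∀ i, i < 103551 → P i := stepQ 103550 Q103550 (allL N103550 (tt N120839 D224098) (tt N119506 (iv0 F515963)) (tt N120838 (iv2 F523006)) (tt N67560 F442008) (tt N104855 (iv4 F447643)) (tt N67559 (iv5 D206738)) (tt N109446 (iv6 F466995)) (tt N103868 (iv7 F443149)))
theorem Q103552 : ∀ i, i < 103552 → P i := stepQ 103551 Q103551 (allL N103551 (tt N88690 F442012) (tt N88689 F442010) (tt N112916 (iv2 F483268)) (tt N67562 F442009) (tt N82768 F442011) (tt N67561 (iv5 D206739)) (tt N120840 D224099) (tt N103870 (iv7 F443155)))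
theorem Q103553 : ∀ i, i < 103553 → P i := stepQ 103552 Q103552 (allL N103552 (tt N109862 (iv1 F468975)) (tt N114376 F489868) (tt N109798 (iv2 F468663)) (tt N67563 F442013) (tt N98397 F442014) (tt N117654 (iv5 F506238)) (tt N67561 (iv6 D206740)) (tt N98416 (iv7 F442015)))
theorem Q103554 : ∀ i, i < 103554 → P i := stepQ 103553 Q103553 (allL N103553 (tt N111910 (iv1 F478601)) (tt N103946 F443477) (tt N103869 (iv2 F443150)) (tt N120840 (iv3 F523018)) (tt N80285 F442016) (tt N120758 (iv5 F522557)) (tt N67562 (iv6 D206741)) (tt N111912 (iv7 F478612)))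
theorem Q103555 : ∀ i, i < 103555 → P i := stepQ 103554 Q103554 (allL N103554 (tt N69349 F442017) (tt N102523 F442018) (tt N103941 F443464) (tt N117654 (iv3 F506241)) (tt N120759 (iv4 F522561)) (tt N67563 (iv5 D206742)) (tt N120758 F522560) (tt N103942 (iv7 F443466)))
theorem Q103556 : ∀ i, i < 103556 → P i := stepQ 103555 Q103555 (allL N103555 (tt N109449 (iv1 F467014)) (tt N97861 (iv0 F442022)) (tt N111254 (iv2 F475455)) (tt N67564 (iv3 D206743)) (tt N75716 F442019) (tt N67881 F442020) (tt N111251 (iv6 F475440)) (tt N75713 F442021))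
theorem Q103557 : ∀ i, i < 103557 → P i := stepQ 103556 Q103556 (allL N103556 (tt N69091 F442027) (tt N69085 (iv0 F442028)) (tt N69088 F442024) (tt N111251 (iv3 F475438)) (tt N69199 F442025) (tt N120841 D224100) (tt N67564 (iv6 D206744)) (tt N69089 F442026))
theorem Q103558 : ∀ i, i < 103558 → P i := stepQ 103557 Q103557 (allL N103557 (tt N67789 (iv1 F442031)) (tt N88686 F442032) (tt N105567 (iv2 F450757)) (tt N67565 (iv3 D206745)) (tt N82799 F442029) (tt N67883 F442030) (tt N104632 (iv6 F446617)) (tt N105569 (iv7 F450773)))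
theorem Q103559 : ∀ i, i < 103559 → P i := stepQ 103558 Q103558 (allL N103558 (tt N111249 (iv1 F475426)) (tt N102857 (iv0 F442036)) (tt N75712 F442033) (tt N104632 (iv3 F446616)) (tt N99179 F442034) (tt N104631 (iv5 F446614)) (tt N67565 (iv6 D206746)) (tt N102714 (iv7 F442035)))
theorem Q103560 : ∀ i, i < 103560 → P i := stepQ 103559 Q103559 (allL N103559 (tt N75730 (iv1 F442040)) (tt N102572 F442039) (tt N67569 (iv2 D206747)) (tt N87845 F442037) (tt N78911 F442038) (tt N120815 (iv5 F522876)) (tt N104548 (iv6 F446220)) (tt N109444 (iv7 F466989)))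
theorem Q103561 : ∀ i, i < 103561 → P i := stepQ 103560 Q103560 (allL N103560 (tt N87914 F442044) (tt N71072 F442042) (tt N120815 (iv2 F522874)) (tt N67570 F442041) (tt N103456 (iv4 F442043)) (tt N67569 (iv5 D206748)) (tt N105754 (iv6 F451542)) (tt N104596 (iv7 F446462)))
theorem Q103562 : ∀ i, i < 103562 → P i := stepQ 103561 Q103561 (allL N103561 (tt N67570 (iv1 D206749)) (tt N67573 F442045) (tt N103872 (iv2 F443159)) (tt N120842 D224101) (tt N100734 F442048) (tt N92263 F442047) (tt N67740 (iv6 F442049)) (tt N92262 F442046))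
theorem Q103563 : ∀ i, i < 103563 → P i := stepQ 103562 Q103562 (allL N103562 (tt N87844 (iv1 F442052)) (tt N82793 F442051) (tt N67572 (iv2 D206750)) (tt N109444 F466990) (tt N112064 (iv4 F479322)) (tt N118022 (iv5 F508140)) (tt N117956 (iv6 F507779)) (tt N87845 F442050))
theorem Q103564 : ∀ i, i < 103564 → P i := stepQ 103563 Q103563 (allL N103563 (tt N82970 F442054) (tt N75084 (iv0 F442055)) (tt N118022 (iv2 F508135)) (tt N67573 F442053) (tt N75075 F442056) (tt N67572 (iv5 D206751)) (tt N118019 (iv6 F508120)) (tt N104594 (iv7 F446455)))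
theorem Q103565 : ∀ i, i < 103565 → P i := stepQ 103564 Q103564 (allL N103564 (tt N116248 F499207) (tt N116249 (iv0 F499209)) (tt N117956 (iv2 F507778)) (tt N67574 F442057) (tt N118805 (iv4 F512166)) (tt N120843 D224102) (tt N67572 (iv6 D206752)) (tt N104553 (iv7 F446232)))
theorem Q103566 : ∀ i, i < 103566 → P i := stepQ 103565 Q103565 (allL N103565 (tt N120844 D224103) (tt N109917 (iv0 F469207)) (tt N104223 (iv2 F444785)) (tt N118019 (iv3 F508118)) (tt N80080 F442058) (tt N120845 D224104) (tt N67573 (iv6 D206753)) (tt N111911 (iv7 F478605)))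
theorem Q103567 : ∀ i, i < 103567 → P i := stepQ 103566 Q103566 (allL N103566 (tt N96996 (iv1 F442061)) (tt N67574 (iv0 D206754)) (tt N104472 (iv2 F445909)) (tt N119460 (iv3 F515733)) (tt N70586 F442060) (tt N102626 F442059) (tt N67683 (iv6 F442062)) (tt N104555 (iv7 F446237)))
theorem Q103568 : ∀ i, i < 103568 → P i := stepQ 103567 Q103567 (allL N103567 (tt N102518 F442063) (tt N102516 F442064) (tt N118990 (iv2 F513152)) (tt N120843 (iv3 F523033)) (tt N120846 D224105) (tt N67574 (iv5 D206755)) (tt N120845 (iv6 F523048)) (tt N104556 (iv7 F446240)))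
theorem Q103569 : ∀ i, i < 103569 → P i := stepQ 103568 Q103568 (allL N103568 (tt N93093 F442068) (tt N97637 (iv0 F442069)) (tt N88250 F442070) (tt N67575 (iv3 D206756)) (tt N68178 F442065) (tt N79703 F442066) (tt N114450 (iv6 F490230)) (tt N88248 F442067))
theorem Q103570 : ∀ i, i < 103570 → P i := stepQ 103569 Q103569 (allL N103569 (tt N93092 F442076) (tt N97585 F442077) (tt N97590 F442071) (tt N67578 (iv3 D206757)) (tt N77300 F442072) (tt N102048 F442073) (tt N77234 F442074) (tt N97591 F442075))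
theorem Q103571 : ∀ i, i < 103571 → P i := stepQ 103570 Q103570 (allL N103570 (tt N86006 F442079) (tt N102706 (iv0 F442080)) (tt N104851 F447624) (tt N67585 F442078) (tt N103590 (iv4 F442158)) (tt N112043 (iv5 F479226)) (tt N67583 (iv6 D206758)) (tt N104658 (iv7 F446732)))
theorem Q103572 : ∀ i, i < 103572 → P i := stepQ 103571 Q103571 (allL N103571 (tt N70273 F442081) (tt N70269 (iv0 F442153)) (tt N104283 (iv2 F445088)) (tt N67584 (iv3 D206759)) (tt N103589 (iv4 F442150)) (tt N104399 (iv5 F445600)) (tt N120621 (iv6 F521806)) (tt N104285 (iv7 F445098)))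
theorem Q103573 : ∀ i, i < 103573 → P i := stepQ 103572 Q103572 (allL N103572 (tt N100523 F442085) (tt N93068 F442086) (tt N94010 F442082) (tt N104399 (iv3 F445599)) (tt N88238 F442083) (tt N67584 (iv5 D206760)) (tt N119008 (iv6 F513257)) (tt N88236 F442084))
theorem Q103574 : ∀ i, i < 103574 → P i := stepQ 103573 Q103573 (allL N103573 (tt N106443 (iv1 F454469)) (tt N104315 (iv0 F445204)) (tt N104576 (iv2 F446359)) (tt N120621 (iv3 F521805)) (tt N67585 F442087) (tt N118908 (iv5 F512692)) (tt N67584 (iv6 D206761)) (tt N104659 (iv7 F446738)))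
theorem Q103575 : ∀ i, i < 103575 → P i := stepQ 103574 Q103574 (allL N103574 (tt N104305 F445154) (tt N103613 (iv0 F442249)) (tt N104575 (iv2 F446354)) (tt N104282 (iv3 F445086)) (tt N67588 F442088) (tt N104274 (iv5 F445064)) (tt N67587 (iv6 D206762)) (tt N104599 (iv7 F446478)))
theorem Q103576 : ∀ i, i < 103576 → P i := stepQ 103575 Q103575 (allL N103575 (tt N67592 (iv1 F442091)) (tt N67589 (iv0 D206763)) (tt N67590 F442093) (tt N104848 (iv3 F447589)) (tt N82562 F442090) (tt N82564 F442089) (tt N104601 F446488) (tt N67591 (iv7 F442092)))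
theorem Q103577 : ∀ i, i < 103577 → P i := stepQ 103576 Q103576 (allL N103576 (tt N67589 (iv1 D206764)) (tt N67592 F442094) (tt N67591 (iv2 F442099)) (tt N102696 (iv3 F442098)) (tt N82566 F442097) (tt N75351 F442096) (tt N104566 F446305) (tt N67590 F442095))
theorem Q103578 : ∀ i, i < 103578 → P i := stepQ 103577 Q103577 (allL N103577 (tt N81743 F442103) (tt N87900 F442104) (tt N82562 F442100) (tt N112491 (iv3 F481326)) (tt N67590 (iv4 D206765)) (tt N80390 F442101) (tt N102374 F442105) (tt N82566 F442102))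
theorem Q103579 : ∀ i, i < 103579 → P i := stepQ 103578 Q103578 (allL N103578 (tt N104600 F446484) (tt N67655 (iv0 F442109)) (tt N104601 (iv2 F446489)) (tt N76589 F442106) (tt N102374 F442107) (tt N68033 F442108) (tt N67590 (iv6 D206766)) (tt N76781 (iv7 F442110)))
theorem Q103580 : ∀ i, i < 103580 → P i := stepQ 103579 Q103579 (allL N103579 (tt N104509 (iv1 F446080)) (tt N67710 (iv0 F442112)) (tt N104508 F446070) (tt N67594 (iv3 D206767)) (tt N67595 F442111) (tt N120847 D224106) (tt N103946 (iv6 F443474)) (tt N104112 (iv7 F444240)))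
theorem Q103581 : ∀ i, i < 103581 → P i := stepQ 103580 Q103580 (allL N103580 (tt N67792 F442113) (tt N67794 F442114) (tt N104476 (iv2 F445932)) (tt N120847 (iv3 F523058)) (tt N88638 (iv4 F442115)) (tt N67594 (iv5 D206768)) (tt N120848 D224107) (tt N104477 (iv7 F445938)))
theorem Q103582 : ∀ i, i < 103582 → P i := stepQ 103581 Q103581 (allL N103581 (tt N104315 F445205) (tt N106443 (iv0 F454470)) (tt N104659 (iv2 F446736)) (tt N102248 (iv3 F442116)) (tt N67601 (iv4 D206769)) (tt N118907 (iv5 F512685)) (tt N104599 (iv6 F446477)) (tt N104576 F446364))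
theorem Q103583 : ∀ i, i < 103583 → P i := stepQ 103582 Q103582 (allL N103582 (tt N77166 F442122) (tt N77451 F442123) (tt N77455 F442117) (tt N84090 F442118) (tt N67606 (iv4 D206770)) (tt N90060 F442119) (tt N87688 F442120) (tt N77456 F442121))
theorem Q103584 : ∀ i, i < 103584 → P i := stepQ 103583 Q103583 (allL N103583 (tt N80083 F442126) (tt N104595 (iv0 F446459)) (tt N103141 F442124) (tt N67612 F442125) (tt N104557 (iv4 F446245)) (tt N107078 (iv5 F456871)) (tt N67610 (iv6 D206771)) (tt N104131 (iv7 F444342)))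
theorem Q103585 : ∀ i, i < 103585 → P i := stepQ 103584 Q103584 (allL N103584 (tt N70484 F442130) (tt N70485 F442131) (tt N104109 (iv2 F444217)) (tt N82275 F442127) (tt N70403 F442129) (tt N67611 (iv5 D206772)) (tt N105368 (iv6 F449914)) (tt N86342 F442128))
theorem Q103586 : ∀ i, i < 103586 → P i := stepQ 103585 Q103585 (allL N103585 (tt N70264 F442134) (tt N69360 (iv0 F442135)) (tt N70263 (iv2 F442137)) (tt N67614 (iv3 D206773)) (tt N86030 F442132) (tt N94556 F442136) (tt N105109 (iv6 F448834)) (tt N70262 F442133))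
theorem Q103587 : ∀ i, i < 103587 → P i := stepQ 103586 Q103586 (allL N103586 (tt N70485 F442140) (tt N70484 F442141) (tt N86342 F442138) (tt N94556 F442139) (tt N70404 (iv4 F442142)) (tt N67614 (iv5 D206774)) (tt N86339 (iv6 F442143)) (tt N104109 (iv7 F444219)))
theorem Q103588 : ∀ i, i < 103588 → P i := stepQ 103587 Q103587 (allL N103587 (tt N106859 (iv1 F456038)) (tt N99827 (iv0 F442146)) (tt N73420 F442144) (tt N105109 (iv3 F448833)) (tt N67615 F442145) (tt N106756 (iv5 F455556)) (tt N67614 (iv6 D206775)) (tt N73422 (iv7 F442147)))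
theorem Q103589 : ∀ i, i < 103589 → P i := stepQ 103588 Q103588 (allL N103588 (tt N106975 (iv1 F456498)) (tt N106075 (iv0 F453012)) (tt N104482 (iv2 F445962)) (tt N67616 (iv3 D206776)) (tt N67678 F442148) (tt N70397 F442149) (tt N106420 F454351) (tt N104093 (iv7 F444143)))
theorem Q103590 : ∀ i, i < 103590 → P i := stepQ 103589 Q103589 (allL N103589 (tt N92937 F442152) (tt N92939 F442154) (tt N106943 (iv2 F456383)) (tt N67617 (iv3 D206777)) (tt N103571 F442150) (tt N70400 F442151) (tt N110285 F470841) (tt N104094 (iv7 F444146)))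
theorem Q103591 : ∀ i, i < 103591 → P i := stepQ 103590 Q103590 (allL N103590 (tt N67768 F442160) (tt N73314 (iv0 F442161)) (tt N73312 F442157) (tt N110285 (iv3 F470842)) (tt N103570 F442158) (tt N73288 F442159) (tt N67617 (iv6 D206778)) (tt N73313 F442162))
theorem Q103592 : ∀ i, i < 103592 → P i := stepQ 103591 Q103591 (allL N103591 (tt N85557 F442164) (tt N105695 (iv0 F451296)) (tt N105603 (iv2 F450938)) (tt N107219 (iv3 F457497)) (tt N67618 (iv4 D206779)) (tt N120451 (iv5 F520854)) (tt N71395 F442163) (tt N104097 (iv7 F444165)))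
theorem Q103593 : ∀ i, i < 103593 → P i := stepQ 103592 Q103592 (allL N103592 (tt N70537 F442168) (tt N70538 F442169) (tt N88907 F442165) (tt N68404 F442166) (tt N114505 (iv4 F490502)) (tt N67619 (iv5 D206780)) (tt N115075 F493361) (tt N88513 F442167))
theorem Q103594 : ∀ i, i < 103594 → P i := stepQ 103593 Q103593 (allL N103593 (tt N67638 F442173) (tt N116329 (iv0 F499588)) (tt N104108 (iv2 F444211)) (tt N103141 F442170) (tt N104850 (iv4 F447608)) (tt N97404 F442171) (tt N67620 (iv6 D206781)) (tt N97403 F442172))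
theorem Q103595 : ∀ i, i < 103595 → P i := stepQ 103594 Q103594 (allL N103594 (tt N102779 (iv1 F442178)) (tt N67744 (iv0 F442177)) (tt N99181 F442174) (tt N119435 (iv3 F515610)) (tt N78600 F442175) (tt N120849 D224108) (tt N67622 (iv6 D206782)) (tt N102777 (iv7 F442176)))
theorem Q103596 : ∀ i, i < 103596 → P i := stepQ 103595 Q103595 (allL N103595 (tt N67639 F442183) (tt N67641 F442184) (tt N102598 F442179) (tt N87844 F442180) (tt N78601 F442181) (tt N106136 (iv5 F453299)) (tt N67623 (iv6 D206783)) (tt N95105 F442182))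
theorem Q103597 : ∀ i, i < 103597 → P i := stepQ 103596 Q103596 (allL N103596 (tt N104655 (iv1 F446720)) (tt N67624 (iv0 D206784)) (tt N104652 F446708) (tt N98625 F442778) (tt N104114 F446329) (tt N111215 (iv5 F475258)) (tt N120844 (iv6 F523040)) (tt N104653 (iv7 F446707)))
theorem Q103598 : ∀ i, i < 103598 → P i := stepQ 103597 Q103597 (allL N103597 (tt N67624 (iv1 D206785)) (tt N104655 F446719) (tt N104653 (iv2 F446710)) (tt N104603 F446495) (tt N104115 (iv4 F444253)) (tt N119640 (iv5 F516654)) (tt N104588 (iv6 F447598)) (tt N104652 F446709))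
theorem Q103599 : ∀ i, i < 103599 → P i := stepQ 103598 Q103598 (allL N103598 (tt N98618 F447056) (tt N119631 (iv0 F516612)) (tt N104654 (iv2 F446713)) (tt N103510 F442185) (tt N105358 (iv4 F449874)) (tt N67624 (iv5 D206786)) (tt N103508 F442186) (tt N114419 (iv7 F490062)))
theorem Q103600 : ∀ i, i < 103600 → P i := stepQ 103599 Q103599 (allL N103599 (tt N104730 F447025) (tt N82207 (iv0 F442188)) (tt N103012 F442187) (tt N104590 (iv3 F446435)) (tt N114009 (iv4 F488180)) (tt N67625 (iv5 D206788)) (tt N110907 (iv6 F473729)) (tt N104656 (iv7 F446724)))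
theorem Q103601 : ∀ i, i < 103601 → P i := stepQ 103600 Q103600 (allL N103600 (tt N120387 (iv1 F520521)) (tt N119666 (iv0 F516806)) (tt N68995 F442189) (tt N103490 F442190) (tt N90403 F442191) (tt N116890 (iv5 F502372)) (tt N67630 (iv6 D206789)) (tt N116889 (iv7 F502366)))
theorem Q103602 : ∀ i, i < 103602 → P i := stepQ 103601 Q103601 (allL N103601 (tt N67762 F442194) (tt N67631 (iv0 D206790)) (tt N104581 (iv2 F446390)) (tt N104484 (iv3 F445967)) (tt N102769 F442192) (tt N105208 (iv5 F449213)) (tt N67741 F442193) (tt N104650 (iv7 F446691)))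
theorem Q103603 : ∀ i, i < 103603 → P i := stepQ 103602 Q103602 (allL N103602 (tt N67631 (iv1 D206791)) (tt N67762 F442195) (tt N104650 (iv2 F446695)) (tt N119536 (iv3 F516120)) (tt N102772 F442196) (tt N92261 F442198) (tt N92262 (iv6 F442197)) (tt N104581 (iv7 F446392)))
theorem Q103604 : ∀ i, i < 103604 → P i := stepQ 103603 Q103603 (allL N103603 (tt N116885 (iv1 F502345)) (tt N106424 F454372) (tt N75143 F442199) (tt N119442 (iv3 F515645)) (tt N114659 F491246) (tt N67631 (iv5 D206792)) (tt N116890 (iv6 F502373)) (tt N116866 F502250))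
theorem Q103605 : ∀ i, i < 103605 → P i := stepQ 103604 Q103604 (allL N103604 (tt N104650 (iv1 F446690)) (tt N104581 F446394) (tt N67762 F442200) (tt N75090 F442201) (tt N67634 F442202) (tt N116866 (iv5 F502249)) (tt N104655 (iv6 F446718)) (tt N67631 (iv7 D206793)))
theorem Q103606 : ∀ i, i < 103606 → P i := stepQ 103605 Q103605 (allL N103605 (tt N73426 (iv1 F442208)) (tt N99303 F442209) (tt N67763 F442203) (tt N95927 F442204) (tt N72864 F442205) (tt N67634 F442206) (tt N102259 F442207) (tt N67633 (iv7 D206794)))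
theorem Q103607 : ∀ i, i < 103607 → P i := stepQ 103606 Q103606 (allL N103606 (tt N97393 F442215) (tt N78353 (iv0 F442216)) (tt N90562 F442210) (tt N67637 (iv3 D206795)) (tt N90556 F442211) (tt N82043 F442212) (tt N80913 F442213) (tt N76897 F442214))
theorem Q103608 : ∀ i, i < 103608 → P i := stepQ 103607 Q103607 (allL N103607 (tt N116329 (iv1 F499587)) (tt N67638 (iv0 D206796)) (tt N97403 (iv2 F442218)) (tt N67647 (iv3 F442220)) (tt N104854 (iv4 F447639)) (tt N97394 F442217) (tt N73421 F442219) (tt N104108 (iv7 F444214)))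
theorem Q103609 : ∀ i, i < 103609 → P i := stepQ 103608 Q103608 (allL N103608 (tt N97403 F442224) (tt N104108 (iv0 F444215)) (tt N67638 (iv2 D206797)) (tt N102830 F442221) (tt N69364 (iv4 F442223)) (tt N96983 F442222) (tt N104077 (iv6 F444059)) (tt N116329 (iv7 F499586)))
theorem Q103610 : ∀ i, i < 103610 → P i := stepQ 103609 Q103609 (allL N103609 (tt N69367 F442230) (tt N69361 F442231) (tt N69364 F442225) (tt N70031 F442226) (tt N67638 (iv4 D206798)) (tt N86687 F442229) (tt N97857 F442227) (tt N69365 F442228))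
theorem Q103611 : ∀ i, i < 103611 → P i := stepQ 103610 Q103610 (allL N103610 (tt N67641 (iv1 F442234)) (tt N67639 (iv0 D206799)) (tt N95105 (iv2 F442233)) (tt N102503 (iv3 F442236)) (tt N94030 F442232) (tt N102500 F442237) (tt N102777 (iv6 F442238)) (tt N102598 F442235))
theorem Q103612 : ∀ i, i < 103612 → P i := stepQ 103611 Q103611 (allL N103611 (tt N102592 F442242) (tt N120658 F522007) (tt N104537 (iv2 F446177)) (tt N88687 F442239) (tt N69158 F442241) (tt N67639 (iv5 D206800)) (tt N96999 F442240) (tt N104538 (iv7 F446184)))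
theorem Q103613 : ∀ i, i < 103613 → P i := stepQ 103612 Q103612 (allL N103612 (tt N102831 F442247) (tt N102822 F442245) (tt N67640 (iv2 D206801)) (tt N116329 (iv3 F499583)) (tt N103388 F442246) (tt N96984 F442243) (tt N109914 F469193) (tt N102830 F442244))
theorem Q103614 : ∀ i, i < 103614 → P i := stepQ 103613 Q103613 (allL N103613 (tt N103574 F442249) (tt N103623 (iv0 F442279)) (tt N103388 F442248) (tt N120615 (iv3 F521770)) (tt N67640 (iv4 D206802)) (tt N103387 F442250) (tt N118018 (iv6 F508113)) (tt N115430 (iv7 F495158)))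
theorem Q103615 : ∀ i, i < 103615 → P i := stepQ 103614 Q103614 (allL N103614 (tt N109913 (iv1 F469188)) (tt N109821 (iv0 F468786)) (tt N109914 (iv2 F469194)) (tt N67642 F442251) (tt N118018 (iv4 F508112)) (tt N69290 F442252) (tt N67640 (iv6 D206803)) (tt N104222 (iv7 F444782)))
theorem Q103616 : ∀ i, i < 103616 → P i := stepQ 103615 Q103615 (allL N103615 (tt N105753 (iv1 F451556)) (tt N105757 (iv0 F451555)) (tt N105755 (iv2 F451546)) (tt N67641 (iv3 D206804)) (tt N120615 (iv4 F521771)) (tt N120850 D224109) (tt N119458 (iv6 F515730)) (tt N105754 F451543))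
theorem Q103617 : ∀ i, i < 103617 → P i := stepQ 103616 Q103616 (allL N103616 (tt N120658 (iv1 F522008)) (tt N102592 F442254) (tt N104538 (iv2 F446182)) (tt N120850 (iv3 F523074)) (tt N69157 F442253) (tt N67641 (iv5 D206805)) (tt N120851 D224110) (tt N104537 (iv7 F446179)))
theorem Q103618 : ∀ i, i < 103618 → P i := stepQ 103617 Q103617 (allL N103617 (tt N109917 (iv1 F469208)) (tt N120844 F523042) (tt N111911 (iv2 F478602)) (tt N119458 (iv3 F515728)) (tt N67642 F442255) (tt N109543 (iv5 F467449)) (tt N67641 (iv6 D206806)) (tt N104223 (iv7 F444787)))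
theorem Q103619 : ∀ i, i < 103619 → P i := stepQ 103618 Q103618 (allL N103618 (tt N68024 F442261) (tt N100147 F442262) (tt N100533 F442256) (tt N69576 F442257) (tt N67643 (iv4 D206807)) (tt N100305 F442258) (tt N67965 F442259) (tt N76547 F442260))
theorem Q103620 : ∀ i, i < 103620 → P i := stepQ 103619 Q103619 (allL N103619 (tt N106899 (iv1 F456203)) (tt N84084 F442265) (tt N88793 F442263) (tt N115083 (iv3 F493401)) (tt N67647 (iv4 D206808)) (tt N106197 (iv5 F453570)) (tt N73422 F442264) (tt N104110 (iv7 F444225)))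
theorem Q103621 : ∀ i, i < 103621 → P i := stepQ 103620 Q103620 (allL N103620 (tt N104095 F444153) (tt N104128 F444326) (tt N67649 F442266) (tt N106985 (iv3 F456522)) (tt N67648 (iv4 D206809)) (tt N72103 F442267) (tt N106987 (iv6 F456531)) (tt N104129 (iv7 F444331)))
theorem Q103622 : ∀ i, i < 103622 → P i := stepQ 103621 Q103621 (allL N103621 (tt N71017 F442272) (tt N69968 F442271) (tt N72103 F442268) (tt N69408 F442269) (tt N116908 (iv4 F502446)) (tt N67649 (iv5 D206810)) (tt N71263 F442273) (tt N72102 F442270))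
theorem Q103623 : ∀ i, i < 103623 → P i := stepQ 103622 Q103622 (allL N103622 (tt N68254 F444293) (tt N96992 (iv0 F442276)) (tt N118423 (iv2 F510269)) (tt N67651 (iv3 D206811)) (tt N71321 F442275) (tt N80032 F442274) (tt N104658 (iv6 F446731)) (tt N104574 F446353))
theorem Q103624 : ∀ i, i < 103624 → P i := stepQ 103623 Q103623 (allL N103623 (tt N103613 F442279) (tt N104305 (iv0 F445153)) (tt N104599 (iv2 F446476)) (tt N82808 F442277) (tt N67651 (iv4 D206812)) (tt N93982 F442278) (tt N104659 (iv6 F446737)) (tt N104575 F446358))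
theorem Q103625 : ∀ i, i < 103625 → P i := stepQ 103624 Q103624 (allL N103624 (tt N104601 (iv1 F446485)) (tt N76781 (iv0 F442282)) (tt N67655 F442280) (tt N104600 (iv3 F446481)) (tt N120539 (iv4 F521337)) (tt N81511 F442281) (tt N67654 (iv6 D206813)) (tt N104600 (iv7 F446482)))
theorem Q103626 : ∀ i, i < 103626 → P i := stepQ 103625 Q103625 (allL N103625 (tt N67655 (iv1 D206814)) (tt N104600 (iv0 F446483)) (tt N76781 (iv2 F442284)) (tt N111097 (iv3 F474649)) (tt N104368 (iv4 F445452)) (tt N68034 F442283) (tt N104565 (iv6 F446297)) (tt N104601 (iv7 F446486)))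
theorem Q103627 : ∀ i, i < 103627 → P i := stepQ 103626 Q103626 (allL N103626 (tt N103673 (iv1 F442445)) (tt N68884 (iv0 F442290)) (tt N92280 F442285) (tt N93241 F442286) (tt N75749 (iv4 F442289)) (tt N67656 (iv5 D206815)) (tt N75583 F442287) (tt N92278 F442288))
theorem Q103628 : ∀ i, i < 103628 → P i := stepQ 103627 Q103627 (allL N103627 (tt N68884 F442298) (tt N103673 F442446) (tt N92278 F442296) (tt N103746 (iv3 F442655)) (tt N105595 (iv4 F450906)) (tt N67657 (iv5 D206816)) (tt N114891 (iv6 F492374)) (tt N92280 F442297))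
theorem Q103629 : ∀ i, i < 103629 → P i := stepQ 103628 Q103628 (allL N103628 (tt N104671 (iv1 F446806)) (tt N103665 (iv0 F442422)) (tt N92279 F442300) (tt N104726 (iv3 F447002)) (tt N70386 F442301) (tt N116888 (iv5 F502359)) (tt N67657 (iv6 D206817)) (tt N104722 (iv7 F446986)))
theorem Q103630 : ∀ i, i < 103630 → P i := stepQ 103629 Q103629 (allL N103629 (tt N92283 (iv1 F442304)) (tt N92282 F442305) (tt N67659 F442302) (tt N104441 (iv3 F445781)) (tt N105527 (iv4 F450592)) (tt N67658 (iv5 D206818)) (tt N113765 F487016) (tt N92281 F442303))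
theorem Q103631 : ∀ i, i < 103631 → P i := stepQ 103630 Q103630 (allL N103630 (tt N102610 (iv1 F442309)) (tt N102609 F442311) (tt N67660 F442306) (tt N92622 F442307) (tt N105529 (iv4 F450602)) (tt N120852 D224111) (tt N67658 (iv6 D206819)) (tt N102593 F442308))
theorem Q103632 : ∀ i, i < 103632 → P i := stepQ 103631 Q103631 (allL N103631 (tt N92281 (iv1 F442312)) (tt N67659 (iv0 D206820)) (tt N92283 (iv2 F442315)) (tt N120853 D224112) (tt N105601 (iv4 F450931)) (tt N67677 F442313) (tt N109173 F465671) (tt N92282 (iv7 F442316)))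
theorem Q103633 : ∀ i, i < 103633 → P i := stepQ 103632 Q103632 (allL N103632 (tt N67659 (iv1 D206821)) (tt N92281 F442317) (tt N92282 F442321) (tt N104582 (iv3 F446396)) (tt N86277 F442319) (tt N67678 (iv5 F442320)) (tt N119635 (iv6 F516633)) (tt N92283 F442318))
theorem Q103634 : ∀ i, i < 103634 → P i := stepQ 103633 Q103633 (allL N103633 (tt N102593 (iv1 F442323)) (tt N67660 (iv0 D206822)) (tt N102610 (iv2 F442438)) (tt N104561 (iv3 F446274)) (tt N106080 (iv4 F453035)) (tt N120672 (iv5 F522074)) (tt N103669 F442437) (tt N102609 (iv7 F442440)))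
theorem Q103635 : ∀ i, i < 103635 → P i := stepQ 103634 Q103634 (allL N103634 (tt N67660 (iv1 D206823)) (tt N102593 F442324) (tt N102609 F442441) (tt N104728 F447016) (tt N105284 (iv4 F449550)) (tt N120762 (iv5 F522578)) (tt N107069 (iv6 F456846)) (tt N102610 F442439))
theorem Q103636 : ∀ i, i < 103636 → P i := stepQ 103635 Q103635 (allL N103635 (tt N120854 D224113) (tt N114174 (iv0 F488849)) (tt N120852 (iv2 F523086)) (tt N67662 F442325) (tt N108554 (iv4 F463058)) (tt N67660 (iv5 D206824)) (tt N116354 F499683) (tt N102611 F442326))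
theorem Q103637 : ∀ i, i < 103637 → P i := stepQ 103636 Q103636 (allL N103636 (tt N104447 (iv1 F445806)) (tt N67661 (iv0 D206825)) (tt N71320 (iv2 F442330)) (tt N119573 (iv3 F516325)) (tt N70884 F442331) (tt N120855 D224114) (tt N95968 (iv6 F442333)) (tt N71324 F442332))
theorem Q103638 : ∀ i, i < 103638 → P i := stepQ 103637 Q103637 (allL N103637 (tt N67661 (iv1 D206826)) (tt N104447 F445805) (tt N71324 (iv2 F442328)) (tt N120856 D224115) (tt N70885 F442327) (tt N120755 (iv5 F522543)) (tt N109219 (iv6 F465831)) (tt N71320 (iv7 F442329)))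
theorem Q103639 : ∀ i, i < 103639 → P i := stepQ 103638 Q103638 (allL N103638 (tt N115941 F497694) (tt N120857 D224116) (tt N104446 (iv2 F445800)) (tt N116354 F499682) (tt N118840 (iv4 F512356)) (tt N67661 (iv5 D206827)) (tt N67662 F442334) (tt N118901 (iv7 F512654)))
theorem Q103640 : ∀ i, i < 103640 → P i := stepQ 103639 Q103639 (allL N103639 (tt N71324 (iv1 F442337)) (tt N71320 F442338) (tt N104447 (iv2 F445802)) (tt N104727 (iv3 F447006)) (tt N90059 F442335) (tt N118901 (iv5 F512655)) (tt N90058 F442336) (tt N67661 (iv7 D206828)))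
theorem Q103641 : ∀ i, i < 103641 → P i := stepQ 103640 Q103640 (allL N103640 (tt N120676 (iv1 F522089)) (tt N115854 F497247) (tt N104448 (iv2 F445807)) (tt N118842 (iv3 F512368)) (tt N67662 (iv4 D206829)) (tt N102521 F442340) (tt N118840 F512357) (tt N102628 F442339))
theorem Q103642 : ∀ i, i < 103642 → P i := stepQ 103641 Q103641 (allL N103641 (tt N103824 (iv1 F442965)) (tt N69066 F442341) (tt N103827 F442983) (tt N119555 (iv3 F516223)) (tt N113240 (iv4 F484666)) (tt N67663 (iv5 D206830)) (tt N118334 (iv6 F509763)) (tt N103826 F442977))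
theorem Q103643 : ∀ i, i < 103643 → P i := stepQ 103642 Q103642 (allL N103642 (tt N102537 F442342) (tt N69153 F442343) (tt N102541 F442981) (tt N111241 (iv3 F475386)) (tt N109421 (iv4 F466874)) (tt N109131 (iv5 F465477)) (tt N67663 (iv6 D206831)) (tt N102540 (iv7 F442982)))
theorem Q103644 : ∀ i, i < 103644 → P i := stepQ 103643 Q103643 (allL N103643 (tt N105453 F450332) (tt N104500 F450333) (tt N120796 (iv2 F522767)) (tt N67664 (iv3 D206832)) (tt N120858 D224117) (tt N105617 (iv5 F450986)) (tt N120642 (iv6 F521917)) (tt N104451 (iv7 F445821)))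
theorem Q103645 : ∀ i, i < 103645 → P i := stepQ 103644 Q103644 (allL N103644 (tt N69066 F442344) (tt N103824 (iv0 F442964)) (tt N103826 F442976) (tt N105617 (iv3 F450988)) (tt N105621 (iv4 F450999)) (tt N67664 (iv5 D206833)) (tt N120859 D224118) (tt N103827 (iv7 F442978)))
theorem Q103646 : ∀ i, i < 103646 → P i := stepQ 103645 Q103645 (allL N103645 (tt N104475 F516073) (tt N120860 D224119) (tt N104450 (iv2 F445815)) (tt N120642 (iv3 F521913)) (tt N119527 (iv4 F516069)) (tt N120640 (iv5 F521909)) (tt N67664 (iv6 D206834)) (tt N120836 (iv7 F522996)))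
theorem Q103647 : ∀ i, i < 103647 → P i := stepQ 103646 Q103646 (allL N103646 (tt N104454 (iv1 F445831)) (tt N104453 F445828) (tt N67666 F442345) (tt N67711 F442346) (tt N100618 F442347) (tt N67665 (iv5 D206835)) (tt N78871 (iv6 F442348)) (tt N104452 (iv7 F445824)))
theorem Q103648 : ∀ i, i < 103648 → P i := stepQ 103647 Q103647 (allL N103647 (tt N120626 (iv1 F521829)) (tt N102533 (iv0 F445837)) (tt N67667 F442349) (tt N67712 F442350) (tt N102537 F442351) (tt N103848 (iv5 F443072)) (tt N67665 (iv6 D206836)) (tt N103847 F443065))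
theorem Q103649 : ∀ i, i < 103649 → P i := stepQ 103648 Q103648 (allL N103648 (tt N104452 (iv1 F445826)) (tt N67666 (iv0 D206837)) (tt N104454 F445836) (tt N98655 F442353) (tt N120861 D224120) (tt N67846 F442352) (tt N105210 (iv6 F449219)) (tt N104453 F445830))
theorem Q103650 : ∀ i, i < 103650 → P i := stepQ 103649 Q103649 (allL N103649 (tt N67666 (iv1 D206838)) (tt N104452 (iv0 F445825)) (tt N104453 F445829) (tt N120862 D224121) (tt N120863 D224122) (tt N67847 F442358) (tt N120864 D224123) (tt N104454 (iv7 F445832)))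
theorem Q103651 : ∀ i, i < 103651 → P i := stepQ 103650 Q103650 (allL N103650 (tt N94635 F442363) (tt N120283 (iv0 F520018)) (tt N100618 F442359) (tt N85158 F442360) (tt N67666 (iv4 D206839)) (tt N101403 (iv5 F442361)) (tt N85156 (iv6 F442362)) (tt N104455 (iv7 F445840)))
theorem Q103652 : ∀ i, i < 103652 → P i := stepQ 103651 Q103651 (allL N103651 (tt N78875 (iv1 F442368)) (tt N78873 (iv0 F442369)) (tt N78871 F442364) (tt N67668 F442365) (tt N85156 F442366) (tt N119669 (iv5 F516822)) (tt N67666 (iv6 D206840)) (tt N78872 (iv7 F442367)))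
theorem Q103653 : ∀ i, i < 103653 → P i := stepQ 103652 Q103652 (allL N103652 (tt N103847 (iv1 F443067)) (tt N67667 (iv0 D206841)) (tt N120626 (iv2 F521825)) (tt N119445 (iv3 F515658)) (tt N75724 F443069) (tt N120865 D224124) (tt N104527 F446155) (tt N102533 F443068))
theorem Q103654 : ∀ i, i < 103654 → P i := stepQ 103653 Q103653 (allL N103653 (tt N103846 (iv1 F443060)) (tt N103845 F443073) (tt N103848 (iv2 F443070)) (tt N67669 F442370) (tt N118821 (iv4 F512255)) (tt N67667 (iv5 D206842)) (tt N119669 (iv6 F516825)) (tt N103839 F443036))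
theorem Q103655 : ∀ i, i < 103655 → P i := stepQ 103654 Q103654 (allL N103654 (tt N67723 (iv1 F442372)) (tt N67668 (iv0 D206843)) (tt N67720 (iv2 F442373)) (tt N120866 D224125) (tt N83078 F442371) (tt N90110 (iv5 F442375)) (tt N103726 F442598) (tt N67721 (iv7 F442374)))
theorem Q103656 : ∀ i, i < 103656 → P i := stepQ 103655 Q103655 (allL N103655 (tt N67668 (iv1 D206844)) (tt N67723 F442376) (tt N67721 (iv2 F442379)) (tt N98665 (iv3 F442380)) (tt N83079 F442378) (tt N90111 (iv5 F442381)) (tt N120867 D224126) (tt N67720 F442377))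
theorem Q103657 : ∀ i, i < 103657 → P i := stepQ 103656 Q103656 (allL N103656 (tt N113235 (iv1 F484644)) (tt N113232 (iv0 F484624)) (tt N67722 F442382) (tt N119669 F516823) (tt N94965 F442384) (tt N67668 (iv5 D206845)) (tt N67669 F442383) (tt N116904 (iv7 F502436)))
theorem Q103658 : ∀ i, i < 103658 → P i := stepQ 103657 Q103657 (allL N103657 (tt N67729 (iv1 F442386)) (tt N67669 (iv0 D206846)) (tt N67726 (iv2 F442387)) (tt N103841 (iv3 F443044)) (tt N118692 (iv4 F511567)) (tt N67795 F442385) (tt N103840 F443042) (tt N67727 (iv7 F442388)))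
theorem Q103659 : ∀ i, i < 103659 → P i := stepQ 103658 Q103658 (allL N103658 (tt N67669 (iv1 D206847)) (tt N67729 F442389) (tt N67727 (iv2 F442392)) (tt N119499 (iv3 F515921)) (tt N111708 (iv4 F477596)) (tt N67882 F442391) (tt N120841 (iv6 F523022)) (tt N67726 F442390))
theorem Q103660 : ∀ i, i < 103660 → P i := stepQ 103659 Q103659 (allL N103659 (tt N104584 (iv1 F446410)) (tt N67742 (iv0 F442396)) (tt N104583 F446405) (tt N67670 (iv3 D206848)) (tt N68168 F442393) (tt N92286 F442394) (tt N82970 (iv6 F442398)) (tt N75087 F442395))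
theorem Q103661 : ∀ i, i < 103661 → P i := stepQ 103660 Q103660 (allL N103660 (tt N104548 (iv1 F446221)) (tt N96994 (iv0 F442402)) (tt N104465 (iv2 F445882)) (tt N82970 F442399) (tt N97921 F442400) (tt N82969 F442401) (tt N67670 (iv6 D206849)) (tt N104547 F446219))
theorem Q103662 : ∀ i, i < 103662 → P i := stepQ 103661 Q103661 (allL N103661 (tt N67730 (iv1 F442407)) (tt N102794 (iv0 F442406)) (tt N75085 F442403) (tt N109422 (iv3 F466878)) (tt N70653 F442404) (tt N96389 F442405) (tt N67671 (iv6 D206850)) (tt N102793 (iv7 F442408)))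
theorem Q103663 : ∀ i, i < 103663 → P i := stepQ 103662 Q103662 (allL N103662 (tt N120868 D224127) (tt N98562 (iv0 F442413)) (tt N109447 (iv2 F466998)) (tt N67674 F442410) (tt N98510 F442411) (tt N79053 F442412) (tt N67673 (iv6 D206851)) (tt N119656 (iv7 F516748)))
theorem Q103664 : ∀ i, i < 103664 → P i := stepQ 103663 Q103663 (allL N103663 (tt N104487 (iv1 F445987)) (tt N67674 (iv0 D206852)) (tt N98586 (iv2 F442415)) (tt N120869 D224128) (tt N95990 F442414) (tt N120387 (iv5 F520517)) (tt N105275 (iv6 F449509)) (tt N104486 (iv7 F445982)))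
theorem Q103665 : ∀ i, i < 103665 → P i := stepQ 103664 Q103664 (allL N103664 (tt N67674 (iv1 D206853)) (tt N104487 F445986) (tt N104486 F445981) (tt N78849 (iv3 F442418)) (tt N95989 F442417) (tt N119666 (iv5 F516804)) (tt N120870 D224129) (tt N98586 F442416))
theorem Q103666 : ∀ i, i < 103666 → P i := stepQ 103665 Q103665 (allL N103665 (tt N103628 F442422) (tt N82960 (iv0 F442423)) (tt N69111 F442419) (tt N79053 F442420) (tt N104150 (iv4 F444426)) (tt N67674 (iv5 D206854)) (tt N67676 F442421) (tt N104149 F444423))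
theorem Q103667 : ∀ i, i < 103667 → P i := stepQ 103666 Q103666 (allL N103666 (tt N104486 (iv1 F445980)) (tt N98586 (iv0 F444422)) (tt N104487 (iv2 F445984)) (tt N119656 (iv3 F516745)) (tt N106179 (iv4 F453481)) (tt N104149 (iv5 F444420)) (tt N104470 (iv6 F445900)) (tt N67674 (iv7 D206855)))
theorem Q103668 : ∀ i, i < 103668 → P i := stepQ 103667 Q103667 (allL N103667 (tt N104591 (iv1 F446443)) (tt N111260 (iv0 F475497)) (tt N120662 (iv2 F522026)) (tt N67675 (iv3 D206856)) (tt N93109 F442424) (tt N117963 (iv5 F507815)) (tt N105757 (iv6 F451554)) (tt N70570 F442425))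
theorem Q103669 : ∀ i, i < 103669 → P i := stepQ 103668 Q103668 (allL N103668 (tt N71952 F442430) (tt N68885 F442431) (tt N70984 F442426) (tt N117963 F507814) (tt N70980 F442427) (tt N67675 (iv5 D206857)) (tt N68001 F442428) (tt N70571 F442429))
theorem Q103670 : ∀ i, i < 103670 → P i := stepQ 103669 Q103669 (allL N103669 (tt N67676 (iv1 D206858)) (tt N72081 F442432) (tt N71006 (iv2 F442436)) (tt N117944 F507718) (tt N71005 F442435) (tt N99059 F442434) (tt N103633 (iv6 F442437)) (tt N72079 F442433))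
theorem Q103671 : ∀ i, i < 103671 → P i := stepQ 103670 Q103670 (allL N103670 (tt N119683 (iv1 F516899)) (tt N118092 (iv0 F508540)) (tt N104579 (iv2 F446379)) (tt N67677 (iv3 D206859)) (tt N68625 F442442) (tt N120853 (iv5 F523093)) (tt N119537 F516126) (tt N104481 (iv7 F445960)))
theorem Q103672 : ∀ i, i < 103672 → P i := stepQ 103671 Q103671 (allL N103671 (tt N106075 F453011) (tt N106975 F456497) (tt N104093 F444145) (tt N106943 F456382) (tt N67677 (iv4 D206860)) (tt N109457 F467058) (tt N120824 (iv6 F522934)) (tt N104482 (iv7 F445963)))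
theorem Q103673 : ∀ i, i < 103673 → P i := stepQ 103672 Q103672 (allL N103672 (tt N96998 F443167) (tt N104551 F483758) (tt N104483 (iv2 F445965)) (tt N103872 F443165) (tt N106420 (iv4 F454350)) (tt N103871 (iv5 F443166)) (tt N67678 (iv6 D206861)) (tt N104550 (iv7 F446226)))
theorem Q103674 : ∀ i, i < 103674 → P i := stepQ 103673 Q103673 (allL N103673 (tt N103627 (iv1 F442446)) (tt N103626 F442445) (tt N67680 F442443) (tt N104466 (iv3 F445886)) (tt N94491 (iv4 F442444)) (tt N67679 (iv5 D206862)) (tt N120871 D224130) (tt N104485 (iv7 F445973)))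
theorem Q103675 : ∀ i, i < 103675 → P i := stepQ 103674 Q103674 (allL N103674 (tt N120872 D224131) (tt N120873 D224132) (tt N67681 F442447) (tt N84928 F442448) (tt N84967 F442449) (tt N120666 (iv5 F522054)) (tt N67679 (iv6 D206863)) (tt N84926 F442450))
theorem Q103676 : ∀ i, i < 103676 → P i := stepQ 103675 Q103675 (allL N103675 (tt N104792 F447296) (tt N109394 (iv0 F466743)) (tt N120871 (iv2 F523193)) (tt N67682 F442451) (tt N107484 (iv4 F458481)) (tt N109104 (iv5 F465357)) (tt N67680 (iv6 D206864)) (tt N120874 D224133))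
theorem Q103677 : ∀ i, i < 103677 → P i := stepQ 103676 Q103676 (allL N103676 (tt N84926 (iv1 F442458)) (tt N67681 (iv0 D206865)) (tt N120872 (iv2 F523203)) (tt N120875 D224134) (tt N106979 F485546) (tt N120876 D224135) (tt N116248 (iv6 F499204)) (tt N120873 (iv7 F523205)))
theorem Q103678 : ∀ i, i < 103678 → P i := stepQ 103677 Q103677 (allL N103677 (tt N67681 (iv1 D206866)) (tt N84926 F442452) (tt N120873 (iv2 F523210)) (tt N104588 F447599) (tt N106951 (iv4 F456409)) (tt N120877 D224136) (tt N104603 (iv6 F446497)) (tt N120872 F523202))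
theorem Q103679 : ∀ i, i < 103679 → P i := stepQ 103678 Q103678 (allL N103678 (tt N114443 F490197) (tt N120667 F522061) (tt N120666 (iv2 F522053)) (tt N67685 F442453) (tt N104667 F446781) (tt N67681 (iv5 D206867)) (tt N109104 F465361) (tt N120653 (iv7 F521975)))
theorem Q103680 : ∀ i, i < 103680 → P i := stepQ 103679 Q103679 (allL N103679 (tt N120873 (iv1 F523204)) (tt N120872 F523201) (tt N84926 F442454) (tt N67686 F442455) (tt N84966 F442456) (tt N120653 (iv5 F521974)) (tt N102550 F442457) (tt N67681 (iv7 D206868)))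
theorem Q103681 : ∀ i, i < 103681 → P i := stepQ 103680 Q103680 (allL N103680 (tt N104470 (iv1 F445902)) (tt N67682 (iv0 D206869)) (tt N95984 (iv2 F442461)) (tt N103193 (iv3 F442462)) (tt N95980 F442459) (tt N106521 (iv5 F454755)) (tt N98745 F442460) (tt N95983 (iv7 F442463)))
theorem Q103682 : ∀ i, i < 103682 → P i := stepQ 103681 Q103681 (allL N103681 (tt N67682 (iv1 D206870)) (tt N104470 F445901) (tt N95983 (iv2 F442466)) (tt N69810 F442469) (tt N83099 F442465) (tt N69808 (iv5 F442468)) (tt N83098 (iv6 F442467)) (tt N95984 F442464))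
theorem Q103683 : ∀ i, i < 103683 → P i := stepQ 103682 Q103682 (allL N103682 (tt N118997 (iv1 F513192)) (tt N118996 (iv0 F513185)) (tt N104469 (iv2 F445895)) (tt N109104 (iv3 F465358)) (tt N71931 F442471) (tt N67682 (iv5 D206871)) (tt N67685 F442470) (tt N120878 D224137))
theorem Q103684 : ∀ i, i < 103684 → P i := stepQ 103683 Q103683 (allL N103683 (tt N95983 (iv1 F442473)) (tt N95984 F442474) (tt N104470 (iv2 F445898)) (tt N120874 (iv3 F523212)) (tt N99535 F442472) (tt N120878 (iv5 F523240)) (tt N104487 (iv6 F445985)) (tt N67682 (iv7 D206872)))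
theorem Q103685 : ∀ i, i < 103685 → P i := stepQ 103684 Q103684 (allL N103684 (tt N104431 (iv1 F445732)) (tt N104429 (iv0 F445723)) (tt N120816 (iv2 F522887)) (tt N67683 (iv3 D206873)) (tt N98010 F442475) (tt N120816 (iv5 F522883)) (tt N119460 (iv6 F515735)) (tt N104473 (iv7 F445921)))
theorem Q103686 : ∀ i, i < 103686 → P i := stepQ 103685 Q103685 (allL N103685 (tt N67802 F442476) (tt N67808 F442477) (tt N104471 (iv2 F445906)) (tt N120816 F522885) (tt N77298 (iv4 F442478)) (tt N67683 (iv5 D206874)) (tt N120879 D224138) (tt N104474 (iv7 F445926)))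
theorem Q103687 : ∀ i, i < 103687 → P i := stepQ 103686 Q103686 (allL N103686 (tt N104450 F445819) (tt N120836 (iv0 F522998)) (tt N120860 F523133) (tt N67687 (iv3 D206875)) (tt N104611 (iv4 F446530)) (tt N120880 D224139) (tt N104611 (iv6 F446531)) (tt N104475 (iv7 F445930)))
theorem Q103688 : ∀ i, i < 103688 → P i := stepQ 103687 Q103687 (allL N103687 (tt N67794 F442479) (tt N67792 F442480) (tt N104477 (iv2 F445936)) (tt N120880 (iv3 F523250)) (tt N88637 F442481) (tt N67687 (iv5 D206876)) (tt N120827 F522953) (tt N104476 (iv7 F445933)))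
theorem Q103689 : ∀ i, i < 103689 → P i := stepQ 103688 Q103688 (allL N103688 (tt N104535 (iv1 F446175)) (tt N104303 (iv0 F445142)) (tt N104495 (iv2 F446021)) (tt N119506 (iv3 F515959)) (tt N88703 F442483) (tt N120881 D224140) (tt N67689 (iv6 D206877)) (tt N104534 F453363))
theorem Q103690 : ∀ i, i < 103690 → P i := stepQ 103689 Q103689 (allL N103689 (tt N118119 (iv1 F508710)) (tt N104449 (iv0 F445814)) (tt N98657 F442484) (tt N67690 (iv3 D206878)) (tt N97841 (iv4 F442486)) (tt N78781 F442485) (tt N97840 F442487) (tt N104492 (iv7 F446007)))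
theorem Q103691 : ∀ i, i < 103691 → P i := stepQ 103690 Q103690 (allL N103690 (tt N92693 (iv1 F442491)) (tt N115312 (iv0 F494527)) (tt N97887 F442488) (tt N68600 F442489) (tt N67690 (iv4 D206879)) (tt N68714 F442490) (tt N119409 (iv6 F515466)) (tt N104493 (iv7 F446011)))
theorem Q103692 : ∀ i, i < 103692 → P i := stepQ 103691 Q103691 (allL N103691 (tt N67724 F442494) (tt N97943 (iv0 F442493)) (tt N104491 (iv2 F446002)) (tt N97840 F442492) (tt N119409 (iv4 F515464)) (tt N111155 (iv5 F474970)) (tt N67690 (iv6 D206880)) (tt N104615 (iv7 F446552)))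
theorem Q103693 : ∀ i, i < 103693 → P i := stepQ 103692 Q103692 (allL N103692 (tt N78906 F442497) (tt N78908 F442498) (tt N67693 F442495) (tt N102559 F442496) (tt N104284 (iv4 F445093)) (tt N117930 (iv5 F507653)) (tt N67691 (iv6 D206881)) (tt N78905 F442499))
theorem Q103694 : ∀ i, i < 103694 → P i := stepQ 103693 Q103693 (allL N103693 (tt N103853 (iv1 F443095)) (tt N67692 (iv0 D206882)) (tt N71088 (iv2 F442506)) (tt N111153 (iv3 F474956)) (tt N120882 D224141) (tt N69076 F442507) (tt N119028 (iv6 F513370)) (tt N71084 F442508))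
theorem Q103695 : ∀ i, i < 103695 → P i := stepQ 103694 Q103694 (allL N103694 (tt N67692 (iv1 D206883)) (tt N103853 F443096) (tt N71084 (iv2 F442504)) (tt N86131 (iv3 F442501)) (tt N86138 (iv4 F442502)) (tt N69077 F442500) (tt N86099 F442503) (tt N71088 (iv7 F442505)))
theorem Q103696 : ∀ i, i < 103696 → P i := stepQ 103695 Q103695 (allL N103695 (tt N117693 (iv1 F506455)) (tt N74590 F442513) (tt N108880 (iv2 F464345)) (tt N67694 F442509) (tt N93417 F442510) (tt N102042 (iv5 F442512)) (tt N67692 (iv6 D206884)) (tt N93416 F442511))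
theorem Q103697 : ∀ i, i < 103697 → P i := stepQ 103696 Q103696 (allL N103696 (tt N67693 (iv1 D206885)) (tt N78905 F442514) (tt N78908 (iv2 F442517)) (tt N111240 (iv3 F475380)) (tt N92682 F442516) (tt N98067 F442518) (tt N120628 F521840) (tt N78906 F442515))
theorem Q103698 : ∀ i, i < 103698 → P i := stepQ 103697 Q103697 (allL N103697 (tt N92702 F442522) (tt N117931 F507662) (tt N117930 F507655) (tt N67695 F442519) (tt N102040 F442521) (tt N67693 (iv5 D206886)) (tt N102042 F442520) (tt N104637 (iv7 F446635)))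
theorem Q103699 : ∀ i, i < 103699 → P i := stepQ 103698 Q103698 (allL N103698 (tt N103860 (iv1 F443121)) (tt N67694 (iv0 D206887)) (tt N103857 (iv2 F453472)) (tt N109188 (iv3 F465707)) (tt N106177 F453471) (tt N109187 (iv5 F465706)) (tt N116902 (iv6 F502426)) (tt N103858 (iv7 F453474)))
theorem Q103700 : ∀ i, i < 103700 → P i := stepQ 103699 Q103699 (allL N103699 (tt N67694 (iv1 D206888)) (tt N103860 F443120) (tt N103858 F453475) (tt N120883 D224142) (tt N106178 F453478) (tt N116210 (iv5 F499036)) (tt N120481 F520995) (tt N103857 F453473))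
theorem Q103701 : ∀ i, i < 103701 → P i := stepQ 103700 Q103700 (allL N103700 (tt N114407 F489998) (tt N116443 (iv0 F500144)) (tt N103859 (iv2 F443113)) (tt N102042 F442523) (tt N83981 F442526) (tt N67694 (iv5 D206889)) (tt N67695 F442524) (tt N88675 F442525))
theorem Q103702 : ∀ i, i < 103702 → P i := stepQ 103701 Q103701 (allL N103701 (tt N102546 (iv1 F442528)) (tt N67695 (iv0 D206890)) (tt N102858 (iv2 F442529)) (tt N75066 F454805) (tt N106537 (iv4 F454802)) (tt N92427 F442527) (tt N75064 (iv6 F454806)) (tt N104504 (iv7 F446049)))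
theorem Q103703 : ∀ i, i < 103703 → P i := stepQ 103702 Q103702 (allL N103702 (tt N67695 (iv1 D206891)) (tt N102546 F442530) (tt N104504 F446051) (tt N107037 (iv3 F456733)) (tt N106561 (iv4 F454863)) (tt N69350 F442532) (tt N120884 D224143) (tt N102858 F442531))
theorem Q103704 : ∀ i, i < 103704 → P i := stepQ 103703 Q103703 (allL N103703 (tt N104451 F450596) (tt N120796 (iv0 F522771)) (tt N105453 (iv2 F450329)) (tt N67696 (iv3 D206892)) (tt N104479 F445945) (tt N106158 (iv5 F453386)) (tt N75078 F442533) (tt N104500 (iv7 F446035)))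
theorem Q103705 : ∀ i, i < 103705 → P i := stepQ 103704 Q103704 (allL N103704 (tt N104506 (iv1 F446060)) (tt N67704 (iv0 F442535)) (tt N104505 F446053) (tt N67697 (iv3 D206893)) (tt N88691 (iv4 F442534)) (tt N106156 (iv5 F453380)) (tt N88690 F442536) (tt N104502 (iv7 F446043)))
theorem Q103706 : ∀ i, i < 103706 → P i := stepQ 103705 Q103705 (allL N103705 (tt N104090 (iv1 F444128)) (tt N88715 F444130) (tt N104501 (iv2 F446037)) (tt N88690 F442537) (tt N75077 F442538) (tt N88758 (iv5 F442540)) (tt N67697 (iv6 D206894)) (tt N75074 F442539))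
theorem Q103707 : ∀ i, i < 103707 → P i := stepQ 103706 Q103706 (allL N103706 (tt N120847 (iv1 F523062)) (tt N114411 F490019) (tt N67700 F442541) (tt N104496 (iv3 F446023)) (tt N104052 (iv4 F443940)) (tt N67784 (iv5 F442542)) (tt N67698 (iv6 D206895)) (tt N104744 (iv7 F447080)))
theorem Q103708 : ∀ i, i < 103708 → P i := stepQ 103707 Q103707 (allL N103707 (tt N104744 F447082) (tt N67700 (iv0 D206896)) (tt N120847 (iv2 F523057)) (tt N120885 D224144) (tt N109861 (iv4 F468965)) (tt N104508 F446073) (tt N109862 (iv6 F468972)) (tt N114411 (iv7 F490016)))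
theorem Q103709 : ∀ i, i < 103709 → P i := stepQ 103708 Q103708 (allL N103708 (tt N67700 (iv1 D206897)) (tt N104744 F447081) (tt N114411 (iv2 F490013)) (tt N104477 (iv3 F445937)) (tt N75098 (iv4 F442543)) (tt N104112 F444243) (tt N75097 F442544) (tt N120847 (iv7 F523060)))
theorem Q103710 : ∀ i, i < 103710 → P i := stepQ 103709 Q103709 (allL N103709 (tt N67778 F442547) (tt N67786 (iv0 F442548)) (tt N67784 F442545) (tt N67702 F442546) (tt N104783 (iv4 F447245)) (tt N67700 (iv5 D206898)) (tt N103864 (iv6 F443140)) (tt N67783 (iv7 F442549)))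
theorem Q103711 : ∀ i, i < 103711 → P i := stepQ 103710 Q103710 (allL N103710 (tt N114411 F490018) (tt N120847 (iv0 F523061)) (tt N104744 (iv2 F447078)) (tt N67703 F442550) (tt N104056 (iv4 F443953)) (tt N67783 F442551) (tt N102545 F442552) (tt N67700 (iv7 D206899)))
theorem Q103712 : ∀ i, i < 103712 → P i := stepQ 103711 Q103711 (allL N103711 (tt N67704 (iv1 D206900)) (tt N104506 F446061) (tt N104502 F446046) (tt N105453 (iv3 F450330)) (tt N71972 (iv4 F442553)) (tt N107512 (iv5 F458600)) (tt N71971 F442554) (tt N104505 (iv7 F446052)))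
theorem Q103713 : ∀ i, i < 103713 → P i := stepQ 103712 Q103712 (allL N103712 (tt N120886 D224145) (tt N120883 (iv0 F523274)) (tt N103843 (iv2 F443056)) (tt N118663 (iv3 F511410)) (tt N106474 F454598) (tt N120887 D224146) (tt N67706 (iv6 D206901)) (tt N119511 (iv7 F515992)))
theorem Q103714 : ∀ i, i < 103714 → P i := stepQ 103713 Q103713 (allL N103713 (tt N111253 (iv1 F475449)) (tt N107037 (iv0 F456735)) (tt N75707 F442555) (tt N102714 F442556) (tt N71658 F442557) (tt N67707 (iv5 D206902)) (tt N120887 (iv6 F523295)) (tt N104632 (iv7 F446618)))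
theorem Q103715 : ∀ i, i < 103715 → P i := stepQ 103714 Q103714 (allL N103714 (tt N75073 F442560) (tt N75079 F442561) (tt N103841 (iv2 F443043)) (tt N119529 F516081) (tt N75025 F442558) (tt N75021 F442559) (tt N67709 (iv6 D206903)) (tt N109144 (iv7 F465550)))
theorem Q103716 : ∀ i, i < 103716 → P i := stepQ 103715 Q103715 (allL N103715 (tt N67710 (iv1 D206904)) (tt N104509 F446079) (tt N104112 (iv2 F444237)) (tt N120860 F523130) (tt N67751 F442562) (tt N114411 (iv5 F490017)) (tt N104621 F446583) (tt N104508 (iv7 F446071)))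
theorem Q103717 : ∀ i, i < 103717 → P i := stepQ 103716 Q103716 (allL N103716 (tt N120888 D224147) (tt N116912 (iv0 F502465)) (tt N67716 F442563) (tt N78871 F442564) (tt N100613 F442565) (tt N69095 F442566) (tt N67711 (iv6 D206905)) (tt N69094 F442567))
theorem Q103718 : ∀ i, i < 103718 → P i := stepQ 103717 Q103717 (allL N103717 (tt N106156 F453381) (tt N107512 (iv0 F458601)) (tt N105210 (iv2 F449218)) (tt N67713 (iv3 D206906)) (tt N120547 (iv4 F521381)) (tt N67861 F442569) (tt N104454 (iv6 F445835)) (tt N104511 (iv7 F446089)))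
theorem Q103719 : ∀ i, i < 103719 → P i := stepQ 103718 Q103718 (allL N103718 (tt N105544 (iv1 F450669)) (tt N106158 (iv0 F453387)) (tt N104513 (iv2 F446094)) (tt N104454 F445834) (tt N70385 F442570) (tt N104625 (iv5 F446595)) (tt N67713 (iv6 D206907)) (tt N120862 (iv7 F523143)))
theorem Q103720 : ∀ i, i < 103720 → P i := stepQ 103719 Q103719 (allL N103719 (tt N98654 (iv1 F442574)) (tt N98614 (iv0 F442573)) (tt N118062 (iv2 F508365)) (tt N67714 (iv3 D206908)) (tt N85296 F442571) (tt N67862 F442572) (tt N112903 (iv6 F483210)) (tt N104512 (iv7 F446092)))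
theorem Q103721 : ∀ i, i < 103721 → P i := stepQ 103720 Q103720 (allL N103720 (tt N100569 (iv1 F442578)) (tt N67715 (iv0 D206909)) (tt N100611 (iv2 F442577)) (tt N116302 F499455) (tt N67897 F442576) (tt N69615 F442575) (tt N92284 (iv6 F442580)) (tt N100612 F442579))
theorem Q103722 : ∀ i, i < 103722 → P i := stepQ 103721 Q103721 (allL N103721 (tt N119678 (iv1 F516872)) (tt N78766 (iv0 F442583)) (tt N100613 F442581) (tt N106191 (iv3 F453543)) (tt N67716 F442582) (tt N120889 D224148) (tt N67715 (iv6 D206910)) (tt N109221 (iv7 F465835)))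
theorem Q103723 : ∀ i, i < 103723 → P i := stepQ 103722 Q103722 (allL N103722 (tt N69094 (iv1 F442597)) (tt N67716 (iv0 D206911)) (tt N120888 F523304) (tt N103731 F445857) (tt N120890 D224149) (tt N103730 (iv5 F445856)) (tt N120891 D224150) (tt N116912 (iv7 F502464)))
theorem Q103724 : ∀ i, i < 103724 → P i := stepQ 103723 Q103723 (allL N103723 (tt N67716 (iv1 D206912)) (tt N69094 F442584) (tt N116912 (iv2 F502462)) (tt N85289 (iv3 F442585)) (tt N120892 D224151) (tt N108006 F460695) (tt N120893 D224152) (tt N120888 (iv7 F523306)))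
theorem Q103725 : ∀ i, i < 103725 → P i := stepQ 103724 Q103724 (allL N103724 (tt N69093 (iv1 F442592)) (tt N69092 (iv0 F442591)) (tt N69095 F442586) (tt N67722 F442587) (tt N71214 F442589) (tt N67716 (iv5 D206913)) (tt N67718 F442588) (tt N69068 (iv7 F442590)))
theorem Q103726 : ∀ i, i < 103726 → P i := stepQ 103725 Q103725 (allL N103725 (tt N116912 F502466) (tt N120888 F523305) (tt N69094 F442593) (tt N67723 F442594) (tt N109221 (iv4 F465834)) (tt N69068 F442595) (tt N69071 F442596) (tt N67716 (iv7 D206914)))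
theorem Q103727 : ∀ i, i < 103727 → P i := stepQ 103726 Q103726 (allL N103726 (tt N116886 (iv1 F502355)) (tt N114660 (iv0 F491252)) (tt N103729 (iv2 F442607)) (tt N106847 (iv3 F455967)) (tt N113085 (iv4 F483912)) (tt N67717 (iv5 D206915)) (tt N103654 (iv6 F442598)) (tt N104619 (iv7 F446576)))
theorem Q103728 : ∀ i, i < 103728 → P i := stepQ 103727 Q103727 (allL N103727 (tt N86098 F442600) (tt N78780 (iv0 F442601)) (tt N98666 F475016) (tt N67720 (iv3 D206916)) (tt N116398 (iv4 F499883)) (tt N111167 (iv5 F475042)) (tt N119134 (iv6 F513971)) (tt N98665 F442599))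
theorem Q103729 : ∀ i, i < 103729 → P i := stepQ 103728 Q103728 (allL N103728 (tt N90114 F442605) (tt N90042 F442606) (tt N90110 F442602) (tt N111167 (iv3 F475044)) (tt N102320 F442604) (tt N67720 (iv5 D206917)) (tt N104697 F446910) (tt N90111 F442603))
theorem Q103730 : ∀ i, i < 103730 → P i := stepQ 103729 Q103729 (allL N103729 (tt N106409 F454329) (tt N119071 (iv0 F513631)) (tt N103726 F442607) (tt N119134 (iv3 F513970)) (tt N83084 F442608) (tt N103533 F442609) (tt N67720 (iv6 D206918)) (tt N103532 (iv7 F442610)))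
theorem Q103731 : ∀ i, i < 103731 → P i := stepQ 103730 Q103730 (allL N103730 (tt N106159 F453392) (tt N116872 (iv0 F502290)) (tt N104528 (iv2 F446157)) (tt N67721 (iv3 D206919)) (tt N106397 (iv4 F454285)) (tt N103722 F445856) (tt N104457 (iv6 F445855)) (tt N120866 (iv7 F523164)))
theorem Q103732 : ∀ i, i < 103732 → P i := stepQ 103731 Q103731 (allL N103731 (tt N90042 F442613) (tt N90114 F442614) (tt N90111 F442611) (tt N103722 (iv3 F445857)) (tt N114785 (iv4 F491847)) (tt N67721 (iv5 D206920)) (tt N120894 D224153) (tt N90110 F442612))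
theorem Q103733 : ∀ i, i < 103733 → P i := stepQ 103732 Q103732 (allL N103732 (tt N120895 D224154) (tt N106157 (iv0 F453384)) (tt N120867 (iv2 F523167)) (tt N104457 F445854) (tt N83089 F442615) (tt N113133 (iv5 F484128)) (tt N67721 (iv6 D206921)) (tt N104529 (iv7 F446159)))
theorem Q103734 : ∀ i, i < 103734 → P i := stepQ 103733 Q103733 (allL N103733 (tt N116408 (iv1 F499948)) (tt N116410 (iv0 F499960)) (tt N94965 F442616) (tt N89804 F442617) (tt N67722 (iv4 D206922)) (tt N91420 F442619) (tt N67728 F442618) (tt N116922 (iv7 F502511)))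
theorem Q103735 : ∀ i, i < 103735 → P i := stepQ 103734 Q103734 (allL N103734 (tt N113232 (iv1 F484625)) (tt N113235 (iv0 F484643)) (tt N116904 (iv2 F502439)) (tt N69068 F442620) (tt N116922 (iv4 F502508)) (tt N67723 F442621) (tt N69066 F442622) (tt N67722 (iv7 D206923)))
theorem Q103736 : ∀ i, i < 103736 → P i := stepQ 103735 Q103735 (allL N103735 (tt N97943 (iv1 F442623)) (tt N67724 (iv0 D206924)) (tt N104615 F446554) (tt N119146 (iv3 F514029)) (tt N119410 (iv4 F515471)) (tt N117739 (iv5 F506724)) (tt N104534 (iv6 F453362)) (tt N104491 F446006))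
theorem Q103737 : ∀ i, i < 103737 → P i := stepQ 103736 Q103736 (allL N103736 (tt N104615 (iv1 F446551)) (tt N104491 (iv0 F446003)) (tt N67724 (iv2 D206925)) (tt N75071 F442624) (tt N102242 F442625) (tt N78876 F442626) (tt N78860 F442627) (tt N97943 F442628))
theorem Q103738 : ∀ i, i < 103738 → P i := stepQ 103737 Q103737 (allL N103737 (tt N117739 (iv1 F506725)) (tt N111155 F474972) (tt N119529 (iv2 F516083)) (tt N67726 (iv3 D206926)) (tt N98702 F442629) (tt N117977 (iv5 F507883)) (tt N98701 (iv6 F442630)) (tt N119499 (iv7 F515922)))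
theorem Q103739 : ∀ i, i < 103739 → P i := stepQ 103738 Q103738 (allL N103738 (tt N105131 (iv1 F448930)) (tt N118687 (iv0 F511553)) (tt N111708 (iv2 F477593)) (tt N99886 F442632) (tt N67727 (iv4 D206928)) (tt N82489 F442633) (tt N120896 D224155) (tt N118692 (iv7 F511569)))
theorem Q103740 : ∀ i, i < 103740 → P i := stepQ 103739 Q103739 (allL N103739 (tt N120897 D224156) (tt N120898 D224157) (tt N120841 (iv2 F523020)) (tt N119511 (iv3 F515989)) (tt N120896 (iv4 F523343)) (tt N69088 F442634) (tt N67727 (iv6 D206929)) (tt N118663 (iv7 F511412)))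
theorem Q103741 : ∀ i, i < 103741 → P i := stepQ 103740 Q103740 (allL N103740 (tt N102793 (iv1 F442638)) (tt N75085 F442637) (tt N67730 (iv2 D206930)) (tt N120823 (iv3 F522925)) (tt N98231 F442635) (tt N119135 (iv5 F513974)) (tt N120817 (iv6 F522892)) (tt N102794 F442636))
theorem Q103742 : ∀ i, i < 103742 → P i := stepQ 103741 Q103741 (allL N103741 (tt N119136 F513984) (tt N109029 (iv0 F464999)) (tt N119135 F513977) (tt N67731 F442639) (tt N115008 (iv4 F493033)) (tt N67730 (iv5 D206931)) (tt N114580 (iv6 F490860)) (tt N102795 F442640))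
theorem Q103743 : ∀ i, i < 103743 → P i := stepQ 103742 Q103742 (allL N103742 (tt N119538 F516133) (tt N85292 (iv0 F442643)) (tt N95120 F442641) (tt N114580 (iv3 F490858)) (tt N95114 F442642) (tt N109175 (iv5 F465676)) (tt N67731 (iv6 D206932)) (tt N109174 F465673))
theorem Q103744 : ∀ i, i < 103744 → P i := stepQ 103743 Q103743 (allL N103743 (tt N118092 (iv1 F508541)) (tt N119683 (iv0 F516898)) (tt N104481 (iv2 F445959)) (tt N67740 (iv3 D206933)) (tt N68624 F442644) (tt N120899 D224158) (tt N120842 (iv6 F523029)) (tt N104579 (iv7 F446381)))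
theorem Q103745 : ∀ i, i < 103745 → P i := stepQ 103744 Q103744 (allL N103744 (tt N67899 F442645) (tt N67897 F442646) (tt N104582 (iv2 F446395)) (tt N120899 (iv3 F523358)) (tt N105732 (iv4 F451459)) (tt N67740 (iv5 D206934)) (tt N104609 (iv6 F446521)) (tt N104580 (iv7 F446383)))
theorem Q103746 : ∀ i, i < 103746 → P i := stepQ 103745 Q103745 (allL N103745 (tt N104583 F446406) (tt N75087 F442650) (tt N67742 (iv2 D206935)) (tt N71069 F442647) (tt N75080 F442648) (tt N109594 (iv5 F467637)) (tt N102589 F442649) (tt N104584 (iv7 F446409)))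
theorem Q103747 : ∀ i, i < 103747 → P i := stepQ 103746 Q103746 (allL N103746 (tt N67743 (iv1 D206936)) (tt N67749 F442651) (tt N103879 (iv2 F443191)) (tt N103627 F442655) (tt N83923 F442654) (tt N69115 F442653) (tt N114687 (iv6 F491368)) (tt N88901 F442652))
theorem Q103748 : ∀ i, i < 103748 → P i := stepQ 103747 Q103747 (allL N103747 (tt N120746 (iv1 F522486)) (tt N120751 F522519) (tt N104592 (iv2 F446444)) (tt N116877 (iv3 F502308)) (tt N99986 F442656) (tt N120900 D224159) (tt N67743 (iv6 D206937)) (tt N99982 F442657))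
theorem Q103749 : ∀ i, i < 103749 → P i := stepQ 103748 Q103748 (allL N103748 (tt N119931 (iv1 F518100)) (tt N108026 (iv0 F460794)) (tt N104593 (iv2 F446447)) (tt N109025 F464986) (tt N107035 (iv4 F456732)) (tt N67744 (iv5 D206938)) (tt N120900 (iv6 F523366)) (tt N104657 (iv7 F446727)))
theorem Q103750 : ∀ i, i < 103750 → P i := stepQ 103749 Q103749 (allL N103749 (tt N71360 (iv1 F442663)) (tt N67745 (iv0 D206939)) (tt N73425 (iv2 F442662)) (tt N99303 F442660) (tt N102701 F442659) (tt N102859 F442658) (tt N76158 F442661) (tt N99265 F442664))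
theorem Q103751 : ∀ i, i < 103751 → P i := stepQ 103750 Q103750 (allL N103750 (tt N103398 F442669) (tt N92259 F442671) (tt N103404 F442665) (tt N67749 F442666) (tt N86134 F442670) (tt N67748 (iv5 D206940)) (tt N97731 F442667) (tt N103403 F442668))
theorem Q103752 : ∀ i, i < 103752 → P i := stepQ 103751 Q103751 (allL N103751 (tt N104589 F446433) (tt N67750 (iv0 D206941)) (tt N104587 (iv2 F447593)) (tt N120872 (iv3 F523200)) (tt N85071 F442672) (tt N120901 D224160) (tt N109917 (iv6 F469206)) (tt N104588 F447597))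
theorem Q103753 : ∀ i, i < 103753 → P i := stepQ 103752 Q103752 (allL N103752 (tt N67750 (iv1 D206942)) (tt N104589 F446432) (tt N104588 F447596) (tt N119525 (iv3 F516062)) (tt N85070 F442673) (tt N114415 (iv5 F490041)) (tt N104653 F446712) (tt N104587 (iv7 F447595)))
theorem Q103754 : ∀ i, i < 103754 → P i := stepQ 103753 Q103753 (allL N103753 (tt N104588 (iv1 F446425)) (tt N104587 F446431) (tt N104589 (iv2 F446426)) (tt N104431 (iv3 F445730)) (tt N67752 F442674) (tt N97810 F442675) (tt N102779 F442676) (tt N67750 (iv7 D206943)))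
theorem Q103755 : ∀ i, i < 103755 → P i := stepQ 103754 Q103754 (allL N103754 (tt N67828 F442679) (tt N67825 (iv0 F442680)) (tt N99636 F442678) (tt N104656 (iv3 F446722)) (tt N109110 (iv4 F465385)) (tt N67751 (iv5 D206944)) (tt N99635 (iv6 F442681)) (tt N104590 (iv7 F446437)))
theorem Q103756 : ∀ i, i < 103756 → P i := stepQ 103755 Q103755 (allL N103755 (tt N88460 F442687) (tt N80127 F442686) (tt N67760 F442682) (tt N97384 F442683) (tt N72835 (iv4 F442688)) (tt N67754 (iv5 D206945)) (tt N67755 F442684) (tt N88463 F442685))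
theorem Q103757 : ∀ i, i < 103757 → P i := stepQ 103756 Q103756 (allL N103756 (tt N107899 (iv1 F460179)) (tt N104257 F444978) (tt N104237 (iv2 F444862)) (tt N69665 F442689) (tt N67759 (iv4 D206946)) (tt N107170 (iv5 F457312)) (tt N69663 (iv6 F442690)) (tt N107275 (iv7 F457754)))
theorem Q103758 : ∀ i, i < 103758 → P i := stepQ 103757 Q103757 (allL N103757 (tt N88512 F442696) (tt N88511 (iv0 F442697)) (tt N81120 F442691) (tt N102986 F442692) (tt N69663 F442693) (tt N77753 F442694) (tt N67759 (iv6 D206947)) (tt N88510 F442695))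
theorem Q103759 : ∀ i, i < 103759 → P i := stepQ 103758 Q103758 (allL N103758 (tt N67760 (iv1 D206948)) (tt N88463 F442698) (tt N80127 F442702) (tt N75466 F442703) (tt N108099 (iv4 F461100)) (tt N77191 F442700) (tt N75461 (iv6 F442701)) (tt N88460 F442699))
theorem Q103760 : ∀ i, i < 103760 → P i := stepQ 103759 Q103759 (allL N103759 (tt N72966 F442706) (tt N106438 (iv0 F454436)) (tt N72864 F442704) (tt N102669 F442705) (tt N67763 (iv4 D206949)) (tt N114774 (iv5 F491787)) (tt N120902 D224161) (tt N104651 (iv7 F446700)))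
theorem Q103761 : ∀ i, i < 103761 → P i := stepQ 103760 Q103760 (allL N103760 (tt N95638 F442711) (tt N102261 (iv0 F442712)) (tt N102259 F442707) (tt N71609 F442708) (tt N120902 (iv4 F523379)) (tt N96982 F442709) (tt N67763 (iv6 D206950)) (tt N100372 F442710))
theorem Q103762 : ∀ i, i < 103762 → P i := stepQ 103761 Q103761 (allL N103761 (tt N72090 F442718) (tt N71013 F442719) (tt N72087 F442713) (tt N69556 F442714) (tt N74634 F442717) (tt N67768 (iv5 D206951)) (tt N74630 F442715) (tt N72088 F442716))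
theorem Q103763 : ∀ i, i < 103763 → P i := stepQ 103762 Q103762 (allL N103762 (tt N104634 (iv1 F446625)) (tt N102564 (iv0 F442723)) (tt N70585 F442720) (tt N102935 F442721) (tt N97515 F442722) (tt N116240 F499185) (tt N67770 (iv6 D206952)) (tt N104745 F447085))
theorem Q103764 : ∀ i, i < 103764 → P i := stepQ 103763 Q103763 (allL N103763 (tt N67791 (iv1 F442728)) (tt N113582 (iv0 F486140)) (tt N70583 F442724) (tt N68839 F442725) (tt N97750 F442726) (tt N84916 (iv5 F442727)) (tt N67771 (iv6 D206953)) (tt N103484 (iv7 F442729)))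
theorem Q103765 : ∀ i, i < 103765 → P i := stepQ 103764 Q103764 (allL N103764 (tt N93052 (iv1 F442732)) (tt N67772 (iv0 D206954)) (tt N104384 F445528) (tt N92619 F442731) (tt N68722 F442730) (tt N108853 (iv5 F464258)) (tt N117978 (iv6 F507891)) (tt N92615 F442733))
theorem Q103766 : ∀ i, i < 103766 → P i := stepQ 103765 Q103765 (allL N103765 (tt N67860 (iv1 F442735)) (tt N67773 (iv0 D206955)) (tt N103947 (iv2 F443478)) (tt N115852 (iv3 F497241)) (tt N115854 (iv4 F497244)) (tt N102525 F442734) (tt N120903 D224162) (tt N104677 (iv7 F446832)))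
theorem Q103767 : ∀ i, i < 103767 → P i := stepQ 103766 Q103766 (allL N103766 (tt N67773 (iv1 D206956)) (tt N67860 F442736) (tt N104677 F446830) (tt N111913 (iv3 F478614)) (tt N120676 (iv4 F522090)) (tt N69351 F442737) (tt N120904 D224163) (tt N103947 (iv7 F443479)))
theorem Q103768 : ∀ i, i < 103768 → P i := stepQ 103767 Q103767 (allL N103767 (tt N120706 (iv1 F522256)) (tt N120709 (iv0 F522270)) (tt N104740 (iv2 F447065)) (tt N81152 F442738) (tt N67773 (iv4 D206957)) (tt N103834 (iv5 F443016)) (tt N81151 F442739) (tt N104678 (iv7 F446834)))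
theorem Q103769 : ∀ i, i < 103769 → P i := stepQ 103768 Q103768 (allL N103768 (tt N105935 F452421) (tt N120905 D224164) (tt N120627 (iv2 F521830)) (tt N67775 F442740) (tt N70350 F442741) (tt N120906 D224165) (tt N67774 (iv6 D206958)) (tt N104680 (iv7 F446842)))
theorem Q103770 : ∀ i, i < 103770 → P i := stepQ 103769 Q103769 (allL N103769 (tt N67863 (iv1 F442744)) (tt N67775 (iv0 D206959)) (tt N68048 (iv2 F442743)) (tt N120631 F521857) (tt N67815 F442742) (tt N120907 D224166) (tt N120726 (iv6 F522380)) (tt N104682 (iv7 F446853)))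
theorem Q103771 : ∀ i, i < 103771 → P i := stepQ 103770 Q103770 (allL N103770 (tt N120908 D224167) (tt N111913 (iv0 F478615)) (tt N104742 (iv2 F447075)) (tt N120906 (iv3 F523393)) (tt N102975 F442745) (tt N67775 (iv5 D206960)) (tt N120834 (iv6 F522986)) (tt N104683 (iv7 F446855)))
theorem Q103772 : ∀ i, i < 103772 → P i := stepQ 103771 Q103771 (allL N103771 (tt N83987 (iv1 F442752)) (tt N88712 F442753) (tt N67782 F442746) (tt N120633 (iv3 F521866)) (tt N111126 (iv4 F474807)) (tt N69023 F442747) (tt N67777 (iv6 D206961)) (tt N69022 F442748))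
theorem Q103773 : ∀ i, i < 103773 → P i := stepQ 103772 Q103772 (allL N103772 (tt N67786 (iv1 F442757)) (tt N67778 (iv0 D206962)) (tt N67783 (iv2 F442756)) (tt N83668 (iv3 F442759)) (tt N67916 F442754) (tt N104744 (iv5 F447079)) (tt N67871 F442755) (tt N67784 F442758))
theorem Q103774 : ∀ i, i < 103774 → P i := stepQ 103773 Q103773 (allL N103773 (tt N120373 (iv1 F520440)) (tt N114409 (iv0 F490006)) (tt N88661 F442760) (tt N102535 F442761) (tt N88658 F442762) (tt N104529 (iv5 F446158)) (tt N67779 (iv6 D206963)) (tt N113133 (iv7 F484127)))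
theorem Q103775 : ∀ i, i < 103775 → P i := stepQ 103774 Q103774 (allL N103774 (tt N75078 F453388) (tt N119494 F515897) (tt N103527 F442763) (tt N118091 (iv3 F508532)) (tt N115797 (iv4 F496941)) (tt N120769 (iv5 F522614)) (tt N67780 (iv6 D206964)) (tt N119493 (iv7 F515885)))
theorem Q103776 : ∀ i, i < 103776 → P i := stepQ 103775 Q103775 (allL N103775 (tt N69800 F442765) (tt N112064 (iv0 F479320)) (tt N111126 (iv2 F474805)) (tt N105899 (iv3 F452251)) (tt N67782 F442764) (tt N92011 (iv5 F442766)) (tt N67781 (iv6 D206965)) (tt N116285 (iv7 F499360)))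
theorem Q103777 : ∀ i, i < 103777 → P i := stepQ 103776 Q103776 (allL N103776 (tt N102839 (iv1 F443133)) (tt N120726 F522379) (tt N103864 (iv2 F443137)) (tt N109032 (iv3 F465010)) (tt N105355 (iv4 F449859)) (tt N103829 F442994) (tt N67784 (iv6 D206966)) (tt N103862 (iv7 F443129)))
theorem Q103778 : ∀ i, i < 103778 → P i := stepQ 103777 Q103777 (allL N103777 (tt N114371 (iv1 F489851)) (tt N114408 (iv0 F490002)) (tt N103521 F442767) (tt N78861 F442768) (tt N110946 (iv4 F473909)) (tt N67787 (iv5 D206967)) (tt N69004 F442769) (tt N78859 (iv7 F442770)))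
theorem Q103779 : ∀ i, i < 103779 → P i := stepQ 103778 Q103778 (allL N103778 (tt N75097 (iv1 F442776)) (tt N75100 F442777) (tt N97946 F442771) (tt N78860 F442772) (tt N75694 F442773) (tt N78859 F442774) (tt N75071 F442775) (tt N67787 (iv7 D206968)))
theorem Q103780 : ∀ i, i < 103780 → P i := stepQ 103779 Q103779 (allL N103779 (tt N88689 F442779) (tt N88690 F442781) (tt N103870 (iv2 F443156)) (tt N120838 (iv3 F523007)) (tt N82769 F442780) (tt N67788 (iv5 D206969)) (tt N119203 (iv6 F514340)) (tt N112916 (iv7 F483270)))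
theorem Q103781 : ∀ i, i < 103781 → P i := stepQ 103780 Q103780 (allL N103780 (tt N75074 (iv1 F442785)) (tt N104501 (iv0 F446040)) (tt N104090 F444129) (tt N104535 (iv3 F446173)) (tt N102936 F442782) (tt N83987 F442783) (tt N67788 (iv6 D206970)) (tt N88715 (iv7 F442784)))
theorem Q103782 : ∀ i, i < 103782 → P i := stepQ 103781 Q103781 (allL N103781 (tt N88686 (iv1 F442787)) (tt N67789 (iv0 D206971)) (tt N105569 (iv2 F450770)) (tt N111254 (iv3 F475456)) (tt N82800 F442786) (tt N109145 F465558) (tt N120909 D224168) (tt N105567 (iv7 F450759)))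
theorem Q103783 : ∀ i, i < 103783 → P i := stepQ 103782 Q103782 (allL N103782 (tt N113582 (iv1 F486141)) (tt N67791 (iv0 D206972)) (tt N103484 (iv2 F442789)) (tt N105758 (iv3 F451558)) (tt N116213 (iv4 F499050)) (tt N84914 F442788) (tt N104745 (iv6 F447086)) (tt N70583 F442790))
theorem Q103784 : ∀ i, i < 103784 → P i := stepQ 103783 Q103783 (allL N103783 (tt N104676 (iv1 F466942)) (tt N106151 (iv0 F466940)) (tt N106149 (iv2 F453356)) (tt N67793 F442791) (tt N83010 F442792) (tt N75713 F442793) (tt N67791 (iv6 D206973)) (tt N67881 (iv7 F442794)))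
theorem Q103785 : ∀ i, i < 103785 → P i := stepQ 103784 Q103784 (allL N103784 (tt N84914 F442798) (tt N84916 (iv0 F442800)) (tt N83629 F442795) (tt N67796 (iv3 D206974)) (tt N83628 F442797) (tt N68892 F442796) (tt N96393 (iv6 F442799)) (tt N113585 (iv7 F486159)))
theorem Q103786 : ∀ i, i < 103786 → P i := stepQ 103785 Q103785 (allL N103785 (tt N107007 (iv1 F456628)) (tt N75060 (iv0 F442806)) (tt N71493 F442801) (tt N96393 F442802) (tt N71492 F442803) (tt N67874 F442804) (tt N67796 (iv6 D206975)) (tt N95987 (iv7 F442805)))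
theorem Q103787 : ∀ i, i < 103787 → P i := stepQ 103786 Q103786 (allL N103786 (tt N119684 F516905) (tt N107046 (iv0 F456760)) (tt N120644 (iv2 F521923)) (tt N96989 F442807) (tt N69898 F442808) (tt N104627 F446602) (tt N67797 (iv6 D206976)) (tt N103849 (iv7 F443076)))
theorem Q103788 : ∀ i, i < 103788 → P i := stepQ 103787 Q103787 (allL N103787 (tt N67798 (iv1 D206977)) (tt N88635 F442809) (tt N83983 (iv2 F442812)) (tt N88674 (iv3 F442813)) (tt N102481 F442811) (tt N116400 (iv5 F499899)) (tt N107044 (iv6 F456923)) (tt N88667 F442810))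
theorem Q103789 : ∀ i, i < 103789 → P i := stepQ 103788 Q103788 (allL N103788 (tt N83983 (iv1 F442819)) (tt N88667 F442820) (tt N88635 F442814) (tt N77212 F442815) (tt N67799 F442816) (tt N77211 F442817) (tt N102435 F442818) (tt N67798 (iv7 D206978)))
theorem Q103790 : ∀ i, i < 103790 → P i := stepQ 103789 Q103789 (allL N103789 (tt N77956 F442825) (tt N83389 F442826) (tt N99104 F442821) (tt N72654 F442822) (tt N67800 (iv4 D206979)) (tt N109830 (iv5 F468823)) (tt N99148 F442823) (tt N78046 F442824))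
theorem Q103791 : ∀ i, i < 103791 → P i := stepQ 103790 Q103790 (allL N103790 (tt N119525 F516067) (tt N120875 F523224) (tt N120660 (iv2 F522013)) (tt N67802 F442828) (tt N88652 F442829) (tt N67801 (iv5 D206980)) (tt N92683 (iv6 F442830)) (tt N120646 (iv7 F521937)))
theorem Q103792 : ∀ i, i < 103792 → P i := stepQ 103791 Q103791 (allL N103791 (tt N104439 (iv1 F445774)) (tt N106131 F453277) (tt N113139 (iv2 F484144)) (tt N67803 F442831) (tt N70037 F442832) (tt N102489 (iv5 F442834)) (tt N67801 (iv6 D206981)) (tt N67890 (iv7 F442833)))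
theorem Q103793 : ∀ i, i < 103793 → P i := stepQ 103792 Q103792 (allL N103792 (tt N104488 F445992) (tt N105494 (iv0 F450466)) (tt N105495 F450471) (tt N92683 F442836) (tt N88639 F442837) (tt N119900 (iv5 F517938)) (tt N67802 (iv6 D206982)) (tt N105496 (iv7 F450473)))
theorem Q103794 : ∀ i, i < 103794 → P i := stepQ 103793 Q103793 (allL N103793 (tt N70568 F442842) (tt N68002 F442843) (tt N67894 F442838) (tt N102489 F442839) (tt N69167 F442841) (tt N67803 (iv5 D206983)) (tt N119900 (iv6 F517936)) (tt N67891 F442840))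
theorem Q103795 : ∀ i, i < 103795 → P i := stepQ 103794 Q103794 (allL N103794 (tt N95900 F442848) (tt N117626 F506070) (tt N91795 F442844) (tt N67805 (iv3 D206984)) (tt N67807 F442845) (tt N111964 (iv5 F478877)) (tt N73307 F442846) (tt N69868 F442847))
theorem Q103796 : ∀ i, i < 103796 → P i := stepQ 103795 Q103795 (allL N103795 (tt N67807 (iv1 D206985)) (tt N102599 F442856) (tt N102601 (iv2 F442851)) (tt N102510 F442854) (tt N105268 (iv4 F449475)) (tt N102508 F442855) (tt N102607 (iv6 F442852)) (tt N102594 F442850))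
theorem Q103797 : ∀ i, i < 103797 → P i := stepQ 103796 Q103796 (allL N103796 (tt N102594 (iv1 F442860)) (tt N102601 F442859) (tt N67807 (iv2 D206986)) (tt N114053 (iv3 F488366)) (tt N91795 F442857) (tt N120623 (iv5 F521818)) (tt N107067 F456841) (tt N102599 F442858))
theorem Q103798 : ∀ i, i < 103798 → P i := stepQ 103797 Q103797 (allL N103797 (tt N120876 (iv1 F523230)) (tt N120877 (iv0 F523235)) (tt N120623 (iv2 F521815)) (tt N67808 F442861) (tt N102535 F442863) (tt N67807 (iv5 D206987)) (tt N102534 (iv6 F442862)) (tt N120645 (iv7 F521932)))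
theorem Q103799 : ∀ i, i < 103799 → P i := stepQ 103798 Q103798 (allL N103798 (tt N107064 F456831) (tt N107069 F456847) (tt N107067 F456840) (tt N67809 F442864) (tt N73307 F442865) (tt N93343 (iv5 F442866)) (tt N67807 (iv6 D206988)) (tt N107066 F456838))
theorem Q103800 : ∀ i, i < 103800 → P i := stepQ 103799 Q103799 (allL N103799 (tt N88638 F442871) (tt N88637 F442872) (tt N80851 F442867) (tt N88658 F442868) (tt N67808 (iv4 D206989)) (tt N80630 F442869) (tt N115796 (iv6 F496936)) (tt N88636 F442870))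
theorem Q103801 : ∀ i, i < 103801 → P i := stepQ 103800 Q103800 (allL N103800 (tt N67824 (iv1 F442878)) (tt N67827 (iv0 F442879)) (tt N102608 F442873) (tt N102594 F442874) (tt N78602 F442875) (tt N102511 F442876) (tt N67813 (iv6 D206990)) (tt N102510 F442877))
theorem Q103802 : ∀ i, i < 103802 → P i := stepQ 103801 Q103801 (allL N103801 (tt N67900 (iv1 F442881)) (tt N67814 (iv0 D206991)) (tt N104728 F447014) (tt N118079 F508456) (tt N69323 F442880) (tt N115663 (iv5 F496204)) (tt N120749 (iv6 F522503)) (tt N103931 (iv7 F443422)))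
theorem Q103803 : ∀ i, i < 103803 → P i := stepQ 103802 Q103802 (allL N103802 (tt N67814 (iv1 D206992)) (tt N67900 F442882) (tt N103931 (iv2 F443420)) (tt N102610 F442884) (tt N78599 (iv4 F442883)) (tt N115637 (iv5 F496082)) (tt N102642 F442885) (tt N104728 (iv7 F447012)))
theorem Q103804 : ∀ i, i < 103804 → P i := stepQ 103803 Q103803 (allL N103803 (tt N116000 (iv1 F497987)) (tt N116025 (iv0 F498113)) (tt N104753 (iv2 F447107)) (tt N102621 F442886) (tt N109530 (iv4 F467395)) (tt N67814 (iv5 D206993)) (tt N102611 F442887) (tt N104729 (iv7 F447018)))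
theorem Q103805 : ∀ i, i < 103805 → P i := stepQ 103804 Q103804 (allL N103804 (tt N102510 (iv1 F442893)) (tt N102608 F442892) (tt N67824 F442888) (tt N102573 F442889) (tt N67817 (iv4 D206994)) (tt N111261 (iv5 F475503)) (tt N67911 F442890) (tt N67827 F442891))
theorem Q103806 : ∀ i, i < 103806 → P i := stepQ 103805 Q103805 (allL N103805 (tt N70476 (iv1 F442899)) (tt N82501 (iv0 F442898)) (tt N92120 F442894) (tt N67818 (iv3 D206995)) (tt N69195 F442897) (tt N111919 (iv5 F478647)) (tt N71339 F442895) (tt N67823 F442896))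
theorem Q103807 : ∀ i, i < 103807 → P i := stepQ 103806 Q103806 (allL N103806 (tt N102608 F442904) (tt N102510 F442905) (tt N67827 F442900) (tt N97793 F442901) (tt N67818 (iv4 D206996)) (tt N104586 (iv5 F446423)) (tt N97792 F442902) (tt N67824 F442903))
theorem Q103808 : ∀ i, i < 103808 → P i := stepQ 103807 Q103807 (allL N103807 (tt N67819 (iv1 D206997)) (tt N67833 F442907) (tt N67831 F442912) (tt N79440 (iv3 F442909)) (tt N101024 F442913) (tt N68967 (iv5 F442910)) (tt N97088 (iv6 F442911)) (tt N67830 F442908))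
theorem Q103809 : ∀ i, i < 103809 → P i := stepQ 103808 Q103808 (allL N103808 (tt N78963 F442916) (tt N114882 (iv0 F492327)) (tt N67832 F442914) (tt N111339 F475901) (tt N67819 (iv4 D206998)) (tt N104170 (iv5 F444520)) (tt N82070 F442915) (tt N115554 (iv7 F495760)))
theorem Q103810 : ∀ i, i < 103810 → P i := stepQ 103809 Q103809 (allL N103809 (tt N82501 (iv1 F442921)) (tt N70476 F442920) (tt N67823 (iv2 D206999)) (tt N104396 (iv3 F445582)) (tt N69194 F442917) (tt N111921 (iv5 F478661)) (tt N83672 F442918) (tt N92120 F442919))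
theorem Q103811 : ∀ i, i < 103811 → P i := stepQ 103810 Q103810 (allL N103810 (tt N114415 F490043) (tt N120901 (iv0 F523375)) (tt N111261 (iv2 F475500)) (tt N104589 (iv3 F446427)) (tt N105671 (iv4 F451182)) (tt N67824 (iv5 D207000)) (tt N102588 F442922) (tt N104586 (iv7 F446424)))
theorem Q103812 : ∀ i, i < 103812 → P i := stepQ 103811 Q103811 (allL N103811 (tt N105217 (iv1 F449246)) (tt N105216 F449245) (tt N105218 (iv2 F449248)) (tt N85664 F442924) (tt N67825 (iv4 D207001)) (tt N120910 D224169) (tt N100810 F442923) (tt N105213 (iv7 F449229)))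
theorem Q103813 : ∀ i, i < 103813 → P i := stepQ 103812 Q103812 (allL N103812 (tt N82743 F442930) (tt N108441 (iv0 F462581)) (tt N103112 F442925) (tt N67828 F442926) (tt N83423 F442929) (tt N67826 (iv5 D207002)) (tt N77188 F442927) (tt N83422 F442928))
theorem Q103814 : ∀ i, i < 103814 → P i := stepQ 103813 Q103813 (allL N103813 (tt N93220 F442934) (tt N102575 (iv0 F442935)) (tt N97732 F442931) (tt N67827 (iv3 D207003)) (tt N68838 F442932) (tt N104429 (iv5 F445722)) (tt N97728 (iv6 F442936)) (tt N102573 F442933))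
theorem Q103815 : ∀ i, i < 103815 → P i := stepQ 103814 Q103814 (allL N103814 (tt N120901 (iv1 F523376)) (tt N114415 F490044) (tt N104586 (iv2 F446421)) (tt N104429 F445724) (tt N114412 (iv4 F490021)) (tt N67827 (iv5 D207004)) (tt N104584 (iv6 F446413)) (tt N111261 (iv7 F475504)))
theorem Q103816 : ∀ i, i < 103816 → P i := stepQ 103815 Q103815 (allL N103815 (tt N102719 F442940) (tt N120749 F522505) (tt N97792 F442937) (tt N97728 F442938) (tt N67829 F442939) (tt N105207 (iv5 F449207)) (tt N67827 (iv6 D207005)) (tt N119274 (iv7 F514762)))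
theorem Q103817 : ∀ i, i < 103817 → P i := stepQ 103816 Q103816 (allL N103816 (tt N67832 (iv1 D207006)) (tt N115554 (iv0 F495761)) (tt N114882 (iv2 F492322)) (tt N78967 (iv3 F442943)) (tt N81330 (iv4 F442942)) (tt N89792 F442944) (tt N114880 (iv6 F492311)) (tt N78963 F442941))
theorem Q103818 : ∀ i, i < 103818 → P i := stepQ 103817 Q103817 (allL N103817 (tt N119601 F516463) (tt N116780 (iv0 F501796)) (tt N104170 (iv2 F444518)) (tt N77649 F442945) (tt N70737 F442947) (tt N67832 (iv5 D207007)) (tt N70742 F442946) (tt N119476 (iv7 F515815)))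
theorem Q103819 : ∀ i, i < 103819 → P i := stepQ 103818 Q103818 (allL N103818 (tt N120799 (iv1 F522783)) (tt N120798 (iv0 F522778)) (tt N104370 (iv2 F445459)) (tt N120911 D224170) (tt N67839 (iv4 D207008)) (tt N118262 (iv5 F509418)) (tt N98026 F442949) (tt N104373 (iv7 F445478)))
theorem Q103820 : ∀ i, i < 103820 → P i := stepQ 103819 Q103819 (allL N103819 (tt N104739 (iv1 F447061)) (tt N67841 (iv0 D207009)) (tt N104571 (iv2 F446330)) (tt N97364 F442951) (tt N77366 F442950) (tt N104566 F446304) (tt N75350 F442952) (tt N104569 (iv7 F446319)))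
theorem Q103821 : ∀ i, i < 103821 → P i := stepQ 103820 Q103820 (allL N103820 (tt N67841 (iv1 D207010)) (tt N104739 (iv0 F447063)) (tt N104569 (iv2 F446317)) (tt N120912 D224171) (tt N77363 F442953) (tt N104565 (iv5 F446295)) (tt N81045 F446296) (tt N104571 (iv7 F446332)))
theorem Q103822 : ∀ i, i < 103822 → P i := stepQ 103821 Q103821 (allL N103821 (tt N104783 F447250) (tt N67916 (iv0 F442958)) (tt N111101 (iv2 F474666)) (tt N67843 (iv3 D207011)) (tt N102612 F442957) (tt N81331 F442954) (tt N68006 F442955) (tt N67961 F442956))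
theorem Q103823 : ∀ i, i < 103823 → P i := stepQ 103822 Q103822 (allL N103822 (tt N105526 F450587) (tt N98715 (iv0 F442960)) (tt N103394 F442959) (tt N67847 (iv3 D207012)) (tt N105594 (iv4 F450900)) (tt N120862 (iv5 F523142)) (tt N120835 (iv6 F522991)) (tt N104625 (iv7 F446598)))
theorem Q103824 : ∀ i, i < 103824 → P i := stepQ 103823 Q103823 (allL N103823 (tt N102629 (iv1 F488825)) (tt N120631 F521856) (tt N104662 (iv2 F446753)) (tt N120835 (iv3 F522989)) (tt N120647 (iv4 F521942)) (tt N114095 (iv5 F488822)) (tt N67847 (iv6 D207013)) (tt N102553 F442961))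
theorem Q103825 : ∀ i, i < 103825 → P i := stepQ 103824 Q103824 (allL N103824 (tt N103644 F442964) (tt N103641 F442965) (tt N67849 F442962) (tt N67864 F442963) (tt N101368 F442966) (tt N67848 (iv5 D207014)) (tt N103516 (iv6 F442967)) (tt N104663 (iv7 F446757)))
theorem Q103826 : ∀ i, i < 103826 → P i := stepQ 103825 Q103825 (allL N103825 (tt N68923 F442972) (tt N68922 F442973) (tt N67850 F442968) (tt N67865 F442969) (tt N102285 F442970) (tt N68864 F442971) (tt N67848 (iv6 D207015)) (tt N68863 F442974))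
theorem Q103827 : ∀ i, i < 103827 → P i := stepQ 103826 Q103826 (allL N103826 (tt N104663 (iv1 F446760)) (tt N67849 (iv0 D207016)) (tt N103644 (iv2 F442976)) (tt N115018 F493074) (tt N119564 (iv4 F516278)) (tt N68856 F442975) (tt N119563 (iv6 F516272)) (tt N103641 (iv7 F442977)))
theorem Q103828 : ∀ i, i < 103828 → P i := stepQ 103827 Q103827 (allL N103827 (tt N67849 (iv1 D207017)) (tt N104663 (iv0 F446759)) (tt N103641 (iv2 F442983)) (tt N104710 (iv3 F446946)) (tt N120913 D224172) (tt N68857 F442979) (tt N104708 (iv6 F446945)) (tt N103644 F442978))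
theorem Q103829 : ∀ i, i < 103829 → P i := stepQ 103828 Q103828 (allL N103828 (tt N67880 (iv1 F442986)) (tt N67851 (iv0 D207018)) (tt N67877 F442988) (tt N95981 F442985) (tt N105969 (iv4 F452555)) (tt N102723 F442984) (tt N120914 D224173) (tt N67878 (iv7 F442987)))
theorem Q103830 : ∀ i, i < 103830 → P i := stepQ 103829 Q103829 (allL N103829 (tt N67851 (iv1 D207019)) (tt N67880 F442989) (tt N67878 F442995) (tt N96384 (iv3 F442991)) (tt N82298 (iv4 F442992)) (tt N103776 (iv5 F442994)) (tt N82297 (iv6 F442993)) (tt N67877 F442990))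
theorem Q103831 : ∀ i, i < 103831 → P i := stepQ 103830 Q103830 (allL N103830 (tt N68002 F443000) (tt N70568 F443001) (tt N67891 F442996) (tt N102513 F442997) (tt N69127 F442998) (tt N67855 (iv5 D207020)) (tt N69125 (iv6 F443002)) (tt N67894 F442999))
theorem Q103832 : ∀ i, i < 103832 → P i := stepQ 103831 Q103831 (allL N103831 (tt N82297 F443006) (tt N67875 F443007) (tt N90067 F443003) (tt N109155 (iv3 F465608)) (tt N76090 F443004) (tt N67856 (iv5 D207021)) (tt N95985 (iv6 F443008)) (tt N76089 F443005))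
theorem Q103833 : ∀ i, i < 103833 → P i := stepQ 103832 Q103832 (allL N103832 (tt N104679 (iv1 F446838)) (tt N67861 (iv0 F443012)) (tt N94642 F443009) (tt N67857 (iv3 D207022)) (tt N111128 (iv4 F474819)) (tt N90066 F443010) (tt N114950 (iv6 F492723)) (tt N98716 F443011))
theorem Q103834 : ∀ i, i < 103834 → P i := stepQ 103833 Q103833 (allL N103833 (tt N105941 (iv1 F452436)) (tt N105940 F452440) (tt N105942 (iv2 F452437)) (tt N67860 F443013) (tt N91894 F443014) (tt N67859 (iv5 D207023)) (tt N106403 (iv6 F454310)) (tt N70707 F443015))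
theorem Q103835 : ∀ i, i < 103835 → P i := stepQ 103834 Q103834 (allL N103834 (tt N120709 (iv1 F522271)) (tt N120706 (iv0 F522255)) (tt N104678 (iv2 F446833)) (tt N111052 (iv3 F474431)) (tt N67860 (iv4 D207024)) (tt N103767 F443016) (tt N106412 (iv6 F454332)) (tt N104740 (iv7 F447067)))
theorem Q103836 : ∀ i, i < 103836 → P i := stepQ 103835 Q103835 (allL N103835 (tt N67861 (iv1 D207025)) (tt N104679 F446839) (tt N98716 (iv2 F443019)) (tt N105526 (iv3 F450582)) (tt N69760 (iv4 F443018)) (tt N94643 (iv5 F443020)) (tt N116272 (iv6 F499298)) (tt N94642 F443017))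
theorem Q103837 : ∀ i, i < 103837 → P i := stepQ 103836 Q103836 (allL N103836 (tt N102529 (iv1 F443023)) (tt N98634 F443022) (tt N67862 (iv2 D207026)) (tt N104679 (iv3 F446835)) (tt N70663 F443021) (tt N118062 (iv5 F508366)) (tt N92617 (iv6 F443024)) (tt N104684 (iv7 F446859)))
theorem Q103838 : ∀ i, i < 103838 → P i := stepQ 103837 Q103837 (allL N103837 (tt N79976 F443029) (tt N92619 F443030) (tt N92617 F443025) (tt N67863 F443026) (tt N97902 F443027) (tt N117040 (iv5 F503089)) (tt N67862 (iv6 D207027)) (tt N92616 F443028))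
theorem Q103839 : ∀ i, i < 103839 → P i := stepQ 103838 Q103838 (allL N103838 (tt N111913 (iv1 F478616)) (tt N120908 F523403) (tt N104683 (iv2 F446854)) (tt N117040 (iv3 F503091)) (tt N102974 F443031) (tt N67863 (iv5 D207028)) (tt N112904 (iv6 F483211)) (tt N104742 (iv7 F447076)))
theorem Q103840 : ∀ i, i < 103840 → P i := stepQ 103839 Q103839 (allL N103839 (tt N104706 F446938) (tt N120915 D224174) (tt N67869 F443032) (tt N103516 F443033) (tt N101364 F443034) (tt N103515 F443035) (tt N67864 (iv6 D207029)) (tt N103653 (iv7 F443036)))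
theorem Q103841 : ∀ i, i < 103841 → P i := stepQ 103840 Q103840 (allL N103840 (tt N90066 F443040) (tt N94643 (iv0 F443041)) (tt N94640 (iv2 F445977)) (tt N67866 (iv3 D207030)) (tt N120548 (iv4 F521387)) (tt N68899 F443038) (tt N103657 (iv6 F443042)) (tt N94639 F443039))
theorem Q103842 : ∀ i, i < 103842 → P i := stepQ 103841 Q103841 (allL N103841 (tt N75579 F443047) (tt N75581 F443048) (tt N103714 F443043) (tt N103657 F443044) (tt N75111 F443045) (tt N75058 F443046) (tt N67866 (iv6 D207031)) (tt N97959 (iv7 F443049)))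
theorem Q103843 : ∀ i, i < 103843 → P i := stepQ 103842 Q103842 (allL N103842 (tt N88899 F443054) (tt N83923 F443055) (tt N82256 F443050) (tt N100644 F443051) (tt N67867 (iv4 D207032)) (tt N100531 F443052) (tt N113101 (iv6 F483975)) (tt N88900 F443053))
theorem Q103844 : ∀ i, i < 103844 → P i := stepQ 103843 Q103843 (allL N103843 (tt N120109 (iv1 F519094)) (tt N120108 (iv0 F519088)) (tt N103712 F443056) (tt N109430 (iv3 F466917)) (tt N113101 (iv4 F483973)) (tt N109428 (iv5 F466912)) (tt N67867 (iv6 D207033)) (tt N120916 D224175))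
theorem Q103845 : ∀ i, i < 103845 → P i := stepQ 103844 Q103844 (allL N103844 (tt N119985 F518396) (tt N118626 (iv0 F511208)) (tt N101364 F443057) (tt N106235 (iv3 F453704)) (tt N67869 F443058) (tt N69614 F443059) (tt N67868 (iv6 D207034)) (tt N120917 D224176))
theorem Q103846 : ∀ i, i < 103846 → P i := stepQ 103845 Q103845 (allL N103845 (tt N103653 (iv1 F443073)) (tt N67869 (iv0 D207035)) (tt N104706 (iv2 F446936)) (tt N120918 D224177) (tt N116774 F501761) (tt N104543 (iv5 F446198)) (tt N104669 (iv6 F446791)) (tt N120915 (iv7 F523447)))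
theorem Q103847 : ∀ i, i < 103847 → P i := stepQ 103846 Q103846 (allL N103846 (tt N67869 (iv1 D207036)) (tt N103653 F443060) (tt N120915 (iv2 F523452)) (tt N98645 F443190) (tt N116773 (iv4 F501754)) (tt N120919 D224178) (tt N118627 F511212) (tt N104706 F446940))
theorem Q103848 : ∀ i, i < 103848 → P i := stepQ 103847 Q103847 (allL N103847 (tt N102431 F443066) (tt N103652 F443067) (tt N103515 F443061) (tt N67879 F443062) (tt N102560 (iv4 F443064)) (tt N67869 (iv5 D207037)) (tt N67872 F443063) (tt N103647 (iv7 F443065)))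
theorem Q103849 : ∀ i, i < 103849 → P i := stepQ 103848 Q103848 (allL N103848 (tt N120915 (iv1 F523446)) (tt N104706 F446939) (tt N103653 F443070) (tt N67880 F443071) (tt N120917 (iv4 F523461)) (tt N103647 F443072) (tt N104692 (iv6 F446894)) (tt N67869 (iv7 D207038)))
theorem Q103850 : ∀ i, i < 103850 → P i := stepQ 103849 Q103849 (allL N103849 (tt N120752 F522526) (tt N116272 (iv0 F499300)) (tt N105220 (iv2 F449256)) (tt N67870 (iv3 D207039)) (tt N95859 F443074) (tt N107090 (iv5 F456920)) (tt N95858 F443075) (tt N103786 F443076))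
theorem Q103851 : ∀ i, i < 103851 → P i := stepQ 103850 Q103850 (allL N103850 (tt N119496 F515907) (tt N119478 (iv0 F515824)) (tt N119009 (iv2 F513260)) (tt N67871 (iv3 D207040)) (tt N83669 F443077) (tt N120584 (iv5 F521590)) (tt N83668 F443078) (tt N119010 (iv7 F513268)))
theorem Q103852 : ∀ i, i < 103852 → P i := stepQ 103851 Q103851 (allL N103851 (tt N68860 (iv1 F443081)) (tt N67872 (iv0 D207041)) (tt N103545 (iv2 F443082)) (tt N120920 D224179) (tt N68930 F443080) (tt N102283 F443079) (tt N115805 (iv6 F496983)) (tt N103543 (iv7 F443083)))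
theorem Q103853 : ∀ i, i < 103853 → P i := stepQ 103852 Q103852 (allL N103852 (tt N67872 (iv1 D207042)) (tt N68860 F443084) (tt N103543 (iv2 F443088)) (tt N120813 (iv3 F522864)) (tt N68927 F443087) (tt N102284 F443086) (tt N68918 F443089) (tt N103545 F443085))
theorem Q103854 : ∀ i, i < 103854 → P i := stepQ 103853 Q103853 (allL N103853 (tt N103694 (iv1 F443096)) (tt N103693 F443095) (tt N67873 (iv2 D207043)) (tt N82297 F443090) (tt N82299 F443091) (tt N68891 F443092) (tt N96384 F443093) (tt N101476 F443094))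
theorem Q103855 : ∀ i, i < 103855 → P i := stepQ 103854 Q103854 (allL N103854 (tt N95981 (iv1 F443099)) (tt N67874 (iv0 D207044)) (tt N95985 (iv2 F443100)) (tt N118142 (iv3 F508828)) (tt N90068 F443097) (tt N106522 (iv5 F454762)) (tt N90067 F443098) (tt N90115 (iv7 F443101)))
theorem Q103856 : ∀ i, i < 103856 → P i := stepQ 103855 Q103855 (allL N103855 (tt N67874 (iv1 D207045)) (tt N95981 F443102) (tt N90115 (iv2 F443107)) (tt N75581 (iv3 F443106)) (tt N90044 F443105) (tt N97865 F443104) (tt N90043 (iv6 F443108)) (tt N95985 F443103))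
theorem Q103857 : ∀ i, i < 103857 → P i := stepQ 103856 Q103856 (allL N103856 (tt N120819 (iv1 F522904)) (tt N120921 D224180) (tt N101477 F443109) (tt N67876 F443110) (tt N101474 F443111) (tt N104667 F446783) (tt N67875 (iv6 D207046)) (tt N120914 (iv7 F523443)))
theorem Q103858 : ∀ i, i < 103858 → P i := stepQ 103857 Q103857 (allL N103857 (tt N95988 (iv1 F443119)) (tt N67876 (iv0 D207047)) (tt N103698 F453472) (tt N120109 (iv3 F519091)) (tt N105340 (iv4 F449779)) (tt N120373 (iv5 F520437)) (tt N105342 (iv6 F449787)) (tt N103699 (iv7 F453473)))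
theorem Q103859 : ∀ i, i < 103859 → P i := stepQ 103858 Q103858 (allL N103858 (tt N67876 (iv1 D207048)) (tt N95988 F443112) (tt N103699 (iv2 F453475)) (tt N114410 (iv3 F490011)) (tt N106247 F453750) (tt N114409 (iv5 F490008)) (tt N120921 F523488) (tt N103698 F453474))
theorem Q103860 : ∀ i, i < 103860 → P i := stepQ 103859 Q103859 (allL N103859 (tt N116218 (iv1 F499076)) (tt N116217 F499073) (tt N103700 F443113) (tt N104667 (iv3 F446785)) (tt N71934 (iv4 F443115)) (tt N67876 (iv5 D207049)) (tt N68898 F443114) (tt N116216 (iv7 F499067)))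
theorem Q103861 : ∀ i, i < 103861 → P i := stepQ 103860 Q103860 (allL N103860 (tt N103699 (iv1 F443120)) (tt N103698 F443121) (tt N95988 F443116) (tt N120914 (iv3 F523440)) (tt N95982 F443117) (tt N116216 (iv5 F499065)) (tt N95981 F443118) (tt N67876 (iv7 D207050)))
theorem Q103862 : ∀ i, i < 103862 → P i := stepQ 103861 Q103861 (allL N103861 (tt N96392 (iv1 F443125)) (tt N96391 F443127) (tt N95986 F443122) (tt N67877 (iv3 D207051)) (tt N95704 F443123) (tt N117941 (iv5 F507704)) (tt N101935 (iv6 F443126)) (tt N96384 F443124))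
theorem Q103863 : ∀ i, i < 103863 → P i := stepQ 103862 Q103862 (allL N103862 (tt N102792 F443131) (tt N120741 (iv0 F522459)) (tt N102723 F443128) (tt N117941 (iv3 F507706)) (tt N102289 F443130) (tt N67877 (iv5 D207052)) (tt N96990 F443132) (tt N103776 F443129))
theorem Q103864 : ∀ i, i < 103864 → P i := stepQ 103863 Q103863 (allL N103863 (tt N120921 (iv1 F523483)) (tt N120819 (iv0 F522905)) (tt N120914 (iv2 F523439)) (tt N101935 F443134) (tt N101481 F443135) (tt N104666 (iv5 F446774)) (tt N67877 (iv6 D207053)) (tt N101477 F443136))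
theorem Q103865 : ∀ i, i < 103865 → P i := stepQ 103864 Q103864 (allL N103864 (tt N120741 (iv1 F522460)) (tt N102792 F443142) (tt N103776 F443137) (tt N71493 F443138) (tt N70120 F443139) (tt N67878 (iv5 D207054)) (tt N103709 F443140) (tt N102723 F443141))
theorem Q103866 : ∀ i, i < 103866 → P i := stepQ 103865 Q103865 (allL N103865 (tt N106149 (iv1 F453351)) (tt N67881 (iv0 D207055)) (tt N106151 (iv2 F453364)) (tt N119478 (iv3 F515822)) (tt N98018 F443143) (tt N119501 (iv5 F515933)) (tt N98017 (iv6 F443144)) (tt N104676 (iv7 F446828)))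
theorem Q103867 : ∀ i, i < 103867 → P i := stepQ 103866 Q103866 (allL N103866 (tt N106151 (iv1 F466941)) (tt N104676 F466943) (tt N67881 (iv2 D207057)) (tt N109145 (iv3 F465554)) (tt N83011 F443145) (tt N111254 (iv5 F475458)) (tt N109143 F465547) (tt N106149 (iv7 F453352)))
theorem Q103868 : ∀ i, i < 103868 → P i := stepQ 103867 Q103867 (allL N103867 (tt N117978 (iv1 F507893)) (tt N117971 (iv0 F507855)) (tt N109143 (iv2 F465544)) (tt N67882 F443146) (tt N102145 F443147) (tt N119499 (iv5 F515923)) (tt N67881 (iv6 D207058)) (tt N117977 (iv7 F507882)))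
theorem Q103869 : ∀ i, i < 103869 → P i := stepQ 103868 Q103868 (allL N103868 (tt N119501 F515934) (tt N106150 (iv0 F453359)) (tt N120922 D224181) (tt N67884 (iv3 D207059)) (tt N104940 (iv4 F448038)) (tt N102439 F443148) (tt N120275 (iv6 F519966)) (tt N103550 F443149))
theorem Q103870 : ∀ i, i < 103870 → P i := stepQ 103869 Q103869 (allL N103869 (tt N80312 (iv1 F464202)) (tt N120923 D224182) (tt N103553 F443150) (tt N120275 (iv3 F519965)) (tt N108838 F464201) (tt N120924 D224183) (tt N67884 (iv6 D207060)) (tt N103546 F443151))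
theorem Q103871 : ∀ i, i < 103871 → P i := stepQ 103870 Q103870 (allL N103870 (tt N109154 F465606) (tt N113795 (iv0 F487149)) (tt N103779 F443156) (tt N67885 (iv3 D207061)) (tt N71851 F443152) (tt N102438 F443153) (tt N103542 F443154) (tt N103551 F443155))
theorem Q103872 : ∀ i, i < 103872 → P i := stepQ 103871 Q103871 (allL N103871 (tt N120654 (iv1 F521984)) (tt N120696 (iv0 F522205)) (tt N120925 D224184) (tt N67889 (iv3 D207062)) (tt N69900 F443157) (tt N103672 F443166) (tt N104714 (iv6 F446959)) (tt N69883 F443158))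
theorem Q103873 : ∀ i, i < 103873 → P i := stepQ 103872 Q103872 (allL N103872 (tt N68982 F443162) (tt N68984 F443163) (tt N103561 F443159) (tt N103672 (iv3 F443165)) (tt N80283 F443160) (tt N67889 (iv5 D207063)) (tt N68962 F443164) (tt N69885 F443161))
theorem Q103874 : ∀ i, i < 103874 → P i := stepQ 103873 Q103873 (allL N103873 (tt N113139 (iv1 F484149)) (tt N67890 (iv0 D207064)) (tt N106131 (iv2 F453272)) (tt N115399 (iv3 F494995)) (tt N111252 (iv4 F475445)) (tt N106128 F453259) (tt N104715 (iv6 F453260)) (tt N104439 (iv7 F453261)))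
theorem Q103875 : ∀ i, i < 103875 → P i := stepQ 103874 Q103874 (allL N103874 (tt N106131 F453275) (tt N104439 (iv0 F445773)) (tt N67890 (iv2 D207065)) (tt N113033 F483644) (tt N93010 F443168) (tt N102490 (iv5 F443169)) (tt N109125 (iv6 F465442)) (tt N113139 (iv7 F484147)))
theorem Q103876 : ∀ i, i < 103876 → P i := stepQ 103875 Q103875 (allL N103875 (tt N102488 F443174) (tt N102491 (iv0 F443175)) (tt N102490 F443170) (tt N67891 F443171) (tt N95853 F443173) (tt N67890 (iv5 D207066)) (tt N95852 (iv6 F443176)) (tt N102489 F443172))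
theorem Q103877 : ∀ i, i < 103877 → P i := stepQ 103876 Q103876 (allL N103876 (tt N97807 (iv1 F443180)) (tt N74840 (iv0 F443179)) (tt N109125 F465445) (tt N67892 F443177) (tt N92624 F443178) (tt N119041 (iv5 F513447)) (tt N67890 (iv6 D207067)) (tt N109126 (iv7 F465448)))
theorem Q103878 : ∀ i, i < 103878 → P i := stepQ 103877 Q103877 (allL N103877 (tt N120926 D224185) (tt N103880 (iv0 F443198)) (tt N69125 F443181) (tt N95852 F443182) (tt N69121 F443183) (tt N119043 (iv5 F513459)) (tt N67891 (iv6 D207068)) (tt N69129 (iv7 F443184)))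
theorem Q103879 : ∀ i, i < 103879 → P i := stepQ 103878 Q103878 (allL N103878 (tt N69810 F443188) (tt N94966 F443189) (tt N94674 F443185) (tt N119041 (iv3 F513444)) (tt N94672 F443186) (tt N67892 (iv5 D207069)) (tt N119043 (iv6 F513460)) (tt N94960 F443187))
theorem Q103880 : ∀ i, i < 103880 → P i := stepQ 103879 Q103879 (allL N103879 (tt N68970 F443194) (tt N68964 F443195) (tt N103746 F443191) (tt N93238 F443192) (tt N109493 (iv4 F467257)) (tt N67895 (iv5 D207070)) (tt N120927 D224186) (tt N69274 F443193))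
theorem Q103881 : ∀ i, i < 103881 → P i := stepQ 103880 Q103880 (allL N103880 (tt N103877 F443198) (tt N104731 (iv0 F447029)) (tt N104726 (iv2 F447001)) (tt N93239 F443196) (tt N69232 F443197) (tt N98531 (iv5 F443199)) (tt N67895 (iv6 D207071)) (tt N104732 (iv7 F447031)))
theorem Q103882 : ∀ i, i < 103882 → P i := stepQ 103881 Q103881 (allL N103881 (tt N67908 (iv1 F443205)) (tt N67911 (iv0 F443204)) (tt N69275 F443200) (tt N88711 F443201) (tt N69272 F443202) (tt N102492 (iv5 F443203)) (tt N67896 (iv6 D207072)) (tt N113131 (iv7 F484118)))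
theorem Q103883 : ∀ i, i < 103883 → P i := stepQ 103882 Q103882 (allL N103882 (tt N116025 (iv1 F498114)) (tt N116000 (iv0 F497986)) (tt N104729 (iv2 F447017)) (tt N120811 (iv3 F522851)) (tt N120766 (iv4 F522594)) (tt N67900 (iv5 D207073)) (tt N116355 F499688) (tt N104753 (iv7 F447109)))
theorem Q103884 : ∀ i, i < 103884 → P i := stepQ 103883 Q103883 (allL N103883 (tt N67911 (iv1 F443207)) (tt N67908 (iv0 D207074)) (tt N113131 F484121) (tt N113141 (iv3 F484154)) (tt N69281 F443206) (tt N120652 (iv5 F521968)) (tt N104732 F447034) (tt N69275 F443208))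
theorem Q103885 : ∀ i, i < 103885 → P i := stepQ 103884 Q103884 (allL N103884 (tt N102500 F443211) (tt N106136 (iv0 F453300)) (tt N104541 (iv2 F446189)) (tt N88736 F443209) (tt N102562 F443210) (tt N67908 (iv5 D207075)) (tt N120928 D224187) (tt N104542 (iv7 F446196)))
theorem Q103886 : ∀ i, i < 103886 → P i := stepQ 103885 Q103885 (allL N103885 (tt N117755 F506809) (tt N117760 F506838) (tt N117759 (iv2 F506831)) (tt N67911 (iv3 D207076)) (tt N103481 F443212) (tt N117947 (iv5 F507734)) (tt N102573 F443213) (tt N117758 F506825))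
theorem Q103887 : ∀ i, i < 103887 → P i := stepQ 103886 Q103886 (allL N103886 (tt N106136 (iv1 F453301)) (tt N102500 F443215) (tt N104542 (iv2 F446193)) (tt N117947 (iv3 F507732)) (tt N102565 F443214) (tt N67911 (iv5 D207077)) (tt N109024 F465462) (tt N104541 (iv7 F446190)))
theorem Q103888 : ∀ i, i < 103888 → P i := stepQ 103887 Q103887 (allL N103887 (tt N104109 (iv1 F444220)) (tt N86342 F443219) (tt N70485 F443216) (tt N107655 (iv3 F459103)) (tt N105620 (iv4 F450996)) (tt N67915 (iv5 D207078)) (tt N73711 F443217) (tt N70484 F443218))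
theorem Q103889 : ∀ i, i < 103889 → P i := stepQ 103888 Q103888 (allL N103888 (tt N114453 (iv1 F490250)) (tt N81322 (iv0 F443222)) (tt N118647 (iv2 F511323)) (tt N67917 F443220) (tt N109114 (iv4 F465402)) (tt N67916 (iv5 D207079)) (tt N82032 F443221) (tt N113032 (iv7 F483636)))
theorem Q103890 : ∀ i, i < 103890 → P i := stepQ 103889 Q103889 (allL N103889 (tt N67920 (iv1 D207080)) (tt N76907 F443223) (tt N80848 (iv2 F443228)) (tt N101694 (iv3 F443227)) (tt N88641 F443225) (tt N86380 F443226) (tt N109297 (iv6 F466254)) (tt N80846 F443224))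
theorem Q103891 : ∀ i, i < 103891 → P i := stepQ 103890 Q103890 (allL N103890 (tt N80639 F443234) (tt N103101 (iv0 F443235)) (tt N100487 F443229) (tt N67924 F443230) (tt N81040 F443231) (tt N91320 F443232) (tt N67922 (iv6 D207081)) (tt N80295 F443233))
theorem Q103892 : ∀ i, i < 103892 → P i := stepQ 103891 Q103891 (allL N103891 (tt N83676 (iv1 F443241)) (tt N78912 (iv0 F443240)) (tt N104757 (iv2 F447126)) (tt N92162 F443236) (tt N70476 F443237) (tt N86126 F443238) (tt N67931 (iv6 D207082)) (tt N102846 F443239))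
theorem Q103893 : ∀ i, i < 103893 → P i := stepQ 103892 Q103892 (allL N103892 (tt N101765 F443246) (tt N83104 F443247) (tt N101766 F443242) (tt N96698 F443243) (tt N105576 (iv4 F450813)) (tt N67932 (iv5 D207083)) (tt N96696 F443244) (tt N101471 F443245))
theorem Q103894 : ∀ i, i < 103894 → P i := stepQ 103893 Q103893 (allL N103893 (tt N85047 F443249) (tt N92132 F443250) (tt N67945 F443248) (tt N103287 F443251) (tt N67937 (iv4 D207084)) (tt N104769 (iv5 F447178)) (tt N113854 (iv6 F487470)) (tt N104159 (iv7 F444474)))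
theorem Q103895 : ∀ i, i < 103895 → P i := stepQ 103894 Q103894 (allL N103894 (tt N69372 F443253) (tt N105782 F451695) (tt N67946 F443252) (tt N105896 (iv3 F452237)) (tt N113854 (iv4 F487467)) (tt N113593 (iv5 F486199)) (tt N67937 (iv6 D207085)) (tt N105781 (iv7 F451684)))
theorem Q103896 : ∀ i, i < 103896 → P i := stepQ 103895 Q103895 (allL N103895 (tt N104079 (iv1 F444073)) (tt N104078 (iv0 F444067)) (tt N67948 F443254) (tt N105897 (iv3 F452242)) (tt N113594 (iv4 F486205)) (tt N67938 (iv5 D207086)) (tt N113593 F486202) (tt N83753 F443255))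
theorem Q103897 : ∀ i, i < 103897 → P i := stepQ 103896 Q103896 (allL N103896 (tt N67945 (iv1 D207087)) (tt N104159 (iv0 F444475)) (tt N92132 (iv2 F443258)) (tt N94478 (iv3 F443259)) (tt N69397 F443257) (tt N110259 (iv5 F470683)) (tt N72000 (iv6 F443260)) (tt N85047 F443256))
theorem Q103898 : ∀ i, i < 103898 → P i := stepQ 103897 Q103897 (allL N103897 (tt N87038 (iv1 F443263)) (tt N114326 (iv0 F489624)) (tt N113854 (iv2 F487465)) (tt N88697 F443264) (tt N67946 F443261) (tt N86286 F443262) (tt N67945 (iv6 D207088)) (tt N113103 (iv7 F483983)))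
theorem Q103899 : ∀ i, i < 103899 → P i := stepQ 103898 Q103898 (allL N103898 (tt N105781 (iv1 F451688)) (tt N67946 (iv0 D207089)) (tt N69372 (iv2 F443268)) (tt N105780 (iv3 F451677)) (tt N115086 (iv4 F493416)) (tt N83805 F443267) (tt N104082 (iv6 F444087)) (tt N105782 (iv7 F451693)))
theorem Q103900 : ∀ i, i < 103900 → P i := stepQ 103899 Q103899 (allL N103899 (tt N68126 F443273) (tt N105783 (iv0 F451700)) (tt N113593 (iv2 F486197)) (tt N70033 F443269) (tt N86282 F443271) (tt N67946 (iv5 D207090)) (tt N67948 F443270) (tt N83755 F443272))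
theorem Q103901 : ∀ i, i < 103901 → P i := stepQ 103900 Q103900 (allL N103900 (tt N105782 (iv1 F451694)) (tt N69372 (iv0 F443276)) (tt N105781 (iv2 F451687)) (tt N70034 F443274) (tt N113103 (iv4 F483984)) (tt N83755 F443275) (tt N104172 F444528) (tt N67946 (iv7 D207091)))
theorem Q103902 : ∀ i, i < 103902 → P i := stepQ 103901 Q103901 (allL N103901 (tt N83753 F443281) (tt N67948 (iv0 D207092)) (tt N104079 (iv2 F444070)) (tt N92671 (iv3 F443279)) (tt N74146 (iv4 F443280)) (tt N92668 F443277) (tt N74145 F443278) (tt N104078 (iv7 F444066)))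
theorem Q103903 : ∀ i, i < 103903 → P i := stepQ 103902 Q103902 (allL N103902 (tt N67948 (iv1 D207093)) (tt N83753 F443282) (tt N104078 (iv2 F444064)) (tt N105779 (iv3 F451676)) (tt N114856 (iv4 F492194)) (tt N97857 F443283) (tt N83749 (iv6 F443284)) (tt N104079 (iv7 F444071)))
theorem Q103904 : ∀ i, i < 103904 → P i := stepQ 103903 Q103903 (allL N103903 (tt N113561 F486040) (tt N113677 F486591) (tt N113594 (iv2 F486203)) (tt N69599 F443285) (tt N67948 (iv4 D207094)) (tt N81187 F443287) (tt N86282 F443286) (tt N69595 (iv7 F443288)))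
theorem Q103905 : ∀ i, i < 103905 → P i := stepQ 103904 Q103904 (allL N103904 (tt N104078 (iv1 F444068)) (tt N104079 (iv0 F444072)) (tt N83753 F443289) (tt N69587 F443290) (tt N69595 F443291) (tt N67949 F443292) (tt N69585 F443293) (tt N67948 (iv7 D207095)))
theorem Q103906 : ∀ i, i < 103906 → P i := stepQ 103905 Q103905 (allL N103905 (tt N91725 F443297) (tt N86289 F443298) (tt N101468 F443294) (tt N89740 F443295) (tt N113119 (iv4 F484051)) (tt N67952 (iv5 D207096)) (tt N98442 (iv6 F443299)) (tt N101741 F443296))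
theorem Q103907 : ∀ i, i < 103907 → P i := stepQ 103906 Q103906 (allL N103906 (tt N112537 F481566) (tt N101760 (iv0 F443304)) (tt N81205 F443300) (tt N100002 F443301) (tt N67954 (iv4 D207097)) (tt N100963 (iv5 F443305)) (tt N81196 F443302) (tt N101103 F443303))
theorem Q103908 : ∀ i, i < 103908 → P i := stepQ 103907 Q103907 (allL N103907 (tt N101760 F443312) (tt N112537 (iv0 F481565)) (tt N101103 F443308) (tt N101881 F443309) (tt N67955 (iv4 D207098)) (tt N110060 F469789) (tt N101101 F443310) (tt N81205 F443311))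
theorem Q103909 : ∀ i, i < 103909 → P i := stepQ 103908 Q103908 (allL N103908 (tt N104564 (iv1 F446294)) (tt N104563 (iv0 F446286)) (tt N67980 F443313) (tt N112867 (iv3 F483043)) (tt N101860 F443314) (tt N67962 (iv5 D207099)) (tt N94793 F443315) (tt N67978 F443316))
theorem Q103910 : ∀ i, i < 103910 → P i := stepQ 103909 Q103909 (allL N103909 (tt N67975 (iv1 F443321)) (tt N67967 (iv0 D207100)) (tt N67972 (iv2 F443319)) (tt N104694 (iv3 F446900)) (tt N91790 F443317) (tt N103008 F443318) (tt N104777 (iv6 F447214)) (tt N67973 F443320))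
theorem Q103911 : ∀ i, i < 103911 → P i := stepQ 103910 Q103910 (allL N103910 (tt N75938 F443328) (tt N100664 F443327) (tt N67974 F443322) (tt N81292 F443323) (tt N88439 F443324) (tt N67967 (iv5 D207101)) (tt N81289 F443325) (tt N99583 F443326))
theorem Q103912 : ∀ i, i < 103912 → P i := stepQ 103911 Q103911 (allL N103911 (tt N67973 (iv1 F443333)) (tt N67972 F443334) (tt N67975 F443329) (tt N111101 (iv3 F474667)) (tt N69963 F443330) (tt N99583 F443331) (tt N71016 F443332) (tt N67967 (iv7 D207102)))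
theorem Q103913 : ∀ i, i < 103913 → P i := stepQ 103912 Q103912 (allL N103912 (tt N104099 (iv1 F444177)) (tt N71409 F443339) (tt N69962 F443335) (tt N113974 F488033) (tt N100049 F443338) (tt N67970 (iv5 D207103)) (tt N99961 F443336) (tt N72106 F443337))
theorem Q103914 : ∀ i, i < 103914 → P i := stepQ 103913 Q103913 (allL N103913 (tt N75616 F443344) (tt N73638 F443342) (tt N104772 (iv2 F447190)) (tt N118428 (iv3 F510298)) (tt N103004 F443343) (tt N67973 (iv5 D207104)) (tt N75160 F443340) (tt N103008 F443341))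
theorem Q103915 : ∀ i, i < 103915 → P i := stepQ 103914 Q103914 (allL N103914 (tt N119490 (iv1 F515875)) (tt N79708 F443347) (tt N115410 (iv2 F495053)) (tt N67978 F443345) (tt N103446 F443348) (tt N67977 (iv5 D207105)) (tt N87774 F443346) (tt N112867 (iv7 F483045)))
theorem Q103916 : ∀ i, i < 103916 → P i := stepQ 103915 Q103915 (allL N103915 (tt N79574 F443351) (tt N79724 F443352) (tt N105171 (iv2 F449096)) (tt N112869 (iv3 F483052)) (tt N103448 F443350) (tt N67981 (iv5 D207106)) (tt N79714 F443354) (tt N105168 (iv7 F449081)))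
theorem Q103917 : ∀ i, i < 103917 → P i := stepQ 103916 Q103916 (allL N103916 (tt N84023 F443360) (tt N88776 (iv0 F443361)) (tt N88775 F443356) (tt N67992 F443357) (tt N69965 F443358) (tt N113051 (iv5 F483733)) (tt N67985 (iv6 D207107)) (tt N72098 F443359))
theorem Q103918 : ∀ i, i < 103918 → P i := stepQ 103917 Q103917 (allL N103917 (tt N96543 F443366) (tt N99358 (iv0 F443367)) (tt N96727 F443362) (tt N82000 F443363) (tt N67987 F443364) (tt N77495 F443365) (tt N67986 (iv6 D207108)) (tt N107906 (iv7 F460207)))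
theorem Q103919 : ∀ i, i < 103919 → P i := stepQ 103918 Q103918 (allL N103918 (tt N118781 F512033) (tt N102352 (iv0 F443371)) (tt N68008 F443368) (tt N79754 F443369) (tt N110904 (iv4 F473710)) (tt N103368 F443370) (tt N67988 (iv6 D207109)) (tt N105869 (iv7 F452096)))
theorem Q103920 : ∀ i, i < 103920 → P i := stepQ 103919 Q103919 (allL N103919 (tt N103387 F443375) (tt N98009 F443376) (tt N68010 F443372) (tt N113051 F483736) (tt N115702 (iv4 F496405)) (tt N67992 (iv5 D207110)) (tt N103368 F443373) (tt N103358 F443374))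
theorem Q103921 : ∀ i, i < 103921 → P i := stepQ 103920 Q103920 (allL N103920 (tt N117947 F507736) (tt N88738 (iv0 F443379)) (tt N118121 (iv2 F508718)) (tt N68002 F443377) (tt N68007 F443378) (tt N105757 (iv5 F451553)) (tt N68000 (iv6 D207111)) (tt N105756 F451550))
theorem Q103922 : ∀ i, i < 103922 → P i := stepQ 103921 Q103921 (allL N103921 (tt N81264 F443384) (tt N81340 (iv0 F443386)) (tt N80385 F443380) (tt N76017 F443381) (tt N68005 F443382) (tt N90649 F443385) (tt N68004 (iv6 D207112)) (tt N81293 F443383))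
theorem Q103923 : ∀ i, i < 103923 → P i := stepQ 103922 Q103922 (allL N103922 (tt N105869 F452097) (tt N68008 (iv0 D207113)) (tt N118781 (iv2 F512029)) (tt N103242 F443387) (tt N101512 (iv4 F443389)) (tt N104278 (iv5 F445078)) (tt N111593 F477066) (tt N102352 (iv7 F443388)))
theorem Q103924 : ∀ i, i < 103924 → P i := stepQ 103923 Q103923 (allL N103923 (tt N68008 (iv1 D207114)) (tt N105869 F452099) (tt N102352 (iv2 F452100)) (tt N111862 (iv3 F478366)) (tt N100545 (iv4 F452105)) (tt N104275 F452102) (tt N100544 F452103) (tt N118781 (iv7 F512031)))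
theorem Q103925 : ∀ i, i < 103925 → P i := stepQ 103924 Q103924 (allL N103924 (tt N97951 F443393) (tt N103369 F443394) (tt N103368 F443390) (tt N97005 F443391) (tt N111323 (iv4 F475823)) (tt N68008 (iv5 D207115)) (tt N68010 F443392) (tt N103360 F443395))
theorem Q103926 : ∀ i, i < 103926 → P i := stepQ 103925 Q103925 (allL N103925 (tt N102352 (iv1 F443400)) (tt N118781 (iv0 F512032)) (tt N105869 (iv2 F452094)) (tt N101707 F443397) (tt N107782 F459708) (tt N103360 F443398) (tt N80093 F443399) (tt N68008 (iv7 D207116)))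
theorem Q103927 : ∀ i, i < 103927 → P i := stepQ 103926 Q103926 (allL N103926 (tt N104274 F445066) (tt N93982 (iv0 F443402)) (tt N92929 F443401) (tt N104302 (iv3 F445137)) (tt N104092 (iv4 F444138)) (tt N68009 (iv5 D207117)) (tt N120399 (iv6 F520581)) (tt N104300 (iv7 F445135)))
theorem Q103928 : ∀ i, i < 103928 → P i := stepQ 103927 Q103927 (allL N103927 (tt N68010 (iv1 D207118)) (tt N103358 F443403) (tt N98009 (iv2 F443405)) (tt N103385 F443406) (tt N105850 (iv4 F452023)) (tt N115430 (iv5 F495155)) (tt N98008 F443407) (tt N103387 F443404))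
theorem Q103929 : ∀ i, i < 103929 → P i := stepQ 103928 Q103928 (allL N103928 (tt N105902 F452270) (tt N116292 (iv0 F499406)) (tt N115702 (iv2 F496403)) (tt N105907 (iv3 F452286)) (tt N68010 (iv4 D207119)) (tt N115474 (iv5 F495366)) (tt N111323 (iv6 F475820)) (tt N105871 F452117))
theorem Q103930 : ∀ i, i < 103930 → P i := stepQ 103929 Q103929 (allL N103929 (tt N104334 F445306) (tt N104402 F445617) (tt N104383 (iv2 F445520)) (tt N68027 (iv3 D207120)) (tt N72073 F443408) (tt N101717 F443411) (tt N82782 F443409) (tt N72069 F443410))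
theorem Q103931 : ∀ i, i < 103931 → P i := stepQ 103930 Q103930 (allL N103930 (tt N103296 (iv1 F443417)) (tt N97552 F443418) (tt N102363 F443412) (tt N101717 F443413) (tt N95677 F443414) (tt N68027 (iv5 D207121)) (tt N95676 F443415) (tt N103295 F443416))
theorem Q103932 : ∀ i, i < 103932 → P i := stepQ 103931 Q103931 (allL N103931 (tt N69166 F443423) (tt N69117 F443424) (tt N103802 F443420) (tt N103299 F443421) (tt N68030 (iv4 D207122)) (tt N116001 (iv5 F497990)) (tt N120716 (iv6 F522313)) (tt N103801 F443422))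
theorem Q103933 : ∀ i, i < 103933 → P i := stepQ 103932 Q103932 (allL N103932 (tt N104804 (iv1 F447368)) (tt N68538 (iv0 F443428)) (tt N104800 (iv2 F447341)) (tt N76590 F443425) (tt N68583 F443426) (tt N75440 F443427) (tt N68033 (iv6 D207123)) (tt N104801 (iv7 F447348)))
theorem Q103934 : ∀ i, i < 103934 → P i := stepQ 103933 Q103933 (allL N103933 (tt N80304 F447064) (tt N104803 (iv0 F447362)) (tt N76782 F443429) (tt N108725 (iv3 F463712)) (tt N104806 (iv4 F447378)) (tt N81045 F443430) (tt N68034 (iv6 D207124)) (tt N110535 (iv7 F472039)))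
theorem Q103935 : ∀ i, i < 103935 → P i := stepQ 103934 Q103934 (allL N103934 (tt N89737 F443436) (tt N68501 F443437) (tt N100145 F443431) (tt N68036 F443432) (tt N79725 F443433) (tt N80163 F443434) (tt N68035 (iv6 D207125)) (tt N81261 F443435))
theorem Q103936 : ∀ i, i < 103936 → P i := stepQ 103935 Q103935 (allL N103935 (tt N101399 F443441) (tt N101398 F443442) (tt N101066 F443438) (tt N105412 (iv3 F450137)) (tt N68037 (iv4 D207126)) (tt N102426 F443439) (tt N82887 (iv6 F443443)) (tt N101397 F443440))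
theorem Q103937 : ∀ i, i < 103937 → P i := stepQ 103936 Q103936 (allL N103936 (tt N86283 (iv1 F443450)) (tt N86285 (iv0 F443449)) (tt N101067 F443445) (tt N68279 F443446) (tt N82887 F443447) (tt N90406 F443448) (tt N68037 (iv6 D207127)) (tt N113847 (iv7 F487426)))
theorem Q103938 : ∀ i, i < 103938 → P i := stepQ 103937 Q103937 (allL N103937 (tt N111103 (iv1 F474679)) (tt N100073 (iv0 F443456)) (tt N79159 F443451) (tt N68283 F443452) (tt N68040 F443453) (tt N71479 F443454) (tt N71772 F443455) (tt N68038 (iv7 D207128)))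
theorem Q103939 : ∀ i, i < 103939 → P i := stepQ 103938 Q103938 (allL N103938 (tt N83101 F443457) (tt N116143 F498717) (tt N110263 (iv2 F470705)) (tt N116205 (iv3 F499002)) (tt N68039 (iv4 D207129)) (tt N110260 (iv5 F470687)) (tt N110406 (iv6 F471430)) (tt N110265 (iv7 F470722)))
theorem Q103940 : ∀ i, i < 103940 → P i := stepQ 103939 Q103939 (allL N103939 (tt N68538 F443460) (tt N104804 F447367) (tt N104801 (iv2 F447347)) (tt N68519 F443458) (tt N68041 (iv4 D207130)) (tt N75348 F443459) (tt N110535 (iv6 F472038)) (tt N104800 (iv7 F447344)))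
theorem Q103941 : ∀ i, i < 103941 → P i := stepQ 103940 Q103940 (allL N103940 (tt N109547 F478613) (tt N120924 (iv0 F523508)) (tt N120907 (iv2 F523396)) (tt N68049 F443461) (tt N115503 (iv4 F495530)) (tt N68048 (iv5 D207131)) (tt N106408 F454326) (tt N104813 (iv7 F447422)))
theorem Q103942 : ∀ i, i < 103942 → P i := stepQ 103941 Q103941 (allL N103941 (tt N102630 (iv1 F443463)) (tt N68049 (iv0 D207132)) (tt N103554 (iv2 F443464)) (tt N118184 F511160) (tt N120929 D224188) (tt N102440 F443462) (tt N120924 (iv6 F523506)) (tt N104814 (iv7 F447426)))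
theorem Q103943 : ∀ i, i < 103943 → P i := stepQ 103942 Q103942 (allL N103942 (tt N68049 (iv1 D207133)) (tt N102630 F443465) (tt N104814 F447424) (tt N117677 (iv3 F506371)) (tt N114166 (iv4 F495237)) (tt N68921 F443467) (tt N114165 F495235) (tt N103554 F443466))
theorem Q103944 : ∀ i, i < 103944 → P i := stepQ 103943 Q103943 (allL N103943 (tt N120930 D224189) (tt N120931 D224190) (tt N116024 (iv2 F498107)) (tt N115504 (iv3 F495533)) (tt N68049 (iv4 D207134)) (tt N120711 (iv5 F522282)) (tt N120932 D224191) (tt N104815 (iv7 F447427)))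
theorem Q103945 : ∀ i, i < 103945 → P i := stepQ 103944 Q103944 (allL N103944 (tt N120933 D224192) (tt N120934 D224193) (tt N120678 (iv2 F522097)) (tt N106408 (iv3 F454325)) (tt N120932 (iv4 F523554)) (tt N106407 (iv5 F454324)) (tt N68049 (iv6 D207135)) (tt N120935 D224194))
theorem Q103946 : ∀ i, i < 103946 → P i := stepQ 103945 Q103945 (allL N103945 (tt N102632 (iv1 F443471)) (tt N68050 (iv0 D207136)) (tt N68921 (iv2 F443470)) (tt N120936 D224195) (tt N71076 F443468) (tt N104814 (iv5 F447423)) (tt N68862 F443469) (tt N102440 F443472))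
theorem Q103947 : ∀ i, i < 103947 → P i := stepQ 103946 Q103946 (allL N103946 (tt N103553 (iv1 F443477)) (tt N103546 (iv0 F443476)) (tt N120923 (iv2 F523502)) (tt N68050 (iv3 D207137)) (tt N68051 F443473) (tt N120937 D224196) (tt N103579 F443474) (tt N80312 F443475))
theorem Q103948 : ∀ i, i < 103948 → P i := stepQ 103947 Q103947 (allL N103947 (tt N69079 F443480) (tt N69145 F443481) (tt N103765 F443478) (tt N120937 (iv3 F523571)) (tt N120710 (iv4 F522272)) (tt N68050 (iv5 D207138)) (tt N120938 D224197) (tt N103766 F443479))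
theorem Q103949 : ∀ i, i < 103949 → P i := stepQ 103948 Q103948 (allL N103948 (tt N68470 (iv1 F443487)) (tt N80311 F443486) (tt N68051 (iv2 D207139)) (tt N80308 F443482) (tt N120923 (iv4 F523499)) (tt N80293 F443483) (tt N68966 F443484) (tt N80308 F443485))
theorem Q103950 : ∀ i, i < 103950 → P i := stepQ 103949 Q103949 (allL N103949 (tt N94053 (iv1 F443490)) (tt N68056 (iv0 D207140)) (tt N82151 (iv2 F443489)) (tt N109141 (iv3 F465533)) (tt N118630 (iv4 F511225)) (tt N94576 F443488) (tt N112478 (iv6 F481252)) (tt N94052 F443491))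
theorem Q103951 : ∀ i, i < 103951 → P i := stepQ 103950 Q103950 (allL N103950 (tt N82151 (iv1 F443497)) (tt N94052 F443496) (tt N68056 (iv2 D207141)) (tt N82145 F443492) (tt N72636 F443493) (tt N109253 F466009) (tt N100384 F443494) (tt N94053 F443495))
theorem Q103952 : ∀ i, i < 103952 → P i := stepQ 103951 Q103951 (allL N103951 (tt N91335 F443503) (tt N87484 F443504) (tt N75259 F443498) (tt N90741 F443499) (tt N68057 (iv4 D207142)) (tt N87147 F443500) (tt N95293 F443501) (tt N87573 F443502))
theorem Q103953 : ∀ i, i < 103953 → P i := stepQ 103952 Q103952 (allL N103952 (tt N112478 (iv1 F481255)) (tt N110507 (iv0 F471900)) (tt N116142 (iv2 F498706)) (tt N68064 (iv3 D207143)) (tt N78079 F443505) (tt N74356 F443506) (tt N95773 F443507) (tt N94064 F443508))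
theorem Q103954 : ∀ i, i < 103954 → P i := stepQ 103953 Q103953 (allL N103953 (tt N90742 (iv1 F443511)) (tt N90741 F443512) (tt N90744 F443509) (tt N68066 (iv3 D207144)) (tt N103976 (iv4 F443618)) (tt N116040 (iv5 F498192)) (tt N108612 (iv6 F463241)) (tt N90738 F443510))
theorem Q103955 : ∀ i, i < 103955 → P i := stepQ 103954 Q103954 (allL N103954 (tt N98180 F443513) (tt N78103 (iv0 F443514)) (tt N104865 (iv2 F447692)) (tt N110795 F473211) (tt N68066 (iv4 D207145)) (tt N118014 (iv5 F508090)) (tt N107466 (iv6 F473596)) (tt N104864 (iv7 F447690)))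
theorem Q103956 : ∀ i, i < 103956 → P i := stepQ 103955 Q103955 (allL N103955 (tt N78103 F443517) (tt N98180 F443516) (tt N104864 (iv2 F447688)) (tt N78097 (iv3 F443518)) (tt N68067 (iv4 D207146)) (tt N118016 (iv5 F508104)) (tt N89253 F443515) (tt N104865 (iv7 F447693)))
theorem Q103957 : ∀ i, i < 103957 → P i := stepQ 103956 Q103956 (allL N103956 (tt N119094 (iv1 F513765)) (tt N86593 F443522) (tt N115324 (iv2 F494589)) (tt N68135 F443519) (tt N68069 (iv4 D207147)) (tt N98177 F443521) (tt N114847 (iv6 F492166)) (tt N86508 F443520))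
theorem Q103958 : ∀ i, i < 103958 → P i := stepQ 103957 Q103957 (allL N103957 (tt N104191 (iv1 F444617)) (tt N68071 (iv0 D207148)) (tt N104004 (iv2 F443745)) (tt N81595 F443592) (tt N69474 F443591) (tt N106818 (iv5 F455815)) (tt N113635 (iv6 F486410)) (tt N104007 (iv7 F443759)))
theorem Q103959 : ∀ i, i < 103959 → P i := stepQ 103958 Q103958 (allL N103958 (tt N68071 (iv1 D207149)) (tt N104191 F444616) (tt N104007 (iv2 F443758)) (tt N114824 (iv3 F492069)) (tt N69475 F443523) (tt N106817 (iv5 F455812)) (tt N119652 F516725) (tt N104004 (iv7 F443748)))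
theorem Q103960 : ∀ i, i < 103960 → P i := stepQ 103959 Q103959 (allL N103959 (tt N68098 F443529) (tt N104878 F447770) (tt N95394 F443524) (tt N68076 (iv3 D207150)) (tt N95794 F443525) (tt N87814 F443526) (tt N74070 F443527) (tt N99264 F443528))
theorem Q103961 : ∀ i, i < 103961 → P i := stepQ 103960 Q103960 (allL N103960 (tt N78268 F443535) (tt N99675 (iv0 F443533)) (tt N99676 F443530) (tt N84634 F443531) (tt N119266 (iv4 F514714)) (tt N84632 (iv5 F443534)) (tt N68078 (iv6 D207151)) (tt N91329 F443532))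
theorem Q103962 : ∀ i, i < 103962 → P i := stepQ 103961 Q103961 (allL N103961 (tt N91394 F443540) (tt N91389 (iv0 F443541)) (tt N68081 F443536) (tt N97624 F443537) (tt N92443 F443538) (tt N100692 F443542) (tt N68079 (iv6 D207152)) (tt N71049 F443539))
theorem Q103963 : ∀ i, i < 103963 → P i := stepQ 103962 Q103962 (allL N103962 (tt N111580 (iv1 F476997)) (tt N111579 F476993) (tt N100692 F443543) (tt N68083 F443544) (tt N111602 (iv4 F477117)) (tt N68081 (iv5 D207153)) (tt N108279 (iv6 F461843)) (tt N99708 F443545))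
theorem Q103964 : ∀ i, i < 103964 → P i := stepQ 103963 Q103963 (allL N103963 (tt N103396 (iv1 F443549)) (tt N83777 F443548) (tt N97626 F443546) (tt N108279 (iv3 F461842)) (tt N111671 (iv4 F477407)) (tt N68082 (iv5 D207154)) (tt N68083 F443547) (tt N106805 (iv7 F455754)))
theorem Q103965 : ∀ i, i < 103965 → P i := stepQ 103964 Q103964 (allL N103964 (tt N104001 F443729) (tt N96794 F443730) (tt N104195 (iv2 F444634)) (tt N108262 (iv3 F461756)) (tt N68134 F443550) (tt N106805 (iv5 F455753)) (tt N104191 (iv6 F444615)) (tt N68082 (iv7 D207155)))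
theorem Q103966 : ∀ i, i < 103966 → P i := stepQ 103965 Q103965 (allL N103965 (tt N68099 (iv1 F443553)) (tt N82115 (iv0 F443554)) (tt N104872 F447738) (tt N68084 (iv3 D207156)) (tt N78095 F443552) (tt N97279 F443551) (tt N120028 (iv6 F518641)) (tt N104867 (iv7 F447710)))
theorem Q103967 : ∀ i, i < 103967 → P i := stepQ 103966 Q103966 (allL N103966 (tt N72224 F443557) (tt N93738 F443558) (tt N104869 (iv2 F447719)) (tt N116796 (iv3 F501883)) (tt N68084 (iv4 D207157)) (tt N98254 F443556) (tt N120029 (iv6 F518647)) (tt N90371 F443555))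
theorem Q103968 : ∀ i, i < 103968 → P i := stepQ 103967 Q103967 (allL N103967 (tt N96005 F443561) (tt N90708 F443562) (tt N115515 (iv2 F495588)) (tt N68085 (iv3 D207158)) (tt N117497 (iv4 F505340)) (tt N97281 F443559) (tt N83159 F443560) (tt N104868 (iv7 F447716)))
theorem Q103969 : ∀ i, i < 103969 → P i := stepQ 103968 Q103968 (allL N103968 (tt N93738 F443566) (tt N72224 F443567) (tt N90371 F443563) (tt N72197 F443568) (tt N68085 (iv4 D207159)) (tt N89753 F443564) (tt N90368 F443565) (tt N104869 (iv7 F447720)))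
theorem Q103970 : ∀ i, i < 103970 → P i := stepQ 103969 Q103969 (allL N103969 (tt N97140 F443572) (tt N97151 (iv0 F443574)) (tt N68087 F443569) (tt N104197 (iv3 F444646)) (tt N87526 F443573) (tt N68086 (iv5 D207160)) (tt N87525 F443570) (tt N97148 F443571))
theorem Q103971 : ∀ i, i < 103971 → P i := stepQ 103970 Q103970 (allL N103970 (tt N112849 (iv1 F482951)) (tt N84678 (iv0 F443580)) (tt N87525 F443575) (tt N68089 F443576) (tt N86655 F443577) (tt N88469 F443578) (tt N68087 (iv6 D207161)) (tt N87396 F443579))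
theorem Q103972 : ∀ i, i < 103972 → P i := stepQ 103971 Q103971 (allL N103971 (tt N68089 (iv1 D207162)) (tt N88468 F443581) (tt N81569 F443585) (tt N111069 (iv3 F474511)) (tt N68138 F443582) (tt N81568 (iv5 F443584)) (tt N108499 F462859) (tt N104193 (iv7 F444625)))
theorem Q103973 : ∀ i, i < 103973 → P i := stepQ 103972 Q103972 (allL N103972 (tt N81569 (iv1 F443590)) (tt N104193 (iv0 F444626)) (tt N88468 F443586) (tt N87396 F443587) (tt N68129 F443588) (tt N83715 F443589) (tt N104199 (iv6 F444661)) (tt N68089 (iv7 D207163)))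
theorem Q103974 : ∀ i, i < 103974 → P i := stepQ 103973 Q103973 (allL N103973 (tt N101754 F443595) (tt N68114 F443598) (tt N75910 F443593) (tt N90704 F443594) (tt N110645 (iv4 F472567)) (tt N75854 (iv5 F443596)) (tt N68091 (iv6 D207164)) (tt N75901 F443597))
theorem Q103975 : ∀ i, i < 103975 → P i := stepQ 103974 Q103974 (allL N103974 (tt N74099 F443605) (tt N74091 (iv0 F443601)) (tt N74096 F443599) (tt N74348 F443600) (tt N110814 (iv4 F473280)) (tt N120939 D224198) (tt N68092 (iv6 D207165)) (tt N74097 (iv7 F443606)))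
theorem Q103976 : ∀ i, i < 103976 → P i := stepQ 103975 Q103975 (allL N103975 (tt N77868 F443614) (tt N77867 F443615) (tt N68094 F443609) (tt N77873 F443610) (tt N68093 (iv4 D207166)) (tt N78202 F443613) (tt N99041 F443611) (tt N77869 F443612))
theorem Q103977 : ∀ i, i < 103977 → P i := stepQ 103976 Q103976 (allL N103976 (tt N68094 (iv1 D207167)) (tt N77869 F443616) (tt N77867 (iv2 F443620)) (tt N82101 (iv3 F443621)) (tt N103953 F443618) (tt N97210 F443619) (tt N120940 D224199) (tt N77868 F443617))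
theorem Q103978 : ∀ i, i < 103978 → P i := stepQ 103977 Q103977 (allL N103977 (tt N107230 (iv1 F457561)) (tt N95632 (iv0 F443625)) (tt N112713 (iv2 F482313)) (tt N68096 F443622) (tt N82124 F443623) (tt N79884 F443624) (tt N68095 (iv6 D207168)) (tt N111143 (iv7 F474910)))
theorem Q103979 : ∀ i, i < 103979 → P i := stepQ 103978 Q103978 (allL N103978 (tt N68096 (iv1 D207169)) (tt N104199 F444662) (tt N104196 (iv2 F444641)) (tt N86848 (iv3 F443629)) (tt N68133 F443628) (tt N103409 F443627) (tt N115759 (iv6 F496707)) (tt N98278 F443626))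
theorem Q103980 : ∀ i, i < 103980 → P i := stepQ 103979 Q103979 (allL N103979 (tt N104196 F444645) (tt N98278 (iv0 F443632)) (tt N104199 (iv2 F444657)) (tt N111143 (iv3 F474907)) (tt N68125 F443630) (tt N117635 (iv5 F506125)) (tt N88468 F443631) (tt N68096 (iv7 D207170)))
theorem Q103981 : ∀ i, i < 103981 → P i := stepQ 103980 Q103980 (allL N103980 (tt N95394 (iv1 F443636)) (tt N99264 F443637) (tt N104878 (iv2 F447767)) (tt N82130 F443633) (tt N81832 F443634) (tt N96911 F443635) (tt N104871 (iv6 F447734)) (tt N68098 (iv7 D207171)))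
theorem Q103982 : ∀ i, i < 103982 → P i := stepQ 103981 Q103981 (allL N103981 (tt N82115 (iv1 F443639)) (tt N68099 (iv0 D207172)) (tt N104867 F447714) (tt N115515 (iv3 F495589)) (tt N78094 F443638) (tt N119329 (iv5 F515048)) (tt N115514 F495587) (tt N104872 (iv7 F447740)))
theorem Q103983 : ∀ i, i < 103983 → P i := stepQ 103982 Q103982 (allL N103982 (tt N84658 F443642) (tt N97142 F443643) (tt N110974 (iv2 F474028)) (tt N68100 F443640) (tt N115292 (iv4 F494420)) (tt N68099 (iv5 D207173)) (tt N79870 F443641) (tt N104874 (iv7 F447748)))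
theorem Q103984 : ∀ i, i < 103984 → P i := stepQ 103983 Q103983 (allL N103983 (tt N84655 (iv1 F443647)) (tt N90516 F443648) (tt N104871 (iv2 F447730)) (tt N78642 F443644) (tt N102763 F443645) (tt N78641 F443646) (tt N104878 (iv6 F447769)) (tt N68101 (iv7 D207174)))
theorem Q103985 : ∀ i, i < 103985 → P i := stepQ 103984 Q103984 (allL N103984 (tt N98124 F443652) (tt N104882 F447791) (tt N68105 F443649) (tt N79086 (iv3 F443653)) (tt N68102 (iv4 D207175)) (tt N75265 F443650) (tt N115768 (iv6 F496764)) (tt N78922 F443651))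
theorem Q103986 : ∀ i, i < 103986 → P i := stepQ 103985 Q103985 (allL N103985 (tt N119329 (iv1 F515050)) (tt N97279 (iv0 F443655)) (tt N110908 (iv2 F473733)) (tt N68104 (iv3 D207176)) (tt N115257 (iv4 F494239)) (tt N96220 F443654) (tt N86796 (iv6 F443656)) (tt N104880 (iv7 F447779)))
theorem Q103987 : ∀ i, i < 103987 → P i := stepQ 103986 Q103986 (allL N103986 (tt N97248 F443660) (tt N97264 F443661) (tt N104879 (iv2 F447772)) (tt N86796 F443657) (tt N115023 (iv4 F493087)) (tt N68820 F443658) (tt N68104 (iv6 D207177)) (tt N87629 F443659))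
theorem Q103988 : ∀ i, i < 103988 → P i := stepQ 103987 Q103987 (allL N103987 (tt N68105 (iv1 D207178)) (tt N78922 F443662) (tt N104882 F447790) (tt N78926 (iv3 F443666)) (tt N87483 F443665) (tt N92817 F443664) (tt N92986 F443667) (tt N98124 F443663))
theorem Q103989 : ∀ i, i < 103989 → P i := stepQ 103988 Q103988 (allL N103988 (tt N87477 F443671) (tt N87479 (iv0 F443672)) (tt N115768 (iv2 F496762)) (tt N78961 F443668) (tt N68106 F443669) (tt N82881 F443670) (tt N68105 (iv6 D207179)) (tt N115769 (iv7 F496773)))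
theorem Q103990 : ∀ i, i < 103990 → P i := stepQ 103989 Q103989 (allL N103989 (tt N90567 (iv1 F443679)) (tt N89220 (iv0 F443678)) (tt N81831 F443673) (tt N90530 F443674) (tt N81830 F443675) (tt N90566 F443676) (tt N68107 (iv6 D207180)) (tt N86966 F443677))
theorem Q103991 : ∀ i, i < 103991 → P i := stepQ 103990 Q103990 (allL N103990 (tt N109567 (iv1 F467563)) (tt N97282 (iv0 F443681)) (tt N115499 (iv2 F495506)) (tt N68110 (iv3 D207181)) (tt N115692 (iv4 F496345)) (tt N98081 F443680) (tt N120790 F522734) (tt N104932 (iv7 F448002)))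
theorem Q103992 : ∀ i, i < 103992 → P i := stepQ 103991 Q103991 (allL N103991 (tt N97250 F443683) (tt N118107 (iv0 F508638)) (tt N104931 (iv2 F447999)) (tt N120790 F522733) (tt N87593 F443682) (tt N104992 F448287) (tt N68110 (iv6 D207182)) (tt N115482 (iv7 F495414)))
theorem Q103993 : ∀ i, i < 103993 → P i := stepQ 103992 Q103992 (allL N103992 (tt N97240 F443684) (tt N116051 F498241) (tt N111750 (iv2 F477780)) (tt N68111 (iv3 D207183)) (tt N112446 (iv4 F481141)) (tt N108334 (iv5 F462120)) (tt N85730 F443692) (tt N104930 (iv7 F447997)))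
theorem Q103994 : ∀ i, i < 103994 → P i := stepQ 103993 Q103993 (allL N103993 (tt N86570 (iv1 F443690)) (tt N78536 F443691) (tt N88472 F443685) (tt N85730 (iv3 F443688)) (tt N97278 F443686) (tt N78521 F443687) (tt N68111 (iv6 D207184)) (tt N88471 (iv7 F443689)))
theorem Q103995 : ∀ i, i < 103995 → P i := stepQ 103994 Q103994 (allL N103994 (tt N75910 (iv1 F443695)) (tt N75901 F443694) (tt N68114 (iv2 D207185)) (tt N111792 (iv3 F477999)) (tt N106913 (iv4 F456256)) (tt N75918 (iv5 F443696)) (tt N118939 (iv6 F512858)) (tt N101754 F443693))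
theorem Q103996 : ∀ i, i < 103996 → P i := stepQ 103995 Q103995 (allL N103995 (tt N75858 F443703) (tt N75856 F443701) (tt N75918 F443697) (tt N68115 F443698) (tt N101748 F443700) (tt N68114 (iv5 D207186)) (tt N75918 F443702) (tt N75919 F443699))
theorem Q103997 : ∀ i, i < 103997 → P i := stepQ 103996 Q103996 (allL N103996 (tt N99277 F443706) (tt N99227 (iv0 F443707)) (tt N118939 F512859) (tt N68116 F443704) (tt N106914 (iv4 F456264)) (tt N118939 (iv5 F512855)) (tt N68114 (iv6 D207187)) (tt N74206 F443705))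
theorem Q103998 : ∀ i, i < 103998 → P i := stepQ 103997 Q103997 (allL N103997 (tt N97170 F443709) (tt N72139 F443710) (tt N108478 F462763) (tt N118939 (iv3 F512857)) (tt N117125 (iv4 F503517)) (tt N68116 (iv5 D207188)) (tt N111792 (iv6 F478002)) (tt N74208 F443708))
theorem Q103999 : ∀ i, i < 103999 → P i := stepQ 103998 Q103998 (allL N103998 (tt N87474 (iv1 F443716)) (tt N90762 F443715) (tt N68121 (iv2 D207189)) (tt N84274 F443711) (tt N118486 (iv4 F510628)) (tt N77798 F443712) (tt N89232 F443713) (tt N88092 F443714))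
theorem Q104000 : ∀ i, i < 104000 → P i := stepQ 103999 Q103999 (allL N103999 (tt N93152 F443720) (tt N93146 (iv0 F443721)) (tt N93128 F443717) (tt N68123 (iv3 D207190)) (tt N108489 (iv4 F462806)) (tt N115091 (iv5 F493441)) (tt N73734 F443718) (tt N93151 F443719))
theorem Q104001 : ∀ i, i < 104001 → P i := stepQ 104000 Q104000 (allL N104000 (tt N115386 (iv1 F494932)) (tt N103405 (iv0 F443725)) (tt N98160 F443722) (tt N115091 (iv3 F493439)) (tt N115017 (iv4 F493070)) (tt N68123 (iv5 D207191)) (tt N78847 F443723) (tt N103194 F443724))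
theorem Q104002 : ∀ i, i < 104002 → P i := stepQ 104001 Q104001 (allL N104001 (tt N68381 (iv1 F443731)) (tt N103964 (iv0 F443729)) (tt N95454 F443726) (tt N87896 F443727) (tt N68124 (iv4 D207192)) (tt N91971 (iv5 F443732)) (tt N87895 (iv6 F443733)) (tt N98159 F443728))
theorem Q104003 : ∀ i, i < 104003 → P i := stepQ 104002 Q104002 (allL N104002 (tt N98068 (iv1 F443740)) (tt N83746 (iv0 F443739)) (tt N98157 F443734) (tt N79949 F443735) (tt N87895 F443736) (tt N79944 F443737) (tt N68124 (iv6 D207193)) (tt N79943 F443738))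
theorem Q104004 : ∀ i, i < 104004 → P i := stepQ 104003 Q104003 (allL N104003 (tt N113593 (iv1 F486201)) (tt N83755 (iv0 F443744)) (tt N105783 (iv2 F451696)) (tt N68129 F443741) (tt N87395 F443742) (tt N84946 F443743) (tt N104917 (iv6 F447929)) (tt N68126 (iv7 D207194)))
theorem Q104005 : ∀ i, i < 104005 → P i := stepQ 104004 Q104004 (allL N104004 (tt N86879 F443749) (tt N68376 F443750) (tt N103957 F443745) (tt N85698 F443746) (tt N68127 (iv4 D207195)) (tt N119236 (iv5 F514532)) (tt N85695 F443747) (tt N103958 F443748))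
theorem Q104006 : ∀ i, i < 104006 → P i := stepQ 104005 Q104005 (allL N104005 (tt N69374 F443752) (tt N105780 F451683) (tt N104912 (iv2 F447904)) (tt N92664 F443751) (tt N106150 (iv4 F453358)) (tt N68127 (iv5 D207196)) (tt N104073 F444045) (tt N104162 (iv7 F444493)))
theorem Q104007 : ∀ i, i < 104007 → P i := stepQ 104006 Q104006 (allL N104006 (tt N92747 (iv1 F443756)) (tt N93145 F443755) (tt N93126 F443753) (tt N68128 (iv3 D207197)) (tt N112439 (iv4 F481120)) (tt N117988 (iv5 F507934)) (tt N112438 F481117) (tt N93144 F443754))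
theorem Q104008 : ∀ i, i < 104008 → P i := stepQ 104007 Q104007 (allL N104007 (tt N68376 F443760) (tt N86879 F443766) (tt N103958 F443758) (tt N86875 F443761) (tt N68128 (iv4 D207198)) (tt N91187 (iv5 F443837)) (tt N112440 (iv6 F481124)) (tt N103957 F443759))
theorem Q104009 : ∀ i, i < 104009 → P i := stepQ 104008 Q104008 (allL N104008 (tt N92671 F443767) (tt N93905 F443768) (tt N104913 (iv2 F447908)) (tt N112438 (iv3 F481116)) (tt N112440 (iv4 F481123)) (tt N117715 (iv5 F506587)) (tt N68128 (iv6 D207199)) (tt N115701 (iv7 F496398)))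
theorem Q104010 : ∀ i, i < 104010 → P i := stepQ 104009 Q104009 (allL N104009 (tt N100231 F443772) (tt N90453 F443773) (tt N93994 F443769) (tt N109846 F468883) (tt N76459 F443771) (tt N68130 (iv5 D207200)) (tt N84897 F443774) (tt N93990 F443770))
theorem Q104011 : ∀ i, i < 104011 → P i := stepQ 104010 Q104010 (allL N104010 (tt N105014 (iv1 F448380)) (tt N68426 (iv0 F443777)) (tt N93995 F443775) (tt N108278 (iv3 F461836)) (tt N68131 F443776) (tt N109082 (iv5 F465253)) (tt N68130 (iv6 D207201)) (tt N105013 (iv7 F448369)))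
theorem Q104012 : ∀ i, i < 104012 → P i := stepQ 104011 Q104011 (allL N104011 (tt N93997 (iv1 F443781)) (tt N68131 (iv0 D207202)) (tt N76391 (iv2 F443779)) (tt N108247 (iv3 F461672)) (tt N104212 (iv4 F444719)) (tt N110524 (iv5 F471975)) (tt N76315 F443778) (tt N93996 F443780))
theorem Q104013 : ∀ i, i < 104013 → P i := stepQ 104012 Q104012 (allL N104012 (tt N93996 (iv1 F443786)) (tt N76391 F443787) (tt N93997 F443782) (tt N68134 F443783) (tt N105013 F448370) (tt N98653 F443784) (tt N93993 F443785) (tt N68131 (iv7 D207203)))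
theorem Q104014 : ∀ i, i < 104014 → P i := stepQ 104013 Q104013 (allL N104013 (tt N68142 F443790) (tt N104189 F444602) (tt N104188 (iv2 F444597)) (tt N68133 (iv3 D207204)) (tt N91203 F443788) (tt N112029 (iv5 F479153)) (tt N108807 (iv6 F464044)) (tt N98274 F443789))
theorem Q104015 : ∀ i, i < 104015 → P i := stepQ 104014 Q104014 (allL N104014 (tt N98135 F443794) (tt N86439 F443795) (tt N98273 F443791) (tt N108807 (iv3 F464042)) (tt N115759 (iv4 F496705)) (tt N100774 F443792) (tt N68133 (iv6 D207205)) (tt N92205 F443793))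
theorem Q104016 : ∀ i, i < 104016 → P i := stepQ 104015 Q104015 (allL N104015 (tt N115185 (iv1 F493919)) (tt N115184 (iv0 F493913)) (tt N86504 F443796) (tt N98177 F443797) (tt N86811 F443798) (tt N68135 (iv5 D207206)) (tt N115183 (iv6 F493907)) (tt N86509 F443799))
theorem Q104017 : ∀ i, i < 104017 → P i := stepQ 104016 Q104016 (allL N104016 (tt N118101 (iv1 F508599)) (tt N104827 (iv0 F447491)) (tt N86505 F443800) (tt N114847 (iv3 F492165)) (tt N68136 F443801) (tt N116087 (iv5 F498394)) (tt N68135 (iv6 D207207)) (tt N115383 (iv7 F494921)))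
theorem Q104018 : ∀ i, i < 104018 → P i := stepQ 104017 Q104017 (allL N104017 (tt N83675 (iv1 F443808)) (tt N68136 (iv0 D207208)) (tt N86506 (iv2 F447616)) (tt N91222 (iv3 F447617)) (tt N86626 (iv4 F447619)) (tt N104854 (iv5 F447638)) (tt N85170 F447618) (tt N86507 F447615))
theorem Q104019 : ∀ i, i < 104019 → P i := stepQ 104018 Q104018 (allL N104018 (tt N68136 (iv1 D207209)) (tt N83675 F443802) (tt N86507 F447613) (tt N115742 (iv3 F496614)) (tt N86627 F443803) (tt N104850 (iv5 F447609)) (tt N115087 (iv6 F493422)) (tt N86506 (iv7 F447614)))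
theorem Q104020 : ∀ i, i < 104020 → P i := stepQ 104019 Q104019 (allL N104019 (tt N86507 (iv1 F443809)) (tt N86506 F443811) (tt N83675 F443804) (tt N68139 F443805) (tt N115383 (iv4 F494919)) (tt N83653 F443806) (tt N86511 F443807) (tt N68136 (iv7 D207210)))
theorem Q104021 : ∀ i, i < 104021 → P i := stepQ 104020 Q104020 (allL N104020 (tt N117352 F504625) (tt N104855 (iv0 F447645)) (tt N104194 (iv2 F444630)) (tt N70792 F443812) (tt N119275 (iv4 F514766)) (tt N68137 (iv5 D207211)) (tt N105820 (iv6 F451879)) (tt N70787 F443813))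
theorem Q104022 : ∀ i, i < 104022 → P i := stepQ 104021 Q104021 (allL N104021 (tt N86603 (iv1 F443820)) (tt N86608 (iv0 F443819)) (tt N86607 F443814) (tt N78291 F443815) (tt N103227 F443816) (tt N78393 F443818) (tt N68137 (iv6 D207212)) (tt N86606 F443817))
theorem Q104023 : ∀ i, i < 104023 → P i := stepQ 104022 Q104022 (allL N104022 (tt N108321 F462051) (tt N105483 (iv0 F450432)) (tt N93147 F443821) (tt N68142 F443822) (tt N92007 F443823) (tt N98441 F443824) (tt N68140 (iv6 D207213)) (tt N114820 (iv7 F492052)))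
theorem Q104024 : ∀ i, i < 104024 → P i := stepQ 104023 Q104023 (allL N104023 (tt N115696 (iv1 F496364)) (tt N115695 F496362) (tt N100518 F443825) (tt N68141 (iv3 D207214)) (tt N92005 F443826) (tt N98428 (iv5 F443838)) (tt N98355 F443827) (tt N104186 (iv7 F444586)))
theorem Q104025 : ∀ i, i < 104025 → P i := stepQ 104024 Q104024 (allL N104024 (tt N79903 F443844) (tt N100302 F443845) (tt N101167 F443839) (tt N98428 F443840) (tt N68277 F443843) (tt N68141 (iv5 D207215)) (tt N77646 F443841) (tt N101358 F443842))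
theorem Q104026 : ∀ i, i < 104026 → P i := stepQ 104025 Q104025 (allL N104025 (tt N104188 (iv1 F444593)) (tt N98274 (iv0 F443849)) (tt N104189 (iv2 F444598)) (tt N114820 (iv3 F492050)) (tt N79994 F443847) (tt N98446 F443848) (tt N104187 (iv6 F444590)) (tt N68142 (iv7 D207216)))
theorem Q104027 : ∀ i, i < 104027 → P i := stepQ 104026 Q104026 (allL N104026 (tt N100302 F443855) (tt N79903 F443856) (tt N101358 F443850) (tt N83292 F443851) (tt N68276 F443852) (tt N68143 (iv5 D207217)) (tt N85849 F443853) (tt N101167 F443854))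
theorem Q104028 : ∀ i, i < 104028 → P i := stepQ 104027 Q104027 (allL N104027 (tt N70791 (iv1 F443860)) (tt N85797 F443861) (tt N104187 (iv2 F444587)) (tt N97966 F443857) (tt N68372 F443858) (tt N97962 F443859) (tt N104189 (iv6 F444601)) (tt N68144 (iv7 D207218)))
theorem Q104029 : ∀ i, i < 104029 → P i := stepQ 104028 Q104028 (allL N104028 (tt N68145 (iv1 D207219)) (tt N86893 F443862) (tt N97274 F443866) (tt N119332 (iv3 F515064)) (tt N90745 F443864) (tt N113640 (iv5 F486443)) (tt N83727 (iv6 F443865)) (tt N86486 F443863))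
theorem Q104030 : ∀ i, i < 104030 → P i := stepQ 104029 Q104029 (allL N104029 (tt N113684 F486617) (tt N113698 (iv0 F486695)) (tt N113700 (iv2 F486699)) (tt N68147 F443867) (tt N68154 F443868) (tt N86704 F443869) (tt N68145 (iv6 D207220)) (tt N86897 F443870))
theorem Q104031 : ∀ i, i < 104031 → P i := stepQ 104030 Q104030 (allL N104030 (tt N105675 F451203) (tt N76628 (iv0 F443874)) (tt N104973 (iv2 F448216)) (tt N86703 F443871) (tt N100663 F443872) (tt N83800 F443873) (tt N68146 (iv6 D207221)) (tt N106392 (iv7 F454265)))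
theorem Q104032 : ∀ i, i < 104032 → P i := stepQ 104031 Q104031 (allL N104031 (tt N96768 F443879) (tt N96765 F443880) (tt N102141 F443875) (tt N86704 F443876) (tt N71035 F443878) (tt N68147 (iv5 D207222)) (tt N83800 F443877) (tt N119237 (iv7 F514543)))
theorem Q104033 : ∀ i, i < 104033 → P i := stepQ 104032 Q104032 (allL N104032 (tt N104085 (iv1 F444098)) (tt N104087 (iv0 F444110)) (tt N115326 F494603) (tt N86897 F443881) (tt N68150 F443882) (tt N119237 (iv5 F514541)) (tt N86894 F443883) (tt N68147 (iv7 D207223)))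
theorem Q104034 : ∀ i, i < 104034 → P i := stepQ 104033 Q104033 (allL N104033 (tt N104081 (iv1 F444083)) (tt N76642 (iv0 F443886)) (tt N105910 (iv2 F452301)) (tt N97345 F443884) (tt N69486 F443885) (tt N120478 (iv5 F520984)) (tt N68149 (iv6 D207224)) (tt N111758 (iv7 F477821)))
theorem Q104035 : ∀ i, i < 104035 → P i := stepQ 104034 Q104034 (allL N104034 (tt N87646 F443889) (tt N116081 F498364) (tt N68154 F443887) (tt N86773 F443888) (tt N113700 (iv4 F486701)) (tt N120941 D224200) (tt N68153 (iv6 D207225)) (tt N112415 (iv7 F481007)))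
theorem Q104036 : ∀ i, i < 104036 → P i := stepQ 104035 Q104035 (allL N104035 (tt N68154 (iv1 D207226)) (tt N112415 (iv0 F481008)) (tt N116081 (iv2 F498359)) (tt N118998 (iv3 F513194)) (tt N86650 (iv4 F443891)) (tt N79650 F443892) (tt N118111 (iv6 F508661)) (tt N87646 F443890))
theorem Q104037 : ∀ i, i < 104037 → P i := stepQ 104036 Q104036 (allL N104036 (tt N120942 D224201) (tt N111901 (iv0 F480959)) (tt N120941 (iv2 F523596)) (tt N68157 F443894) (tt N91924 (iv4 F443896)) (tt N68154 (iv5 D207227)) (tt N90728 F443895) (tt N120943 D224202))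
theorem Q104038 : ∀ i, i < 104038 → P i := stepQ 104037 Q104037 (allL N104037 (tt N116081 (iv1 F498365)) (tt N87646 (iv0 F443900)) (tt N112415 (iv2 F481004)) (tt N68158 F443897) (tt N86897 F443898) (tt N120943 (iv5 F523611)) (tt N86895 F443899) (tt N68154 (iv7 D207228)))
theorem Q104039 : ∀ i, i < 104039 → P i := stepQ 104038 Q104038 (allL N104038 (tt N113564 (iv1 F486053)) (tt N87347 (iv0 F443903)) (tt N115840 (iv2 F497171)) (tt N68155 (iv3 D207229)) (tt N87611 F443901) (tt N120944 D224203) (tt N87620 F443902) (tt N104887 (iv7 F447811)))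
theorem Q104040 : ∀ i, i < 104040 → P i := stepQ 104039 Q104039 (allL N104039 (tt N115967 (iv1 F497818)) (tt N120945 D224204) (tt N87184 F443904) (tt N120944 (iv3 F523615)) (tt N115658 (iv4 F496183)) (tt N68155 (iv5 D207230)) (tt N79021 F443905) (tt N104888 (iv7 F447815)))
theorem Q104041 : ∀ i, i < 104041 → P i := stepQ 104040 Q104040 (allL N104040 (tt N97280 F443907) (tt N116074 (iv0 F498330)) (tt N116075 (iv2 F498331)) (tt N68156 (iv3 D207231)) (tt N113662 (iv4 F486531)) (tt N115862 (iv5 F497289)) (tt N103382 F443906) (tt N104886 (iv7 F447807)))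
theorem Q104042 : ∀ i, i < 104042 → P i := stepQ 104041 Q104041 (allL N104041 (tt N120945 (iv1 F523619)) (tt N115967 (iv0 F497817)) (tt N104888 (iv2 F447814)) (tt N115862 (iv3 F497287)) (tt N119324 (iv4 F515021)) (tt N68156 (iv5 D207232)) (tt N87393 F443908) (tt N87184 F443909))
theorem Q104043 : ∀ i, i < 104043 → P i := stepQ 104042 Q104042 (allL N104042 (tt N104892 (iv1 F447829)) (tt N68157 (iv0 D207233)) (tt N104890 F462827) (tt N120946 D224205) (tt N120947 D224206) (tt N108493 (iv5 F462825)) (tt N108496 (iv6 F462844)) (tt N104891 F462828))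
theorem Q104044 : ∀ i, i < 104044 → P i := stepQ 104043 Q104043 (allL N104043 (tt N68157 (iv1 D207234)) (tt N104892 F447828) (tt N104891 (iv2 F462829)) (tt N108516 (iv3 F462905)) (tt N87945 F462830) (tt N108500 (iv5 F462865)) (tt N87944 (iv6 F462832)) (tt N104890 (iv7 F462831)))
theorem Q104045 : ∀ i, i < 104045 → P i := stepQ 104044 Q104044 (allL N104044 (tt N79634 (iv1 F443915)) (tt N111485 (iv0 F476564)) (tt N95663 F443910) (tt N84508 F443911) (tt N68157 (iv4 D207235)) (tt N80249 F443913) (tt N84547 F443912) (tt N84556 (iv7 F443914)))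
theorem Q104046 : ∀ i, i < 104046 → P i := stepQ 104045 Q104045 (allL N104045 (tt N104891 (iv1 F447824)) (tt N104890 F447827) (tt N104892 (iv2 F447825)) (tt N120943 (iv3 F523609)) (tt N84556 F443916) (tt N68158 F443917) (tt N115493 (iv6 F495481)) (tt N68157 (iv7 D207236)))
theorem Q104047 : ∀ i, i < 104047 → P i := stepQ 104046 Q104046 (allL N104046 (tt N70691 F443923) (tt N97983 (iv0 F443924)) (tt N91781 F443918) (tt N68161 F443919) (tt N91038 (iv4 F443922)) (tt N68159 (iv5 D207237)) (tt N85015 F443920) (tt N98039 F443921))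
theorem Q104048 : ∀ i, i < 104048 → P i := stepQ 104047 Q104047 (allL N104047 (tt N116011 F498037) (tt N117623 F506056) (tt N87414 F443925) (tt N87374 F443926) (tt N80251 F443929) (tt N68160 (iv5 D207238)) (tt N79003 F443927) (tt N95657 F443928))
theorem Q104049 : ∀ i, i < 104049 → P i := stepQ 104048 Q104048 (allL N104048 (tt N115294 F494435) (tt N115293 (iv0 F494429)) (tt N111737 (iv2 F477732)) (tt N68162 (iv3 D207239)) (tt N115251 (iv4 F494215)) (tt N112239 (iv5 F480184)) (tt N111715 (iv6 F477631)) (tt N115244 (iv7 F494186)))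
theorem Q104050 : ∀ i, i < 104050 → P i := stepQ 104049 Q104049 (allL N104049 (tt N117623 (iv1 F506055)) (tt N116011 F498038) (tt N95657 F443931) (tt N112239 (iv3 F480183)) (tt N111457 (iv4 F476441)) (tt N68162 (iv5 D207240)) (tt N112238 (iv6 F480181)) (tt N87414 F443932))
theorem Q104051 : ∀ i, i < 104051 → P i := stepQ 104050 Q104050 (allL N104050 (tt N114250 (iv1 F489218)) (tt N97355 (iv0 F443935)) (tt N114249 F489212) (tt N111715 F477630) (tt N68164 F443933) (tt N95453 (iv5 F443934)) (tt N68162 (iv6 D207241)) (tt N111738 (iv7 F477739)))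
theorem Q104052 : ∀ i, i < 104052 → P i := stepQ 104051 Q104051 (allL N104051 (tt N111317 F475791) (tt N68164 (iv0 D207242)) (tt N98661 (iv2 F443937)) (tt N104081 F444084) (tt N118105 (iv4 F508621)) (tt N78782 F443936) (tt N104088 (iv6 F444112)) (tt N98663 F443938))
theorem Q104053 : ∀ i, i < 104053 → P i := stepQ 104052 Q104052 (allL N104052 (tt N119597 F516450) (tt N114444 (iv0 F490203)) (tt N68170 F443939) (tt N104945 (iv3 F448065)) (tt N103706 F443940) (tt N98421 F443941) (tt N68169 (iv6 D207243)) (tt N105824 (iv7 F451896)))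
theorem Q104054 : ∀ i, i < 104054 → P i := stepQ 104053 Q104053 (allL N104053 (tt N105824 F451898) (tt N68170 (iv0 D207244)) (tt N119597 (iv2 F516444)) (tt N98673 (iv3 F443944)) (tt N120901 (iv4 F523372)) (tt N98449 F443942) (tt N98750 F443943) (tt N114444 (iv7 F490202)))
theorem Q104055 : ∀ i, i < 104055 → P i := stepQ 104054 Q104054 (allL N104054 (tt N68170 (iv1 D207245)) (tt N105824 (iv0 F451897)) (tt N114444 (iv2 F490198)) (tt N85018 (iv3 F443945)) (tt N114415 (iv4 F490040)) (tt N98450 F443947) (tt N99811 (iv6 F443946)) (tt N119597 (iv7 F516448)))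
theorem Q104056 : ∀ i, i < 104056 → P i := stepQ 104055 Q104055 (allL N104055 (tt N105843 F451991) (tt N70703 F443951) (tt N98421 F443948) (tt N68173 F443949) (tt N120948 D224207) (tt N68170 (iv5 D207246)) (tt N98344 F443950) (tt N105829 (iv7 F451912)))
theorem Q104057 : ∀ i, i < 104057 → P i := stepQ 104056 Q104056 (allL N104056 (tt N114444 F490204) (tt N119597 (iv0 F516449)) (tt N105824 (iv2 F451894)) (tt N68174 F443952) (tt N103710 F443953) (tt N105829 (iv5 F451911)) (tt N68330 F443954) (tt N68170 (iv7 D207247)))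
theorem Q104058 : ∀ i, i < 104058 → P i := stepQ 104057 Q104057 (allL N104057 (tt N70641 F443959) (tt N70644 F443960) (tt N97954 F443955) (tt N78383 F443956) (tt N120949 D224208) (tt N68171 (iv5 D207248)) (tt N78381 F443957) (tt N97955 F443958))
theorem Q104059 : ∀ i, i < 104059 → P i := stepQ 104058 Q104058 (allL N104058 (tt N104968 F448191) (tt N119629 (iv0 F516602)) (tt N86002 F443961) (tt N68172 (iv3 D207249)) (tt N85043 F443962) (tt N76278 (iv5 F443964)) (tt N83622 F443963) (tt N104949 (iv7 F448096)))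
theorem Q104060 : ∀ i, i < 104060 → P i := stepQ 104059 Q104059 (allL N104059 (tt N70644 F443968) (tt N70641 F443969) (tt N97955 F443965) (tt N76278 F443966) (tt N114632 (iv4 F491104)) (tt N68172 (iv5 D207250)) (tt N76283 F443970) (tt N97954 F443967))
theorem Q104061 : ∀ i, i < 104061 → P i := stepQ 104060 Q104060 (allL N104060 (tt N68395 F443974) (tt N70450 F443975) (tt N75652 F443971) (tt N120409 F520630) (tt N68173 (iv4 D207251)) (tt N90723 F443973) (tt N75641 F443972) (tt N105806 (iv7 F451811)))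
theorem Q104062 : ∀ i, i < 104062 → P i := stepQ 104061 Q104061 (allL N104061 (tt N97637 F443989) (tt N93093 F443990) (tt N88248 F443985) (tt N84262 F443986) (tt N68177 (iv4 D207252)) (tt N79702 F443987) (tt N87677 F443991) (tt N88250 F443988))
theorem Q104063 : ∀ i, i < 104063 → P i := stepQ 104062 Q104062 (allL N104062 (tt N87532 F443994) (tt N68213 (iv0 F443995)) (tt N104944 (iv2 F448059)) (tt N87676 F443992) (tt N87677 F443993) (tt N115141 (iv5 F493686)) (tt N68177 (iv6 D207253)) (tt N114431 (iv7 F490125)))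
theorem Q104064 : ∀ i, i < 104064 → P i := stepQ 104063 Q104063 (allL N104063 (tt N70805 F443999) (tt N97634 F444000) (tt N68181 F443996) (tt N70779 F443997) (tt N93678 F443998) (tt N119583 (iv5 F516382)) (tt N68179 (iv6 D207254)) (tt N105823 (iv7 F451891)))
theorem Q104065 : ∀ i, i < 104065 → P i := stepQ 104064 Q104064 (allL N104064 (tt N114974 F492859) (tt N118357 (iv0 F509894)) (tt N119583 (iv2 F516385)) (tt N68184 F444001) (tt N82911 F444003) (tt N68181 (iv5 D207255)) (tt N107919 F460290) (tt N82908 F444002))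
theorem Q104066 : ∀ i, i < 104066 → P i := stepQ 104065 Q104065 (allL N104065 (tt N100198 F444006) (tt N111802 (iv0 F478048)) (tt N99109 F444004) (tt N107919 (iv3 F460291)) (tt N109860 (iv4 F468959)) (tt N68182 (iv5 D207256)) (tt N68184 F444005) (tt N109802 (iv7 F468688)))
theorem Q104067 : ∀ i, i < 104067 → P i := stepQ 104066 Q104066 (allL N104066 (tt N97971 F444011) (tt N97973 F444012) (tt N99107 F444007) (tt N98041 F444008) (tt N95936 F444009) (tt N68183 (iv5 D207257)) (tt N98438 F444013) (tt N68652 F444010))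
theorem Q104068 : ∀ i, i < 104068 → P i := stepQ 104067 Q104067 (allL N104067 (tt N107293 (iv1 F457840)) (tt N108085 (iv0 F461055)) (tt N99108 F444014) (tt N107464 (iv3 F458429)) (tt N68184 (iv4 D207258)) (tt N99094 F444016) (tt N109860 F468960) (tt N99093 F444015))
theorem Q104069 : ∀ i, i < 104069 → P i := stepQ 104068 Q104068 (allL N104068 (tt N98178 F444019) (tt N87856 F444020) (tt N104950 (iv2 F448098)) (tt N98544 F444021) (tt N68185 (iv4 D207259)) (tt N90870 F444017) (tt N82991 (iv6 F444022)) (tt N98175 F444018))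
theorem Q104070 : ∀ i, i < 104070 → P i := stepQ 104069 Q104069 (allL N104069 (tt N68201 F444027) (tt N109153 F465597) (tt N86721 F444023) (tt N114499 (iv3 F490478)) (tt N82991 F444024) (tt N86463 F444025) (tt N68185 (iv6 D207260)) (tt N84932 F444026))
theorem Q104071 : ∀ i, i < 104071 → P i := stepQ 104070 Q104070 (allL N104070 (tt N84727 F444032) (tt N90871 F444033) (tt N90870 F444028) (tt N78695 F444029) (tt N68187 (iv4 D207261)) (tt N104950 (iv5 F448102)) (tt N98543 F444030) (tt N90869 F444031))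
theorem Q104072 : ∀ i, i < 104072 → P i := stepQ 104071 Q104071 (allL N104071 (tt N105921 (iv1 F452359)) (tt N70659 F444034) (tt N104957 (iv2 F448134)) (tt N101785 F444035) (tt N68188 (iv4 D207262)) (tt N106505 (iv5 F454693)) (tt N109124 (iv6 F465440)) (tt N105804 (iv7 F451801)))
theorem Q104073 : ∀ i, i < 104073 → P i := stepQ 104072 Q104072 (allL N104072 (tt N98231 (iv1 F444039)) (tt N68190 (iv0 D207263)) (tt N97886 (iv2 F444040)) (tt N99808 F444037) (tt N119147 (iv4 F514035)) (tt N94766 F444036) (tt N68309 F444038) (tt N105887 (iv7 F452192)))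
theorem Q104074 : ∀ i, i < 104074 → P i := stepQ 104073 Q104073 (allL N104073 (tt N68190 (iv1 D207264)) (tt N98231 F444041) (tt N105887 F452190) (tt N97891 (iv3 F444043)) (tt N119146 (iv4 F514031)) (tt N94769 (iv5 F444044)) (tt N104005 (iv6 F444045)) (tt N97886 F444042))
theorem Q104075 : ∀ i, i < 104075 → P i := stepQ 104074 Q104074 (allL N104074 (tt N113641 F486455) (tt N69196 F444047) (tt N104960 (iv2 F448147)) (tt N97817 F444046) (tt N119206 (iv4 F514354)) (tt N68193 (iv5 D207265)) (tt N112378 (iv6 F480812)) (tt N114948 (iv7 F492714)))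
theorem Q104076 : ∀ i, i < 104076 → P i := stepQ 104075 Q104075 (allL N104075 (tt N97858 F444051) (tt N107761 (iv0 F459613)) (tt N104958 (iv2 F448137)) (tt N100329 F444048) (tt N72988 F444050) (tt N68195 (iv5 D207266)) (tt N89861 F444049) (tt N108140 (iv7 F461278)))
theorem Q104077 : ∀ i, i < 104077 → P i := stepQ 104076 Q104076 (allL N104076 (tt N68320 (iv1 F444056)) (tt N68315 F444057) (tt N68318 F444052) (tt N70442 F444053) (tt N69054 F444054) (tt N108140 (iv5 F461277)) (tt N85003 F444055) (tt N68195 (iv7 D207267)))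
theorem Q104078 : ∀ i, i < 104078 → P i := stepQ 104077 Q104077 (allL N104077 (tt N78634 F444061) (tt N78550 (iv0 F444063)) (tt N68981 F444058) (tt N111825 (iv3 F478162)) (tt N68197 (iv4 D207268)) (tt N101546 F444062) (tt N103608 F444059) (tt N78632 F444060))
theorem Q104079 : ∀ i, i < 104079 → P i := stepQ 104078 Q104078 (allL N104078 (tt N103895 F444067) (tt N103904 F444068) (tt N103902 F444064) (tt N97257 F444065) (tt N108611 (iv4 F463239)) (tt N68197 (iv5 D207269)) (tt N85410 F444069) (tt N103901 F444066))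
theorem Q104080 : ∀ i, i < 104080 → P i := stepQ 104079 Q104079 (allL N104079 (tt N103904 F444072) (tt N103895 F444073) (tt N103901 F444070) (tt N104829 (iv3 F447506)) (tt N108602 (iv4 F463214)) (tt N68198 (iv5 D207270)) (tt N108601 F463212) (tt N103902 F444071))
theorem Q104081 : ∀ i, i < 104081 → P i := stepQ 104080 Q104080 (allL N104080 (tt N79923 (iv1 F444077)) (tt N79921 F444078) (tt N98148 F444074) (tt N112375 (iv3 F480792)) (tt N94581 F444075) (tt N75315 F444076) (tt N104961 (iv6 F448156)) (tt N68199 (iv7 D207271)))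
theorem Q104082 : ∀ i, i < 104082 → P i := stepQ 104081 Q104081 (allL N104081 (tt N104921 F447951) (tt N104033 F444083) (tt N94128 F444079) (tt N104051 (iv3 F444084)) (tt N68200 (iv4 D207272)) (tt N101046 F444080) (tt N68208 F444081) (tt N79902 F444082))
theorem Q104083 : ∀ i, i < 104083 → P i := stepQ 104082 Q104082 (allL N104082 (tt N84932 (iv1 F444089)) (tt N86721 F444088) (tt N68201 (iv2 D207273)) (tt N78911 F444085) (tt N86292 F444086) (tt N115310 (iv5 F494514)) (tt N103898 F444087) (tt N109153 (iv7 F465599)))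
theorem Q104084 : ∀ i, i < 104084 → P i := stepQ 104083 Q104083 (allL N104083 (tt N104823 (iv1 F447468)) (tt N86536 F444091) (tt N115310 (iv2 F494511)) (tt N68202 F444090) (tt N115305 (iv4 F494483)) (tt N68201 (iv5 D207274)) (tt N113638 F486433) (tt N105327 (iv7 F449730)))
theorem Q104085 : ∀ i, i < 104085 → P i := stepQ 104084 Q104084 (allL N104084 (tt N118102 (iv1 F508605)) (tt N92976 F444093) (tt N117957 (iv2 F507780)) (tt N68204 F444092) (tt N105875 (iv4 F452130)) (tt N68203 (iv5 D207275)) (tt N108797 (iv6 F463991)) (tt N105328 (iv7 F449733)))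
theorem Q104086 : ∀ i, i < 104086 → P i := stepQ 104085 Q104085 (allL N104085 (tt N98363 F444097) (tt N104032 F444098) (tt N87590 F444094) (tt N114662 (iv3 F491262)) (tt N68206 (iv4 D207276)) (tt N96771 F444096) (tt N79901 (iv6 F444099)) (tt N86712 F444095))
theorem Q104087 : ∀ i, i < 104087 → P i := stepQ 104086 Q104086 (allL N104086 (tt N115389 (iv1 F494948)) (tt N69485 (iv0 F444104)) (tt N93005 F444100) (tt N86458 F444101) (tt N79901 F444102) (tt N105889 (iv5 F452199)) (tt N68206 (iv6 D207277)) (tt N86452 F444103))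
theorem Q104088 : ∀ i, i < 104088 → P i := stepQ 104087 Q104087 (allL N104087 (tt N104032 F444110) (tt N98363 F444111) (tt N86712 F444105) (tt N87586 F444106) (tt N68207 (iv4 D207278)) (tt N93904 F444107) (tt N86711 F444108) (tt N87590 F444109))
theorem Q104089 : ∀ i, i < 104089 → P i := stepQ 104088 Q104088 (allL N104088 (tt N69503 F444115) (tt N114860 (iv0 F492215)) (tt N118097 (iv2 F508566)) (tt N68208 (iv3 D207279)) (tt N111082 (iv4 F474578)) (tt N92957 (iv5 F444114)) (tt N104051 F444112) (tt N98288 F444113))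
theorem Q104090 : ∀ i, i < 104090 → P i := stepQ 104089 Q104089 (allL N104089 (tt N87138 F444120) (tt N87567 F444121) (tt N86841 F444116) (tt N92957 F444117) (tt N86846 F444118) (tt N68208 (iv5 D207280)) (tt N92955 F444122) (tt N87566 F444119))
theorem Q104091 : ∀ i, i < 104091 → P i := stepQ 104090 Q104090 (allL N104090 (tt N97869 F444127) (tt N103705 F444128) (tt N103780 (iv2 F444129)) (tt N68210 (iv3 D207281)) (tt N68211 F444123) (tt N82962 F444124) (tt N102438 F444125) (tt N68919 F444126))
theorem Q104092 : ∀ i, i < 104092 → P i := stepQ 104091 Q104091 (allL N104091 (tt N69591 F444136) (tt N69584 (iv0 F444137)) (tt N69588 F444131) (tt N87529 F444132) (tt N70680 F444133) (tt N96777 F444134) (tt N68212 (iv6 D207282)) (tt N69589 F444135))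
theorem Q104093 : ∀ i, i < 104093 → P i := stepQ 104092 Q104092 (allL N104092 (tt N104944 F448063) (tt N114431 (iv0 F490126)) (tt N68213 (iv2 D207283)) (tt N108634 (iv3 F463295)) (tt N103926 F444138) (tt N87533 F444139) (tt N101758 F444140) (tt N87532 F444141))
theorem Q104094 : ∀ i, i < 104094 → P i := stepQ 104093 Q104093 (allL N104093 (tt N71948 F444144) (tt N120858 (iv0 F523121)) (tt N103671 (iv2 F444145)) (tt N68214 (iv3 D207284)) (tt N68882 F444142) (tt N105612 (iv5 F450971)) (tt N108034 (iv6 F460821)) (tt N103588 F444143))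
theorem Q104095 : ∀ i, i < 104095 → P i := stepQ 104094 Q104094 (allL N104094 (tt N93091 F444147) (tt N71913 F444148) (tt N113149 (iv2 F484199)) (tt N68215 (iv3 D207285)) (tt N104285 (iv4 F445099)) (tt N105610 (iv5 F450963)) (tt N87040 F444155) (tt N103589 F444146))
theorem Q104096 : ∀ i, i < 104096 → P i := stepQ 104095 Q104095 (allL N104095 (tt N68258 F444151) (tt N103620 (iv0 F444153)) (tt N71325 F444149) (tt N87040 (iv3 F444154)) (tt N104574 (iv4 F446349)) (tt N70885 F444152) (tt N68215 (iv6 D207286)) (tt N71321 F444150))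
theorem Q104097 : ∀ i, i < 104097 → P i := stepQ 104096 Q104096 (allL N104096 (tt N69241 F444159) (tt N70390 F444160) (tt N68217 F444156) (tt N85138 F444157) (tt N85157 F444161) (tt N68216 (iv5 D207287)) (tt N85136 (iv6 F444162)) (tt N70388 F444158))
theorem Q104098 : ∀ i, i < 104098 → P i := stepQ 104097 Q104097 (allL N104097 (tt N70489 F444167) (tt N70511 F444168) (tt N85157 F444163) (tt N101406 F444164) (tt N68217 (iv4 D207288)) (tt N101404 F444166) (tt N85155 F444169) (tt N103591 F444165))
theorem Q104099 : ∀ i, i < 104099 → P i := stepQ 104098 Q104098 (allL N104098 (tt N119565 (iv1 F516287)) (tt N103036 (iv0 F444173)) (tt N85136 F444170) (tt N68219 F444171) (tt N85155 F444172) (tt N120950 D224209) (tt N68217 (iv6 D207289)) (tt N106483 (iv7 F454626)))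
theorem Q104100 : ∀ i, i < 104100 → P i := stepQ 104099 Q104099 (allL N104099 (tt N105272 (iv1 F449495)) (tt N103912 F444177) (tt N105271 F449487) (tt N68221 F444174) (tt N100886 F444175) (tt N68218 (iv5 D207290)) (tt N120950 (iv6 F523653)) (tt N71926 F444176))
theorem Q104101 : ∀ i, i < 104101 → P i := stepQ 104100 Q104100 (allL N104100 (tt N102319 F444183) (tt N68219 (iv0 D207291)) (tt N105296 (iv2 F449612)) (tt N85128 (iv3 F444180)) (tt N91729 F444178) (tt N82286 (iv5 F444181)) (tt N100985 F444179) (tt N89689 (iv7 F444182)))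
theorem Q104102 : ∀ i, i < 104102 → P i := stepQ 104101 Q104101 (allL N104101 (tt N68219 (iv1 D207292)) (tt N102319 F444185) (tt N89689 F444187) (tt N114777 (iv3 F491798)) (tt N107514 (iv4 F458611)) (tt N82287 F444188) (tt N96189 (iv6 F444186)) (tt N105296 (iv7 F449614)))
theorem Q104103 : ∀ i, i < 104103 → P i := stepQ 104102 Q104102 (allL N104102 (tt N100859 F444190) (tt N112739 (iv0 F482456)) (tt N105244 (iv2 F449365)) (tt N120950 (iv3 F523652)) (tt N120951 D224210) (tt N68219 (iv5 D207293)) (tt N68221 F444189) (tt N112771 (iv7 F482584)))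
theorem Q104104 : ∀ i, i < 104104 → P i := stepQ 104103 Q104103 (allL N104103 (tt N89689 (iv1 F444193)) (tt N105296 (iv0 F449615)) (tt N102319 F444191) (tt N106483 (iv3 F454624)) (tt N99474 F444192) (tt N112771 (iv5 F482585)) (tt N104847 (iv6 F447586)) (tt N68219 (iv7 D207294)))
theorem Q104105 : ∀ i, i < 104105 → P i := stepQ 104104 Q104104 (allL N104104 (tt N85045 F444195) (tt N85046 (iv0 F444196)) (tt N85044 (iv2 F448193)) (tt N68220 (iv3 D207295)) (tt N104949 (iv4 F448093)) (tt N100955 F444197) (tt N113459 (iv6 F485591)) (tt N85043 F444194))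
theorem Q104106 : ∀ i, i < 104106 → P i := stepQ 104105 Q104105 (allL N104105 (tt N69877 F444202) (tt N69878 F444203) (tt N100870 F444198) (tt N100955 F444199) (tt N100992 F444204) (tt N68220 (iv5 D207296)) (tt N100867 F444200) (tt N82293 F444201))
theorem Q104107 : ∀ i, i < 104107 → P i := stepQ 104106 Q104106 (allL N104106 (tt N105197 F449173) (tt N105075 (iv0 F448665)) (tt N105193 F449163) (tt N100887 F444205) (tt N68221 (iv4 D207297)) (tt N107394 (iv5 F458200)) (tt N120951 (iv6 F523659)) (tt N105194 (iv7 F449164)))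
theorem Q104108 : ∀ i, i < 104108 → P i := stepQ 104107 Q104107 (allL N104107 (tt N105473 (iv1 F450401)) (tt N105393 (iv0 F450035)) (tt N86928 (iv2 F444210)) (tt N68223 (iv3 D207298)) (tt N97591 F444206) (tt N84332 F444207) (tt N83016 F444208) (tt N77300 F444209))
theorem Q104109 : ∀ i, i < 104109 → P i := stepQ 104108 Q104108 (allL N104108 (tt N103608 F444215) (tt N102281 (iv0 F444216)) (tt N103593 F444211) (tt N68228 F444212) (tt N104184 (iv4 F444575)) (tt N100672 F444213) (tt N68226 (iv6 D207299)) (tt N103607 F444214))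
theorem Q104110 : ∀ i, i < 104110 → P i := stepQ 104109 Q104109 (allL N104109 (tt N105509 F450519) (tt N103887 F444220) (tt N103584 F444217) (tt N94587 F444218) (tt N95263 F444221) (tt N68227 (iv5 D207300)) (tt N95262 (iv6 F444222)) (tt N103586 F444219))
theorem Q104111 : ∀ i, i < 104111 → P i := stepQ 104110 Q104110 (allL N104110 (tt N71853 F444226) (tt N104123 F444298) (tt N87668 F444223) (tt N105462 (iv3 F450351)) (tt N68228 F444224) (tt N101923 F444227) (tt N68227 (iv6 D207301)) (tt N103619 F444225))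
theorem Q104112 : ∀ i, i < 104112 → P i := stepQ 104111 Q104111 (allL N104111 (tt N103530 F444233) (tt N69011 (iv0 F444234)) (tt N103528 (iv2 F444235)) (tt N68953 F444230) (tt N68232 (iv4 D207302)) (tt N120898 F523355) (tt N80312 F444231) (tt N103502 F444232))
theorem Q104113 : ∀ i, i < 104113 → P i := stepQ 104112 Q104112 (allL N104112 (tt N68901 F444241) (tt N85057 F444242) (tt N103715 F444237) (tt N68879 F444238) (tt N68233 (iv4 D207303)) (tt N103708 (iv5 F444243)) (tt N103502 F444239) (tt N103579 F444240))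
theorem Q104114 : ∀ i, i < 104114 → P i := stepQ 104113 Q104113 (allL N104113 (tt N69784 (iv1 F444250)) (tt N69783 F444249) (tt N68234 (iv2 D207304)) (tt N68236 F444244) (tt N71928 F444245) (tt N76373 F444246) (tt N71927 F444247) (tt N69785 F444248))
theorem Q104115 : ∀ i, i < 104115 → P i := stepQ 104114 Q104114 (allL N104114 (tt N102692 (iv1 F444258)) (tt N68239 (iv0 D207305)) (tt N111100 (iv2 F474660)) (tt N104565 (iv3 F446328)) (tt N103596 (iv4 F446329)) (tt N120912 (iv5 F523427)) (tt N111097 (iv6 F474653)) (tt N104570 F446327))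
theorem Q104116 : ∀ i, i < 104116 → P i := stepQ 104115 Q104115 (allL N104115 (tt N68239 (iv1 D207306)) (tt N102692 F444251) (tt N104570 (iv2 F446323)) (tt N86014 (iv3 F444252)) (tt N103597 F444253) (tt N116029 (iv5 F498133)) (tt N104849 (iv6 F447605)) (tt N111100 (iv7 F474663)))
theorem Q104117 : ∀ i, i < 104117 → P i := stepQ 104116 Q104116 (allL N104116 (tt N104570 F446326) (tt N111100 (iv0 F474664)) (tt N102692 F444254) (tt N68242 F444255) (tt N104623 (iv4 F446586)) (tt N95475 F444256) (tt N68344 F444257) (tt N68239 (iv7 D207307)))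
theorem Q104118 : ∀ i, i < 104118 → P i := stepQ 104117 Q104117 (allL N104117 (tt N96992 F444261) (tt N68254 F444262) (tt N104574 (iv2 F446347)) (tt N80283 F444259) (tt N71325 F444260) (tt N111516 (iv5 F476677)) (tt N68243 (iv6 D207308)) (tt N118423 (iv7 F510272)))
theorem Q104119 : ∀ i, i < 104119 → P i := stepQ 104118 Q104118 (allL N104118 (tt N68345 (iv1 F444266)) (tt N68246 (iv0 D207309)) (tt N85213 F444269) (tt N70805 (iv3 F444267)) (tt N93799 F444264) (tt N84821 F444263) (tt N68342 F444265) (tt N85211 F444268))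
theorem Q104120 : ∀ i, i < 104120 → P i := stepQ 104119 Q104119 (allL N104119 (tt N68246 (iv1 D207310)) (tt N68345 F444270) (tt N85211 (iv2 F444274)) (tt N114914 (iv3 F492504)) (tt N73421 F444273) (tt N84820 F444272) (tt N104854 (iv6 F447640)) (tt N85213 F444271))
theorem Q104121 : ∀ i, i < 104121 → P i := stepQ 104120 Q104120 (allL N104120 (tt N86005 F444277) (tt N86836 F444278) (tt N68253 F444275) (tt N97050 F444279) (tt N68248 (iv4 D207311)) (tt N114846 (iv5 F492160)) (tt N104852 (iv6 F447628)) (tt N68255 F444276))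
theorem Q104122 : ∀ i, i < 104122 → P i := stepQ 104121 Q104121 (allL N104121 (tt N86836 F444284) (tt N86005 F444285) (tt N68255 F444280) (tt N78952 F444281) (tt N68249 (iv4 D207312)) (tt N114863 (iv5 F492231)) (tt N86012 F444282) (tt N68253 F444283))
theorem Q104123 : ∀ i, i < 104123 → P i := stepQ 104122 Q104122 (allL N104122 (tt N104574 F446352) (tt N118423 (iv0 F510275)) (tt N68254 (iv2 D207314)) (tt N96967 F444291) (tt N106899 (iv4 F456199)) (tt N95415 (iv5 F444294)) (tt N76768 (iv6 F444295)) (tt N96992 F444292))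
theorem Q104124 : ∀ i, i < 104124 → P i := stepQ 104123 Q104123 (allL N104123 (tt N104110 (iv1 F444298)) (tt N88793 F444297) (tt N106899 (iv2 F456197)) (tt N116320 F499542) (tt N68254 (iv4 D207315)) (tt N116869 (iv5 F502269)) (tt N106897 (iv6 F456184)) (tt N84084 F444296))
theorem Q104125 : ∀ i, i < 104125 → P i := stepQ 104124 Q104124 (allL N104124 (tt N80278 F444302) (tt N79664 (iv0 F444305)) (tt N95415 F444299) (tt N68256 F444300) (tt N95414 F444303) (tt N68254 (iv5 D207316)) (tt N81219 F444304) (tt N78474 F444301))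
theorem Q104126 : ∀ i, i < 104126 → P i := stepQ 104125 Q104125 (allL N104125 (tt N76592 F444310) (tt N76589 (iv0 F444311)) (tt N76768 F444306) (tt N68257 F444307) (tt N106897 (iv4 F456182)) (tt N90468 F444308) (tt N68254 (iv6 D207317)) (tt N76769 F444309))
theorem Q104127 : ∀ i, i < 104127 → P i := stepQ 104126 Q104126 (allL N104126 (tt N91220 F444314) (tt N105710 (iv0 F451364)) (tt N114863 (iv2 F492228)) (tt N86534 F444312) (tt N104985 F448270) (tt N68255 (iv5 D207318)) (tt N91178 F444313) (tt N114846 (iv7 F492161)))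
theorem Q104128 : ∀ i, i < 104128 → P i := stepQ 104127 Q104127 (allL N104127 (tt N94823 (iv1 F444322)) (tt N94883 F444318) (tt N93465 F444315) (tt N94887 F444319) (tt N68256 (iv4 D207319)) (tt N120511 (iv5 F521175)) (tt N80972 F444316) (tt N78477 F444317))
theorem Q104129 : ∀ i, i < 104129 → P i := stepQ 104128 Q104128 (allL N104128 (tt N103620 (iv1 F444326)) (tt N68258 (iv0 D207320)) (tt N71321 (iv2 F444325)) (tt N113136 F484136) (tt N118423 (iv4 F510273)) (tt N70884 F444323) (tt N95969 F444324) (tt N71325 F444327))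
theorem Q104130 : ∀ i, i < 104130 → P i := stepQ 104129 Q104129 (allL N104129 (tt N71321 (iv1 F444333)) (tt N71325 F444332) (tt N68258 (iv2 D207321)) (tt N105490 (iv3 F450449)) (tt N68261 F444328) (tt N83095 F444329) (tt N70991 F444330) (tt N103620 F444331))
theorem Q104131 : ∀ i, i < 104131 → P i := stepQ 104130 Q104130 (allL N104130 (tt N94916 F444337) (tt N94902 F444338) (tt N96694 F444334) (tt N120952 D224211) (tt N68259 (iv4 D207322)) (tt N73539 F444336) (tt N72303 F444335) (tt N104857 (iv7 F447654)))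
theorem Q104132 : ∀ i, i < 104132 → P i := stepQ 104131 Q104131 (allL N104131 (tt N68983 F444343) (tt N111825 (iv0 F478166)) (tt N111826 F478170) (tt N68260 (iv3 D207323)) (tt N103324 F444339) (tt N87784 F444340) (tt N97658 F444341) (tt N103583 F444342))
theorem Q104133 : ∀ i, i < 104133 → P i := stepQ 104132 Q104132 (allL N104132 (tt N76770 (iv1 F444350)) (tt N76783 (iv0 F444349)) (tt N71959 F444344) (tt N68263 F444345) (tt N68264 F444346) (tt N83476 F444347) (tt N68262 (iv6 D207324)) (tt N101816 F444348))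
theorem Q104134 : ∀ i, i < 104134 → P i := stepQ 104133 Q104133 (allL N104133 (tt N68270 (iv1 D207325)) (tt N78296 F444351) (tt N78294 (iv2 F444356)) (tt N91205 F444354) (tt N108807 (iv4 F464043)) (tt N76670 (iv5 F444353)) (tt N91203 (iv6 F444355)) (tt N74464 F444352))
theorem Q104135 : ∀ i, i < 104135 → P i := stepQ 104134 Q104134 (allL N104134 (tt N85356 (iv1 F444361)) (tt N85355 (iv0 F444360)) (tt N78302 F444357) (tt N106428 (iv3 F454386)) (tt N84840 F444358) (tt N113516 (iv5 F485869)) (tt N68271 (iv6 D207326)) (tt N85350 (iv7 F444359)))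
theorem Q104136 : ∀ i, i < 104136 → P i := stepQ 104135 Q104135 (allL N104135 (tt N113532 F485916) (tt N116593 (iv0 F500896)) (tt N77418 F444363) (tt N75847 F444364) (tt N120953 D224212) (tt N68272 (iv5 D207327)) (tt N113516 (iv6 F485870)) (tt N75869 F444365))
theorem Q104137 : ∀ i, i < 104137 → P i := stepQ 104136 Q104136 (allL N104136 (tt N75829 (iv1 F444370)) (tt N100844 F444371) (tt N107604 (iv2 F458904)) (tt N68275 F444366) (tt N94150 F444367) (tt N82168 F444368) (tt N68274 (iv6 D207328)) (tt N76986 F444369))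
theorem Q104138 : ∀ i, i < 104138 → P i := stepQ 104137 Q104137 (allL N104137 (tt N109593 (iv1 F467633)) (tt N101043 (iv0 F444376)) (tt N88863 F444372) (tt N68276 (iv3 D207329)) (tt N81872 F444373) (tt N69611 F444374) (tt N107613 F458946) (tt N88865 F444375))
theorem Q104139 : ∀ i, i < 104139 → P i := stepQ 104138 Q104138 (allL N104138 (tt N85354 F444380) (tt N85352 F444381) (tt N101359 F444377) (tt N107613 (iv3 F458947)) (tt N85849 F444378) (tt N120954 D224213) (tt N68276 (iv6 D207330)) (tt N77664 F444379))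
theorem Q104140 : ∀ i, i < 104140 → P i := stepQ 104139 Q104139 (allL N104139 (tt N115037 F493156) (tt N111268 (iv0 F475541)) (tt N105415 (iv2 F450154)) (tt N68278 (iv3 D207331)) (tt N105412 (iv4 F450138)) (tt N100662 F444382) (tt N85541 F444386) (tt N104972 (iv7 F448212)))
theorem Q104141 : ∀ i, i < 104141 → P i := stepQ 104140 Q104140 (allL N104140 (tt N106419 F454345) (tt N109891 (iv0 F469097)) (tt N101392 F444383) (tt N85541 (iv3 F444385)) (tt N68279 F444384) (tt N120377 (iv5 F520459)) (tt N68278 (iv6 D207332)) (tt N114336 (iv7 F489681)))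
theorem Q104142 : ∀ i, i < 104142 → P i := stepQ 104141 Q104141 (allL N104141 (tt N101394 F444389) (tt N68279 (iv0 D207333)) (tt N101393 F444390) (tt N85421 F444387) (tt N109643 (iv4 F467896)) (tt N105455 F450340) (tt N109642 (iv6 F467894)) (tt N88889 (iv7 F444388)))
theorem Q104143 : ∀ i, i < 104143 → P i := stepQ 104142 Q104142 (allL N104142 (tt N68279 (iv1 D207334)) (tt N101394 F444391) (tt N88889 F444394) (tt N116288 (iv3 F499375)) (tt N113112 (iv4 F484021)) (tt N105486 (iv5 F450440)) (tt N69710 (iv6 F444393)) (tt N101393 F444392))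
theorem Q104144 : ∀ i, i < 104144 → P i := stepQ 104143 Q104143 (allL N104143 (tt N95901 F444398) (tt N118742 F511839) (tt N69906 F444395) (tt N90406 F444396) (tt N102605 F444399) (tt N68279 (iv5 D207335)) (tt N68282 F444397) (tt N118743 (iv7 F511845)))
theorem Q104145 : ∀ i, i < 104145 → P i := stepQ 104144 Q104144 (allL N104144 (tt N88889 (iv1 F444403)) (tt N101393 F444404) (tt N101394 F444402) (tt N113847 (iv3 F487431)) (tt N114336 (iv4 F489678)) (tt N118743 (iv5 F511843)) (tt N104976 (iv6 F448228)) (tt N68279 (iv7 D207336)))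
theorem Q104146 : ∀ i, i < 104146 → P i := stepQ 104145 Q104145 (allL N104145 (tt N113584 (iv1 F486155)) (tt N112027 (iv0 F479142)) (tt N107648 (iv2 F459064)) (tt N68280 (iv3 D207337)) (tt N110090 (iv4 F469942)) (tt N110425 F471523) (tt N76990 F444405) (tt N114961 (iv7 F492777)))
theorem Q104147 : ∀ i, i < 104147 → P i := stepQ 104146 Q104146 (allL N104146 (tt N83255 (iv1 F444409)) (tt N90418 (iv0 F444408)) (tt N107650 (iv2 F459074)) (tt N68281 (iv3 D207338)) (tt N78131 F444406) (tt N113865 (iv5 F487525)) (tt N104258 (iv6 F444980)) (tt N99434 F444407))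
theorem Q104148 : ∀ i, i < 104148 → P i := stepQ 104147 Q104147 (allL N104147 (tt N100610 F444412) (tt N100617 F444413) (tt N100615 F444410) (tt N104258 (iv3 F444984)) (tt N104260 (iv4 F444995)) (tt N112320 (iv5 F480534)) (tt N68281 (iv6 D207339)) (tt N100614 F444411))
theorem Q104149 : ∀ i, i < 104149 → P i := stepQ 104148 Q104148 (allL N104148 (tt N100820 (iv1 F444418)) (tt N68282 (iv0 D207340)) (tt N89157 (iv2 F444415)) (tt N113583 (iv3 F486149)) (tt N116217 (iv4 F499071)) (tt N82540 F444414) (tt N88075 F444416) (tt N101013 F444417))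
theorem Q104150 : ∀ i, i < 104150 → P i := stepQ 104149 Q104149 (allL N104149 (tt N104722 (iv1 F446985)) (tt N92279 F444421) (tt N104671 (iv2 F446805)) (tt N104716 (iv3 F446967)) (tt N68282 (iv4 D207341)) (tt N103666 F444420) (tt N102605 F444419) (tt N103665 (iv7 F444423)))
theorem Q104151 : ∀ i, i < 104151 → P i := stepQ 104150 Q104150 (allL N104150 (tt N101013 (iv1 F444428)) (tt N89157 F444429) (tt N100820 F444424) (tt N71479 F444425) (tt N103665 F444426) (tt N68283 F444427) (tt N71478 (iv6 F444430)) (tt N68282 (iv7 D207342)))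
theorem Q104152 : ∀ i, i < 104152 → P i := stepQ 104151 Q104151 (allL N104151 (tt N113230 (iv1 F484611)) (tt N99884 (iv0 F444436)) (tt N69967 F444431) (tt N75035 F444432) (tt N68286 (iv4 D207343)) (tt N72112 F444434) (tt N69960 (iv6 F444435)) (tt N99959 F444433))
theorem Q104153 : ∀ i, i < 104153 → P i := stepQ 104152 Q104152 (allL N104152 (tt N99819 F444441) (tt N78704 (iv0 F444442)) (tt N69966 F444437) (tt N109601 (iv3 F467673)) (tt N69960 F444438) (tt N73657 F444439) (tt N68286 (iv6 D207344)) (tt N69958 F444440))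
theorem Q104154 : ∀ i, i < 104154 → P i := stepQ 104153 Q104153 (allL N104153 (tt N99884 F444446) (tt N113230 (iv0 F484612)) (tt N99959 F444443) (tt N110275 (iv3 F470781)) (tt N68288 (iv4 D207345)) (tt N106168 F453423) (tt N99826 F444444) (tt N69967 F444445))
theorem Q104155 : ∀ i, i < 104155 → P i := stepQ 104154 Q104154 (allL N104154 (tt N107572 (iv1 F458798)) (tt N76517 (iv0 F444452)) (tt N68296 F444447) (tt N78279 F444448) (tt N100960 F444449) (tt N78277 F444450) (tt N68294 (iv6 D207346)) (tt N99716 F444451))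
theorem Q104156 : ∀ i, i < 104156 → P i := stepQ 104155 Q104155 (allL N104155 (tt N76501 F444456) (tt N89007 (iv0 F444457)) (tt N105728 (iv2 F451440)) (tt N68295 (iv3 D207347)) (tt N68297 F444453) (tt N88610 F444454) (tt N116212 (iv6 F499044)) (tt N89398 F444455))
theorem Q104157 : ∀ i, i < 104157 → P i := stepQ 104156 Q104156 (allL N104156 (tt N100639 F444461) (tt N72058 (iv0 F444462)) (tt N100960 F444458) (tt N116212 (iv3 F499043)) (tt N68296 F444459) (tt N120280 (iv5 F519998)) (tt N68295 (iv6 D207348)) (tt N100840 F444460))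
theorem Q104158 : ∀ i, i < 104158 → P i := stepQ 104157 Q104157 (allL N104157 (tt N76517 (iv1 F444469)) (tt N107572 (iv0 F458797)) (tt N99716 F444464) (tt N68298 F444465) (tt N100840 F444466) (tt N99406 F444467) (tt N76448 F444468) (tt N68296 (iv7 D207349)))
theorem Q104159 : ∀ i, i < 104159 → P i := stepQ 104158 Q104158 (allL N104158 (tt N70611 F444471) (tt N104841 F447554) (tt N70814 F444470) (tt N104850 (iv3 F447607)) (tt N111935 F478753) (tt N115742 (iv5 F496616)) (tt N68302 (iv6 D207350)) (tt N104840 (iv7 F447546)))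
theorem Q104160 : ∀ i, i < 104160 → P i := stepQ 104159 Q104159 (allL N104159 (tt N103896 F444475) (tt N86029 F444476) (tt N69192 F444472) (tt N70244 F444477) (tt N68307 (iv4 D207351)) (tt N101370 F444473) (tt N108328 (iv6 F462083)) (tt N103893 F444474))
theorem Q104161 : ∀ i, i < 104161 → P i := stepQ 104160 Q104160 (allL N104160 (tt N68324 (iv1 F444480)) (tt N104951 (iv0 F448108)) (tt N69193 F444478) (tt N105788 (iv3 F451719)) (tt N108328 (iv4 F462081)) (tt N89630 F444479) (tt N68307 (iv6 D207352)) (tt N104953 (iv7 F448117)))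
theorem Q104162 : ∀ i, i < 104162 → P i := stepQ 104161 Q104161 (allL N104161 (tt N70589 F444486) (tt N92721 (iv0 F444487)) (tt N92130 F444481) (tt N68309 (iv3 D207353)) (tt N102303 F444482) (tt N70717 F444483) (tt N99808 F444484) (tt N92720 F444485))
theorem Q104163 : ∀ i, i < 104163 → P i := stepQ 104162 Q104162 (allL N104162 (tt N70604 F444495) (tt N104832 (iv0 F447517)) (tt N97893 F444491) (tt N92129 F444492) (tt N119506 (iv4 F515960)) (tt N69475 F444494) (tt N68310 (iv6 D207354)) (tt N104005 F444493))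
theorem Q104164 : ∀ i, i < 104164 → P i := stepQ 104163 Q104163 (allL N104163 (tt N70446 F444497) (tt N79052 (iv0 F444498)) (tt N68317 F444496) (tt N105882 (iv3 F452167)) (tt N105407 (iv4 F450110)) (tt N116797 (iv5 F501891)) (tt N68314 (iv6 D207355)) (tt N105802 (iv7 F451792)))
theorem Q104165 : ∀ i, i < 104165 → P i := stepQ 104164 Q104164 (allL N104164 (tt N98558 F444502) (tt N105803 F451798) (tt N116797 (iv2 F501888)) (tt N68322 F444499) (tt N93338 F444501) (tt N68317 (iv5 D207356)) (tt N68319 F444500) (tt N120397 (iv7 F520571)))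
theorem Q104166 : ∀ i, i < 104166 → P i := stepQ 104165 Q104165 (allL N104165 (tt N79052 (iv1 F444505)) (tt N70446 F444506) (tt N105802 F451794) (tt N68323 F444503) (tt N81191 F444504) (tt N120397 (iv5 F520566)) (tt N104824 (iv6 F447472)) (tt N68317 (iv7 D207357)))
theorem Q104167 : ∀ i, i < 104167 → P i := stepQ 104166 Q104166 (allL N104166 (tt N97891 F444513) (tt N92131 (iv0 F444511)) (tt N97889 F444507) (tt N68318 (iv3 D207358)) (tt N97474 F444508) (tt N92794 F444512) (tt N97907 F444509) (tt N97879 F444510))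
theorem Q104168 : ∀ i, i < 104168 → P i := stepQ 104167 Q104167 (allL N104167 (tt N107761 (iv1 F459614)) (tt N97858 F444516) (tt N108140 (iv2 F461275)) (tt N92794 F444514) (tt N93765 F444515) (tt N68318 (iv5 D207359)) (tt N114601 F490959) (tt N104958 (iv7 F448140)))
theorem Q104169 : ∀ i, i < 104169 → P i := stepQ 104168 Q104168 (allL N104168 (tt N97812 (iv1 F444525)) (tt N68322 (iv0 D207360)) (tt N105885 F452185) (tt N104960 (iv3 F448148)) (tt N105060 (iv4 F448604)) (tt N104959 (iv5 F448145)) (tt N119544 (iv6 F516165)) (tt N105886 (iv7 F452183)))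
theorem Q104170 : ∀ i, i < 104170 → P i := stepQ 104169 Q104169 (allL N104169 (tt N68322 (iv1 D207361)) (tt N97812 F444517) (tt N105886 (iv2 F452181)) (tt N97818 F451776) (tt N117590 (iv4 F505873)) (tt N105799 (iv5 F451775)) (tt N76700 (iv6 F451777)) (tt N105885 F452186))
theorem Q104171 : ∀ i, i < 104171 → P i := stepQ 104170 Q104170 (allL N104170 (tt N120948 (iv1 F523643)) (tt N120955 D224214) (tt N103817 F444518) (tt N89836 (iv3 F444521)) (tt N68322 (iv4 D207362)) (tt N103808 F444520) (tt N68328 F444519) (tt N120956 D224215))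
theorem Q104172 : ∀ i, i < 104172 → P i := stepQ 104171 Q104171 (allL N104171 (tt N105886 (iv1 F452178)) (tt N105885 F452177) (tt N97812 F444522) (tt N120397 F520572) (tt N120956 (iv4 F523688)) (tt N68323 F444523) (tt N76720 F444524) (tt N68322 (iv7 D207363)))
theorem Q104173 : ∀ i, i < 104173 → P i := stepQ 104172 Q104172 (allL N104172 (tt N104951 F448109) (tt N68324 (iv0 D207364)) (tt N104953 F448121) (tt N70445 F444527) (tt N108375 (iv4 F462316)) (tt N89629 F444526) (tt N103900 (iv6 F444528)) (tt N69193 (iv7 F444529)))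
theorem Q104174 : ∀ i, i < 104174 → P i := stepQ 104173 Q104173 (allL N104173 (tt N104953 (iv1 F448116)) (tt N69193 F444533) (tt N68324 (iv2 D207365)) (tt N98231 F444530) (tt N105518 (iv4 F450547)) (tt N98192 F444531) (tt N84953 F444532) (tt N104951 (iv7 F448107)))
theorem Q104175 : ∀ i, i < 104175 → P i := stepQ 104174 Q104174 (allL N104174 (tt N120377 F520462) (tt N114598 (iv0 F490943)) (tt N105888 (iv2 F452193)) (tt N114574 (iv3 F490831)) (tt N99162 F444534) (tt N105805 (iv5 F451806)) (tt N68325 (iv6 D207366)) (tt N109858 (iv7 F468953)))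
theorem Q104176 : ∀ i, i < 104176 → P i := stepQ 104175 Q104175 (allL N104175 (tt N94766 (iv1 F444538)) (tt N94769 (iv0 F444539)) (tt N118718 (iv2 F511724)) (tt N68327 (iv3 D207367)) (tt N118212 (iv4 F509179)) (tt N92624 F444535) (tt N103029 (iv6 F444537)) (tt N103049 F444536))
theorem Q104177 : ∀ i, i < 104177 → P i := stepQ 104176 Q104176 (allL N104176 (tt N76670 F444544) (tt N112030 F479159) (tt N105889 (iv2 F452196)) (tt N103029 F444540) (tt N83238 F444541) (tt N93005 F444542) (tt N68327 (iv6 D207368)) (tt N83237 F444543))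
theorem Q104178 : ∀ i, i < 104178 → P i := stepQ 104177 Q104177 (allL N104177 (tt N68328 (iv1 D207369)) (tt N99153 F444546) (tt N105890 F452208) (tt N119229 (iv3 F514485)) (tt N97971 F444548) (tt N119166 (iv5 F514150)) (tt N89734 (iv6 F444549)) (tt N89789 F444547))
theorem Q104179 : ∀ i, i < 104179 → P i := stepQ 104178 Q104178 (allL N104178 (tt N105890 (iv1 F452202)) (tt N89789 F444554) (tt N99153 F444550) (tt N72450 F444551) (tt N68329 F444552) (tt N73211 F444553) (tt N120210 (iv6 F519612)) (tt N68328 (iv7 D207370)))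
theorem Q104180 : ∀ i, i < 104180 → P i := stepQ 104179 Q104179 (allL N104179 (tt N108085 (iv1 F461056)) (tt N107293 (iv0 F457839)) (tt N99093 F444555) (tt N73236 F444558) (tt N68331 (iv4 D207371)) (tt N73235 F444556) (tt N106385 (iv6 F454242)) (tt N99108 F444557))
theorem Q104181 : ∀ i, i < 104181 → P i := stepQ 104180 Q104180 (allL N104180 (tt N119611 F516509) (tt N114335 F489676) (tt N82907 F444559) (tt N119595 (iv3 F516430)) (tt N106385 F454243) (tt N98332 F444560) (tt N68331 (iv6 D207372)) (tt N120957 D224216))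
theorem Q104182 : ∀ i, i < 104182 → P i := stepQ 104181 Q104181 (allL N104181 (tt N106078 (iv1 F453025)) (tt N98927 (iv0 F444566)) (tt N99479 F444561) (tt N68334 (iv3 D207373)) (tt N93273 F444562) (tt N98916 F444563) (tt N72671 F444564) (tt N99482 F444565))
theorem Q104183 : ∀ i, i < 104183 → P i := stepQ 104182 Q104182 (allL N104182 (tt N68336 (iv1 D207374)) (tt N82092 F444567) (tt N82090 F444571) (tt N94391 (iv3 F444570)) (tt N74491 F444569) (tt N107520 (iv5 F458642)) (tt N72651 (iv6 F444572)) (tt N82089 F444568))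
theorem Q104184 : ∀ i, i < 104184 → P i := stepQ 104183 Q104183 (allL N104183 (tt N68338 (iv1 D207375)) (tt N105894 F452226) (tt N105893 (iv2 F452219)) (tt N78047 (iv3 F444574)) (tt N118518 (iv4 F510783)) (tt N107546 (iv5 F458716)) (tt N120958 D224217) (tt N99272 F444573))
theorem Q104185 : ∀ i, i < 104185 → P i := stepQ 104184 Q104184 (allL N104184 (tt N104852 F447631) (tt N104853 (iv0 F447637)) (tt N104850 (iv2 F447606)) (tt N105709 (iv3 F451357)) (tt N104108 F444575) (tt N86507 F444576) (tt N68341 (iv6 D207376)) (tt N104854 (iv7 F447642)))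
theorem Q104186 : ∀ i, i < 104186 → P i := stepQ 104185 Q104185 (allL N104185 (tt N76635 F444582) (tt N80606 (iv0 F444583)) (tt N89733 F444577) (tt N68359 F444578) (tt N89039 F444579) (tt N100806 F444580) (tt N68358 (iv6 D207377)) (tt N75997 F444581))
theorem Q104187 : ∀ i, i < 104187 → P i := stepQ 104186 Q104186 (allL N104186 (tt N115374 F494874) (tt N118999 (iv0 F513202)) (tt N87496 F444584) (tt N68366 (iv3 D207378)) (tt N115698 (iv4 F496378)) (tt N106372 F454196) (tt N100141 F444585) (tt N104023 F444586))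
theorem Q104188 : ∀ i, i < 104188 → P i := stepQ 104187 Q104187 (allL N104187 (tt N70677 (iv1 F444591)) (tt N84706 F444592) (tt N104027 F444587) (tt N118104 (iv3 F508614)) (tt N98361 F444588) (tt N98747 F444589) (tt N104025 F444590) (tt N68367 (iv7 D207379)))
theorem Q104189 : ∀ i, i < 104189 → P i := stepQ 104188 Q104188 (allL N104188 (tt N68369 (iv1 D207380)) (tt N104025 F444593) (tt N104013 F444597) (tt N76452 (iv3 F444595)) (tt N105011 (iv4 F448355)) (tt N101037 (iv5 F444596)) (tt N110980 (iv6 F474062)) (tt N74480 F444594))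
theorem Q104190 : ∀ i, i < 104190 → P i := stepQ 104189 Q104189 (allL N104189 (tt N104013 (iv1 F444602)) (tt N74480 F444603) (tt N104025 F444598) (tt N95870 F444599) (tt N100657 F444600) (tt N116762 (iv5 F501692)) (tt N104027 F444601) (tt N68369 (iv7 D207381)))
theorem Q104191 : ∀ i, i < 104191 → P i := stepQ 104190 Q104190 (allL N104190 (tt N97331 (iv1 F444610)) (tt N97341 F444609) (tt N68375 (iv2 D207382)) (tt N86882 F444604) (tt N83800 F444605) (tt N69437 F444606) (tt N71035 F444607) (tt N97338 F444608))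
theorem Q104192 : ∀ i, i < 104192 → P i := stepQ 104191 Q104191 (allL N104191 (tt N103958 (iv1 F444616)) (tt N103957 F444617) (tt N86879 F444611) (tt N96943 F444612) (tt N68379 F444613) (tt N86958 F444614) (tt N103964 F444615) (tt N68376 (iv7 D207383)))
theorem Q104193 : ∀ i, i < 104193 → P i := stepQ 104192 Q104192 (allL N104192 (tt N78289 F444621) (tt N68433 (iv0 F444622)) (tt N78287 F444618) (tt N68377 (iv3 D207384)) (tt N117736 (iv4 F506704)) (tt N98550 (iv5 F444620)) (tt N110526 (iv6 F471991)) (tt N78288 F444619))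
theorem Q104194 : ∀ i, i < 104194 → P i := stepQ 104193 Q104193 (allL N104193 (tt N103972 F444626) (tt N68385 F444628) (tt N78516 F444623) (tt N88821 (iv3 F444629)) (tt N68377 (iv4 D207385)) (tt N78523 F444627) (tt N103209 F444624) (tt N103971 F444625))
theorem Q104195 : ∀ i, i < 104195 → P i := stepQ 104194 Q104194 (allL N104194 (tt N104940 F448037) (tt N105922 F452363) (tt N104020 F444630) (tt N98550 F444631) (tt N104547 (iv4 F446215)) (tt N68377 (iv5 D207386)) (tt N99804 F444632) (tt N97921 F444633))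
theorem Q104196 : ∀ i, i < 104196 → P i := stepQ 104195 Q104195 (allL N104195 (tt N95454 (iv1 F444639)) (tt N98159 F444640) (tt N103964 F444634) (tt N79864 F444635) (tt N68383 F444636) (tt N79863 F444637) (tt N86879 F444638) (tt N68381 (iv7 D207387)))
theorem Q104197 : ∀ i, i < 104197 → P i := stepQ 104196 Q104196 (allL N104196 (tt N68387 F444644) (tt N103979 (iv0 F444645)) (tt N103978 F444641) (tt N93153 F444642) (tt N68382 (iv4 D207388)) (tt N113510 (iv5 F485842)) (tt N111788 F477979) (tt N93159 F444643))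
theorem Q104198 : ∀ i, i < 104198 → P i := stepQ 104197 Q104197 (allL N104197 (tt N97226 (iv1 F444651)) (tt N97232 F444650) (tt N68384 (iv2 D207389)) (tt N103969 F444646) (tt N112731 (iv4 F482405)) (tt N68683 F444647) (tt N78755 F444648) (tt N97231 F444649))
theorem Q104199 : ∀ i, i < 104199 → P i := stepQ 104198 Q104198 (allL N104198 (tt N100649 F444655) (tt N112730 (iv0 F482402)) (tt N112731 F482406) (tt N69410 F444652) (tt N68384 (iv4 D207390)) (tt N87735 (iv5 F444656)) (tt N82497 F444653) (tt N100528 F444654))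
theorem Q104200 : ∀ i, i < 104200 → P i := stepQ 104199 Q104199 (allL N104199 (tt N103978 (iv1 F444662)) (tt N93159 F444663) (tt N103979 F444657) (tt N103217 F444658) (tt N69481 F444659) (tt N103280 F444660) (tt N103972 F444661) (tt N68387 (iv7 D207391)))
theorem Q104201 : ∀ i, i < 104201 → P i := stepQ 104200 Q104200 (allL N104200 (tt N75639 F444668) (tt N75037 F444669) (tt N94126 F444664) (tt N100998 F444665) (tt N92830 F444666) (tt N77647 F444667) (tt N68393 (iv6 D207392)) (tt N109803 (iv7 F468695)))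
theorem Q104202 : ∀ i, i < 104202 → P i := stepQ 104201 Q104201 (allL N104201 (tt N109364 F466593) (tt N111191 F475164) (tt N105421 (iv2 F450180)) (tt N68394 (iv3 D207393)) (tt N105417 (iv4 F450168)) (tt N104979 (iv5 F448240)) (tt N105798 F451771) (tt N105006 (iv7 F448335)))
theorem Q104203 : ∀ i, i < 104203 → P i := stepQ 104202 Q104202 (allL N104202 (tt N70450 (iv1 F444671)) (tt N68395 (iv0 D207394)) (tt N105806 F451813) (tt N88879 (iv3 F444673)) (tt N70782 F444670) (tt N105947 (iv5 F452454)) (tt N88877 F444674) (tt N75652 F444672))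
theorem Q104204 : ∀ i, i < 104204 → P i := stepQ 104203 Q104203 (allL N104203 (tt N101779 F444675) (tt N112538 (iv0 F481571)) (tt N109758 (iv2 F468477)) (tt N68396 (iv3 D207395)) (tt N110320 (iv4 F471029)) (tt N110093 (iv5 F469951)) (tt N110290 (iv6 F470872)) (tt N116300 (iv7 F499443)))
theorem Q104205 : ∀ i, i < 104205 → P i := stepQ 104204 Q104204 (allL N104204 (tt N80503 F444679) (tt N100933 (iv0 F444680)) (tt N100937 F444676) (tt N110093 F469950) (tt N100075 F444678) (tt N68396 (iv5 D207396)) (tt N100074 (iv6 F444681)) (tt N100938 F444677))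
theorem Q104206 : ∀ i, i < 104206 → P i := stepQ 104205 Q104205 (allL N104205 (tt N111947 (iv1 F478821)) (tt N105335 (iv0 F449757)) (tt N100886 F444682) (tt N111951 (iv3 F478834)) (tt N105271 (iv4 F449489)) (tt N68398 F444683) (tt N120064 F518853) (tt N68397 (iv7 D207397)))
theorem Q104207 : ∀ i, i < 104207 → P i := stepQ 104206 Q104206 (allL N104206 (tt N90453 F444687) (tt N100231 F444688) (tt N93990 F444684) (tt N86210 (iv3 F444689)) (tt N68404 (iv4 D207398)) (tt N76407 F444685) (tt N86207 F444690) (tt N93994 F444686))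
theorem Q104208 : ∀ i, i < 104208 → P i := stepQ 104207 Q104207 (allL N104207 (tt N70375 (iv1 F444697)) (tt N85138 (iv0 F444696)) (tt N70178 F444692) (tt N115075 (iv3 F493357)) (tt N86207 F444693) (tt N70175 F444694) (tt N68404 (iv6 D207399)) (tt N70183 F444695))
theorem Q104209 : ∀ i, i < 104209 → P i := stepQ 104208 Q104208 (allL N104208 (tt N68426 (iv1 D207400)) (tt N105014 F448379) (tt N105013 (iv2 F448373)) (tt N85315 (iv3 F444699)) (tt N93997 (iv4 F444700)) (tt N85313 F444701) (tt N115478 F495389) (tt N93995 F444698))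
theorem Q104210 : ∀ i, i < 104210 → P i := stepQ 104209 Q104209 (allL N104209 (tt N83724 F444704) (tt N108792 (iv0 F463965)) (tt N68438 F444702) (tt N111331 (iv3 F475856)) (tt N68429 F444703) (tt N91081 (iv5 F444705)) (tt N68428 (iv6 D207401)) (tt N113780 (iv7 F487073)))
theorem Q104211 : ∀ i, i < 104211 → P i := stepQ 104210 Q104210 (allL N104210 (tt N68441 (iv1 F444707)) (tt N68429 (iv0 D207402)) (tt N68439 (iv2 F444708)) (tt N85740 F444710) (tt N109736 (iv4 F468351)) (tt N86661 F444706) (tt N114959 (iv6 F492764)) (tt N68440 (iv7 F444709)))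
theorem Q104212 : ∀ i, i < 104212 → P i := stepQ 104211 Q104211 (allL N104211 (tt N68429 (iv1 D207403)) (tt N68441 F444711) (tt N68440 F444715) (tt N92933 (iv3 F444714)) (tt N98003 F444716) (tt N86840 F444713) (tt N108361 (iv6 F462250)) (tt N68439 F444712))
theorem Q104213 : ∀ i, i < 104213 → P i := stepQ 104212 Q104212 (allL N104212 (tt N92949 (iv1 F444721)) (tt N92948 F444722) (tt N92950 F444717) (tt N86795 F444718) (tt N104011 F444719) (tt N109035 (iv5 F465028)) (tt N88436 F444720) (tt N68431 (iv7 D207404)))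
theorem Q104214 : ∀ i, i < 104214 → P i := stepQ 104213 Q104213 (allL N104213 (tt N68433 (iv1 D207405)) (tt N78289 F444723) (tt N78288 (iv2 F444729)) (tt N70677 (iv3 F444725)) (tt N88811 F444728) (tt N70671 (iv5 F444726)) (tt N70674 (iv6 F444727)) (tt N78287 F444724))
theorem Q104215 : ∀ i, i < 104215 → P i := stepQ 104214 Q104214 (allL N104214 (tt N97269 (iv1 F444738)) (tt N97268 (iv0 F444734)) (tt N81452 F444730) (tt N68435 (iv3 D207406)) (tt N112413 (iv4 F480997)) (tt N80899 F444731) (tt N84441 (iv6 F444737)) (tt N97262 F444732))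
theorem Q104216 : ∀ i, i < 104216 → P i := stepQ 104215 Q104215 (allL N104215 (tt N117736 (iv1 F506708)) (tt N88811 (iv0 F444747)) (tt N98724 F444742) (tt N84441 F444743) (tt N79093 F444744) (tt N98722 F444745) (tt N68435 (iv6 D207407)) (tt N86914 F444746))
theorem Q104217 : ∀ i, i < 104217 → P i := stepQ 104216 Q104216 (allL N104216 (tt N113780 (iv1 F487075)) (tt N68438 (iv0 D207408)) (tt N83724 (iv2 F444750)) (tt N108795 (iv3 F463980)) (tt N87648 F444748) (tt N108787 (iv5 F463931)) (tt N83720 F444749) (tt N108792 (iv7 F463964)))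
theorem Q104218 : ∀ i, i < 104218 → P i := stepQ 104217 Q104217 (allL N104217 (tt N68438 (iv1 D207409)) (tt N113780 (iv0 F487074)) (tt N108792 (iv2 F463961)) (tt N83725 (iv3 F444753)) (tt N87159 F444752) (tt N108788 (iv5 F463939)) (tt N97273 F444754) (tt N83724 F444751))
theorem Q104219 : ∀ i, i < 104219 → P i := stepQ 104218 Q104218 (allL N104218 (tt N69766 F444759) (tt N99750 (iv0 F444760)) (tt N109011 (iv2 F464909)) (tt N68443 (iv3 D207410)) (tt N73845 F444755) (tt N100783 F444756) (tt N73851 F444757) (tt N100157 F444758))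
theorem Q104220 : ∀ i, i < 104220 → P i := stepQ 104219 Q104219 (allL N104219 (tt N73103 F444766) (tt N75984 F444767) (tt N68456 F444761) (tt N75936 F444762) (tt N80533 F444763) (tt N68451 (iv5 D207411)) (tt N68452 F444764) (tt N80477 F444765))
theorem Q104221 : ∀ i, i < 104221 → P i := stepQ 104220 Q104220 (allL N104220 (tt N77611 (iv1 F444772)) (tt N69642 F444773) (tt N100397 F444768) (tt N76565 F444769) (tt N68460 F444770) (tt N109916 (iv5 F469202)) (tt N76563 F444771) (tt N68458 (iv7 D207412)))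
theorem Q104222 : ∀ i, i < 104222 → P i := stepQ 104221 Q104221 (allL N104221 (tt N77551 F444779) (tt N87916 F444778) (tt N80498 F444774) (tt N77241 F444775) (tt N109529 (iv4 F467388)) (tt N68459 (iv5 D207413)) (tt N77239 F444776) (tt N99996 F444777))
theorem Q104223 : ∀ i, i < 104223 → P i := stepQ 104222 Q104222 (allL N104222 (tt N101706 F444783) (tt N76753 F444784) (tt N117102 (iv2 F503396)) (tt N68470 F444780) (tt N115780 (iv4 F496833)) (tt N68467 (iv5 D207414)) (tt N68983 F444781) (tt N103614 F444782))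
theorem Q104224 : ∀ i, i < 104224 → P i := stepQ 104223 Q104223 (allL N104223 (tt N111099 (iv1 F474658)) (tt N111098 (iv0 F474656)) (tt N103565 F444785) (tt N119417 (iv3 F515511)) (tt N68470 (iv4 D207415)) (tt N120761 (iv5 F522573)) (tt N68984 F444786) (tt N103617 F444787))
theorem Q104225 : ∀ i, i < 104225 → P i := stepQ 104224 Q104224 (allL N104224 (tt N69177 F444792) (tt N78593 F444793) (tt N69323 F444788) (tt N90469 F444789) (tt N104728 (iv4 F447013)) (tt N68473 (iv5 D207416)) (tt N102687 F444790) (tt N78599 F444791))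
theorem Q104226 : ∀ i, i < 104226 → P i := stepQ 104225 Q104225 (allL N104225 (tt N111770 (iv1 F477885)) (tt N115503 F495532) (tt N75943 F444794) (tt N113127 (iv3 F484102)) (tt N120760 (iv4 F522566)) (tt N68474 (iv5 D207417)) (tt N87083 F444795) (tt N118956 (iv7 F512963)))
theorem Q104227 : ∀ i, i < 104227 → P i := stepQ 104226 Q104226 (allL N104226 (tt N75942 (iv1 F444800)) (tt N75941 F444801) (tt N75944 F444796) (tt N87961 F444797) (tt N68475 F444798) (tt N118956 (iv5 F512962)) (tt N75944 F444799) (tt N68474 (iv7 D207418)))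
theorem Q104228 : ∀ i, i < 104228 → P i := stepQ 104227 Q104227 (allL N104227 (tt N91218 F444804) (tt N91212 (iv0 F444805)) (tt N91216 F444806) (tt N68476 (iv3 D207419)) (tt N109700 (iv4 F468179)) (tt N77672 F444802) (tt N105839 (iv6 F451970)) (tt N91217 F444803))
theorem Q104229 : ∀ i, i < 104229 → P i := stepQ 104228 Q104228 (allL N104228 (tt N70793 (iv1 F444811)) (tt N68477 (iv0 D207420)) (tt N100298 (iv2 F444810)) (tt N92931 (iv3 F444813)) (tt N70039 F444808) (tt N96765 F444807) (tt N70039 F444809) (tt N100299 F444812))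
theorem Q104230 : ∀ i, i < 104230 → P i := stepQ 104229 Q104229 (allL N104229 (tt N107829 F459897) (tt N120959 D224218) (tt N100317 F444814) (tt N88906 F444815) (tt N105828 (iv4 F451908)) (tt N88902 F444816) (tt N68478 (iv6 D207421)) (tt N105827 F451907))
theorem Q104231 : ∀ i, i < 104231 → P i := stepQ 104230 Q104230 (allL N104230 (tt N68515 (iv1 F444821)) (tt N68488 (iv0 D207422)) (tt N68512 (iv2 F444820)) (tt N80309 (iv3 F444823)) (tt N80490 F444818) (tt N84353 F444817) (tt N80293 F444819) (tt N68513 F444822))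
theorem Q104232 : ∀ i, i < 104232 → P i := stepQ 104231 Q104231 (allL N104231 (tt N68550 (iv1 F444829)) (tt N68498 (iv0 D207423)) (tt N68547 (iv2 F444826)) (tt N79222 (iv3 F444830)) (tt N79511 F444825) (tt N100137 F444824) (tt N80049 (iv6 F444827)) (tt N68548 (iv7 F444828)))
theorem Q104233 : ∀ i, i < 104233 → P i := stepQ 104232 Q104232 (allL N104232 (tt N68498 (iv1 D207424)) (tt N68550 F444831) (tt N68548 (iv2 F444837)) (tt N100140 F444836) (tt N79510 F444833) (tt N100138 (iv5 F444835)) (tt N79788 (iv6 F444834)) (tt N68547 F444832))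
theorem Q104234 : ∀ i, i < 104234 → P i := stepQ 104233 Q104233 (allL N104233 (tt N68548 (iv1 F444843)) (tt N68547 F444844) (tt N68550 F444838) (tt N80844 F444839) (tt N100698 F444840) (tt N80838 F444841) (tt N102848 F444842) (tt N68498 (iv7 D207425)))
theorem Q104235 : ∀ i, i < 104235 → P i := stepQ 104234 Q104234 (allL N104234 (tt N104806 (iv1 F447376)) (tt N104802 (iv0 F447356)) (tt N94071 F444845) (tt N68503 F444846) (tt N68510 F444847) (tt N82171 F444848) (tt N68501 (iv6 D207426)) (tt N103110 F444849))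
theorem Q104236 : ∀ i, i < 104236 → P i := stepQ 104235 Q104235 (allL N104235 (tt N94061 F444855) (tt N94060 (iv0 F444856)) (tt N88201 F444850) (tt N82170 F444851) (tt N87888 F444852) (tt N82169 F444853) (tt N68502 (iv6 D207427)) (tt N88080 F444854))
theorem Q104237 : ∀ i, i < 104237 → P i := stepQ 104236 Q104236 (allL N104236 (tt N68503 (iv1 D207428)) (tt N100144 F444857) (tt N69419 (iv2 F444861)) (tt N104811 (iv3 F447409)) (tt N69418 F444859) (tt N95782 F444860) (tt N104797 F447326) (tt N95781 F444858))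
theorem Q104238 : ∀ i, i < 104238 → P i := stepQ 104237 Q104237 (allL N104237 (tt N80455 F444867) (tt N111923 (iv0 F478676)) (tt N103756 F444862) (tt N72238 F444863) (tt N78625 F444864) (tt N72236 F444865) (tt N68505 (iv6 D207429)) (tt N73106 F444866))
theorem Q104239 : ∀ i, i < 104239 → P i := stepQ 104238 Q104238 (allL N104238 (tt N104805 F447375) (tt N68510 (iv0 D207430)) (tt N76754 (iv2 F444869)) (tt N80693 F444868) (tt N78558 (iv4 F444871)) (tt N112071 (iv5 F479351)) (tt N76752 (iv6 F444870)) (tt N112129 (iv7 F479640)))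
theorem Q104240 : ∀ i, i < 104240 → P i := stepQ 104239 Q104239 (allL N104239 (tt N68510 (iv1 D207431)) (tt N104805 F447374) (tt N112129 (iv2 F479645)) (tt N76760 F444876) (tt N86378 F444873) (tt N100485 (iv5 F444874)) (tt N75222 (iv6 F444875)) (tt N76754 F444872))
theorem Q104241 : ∀ i, i < 104241 → P i := stepQ 104240 Q104240 (allL N104240 (tt N75212 F444880) (tt N80313 (iv0 F444881)) (tt N80314 F444877) (tt N68513 (iv3 D207432)) (tt N109769 (iv4 F468525)) (tt N100792 F444878) (tt N68513 F444882) (tt N80309 F444879))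
theorem Q104242 : ∀ i, i < 104242 → P i := stepQ 104241 Q104241 (allL N104241 (tt N81265 F444884) (tt N108728 F463729) (tt N108730 (iv2 F463733)) (tt N110535 (iv3 F472037)) (tt N68521 F444883) (tt N116030 (iv5 F498137)) (tt N68519 (iv6 D207433)) (tt N108725 (iv7 F463714)))
theorem Q104243 : ∀ i, i < 104243 → P i := stepQ 104242 Q104242 (allL N104242 (tt N74883 F444890) (tt N81311 F444891) (tt N98320 F444885) (tt N84730 F444886) (tt N68520 (iv4 D207434)) (tt N79006 F444887) (tt N92586 F444888) (tt N98319 F444889))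
theorem Q104244 : ∀ i, i < 104244 → P i := stepQ 104243 Q104243 (allL N104243 (tt N71308 (iv1 F444896)) (tt N70880 (iv0 F444894)) (tt N71250 F444892) (tt N85374 F444893) (tt N109639 (iv4 F467873)) (tt N70851 F444895) (tt N68522 (iv6 D207435)) (tt N71247 (iv7 F444897)))
theorem Q104245 : ∀ i, i < 104245 → P i := stepQ 104244 Q104244 (allL N104244 (tt N71935 F444902) (tt N71018 F444903) (tt N71251 F444898) (tt N89047 F444899) (tt N120960 D224219) (tt N68523 (iv5 D207436)) (tt N70851 F444900) (tt N70977 F444901))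
theorem Q104246 : ∀ i, i < 104246 → P i := stepQ 104245 Q104245 (allL N104245 (tt N74713 (iv1 F444908)) (tt N68527 (iv0 D207437)) (tt N74715 (iv2 F444907)) (tt N79414 F444905) (tt N107726 (iv4 F459407)) (tt N79386 F444904) (tt N76157 F444906) (tt N74714 F444909))
theorem Q104247 : ∀ i, i < 104247 → P i := stepQ 104246 Q104246 (allL N104246 (tt N93604 F444913) (tt N117070 (iv0 F503233)) (tt N89479 F444910) (tt N120961 D224220) (tt N68527 (iv4 D207438)) (tt N74537 F444912) (tt N96161 F444911) (tt N109478 (iv7 F467178)))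
theorem Q104248 : ∀ i, i < 104248 → P i := stepQ 104247 Q104247 (allL N104247 (tt N82457 (iv1 F444919)) (tt N68535 (iv0 D207439)) (tt N94031 (iv2 F444918)) (tt N75414 F444916) (tt N94176 F444915) (tt N102773 F444914) (tt N79767 F444917) (tt N106099 (iv7 F453107)))
theorem Q104249 : ∀ i, i < 104249 → P i := stepQ 104248 Q104248 (allL N104248 (tt N112707 F482282) (tt N118427 F510296) (tt N106732 (iv2 F455459)) (tt N81238 F444920) (tt N93761 F444922) (tt N68535 (iv5 D207440)) (tt N68536 F444921) (tt N118426 (iv7 F510289)))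
theorem Q104250 : ∀ i, i < 104250 → P i := stepQ 104249 Q104249 (allL N104249 (tt N73068 F444928) (tt N72941 F444929) (tt N72884 F444923) (tt N73060 F444924) (tt N68536 (iv4 D207441)) (tt N93758 F444925) (tt N93761 F444926) (tt N73069 F444927))
theorem Q104251 : ∀ i, i < 104251 → P i := stepQ 104250 Q104250 (allL N104250 (tt N96963 F444935) (tt N80120 F444936) (tt N79398 F444930) (tt N68540 F444931) (tt N103249 F444932) (tt N68539 (iv5 D207442)) (tt N94028 F444933) (tt N75410 F444934))
theorem Q104252 : ∀ i, i < 104252 → P i := stepQ 104251 Q104251 (allL N104251 (tt N93162 (iv1 F444940)) (tt N68542 (iv0 D207443)) (tt N84699 F444942) (tt N91194 (iv3 F444941)) (tt N88912 F444938) (tt N84668 F444937) (tt N91192 F444939) (tt N84702 F444943))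
theorem Q104253 : ∀ i, i < 104253 → P i := stepQ 104252 Q104252 (allL N104252 (tt N68542 (iv1 D207444)) (tt N93162 F444944) (tt N84702 F444949) (tt N95315 (iv3 F444948)) (tt N95805 F444947) (tt N84669 F444946) (tt N79654 F444950) (tt N84699 F444945))
theorem Q104254 : ∀ i, i < 104254 → P i := stepQ 104253 Q104253 (allL N104253 (tt N68588 F444956) (tt N100152 F444957) (tt N100138 F444951) (tt N76940 F444952) (tt N94122 F444953) (tt N68548 (iv5 D207445)) (tt N76939 F444954) (tt N100137 F444955))
theorem Q104255 : ∀ i, i < 104255 → P i := stepQ 104254 Q104254 (allL N104254 (tt N68551 (iv1 D207446)) (tt N102848 F444958) (tt N80987 (iv2 F444962)) (tt N79514 (iv3 F444963)) (tt N80196 F444960) (tt N97376 F444961) (tt N96965 (iv6 F444964)) (tt N76880 F444959))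
theorem Q104256 : ∀ i, i < 104256 → P i := stepQ 104255 Q104255 (allL N104255 (tt N108730 (iv1 F463738)) (tt N108725 (iv0 F463715)) (tt N108728 F463727) (tt N76737 F444965) (tt N107571 (iv4 F458788)) (tt N96962 F444966) (tt N68553 (iv6 D207447)) (tt N81265 F444967))
theorem Q104257 : ∀ i, i < 104257 → P i := stepQ 104256 Q104256 (allL N104256 (tt N100138 F444972) (tt N100137 F444973) (tt N100152 F444968) (tt N68591 F444969) (tt N68558 (iv4 D207448)) (tt N79335 F444971) (tt N104799 (iv6 F447338)) (tt N68588 F444970))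
theorem Q104258 : ∀ i, i < 104258 → P i := stepQ 104257 Q104257 (allL N104257 (tt N103756 (iv1 F444978)) (tt N73106 (iv0 F444977)) (tt N111923 (iv2 F478672)) (tt N68559 F444974) (tt N104799 (iv4 F447336)) (tt N81689 F444976) (tt N68558 (iv6 D207449)) (tt N80455 F444975))
theorem Q104259 : ∀ i, i < 104259 → P i := stepQ 104258 Q104258 (allL N104258 (tt N74935 F444982) (tt N76490 F444983) (tt N76488 F444979) (tt N104147 F444984) (tt N68568 (iv4 D207450)) (tt N81372 (iv5 F444985)) (tt N104146 F444980) (tt N76487 F444981))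
theorem Q104260 : ∀ i, i < 104260 → P i := stepQ 104259 Q104259 (allL N104259 (tt N101498 F444992) (tt N99745 F444994) (tt N94168 F444988) (tt N68570 F444989) (tt N98473 F444993) (tt N68568 (iv5 D207451)) (tt N72776 F444990) (tt N80471 F444991))
theorem Q104261 : ∀ i, i < 104261 → P i := stepQ 104260 Q104260 (allL N104260 (tt N107630 (iv1 F459008)) (tt N107629 (iv0 F459007)) (tt N107631 (iv2 F459013)) (tt N68569 (iv3 D207452)) (tt N104147 F444995) (tt N107625 (iv5 F458989)) (tt N103062 F444996) (tt N107624 F458986))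
theorem Q104262 : ∀ i, i < 104262 → P i := stepQ 104261 Q104261 (allL N104261 (tt N68578 (iv1 D207453)) (tt N111088 F474603) (tt N104810 (iv2 F447403)) (tt N99954 (iv3 F444999)) (tt N83306 F444998) (tt N102728 F445001) (tt N94073 (iv6 F445000)) (tt N100340 F444997))
theorem Q104263 : ∀ i, i < 104263 → P i := stepQ 104262 Q104262 (allL N104262 (tt N104810 F447406) (tt N100340 (iv0 F445006)) (tt N111088 (iv2 F474598)) (tt N68584 F445002) (tt N89007 F445003) (tt N100351 F445004) (tt N89005 F445005) (tt N68578 (iv7 D207454)))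
theorem Q104264 : ∀ i, i < 104264 → P i := stepQ 104263 Q104263 (allL N104263 (tt N95805 F445009) (tt N88912 F445010) (tt N104788 (iv2 F447280)) (tt N76747 F445007) (tt N100723 (iv4 F445012)) (tt N68579 (iv5 D207455)) (tt N101671 F445011) (tt N76745 F445008))
theorem Q104265 : ∀ i, i < 104265 → P i := stepQ 104264 Q104264 (allL N104264 (tt N100137 F445017) (tt N100138 (iv0 F445018)) (tt N68588 F445014) (tt N89424 F445015) (tt N80457 F445016) (tt N111517 (iv5 F476685)) (tt N68586 (iv6 D207456)) (tt N100152 F445019))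
theorem Q104266 : ∀ i, i < 104266 → P i := stepQ 104265 Q104265 (allL N104265 (tt N71972 F445024) (tt N88691 (iv0 F445023)) (tt N115796 (iv2 F496933)) (tt N68597 (iv3 D207457)) (tt N69805 F445022) (tt N80849 F445020) (tt N80851 F445021) (tt N110856 (iv7 F473458)))
theorem Q104267 : ∀ i, i < 104267 → P i := stepQ 104266 Q104266 (allL N104266 (tt N113931 (iv1 F487847)) (tt N87660 (iv0 F445027)) (tt N88666 F445025) (tt N115312 (iv3 F494525)) (tt N68597 (iv4 D207458)) (tt N104404 (iv5 F445620)) (tt N83980 F445026) (tt N110857 (iv7 F473464)))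
theorem Q104268 : ∀ i, i < 104268 → P i := stepQ 104267 Q104267 (allL N104267 (tt N88655 (iv1 F445031)) (tt N88654 F445032) (tt N88657 F445028) (tt N115797 (iv3 F496940)) (tt N118089 (iv4 F508519)) (tt N89476 F445029) (tt N68598 (iv6 D207459)) (tt N83979 F445030))
theorem Q104269 : ∀ i, i < 104269 → P i := stepQ 104268 Q104268 (allL N104268 (tt N103235 F445037) (tt N102417 F445038) (tt N103319 F445033) (tt N97881 F445034) (tt N68601 (iv4 D207460)) (tt N105872 (iv5 F452119)) (tt N86918 F445035) (tt N103311 F445036))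
theorem Q104270 : ∀ i, i < 104270 → P i := stepQ 104269 Q104269 (allL N104269 (tt N95677 (iv1 F445041)) (tt N68604 (iv0 D207461)) (tt N97910 (iv2 F445040)) (tt N117512 (iv3 F505433)) (tt N120812 (iv4 F522859)) (tt N101713 F445039) (tt N118077 (iv6 F508447)) (tt N102364 F445042))
theorem Q104271 : ∀ i, i < 104271 → P i := stepQ 104270 Q104270 (allL N104270 (tt N91816 F445047) (tt N103241 F445048) (tt N103371 F445043) (tt N97487 F445044) (tt N102109 F445049) (tt N68610 (iv5 D207462)) (tt N97485 F445045) (tt N103370 F445046))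
theorem Q104272 : ∀ i, i < 104272 → P i := stepQ 104271 Q104271 (allL N104271 (tt N103241 F445052) (tt N91816 F445053) (tt N103370 F445050) (tt N111752 (iv3 F477791)) (tt N111753 (iv4 F477799)) (tt N68611 (iv5 D207463)) (tt N111751 F477789) (tt N103371 F445051))
theorem Q104273 : ∀ i, i < 104273 → P i := stepQ 104272 Q104272 (allL N104272 (tt N90696 F445057) (tt N68649 F445058) (tt N87659 F445054) (tt N115752 (iv3 F496667)) (tt N78626 F445055) (tt N115752 (iv5 F496669)) (tt N68612 (iv6 D207464)) (tt N90697 F445056))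
theorem Q104274 : ∀ i, i < 104274 → P i := stepQ 104273 Q104273 (allL N104273 (tt N110857 (iv1 F473466)) (tt N88666 (iv0 F445063)) (tt N113931 (iv2 F487841)) (tt N68613 (iv3 D207465)) (tt N70959 F445059) (tt N68804 F445060) (tt N70958 F445061) (tt N87660 F445062))
theorem Q104275 : ∀ i, i < 104275 → P i := stepQ 104274 Q104274 (allL N104274 (tt N68643 F445065) (tt N103926 (iv0 F445066)) (tt N115749 (iv2 F496656)) (tt N119448 (iv3 F515673)) (tt N118113 (iv4 F508673)) (tt N103574 F445064) (tt N68618 (iv6 D207466)) (tt N118045 (iv7 F508264)))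
theorem Q104276 : ∀ i, i < 104276 → P i := stepQ 104275 Q104275 (allL N104275 (tt N92060 F445068) (tt N120620 (iv0 F521801)) (tt N68621 F445067) (tt N104908 (iv3 F447882)) (tt N104945 (iv4 F448066)) (tt N103923 (iv5 F452102)) (tt N68619 (iv6 D207467)) (tt N120962 D224221))
theorem Q104277 : ∀ i, i < 104277 → P i := stepQ 104276 Q104276 (allL N104276 (tt N120962 (iv1 F523733)) (tt N68621 (iv0 D207468)) (tt N92060 (iv2 F445070)) (tt N97539 (iv3 F445071)) (tt N117961 (iv4 F507800)) (tt N92057 F445069) (tt N113145 (iv6 F484180)) (tt N120620 (iv7 F521800)))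
theorem Q104278 : ∀ i, i < 104278 → P i := stepQ 104277 Q104277 (allL N104277 (tt N68621 (iv1 D207469)) (tt N120962 F523732) (tt N120620 (iv2 F521796)) (tt N92065 (iv3 F445073)) (tt N120754 (iv4 F522535)) (tt N92061 (iv5 F445074)) (tt N103313 (iv6 F445075)) (tt N92060 F445072))
theorem Q104279 : ∀ i, i < 104279 → P i := stepQ 104278 Q104278 (allL N104278 (tt N120620 F521802) (tt N92060 (iv0 F445080)) (tt N120962 (iv2 F523727)) (tt N68623 F445077) (tt N104948 (iv4 F448087)) (tt N103922 F445078) (tt N93679 F445079) (tt N68621 (iv7 D207470)))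
theorem Q104280 : ∀ i, i < 104280 → P i := stepQ 104279 Q104279 (allL N104279 (tt N104355 (iv1 F445403)) (tt N68622 (iv0 D207471)) (tt N104352 F445384) (tt N115825 (iv3 F497101)) (tt N92931 F445081) (tt N117445 (iv5 F505068)) (tt N115825 F497105) (tt N104353 (iv7 F445389)))
theorem Q104281 : ∀ i, i < 104281 → P i := stepQ 104280 Q104280 (allL N104280 (tt N68622 (iv1 D207472)) (tt N104355 F445402) (tt N104353 F445392) (tt N115321 (iv3 F494577)) (tt N92932 F445082) (tt N120265 (iv5 F519902)) (tt N120577 (iv6 F521550)) (tt N104352 F445385))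
theorem Q104282 : ∀ i, i < 104282 → P i := stepQ 104281 Q104281 (allL N104281 (tt N104353 (iv1 F445388)) (tt N104352 F445386) (tt N104355 (iv2 F445398)) (tt N88303 F445083) (tt N69608 F445084) (tt N117968 (iv5 F507837)) (tt N91224 F445085) (tt N68622 (iv7 D207473)))
theorem Q104283 : ∀ i, i < 104283 → P i := stepQ 104282 Q104282 (allL N104282 (tt N115412 F495071) (tt N68644 (iv0 F445087)) (tt N104911 (iv2 F447898)) (tt N103574 F445086) (tt N120842 (iv4 F523027)) (tt N119448 (iv5 F515675)) (tt N68624 (iv6 D207474)) (tt N118044 (iv7 F508262)))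
theorem Q104284 : ∀ i, i < 104284 → P i := stepQ 104283 Q104283 (allL N104283 (tt N105391 (iv1 F450027)) (tt N68630 (iv0 F445090)) (tt N103571 F445088) (tt N68625 (iv3 D207475)) (tt N106943 (iv4 F456381)) (tt N93246 F445089) (tt N120606 (iv6 F521719)) (tt N104910 (iv7 F447894)))
theorem Q104285 : ∀ i, i < 104285 → P i := stepQ 104284 Q104284 (allL N104284 (tt N102393 F445095) (tt N97775 (iv0 F445096)) (tt N68628 F445091) (tt N93678 F445092) (tt N103692 F445093) (tt N101999 F445094) (tt N68626 (iv6 D207476)) (tt N101997 F445097))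
theorem Q104286 : ∀ i, i < 104286 → P i := stepQ 104285 Q104285 (allL N104285 (tt N68630 (iv1 D207477)) (tt N105391 (iv0 F450026)) (tt N104910 (iv2 F447892)) (tt N68955 (iv3 F445100)) (tt N104094 F445099) (tt N116042 (iv5 F498206)) (tt N88792 (iv6 F445101)) (tt N103571 F445098))
theorem Q104287 : ∀ i, i < 104287 → P i := stepQ 104286 Q104286 (allL N104286 (tt N112818 F482770) (tt N110278 (iv0 F470801)) (tt N105472 (iv2 F450393)) (tt N68633 F445102) (tt N105393 (iv4 F450034)) (tt N111651 (iv5 F477310)) (tt N68630 (iv6 D207478)) (tt N90414 F445103))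
theorem Q104288 : ∀ i, i < 104288 → P i := stepQ 104287 Q104287 (allL N104287 (tt N120963 D224222) (tt N120964 D224223) (tt N104341 (iv2 F445334)) (tt N115184 (iv3 F493911)) (tt N68632 (iv4 D207479)) (tt N115183 F493909) (tt N116087 F498397) (tt N104340 (iv7 F445333)))
theorem Q104289 : ∀ i, i < 104289 → P i := stepQ 104288 Q104288 (allL N104288 (tt N115320 F494576) (tt N115321 F494580) (tt N104342 (iv2 F445336)) (tt N88279 F445104) (tt N116087 (iv4 F498395)) (tt N104779 F447229) (tt N68632 (iv6 D207480)) (tt N112508 (iv7 F481423)))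
theorem Q104290 : ∀ i, i < 104290 → P i := stepQ 104289 Q104289 (allL N104289 (tt N120964 (iv1 F523739)) (tt N120963 F523736) (tt N104340 (iv2 F445331)) (tt N114229 (iv3 F489103)) (tt N68635 (iv4 D207481)) (tt N115152 (iv5 F493745)) (tt N88326 F445105) (tt N104341 (iv7 F445335)))
theorem Q104291 : ∀ i, i < 104291 → P i := stepQ 104290 Q104290 (allL N104290 (tt N115275 (iv1 F494329)) (tt N115271 (iv0 F494306)) (tt N68639 F445106) (tt N92996 F445107) (tt N68636 (iv4 D207482)) (tt N120965 D224224) (tt N68639 F445108) (tt N115273 (iv7 F494317)))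
theorem Q104292 : ∀ i, i < 104292 → P i := stepQ 104291 Q104291 (allL N104291 (tt N93246 (iv1 F445111)) (tt N116042 (iv0 F498208)) (tt N68783 (iv2 F445110)) (tt N68637 (iv3 D207483)) (tt N104419 F445674) (tt N68696 F445109) (tt N68774 (iv6 F445112)) (tt N105536 (iv7 F450629)))
theorem Q104293 : ∀ i, i < 104293 → P i := stepQ 104292 Q104292 (allL N104292 (tt N104412 (iv1 F445653)) (tt N120966 D224225) (tt N118068 (iv2 F508397)) (tt N115188 F493933) (tt N68637 (iv4 D207484)) (tt N115198 (iv5 F493980)) (tt N120963 F523737) (tt N118066 (iv7 F508386)))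
theorem Q104294 : ∀ i, i < 104294 → P i := stepQ 104293 Q104293 (allL N104293 (tt N118118 (iv1 F508703)) (tt N93009 (iv0 F445115)) (tt N118069 (iv2 F508402)) (tt N68774 F445113) (tt N120963 (iv4 F523734)) (tt N68773 F445114) (tt N68637 (iv6 D207485)) (tt N68792 (iv7 F445116)))
theorem Q104295 : ∀ i, i < 104295 → P i := stepQ 104294 Q104294 (allL N104294 (tt N116033 (iv1 F498155)) (tt N95888 (iv0 F445119)) (tt N111870 (iv2 F478413)) (tt N68638 (iv3 D207486)) (tt N116082 (iv4 F498367)) (tt N68699 F445117) (tt N83606 (iv6 F445118)) (tt N116041 (iv7 F498202)))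
theorem Q104296 : ∀ i, i < 104296 → P i := stepQ 104295 Q104295 (allL N104295 (tt N120966 (iv1 F523751)) (tt N104412 (iv0 F445652)) (tt N118066 (iv2 F508384)) (tt N115192 (iv3 F493952)) (tt N68638 (iv4 D207487)) (tt N120967 D224226) (tt N119450 F515686) (tt N118068 (iv7 F508399)))
theorem Q104297 : ∀ i, i < 104297 → P i := stepQ 104296 Q104296 (allL N104296 (tt N93248 F445122) (tt N115270 (iv0 F494301)) (tt N118067 (iv2 F508390)) (tt N83606 F445120) (tt N119450 (iv4 F515684)) (tt N103323 F445121) (tt N68638 (iv6 D207488)) (tt N111868 (iv7 F478403)))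
theorem Q104298 : ∀ i, i < 104298 → P i := stepQ 104297 Q104297 (allL N104297 (tt N115273 (iv1 F494316)) (tt N68639 (iv0 D207489)) (tt N115275 (iv2 F494324)) (tt N92980 (iv3 F445124)) (tt N68706 F445123) (tt N120968 D224227) (tt N68705 (iv6 F445125)) (tt N115271 (iv7 F494305)))
theorem Q104299 : ∀ i, i < 104299 → P i := stepQ 104298 Q104298 (allL N104298 (tt N115213 F494050) (tt N115782 (iv0 F496847)) (tt N120965 (iv2 F523744)) (tt N86522 F445126) (tt N115451 (iv4 F495254)) (tt N68639 (iv5 D207491)) (tt N115287 F494394) (tt N118070 (iv7 F508410)))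
theorem Q104300 : ∀ i, i < 104300 → P i := stepQ 104299 Q104299 (allL N104299 (tt N87588 F445130) (tt N87591 (iv0 F445131)) (tt N118050 (iv2 F508294)) (tt N91223 F445127) (tt N93118 F445128) (tt N103337 F445129) (tt N68641 (iv6 D207492)) (tt N115372 (iv7 F494863)))
theorem Q104301 : ∀ i, i < 104301 → P i := stepQ 104300 Q104300 (allL N104300 (tt N118045 (iv1 F508263)) (tt N115749 (iv0 F496654)) (tt N68643 (iv2 D207493)) (tt N115412 (iv3 F495066)) (tt N87532 F445132) (tt N97722 F445133) (tt N97780 F445134) (tt N103926 F445135))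
theorem Q104302 : ∀ i, i < 104302 → P i := stepQ 104301 Q104301 (allL N104301 (tt N68644 (iv1 D207494)) (tt N115412 (iv0 F495070)) (tt N118044 F508260) (tt N88791 (iv3 F445136)) (tt N120969 D224228) (tt N115748 (iv5 F496648)) (tt N102232 (iv6 F447903)) (tt N104911 F447902))
theorem Q104303 : ∀ i, i < 104303 → P i := stepQ 104302 Q104302 (allL N104302 (tt N104911 F447901) (tt N118044 F508261) (tt N68644 (iv2 D207495)) (tt N103926 F445137) (tt N116241 (iv4 F499191)) (tt N103481 F445138) (tt N103297 (iv6 F445139)) (tt N115412 (iv7 F495069)))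
theorem Q104304 : ∀ i, i < 104304 → P i := stepQ 104303 Q104303 (allL N104303 (tt N103688 F445142) (tt N116232 (iv0 F499148)) (tt N116241 (iv2 F499188)) (tt N68862 F445140) (tt N68644 (iv4 D207496)) (tt N104746 (iv5 F447088)) (tt N120936 (iv6 F523566)) (tt N68917 F445141))
theorem Q104305 : ∀ i, i < 104305 → P i := stepQ 104304 Q104304 (allL N104304 (tt N68726 (iv1 F445148)) (tt N68729 (iv0 F445147)) (tt N103297 F445143) (tt N68645 F445144) (tt N120936 (iv4 F523564)) (tt N68936 F445145) (tt N68644 (iv6 D207497)) (tt N103298 F445146))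
theorem Q104306 : ∀ i, i < 104306 → P i := stepQ 104305 Q104305 (allL N104305 (tt N103623 F445153) (tt N103574 (iv0 F445154)) (tt N115430 (iv2 F495153)) (tt N68646 (iv3 D207498)) (tt N102830 F445149) (tt N98009 F445150) (tt N87788 F445151) (tt N103388 F445152))
theorem Q104307 : ∀ i, i < 104307 → P i := stepQ 104306 Q104306 (allL N104306 (tt N119448 F515676) (tt N115748 (iv0 F496649)) (tt N120615 (iv2 F521769)) (tt N68647 (iv3 D207499)) (tt N105755 F451545) (tt N102078 F445155) (tt N92663 F445156) (tt N103386 F445157))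
theorem Q104308 : ∀ i, i < 104308 → P i := stepQ 104307 Q104307 (allL N104307 (tt N103420 (iv1 F445161)) (tt N68648 (iv0 D207500)) (tt N113047 (iv2 F483712)) (tt N88702 (iv3 F445162)) (tt N86919 F445159) (tt N82813 F445158) (tt N102361 F445160) (tt N113049 (iv7 F483724)))
theorem Q104309 : ∀ i, i < 104309 → P i := stepQ 104308 Q104308 (allL N104308 (tt N113047 (iv1 F483717)) (tt N113049 (iv0 F483726)) (tt N68648 (iv2 D207501)) (tt N90696 F445163) (tt N97503 F445164) (tt N97501 F445165) (tt N97503 F445166) (tt N103420 F445167))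
theorem Q104310 : ∀ i, i < 104310 → P i := stepQ 104309 Q104309 (allL N104309 (tt N87659 (iv1 F445173)) (tt N90697 F445172) (tt N68649 (iv2 D207502)) (tt N103420 F445168) (tt N68989 F445169) (tt N103418 F445170) (tt N120970 D224229) (tt N90696 F445171))
theorem Q104311 : ∀ i, i < 104311 → P i := stepQ 104310 Q104310 (allL N104310 (tt N119645 F516685) (tt N101719 (iv0 F445177)) (tt N120970 (iv2 F523774)) (tt N68650 F445174) (tt N68990 F445175) (tt N120812 (iv5 F522858)) (tt N68649 (iv6 D207503)) (tt N103326 F445176))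
theorem Q104312 : ∀ i, i < 104312 → P i := stepQ 104311 Q104311 (allL N104311 (tt N99107 (iv1 F445180)) (tt N68652 (iv0 D207504)) (tt N97973 (iv2 F445181)) (tt N84789 F445184) (tt N89789 F445179) (tt N70025 F445178) (tt N84788 (iv6 F445182)) (tt N97971 (iv7 F445183)))
theorem Q104313 : ∀ i, i < 104313 → P i := stepQ 104312 Q104312 (allL N104312 (tt N68652 (iv1 D207505)) (tt N99107 F445185) (tt N97971 (iv2 F445188)) (tt N105826 (iv3 F451904)) (tt N105890 (iv4 F452205)) (tt N70042 F445187) (tt N120478 (iv6 F520985)) (tt N97973 F445186))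
theorem Q104314 : ∀ i, i < 104314 → P i := stepQ 104313 Q104313 (allL N104313 (tt N97938 F445194) (tt N68845 F445195) (tt N97968 F445189) (tt N68695 F445190) (tt N98730 F445191) (tt N68654 (iv5 D207506)) (tt N68693 F445192) (tt N68731 F445193))
theorem Q104315 : ∀ i, i < 104315 → P i := stepQ 104314 Q104314 (allL N104314 (tt N92108 F445199) (tt N92106 F445198) (tt N68662 F445196) (tt N117364 (iv3 F504678)) (tt N120595 (iv4 F521650)) (tt N68658 (iv5 D207507)) (tt N118073 (iv6 F508427)) (tt N97741 F445197))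
theorem Q104316 : ∀ i, i < 104316 → P i := stepQ 104315 Q104315 (allL N104315 (tt N103573 F445204) (tt N103581 (iv0 F445205)) (tt N102824 (iv2 F445203)) (tt N68661 (iv3 D207508)) (tt N71365 F445200) (tt N117688 (iv5 F506425)) (tt N101850 F445201) (tt N102826 F445202))
theorem Q104317 : ∀ i, i < 104317 → P i := stepQ 104316 Q104316 (allL N104316 (tt N95889 F445210) (tt N116044 F498214) (tt N111662 (iv2 F477362)) (tt N68665 (iv3 D207509)) (tt N74344 F445206) (tt N102062 F445207) (tt N79737 F445208) (tt N102061 F445209))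
theorem Q104318 : ∀ i, i < 104318 → P i := stepQ 104317 Q104317 (allL N104317 (tt N118073 (iv1 F508429)) (tt N68666 (iv0 D207510)) (tt N102183 (iv2 F445214)) (tt N93086 (iv3 F445215)) (tt N102181 F445212) (tt N93083 F445211) (tt N93108 F445213) (tt N118072 (iv7 F508419)))
theorem Q104319 : ∀ i, i < 104319 → P i := stepQ 104318 Q104318 (allL N104318 (tt N68666 (iv1 D207511)) (tt N118073 F508428) (tt N118072 (iv2 F508422)) (tt N116084 (iv3 F498378)) (tt N102184 (iv4 F445217)) (tt N104356 (iv5 F445406)) (tt N117982 (iv6 F507905)) (tt N102183 F445216))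
theorem Q104320 : ∀ i, i < 104320 → P i := stepQ 104319 Q104319 (allL N104319 (tt N102202 F445221) (tt N102844 F445222) (tt N102198 F445218) (tt N68672 F445219) (tt N102200 F445223) (tt N68671 (iv5 D207512)) (tt N102229 (iv6 F445224)) (tt N103308 F445220))
theorem Q104321 : ∀ i, i < 104321 → P i := stepQ 104320 Q104320 (allL N104320 (tt N86924 F445229) (tt N101718 F445230) (tt N101717 F445225) (tt N68673 F445226) (tt N68950 F445227) (tt N104383 (iv5 F445521)) (tt N68671 (iv6 D207513)) (tt N68935 F445228))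
theorem Q104322 : ∀ i, i < 104322 → P i := stepQ 104321 Q104321 (allL N104321 (tt N69760 (iv1 F445235)) (tt N111128 F474822) (tt N101839 F445231) (tt N68684 (iv3 D207514)) (tt N69880 F445234) (tt N91025 F445232) (tt N120971 D224230) (tt N69934 F445233))
theorem Q104323 : ∀ i, i < 104323 → P i := stepQ 104322 Q104322 (allL N104322 (tt N68790 F445240) (tt N68773 F445239) (tt N68748 F445236) (tt N68716 F445241) (tt N68684 (iv4 D207515)) (tt N68706 F445238) (tt N68708 (iv6 F445242)) (tt N68789 F445237))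
theorem Q104324 : ∀ i, i < 104324 → P i := stepQ 104323 Q104323 (allL N104323 (tt N92147 F445246) (tt N69999 (iv0 F445247)) (tt N69938 F445243) (tt N120971 (iv3 F523782)) (tt N68708 F445244) (tt N120972 D224231) (tt N68684 (iv6 D207516)) (tt N103355 F445245))
theorem Q104325 : ∀ i, i < 104325 → P i := stepQ 104324 Q104324 (allL N104324 (tt N69942 F445252) (tt N69941 F445251) (tt N68687 F445248) (tt N69918 F445249) (tt N87089 (iv4 F445253)) (tt N68686 (iv5 D207517)) (tt N108388 (iv6 F462368)) (tt N69939 F445250))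
theorem Q104326 : ∀ i, i < 104326 → P i := stepQ 104325 Q104325 (allL N104325 (tt N69939 (iv1 F445258)) (tt N68687 (iv0 D207518)) (tt N69942 (iv2 F445257)) (tt N110927 (iv3 F473825)) (tt N87792 F445255) (tt N78091 F445256) (tt N83889 (iv6 F445261)) (tt N69941 F445259))
theorem Q104327 : ∀ i, i < 104327 → P i := stepQ 104326 Q104326 (allL N104326 (tt N111799 (iv1 F478031)) (tt N77288 F445265) (tt N87089 F445262) (tt N83888 F445263) (tt N68687 (iv4 D207519)) (tt N113688 (iv5 F486640)) (tt N83887 F445266) (tt N69943 F445264))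
theorem Q104328 : ∀ i, i < 104328 → P i := stepQ 104327 Q104327 (allL N104327 (tt N91003 F445271) (tt N84370 (iv0 F445272)) (tt N108388 (iv2 F462367)) (tt N68688 F445267) (tt N83887 F445268) (tt N88579 F445269) (tt N68687 (iv6 D207520)) (tt N84350 F445270))
theorem Q104329 : ∀ i, i < 104329 → P i := stepQ 104328 Q104328 (allL N104328 (tt N68688 (iv1 D207521)) (tt N69929 F445273) (tt N69928 F445278) (tt N109730 (iv3 F468322)) (tt N84127 F445275) (tt N100981 (iv5 F445276)) (tt N72257 (iv6 F445277)) (tt N69927 F445274))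
theorem Q104330 : ∀ i, i < 104330 → P i := stepQ 104329 Q104329 (allL N104329 (tt N69758 F445283) (tt N72051 (iv0 F445284)) (tt N72047 F445279) (tt N68689 (iv3 D207522)) (tt N71961 F445280) (tt N120973 D224232) (tt N71960 F445281) (tt N69876 F445282))
theorem Q104331 : ∀ i, i < 104331 → P i := stepQ 104330 Q104330 (allL N104330 (tt N100870 F445288) (tt N82293 F445289) (tt N69878 F445285) (tt N120973 (iv3 F523793)) (tt N111962 (iv4 F478867)) (tt N68689 (iv5 D207523)) (tt N78117 F445286) (tt N69877 F445287))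
theorem Q104332 : ∀ i, i < 104332 → P i := stepQ 104331 Q104331 (allL N104331 (tt N68690 (iv1 D207524)) (tt N69933 F445290) (tt N69931 (iv2 F445293)) (tt N88575 (iv3 F445294)) (tt N110878 (iv4 F473568)) (tt N70252 F445292) (tt N120245 (iv6 F519787)) (tt N69930 F445291))
theorem Q104333 : ∀ i, i < 104333 → P i := stepQ 104332 Q104332 (allL N104332 (tt N105189 (iv1 F449155)) (tt N105191 (iv0 F449158)) (tt N69932 F445295) (tt N120974 D224233) (tt N68690 (iv4 D207525)) (tt N110871 (iv5 F473542)) (tt N101287 F445296) (tt N119976 (iv7 F518348)))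
theorem Q104334 : ∀ i, i < 104334 → P i := stepQ 104333 Q104333 (allL N104333 (tt N69931 (iv1 F445299)) (tt N69930 F445300) (tt N69933 F445297) (tt N113813 (iv3 F487242)) (tt N119976 (iv4 F518347)) (tt N68691 F445298) (tt N108001 (iv6 F460669)) (tt N68690 (iv7 D207526)))
theorem Q104335 : ∀ i, i < 104335 → P i := stepQ 104334 Q104334 (allL N104334 (tt N104560 (iv1 F446269)) (tt N103929 (iv0 F445306)) (tt N68786 F445301) (tt N68698 F445302) (tt N96488 F445303) (tt N68775 F445304) (tt N68696 (iv6 D207527)) (tt N103361 F445305))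
theorem Q104336 : ∀ i, i < 104336 → P i := stepQ 104335 Q104335 (allL N104335 (tt N70182 F445310) (tt N70177 (iv0 F445313)) (tt N94919 F445307) (tt N68697 (iv3 D207528)) (tt N96486 F445308) (tt N84258 F445309) (tt N83039 (iv6 F445312)) (tt N105169 (iv7 F449086)))
theorem Q104337 : ∀ i, i < 104337 → P i := stepQ 104336 Q104336 (allL N104336 (tt N105350 (iv1 F449831)) (tt N106012 (iv0 F452736)) (tt N105167 (iv2 F449075)) (tt N83039 F445314) (tt N68698 F445315) (tt N83038 F445316) (tt N68697 (iv6 D207529)) (tt N103363 F445317))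
theorem Q104338 : ∀ i, i < 104338 → P i := stepQ 104337 Q104337 (allL N104337 (tt N115210 (iv1 F494033)) (tt N86697 F445320) (tt N68705 F445319) (tt N114605 (iv3 F490980)) (tt N68701 (iv4 D207530)) (tt N115242 (iv5 F494177)) (tt N115275 (iv6 F494327)) (tt N114603 (iv7 F490972)))
theorem Q104339 : ∀ i, i < 104339 → P i := stepQ 104338 Q104338 (allL N104338 (tt N68804 F445324) (tt N111669 (iv0 F477398)) (tt N68706 F445321) (tt N68750 F445322) (tt N115275 (iv4 F494326)) (tt N68748 (iv5 F445323)) (tt N68701 (iv6 D207531)) (tt N115272 (iv7 F494313)))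
theorem Q104340 : ∀ i, i < 104340 → P i := stepQ 104339 Q104339 (allL N104339 (tt N103442 F445329) (tt N120801 F522795) (tt N68708 F445325) (tt N68751 F445326) (tt N69938 (iv4 F445330)) (tt N68702 (iv5 D207532)) (tt N68748 F445327) (tt N103391 F445328))
theorem Q104341 : ∀ i, i < 104341 → P i := stepQ 104340 Q104340 (allL N104340 (tt N104405 (iv1 F445627)) (tt N120975 D224234) (tt N104289 F445331) (tt N115200 (iv3 F493989)) (tt N68703 (iv4 D207533)) (tt N118058 (iv5 F508343)) (tt N97706 F445332) (tt N104287 F445333))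
theorem Q104342 : ∀ i, i < 104342 → P i := stepQ 104341 Q104341 (allL N104341 (tt N120975 (iv1 F523805)) (tt N104405 (iv0 F445626)) (tt N104287 F445334) (tt N119094 (iv3 F513760)) (tt N68704 (iv4 D207534)) (tt N115201 F493996) (tt N115203 (iv6 F494000)) (tt N104289 F445335))
theorem Q104343 : ∀ i, i < 104343 → P i := stepQ 104342 Q104342 (allL N104342 (tt N120976 D224235) (tt N120977 D224236) (tt N104288 F445336) (tt N100736 F445337) (tt N115203 (iv4 F494001)) (tt N100735 F445338) (tt N68704 (iv6 D207535)) (tt N111667 (iv7 F477386)))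
theorem Q104344 : ∀ i, i < 104344 → P i := stepQ 104343 Q104343 (allL N104343 (tt N114603 F490971) (tt N68705 (iv0 D207536)) (tt N115210 (iv2 F494038)) (tt N86699 F445339) (tt N118118 (iv4 F508699)) (tt N115419 (iv5 F495102)) (tt N114606 (iv6 F490989)) (tt N86697 (iv7 F445340)))
theorem Q104345 : ∀ i, i < 104345 → P i := stepQ 104344 Q104344 (allL N104344 (tt N68705 (iv1 D207537)) (tt N114603 (iv0 F490970)) (tt N86697 (iv2 F445344)) (tt N93008 F445342) (tt N93009 (iv4 F445341)) (tt N115212 (iv5 F494045)) (tt N86696 F445343) (tt N115210 (iv7 F494034)))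
theorem Q104346 : ∀ i, i < 104346 → P i := stepQ 104345 Q104345 (allL N104345 (tt N120968 (iv1 F523766)) (tt N115274 (iv0 F494323)) (tt N115242 (iv2 F494175)) (tt N86518 F445345) (tt N115806 (iv4 F496989)) (tt N68705 (iv5 D207538)) (tt N86448 (iv6 F483096)) (tt N115211 (iv7 F494041)))
theorem Q104347 : ∀ i, i < 104347 → P i := stepQ 104346 Q104346 (allL N104346 (tt N111669 F477399) (tt N68804 (iv0 F445349)) (tt N115272 (iv2 F494309)) (tt N68717 F445346) (tt N115271 (iv4 F494304)) (tt N68789 F445347) (tt N97691 F445348) (tt N68706 (iv7 D207539)))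
theorem Q104348 : ∀ i, i < 104348 → P i := stepQ 104347 Q104347 (allL N104347 (tt N68814 F445356) (tt N103423 (iv0 F445355)) (tt N102295 F445350) (tt N68707 (iv3 D207540)) (tt N102375 F445351) (tt N101719 F445352) (tt N92016 F445353) (tt N103445 F445354))
theorem Q104349 : ∀ i, i < 104349 → P i := stepQ 104348 Q104348 (allL N104348 (tt N68708 (iv1 D207541)) (tt N103391 F445357) (tt N120801 (iv2 F522790)) (tt N68813 (iv3 F445359)) (tt N70911 F445360) (tt N106737 (iv5 F455485)) (tt N70910 F445361) (tt N103442 F445358))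
theorem Q104350 : ∀ i, i < 104350 → P i := stepQ 104349 Q104349 (allL N104349 (tt N120801 (iv1 F522796)) (tt N103442 (iv0 F445368)) (tt N103391 F445363) (tt N68724 F445364) (tt N103355 F445365) (tt N68709 F445366) (tt N103354 F445367) (tt N68708 (iv7 D207542)))
theorem Q104351 : ∀ i, i < 104351 → P i := stepQ 104350 Q104350 (allL N104350 (tt N68825 (iv1 F445373)) (tt N68711 (iv0 D207543)) (tt N86708 (iv2 F445372)) (tt N68743 (iv3 F445375)) (tt N78931 F445370) (tt N83776 F445369) (tt N68754 F445371) (tt N68738 F445374))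
theorem Q104352 : ∀ i, i < 104352 → P i := stepQ 104351 Q104351 (allL N104351 (tt N93235 (iv1 F445382)) (tt N69282 F445381) (tt N68712 (iv2 D207544)) (tt N93001 F445376) (tt N84460 F445377) (tt N69473 F445378) (tt N84459 F445379) (tt N68830 F445380))
theorem Q104353 : ∀ i, i < 104353 → P i := stepQ 104352 Q104352 (allL N104352 (tt N104281 (iv1 F445386)) (tt N68713 (iv0 D207545)) (tt N104279 (iv2 F445384)) (tt N120976 (iv3 F523813)) (tt N92012 F445383) (tt N111618 (iv5 F477180)) (tt N105877 (iv6 F452139)) (tt N104280 (iv7 F445385)))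
theorem Q104354 : ∀ i, i < 104354 → P i := stepQ 104353 Q104353 (allL N104353 (tt N68713 (iv1 D207546)) (tt N104281 F445388) (tt N104280 (iv2 F445392)) (tt N105875 (iv3 F452129)) (tt N92013 F445390) (tt N105874 F452128) (tt N102072 (iv6 F445391)) (tt N104279 F445389))
theorem Q104355 : ∀ i, i < 104355 → P i := stepQ 104354 Q104354 (allL N104354 (tt N111873 (iv1 F478434)) (tt N92689 (iv0 F445397)) (tt N102351 F445393) (tt N79353 F445394) (tt N91890 F445396) (tt N68713 (iv5 D207547)) (tt N69470 F445395) (tt N111863 (iv7 F478374)))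
theorem Q104356 : ∀ i, i < 104356 → P i := stepQ 104355 Q104355 (allL N104355 (tt N104280 (iv1 F445402)) (tt N104279 F445403) (tt N104281 F445398) (tt N68827 F445399) (tt N86828 F445400) (tt N111863 (iv5 F478373)) (tt N68825 F445401) (tt N68713 (iv7 D207548)))
theorem Q104357 : ∀ i, i < 104357 → P i := stepQ 104356 Q104356 (allL N104356 (tt N102072 F445408) (tt N102075 (iv0 F445407)) (tt N109733 (iv2 F468336)) (tt N88356 F445404) (tt N93121 F445405) (tt N104318 F445406) (tt N68714 (iv6 D207549)) (tt N116064 (iv7 F498292)))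
theorem Q104358 : ∀ i, i < 104358 → P i := stepQ 104357 Q104357 (allL N104357 (tt N69273 F445414) (tt N92277 F445413) (tt N93236 F445409) (tt N69880 F445410) (tt N68716 (iv4 D207550)) (tt N120978 D224237) (tt N68723 F445411) (tt N93237 F445412))
theorem Q104359 : ∀ i, i < 104359 → P i := stepQ 104358 Q104358 (allL N104358 (tt N119643 (iv1 F516668)) (tt N118064 (iv0 F508379)) (tt N117749 (iv2 F506770)) (tt N68719 F445415) (tt N97549 (iv4 F445417)) (tt N68718 (iv5 D207551)) (tt N97552 F445416) (tt N118077 (iv7 F508448)))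
theorem Q104360 : ∀ i, i < 104360 → P i := stepQ 104359 Q104359 (allL N104359 (tt N68721 (iv1 F445419)) (tt N68719 (iv0 D207552)) (tt N103303 (iv2 F445420)) (tt N97734 (iv3 F445421)) (tt N120979 D224238) (tt N68942 F445418) (tt N115834 (iv6 F497144)) (tt N103301 (iv7 F445422)))
theorem Q104361 : ∀ i, i < 104361 → P i := stepQ 104360 Q104360 (allL N104360 (tt N68719 (iv1 D207553)) (tt N68721 F445423) (tt N103301 (iv2 F445428)) (tt N84004 F445427) (tt N120980 D224239) (tt N68940 F445425) (tt N84003 (iv6 F445426)) (tt N103303 F445424))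
theorem Q104362 : ∀ i, i < 104362 → P i := stepQ 104361 Q104361 (allL N104361 (tt N120629 F521847) (tt N120797 (iv0 F522775)) (tt N118076 (iv2 F508439)) (tt N97559 F445429) (tt N68719 (iv4 D207554)) (tt N108858 (iv5 F464275)) (tt N97568 F445430) (tt N118078 (iv7 F508452)))
theorem Q104363 : ∀ i, i < 104363 → P i := stepQ 104362 Q104362 (allL N104362 (tt N71085 F445435) (tt N98613 F445436) (tt N117932 (iv2 F507663)) (tt N69070 F445431) (tt N68720 (iv4 D207555)) (tt N98507 F445434) (tt N92701 F445432) (tt N69096 F445433))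
theorem Q104364 : ∀ i, i < 104364 → P i := stepQ 104363 Q104363 (allL N104363 (tt N120797 (iv1 F522776)) (tt N120629 (iv0 F521846)) (tt N118078 (iv2 F508449)) (tt N114448 (iv3 F490219)) (tt N68721 (iv4 D207556)) (tt N108856 (iv5 F464267)) (tt N104497 F446028) (tt N118076 (iv7 F508442)))
theorem Q104365 : ∀ i, i < 104365 → P i := stepQ 104364 Q104364 (allL N104364 (tt N68723 (iv1 D207557)) (tt N108862 (iv0 F464286)) (tt N118079 (iv2 F508457)) (tt N102609 (iv3 F445439)) (tt N68758 F445437) (tt N101931 (iv5 F445438)) (tt N119681 (iv6 F516886)) (tt N104561 (iv7 F446271)))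
theorem Q104366 : ∀ i, i < 104366 → P i := stepQ 104365 Q104365 (allL N104365 (tt N102624 F445441) (tt N120649 F521955) (tt N117750 (iv2 F506774)) (tt N68723 (iv3 D207558)) (tt N120971 (iv4 F523783)) (tt N119343 F515121) (tt N69880 F445440) (tt N102583 (iv7 F445442)))
theorem Q104367 : ∀ i, i < 104367 → P i := stepQ 104366 Q104366 (allL N104366 (tt N108860 (iv1 F464280)) (tt N108859 F464279) (tt N108863 (iv2 F464288)) (tt N119343 (iv3 F515120)) (tt N93882 F445444) (tt N68723 (iv5 D207559)) (tt N120981 D224240) (tt N93881 F445445))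
theorem Q104368 : ∀ i, i < 104368 → P i := stepQ 104367 Q104367 (allL N104367 (tt N118079 (iv1 F508453)) (tt N104561 (iv0 F446272)) (tt N108862 (iv2 F464283)) (tt N102583 F445446) (tt N68724 F445447) (tt N93881 F445448) (tt N102580 F445449) (tt N68723 (iv7 D207560)))
theorem Q104369 : ∀ i, i < 104369 → P i := stepQ 104368 Q104368 (allL N104368 (tt N92669 F445453) (tt N118018 F508116) (tt N109925 (iv2 F469251)) (tt N68726 F445451) (tt N103625 F445452) (tt N68725 (iv5 D207561)) (tt N110335 (iv6 F471102)) (tt N112866 (iv7 F483040)))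
theorem Q104370 : ∀ i, i < 104370 → P i := stepQ 104369 Q104369 (allL N104369 (tt N68729 (iv1 F445457)) (tt N68726 (iv0 D207562)) (tt N103298 (iv2 F445456)) (tt N110280 (iv3 F470811)) (tt N120982 D224241) (tt N68937 F445454) (tt N87851 F445455) (tt N103297 F445458))
theorem Q104371 : ∀ i, i < 104371 → P i := stepQ 104370 Q104370 (allL N104370 (tt N120979 (iv1 F523837)) (tt N120980 (iv0 F523843)) (tt N103818 F445459) (tt N120844 F523044) (tt N68726 (iv4 D207563)) (tt N108860 F464282) (tt N98625 F445460) (tt N118081 (iv7 F508467)))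
theorem Q104372 : ∀ i, i < 104372 → P i := stepQ 104371 Q104371 (allL N104371 (tt N91636 (iv1 F445466)) (tt N96083 (iv0 F445465)) (tt N114199 (iv2 F488951)) (tt N68727 (iv3 D207564)) (tt N85628 F445461) (tt N87341 F445462) (tt N102139 F445463) (tt N93823 F445464))
theorem Q104373 : ∀ i, i < 104373 → P i := stepQ 104372 Q104372 (allL N104372 (tt N68728 (iv1 D207565)) (tt N68785 F445471) (tt N68787 F445476) (tt N103364 (iv3 F445474)) (tt N70050 (iv4 F445475)) (tt N103361 F445473) (tt N68800 F445477) (tt N68775 F445472))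
theorem Q104374 : ∀ i, i < 104374 → P i := stepQ 104373 Q104373 (allL N104373 (tt N120980 (iv1 F523844)) (tt N120979 (iv0 F523836)) (tt N118081 (iv2 F508464)) (tt N116248 (iv3 F499203)) (tt N68729 (iv4 D207566)) (tt N108859 F464278) (tt N120875 (iv6 F523220)) (tt N103818 F445478))
theorem Q104375 : ∀ i, i < 104375 → P i := stepQ 104374 Q104374 (allL N104374 (tt N103342 F445480) (tt N104908 F447886) (tt N104906 F447875) (tt N112818 (iv3 F482766)) (tt N120875 (iv4 F523219)) (tt N91815 F445479) (tt N68729 (iv6 D207567)) (tt N104907 (iv7 F447878)))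
theorem Q104376 : ∀ i, i < 104376 → P i := stepQ 104375 Q104375 (allL N104375 (tt N68734 (iv1 D207568)) (tt N68741 F445481) (tt N68740 F445484) (tt N97564 F445485) (tt N97275 F445486) (tt N108777 (iv5 F463878)) (tt N97562 (iv6 F445483)) (tt N68739 F445482))
theorem Q104377 : ∀ i, i < 104377 → P i := stepQ 104376 Q104376 (allL N104376 (tt N69257 F445491) (tt N69233 F445493) (tt N69255 F445487) (tt N68736 (iv3 D207569)) (tt N88347 (iv4 F445492)) (tt N92078 F445488) (tt N92081 F445489) (tt N69256 F445490))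
theorem Q104378 : ∀ i, i < 104378 → P i := stepQ 104377 Q104377 (allL N104377 (tt N68798 (iv1 F445495)) (tt N68745 (iv0 D207570)) (tt N68800 (iv2 F445494)) (tt N113152 F484221) (tt N110334 (iv4 F471095)) (tt N104795 (iv5 F447309)) (tt N68787 (iv6 F445497)) (tt N68788 F445496))
theorem Q104379 : ∀ i, i < 104379 → P i := stepQ 104378 Q104378 (allL N104378 (tt N68800 (iv1 F445503)) (tt N68788 F445502) (tt N68745 (iv2 D207571)) (tt N102172 F445498) (tt N69172 F445499) (tt N80056 F445500) (tt N117999 (iv6 F508006)) (tt N68798 F445501))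
theorem Q104380 : ∀ i, i < 104380 → P i := stepQ 104379 Q104379 (allL N104379 (tt N120753 F522532) (tt N120800 (iv0 F522788)) (tt N118075 (iv2 F508435)) (tt N104626 (iv3 F446600)) (tt N68751 F445504) (tt N120983 D224242) (tt N68749 (iv6 D207572)) (tt N103395 F445505))
theorem Q104381 : ∀ i, i < 104381 → P i := stepQ 104380 Q104380 (allL N104380 (tt N92277 F445511) (tt N69273 F445510) (tt N93237 F445506) (tt N102551 F445507) (tt N68752 (iv4 D207573)) (tt N120984 D224243) (tt N102595 F445508) (tt N93236 F445509))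
theorem Q104382 : ∀ i, i < 104382 → P i := stepQ 104381 Q104381 (allL N104381 (tt N103286 F445514) (tt N68839 F445515) (tt N103483 F445512) (tt N113808 (iv3 F487206)) (tt N68755 (iv4 D207574)) (tt N104437 (iv5 F445757)) (tt N113807 F487204) (tt N103482 F445513))
theorem Q104383 : ∀ i, i < 104383 → P i := stepQ 104382 Q104382 (allL N104382 (tt N68839 F445518) (tt N103286 F445519) (tt N103482 F445516) (tt N120635 F521879) (tt N68756 (iv4 D207575)) (tt N104436 (iv5 F445755)) (tt N117974 (iv6 F507868)) (tt N103483 F445517))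
theorem Q104384 : ∀ i, i < 104384 → P i := stepQ 104383 Q104383 (allL N104383 (tt N68786 (iv1 F445524)) (tt N103361 (iv0 F445523)) (tt N103929 F445520) (tt N68758 (iv3 D207576)) (tt N107059 (iv4 F456811)) (tt N104320 F445521) (tt N101887 F445522) (tt N104560 (iv7 F446266)))
theorem Q104385 : ∀ i, i < 104385 → P i := stepQ 104384 Q104384 (allL N104384 (tt N68759 (iv1 D207577)) (tt N70825 F445525) (tt N103764 (iv2 F445528)) (tt N119440 (iv3 F515636)) (tt N93042 F445527) (tt N93404 (iv5 F445529)) (tt N119438 F515632) (tt N103314 F445526))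
theorem Q104386 : ∀ i, i < 104386 → P i := stepQ 104385 Q104385 (allL N104385 (tt N108894 (iv1 F464389)) (tt N108893 F464388) (tt N108895 (iv2 F464393)) (tt N69079 F445530) (tt N93406 F445531) (tt N68759 (iv5 D207578)) (tt N120985 D224244) (tt N93540 F445532))
theorem Q104387 : ∀ i, i < 104387 → P i := stepQ 104386 Q104386 (allL N104386 (tt N70176 F445537) (tt N69362 (iv0 F445538)) (tt N70365 F445533) (tt N68762 (iv3 D207579)) (tt N69180 F445534) (tt N101372 F445539) (tt N91793 F445535) (tt N98036 F445536))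
theorem Q104388 : ∀ i, i < 104388 → P i := stepQ 104387 Q104387 (allL N104387 (tt N120986 D224245) (tt N70400 F445541) (tt N113034 (iv2 F483645)) (tt N101372 F445540) (tt N114906 (iv4 F492460)) (tt N68762 (iv5 D207580)) (tt N109295 F466241) (tt N113035 (iv7 F483654)))
theorem Q104389 : ∀ i, i < 104389 → P i := stepQ 104388 Q104388 (allL N104388 (tt N70400 F445602) (tt N120986 F523873) (tt N113035 (iv2 F483652)) (tt N70363 F445542) (tt N84791 F445543) (tt N68765 (iv5 D207581)) (tt N83557 F445544) (tt N113034 (iv7 F483648)))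
theorem Q104390 : ∀ i, i < 104390 → P i := stepQ 104389 Q104389 (allL N104389 (tt N68767 (iv1 D207582)) (tt N92183 F445545) (tt N68834 F445549) (tt N103397 (iv3 F445550)) (tt N77370 F445547) (tt N120740 (iv5 F522450)) (tt N82787 (iv6 F445548)) (tt N97507 F445546))
theorem Q104391 : ∀ i, i < 104391 → P i := stepQ 104390 Q104390 (allL N104390 (tt N102068 F445555) (tt N102054 (iv0 F476727)) (tt N102065 F445551) (tt N103463 F445552) (tt N91779 F445553) (tt N112003 (iv5 F479033)) (tt N68769 (iv6 D207583)) (tt N102066 F445554))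
theorem Q104392 : ∀ i, i < 104392 → P i := stepQ 104391 Q104391 (allL N104391 (tt N88335 (iv1 F445558)) (tt N68771 (iv0 D207584)) (tt N88333 F445560) (tt N97168 F445557) (tt N85688 F445556) (tt N97167 (iv5 F445559)) (tt N115909 (iv6 F497542)) (tt N88334 F445561))
theorem Q104393 : ∀ i, i < 104393 → P i := stepQ 104392 Q104392 (allL N104392 (tt N68771 (iv1 D207585)) (tt N88335 F445562) (tt N88334 F445567) (tt N115364 F494817) (tt N85689 F445564) (tt N93150 (iv5 F445566)) (tt N78511 (iv6 F445565)) (tt N88333 F445563))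
theorem Q104394 : ∀ i, i < 104394 → P i := stepQ 104393 Q104393 (allL N104393 (tt N95888 F445570) (tt N116033 (iv0 F498154)) (tt N116041 F498199) (tt N68783 F445568) (tt N97281 F445569) (tt N103267 (iv5 F445571)) (tt N68776 (iv6 D207586)) (tt N111870 (iv7 F478416)))
theorem Q104395 : ∀ i, i < 104395 → P i := stepQ 104394 Q104394 (allL N104394 (tt N85991 (iv1 F445575)) (tt N68777 (iv0 D207587)) (tt N97550 (iv2 F445574)) (tt N83300 F445572) (tt N114349 (iv4 F489757)) (tt N119644 (iv5 F516676)) (tt N103418 F445573) (tt N97537 F445576))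
theorem Q104396 : ∀ i, i < 104396 → P i := stepQ 104395 Q104395 (allL N104395 (tt N102403 F445579) (tt N117989 (iv0 F507942)) (tt N114392 (iv2 F489932)) (tt N68786 F445577) (tt N114955 (iv4 F492750)) (tt N68777 (iv5 D207588)) (tt N103267 F445578) (tt N113578 (iv7 F486113)))
theorem Q104397 : ∀ i, i < 104397 → P i := stepQ 104396 Q104396 (allL N104396 (tt N70050 (iv1 F445585)) (tt N68779 (iv0 D207589)) (tt N70048 (iv2 F445584)) (tt N103809 F445582) (tt N102893 F445581) (tt N84125 F445580) (tt N103426 F445583) (tt N70049 F445586))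
theorem Q104398 : ∀ i, i < 104398 → P i := stepQ 104397 Q104397 (allL N104397 (tt N104794 F447308) (tt N69170 (iv0 F445591)) (tt N68795 F445587) (tt N70071 F445588) (tt N68788 F445589) (tt N80081 F445590) (tt N68780 (iv6 D207590)) (tt N110334 (iv7 F471096)))
theorem Q104399 : ∀ i, i < 104399 → P i := stepQ 104398 Q104398 (allL N104398 (tt N100723 F445598) (tt N81030 F445597) (tt N81565 F445592) (tt N103341 F445593) (tt N69313 F445594) (tt N68782 (iv5 D207591)) (tt N81564 F445595) (tt N100720 F445596))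
theorem Q104400 : ∀ i, i < 104400 → P i := stepQ 104399 Q104399 (allL N104399 (tt N105536 (iv1 F450630)) (tt N68783 (iv0 D207592)) (tt N93246 (iv2 F445601)) (tt N103572 F445599) (tt N114245 (iv4 F489190)) (tt N103571 F445600) (tt N111658 F477342) (tt N116042 (iv7 F498207)))
theorem Q104401 : ∀ i, i < 104401 → P i := stepQ 104400 Q104400 (allL N104400 (tt N116042 F498209) (tt N93246 (iv0 F445606)) (tt N105536 (iv2 F450626)) (tt N111870 (iv3 F478414)) (tt N103223 F445603) (tt N69250 F445604) (tt N97640 (iv6 F445605)) (tt N68783 (iv7 D207593)))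
theorem Q104402 : ∀ i, i < 104402 → P i := stepQ 104401 Q104401 (allL N104401 (tt N80234 F445611) (tt N80236 (iv0 F445612)) (tt N68797 F445607) (tt N83605 F445608) (tt N112410 (iv4 F480983)) (tt N80286 F445609) (tt N68784 (iv6 D207594)) (tt N97640 F445610))
theorem Q104403 : ∀ i, i < 104403 → P i := stepQ 104402 Q104402 (allL N104402 (tt N103929 (iv1 F445617)) (tt N104560 (iv0 F446267)) (tt N103361 F445613) (tt N113578 (iv3 F486111)) (tt N69855 F445614) (tt N68787 F445615) (tt N69854 F445616) (tt N68786 (iv7 D207595)))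
theorem Q104404 : ∀ i, i < 104404 → P i := stepQ 104403 Q104403 (allL N104403 (tt N93009 F445619) (tt N118118 F508704) (tt N68792 F445618) (tt N111869 (iv3 F478407)) (tt N120964 (iv4 F523741)) (tt N68790 (iv5 D207596)) (tt N111868 F478405) (tt N118069 (iv7 F508405)))
theorem Q104405 : ∀ i, i < 104405 → P i := stepQ 104404 Q104404 (allL N104404 (tt N118069 F508407) (tt N68792 (iv0 D207597)) (tt N93009 (iv2 F445623)) (tt N86677 F445622) (tt N86697 F445621) (tt N104266 F445620) (tt N86675 F445624) (tt N118118 (iv7 F508702)))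
theorem Q104406 : ∀ i, i < 104406 → P i := stepQ 104405 Q104405 (allL N104405 (tt N104341 F445626) (tt N104340 F445627) (tt N120964 F523742) (tt N100729 F445625) (tt N68792 (iv4 D207598)) (tt N120987 D224246) (tt N119451 (iv6 F515694)) (tt N120963 F523738))
theorem Q104407 : ∀ i, i < 104407 → P i := stepQ 104406 Q104406 (allL N104406 (tt N115270 (iv1 F494300)) (tt N93248 (iv0 F445630)) (tt N111868 (iv2 F478401)) (tt N68797 F445628) (tt N119451 (iv4 F515692)) (tt N80287 F445629) (tt N68792 (iv6 D207599)) (tt N118067 (iv7 F508394)))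
theorem Q104408 : ∀ i, i < 104408 → P i := stepQ 104407 Q104407 (allL N104407 (tt N68795 (iv1 D207600)) (tt N110334 (iv0 F471097)) (tt N69170 F445635) (tt N83636 (iv3 F445633)) (tt N101709 F445632) (tt N100681 F445631) (tt N83635 (iv6 F445634)) (tt N104794 (iv7 F447306)))
theorem Q104409 : ∀ i, i < 104409 → P i := stepQ 104408 Q104408 (allL N104408 (tt N104426 (iv1 F445703)) (tt N111867 (iv0 F478400)) (tt N112410 F480986) (tt N100726 F445636) (tt N68797 F445637) (tt N100722 F445638) (tt N68796 (iv6 D207601)) (tt N112411 (iv7 F480988)))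
theorem Q104410 : ∀ i, i < 104410 → P i := stepQ 104409 Q104409 (allL N104409 (tt N80236 (iv1 F445641)) (tt N80234 F445642) (tt N97640 F445639) (tt N118067 (iv3 F508391)) (tt N112411 (iv4 F480989)) (tt N79782 F445640) (tt N105536 (iv6 F450628)) (tt N68797 (iv7 D207602)))
theorem Q104411 : ∀ i, i < 104411 → P i := stepQ 104410 Q104410 (allL N104410 (tt N82176 F445647) (tt N107228 (iv0 F457548)) (tt N78261 F445643) (tt N68801 (iv3 D207603)) (tt N78259 F445644) (tt N101812 F445645) (tt N78669 F445646) (tt N111726 (iv7 F477688)))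
theorem Q104412 : ∀ i, i < 104412 → P i := stepQ 104411 Q104411 (allL N104411 (tt N68805 (iv1 F445650)) (tt N68803 (iv0 D207604)) (tt N104784 (iv2 F447251)) (tt N118094 (iv3 F508549)) (tt N93068 F445649) (tt N100723 F445648) (tt N84660 (iv6 F445651)) (tt N104785 (iv7 F447259)))
theorem Q104413 : ∀ i, i < 104413 → P i := stepQ 104412 Q104412 (allL N104412 (tt N104295 F445652) (tt N104292 F445653) (tt N116047 (iv2 F498228)) (tt N119264 (iv3 F514701)) (tt N68804 (iv4 D207605)) (tt N106876 F456098) (tt N120988 D224247) (tt N118116 (iv7 F508688)))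
theorem Q104414 : ∀ i, i < 104414 → P i := stepQ 104413 Q104413 (allL N104413 (tt N120989 D224248) (tt N120989 F523887) (tt N116048 (iv2 F498229)) (tt N68806 F445654) (tt N120988 (iv4 F523882)) (tt N120990 D224249) (tt N68804 (iv6 D207606)) (tt N116048 (iv7 F498231)))
theorem Q104415 : ∀ i, i < 104415 → P i := stepQ 104414 Q104414 (allL N104414 (tt N118906 F512684) (tt N119461 (iv0 F515742)) (tt N118115 (iv2 F508685)) (tt N120990 (iv3 F523890)) (tt N120600 (iv4 F521680)) (tt N68806 (iv5 D207607)) (tt N120600 (iv6 F521681)) (tt N116049 (iv7 F498232)))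
theorem Q104416 : ∀ i, i < 104416 → P i := stepQ 104415 Q104415 (allL N104415 (tt N81623 (iv1 F445656)) (tt N68809 (iv0 D207608)) (tt N114824 (iv2 F492068)) (tt N81594 F463157) (tt N111681 (iv4 F477454)) (tt N111718 (iv5 F477640)) (tt N91775 F445655) (tt N114815 (iv7 F492021)))
theorem Q104417 : ∀ i, i < 104417 → P i := stepQ 104416 Q104416 (allL N104416 (tt N80691 F445662) (tt N69165 F445661) (tt N70109 F445657) (tt N80694 F445663) (tt N68812 (iv4 D207609)) (tt N81525 F445658) (tt N102891 F445659) (tt N90518 F445660))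
theorem Q104418 : ∀ i, i < 104418 → P i := stepQ 104417 Q104417 (allL N104417 (tt N103423 (iv1 F445667)) (tt N68814 (iv0 D207610)) (tt N103445 (iv2 F445666)) (tt N90240 F445665) (tt N88681 F445664) (tt N119645 (iv5 F516683)) (tt N113053 (iv6 F483751)) (tt N102295 F445668))
theorem Q104419 : ∀ i, i < 104419 → P i := stepQ 104418 Q104418 (allL N104418 (tt N115731 (iv1 F496566)) (tt N103208 F445672) (tt N68820 F445669) (tt N73644 F445670) (tt N68819 (iv4 D207611)) (tt N104879 (iv5 F447774)) (tt N73642 F445671) (tt N117575 (iv7 F505795)))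
theorem Q104420 : ∀ i, i < 104420 → P i := stepQ 104419 Q104419 (allL N104419 (tt N68820 (iv1 D207612)) (tt N117575 (iv0 F505796)) (tt N103208 F445675) (tt N88818 F445677) (tt N104291 (iv4 F445674)) (tt N88817 F445673) (tt N88345 F445676) (tt N115731 (iv7 F496564)))
theorem Q104421 : ∀ i, i < 104421 → P i := stepQ 104420 Q104420 (allL N104420 (tt N120991 D224250) (tt N119007 (iv0 F513252)) (tt N116065 (iv2 F498294)) (tt N68823 F445678) (tt N97439 F445680) (tt N68821 (iv5 D207613)) (tt N92943 F445679) (tt N116063 (iv7 F498287)))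
theorem Q104422 : ∀ i, i < 104422 → P i := stepQ 104421 Q104421 (allL N104421 (tt N118087 (iv1 F508509)) (tt N68823 (iv0 D207614)) (tt N118084 F508485) (tt N118906 (iv3 F512680)) (tt N92038 F445681) (tt N117950 (iv5 F507749)) (tt N102027 (iv6 F445682)) (tt N118085 (iv7 F508490)))
theorem Q104423 : ∀ i, i < 104423 → P i := stepQ 104422 Q104422 (allL N104422 (tt N68823 (iv1 D207615)) (tt N118087 F508508) (tt N118085 (iv2 F508494)) (tt N120991 (iv3 F523896)) (tt N92041 F445683) (tt N94011 (iv5 F445684)) (tt N97742 (iv6 F445685)) (tt N118084 F508487))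
theorem Q104424 : ∀ i, i < 104424 → P i := stepQ 104423 Q104423 (allL N104423 (tt N118085 (iv1 F508489)) (tt N118084 (iv0 F508488)) (tt N118087 (iv2 F508503)) (tt N116063 (iv3 F498285)) (tt N115762 (iv4 F496728)) (tt N68824 F445686) (tt N117981 (iv6 F507898)) (tt N68823 (iv7 D207616)))
theorem Q104425 : ∀ i, i < 104425 → P i := stepQ 104424 Q104424 (allL N104424 (tt N81607 F445691) (tt N81605 F445692) (tt N80220 F445687) (tt N68826 F445688) (tt N82475 F445689) (tt N68825 (iv5 D207617)) (tt N92095 F445693) (tt N92096 F445690))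
theorem Q104426 : ∀ i, i < 104426 → P i := stepQ 104425 Q104425 (allL N104425 (tt N68826 (iv1 D207618)) (tt N68829 F445694) (tt N103422 F445698) (tt N80217 (iv3 F445696)) (tt N115416 (iv4 F495087)) (tt N119434 (iv5 F515605)) (tt N102341 (iv6 F445697)) (tt N102344 F445695))
theorem Q104427 : ∀ i, i < 104427 → P i := stepQ 104426 Q104426 (allL N104426 (tt N119433 (iv1 F515601)) (tt N104408 F445703) (tt N111664 (iv2 F477371)) (tt N81583 F445699) (tt N68828 (iv4 D207619)) (tt N87210 F445702) (tt N87211 F445700) (tt N81580 F445701))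
theorem Q104428 : ∀ i, i < 104428 → P i := stepQ 104427 Q104427 (allL N104427 (tt N116283 (iv1 F499349)) (tt N92629 (iv0 F445713)) (tt N97505 F445708) (tt N68833 F445709) (tt N102914 F445710) (tt N97579 F445711) (tt N68831 (iv6 D207620)) (tt N93668 (iv7 F445712)))
theorem Q104429 : ∀ i, i < 104429 → P i := stepQ 104428 Q104428 (allL N104428 (tt N68835 (iv1 F445716)) (tt N68832 (iv0 D207621)) (tt N103476 (iv2 F445715)) (tt N114352 (iv3 F489775)) (tt N114354 (iv4 F489783)) (tt N93017 F445714) (tt N102384 (iv6 F445718)) (tt N103475 F445717))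
theorem Q104430 : ∀ i, i < 104430 → P i := stepQ 104429 Q104429 (allL N104429 (tt N103684 F445723) (tt N119520 (iv0 F516035)) (tt N103479 F445719) (tt N103814 (iv3 F445724)) (tt N68832 (iv4 D207622)) (tt N103813 F445722) (tt N98712 F445720) (tt N103477 F445721))
theorem Q104431 : ∀ i, i < 104431 → P i := stepQ 104430 Q104430 (allL N104430 (tt N98589 F445728) (tt N104568 (iv0 F446315)) (tt N120740 (iv2 F522447)) (tt N68835 F445725) (tt N77343 F445727) (tt N68834 (iv5 D207623)) (tt N106443 (iv6 F454466)) (tt N77342 F445726))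
theorem Q104432 : ∀ i, i < 104432 → P i := stepQ 104431 Q104431 (allL N104431 (tt N119520 (iv1 F516036)) (tt N103684 F445732) (tt N103477 F445729) (tt N103753 F445730) (tt N68835 (iv4 D207624)) (tt N104433 (iv5 F445738)) (tt N105750 (iv6 F451527)) (tt N103479 F445731))
theorem Q104433 : ∀ i, i < 104433 → P i := stepQ 104432 Q104432 (allL N104432 (tt N119280 (iv1 F514799)) (tt N98060 (iv0 F445735)) (tt N103478 F445733) (tt N106443 (iv3 F454465)) (tt N105750 F451528) (tt N102011 F445734) (tt N68835 (iv6 D207625)) (tt N120605 (iv7 F521715)))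
theorem Q104434 : ∀ i, i < 104434 → P i := stepQ 104433 Q104433 (allL N104433 (tt N102575 F445740) (tt N93220 F445741) (tt N102573 F445736) (tt N97810 F445737) (tt N68837 (iv4 D207626)) (tt N104431 F445738) (tt N117759 (iv6 F506833)) (tt N97732 F445739))
theorem Q104435 : ∀ i, i < 104435 → P i := stepQ 104434 Q104434 (allL N104434 (tt N113823 (iv1 F487302)) (tt N114382 (iv0 F489898)) (tt N92173 F445742) (tt N68842 F445743) (tt N114669 (iv4 F491295)) (tt N68841 (iv5 D207627)) (tt N97693 F445744) (tt N103485 F445745))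
theorem Q104436 : ∀ i, i < 104436 → P i := stepQ 104435 Q104435 (allL N104435 (tt N68846 (iv1 F445749)) (tt N68842 (iv0 D207628)) (tt N98010 (iv2 F445748)) (tt N77233 (iv3 F445751)) (tt N120816 (iv4 F522884)) (tt N92930 F445746) (tt N102900 F445747) (tt N98011 F445750))
theorem Q104437 : ∀ i, i < 104437 → P i := stepQ 104436 Q104436 (allL N104436 (tt N114354 (iv1 F489785)) (tt N119423 (iv0 F515533)) (tt N98012 F445752) (tt N120992 D224251) (tt N68842 (iv4 D207629)) (tt N104382 F445755) (tt N103291 F445753) (tt N103486 F445754))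
theorem Q104438 : ∀ i, i < 104438 → P i := stepQ 104437 Q104437 (allL N104437 (tt N119423 F515534) (tt N114354 (iv0 F489784)) (tt N103486 F445756) (tt N119665 (iv3 F516797)) (tt N68846 (iv4 D207630)) (tt N104381 F445757) (tt N98065 F445766) (tt N98012 F445758))
theorem Q104439 : ∀ i, i < 104439 → P i := stepQ 104438 Q104438 (allL N104438 (tt N93109 F445767) (tt N93105 (iv0 F445763)) (tt N93106 F445759) (tt N98029 F445760) (tt N98065 (iv4 F445764)) (tt N102010 F445761) (tt N68846 (iv6 D207631)) (tt N93107 F445762))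
theorem Q104440 : ∀ i, i < 104440 → P i := stepQ 104439 Q104439 (allL N104439 (tt N103874 F445773) (tt N103791 F445774) (tt N92267 F445769) (tt N98746 F445770) (tt N97917 F445771) (tt N87914 F445772) (tt N68849 (iv6 D207632)) (tt N103873 F453261))
theorem Q104441 : ∀ i, i < 104441 → P i := stepQ 104440 Q104440 (allL N104440 (tt N69106 F445779) (tt N79053 (iv0 F445778)) (tt N92264 F445775) (tt N120665 (iv3 F522043)) (tt N70684 F445776) (tt N78793 F445777) (tt N68850 (iv6 D207633)) (tt N109432 (iv7 F466928)))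
theorem Q104442 : ∀ i, i < 104442 → P i := stepQ 104441 Q104441 (allL N104441 (tt N85294 F445784) (tt N92269 F445785) (tt N68852 F445780) (tt N103629 F445781) (tt N92953 F445782) (tt N68851 (iv5 D207634)) (tt N120993 D224252) (tt N92268 F445783))
theorem Q104443 : ∀ i, i < 104443 → P i := stepQ 104442 Q104442 (allL N104442 (tt N92268 (iv1 F445790)) (tt N68852 (iv0 D207635)) (tt N85294 (iv2 F445789)) (tt N92275 F445788) (tt N85285 F445787) (tt N68868 F445786) (tt N85284 (iv6 F445792)) (tt N92269 F445791))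
theorem Q104444 : ∀ i, i < 104444 → P i := stepQ 104443 Q104443 (allL N104443 (tt N106422 F454367) (tt N120771 (iv0 F522630)) (tt N120993 (iv2 F523906)) (tt N68854 F445793) (tt N118096 (iv4 F508561)) (tt N120994 D224253) (tt N68852 (iv6 D207636)) (tt N119673 (iv7 F516847)))
theorem Q104445 : ∀ i, i < 104445 → P i := stepQ 104444 Q104444 (allL N104444 (tt N68853 (iv1 D207637)) (tt N102494 F445794) (tt N102505 F445797) (tt N116008 (iv3 F498023)) (tt N70831 (iv4 F445796)) (tt N115917 (iv5 F497577)) (tt N109030 (iv6 F465004)) (tt N97901 F445795))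
theorem Q104446 : ∀ i, i < 104446 → P i := stepQ 104445 Q104445 (allL N104445 (tt N120995 D224254) (tt N115613 (iv0 F495977)) (tt N117203 (iv2 F503886)) (tt N68855 F445798) (tt N108192 F461464) (tt N68853 (iv5 D207638)) (tt N120994 (iv6 F523913)) (tt N102506 F445799))
theorem Q104447 : ∀ i, i < 104447 → P i := stepQ 104446 Q104446 (allL N104446 (tt N107087 (iv1 F456910)) (tt N107094 (iv0 F456937)) (tt N103638 F445800) (tt N120994 (iv3 F523912)) (tt N120996 D224255) (tt N68854 (iv5 D207639)) (tt N68855 F445801) (tt N120997 D224256))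
theorem Q104448 : ∀ i, i < 104448 → P i := stepQ 104447 Q104447 (allL N104447 (tt N103637 (iv1 F445805)) (tt N103636 F445806) (tt N103639 F445802) (tt N119673 (iv3 F516845)) (tt N101924 F445803) (tt N120997 (iv5 F523931)) (tt N92276 F445804) (tt N68854 (iv7 D207640)))
theorem Q104449 : ∀ i, i < 104449 → P i := stepQ 104448 Q104448 (allL N104448 (tt N120711 (iv1 F522279)) (tt N120710 F522274) (tt N103640 F445807) (tt N118925 (iv3 F512776)) (tt N68855 (iv4 D207641)) (tt N102628 F445809) (tt N120996 (iv6 F523924)) (tt N102521 F445808))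
theorem Q104450 : ∀ i, i < 104450 → P i := stepQ 104449 Q104449 (allL N104449 (tt N103689 F445814) (tt N119500 (iv0 F515930)) (tt N103291 (iv2 F445812)) (tt N68856 (iv3 D207642)) (tt N92104 F445810) (tt N115018 (iv5 F493073)) (tt N98012 (iv6 F445813)) (tt N103292 F445811))
theorem Q104451 : ∀ i, i < 104451 → P i := stepQ 104450 Q104450 (allL N104450 (tt N120998 D224257) (tt N103686 (iv0 F445819)) (tt N103645 F445815) (tt N98012 F445816) (tt N98028 F445817) (tt N103539 F445818) (tt N68856 (iv6 D207643)) (tt N119665 (iv7 F516799)))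
theorem Q104452 : ∀ i, i < 104452 → P i := stepQ 104451 Q104451 (allL N104451 (tt N120999 D224258) (tt N103703 (iv0 F450596)) (tt N104640 (iv2 F446650)) (tt N68857 (iv3 D207644)) (tt N106075 (iv4 F453010)) (tt N104710 (iv5 F446947)) (tt N102547 F445820) (tt N103643 F445821))
theorem Q104453 : ∀ i, i < 104453 → P i := stepQ 104452 Q104452 (allL N104452 (tt N103649 F445825) (tt N103648 F445826) (tt N68859 F445822) (tt N68904 F445823) (tt N112541 (iv4 F481583)) (tt N68858 (iv5 D207645)) (tt N104699 (iv6 F446916)) (tt N103646 F445824))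
theorem Q104454 : ∀ i, i < 104454 → P i := stepQ 104453 Q104453 (allL N104453 (tt N103646 (iv1 F445828)) (tt N68859 (iv0 D207646)) (tt N103649 (iv2 F445829)) (tt N111164 F475030) (tt N114589 (iv4 F490897)) (tt N69063 F445827) (tt N121000 D224259) (tt N103648 (iv7 F445830)))
theorem Q104455 : ∀ i, i < 104455 → P i := stepQ 104454 Q104454 (allL N104454 (tt N68859 (iv1 D207647)) (tt N103646 F445831) (tt N103648 (iv2 F445836)) (tt N103718 (iv3 F445834)) (tt N105606 (iv4 F450953)) (tt N69064 F445833) (tt N103717 F445835) (tt N103649 F445832))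
theorem Q104456 : ∀ i, i < 104456 → P i := stepQ 104455 Q104455 (allL N104455 (tt N118657 (iv1 F511383)) (tt N118655 (iv0 F511374)) (tt N112541 (iv2 F481582)) (tt N71138 F445839) (tt N68859 (iv4 D207648)) (tt N114997 (iv5 F492976)) (tt N121001 D224260) (tt N103650 F445840))
theorem Q104457 : ∀ i, i < 104457 → P i := stepQ 104456 Q104456 (allL N104456 (tt N104697 (iv1 F446906)) (tt N103529 (iv0 F446882)) (tt N104699 (iv2 F446913)) (tt N68861 F445841) (tt N121001 (iv4 F523951)) (tt N104688 (iv5 F446878)) (tt N68859 (iv6 D207649)) (tt N104687 F446873))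
theorem Q104458 : ∀ i, i < 104458 → P i := stepQ 104457 Q104457 (allL N104457 (tt N68916 (iv1 F445851)) (tt N68861 (iv0 D207650)) (tt N68913 F445858) (tt N103732 (iv3 F445854)) (tt N71311 (iv4 F446146)) (tt N120684 (iv5 F522130)) (tt N103730 F445855) (tt N68914 F445853))
theorem Q104459 : ∀ i, i < 104459 → P i := stepQ 104458 Q104458 (allL N104458 (tt N68861 (iv1 D207651)) (tt N68916 F445842) (tt N68914 (iv2 F445844)) (tt N108878 (iv3 F464334)) (tt N71312 F446144) (tt N102429 F445843) (tt N72555 (iv6 F446147)) (tt N68913 (iv7 F445859)))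
theorem Q104460 : ∀ i, i < 104460 → P i := stepQ 104459 Q104459 (allL N104459 (tt N104667 (iv1 F446779)) (tt N104666 F446776) (tt N68915 F445845) (tt N104688 (iv3 F446876)) (tt N103540 (iv4 F445847)) (tt N68861 (iv5 D207652)) (tt N68863 F445846) (tt N104664 (iv7 F446764)))
theorem Q104461 : ∀ i, i < 104461 → P i := stepQ 104460 Q104460 (allL N104460 (tt N68914 (iv1 F445852)) (tt N68913 F445860) (tt N68916 F445848) (tt N104687 (iv3 F446870)) (tt N71143 F445849) (tt N104664 (iv5 F446766)) (tt N91693 F445850) (tt N68861 (iv7 D207653)))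
theorem Q104462 : ∀ i, i < 104462 → P i := stepQ 104461 Q104461 (allL N104461 (tt N68865 (iv1 D207654)) (tt N71103 F445861) (tt N71101 (iv2 F445865)) (tt N84389 (iv3 F445864)) (tt N110660 (iv4 F472637)) (tt N70878 F445863) (tt N120525 (iv6 F521254)) (tt N71102 F445862))
theorem Q104463 : ∀ i, i < 104463 → P i := stepQ 104462 Q104462 (allL N104462 (tt N71118 (iv1 F445868)) (tt N68866 (iv0 D207655)) (tt N71117 F445879) (tt N72182 F445866) (tt N82165 F445867) (tt N117771 (iv5 F506881)) (tt N71448 F445870) (tt N71116 (iv7 F445869)))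
theorem Q104464 : ∀ i, i < 104464 → P i := stepQ 104463 Q104463 (allL N104463 (tt N68866 (iv1 D207656)) (tt N71118 F445876) (tt N71116 (iv2 F445877)) (tt N116449 (iv3 F500176)) (tt N107111 (iv4 F457030)) (tt N116883 (iv5 F502336)) (tt N116437 F500108) (tt N71117 (iv7 F445878)))
theorem Q104465 : ∀ i, i < 104465 → P i := stepQ 104464 Q104464 (allL N104464 (tt N71117 (iv1 F445880)) (tt N71116 F445875) (tt N68866 (iv2 D207657)) (tt N71112 F445871) (tt N72157 F445872) (tt N106244 (iv5 F453736)) (tt N73855 F445873) (tt N71118 F445874))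
theorem Q104466 : ∀ i, i < 104466 → P i := stepQ 104465 Q104465 (allL N104465 (tt N68926 F445884) (tt N119276 F514777) (tt N103660 F445882) (tt N120652 (iv3 F521966)) (tt N70787 F445883) (tt N113141 (iv5 F484156)) (tt N68869 (iv6 D207658)) (tt N119275 (iv7 F514764)))
theorem Q104467 : ∀ i, i < 104467 → P i := stepQ 104466 Q104466 (allL N104466 (tt N78804 F445889) (tt N98696 F445890) (tt N68871 F445885) (tt N103673 F445886) (tt N78771 F445887) (tt N68870 (iv5 D207659)) (tt N121002 D224261) (tt N98637 F445888))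
theorem Q104468 : ∀ i, i < 104468 → P i := stepQ 104467 Q104467 (allL N104467 (tt N117757 F506819) (tt N117949 (iv0 F507746)) (tt N121002 (iv2 F523955)) (tt N68873 F445891) (tt N98041 F445892) (tt N121003 D224262) (tt N68871 (iv6 D207660)) (tt N119505 (iv7 F515954)))
theorem Q104469 : ∀ i, i < 104469 → P i := stepQ 104468 Q104468 (allL N104468 (tt N114363 (iv1 F489808)) (tt N114362 F489807) (tt N114364 (iv2 F489815)) (tt N68876 F445893) (tt N88670 F445894) (tt N68872 (iv5 D207661)) (tt N121003 (iv6 F523964)) (tt N109439 (iv7 F466965)))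
theorem Q104470 : ∀ i, i < 104470 → P i := stepQ 104469 Q104469 (allL N104469 (tt N106512 (iv1 F454720)) (tt N106517 (iv0 F454743)) (tt N103682 F445895) (tt N121003 (iv3 F523963)) (tt N88669 F445897) (tt N68873 (iv5 D207662)) (tt N68876 F445896) (tt N106989 (iv7 F456538)))
theorem Q104471 : ∀ i, i < 104471 → P i := stepQ 104470 Q104470 (allL N104470 (tt N103681 (iv1 F445901)) (tt N103680 F445902) (tt N103683 F445898) (tt N119505 (iv3 F515953)) (tt N90116 F445899) (tt N106989 (iv5 F456537)) (tt N103666 F445900) (tt N68873 (iv7 D207663)))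
theorem Q104472 : ∀ i, i < 104472 → P i := stepQ 104471 Q104471 (allL N104471 (tt N102466 F445907) (tt N102468 F445908) (tt N103685 F445906) (tt N68874 (iv3 D207664)) (tt N101016 F445903) (tt N68874 (iv5 F445905)) (tt N121004 D224263) (tt N101207 F445904))
theorem Q104473 : ∀ i, i < 104473 → P i := stepQ 104472 Q104472 (allL N104472 (tt N68931 F445912) (tt N95808 (iv0 F445914)) (tt N103566 F445909) (tt N121004 (iv3 F523970)) (tt N70008 F445910) (tt N102519 F445913) (tt N68874 (iv6 D207665)) (tt N103496 F445911))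
theorem Q104474 : ∀ i, i < 104474 → P i := stepQ 104473 Q104473 (allL N104473 (tt N103479 F445922) (tt N103477 F445923) (tt N119520 (iv2 F516031)) (tt N68875 (iv3 D207666)) (tt N97854 F445919) (tt N119520 (iv5 F516034)) (tt N97853 F445920) (tt N103684 F445921))
theorem Q104475 : ∀ i, i < 104475 → P i := stepQ 104474 Q104474 (allL N104474 (tt N102468 F445927) (tt N102466 F445928) (tt N101207 F445924) (tt N119520 (iv3 F516032)) (tt N101020 F445925) (tt N68875 (iv5 D207667)) (tt N120747 F522495) (tt N103685 F445926))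
theorem Q104476 : ∀ i, i < 104476 → P i := stepQ 104475 Q104475 (allL N104475 (tt N119665 (iv1 F516800)) (tt N103645 (iv0 F516073)) (tt N120998 F523938) (tt N68878 (iv3 D207668)) (tt N103500 F445929) (tt N114389 F489923) (tt N120679 (iv6 F522100)) (tt N103686 F445930))
theorem Q104477 : ∀ i, i < 104477 → P i := stepQ 104476 Q104476 (allL N104476 (tt N102458 F445934) (tt N102460 F445935) (tt N103580 F445932) (tt N114389 (iv3 F489922)) (tt N112108 (iv4 F479516)) (tt N68878 (iv5 D207669)) (tt N121005 D224264) (tt N103687 F445933))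
theorem Q104478 : ∀ i, i < 104478 → P i := stepQ 104477 Q104477 (allL N104477 (tt N102460 F445939) (tt N102458 F445940) (tt N103687 F445936) (tt N103708 F445937) (tt N110264 (iv4 F470713)) (tt N68879 (iv5 D207670)) (tt N109183 (iv6 F465694)) (tt N103580 F445938))
theorem Q104479 : ∀ i, i < 104479 → P i := stepQ 104478 Q104478 (allL N104478 (tt N70257 (iv1 F445942)) (tt N68880 (iv0 D207671)) (tt N70256 F445951) (tt N105106 (iv3 F448818)) (tt N120999 (iv4 F523942)) (tt N94491 F445941) (tt N116286 (iv6 F499365)) (tt N70255 (iv7 F445943)))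
theorem Q104480 : ∀ i, i < 104480 → P i := stepQ 104479 Q104479 (allL N104479 (tt N68880 (iv1 D207672)) (tt N70257 (iv0 F445948)) (tt N70255 (iv2 F445949)) (tt N79080 (iv3 F445944)) (tt N103703 (iv4 F445945)) (tt N94492 (iv5 F445947)) (tt N79082 F445946) (tt N70256 (iv7 F445950)))
theorem Q104481 : ∀ i, i < 104481 → P i := stepQ 104480 Q104480 (allL N104480 (tt N70256 (iv1 F445958)) (tt N70255 F445957) (tt N68880 (iv2 D207673)) (tt N70264 F445953) (tt N68883 F445954) (tt N105543 (iv5 F450663)) (tt N71461 F445955) (tt N70257 F445956))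
theorem Q104482 : ∀ i, i < 104482 → P i := stepQ 104481 Q104481 (allL N104481 (tt N105122 (iv1 F448895)) (tt N117969 F507844) (tt N103743 F445959) (tt N68881 (iv3 D207674)) (tt N69472 F445961) (tt N117769 (iv5 F506873)) (tt N116229 F499135) (tt N103670 F445960))
theorem Q104483 : ∀ i, i < 104483 → P i := stepQ 104482 Q104482 (allL N104482 (tt N120858 (iv1 F523122)) (tt N71948 F445964) (tt N103588 F445962) (tt N113149 (iv3 F484200)) (tt N68881 (iv4 D207675)) (tt N105616 (iv5 F450983)) (tt N113137 F484141) (tt N103671 F445963))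
theorem Q104484 : ∀ i, i < 104484 → P i := stepQ 104483 Q104483 (allL N104483 (tt N115792 F496911) (tt N68929 F446228) (tt N103672 F445965) (tt N116229 F499134) (tt N113137 (iv4 F484139)) (tt N120925 (iv5 F523511)) (tt N68881 (iv6 D207676)) (tt N119279 (iv7 F514793)))
theorem Q104485 : ∀ i, i < 104485 → P i := stepQ 104484 Q104484 (allL N104484 (tt N103509 F445969) (tt N103505 (iv0 F445968)) (tt N103506 F445966) (tt N103601 F445967) (tt N108034 (iv4 F460820)) (tt N107827 F459886) (tt N68882 (iv6 D207677)) (tt N103507 (iv7 F445970)))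
theorem Q104486 : ∀ i, i < 104486 → P i := stepQ 104485 Q104485 (allL N104485 (tt N92280 F445975) (tt N92278 (iv0 F445976)) (tt N68884 F445971) (tt N98637 F445972) (tt N94653 F445974) (tt N68883 (iv5 D207678)) (tt N104674 (iv6 F446818)) (tt N103673 F445973))
theorem Q104487 : ∀ i, i < 104487 → P i := stepQ 104486 Q104486 (allL N104486 (tt N68886 (iv1 D207680)) (tt N103666 F445980) (tt N103664 (iv2 F445981)) (tt N119640 (iv3 F516653)) (tt N106168 (iv4 F453422)) (tt N104603 F446496) (tt N120484 (iv6 F521010)) (tt N103663 F445982))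
theorem Q104488 : ∀ i, i < 104488 → P i := stepQ 104487 Q104487 (allL N104487 (tt N103664 (iv1 F445986)) (tt N103663 F445987) (tt N103666 F445984) (tt N104672 (iv3 F446808)) (tt N106248 (iv4 F453754)) (tt N104671 F446804) (tt N103683 F445985) (tt N68886 (iv7 D207681)))
theorem Q104489 : ∀ i, i < 104489 → P i := stepQ 104488 Q104488 (allL N104488 (tt N105121 F448893) (tt N103792 (iv0 F445992)) (tt N120849 (iv2 F523066)) (tt N68887 (iv3 D207682)) (tt N70313 F445988) (tt N99181 F445989) (tt N102606 F445990) (tt N70293 F445991))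
theorem Q104490 : ∀ i, i < 104490 → P i := stepQ 104489 Q104489 (allL N104489 (tt N118930 (iv1 F512805)) (tt N120743 (iv0 F522470)) (tt N71478 F445993) (tt N100821 F445994) (tt N68888 (iv4 D207683)) (tt N71768 F445997) (tt N100820 F445995) (tt N73829 F445996))
theorem Q104491 : ∀ i, i < 104491 → P i := stepQ 104490 Q104490 (allL N104490 (tt N71090 F446000) (tt N68909 F446001) (tt N71092 F445998) (tt N114907 (iv3 F492465)) (tt N114909 (iv4 F492478)) (tt N68889 (iv5 D207684)) (tt N111162 (iv6 F475008)) (tt N71091 F445999))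
theorem Q104492 : ∀ i, i < 104492 → P i := stepQ 104491 Q104491 (allL N104491 (tt N103736 F446003) (tt N69003 (iv0 F446004)) (tt N103691 F446002) (tt N119497 (iv3 F515909)) (tt N119498 (iv4 F515916)) (tt N98044 (iv5 F446005)) (tt N68889 (iv6 D207685)) (tt N103735 (iv7 F446006)))
theorem Q104493 : ∀ i, i < 104493 → P i := stepQ 104492 Q104492 (allL N104492 (tt N103291 (iv1 F446008)) (tt N103292 F446009) (tt N119500 (iv2 F515926)) (tt N68890 (iv3 D207686)) (tt N119491 (iv4 F515878)) (tt N111165 (iv5 F475034)) (tt N121006 D224265) (tt N103689 F446007))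
theorem Q104494 : ∀ i, i < 104494 → P i := stepQ 104493 Q104493 (allL N104493 (tt N93103 (iv1 F446014)) (tt N117966 (iv0 F507828)) (tt N97642 F446010) (tt N93014 F446013) (tt N68890 (iv4 D207687)) (tt N92966 F446012) (tt N113801 (iv6 F487164)) (tt N103690 F446011))
theorem Q104495 : ∀ i, i < 104495 → P i := stepQ 104494 Q104494 (allL N104494 (tt N68909 F446018) (tt N71090 F446019) (tt N71091 F446016) (tt N111165 (iv3 F475032)) (tt N118197 (iv4 F509093)) (tt N68890 (iv5 D207688)) (tt N118196 F509091) (tt N71092 F446017))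
theorem Q104496 : ∀ i, i < 104496 → P i := stepQ 104495 Q104495 (allL N104495 (tt N68917 F487167) (tt N116241 F499193) (tt N103688 F446021) (tt N121006 (iv3 F523977)) (tt N113801 F487168) (tt N116273 (iv5 F499301)) (tt N68890 (iv6 D207689)) (tt N116232 (iv7 F499147)))
theorem Q104497 : ∀ i, i < 104497 → P i := stepQ 104496 Q104496 (allL N104496 (tt N114355 (iv1 F489789)) (tt N114350 (iv0 F489762)) (tt N68892 F446022) (tt N103706 F446023) (tt N104908 (iv4 F447883)) (tt N83629 (iv5 F446024)) (tt N68891 (iv6 D207690)) (tt N111239 (iv7 F475375)))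
theorem Q104498 : ∀ i, i < 104498 → P i := stepQ 104497 Q104497 (allL N104497 (tt N111239 F475378) (tt N68892 (iv0 D207691)) (tt N114355 (iv2 F489786)) (tt N85056 F446027) (tt N97602 F446026) (tt N85056 F446025) (tt N104363 (iv6 F446028)) (tt N114350 (iv7 F489761)))
theorem Q104499 : ∀ i, i < 104499 → P i := stepQ 104498 Q104498 (allL N104498 (tt N68892 (iv1 D207692)) (tt N111239 (iv0 F475376)) (tt N114350 F489765) (tt N119423 (iv3 F515530)) (tt N98025 (iv4 F446030)) (tt N85055 F446029) (tt N98024 F446031) (tt N114355 (iv7 F489787)))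
theorem Q104500 : ∀ i, i < 104500 → P i := stepQ 104499 Q104499 (allL N104499 (tt N114350 F489763) (tt N114355 (iv0 F489788)) (tt N111239 (iv2 F475373)) (tt N68893 F446032) (tt N103342 F446033) (tt N113585 (iv5 F486158)) (tt N69024 F446034) (tt N68892 (iv7 D207693)))
theorem Q104501 : ∀ i, i < 104501 → P i := stepQ 104500 Q104500 (allL N104500 (tt N103643 (iv1 F450333)) (tt N104640 (iv0 F450338)) (tt N120999 F523944) (tt N68894 (iv3 D207694)) (tt N70256 F446036) (tt N119685 (iv5 F516908)) (tt N121007 D224266) (tt N103703 F446035))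
theorem Q104502 : ∀ i, i < 104502 → P i := stepQ 104501 Q104501 (allL N104501 (tt N103780 F446040) (tt N68919 F446041) (tt N103705 F446037) (tt N121007 (iv3 F523982)) (tt N97871 F446038) (tt N113806 (iv5 F487196)) (tt N68894 (iv6 D207695)) (tt N97869 F446039))
theorem Q104503 : ∀ i, i < 104503 → P i := stepQ 104502 Q104502 (allL N104502 (tt N69821 (iv1 F446045)) (tt N68899 (iv0 F446044)) (tt N103711 (iv2 F446046)) (tt N68895 (iv3 D207696)) (tt N106990 (iv4 F456541)) (tt N118653 (iv5 F511364)) (tt N97865 F446042) (tt N103704 F446043))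
theorem Q104504 : ∀ i, i < 104504 → P i := stepQ 104503 Q104503 (allL N104503 (tt N109152 (iv1 F465592)) (tt N121008 D224267) (tt N120688 (iv2 F522154)) (tt N68898 F446047) (tt N109104 F465360) (tt N68897 (iv5 D207697)) (tt N104667 F446782) (tt N120685 (iv7 F522138)))
theorem Q104505 : ∀ i, i < 104505 → P i := stepQ 104504 Q104504 (allL N104504 (tt N68898 (iv1 D207698)) (tt N69025 F446048) (tt N103702 (iv2 F446051)) (tt N105939 (iv3 F454807)) (tt N120743 (iv4 F522468)) (tt N102631 F446050) (tt N105937 F454808) (tt N103701 F446049))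
theorem Q104506 : ∀ i, i < 104506 → P i := stepQ 104505 Q104505 (allL N104505 (tt N68899 (iv1 D207699)) (tt N69821 F446054) (tt N103704 (iv2 F446053)) (tt N120999 (iv3 F523943)) (tt N105105 (iv4 F448815)) (tt N105158 (iv5 F449055)) (tt N113795 (iv6 F487147)) (tt N103711 F446052))
theorem Q104507 : ∀ i, i < 104507 → P i := stepQ 104506 Q104506 (allL N104506 (tt N103711 (iv1 F446061)) (tt N103704 F446060) (tt N68899 (iv2 D207700)) (tt N97925 F446055) (tt N69727 F446056) (tt N94640 F446057) (tt N102460 F446058) (tt N69821 F446059))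
theorem Q104508 : ∀ i, i < 104508 → P i := stepQ 104507 Q104507 (allL N104507 (tt N85071 F446067) (tt N85070 (iv0 F446068)) (tt N69389 F446062) (tt N79909 F446063) (tt N68901 F446064) (tt N79906 F446065) (tt N68900 (iv6 D207701)) (tt N85072 F446066))
theorem Q104509 : ∀ i, i < 104509 → P i := stepQ 104508 Q104508 (allL N104508 (tt N85057 (iv1 F446072)) (tt N68901 (iv0 D207702)) (tt N103579 (iv2 F446070)) (tt N120998 (iv3 F523937)) (tt N68966 F446069) (tt N103707 (iv5 F446073)) (tt N120923 F523501) (tt N103715 F446071))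
theorem Q104510 : ∀ i, i < 104510 → P i := stepQ 104509 Q104509 (allL N104509 (tt N103715 (iv1 F446079)) (tt N103579 F446080) (tt N85057 F446074) (tt N102458 F446075) (tt N85072 F446076) (tt N102436 F446077) (tt N69017 F446078) (tt N68901 (iv7 D207703)))
theorem Q104511 : ∀ i, i < 104511 → P i := stepQ 104510 Q104510 (allL N104510 (tt N68903 (iv1 D207704)) (tt N69017 F446081) (tt N69019 F446087) (tt N102560 (iv3 F446085)) (tt N68972 F446084) (tt N102556 F446083) (tt N102273 (iv6 F446086)) (tt N69013 F446082))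
theorem Q104512 : ∀ i, i < 104512 → P i := stepQ 104511 Q104511 (allL N104511 (tt N118653 (iv1 F511368)) (tt N105158 F449056) (tt N121009 D224268) (tt N68905 (iv3 D207705)) (tt N109496 (iv4 F467272)) (tt N69080 F446088) (tt N116152 (iv6 F498770)) (tt N103717 F446089))
theorem Q104513 : ∀ i, i < 104513 → P i := stepQ 104512 Q104512 (allL N104512 (tt N98529 F446093) (tt N114907 (iv0 F492468)) (tt N114584 (iv2 F490870)) (tt N68906 (iv3 D207706)) (tt N87506 F446090) (tt N69083 F446091) (tt N111163 (iv6 F475020)) (tt N103719 F446092))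
theorem Q104514 : ∀ i, i < 104514 → P i := stepQ 104513 Q104513 (allL N104513 (tt N119685 F516910) (tt N105457 F450928) (tt N103718 F446094) (tt N111163 F475021) (tt N105600 (iv4 F450927)) (tt N103536 F446095) (tt N68906 (iv6 D207707)) (tt N115334 (iv7 F494643)))
theorem Q104515 : ∀ i, i < 104515 → P i := stepQ 104514 Q104514 (allL N104514 (tt N75147 (iv1 F446101)) (tt N75049 (iv0 F446099)) (tt N75144 F446096) (tt N113838 (iv3 F487370)) (tt N68908 F446097) (tt N74296 F446098) (tt N68907 (iv6 D207708)) (tt N75145 (iv7 F446100)))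
theorem Q104516 : ∀ i, i < 104516 → P i := stepQ 104515 Q104515 (allL N104515 (tt N71092 (iv1 F446106)) (tt N71091 F446105) (tt N68909 (iv2 D207709)) (tt N71096 F446102) (tt N100653 (iv4 F446107)) (tt N69078 F446103) (tt N121010 D224269) (tt N71090 F446104))
theorem Q104517 : ∀ i, i < 104517 → P i := stepQ 104516 Q104516 (allL N104516 (tt N101414 F446111) (tt N101413 F446113) (tt N100653 F446108) (tt N70879 F446109) (tt N68909 (iv4 D207710)) (tt N109647 (iv5 F467914)) (tt N96665 (iv6 F446112)) (tt N71093 F446110))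
theorem Q104518 : ∀ i, i < 104518 → P i := stepQ 104517 Q104517 (allL N104517 (tt N121011 D224270) (tt N121011 F524005) (tt N121010 (iv2 F523999)) (tt N68910 F446114) (tt N96665 F446115) (tt N120985 (iv5 F523867)) (tt N68909 (iv6 D207711)) (tt N121010 (iv7 F524002)))
theorem Q104519 : ∀ i, i < 104519 → P i := stepQ 104518 Q104518 (allL N104518 (tt N71315 F446118) (tt N68910 (iv0 D207712)) (tt N71316 (iv2 F453579)) (tt N121012 D224271) (tt N96122 F446116) (tt N121013 D224272) (tt N96121 F446117) (tt N71317 F453580))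
theorem Q104520 : ∀ i, i < 104520 → P i := stepQ 104519 Q104519 (allL N104519 (tt N68910 (iv1 D207713)) (tt N71315 F446119) (tt N71317 F453578) (tt N113849 (iv3 F487439)) (tt N101923 F446120) (tt N121014 D224273) (tt N116886 (iv6 F502353)) (tt N71316 (iv7 F453577)))
theorem Q104521 : ∀ i, i < 104521 → P i := stepQ 104520 Q104520 (allL N104520 (tt N121015 D224274) (tt N121016 D224275) (tt N71318 F446121) (tt N120985 (iv3 F523865)) (tt N115942 F497701) (tt N68910 (iv5 D207714)) (tt N69079 F446122) (tt N121017 D224276))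
theorem Q104522 : ∀ i, i < 104522 → P i := stepQ 104521 Q104521 (allL N104521 (tt N71317 (iv1 F446126)) (tt N71316 F446127) (tt N71315 F446123) (tt N121010 (iv3 F524000)) (tt N70886 F446124) (tt N121017 (iv5 F524035)) (tt N71096 F446125) (tt N68910 (iv7 D207715)))
theorem Q104523 : ∀ i, i < 104523 → P i := stepQ 104522 Q104522 (allL N104522 (tt N114652 (iv1 F491209)) (tt N99377 (iv0 F446129)) (tt N114653 (iv2 F491213)) (tt N68912 F446128) (tt N113838 (iv4 F487371)) (tt N121018 D224277) (tt N68911 (iv6 D207716)) (tt N114649 (iv7 F491197)))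
theorem Q104524 : ∀ i, i < 104524 → P i := stepQ 104523 Q104523 (allL N104523 (tt N68912 (iv1 D207717)) (tt N71143 F446130) (tt N71141 (iv2 F446134)) (tt N99431 F446133) (tt N106133 F453286) (tt N121019 D224278) (tt N96119 (iv6 F446132)) (tt N71140 F446131))
theorem Q104525 : ∀ i, i < 104525 → P i := stepQ 104524 Q104524 (allL N104524 (tt N113963 (iv1 F487983)) (tt N113962 F487982) (tt N71142 F446135) (tt N121018 (iv3 F524040)) (tt N114704 (iv4 F491430)) (tt N68912 (iv5 D207718)) (tt N70839 F446136) (tt N113860 (iv7 F487505)))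
theorem Q104526 : ∀ i, i < 104526 → P i := stepQ 104525 Q104525 (allL N104525 (tt N98525 (iv1 F446139)) (tt N118196 (iv0 F509090)) (tt N108879 (iv2 F464340)) (tt N68913 (iv3 D207719)) (tt N93866 F446137) (tt N102904 (iv5 F446138)) (tt N111161 F475014) (tt N108878 (iv7 F464336)))
theorem Q104527 : ∀ i, i < 104527 → P i := stepQ 104526 Q104526 (allL N104526 (tt N71314 (iv1 F446142)) (tt N70883 (iv0 F446141)) (tt N71311 F446145) (tt N72563 F446140) (tt N68913 (iv4 D207720)) (tt N121020 D224279) (tt N108008 (iv6 F460706)) (tt N71312 (iv7 F446143)))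
theorem Q104528 : ∀ i, i < 104528 → P i := stepQ 104527 Q104527 (allL N104527 (tt N120683 (iv1 F522123)) (tt N103500 (iv0 F446156)) (tt N120684 (iv2 F522127)) (tt N102904 F446153) (tt N109442 (iv4 F466977)) (tt N68913 (iv5 D207721)) (tt N103652 (iv6 F446155)) (tt N102429 F446154))
theorem Q104529 : ∀ i, i < 104529 → P i := stepQ 104528 Q104528 (allL N104528 (tt N119612 (iv1 F516515)) (tt N119613 (iv0 F516519)) (tt N103730 F446157) (tt N111161 (iv3 F475013)) (tt N108008 (iv4 F460704)) (tt N120888 (iv5 F523300)) (tt N68913 (iv6 D207722)) (tt N108006 (iv7 F460693)))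
theorem Q104530 : ∀ i, i < 104530 → P i := stepQ 104529 Q104529 (allL N104529 (tt N116891 (iv1 F502378)) (tt N116790 (iv0 F501851)) (tt N116211 (iv2 F499038)) (tt N68914 (iv3 D207723)) (tt N113231 (iv4 F484614)) (tt N103773 F446158) (tt N104619 (iv6 F446575)) (tt N103732 F446159))
theorem Q104531 : ∀ i, i < 104531 → P i := stepQ 104530 Q104530 (allL N104530 (tt N70883 (iv1 F446162)) (tt N71314 F446163) (tt N71312 F446160) (tt N107996 (iv3 F460645)) (tt N68914 (iv4 D207724)) (tt N121021 D224280) (tt N72552 (iv6 F446164)) (tt N71311 F446161))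
theorem Q104532 : ∀ i, i < 104532 → P i := stepQ 104531 Q104531 (allL N104531 (tt N96142 (iv1 F446169)) (tt N96121 (iv0 F446168)) (tt N72555 F446165) (tt N104619 (iv3 F446574)) (tt N72552 F446166) (tt N71428 F446167) (tt N68914 (iv6 D207725)) (tt N106847 (iv7 F455969)))
theorem Q104533 : ∀ i, i < 104533 → P i := stepQ 104532 Q104532 (allL N104532 (tt N104664 F446767) (tt N68915 (iv0 D207726)) (tt N104667 (iv2 F446784)) (tt N97577 F446170) (tt N120666 (iv4 F522051)) (tt N101477 F446171) (tt N120688 (iv6 F522156)) (tt N104666 F446778))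
theorem Q104534 : ∀ i, i < 104534 → P i := stepQ 104533 Q104533 (allL N104533 (tt N68915 (iv1 D207727)) (tt N104664 (iv0 F446765)) (tt N104666 F446777) (tt N116216 (iv3 F499069)) (tt N120653 (iv4 F521973)) (tt N120914 (iv5 F523442)) (tt N102558 (iv6 F446172)) (tt N104667 (iv7 F446780)))
theorem Q104535 : ∀ i, i < 104535 → P i := stepQ 104534 Q104534 (allL N104534 (tt N116241 (iv1 F499192)) (tt N68917 (iv0 D207728)) (tt N116232 (iv2 F499146)) (tt N106150 F453360) (tt N113802 F487171) (tt N106145 (iv5 F453361)) (tt N103735 F453362) (tt N103688 (iv7 F453363)))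
theorem Q104536 : ∀ i, i < 104536 → P i := stepQ 104535 Q104535 (allL N104535 (tt N116232 F499149) (tt N103688 F446175) (tt N68917 (iv2 D207730)) (tt N103780 F446173) (tt N115412 (iv4 F495067)) (tt N113788 (iv5 F487115)) (tt N103549 F446174) (tt N116241 (iv7 F499190)))
theorem Q104537 : ∀ i, i < 104537 → P i := stepQ 104536 Q104536 (allL N104536 (tt N116240 (iv1 F499183)) (tt N116239 F499181) (tt N113788 (iv2 F487113)) (tt N68918 F446176) (tt N113792 (iv4 F487131)) (tt N68917 (iv5 D207731)) (tt N120813 (iv6 F522865)) (tt N104746 (iv7 F447089)))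
theorem Q104538 : ∀ i, i < 104538 → P i := stepQ 104537 Q104537 (allL N104537 (tt N102492 F446181) (tt N120652 (iv0 F521970)) (tt N103611 F446177) (tt N116230 (iv3 F499136)) (tt N68918 (iv4 D207732)) (tt N100818 F446180) (tt N68927 F446178) (tt N103616 F446179))
theorem Q104539 : ∀ i, i < 104539 → P i := stepQ 104538 Q104538 (allL N104538 (tt N120652 (iv1 F521971)) (tt N102492 F446185) (tt N103616 F446182) (tt N113793 (iv3 F487138)) (tt N68920 (iv4 D207733)) (tt N102282 F446183) (tt N121022 D224281) (tt N103611 F446184))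
theorem Q104540 : ∀ i, i < 104540 → P i := stepQ 104539 Q104539 (allL N104539 (tt N120679 (iv1 F522102)) (tt N121023 D224282) (tt N104747 (iv2 F447091)) (tt N116237 (iv3 F499173)) (tt N121022 (iv4 F524067)) (tt N114165 (iv5 F495238)) (tt N68920 (iv6 D207734)) (tt N115805 (iv7 F496984)))
theorem Q104541 : ∀ i, i < 104541 → P i := stepQ 104540 Q104540 (allL N104540 (tt N106145 F453339) (tt N116273 F499303) (tt N113807 (iv2 F487200)) (tt N68922 (iv3 D207735)) (tt N103263 F446188) (tt N69155 F446186) (tt N103483 F446187) (tt N116274 (iv7 F499307)))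
theorem Q104542 : ∀ i, i < 104542 → P i := stepQ 104541 Q104541 (allL N104541 (tt N102613 F446192) (tt N118798 (iv0 F512134)) (tt N103884 F446189) (tt N116256 (iv3 F499242)) (tt N68922 (iv4 D207736)) (tt N96987 F446191) (tt N120638 (iv6 F521894)) (tt N103886 F446190))
theorem Q104543 : ∀ i, i < 104543 → P i := stepQ 104542 Q104542 (allL N104542 (tt N118798 (iv1 F512135)) (tt N102613 F446197) (tt N103886 F446193) (tt N102587 F446194) (tt N68923 (iv4 D207737)) (tt N96985 F446195) (tt N119502 (iv6 F515939)) (tt N103884 F446196))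
theorem Q104544 : ∀ i, i < 104544 → P i := stepQ 104543 Q104543 (allL N104543 (tt N120677 F522094) (tt N120737 (iv0 F522436)) (tt N120689 (iv2 F522160)) (tt N109147 F465572) (tt N119502 F515938) (tt N103845 F446198) (tt N68923 (iv6 D207738)) (tt N120643 (iv7 F521921)))
theorem Q104545 : ∀ i, i < 104545 → P i := stepQ 104544 Q104544 (allL N104544 (tt N102285 (iv1 F446201)) (tt N68924 (iv0 D207739)) (tt N102558 (iv2 F446202)) (tt N115831 (iv3 F497130)) (tt N69161 F446200) (tt N96990 F446199) (tt N104666 (iv6 F446775)) (tt N102557 (iv7 F446203)))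
theorem Q104546 : ∀ i, i < 104546 → P i := stepQ 104545 Q104545 (allL N104545 (tt N68924 (iv1 D207740)) (tt N102285 F446204) (tt N102557 (iv2 F446208)) (tt N104627 (iv3 F446603)) (tt N69164 F446207) (tt N96989 F446206) (tt N120685 (iv6 F522137)) (tt N102558 F446205))
theorem Q104547 : ∀ i, i < 104547 → P i := stepQ 104546 Q104546 (allL N104546 (tt N69164 F446212) (tt N69161 F446213) (tt N106137 (iv2 F453303)) (tt N102619 F446209) (tt N102500 F446211) (tt N68925 (iv5 D207741)) (tt N102499 F446214) (tt N95108 F446210))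
theorem Q104548 : ∀ i, i < 104548 → P i := stepQ 104547 Q104547 (allL N104547 (tt N119276 (iv1 F514776)) (tt N68926 (iv0 D207742)) (tt N119275 (iv2 F514769)) (tt N97873 F446217) (tt N104194 F446215) (tt N93242 F446216) (tt N97872 (iv6 F446218)) (tt N103660 (iv7 F446219)))
theorem Q104549 : ∀ i, i < 104549 → P i := stepQ 104548 Q104548 (allL N104548 (tt N119275 (iv1 F514770)) (tt N103660 F446221) (tt N68926 (iv2 D207743)) (tt N115792 (iv3 F496907)) (tt N105780 (iv4 F451678)) (tt N115793 (iv5 F496913)) (tt N103559 F446220) (tt N119276 (iv7 F514775)))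
theorem Q104550 : ∀ i, i < 104550 → P i := stepQ 104549 Q104549 (allL N104549 (tt N86964 F446223) (tt N115795 F496932) (tt N115793 F496917) (tt N68927 F446222) (tt N116234 (iv4 F499157)) (tt N68926 (iv5 D207744)) (tt N116230 (iv6 F499138)) (tt N115794 (iv7 F496919)))
theorem Q104551 : ∀ i, i < 104551 → P i := stepQ 104550 Q104550 (allL N104550 (tt N68929 (iv1 D207746)) (tt N115792 (iv0 F496910)) (tt N119279 F514791) (tt N69885 (iv3 F446224)) (tt N113136 (iv4 F484134)) (tt N69883 F446225) (tt N103507 (iv6 F446227)) (tt N103672 F446226))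
theorem Q104552 : ∀ i, i < 104552 → P i := stepQ 104551 Q104551 (allL N104551 (tt N103672 (iv1 F483758)) (tt N119279 F514792) (tt N68929 (iv2 D207747)) (tt N119276 (iv3 F514771)) (tt N119201 (iv4 F514330)) (tt N105749 (iv5 F451524)) (tt N121024 D224283) (tt N115792 (iv7 F496912)))
theorem Q104553 : ∀ i, i < 104553 → P i := stepQ 104552 Q104552 (allL N104552 (tt N105747 (iv1 F451514)) (tt N102606 (iv0 F446230)) (tt N105749 F451523) (tt N68930 F446229) (tt N116225 (iv4 F499118)) (tt N68929 (iv5 D207748)) (tt N121025 D224284) (tt N105748 F451520))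
theorem Q104554 : ∀ i, i < 104554 → P i := stepQ 104553 Q104553 (allL N104553 (tt N120911 F523424) (tt N121026 D224285) (tt N121024 (iv2 F524076)) (tt N68931 F446231) (tt N119202 (iv4 F514336)) (tt N121027 D224286) (tt N68929 (iv6 D207749)) (tt N103564 F446232))
theorem Q104555 : ∀ i, i < 104555 → P i := stepQ 104554 Q104554 (allL N104554 (tt N115614 (iv1 F496090)) (tt N114100 F496091) (tt N119277 (iv2 F514778)) (tt N121025 (iv3 F524081)) (tt N115805 (iv4 F496985)) (tt N115639 (iv5 F496088)) (tt N68930 (iv6 D207750)) (tt N121022 (iv7 F524069)))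
theorem Q104556 : ∀ i, i < 104556 → P i := stepQ 104555 Q104555 (allL N104555 (tt N95808 (iv1 F446236)) (tt N68931 (iv0 D207751)) (tt N103496 (iv2 F446235)) (tt N97735 F446239) (tt N70574 F446234) (tt N102520 F446233) (tt N68996 (iv6 F446238)) (tt N103566 F446237))
theorem Q104557 : ∀ i, i < 104557 → P i := stepQ 104556 Q104556 (allL N104556 (tt N102623 F446241) (tt N102625 F446242) (tt N119278 (iv2 F514783)) (tt N121027 (iv3 F524091)) (tt N120931 (iv4 F523550)) (tt N68931 (iv5 D207752)) (tt N115639 (iv6 F496092)) (tt N103567 F446240))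
theorem Q104558 : ∀ i, i < 104558 → P i := stepQ 104557 Q104557 (allL N104557 (tt N68985 F446248) (tt N103325 (iv0 F446249)) (tt N103305 F446243) (tt N78412 F446244) (tt N103583 F446245) (tt N78411 F446246) (tt N68933 (iv6 D207753)) (tt N103324 F446247))
theorem Q104559 : ∀ i, i < 104559 → P i := stepQ 104558 Q104558 (allL N104558 (tt N101718 F446255) (tt N86924 (iv0 F446256)) (tt N68935 F446250) (tt N103295 F446251) (tt N68947 F446252) (tt N72069 F446253) (tt N68934 (iv6 D207754)) (tt N101717 F446254))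
theorem Q104560 : ∀ i, i < 104560 → P i := stepQ 104559 Q104559 (allL N104559 (tt N101717 (iv1 F446261)) (tt N68935 (iv0 D207755)) (tt N101718 (iv2 F446260)) (tt N85065 F446257) (tt N77340 F446258) (tt N86925 F446259) (tt N119645 (iv6 F516684)) (tt N86924 F446262))
theorem Q104561 : ∀ i, i < 104561 → P i := stepQ 104560 Q104560 (allL N104560 (tt N104402 F446267) (tt N104334 F446269) (tt N72069 F446263) (tt N68938 F446264) (tt N72067 F446268) (tt N68935 (iv5 D207756)) (tt N72066 F446265) (tt N104383 F446266))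
theorem Q104562 : ∀ i, i < 104562 → P i := stepQ 104561 Q104561 (allL N104561 (tt N104367 F446272) (tt N93043 F446273) (tt N103299 F446270) (tt N103633 F446274) (tt N68938 (iv4 D207757)) (tt N118259 (iv5 F509405)) (tt N117944 (iv6 F507719)) (tt N104364 F446271))
theorem Q104563 : ∀ i, i < 104563 → P i := stepQ 104562 Q104562 (allL N104562 (tt N103318 F446280) (tt N103236 (iv0 F446281)) (tt N88727 F446275) (tt N68940 (iv3 D207758)) (tt N88730 F446276) (tt N84004 F446277) (tt N87682 F446278) (tt N103302 F446279))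
theorem Q104564 : ∀ i, i < 104564 → P i := stepQ 104563 Q104563 (allL N104563 (tt N103908 F446286) (tt N103338 F446287) (tt N97756 F446282) (tt N106944 (iv3 F456386)) (tt N72342 F446285) (tt N68943 (iv5 D207759)) (tt N97770 F446283) (tt N103438 F446284))
theorem Q104565 : ∀ i, i < 104565 → P i := stepQ 104564 Q104564 (allL N104564 (tt N103338 F446293) (tt N103908 F446294) (tt N103438 F446288) (tt N92115 F446289) (tt N72340 F446290) (tt N68945 (iv5 D207760)) (tt N93619 F446291) (tt N97756 F446292))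
theorem Q104566 : ∀ i, i < 104566 → P i := stepQ 104565 Q104565 (allL N104565 (tt N68950 F446299) (tt N68947 (iv0 D207761)) (tt N68948 (iv2 F446298)) (tt N104114 F446328) (tt N110335 (iv4 F471100)) (tt N103820 F446295) (tt N103625 F446297) (tt N68949 (iv7 F446300)))
theorem Q104567 : ∀ i, i < 104567 → P i := stepQ 104566 Q104566 (allL N104566 (tt N68947 (iv1 D207762)) (tt N68950 F446301) (tt N68949 F446306) (tt N79916 (iv3 F446303)) (tt N110277 (iv4 F470793)) (tt N103819 (iv5 F446304)) (tt N103576 (iv6 F446305)) (tt N68948 F446302))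
theorem Q104568 : ∀ i, i < 104568 → P i := stepQ 104567 Q104567 (allL N104567 (tt N68949 (iv1 F446312)) (tt N68948 F446313) (tt N68950 F446307) (tt N101697 F446308) (tt N101717 F446309) (tt N101696 F446310) (tt N69058 F446311) (tt N68947 (iv7 D207763)))
theorem Q104569 : ∀ i, i < 104569 → P i := stepQ 104568 Q104568 (allL N104568 (tt N104430 F446315) (tt N103129 F446316) (tt N110335 F471103) (tt N77301 F446314) (tt N68948 (iv4 D207764)) (tt N115405 (iv5 F495024)) (tt N109925 (iv6 F469253)) (tt N110277 (iv7 F470795)))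
theorem Q104570 : ∀ i, i < 104570 → P i := stepQ 104569 Q104569 (allL N104569 (tt N69268 F446320) (tt N69143 (iv0 F446322)) (tt N103820 F446317) (tt N94579 F446318) (tt N83421 F446321) (tt N68948 (iv5 D207765)) (tt N109926 (iv6 F469259)) (tt N103819 F446319))
theorem Q104571 : ∀ i, i < 104571 → P i := stepQ 104570 Q104570 (allL N104570 (tt N103525 F446325) (tt N104116 (iv0 F446326)) (tt N104115 F446323) (tt N68949 (iv3 D207766)) (tt N104653 (iv4 F446704)) (tt N118991 (iv5 F513158)) (tt N85070 F446324) (tt N104114 (iv7 F446327)))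
theorem Q104572 : ∀ i, i < 104572 → P i := stepQ 104571 Q104571 (allL N104571 (tt N69143 F446334) (tt N69268 F446335) (tt N103819 F446330) (tt N118991 (iv3 F513156)) (tt N78338 F446333) (tt N68949 (iv5 D207767)) (tt N75020 F446331) (tt N103820 F446332))
theorem Q104573 : ∀ i, i < 104573 → P i := stepQ 104572 Q104572 (allL N104572 (tt N69201 F446341) (tt N69205 (iv0 F446342)) (tt N84768 F446336) (tt N68952 F446337) (tt N75459 F446340) (tt N68951 (iv5 D207768)) (tt N78161 F446338) (tt N99633 F446339))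
theorem Q104574 : ∀ i, i < 104574 → P i := stepQ 104573 Q104573 (allL N104573 (tt N69097 F446345) (tt N69099 F446346) (tt N103501 F446343) (tt N120898 F523354) (tt N116123 (iv4 F498593)) (tt N68953 (iv5 D207769)) (tt N113536 F485934) (tt N103503 F446344))
theorem Q104575 : ∀ i, i < 104575 → P i := stepQ 104574 Q104574 (allL N104574 (tt N102784 F446351) (tt N104122 (iv0 F446352)) (tt N104117 F446347) (tt N68956 F446348) (tt N104095 F446349) (tt N80063 F446350) (tt N68954 (iv6 D207770)) (tt N103622 (iv7 F446353)))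
theorem Q104576 : ∀ i, i < 104576 → P i := stepQ 104575 Q104575 (allL N104575 (tt N115430 F495156) (tt N103388 (iv0 F446357)) (tt N103574 F446354) (tt N88792 F446355) (tt N68956 F446356) (tt N115749 (iv5 F496651)) (tt N68955 (iv6 D207771)) (tt N103623 (iv7 F446358)))
theorem Q104577 : ∀ i, i < 104577 → P i := stepQ 104576 Q104576 (allL N104576 (tt N102826 F446362) (tt N102824 (iv0 F446363)) (tt N103573 F446359) (tt N102231 F446360) (tt N68959 F446361) (tt N119462 (iv5 F515744)) (tt N68958 (iv6 D207772)) (tt N103581 (iv7 F446364)))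
theorem Q104578 : ∀ i, i < 104578 → P i := stepQ 104577 Q104577 (allL N104577 (tt N82505 (iv1 F446371)) (tt N68960 (iv0 D207773)) (tt N82503 (iv2 F446368)) (tt N76766 F446369) (tt N85064 F446366) (tt N101705 F446365) (tt N76761 F446367) (tt N82504 F446370))
theorem Q104579 : ∀ i, i < 104579 → P i := stepQ 104578 Q104578 (allL N104578 (tt N82504 (iv1 F446377)) (tt N82503 F446378) (tt N82505 F446372) (tt N68967 F446373) (tt N85003 F446374) (tt N79440 F446375) (tt N69054 F446376) (tt N68960 (iv7 D207774)))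
theorem Q104580 : ∀ i, i < 104580 → P i := stepQ 104579 Q104579 (allL N104579 (tt N117969 F507843) (tt N105122 (iv0 F448894)) (tt N103670 F446379) (tt N68961 (iv3 D207775)) (tt N69471 F446380) (tt N120454 (iv5 F520872)) (tt N119668 (iv6 F516819)) (tt N103743 F446381))
theorem Q104581 : ∀ i, i < 104581 → P i := stepQ 104580 Q104580 (allL N104580 (tt N69120 F446385) (tt N69116 F446386) (tt N88921 F446382) (tt N120454 (iv3 F520871)) (tt N88920 F446384) (tt N68961 (iv5 D207776)) (tt N98689 F446387) (tt N103744 F446383))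
theorem Q104582 : ∀ i, i < 104582 → P i := stepQ 104581 Q104581 (allL N104581 (tt N103604 (iv1 F446394)) (tt N69042 (iv0 F446393)) (tt N103601 F446390) (tt N119668 F516817) (tt N102691 F446391) (tt N117761 (iv5 F506842)) (tt N68961 (iv6 D207777)) (tt N103602 F446392))
theorem Q104583 : ∀ i, i < 104583 → P i := stepQ 104582 Q104582 (allL N104582 (tt N69116 F446400) (tt N69120 F446401) (tt N103744 F446395) (tt N103632 F446396) (tt N83927 F446397) (tt N68962 (iv5 D207778)) (tt N103498 F446398) (tt N88921 F446399))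
theorem Q104584 : ∀ i, i < 104584 → P i := stepQ 104583 Q104583 (allL N104583 (tt N68963 (iv1 D207779)) (tt N103745 (iv0 F446406)) (tt N103659 (iv2 F446405)) (tt N120651 (iv3 F521961)) (tt N69508 F446403) (tt N92274 F446404) (tt N109165 (iv6 F465646)) (tt N75692 F446402))
theorem Q104585 : ∀ i, i < 104585 → P i := stepQ 104584 Q104584 (allL N104584 (tt N75692 (iv1 F446411)) (tt N103659 F446410) (tt N68963 (iv2 D207780)) (tt N98712 F446407) (tt N97866 F446408) (tt N90064 (iv5 F446412)) (tt N103814 F446413) (tt N103745 F446409))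
theorem Q104586 : ∀ i, i < 104586 → P i := stepQ 104585 Q104585 (allL N104585 (tt N98695 F446418) (tt N102618 F446419) (tt N90064 F446414) (tt N68964 F446415) (tt N76088 F446417) (tt N68963 (iv5 D207781)) (tt N75585 F446420) (tt N90062 F446416))
theorem Q104587 : ∀ i, i < 104587 → P i := stepQ 104586 Q104586 (allL N104586 (tt N114359 F489795) (tt N109178 F465681) (tt N103814 F446421) (tt N68965 F446422) (tt N104959 (iv4 F448144)) (tt N103806 F446423) (tt N68963 (iv6 D207782)) (tt N103810 F446424))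
theorem Q104588 : ∀ i, i < 104588 → P i := stepQ 104587 Q104587 (allL N104587 (tt N103753 (iv1 F446431)) (tt N68965 (iv0 D207783)) (tt N103751 F447593) (tt N114360 (iv3 F489797)) (tt N104848 (iv4 F447588)) (tt N114359 (iv5 F489796)) (tt N111098 (iv6 F474655)) (tt N103752 F447595))
theorem Q104589 : ∀ i, i < 104589 → P i := stepQ 104588 Q104588 (allL N104588 (tt N68965 (iv1 D207784)) (tt N103753 F446425) (tt N103752 (iv2 F447596)) (tt N103677 (iv3 F447599)) (tt N104849 (iv4 F447602)) (tt N109178 (iv5 F465680)) (tt N103597 F447598) (tt N103751 (iv7 F447597)))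
theorem Q104590 : ∀ i, i < 104590 → P i := stepQ 104589 Q104589 (allL N104589 (tt N103752 (iv1 F446432)) (tt N103751 (iv0 F446433)) (tt N103753 F446426) (tt N103810 F446427) (tt N68967 F446428) (tt N102509 F446429) (tt N69055 F446430) (tt N68965 (iv7 D207785)))
theorem Q104591 : ∀ i, i < 104591 → P i := stepQ 104590 Q104590 (allL N104590 (tt N97097 F446440) (tt N101832 F446439) (tt N100793 F446434) (tt N103599 F446435) (tt N84354 F446438) (tt N68966 (iv5 D207786)) (tt N84353 F446436) (tt N103754 F446437))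
theorem Q104592 : ∀ i, i < 104592 → P i := stepQ 104591 Q104591 (allL N104591 (tt N102501 F446442) (tt N103667 F446443) (tt N105751 F451534) (tt N68971 F446441) (tt N120605 (iv4 F521713)) (tt N92627 F446451) (tt N68969 (iv6 D207787)) (tt N105750 F451529))
theorem Q104593 : ∀ i, i < 104593 → P i := stepQ 104592 Q104592 (allL N104592 (tt N113759 (iv1 F486993)) (tt N108882 (iv0 F464357)) (tt N103747 F446444) (tt N98599 F446445) (tt N120106 (iv4 F519076)) (tt N116259 (iv5 F499255)) (tt N68970 (iv6 D207788)) (tt N102918 F446446))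
theorem Q104594 : ∀ i, i < 104594 → P i := stepQ 104593 Q104593 (allL N104593 (tt N102718 F446449) (tt N113044 (iv0 F483700)) (tt N103748 F446447) (tt N92627 (iv3 F446450)) (tt N97713 F446448) (tt N68971 (iv5 D207789)) (tt N116259 (iv6 F499256)) (tt N113820 F487281))
theorem Q104595 : ∀ i, i < 104595 → P i := stepQ 104594 Q104594 (allL N104594 (tt N97873 F446456) (tt N109165 F465647) (tt N109157 (iv2 F465619)) (tt N68982 (iv3 D207790)) (tt N97870 F446452) (tt N95809 F446453) (tt N102482 F446454) (tt N103563 F446455))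
theorem Q104596 : ∀ i, i < 104596 → P i := stepQ 104595 Q104595 (allL N104595 (tt N103583 F446459) (tt N111826 F478171) (tt N68983 (iv2 D207791)) (tt N78632 F446457) (tt N87045 F446458) (tt N111686 (iv5 F477480)) (tt N117102 (iv6 F503398)) (tt N111825 (iv7 F478165)))
theorem Q104597 : ∀ i, i < 104597 → P i := stepQ 104596 Q104596 (allL N104596 (tt N106128 F453262) (tt N106132 F453283) (tt N106130 F453271) (tt N68984 (iv3 D207792)) (tt N103470 F446460) (tt N95807 F446461) (tt N119417 (iv6 F515512)) (tt N103560 F446462))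
theorem Q104598 : ∀ i, i < 104598 → P i := stepQ 104597 Q104597 (allL N104597 (tt N103325 (iv1 F446466)) (tt N68985 (iv0 D207793)) (tt N103324 (iv2 F446465)) (tt N97530 F446468) (tt N111826 (iv4 F478169)) (tt N97440 F446463) (tt N97525 F446464) (tt N103305 F446467))
theorem Q104599 : ∀ i, i < 104599 → P i := stepQ 104598 Q104598 (allL N104598 (tt N103324 (iv1 F446475)) (tt N103305 F446474) (tt N68985 (iv2 D207794)) (tt N97503 F446469) (tt N68987 F446470) (tt N80069 F446471) (tt N90696 F446472) (tt N103325 F446473))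
theorem Q104600 : ∀ i, i < 104600 → P i := stepQ 104599 Q104599 (allL N104599 (tt N103388 F446479) (tt N115430 F495157) (tt N103623 F446476) (tt N118044 (iv3 F508258)) (tt N68988 (iv4 D207795)) (tt N118045 (iv5 F508265)) (tt N103581 F446477) (tt N103574 F446478))
theorem Q104601 : ∀ i, i < 104601 → P i := stepQ 104600 Q104600 (allL N104600 (tt N103625 F446483) (tt N103578 (iv0 F446484)) (tt N68990 F446480) (tt N103624 F446481) (tt N120970 (iv4 F523776)) (tt N104807 (iv5 F447383)) (tt N68989 (iv6 D207796)) (tt N103624 F446482))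
theorem Q104602 : ∀ i, i < 104602 → P i := stepQ 104601 Q104601 (allL N104601 (tt N68990 (iv1 D207797)) (tt N103624 F446485) (tt N103578 F446489) (tt N78597 (iv3 F446490)) (tt N112866 (iv4 F483038)) (tt N69327 F446487) (tt N103575 (iv6 F446488)) (tt N103625 F446486))
theorem Q104603 : ∀ i, i < 104603 → P i := stepQ 104602 Q104602 (allL N104602 (tt N116889 (iv1 F502368)) (tt N68995 (iv0 D207798)) (tt N120387 (iv2 F520515)) (tt N98026 F446493) (tt N77227 F446492) (tt N98586 F446491) (tt N120911 (iv6 F523421)) (tt N119666 (iv7 F516805)))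
theorem Q104604 : ∀ i, i < 104604 → P i := stepQ 104603 Q104603 (allL N104603 (tt N68995 (iv1 D207799)) (tt N116889 (iv0 F502367)) (tt N119666 (iv2 F516802)) (tt N103597 (iv3 F446495)) (tt N88660 F446494) (tt N104486 (iv5 F446496)) (tt N103677 F446497) (tt N120387 (iv7 F520519)))
theorem Q104605 : ∀ i, i < 104605 → P i := stepQ 104604 Q104604 (allL N104604 (tt N98532 F446500) (tt N116888 (iv0 F502363)) (tt N116890 (iv2 F502369)) (tt N68998 F446498) (tt N116789 (iv4 F501843)) (tt N68995 (iv5 D207800)) (tt N75143 F446499) (tt N116868 (iv7 F502264)))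
theorem Q104606 : ∀ i, i < 104606 → P i := stepQ 104605 Q104605 (allL N104605 (tt N119666 F516807) (tt N120387 (iv0 F520520)) (tt N116889 (iv2 F502364)) (tt N68999 F446501) (tt N100819 F446502) (tt N116868 (iv5 F502263)) (tt N103509 F446503) (tt N68995 (iv7 D207801)))
theorem Q104607 : ∀ i, i < 104607 → P i := stepQ 104606 Q104606 (allL N104606 (tt N69107 F446508) (tt N69112 F446509) (tt N88940 F446504) (tt N97852 F446505) (tt N88933 F446507) (tt N68996 (iv5 D207802)) (tt N88932 (iv6 F446510)) (tt N103497 F446506))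
theorem Q104608 : ∀ i, i < 104608 → P i := stepQ 104607 Q104607 (allL N104607 (tt N105745 F451502) (tt N98536 (iv0 F446514)) (tt N120747 (iv2 F522489)) (tt N68997 (iv3 D207803)) (tt N101208 F446511) (tt N120751 (iv5 F522514)) (tt N101207 F446512) (tt N103495 F446513))
theorem Q104609 : ∀ i, i < 104609 → P i := stepQ 104608 Q104608 (allL N104608 (tt N69112 F446518) (tt N69107 F446519) (tt N103497 F446515) (tt N120751 (iv3 F522516)) (tt N88943 F446516) (tt N68997 (iv5 D207804)) (tt N120751 (iv6 F522517)) (tt N88940 F446517))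
theorem Q104610 : ∀ i, i < 104610 → P i := stepQ 104609 Q104609 (allL N104609 (tt N103499 (iv1 F446524)) (tt N68998 (iv0 D207805)) (tt N103498 (iv2 F446522)) (tt N118438 (iv3 F510359)) (tt N120826 (iv4 F522945)) (tt N71079 F446520) (tt N103744 F446521) (tt N71078 F446523))
theorem Q104611 : ∀ i, i < 104611 → P i := stepQ 104610 Q104610 (allL N104610 (tt N71078 (iv1 F446528)) (tt N103498 F446529) (tt N103499 F446525) (tt N116868 (iv3 F502261)) (tt N75147 F446526) (tt N68999 F446527) (tt N116867 F502258) (tt N68998 (iv7 D207806)))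
theorem Q104612 : ∀ i, i < 104612 → P i := stepQ 104611 Q104611 (allL N104611 (tt N102429 F446533) (tt N120684 F522132) (tt N120683 (iv2 F522126)) (tt N69000 (iv3 D207807)) (tt N103686 F446530) (tt N120481 (iv5 F520996)) (tt N103686 F446531) (tt N103500 F446532))
theorem Q104613 : ∀ i, i < 104613 → P i := stepQ 104612 Q104612 (allL N104612 (tt N69099 F446536) (tt N69097 F446537) (tt N103503 F446534) (tt N120481 F520997) (tt N121028 D224287) (tt N69000 (iv5 D207808)) (tt N120883 (iv6 F523272)) (tt N103501 F446535))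
theorem Q104614 : ∀ i, i < 104614 → P i := stepQ 104613 Q104613 (allL N104613 (tt N103549 (iv1 F446543)) (tt N102439 (iv0 F446542)) (tt N103518 F446539) (tt N111237 (iv3 F475364)) (tt N97752 F446540) (tt N109434 (iv5 F466938)) (tt N69001 (iv6 D207809)) (tt N103548 F446541))
theorem Q104615 : ∀ i, i < 104615 → P i := stepQ 104614 Q104614 (allL N104614 (tt N93101 F446549) (tt N93104 (iv0 F446550)) (tt N98063 F446544) (tt N69002 (iv3 D207810)) (tt N97690 F446545) (tt N102423 F446546) (tt N98067 F446547) (tt N103517 F446548))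
theorem Q104616 : ∀ i, i < 104616 → P i := stepQ 104615 Q104615 (allL N104615 (tt N69003 (iv1 D207811)) (tt N103736 F446551) (tt N103735 (iv2 F446554)) (tt N97684 (iv3 F446553)) (tt N116233 (iv4 F499152)) (tt N98042 (iv5 F446555)) (tt N116232 F499150) (tt N103691 F446552))
theorem Q104617 : ∀ i, i < 104617 → P i := stepQ 104616 Q104616 (allL N104616 (tt N98049 (iv1 F446561)) (tt N98046 F446560) (tt N111228 (iv2 F475319)) (tt N69004 F446556) (tt N78862 F446557) (tt N69003 (iv5 D207812)) (tt N78861 F446558) (tt N78877 F446559))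
theorem Q104618 : ∀ i, i < 104618 → P i := stepQ 104617 Q104617 (allL N104617 (tt N118745 (iv1 F511860)) (tt N95185 F446568) (tt N103522 F446564) (tt N94747 F446565) (tt N69004 (iv4 D207813)) (tt N94746 F446566) (tt N110946 F473911) (tt N94759 F446567))
theorem Q104619 : ∀ i, i < 104619 → P i := stepQ 104618 Q104618 (allL N104618 (tt N113753 F486968) (tt N106140 (iv0 F453317)) (tt N103519 F446569) (tt N118451 F510437) (tt N69005 (iv4 D207814)) (tt N89564 F446571) (tt N75740 F446570) (tt N104712 (iv7 F446953)))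
theorem Q104620 : ∀ i, i < 104620 → P i := stepQ 104619 Q104619 (allL N104619 (tt N119071 F513632) (tt N106409 F454330) (tt N103532 F446573) (tt N104531 F446574) (tt N106425 (iv4 F454373)) (tt N69009 (iv5 D207815)) (tt N104529 F446575) (tt N103726 F446576))
theorem Q104621 : ∀ i, i < 104621 → P i := stepQ 104620 Q104620 (allL N104620 (tt N117692 F506449) (tt N114351 F489770) (tt N111236 (iv2 F475361)) (tt N69011 F446577) (tt N75704 F446578) (tt N111169 (iv5 F475054)) (tt N69010 (iv6 D207816)) (tt N119675 (iv7 F516854)))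
theorem Q104622 : ∀ i, i < 104622 → P i := stepQ 104621 Q104621 (allL N104621 (tt N69011 (iv1 D207817)) (tt N103530 F446579) (tt N103502 (iv2 F446582)) (tt N120683 F522125) (tt N69050 F446581) (tt N120897 (iv5 F523345)) (tt N103715 (iv6 F446583)) (tt N103528 F446580))
theorem Q104623 : ∀ i, i < 104623 → P i := stepQ 104622 Q104622 (allL N104622 (tt N104699 F446917) (tt N104687 (iv0 F446871)) (tt N103529 F446584) (tt N111169 F475060) (tt N119515 (iv4 F516012)) (tt N69011 (iv5 D207818)) (tt N120769 (iv6 F522615)) (tt N104697 (iv7 F446907)))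
theorem Q104624 : ∀ i, i < 104624 → P i := stepQ 104623 Q104623 (allL N104623 (tt N103502 (iv1 F446588)) (tt N103528 F446589) (tt N103530 F446585) (tt N119675 (iv3 F516851)) (tt N104116 F446586) (tt N104697 (iv5 F446908)) (tt N103533 F446587) (tt N69011 (iv7 D207819)))
theorem Q104625 : ∀ i, i < 104625 → P i := stepQ 104624 Q104624 (allL N104624 (tt N104638 F446639) (tt N107090 F456921) (tt N69016 F446590) (tt N88686 F446591) (tt N105160 (iv4 F449061)) (tt N119507 (iv5 F515967)) (tt N69012 (iv6 D207820)) (tt N120637 (iv7 F521890)))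
theorem Q104626 : ∀ i, i < 104626 → P i := stepQ 104625 Q104625 (allL N104625 (tt N94485 (iv1 F446597)) (tt N94489 (iv0 F446596)) (tt N103536 F446592) (tt N69064 F446593) (tt N70383 F446594) (tt N103718 F446595) (tt N69014 (iv6 D207821)) (tt N103822 F446598))
theorem Q104627 : ∀ i, i < 104627 → P i := stepQ 104626 Q104626 (allL N104626 (tt N105855 F452052) (tt N120884 (iv0 F523280)) (tt N103535 F446599) (tt N104379 F446600) (tt N105250 (iv4 F449388)) (tt N121029 D224288) (tt N69015 (iv6 D207822)) (tt N120809 (iv7 F522847)))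
theorem Q104628 : ∀ i, i < 104628 → P i := stepQ 104627 Q104627 (allL N104627 (tt N120637 (iv1 F521892)) (tt N69016 (iv0 D207823)) (tt N104638 (iv2 F446637)) (tt N104545 F446603) (tt N106072 (iv4 F452995)) (tt N103786 (iv5 F446602)) (tt N102546 F446601) (tt N107090 (iv7 F456917)))
theorem Q104629 : ∀ i, i < 104629 → P i := stepQ 104628 Q104628 (allL N104628 (tt N69016 (iv1 D207824)) (tt N120637 (iv0 F521891)) (tt N107090 (iv2 F456916)) (tt N119424 (iv3 F515536)) (tt N88676 (iv4 F446641)) (tt N105220 (iv5 F449258)) (tt N88675 (iv6 F446642)) (tt N104638 F446640))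
theorem Q104630 : ∀ i, i < 104630 → P i := stepQ 104629 Q104629 (allL N104629 (tt N119205 (iv1 F514351)) (tt N119203 (iv0 F514342)) (tt N119507 (iv2 F515964)) (tt N69022 F446604) (tt N88696 (iv4 F446606)) (tt N69016 (iv5 D207825)) (tt N69018 F446605) (tt N120633 (iv7 F521869)))
theorem Q104631 : ∀ i, i < 104631 → P i := stepQ 104630 Q104630 (allL N104630 (tt N107090 F456918) (tt N104638 (iv0 F449786)) (tt N120637 (iv2 F521886)) (tt N69023 F446607) (tt N105228 F449303) (tt N120633 (iv5 F521868)) (tt N103541 F446608) (tt N69016 (iv7 D207826)))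
theorem Q104632 : ∀ i, i < 104632 → P i := stepQ 104631 Q104631 (allL N104631 (tt N97927 F446612) (tt N97926 (iv0 F446613)) (tt N75717 F446609) (tt N69017 (iv3 D207827)) (tt N105505 (iv4 F450496)) (tt N103558 F446614) (tt N102458 F446610) (tt N97928 F446611))
theorem Q104633 : ∀ i, i < 104633 → P i := stepQ 104632 Q104632 (allL N104632 (tt N109427 (iv1 F466905)) (tt N109426 F466901) (tt N78917 F446615) (tt N103558 F446616) (tt N106041 (iv4 F452852)) (tt N69017 (iv5 D207828)) (tt N103557 F446617) (tt N103713 F446618))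
theorem Q104634 : ∀ i, i < 104634 → P i := stepQ 104633 Q104633 (allL N104633 (tt N119901 (iv1 F517946)) (tt N88639 (iv0 F450468)) (tt N116630 (iv2 F501055)) (tt N73843 F446619) (tt N69018 (iv4 D207829)) (tt N107954 (iv5 F460460)) (tt N88696 F446620) (tt N73841 F446621))
theorem Q104635 : ∀ i, i < 104635 → P i := stepQ 104634 Q104634 (allL N104634 (tt N105762 (iv1 F451582)) (tt N103762 F446625) (tt N69155 F446622) (tt N69020 (iv3 D207830)) (tt N103385 (iv4 F446623)) (tt N113807 (iv5 F487202)) (tt N92700 (iv6 F446624)) (tt N105760 (iv7 F451570)))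
theorem Q104636 : ∀ i, i < 104636 → P i := stepQ 104635 Q104635 (allL N104635 (tt N105859 (iv1 F452435)) (tt N75066 (iv0 F446629)) (tt N109129 (iv2 F465463)) (tt N92700 F446626) (tt N99756 F446627) (tt N102540 F446628) (tt N69020 (iv6 D207831)) (tt N109131 (iv7 F465476)))
theorem Q104637 : ∀ i, i < 104637 → P i := stepQ 104636 Q104636 (allL N104636 (tt N113577 (iv1 F486110)) (tt N85962 (iv0 F446633)) (tt N114369 (iv2 F489842)) (tt N69069 F446630) (tt N70020 F446631) (tt N121030 D224289) (tt N69021 (iv6 D207832)) (tt N69098 (iv7 F446632)))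
theorem Q104638 : ∀ i, i < 104638 → P i := stepQ 104637 Q104637 (allL N104637 (tt N92611 F446636) (tt N117970 (iv0 F507848)) (tt N111238 (iv2 F475370)) (tt N69025 F446634) (tt N115833 (iv4 F497139)) (tt N69024 (iv5 D207833)) (tt N115832 (iv6 F497137)) (tt N103697 F446635))
theorem Q104639 : ∀ i, i < 104639 → P i := stepQ 104638 Q104638 (allL N104638 (tt N104630 F449786) (tt N104624 (iv0 F446639)) (tt N104627 F446637) (tt N115832 (iv3 F497134)) (tt N71929 F446638) (tt N120644 (iv5 F521926)) (tt N69025 (iv6 D207834)) (tt N104628 (iv7 F446640)))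
theorem Q104640 : ∀ i, i < 104640 → P i := stepQ 104639 Q104639 (allL N104639 (tt N92427 (iv1 F446649)) (tt N69350 F446647) (tt N69100 F446643) (tt N92701 F446644) (tt N71081 F446646) (tt N69026 (iv5 D207835)) (tt N69070 F446648) (tt N69156 F446645))
theorem Q104641 : ∀ i, i < 104641 → P i := stepQ 104640 Q104640 (allL N104640 (tt N104500 F450338) (tt N105453 (iv0 F450331)) (tt N104451 F446650) (tt N118119 (iv3 F508706)) (tt N71948 F446651) (tt N118665 (iv5 F511419)) (tt N69026 (iv6 D207836)) (tt N120796 (iv7 F522770)))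
theorem Q104642 : ∀ i, i < 104642 → P i := stepQ 104641 Q104641 (allL N104641 (tt N69153 F446653) (tt N102537 (iv0 F446654)) (tt N102540 (iv2 F446655)) (tt N69027 (iv3 D207837)) (tt N109420 (iv4 F466868)) (tt N109129 (iv5 F465467)) (tt N120836 (iv6 F522995)) (tt N102541 F446652))
theorem Q104643 : ∀ i, i < 104643 → P i := stepQ 104642 Q104642 (allL N104642 (tt N120880 F523254) (tt N120885 (iv0 F523286)) (tt N120639 (iv2 F521897)) (tt N120836 (iv3 F522994)) (tt N71951 F446656) (tt N120634 (iv5 F521871)) (tt N69027 (iv6 D207838)) (tt N120642 (iv7 F521914)))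
theorem Q104644 : ∀ i, i < 104644 → P i := stepQ 104643 Q104643 (allL N104643 (tt N69028 (iv1 D207839)) (tt N73830 F446657) (tt N71778 F446661) (tt N69735 (iv3 F446660)) (tt N102550 F446659) (tt N106034 (iv5 F452823)) (tt N84966 F446662) (tt N69833 F446658))
theorem Q104645 : ∀ i, i < 104645 → P i := stepQ 104644 Q104644 (allL N104644 (tt N120743 (iv1 F522471)) (tt N118930 (iv0 F512804)) (tt N73829 F446663) (tt N70932 F446664) (tt N69030 (iv4 D207840)) (tt N70965 F446665) (tt N118743 (iv6 F511844)) (tt N71478 F446666))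
theorem Q104646 : ∀ i, i < 104646 → P i := stepQ 104645 Q104645 (allL N104645 (tt N102607 (iv1 F446671)) (tt N102602 (iv0 F446670)) (tt N102566 F446667) (tt N75737 F446668) (tt N118743 (iv4 F511842)) (tt N105206 F449205) (tt N69030 (iv6 D207841)) (tt N102605 F446669))
theorem Q104647 : ∀ i, i < 104647 → P i := stepQ 104646 Q104646 (allL N104646 (tt N102655 (iv1 F449005)) (tt N102658 (iv0 F449004)) (tt N118489 (iv2 F510652)) (tt N69035 (iv3 D207842)) (tt N105149 (iv4 F449002)) (tt N106563 (iv5 F454874)) (tt N97105 F446672) (tt N106963 (iv7 F456467)))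
theorem Q104648 : ∀ i, i < 104648 → P i := stepQ 104647 Q104647 (allL N104647 (tt N92428 F446677) (tt N72724 F446678) (tt N95322 F446673) (tt N94397 F446674) (tt N71947 F446675) (tt N69037 (iv5 D207843)) (tt N121031 D224290) (tt N102750 F446676))
theorem Q104649 : ∀ i, i < 104649 → P i := stepQ 104648 Q104648 (allL N104648 (tt N101859 (iv1 F446680)) (tt N69038 (iv0 D207844)) (tt N101857 (iv2 F446681)) (tt N121032 D224291) (tt N101803 F446679) (tt N107303 F457886) (tt N100115 (iv6 F446682)) (tt N101858 (iv7 F446683)))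
theorem Q104650 : ∀ i, i < 104650 → P i := stepQ 104649 Q104649 (allL N104649 (tt N69038 (iv1 D207845)) (tt N101859 F446684) (tt N101858 F446687) (tt N96922 F446688) (tt N75560 (iv4 F446686)) (tt N108693 (iv5 F463583)) (tt N72729 F446689) (tt N101857 F446685))
theorem Q104651 : ∀ i, i < 104651 → P i := stepQ 104650 Q104650 (allL N104650 (tt N69042 (iv1 D207846)) (tt N103604 F446690) (tt N103602 F446695) (tt N103507 F446697) (tt N102690 (iv4 F446692)) (tt N69884 (iv5 F446694)) (tt N69885 (iv6 F446693)) (tt N103601 F446691))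
theorem Q104652 : ∀ i, i < 104652 → P i := stepQ 104651 Q104651 (allL N104651 (tt N99314 F446702) (tt N102686 F446701) (tt N93258 F446698) (tt N106939 (iv3 F456362)) (tt N69043 (iv4 D207847)) (tt N113086 (iv5 F483919)) (tt N82051 F446699) (tt N103759 F446700))
theorem Q104653 : ∀ i, i < 104653 → P i := stepQ 104652 Q104652 (allL N104652 (tt N84999 (iv1 F446711)) (tt N69049 (iv0 D207848)) (tt N103596 (iv2 F446708)) (tt N120387 (iv3 F520516)) (tt N111100 (iv4 F474662)) (tt N120869 (iv5 F523182)) (tt N111099 F474659) (tt N103597 (iv7 F446709)))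
theorem Q104654 : ∀ i, i < 104654 → P i := stepQ 104653 Q104653 (allL N104653 (tt N69049 (iv1 D207849)) (tt N84999 F446703) (tt N103597 F446710) (tt N98027 (iv3 F446705)) (tt N104570 F446704) (tt N98561 F446706) (tt N103752 (iv6 F446712)) (tt N103596 F446707))
theorem Q104655 : ∀ i, i < 104655 → P i := stepQ 104654 Q104654 (allL N104654 (tt N119659 (iv1 F516766)) (tt N98531 (iv0 F446714)) (tt N103598 F446713) (tt N118247 F509353) (tt N121033 D224292) (tt N69049 (iv5 D207850)) (tt N120822 (iv6 F522920)) (tt N119658 (iv7 F516762)))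
theorem Q104656 : ∀ i, i < 104656 → P i := stepQ 104655 Q104655 (allL N104655 (tt N103597 (iv1 F446719)) (tt N103596 F446720) (tt N84999 F446715) (tt N97850 F446716) (tt N69051 F446717) (tt N119658 (iv5 F516758)) (tt N103604 F446718) (tt N69049 (iv7 D207851)))
theorem Q104657 : ∀ i, i < 104657 → P i := stepQ 104656 Q104656 (allL N104656 (tt N69130 F446725) (tt N69126 (iv0 F446726)) (tt N74757 F446721) (tt N103754 F446722) (tt N115420 (iv4 F495105)) (tt N69050 (iv5 D207852)) (tt N74756 F446723) (tt N103599 F446724))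
theorem Q104658 : ∀ i, i < 104658 → P i := stepQ 104657 Q104657 (allL N104657 (tt N113044 (iv1 F483701)) (tt N102718 F446728) (tt N113820 (iv2 F487277)) (tt N119502 F515937) (tt N113818 (iv4 F487268)) (tt N69055 (iv5 D207853)) (tt N102587 F446729) (tt N103748 F446727))
theorem Q104659 : ∀ i, i < 104659 → P i := stepQ 104658 Q104658 (allL N104658 (tt N69396 (iv1 F446734)) (tt N102778 (iv0 F446735)) (tt N114963 F492789) (tt N69057 (iv3 D207854)) (tt N73313 F446733) (tt N92309 F446730) (tt N103622 F446731) (tt N103570 F446732))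
theorem Q104660 : ∀ i, i < 104660 → P i := stepQ 104659 Q104659 (allL N104659 (tt N102824 F446739) (tt N102826 F446740) (tt N103581 F446736) (tt N113050 (iv3 F483728)) (tt N69057 (iv4 D207855)) (tt N118420 (iv5 F510259)) (tt N103623 F446737) (tt N103573 F446738))
theorem Q104661 : ∀ i, i < 104661 → P i := stepQ 104660 Q104660 (allL N104660 (tt N99831 (iv1 F446746)) (tt N103154 (iv0 F446747)) (tt N99226 F446741) (tt N69061 (iv3 D207856)) (tt N82089 F446745) (tt N74453 F446742) (tt N81713 F446743) (tt N74491 F446744))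
theorem Q104662 : ∀ i, i < 104662 → P i := stepQ 104661 Q104661 (allL N104661 (tt N105048 (iv1 F448556)) (tt N105046 (iv0 F448545)) (tt N72492 F446748) (tt N96257 F446749) (tt N69061 (iv4 D207857)) (tt N72491 F446750) (tt N100117 F446751) (tt N74494 F446752))
theorem Q104663 : ∀ i, i < 104663 → P i := stepQ 104662 Q104662 (allL N104662 (tt N120687 (iv1 F522148)) (tt N102522 F474831) (tt N103823 F446753) (tt N119457 F515726) (tt N120692 (iv4 F522180)) (tt N114167 F488821) (tt N69063 (iv6 D207858)) (tt N102444 F446754))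
theorem Q104664 : ∀ i, i < 104664 → P i := stepQ 104663 Q104663 (allL N104663 (tt N103827 F446759) (tt N103826 F446760) (tt N69066 F446755) (tt N69084 F446756) (tt N100624 F446758) (tt N69065 (iv5 D207859)) (tt N116904 (iv6 F502440)) (tt N103824 F446757))
theorem Q104665 : ∀ i, i < 104665 → P i := stepQ 104664 Q104664 (allL N104664 (tt N104533 F446765) (tt N104532 (iv0 F446767)) (tt N69067 F446761) (tt N69085 F446762) (tt N102447 F446763) (tt N104460 F446766) (tt N69065 (iv6 D207860)) (tt N104459 F446764))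
theorem Q104666 : ∀ i, i < 104666 → P i := stepQ 104665 Q104665 (allL N104665 (tt N117305 F504381) (tt N93344 (iv0 F446772)) (tt N100624 F446768) (tt N71207 F446769) (tt N69066 (iv4 D207861)) (tt N101381 (iv5 F446771)) (tt N116922 (iv6 F502510)) (tt N94964 F446770))
theorem Q104667 : ∀ i, i < 104667 → P i := stepQ 104666 Q104666 (allL N104666 (tt N104459 (iv1 F446776)) (tt N69067 (iv0 D207862)) (tt N104533 (iv2 F446777)) (tt N102902 F446773) (tt N104750 (iv4 F447103)) (tt N103863 F446774) (tt N104544 F446775) (tt N104532 (iv7 F446778)))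
theorem Q104668 : ∀ i, i < 104668 → P i := stepQ 104667 Q104667 (allL N104667 (tt N69067 (iv1 D207863)) (tt N104459 F446779) (tt N104532 F446784) (tt N103859 F446785) (tt N103678 (iv4 F446781)) (tt N103856 (iv5 F446783)) (tt N104503 (iv6 F446782)) (tt N104533 F446780))
theorem Q104669 : ∀ i, i < 104669 → P i := stepQ 104668 Q104668 (allL N104668 (tt N69068 (iv1 D207864)) (tt N69095 F446786) (tt N69093 (iv2 F446788)) (tt N111152 F474953) (tt N71263 (iv4 F446789)) (tt N113533 (iv5 F485922)) (tt N116908 (iv6 F502447)) (tt N69092 F446787))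
theorem Q104670 : ∀ i, i < 104670 → P i := stepQ 104669 Q104669 (allL N104669 (tt N103503 F446793) (tt N103501 F446794) (tt N69097 F446790) (tt N121030 (iv3 F524108)) (tt N116343 (iv4 F499632)) (tt N69069 (iv5 D207865)) (tt N103845 F446791) (tt N69099 F446792))
theorem Q104671 : ∀ i, i < 104671 → P i := stepQ 104670 Q104670 (allL N104670 (tt N103501 F446798) (tt N103503 F446799) (tt N69099 F446795) (tt N98507 F446796) (tt N116344 (iv4 F499639)) (tt N69070 (iv5 D207866)) (tt N118665 F511425) (tt N69097 F446797))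
theorem Q104672 : ∀ i, i < 104672 → P i := stepQ 104671 Q104671 (allL N104671 (tt N82960 F446803) (tt N103628 F446806) (tt N104149 F446805) (tt N69073 (iv3 D207867)) (tt N70343 F446800) (tt N104487 (iv5 F446804)) (tt N69163 F446801) (tt N69111 F446802))
theorem Q104673 : ∀ i, i < 104673 → P i := stepQ 104672 Q104672 (allL N104672 (tt N103497 F446810) (tt N88940 F446811) (tt N69107 F446807) (tt N104487 F446808) (tt N105059 (iv4 F448603)) (tt N69073 (iv5 D207868)) (tt N120874 (iv6 F523215)) (tt N69112 F446809))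
theorem Q104674 : ∀ i, i < 104674 → P i := stepQ 104673 Q104673 (allL N104673 (tt N94322 F446815) (tt N73302 F446816) (tt N69108 F446812) (tt N109000 (iv3 F464840)) (tt N69074 (iv4 D207869)) (tt N107355 (iv5 F458071)) (tt N102254 F446813) (tt N69114 F446814))
theorem Q104675 : ∀ i, i < 104675 → P i := stepQ 104674 Q104674 (allL N104674 (tt N88940 F446820) (tt N103497 F446821) (tt N69112 F446817) (tt N109447 (iv3 F466999)) (tt N118669 (iv4 F511442)) (tt N69075 (iv5 D207870)) (tt N104485 F446818) (tt N69107 F446819))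
theorem Q104676 : ∀ i, i < 104676 → P i := stepQ 104675 Q104675 (allL N104675 (tt N93061 F446825) (tt N93036 F446826) (tt N71087 F446822) (tt N93072 F446823) (tt N69076 (iv4 D207871)) (tt N115311 (iv5 F494521)) (tt N119523 (iv6 F516052)) (tt N71083 F446824))
theorem Q104677 : ∀ i, i < 104677 → P i := stepQ 104676 Q104676 (allL N104676 (tt N103866 (iv1 F466943)) (tt N103783 F466942) (tt N71089 F446827) (tt N120680 (iv3 F522104)) (tt N119523 (iv4 F516050)) (tt N120839 (iv5 F523012)) (tt N69076 (iv6 D207872)) (tt N103865 F446828))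
theorem Q104678 : ∀ i, i < 104678 → P i := stepQ 104677 Q104677 (allL N104677 (tt N69145 (iv1 F446831)) (tt N69079 (iv0 D207873)) (tt N103766 (iv2 F446830)) (tt N121034 D224293) (tt N120711 (iv4 F522281)) (tt N102632 F446829) (tt N121035 D224294) (tt N103765 F446832))
theorem Q104679 : ∀ i, i < 104679 → P i := stepQ 104678 Q104678 (allL N104678 (tt N120675 (iv1 F522087)) (tt N120674 (iv0 F522077)) (tt N103834 F446833) (tt N112232 (iv3 F480159)) (tt N69079 (iv4 D207874)) (tt N104740 (iv5 F447068)) (tt N115942 (iv6 F497700)) (tt N103767 F446834))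
theorem Q104680 : ∀ i, i < 104680 → P i := stepQ 104679 Q104679 (allL N104679 (tt N103835 (iv1 F446839)) (tt N103832 F446838) (tt N69080 (iv2 D207875)) (tt N103836 F446835) (tt N69736 F446836) (tt N121009 (iv5 F523995)) (tt N117935 (iv6 F507680)) (tt N69888 F446837))
theorem Q104681 : ∀ i, i < 104681 → P i := stepQ 104680 Q104680 (allL N104680 (tt N105857 F452053) (tt N107014 (iv0 F456648)) (tt N117935 (iv2 F507678)) (tt N69082 F446840) (tt N69890 F446841) (tt N121036 D224295) (tt N69080 (iv6 D207876)) (tt N103768 F446842))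
theorem Q104682 : ∀ i, i < 104682 → P i := stepQ 104681 Q104681 (allL N104681 (tt N78599 F446848) (tt N69323 F446849) (tt N69177 F446843) (tt N71500 F446844) (tt N69082 F446845) (tt N78594 F446846) (tt N69081 (iv6 D207877)) (tt N78593 F446847))
theorem Q104683 : ∀ i, i < 104683 → P i := stepQ 104682 Q104682 (allL N104682 (tt N69148 (iv1 F446852)) (tt N69082 (iv0 D207878)) (tt N69348 (iv2 F446851)) (tt N120687 F522152) (tt N69118 F446850) (tt N121037 D224296) (tt N111249 F475431) (tt N103769 F446853))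
theorem Q104684 : ∀ i, i < 104684 → P i := stepQ 104683 Q104683 (allL N104683 (tt N121038 D224297) (tt N120937 (iv0 F523575)) (tt N103838 F446854) (tt N121036 (iv3 F524142)) (tt N115450 (iv4 F495250)) (tt N69082 (iv5 D207879)) (tt N116153 (iv6 F498774)) (tt N103770 F446855))
theorem Q104685 : ∀ i, i < 104685 → P i := stepQ 104684 Q104684 (allL N104684 (tt N71082 (iv1 F446861)) (tt N97883 F446860) (tt N69083 (iv2 D207880)) (tt N69888 F446856) (tt N70651 F446857) (tt N114584 (iv5 F490871)) (tt N75698 F446858) (tt N103836 F446859))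
theorem Q104686 : ∀ i, i < 104686 → P i := stepQ 104685 Q104685 (allL N104685 (tt N79050 F446920) (tt N116349 (iv0 F499663)) (tt N69087 F446862) (tt N116904 F502438) (tt N100623 F446863) (tt N78872 F446874) (tt N69084 (iv6 D207881)) (tt N119669 (iv7 F516821)))
theorem Q104687 : ∀ i, i < 104687 → P i := stepQ 104686 Q104686 (allL N104686 (tt N69085 (iv1 D207882)) (tt N69091 F446864) (tt N69089 F446867) (tt N120887 (iv3 F523294)) (tt N102715 F446868) (tt N118663 (iv5 F511411)) (tt N102714 (iv6 F446866)) (tt N69088 F446865))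
theorem Q104688 : ∀ i, i < 104688 → P i := stepQ 104687 Q104687 (allL N104687 (tt N104622 F446871) (tt N116913 (iv0 F502469)) (tt N69090 F446869) (tt N104460 F446870) (tt N116777 (iv4 F501778)) (tt N69085 (iv5 D207883)) (tt N78872 (iv6 F446872)) (tt N104456 (iv7 F446873)))
theorem Q104689 : ∀ i, i < 104689 → P i := stepQ 104688 Q104688 (allL N104688 (tt N69089 (iv1 F446880)) (tt N69088 F446881) (tt N69091 F446875) (tt N104459 F446876) (tt N69124 F446877) (tt N104456 F446878) (tt N96966 F446879) (tt N69085 (iv7 D207884)))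
theorem Q104690 : ∀ i, i < 104690 → P i := stepQ 104689 Q104689 (allL N104689 (tt N116720 F501493) (tt N114477 (iv0 F490381)) (tt N100623 F446883) (tt N113837 (iv3 F487367)) (tt N69087 F446884) (tt N120064 (iv5 F518851)) (tt N69086 (iv6 D207885)) (tt N116748 (iv7 F501619)))
theorem Q104691 : ∀ i, i < 104691 → P i := stepQ 104690 Q104690 (allL N104690 (tt N119669 (iv1 F516820)) (tt N69087 (iv0 D207886)) (tt N79050 (iv2 F446885)) (tt N116784 (iv3 F501814)) (tt N112748 F482488) (tt N116784 (iv5 F501817)) (tt N116870 (iv6 F502275)) (tt N116349 F499661))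
theorem Q104692 : ∀ i, i < 104692 → P i := stepQ 104691 Q104691 (allL N104691 (tt N78873 (iv1 F446890)) (tt N78875 (iv0 F446889)) (tt N78872 F446886) (tt N69094 F446887) (tt N116776 (iv4 F501770)) (tt N69087 (iv5 D207887)) (tt N69090 F446888) (tt N78871 F446891))
theorem Q104693 : ∀ i, i < 104693 → P i := stepQ 104692 Q104692 (allL N104692 (tt N116349 (iv1 F499664)) (tt N79050 (iv0 F446895)) (tt N119669 (iv2 F516824)) (tt N69095 F446892) (tt N116748 (iv4 F501621)) (tt N78871 F446893) (tt N103848 F446894) (tt N69087 (iv7 D207888)))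
theorem Q104694 : ∀ i, i < 104694 → P i := stepQ 104693 Q104693 (allL N104693 (tt N114370 F489845) (tt N118666 (iv0 F511430)) (tt N120909 (iv2 F523405)) (tt N69088 (iv3 D207889)) (tt N105570 (iv4 F450779)) (tt N119511 (iv5 F515991)) (tt N105569 F450776) (tt N120887 (iv7 F523296)))
theorem Q104695 : ∀ i, i < 104695 → P i := stepQ 104694 Q104694 (allL N104694 (tt N107095 F456942) (tt N69232 F446899) (tt N69199 F446896) (tt N103909 F446900) (tt N69088 (iv4 D207890)) (tt N119432 (iv5 F515592)) (tt N79769 F446897) (tt N102715 F446898))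
theorem Q104696 : ∀ i, i < 104696 → P i := stepQ 104695 Q104695 (allL N104695 (tt N69232 F446905) (tt N107095 (iv0 F456941)) (tt N102715 F446901) (tt N69191 F446902) (tt N69089 (iv4 D207891)) (tt N118955 (iv5 F512959)) (tt N99177 F446903) (tt N69199 F446904))
theorem Q104697 : ∀ i, i < 104697 → P i := stepQ 104696 Q104696 (allL N104696 (tt N120898 (iv1 F523351)) (tt N120897 F523348) (tt N118663 (iv2 F511409)) (tt N111250 (iv3 F475433)) (tt N119479 (iv4 F515826)) (tt N69089 (iv5 D207892)) (tt N105143 (iv6 F448976)) (tt N120841 (iv7 F523023)))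
theorem Q104698 : ∀ i, i < 104698 → P i := stepQ 104697 Q104697 (allL N104697 (tt N69090 (iv1 D207893)) (tt N104456 F446906) (tt N116913 (iv2 F502467)) (tt N98669 (iv3 F446909)) (tt N119482 (iv4 F515839)) (tt N104623 F446908) (tt N103728 (iv6 F446910)) (tt N104622 F446907))
theorem Q104699 : ∀ i, i < 104699 → P i := stepQ 104698 Q104698 (allL N104698 (tt N105358 F449875) (tt N121039 D224298) (tt N116777 (iv2 F501776)) (tt N99533 F446911) (tt N69090 (iv4 D207894)) (tt N95481 F446912) (tt N116776 (iv6 F501775)) (tt N121040 D224299))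
theorem Q104700 : ∀ i, i < 104700 → P i := stepQ 104699 Q104699 (allL N104699 (tt N116913 F502470) (tt N104622 (iv0 F446917)) (tt N104456 F446913) (tt N69103 F446914) (tt N121040 (iv4 F524167)) (tt N69091 F446915) (tt N104452 F446916) (tt N69090 (iv7 D207895)))
theorem Q104701 : ∀ i, i < 104701 → P i := stepQ 104700 Q104700 (allL N104700 (tt N109390 F466726) (tt N116871 F502285) (tt N116870 F502277) (tt N79048 F446918) (tt N109202 (iv4 F465777)) (tt N69092 (iv5 D207896)) (tt N79050 (iv6 F446919)) (tt N113533 (iv7 F485921)))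
theorem Q104702 : ∀ i, i < 104702 → P i := stepQ 104701 Q104701 (allL N104701 (tt N70864 (iv1 F446924)) (tt N71265 F446925) (tt N71263 F446921) (tt N113233 (iv3 F484627)) (tt N69093 (iv4 D207897)) (tt N113482 (iv5 F485697)) (tt N72103 (iv6 F446923)) (tt N71262 F446922))
theorem Q104703 : ∀ i, i < 104703 → P i := stepQ 104702 Q104702 (allL N104702 (tt N116871 (iv1 F502284)) (tt N109390 (iv0 F466725)) (tt N113533 (iv2 F485918)) (tt N113235 (iv3 F484640)) (tt N109201 F472908) (tt N69093 (iv5 D207898)) (tt N113513 (iv6 F485857)) (tt N116870 (iv7 F502279)))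
theorem Q104704 : ∀ i, i < 104704 → P i := stepQ 104703 Q104703 (allL N104703 (tt N116903 (iv1 F502434)) (tt N116902 (iv0 F502428)) (tt N116908 (iv2 F502445)) (tt N113236 (iv3 F484646)) (tt N72103 F446927) (tt N114836 (iv5 F492125)) (tt N69093 (iv6 D207899)) (tt N113236 (iv7 F484648)))
theorem Q104705 : ∀ i, i < 104705 → P i := stepQ 104704 Q104704 (allL N104704 (tt N78766 F446930) (tt N119678 (iv0 F516871)) (tt N109221 (iv2 F465833)) (tt N99534 (iv3 F446931)) (tt N69094 (iv4 D207900)) (tt N113409 (iv5 F485364)) (tt N69102 F446928) (tt N100613 F446929))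
theorem Q104706 : ∀ i, i < 104706 → P i := stepQ 104705 Q104705 (allL N104705 (tt N98613 (iv1 F446935)) (tt N71085 F446934) (tt N69096 (iv2 D207901)) (tt N114369 F489840) (tt N93240 F446932) (tt N98508 F446933) (tt N105760 F451571) (tt N117932 (iv7 F507666)))
theorem Q104707 : ∀ i, i < 104707 → P i := stepQ 104706 Q104706 (allL N104706 (tt N103848 (iv1 F446939)) (tt N103839 (iv0 F446938)) (tt N103845 F446936) (tt N98708 F446937) (tt N116323 (iv4 F499557)) (tt N120689 (iv5 F522163)) (tt N69097 (iv6 D207902)) (tt N103846 (iv7 F446940)))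
theorem Q104708 : ∀ i, i < 104708 → P i := stepQ 104707 Q104707 (allL N104707 (tt N85962 F465482) (tt N113577 (iv0 F486109)) (tt N69098 (iv2 D207903)) (tt N117932 (iv3 F507664)) (tt N109132 (iv4 F465485)) (tt N118334 (iv5 F509764)) (tt N109131 F465481) (tt N114369 (iv7 F489838)))
theorem Q104709 : ∀ i, i < 104709 → P i := stepQ 104708 Q104708 (allL N104708 (tt N109188 (iv1 F465709)) (tt N109184 (iv0 F465696)) (tt N118334 (iv2 F509761)) (tt N69099 F446941) (tt N118333 (iv4 F509760)) (tt N69098 (iv5 D207904)) (tt N103827 F446945) (tt N121030 (iv7 F524111)))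
theorem Q104710 : ∀ i, i < 104710 → P i := stepQ 104709 Q104709 (allL N104709 (tt N75066 (iv1 F452057)) (tt N105859 F452056) (tt N109131 (iv2 F465475)) (tt N69100 F446942) (tt N97972 F446943) (tt N102541 (iv5 F446944)) (tt N69098 (iv6 D207905)) (tt N109129 (iv7 F465466)))
theorem Q104711 : ∀ i, i < 104711 → P i := stepQ 104710 Q104710 (allL N104710 (tt N94493 F446948) (tt N109596 (iv0 F467649)) (tt N118665 F511422) (tt N103827 F446946) (tt N105612 (iv4 F450973)) (tt N104451 F446947) (tt N69099 (iv6 D207906)) (tt N105617 (iv7 F450985)))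
theorem Q104712 : ∀ i, i < 104712 → P i := stepQ 104711 Q104711 (allL N104711 (tt N114408 (iv1 F490003)) (tt N114371 (iv0 F489850)) (tt N78859 F446949) (tt N69101 (iv3 D207907)) (tt N116785 (iv4 F501822)) (tt N97946 F446950) (tt N78873 F446951) (tt N103521 F446952))
theorem Q104713 : ∀ i, i < 104713 → P i := stepQ 104712 Q104712 (allL N104712 (tt N117753 (iv1 F506796)) (tt N120826 F522949) (tt N116688 (iv2 F501306)) (tt N119075 (iv3 F513649)) (tt N69101 (iv4 D207908)) (tt N108717 (iv5 F463672)) (tt N118012 (iv6 F508081)) (tt N104618 F446953))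
theorem Q104714 : ∀ i, i < 104714 → P i := stepQ 104713 Q104713 (allL N104713 (tt N71221 F446957) (tt N70963 F446958) (tt N71814 F446954) (tt N117321 (iv3 F504450)) (tt N69104 (iv4 D207909)) (tt N105817 (iv5 F451856)) (tt N71869 F446955) (tt N71019 F446956))
theorem Q104715 : ∀ i, i < 104715 → P i := stepQ 104714 Q104714 (allL N104714 (tt N120900 (iv1 F523368)) (tt N88739 (iv0 F448659)) (tt N117684 (iv2 F506404)) (tt N69105 (iv3 D207910)) (tt N105073 (iv4 F448656)) (tt N119635 (iv5 F516632)) (tt N103871 F446959) (tt N92254 F446960))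
theorem Q104716 : ∀ i, i < 104716 → P i := stepQ 104715 Q104715 (allL N104715 (tt N79053 (iv1 F446963)) (tt N69106 (iv0 D207911)) (tt N109432 (iv2 F466925)) (tt N114425 (iv3 F490086)) (tt N78915 F446962) (tt N98681 F446961) (tt N103873 F453260) (tt N92264 F446964))
theorem Q104717 : ∀ i, i < 104717 → P i := stepQ 104716 Q104716 (allL N104716 (tt N109432 (iv1 F466929)) (tt N92264 F446971) (tt N69106 (iv2 D207912)) (tt N104149 F446967) (tt N79056 F446968) (tt N119656 (iv5 F516746)) (tt N102502 F446969) (tt N79053 F446970))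
theorem Q104718 : ∀ i, i < 104718 → P i := stepQ 104717 Q104717 (allL N104717 (tt N98562 (iv1 F467003)) (tt N120868 F523177) (tt N119656 (iv2 F516744)) (tt N69107 F446972) (tt N98511 F446973) (tt N69106 (iv5 D207913)) (tt N119528 (iv6 F516075)) (tt N109447 (iv7 F467001)))
theorem Q104719 : ∀ i, i < 104719 → P i := stepQ 104718 Q104718 (allL N104718 (tt N121028 (iv1 F524101)) (tt N116123 (iv0 F498595)) (tt N105059 (iv2 F448601)) (tt N85924 (iv3 F446975)) (tt N69107 (iv4 D207914)) (tt N99365 F446974) (tt N120437 (iv6 F520782)) (tt N118669 (iv7 F511445)))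
theorem Q104720 : ∀ i, i < 104720 → P i := stepQ 104719 Q104719 (allL N104719 (tt N109394 F466866) (tt N104792 (iv0 F447295)) (tt N120874 (iv2 F523211)) (tt N119528 (iv3 F516078)) (tt N120437 (iv4 F520780)) (tt N109105 F465369) (tt N69107 (iv6 D207915)) (tt N120871 (iv7 F523196)))
theorem Q104721 : ∀ i, i < 104721 → P i := stepQ 104720 Q104720 (allL N104720 (tt N100041 F446978) (tt N100089 (iv0 F446979)) (tt N100086 (iv2 F446981)) (tt N69108 (iv3 D207916)) (tt N117321 (iv4 F504451)) (tt N82323 F446980) (tt N102270 F446976) (tt N100085 F446977))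
theorem Q104722 : ∀ i, i < 104722 → P i := stepQ 104721 Q104721 (allL N104721 (tt N107357 (iv1 F458080)) (tt N92356 F446983) (tt N107355 F458072) (tt N82323 F446982) (tt N99531 F446984) (tt N69108 (iv5 D207917)) (tt N108028 (iv6 F460803)) (tt N105056 F448591))
theorem Q104723 : ∀ i, i < 104723 → P i := stepQ 104722 Q104722 (allL N104722 (tt N69111 (iv1 D207918)) (tt N104149 F446985) (tt N82960 (iv2 F446988)) (tt N120926 (iv3 F523518)) (tt N72114 F446987) (tt N117767 (iv5 F506865)) (tt N82954 (iv6 F446989)) (tt N103628 F446986))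
theorem Q104724 : ∀ i, i < 104724 → P i := stepQ 104723 Q104723 (allL N104723 (tt N116123 F498596) (tt N121028 (iv0 F524100)) (tt N118669 (iv2 F511440)) (tt N121041 D224300) (tt N69112 (iv4 D207919)) (tt N99531 F446991) (tt N94492 F446990) (tt N105059 (iv7 F448602)))
theorem Q104725 : ∀ i, i < 104725 → P i := stepQ 104724 Q104724 (allL N104724 (tt N69162 (iv1 F446996)) (tt N69113 (iv0 D207920)) (tt N72082 (iv2 F446995)) (tt N119455 (iv3 F515714)) (tt N92884 F446993) (tt N72079 F446992) (tt N93665 F446994) (tt N99059 F446997))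
theorem Q104726 : ∀ i, i < 104726 → P i := stepQ 104725 Q104725 (allL N104725 (tt N92356 F447000) (tt N107357 F458079) (tt N105056 (iv2 F448587)) (tt N108999 (iv3 F464834)) (tt N99365 F446998) (tt N69114 (iv5 D207921)) (tt N99364 F446999) (tt N107355 (iv7 F458074)))
theorem Q104727 : ∀ i, i < 104727 → P i := stepQ 104726 Q104726 (allL N104726 (tt N69125 F447003) (tt N69129 F447004) (tt N103880 F447001) (tt N103628 F447002) (tt N104756 (iv4 F447123)) (tt N119631 (iv5 F516610)) (tt N69115 (iv6 D207922)) (tt N120926 (iv7 F523522)))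
theorem Q104728 : ∀ i, i < 104728 → P i := stepQ 104727 Q104727 (allL N104727 (tt N88964 F447009) (tt N83941 F447010) (tt N88966 F447005) (tt N103639 F447006) (tt N87345 F447007) (tt N121042 D224301) (tt N69116 (iv6 D207923)) (tt N88965 F447008))
theorem Q104729 : ∀ i, i < 104729 → P i := stepQ 104728 Q104728 (allL N104728 (tt N69117 (iv1 D207924)) (tt N69166 F447011) (tt N103801 (iv2 F447014)) (tt N103634 (iv3 F447016)) (tt N104224 F447013) (tt N102977 (iv5 F447015)) (tt N119469 (iv6 F515784)) (tt N103802 F447012))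
theorem Q104730 : ∀ i, i < 104730 → P i := stepQ 104729 Q104729 (allL N104729 (tt N115660 (iv1 F496191)) (tt N115636 (iv0 F496079)) (tt N103882 F447017) (tt N120700 (iv3 F522224)) (tt N103006 F447019) (tt N69117 (iv5 D207925)) (tt N121042 (iv6 F524181)) (tt N103803 F447018))
theorem Q104731 : ∀ i, i < 104731 → P i := stepQ 104730 Q104730 (allL N104730 (tt N74757 F447024) (tt N103599 (iv0 F447025)) (tt N69126 F447020) (tt N75494 F447021) (tt N115821 (iv4 F497075)) (tt N69121 (iv5 D207926)) (tt N75492 F447022) (tt N69130 F447023))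
theorem Q104732 : ∀ i, i < 104732 → P i := stepQ 104731 Q104731 (allL N104731 (tt N103880 F447029) (tt N120926 F523521) (tt N69129 F447026) (tt N91040 F447027) (tt N69122 (iv4 D207927)) (tt N118659 (iv5 F511393)) (tt N112729 (iv6 F482395)) (tt N69125 F447028))
theorem Q104733 : ∀ i, i < 104733 → P i := stepQ 104732 Q104732 (allL N104732 (tt N69129 (iv1 F447030)) (tt N69125 (iv0 D207928)) (tt N120926 F523520) (tt N98619 (iv3 F447032)) (tt N104738 (iv4 F447050)) (tt N98618 F447033) (tt N103883 (iv6 F447034)) (tt N103880 F447031))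
theorem Q104734 : ∀ i, i < 104734 → P i := stepQ 104733 Q104733 (allL N104733 (tt N98561 F447036) (tt N120869 (iv0 F523184)) (tt N119043 (iv2 F513457)) (tt N115398 (iv3 F494989)) (tt N94675 (iv4 F447037)) (tt N69125 (iv5 D207929)) (tt N94674 F447035) (tt N118659 (iv7 F511394)))
theorem Q104735 : ∀ i, i < 104735 → P i := stepQ 104734 Q104734 (allL N104734 (tt N115820 (iv1 F497067)) (tt N98475 (iv0 F453124)) (tt N115821 (iv2 F497073)) (tt N113576 (iv3 F486100)) (tt N69126 (iv4 D207930)) (tt N121043 D224302) (tt N80199 F447038) (tt N112728 (iv7 F482391)))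
theorem Q104736 : ∀ i, i < 104736 → P i := stepQ 104735 Q104735 (allL N104735 (tt N120869 F523185) (tt N98561 F447039) (tt N118659 (iv2 F511390)) (tt N118249 (iv3 F509362)) (tt N116919 (iv4 F502496)) (tt N69129 (iv5 D207931)) (tt N105203 F449204) (tt N119043 (iv7 F513461)))
theorem Q104737 : ∀ i, i < 104737 → P i := stepQ 104736 Q104736 (allL N104736 (tt N106497 (iv1 F454668)) (tt N100053 F447043) (tt N120718 (iv2 F522324)) (tt N69878 F447040) (tt N80503 F447042) (tt N69133 (iv5 D207932)) (tt N108019 (iv6 F460761)) (tt N100939 F447041))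
theorem Q104738 : ∀ i, i < 104738 → P i := stepQ 104737 Q104737 (allL N104737 (tt N100128 F447048) (tt N73689 F447049) (tt N100505 F447044) (tt N69138 (iv3 D207933)) (tt N69140 F447045) (tt N108622 (iv5 F463251)) (tt N96822 F447046) (tt N73983 F447047))
theorem Q104739 : ∀ i, i < 104739 → P i := stepQ 104738 Q104738 (allL N104738 (tt N102715 F447054) (tt N69199 F447055) (tt N107095 (iv2 F456938)) (tt N69141 (iv3 D207934)) (tt N104732 F447050) (tt N77348 F447051) (tt N69281 F447052) (tt N69232 F447053))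
theorem Q104740 : ∀ i, i < 104740 → P i := stepQ 104739 Q104739 (allL N104739 (tt N103820 F447063) (tt N103819 F447061) (tt N69143 F447057) (tt N80482 F447058) (tt N77262 F447062) (tt N69142 (iv5 D207935)) (tt N77260 F447059) (tt N69268 F447060))
theorem Q104741 : ∀ i, i < 104741 → P i := stepQ 104740 Q104740 (allL N104740 (tt N120674 (iv1 F522078)) (tt N120675 (iv0 F522086)) (tt N103767 F447065) (tt N121044 D224303) (tt N69145 (iv4 D207936)) (tt N104678 F447068) (tt N91988 F447066) (tt N103834 F447067))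
theorem Q104742 : ∀ i, i < 104742 → P i := stepQ 104741 Q104741 (allL N104741 (tt N75698 (iv1 F447073)) (tt N69147 (iv0 D207937)) (tt N102423 (iv2 F447072)) (tt N93209 F447071) (tt N70462 F447070) (tt N98063 F447069) (tt N109449 (iv6 F467010)) (tt N102422 F447074))
theorem Q104743 : ∀ i, i < 104743 → P i := stepQ 104742 Q104742 (allL N104742 (tt N120937 (iv1 F523576)) (tt N121038 F524156) (tt N103770 F447075) (tt N117934 (iv3 F507675)) (tt N115999 F497981) (tt N69148 (iv5 D207938)) (tt N121029 (iv6 F524105)) (tt N103838 F447076))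
theorem Q104744 : ∀ i, i < 104744 → P i := stepQ 104743 Q104743 (allL N104743 (tt N121008 (iv1 F523987)) (tt N109152 (iv0 F465591)) (tt N120685 (iv2 F522135)) (tt N111238 (iv3 F475371)) (tt N109105 F465372) (tt N69152 (iv5 D207939)) (tt N102557 F447077) (tt N120688 (iv7 F522157)))
theorem Q104745 : ∀ i, i < 104745 → P i := stepQ 104744 Q104744 (allL N104744 (tt N103708 (iv1 F447081)) (tt N103707 (iv0 F447082)) (tt N103710 F447078) (tt N111239 (iv3 F475374)) (tt N105824 (iv4 F451895)) (tt N103772 F447079) (tt N69152 (iv6 D207940)) (tt N103706 F447080))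
theorem Q104746 : ∀ i, i < 104746 → P i := stepQ 104745 Q104745 (allL N104745 (tt N105760 (iv1 F451569)) (tt N69155 (iv0 D207941)) (tt N105762 (iv2 F451578)) (tt N97861 F447083) (tt N88744 F447084) (tt N120825 (iv5 F522940)) (tt N103782 F447086) (tt N103762 (iv7 F447085)))
theorem Q104747 : ∀ i, i < 104747 → P i := stepQ 104746 Q104746 (allL N104746 (tt N120825 (iv1 F522943)) (tt N105761 (iv0 F451577)) (tt N88714 F447087) (tt N69157 (iv3 D207942)) (tt N88723 F447090) (tt N104303 F447088) (tt N120616 F521776) (tt N104536 F447089))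
theorem Q104748 : ∀ i, i < 104748 → P i := stepQ 104747 Q104747 (allL N104747 (tt N121045 D224304) (tt N120715 (iv0 F522308)) (tt N104539 F447091) (tt N120616 (iv3 F521779)) (tt N120851 (iv4 F523081)) (tt N114090 F495239) (tt N69157 (iv6 D207943)) (tt N115448 (iv7 F495242)))
theorem Q104749 : ∀ i, i < 104749 → P i := stepQ 104748 Q104748 (allL N104748 (tt N102502 (iv1 F447096)) (tt N69160 (iv0 D207944)) (tt N102504 (iv2 F447095)) (tt N87847 F447094) (tt N78919 F447092) (tt N87846 F447093) (tt N85051 (iv6 F447098)) (tt N102498 F447097))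
theorem Q104750 : ∀ i, i < 104750 → P i := stepQ 104749 Q104749 (allL N104749 (tt N93242 F447101) (tt N113141 F484159) (tt N109448 (iv2 F467004)) (tt N69161 F447099) (tt N115830 (iv4 F497129)) (tt N69160 (iv5 D207945)) (tt N84927 F447100) (tt N113140 (iv7 F484150)))
theorem Q104751 : ∀ i, i < 104751 → P i := stepQ 104750 Q104750 (allL N104750 (tt N120667 (iv1 F522062)) (tt N114443 (iv0 F490196)) (tt N120653 (iv2 F521972)) (tt N84927 F447102) (tt N104666 F447103) (tt N84926 F447104) (tt N69161 (iv6 D207946)) (tt N120666 (iv7 F522050)))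
theorem Q104752 : ∀ i, i < 104752 → P i := stepQ 104751 Q104751 (allL N104751 (tt N120925 (iv1 F523514)) (tt N69883 (iv0 F447106)) (tt N120696 (iv2 F522201)) (tt N69164 F447105) (tt N121046 D224305) (tt N69163 (iv5 D207947)) (tt N120878 (iv6 F523241)) (tt N120654 F521985))
theorem Q104753 : ∀ i, i < 104753 → P i := stepQ 104752 Q104752 (allL N104752 (tt N109106 (iv1 F508021)) (tt N97804 (iv0 F508020)) (tt N109105 F465371) (tt N120878 (iv3 F523238)) (tt N120685 (iv4 F522140)) (tt N120874 (iv5 F523214)) (tt N69164 (iv6 D207948)) (tt N109104 (iv7 F465373)))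
theorem Q104754 : ∀ i, i < 104754 → P i := stepQ 104753 Q104753 (allL N104753 (tt N115636 (iv1 F496080)) (tt N115660 (iv0 F496190)) (tt N103803 F447107) (tt N120691 (iv3 F522173)) (tt N103010 F447108) (tt N69166 (iv5 D207949)) (tt N120694 (iv6 F522193)) (tt N103882 F447109))
theorem Q104755 : ∀ i, i < 104755 → P i := stepQ 104754 Q104754 (allL N104754 (tt N72091 F447113) (tt N106435 (iv0 F454423)) (tt N105713 (iv2 F451375)) (tt N69169 F447110) (tt N91041 F447111) (tt N92909 F447114) (tt N69168 (iv6 D207950)) (tt N83637 F447112))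
theorem Q104756 : ∀ i, i < 104756 → P i := stepQ 104755 Q104755 (allL N104755 (tt N69326 F447119) (tt N102635 (iv0 F447120)) (tt N69173 F447115) (tt N102634 F447116) (tt N117999 (iv4 F508004)) (tt N102643 F447117) (tt N69172 (iv6 D207951)) (tt N102761 F447118))
theorem Q104757 : ∀ i, i < 104757 → P i := stepQ 104756 Q104756 (allL N104756 (tt N69199 F447124) (tt N102715 (iv0 F447125)) (tt N69232 F447121) (tt N69239 F447122) (tt N104726 F447123) (tt N111761 (iv5 F477836)) (tt N69175 (iv6 D207952)) (tt N107095 (iv7 F456940)))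
theorem Q104758 : ∀ i, i < 104758 → P i := stepQ 104757 Q104757 (allL N104757 (tt N69200 F447129) (tt N69204 (iv0 F447130)) (tt N103891 F447126) (tt N70795 F447127) (tt N103424 F447128) (tt N114915 (iv5 F492510)) (tt N69178 (iv6 D207953)) (tt N111248 (iv7 F475421)))
theorem Q104759 : ∀ i, i < 104759 → P i := stepQ 104758 Q104758 (allL N104758 (tt N69181 (iv1 D207954)) (tt N69216 F447131) (tt N78611 F447136) (tt N70824 (iv3 F447135)) (tt N80694 F447134) (tt N98290 F447133) (tt N83633 F447137) (tt N78612 F447132))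
theorem Q104760 : ∀ i, i < 104760 → P i := stepQ 104759 Q104759 (allL N104759 (tt N69362 F447143) (tt N70176 F447144) (tt N98036 F447138) (tt N70170 F447139) (tt N69186 (iv4 D207955)) (tt N101373 F447140) (tt N81410 F447141) (tt N70365 F447142))
theorem Q104761 : ∀ i, i < 104761 → P i := stepQ 104760 Q104760 (allL N104760 (tt N104960 (iv1 F448152)) (tt N114948 (iv0 F492715)) (tt N69196 F447145) (tt N105790 (iv3 F451729)) (tt N115015 (iv4 F493062)) (tt N69189 (iv5 D207956)) (tt N89630 F447146) (tt N113641 (iv7 F486453)))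
theorem Q104762 : ∀ i, i < 104762 → P i := stepQ 104761 Q104761 (allL N104761 (tt N99633 F447151) (tt N84768 (iv0 F447152)) (tt N69201 F447147) (tt N99607 F447148) (tt N109299 (iv4 F466266)) (tt N69190 (iv5 D207957)) (tt N99606 F447149) (tt N69205 F447150))
theorem Q104763 : ∀ i, i < 104763 → P i := stepQ 104762 Q104762 (allL N104762 (tt N84768 F447157) (tt N99633 F447156) (tt N69205 F447153) (tt N118955 (iv3 F512956)) (tt N109301 (iv4 F466277)) (tt N69191 (iv5 D207958)) (tt N79242 F447154) (tt N69201 F447155))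
theorem Q104764 : ∀ i, i < 104764 → P i := stepQ 104763 Q104763 (allL N104763 (tt N108374 F462314) (tt N92566 (iv0 F456591)) (tt N108328 (iv2 F462086)) (tt N108351 (iv3 F462192)) (tt N69193 F447158) (tt N119209 (iv5 F514372)) (tt N69192 (iv6 D207959)) (tt N108375 (iv7 F462318)))
theorem Q104765 : ∀ i, i < 104765 → P i := stepQ 104764 Q104764 (allL N104764 (tt N85347 F447162) (tt N86203 (iv0 F447163)) (tt N86202 F447159) (tt N92127 F447160) (tt N117478 (iv4 F505239)) (tt N69194 (iv5 D207960)) (tt N115323 F494587) (tt N85098 F447161))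
theorem Q104766 : ∀ i, i < 104766 → P i := stepQ 104765 Q104765 (allL N104765 (tt N86203 F447168) (tt N85347 (iv0 F447169)) (tt N85098 F447164) (tt N97794 F447165) (tt N117477 (iv4 F505231)) (tt N69195 (iv5 D207961)) (tt N84795 F447166) (tt N86202 F447167))
theorem Q104767 : ∀ i, i < 104767 → P i := stepQ 104766 Q104766 (allL N104766 (tt N69196 (iv1 D207962)) (tt N113641 (iv0 F486454)) (tt N114948 (iv2 F492710)) (tt N105886 (iv3 F452182)) (tt N112192 (iv4 F479989)) (tt N85003 F447170) (tt N86183 (iv6 F447171)) (tt N104960 (iv7 F448149)))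
theorem Q104768 : ∀ i, i < 104768 → P i := stepQ 104767 Q104767 (allL N104767 (tt N93519 F447174) (tt N112228 (iv0 F492909)) (tt N115015 (iv2 F493061)) (tt N96950 F447172) (tt N69196 (iv4 D207963)) (tt N118025 (iv5 F508156)) (tt N96948 F447173) (tt N120380 (iv7 F520478)))
theorem Q104769 : ∀ i, i < 104769 → P i := stepQ 104768 Q104768 (allL N104768 (tt N114948 (iv1 F492716)) (tt N104960 (iv0 F448151)) (tt N113641 (iv2 F486450)) (tt N70451 F447175) (tt N120380 (iv4 F520476)) (tt N69197 F447176) (tt N104980 (iv6 F448245)) (tt N69196 (iv7 D207964)))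
theorem Q104770 : ∀ i, i < 104770 → P i := stepQ 104769 Q104769 (allL N104769 (tt N101373 F447180) (tt N101372 F447181) (tt N101058 F447177) (tt N70186 (iv3 F447182)) (tt N69198 (iv4 D207965)) (tt N103893 F447178) (tt N121047 D224306) (tt N101370 F447179))
theorem Q104771 : ∀ i, i < 104771 → P i := stepQ 104770 Q104770 (allL N104770 (tt N85580 F447186) (tt N106237 F453709) (tt N101059 F447184) (tt N69614 F447185) (tt N121047 (iv4 F524215)) (tt N106235 (iv5 F453706)) (tt N69198 (iv6 D207966)) (tt N106236 (iv7 F489737)))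
theorem Q104772 : ∀ i, i < 104772 → P i := stepQ 104771 Q104771 (allL N104771 (tt N118991 F513160) (tt N119373 (iv0 F515279)) (tt N119432 (iv2 F515589)) (tt N69201 F447187) (tt N96876 (iv4 F447189)) (tt N69199 (iv5 D207967)) (tt N96563 F447188) (tt N118955 (iv7 F512958)))
theorem Q104773 : ∀ i, i < 104773 → P i := stepQ 104772 Q104772 (allL N104772 (tt N100007 F447194) (tt N99572 F447193) (tt N103913 F447190) (tt N69205 F447191) (tt N109302 (iv4 F466282)) (tt N69203 (iv5 D207968)) (tt N109140 F465529) (tt N99607 F447192))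
theorem Q104774 : ∀ i, i < 104774 → P i := stepQ 104773 Q104773 (allL N104773 (tt N110572 F472193) (tt N112180 F479925) (tt N79443 F447195) (tt N75463 F447196) (tt N118030 (iv4 F508183)) (tt N69208 (iv5 D207969)) (tt N86377 F447197) (tt N79441 F447198))
theorem Q104775 : ∀ i, i < 104775 → P i := stepQ 104774 Q104774 (allL N104774 (tt N84087 F447203) (tt N69227 (iv0 F447204)) (tt N69245 F447199) (tt N69272 F447200) (tt N70391 F447201) (tt N80281 F447202) (tt N69213 (iv6 D207970)) (tt N107096 (iv7 F456948)))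
theorem Q104776 : ∀ i, i < 104776 → P i := stepQ 104775 Q104775 (allL N104775 (tt N107096 F456950) (tt N69245 (iv0 F447210)) (tt N84087 F447205) (tt N69217 (iv3 D207971)) (tt N71657 F447206) (tt N81814 F447207) (tt N71655 F447208) (tt N69227 F447209))
theorem Q104777 : ∀ i, i < 104777 → P i := stepQ 104776 Q104776 (allL N104776 (tt N113592 (iv1 F486196)) (tt N113590 (iv0 F486184)) (tt N115314 (iv2 F494537)) (tt N121048 D224307) (tt N69223 (iv4 D207972)) (tt N121049 D224308) (tt N115319 (iv6 F494570)) (tt N86552 F447211))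
theorem Q104778 : ∀ i, i < 104778 → P i := stepQ 104777 Q104777 (allL N104777 (tt N69245 (iv1 F447217)) (tt N107096 (iv0 F456949)) (tt N69227 (iv2 D207973)) (tt N79769 F447212) (tt N84081 F447213) (tt N79768 (iv5 F447216)) (tt N103909 F447214) (tt N84087 F447215))
theorem Q104779 : ∀ i, i < 104779 → P i := stepQ 104778 Q104778 (allL N104778 (tt N95102 F447223) (tt N80055 F447224) (tt N79768 F447218) (tt N69228 F447219) (tt N95192 F447220) (tt N69227 (iv5 D207974)) (tt N82065 F447221) (tt N81814 F447222))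
theorem Q104780 : ∀ i, i < 104780 → P i := stepQ 104779 Q104779 (allL N104779 (tt N118130 (iv1 F508764)) (tt N119377 (iv0 F515305)) (tt N100735 F447225) (tt N79667 F447226) (tt N69228 (iv4 D207975)) (tt N104288 (iv5 F447229)) (tt N103367 F447227) (tt N81817 F447228))
theorem Q104781 : ∀ i, i < 104781 → P i := stepQ 104780 Q104780 (allL N104780 (tt N112821 (iv1 F482785)) (tt N105876 (iv0 F452134)) (tt N103323 F447230) (tt N79782 F447231) (tt N69229 (iv4 D207976)) (tt N118067 (iv5 F508393)) (tt N81362 F447232) (tt N80287 F447233))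
theorem Q104782 : ∀ i, i < 104782 → P i := stepQ 104781 Q104781 (allL N104781 (tt N69244 (iv1 F447239)) (tt N69239 (iv0 D207977)) (tt N69242 (iv2 F447238)) (tt N102288 F447236) (tt N71496 F447235) (tt N94581 F447234) (tt N102287 F447237) (tt N69243 F447240))
theorem Q104783 : ∀ i, i < 104783 → P i := stepQ 104782 Q104782 (allL N104782 (tt N105702 (iv1 F451326)) (tt N105703 (iv0 F451330)) (tt N70389 F447241) (tt N105443 (iv3 F450288)) (tt N69241 (iv4 D207978)) (tt N109782 (iv5 F468590)) (tt N82252 F447242) (tt N70392 F447243))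
theorem Q104784 : ∀ i, i < 104784 → P i := stepQ 104783 Q104783 (allL N104783 (tt N78602 F447249) (tt N103821 (iv0 F447250)) (tt N83630 F447244) (tt N69243 (iv3 D207979)) (tt N103709 F447245) (tt N94578 F447246) (tt N70120 F447247) (tt N102288 F447248))
theorem Q104785 : ∀ i, i < 104785 → P i := stepQ 104784 Q104784 (allL N104784 (tt N93178 F447255) (tt N93181 F447256) (tt N104411 F447251) (tt N78520 F447252) (tt N69247 (iv4 D207980)) (tt N112150 (iv5 F479758)) (tt N82600 F447253) (tt N78513 F447254))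
theorem Q104786 : ∀ i, i < 104786 → P i := stepQ 104785 Q104785 (allL N104785 (tt N93181 F447260) (tt N93178 F447261) (tt N78513 F447257) (tt N115370 (iv3 F494851)) (tt N69249 (iv4 D207981)) (tt N109912 (iv5 F469182)) (tt N78509 F447258) (tt N104411 F447259))
theorem Q104787 : ∀ i, i < 104787 → P i := stepQ 104786 Q104786 (allL N104786 (tt N88346 F447267) (tt N88345 F447268) (tt N88347 F447262) (tt N94015 F447263) (tt N69255 (iv4 D207982)) (tt N87021 F447264) (tt N88352 F447265) (tt N82608 F447266))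
theorem Q104788 : ∀ i, i < 104788 → P i := stepQ 104787 Q104787 (allL N104787 (tt N69288 (iv1 F447272)) (tt N69260 (iv0 D207983)) (tt N69285 (iv2 F447271)) (tt N103471 (iv3 F447274)) (tt N102819 F447270) (tt N80050 F447269) (tt N97738 (iv6 F447275)) (tt N69286 F447273))
theorem Q104789 : ∀ i, i < 104789 → P i := stepQ 104788 Q104788 (allL N104788 (tt N69263 (iv1 D207984)) (tt N69289 F447276) (tt N104263 F447280) (tt N80277 (iv3 F447279)) (tt N112150 (iv4 F479757)) (tt N69299 F447278) (tt N97086 (iv6 F447281)) (tt N80772 F447277))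
theorem Q104790 : ∀ i, i < 104790 → P i := stepQ 104789 Q104789 (allL N104789 (tt N97523 (iv1 F447287)) (tt N69266 (iv0 D207985)) (tt N75753 (iv2 F447286)) (tt N75197 F447284) (tt N78692 F447283) (tt N76910 F447282) (tt N75382 F447285) (tt N87824 F447288))
theorem Q104791 : ∀ i, i < 104791 → P i := stepQ 104790 Q104790 (allL N104790 (tt N121050 D224309) (tt N121051 D224310) (tt N93241 F447289) (tt N69274 F447290) (tt N112794 F482649) (tt N69273 (iv5 D207986)) (tt N119031 (iv6 F513384)) (tt N93238 F447291))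
theorem Q104792 : ∀ i, i < 104792 → P i := stepQ 104791 Q104791 (allL N104791 (tt N113140 F484153) (tt N109448 F467008) (tt N93242 F447292) (tt N69275 F447293) (tt N69283 F447294) (tt N119275 (iv5 F514765)) (tt N69273 (iv6 D207987)) (tt N113141 (iv7 F484158)))
theorem Q104793 : ∀ i, i < 104793 → P i := stepQ 104792 Q104792 (allL N104792 (tt N104719 F447295) (tt N103675 (iv0 F447296)) (tt N109164 (iv2 F465639)) (tt N119031 (iv3 F513382)) (tt N116322 (iv4 F499553)) (tt N109163 F465638) (tt N69274 (iv6 D207988)) (tt N119144 (iv7 F514021)))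
theorem Q104794 : ∀ i, i < 104794 → P i := stepQ 104793 Q104793 (allL N104793 (tt N86670 F447301) (tt N86681 F447302) (tt N86679 F447297) (tt N114251 (iv3 F489223)) (tt N69282 (iv4 D207989)) (tt N92987 F447300) (tt N87585 F447298) (tt N86678 F447299))
theorem Q104795 : ∀ i, i < 104795 → P i := stepQ 104794 Q104794 (allL N104794 (tt N102847 F447307) (tt N104397 (iv0 F447308)) (tt N102819 F447303) (tt N70505 F447304) (tt N69285 (iv4 D207990)) (tt N112846 (iv5 F482933)) (tt N97739 F447305) (tt N104407 F447306))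
theorem Q104796 : ∀ i, i < 104796 → P i := stepQ 104795 Q104795 (allL N104795 (tt N80069 (iv1 F447312)) (tt N69294 (iv0 D207991)) (tt N82394 (iv2 F447311)) (tt N87777 F447310) (tt N111686 (iv4 F477479)) (tt N104377 F447309) (tt N105168 (iv6 F449080)) (tt N92050 F447313))
theorem Q104797 : ∀ i, i < 104797 → P i := stepQ 104796 Q104796 (allL N104796 (tt N88500 F447317) (tt N102801 (iv0 F447319)) (tt N69305 F447314) (tt N78546 F447315) (tt N107899 F460181) (tt N102770 F447316) (tt N69304 (iv6 D207992)) (tt N108757 (iv7 F463829)))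
theorem Q104798 : ∀ i, i < 104798 → P i := stepQ 104797 Q104797 (allL N104797 (tt N69305 (iv1 D207993)) (tt N108757 F463828) (tt N102801 F447327) (tt N78616 (iv3 F447328)) (tt N78279 (iv4 F447325)) (tt N112366 (iv5 F480764)) (tt N104236 (iv6 F447326)) (tt N88500 F447324))
theorem Q104799 : ∀ i, i < 104799 → P i := stepQ 104798 Q104798 (allL N104798 (tt N102644 F447332) (tt N102800 (iv0 F447333)) (tt N102770 F447329) (tt N69308 F447330) (tt N108124 (iv4 F461215)) (tt N69305 (iv5 D207994)) (tt N70118 F447331) (tt N91326 (iv7 F447334)))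
theorem Q104800 : ∀ i, i < 104800 → P i := stepQ 104799 Q104799 (allL N104799 (tt N102801 (iv1 F447339)) (tt N88500 F447340) (tt N108757 F463827) (tt N69309 F447335) (tt N104257 F447336) (tt N91326 F447337) (tt N104256 F447338) (tt N69305 (iv7 D207995)))
theorem Q104801 : ∀ i, i < 104801 → P i := stepQ 104800 Q104800 (allL N104800 (tt N79368 F447345) (tt N69312 F447346) (tt N103932 F447341) (tt N69666 F447342) (tt N69306 (iv4 D207996)) (tt N109232 (iv5 F465892)) (tt N69327 F447343) (tt N103939 F447344))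
theorem Q104802 : ∀ i, i < 104802 → P i := stepQ 104801 Q104801 (allL N104801 (tt N69312 F447350) (tt N79368 F447351) (tt N103939 F447347) (tt N108261 (iv3 F461750)) (tt N69307 (iv4 D207997)) (tt N99992 F447349) (tt N109412 (iv6 F466837)) (tt N103932 F447348))
theorem Q104803 : ∀ i, i < 104803 → P i := stepQ 104802 Q104802 (allL N104802 (tt N104234 F447356) (tt N69320 (iv0 F447357)) (tt N77702 F447352) (tt N102987 F447353) (tt N109412 (iv4 F466835)) (tt N77699 F447354) (tt N69307 (iv6 D207998)) (tt N103072 F447355))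
theorem Q104804 : ∀ i, i < 104804 → P i := stepQ 104803 Q104803 (allL N104803 (tt N103933 F447362) (tt N109412 (iv0 F466839)) (tt N79374 F447358) (tt N69312 F447359) (tt N111922 (iv4 F478667)) (tt N77054 F447360) (tt N69311 (iv6 D207999)) (tt N103065 F447361))
theorem Q104805 : ∀ i, i < 104805 → P i := stepQ 104804 Q104804 (allL N104804 (tt N103939 (iv1 F447367)) (tt N103932 F447368) (tt N79368 F447363) (tt N103065 F447364) (tt N111930 (iv4 F478719)) (tt N99789 F447365) (tt N79367 F447366) (tt N69312 (iv7 D208000)))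
theorem Q104806 : ∀ i, i < 104806 → P i := stepQ 104805 Q104805 (allL N104805 (tt N104239 (iv1 F447374)) (tt N104238 (iv0 F447375)) (tt N81059 F447369) (tt N80965 F447370) (tt N69320 F447371) (tt N76899 F447373) (tt N69319 (iv6 D208001)) (tt N80959 F447372))
theorem Q104807 : ∀ i, i < 104807 → P i := stepQ 104806 Q104806 (allL N104806 (tt N69320 (iv1 D208002)) (tt N104234 F447376) (tt N103072 F447382) (tt N69341 (iv3 F447380)) (tt N103933 F447378) (tt N77703 F447379) (tt N78579 (iv6 F447381)) (tt N77702 F447377))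
theorem Q104808 : ∀ i, i < 104808 → P i := stepQ 104807 Q104807 (allL N104807 (tt N69325 (iv1 F447388)) (tt N69322 (iv0 D208003)) (tt N80322 (iv2 F447387)) (tt N81511 F447385) (tt N81518 F447384) (tt N104600 F447383) (tt N81301 F447386) (tt N81511 F447389))
theorem Q104809 : ∀ i, i < 104809 → P i := stepQ 104808 Q104808 (allL N104808 (tt N70120 (iv1 F447394)) (tt N102289 (iv0 F447395)) (tt N102687 F447390) (tt N69326 F447391) (tt N120749 (iv4 F522501)) (tt N71356 F447393) (tt N69323 (iv6 D208004)) (tt N102688 F447392))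
theorem Q104810 : ∀ i, i < 104810 → P i := stepQ 104809 Q104809 (allL N104809 (tt N92107 (iv1 F447402)) (tt N97738 (iv0 F447401)) (tt N97737 F447396) (tt N102246 F447397) (tt N69326 F447398) (tt N102209 F447399) (tt N69324 (iv6 D208005)) (tt N97655 F447400))
theorem Q104811 : ∀ i, i < 104811 → P i := stepQ 104810 Q104810 (allL N104810 (tt N78546 (iv1 F447407)) (tt N104262 (iv0 F447406)) (tt N104261 F447403) (tt N69335 (iv3 D208006)) (tt N105727 (iv4 F451435)) (tt N111440 (iv5 F476372)) (tt N80747 F447404) (tt N78569 F447405))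
theorem Q104812 : ∀ i, i < 104812 → P i := stepQ 104811 Q104811 (allL N104811 (tt N80343 (iv1 F447413)) (tt N69340 (iv0 D208007)) (tt N88499 (iv2 F447411)) (tt N104236 F447409) (tt N109328 (iv4 F466407)) (tt N78839 F447408) (tt N78616 F447410) (tt N88494 F447412))
theorem Q104813 : ∀ i, i < 104813 → P i := stepQ 104812 Q104812 (allL N104812 (tt N88494 (iv1 F447419)) (tt N88499 F447420) (tt N80343 F447414) (tt N69343 F447415) (tt N89932 F447416) (tt N82229 F447417) (tt N80342 F447418) (tt N69340 (iv7 D208008)))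
theorem Q104814 : ∀ i, i < 104814 → P i := stepQ 104813 Q104813 (allL N104813 (tt N120758 (iv1 F522559)) (tt N115443 (iv0 F495223)) (tt N121037 (iv2 F524147)) (tt N69349 F447421) (tt N109541 F467446) (tt N69348 (iv5 D208009)) (tt N121052 D224311) (tt N103940 F447422))
theorem Q104815 : ∀ i, i < 104815 → P i := stepQ 104814 Q104814 (allL N104814 (tt N102523 (iv1 F447425)) (tt N69349 (iv0 D208010)) (tt N103942 (iv2 F447424)) (tt N118614 (iv3 F511171)) (tt N114091 F495240) (tt N103945 F447423) (tt N114090 (iv6 F495236)) (tt N103941 F447426))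
theorem Q104816 : ∀ i, i < 104816 → P i := stepQ 104815 Q104815 (allL N104815 (tt N121053 D224312) (tt N120846 (iv0 F523055)) (tt N115863 (iv2 F497293)) (tt N115648 F496132) (tt N69349 (iv4 D208011)) (tt N115854 (iv5 F497245)) (tt N121054 D224313) (tt N103943 F447427))
theorem Q104817 : ∀ i, i < 104817 → P i := stepQ 104816 Q104816 (allL N104816 (tt N121055 D224314) (tt N121056 D224315) (tt N120714 (iv2 F522298)) (tt N121052 (iv3 F524246)) (tt N121054 (iv4 F524257)) (tt N120884 (iv5 F523278)) (tt N69349 (iv6 D208012)) (tt N121057 D224316))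
theorem Q104818 : ∀ i, i < 104818 → P i := stepQ 104817 Q104817 (allL N104817 (tt N75694 (iv1 F447432)) (tt N69356 (iv0 D208013)) (tt N85021 (iv2 F447431)) (tt N75720 (iv3 F447434)) (tt N84998 F447429) (tt N86477 F447428) (tt N98414 F447430) (tt N85052 F447433))
theorem Q104819 : ∀ i, i < 104819 → P i := stepQ 104818 Q104818 (allL N104818 (tt N98733 F447440) (tt N86414 F447441) (tt N86574 F447435) (tt N86543 F447436) (tt N84001 F447437) (tt N69358 (iv5 D208014)) (tt N86542 F447438) (tt N88522 F447439))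
theorem Q104820 : ∀ i, i < 104820 → P i := stepQ 104819 Q104819 (allL N104819 (tt N69360 (iv1 D208015)) (tt N70264 F447442) (tt N70262 (iv2 F447448)) (tt N88799 F447447) (tt N70810 F447445) (tt N94557 F447444) (tt N88797 (iv6 F447446)) (tt N70263 F447443))
theorem Q104821 : ∀ i, i < 104821 → P i := stepQ 104820 Q104820 (allL N104820 (tt N86628 F447451) (tt N93124 F447450) (tt N69366 F447449) (tt N105767 (iv3 F451610)) (tt N115150 (iv4 F493733)) (tt N69361 (iv5 D208016)) (tt N115147 (iv6 F493715)) (tt N93123 (iv7 F447452)))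
theorem Q104822 : ∀ i, i < 104822 → P i := stepQ 104821 Q104821 (allL N104821 (tt N69365 (iv1 F447458)) (tt N69364 F447459) (tt N69367 F447453) (tt N74912 F447454) (tt N69402 F447455) (tt N93123 F447456) (tt N74910 F447457) (tt N69361 (iv7 D208017)))
theorem Q104823 : ∀ i, i < 104823 → P i := stepQ 104822 Q104822 (allL N104822 (tt N86723 (iv1 F447465)) (tt N69363 (iv0 D208018)) (tt N70035 (iv2 F447462)) (tt N93010 F447463) (tt N80687 F447461) (tt N86465 F447460) (tt N114055 (iv6 F488381)) (tt N85965 F447464))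
theorem Q104824 : ∀ i, i < 104824 → P i := stepQ 104823 Q104823 (allL N104823 (tt N115223 F494097) (tt N104083 F447468) (tt N115147 (iv2 F493712)) (tt N69370 F447466) (tt N115149 (iv4 F493725)) (tt N69363 (iv5 D208019)) (tt N69366 F447467) (tt N115224 (iv7 F494102)))
theorem Q104825 : ∀ i, i < 104825 → P i := stepQ 104824 Q104824 (allL N104824 (tt N85965 (iv1 F447473)) (tt N70035 F447474) (tt N86723 F447469) (tt N69371 F447470) (tt N87252 F447471) (tt N115224 (iv5 F494100)) (tt N104165 F447472) (tt N69363 (iv7 D208020)))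
theorem Q104826 : ∀ i, i < 104826 → P i := stepQ 104825 Q104825 (allL N104825 (tt N86689 F447480) (tt N85952 F447481) (tt N86687 F447475) (tt N87589 F447476) (tt N86715 F447479) (tt N69364 (iv5 D208021)) (tt N87587 F447477) (tt N86688 F447478))
theorem Q104827 : ∀ i, i < 104827 → P i := stepQ 104826 Q104826 (allL N104826 (tt N85952 F447488) (tt N86689 F447489) (tt N86688 F447483) (tt N86451 F447484) (tt N86454 F447485) (tt N69365 (iv5 D208022)) (tt N93007 F447486) (tt N86687 F447487))
theorem Q104828 : ∀ i, i < 104828 → P i := stepQ 104827 Q104827 (allL N104827 (tt N104016 F447491) (tt N113586 (iv0 F486163)) (tt N115150 (iv2 F493731)) (tt N115247 (iv3 F494204)) (tt N69366 (iv4 D208023)) (tt N97706 F447490) (tt N115149 F493730) (tt N115202 F493999))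
theorem Q104829 : ∀ i, i < 104829 → P i := stepQ 104828 Q104828 (allL N104828 (tt N93124 (iv1 F447495)) (tt N86628 F447496) (tt N93123 F447492) (tt N69379 F447493) (tt N115202 (iv4 F493997)) (tt N69367 F447494) (tt N85321 (iv6 F447497)) (tt N69366 (iv7 D208024)))
theorem Q104830 : ∀ i, i < 104830 → P i := stepQ 104829 Q104829 (allL N104829 (tt N87511 F447505) (tt N69370 (iv0 D208025)) (tt N105778 F451668) (tt N104079 F447506) (tt N82944 F447503) (tt N75075 F447502) (tt N98146 F447504) (tt N105779 (iv7 F451672)))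
theorem Q104831 : ∀ i, i < 104831 → P i := stepQ 104830 Q104830 (allL N104830 (tt N69370 (iv1 D208026)) (tt N87511 F447507) (tt N105779 F451675) (tt N93905 F447511) (tt N82945 F447509) (tt N75076 F447508) (tt N93904 (iv6 F447510)) (tt N105778 F451670))
theorem Q104832 : ∀ i, i < 104832 → P i := stepQ 104831 Q104831 (allL N104831 (tt N105779 (iv1 F451671)) (tt N105778 F451667) (tt N87511 F447512) (tt N115224 (iv3 F494098)) (tt N74168 F447513) (tt N69371 F447514) (tt N109902 (iv6 F469135)) (tt N69370 (iv7 D208027)))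
theorem Q104833 : ∀ i, i < 104833 → P i := stepQ 104832 Q104832 (allL N104832 (tt N104162 F447517) (tt N104912 (iv0 F447906)) (tt N69374 (iv2 D208028)) (tt N105782 (iv3 F451689)) (tt N119276 (iv4 F514772)) (tt N92994 F447515) (tt N79974 F447516) (tt N105780 (iv7 F451681)))
theorem Q104834 : ∀ i, i < 104834 → P i := stepQ 104833 Q104833 (allL N104833 (tt N115396 F494981) (tt N74331 F447522) (tt N105688 (iv2 F451258)) (tt N81636 F447518) (tt N69375 (iv4 D208029)) (tt N95652 F447519) (tt N95885 F447520) (tt N96766 F447521))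
theorem Q104835 : ∀ i, i < 104835 → P i := stepQ 104834 Q104834 (allL N104834 (tt N87767 F447525) (tt N118998 (iv0 F513197)) (tt N105784 (iv2 F451702)) (tt N111142 (iv3 F474900)) (tt N69377 (iv4 D208030)) (tt N95423 F447523) (tt N96927 F447524) (tt N104860 (iv7 F447668)))
theorem Q104836 : ∀ i, i < 104836 → P i := stepQ 104835 Q104835 (allL N104835 (tt N115293 F494430) (tt N115294 (iv0 F494434)) (tt N115244 (iv2 F494183)) (tt N69378 (iv3 D208031)) (tt N115247 (iv4 F494205)) (tt N121058 D224317) (tt N87513 F447526) (tt N111737 (iv7 F477735)))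
theorem Q104837 : ∀ i, i < 104837 → P i := stepQ 104836 Q104836 (allL N104836 (tt N91915 F447531) (tt N95656 F447532) (tt N87374 F447527) (tt N121058 (iv3 F524280)) (tt N95622 F447528) (tt N69378 (iv5 D208032)) (tt N84514 F447529) (tt N95621 F447530))
theorem Q104838 : ∀ i, i < 104838 → P i := stepQ 104837 Q104837 (allL N104837 (tt N97348 (iv1 F447536)) (tt N95866 F447537) (tt N95658 F447533) (tt N111737 (iv3 F477733)) (tt N69379 F447534) (tt N95621 F447535) (tt N111735 (iv6 F477729)) (tt N69378 (iv7 D208033)))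
theorem Q104839 : ∀ i, i < 104839 → P i := stepQ 104838 Q104838 (allL N104838 (tt N83709 F447540) (tt N120203 (iv0 F519574)) (tt N105785 (iv2 F451706)) (tt N85321 F447538) (tt N111735 F477728) (tt N100441 F447539) (tt N69379 (iv6 D208034)) (tt N109902 (iv7 F469136)))
theorem Q104840 : ∀ i, i < 104840 → P i := stepQ 104839 Q104839 (allL N104839 (tt N74486 F447545) (tt N109014 F464931) (tt N87550 F447541) (tt N69382 F447542) (tt N86413 F447544) (tt N69381 (iv5 D208035)) (tt N87549 F447543) (tt N104922 F447957))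
theorem Q104841 : ∀ i, i < 104841 → P i := stepQ 104840 Q104840 (allL N104840 (tt N69383 (iv1 D208036)) (tt N87552 (iv0 F447549)) (tt N105786 F451709) (tt N114541 (iv3 F490683)) (tt N97530 (iv4 F447547)) (tt N115204 (iv5 F494003)) (tt N97529 F447548) (tt N104158 F447546))
theorem Q104842 : ∀ i, i < 104842 → P i := stepQ 104841 Q104841 (allL N104841 (tt N104158 (iv1 F447554)) (tt N105786 F451710) (tt N69383 (iv2 D208037)) (tt N70676 F447550) (tt N115798 (iv4 F496947)) (tt N87553 (iv5 F447553)) (tt N77244 F447551) (tt N87552 F447552))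
theorem Q104843 : ∀ i, i < 104843 → P i := stepQ 104842 Q104842 (allL N104842 (tt N81653 F447560) (tt N87551 F447559) (tt N87553 F447555) (tt N69384 F447556) (tt N87142 (iv4 F447561)) (tt N69383 (iv5 D208038)) (tt N87570 F447557) (tt N87139 F447558))
theorem Q104844 : ∀ i, i < 104844 → P i := stepQ 104843 Q104843 (allL N104843 (tt N105693 (iv1 F451289)) (tt N73674 F447565) (tt N105689 F451264) (tt N99691 F447562) (tt N69384 (iv4 D208039)) (tt N95656 F447563) (tt N98412 F447564) (tt N105690 (iv7 F451270)))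
theorem Q104845 : ∀ i, i < 104845 → P i := stepQ 104844 Q104844 (allL N104844 (tt N70447 F447570) (tt N70448 F447571) (tt N100323 F447566) (tt N86203 F447567) (tt N72508 F447572) (tt N69386 (iv5 D208040)) (tt N72507 F447568) (tt N86199 F447569))
theorem Q104846 : ∀ i, i < 104846 → P i := stepQ 104845 Q104845 (allL N104845 (tt N105591 (iv1 F450884)) (tt N69387 (iv0 D208041)) (tt N105590 (iv2 F450881)) (tt N121059 D224318) (tt N95691 (iv4 F450883)) (tt N90920 (iv5 F450886)) (tt N100634 F450885) (tt N95687 F450882))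
theorem Q104847 : ∀ i, i < 104847 → P i := stepQ 104846 Q104846 (allL N104846 (tt N69387 (iv1 D208042)) (tt N105591 F450878) (tt N95687 F447577) (tt N90964 (iv3 F447574)) (tt N95673 F447573) (tt N90921 (iv5 F447576)) (tt N95672 (iv6 F447575)) (tt N105590 (iv7 F450880)))
theorem Q104848 : ∀ i, i < 104848 → P i := stepQ 104847 Q104847 (allL N104847 (tt N95687 (iv1 F447587)) (tt N105590 F450877) (tt N105591 (iv2 F450872)) (tt N71396 F447583) (tt N95170 F447584) (tt N71389 F447585) (tt N104103 F447586) (tt N69387 (iv7 D208043)))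
theorem Q104849 : ∀ i, i < 104849 → P i := stepQ 104848 Q104848 (allL N104848 (tt N85072 (iv1 F447591)) (tt N69389 (iv0 D208044)) (tt N85071 (iv2 F447592)) (tt N103575 F447589) (tt N104587 F447588) (tt N112313 (iv5 F480499)) (tt N78597 F447590) (tt N85070 (iv7 F447594)))
theorem Q104850 : ∀ i, i < 104850 → P i := stepQ 104849 Q104849 (allL N104849 (tt N69389 (iv1 D208045)) (tt N85072 F447600) (tt N85070 F447604) (tt N102781 (iv3 F447603)) (tt N104588 F447602) (tt N108254 (iv5 F461716)) (tt N104115 F447605) (tt N85071 F447601))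
theorem Q104851 : ∀ i, i < 104851 → P i := stepQ 104850 Q104850 (allL N104850 (tt N69403 F447610) (tt N69405 (iv0 F447611)) (tt N104184 F447606) (tt N104158 F447607) (tt N103593 F447608) (tt N104018 F447609) (tt N69391 (iv6 D208046)) (tt N114541 (iv7 F490686)))
theorem Q104852 : ∀ i, i < 104852 → P i := stepQ 104851 Q104851 (allL N104851 (tt N102778 (iv1 F447625)) (tt N69396 (iv0 D208047)) (tt N103570 (iv2 F447624)) (tt N102769 F447622) (tt N73312 F447620) (tt N92312 F447621) (tt N69546 F447623) (tt N114963 (iv7 F492791)))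
theorem Q104853 : ∀ i, i < 104853 → P i := stepQ 104852 Q104852 (allL N104852 (tt N114541 (iv1 F490688)) (tt N104184 (iv0 F447631)) (tt N69403 F447626) (tt N91084 F447627) (tt N69399 (iv4 D208048)) (tt N83677 F447630) (tt N104120 F447628) (tt N69405 F447629))
theorem Q104854 : ∀ i, i < 104854 → P i := stepQ 104853 Q104853 (allL N104853 (tt N104184 F447637) (tt N114541 (iv0 F490687)) (tt N69405 F447633) (tt N104940 (iv3 F448034)) (tt N69400 (iv4 D208049)) (tt N83678 F447636) (tt N85067 F447634) (tt N69403 F447635))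
theorem Q104855 : ∀ i, i < 104855 → P i := stepQ 104854 Q104854 (allL N104854 (tt N69405 (iv1 F447641)) (tt N69403 (iv0 D208050)) (tt N114541 (iv2 F490682)) (tt N117418 (iv3 F504943)) (tt N103607 F447639) (tt N104017 F447638) (tt N104119 F447640) (tt N104184 F447642))
theorem Q104856 : ∀ i, i < 104856 → P i := stepQ 104855 Q104855 (allL N104855 (tt N104020 F447645) (tt N97921 F447646) (tt N105922 F452362) (tt N69403 (iv3 D208051)) (tt N103550 F447643) (tt N104941 (iv5 F448043)) (tt N75732 F447644) (tt N104940 F448039))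
theorem Q104857 : ∀ i, i < 104857 → P i := stepQ 104856 Q104856 (allL N104856 (tt N91087 F447651) (tt N91053 (iv0 F447652)) (tt N91083 F447653) (tt N69405 (iv3 D208052)) (tt N71849 F447647) (tt N94008 F447648) (tt N92215 F447649) (tt N91084 F447650))
theorem Q104858 : ∀ i, i < 104858 → P i := stepQ 104857 Q104857 (allL N104857 (tt N117592 (iv1 F505886)) (tt N69909 F447655) (tt N118739 F511827) (tt N121060 D224319) (tt N69408 (iv4 D208053)) (tt N108201 (iv5 F461480)) (tt N118976 (iv6 F513076)) (tt N104130 F447654))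
theorem Q104859 : ∀ i, i < 104859 → P i := stepQ 104858 Q104858 (allL N104858 (tt N119035 F513407) (tt N89807 (iv0 F447658)) (tt N116439 (iv2 F500115)) (tt N71263 F447656) (tt N118976 (iv4 F513074)) (tt N81910 (iv5 F447659)) (tt N69408 (iv6 D208054)) (tt N72596 F447657))
theorem Q104860 : ∀ i, i < 104860 → P i := stepQ 104859 Q104859 (allL N104859 (tt N69997 F447663) (tt N70000 F447664) (tt N105657 F451129) (tt N72075 F447660) (tt N121061 D224320) (tt N69409 (iv5 D208055)) (tt N81910 F447661) (tt N91118 F447662))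
theorem Q104861 : ∀ i, i < 104861 → P i := stepQ 104860 Q104860 (allL N104860 (tt N115772 (iv1 F496793)) (tt N115740 (iv0 F496607)) (tt N100525 F447665) (tt N82497 F447666) (tt N69411 F447667) (tt N118843 (iv5 F512375)) (tt N69410 (iv6 D208056)) (tt N104834 F447668))
theorem Q104862 : ∀ i, i < 104862 → P i := stepQ 104861 Q104861 (allL N104861 (tt N80441 F447673) (tt N109791 (iv0 F468630)) (tt N109769 (iv2 F468523)) (tt N69415 F447669) (tt N80314 F447670) (tt N82545 F447671) (tt N69413 (iv6 D208057)) (tt N78726 F447672))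
theorem Q104863 : ∀ i, i < 104863 → P i := stepQ 104862 Q104862 (allL N104862 (tt N81106 F447679) (tt N101862 (iv0 F447680)) (tt N80793 F447674) (tt N69427 (iv3 D208058)) (tt N92448 F447675) (tt N77591 F447676) (tt N102684 F447677) (tt N71333 F447678))
theorem Q104864 : ∀ i, i < 104864 → P i := stepQ 104863 Q104863 (allL N104863 (tt N99617 (iv1 F447685)) (tt N69428 (iv0 D208059)) (tt N102791 (iv2 F447684)) (tt N80668 F447682) (tt N89400 (iv4 F447686)) (tt N71748 F447681) (tt N80667 F447683) (tt N105729 (iv7 F451445)))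
theorem Q104865 : ∀ i, i < 104865 → P i := stepQ 104864 Q104864 (allL N104864 (tt N104873 F447746) (tt N72162 F447691) (tt N103955 F447688) (tt N78008 F447689) (tt N69431 (iv4 D208060)) (tt N112315 (iv5 F480507)) (tt N113297 F484902) (tt N103954 F447690))
theorem Q104866 : ∀ i, i < 104866 → P i := stepQ 104865 Q104865 (allL N104865 (tt N72162 F447694) (tt N104873 (iv0 F447745)) (tt N103954 F447692) (tt N72155 (iv3 F447697)) (tt N69432 (iv4 D208061)) (tt N92839 F447695) (tt N117196 (iv6 F503863)) (tt N103955 F447693))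
theorem Q104867 : ∀ i, i < 104867 → P i := stepQ 104866 Q104866 (allL N104866 (tt N91609 F447705) (tt N97217 (iv0 F447706)) (tt N91619 (iv2 F447707)) (tt N69438 (iv3 D208062)) (tt N108666 (iv4 F463448)) (tt N84566 F447702) (tt N91491 F447703) (tt N87755 F447704))
theorem Q104868 : ∀ i, i < 104868 → P i := stepQ 104867 Q104867 (allL N104867 (tt N69445 (iv1 F447713)) (tt N78274 (iv0 F447712)) (tt N103981 (iv2 F447714)) (tt N69440 (iv3 D208063)) (tt N72145 F447711) (tt N97158 F447708) (tt N89919 F447709) (tt N103965 F447710))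
theorem Q104869 : ∀ i, i < 104869 → P i := stepQ 104868 Q104868 (allL N104868 (tt N101926 (iv1 F447718)) (tt N97172 (iv0 F447717)) (tt N117169 (iv2 F503731)) (tt N69441 (iv3 D208064)) (tt N118829 (iv4 F512293)) (tt N97160 F447715) (tt N115901 (iv6 F497492)) (tt N103967 F447716))
theorem Q104870 : ∀ i, i < 104870 → P i := stepQ 104869 Q104869 (allL N104869 (tt N93949 F447724) (tt N78084 F447722) (tt N103966 F447719) (tt N72624 F447723) (tt N69441 (iv4 D208065)) (tt N90128 F447721) (tt N107762 (iv6 F459615)) (tt N103968 F447720))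
theorem Q104871 : ∀ i, i < 104871 → P i := stepQ 104870 Q104870 (allL N104870 (tt N69460 (iv1 F447834)) (tt N99642 (iv0 F447726)) (tt N99643 F447725) (tt N115901 (iv3 F497491)) (tt N107762 (iv4 F459617)) (tt N115856 (iv5 F497254)) (tt N69441 (iv6 D208066)) (tt N99644 (iv7 F447727)))
theorem Q104872 : ∀ i, i < 104872 → P i := stepQ 104871 Q104871 (allL N104871 (tt N83226 (iv1 F447735)) (tt N71577 F447736) (tt N103983 F447730) (tt N96823 F447731) (tt N79424 F447732) (tt N91827 F447733) (tt N103980 F447734) (tt N69444 (iv7 D208067)))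
theorem Q104873 : ∀ i, i < 104873 → P i := stepQ 104872 Q104872 (allL N104872 (tt N78274 (iv1 F447739)) (tt N69445 (iv0 D208068)) (tt N103965 (iv2 F447738)) (tt N117169 F503729) (tt N72144 F447737) (tt N119354 (iv5 F515182)) (tt N119959 (iv6 F518261)) (tt N103981 F447740))
theorem Q104874 : ∀ i, i < 104874 → P i := stepQ 104873 Q104873 (allL N104873 (tt N104865 F447745) (tt N104864 (iv0 F447746)) (tt N78103 F447741) (tt N101746 F447742) (tt N69445 (iv4 D208069)) (tt N98181 F447744) (tt N121062 D224321) (tt N98180 F447743))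
theorem Q104875 : ∀ i, i < 104875 → P i := stepQ 104874 Q104874 (allL N104874 (tt N96221 F447749) (tt N96224 F447750) (tt N112692 (iv2 F482191)) (tt N69446 F447747) (tt N86639 (iv4 F447752)) (tt N69445 (iv5 D208070)) (tt N86637 F447751) (tt N103982 F447748))
theorem Q104876 : ∀ i, i < 104876 → P i := stepQ 104875 Q104875 (allL N104875 (tt N116453 F500208) (tt N117108 F503436) (tt N112693 (iv2 F482196)) (tt N69447 F447754) (tt N121062 (iv4 F524306)) (tt N96603 F447755) (tt N69445 (iv6 D208071)) (tt N111106 (iv7 F474701)))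
theorem Q104877 : ∀ i, i < 104877 → P i := stepQ 104876 Q104876 (allL N104876 (tt N87570 F447759) (tt N87146 F447760) (tt N87568 F447756) (tt N104937 F448026) (tt N69446 (iv4 D208072)) (tt N98770 F447757) (tt N115141 (iv6 F493689)) (tt N87569 F447758))
theorem Q104878 : ∀ i, i < 104878 → P i := stepQ 104877 Q104877 (allL N104877 (tt N88821 F447765) (tt N78514 F447766) (tt N88820 F447761) (tt N86637 F447762) (tt N115141 (iv4 F493687)) (tt N78498 F447763) (tt N69446 (iv6 D208073)) (tt N88819 F447764))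
theorem Q104879 : ∀ i, i < 104879 → P i := stepQ 104878 Q104878 (allL N104878 (tt N103959 (iv1 F447770)) (tt N95562 F447771) (tt N103980 F447767) (tt N111106 (iv3 F474700)) (tt N112511 (iv4 F481433)) (tt N95559 F447768) (tt N103983 F447769) (tt N69447 (iv7 D208074)))
theorem Q104880 : ∀ i, i < 104880 → P i := stepQ 104879 Q104879 (allL N104879 (tt N93150 F447775) (tt N97167 F447776) (tt N103986 F447772) (tt N82177 F447773) (tt N105483 (iv4 F450431)) (tt N104418 F447774) (tt N69449 (iv6 D208075)) (tt N115486 (iv7 F495441)))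
theorem Q104881 : ∀ i, i < 104881 → P i := stepQ 104880 Q104880 (allL N104880 (tt N119354 (iv1 F515185)) (tt N97158 (iv0 F447780)) (tt N106706 (iv2 F455343)) (tt N69450 (iv3 D208076)) (tt N119362 (iv4 F515218)) (tt N91418 F447777) (tt N91104 F447778) (tt N103985 F447779))
theorem Q104882 : ∀ i, i < 104882 → P i := stepQ 104881 Q104881 (allL N104881 (tt N86420 F447785) (tt N87481 F447786) (tt N91227 F447781) (tt N86443 F447787) (tt N69450 (iv4 D208077)) (tt N80388 F447782) (tt N87520 F447783) (tt N86595 F447784))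
theorem Q104883 : ∀ i, i < 104883 → P i := stepQ 104882 Q104882 (allL N104882 (tt N103984 (iv1 F447791)) (tt N69451 (iv0 D208078)) (tt N103987 (iv2 F447790)) (tt N98157 (iv3 F447793)) (tt N91359 F447789) (tt N73595 F447788) (tt N93151 (iv6 F447794)) (tt N98153 F447792))
theorem Q104884 : ∀ i, i < 104884 → P i := stepQ 104883 Q104883 (allL N104883 (tt N88434 F447797) (tt N115228 (iv0 F494124)) (tt N115357 (iv2 F494770)) (tt N69458 F447795) (tt N109323 (iv4 F466386)) (tt N69452 (iv5 D208079)) (tt N69455 F447796) (tt N114222 (iv7 F489068)))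
theorem Q104885 : ∀ i, i < 104885 → P i := stepQ 104884 Q104884 (allL N104884 (tt N108522 (iv1 F462932)) (tt N99666 (iv0 F447801)) (tt N108521 (iv2 F462924)) (tt N99728 F447798) (tt N100021 F447799) (tt N115579 (iv5 F495848)) (tt N69453 (iv6 D208080)) (tt N99725 F447800))
theorem Q104886 : ∀ i, i < 104886 → P i := stepQ 104885 Q104885 (allL N104885 (tt N119959 (iv1 F518264)) (tt N119960 (iv0 F518270)) (tt N99720 F447802) (tt N69454 (iv3 D208081)) (tt N107463 (iv4 F458427)) (tt N112252 F480229) (tt N99718 F447803) (tt N120779 (iv7 F522663)))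
theorem Q104887 : ∀ i, i < 104887 → P i := stepQ 104886 Q104886 (allL N104886 (tt N119356 (iv1 F515194)) (tt N97161 (iv0 F447808)) (tt N88339 F447809) (tt N69456 (iv3 D208082)) (tt N83781 F447804) (tt N87951 F447805) (tt N83780 F447806) (tt N104040 F447807))
theorem Q104888 : ∀ i, i < 104888 → P i := stepQ 104887 Q104887 (allL N104887 (tt N88082 F447812) (tt N88259 F447813) (tt N115623 F496022) (tt N69457 (iv3 D208083)) (tt N87935 F447810) (tt N121063 D224322) (tt N112696 F482218) (tt N104038 F447811))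
theorem Q104889 : ∀ i, i < 104889 → P i := stepQ 104888 Q104888 (allL N104888 (tt N115509 (iv1 F495554)) (tt N111622 (iv0 F477191)) (tt N104041 F447814) (tt N121063 (iv3 F524311)) (tt N118618 (iv4 F511182)) (tt N69457 (iv5 D208084)) (tt N114110 F488593) (tt N104039 F447815))
theorem Q104890 : ∀ i, i < 104890 → P i := stepQ 104889 Q104889 (allL N104889 (tt N93140 (iv1 F447819)) (tt N97166 (iv0 F447820)) (tt N103410 F447816) (tt N112696 (iv3 F482214)) (tt N97196 F447817) (tt N103400 (iv5 F447818)) (tt N69457 (iv6 D208085)) (tt N113628 (iv7 F486375)))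
theorem Q104891 : ∀ i, i < 104891 → P i := stepQ 104890 Q104890 (allL N104890 (tt N104045 (iv1 F447827)) (tt N69458 (iv0 D208086)) (tt N104042 (iv2 F462827)) (tt N74066 (iv3 F447822)) (tt N115849 (iv4 F497221)) (tt N74059 F447821) (tt N74062 (iv6 F447823)) (tt N104043 F462831))
theorem Q104892 : ∀ i, i < 104892 → P i := stepQ 104891 Q104891 (allL N104891 (tt N69458 (iv1 D208087)) (tt N104045 F447824) (tt N104043 F462829) (tt N121064 D224323) (tt N114868 (iv4 F492246)) (tt N104989 (iv5 F448282)) (tt N114137 (iv6 F488705)) (tt N104042 (iv7 F462828)))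
theorem Q104893 : ∀ i, i < 104893 → P i := stepQ 104892 Q104892 (allL N104892 (tt N104043 (iv1 F447828)) (tt N104042 F447829) (tt N104045 F447825) (tt N114222 (iv3 F489065)) (tt N111626 (iv4 F477208)) (tt N69459 F447826) (tt N114221 F489062) (tt N69458 (iv7 D208088)))
theorem Q104894 : ∀ i, i < 104894 → P i := stepQ 104893 Q104893 (allL N104893 (tt N99642 (iv1 F447830)) (tt N69460 (iv0 D208089)) (tt N99644 (iv2 F447832)) (tt N119960 (iv3 F518267)) (tt N107903 F460196) (tt N115857 (iv5 F497260)) (tt N92646 (iv6 F447833)) (tt N99643 F447831))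
theorem Q104895 : ∀ i, i < 104895 → P i := stepQ 104894 Q104894 (allL N104894 (tt N99644 (iv1 F447837)) (tt N99643 F447836) (tt N69460 (iv2 D208090)) (tt N108546 (iv3 F463031)) (tt N118651 (iv4 F511349)) (tt N121065 D224324) (tt N108497 (iv6 F462849)) (tt N99642 F447835))
theorem Q104896 : ∀ i, i < 104896 → P i := stepQ 104895 Q104895 (allL N104895 (tt N108520 F462920) (tt N121066 D224325) (tt N121065 (iv2 F524321)) (tt N69461 F447838) (tt N115502 (iv4 F495524)) (tt N69460 (iv5 D208091)) (tt N115501 F495522) (tt N99645 F447839))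
theorem Q104897 : ∀ i, i < 104897 → P i := stepQ 104896 Q104896 (allL N104896 (tt N108569 (iv1 F463085)) (tt N108525 (iv0 F462945)) (tt N87954 F447840) (tt N111311 (iv3 F475755)) (tt N69461 (iv4 D208092)) (tt N86978 F447841) (tt N86979 F447842) (tt N99650 F447843))
theorem Q104898 : ∀ i, i < 104898 → P i := stepQ 104897 Q104897 (allL N104897 (tt N115857 (iv1 F497259)) (tt N115856 (iv0 F497258)) (tt N115858 (iv2 F497265)) (tt N69462 (iv3 D208093)) (tt N74062 F447848) (tt N117563 (iv5 F505717)) (tt N115849 (iv6 F497223)) (tt N114869 F492253))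
theorem Q104899 : ∀ i, i < 104899 → P i := stepQ 104898 Q104898 (allL N104898 (tt N81181 F447845) (tt N78272 F447846) (tt N119337 F515098) (tt N74073 (iv3 F447847)) (tt N69462 (iv4 D208094)) (tt N81165 F447844) (tt N118983 (iv6 F513112)) (tt N115843 F497192))
theorem Q104900 : ∀ i, i < 104900 → P i := stepQ 104899 Q104899 (allL N104899 (tt N79325 (iv1 F447851)) (tt N111467 (iv0 F476476)) (tt N111468 F476479) (tt N115849 (iv3 F497220)) (tt N118983 (iv4 F513110)) (tt N79627 F447849) (tt N69462 (iv6 D208095)) (tt N87181 F447850))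
theorem Q104901 : ∀ i, i < 104901 → P i := stepQ 104900 Q104900 (allL N104900 (tt N108554 F463059) (tt N108556 (iv0 F477886)) (tt N115853 (iv2 F497242)) (tt N69463 (iv3 D208096)) (tt N121067 D224326) (tt N118274 (iv5 F509465)) (tt N87182 F447852) (tt N119348 (iv7 F515149)))
theorem Q104902 : ∀ i, i < 104902 → P i := stepQ 104901 Q104901 (allL N104901 (tt N78272 F447855) (tt N81181 F447856) (tt N115843 (iv2 F497186)) (tt N119235 (iv3 F514526)) (tt N69463 (iv4 D208097)) (tt N81164 F447853) (tt N79951 F447854) (tt N119337 (iv7 F515100)))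
theorem Q104903 : ∀ i, i < 104903 → P i := stepQ 104902 Q104902 (allL N104902 (tt N84625 (iv1 F447860)) (tt N69464 (iv0 D208098)) (tt N110967 (iv2 F474004)) (tt N95356 F447861) (tt N97219 F447858) (tt N87760 F447857) (tt N114140 F488720) (tt N97835 (iv7 F447859)))
theorem Q104904 : ∀ i, i < 104904 → P i := stepQ 104903 Q104903 (allL N104903 (tt N69464 (iv1 D208099)) (tt N84625 F447862) (tt N97835 F447866) (tt N121068 D224327) (tt N87412 F447864) (tt N87759 F447863) (tt N79955 (iv6 F447865)) (tt N110967 (iv7 F474006)))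
theorem Q104905 : ∀ i, i < 104905 → P i := stepQ 104904 Q104904 (allL N104904 (tt N97835 (iv1 F447870)) (tt N110967 (iv0 F474007)) (tt N84625 F447867) (tt N114142 (iv3 F488726)) (tt N69465 F447868) (tt N91889 F447869) (tt N117614 (iv6 F506007)) (tt N69464 (iv7 D208100)))
theorem Q104906 : ∀ i, i < 104906 → P i := stepQ 104905 Q104905 (allL N104905 (tt N117124 F503513) (tt N81163 F496973) (tt N117197 (iv2 F503866)) (tt N69467 F447871) (tt N121069 D224328) (tt N69466 (iv5 D208101)) (tt N115868 (iv6 F497319)) (tt N74148 F447872))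
theorem Q104907 : ∀ i, i < 104907 → P i := stepQ 104906 Q104906 (allL N104906 (tt N120583 F521587) (tt N69469 (iv0 D208102)) (tt N104374 (iv2 F447875)) (tt N82562 F447873) (tt N114360 (iv4 F489798)) (tt N82561 (iv5 F447876)) (tt N93045 F447874) (tt N98590 (iv7 F447877)))
theorem Q104908 : ∀ i, i < 104908 → P i := stepQ 104907 Q104907 (allL N104907 (tt N69469 (iv1 D208103)) (tt N120583 (iv0 F521586)) (tt N98590 F447881) (tt N110313 (iv3 F470991)) (tt N114358 (iv4 F489793)) (tt N87732 F447879) (tt N92249 (iv6 F447880)) (tt N104374 F447878))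
theorem Q104909 : ∀ i, i < 104909 → P i := stepQ 104908 Q104908 (allL N104908 (tt N104374 (iv1 F447886)) (tt N98590 F447885) (tt N69469 (iv2 D208104)) (tt N104275 F447882) (tt N104496 F447883) (tt N111862 (iv5 F478368)) (tt N69473 F447884) (tt N120583 (iv7 F521585)))
theorem Q104910 : ∀ i, i < 104910 → P i := stepQ 104909 Q104909 (allL N104909 (tt N79745 (iv1 F447891)) (tt N112393 (iv0 F480902)) (tt N111862 (iv2 F478365)) (tt N69470 F447887) (tt N83522 F447890) (tt N69469 (iv5 D208105)) (tt N79353 F447888) (tt N103375 F447889))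
theorem Q104911 : ∀ i, i < 104911 → P i := stepQ 104910 Q104910 (allL N104910 (tt N70269 (iv1 F447895)) (tt N70273 F447896) (tt N104285 F447892) (tt N69472 (iv3 D208106)) (tt N113149 (iv4 F484201)) (tt N94012 F447893) (tt N82809 (iv6 F447897)) (tt N104283 F447894))
theorem Q104912 : ∀ i, i < 104912 → P i := stepQ 104911 Q104911 (allL N104911 (tt N92928 F447900) (tt N104302 (iv0 F447901)) (tt N104282 F447898) (tt N82809 F447899) (tt N116229 (iv4 F499133)) (tt N115753 (iv5 F496674)) (tt N69472 (iv6 D208107)) (tt N104301 (iv7 F447902)))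
theorem Q104913 : ∀ i, i < 104913 → P i := stepQ 104912 Q104912 (allL N104912 (tt N104832 F447906) (tt N70604 (iv0 F447907)) (tt N104005 F447904) (tt N109060 (iv3 F465151)) (tt N120839 (iv4 F523013)) (tt N69474 (iv5 D208108)) (tt N105887 (iv6 F452189)) (tt N97893 F447905))
theorem Q104914 : ∀ i, i < 104914 → P i := stepQ 104913 Q104913 (allL N104913 (tt N92856 F447912) (tt N97257 (iv0 F447913)) (tt N104008 F447908) (tt N92976 F447909) (tt N119652 (iv4 F516723)) (tt N97825 F447910) (tt N69475 (iv6 D208109)) (tt N97824 F447911))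
theorem Q104915 : ∀ i, i < 104915 → P i := stepQ 104914 Q104914 (allL N104914 (tt N89876 F447918) (tt N89879 (iv0 F447919)) (tt N69479 F447914) (tt N76431 F447915) (tt N86812 F447916) (tt N86032 F447917) (tt N69477 (iv6 D208110)) (tt N117413 (iv7 F504912)))
theorem Q104916 : ∀ i, i < 104916 → P i := stepQ 104915 Q104915 (allL N104915 (tt N86813 F447923) (tt N86814 F447924) (tt N86811 F447920) (tt N115263 (iv3 F494266)) (tt N86504 F447922) (tt N69478 (iv5 D208111)) (tt N121070 D224329) (tt N86808 F447921))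
theorem Q104917 : ∀ i, i < 104917 → P i := stepQ 104916 Q104916 (allL N104916 (tt N117413 (iv1 F504911)) (tt N69479 (iv0 D208112)) (tt N89876 (iv2 F447926)) (tt N109381 F466674) (tt N115367 (iv4 F494833)) (tt N86898 F447925) (tt N108607 (iv6 F463228)) (tt N89879 F447927))
theorem Q104918 : ∀ i, i < 104918 → P i := stepQ 104917 Q104917 (allL N104917 (tt N89879 (iv1 F447930)) (tt N89876 F447931) (tt N117413 (iv2 F504917)) (tt N69481 F447928) (tt N111808 F478081) (tt N115388 (iv5 F494938)) (tt N104003 F447929) (tt N69479 (iv7 D208113)))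
theorem Q104919 : ∀ i, i < 104919 → P i := stepQ 104918 Q104918 (allL N104918 (tt N110978 (iv1 F474052)) (tt N69504 (iv0 F447936)) (tt N86489 F447932) (tt N92202 F447933) (tt N118114 (iv4 F508680)) (tt N78882 F447934) (tt N69482 (iv6 D208114)) (tt N86584 F447935))
theorem Q104920 : ∀ i, i < 104920 → P i := stepQ 104919 Q104919 (allL N104919 (tt N76679 F447941) (tt N101025 F447942) (tt N101047 F447937) (tt N83819 F447938) (tt N89041 F447940) (tt N69485 (iv5 D208115)) (tt N120449 (iv6 F520840)) (tt N89741 F447939))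
theorem Q104921 : ∀ i, i < 104921 → P i := stepQ 104920 Q104920 (allL N104920 (tt N80874 (iv1 F447948)) (tt N80869 F447947) (tt N99746 F447943) (tt N99554 F447944) (tt N105707 (iv4 F451347)) (tt N69486 (iv5 D208116)) (tt N98760 F447945) (tt N76545 F447946))
theorem Q104922 : ∀ i, i < 104922 → P i := stepQ 104921 Q104921 (allL N104921 (tt N76642 F447950) (tt N104081 (iv0 F447951)) (tt N111758 (iv2 F477824)) (tt N86763 F447949) (tt N69487 (iv4 D208117)) (tt N114904 (iv5 F492449)) (tt N86758 F447952) (tt N105910 (iv7 F452303)))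
theorem Q104923 : ∀ i, i < 104923 → P i := stepQ 104922 Q104922 (allL N104922 (tt N83803 (iv1 F447958)) (tt N74798 (iv0 F447956)) (tt N105840 (iv2 F451971)) (tt N70614 F447953) (tt N86758 F447954) (tt N70613 F447955) (tt N69487 (iv6 D208118)) (tt N104839 (iv7 F447957)))
theorem Q104924 : ∀ i, i < 104924 → P i := stepQ 104923 Q104923 (allL N104923 (tt N118100 (iv1 F508592)) (tt N114366 (iv0 F489824)) (tt N86494 F447959) (tt N86591 F447960) (tt N86816 F447962) (tt N69489 (iv5 D208119)) (tt N97307 (iv6 F447963)) (tt N86500 F447961))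
theorem Q104925 : ∀ i, i < 104925 → P i := stepQ 104924 Q104924 (allL N104924 (tt N86560 (iv1 F447967)) (tt N118061 (iv0 F508363)) (tt N86495 F447964) (tt N86494 F447965) (tt N69490 F447966) (tt N86493 (iv5 F447968)) (tt N69489 (iv6 D208120)) (tt N117432 (iv7 F505003)))
theorem Q104926 : ∀ i, i < 104926 → P i := stepQ 104925 Q104925 (allL N104925 (tt N107220 (iv1 F457508)) (tt N98260 (iv0 F447973)) (tt N98286 F447969) (tt N79903 F447970) (tt N89730 F447972) (tt N69491 (iv5 D208121)) (tt N109661 F467979) (tt N98287 F447971))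
theorem Q104927 : ∀ i, i < 104927 → P i := stepQ 104926 Q104926 (allL N104926 (tt N98260 F447977) (tt N107220 (iv0 F457507)) (tt N98287 F447974) (tt N86064 F447975) (tt N118343 (iv4 F509809)) (tt N69492 (iv5 D208122)) (tt N92967 F447978) (tt N98286 F447976))
theorem Q104928 : ∀ i, i < 104928 → P i := stepQ 104927 Q104927 (allL N104927 (tt N114860 (iv1 F492214)) (tt N69503 (iv0 F447982)) (tt N98288 F447979) (tt N117414 (iv3 F504919)) (tt N97169 F447980) (tt N94017 F447981) (tt N69492 (iv6 D208123)) (tt N118097 (iv7 F508569)))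
theorem Q104929 : ∀ i, i < 104929 → P i := stepQ 104928 Q104928 (allL N104928 (tt N100529 F447987) (tt N97197 F447988) (tt N117574 (iv2 F505784)) (tt N69495 (iv3 D208124)) (tt N95869 F447983) (tt N97137 F447984) (tt N86791 F447985) (tt N73632 F447986))
theorem Q104930 : ∀ i, i < 104930 → P i := stepQ 104929 Q104929 (allL N104929 (tt N81584 (iv1 F447993)) (tt N69496 (iv0 D208125)) (tt N81585 (iv2 F447992)) (tt N87211 F447991) (tt N84463 F447990) (tt N87208 F447989) (tt N81583 (iv6 F447996)) (tt N78658 F447994))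
theorem Q104931 : ∀ i, i < 104931 → P i := stepQ 104930 Q104930 (allL N104930 (tt N100524 F447998) (tt N97198 (iv0 F467421)) (tt N119345 F515131) (tt N69497 (iv3 D208126)) (tt N115730 (iv4 F496558)) (tt N109535 (iv5 F467414)) (tt N112424 F481032) (tt N103992 F447997))
theorem Q104932 : ∀ i, i < 104932 → P i := stepQ 104931 Q104931 (allL N104931 (tt N97169 (iv1 F474581)) (tt N111082 (iv0 F474580)) (tt N103991 F447999) (tt N112424 (iv3 F481030)) (tt N87152 F448000) (tt N115844 (iv5 F497195)) (tt N69497 (iv6 D208127)) (tt N115717 (iv7 F496484)))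
theorem Q104933 : ∀ i, i < 104933 → P i := stepQ 104932 Q104932 (allL N104932 (tt N97159 F448004) (tt N111232 (iv0 F475346)) (tt N106717 (iv2 F455383)) (tt N69498 (iv3 D208128)) (tt N108490 (iv4 F462810)) (tt N102961 (iv5 F448003)) (tt N88340 F448001) (tt N103990 F448002))
theorem Q104934 : ∀ i, i < 104934 → P i := stepQ 104933 Q104933 (allL N104933 (tt N92643 F448011) (tt N100648 F448010) (tt N102958 F448005) (tt N102961 F448006) (tt N79944 F448009) (tt N69498 (iv5 D208129)) (tt N102946 F448007) (tt N79940 F448008))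
theorem Q104935 : ∀ i, i < 104935 → P i := stepQ 104934 Q104934 (allL N104934 (tt N97320 (iv1 F448015)) (tt N87595 (iv0 F448014)) (tt N115465 (iv2 F495319)) (tt N84764 F448012) (tt N69503 F448013) (tt N111784 (iv5 F477955)) (tt N69501 (iv6 D208130)) (tt N113668 (iv7 F486551)))
theorem Q104936 : ∀ i, i < 104936 → P i := stepQ 104935 Q104935 (allL N104935 (tt N92936 F448019) (tt N92934 (iv0 F448020)) (tt N91179 F448016) (tt N73867 F448017) (tt N115494 (iv4 F495489)) (tt N118046 (iv5 F508272)) (tt N69502 (iv6 D208131)) (tt N100777 F448018))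
theorem Q104937 : ∀ i, i < 104937 → P i := stepQ 104936 Q104936 (allL N104936 (tt N118097 (iv1 F508571)) (tt N98288 (iv0 F448024)) (tt N114860 (iv2 F492210)) (tt N91214 F448021) (tt N113668 (iv4 F486550)) (tt N69606 F448022) (tt N98282 F448023) (tt N69503 (iv7 D208132)))
theorem Q104938 : ∀ i, i < 104938 → P i := stepQ 104937 Q104937 (allL N104937 (tt N69504 (iv1 D208133)) (tt N110978 (iv0 F474051)) (tt N86584 F448027) (tt N104876 (iv3 F448026)) (tt N115290 (iv4 F494408)) (tt N114081 (iv5 F488503)) (tt N86436 (iv6 F448028)) (tt N86489 F448025))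
theorem Q104939 : ∀ i, i < 104939 → P i := stepQ 104938 Q104938 (allL N104938 (tt N98084 F448030) (tt N115208 F494027) (tt N118099 (iv2 F508579)) (tt N117433 (iv3 F505008)) (tt N69504 (iv4 D208134)) (tt N97314 F448029) (tt N113592 (iv6 F486194)) (tt N119349 (iv7 F515152)))
theorem Q104940 : ∀ i, i < 104940 → P i := stepQ 104939 Q104939 (allL N104939 (tt N111774 (iv1 F477910)) (tt N109018 (iv0 F464955)) (tt N106816 (iv2 F455805)) (tt N105289 (iv3 F449577)) (tt N98481 F448032) (tt N69505 (iv5 D208135)) (tt N91557 F448033) (tt N98131 F448031))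
theorem Q104941 : ∀ i, i < 104941 → P i := stepQ 104940 Q104940 (allL N104940 (tt N70787 F448036) (tt N104194 (iv0 F448037)) (tt N117352 (iv2 F504620)) (tt N104853 F448034) (tt N103868 F448038) (tt N69507 (iv5 D208136)) (tt N100775 F448035) (tt N104855 (iv7 F448039)))
theorem Q104942 : ∀ i, i < 104942 → P i := stepQ 104941 Q104941 (allL N104941 (tt N92206 (iv1 F448044)) (tt N86571 F448045) (tt N98282 F448040) (tt N86548 F448041) (tt N88296 F448042) (tt N104855 F448043) (tt N114860 (iv6 F492212)) (tt N69507 (iv7 D208137)))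
theorem Q104943 : ∀ i, i < 104943 → P i := stepQ 104942 Q104942 (allL N104942 (tt N102936 F448050) (tt N87515 (iv0 F448051)) (tt N102937 F448046) (tt N75706 F448047) (tt N109165 (iv4 F465644)) (tt N87540 F448048) (tt N69508 (iv6 D208138)) (tt N75696 F448049))
theorem Q104944 : ∀ i, i < 104944 → P i := stepQ 104943 Q104943 (allL N104943 (tt N69511 (iv1 D208139)) (tt N76556 F448052) (tt N96490 F448057) (tt N98519 (iv3 F448055)) (tt N80875 F448054) (tt N100205 (iv5 F448056)) (tt N80874 F448058) (tt N100763 F448053))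
theorem Q104945 : ∀ i, i < 104945 → P i := stepQ 104944 Q104944 (allL N104944 (tt N96782 F448062) (tt N104092 (iv0 F448063)) (tt N104062 F448059) (tt N78631 F448060) (tt N115752 (iv4 F496668)) (tt N114072 (iv5 F488448)) (tt N69513 (iv6 D208140)) (tt N97939 F448061))
theorem Q104946 : ∀ i, i < 104946 → P i := stepQ 104945 Q104945 (allL N104945 (tt N114965 (iv1 F492803)) (tt N85035 (iv0 F448067)) (tt N69516 F448064) (tt N104052 F448065) (tt N104275 F448066) (tt N105928 (iv5 F452383)) (tt N69514 (iv6 D208141)) (tt N114964 (iv7 F492793)))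
theorem Q104947 : ∀ i, i < 104947 → P i := stepQ 104946 Q104946 (allL N104946 (tt N114964 (iv1 F492792)) (tt N69516 (iv0 D208142)) (tt N114965 (iv2 F492798)) (tt N85037 F448068) (tt N102334 F448069) (tt N107920 (iv5 F460293)) (tt N98409 F448070) (tt N85035 (iv7 F448071)))
theorem Q104948 : ∀ i, i < 104948 → P i := stepQ 104947 Q104947 (allL N104947 (tt N86748 F448074) (tt N86745 F448081) (tt N105928 F452384) (tt N69519 F448072) (tt N82904 F448083) (tt N69516 (iv5 D208143)) (tt N103106 F448073) (tt N82900 (iv7 F448082)))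
theorem Q104949 : ∀ i, i < 104949 → P i := stepQ 104948 Q104948 (allL N104948 (tt N85035 (iv1 F448090)) (tt N114965 F492802) (tt N114964 (iv2 F492796)) (tt N69520 F448086) (tt N104278 F448087) (tt N82900 F448088) (tt N70744 F448089) (tt N69516 (iv7 D208144)))
theorem Q104950 : ∀ i, i < 104950 → P i := stepQ 104949 Q104949 (allL N104949 (tt N106543 F454827) (tt N111259 (iv0 F475491)) (tt N98566 F448092) (tt N69517 (iv3 D208145)) (tt N104104 F448093) (tt N99796 F448094) (tt N92225 F448095) (tt N104058 F448096))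
theorem Q104951 : ∀ i, i < 104951 → P i := stepQ 104950 Q104950 (allL N104950 (tt N77208 F448103) (tt N115800 F496960) (tt N104068 F448098) (tt N88691 F448099) (tt N69522 (iv4 D208146)) (tt N104070 F448102) (tt N87035 F448100) (tt N97934 F448101))
theorem Q104952 : ∀ i, i < 104952 → P i := stepQ 104951 Q104951 (allL N104951 (tt N104160 F448108) (tt N104172 (iv0 F448109)) (tt N69525 F448104) (tt N98062 F448105) (tt N105108 (iv4 F448829)) (tt N96613 F448106) (tt N69523 (iv6 D208147)) (tt N104173 F448107))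
theorem Q104953 : ∀ i, i < 104953 → P i := stepQ 104952 Q104952 (allL N104952 (tt N98093 F448114) (tt N98113 (iv0 F448115)) (tt N98111 F448110) (tt N69526 F448111) (tt N117247 (iv4 F504102)) (tt N96625 F448112) (tt N69524 (iv6 D208148)) (tt N98098 F448113))
theorem Q104954 : ∀ i, i < 104954 → P i := stepQ 104953 Q104953 (allL N104953 (tt N69525 (iv1 D208149)) (tt N104173 F448116) (tt N104172 (iv2 F448121)) (tt N73882 (iv3 F448119)) (tt N73884 (iv4 F448120)) (tt N96689 F448118) (tt N105781 F451686) (tt N104160 F448117))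
theorem Q104955 : ∀ i, i < 104955 → P i := stepQ 104954 Q104954 (allL N104954 (tt N76568 F448126) (tt N76571 F448127) (tt N76659 F448122) (tt N96625 F448123) (tt N95945 F448128) (tt N69526 (iv5 D208150)) (tt N69527 F448124) (tt N76658 F448125))
theorem Q104956 : ∀ i, i < 104956 → P i := stepQ 104955 Q104955 (allL N104955 (tt N111235 (iv1 F475360)) (tt N69528 (iv0 D208151)) (tt N111221 (iv2 F475281)) (tt N115343 (iv3 F494696)) (tt N117692 (iv4 F506448)) (tt N92862 F448130) (tt N92650 F448129) (tt N111223 (iv7 F475292)))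
theorem Q104957 : ∀ i, i < 104957 → P i := stepQ 104956 Q104956 (allL N104956 (tt N111223 F475294) (tt N111221 (iv0 F475285)) (tt N111235 (iv2 F475355)) (tt N69530 F448131) (tt N103494 F448132) (tt N105677 (iv5 F451211)) (tt N70738 F448133) (tt N69528 (iv7 D208152)))
theorem Q104958 : ∀ i, i < 104958 → P i := stepQ 104957 Q104957 (allL N104957 (tt N89752 F448135) (tt N70783 F448136) (tt N104071 F448134) (tt N119029 (iv3 F513372)) (tt N69529 (iv4 D208153)) (tt N112999 (iv5 F483497)) (tt N109844 (iv6 F468868)) (tt N105678 (iv7 F451218)))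
theorem Q104959 : ∀ i, i < 104959 → P i := stepQ 104958 Q104958 (allL N104958 (tt N93321 F448141) (tt N85365 F448142) (tt N104075 F448137) (tt N78879 F448138) (tt N107811 (iv4 F459801)) (tt N69531 (iv5 D208154)) (tt N85302 F448139) (tt N104167 F448140))
theorem Q104960 : ∀ i, i < 104960 → P i := stepQ 104959 Q104959 (allL N104959 (tt N109861 F468969) (tt N75098 (iv0 F448146)) (tt N114412 F490023) (tt N69533 F448143) (tt N104586 F448144) (tt N104168 F448145) (tt N69532 (iv6 D208155)) (tt N105671 (iv7 F451183)))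
theorem Q104961 : ∀ i, i < 104961 → P i := stepQ 104960 Q104960 (allL N104960 (tt N104768 F448151) (tt N104760 F448152) (tt N104074 F448147) (tt N104168 F448148) (tt N96717 F448150) (tt N69533 (iv5 D208156)) (tt N112357 (iv6 F480726)) (tt N104766 F448149))
theorem Q104962 : ∀ i, i < 104962 → P i := stepQ 104961 Q104961 (allL N104961 (tt N76667 (iv1 F448157)) (tt N76572 F448158) (tt N76665 F448153) (tt N85811 F448154) (tt N117673 (iv4 F506345)) (tt N75062 F448155) (tt N104080 F448156) (tt N69534 (iv7 D208157)))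
theorem Q104963 : ∀ i, i < 104963 → P i := stepQ 104962 Q104962 (allL N104962 (tt N83073 (iv1 F448161)) (tt N69537 (iv0 D208158)) (tt N101908 (iv2 F448162)) (tt N106163 (iv3 F453403)) (tt N90333 F448160) (tt N71232 F448159) (tt N106791 F455694) (tt N101907 F448169))
theorem Q104964 : ∀ i, i < 104964 → P i := stepQ 104963 Q104963 (allL N104963 (tt N69537 (iv1 D208159)) (tt N83073 (iv0 F448168)) (tt N101907 F448166) (tt N108392 (iv3 F462383)) (tt N90332 F448164) (tt N71233 F448167) (tt N99893 (iv6 F448165)) (tt N101908 F448163))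
theorem Q104965 : ∀ i, i < 104965 → P i := stepQ 104964 Q104964 (allL N104964 (tt N101908 (iv1 F448175)) (tt N101907 F448174) (tt N69537 (iv2 D208160)) (tt N101911 F448170) (tt N70218 F448171) (tt N91677 F448172) (tt N106499 (iv6 F454671)) (tt N83073 F448173))
theorem Q104966 : ∀ i, i < 104966 → P i := stepQ 104965 Q104965 (allL N104965 (tt N117272 (iv1 F504217)) (tt N114029 (iv0 F488273)) (tt N103347 (iv2 F448178)) (tt N69538 (iv3 D208161)) (tt N74230 F448176) (tt N106367 (iv5 F454170)) (tt N106490 (iv6 F454656)) (tt N103348 F448177))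
theorem Q104967 : ∀ i, i < 104967 → P i := stepQ 104966 Q104966 (allL N104966 (tt N97932 F448184) (tt N97912 (iv0 F448185)) (tt N97933 F448179) (tt N69543 (iv3 D208162)) (tt N69788 F448180) (tt N80901 F448181) (tt N86583 F448182) (tt N71779 F448183))
theorem Q104968 : ∀ i, i < 104968 → P i := stepQ 104967 Q104967 (allL N104967 (tt N100789 F448188) (tt N105454 F450336) (tt N105385 (iv2 F449996)) (tt N69548 (iv3 D208163)) (tt N69550 F448186) (tt N114644 F491168) (tt N106547 (iv6 F454835)) (tt N71800 F448187))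
theorem Q104969 : ∀ i, i < 104969 → P i := stepQ 104968 Q104968 (allL N104968 (tt N98566 F448190) (tt N104058 (iv0 F448191)) (tt N111259 (iv2 F475488)) (tt N69551 F448189) (tt N106547 (iv4 F454834)) (tt N105913 (iv5 F452316)) (tt N69550 (iv6 D208164)) (tt N106543 (iv7 F454825)))
theorem Q104970 : ∀ i, i < 104970 → P i := stepQ 104969 Q104969 (allL N104969 (tt N117416 F504935) (tt N86126 F448198) (tt N98505 F448195) (tt N105913 (iv3 F452320)) (tt N118241 (iv4 F509321)) (tt N69551 (iv5 D208165)) (tt N98503 F448196) (tt N86173 F448197))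
theorem Q104971 : ∀ i, i < 104971 → P i := stepQ 104970 Q104970 (allL N104970 (tt N112737 (iv1 F482446)) (tt N90581 F448204) (tt N73911 F448199) (tt N101173 F448200) (tt N69559 (iv4 D208166)) (tt N73910 F448201) (tt N89150 F448202) (tt N75563 F448203))
theorem Q104972 : ∀ i, i < 104972 → P i := stepQ 104971 Q104971 (allL N104971 (tt N90700 F448207) (tt N94230 (iv0 F448208)) (tt N106180 (iv2 F453485)) (tt N69562 (iv3 D208167)) (tt N101853 F448205) (tt N120264 (iv5 F519893)) (tt N107569 (iv6 F458785)) (tt N89183 F448206))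
theorem Q104973 : ∀ i, i < 104973 → P i := stepQ 104972 Q104972 (allL N104972 (tt N109726 F468305) (tt N89618 (iv0 F448213)) (tt N86207 F448209) (tt N69569 (iv3 D208168)) (tt N70178 F448210) (tt N98362 F448211) (tt N93990 F448214) (tt N104139 F448212))
theorem Q104974 : ∀ i, i < 104974 → P i := stepQ 104973 Q104973 (allL N104973 (tt N71309 F448220) (tt N98137 (iv0 F448221)) (tt N104030 F448216) (tt N93990 F448217) (tt N69570 F448218) (tt N93989 F448219) (tt N69569 (iv6 D208169)) (tt N109846 (iv7 F468881)))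
theorem Q104975 : ∀ i, i < 104975 → P i := stepQ 104974 Q104974 (allL N104974 (tt N107254 F457664) (tt N69570 (iv0 D208170)) (tt N120264 F519897) (tt N105579 F457666) (tt N105811 F451835) (tt N106180 (iv5 F457665)) (tt N105810 (iv6 F451836)) (tt N109847 (iv7 F468888)))
theorem Q104976 : ∀ i, i < 104976 → P i := stepQ 104975 Q104975 (allL N104975 (tt N69570 (iv1 D208171)) (tt N107254 (iv0 F457662)) (tt N109847 (iv2 F468886)) (tt N89184 (iv3 F448223)) (tt N76225 (iv4 F448224)) (tt N89183 F448222) (tt N76224 (iv6 F448225)) (tt N120264 (iv7 F519899)))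
theorem Q104977 : ∀ i, i < 104977 → P i := stepQ 104976 Q104976 (allL N104976 (tt N109847 (iv1 F468890)) (tt N120264 F519898) (tt N107254 (iv2 F457658)) (tt N90701 F448226) (tt N109846 F468884) (tt N94286 F448227) (tt N104144 F448228) (tt N69570 (iv7 D208172)))
theorem Q104978 : ∀ i, i < 104978 → P i := stepQ 104977 Q104977 (allL N104977 (tt N88996 F448232) (tt N88993 (iv0 F448233)) (tt N94150 F448229) (tt N69571 (iv3 D208173)) (tt N107604 (iv4 F458906)) (tt N106615 (iv5 F455059)) (tt N89666 F448230) (tt N75979 F448231))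
theorem Q104979 : ∀ i, i < 104979 → P i := stepQ 104978 Q104978 (allL N104978 (tt N101439 F448236) (tt N89901 F448237) (tt N89167 F448234) (tt N106615 F455060) (tt N116199 (iv4 F498970)) (tt N69571 (iv5 D208174)) (tt N106565 F454886) (tt N100932 F448235))
theorem Q104980 : ∀ i, i < 104980 → P i := stepQ 104979 Q104979 (allL N104979 (tt N76366 (iv1 F448242)) (tt N109755 (iv0 F468467)) (tt N83751 F448238) (tt N69583 (iv3 D208175)) (tt N79090 F448239) (tt N104201 F448240) (tt N105906 F452285) (tt N98359 F448241))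
theorem Q104981 : ∀ i, i < 104981 → P i := stepQ 104980 Q104980 (allL N104980 (tt N98191 F448248) (tt N96706 F448247) (tt N83752 F448243) (tt N69586 F448244) (tt N101061 F448249) (tt N69585 (iv5 D208176)) (tt N104768 F448245) (tt N83754 F448246))
theorem Q104982 : ∀ i, i < 104982 → P i := stepQ 104981 Q104981 (allL N104981 (tt N69590 F448254) (tt N78534 F448255) (tt N86656 F448250) (tt N69589 (iv3 D208177)) (tt N96890 F448251) (tt N105909 (iv5 F452295)) (tt N74802 F448252) (tt N87529 F448253))
theorem Q104983 : ∀ i, i < 104983 → P i := stepQ 104982 Q104982 (allL N104982 (tt N86656 (iv1 F448261)) (tt N87529 F448262) (tt N78534 F448256) (tt N69608 F448257) (tt N78531 F448258) (tt N69591 F448259) (tt N88947 F448260) (tt N69590 (iv7 D208178)))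
theorem Q104984 : ∀ i, i < 104984 → P i := stepQ 104983 Q104983 (allL N104983 (tt N113677 (iv1 F486592)) (tt N113561 (iv0 F486039)) (tt N69595 F448263) (tt N113596 (iv3 F486217)) (tt N83753 F448264) (tt N81188 F448265) (tt N69594 (iv6 D208179)) (tt N113594 (iv7 F486207)))
theorem Q104985 : ∀ i, i < 104985 → P i := stepQ 104984 Q104984 (allL N104984 (tt N113594 (iv1 F486209)) (tt N69595 (iv0 D208180)) (tt N113677 (iv2 F486588)) (tt N84681 F448267) (tt N85759 F448266) (tt N121071 D224330) (tt N85757 (iv6 F448268)) (tt N113561 (iv7 F486038)))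
theorem Q104986 : ∀ i, i < 104986 → P i := stepQ 104985 Q104985 (allL N104985 (tt N69595 (iv1 D208181)) (tt N113594 (iv0 F486208)) (tt N113561 (iv2 F486037)) (tt N86907 (iv3 F448269)) (tt N104126 (iv4 F448270)) (tt N118729 (iv5 F511778)) (tt N99719 (iv6 F448271)) (tt N113677 (iv7 F486590)))
theorem Q104987 : ∀ i, i < 104987 → P i := stepQ 104986 Q104986 (allL N104986 (tt N80818 F448277) (tt N81189 F448278) (tt N81188 F448272) (tt N69598 F448273) (tt N100552 F448276) (tt N69595 (iv5 D208182)) (tt N97138 F448274) (tt N81187 F448275))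
theorem Q104988 : ∀ i, i < 104988 → P i := stepQ 104987 Q104987 (allL N104987 (tt N81642 F448280) (tt N108550 F463047) (tt N108552 (iv2 F463050)) (tt N69596 (iv3 D208183)) (tt N96769 F448279) (tt N120932 (iv5 F523555)) (tt N115839 (iv6 F497167)) (tt N108543 F463024))
theorem Q104989 : ∀ i, i < 104989 → P i := stepQ 104988 Q104988 (allL N104988 (tt N119331 (iv1 F515062)) (tt N121072 D224331) (tt N118981 (iv2 F513101)) (tt N120932 (iv3 F523553)) (tt N111464 (iv4 F476463)) (tt N69596 (iv5 D208184)) (tt N115504 (iv6 F495535)) (tt N118982 (iv7 F513108)))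
theorem Q104990 : ∀ i, i < 104990 → P i := stepQ 104989 Q104989 (allL N104989 (tt N108499 (iv1 F462857)) (tt N108498 (iv0 F462856)) (tt N108500 (iv2 F462862)) (tt N115839 (iv3 F497166)) (tt N93905 F448281) (tt N104891 F448282) (tt N69596 (iv6 D208185)) (tt N108493 (iv7 F462824)))
theorem Q104991 : ∀ i, i < 104991 → P i := stepQ 104990 Q104990 (allL N104990 (tt N121072 (iv1 F524367)) (tt N119331 (iv0 F515061)) (tt N118982 (iv2 F513106)) (tt N99646 F448283) (tt N111466 (iv4 F476469)) (tt N69597 (iv5 D208186)) (tt N99645 F448284) (tt N118981 (iv7 F513104)))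
theorem Q104992 : ∀ i, i < 104992 → P i := stepQ 104991 Q104991 (allL N104991 (tt N91763 (iv1 F448295)) (tt N69598 (iv0 D208187)) (tt N118983 F513113) (tt N121073 D224332) (tt N111468 (iv4 F476640)) (tt N115717 (iv5 F496485)) (tt N119337 F515101) (tt N115844 F497198))
theorem Q104993 : ∀ i, i < 104993 → P i := stepQ 104992 Q104992 (allL N104992 (tt N69598 (iv1 D208188)) (tt N91763 F448285) (tt N115844 (iv2 F497193)) (tt N117660 (iv3 F506268)) (tt N87181 F448288) (tt N103991 (iv5 F448287)) (tt N79939 (iv6 F448286)) (tt N118983 (iv7 F513115)))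
theorem Q104994 : ∀ i, i < 104994 → P i := stepQ 104993 Q104993 (allL N104993 (tt N115655 F496175) (tt N111304 (iv0 F475730)) (tt N115654 F496167) (tt N88027 F448289) (tt N69598 (iv4 D208189)) (tt N111065 (iv5 F474493)) (tt N97139 F448290) (tt N114126 (iv7 F488663)))
theorem Q104995 : ∀ i, i < 104995 → P i := stepQ 104994 Q104994 (allL N104994 (tt N115844 F497197) (tt N118983 F513114) (tt N91763 F448291) (tt N81187 F448292) (tt N114126 (iv4 F488661)) (tt N69599 F448293) (tt N91761 F448294) (tt N69598 (iv7 D208190)))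
theorem Q104996 : ∀ i, i < 104996 → P i := stepQ 104995 Q104995 (allL N104995 (tt N86842 F448299) (tt N117414 (iv0 F504923)) (tt N114075 (iv2 F488464)) (tt N69602 F448296) (tt N92961 F448298) (tt N69600 (iv5 D208191)) (tt N114074 (iv6 F488463)) (tt N95891 F448297))
theorem Q104997 : ∀ i, i < 104997 → P i := stepQ 104996 Q104996 (allL N104996 (tt N105846 (iv1 F452007)) (tt N118421 (iv0 F510265)) (tt N109055 (iv2 F465131)) (tt N69603 F448300) (tt N113675 (iv4 F486581)) (tt N97054 F448301) (tt N69600 (iv6 D208192)) (tt N108778 (iv7 F463886)))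
theorem Q104998 : ∀ i, i < 104998 → P i := stepQ 104997 Q104997 (allL N104997 (tt N111636 (iv1 F477248)) (tt N115719 (iv0 F496498)) (tt N118394 (iv2 F510112)) (tt N113676 (iv3 F486586)) (tt N119441 (iv4 F515642)) (tt N69601 (iv5 D208193)) (tt N115873 (iv6 F497335)) (tt N118395 (iv7 F510122)))
theorem Q104999 : ∀ i, i < 104999 → P i := stepQ 104998 Q104998 (allL N104998 (tt N119652 (iv1 F516720)) (tt N119651 F516716) (tt N108783 (iv2 F463910)) (tt N95431 F448302) (tt N69603 F448303) (tt N95430 (iv5 F448304)) (tt N69601 (iv6 D208194)) (tt N108276 (iv7 F461829)))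
theorem Q105000 : ∀ i, i < 105000 → P i := stepQ 104999 Q104999 (allL N104999 (tt N115309 (iv1 F494510)) (tt N86590 (iv0 F448308)) (tt N86553 F448306) (tt N115316 (iv3 F494549)) (tt N69604 (iv4 D208195)) (tt N115316 (iv5 F494551)) (tt N119648 (iv6 F516702)) (tt N86652 F448307))
theorem Q105001 : ∀ i, i < 105001 → P i := stepQ 105000 Q105000 (allL N105000 (tt N97302 F448310) (tt N121074 D224333) (tt N108274 (iv2 F461822)) (tt N69605 (iv3 D208196)) (tt N115316 (iv4 F494550)) (tt N115950 (iv5 F497740)) (tt N71624 F448309) (tt N118393 (iv7 F510109)))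
theorem Q105002 : ∀ i, i < 105002 → P i := stepQ 105001 Q105001 (allL N105001 (tt N115719 (iv1 F496499)) (tt N111636 (iv0 F477247)) (tt N118395 (iv2 F510119)) (tt N115950 (iv3 F497738)) (tt N118964 (iv4 F513008)) (tt N69605 (iv5 D208197)) (tt N115949 (iv6 F497736)) (tt N118394 (iv7 F510115)))
theorem Q105003 : ∀ i, i < 105003 → P i := stepQ 105002 Q105002 (allL N105002 (tt N92962 F448314) (tt N115375 (iv0 F494881)) (tt N103467 F448311) (tt N86532 F448312) (tt N103285 F448313) (tt N78953 F448315) (tt N69606 (iv6 D208198)) (tt N103464 (iv7 F448316)))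
theorem Q105004 : ∀ i, i < 105004 → P i := stepQ 105003 Q105003 (allL N105003 (tt N100771 (iv1 F448319)) (tt N76387 (iv0 F448320)) (tt N118046 (iv2 F508269)) (tt N91180 F448317) (tt N114246 (iv4 F489194)) (tt N91179 F448318) (tt N69607 (iv6 D208199)) (tt N118098 (iv7 F508573)))
theorem Q105005 : ∀ i, i < 105005 → P i := stepQ 105004 Q105004 (allL N105004 (tt N81869 (iv1 F448327)) (tt N81866 F448326) (tt N69611 (iv2 D208200)) (tt N76478 F448321) (tt N94143 F448322) (tt N88863 F448323) (tt N81369 F448324) (tt N79113 F448325))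
theorem Q105006 : ∀ i, i < 105006 → P i := stepQ 105005 Q105005 (allL N105005 (tt N100616 F448331) (tt N101164 (iv0 F448332)) (tt N101166 F448328) (tt N89641 F448329) (tt N121075 D224334) (tt N69612 (iv5 D208201)) (tt N120954 (iv6 F523674)) (tt N101010 F448330))
theorem Q105007 : ∀ i, i < 105007 → P i := stepQ 105006 Q105006 (allL N105006 (tt N78815 F448336) (tt N116125 (iv0 F498607)) (tt N121076 D224335) (tt N69613 (iv3 D208202)) (tt N70186 F448333) (tt N98359 F448334) (tt N109376 (iv6 F466655)) (tt N104201 F448335))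
theorem Q105008 : ∀ i, i < 105008 → P i := stepQ 105007 Q105007 (allL N105007 (tt N105673 (iv1 F451193)) (tt N89873 (iv0 F448341)) (tt N101361 F448337) (tt N109376 F466653) (tt N69614 F448338) (tt N70632 F448339) (tt N69613 (iv6 D208203)) (tt N70631 F448340))
theorem Q105009 : ∀ i, i < 105009 → P i := stepQ 105008 Q105008 (allL N105008 (tt N101365 (iv1 F448348)) (tt N69614 (iv0 D208204)) (tt N101362 (iv2 F448345)) (tt N107983 (iv3 F460591)) (tt N105916 (iv4 F452336)) (tt N107982 F460589) (tt N107255 F457671) (tt N101363 (iv7 F448346)))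
theorem Q105010 : ∀ i, i < 105010 → P i := stepQ 105009 Q105009 (allL N105009 (tt N69614 (iv1 D208205)) (tt N101365 F448342) (tt N101363 F448347) (tt N96700 (iv3 F448343)) (tt N105915 (iv4 F452326)) (tt N109215 (iv5 F465814)) (tt N114941 (iv6 F492662)) (tt N101362 F448344))
theorem Q105011 : ∀ i, i < 105011 → P i := stepQ 105010 Q105010 (allL N105010 (tt N101363 (iv1 F448352)) (tt N101362 F448353) (tt N101365 F448349) (tt N106236 F489738) (tt N70631 F448350) (tt N120917 (iv5 F523462)) (tt N70638 F448351) (tt N69614 (iv7 D208206)))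
theorem Q105012 : ∀ i, i < 105012 → P i := stepQ 105011 Q105011 (allL N105011 (tt N76636 F448358) (tt N76639 F448359) (tt N91203 F448354) (tt N69622 (iv3 D208207)) (tt N104188 F448355) (tt N74940 F448356) (tt N78294 (iv6 F448360)) (tt N74476 F448357))
theorem Q105013 : ∀ i, i < 105013 → P i := stepQ 105012 Q105012 (allL N105012 (tt N94132 F448366) (tt N94142 F448367) (tt N94140 F448361) (tt N78294 F448362) (tt N69623 F448363) (tt N74941 F448364) (tt N69622 (iv6 D208208)) (tt N94139 F448365))
theorem Q105014 : ∀ i, i < 105014 → P i := stepQ 105013 Q105013 (allL N105013 (tt N69623 (iv1 D208209)) (tt N75549 F448368) (tt N104208 F448373) (tt N97192 F448374) (tt N104012 (iv4 F448370)) (tt N114594 (iv5 F490926)) (tt N87580 (iv6 F448371)) (tt N104010 F448369))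
theorem Q105015 : ∀ i, i < 105015 → P i := stepQ 105014 Q105014 (allL N105014 (tt N104208 (iv1 F448379)) (tt N104010 F448380) (tt N75549 F448375) (tt N109751 (iv3 F468441)) (tt N94139 F448376) (tt N75530 F448377) (tt N75533 F448378) (tt N69623 (iv7 D208210)))
theorem Q105016 : ∀ i, i < 105016 → P i := stepQ 105015 Q105015 (allL N105015 (tt N98280 F448386) (tt N108356 (iv0 F462227)) (tt N74474 F448381) (tt N91207 F448382) (tt N69626 F448383) (tt N74473 (iv5 F448384)) (tt N69625 (iv6 D208211)) (tt N75559 F448385))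
theorem Q105017 : ∀ i, i < 105017 → P i := stepQ 105016 Q105016 (allL N105016 (tt N75533 (iv1 F448391)) (tt N69626 (iv0 D208212)) (tt N75558 (iv2 F448392)) (tt N73673 F448389) (tt N92247 F448388) (tt N98755 F448387) (tt N98756 F448390) (tt N75557 (iv7 F448393)))
theorem Q105018 : ∀ i, i < 105018 → P i := stepQ 105017 Q105017 (allL N105017 (tt N69626 (iv1 D208213)) (tt N75533 F448394) (tt N75557 F448399) (tt N85789 (iv3 F448397)) (tt N107004 (iv4 F456612)) (tt N85788 F448396) (tt N86453 (iv6 F448398)) (tt N75558 F448395))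
theorem Q105019 : ∀ i, i < 105019 → P i := stepQ 105018 Q105018 (allL N105018 (tt N87576 (iv1 F448403)) (tt N69634 (iv0 D208214)) (tt N87575 (iv2 F448405)) (tt N98363 F448402) (tt N86660 F448401) (tt N93991 F448400) (tt N98362 (iv6 F448404)) (tt N87574 (iv7 F448406)))
theorem Q105020 : ∀ i, i < 105020 → P i := stepQ 105019 Q105019 (allL N105019 (tt N69634 (iv1 D208215)) (tt N87576 F448407) (tt N87574 (iv2 F448410)) (tt N83822 F468080) (tt N86659 F448409) (tt N115478 (iv5 F495387)) (tt N83820 (iv6 F468079)) (tt N87575 F448408))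
theorem Q105021 : ∀ i, i < 105021 → P i := stepQ 105020 Q105020 (allL N105020 (tt N73947 F448414) (tt N108404 F462442) (tt N75961 F448411) (tt N89200 F448415) (tt N69637 (iv4 D208216)) (tt N111834 (iv5 F478212)) (tt N72384 F448412) (tt N73848 F448413))
theorem Q105022 : ∀ i, i < 105022 → P i := stepQ 105021 Q105021 (allL N105021 (tt N69644 (iv1 D208217)) (tt N81663 F448416) (tt N94135 F448420) (tt N81681 (iv3 F448419)) (tt N82956 (iv4 F448418)) (tt N107623 (iv5 F458975)) (tt N109465 (iv6 F467103)) (tt N81686 F448417))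
theorem Q105023 : ∀ i, i < 105023 → P i := stepQ 105022 Q105022 (allL N105022 (tt N100839 F448425) (tt N100838 F448426) (tt N82245 F448422) (tt N82255 F448423) (tt N112895 (iv4 F483171)) (tt N69649 (iv5 D208218)) (tt N114294 (iv6 F489441)) (tt N100957 F448424))
theorem Q105024 : ∀ i, i < 105024 → P i := stepQ 105023 Q105023 (allL N105023 (tt N94134 F448431) (tt N103011 (iv0 F448433)) (tt N101181 F448427) (tt N69651 (iv3 D208219)) (tt N100312 F448432) (tt N103003 F448428) (tt N81664 F448429) (tt N103060 F448430))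
theorem Q105025 : ∀ i, i < 105025 → P i := stepQ 105024 Q105024 (allL N105024 (tt N74821 F448438) (tt N91308 (iv0 F448439)) (tt N80145 F448434) (tt N100781 F448435) (tt N69661 F448436) (tt N115056 (iv5 F493263)) (tt N69660 (iv6 D208220)) (tt N100017 F448437))
theorem Q105026 : ∀ i, i < 105026 → P i := stepQ 105025 Q105025 (allL N105025 (tt N75924 F448444) (tt N112666 (iv0 F482085)) (tt N107142 (iv2 F457174)) (tt N69674 F448440) (tt N100282 F448441) (tt N80142 F448442) (tt N69673 (iv6 D208221)) (tt N75820 F448443))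
theorem Q105027 : ∀ i, i < 105027 → P i := stepQ 105026 Q105026 (allL N105026 (tt N88538 F448449) (tt N83168 (iv0 F448450)) (tt N88536 F448445) (tt N69681 (iv3 D208222)) (tt N80501 F448446) (tt N77633 F448447) (tt N107624 (iv6 F458983)) (tt N88537 F448448))
theorem Q105028 : ∀ i, i < 105028 → P i := stepQ 105027 Q105027 (allL N105027 (tt N96473 (iv1 F448454)) (tt N69687 (iv0 D208223)) (tt N96423 (iv2 F448453)) (tt N118204 F509132) (tt N98642 F448452) (tt N95777 F448451) (tt N114982 (iv6 F492901)) (tt N96421 F448455))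
theorem Q105029 : ∀ i, i < 105029 → P i := stepQ 105028 Q105028 (allL N105028 (tt N96479 (iv1 F448457)) (tt N69688 (iv0 D208224)) (tt N96478 (iv2 F448458)) (tt N110492 (iv3 F471824)) (tt N96001 F448456) (tt N118801 (iv5 F512145)) (tt N110039 (iv6 F469672)) (tt N95703 (iv7 F448459)))
theorem Q105030 : ∀ i, i < 105030 → P i := stepQ 105029 Q105029 (allL N105029 (tt N69688 (iv1 D208225)) (tt N96479 F448460) (tt N95703 F448465) (tt N110042 (iv3 F469687)) (tt N96002 F448462) (tt N80589 F448463) (tt N95699 (iv6 F448464)) (tt N96478 F448461))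
theorem Q105031 : ∀ i, i < 105031 → P i := stepQ 105030 Q105030 (allL N105030 (tt N99719 (iv1 F448470)) (tt N108734 (iv0 F463751)) (tt N98277 F448466) (tt N92800 F448467) (tt N91207 F448468) (tt N69689 (iv5 D208226)) (tt N86849 F448469) (tt N107279 (iv7 F457769)))
theorem Q105032 : ∀ i, i < 105032 → P i := stepQ 105031 Q105031 (allL N105031 (tt N73705 F448476) (tt N117157 (iv0 F503677)) (tt N96604 F448471) (tt N91643 F448472) (tt N69691 F448473) (tt N95528 (iv5 F448475)) (tt N69689 (iv6 D208227)) (tt N96610 (iv7 F448474)))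
theorem Q105033 : ∀ i, i < 105033 → P i := stepQ 105032 Q105032 (allL N105032 (tt N105108 (iv1 F448830)) (tt N70316 (iv0 F448478)) (tt N105110 (iv2 F448839)) (tt N73422 F448477) (tt N114914 (iv4 F492505)) (tt N69691 (iv5 D208228)) (tt N115083 (iv6 F493402)) (tt N105109 F448835))
theorem Q105034 : ∀ i, i < 105034 → P i := stepQ 105033 Q105033 (allL N105033 (tt N90020 F448482) (tt N73436 F448483) (tt N85407 F448479) (tt N69694 F448480) (tt N107296 (iv4 F457852)) (tt N69692 (iv5 D208229)) (tt N84859 F448481) (tt N107281 (iv7 F457777)))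
theorem Q105035 : ∀ i, i < 105035 → P i := stepQ 105034 Q105034 (allL N105034 (tt N108734 (iv1 F463752)) (tt N99719 F448487) (tt N107279 (iv2 F457767)) (tt N74021 F448484) (tt N74461 F448486) (tt N69693 (iv5 D208230)) (tt N113836 F487365) (tt N98277 F448485))
theorem Q105036 : ∀ i, i < 105036 → P i := stepQ 105035 Q105035 (allL N105035 (tt N112124 F479612) (tt N110032 (iv0 F469650)) (tt N89914 F448488) (tt N74022 F448489) (tt N69695 F448490) (tt N87259 F448491) (tt N69693 (iv6 D208231)) (tt N89916 (iv7 F448492)))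
theorem Q105037 : ∀ i, i < 105037 → P i := stepQ 105036 Q105036 (allL N105036 (tt N109214 (iv1 F465813)) (tt N85601 (iv0 F448496)) (tt N99775 F448493) (tt N100563 (iv3 F448497)) (tt N69694 (iv4 D208232)) (tt N92198 F448494) (tt N85577 (iv6 F448498)) (tt N84063 F448495))
theorem Q105038 : ∀ i, i < 105038 → P i := stepQ 105037 Q105037 (allL N105037 (tt N89091 F448503) (tt N120432 (iv0 F520756)) (tt N107280 (iv2 F457771)) (tt N84859 F448499) (tt N85577 F448500) (tt N86332 F448501) (tt N69694 (iv6 D208233)) (tt N85400 F448502))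
theorem Q105039 : ∀ i, i < 105039 → P i := stepQ 105038 Q105038 (allL N105038 (tt N99504 (iv1 F448509)) (tt N99526 F448510) (tt N99525 F448504) (tt N85930 F448505) (tt N89916 F448506) (tt N85929 F448507) (tt N91448 F448508) (tt N69695 (iv7 D208234)))
theorem Q105040 : ∀ i, i < 105040 → P i := stepQ 105039 Q105039 (allL N105039 (tt N107283 (iv1 F457784)) (tt N107282 F457781) (tt N69699 F448511) (tt N100197 F448512) (tt N69696 (iv4 D208235)) (tt N92197 F448513) (tt N115735 (iv6 F496583)) (tt N92196 F448514))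
theorem Q105041 : ∀ i, i < 105041 → P i := stepQ 105040 Q105040 (allL N105040 (tt N69699 (iv1 D208236)) (tt N92196 F448515) (tt N107282 F457782) (tt N72769 F448518) (tt N96696 (iv4 F448517)) (tt N72768 F448516) (tt N105576 (iv6 F450811)) (tt N107283 (iv7 F457785)))
theorem Q105042 : ∀ i, i < 105042 → P i := stepQ 105041 Q105041 (allL N105041 (tt N109195 (iv1 F465746)) (tt N75748 (iv0 F448521)) (tt N109196 F465751) (tt N69699 (iv3 D208237)) (tt N69700 F448519) (tt N75026 F448522) (tt N116360 (iv6 F499706)) (tt N96477 F448520))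
theorem Q105043 : ∀ i, i < 105043 → P i := stepQ 105042 Q105042 (allL N105042 (tt N92195 (iv1 F448529)) (tt N72804 F448527) (tt N92197 F448523) (tt N75026 F448524) (tt N74459 F448525) (tt N69699 (iv5 D208238)) (tt N98168 F448528) (tt N76944 F448526))
theorem Q105044 : ∀ i, i < 105044 → P i := stepQ 105043 Q105043 (allL N105043 (tt N96476 (iv1 F448532)) (tt N69700 (iv0 D208239)) (tt N96434 (iv2 F448533)) (tt N95674 F448531) (tt N107656 (iv4 F459107)) (tt N94947 F448530) (tt N109358 (iv6 F466557)) (tt N95702 (iv7 F448534)))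
theorem Q105045 : ∀ i, i < 105045 → P i := stepQ 105044 Q105044 (allL N105044 (tt N69700 (iv1 D208240)) (tt N96476 (iv0 F448538)) (tt N95702 (iv2 F448537)) (tt N109360 (iv3 F466564)) (tt N121077 D224336) (tt N94948 F448536) (tt N110499 (iv6 F471859)) (tt N96434 F448535))
theorem Q105046 : ∀ i, i < 105046 → P i := stepQ 105045 Q105045 (allL N105045 (tt N96434 (iv1 F448543)) (tt N95702 F448542) (tt N69700 (iv2 D208241)) (tt N96473 F448539) (tt N109196 (iv4 F465750)) (tt N95710 F448540) (tt N116366 (iv6 F499739)) (tt N96476 F448541))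
theorem Q105047 : ∀ i, i < 105047 → P i := stepQ 105046 Q105046 (allL N105046 (tt N104661 F448545) (tt N92346 F448547) (tt N107345 (iv2 F458041)) (tt N94260 F448544) (tt N101759 F448546) (tt N69701 (iv5 D208242)) (tt N82308 F448548) (tt N107344 (iv7 F458033)))
theorem Q105048 : ∀ i, i < 105048 → P i := stepQ 105047 Q105047 (allL N105047 (tt N92290 (iv1 F448553)) (tt N73300 (iv0 F448554)) (tt N92391 F448549) (tt N73803 F448550) (tt N113279 (iv4 F484838)) (tt N73477 F448551) (tt N69701 (iv6 D208243)) (tt N92392 (iv7 F448552)))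
theorem Q105049 : ∀ i, i < 105049 → P i := stepQ 105048 Q105048 (allL N105048 (tt N92346 F448555) (tt N104661 F448556) (tt N107344 (iv2 F458035)) (tt N118299 (iv3 F509579)) (tt N108981 (iv4 F464754)) (tt N69702 (iv5 D208244)) (tt N92516 F448557) (tt N107345 (iv7 F458037)))
theorem Q105050 : ∀ i, i < 105050 → P i := stepQ 105049 Q105049 (allL N105049 (tt N74267 (iv1 F448561)) (tt N74297 (iv0 F448560)) (tt N74295 F448558) (tt N107849 F459986) (tt N119024 (iv4 F513343)) (tt N92517 F448559) (tt N69702 (iv6 D208245)) (tt N74294 (iv7 F448562)))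
theorem Q105051 : ∀ i, i < 105051 → P i := stepQ 105050 Q105050 (allL N105050 (tt N108365 (iv1 F462270)) (tt N108364 F462268) (tt N106830 (iv2 F455873)) (tt N69710 F448563) (tt N107997 F460651) (tt N69708 (iv5 D208246)) (tt N116288 (iv6 F499377)) (tt N106831 (iv7 F455880)))
theorem Q105052 : ∀ i, i < 105052 → P i := stepQ 105051 Q105051 (allL N105051 (tt N69712 (iv1 F448568)) (tt N69709 (iv0 D208247)) (tt N92472 (iv2 F448567)) (tt N93282 F448566) (tt N95955 F448565) (tt N73406 F448564) (tt N120607 (iv6 F521727)) (tt N92491 F448569))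
theorem Q105053 : ∀ i, i < 105053 → P i := stepQ 105052 Q105052 (allL N105052 (tt N116281 (iv1 F499341)) (tt N119843 (iv0 F517658)) (tt N92492 F448570) (tt N92471 F448571) (tt N69711 F448572) (tt N92470 F448573) (tt N69709 (iv6 D208248)) (tt N119249 (iv7 F514621)))
theorem Q105054 : ∀ i, i < 105054 → P i := stepQ 105053 Q105053 (allL N105053 (tt N73305 (iv1 F448579)) (tt N69711 (iv0 D208249)) (tt N73228 (iv2 F448576)) (tt N73297 F448577) (tt N92290 F448574) (tt N121078 D224337) (tt N76294 F448575) (tt N73306 F448578))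
theorem Q105055 : ∀ i, i < 105055 → P i := stepQ 105054 Q105054 (allL N105054 (tt N105520 (iv1 F450561)) (tt N105396 (iv0 F450051)) (tt N105519 (iv2 F450557)) (tt N71992 F448580) (tt N119494 (iv4 F515893)) (tt N69711 (iv5 D208250)) (tt N105486 F450441) (tt N71989 (iv7 F448581)))
theorem Q105056 : ∀ i, i < 105056 → P i := stepQ 105055 Q105055 (allL N105055 (tt N73306 (iv1 F448585)) (tt N73228 F448586) (tt N73305 F448582) (tt N71990 F448583) (tt N119249 (iv4 F514618)) (tt N71989 F448584) (tt N119950 (iv6 F518206)) (tt N69711 (iv7 D208251)))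
theorem Q105057 : ∀ i, i < 105057 → P i := stepQ 105056 Q105056 (allL N105056 (tt N72496 (iv1 F448593)) (tt N94270 (iv0 F448592)) (tt N104725 F448587) (tt N73327 F448588) (tt N69714 F448589) (tt N92524 F448590) (tt N69712 (iv6 D208252)) (tt N104721 (iv7 F448591)))
theorem Q105058 : ∀ i, i < 105058 → P i := stepQ 105057 Q105057 (allL N105057 (tt N74882 F448597) (tt N78381 F448598) (tt N98316 F448594) (tt N107907 (iv3 F460213)) (tt N69713 (iv4 D208253)) (tt N73407 F448595) (tt N98389 F448599) (tt N98315 F448596))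
theorem Q105059 : ∀ i, i < 105059 → P i := stepQ 105058 Q105058 (allL N105058 (tt N116512 F500547) (tt N120061 (iv0 F518842)) (tt N107365 (iv2 F458109)) (tt N107609 (iv3 F458936)) (tt N98389 F448600) (tt N119985 (iv5 F518392)) (tt N69713 (iv6 D208254)) (tt N109642 (iv7 F467890)))
theorem Q105060 : ∀ i, i < 105060 → P i := stepQ 105059 Q105059 (allL N105059 (tt N105516 (iv1 F450542)) (tt N114710 (iv0 F491469)) (tt N104718 F448601) (tt N108362 (iv3 F462255)) (tt N104672 F448603) (tt N69714 (iv5 D208255)) (tt N119985 (iv6 F518393)) (tt N104723 F448602))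
theorem Q105061 : ∀ i, i < 105061 → P i := stepQ 105060 Q105060 (allL N105060 (tt N101030 (iv1 F448607)) (tt N101032 F449253) (tt N120910 (iv2 F523411)) (tt N69721 (iv3 D208256)) (tt N104168 F448604) (tt N105218 (iv5 F449251)) (tt N101388 F448605) (tt N101320 F448606))
theorem Q105062 : ∀ i, i < 105062 → P i := stepQ 105061 Q105061 (allL N105061 (tt N101218 F448611) (tt N101217 F448612) (tt N91687 F448613) (tt N69722 (iv3 D208257)) (tt N118668 (iv4 F511437)) (tt N77297 F448608) (tt N89326 F448609) (tt N101239 F448610))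
theorem Q105063 : ∀ i, i < 105063 → P i := stepQ 105062 Q105062 (allL N105062 (tt N69723 (iv1 D208258)) (tt N69814 F448614) (tt N69812 (iv2 F448618)) (tt N109477 (iv3 F467170)) (tt N77889 F448617) (tt N81297 F448616) (tt N90178 F448619) (tt N69813 F448615))
theorem Q105064 : ∀ i, i < 105064 → P i := stepQ 105063 Q105063 (allL N105063 (tt N90190 F448622) (tt N121079 D224338) (tt N110796 (iv2 F473213)) (tt N69724 F448620) (tt N94218 F448621) (tt N120011 (iv5 F518549)) (tt N69723 (iv6 D208259)) (tt N119088 (iv7 F513729)))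
theorem Q105065 : ∀ i, i < 105065 → P i := stepQ 105064 Q105064 (allL N105064 (tt N70623 (iv1 F448627)) (tt N105895 (iv0 F452232)) (tt N71803 F448623) (tt N69727 (iv3 D208260)) (tt N74919 F448624) (tt N79099 F448625) (tt N110424 (iv6 F471516)) (tt N69820 F448626))
theorem Q105066 : ∀ i, i < 105066 → P i := stepQ 105065 Q105065 (allL N105065 (tt N69825 (iv1 F448629)) (tt N69730 (iv0 D208261)) (tt N69828 (iv2 F448630)) (tt N105831 (iv3 F451919)) (tt N109254 (iv4 F466014)) (tt N69736 F448628) (tt N77137 F448632) (tt N69827 (iv7 F448631)))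
theorem Q105067 : ∀ i, i < 105067 → P i := stepQ 105066 Q105066 (allL N105066 (tt N69730 (iv1 D208262)) (tt N69825 F448633) (tt N69827 F448637) (tt N70053 (iv3 F448636)) (tt N109227 (iv4 F465863)) (tt N69737 F448635) (tt N108076 (iv6 F461014)) (tt N69828 F448634))
theorem Q105068 : ∀ i, i < 105068 → P i := stepQ 105067 Q105067 (allL N105067 (tt N86371 F448642) (tt N86373 F448643) (tt N69795 F448638) (tt N97700 F448639) (tt N102416 F448640) (tt N105102 (iv5 F448800)) (tt N69731 (iv6 D208263)) (tt N77306 F448641))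
theorem Q105069 : ∀ i, i < 105069 → P i := stepQ 105068 Q105068 (allL N105068 (tt N105555 (iv1 F450717)) (tt N70009 (iv0 F448645)) (tt N69890 F448644) (tt N105832 (iv3 F451926)) (tt N117935 (iv4 F507679)) (tt N113441 F485507) (tt N69736 (iv6 D208264)) (tt N105397 (iv7 F450055)))
theorem Q105070 : ∀ i, i < 105070 → P i := stepQ 105069 Q105069 (allL N105069 (tt N105570 F450781) (tt N117723 (iv0 F506632)) (tt N69740 F448646) (tt N69858 F448647) (tt N116258 F499251) (tt N121080 D224339) (tt N69738 (iv6 D208265)) (tt N92024 (iv7 F448648)))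
theorem Q105071 : ∀ i, i < 105071 → P i := stepQ 105070 Q105070 (allL N105070 (tt N92024 (iv1 F448658)) (tt N69740 (iv0 D208266)) (tt N105570 (iv2 F450777)) (tt N117726 (iv3 F506643)) (tt N120909 (iv4 F523407)) (tt N112933 (iv5 F483307)) (tt N82800 F448649) (tt N117723 (iv7 F506631)))
theorem Q105072 : ∀ i, i < 105072 → P i := stepQ 105071 Q105071 (allL N105071 (tt N69740 (iv1 D208267)) (tt N92024 F448650) (tt N117723 (iv2 F506628)) (tt N70062 (iv3 F448651)) (tt N120887 (iv4 F523298)) (tt N121081 D224340) (tt N71658 (iv6 F448652)) (tt N105570 F450782))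
theorem Q105073 : ∀ i, i < 105073 → P i := stepQ 105072 Q105072 (allL N105072 (tt N121082 D224341) (tt N106850 (iv0 F455984)) (tt N121080 (iv2 F524411)) (tt N69743 F448653) (tt N121083 D224342) (tt N69740 (iv5 D208268)) (tt N120253 (iv6 F519829)) (tt N121084 D224343))
theorem Q105074 : ∀ i, i < 105074 → P i := stepQ 105073 Q105073 (allL N105073 (tt N117723 F506633) (tt N105570 (iv0 F450780)) (tt N92024 F448654) (tt N69744 F448655) (tt N104714 F448656) (tt N121084 (iv5 F524437)) (tt N69900 F448657) (tt N69740 (iv7 D208269)))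
theorem Q105075 : ∀ i, i < 105075 → P i := stepQ 105074 Q105074 (allL N105074 (tt N69743 (iv1 D208270)) (tt N69875 F448660) (tt N69873 (iv2 F448663)) (tt N113989 (iv3 F488081)) (tt N105246 (iv4 F449374)) (tt N70261 F448662) (tt N111969 (iv6 F478902)) (tt N69872 F448661))
theorem Q105076 : ∀ i, i < 105076 → P i := stepQ 105075 Q105075 (allL N105075 (tt N104106 F448665) (tt N110878 (iv0 F473569)) (tt N69874 F448664) (tt N121085 D224344) (tt N69743 (iv4 D208271)) (tt N110884 (iv5 F473600)) (tt N120244 F519784) (tt N119970 (iv7 F518320)))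
theorem Q105077 : ∀ i, i < 105077 → P i := stepQ 105076 Q105076 (allL N105076 (tt N69873 (iv1 F448668)) (tt N69872 F448669) (tt N69875 F448666) (tt N121084 (iv3 F524436)) (tt N119970 (iv4 F518319)) (tt N69744 F448667) (tt N107379 (iv6 F458152)) (tt N69743 (iv7 D208272)))
theorem Q105078 : ∀ i, i < 105078 → P i := stepQ 105077 Q105077 (allL N105077 (tt N69921 F448674) (tt N69920 F448675) (tt N69749 F448670) (tt N69939 F448671) (tt N78937 F448672) (tt N69748 (iv5 D208273)) (tt N108432 (iv6 F462532)) (tt N69918 F448673))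
theorem Q105079 : ∀ i, i < 105079 → P i := stepQ 105078 Q105078 (allL N105078 (tt N85423 F448680) (tt N88842 (iv0 F448682)) (tt N69750 F448676) (tt N69940 F448677) (tt N70668 F448678) (tt N85836 (iv5 F448681)) (tt N69748 (iv6 D208274)) (tt N88895 F448679))
theorem Q105080 : ∀ i, i < 105080 → P i := stepQ 105079 Q105079 (allL N105079 (tt N69749 (iv1 D208275)) (tt N69918 F448683) (tt N69920 F448689) (tt N98179 (iv3 F448687)) (tt N75966 F448686) (tt N92567 F448685) (tt N72250 (iv6 F448688)) (tt N69921 F448684))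
theorem Q105081 : ∀ i, i < 105081 → P i := stepQ 105080 Q105080 (allL N105080 (tt N75666 F448693) (tt N72806 (iv0 F448694)) (tt N108432 (iv2 F462528)) (tt N69751 F448690) (tt N76161 F448691) (tt N114676 (iv5 F491324)) (tt N69749 (iv6 D208276)) (tt N100003 F448692))
theorem Q105082 : ∀ i, i < 105082 → P i := stepQ 105081 Q105081 (allL N105081 (tt N88895 (iv1 F448701)) (tt N69750 (iv0 D208277)) (tt N85423 (iv2 F448699)) (tt N71899 F448697) (tt N88815 F448696) (tt N85417 F448695) (tt N71897 F448698) (tt N88842 F448700))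
theorem Q105083 : ∀ i, i < 105083 → P i := stepQ 105082 Q105082 (allL N105082 (tt N88842 (iv1 F448707)) (tt N85423 F448708) (tt N88895 F448702) (tt N69753 F448703) (tt N70675 F448704) (tt N85835 F448705) (tt N69925 F448706) (tt N69750 (iv7 D208278)))
theorem Q105084 : ∀ i, i < 105084 → P i := stepQ 105083 Q105083 (allL N105083 (tt N105230 (iv1 F449315)) (tt N99336 F448712) (tt N69952 F448710) (tt N114747 (iv3 F491642)) (tt N69752 (iv4 D208279)) (tt N111420 F476272) (tt N101321 F448711) (tt N119182 (iv7 F514233)))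
theorem Q105085 : ∀ i, i < 105085 → P i := stepQ 105084 Q105084 (allL N105084 (tt N72028 F448717) (tt N72012 (iv0 F448718)) (tt N69768 F448713) (tt N69954 F448714) (tt N72026 F448715) (tt N113222 (iv5 F484557)) (tt N69754 (iv6 D208280)) (tt N72026 F448716))
theorem Q105086 : ∀ i, i < 105086 → P i := stepQ 105085 Q105085 (allL N105085 (tt N101839 (iv1 F448722)) (tt N69934 (iv0 F448721)) (tt N111128 F474821) (tt N69755 (iv3 D208281)) (tt N94642 F448719) (tt N109718 (iv5 F468268)) (tt N114952 (iv6 F492732)) (tt N69760 F448720))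
theorem Q105087 : ∀ i, i < 105087 → P i := stepQ 105086 Q105086 (allL N105086 (tt N69876 F448726) (tt N72047 (iv0 F448727)) (tt N69758 F448723) (tt N114952 (iv3 F492730)) (tt N89160 F448724) (tt N88576 (iv5 F448728)) (tt N69755 (iv6 D208282)) (tt N72051 F448725))
theorem Q105088 : ∀ i, i < 105088 → P i := stepQ 105087 Q105087 (allL N105087 (tt N69915 (iv1 F448733)) (tt N112342 (iv0 F480663)) (tt N105317 (iv2 F449676)) (tt N69759 F448729) (tt N70460 F448730) (tt N78895 F448731) (tt N72052 F448732) (tt N69756 (iv7 D208283)))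
theorem Q105089 : ∀ i, i < 105089 → P i := stepQ 105088 Q105088 (allL N105088 (tt N98734 F448736) (tt N81463 (iv0 F448737)) (tt N105528 (iv2 F450597)) (tt N69757 (iv3 D208284)) (tt N84939 F448734) (tt N118446 (iv5 F510404)) (tt N84938 F448735) (tt N105554 (iv7 F450714)))
theorem Q105090 : ∀ i, i < 105090 → P i := stepQ 105089 Q105089 (allL N105089 (tt N105170 (iv1 F449094)) (tt N96486 (iv0 F448744)) (tt N69761 F448738) (tt N105554 F450715) (tt N69759 F448739) (tt N84896 F448740) (tt N72053 F448741) (tt N69757 (iv7 D208285)))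
theorem Q105091 : ∀ i, i < 105091 → P i := stepQ 105090 Q105090 (allL N105090 (tt N72051 (iv1 F448749)) (tt N69758 (iv0 D208286)) (tt N69876 (iv2 F448748)) (tt N69961 F448747) (tt N72055 F448746) (tt N121086 D224345) (tt N72046 (iv6 F448751)) (tt N72047 F448750))
theorem Q105092 : ∀ i, i < 105092 → P i := stepQ 105091 Q105091 (allL N105091 (tt N69934 (iv1 F448754)) (tt N101839 F448753) (tt N69760 (iv2 D208287)) (tt N105317 (iv3 F449677)) (tt N98716 F448752) (tt N94577 F448755) (tt N119519 (iv6 F516027)) (tt N111128 (iv7 F474823)))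
theorem Q105093 : ∀ i, i < 105093 → P i := stepQ 105092 Q105092 (allL N105092 (tt N109693 F468142) (tt N110927 (iv0 F473829)) (tt N94577 F448756) (tt N69762 F448757) (tt N94575 F448758) (tt N69760 (iv5 D208288)) (tt N120115 F519131) (tt N109718 (iv7 F468269)))
theorem Q105094 : ∀ i, i < 105094 → P i := stepQ 105093 Q105093 (allL N105093 (tt N121046 (iv1 F524212)) (tt N113787 (iv0 F487112)) (tt N119519 (iv2 F516025)) (tt N69763 F448759) (tt N116272 (iv4 F499297)) (tt N89815 (iv5 F448760)) (tt N69760 (iv6 D208289)) (tt N72048 (iv7 F448761)))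
theorem Q105095 : ∀ i, i < 105095 → P i := stepQ 105094 Q105094 (allL N105094 (tt N84712 F448763) (tt N100193 (iv0 F448764)) (tt N109721 (iv2 F468284)) (tt N120115 F519130) (tt N78959 F448762) (tt N111277 (iv5 F475594)) (tt N69762 (iv6 D208290)) (tt N113029 (iv7 F483616)))
theorem Q105096 : ∀ i, i < 105096 → P i := stepQ 105095 Q105095 (allL N105095 (tt N116185 (iv1 F498903)) (tt N113234 (iv0 F484637)) (tt N72054 F448765) (tt N89815 F448766) (tt N116287 (iv4 F499372)) (tt N69763 (iv5 D208291)) (tt N111277 (iv6 F475595)) (tt N72050 F448767))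
theorem Q105097 : ∀ i, i < 105097 → P i := stepQ 105096 Q105096 (allL N105096 (tt N100157 F448772) (tt N109011 (iv0 F464914)) (tt N69766 F448768) (tt N75237 F448769) (tt N69764 (iv4 D208292)) (tt N76437 F448771) (tt N99801 (iv6 F448773)) (tt N99750 F448770))
theorem Q105098 : ∀ i, i < 105098 → P i := stepQ 105097 Q105097 (allL N105097 (tt N109193 F465734) (tt N98516 (iv0 F448779)) (tt N69767 F448774) (tt N69970 F448775) (tt N99801 F448776) (tt N100195 F448777) (tt N69764 (iv6 D208293)) (tt N100760 F448778))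
theorem Q105099 : ∀ i, i < 105099 → P i := stepQ 105098 Q105098 (allL N105098 (tt N100760 (iv1 F448781)) (tt N69767 (iv0 D208294)) (tt N109193 (iv2 F465731)) (tt N108066 F460966) (tt N98521 F448780) (tt N118453 (iv5 F510448)) (tt N110860 (iv6 F473485)) (tt N98516 F448782))
theorem Q105100 : ∀ i, i < 105100 → P i := stepQ 105099 Q105099 (allL N105099 (tt N72026 (iv1 F448784)) (tt N69768 (iv0 D208295)) (tt N72028 (iv2 F448783)) (tt N112341 F480656) (tt N113187 (iv4 F484381)) (tt N83023 (iv5 F448786)) (tt N72016 (iv6 F448787)) (tt N72012 F448785))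
theorem Q105101 : ∀ i, i < 105101 → P i := stepQ 105100 Q105100 (allL N105100 (tt N83031 (iv1 F448791)) (tt N83034 F448790) (tt N113222 (iv2 F484555)) (tt N69772 F448788) (tt N81834 (iv4 F448792)) (tt N69768 (iv5 D208296)) (tt N81839 F448789) (tt N105424 (iv7 F450197)))
theorem Q105102 : ∀ i, i < 105102 → P i := stepQ 105101 Q105101 (allL N105101 (tt N105662 (iv1 F451143)) (tt N81930 F448797) (tt N70003 F448793) (tt N81842 F448794) (tt N69772 (iv4 D208297)) (tt N70432 F448796) (tt N81851 F448795) (tt N105308 (iv7 F449647)))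
theorem Q105103 : ∀ i, i < 105103 → P i := stepQ 105102 Q105102 (allL N105102 (tt N97374 F448802) (tt N105521 (iv0 F450567)) (tt N105114 (iv2 F448858)) (tt N89979 F448798) (tt N102152 F448799) (tt N105067 F448800) (tt N69778 (iv6 D208298)) (tt N89977 F448801))
theorem Q105104 : ∀ i, i < 105104 → P i := stepQ 105103 Q105103 (allL N105103 (tt N99518 F448805) (tt N99520 F448806) (tt N108123 (iv2 F461210)) (tt N87273 (iv3 F448807)) (tt N69780 (iv4 D208299)) (tt N87272 F448804) (tt N72963 F448803) (tt N108169 (iv7 F461380)))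
theorem Q105105 : ∀ i, i < 105105 → P i := stepQ 105104 Q105104 (allL N105104 (tt N73840 F448811) (tt N105392 (iv0 F450031)) (tt N71991 F448808) (tt N100789 F448809) (tt N69783 (iv4 D208300)) (tt N114938 (iv5 F492645)) (tt N71965 F448810) (tt N105474 (iv7 F450405)))
theorem Q105106 : ∀ i, i < 105106 → P i := stepQ 105105 Q105105 (allL N105105 (tt N115796 F496939) (tt N110856 F473460) (tt N88691 F448812) (tt N69784 (iv3 D208301)) (tt N104505 F448815) (tt N88526 F448813) (tt N83997 (iv6 F448816)) (tt N71972 F448814))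
theorem Q105107 : ∀ i, i < 105107 → P i := stepQ 105106 Q105106 (allL N105106 (tt N105392 (iv1 F450032)) (tt N73840 (iv0 F448819)) (tt N105474 F450403) (tt N104478 F448818) (tt N69784 (iv4 D208302)) (tt N117063 (iv5 F503187)) (tt N88785 (iv6 F448820)) (tt N71991 F448817))
theorem Q105108 : ∀ i, i < 105108 → P i := stepQ 105107 Q105107 (allL N105107 (tt N69803 F448826) (tt N71958 (iv0 F448827)) (tt N72009 F448821) (tt N83997 F448822) (tt N88785 F448823) (tt N87036 F448824) (tt N69784 (iv6 D208303)) (tt N71993 F448825))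
theorem Q105109 : ∀ i, i < 105109 → P i := stepQ 105108 Q105108 (allL N105108 (tt N105464 F450366) (tt N105032 F448830) (tt N69791 F448828) (tt N105520 (iv3 F450558)) (tt N104951 F448829) (tt N106098 (iv5 F453101)) (tt N69790 (iv6 D208304)) (tt N105518 (iv7 F450550)))
theorem Q105110 : ∀ i, i < 105110 → P i := stepQ 105109 Q105109 (allL N105109 (tt N105518 (iv1 F450551)) (tt N69791 (iv0 D208305)) (tt N105464 (iv2 F450361)) (tt N103587 F448833) (tt N86125 F448831) (tt N73296 F448832) (tt N103585 F448834) (tt N105032 (iv7 F448835)))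
theorem Q105111 : ∀ i, i < 105111 → P i := stepQ 105110 Q105110 (allL N105110 (tt N69791 (iv1 D208306)) (tt N105518 F450552) (tt N105032 F448839) (tt N87667 (iv3 F448836)) (tt N86124 (iv4 F448837)) (tt N72420 (iv5 F448838)) (tt N87665 F448840) (tt N105464 (iv7 F450364)))
theorem Q105112 : ∀ i, i < 105112 → P i := stepQ 105111 Q105111 (allL N105111 (tt N103311 F448846) (tt N103319 F448847) (tt N103235 F448841) (tt N69792 (iv3 D208307)) (tt N93018 F448842) (tt N95180 F448843) (tt N77303 F448844) (tt N102417 F448845))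
theorem Q105113 : ∀ i, i < 105113 → P i := stepQ 105112 Q105112 (allL N105112 (tt N73846 (iv1 F448854)) (tt N73798 F448853) (tt N69793 (iv2 D208308)) (tt N87661 F448848) (tt N70272 F448849) (tt N78958 F448850) (tt N71988 F448851) (tt N73844 F448852))
theorem Q105114 : ∀ i, i < 105114 → P i := stepQ 105113 Q105113 (allL N105113 (tt N120606 F521723) (tt N113050 (iv0 F483730)) (tt N102416 F448855) (tt N71630 F448856) (tt N69795 F448857) (tt N119382 (iv5 F515333)) (tt N69794 (iv6 D208309)) (tt N106890 (iv7 F456151)))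
theorem Q105115 : ∀ i, i < 105115 → P i := stepQ 105114 Q105114 (allL N105114 (tt N82789 F448862) (tt N77409 F448861) (tt N105102 F448858) (tt N107023 (iv3 F456682)) (tt N119378 (iv4 F515311)) (tt N69795 (iv5 D208310)) (tt N77325 F448859) (tt N77328 F448860))
theorem Q105116 : ∀ i, i < 105116 → P i := stepQ 105115 Q105115 (allL N105115 (tt N109689 F468124) (tt N73845 (iv0 F448867)) (tt N98552 F448863) (tt N69797 (iv3 D208311)) (tt N98540 F448864) (tt N69856 F448865) (tt N99764 (iv6 F448868)) (tt N77358 F448866))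
theorem Q105117 : ∀ i, i < 105117 → P i := stepQ 105116 Q105116 (allL N105116 (tt N77353 F448873) (tt N77332 (iv0 F448874)) (tt N77355 F448869) (tt N99764 F448870) (tt N97522 F448871) (tt N105481 (iv5 F450423)) (tt N69797 (iv6 D208312)) (tt N77148 F448872))
theorem Q105118 : ∀ i, i < 105118 → P i := stepQ 105117 Q105117 (allL N105117 (tt N116285 (iv1 F499361)) (tt N111126 (iv0 F474810)) (tt N69800 (iv2 D208313)) (tt N86292 F448875) (tt N87845 F448876) (tt N82943 F448877) (tt N105487 (iv6 F450443)) (tt N112064 (iv7 F479319)))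
theorem Q105119 : ∀ i, i < 105119 → P i := stepQ 105118 Q105118 (allL N105118 (tt N84963 F448881) (tt N98576 F448882) (tt N112065 (iv2 F479323)) (tt N69802 F448878) (tt N84960 F448879) (tt N89467 F448880) (tt N69801 (iv6 D208314)) (tt N105489 (iv7 F450446)))
theorem Q105120 : ∀ i, i < 105120 → P i := stepQ 105119 Q105119 (allL N105119 (tt N71993 (iv1 F448887)) (tt N72009 F448886) (tt N69803 (iv2 D208315)) (tt N70991 F448883) (tt N105490 (iv4 F450450)) (tt N82796 F448884) (tt N105490 (iv6 F450451)) (tt N71958 F448885))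
theorem Q105121 : ∀ i, i < 105121 → P i := stepQ 105120 Q105120 (allL N105120 (tt N88691 F448891) (tt N71972 F448890) (tt N110856 (iv2 F473456)) (tt N103526 F448888) (tt N69804 (iv4 D208316)) (tt N81354 F448889) (tt N119901 (iv6 F517943)) (tt N115796 (iv7 F496937)))
theorem Q105122 : ∀ i, i < 105122 → P i := stepQ 105121 Q105121 (allL N105121 (tt N105494 F450467) (tt N104488 (iv0 F448893)) (tt N105496 (iv2 F450476)) (tt N75725 F448892) (tt N119901 (iv4 F517942)) (tt N112729 (iv5 F482397)) (tt N69804 (iv6 D208317)) (tt N105495 F450472))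
theorem Q105123 : ∀ i, i < 105123 → P i := stepQ 105122 Q105122 (allL N105122 (tt N104579 F448894) (tt N104481 F448895) (tt N118092 (iv2 F508537)) (tt N69805 (iv3 D208318)) (tt N115312 (iv4 F494529)) (tt N118127 (iv5 F508744)) (tt N120646 (iv6 F521936)) (tt N119683 (iv7 F516897)))
theorem Q105124 : ∀ i, i < 105124 → P i := stepQ 105123 Q105123 (allL N105123 (tt N94634 F448899) (tt N94630 F448898) (tt N69807 F448896) (tt N78791 F448897) (tt N116412 (iv4 F499968)) (tt N69806 (iv5 D208319)) (tt N78790 F448900) (tt N117763 (iv7 F506852)))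
theorem Q105125 : ∀ i, i < 105125 → P i := stepQ 105124 Q105124 (allL N105124 (tt N117360 (iv1 F504662)) (tt N105492 (iv0 F450456)) (tt N69808 F448901) (tt N75089 F448902) (tt N69826 F448903) (tt N95983 F448904) (tt N69806 (iv6 D208320)) (tt N106521 (iv7 F454757)))
theorem Q105126 : ∀ i, i < 105126 → P i := stepQ 105125 Q105125 (allL N105125 (tt N117763 (iv1 F506853)) (tt N69807 (iv0 D208321)) (tt N94634 (iv2 F448906)) (tt N120632 (iv3 F521859)) (tt N94631 (iv4 F448908)) (tt N69879 F448905) (tt N120632 (iv6 F521861)) (tt N94630 (iv7 F448907)))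
theorem Q105127 : ∀ i, i < 105127 → P i := stepQ 105126 Q105126 (allL N105126 (tt N69807 (iv1 D208322)) (tt N117763 F506854) (tt N94630 (iv2 F448912)) (tt N120978 (iv3 F523826)) (tt N94623 F448911) (tt N69880 F448910) (tt N121087 D224346) (tt N94634 F448909))
theorem Q105128 : ∀ i, i < 105128 → P i := stepQ 105127 Q105127 (allL N105127 (tt N118646 (iv1 F511322)) (tt N109496 (iv0 F467274)) (tt N116412 (iv2 F499966)) (tt N71307 F448913) (tt N69807 (iv4 D208323)) (tt N111130 (iv5 F474836)) (tt N85651 (iv6 F448914)) (tt N117764 (iv7 F506856)))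
theorem Q105129 : ∀ i, i < 105129 → P i := stepQ 105128 Q105128 (allL N105128 (tt N98678 F448919) (tt N98677 F448920) (tt N78790 F448915) (tt N69809 F448916) (tt N85651 F448917) (tt N83098 F448918) (tt N69807 (iv6 D208324)) (tt N83097 F448921))
theorem Q105130 : ∀ i, i < 105130 → P i := stepQ 105129 Q105129 (allL N105129 (tt N106521 (iv1 F454759)) (tt N69808 (iv0 D208325)) (tt N117360 (iv2 F504657)) (tt N109420 (iv3 F466869)) (tt N71949 F448922) (tt N107606 (iv5 F458918)) (tt N119637 (iv6 F516641)) (tt N105492 (iv7 F453007)))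
theorem Q105131 : ∀ i, i < 105131 → P i := stepQ 105130 Q105130 (allL N105130 (tt N69808 (iv1 D208326)) (tt N106521 (iv0 F454758)) (tt N105492 (iv2 F450455)) (tt N119411 (iv3 F515475)) (tt N71970 F448923) (tt N119025 (iv5 F513347)) (tt N70565 (iv6 F448924)) (tt N117360 (iv7 F504659)))
theorem Q105132 : ∀ i, i < 105132 → P i := stepQ 105131 Q105131 (allL N105131 (tt N94768 F448929) (tt N103738 F448930) (tt N114475 (iv2 F490371)) (tt N83143 F448925) (tt N69810 (iv4 D208327)) (tt N94725 F448928) (tt N83142 F448926) (tt N95176 F448927))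
theorem Q105133 : ∀ i, i < 105133 → P i := stepQ 105132 Q105132 (allL N105132 (tt N108660 (iv1 F463409)) (tt N108661 (iv0 F463414)) (tt N72184 F448931) (tt N69813 (iv3 D208328)) (tt N96730 F448932) (tt N81347 F448933) (tt N71662 (iv6 F448934)) (tt N109477 (iv7 F467173)))
theorem Q105134 : ∀ i, i < 105134 → P i := stepQ 105133 Q105133 (allL N105133 (tt N99251 (iv1 F448942)) (tt N98832 (iv0 F448940)) (tt N99254 F448935) (tt N71662 F448936) (tt N82103 F448937) (tt N70311 F448938) (tt N69813 (iv6 D208329)) (tt N99253 F448939))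
theorem Q105135 : ∀ i, i < 105135 → P i := stepQ 105134 Q105134 (allL N105134 (tt N119964 F518292) (tt N72789 (iv0 F448944)) (tt N69815 F448943) (tt N110325 (iv3 F471059)) (tt N108087 F461060) (tt N115129 (iv5 F493631)) (tt N69814 (iv6 D208330)) (tt N119965 (iv7 F518296)))
theorem Q105136 : ∀ i, i < 105136 → P i := stepQ 105135 Q105135 (allL N105135 (tt N119965 (iv1 F518297)) (tt N69815 (iv0 D208331)) (tt N119964 (iv2 F518290)) (tt N72795 F448945) (tt N119863 (iv4 F517758)) (tt N121088 D224347) (tt N110393 (iv6 F471373)) (tt N72789 (iv7 F448946)))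
theorem Q105137 : ∀ i, i < 105137 → P i := stepQ 105136 Q105136 (allL N105136 (tt N69815 (iv1 D208332)) (tt N119965 F518298) (tt N72789 F448949) (tt N119989 (iv3 F518416)) (tt N99003 (iv4 F448947)) (tt N121089 D224348) (tt N72460 (iv6 F448948)) (tt N119964 (iv7 F518288)))
theorem Q105138 : ∀ i, i < 105138 → P i := stepQ 105137 Q105137 (allL N105137 (tt N121090 D224349) (tt N112930 (iv0 F485194)) (tt N115129 (iv2 F493629)) (tt N69816 F448950) (tt N94341 (iv4 F448952)) (tt N69815 (iv5 D208333)) (tt N94344 F448951) (tt N119966 (iv7 F518300)))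
theorem Q105139 : ∀ i, i < 105139 → P i := stepQ 105138 Q105138 (allL N105138 (tt N72518 (iv1 F448955)) (tt N69816 (iv0 D208334)) (tt N73309 (iv2 F448956)) (tt N113615 (iv3 F486314)) (tt N110876 (iv4 F473560)) (tt N73232 F448953) (tt N69870 F448954) (tt N110903 (iv7 F473705)))
theorem Q105140 : ∀ i, i < 105140 → P i := stepQ 105139 Q105139 (allL N105139 (tt N69816 (iv1 D208335)) (tt N72518 F448957) (tt N110903 (iv2 F473703)) (tt N121091 D224350) (tt N110877 (iv4 F473566)) (tt N73310 F448959) (tt N84326 (iv6 F448960)) (tt N73309 F448958))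
theorem Q105141 : ∀ i, i < 105141 → P i := stepQ 105140 Q105140 (allL N105140 (tt N108021 (iv1 F460773)) (tt N116551 (iv0 F500724)) (tt N118431 (iv2 F510315)) (tt N120489 (iv3 F521037)) (tt N69816 (iv4 D208336)) (tt N105246 F449376) (tt N101279 F448961) (tt N119967 (iv7 F518306)))
theorem Q105142 : ∀ i, i < 105142 → P i := stepQ 105141 Q105141 (allL N105141 (tt N69820 (iv1 D208337)) (tt N71803 F448962) (tt N70623 F448966) (tt N73798 (iv3 F448964)) (tt N70620 F448963) (tt N106994 (iv5 F456563)) (tt N71763 (iv6 F448965)) (tt N105895 (iv7 F452231)))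
theorem Q105143 : ∀ i, i < 105143 → P i := stepQ 105142 Q105142 (allL N105142 (tt N78684 F448972) (tt N99817 (iv0 F448973)) (tt N99818 F448967) (tt N69822 F448968) (tt N79100 F448969) (tt N69820 (iv5 D208338)) (tt N78128 F448970) (tt N79099 F448971))
theorem Q105144 : ∀ i, i < 105144 → P i := stepQ 105143 Q105143 (allL N105143 (tt N94643 (iv1 F448979)) (tt N90066 F448978) (tt N94639 F448974) (tt N97924 F448975) (tt N105445 (iv4 F450295)) (tt N69821 (iv5 D208339)) (tt N104696 F448976) (tt N94640 F448977))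
theorem Q105145 : ∀ i, i < 105145 → P i := stepQ 105144 Q105144 (allL N105144 (tt N71809 F448985) (tt N80019 (iv0 F448986)) (tt N69829 F448980) (tt N90310 F448981) (tt N82458 F448982) (tt N71757 F448983) (tt N69825 (iv6 D208340)) (tt N80018 F448984))
theorem Q105146 : ∀ i, i < 105146 → P i := stepQ 105145 Q105145 (allL N105145 (tt N106522 (iv1 F454760)) (tt N97865 (iv0 F448989)) (tt N71792 F448987) (tt N109659 (iv3 F467970)) (tt N69830 (iv4 D208341)) (tt N73279 F448988) (tt N121092 D224351) (tt N105498 (iv7 F450483)))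
theorem Q105147 : ∀ i, i < 105147 → P i := stepQ 105146 Q105146 (allL N105146 (tt N105501 (iv1 F450486)) (tt N105452 F450328) (tt N71793 F448990) (tt N106540 (iv3 F454817)) (tt N121092 (iv4 F524475)) (tt N118515 F510769) (tt N69830 (iv6 D208342)) (tt N105386 (iv7 F450001)))
theorem Q105148 : ∀ i, i < 105148 → P i := stepQ 105147 Q105147 (allL N105147 (tt N106523 F454769) (tt N111362 (iv0 F476016)) (tt N105468 (iv2 F450375)) (tt N106562 (iv3 F454868)) (tt N119690 (iv4 F516937)) (tt N70340 F448991) (tt N69834 (iv6 D208343)) (tt N111368 F478846))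
theorem Q105149 : ∀ i, i < 105149 → P i := stepQ 105148 Q105148 (allL N105148 (tt N101412 F448997) (tt N101411 F448999) (tt N71168 F448992) (tt N72360 F448993) (tt N71570 F448994) (tt N101071 F448995) (tt N69836 (iv6 D208344)) (tt N79157 F448996))
theorem Q105150 : ∀ i, i < 105150 → P i := stepQ 105149 Q105149 (allL N105149 (tt N105433 F450250) (tt N118591 F511048) (tt N118589 (iv2 F511036)) (tt N69840 (iv3 D208345)) (tt N104646 F449002) (tt N106760 (iv5 F455577)) (tt N72952 F449003) (tt N107509 (iv7 F458583)))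
theorem Q105151 : ∀ i, i < 105151 → P i := stepQ 105150 Q105150 (allL N105150 (tt N69841 (iv1 D208346)) (tt N93761 F449011) (tt N97061 F449009) (tt N101778 (iv3 F449008)) (tt N79620 F449007) (tt N120006 (iv5 F518517)) (tt N72947 F449010) (tt N79617 F449006))
theorem Q105152 : ∀ i, i < 105152 → P i := stepQ 105151 Q105151 (allL N105151 (tt N79617 (iv1 F449017)) (tt N97061 (iv0 F449016)) (tt N69841 (iv2 D208347)) (tt N93775 F449012) (tt N118426 (iv4 F510287)) (tt N90292 F449015) (tt N69846 F449013) (tt N93761 (iv7 F449014)))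
theorem Q105153 : ∀ i, i < 105153 → P i := stepQ 105152 Q105152 (allL N105152 (tt N93760 F449022) (tt N93759 F449023) (tt N90292 F449018) (tt N69842 F449019) (tt N71806 F449020) (tt N69841 (iv5 D208348)) (tt N90286 (iv6 F449024)) (tt N93757 F449021))
theorem Q105154 : ∀ i, i < 105154 → P i := stepQ 105153 Q105153 (allL N105153 (tt N97061 (iv1 F449029)) (tt N79617 F449030) (tt N93761 F449025) (tt N69843 F449026) (tt N106732 (iv4 F455461)) (tt N93757 F449027) (tt N72884 F449028) (tt N69841 (iv7 D208349)))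
theorem Q105155 : ∀ i, i < 105155 → P i := stepQ 105154 Q105154 (allL N105154 (tt N73067 (iv1 F449035)) (tt N69842 (iv0 D208350)) (tt N93302 (iv2 F449034)) (tt N91748 F449033) (tt N93634 F449032) (tt N70123 F449031) (tt N111380 (iv6 F476090)) (tt N70122 F449036))
theorem Q105156 : ∀ i, i < 105156 → P i := stepQ 105155 Q105155 (allL N105155 (tt N93784 (iv1 F449041)) (tt N93783 F449043) (tt N93786 F449037) (tt N90286 F449038) (tt N117282 (iv4 F504271)) (tt N69848 F449039) (tt N69842 (iv6 D208351)) (tt N93777 F449040))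
theorem Q105157 : ∀ i, i < 105157 → P i := stepQ 105156 Q105156 (allL N105156 (tt N94507 F449048) (tt N110852 (iv0 F497636)) (tt N100433 F449044) (tt N77035 F449045) (tt N88462 F449046) (tt N121093 D224352) (tt N69845 (iv6 D208352)) (tt N103077 F449047))
theorem Q105158 : ∀ i, i < 105158 → P i := stepQ 105157 Q105157 (allL N105157 (tt N94623 F449053) (tt N94631 (iv0 F449054)) (tt N69847 F449049) (tt N90118 F449050) (tt N106156 (iv4 F453379)) (tt N69846 (iv5 D208353)) (tt N90291 F449051) (tt N94629 F449052))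
theorem Q105159 : ∀ i, i < 105159 → P i := stepQ 105158 Q105158 (allL N105158 (tt N104511 (iv1 F449056)) (tt N105210 (iv0 F449220)) (tt N106156 F453382) (tt N105544 (iv3 F450667)) (tt N69847 (iv4 D208354)) (tt N104505 F449055) (tt N114371 (iv6 F489847)) (tt N107512 (iv7 F458599)))
theorem Q105160 : ∀ i, i < 105160 → P i := stepQ 105159 Q105159 (allL N105159 (tt N114421 (iv1 F490072)) (tt N114402 (iv0 F489976)) (tt N90291 F449057) (tt N69848 F449058) (tt N114371 (iv4 F489849)) (tt N90286 F449059) (tt N69847 (iv6 D208355)) (tt N116915 (iv7 F502478)))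
theorem Q105161 : ∀ i, i < 105161 → P i := stepQ 105160 Q105160 (allL N105160 (tt N118743 (iv1 F511846)) (tt N69906 (iv0 F449062)) (tt N95901 F449060) (tt N105414 (iv3 F450148)) (tt N104624 F449061) (tt N116924 (iv5 F502520)) (tt N69849 (iv6 D208356)) (tt N118742 (iv7 F511840)))
theorem Q105162 : ∀ i, i < 105162 → P i := stepQ 105161 Q105161 (allL N105161 (tt N105531 (iv1 F450607)) (tt N105530 F450606) (tt N69851 F449063) (tt N71480 F449064) (tt N102593 F449065) (tt N88614 F449066) (tt N69850 (iv6 D208357)) (tt N105529 (iv7 F450603)))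
theorem Q105163 : ∀ i, i < 105163 → P i := stepQ 105162 Q105162 (allL N105162 (tt N105529 F450605) (tt N69851 (iv0 D208358)) (tt N105531 (iv2 F452427)) (tt N72025 F449067) (tt N120833 (iv4 F522980)) (tt N121094 D224353) (tt N72023 (iv6 F449068)) (tt N105530 (iv7 F452429)))
theorem Q105164 : ∀ i, i < 105164 → P i := stepQ 105163 Q105163 (allL N105163 (tt N69851 (iv1 D208359)) (tt N105529 F450604) (tt N105530 F452428) (tt N117732 F506684) (tt N105937 (iv4 F452425)) (tt N121095 D224354) (tt N120743 (iv6 F522472)) (tt N105531 F452426))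
theorem Q105165 : ∀ i, i < 105165 → P i := stepQ 105164 Q105164 (allL N105164 (tt N113181 F484353) (tt N120464 (iv0 F520918)) (tt N88614 F449069) (tt N69852 F449070) (tt N121096 D224355) (tt N69851 (iv5 D208360)) (tt N89355 F449071) (tt N105532 (iv7 F450609)))
theorem Q105166 : ∀ i, i < 105166 → P i := stepQ 105165 Q105165 (allL N105165 (tt N94590 (iv1 F449073)) (tt N69852 (iv0 D208361)) (tt N105311 (iv2 F449655)) (tt N113440 (iv3 F485499)) (tt N105662 (iv4 F451145)) (tt N70439 F449072) (tt N113201 (iv6 F484450)) (tt N105316 (iv7 F449671)))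
theorem Q105167 : ∀ i, i < 105167 → P i := stepQ 105166 Q105166 (allL N105166 (tt N105302 (iv1 F449629)) (tt N105304 (iv0 F449638)) (tt N112581 F481716) (tt N121097 D224356) (tt N69852 (iv4 D208362)) (tt N118649 (iv5 F511339)) (tt N101303 F449074) (tt N105533 (iv7 F450610)))
theorem Q105168 : ∀ i, i < 105168 → P i := stepQ 105167 Q105167 (allL N105167 (tt N113039 F483681) (tt N70911 (iv0 F449078)) (tt N104336 F449075) (tt N69855 F449076) (tt N93048 F449077) (tt N112333 (iv5 F480609)) (tt N69853 (iv6 D208363)) (tt N105534 (iv7 F450615)))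
theorem Q105169 : ∀ i, i < 105169 → P i := stepQ 105168 Q105168 (allL N105168 (tt N106944 (iv1 F456391)) (tt N87853 F449083) (tt N103321 F449079) (tt N111672 F477410) (tt N80970 F449082) (tt N69854 (iv5 D208364)) (tt N104795 F449080) (tt N103915 F449081))
theorem Q105170 : ∀ i, i < 105170 → P i := stepQ 105169 Q105169 (allL N105169 (tt N95899 (iv1 F449088)) (tt N105410 F450127) (tt N69856 (iv2 D208365)) (tt N70054 F449084) (tt N70333 (iv4 F449087)) (tt N98552 F449085) (tt N105170 (iv6 F449091)) (tt N104335 F449086))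
theorem Q105171 : ∀ i, i < 105171 → P i := stepQ 105170 Q105170 (allL N105170 (tt N94484 F449093) (tt N105089 F449094) (tt N70333 F449089) (tt N70486 F449090) (tt N69856 (iv4 D208366)) (tt N90447 (iv5 F449095)) (tt N105169 F449091) (tt N103362 F449092))
theorem Q105172 : ∀ i, i < 105172 → P i := stepQ 105171 Q105171 (allL N105171 (tt N87853 F449100) (tt N106944 (iv0 F456390)) (tt N103915 F449096) (tt N81362 F449097) (tt N79783 F449098) (tt N69857 (iv5 D208367)) (tt N79782 F449101) (tt N103321 F449099))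
theorem Q105173 : ∀ i, i < 105173 → P i := stepQ 105172 Q105172 (allL N105172 (tt N117267 (iv1 F504195)) (tt N113994 (iv0 F488107)) (tt N69862 F449102) (tt N121080 (iv3 F524412)) (tt N115127 (iv4 F493619)) (tt N69858 (iv5 D208368)) (tt N77334 F449103) (tt N92026 F449104))
theorem Q105174 : ∀ i, i < 105174 → P i := stepQ 105173 Q105173 (allL N105173 (tt N109281 F466168) (tt N108447 (iv0 F462617)) (tt N80754 F449105) (tt N79403 F449106) (tt N69860 F449107) (tt N77585 F449108) (tt N69859 (iv6 D208369)) (tt N116206 (iv7 F499012)))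
theorem Q105175 : ∀ i, i < 105175 → P i := stepQ 105174 Q105174 (allL N105174 (tt N110310 (iv1 F470979)) (tt N69860 (iv0 D208370)) (tt N78339 (iv2 F449110)) (tt N113883 (iv3 F487616)) (tt N109282 (iv4 F466170)) (tt N110326 (iv5 F471065)) (tt N76918 F449109) (tt N110309 (iv7 F470968)))
theorem Q105176 : ∀ i, i < 105176 → P i := stepQ 105175 Q105175 (allL N105175 (tt N69860 (iv1 D208371)) (tt N110310 F470978) (tt N110309 (iv2 F470972)) (tt N121098 D224357) (tt N109926 F469263) (tt N110327 (iv5 F471069)) (tt N83421 (iv6 F449112)) (tt N78339 F449111))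
theorem Q105177 : ∀ i, i < 105177 → P i := stepQ 105176 Q105176 (allL N105176 (tt N110309 (iv1 F470967)) (tt N78339 (iv0 F449115)) (tt N110310 (iv2 F470973)) (tt N69867 F449113) (tt N116206 (iv4 F499010)) (tt N77333 F449114) (tt N110311 (iv6 F470983)) (tt N69860 (iv7 D208372)))
theorem Q105178 : ∀ i, i < 105178 → P i := stepQ 105177 Q105177 (allL N105177 (tt N84332 F449118) (tt N92028 (iv0 F449119)) (tt N92029 F449116) (tt N117055 (iv3 F503150)) (tt N82726 F459528) (tt N69861 (iv5 D208373)) (tt N112944 (iv6 F483334)) (tt N83499 F449117))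
theorem Q105179 : ∀ i, i < 105179 → P i := stepQ 105178 Q105178 (allL N105178 (tt N92026 (iv1 F449122)) (tt N69862 (iv0 D208374)) (tt N117267 (iv2 F504190)) (tt N113948 F487913) (tt N113506 (iv4 F485820)) (tt N70271 F449120) (tt N82693 (iv6 F449121)) (tt N113994 (iv7 F488104)))
theorem Q105180 : ∀ i, i < 105180 → P i := stepQ 105179 Q105179 (allL N105179 (tt N69862 (iv1 D208375)) (tt N92026 F449123) (tt N113994 (iv2 F488105)) (tt N108347 (iv3 F462181)) (tt N120721 (iv4 F522343)) (tt N108344 (iv5 F462174)) (tt N116969 (iv6 F502755)) (tt N117267 (iv7 F504193)))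
theorem Q105181 : ∀ i, i < 105181 → P i := stepQ 105180 Q105180 (allL N105180 (tt N113971 F488023) (tt N116969 (iv0 F502759)) (tt N115127 (iv2 F493618)) (tt N107390 (iv3 F458187)) (tt N69862 (iv4 D208376)) (tt N116953 (iv5 F502675)) (tt N107388 (iv6 F458181)) (tt N82654 (iv7 F449129)))
theorem Q105182 : ∀ i, i < 105182 → P i := stepQ 105181 Q105181 (allL N105181 (tt N113994 F488106) (tt N117267 F504194) (tt N92026 F449124) (tt N69875 F449125) (tt N82654 F449128) (tt N69863 F449126) (tt N77075 (iv6 F449127)) (tt N69862 (iv7 D208377)))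
theorem Q105183 : ∀ i, i < 105183 → P i := stepQ 105182 Q105182 (allL N105182 (tt N100585 F449134) (tt N96304 F449135) (tt N101277 F449130) (tt N82842 F449131) (tt N100861 (iv4 F449136)) (tt N69865 (iv5 D208378)) (tt N100058 F449132) (tt N101278 F449133))
theorem Q105184 : ∀ i, i < 105184 → P i := stepQ 105183 Q105183 (allL N105183 (tt N96304 F449143) (tt N100585 F449144) (tt N101278 F449138) (tt N89409 F449139) (tt N100868 F449142) (tt N69866 (iv5 D208379)) (tt N100891 F449140) (tt N101277 F449141))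
theorem Q105185 : ∀ i, i < 105185 → P i := stepQ 105184 Q105184 (allL N105184 (tt N91795 (iv1 F449148)) (tt N69868 (iv0 D208380)) (tt N117626 F506069) (tt N112512 (iv3 F481440)) (tt N102453 F449147) (tt N106206 (iv5 F453598)) (tt N118742 (iv6 F511837)) (tt N95900 F449149))
theorem Q105186 : ∀ i, i < 105186 → P i := stepQ 105185 Q105185 (allL N105185 (tt N114064 (iv1 F488406)) (tt N114063 F488405) (tt N113614 (iv2 F486310)) (tt N69869 F449150) (tt N106398 (iv4 F458355)) (tt N69868 (iv5 D208381)) (tt N107441 F458354) (tt N111964 (iv7 F478879)))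
theorem Q105187 : ∀ i, i < 105187 → P i := stepQ 105186 Q105186 (allL N105186 (tt N112787 (iv1 F482631)) (tt N120304 F520120) (tt N111966 (iv2 F478886)) (tt N107445 (iv3 F458364)) (tt N69869 (iv4 D208382)) (tt N107447 F458370) (tt N107448 (iv6 F458372)) (tt N111965 (iv7 F478882)))
theorem Q105188 : ∀ i, i < 105188 → P i := stepQ 105187 Q105187 (allL N105187 (tt N120304 (iv1 F520121)) (tt N112787 (iv0 F482630)) (tt N111965 (iv2 F478880)) (tt N100856 F449151) (tt N69870 (iv4 D208383)) (tt N100880 F449152) (tt N110876 (iv6 F473561)) (tt N111966 (iv7 F478889)))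
theorem Q105189 : ∀ i, i < 105189 → P i := stepQ 105188 Q105188 (allL N105188 (tt N106206 F454303) (tt N113988 F488079) (tt N85451 F449153) (tt N69872 (iv3 D208384)) (tt N106400 (iv4 F454302)) (tt N70259 F449154) (tt N121099 D224358) (tt N113989 (iv7 F488084)))
theorem Q105190 : ∀ i, i < 105190 → P i := stepQ 105189 Q105189 (allL N105189 (tt N105249 (iv1 F449385)) (tt N104332 F449155) (tt N105245 F449370) (tt N111958 F478860) (tt N69872 (iv4 D208385)) (tt N119967 (iv5 F518305)) (tt N121100 D224359) (tt N105246 (iv7 F449373)))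
theorem Q105191 : ∀ i, i < 105191 → P i := stepQ 105190 Q105190 (allL N105190 (tt N116122 F498589) (tt N117263 F504172) (tt N105552 (iv2 F450705)) (tt N121099 (iv3 F524507)) (tt N121100 (iv4 F524512)) (tt N70260 F449156) (tt N69872 (iv6 D208386)) (tt N117262 F504164))
theorem Q105192 : ∀ i, i < 105192 → P i := stepQ 105191 Q105191 (allL N105191 (tt N104332 F449158) (tt N105249 F449384) (tt N105246 F449375) (tt N91127 F449157) (tt N69873 (iv4 D208387)) (tt N118431 (iv5 F510319)) (tt N120490 (iv6 F521046)) (tt N105245 F449372))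
theorem Q105193 : ∀ i, i < 105193 → P i := stepQ 105192 Q105192 (allL N105192 (tt N107390 F458191) (tt N82304 (iv0 F449161)) (tt N111969 F478904) (tt N71473 F449159) (tt N120490 (iv4 F521044)) (tt N71471 F449160) (tt N69873 (iv6 D208388)) (tt N111970 (iv7 F478906)))
theorem Q105194 : ∀ i, i < 105194 → P i := stepQ 105193 Q105193 (allL N105193 (tt N119970 (iv1 F518322)) (tt N69874 (iv0 D208389)) (tt N104106 (iv2 F449163)) (tt N110879 (iv3 F473574)) (tt N69930 F449162) (tt N110879 (iv5 F473576)) (tt N121101 D224360) (tt N110878 (iv7 F473572)))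
theorem Q105195 : ∀ i, i < 105195 → P i := stepQ 105194 Q105194 (allL N105194 (tt N69874 (iv1 D208390)) (tt N119970 (iv0 F518321)) (tt N110878 (iv2 F473567)) (tt N80506 (iv3 F449166)) (tt N69931 F449165) (tt N96264 (iv5 F449167)) (tt N120305 (iv6 F520123)) (tt N104106 F449164))
theorem Q105196 : ∀ i, i < 105196 → P i := stepQ 105195 Q105195 (allL N105195 (tt N120307 (iv1 F520136)) (tt N120305 (iv0 F520125)) (tt N120316 (iv2 F520162)) (tt N69874 (iv3 D208391)) (tt N107390 (iv4 F458188)) (tt N120303 (iv5 F520112)) (tt N107389 F458186) (tt N111968 (iv7 F478899)))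
theorem Q105197 : ∀ i, i < 105197 → P i := stepQ 105196 Q105196 (allL N105196 (tt N108463 (iv1 F462695)) (tt N100591 (iv0 F449170)) (tt N110884 (iv2 F473599)) (tt N120303 (iv3 F520111)) (tt N72522 F449168) (tt N69874 (iv5 D208392)) (tt N121102 D224361) (tt N72521 F449169))
theorem Q105198 : ∀ i, i < 105198 → P i := stepQ 105197 Q105197 (allL N105197 (tt N110878 (iv1 F473571)) (tt N104106 (iv0 F449173)) (tt N119970 (iv2 F518318)) (tt N111968 (iv3 F478897)) (tt N69875 F449171) (tt N72521 F449172) (tt N111967 F478895) (tt N69874 (iv7 D208393)))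
theorem Q105199 : ∀ i, i < 105199 → P i := stepQ 105198 Q105198 (allL N105198 (tt N89538 F449177) (tt N107645 (iv0 F459057)) (tt N121086 (iv2 F524443)) (tt N69877 F449174) (tt N100872 F449176) (tt N69876 (iv5 D208394)) (tt N100871 F449175) (tt N120973 (iv7 F523795)))
theorem Q105200 : ∀ i, i < 105200 → P i := stepQ 105199 Q105199 (allL N105199 (tt N100900 F449181) (tt N111963 F478874) (tt N100940 F449178) (tt N100874 F449179) (tt N69877 (iv4 D208395)) (tt N108463 (iv5 F462692)) (tt N100873 F449180) (tt N111962 (iv7 F478871)))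
theorem Q105201 : ∀ i, i < 105201 → P i := stepQ 105200 Q105200 (allL N105200 (tt N111963 (iv1 F478875)) (tt N100900 F449185) (tt N111962 F478868) (tt N80504 F449182) (tt N69878 (iv4 D208396)) (tt N100591 F449184) (tt N108021 (iv6 F460771)) (tt N100940 F449183))
theorem Q105202 : ∀ i, i < 105202 → P i := stepQ 105201 Q105201 (allL N105201 (tt N94638 F449188) (tt N94636 F449189) (tt N69882 F449186) (tt N117754 (iv3 F506799)) (tt N101835 F449187) (tt N69881 (iv5 D208397)) (tt N118163 (iv6 F508946)) (tt N117751 (iv7 F506781)))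
theorem Q105203 : ∀ i, i < 105203 → P i := stepQ 105202 Q105202 (allL N105202 (tt N120696 (iv1 F522206)) (tt N120654 (iv0 F521983)) (tt N69883 F449190) (tt N117755 (iv3 F506805)) (tt N69892 F449191) (tt N119279 (iv5 F514789)) (tt N69881 (iv6 D208398)) (tt N120925 (iv7 F523513)))
theorem Q105204 : ∀ i, i < 105204 → P i := stepQ 105203 Q105203 (allL N105203 (tt N69882 (iv1 D208399)) (tt N117751 (iv0 F506783)) (tt N94636 (iv2 F449195)) (tt N121051 F524243) (tt N90130 F449194) (tt N98710 F449193) (tt N104735 (iv6 F449204)) (tt N94638 F449192))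
theorem Q105205 : ∀ i, i < 105205 → P i := stepQ 105204 Q105204 (allL N105204 (tt N118664 (iv1 F511418)) (tt N112747 (iv0 F482484)) (tt N101835 F449196) (tt N71234 F449197) (tt N69882 (iv4 D208400)) (tt N101830 F449199) (tt N99327 (iv6 F449200)) (tt N101828 F449198))
theorem Q105206 : ∀ i, i < 105206 → P i := stepQ 105205 Q105205 (allL N105205 (tt N105377 F449963) (tt N118161 (iv0 F508936)) (tt N118163 F508944) (tt N69884 F449201) (tt N99327 F449202) (tt N103507 F449203) (tt N69882 (iv6 D208401)) (tt N107827 (iv7 F459884)))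
theorem Q105207 : ∀ i, i < 105207 → P i := stepQ 105206 Q105206 (allL N105206 (tt N69883 (iv1 D208402)) (tt N120925 F523515) (tt N120654 (iv2 F521979)) (tt N109448 (iv3 F467005)) (tt N113787 (iv4 F487109)) (tt N104645 (iv5 F449205)) (tt N102486 (iv6 F449206)) (tt N120696 (iv7 F522204)))
theorem Q105208 : ∀ i, i < 105208 → P i := stepQ 105207 Q105207 (allL N105207 (tt N69884 (iv1 D208403)) (tt N117761 F506844) (tt N75585 F449211) (tt N98648 (iv3 F449209)) (tt N90065 (iv4 F449208)) (tt N103815 F449207) (tt N90064 (iv6 F449210)) (tt N106250 (iv7 F453765)))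
theorem Q105209 : ∀ i, i < 105209 → P i := stepQ 105208 Q105208 (allL N105208 (tt N75585 (iv1 F449214)) (tt N106250 (iv0 F453766)) (tt N117761 (iv2 F506840)) (tt N107827 (iv3 F459883)) (tt N71242 F449212) (tt N103601 F449213) (tt N111175 (iv6 F475089)) (tt N69884 (iv7 D208404)))
theorem Q105210 : ∀ i, i < 105210 → P i := stepQ 105209 Q105209 (allL N105209 (tt N69887 (iv1 D208405)) (tt N70051 F449215) (tt N70594 (iv2 F449217)) (tt N105410 (iv3 F450124)) (tt N70592 F449216) (tt N111125 (iv5 F474800)) (tt N88873 (iv6 F451596)) (tt N105408 (iv7 F450119)))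
theorem Q105211 : ∀ i, i < 105211 → P i := stepQ 105210 Q105210 (allL N105210 (tt N105158 F449220) (tt N118653 (iv0 F511367)) (tt N103717 F449218) (tt N114584 (iv3 F490875)) (tt N118646 (iv4 F511319)) (tt N69888 (iv5 D208406)) (tt N103648 F449219) (tt N121009 (iv7 F523996)))
theorem Q105212 : ∀ i, i < 105212 → P i := stepQ 105211 Q105211 (allL N105211 (tt N69890 (iv1 D208407)) (tt N105397 (iv0 F450056)) (tt N70009 F449222) (tt N105535 (iv3 F450625)) (tt N120649 (iv4 F521952)) (tt N110354 (iv5 F471192)) (tt N71424 (iv6 F449221)) (tt N105555 (iv7 F450718)))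
theorem Q105213 : ∀ i, i < 105213 → P i := stepQ 105212 Q105212 (allL N105212 (tt N113440 F485503) (tt N83307 (iv0 F449225)) (tt N113441 (iv2 F485509)) (tt N71501 F449223) (tt N119748 (iv4 F517220)) (tt N69890 (iv5 D208408)) (tt N101296 F449224) (tt N105556 (iv7 F450723)))
theorem Q105214 : ∀ i, i < 105214 → P i := stepQ 105213 Q105213 (allL N105213 (tt N113881 F487607) (tt N119996 (iv0 F518460)) (tt N69896 F449226) (tt N101213 F449227) (tt N101832 F449228) (tt N117590 (iv5 F505874)) (tt N69891 (iv6 D208409)) (tt N103811 F449229))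
theorem Q105215 : ∀ i, i < 105215 → P i := stepQ 105214 Q105214 (allL N105214 (tt N69892 (iv1 D208410)) (tt N69900 F449230) (tt N69898 F449233) (tt N105838 (iv3 F451965)) (tt N120644 (iv4 F521925)) (tt N101045 F449234) (tt N90235 (iv6 F449232)) (tt N69897 F449231))
theorem Q105216 : ∀ i, i < 105216 → P i := stepQ 105215 Q105215 (allL N105215 (tt N69898 (iv1 F449238)) (tt N69897 F449239) (tt N69900 F449235) (tt N92027 F449236) (tt N120925 (iv4 F523510)) (tt N116514 (iv5 F500557)) (tt N92024 F449237) (tt N69892 (iv7 D208411)))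
theorem Q105217 : ∀ i, i < 105217 → P i := stepQ 105216 Q105216 (allL N105216 (tt N103811 (iv1 F449245)) (tt N69896 (iv0 D208412)) (tt N113881 (iv2 F487601)) (tt N75648 F449242) (tt N81322 F449241) (tt N83248 F449240) (tt N81321 F449243) (tt N119996 (iv7 F518459)))
theorem Q105218 : ∀ i, i < 105218 → P i := stepQ 105217 Q105217 (allL N105217 (tt N69896 (iv1 D208413)) (tt N103811 F449246) (tt N119996 (iv2 F518455)) (tt N113925 (iv3 F487818)) (tt N114453 (iv4 F490248)) (tt N101033 F449247) (tt N110306 (iv6 F470952)) (tt N113881 (iv7 F487605)))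
theorem Q105219 : ∀ i, i < 105219 → P i := stepQ 105218 Q105218 (allL N105218 (tt N119996 (iv1 F518461)) (tt N113881 (iv0 F487606)) (tt N103811 F449248) (tt N69902 F449249) (tt N97097 F449250) (tt N105060 F449251) (tt N97096 F449252) (tt N69896 (iv7 D208414)))
theorem Q105220 : ∀ i, i < 105220 → P i := stepQ 105219 Q105219 (allL N105219 (tt N88878 F449265) (tt N88873 F449266) (tt N71499 F449254) (tt N69897 (iv3 D208415)) (tt N105834 (iv4 F451937)) (tt N88882 (iv5 F449264)) (tt N71497 F449255) (tt N105838 (iv7 F451963)))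
theorem Q105221 : ∀ i, i < 105221 → P i := stepQ 105220 Q105220 (allL N105220 (tt N107046 F456761) (tt N119684 (iv0 F516904)) (tt N103849 F449256) (tt N118422 (iv3 F510267)) (tt N69897 (iv4 D208416)) (tt N104628 F449258) (tt N95987 F449257) (tt N120644 (iv7 F521927)))
theorem Q105222 : ∀ i, i < 105222 → P i := stepQ 105221 Q105221 (allL N105221 (tt N113055 (iv1 F483764)) (tt N96599 (iv0 F449262)) (tt N101922 F449259) (tt N88882 F449263) (tt N114335 (iv4 F489673)) (tt N69897 (iv5 D208417)) (tt N101919 F449260) (tt N101045 F449261))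
theorem Q105223 : ∀ i, i < 105223 → P i := stepQ 105222 Q105222 (allL N105222 (tt N96599 (iv1 F449271)) (tt N113055 (iv0 F483765)) (tt N101045 F449267) (tt N101924 F449268) (tt N119611 (iv4 F516505)) (tt N69898 (iv5 D208418)) (tt N83233 F449269) (tt N101922 F449270))
theorem Q105224 : ∀ i, i < 105224 → P i := stepQ 105223 Q105223 (allL N105223 (tt N116514 F500560) (tt N69899 (iv0 D208419)) (tt N76710 (iv2 F449274)) (tt N88870 (iv3 F449279)) (tt N100215 F449275) (tt N119204 (iv5 F514346)) (tt N76581 F449276) (tt N83251 F449277))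
theorem Q105225 : ∀ i, i < 105225 → P i := stepQ 105224 Q105224 (allL N105224 (tt N76579 (iv1 F449284)) (tt N76701 F449283) (tt N76700 F449280) (tt N86183 (iv3 F449281)) (tt N69899 (iv4 D208420)) (tt N120448 (iv5 F520831)) (tt N105886 F452184) (tt N76699 (iv7 F449282)))
theorem Q105226 : ∀ i, i < 105226 → P i := stepQ 105225 Q105225 (allL N105225 (tt N83251 (iv1 F449289)) (tt N76710 F449290) (tt N116514 (iv2 F500555)) (tt N69910 F449286) (tt N76699 F449287) (tt N69900 F449288) (tt N120200 (iv6 F519554)) (tt N69899 (iv7 D208421)))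
theorem Q105227 : ∀ i, i < 105227 → P i := stepQ 105226 Q105226 (allL N105226 (tt N85993 (iv1 F449295)) (tt N70075 F449294) (tt N69903 (iv2 D208422)) (tt N118743 (iv3 F511841)) (tt N75736 F449291) (tt N113847 (iv5 F487428)) (tt N70932 F449292) (tt N90406 F449293))
theorem Q105228 : ∀ i, i < 105228 → P i := stepQ 105227 Q105227 (allL N105227 (tt N86285 F449301) (tt N86283 F449300) (tt N113847 (iv2 F487430)) (tt N69904 F449296) (tt N82823 F449299) (tt N69903 (iv5 D208423)) (tt N71129 F449297) (tt N101067 F449298))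
theorem Q105229 : ∀ i, i < 105229 → P i := stepQ 105228 Q105228 (allL N105228 (tt N69906 (iv1 D208424)) (tt N118743 F511847) (tt N118742 F511838) (tt N88878 F449305) (tt N104630 (iv4 F449303)) (tt N88877 (iv5 F449304)) (tt N117626 (iv6 F506067)) (tt N95901 F449302))
theorem Q105230 : ∀ i, i < 105230 → P i := stepQ 105229 Q105229 (allL N105229 (tt N85468 F449308) (tt N85465 F449309) (tt N113841 F487392) (tt N69907 (iv3 D208425)) (tt N82889 (iv4 F449307)) (tt N70287 F449306) (tt N116423 (iv6 F500027)) (tt N113840 F487387))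
theorem Q105231 : ∀ i, i < 105231 → P i := stepQ 105230 Q105230 (allL N105230 (tt N105263 (iv1 F449458)) (tt N105083 F449315) (tt N105261 F449445) (tt N113647 (iv3 F486480)) (tt N69907 (iv4 D208426)) (tt N96579 F449313) (tt N110040 F469678) (tt N96520 F449314))
theorem Q105232 : ∀ i, i < 105232 → P i := stepQ 105231 Q105231 (allL N105231 (tt N107286 F457806) (tt N76583 (iv0 F449317)) (tt N114622 F491055) (tt N116423 (iv3 F500024)) (tt N110040 (iv4 F469677)) (tt N81947 F449316) (tt N69907 (iv6 D208427)) (tt N112032 (iv7 F479172)))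
theorem Q105233 : ∀ i, i < 105233 → P i := stepQ 105232 Q105232 (allL N105232 (tt N86061 F449320) (tt N85893 F449321) (tt N86167 (iv2 F449319)) (tt N69909 (iv3 D208428)) (tt N86183 F449318) (tt N112191 F479983) (tt N112192 (iv6 F479987)) (tt N86168 (iv7 F449322)))
theorem Q105234 : ∀ i, i < 105234 → P i := stepQ 105233 Q105233 (allL N105233 (tt N69919 (iv1 D208429)) (tt N69925 F449325) (tt N69923 F449330) (tt N83002 (iv3 F449327)) (tt N92735 (iv4 F449328)) (tt N113964 (iv5 F487992)) (tt N92137 (iv6 F449329)) (tt N69922 F449326))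
theorem Q105235 : ∀ i, i < 105235 → P i := stepQ 105234 Q105234 (allL N105234 (tt N85526 F449332) (tt N113983 F488061) (tt N69924 F449331) (tt N113814 (iv3 F487246)) (tt N119653 (iv4 F516728)) (tt N69919 (iv5 D208430)) (tt N108389 (iv6 F462371)) (tt N113982 (iv7 F488052)))
theorem Q105236 : ∀ i, i < 105236 → P i := stepQ 105235 Q105235 (allL N105235 (tt N97811 (iv1 F449336)) (tt N105882 F452169) (tt N105794 F451749) (tt N92743 F449333) (tt N69922 (iv4 D208431)) (tt N109684 (iv5 F468096)) (tt N82998 F449334) (tt N92735 F449335))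
theorem Q105237 : ∀ i, i < 105237 → P i := stepQ 105236 Q105236 (allL N105236 (tt N110141 F470153) (tt N100955 (iv0 F449339)) (tt N113605 (iv2 F486267)) (tt N82722 F449337) (tt N108415 (iv4 F462479)) (tt N69922 (iv5 D208432)) (tt N82720 F449338) (tt N113964 (iv7 F487994)))
theorem Q105238 : ∀ i, i < 105238 → P i := stepQ 105237 Q105237 (allL N105237 (tt N113982 F488056) (tt N69924 (iv0 D208433)) (tt N85526 (iv2 F449340)) (tt N113508 F485832) (tt N108423 F468033) (tt N114438 (iv5 F490165)) (tt N113507 (iv6 F485833)) (tt N113983 (iv7 F488059)))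
theorem Q105239 : ∀ i, i < 105239 → P i := stepQ 105238 Q105238 (allL N105238 (tt N98515 F449349) (tt N109670 (iv0 F468032)) (tt N119653 (iv2 F516732)) (tt N105240 F449347) (tt N69924 (iv4 D208434)) (tt N76376 (iv5 F449348)) (tt N108433 (iv6 F462537)) (tt N119654 (iv7 F516736)))
theorem Q105240 : ∀ i, i < 105240 → P i := stepQ 105239 Q105239 (allL N105239 (tt N113983 (iv1 F488060)) (tt N85526 (iv0 F449386)) (tt N113982 (iv2 F488054)) (tt N69933 F449341) (tt N119654 (iv4 F516738)) (tt N69925 F449342) (tt N120486 (iv6 F521023)) (tt N69924 (iv7 D208435)))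
theorem Q105241 : ∀ i, i < 105241 → P i := stepQ 105240 Q105240 (allL N105240 (tt N90948 F449345) (tt N78114 F449346) (tt N100980 F449343) (tt N105238 (iv3 F449347)) (tt N105247 (iv4 F449379)) (tt N69927 (iv5 D208436)) (tt N114042 F488327) (tt N100981 F449344))
theorem Q105242 : ∀ i, i < 105242 → P i := stepQ 105241 Q105241 (allL N105241 (tt N69959 F449352) (tt N99826 F449353) (tt N99875 (iv2 F449354)) (tt N69928 (iv3 D208437)) (tt N110792 (iv4 F473201)) (tt N121103 D224362) (tt N99869 F449350) (tt N99852 F449351))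
theorem Q105243 : ∀ i, i < 105243 → P i := stepQ 105242 Q105242 (allL N105242 (tt N78114 F449358) (tt N90948 F449359) (tt N100981 F449355) (tt N121103 (iv3 F524524)) (tt N121104 D224363) (tt N69928 (iv5 D208438)) (tt N100866 F449356) (tt N100980 F449357))
theorem Q105244 : ∀ i, i < 105244 → P i := stepQ 105243 Q105243 (allL N105243 (tt N88577 F449362) (tt N88576 (iv0 F449364)) (tt N88574 F449363) (tt N69930 (iv3 D208439)) (tt N108731 (iv4 F463743)) (tt N70248 F449360) (tt N114478 (iv6 F490385)) (tt N88575 F449361))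
theorem Q105245 : ∀ i, i < 105245 → P i := stepQ 105244 Q105244 (allL N105244 (tt N82285 F449367) (tt N82283 F449368) (tt N104102 F449365) (tt N114478 (iv3 F490383)) (tt N121101 (iv4 F524516)) (tt N70249 F449366) (tt N69930 (iv6 D208440)) (tt N120297 (iv7 F520092)))
theorem Q105246 : ∀ i, i < 105246 → P i := stepQ 105245 Q105245 (allL N105245 (tt N119976 (iv1 F518350)) (tt N69932 (iv0 D208441)) (tt N105189 (iv2 F449370)) (tt N84979 (iv3 F449371)) (tt N84315 F449369) (tt N107384 (iv5 F458167)) (tt N121105 D224364) (tt N105191 (iv7 F449372)))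
theorem Q105247 : ∀ i, i < 105247 → P i := stepQ 105246 Q105246 (allL N105246 (tt N69932 (iv1 D208442)) (tt N119976 (iv0 F518349)) (tt N105191 (iv2 F449375)) (tt N101490 F449377) (tt N105074 F449374) (tt N105140 (iv5 F449376)) (tt N101493 (iv6 F449378)) (tt N105189 F449373))
theorem Q105248 : ∀ i, i < 105248 → P i := stepQ 105247 Q105247 (allL N105247 (tt N120251 (iv1 F519821)) (tt N117379 (iv0 F504747)) (tt N120367 (iv2 F520402)) (tt N69932 (iv3 D208443)) (tt N105240 F449379) (tt N113997 (iv5 F488123)) (tt N120369 (iv6 F520414)) (tt N120368 (iv7 F520409)))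
theorem Q105249 : ∀ i, i < 105249 → P i := stepQ 105248 Q105248 (allL N105248 (tt N107389 (iv1 F458185)) (tt N107387 (iv0 F458175)) (tt N110871 (iv2 F473541)) (tt N113997 (iv3 F488120)) (tt N72566 F449380) (tt N69932 (iv5 D208444)) (tt N121106 D224365) (tt N72565 F449381))
theorem Q105250 : ∀ i, i < 105250 → P i := stepQ 105249 Q105249 (allL N105249 (tt N105191 (iv1 F449384)) (tt N105189 F449385) (tt N119976 (iv2 F518346)) (tt N120368 (iv3 F520407)) (tt N69933 F449382) (tt N72565 F449383) (tt N120488 (iv6 F521032)) (tt N69932 (iv7 D208445)))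
theorem Q105251 : ∀ i, i < 105251 → P i := stepQ 105250 Q105250 (allL N105250 (tt N116279 (iv1 F499332)) (tt N71007 (iv0 F449389)) (tt N111129 (iv2 F474825)) (tt N69938 F449387) (tt N104626 F449388) (tt N113450 (iv5 F485541)) (tt N69936 (iv6 D208446)) (tt N105596 (iv7 F450909)))
theorem Q105252 : ∀ i, i < 105252 → P i := stepQ 105251 Q105251 (allL N105251 (tt N69938 (iv1 D208447)) (tt N103355 F449390) (tt N69999 (iv2 F449393)) (tt N92153 (iv3 F449394)) (tt N92174 F449392) (tt N91131 (iv5 F449396)) (tt N97716 (iv6 F449395)) (tt N92147 F449391))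
theorem Q105253 : ∀ i, i < 105253 → P i := stepQ 105252 Q105252 (allL N105252 (tt N88729 F454584) (tt N88613 (iv0 F449398)) (tt N120972 (iv2 F523787)) (tt N113450 F485540) (tt N113429 F485460) (tt N69938 (iv5 D208448)) (tt N84372 F449397) (tt N105597 (iv7 F450912)))
theorem Q105254 : ∀ i, i < 105254 → P i := stepQ 105253 Q105253 (allL N105253 (tt N69943 (iv1 D208449)) (tt N87089 F449399) (tt N111799 (iv2 F478027)) (tt N87124 (iv3 F449402)) (tt N77291 F449401) (tt N111765 (iv5 F477857)) (tt N84241 F449403) (tt N77288 F449400))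
theorem Q105255 : ∀ i, i < 105255 → P i := stepQ 105254 Q105254 (allL N105254 (tt N91246 F449406) (tt N97179 (iv0 F449405)) (tt N115806 (iv2 F496986)) (tt N81650 F449404) (tt N115242 (iv4 F494176)) (tt N69943 (iv5 D208450)) (tt N115293 (iv6 F494427)) (tt N113688 (iv7 F486642)))
theorem Q105256 : ∀ i, i < 105256 → P i := stepQ 105255 Q105255 (allL N105255 (tt N84199 (iv1 F449411)) (tt N110596 F472309) (tt N102973 F449407) (tt N84364 F449408) (tt N69944 F449409) (tt N121107 D224366) (tt N69943 (iv6 D208451)) (tt N84362 F449410))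
theorem Q105257 : ∀ i, i < 105257 → P i := stepQ 105256 Q105256 (allL N105256 (tt N72048 F449413) (tt N119519 (iv0 F516029)) (tt N121046 (iv2 F524207)) (tt N69945 (iv3 D208452)) (tt N120696 (iv4 F522207)) (tt N121108 D224367) (tt N71967 F449412) (tt N113787 (iv7 F487110)))
theorem Q105258 : ∀ i, i < 105258 → P i := stepQ 105257 Q105257 (allL N105257 (tt N88709 F449417) (tt N88710 F449418) (tt N89732 F449414) (tt N121108 (iv3 F524551)) (tt N112015 (iv4 F479087)) (tt N69945 (iv5 D208453)) (tt N85375 F449415) (tt N89045 F449416))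
theorem Q105259 : ∀ i, i < 105259 → P i := stepQ 105258 Q105258 (allL N105258 (tt N99959 F449421) (tt N69967 F449422) (tt N113230 (iv2 F484606)) (tt N69948 (iv3 D208454)) (tt N113926 (iv4 F487826)) (tt N113224 (iv5 F484571)) (tt N84347 F449419) (tt N99884 F449420))
theorem Q105260 : ∀ i, i < 105260 → P i := stepQ 105259 Q105259 (allL N105259 (tt N79392 F449428) (tt N100978 F449429) (tt N99517 F449423) (tt N78974 F449424) (tt N73094 F449427) (tt N69949 (iv5 D208455)) (tt N73093 F449425) (tt N89037 F449426))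
theorem Q105261 : ∀ i, i < 105261 → P i := stepQ 105260 Q105260 (allL N105260 (tt N72054 F449440) (tt N72050 F449442) (tt N113234 (iv2 F484632)) (tt N69951 (iv3 D208456)) (tt N116185 (iv4 F498900)) (tt N70289 F449438) (tt N72595 F449439) (tt N116185 (iv7 F498901)))
theorem Q105262 : ∀ i, i < 105262 → P i := stepQ 105261 Q105261 (allL N105261 (tt N119182 (iv1 F514232)) (tt N69952 (iv0 D208457)) (tt N105230 (iv2 F449445)) (tt N86117 F449448) (tt N94915 F449444) (tt N94891 F449443) (tt N86116 (iv6 F449447)) (tt N99336 F449446))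
theorem Q105263 : ∀ i, i < 105263 → P i := stepQ 105262 Q105262 (allL N105262 (tt N94897 F449450) (tt N94895 F449451) (tt N111420 (iv2 F476270)) (tt N120777 (iv3 F522652)) (tt N96588 F449449) (tt N69952 (iv5 D208459)) (tt N101600 F449452) (tt N118133 (iv7 F508778)))
theorem Q105264 : ∀ i, i < 105264 → P i := stepQ 105263 Q105263 (allL N105263 (tt N99336 (iv1 F449457)) (tt N105230 F449458) (tt N119182 (iv2 F514238)) (tt N117621 F506043) (tt N69953 F449455) (tt N118133 (iv5 F508776)) (tt N101383 F449456) (tt N69952 (iv7 D208460)))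
theorem Q105265 : ∀ i, i < 105265 → P i := stepQ 105264 Q105264 (allL N105264 (tt N105639 (iv1 F451062)) (tt N75879 F449463) (tt N69981 F449459) (tt N113222 (iv3 F484556)) (tt N76803 F449460) (tt N69954 (iv5 D208461)) (tt N99951 F449461) (tt N72074 F449462))
theorem Q105266 : ∀ i, i < 105266 → P i := stepQ 105265 Q105265 (allL N105265 (tt N75662 F449466) (tt N74993 F449467) (tt N110271 (iv2 F470755)) (tt N69959 F449464) (tt N109592 (iv4 F467626)) (tt N84227 F449468) (tt N69955 (iv6 D208462)) (tt N99957 F449465))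
theorem Q105267 : ∀ i, i < 105267 → P i := stepQ 105266 Q105266 (allL N105266 (tt N69956 (iv1 D208463)) (tt N113809 F487217) (tt N113810 (iv2 F487220)) (tt N114951 F492727) (tt N120640 (iv4 F521905)) (tt N121109 D224368) (tt N72084 (iv6 F449470)) (tt N82966 F449469))
theorem Q105268 : ∀ i, i < 105268 → P i := stepQ 105267 Q105267 (allL N105267 (tt N121110 D224369) (tt N106980 (iv0 F456510)) (tt N120695 (iv2 F522196)) (tt N69962 F449471) (tt N84228 (iv4 F449473)) (tt N69956 (iv5 D208464)) (tt N84227 F449472) (tt N121111 D224370))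
theorem Q105269 : ∀ i, i < 105269 → P i := stepQ 105268 Q105268 (allL N105268 (tt N113810 (iv1 F487225)) (tt N82966 (iv0 F449477)) (tt N113809 F487213) (tt N69963 F449474) (tt N103795 F449475) (tt N121111 (iv5 F524566)) (tt N71015 F449476) (tt N69956 (iv7 D208465)))
theorem Q105270 : ∀ i, i < 105270 → P i := stepQ 105269 Q105269 (allL N105269 (tt N109668 F468023) (tt N112996 (iv0 F483482)) (tt N99961 F449478) (tt N84227 F449479) (tt N110166 (iv4 F470255)) (tt N69959 (iv5 D208466)) (tt N69962 F449480) (tt N99958 F449481))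
theorem Q105271 : ∀ i, i < 105271 → P i := stepQ 105270 Q105270 (allL N105270 (tt N100053 F449485) (tt N106497 (iv0 F454667)) (tt N100939 F449482) (tt N121086 (iv3 F524444)) (tt N100933 F449483) (tt N69961 (iv5 D208467)) (tt N82714 F449484) (tt N120718 (iv7 F522328)))
theorem Q105272 : ∀ i, i < 105272 → P i := stepQ 105271 Q105271 (allL N105271 (tt N72106 (iv1 F449491)) (tt N69962 (iv0 D208468)) (tt N104099 (iv2 F449487)) (tt N88574 F449488) (tt N104205 F449489) (tt N71410 F449486) (tt N113503 F485808) (tt N71409 F449490))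
theorem Q105273 : ∀ i, i < 105273 → P i := stepQ 105272 Q105272 (allL N105272 (tt N71409 (iv1 F449494)) (tt N104099 F449495) (tt N72106 F449492) (tt N121111 (iv3 F524564)) (tt N110068 (iv4 F469824)) (tt N69963 F449493) (tt N120483 (iv6 F521005)) (tt N69962 (iv7 D208469)))
theorem Q105274 : ∀ i, i < 105274 → P i := stepQ 105273 Q105273 (allL N105273 (tt N71899 F449500) (tt N72096 (iv0 F449502)) (tt N69965 F449496) (tt N72108 F449497) (tt N88775 F449498) (tt N91733 F449501) (tt N69964 (iv6 D208470)) (tt N72097 F449499))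
theorem Q105275 : ∀ i, i < 105275 → P i := stepQ 105274 Q105274 (allL N105274 (tt N69967 (iv1 D208471)) (tt N99959 F449503) (tt N99884 (iv2 F449505)) (tt N100193 (iv3 F449506)) (tt N74497 F449504) (tt N113231 (iv5 F484615)) (tt N74495 (iv6 F449507)) (tt N113230 (iv7 F484610)))
theorem Q105276 : ∀ i, i < 105276 → P i := stepQ 105275 Q105275 (allL N105275 (tt N116350 (iv1 F499668)) (tt N90096 F449511) (tt N72111 F449508) (tt N121112 D224371) (tt N69968 (iv4 D208472)) (tt N120857 (iv5 F523112)) (tt N103663 F449509) (tt N72104 F449510))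
theorem Q105277 : ∀ i, i < 105277 → P i := stepQ 105276 Q105276 (allL N105276 (tt N69976 (iv1 F449515)) (tt N69969 (iv0 D208473)) (tt N69971 (iv2 F449514)) (tt N102952 F449513) (tt N71805 F449512) (tt N111347 (iv5 F475936)) (tt N97942 (iv6 F449517)) (tt N69972 F449516))
theorem Q105278 : ∀ i, i < 105278 → P i := stepQ 105277 Q105277 (allL N105277 (tt N108291 (iv1 F461919)) (tt N91541 (iv0 F449523)) (tt N69975 F449518) (tt N73322 F449519) (tt N69970 F449520) (tt N73318 F449521) (tt N69969 (iv6 D208474)) (tt N103142 F449522))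
theorem Q105279 : ∀ i, i < 105279 → P i := stepQ 105278 Q105278 (allL N105278 (tt N75148 (iv1 F449527)) (tt N69973 (iv0 D208475)) (tt N92571 (iv2 F449526)) (tt N75781 F449524) (tt N109138 (iv4 F465516)) (tt N111348 (iv5 F475943)) (tt N101272 F449525) (tt N74422 F449528))
theorem Q105280 : ∀ i, i < 105280 → P i := stepQ 105279 Q105279 (allL N105279 (tt N69975 (iv1 D208476)) (tt N103142 F449529) (tt N91541 F449532) (tt N92231 (iv3 F449530)) (tt N108071 (iv4 F460990)) (tt N107923 (iv5 F460310)) (tt N91538 (iv6 F449531)) (tt N108291 (iv7 F461917)))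
theorem Q105281 : ∀ i, i < 105281 → P i := stepQ 105280 Q105280 (allL N105280 (tt N91541 (iv1 F449537)) (tt N108291 (iv0 F461918)) (tt N103142 F449533) (tt N101314 F449534) (tt N69979 F449535) (tt N108282 (iv5 F461862)) (tt N100407 F449536) (tt N69975 (iv7 D208477)))
theorem Q105282 : ∀ i, i < 105282 → P i := stepQ 105281 Q105281 (allL N105281 (tt N108811 (iv1 F464069)) (tt N82861 F449539) (tt N112702 (iv2 F482246)) (tt N75740 F449538) (tt N118685 (iv4 F511541)) (tt N69977 (iv5 D208478)) (tt N118451 F510438) (tt N109116 (iv7 F465412)))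
theorem Q105283 : ∀ i, i < 105283 → P i := stepQ 105282 Q105282 (allL N105282 (tt N81521 F449543) (tt N72796 (iv0 F449544)) (tt N75742 F449540) (tt N69978 (iv3 D208479)) (tt N79794 F449541) (tt N82910 F449545) (tt N76961 F449542) (tt N108069 (iv7 F460986)))
theorem Q105284 : ∀ i, i < 105284 → P i := stepQ 105283 Q105283 (allL N105283 (tt N82861 F449548) (tt N108811 (iv0 F464068)) (tt N109116 (iv2 F465415)) (tt N82910 F449546) (tt N98230 F449547) (tt N69978 (iv5 D208480)) (tt N98224 (iv6 F449549)) (tt N112702 (iv7 F482247)))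
theorem Q105285 : ∀ i, i < 105285 → P i := stepQ 105284 Q105284 (allL N105284 (tt N105596 F450910) (tt N111129 F474832) (tt N116279 (iv2 F499327)) (tt N69980 (iv3 D208481)) (tt N103634 F449550) (tt N113519 F485879) (tt N72086 F449551) (tt N71007 F449552))
theorem Q105286 : ∀ i, i < 105286 → P i := stepQ 105285 Q105285 (allL N105285 (tt N72076 F449556) (tt N72075 F449557) (tt N72078 F449553) (tt N113519 (iv3 F485880)) (tt N76794 F449554) (tt N69980 (iv5 D208482)) (tt N121113 D224372) (tt N71008 F449555))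
theorem Q105287 : ∀ i, i < 105287 → P i := stepQ 105286 Q105286 (allL N105286 (tt N72074 (iv1 F449559)) (tt N69981 (iv0 D208483)) (tt N105639 F451066) (tt N113448 (iv3 F485534)) (tt N76788 (iv4 F449561)) (tt N76770 F449558) (tt N113205 (iv6 F484473)) (tt N75879 (iv7 F449560)))
theorem Q105288 : ∀ i, i < 105288 → P i := stepQ 105287 Q105287 (allL N105287 (tt N69981 (iv1 D208484)) (tt N72074 F449562) (tt N75879 F449564) (tt N77431 F449565) (tt N76779 F449566) (tt N76783 (iv5 F449563)) (tt N75848 (iv6 F449567)) (tt N105639 (iv7 F451063)))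
theorem Q105289 : ∀ i, i < 105289 → P i := stepQ 105288 Q105288 (allL N105288 (tt N76801 (iv1 F449573)) (tt N76800 F449572) (tt N76803 F449568) (tt N89376 (iv3 F449574)) (tt N69981 (iv4 D208485)) (tt N76600 F449569) (tt N99189 F449570) (tt N76599 F449571))
theorem Q105290 : ∀ i, i < 105290 → P i := stepQ 105289 Q105289 (allL N105289 (tt N83871 (iv1 F449578)) (tt N69984 (iv0 D208486)) (tt N84260 F449580) (tt N104939 F449577) (tt N83869 F449576) (tt N91246 F449575) (tt N110601 (iv6 F472331)) (tt N84259 (iv7 F449579)))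
theorem Q105291 : ∀ i, i < 105291 → P i := stepQ 105290 Q105290 (allL N105290 (tt N69984 (iv1 D208487)) (tt N83871 F449581) (tt N84259 F449585) (tt N88098 (iv3 F449584)) (tt N83868 F449583) (tt N97179 F449586) (tt N88095 F449587) (tt N84260 F449582))
theorem Q105292 : ∀ i, i < 105292 → P i := stepQ 105291 Q105291 (allL N105291 (tt N121070 F524359) (tt N97182 F449591) (tt N115451 (iv2 F495253)) (tt N112427 (iv3 F481043)) (tt N120965 (iv4 F523746)) (tt N69984 (iv5 D208488)) (tt N95665 F449589) (tt N84268 F449590))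
theorem Q105293 : ∀ i, i < 105293 → P i := stepQ 105292 Q105292 (allL N105292 (tt N98758 (iv1 F449595)) (tt N108355 (iv0 F462221)) (tt N109707 (iv2 F468217)) (tt N69986 (iv3 D208489)) (tt N76273 F449592) (tt N105525 (iv5 F450578)) (tt N76271 F449593) (tt N75048 F449594))
theorem Q105294 : ∀ i, i < 105294 → P i := stepQ 105293 Q105293 (allL N105293 (tt N73723 F449599) (tt N101317 (iv0 F449601)) (tt N69988 F449596) (tt N106837 F455910) (tt N92540 F449597) (tt N99989 F449600) (tt N69987 (iv6 D208490)) (tt N77658 F449598))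
theorem Q105295 : ∀ i, i < 105295 → P i := stepQ 105294 Q105294 (allL N105294 (tt N99976 F449606) (tt N99905 F449607) (tt N99989 F449602) (tt N69990 F449603) (tt N118482 (iv4 F510610)) (tt N69988 (iv5 D208491)) (tt N96299 F449604) (tt N99988 F449605))
theorem Q105296 : ∀ i, i < 105296 → P i := stepQ 105295 Q105295 (allL N105295 (tt N95129 F449610) (tt N95685 F449611) (tt N108225 (iv2 F461555)) (tt N70132 F449608) (tt N69994 (iv4 D208492)) (tt N70131 F449609) (tt N107154 (iv6 F457222)) (tt N107670 (iv7 F459158)))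
theorem Q105297 : ∀ i, i < 105297 → P i := stepQ 105296 Q105296 (allL N105296 (tt N104103 F449615) (tt N70249 (iv0 F449616)) (tt N104100 F449612) (tt N85595 F449613) (tt N107154 (iv4 F457225)) (tt N112740 (iv5 F482457)) (tt N69994 (iv6 D208493)) (tt N104101 F449614))
theorem Q105298 : ∀ i, i < 105298 → P i := stepQ 105297 Q105297 (allL N105297 (tt N83411 F449620) (tt N119102 (iv0 F513802)) (tt N81851 F449617) (tt N81936 (iv3 F449621)) (tt N69995 (iv4 D208494)) (tt N120435 (iv5 F520770)) (tt N70003 F449618) (tt N101318 F449619))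
theorem Q105299 : ∀ i, i < 105299 → P i := stepQ 105298 Q105298 (allL N105298 (tt N91151 F449624) (tt N117133 (iv0 F503561)) (tt N92152 F449622) (tt N69997 F449623) (tt N107618 (iv4 F458957)) (tt N69996 (iv5 D208495)) (tt N107340 (iv6 F458017)) (tt N105656 (iv7 F451127)))
theorem Q105300 : ∀ i, i < 105300 → P i := stepQ 105299 Q105299 (allL N105299 (tt N113397 F485330) (tt N121114 D224373) (tt N105660 (iv2 F451136)) (tt N121115 D224374) (tt N69997 (iv4 D208496)) (tt N105304 (iv5 F449636)) (tt N107341 (iv6 F458019)) (tt N105658 (iv7 F451133)))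
theorem Q105301 : ∀ i, i < 105301 → P i := stepQ 105300 Q105300 (allL N105300 (tt N121114 (iv1 F524579)) (tt N113397 F485331) (tt N105658 (iv2 F451132)) (tt N121116 D224375) (tt N70000 (iv4 D208497)) (tt N105302 (iv5 F449628)) (tt N121117 D224376) (tt N105660 (iv7 F451137)))
theorem Q105302 : ∀ i, i < 105302 → P i := stepQ 105301 Q105301 (allL N105301 (tt N119825 (iv1 F517567)) (tt N111197 (iv0 F475188)) (tt N105659 (iv2 F451134)) (tt N90909 F449625) (tt N121117 (iv4 F524592)) (tt N71386 F449626) (tt N70000 (iv6 D208498)) (tt N107338 (iv7 F458010)))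
theorem Q105303 : ∀ i, i < 105303 → P i := stepQ 105302 Q105302 (allL N105302 (tt N118649 (iv1 F511341)) (tt N105166 F449629) (tt N105661 (iv2 F451139)) (tt N121118 D224377) (tt N70001 (iv4 D208499)) (tt N105300 F449628) (tt N113457 (iv6 F485579)) (tt N81919 F449627))
theorem Q105304 : ∀ i, i < 105304 → P i := stepQ 105303 Q105303 (allL N105303 (tt N120972 (iv1 F523791)) (tt N105597 (iv0 F450913)) (tt N88613 F449630) (tt N70002 (iv3 D208500)) (tt N83058 (iv4 F450201)) (tt N84006 F449631) (tt N81845 F449632) (tt N88729 F449633))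
theorem Q105305 : ∀ i, i < 105305 → P i := stepQ 105304 Q105304 (allL N105304 (tt N105166 F449638) (tt N118649 (iv0 F511340)) (tt N81919 F449635) (tt N109951 (iv3 F469362)) (tt N70002 (iv4 D208501)) (tt N105299 F449636) (tt N81846 F449637) (tt N105661 (iv7 F451141)))
theorem Q105306 : ∀ i, i < 105306 → P i := stepQ 105305 Q105305 (allL N105305 (tt N105308 (iv1 F449650)) (tt N70003 (iv0 D208502)) (tt N105662 F451146) (tt N113198 (iv3 F484435)) (tt N105311 (iv4 F449661)) (tt N105313 (iv5 F449666)) (tt N113197 F484433) (tt N81930 F449662))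
theorem Q105307 : ∀ i, i < 105307 → P i := stepQ 105306 Q105306 (allL N105306 (tt N70003 (iv1 D208503)) (tt N105308 F449649) (tt N81930 (iv2 F449663)) (tt N121119 D224378) (tt N105316 (iv4 F449674)) (tt N105310 (iv5 F449675)) (tt N81849 F449664) (tt N105662 (iv7 F451144)))
theorem Q105308 : ∀ i, i < 105308 → P i := stepQ 105307 Q105307 (allL N105307 (tt N90938 F449642) (tt N90882 F449644) (tt N81892 F449639) (tt N70003 (iv3 D208504)) (tt N89376 F449640) (tt N90911 (iv5 F449643)) (tt N81936 F449641) (tt N105663 (iv7 F451149)))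
theorem Q105309 : ∀ i, i < 105309 → P i := stepQ 105308 Q105308 (allL N105308 (tt N105306 (iv1 F449649)) (tt N105305 F449650) (tt N70432 F449645) (tt N90911 F449646) (tt N70198 F449648) (tt N70003 (iv5 D208505)) (tt N121120 D224379) (tt N105101 F449647))
theorem Q105310 : ∀ i, i < 105310 → P i := stepQ 105309 Q105309 (allL N105309 (tt N70005 (iv1 D208506)) (tt N70010 F449651) (tt N105664 F451152) (tt N112325 (iv3 F480567)) (tt N121121 D224380) (tt N70288 F449653) (tt N81947 (iv6 F449654)) (tt N83364 F449652))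
theorem Q105311 : ∀ i, i < 105311 → P i := stepQ 105310 Q105310 (allL N105310 (tt N116187 (iv1 F498917)) (tt N121061 (iv0 F524302)) (tt N105668 (iv2 F451170)) (tt N110229 (iv3 F470537)) (tt N70005 (iv4 D208507)) (tt N105306 F449675) (tt N110237 (iv6 F470566)) (tt N105665 (iv7 F451157)))
theorem Q105312 : ∀ i, i < 105312 → P i := stepQ 105311 Q105311 (allL N105311 (tt N70329 F449659) (tt N94918 F449660) (tt N105165 F449655) (tt N83053 F449656) (tt N105305 F449661) (tt N70007 (iv5 D208508)) (tt N83052 F449657) (tt N101206 F449658))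
theorem Q105313 : ∀ i, i < 105313 → P i := stepQ 105312 Q105312 (allL N105312 (tt N110353 (iv1 F471188)) (tt N83324 F471193) (tt N110354 (iv2 F471189)) (tt N70010 F449665) (tt N119918 F518037) (tt N70009 (iv5 D208509)) (tt N121122 D224381) (tt N105667 (iv7 F451168)))
theorem Q105314 : ∀ i, i < 105314 → P i := stepQ 105313 Q105313 (allL N105313 (tt N121061 (iv1 F524303)) (tt N116187 (iv0 F498916)) (tt N105665 (iv2 F451156)) (tt N106657 (iv3 F455182)) (tt N70010 (iv4 D208510)) (tt N105305 F449666) (tt N106655 F455178) (tt N105668 (iv7 F451172)))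
theorem Q105315 : ∀ i, i < 105315 → P i := stepQ 105314 Q105314 (allL N105314 (tt N113388 F485310) (tt N101308 (iv0 F449667)) (tt N105666 (iv2 F451159)) (tt N121122 (iv3 F524622)) (tt N106655 F455177) (tt N116999 F502901) (tt N70010 (iv6 D208511)) (tt N118765 (iv7 F511963)))
theorem Q105316 : ∀ i, i < 105316 → P i := stepQ 105315 Q105315 (allL N105315 (tt N112917 F483274) (tt N115403 F495019) (tt N110312 (iv2 F470986)) (tt N70011 (iv3 D208512)) (tt N121004 (iv4 F523971)) (tt N113334 (iv5 F485086)) (tt N101016 F449668) (tt N105669 (iv7 F451175)))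
theorem Q105317 : ∀ i, i < 105317 → P i := stepQ 105316 Q105316 (allL N105316 (tt N94918 F449672) (tt N70329 F449673) (tt N101206 F449669) (tt N113334 (iv3 F485085)) (tt N105306 F449674) (tt N70011 (iv5 D208513)) (tt N82542 F449670) (tt N105165 F449671))
theorem Q105318 : ∀ i, i < 105318 → P i := stepQ 105317 Q105317 (allL N105317 (tt N91793 F449681) (tt N90635 F449682) (tt N105087 F449676) (tt N105091 F449677) (tt N70012 (iv4 D208514)) (tt N77207 F449678) (tt N98000 F449679) (tt N85968 F449680))
theorem Q105319 : ∀ i, i < 105319 → P i := stepQ 105318 Q105318 (allL N105318 (tt N81401 F449688) (tt N75056 (iv0 F449689)) (tt N70014 F449683) (tt N78897 F449684) (tt N71480 F449685) (tt N81403 F449686) (tt N70013 (iv6 D208515)) (tt N92621 F449687))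
theorem Q105320 : ∀ i, i < 105320 → P i := stepQ 105319 Q105319 (allL N105319 (tt N92621 (iv1 F449694)) (tt N70014 (iv0 D208516)) (tt N81401 (iv2 F449693)) (tt N75063 F449692) (tt N90633 F449691) (tt N76617 F449690) (tt N114054 F488375) (tt N75056 F449695))
theorem Q105321 : ∀ i, i < 105321 → P i := stepQ 105320 Q105320 (allL N105320 (tt N84002 F449701) (tt N84001 F449702) (tt N83883 F449696) (tt N83535 F449697) (tt N70017 (iv4 D208517)) (tt N83533 F449698) (tt N85326 F449699) (tt N83996 F449700))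
theorem Q105322 : ∀ i, i < 105322 → P i := stepQ 105321 Q105321 (allL N105321 (tt N74373 F449705) (tt N99058 F449706) (tt N108027 (iv2 F460795)) (tt N121123 D224382) (tt N70019 (iv4 D208518)) (tt N108692 (iv5 F463577)) (tt N96889 F449703) (tt N94405 F449704))
theorem Q105323 : ∀ i, i < 105323 → P i := stepQ 105322 Q105322 (allL N105322 (tt N86835 (iv1 F449711)) (tt N111297 (iv0 F475690)) (tt N86765 F449707) (tt N70021 F449708) (tt N71862 F449710) (tt N70020 (iv5 D208519)) (tt N86299 F449709) (tt N115179 (iv7 F493883)))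
theorem Q105324 : ∀ i, i < 105324 → P i := stepQ 105323 Q105323 (allL N105323 (tt N106663 F455207) (tt N99077 (iv0 F449714)) (tt N119745 F517211) (tt N70022 (iv3 D208520)) (tt N121123 (iv4 F524628)) (tt N109969 (iv5 F469420)) (tt N96892 F449712) (tt N99286 F449713))
theorem Q105325 : ∀ i, i < 105325 → P i := stepQ 105324 Q105324 (allL N105324 (tt N97929 F449719) (tt N102329 (iv0 F449720)) (tt N109130 (iv2 F465470)) (tt N70025 F449715) (tt N92101 F449716) (tt N84789 F449717) (tt N70023 (iv6 D208521)) (tt N97970 F449718))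
theorem Q105326 : ∀ i, i < 105326 → P i := stepQ 105325 Q105325 (allL N105325 (tt N86821 F449726) (tt N111320 (iv0 F475808)) (tt N91678 F449721) (tt N84770 F449722) (tt N91499 F449723) (tt N84788 F449724) (tt N70024 (iv6 D208522)) (tt N86759 F449725))
theorem Q105327 : ∀ i, i < 105327 → P i := stepQ 105326 Q105326 (allL N105326 (tt N121124 D224383) (tt N120099 (iv0 F519039)) (tt N120531 (iv2 F521289)) (tt N70026 (iv3 D208523)) (tt N93845 F449727) (tt N113347 (iv5 F485131)) (tt N78054 F449728) (tt N119687 (iv7 F516920)))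
theorem Q105328 : ∀ i, i < 105328 → P i := stepQ 105327 Q105327 (allL N105327 (tt N115224 (iv1 F494103)) (tt N115147 (iv0 F493717)) (tt N115223 (iv2 F494096)) (tt N70038 (iv3 D208524)) (tt N115300 (iv4 F494462)) (tt N98725 F449729) (tt N108789 (iv6 F463944)) (tt N104083 F449730))
theorem Q105329 : ∀ i, i < 105329 → P i := stepQ 105328 Q105328 (allL N105328 (tt N93127 F449734) (tt N118057 F508339) (tt N111247 (iv2 F475416)) (tt N70039 (iv3 D208525)) (tt N115825 (iv4 F497100)) (tt N93199 F449731) (tt N92931 F449732) (tt N104084 F449733))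
theorem Q105330 : ∀ i, i < 105330 → P i := stepQ 105329 Q105329 (allL N105329 (tt N112331 (iv1 F480604)) (tt N99214 (iv0 F449738)) (tt N71501 F449735) (tt N117734 (iv3 F506690)) (tt N109923 (iv4 F469240)) (tt N70052 (iv5 D208526)) (tt N100427 F449736) (tt N71503 F449737))
theorem Q105331 : ∀ i, i < 105331 → P i := stepQ 105330 Q105330 (allL N105330 (tt N113707 F486753) (tt N113925 F487822) (tt N70077 F449739) (tt N91015 F449740) (tt N88195 F449741) (tt N106177 (iv5 F453467)) (tt N70060 (iv6 D208527)) (tt N113912 (iv7 F487749)))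
theorem Q105332 : ∀ i, i < 105332 → P i := stepQ 105331 Q105331 (allL N105331 (tt N117724 (iv1 F506634)) (tt N105883 (iv0 F452235)) (tt N117726 (iv2 F506642)) (tt N70061 (iv3 D208528)) (tt N70776 F449742) (tt N120356 (iv5 F520346)) (tt N84086 F449743) (tt N111264 (iv7 F475518)))
theorem Q105333 : ∀ i, i < 105333 → P i := stepQ 105332 Q105332 (allL N105332 (tt N100075 F449747) (tt N106557 (iv0 F454852)) (tt N117627 (iv2 F506072)) (tt N120356 (iv3 F520345)) (tt N88542 F449746) (tt N70061 (iv5 D208529)) (tt N84293 F449744) (tt N88541 F449745))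
theorem Q105334 : ∀ i, i < 105334 → P i := stepQ 105333 Q105333 (allL N105333 (tt N106557 (iv1 F454853)) (tt N100075 F449750) (tt N88541 F449748) (tt N121081 (iv3 F524419)) (tt N83169 F449749) (tt N70062 (iv5 D208530)) (tt N88534 (iv6 F449751)) (tt N117627 (iv7 F506075)))
theorem Q105335 : ∀ i, i < 105335 → P i := stepQ 105334 Q105334 (allL N105334 (tt N91797 (iv1 F449754)) (tt N70063 (iv0 D208531)) (tt N106855 (iv2 F456008)) (tt N119627 (iv3 F516587)) (tt N113749 (iv4 F486948)) (tt N71454 F449752) (tt N121125 D224384) (tt N71453 (iv7 F449753)))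
theorem Q105336 : ∀ i, i < 105336 → P i := stepQ 105335 Q105335 (allL N105335 (tt N104205 F449757) (tt N80505 F449758) (tt N100935 F449755) (tt N89958 (iv3 F449759)) (tt N70063 (iv4 D208532)) (tt N80501 F449756) (tt N120089 (iv6 F518988)) (tt N100934 (iv7 F449760)))
theorem Q105337 : ∀ i, i < 105337 → P i := stepQ 105336 Q105336 (allL N105336 (tt N71453 (iv1 F449764)) (tt N106855 F456011) (tt N91797 F449761) (tt N113949 (iv3 F487917)) (tt N100934 F449762) (tt N70064 F449763) (tt N121126 D224385) (tt N70063 (iv7 D208533)))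
theorem Q105338 : ∀ i, i < 105338 → P i := stepQ 105337 Q105337 (allL N105337 (tt N103323 F449766) (tt N80287 F449767) (tt N105876 F452137) (tt N111618 (iv3 F477178)) (tt N70073 (iv4 D208534)) (tt N120976 (iv5 F523811)) (tt N80525 F449765) (tt N112821 (iv7 F482786)))
theorem Q105339 : ∀ i, i < 105339 → P i := stepQ 105338 Q105338 (allL N105338 (tt N75645 F449770) (tt N101337 (iv0 F449771)) (tt N101202 F449768) (tt N70077 F449769) (tt N111256 (iv4 F475471)) (tt N113844 (iv5 F487410)) (tt N70074 (iv6 D208535)) (tt N112363 (iv7 F480753)))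
theorem Q105340 : ∀ i, i < 105340 → P i := stepQ 105339 Q105339 (allL N105339 (tt N113926 F487830) (tt N74497 (iv0 F449775)) (tt N88195 F449772) (tt N111257 (iv3 F475477)) (tt N70077 F449773) (tt N103061 F449774) (tt N70076 (iv6 D208536)) (tt N116209 (iv7 F499033)))
theorem Q105341 : ∀ i, i < 105341 → P i := stepQ 105340 Q105340 (allL N105340 (tt N106179 F453484) (tt N71182 F449778) (tt N106177 F453469) (tt N113844 (iv3 F487408)) (tt N103857 F449779) (tt N70077 (iv5 D208537)) (tt N70079 F449777) (tt N106178 (iv7 F453476)))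
theorem Q105342 : ∀ i, i < 105342 → P i := stepQ 105341 Q105341 (allL N105341 (tt N88873 (iv1 F449784)) (tt N88878 (iv0 F449785)) (tt N105838 (iv2 F451962)) (tt N70078 (iv3 D208538)) (tt N83625 F449780) (tt N88883 F449781) (tt N83624 F449782) (tt N71499 F449783))
theorem Q105343 : ∀ i, i < 105343 → P i := stepQ 105342 Q105342 (allL N105342 (tt N116908 F502448) (tt N113236 F484651) (tt N116902 (iv2 F502425)) (tt N113535 F485931) (tt N70079 (iv4 D208539)) (tt N121016 (iv5 F524030)) (tt N103857 F449787) (tt N116903 (iv7 F502432)))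
theorem Q105344 : ∀ i, i < 105344 → P i := stepQ 105343 Q105343 (allL N105343 (tt N70084 (iv1 D208540)) (tt N80072 F449788) (tt N95308 F449792) (tt N95411 (iv3 F449791)) (tt N78474 F449790) (tt N118962 (iv5 F512996)) (tt N78473 F449793) (tt N95414 F449789))
theorem Q105345 : ∀ i, i < 105345 → P i := stepQ 105344 Q105344 (allL N105344 (tt N95425 F449794) (tt N120996 (iv0 F523925)) (tt N114843 (iv2 F492145)) (tt N111309 (iv3 F475749)) (tt N121015 (iv4 F524024)) (tt N70084 (iv5 D208541)) (tt N111307 (iv6 F475746)) (tt N114844 (iv7 F492150)))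
theorem Q105346 : ∀ i, i < 105346 → P i := stepQ 105345 Q105345 (allL N105345 (tt N78628 (iv1 F449799)) (tt N78627 F449800) (tt N78630 F449795) (tt N70094 F449796) (tt N79367 F449797) (tt N102276 F449798) (tt N111930 (iv6 F478721)) (tt N70088 (iv7 D208542)))
theorem Q105347 : ∀ i, i < 105347 → P i := stepQ 105346 Q105346 (allL N105346 (tt N75160 F449805) (tt N75159 (iv0 F449806)) (tt N75163 F449801) (tt N81296 F449802) (tt N75053 F449803) (tt N112705 (iv5 F482265)) (tt N70099 (iv6 D208543)) (tt N75052 F449804))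
theorem Q105348 : ∀ i, i < 105348 → P i := stepQ 105347 Q105347 (allL N105347 (tt N81201 F449811) (tt N100708 F449812) (tt N94027 F449807) (tt N79546 F449808) (tt N79178 F449813) (tt N70102 (iv5 D208544)) (tt N94026 F449809) (tt N80239 F449810))
theorem Q105349 : ∀ i, i < 105349 → P i := stepQ 105348 Q105348 (allL N105348 (tt N86378 F449818) (tt N78558 (iv0 F449819)) (tt N78643 F449814) (tt N70107 F449815) (tt N103065 F449816) (tt N81063 F449817) (tt N70105 (iv6 D208545)) (tt N111922 (iv7 F478669)))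
theorem Q105350 : ∀ i, i < 105350 → P i := stepQ 105349 Q105349 (allL N105349 (tt N71333 F449825) (tt N80793 F449826) (tt N81106 F449820) (tt N81063 F449821) (tt N77860 F449824) (tt N70107 (iv5 D208546)) (tt N100514 F449822) (tt N101862 F449823))
theorem Q105351 : ∀ i, i < 105351 → P i := stepQ 105350 Q105350 (allL N105350 (tt N105534 F450618) (tt N104336 F449831) (tt N113039 (iv2 F483675)) (tt N70110 (iv3 D208547)) (tt N103442 F449827) (tt N87691 (iv5 F449830)) (tt N71645 F449828) (tt N70911 F449829))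
theorem Q105352 : ∀ i, i < 105352 → P i := stepQ 105351 Q105351 (allL N105351 (tt N71505 F449836) (tt N71504 F449837) (tt N71507 F449832) (tt N87691 F449833) (tt N76799 F449834) (tt N70110 (iv5 D208548)) (tt N116798 (iv6 F501896)) (tt N70915 F449835))
theorem Q105353 : ∀ i, i < 105353 → P i := stepQ 105352 Q105352 (allL N105352 (tt N99178 F449844) (tt N102724 (iv0 F449843)) (tt N92309 F449839) (tt N70117 (iv3 D208549)) (tt N92308 F449841) (tt N114963 (iv5 F492786)) (tt N92495 (iv6 F449842)) (tt N92312 F449840))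
theorem Q105354 : ∀ i, i < 105354 → P i := stepQ 105353 Q105353 (allL N105353 (tt N71891 F449847) (tt N93265 F449848) (tt N99465 F449845) (tt N99468 F449849) (tt N70117 (iv4 D208550)) (tt N120768 (iv5 F522608)) (tt N118305 (iv6 F509614)) (tt N102768 F449846))
theorem Q105355 : ∀ i, i < 105355 → P i := stepQ 105354 Q105354 (allL N105354 (tt N102786 F449853) (tt N81278 (iv0 F449854)) (tt N102773 F449850) (tt N92495 F449851) (tt N118305 (iv4 F509610)) (tt N94031 F449852) (tt N70117 (iv6 D208551)) (tt N102785 (iv7 F449855)))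
theorem Q105356 : ∀ i, i < 105356 → P i := stepQ 105355 Q105355 (allL N105355 (tt N102688 F449861) (tt N102687 F449860) (tt N70120 F449856) (tt N83631 F449857) (tt N103776 F449859) (tt N70119 (iv5 D208552)) (tt N83630 F449862) (tt N102289 F449858))
theorem Q105357 : ∀ i, i < 105357 → P i := stepQ 105356 Q105356 (allL N105356 (tt N70121 (iv1 D208553)) (tt N93300 F449863) (tt N93298 (iv2 F449867)) (tt N114462 (iv3 F490299)) (tt N85397 F449865) (tt N103157 F449866) (tt N110642 (iv6 F472557)) (tt N93297 F449864))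
theorem Q105358 : ∀ i, i < 105358 → P i := stepQ 105357 Q105357 (allL N105357 (tt N93290 F449872) (tt N93289 F449871) (tt N70127 F449868) (tt N91759 F449869) (tt N120822 (iv4 F522919)) (tt N70126 (iv5 D208554)) (tt N121033 (iv6 F524130)) (tt N93287 F449870))
theorem Q105359 : ∀ i, i < 105359 → P i := stepQ 105358 Q105358 (allL N105358 (tt N121001 F523954) (tt N104698 (iv0 F449875)) (tt N121033 (iv2 F524127)) (tt N70129 F449873) (tt N103598 F449874) (tt N111699 (iv5 F477559)) (tt N70127 (iv6 D208555)) (tt N115985 (iv7 F497909)))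
theorem Q105360 : ∀ i, i < 105360 → P i := stepQ 105359 Q105359 (allL N105359 (tt N88017 (iv1 F449877)) (tt N70128 (iv0 D208556)) (tt N91757 (iv2 F449876)) (tt N115102 F493491) (tt N117823 (iv4 F507134)) (tt N117033 F503062) (tt N116381 (iv6 F499802)) (tt N91758 F449878))
theorem Q105361 : ∀ i, i < 105361 → P i := stepQ 105360 Q105360 (allL N105360 (tt N88015 (iv1 F449882)) (tt N88014 F449883) (tt N88018 F449879) (tt N70130 F449880) (tt N115986 (iv4 F497913)) (tt N70128 (iv5 D208557)) (tt N111699 (iv6 F477560)) (tt N88016 F449881))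
theorem Q105362 : ∀ i, i < 105362 → P i := stepQ 105361 Q105361 (allL N105361 (tt N93311 (iv1 F449888)) (tt N70129 (iv0 D208558)) (tt N93308 (iv2 F449885)) (tt N71395 (iv3 F449887)) (tt N94733 F449884) (tt N112264 (iv5 F480273)) (tt N107219 (iv6 F457499)) (tt N93309 F449886))
theorem Q105363 : ∀ i, i < 105363 → P i := stepQ 105362 Q105362 (allL N105362 (tt N93309 (iv1 F449892)) (tt N93308 F449893) (tt N93311 F449889) (tt N115985 (iv3 F497908)) (tt N94706 F449890) (tt N111692 (iv5 F477514)) (tt N93300 F449891) (tt N70129 (iv7 D208559)))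
theorem Q105364 : ∀ i, i < 105364 → P i := stepQ 105363 Q105363 (allL N105363 (tt N73536 F449895) (tt N73538 F449896) (tt N93314 F449894) (tt N116006 (iv3 F498012)) (tt N70130 (iv4 D208560)) (tt N120008 (iv5 F518529)) (tt N111541 F476826) (tt N108208 (iv7 F461500)))
theorem Q105365 : ∀ i, i < 105365 → P i := stepQ 105364 Q105364 (allL N105364 (tt N114278 F489355) (tt N114462 F490304) (tt N83120 F449897) (tt N107154 (iv3 F457224)) (tt N85594 F449898) (tt N117573 (iv5 F505779)) (tt N70132 (iv6 D208561)) (tt N114461 (iv7 F490293)))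
theorem Q105366 : ∀ i, i < 105366 → P i := stepQ 105365 Q105365 (allL N105365 (tt N90292 F449903) (tt N93757 F449902) (tt N93759 F449899) (tt N117887 (iv3 F507439)) (tt N71974 F449900) (tt N70133 (iv5 D208562)) (tt N117573 (iv6 F505780)) (tt N93760 F449901))
theorem Q105367 : ∀ i, i < 105367 → P i := stepQ 105366 Q105366 (allL N105366 (tt N110853 (iv1 F473448)) (tt N108755 (iv0 F463822)) (tt N107673 (iv2 F459173)) (tt N90382 F449904) (tt N108622 (iv4 F463250)) (tt N70135 (iv5 D208563)) (tt N106268 (iv6 F453814)) (tt N108219 (iv7 F461543)))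
theorem Q105368 : ∀ i, i < 105368 → P i := stepQ 105367 Q105367 (allL N105367 (tt N95244 F449909) (tt N95243 F449910) (tt N70139 F449905) (tt N85199 F449906) (tt N70136 (iv4 D208564)) (tt N105969 (iv5 F452554)) (tt N85197 F449907) (tt N95245 F449908))
theorem Q105369 : ∀ i, i < 105369 → P i := stepQ 105368 Q105368 (allL N105368 (tt N90434 F449916) (tt N106251 (iv0 F453771)) (tt N95262 F449912) (tt N90449 F449913) (tt N70137 (iv4 D208565)) (tt N114319 (iv5 F489577)) (tt N103584 F449914) (tt N95259 F449915))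
theorem Q105370 : ∀ i, i < 105370 → P i := stepQ 105369 Q105369 (allL N105369 (tt N106251 (iv1 F453770)) (tt N90434 F449919) (tt N95259 F449917) (tt N112355 (iv3 F480718)) (tt N70138 (iv4 D208566)) (tt N96143 (iv5 F449920)) (tt N96146 F449921) (tt N95262 F449918))
theorem Q105371 : ∀ i, i < 105371 → P i := stepQ 105370 Q105370 (allL N105370 (tt N115106 (iv1 F493504)) (tt N114728 (iv0 F491560)) (tt N95260 F449923) (tt N107900 (iv3 F460185)) (tt N96146 F449924) (tt N108308 (iv5 F461995)) (tt N70138 (iv6 D208567)) (tt N105631 (iv7 F451036)))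
theorem Q105372 : ∀ i, i < 105372 → P i := stepQ 105371 Q105371 (allL N105371 (tt N70139 (iv1 D208568)) (tt N95245 F449925) (tt N95243 (iv2 F449932)) (tt N98218 (iv3 F449927)) (tt N98219 (iv4 F449928)) (tt N95976 F449929) (tt N95978 (iv6 F449930)) (tt N95244 F449926))
theorem Q105373 : ∀ i, i < 105373 → P i := stepQ 105372 Q105372 (allL N105372 (tt N77101 F449935) (tt N94863 (iv0 F449936)) (tt N119162 (iv2 F514124)) (tt N70142 F449933) (tt N77539 F449934) (tt N120456 (iv5 F520883)) (tt N70141 (iv6 D208569)) (tt N120163 (iv7 F519370)))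
theorem Q105374 : ∀ i, i < 105374 → P i := stepQ 105373 Q105373 (allL N105373 (tt N93347 (iv1 F449942)) (tt N70142 (iv0 D208570)) (tt N93345 (iv2 F449940)) (tt N85112 (iv3 F449943)) (tt N73027 F449938) (tt N101325 F449937) (tt N85110 F449939) (tt N70203 F449941))
theorem Q105375 : ∀ i, i < 105375 → P i := stepQ 105374 Q105374 (allL N105374 (tt N101069 F449946) (tt N101407 F449948) (tt N93346 F449944) (tt N120456 (iv3 F520882)) (tt N78734 F449947) (tt N70142 (iv5 D208571)) (tt N94666 F449945) (tt N101405 (iv7 F449949)))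
theorem Q105376 : ∀ i, i < 105376 → P i := stepQ 105375 Q105375 (allL N105375 (tt N70203 (iv1 F449954)) (tt N93345 F449955) (tt N93347 F449950) (tt N120163 (iv3 F519366)) (tt N93359 F449951) (tt N101405 F449952) (tt N93352 F449953) (tt N70142 (iv7 D208572)))
theorem Q105377 : ∀ i, i < 105377 → P i := stepQ 105376 Q105376 (allL N105376 (tt N93286 (iv1 F449960)) (tt N93283 F449959) (tt N70143 (iv2 D208573)) (tt N93348 F449956) (tt N121127 D224386) (tt N92383 F449957) (tt N116491 F500423) (tt N93342 F449958))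
theorem Q105378 : ∀ i, i < 105378 → P i := stepQ 105377 Q105377 (allL N105377 (tt N114553 F490745) (tt N105205 (iv0 F449963)) (tt N121127 (iv2 F524651)) (tt N94674 F449961) (tt N70143 (iv4 D208574)) (tt N107066 (iv5 F456834)) (tt N115398 (iv6 F494990)) (tt N93343 F449962))
theorem Q105379 : ∀ i, i < 105379 → P i := stepQ 105378 Q105378 (allL N105378 (tt N116962 (iv1 F502725)) (tt N117006 (iv0 F502936)) (tt N116491 (iv2 F500419)) (tt N70144 F449964) (tt N115398 (iv4 F494991)) (tt N90289 F449965) (tt N70143 (iv6 D208575)) (tt N117009 (iv7 F502952)))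
theorem Q105380 : ∀ i, i < 105380 → P i := stepQ 105379 Q105379 (allL N105379 (tt N93352 (iv1 F449971)) (tt N70144 (iv0 D208576)) (tt N93350 (iv2 F449968)) (tt N115106 F493507) (tt N73031 F449969) (tt N95072 F449966) (tt N73029 F449967) (tt N78441 F449970))
theorem Q105381 : ∀ i, i < 105381 → P i := stepQ 105380 Q105380 (allL N105380 (tt N108171 (iv1 F461386)) (tt N92917 (iv0 F449976)) (tt N93351 F449972) (tt N90289 F449973) (tt N93687 F449975) (tt N70144 (iv5 D208577)) (tt N92385 F449974) (tt N117300 (iv7 F504358)))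
theorem Q105382 : ∀ i, i < 105382 → P i := stepQ 105381 Q105381 (allL N105381 (tt N78441 (iv1 F449980)) (tt N93350 F449981) (tt N93352 F449977) (tt N117009 F502954) (tt N94677 F449978) (tt N117300 (iv5 F504357)) (tt N93347 F449979) (tt N70144 (iv7 D208578)))
theorem Q105383 : ∀ i, i < 105383 → P i := stepQ 105382 Q105382 (allL N105382 (tt N72890 F449985) (tt N85110 F449986) (tt N93357 F449983) (tt N116410 (iv3 F499957)) (tt N70146 (iv4 D208579)) (tt N116409 (iv5 F499954)) (tt N70146 (iv6 F449987)) (tt N80569 F449984))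
theorem Q105384 : ∀ i, i < 105384 → P i := stepQ 105383 Q105383 (allL N105383 (tt N101827 F449988) (tt N94510 (iv0 F449989)) (tt N106297 F453932) (tt N70150 (iv3 D208580)) (tt N106275 (iv4 F453843)) (tt N113314 (iv5 F484979)) (tt N89587 F449990) (tt N106298 (iv7 F453935)))
theorem Q105385 : ∀ i, i < 105385 → P i := stepQ 105384 Q105384 (allL N105384 (tt N72299 F449995) (tt N109941 F469325) (tt N96713 F449991) (tt N89587 F449992) (tt N110635 (iv4 F472526)) (tt N96399 F449993) (tt N70150 (iv6 D208581)) (tt N96679 F449994))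
theorem Q105386 : ∀ i, i < 105386 → P i := stepQ 105385 Q105385 (allL N105385 (tt N79080 F449999) (tt N106858 F456030) (tt N104967 F449996) (tt N70153 (iv3 D208582)) (tt N78947 F449997) (tt N105558 (iv5 F450726)) (tt N121128 D224387) (tt N70297 F449998))
theorem Q105387 : ∀ i, i < 105387 → P i := stepQ 105386 Q105386 (allL N105386 (tt N106849 (iv1 F455974)) (tt N101208 F450002) (tt N70303 F450000) (tt N121128 (iv3 F524658)) (tt N120636 (iv4 F521883)) (tt N121082 (iv5 F524424)) (tt N70153 (iv6 D208583)) (tt N105146 F450001))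
theorem Q105388 : ∀ i, i < 105388 → P i := stepQ 105387 Q105387 (allL N105387 (tt N70307 F450006) (tt N70306 F450007) (tt N70156 F450003) (tt N70276 F450004) (tt N115024 (iv4 F493091)) (tt N70155 (iv5 D208584)) (tt N96513 (iv6 F450008)) (tt N70304 F450005))
theorem Q105389 : ∀ i, i < 105389 → P i := stepQ 105388 Q105388 (allL N105388 (tt N70304 (iv1 F450010)) (tt N70156 (iv0 D208585)) (tt N70307 (iv2 F450011)) (tt N119688 (iv3 F516924)) (tt N110492 (iv4 F471825)) (tt N70164 F450009) (tt N110491 F471822) (tt N70306 (iv7 F450012)))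
theorem Q105390 : ∀ i, i < 105390 → P i := stepQ 105389 Q105389 (allL N105389 (tt N70156 (iv1 D208586)) (tt N70304 F450013) (tt N70306 (iv2 F450016)) (tt N70485 (iv3 F450017)) (tt N110499 (iv4 F471858)) (tt N70165 F450015) (tt N121077 (iv6 F524395)) (tt N70307 F450014))
theorem Q105391 : ∀ i, i < 105391 → P i := stepQ 105390 Q105390 (allL N105390 (tt N114920 F492538) (tt N121129 D224388) (tt N115024 (iv2 F493090)) (tt N72216 F450018) (tt N70156 (iv4 D208587)) (tt N113242 (iv5 F484674)) (tt N96633 F450019) (tt N70308 F450020))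
theorem Q105392 : ∀ i, i < 105392 → P i := stepQ 105391 Q105391 (allL N105391 (tt N104285 F450026) (tt N104283 F450027) (tt N70273 F450021) (tt N102301 F450022) (tt N70157 (iv4 D208588)) (tt N85680 F450025) (tt N71915 F450023) (tt N70269 F450024))
theorem Q105393 : ∀ i, i < 105393 → P i := stepQ 105392 Q105392 (allL N105392 (tt N105104 F450031) (tt N105106 F450032) (tt N103315 F450028) (tt N70158 (iv3 D208589)) (tt N73844 F450029) (tt N105540 (iv5 F450648)) (tt N108348 (iv6 F462185)) (tt N70272 F450030))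
theorem Q105394 : ∀ i, i < 105394 → P i := stepQ 105393 Q105393 (allL N105393 (tt N104107 F450035) (tt N101215 (iv0 F450036)) (tt N70271 F450033) (tt N108348 (iv3 F462183)) (tt N104286 F450034) (tt N117267 (iv5 F504192)) (tt N70158 (iv6 D208590)) (tt N108344 (iv7 F462172)))
theorem Q105395 : ∀ i, i < 105395 → P i := stepQ 105394 Q105394 (allL N105394 (tt N70279 F450042) (tt N70278 F450041) (tt N70160 F450037) (tt N70304 F450038) (tt N114905 (iv4 F492452)) (tt N70159 (iv5 D208591)) (tt N82933 F450039) (tt N70276 F450040))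
theorem Q105396 : ∀ i, i < 105396 → P i := stepQ 105395 Q105395 (allL N105395 (tt N114906 (iv1 F492463)) (tt N84791 (iv0 F450046)) (tt N114905 F492456) (tt N84828 F450043) (tt N70160 (iv4 D208592)) (tt N115700 (iv5 F496393)) (tt N86317 F450044) (tt N70280 F450045))
theorem Q105397 : ∀ i, i < 105397 → P i := stepQ 105396 Q105396 (allL N105396 (tt N105054 F450051) (tt N79082 (iv0 F450052)) (tt N106999 F456588) (tt N70163 (iv3 D208593)) (tt N103509 F450047) (tt N101194 F450048) (tt N100819 F450049) (tt N70317 F450050))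
theorem Q105398 : ∀ i, i < 105398 → P i := stepQ 105397 Q105397 (allL N105397 (tt N105211 F450056) (tt N70437 F450057) (tt N70350 F450053) (tt N92155 F450054) (tt N120627 (iv4 F521832)) (tt N113337 F485096) (tt N70164 (iv6 D208594)) (tt N105068 F450055))
theorem Q105399 : ∀ i, i < 105399 → P i := stepQ 105398 Q105398 (allL N105398 (tt N70353 F450062) (tt N70352 F450063) (tt N70167 F450058) (tt N70335 F450059) (tt N114590 (iv4 F490903)) (tt N70166 (iv5 D208595)) (tt N82243 F450060) (tt N70351 F450061))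
theorem Q105400 : ∀ i, i < 105400 → P i := stepQ 105399 Q105399 (allL N105399 (tt N120453 (iv1 F520870)) (tt N115077 (iv0 F493372)) (tt N114590 (iv2 F490900)) (tt N72293 F450064) (tt N70167 (iv4 D208596)) (tt N114588 (iv5 F490894)) (tt N82244 F450065) (tt N70354 F450066))
theorem Q105401 : ∀ i, i < 105401 → P i := stepQ 105400 Q105400 (allL N105400 (tt N70411 F450070) (tt N70192 F450071) (tt N70367 F450067) (tt N113034 (iv3 F483646)) (tt N106182 (iv4 F453495)) (tt N70169 (iv5 D208597)) (tt N73372 F450068) (tt N70363 F450069))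
theorem Q105402 : ∀ i, i < 105402 → P i := stepQ 105401 Q105401 (allL N105401 (tt N70192 F450076) (tt N70411 F450077) (tt N70363 F450072) (tt N101373 F450073) (tt N72381 F450075) (tt N70170 (iv5 D208598)) (tt N85839 (iv6 F450078)) (tt N70367 F450074))
theorem Q105403 : ∀ i, i < 105403 → P i := stepQ 105402 Q105402 (allL N105402 (tt N70368 (iv1 F450080)) (tt N70172 (iv0 D208599)) (tt N70371 (iv2 F450081)) (tt N86729 (iv3 F450082)) (tt N116883 (iv4 F502335)) (tt N94477 F450079) (tt N89685 F450084) (tt N70370 (iv7 F450083)))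
theorem Q105404 : ∀ i, i < 105404 → P i := stepQ 105403 Q105403 (allL N105403 (tt N70172 (iv1 D208600)) (tt N70368 F450085) (tt N70370 (iv2 F450088)) (tt N110259 (iv3 F470686)) (tt N117771 (iv4 F506882)) (tt N94478 F450087) (tt N119549 (iv6 F516189)) (tt N70371 F450086))
theorem Q105405 : ∀ i, i < 105405 → P i := stepQ 105404 Q105404 (allL N105404 (tt N85373 F450094) (tt N111131 (iv0 F474844)) (tt N85424 F450089) (tt N71229 F450090) (tt N70172 (iv4 D208601)) (tt N71227 F450093) (tt N85417 F450091) (tt N70372 F450092))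
theorem Q105406 : ∀ i, i < 105406 → P i := stepQ 105405 Q105405 (allL N105405 (tt N70187 F450100) (tt N70186 F450101) (tt N70190 F450095) (tt N70382 F450096) (tt N94000 F450099) (tt N70174 (iv5 D208602)) (tt N100175 F450097) (tt N70185 F450098))
theorem Q105407 : ∀ i, i < 105407 → P i := stepQ 105406 Q105406 (allL N105406 (tt N102471 F450106) (tt N70377 (iv0 F450107)) (tt N102435 F450102) (tt N70175 (iv3 D208603)) (tt N102432 F450103) (tt N115075 (iv5 F493355)) (tt N88635 F450104) (tt N70181 F450105))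
theorem Q105408 : ∀ i, i < 105408 → P i := stepQ 105407 Q105407 (allL N105407 (tt N112281 (iv1 F480330)) (tt N92161 (iv0 F450113)) (tt N77212 F450108) (tt N70179 F450109) (tt N104163 F450110) (tt N77203 F450111) (tt N70176 (iv6 D208604)) (tt N77210 F450112))
theorem Q105409 : ∀ i, i < 105409 → P i := stepQ 105408 Q105408 (allL N105408 (tt N70664 F450117) (tt N70661 (iv0 F450118)) (tt N70734 F450114) (tt N70177 (iv3 D208605)) (tt N70732 F450115) (tt N99817 F450116) (tt N121130 D224389) (tt N105209 F450119))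
theorem Q105410 : ∀ i, i < 105410 → P i := stepQ 105409 Q105409 (allL N105409 (tt N88802 F450121) (tt N90417 F450122) (tt N107054 (iv2 F456789)) (tt N121130 (iv3 F524672)) (tt N70179 F450120) (tt N121131 D224390) (tt N70177 (iv6 D208606)) (tt N107055 (iv7 F456793)))
theorem Q105411 : ∀ i, i < 105411 → P i := stepQ 105410 Q105410 (allL N105410 (tt N105169 (iv1 F450127)) (tt N94919 F450128) (tt N70182 F450123) (tt N105209 F450124) (tt N70180 F450125) (tt N78957 F450126) (tt N107042 (iv6 F456750)) (tt N70177 (iv7 D208607)))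
theorem Q105412 : ∀ i, i < 105412 → P i := stepQ 105411 Q105411 (allL N105411 (tt N70183 (iv1 F450135)) (tt N70178 (iv0 D208608)) (tt N70375 (iv2 F450132)) (tt N70388 F450133) (tt N85142 F450130) (tt N71928 F450129) (tt N95512 F450131) (tt N85138 F450134))
theorem Q105413 : ∀ i, i < 105413 → P i := stepQ 105412 Q105412 (allL N105412 (tt N85138 (iv1 F450141)) (tt N70375 F450142) (tt N70183 F450136) (tt N103935 F450137) (tt N104139 F450138) (tt N70180 F450139) (tt N85919 F450140) (tt N70178 (iv7 D208609)))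
theorem Q105414 : ∀ i, i < 105414 → P i := stepQ 105413 Q105413 (allL N105413 (tt N115076 (iv1 F493365)) (tt N85428 (iv0 F450147)) (tt N88949 F450143) (tt N70183 F450144) (tt N114997 (iv4 F492975)) (tt N70181 (iv5 D208610)) (tt N83760 F450145) (tt N115075 (iv7 F493360)))
theorem Q105415 : ∀ i, i < 105415 → P i := stepQ 105414 Q105414 (allL N105414 (tt N84096 F450150) (tt N87831 F450151) (tt N107042 (iv2 F456748)) (tt N105160 F450148) (tt N70184 F450149) (tt N90144 (iv5 F450152)) (tt N70182 (iv6 D208611)) (tt N107041 (iv7 F456745)))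
theorem Q105416 : ∀ i, i < 105416 → P i := stepQ 105415 Q105415 (allL N105415 (tt N89618 F450157) (tt N109726 F468306) (tt N104139 F450154) (tt N85901 F450158) (tt N70183 (iv4 D208612)) (tt N109750 (iv5 F468436)) (tt N84898 F450155) (tt N86207 F450156))
theorem Q105417 : ∀ i, i < 105417 → P i := stepQ 105416 Q105416 (allL N105416 (tt N70190 (iv1 F450160)) (tt N70185 (iv0 D208613)) (tt N70186 (iv2 F450161)) (tt N119174 (iv3 F514191)) (tt N121076 (iv4 F524386)) (tt N70245 F450159) (tt N114539 (iv6 F490671)) (tt N70187 (iv7 F450162)))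
theorem Q105418 : ∀ i, i < 105418 → P i := stepQ 105417 Q105417 (allL N105417 (tt N70185 (iv1 D208614)) (tt N70190 F450163) (tt N70187 (iv2 F450169)) (tt N101370 (iv3 F450166)) (tt N104201 F450168) (tt N70244 F450165) (tt N89274 (iv6 F450167)) (tt N70186 F450164))
theorem Q105419 : ∀ i, i < 105419 → P i := stepQ 105418 Q105418 (allL N105418 (tt N100228 (iv1 F450174)) (tt N100227 F450175) (tt N70188 F450170) (tt N114281 (iv3 F489370)) (tt N70185 (iv4 D208615)) (tt N94001 F450173) (tt N100172 F450171) (tt N94000 F450172))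
theorem Q105420 : ∀ i, i < 105420 → P i := stepQ 105419 Q105419 (allL N105419 (tt N76508 F450177) (tt N114531 (iv0 F490632)) (tt N114539 F490672) (tt N121047 (iv3 F524214)) (tt N109376 (iv4 F466651)) (tt N106388 (iv5 F454250)) (tt N70186 (iv6 D208616)) (tt N91071 F450176))
theorem Q105421 : ∀ i, i < 105421 → P i := stepQ 105420 Q105420 (allL N105420 (tt N109456 F467051) (tt N88917 (iv0 F462201)) (tt N101374 F450178) (tt N70187 (iv3 D208617)) (tt N101381 (iv4 F450179)) (tt N108352 F462200) (tt N121132 D224391) (tt N119174 (iv7 F514196)))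
theorem Q105422 : ∀ i, i < 105422 → P i := stepQ 105421 Q105421 (allL N105421 (tt N116125 F498608) (tt N78815 F450183) (tt N104201 F450180) (tt N83752 (iv3 F450182)) (tt N70187 (iv4 D208618)) (tt N83751 (iv5 F450181)) (tt N91036 F450184) (tt N121076 (iv7 F524389)))
theorem Q105423 : ∀ i, i < 105423 → P i := stepQ 105422 Q105422 (allL N105422 (tt N91070 F450188) (tt N91069 F450190) (tt N89274 F450185) (tt N121132 (iv3 F524683)) (tt N91036 F450186) (tt N89268 F450187) (tt N70187 (iv6 D208619)) (tt N91050 F450189))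
theorem Q105424 : ∀ i, i < 105424 → P i := stepQ 105423 Q105423 (allL N105423 (tt N94000 (iv1 F450192)) (tt N70188 (iv0 D208620)) (tt N100228 (iv2 F450191)) (tt N119003 (iv3 F513230)) (tt N121133 D224392) (tt N109722 (iv5 F468289)) (tt N114532 (iv6 F490636)) (tt N100227 F450193))
theorem Q105425 : ∀ i, i < 105425 → P i := stepQ 105424 Q105424 (allL N105424 (tt N88396 (iv1 F450200)) (tt N88393 F450199) (tt N100275 F450194) (tt N70198 F450195) (tt N90910 F450198) (tt N70191 (iv5 D208621)) (tt N100188 F450196) (tt N105100 F450197))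
theorem Q105426 : ∀ i, i < 105426 → P i := stepQ 105425 Q105425 (allL N105425 (tt N70367 (iv1 F450209)) (tt N70363 F450208) (tt N70192 (iv2 D208622)) (tt N70414 F450204) (tt N119230 (iv4 F514494)) (tt N74410 F450205) (tt N88875 F450206) (tt N70411 F450207))
theorem Q105427 : ∀ i, i < 105427 → P i := stepQ 105426 Q105426 (allL N105426 (tt N119231 (iv1 F514504)) (tt N119034 (iv0 F513398)) (tt N119230 (iv2 F514497)) (tt N71233 F450210) (tt N70192 (iv4 D208623)) (tt N108392 (iv5 F462387)) (tt N110523 (iv6 F471971)) (tt N70412 F450211))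
theorem Q105428 : ∀ i, i < 105428 → P i := stepQ 105427 Q105427 (allL N105427 (tt N85846 (iv1 F450218)) (tt N75123 (iv0 F450217)) (tt N86335 F450212) (tt N70195 (iv3 D208624)) (tt N85406 F450213) (tt N91019 F450214) (tt N83933 F450215) (tt N70421 F450216))
theorem Q105429 : ∀ i, i < 105429 → P i := stepQ 105428 Q105428 (allL N105428 (tt N118970 (iv1 F513043)) (tt N112616 F481858) (tt N70425 F450219) (tt N100188 F450220) (tt N121120 (iv4 F524610)) (tt N70197 (iv5 D208625)) (tt N70198 F450221) (tt N100224 F450222))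
theorem Q105430 : ∀ i, i < 105430 → P i := stepQ 105429 Q105429 (allL N105429 (tt N94822 F450228) (tt N94819 F450227) (tt N70202 F450223) (tt N94875 F450224) (tt N85109 F450225) (tt N70201 (iv5 D208626)) (tt N105615 (iv6 F450982)) (tt N85106 F450226))
theorem Q105431 : ∀ i, i < 105431 → P i := stepQ 105430 Q105430 (allL N105430 (tt N85106 (iv1 F450233)) (tt N70202 (iv0 D208627)) (tt N94822 (iv2 F450234)) (tt N108658 F463398) (tt N74946 F450232) (tt N72892 F450231) (tt N119514 (iv6 F516008)) (tt N94819 (iv7 F450235)))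
theorem Q105432 : ∀ i, i < 105432 → P i := stepQ 105431 Q105431 (allL N105431 (tt N70202 (iv1 D208628)) (tt N85106 F450236) (tt N94819 (iv2 F450242)) (tt N89759 (iv3 F450240)) (tt N76668 F450239) (tt N72893 F450238) (tt N85225 F450241) (tt N94822 F450237))
theorem Q105433 : ∀ i, i < 105433 → P i := stepQ 105432 Q105432 (allL N105432 (tt N93337 F450247) (tt N121134 D224393) (tt N105615 (iv2 F450981)) (tt N70203 F450243) (tt N85115 F450244) (tt N86141 F450245) (tt N70202 (iv6 D208629)) (tt N85112 F450246))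
theorem Q105434 : ∀ i, i < 105434 → P i := stepQ 105433 Q105433 (allL N105433 (tt N116985 F502835) (tt N105149 (iv0 F450250)) (tt N94372 F450248) (tt N116613 (iv3 F500972)) (tt N94364 F450249) (tt N108015 (iv5 F460739)) (tt N70207 (iv6 D208630)) (tt N116611 (iv7 F500964)))
theorem Q105435 : ∀ i, i < 105435 → P i := stepQ 105434 Q105434 (allL N105434 (tt N92384 F450253) (tt N107873 F460072) (tt N89980 F450251) (tt N110643 (iv3 F472559)) (tt N94375 F450252) (tt N121135 D224394) (tt N70208 (iv6 D208631)) (tt N107872 (iv7 F460067)))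
theorem Q105436 : ∀ i, i < 105436 → P i := stepQ 105435 Q105435 (allL N105435 (tt N101792 F450257) (tt N72287 (iv0 F450258)) (tt N94356 F450254) (tt N70226 (iv3 D208632)) (tt N72351 F450255) (tt N82854 F450259) (tt N121136 D224395) (tt N70232 F450256))
theorem Q105437 : ∀ i, i < 105437 → P i := stepQ 105436 Q105436 (allL N105436 (tt N72297 F450264) (tt N93721 F450265) (tt N70229 F450260) (tt N82854 F450261) (tt N82882 F450263) (tt N70226 (iv5 D208633)) (tt N82867 F450266) (tt N70234 F450262))
theorem Q105438 : ∀ i, i < 105438 → P i := stepQ 105437 Q105437 (allL N105437 (tt N73532 F450270) (tt N108943 (iv0 F464604)) (tt N70230 F450267) (tt N121136 (iv3 F524711)) (tt N97335 F450268) (tt N96521 F450269) (tt N70226 (iv6 D208634)) (tt N110892 (iv7 F473640)))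
theorem Q105439 : ∀ i, i < 105439 → P i := stepQ 105438 Q105438 (allL N105438 (tt N116412 F499970) (tt N117764 (iv0 F506857)) (tt N109496 (iv2 F467271)) (tt N70229 F450271) (tt N121009 (iv4 F523994)) (tt N70227 (iv5 D208635)) (tt N121137 D224396) (tt N118646 (iv7 F511320)))
theorem Q105440 : ∀ i, i < 105440 → P i := stepQ 105439 Q105439 (allL N105439 (tt N109326 F466462) (tt N109417 (iv0 F481949)) (tt N118645 (iv2 F511311)) (tt N70230 F450272) (tt N117467 (iv4 F505182)) (tt N112638 (iv5 F481945)) (tt N70227 (iv6 D208636)) (tt N110546 (iv7 F472079)))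
theorem Q105441 : ∀ i, i < 105441 → P i := stepQ 105440 Q105440 (allL N105440 (tt N78463 F450276) (tt N108167 (iv0 F461370)) (tt N82867 F450273) (tt N121137 (iv3 F524717)) (tt N82920 F450274) (tt N78453 F450275) (tt N70229 (iv6 D208637)) (tt N108168 (iv7 F461373)))
theorem Q105442 : ∀ i, i < 105442 → P i := stepQ 105441 Q105441 (allL N105441 (tt N93721 (iv1 F450280)) (tt N72297 F450281) (tt N70234 F450277) (tt N118646 (iv3 F511318)) (tt N86189 F450278) (tt N70231 F450279) (tt N118055 (iv6 F508324)) (tt N70229 (iv7 D208638)))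
theorem Q105443 : ∀ i, i < 105443 → P i := stepQ 105442 Q105442 (allL N105442 (tt N72287 (iv1 F450287)) (tt N101792 F450286) (tt N70232 (iv2 D208639)) (tt N101826 F450282) (tt N94202 F450283) (tt N101843 F450284) (tt N109350 (iv6 F466519)) (tt N94356 F450285))
theorem Q105444 : ∀ i, i < 105444 → P i := stepQ 105443 Q105443 (allL N105443 (tt N118056 (iv1 F508334)) (tt N76231 (iv0 F450291)) (tt N118055 F508325) (tt N104782 F450288) (tt N93131 F450289) (tt N96394 F450290) (tt N70234 (iv6 D208640)) (tt N105608 (iv7 F450960)))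
theorem Q105445 : ∀ i, i < 105445 → P i := stepQ 105444 Q105444 (allL N105444 (tt N96695 F450294) (tt N115758 (iv0 F496702)) (tt N114573 (iv2 F490825)) (tt N110441 F471610) (tt N114312 (iv4 F489541)) (tt N70235 (iv5 D208641)) (tt N96394 F450292) (tt N96390 F450293))
theorem Q105446 : ∀ i, i < 105446 → P i := stepQ 105445 Q105445 (allL N105445 (tt N101835 F450296) (tt N101828 (iv0 F450297)) (tt N112747 (iv2 F482482)) (tt N70236 (iv3 D208642)) (tt N105143 F450295) (tt N110836 (iv5 F473375)) (tt N119479 (iv6 F515827)) (tt N118664 (iv7 F511416)))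
theorem Q105447 : ∀ i, i < 105447 → P i := stepQ 105446 Q105446 (allL N105446 (tt N70238 (iv1 D208643)) (tt N73468 F450298) (tt N73469 (iv2 F450301)) (tt N120002 (iv3 F518493)) (tt N97321 F450300) (tt N107798 (iv5 F459768)) (tt N108953 (iv6 F464641)) (tt N73470 F450299))
theorem Q105448 : ∀ i, i < 105448 → P i := stepQ 105447 Q105447 (allL N105447 (tt N106677 (iv1 F455244)) (tt N99025 F450307) (tt N93626 F450302) (tt N71565 F450303) (tt N70241 (iv4 D208644)) (tt N71563 F450306) (tt N93625 F450304) (tt N73474 F450305))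
theorem Q105449 : ∀ i, i < 105449 → P i := stepQ 105448 Q105448 (allL N105448 (tt N105744 (iv1 F451500)) (tt N105746 (iv0 F451509)) (tt N102449 F450308) (tt N70245 (iv3 D208645)) (tt N102446 F450309) (tt N119174 F514194) (tt N116224 (iv6 F499115)) (tt N108352 F462199))
theorem Q105450 : ∀ i, i < 105450 → P i := stepQ 105449 Q105449 (allL N105449 (tt N70289 F450313) (tt N106985 (iv0 F456524)) (tt N88783 F450310) (tt N116224 F499113) (tt N82752 F450311) (tt N106370 F454187) (tt N70245 (iv6 D208646)) (tt N88781 F450312))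
theorem Q105451 : ∀ i, i < 105451 → P i := stepQ 105450 Q105450 (allL N105450 (tt N106996 (iv1 F456574)) (tt N84951 (iv0 F450319)) (tt N70248 F450314) (tt N71410 F450315) (tt N101002 F450316) (tt N88574 (iv5 F450318)) (tt N70246 (iv6 D208647)) (tt N71403 F450317))
theorem Q105452 : ∀ i, i < 105452 → P i := stepQ 105451 Q105451 (allL N105451 (tt N70248 (iv1 D208648)) (tt N71403 F450321) (tt N84951 (iv2 F450323)) (tt N114437 (iv3 F490160)) (tt N90410 F450322) (tt N116663 (iv5 F501198)) (tt N101004 F450324) (tt N106996 (iv7 F456575)))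
theorem Q105453 : ∀ i, i < 105453 → P i := stepQ 105452 Q105452 (allL N105452 (tt N105146 (iv1 F450328)) (tt N70303 (iv0 F450327)) (tt N106849 (iv2 F455978)) (tt N70253 (iv3 D208649)) (tt N103495 F450325) (tt N120330 (iv5 F520221)) (tt N105669 (iv6 F451174)) (tt N101208 F450326))
theorem Q105454 : ∀ i, i < 105454 → P i := stepQ 105453 Q105453 (allL N105453 (tt N104640 F450331) (tt N103643 (iv0 F450332)) (tt N103703 F450329) (tt N103711 F450330) (tt N70255 (iv4 D208650)) (tt N105457 (iv5 F450343)) (tt N106992 (iv6 F456552)) (tt N120999 (iv7 F523946)))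
theorem Q105455 : ∀ i, i < 105455 → P i := stepQ 105454 Q105454 (allL N105454 (tt N104967 (iv1 F450336)) (tt N70297 F450337) (tt N106858 F456029) (tt N70256 (iv3 D208651)) (tt N79081 F450334) (tt N106183 (iv5 F453499)) (tt N114667 (iv6 F491287)) (tt N79080 F450335))
theorem Q105456 : ∀ i, i < 105456 → P i := stepQ 105455 Q105455 (allL N105455 (tt N70286 F450339) (tt N119201 F514334) (tt N116286 (iv2 F499363)) (tt N114667 (iv3 F491285)) (tt N121007 (iv4 F523983)) (tt N104141 (iv5 F450340)) (tt N70256 (iv6 D208652)) (tt N116321 (iv7 F499548)))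
theorem Q105457 : ∀ i, i < 105457 → P i := stepQ 105456 Q105456 (allL N105456 (tt N92284 (iv1 F450595)) (tt N105527 (iv0 F450593)) (tt N70258 F450341) (tt N105548 (iv3 F450682)) (tt N106158 (iv4 F453385)) (tt N70257 (iv5 D208653)) (tt N99778 F450342) (tt N105543 (iv7 F450664)))
theorem Q105458 : ∀ i, i < 105458 → P i := stepQ 105457 Q105457 (allL N105457 (tt N104513 (iv1 F450928)) (tt N120862 F523146) (tt N106158 F453389) (tt N107512 (iv3 F458598)) (tt N70258 (iv4 D208654)) (tt N105453 F450343) (tt N111227 F475315) (tt N105544 (iv7 F450668)))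
theorem Q105459 : ∀ i, i < 105459 → P i := stepQ 105458 Q105458 (allL N105458 (tt N99767 F450346) (tt N99780 F450347) (tt N99778 F450344) (tt N70260 F450345) (tt N111227 (iv4 F475317)) (tt N121099 (iv5 F524509)) (tt N70258 (iv6 D208655)) (tt N99777 (iv7 F450704)))
theorem Q105460 : ∀ i, i < 105460 → P i := stepQ 105459 Q105459 (allL N105459 (tt N105553 (iv1 F450712)) (tt N70260 (iv0 D208656)) (tt N105550 F450692) (tt N121138 D224397) (tt N107221 (iv4 F457509)) (tt N120252 (iv5 F519823)) (tt N100605 F450348) (tt N105551 (iv7 F450699)))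
theorem Q105461 : ∀ i, i < 105461 → P i := stepQ 105460 Q105460 (allL N105460 (tt N70260 (iv1 D208657)) (tt N105553 F450711) (tt N105551 F450701) (tt N118003 (iv3 F508027)) (tt N107222 F457521) (tt N107385 (iv5 F458168)) (tt N99528 (iv6 F450349)) (tt N105550 F450696))
theorem Q105462 : ∀ i, i < 105462 → P i := stepQ 105461 Q105461 (allL N105461 (tt N105551 (iv1 F450698)) (tt N105550 F450702) (tt N105553 (iv2 F450709)) (tt N99777 F450703) (tt N107515 (iv4 F458616)) (tt N117262 (iv5 F504160)) (tt N105547 (iv6 F450673)) (tt N70260 (iv7 D208658)))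
theorem Q105463 : ∀ i, i < 105463 → P i := stepQ 105462 Q105462 (allL N105462 (tt N115086 F493420) (tt N70287 F450353) (tt N88797 F450350) (tt N104110 F450351) (tt N105709 (iv4 F451358)) (tt N84065 (iv5 F450352)) (tt N70262 (iv6 D208659)) (tt N115083 (iv7 F493403)))
theorem Q105464 : ∀ i, i < 105464 → P i := stepQ 105463 Q105463 (allL N105463 (tt N71631 F450358) (tt N70268 F450360) (tt N86345 F450354) (tt N70263 (iv3 D208660)) (tt N97719 F450355) (tt N85931 F450356) (tt N90415 (iv6 F450359)) (tt N88799 F450357))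
theorem Q105465 : ∀ i, i < 105465 → P i := stepQ 105464 Q105464 (allL N105464 (tt N70316 F450365) (tt N105108 (iv0 F450366)) (tt N105109 F450361) (tt N90415 F450362) (tt N114440 (iv4 F490180)) (tt N91448 F450363) (tt N70263 (iv6 D208661)) (tt N105110 F450364))
theorem Q105466 : ∀ i, i < 105466 → P i := stepQ 105465 Q105465 (allL N105465 (tt N106242 F453727) (tt N85581 (iv0 F450371)) (tt N71466 F450367) (tt N70266 F450368) (tt N89851 F450369) (tt N70931 F450370) (tt N70265 (iv6 D208662)) (tt N106241 (iv7 F453720)))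
theorem Q105467 : ∀ i, i < 105467 → P i := stepQ 105466 Q105466 (allL N105466 (tt N105547 (iv1 F450680)) (tt N70266 (iv0 D208663)) (tt N105546 (iv2 F450677)) (tt N116793 (iv3 F501866)) (tt N95219 (iv4 F450679)) (tt N112612 (iv5 F481843)) (tt N100620 F450681) (tt N95218 F450678))
theorem Q105468 : ∀ i, i < 105468 → P i := stepQ 105467 Q105467 (allL N105467 (tt N70266 (iv1 D208664)) (tt N105547 F450675) (tt N95218 F450374) (tt N120565 (iv3 F521484)) (tt N95206 (iv4 F450372)) (tt N117000 F502907) (tt N95205 (iv6 F450373)) (tt N105546 (iv7 F450676)))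
theorem Q105469 : ∀ i, i < 105469 → P i := stepQ 105468 Q105468 (allL N105468 (tt N79165 F450378) (tt N119733 (iv0 F517156)) (tt N105147 F450375) (tt N70931 F450376) (tt N118232 (iv4 F509274)) (tt N70266 (iv5 D208665)) (tt N70267 F450377) (tt N117025 (iv7 F503021)))
theorem Q105470 : ∀ i, i < 105470 → P i := stepQ 105469 Q105469 (allL N105469 (tt N95218 (iv1 F450380)) (tt N105546 F450674) (tt N105547 (iv2 F450671)) (tt N106241 F453722) (tt N93785 F450379) (tt N117025 (iv5 F503022)) (tt N105553 (iv6 F450710)) (tt N70266 (iv7 D208666)))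
theorem Q105471 : ∀ i, i < 105471 → P i := stepQ 105470 Q105470 (allL N105470 (tt N85989 F450385) (tt N90412 (iv0 F450386)) (tt N103316 F450381) (tt N70271 F450382) (tt N103236 F450383) (tt N113948 (iv5 F487912)) (tt N70268 (iv6 D208667)) (tt N71626 F450384))
theorem Q105472 : ∀ i, i < 105472 → P i := stepQ 105471 Q105471 (allL N105471 (tt N102419 F450390) (tt N102418 F450392) (tt N93018 F450387) (tt N70269 (iv3 D208668)) (tt N103235 F450388) (tt N111668 (iv5 F477390)) (tt N102414 (iv6 F450391)) (tt N102301 F450389))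
theorem Q105473 : ∀ i, i < 105473 → P i := stepQ 105472 Q105472 (allL N105472 (tt N112491 (iv1 F481330)) (tt N110313 F470995) (tt N104286 F450393) (tt N102414 F450394) (tt N70271 F450395) (tt N111864 (iv5 F478379)) (tt N70269 (iv6 D208669)) (tt N102405 F450396))
theorem Q105474 : ∀ i, i < 105474 → P i := stepQ 105473 Q105473 (allL N105473 (tt N101215 (iv1 F450400)) (tt N104107 F450401) (tt N108344 (iv2 F462169)) (tt N71626 F450397) (tt N102405 F450398) (tt N113994 (iv5 F488102)) (tt N71620 F450399) (tt N70271 (iv7 D208670)))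
theorem Q105475 : ∀ i, i < 105475 → P i := stepQ 105474 Q105474 (allL N105474 (tt N103315 (iv1 F450404)) (tt N70272 (iv0 D208671)) (tt N105106 (iv2 F450403)) (tt N106858 (iv3 F456027)) (tt N98544 F450402) (tt N121133 (iv5 F524691)) (tt N88788 (iv6 F450406)) (tt N105104 F450405))
theorem Q105476 : ∀ i, i < 105476 → P i := stepQ 105475 Q105475 (allL N105475 (tt N84896 F450409) (tt N109770 (iv0 F468534)) (tt N85560 F450407) (tt N70274 F450408) (tt N109726 (iv4 F468304)) (tt N70272 (iv5 D208672)) (tt N107267 F457714) (tt N105540 (iv7 F450649)))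
theorem Q105477 : ∀ i, i < 105477 → P i := stepQ 105476 Q105476 (allL N105476 (tt N82923 F450411) (tt N87600 F450412) (tt N105538 (iv2 F450638)) (tt N118445 (iv3 F510396)) (tt N70274 (iv4 D208673)) (tt N118103 (iv5 F508606)) (tt N117993 (iv6 F507966)) (tt N103032 F450410))
theorem Q105478 : ∀ i, i < 105478 → P i := stepQ 105477 Q105477 (allL N105477 (tt N116793 F501871) (tt N85551 (iv0 F450413)) (tt N105539 (iv2 F450644)) (tt N107267 (iv3 F457715)) (tt N117993 (iv4 F507964)) (tt N107909 (iv5 F460228)) (tt N70274 (iv6 D208674)) (tt N116983 (iv7 F502821)))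
theorem Q105479 : ∀ i, i < 105479 → P i := stepQ 105478 Q105478 (allL N105478 (tt N105625 (iv1 F451011)) (tt N108231 (iv0 F461596)) (tt N115720 (iv2 F496500)) (tt N76435 F450414) (tt N70278 (iv4 D208675)) (tt N76472 F450416) (tt N98244 F450415) (tt N115721 (iv7 F496510)))
theorem Q105480 : ∀ i, i < 105480 → P i := stepQ 105479 Q105479 (allL N105479 (tt N121133 (iv1 F524695)) (tt N107002 (iv0 F456605)) (tt N90447 F450417) (tt N70279 (iv3 D208676)) (tt N109364 (iv4 F466591)) (tt N70333 F450418) (tt N109363 (iv6 F466589)) (tt N111195 (iv7 F475178)))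
theorem Q105481 : ∀ i, i < 105481 → P i := stepQ 105480 Q105480 (allL N105480 (tt N108231 F461597) (tt N105625 (iv0 F451010)) (tt N115721 (iv2 F496507)) (tt N109073 (iv3 F465227)) (tt N70279 (iv4 D208677)) (tt N87596 F450419) (tt N102377 (iv6 F450420)) (tt N115720 (iv7 F496503)))
theorem Q105482 : ∀ i, i < 105482 → P i := stepQ 105481 Q105481 (allL N105481 (tt N100598 F450425) (tt N77293 (iv0 F450426)) (tt N100596 F450421) (tt N109363 (iv3 F466585)) (tt N102377 F450422) (tt N105116 F450423) (tt N70279 (iv6 D208678)) (tt N100597 F450424))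
theorem Q105483 : ∀ i, i < 105483 → P i := stepQ 105482 Q105482 (allL N105482 (tt N70280 (iv1 D208679)) (tt N114905 F492458) (tt N114906 (iv2 F492459)) (tt N121139 D224398) (tt N113034 (iv4 F483649)) (tt N87604 F450428) (tt N114903 (iv6 F492444)) (tt N84791 F450427))
theorem Q105484 : ∀ i, i < 105484 → P i := stepQ 105483 Q105483 (allL N105483 (tt N104022 F450432) (tt N118110 F508657) (tt N115023 (iv2 F493083)) (tt N85231 F450429) (tt N104879 F450431) (tt N70280 (iv5 D208680)) (tt N86851 F450430) (tt N115700 (iv7 F496394)))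
theorem Q105485 : ∀ i, i < 105485 → P i := stepQ 105484 Q105484 (allL N105484 (tt N118648 (iv1 F511335)) (tt N86332 (iv0 F450898)) (tt N121140 D224399) (tt N70285 (iv3 D208681)) (tt N114345 F489734) (tt N114770 (iv5 F491766)) (tt N116920 (iv6 F502499)) (tt N81432 F450433))
theorem Q105486 : ∀ i, i < 105486 → P i := stepQ 105485 Q105485 (allL N105485 (tt N85534 F450437) (tt N77121 (iv0 F450438)) (tt N100627 F450434) (tt N116920 (iv3 F502498)) (tt N95679 F450435) (tt N111955 (iv5 F478847)) (tt N70285 (iv6 D208682)) (tt N80530 F450436))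
theorem Q105487 : ∀ i, i < 105487 → P i := stepQ 105486 Q105486 (allL N105486 (tt N119201 (iv1 F514333)) (tt N70286 (iv0 D208683)) (tt N116321 (iv2 F499545)) (tt N88787 F450439) (tt N116226 (iv4 F499122)) (tt N104142 F450440) (tt N105054 (iv6 F450441)) (tt N116286 (iv7 F499366)))
theorem Q105488 : ∀ i, i < 105488 → P i := stepQ 105487 Q105487 (allL N105487 (tt N116321 (iv1 F499549)) (tt N116286 (iv0 F499367)) (tt N70286 (iv2 D208684)) (tt N115086 (iv3 F493415)) (tt N115792 (iv4 F496908)) (tt N98393 F450442) (tt N105117 F450443) (tt N119201 (iv7 F514332)))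
theorem Q105489 : ∀ i, i < 105489 → P i := stepQ 105488 Q105488 (allL N105488 (tt N88797 F452393) (tt N115083 (iv0 F493404)) (tt N70287 (iv2 D208685)) (tt N119201 (iv3 F514329)) (tt N105782 (iv4 F451690)) (tt N113841 (iv5 F487391)) (tt N114381 (iv6 F489889)) (tt N115086 (iv7 F493418)))
theorem Q105490 : ∀ i, i < 105490 → P i := stepQ 105489 Q105489 (allL N105489 (tt N90624 F450447) (tt N85990 (iv0 F450448)) (tt N114381 (iv2 F489887)) (tt N70288 F450444) (tt N85985 F450445) (tt N112325 (iv5 F480563)) (tt N70287 (iv6 D208686)) (tt N105118 F450446))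
theorem Q105491 : ∀ i, i < 105491 → P i := stepQ 105490 Q105490 (allL N105490 (tt N88781 (iv1 F450453)) (tt N88783 F450452) (tt N70289 (iv2 D208687)) (tt N104129 F450449) (tt N105119 F450450) (tt N113234 (iv5 F484635)) (tt N105119 F450451) (tt N106985 (iv7 F456523)))
theorem Q105492 : ∀ i, i < 105492 → P i := stepQ 105491 Q105491 (allL N105491 (tt N102449 F450454) (tt N108352 F462203) (tt N105746 (iv2 F451504)) (tt N106075 (iv3 F453009)) (tt N70290 (iv4 D208688)) (tt N114672 (iv5 F491308)) (tt N106074 F453006) (tt N105744 (iv7 F451498)))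
theorem Q105493 : ∀ i, i < 105493 → P i := stepQ 105492 Q105492 (allL N105492 (tt N105124 F450456) (tt N103511 (iv0 F450457)) (tt N105130 F450455) (tt N109161 (iv3 F465628)) (tt N106074 (iv4 F453004)) (tt N119065 (iv5 F513592)) (tt N70290 (iv6 D208689)) (tt N105129 F453007))
theorem Q105494 : ∀ i, i < 105494 → P i := stepQ 105493 Q105493 (allL N105493 (tt N103495 F450461) (tt N120747 F522493) (tt N105745 (iv2 F451501)) (tt N92181 F450458) (tt N114436 (iv4 F490152)) (tt N98537 (iv5 F450459)) (tt N70291 (iv6 D208690)) (tt N98536 (iv7 F450460)))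
theorem Q105495 : ∀ i, i < 105495 → P i := stepQ 105494 Q105494 (allL N105494 (tt N103792 F450466) (tt N105121 (iv0 F450467)) (tt N70293 F450462) (tt N102501 F450463) (tt N70305 F450464) (tt N102777 F450465) (tt N70292 (iv6 D208691)) (tt N120849 (iv7 F523070)))
theorem Q105496 : ∀ i, i < 105496 → P i := stepQ 105495 Q105495 (allL N105495 (tt N120849 (iv1 F523072)) (tt N70293 (iv0 D208692)) (tt N103792 (iv2 F450471)) (tt N109440 (iv3 F466970)) (tt N108349 (iv4 F462186)) (tt N102716 F450469) (tt N102466 F450470) (tt N105121 (iv7 F450472)))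
theorem Q105497 : ∀ i, i < 105497 → P i := stepQ 105496 Q105496 (allL N105496 (tt N70293 (iv1 D208693)) (tt N120849 (iv0 F523071)) (tt N105121 F450476) (tt N117965 (iv3 F507821)) (tt N108350 F462191) (tt N102717 F450474) (tt N98710 (iv6 F450475)) (tt N103792 F450473))
theorem Q105498 : ∀ i, i < 105498 → P i := stepQ 105497 Q105497 (allL N105497 (tt N106195 (iv1 F453561)) (tt N118446 (iv0 F510406)) (tt N105701 (iv2 F451319)) (tt N70299 F450477) (tt N111131 (iv4 F474842)) (tt N70297 (iv5 D208694)) (tt N121141 D224400) (tt N105558 (iv7 F450727)))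
theorem Q105499 : ∀ i, i < 105499 → P i := stepQ 105498 Q105498 (allL N105498 (tt N71971 F450481) (tt N75072 F450482) (tt N71428 F450478) (tt N109424 (iv3 F466892)) (tt N70300 F450479) (tt N72555 F450480) (tt N70298 (iv6 D208695)) (tt N105145 F450483))
theorem Q105500 : ∀ i, i < 105500 → P i := stepQ 105499 Q105499 (allL N105499 (tt N121142 D224401) (tt N120565 (iv0 F521488)) (tt N71431 F450484) (tt N121141 (iv3 F524741)) (tt N119154 F514081) (tt N71426 F450485) (tt N70299 (iv6 D208697)) (tt N121143 D224402))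
theorem Q105501 : ∀ i, i < 105501 → P i := stepQ 105500 Q105500 (allL N105500 (tt N121138 F524725) (tt N119581 (iv0 F516371)) (tt N105560 (iv2 F450735)) (tt N105704 (iv3 F451333)) (tt N114992 F492961) (tt N121144 D224403) (tt N70302 (iv6 D208698)) (tt N121145 D224404))
theorem Q105502 : ∀ i, i < 105502 → P i := stepQ 105501 Q105501 (allL N105501 (tt N70303 (iv1 D208699)) (tt N105146 F450486) (tt N101208 F450489) (tt N101215 (iv3 F450487)) (tt N120747 (iv4 F522491)) (tt N117686 (iv5 F506413)) (tt N101020 (iv6 F450488)) (tt N106849 (iv7 F455975)))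
theorem Q105503 : ∀ i, i < 105503 → P i := stepQ 105502 Q105502 (allL N105502 (tt N121084 (iv1 F524439)) (tt N121080 (iv0 F524417)) (tt N121082 F524426) (tt N106855 (iv3 F456009)) (tt N121146 D224405) (tt N70303 (iv5 D208700)) (tt N121144 (iv6 F524762)) (tt N106850 (iv7 F455983)))
theorem Q105504 : ∀ i, i < 105504 → P i := stepQ 105503 Q105503 (allL N105503 (tt N121129 (iv1 F524664)) (tt N114920 F492539) (tt N70308 F450490) (tt N96693 F450491) (tt N70304 (iv4 D208701)) (tt N113241 (iv5 F484671)) (tt N118376 (iv6 F510017)) (tt N115024 (iv7 F493092)))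
theorem Q105505 : ∀ i, i < 105505 → P i := stepQ 105504 Q105504 (allL N105504 (tt N113869 F487548) (tt N119020 F513322) (tt N70309 F450492) (tt N82933 F450493) (tt N118376 F510015) (tt N99182 F450494) (tt N70304 (iv6 D208702)) (tt N86313 (iv7 F450495)))
theorem Q105506 : ∀ i, i < 105506 → P i := stepQ 105505 Q105505 (allL N105505 (tt N70313 (iv1 F450501)) (tt N70305 (iv0 D208703)) (tt N70310 (iv2 F450499)) (tt N106859 (iv3 F456033)) (tt N104631 F450496) (tt N99253 F450497) (tt N90232 F450498) (tt N70311 F450500))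
theorem Q105507 : ∀ i, i < 105507 → P i := stepQ 105506 Q105506 (allL N105506 (tt N70311 (iv1 F450506)) (tt N70310 F450507) (tt N70313 F450502) (tt N82815 F450503) (tt N120849 (iv4 F523068)) (tt N98797 F450504) (tt N82812 F450505) (tt N70305 (iv7 D208704)))
theorem Q105508 : ∀ i, i < 105508 → P i := stepQ 105507 Q105507 (allL N105507 (tt N106183 F453500) (tt N120277 (iv0 F519980)) (tt N107655 (iv2 F459102)) (tt N70306 (iv3 D208705)) (tt N96703 F450508) (tt N70347 F450509) (tt N73382 (iv6 F450511)) (tt N119688 (iv7 F516926)))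
theorem Q105509 : ∀ i, i < 105509 → P i := stepQ 105508 Q105508 (allL N105508 (tt N115347 F494713) (tt N100560 (iv0 F450515)) (tt N121077 (iv2 F524392)) (tt N73382 F450512) (tt N95702 F450513) (tt N73381 F450514) (tt N70306 (iv6 D208706)) (tt N107656 (iv7 F459109)))
theorem Q105510 : ∀ i, i < 105510 → P i := stepQ 105509 Q105509 (allL N105509 (tt N86342 F450518) (tt N104109 (iv0 F450519)) (tt N70484 (iv2 F450520)) (tt N70307 (iv3 D208707)) (tt N105619 (iv4 F450991)) (tt N70349 F450516) (tt N110497 (iv6 F471847)) (tt N70485 F450517))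
theorem Q105511 : ∀ i, i < 105511 → P i := stepQ 105510 Q105510 (allL N105510 (tt N115024 (iv1 F493094)) (tt N70308 (iv0 D208708)) (tt N121129 (iv2 F524670)) (tt N96387 (iv3 F467053)) (tt N109456 F467052) (tt N114589 F490899) (tt N96385 (iv6 F467054)) (tt N114920 (iv7 F492537)))
theorem Q105512 : ∀ i, i < 105512 → P i := stepQ 105511 Q105511 (allL N105511 (tt N70308 (iv1 D208709)) (tt N115024 (iv0 F493093)) (tt N114920 (iv2 F492535)) (tt N88909 (iv3 F450522)) (tt N88917 (iv4 F450521)) (tt N105606 (iv5 F450954)) (tt N110547 F472086) (tt N121129 (iv7 F524665)))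
theorem Q105513 : ∀ i, i < 105513 → P i := stepQ 105512 Q105512 (allL N105512 (tt N118194 F509080) (tt N118371 (iv0 F509985)) (tt N118376 (iv2 F510016)) (tt N91658 F450523) (tt N70309 F450524) (tt N91657 F450525) (tt N70308 (iv6 D208710)) (tt N118377 (iv7 F510020)))
theorem Q105514 : ∀ i, i < 105514 → P i := stepQ 105513 Q105513 (allL N105513 (tt N86313 (iv1 F450528)) (tt N70309 (iv0 D208711)) (tt N113869 (iv2 F487546)) (tt N92596 (iv3 F450529)) (tt N120425 (iv4 F520713)) (tt N90190 F450527) (tt N85528 F450526) (tt N119020 (iv7 F513323)))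
theorem Q105515 : ∀ i, i < 105515 → P i := stepQ 105514 Q105514 (allL N105514 (tt N70309 (iv1 D208712)) (tt N86313 F450530) (tt N119020 F513321) (tt N86338 (iv3 F489593)) (tt N108915 (iv4 F489594)) (tt N121079 (iv5 F524407)) (tt N115345 F494705) (tt N113869 F487549))
theorem Q105516 : ∀ i, i < 105516 → P i := stepQ 105515 Q105515 (allL N105515 (tt N98832 (iv1 F450537)) (tt N99251 F450536) (tt N99253 F450531) (tt N99833 F450532) (tt N102776 F450533) (tt N70310 (iv5 D208713)) (tt N90179 F450534) (tt N99254 F450535))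
theorem Q105517 : ∀ i, i < 105517 → P i := stepQ 105516 Q105516 (allL N105516 (tt N118669 (iv1 F511444)) (tt N105059 F450542) (tt N121028 (iv2 F524096)) (tt N70315 (iv3 D208714)) (tt N103503 (iv4 F450541)) (tt N72180 F450540) (tt N99983 (iv6 F457037)) (tt N116123 F498597))
theorem Q105518 : ∀ i, i < 105518 → P i := stepQ 105517 Q105517 (allL N105517 (tt N100570 F450545) (tt N100608 (iv0 F450546)) (tt N100633 F450543) (tt N99983 F457038) (tt N112761 F482528) (tt N121147 D224406) (tt N70315 (iv6 D208715)) (tt N100632 F450544))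
theorem Q105519 : ∀ i, i < 105519 → P i := stepQ 105518 Q105518 (allL N105518 (tt N105110 (iv1 F450552)) (tt N105109 F450551) (tt N70316 (iv2 D208716)) (tt N106999 (iv3 F456587)) (tt N104173 F450547) (tt N89934 F450548) (tt N90392 F450549) (tt N105108 F450550))
theorem Q105520 : ∀ i, i < 105520 → P i := stepQ 105519 Q105519 (allL N105519 (tt N70317 (iv1 D208717)) (tt N106999 F456589) (tt N105054 F450557) (tt N79084 (iv3 F450555)) (tt N97868 (iv4 F450556)) (tt N99366 F450554) (tt N116321 (iv6 F499547)) (tt N79082 F450553))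
theorem Q105521 : ∀ i, i < 105521 → P i := stepQ 105520 Q105520 (allL N105520 (tt N79082 (iv1 F450562)) (tt N105054 F450561) (tt N70317 (iv2 D208718)) (tt N105108 F450558) (tt N103505 F450559) (tt N105524 (iv5 F450573)) (tt N103504 F450560) (tt N106999 (iv7 F456590)))
theorem Q105522 : ∀ i, i < 105522 → P i := stepQ 105521 Q105521 (allL N105521 (tt N105102 F450567) (tt N77328 F450568) (tt N77409 (iv2 F450569)) (tt N70321 (iv3 D208719)) (tt N75451 F450563) (tt N82753 F450564) (tt N75450 F450565) (tt N82789 F450566))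
theorem Q105523 : ∀ i, i < 105523 → P i := stepQ 105522 Q105522 (allL N105522 (tt N92434 (iv1 F450571)) (tt N70322 (iv0 D208720)) (tt N120396 (iv2 F520565)) (tt N99906 F450570) (tt N118473 (iv4 F510560)) (tt N107009 (iv5 F456632)) (tt N107501 F462701) (tt N107022 (iv7 F456674)))
theorem Q105524 : ∀ i, i < 105524 → P i := stepQ 105523 Q105523 (allL N105523 (tt N70322 (iv1 D208721)) (tt N92434 F450576) (tt N107022 (iv2 F456672)) (tt N107140 (iv3 F457165)) (tt N118474 (iv4 F510569)) (tt N107021 F456668) (tt N95009 F457166) (tt N120396 (iv7 F520561)))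
theorem Q105525 : ∀ i, i < 105525 → P i := stepQ 105524 Q105524 (allL N105524 (tt N120396 (iv1 F520560)) (tt N107022 (iv0 F456676)) (tt N70322 (iv2 D208722)) (tt N106098 (iv3 F453100)) (tt N92300 F450572) (tt N105520 F450573) (tt N70324 F450574) (tt N92434 F450575))
theorem Q105526 : ∀ i, i < 105526 → P i := stepQ 105525 Q105525 (allL N105525 (tt N77312 F450579) (tt N109727 F468311) (tt N82165 F450577) (tt N70323 (iv3 D208723)) (tt N71117 F450580) (tt N105292 F450578) (tt N107369 (iv6 F458128)) (tt N107111 (iv7 F457029)))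
theorem Q105527 : ∀ i, i < 105527 → P i := stepQ 105526 Q105526 (allL N105526 (tt N103536 F450586) (tt N103822 (iv0 F450587)) (tt N94489 F450581) (tt N103835 F450582) (tt N70325 (iv4 D208724)) (tt N94493 F450585) (tt N88759 F450583) (tt N94485 F450584))
theorem Q105528 : ∀ i, i < 105528 → P i := stepQ 105527 Q105527 (allL N105527 (tt N105456 F450593) (tt N70339 F450594) (tt N94490 F450588) (tt N85563 F450589) (tt N103629 F450592) (tt N70325 (iv5 D208725)) (tt N85561 F450590) (tt N94486 F450591))
theorem Q105529 : ∀ i, i < 105529 → P i := stepQ 105528 Q105528 (allL N105528 (tt N70483 F450599) (tt N70347 F450600) (tt N105088 F450597) (tt N70326 (iv3 D208726)) (tt N114367 (iv4 F489828)) (tt N117770 (iv5 F506876)) (tt N110423 F471512) (tt N94488 F450598))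
theorem Q105530 : ∀ i, i < 105530 → P i := stepQ 105529 Q105529 (allL N105529 (tt N105163 (iv1 F450604)) (tt N105162 (iv0 F450605)) (tt N70328 F450601) (tt N106574 (iv3 F454919)) (tt N103630 F450602) (tt N116195 (iv5 F498952)) (tt N70327 (iv6 D208727)) (tt N105161 F450603))
theorem Q105531 : ∀ i, i < 105531 → P i := stepQ 105530 Q105530 (allL N105530 (tt N105161 (iv1 F450606)) (tt N70328 (iv0 D208728)) (tt N105163 (iv2 F452428)) (tt N107028 (iv3 F456699)) (tt N120884 (iv4 F523277)) (tt N121148 D224407) (tt N106561 (iv6 F454866)) (tt N105162 F452429))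
theorem Q105532 : ∀ i, i < 105532 → P i := stepQ 105531 Q105531 (allL N105531 (tt N70328 (iv1 D208729)) (tt N105161 F450607) (tt N105162 F452427) (tt N106590 F454976) (tt N105855 (iv4 F452051)) (tt N121149 D224408) (tt N107021 (iv6 F456667)) (tt N105163 (iv7 F452426)))
theorem Q105533 : ∀ i, i < 105533 → P i := stepQ 105532 Q105532 (allL N105532 (tt N116103 F498473) (tt N116194 (iv0 F498949)) (tt N116195 (iv2 F498950)) (tt N70329 F450608) (tt N121150 D224409) (tt N70328 (iv5 D208730)) (tt N118670 (iv6 F511447)) (tt N105164 F450609))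
theorem Q105534 : ∀ i, i < 105534 → P i := stepQ 105533 Q105533 (allL N105533 (tt N81919 F450611) (tt N105661 (iv0 F451142)) (tt N118649 (iv2 F511336)) (tt N110747 (iv3 F472994)) (tt N70329 (iv4 D208731)) (tt N112581 (iv5 F481713)) (tt N110731 (iv6 F472930)) (tt N105166 F450610))
theorem Q105535 : ∀ i, i < 105535 → P i := stepQ 105534 Q105534 (allL N105534 (tt N106012 F452737) (tt N105350 (iv0 F450618)) (tt N103363 F450612) (tt N70332 F450613) (tt N92172 F450614) (tt N90620 F450616) (tt N70330 (iv6 D208732)) (tt N105167 F450615))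
theorem Q105536 : ∀ i, i < 105536 → P i := stepQ 105535 Q105535 (allL N105535 (tt N94920 (iv1 F450623)) (tt N70332 (iv0 D208733)) (tt N70433 (iv2 F450622)) (tt N105211 F450625) (tt N97507 F450620) (tt N77371 F450619) (tt N97506 F450621) (tt N77370 F450624))
theorem Q105537 : ∀ i, i < 105537 → P i := stepQ 105536 Q105536 (allL N105536 (tt N94012 F450631) (tt N104399 F450630) (tt N104400 F450626) (tt N93020 F450627) (tt N115731 (iv4 F496563)) (tt N70334 (iv5 D208734)) (tt N104409 F450628) (tt N104291 F450629))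
theorem Q105538 : ∀ i, i < 105538 → P i := stepQ 105537 Q105537 (allL N105537 (tt N113120 (iv1 F484060)) (tt N98441 F450636) (tt N70338 F450632) (tt N86039 (iv3 F450637)) (tt N70335 (iv4 D208735)) (tt N87545 F450633) (tt N83296 F450634) (tt N86307 F450635))
theorem Q105539 : ∀ i, i < 105539 → P i := stepQ 105538 Q105538 (allL N105538 (tt N82924 F450642) (tt N87507 F450643) (tt N105476 F450638) (tt N90453 F450639) (tt N70336 (iv4 D208736)) (tt N93152 F450640) (tt N120770 (iv6 F522623)) (tt N92824 F450641))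
theorem Q105540 : ∀ i, i < 105540 → P i := stepQ 105539 Q105539 (allL N105539 (tt N114760 F491717) (tt N114751 (iv0 F491667)) (tt N105477 F450644) (tt N86298 F450645) (tt N120770 (iv4 F522621)) (tt N90273 F450646) (tt N70336 (iv6 D208737)) (tt N114759 (iv7 F491710)))
theorem Q105541 : ∀ i, i < 105541 → P i := stepQ 105540 Q105540 (allL N105540 (tt N94146 F450650) (tt N85563 (iv0 F450651)) (tt N86296 F450647) (tt N70337 (iv3 D208738)) (tt N115037 (iv4 F493153)) (tt N105392 F450648) (tt N115036 F493150) (tt N105475 F450649))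
theorem Q105542 : ∀ i, i < 105542 → P i := stepQ 105541 Q105541 (allL N105541 (tt N86307 (iv1 F450653)) (tt N70338 (iv0 D208739)) (tt N113120 (iv2 F484056)) (tt N98446 (iv3 F450655)) (tt N86730 F450652) (tt N114820 (iv5 F492051)) (tt N105927 (iv6 F452382)) (tt N98441 (iv7 F450654)))
theorem Q105543 : ∀ i, i < 105543 → P i := stepQ 105542 Q105542 (allL N105542 (tt N70338 (iv1 D208740)) (tt N86307 F450656) (tt N98441 F450660) (tt N98257 F450661) (tt N86729 F450657) (tt N93147 (iv5 F450659)) (tt N85073 (iv6 F450658)) (tt N113120 (iv7 F484058)))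
theorem Q105544 : ∀ i, i < 105544 → P i := stepQ 105543 Q105543 (allL N105543 (tt N94490 (iv1 F450666)) (tt N94486 F450665) (tt N70339 (iv2 D208741)) (tt N86290 F450662) (tt N119685 (iv4 F516907)) (tt N104480 F450663) (tt N106567 (iv6 F454883)) (tt N105456 F450664))
theorem Q105545 : ∀ i, i < 105545 → P i := stepQ 105544 Q105544 (allL N105544 (tt N115334 F494645) (tt N103718 F450669) (tt N119685 (iv2 F516906)) (tt N105158 F450667) (tt N70339 (iv4 D208742)) (tt N120999 (iv5 F523941)) (tt N121151 D224410) (tt N105457 F450668))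
theorem Q105546 : ∀ i, i < 105546 → P i := stepQ 105545 Q105545 (allL N105545 (tt N98500 F450879) (tt N121152 D224411) (tt N106567 (iv2 F454881)) (tt N70340 F450670) (tt N121151 (iv4 F524801)) (tt N106562 (iv5 F454870)) (tt N70339 (iv6 D208743)) (tt N120062 (iv7 F518846)))
theorem Q105547 : ∀ i, i < 105547 → P i := stepQ 105546 Q105546 (allL N105546 (tt N105469 (iv1 F450674)) (tt N70340 (iv0 D208744)) (tt N105466 F450677) (tt N106527 (iv3 F457256)) (tt N107160 (iv4 F457250)) (tt N121153 D224412) (tt N118818 (iv6 F512241)) (tt N105467 F450676))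
theorem Q105548 : ∀ i, i < 105548 → P i := stepQ 105547 Q105547 (allL N105547 (tt N105467 (iv1 F450675)) (tt N105466 F450680) (tt N105469 F450671) (tt N120062 (iv3 F518844)) (tt N95689 F450672) (tt N111368 (iv5 F478845)) (tt N105461 F450673) (tt N70340 (iv7 D208745)))
theorem Q105549 : ∀ i, i < 105549 → P i := stepQ 105548 Q105548 (allL N105548 (tt N86291 (iv1 F450687)) (tt N70509 F450686) (tt N70341 (iv2 D208746)) (tt N105456 F450682) (tt N101057 F450683) (tt N84968 F450684) (tt N114702 (iv6 F491424)) (tt N86290 F450685))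
theorem Q105550 : ∀ i, i < 105550 → P i := stepQ 105549 Q105549 (allL N105549 (tt N121154 D224413) (tt N121155 D224414) (tt N114702 (iv2 F491422)) (tt N70342 F450688) (tt N101369 F450689) (tt N84316 F450690) (tt N70341 (iv6 D208747)) (tt N121156 D224415))
theorem Q105551 : ∀ i, i < 105551 → P i := stepQ 105550 Q105550 (allL N105550 (tt N105461 (iv1 F450702)) (tt N70342 (iv0 D208748)) (tt N105459 (iv2 F450692)) (tt N98310 (iv3 F450693)) (tt N98312 (iv4 F450694)) (tt N101281 (iv5 F450695)) (tt N101282 F450691) (tt N105460 (iv7 F450696)))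
theorem Q105552 : ∀ i, i < 105552 → P i := stepQ 105551 Q105551 (allL N105551 (tt N70342 (iv1 D208749)) (tt N105461 F450698) (tt N105460 (iv2 F450701)) (tt N110466 (iv3 F471713)) (tt N102318 F450700) (tt N111954 (iv5 F478844)) (tt N119089 (iv6 F513733)) (tt N105459 F450699))
theorem Q105553 : ∀ i, i < 105553 → P i := stepQ 105552 Q105552 (allL N105552 (tt N90891 F450708) (tt N110210 (iv0 F470448)) (tt N105190 F450705) (tt N84316 F450706) (tt N121105 (iv4 F524538)) (tt N70342 (iv5 D208750)) (tt N84315 F450707) (tt N121157 D224416))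
theorem Q105554 : ∀ i, i < 105554 → P i := stepQ 105553 Q105553 (allL N105553 (tt N105460 (iv1 F450711)) (tt N105459 F450712) (tt N105461 F450709) (tt N121156 (iv3 F524832)) (tt N107155 (iv4 F457227)) (tt N121157 (iv5 F524839)) (tt N105469 F450710) (tt N70342 (iv7 D208751)))
theorem Q105555 : ∀ i, i < 105555 → P i := stepQ 105554 Q105554 (allL N105554 (tt N70347 (iv1 D208752)) (tt N70483 F450713) (tt N94488 F450716) (tt N105089 (iv3 F450715)) (tt N105682 (iv4 F451225)) (tt N114334 (iv5 F489670)) (tt N107052 (iv6 F456785)) (tt N105088 F450714))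
theorem Q105556 : ∀ i, i < 105556 → P i := stepQ 105555 Q105555 (allL N105555 (tt N70350 (iv1 D208753)) (tt N105068 F450717) (tt N70437 F450721) (tt N77370 (iv3 F450719)) (tt N120693 (iv4 F522187)) (tt N77369 F450722) (tt N82786 (iv6 F450720)) (tt N105211 F450718))
theorem Q105557 : ∀ i, i < 105557 → P i := stepQ 105556 Q105556 (allL N105556 (tt N113334 F485087) (tt N83418 (iv0 F455980)) (tt N113337 (iv2 F485097)) (tt N106015 (iv3 F452747)) (tt N112585 F481727) (tt N70350 (iv5 D208754)) (tt N110498 (iv6 F471851)) (tt N105212 F450723))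
theorem Q105558 : ∀ i, i < 105558 → P i := stepQ 105557 Q105557 (allL N105557 (tt N115077 (iv1 F493373)) (tt N120453 (iv0 F520869)) (tt N70354 F450724) (tt N114593 (iv3 F490920)) (tt N70351 (iv4 D208755)) (tt N114591 (iv5 F490911)) (tt N86305 F450725) (tt N114590 (iv7 F490904)))
theorem Q105559 : ∀ i, i < 105559 → P i := stepQ 105558 Q105558 (allL N105558 (tt N117770 F506880) (tt N114334 F489672) (tt N114644 (iv2 F491164)) (tt N70352 (iv3 D208756)) (tt N105584 F450837) (tt N105385 F450726) (tt N114481 (iv6 F490403)) (tt N105497 F450727))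
theorem Q105560 : ∀ i, i < 105560 → P i := stepQ 105559 Q105559 (allL N105559 (tt N101403 F450730) (tt N101068 (iv0 F450734)) (tt N101402 F450728) (tt N93346 F450731) (tt N70352 (iv4 D208757)) (tt N93344 (iv5 F450732)) (tt N94806 (iv6 F450733)) (tt N101401 (iv7 F450743)))
theorem Q105561 : ∀ i, i < 105561 → P i := stepQ 105560 Q105560 (allL N105560 (tt N121158 D224417) (tt N110466 (iv0 F471714)) (tt N105500 F450735) (tt N114481 (iv3 F490402)) (tt N94806 F450736) (tt N112963 (iv5 F483390)) (tt N70352 (iv6 D208758)) (tt N116734 (iv7 F501559)))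
theorem Q105562 : ∀ i, i < 105562 → P i := stepQ 105561 Q105561 (allL N105561 (tt N101068 F450739) (tt N101403 (iv0 F450740)) (tt N101401 (iv2 F450741)) (tt N120455 (iv3 F520875)) (tt N70353 (iv4 D208759)) (tt N117305 (iv5 F504379)) (tt N106529 (iv6 F454780)) (tt N101402 F450738))
theorem Q105563 : ∀ i, i < 105563 → P i := stepQ 105562 Q105562 (allL N105562 (tt N114590 (iv1 F490906)) (tt N70354 (iv0 D208760)) (tt N115077 (iv2 F493368)) (tt N106155 F490908) (tt N115076 F493367) (tt N119564 (iv5 F516279)) (tt N110464 (iv6 F490907)) (tt N120453 (iv7 F520868)))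
theorem Q105564 : ∀ i, i < 105564 → P i := stepQ 105563 Q105563 (allL N105563 (tt N70354 (iv1 D208761)) (tt N114590 F490905) (tt N120453 (iv2 F520864)) (tt N88927 (iv3 F450745)) (tt N85428 F450744) (tt N120913 (iv5 F523434)) (tt N120574 (iv6 F521533)) (tt N115077 (iv7 F493370)))
theorem Q105565 : ∀ i, i < 105565 → P i := stepQ 105564 Q105564 (allL N105564 (tt N114589 (iv1 F490896)) (tt N105606 (iv0 F450955)) (tt N114591 (iv2 F490909)) (tt N101740 F450746) (tt N117766 (iv4 F506862)) (tt N70354 (iv5 D208762)) (tt N108146 (iv6 F461306)) (tt N114588 F490895))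
theorem Q105566 : ∀ i, i < 105566 → P i := stepQ 105565 Q105565 (allL N105565 (tt N88970 (iv1 F450750)) (tt N83937 F450751) (tt N86305 F450747) (tt N110889 (iv3 F473623)) (tt N70355 F450748) (tt N121159 D224418) (tt N70354 (iv6 D208763)) (tt N88972 F450749))
theorem Q105567 : ∀ i, i < 105567 → P i := stepQ 105566 Q105566 (allL N105566 (tt N86467 (iv1 F450756)) (tt N107052 (iv0 F456787)) (tt N92145 F450752) (tt N70356 (iv3 D208764)) (tt N75751 F450754) (tt N82766 F450753) (tt N75750 (iv6 F450755)) (tt N113046 (iv7 F483709)))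
theorem Q105568 : ∀ i, i < 105568 → P i := stepQ 105567 Q105567 (allL N105567 (tt N102456 F450761) (tt N102539 F450762) (tt N103557 F450757) (tt N78918 F450758) (tt N70356 (iv4 D208765)) (tt N103547 F450760) (tt N78917 F450763) (tt N103781 F450759))
theorem Q105569 : ∀ i, i < 105569 → P i := stepQ 105568 Q105568 (allL N105568 (tt N82786 F450767) (tt N106513 (iv0 F454726)) (tt N106041 (iv2 F452851)) (tt N75750 F450764) (tt N78917 F450765) (tt N99163 F450766) (tt N70356 (iv6 D208766)) (tt N92141 F450769))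
theorem Q105570 : ∀ i, i < 105570 → P i := stepQ 105569 Q105569 (allL N105569 (tt N102539 F450774) (tt N102456 F450775) (tt N103781 F450770) (tt N102441 F450771) (tt N70357 (iv4 D208767)) (tt N97960 F450772) (tt N104693 (iv6 F450776)) (tt N103557 F450773))
theorem Q105571 : ∀ i, i < 105571 → P i := stepQ 105570 Q105570 (allL N105570 (tt N105073 F450780) (tt N105069 (iv0 F450781)) (tt N105070 F450777) (tt N91790 F450778) (tt N104693 F450779) (tt N120329 F520216) (tt N70357 (iv6 D208768)) (tt N105071 (iv7 F450782)))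
theorem Q105572 : ∀ i, i < 105572 → P i := stepQ 105571 Q105571 (allL N105571 (tt N87509 (iv1 F450787)) (tt N87349 F450786) (tt N70359 (iv2 D208769)) (tt N86294 F450783) (tt N82967 F450784) (tt N112873 (iv5 F483078)) (tt N91788 F450785) (tt N112066 (iv7 F479329)))
theorem Q105573 : ∀ i, i < 105573 → P i := stepQ 105572 Q105572 (allL N105572 (tt N70366 (iv1 F450791)) (tt N70362 (iv0 D208770)) (tt N105682 (iv2 F451224)) (tt N74450 F450790) (tt N94488 F450789) (tt N74446 F450788) (tt N102922 (iv6 F450792)) (tt N114367 (iv7 F489830)))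
theorem Q105574 : ∀ i, i < 105574 → P i := stepQ 105573 Q105573 (allL N105573 (tt N71181 (iv1 F450796)) (tt N99537 (iv0 F450795)) (tt N72381 F450793) (tt N120423 F520703) (tt N70363 (iv4 D208771)) (tt N71164 F450794) (tt N116893 F502390) (tt N106182 (iv7 F453493)))
theorem Q105575 : ∀ i, i < 105575 → P i := stepQ 105574 Q105574 (allL N105574 (tt N85841 F450801) (tt N85834 (iv0 F450800)) (tt N85839 F450797) (tt N83557 F450798) (tt N116893 F502387) (tt N121160 D224419) (tt N70363 (iv6 D208772)) (tt N85840 F450799))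
theorem Q105576 : ∀ i, i < 105576 → P i := stepQ 105575 Q105575 (allL N105575 (tt N90630 F450806) (tt N83442 F450807) (tt N90602 F450802) (tt N77351 F450803) (tt N99411 F450805) (tt N70364 (iv5 D208773)) (tt N121160 (iv6 F524856)) (tt N90631 F450804))
theorem Q105577 : ∀ i, i < 105577 → P i := stepQ 105576 Q105576 (allL N105576 (tt N101058 F450814) (tt N101370 F450815) (tt N101372 F450809) (tt N70367 F450810) (tt N103892 F450813) (tt N70365 (iv5 D208774)) (tt N105040 F450811) (tt N101373 F450812))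
theorem Q105578 : ∀ i, i < 105578 → P i := stepQ 105577 Q105577 (allL N105577 (tt N99537 (iv1 F450820)) (tt N71181 (iv0 F450819)) (tt N106182 F453496) (tt N72345 F450816) (tt N70367 (iv4 D208775)) (tt N71163 F450817) (tt N107488 F458499) (tt N72381 F450818))
theorem Q105579 : ∀ i, i < 105579 → P i := stepQ 105578 Q105578 (allL N105578 (tt N111131 F474843) (tt N85373 (iv0 F450824)) (tt N70372 F450821) (tt N113839 (iv3 F487375)) (tt N70368 (iv4 D208776)) (tt N117349 (iv5 F504602)) (tt N88867 F450822) (tt N85424 F450823))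
theorem Q105580 : ∀ i, i < 105580 → P i := stepQ 105579 Q105579 (allL N105579 (tt N71133 F450826) (tt N117772 F506893) (tt N117771 F506884) (tt N104974 (iv3 F457666)) (tt N70370 (iv4 D208777)) (tt N71117 F450825) (tt N107636 (iv6 F459037)) (tt N116883 F502339))
theorem Q105581 : ∀ i, i < 105581 → P i := stepQ 105580 Q105580 (allL N105580 (tt N117312 (iv1 F504412)) (tt N107970 (iv0 F460546)) (tt N119549 (iv2 F516187)) (tt N113121 (iv3 F484063)) (tt N107636 F459039) (tt N108394 (iv5 F462394)) (tt N70370 (iv6 D208778)) (tt N121161 D224420))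
theorem Q105582 : ∀ i, i < 105582 → P i := stepQ 105581 Q105581 (allL N105581 (tt N117772 (iv1 F506892)) (tt N71133 (iv0 F450829)) (tt N116883 (iv2 F502333)) (tt N101469 F450827) (tt N70371 (iv4 D208779)) (tt N71116 F450828) (tt N114315 (iv6 F489550)) (tt N117771 (iv7 F506886)))
theorem Q105583 : ∀ i, i < 105583 → P i := stepQ 105582 Q105582 (allL N105582 (tt N85128 F450831) (tt N89652 F450832) (tt N89685 F450830) (tt N114744 (iv3 F491624)) (tt N114315 (iv4 F489553)) (tt N114743 (iv5 F491621)) (tt N70371 (iv6 D208780)) (tt N89684 (iv7 F450833)))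
theorem Q105584 : ∀ i, i < 105584 → P i := stepQ 105583 Q105583 (allL N105583 (tt N85424 (iv1 F450834)) (tt N70372 (iv0 D208781)) (tt N111131 (iv2 F474838)) (tt N85376 (iv3 F450842)) (tt N105701 (iv4 F451321)) (tt N107114 (iv5 F457046)) (tt N107971 F460551) (tt N85373 F450841))
theorem Q105585 : ∀ i, i < 105585 → P i := stepQ 105584 Q105584 (allL N105584 (tt N70372 (iv1 D208782)) (tt N85424 F450835) (tt N85373 F450839) (tt N70877 (iv3 F450836)) (tt N105558 (iv4 F450837)) (tt N89637 F450840) (tt N85127 (iv6 F450838)) (tt N111131 (iv7 F474841)))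
theorem Q105586 : ∀ i, i < 105586 → P i := stepQ 105585 Q105585 (allL N105585 (tt N107173 F457332) (tt N70869 (iv0 F450846)) (tt N117349 (iv2 F504599)) (tt N70860 F450843) (tt N112709 (iv4 F482291)) (tt N70372 (iv5 D208783)) (tt N89671 F450844) (tt N71227 F450845))
theorem Q105587 : ∀ i, i < 105587 → P i := stepQ 105586 Q105586 (allL N105586 (tt N77212 F450849) (tt N77210 F450851) (tt N92161 F450847) (tt N70374 (iv3 D208784)) (tt N92160 F450848) (tt N116143 (iv5 F498713)) (tt N92159 (iv6 F450850)) (tt N112281 (iv7 F480331)))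
theorem Q105588 : ∀ i, i < 105588 → P i := stepQ 105587 Q105587 (allL N105587 (tt N102845 F450857) (tt N106079 F453032) (tt N91076 F450852) (tt N92159 F450853) (tt N97978 F450854) (tt N91051 F450855) (tt N70374 (iv6 D208785)) (tt N91073 F450856))
theorem Q105589 : ∀ i, i < 105589 → P i := stepQ 105588 Q105588 (allL N105588 (tt N85140 F450862) (tt N85139 F450863) (tt N85142 F450858) (tt N103056 F450859) (tt N70375 (iv4 D208786)) (tt N100784 F450860) (tt N98485 F450864) (tt N85126 F450861))
theorem Q105590 : ∀ i, i < 105590 → P i := stepQ 105589 Q105589 (allL N105589 (tt N100233 F450869) (tt N71281 (iv0 F450870)) (tt N95512 F450865) (tt N70376 F450866) (tt N98485 F450867) (tt N95511 F450868) (tt N70375 (iv6 D208787)) (tt N98495 (iv7 F450871)))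
theorem Q105591 : ∀ i, i < 105591 → P i := stepQ 105590 Q105590 (allL N105590 (tt N104847 (iv1 F450877)) (tt N70376 (iv0 D208788)) (tt N104845 F450881) (tt N115081 F493393) (tt N107508 (iv4 F458577)) (tt N116488 (iv5 F500403)) (tt N118971 (iv6 F513048)) (tt N104846 F450880))
theorem Q105592 : ∀ i, i < 105592 → P i := stepQ 105591 Q105591 (allL N105591 (tt N104846 (iv1 F450878)) (tt N104845 F450884) (tt N104847 F450872) (tt N98495 F450873) (tt N92900 F450874) (tt N101635 F450875) (tt N102319 F450876) (tt N70376 (iv7 D208789)))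
theorem Q105593 : ∀ i, i < 105593 → P i := stepQ 105592 Q105592 (allL N105592 (tt N119174 F514195) (tt N101374 (iv0 F450890)) (tt N109456 (iv2 F467048)) (tt N70378 F450888) (tt N121129 (iv4 F524667)) (tt N70377 (iv5 D208790)) (tt N109455 (iv6 F467044)) (tt N88917 F450889))
theorem Q105594 : ∀ i, i < 105594 → P i := stepQ 105593 Q105593 (allL N105593 (tt N86335 F450895) (tt N70421 (iv0 F450896)) (tt N75123 F450891) (tt N109455 (iv3 F467043)) (tt N83922 F450892) (tt N75122 F450893) (tt N70378 (iv6 D208791)) (tt N85846 F450894))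
theorem Q105595 : ∀ i, i < 105595 → P i := stepQ 105594 Q105594 (allL N105594 (tt N70387 (iv1 F450903)) (tt N70384 F450902) (tt N70379 (iv2 D208792)) (tt N102471 F450899) (tt N103822 F450900) (tt N109458 (iv5 F467062)) (tt N106081 F467066) (tt N70383 F450901))
theorem Q105596 : ∀ i, i < 105596 → P i := stepQ 105595 Q105595 (allL N105595 (tt N109457 (iv1 F467055)) (tt N70397 F450989) (tt N109458 (iv2 F467060)) (tt N70380 F450904) (tt N103627 F450906) (tt N70379 (iv5 D208793)) (tt N85842 (iv6 F450907)) (tt N75124 F450905))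
theorem Q105597 : ∀ i, i < 105597 → P i := stepQ 105596 Q105596 (allL N105596 (tt N106080 F453036) (tt N105284 (iv0 F450910)) (tt N106081 (iv2 F467067)) (tt N70381 F450908) (tt N120809 (iv4 F522846)) (tt N121162 D224421) (tt N70379 (iv6 D208794)) (tt N105250 F450909))
theorem Q105598 : ∀ i, i < 105598 → P i := stepQ 105597 Q105597 (allL N105597 (tt N105303 F450913) (tt N113207 F484487) (tt N114267 (iv2 F489301)) (tt N121162 (iv3 F524869)) (tt N121163 D224422) (tt N70381 (iv5 D208795)) (tt N85843 F450911) (tt N105252 F450912))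
theorem Q105599 : ∀ i, i < 105599 → P i := stepQ 105598 Q105598 (allL N105598 (tt N70404 F450917) (tt N70403 F450918) (tt N70406 F450914) (tt N114279 (iv3 F489357)) (tt N70382 (iv4 D208796)) (tt N70541 F450915) (tt N113258 (iv6 F484741)) (tt N70395 F450916))
theorem Q105600 : ∀ i, i < 105600 → P i := stepQ 105599 Q105599 (allL N105599 (tt N114825 (iv1 F492080)) (tt N113081 (iv0 F483892)) (tt N70409 F450919) (tt N100175 F450920) (tt N113258 F484737) (tt N100274 F450921) (tt N70382 (iv6 D208797)) (tt N100173 F450922))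
theorem Q105601 : ∀ i, i < 105601 → P i := stepQ 105600 Q105600 (allL N105600 (tt N115079 (iv1 F493383)) (tt N85425 (iv0 F450929)) (tt N70385 F450923) (tt N86731 F450924) (tt N104513 F450927) (tt N70384 (iv5 D208798)) (tt N88898 F450925) (tt N86728 F450926))
theorem Q105602 : ∀ i, i < 105602 → P i := stepQ 105601 Q105601 (allL N105601 (tt N70385 (iv1 D208799)) (tt N86728 F450930) (tt N85425 (iv2 F450932)) (tt N115076 (iv3 F493362)) (tt N103631 F450931) (tt N120858 (iv5 F523118)) (tt N118010 F508073) (tt N115079 (iv7 F493382)))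
theorem Q105603 : ∀ i, i < 105603 → P i := stepQ 105602 Q105602 (allL N105602 (tt N85425 (iv1 F450937)) (tt N115079 F493384) (tt N86728 F450933) (tt N70390 F450934) (tt N120862 (iv4 F523144)) (tt N70387 F450935) (tt N83929 F450936) (tt N70385 (iv7 D208800)))
theorem Q105604 : ∀ i, i < 105604 → P i := stepQ 105603 Q105603 (allL N105603 (tt N70511 F450942) (tt N70489 F450943) (tt N103591 F450938) (tt N85162 F450939) (tt N70388 (iv4 D208801)) (tt N116147 (iv5 F498742)) (tt N95514 F450940) (tt N85157 F450941))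
theorem Q105605 : ∀ i, i < 105605 → P i := stepQ 105604 Q105604 (allL N105604 (tt N70392 (iv1 F450947)) (tt N70389 (iv0 D208802)) (tt N105702 (iv2 F451322)) (tt N101417 (iv3 F450948)) (tt N71433 F450944) (tt N100836 (iv5 F450946)) (tt N71435 (iv6 F450945)) (tt N105703 (iv7 F451329)))
theorem Q105606 : ∀ i, i < 105606 → P i := stepQ 105605 Q105605 (allL N105605 (tt N70389 (iv1 D208803)) (tt N70392 F450949) (tt N105703 (iv2 F451327)) (tt N85249 (iv3 F450951)) (tt N85558 F450950) (tt N112738 (iv5 F482449)) (tt N85248 (iv6 F450952)) (tt N105702 (iv7 F451323)))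
theorem Q105607 : ∀ i, i < 105607 → P i := stepQ 105606 Q105606 (allL N105606 (tt N105564 F450955) (tt N85310 (iv0 F450956)) (tt N120861 (iv2 F523134)) (tt N70389 (iv3 D208804)) (tt N104454 F450953) (tt N105511 F450954) (tt N120547 (iv6 F521379)) (tt N120863 (iv7 F523150)))
theorem Q105608 : ∀ i, i < 105608 → P i := stepQ 105607 Q105607 (allL N105607 (tt N105703 (iv1 F451331)) (tt N105702 (iv0 F451325)) (tt N70392 F450957) (tt N120863 (iv3 F523149)) (tt N70390 F450958) (tt N109784 (iv5 F468595)) (tt N113078 (iv6 F483874)) (tt N70389 (iv7 D208805)))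
theorem Q105609 : ∀ i, i < 105609 → P i := stepQ 105608 Q105608 (allL N105608 (tt N92969 F450961) (tt N109647 F467916) (tt N109646 F467911) (tt N70392 (iv3 D208806)) (tt N92988 F450959) (tt N112794 (iv5 F482647)) (tt N111035 (iv6 F474364)) (tt N105443 F450960))
theorem Q105610 : ∀ i, i < 105610 → P i := stepQ 105609 Q105609 (allL N105609 (tt N116326 (iv1 F499568)) (tt N116325 F499565) (tt N109784 (iv2 F468594)) (tt N112794 F482648) (tt N70540 F450962) (tt N70392 (iv5 D208807)) (tt N119030 (iv6 F513377)) (tt N109782 (iv7 F468589)))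
theorem Q105611 : ∀ i, i < 105611 → P i := stepQ 105610 Q105610 (allL N105610 (tt N113035 (iv1 F483656)) (tt N113034 (iv0 F483651)) (tt N120986 F523872) (tt N70393 (iv3 D208808)) (tt N103028 (iv4 F450966)) (tt N104094 F450963) (tt N103027 F450964) (tt N70400 F450965))
theorem Q105612 : ∀ i, i < 105612 → P i := stepQ 105611 Q105611 (allL N105611 (tt N105697 (iv1 F451303)) (tt N105699 (iv0 F451308)) (tt N70398 F450967) (tt N94774 F450968) (tt N70393 (iv4 D208809)) (tt N109777 (iv5 F468567)) (tt N98328 F450969) (tt N70401 F450970))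
theorem Q105613 : ∀ i, i < 105613 → P i := stepQ 105612 Q105612 (allL N105612 (tt N75124 (iv1 F450975)) (tt N109458 F467064) (tt N109457 F467057) (tt N70394 (iv3 D208810)) (tt N104710 F450973) (tt N104093 F450971) (tt N88942 (iv6 F450974)) (tt N70397 F450972))
theorem Q105614 : ∀ i, i < 105614 → P i := stepQ 105613 Q105613 (allL N105613 (tt N105699 (iv1 F451309)) (tt N105697 (iv0 F451302)) (tt N70401 F450976) (tt N120913 (iv3 F523433)) (tt N70394 (iv4 D208811)) (tt N88927 F450978) (tt N96150 (iv6 F451029)) (tt N70398 F450977))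
theorem Q105615 : ∀ i, i < 105615 → P i := stepQ 105614 Q105614 (allL N105614 (tt N113075 F483863) (tt N107130 F457115) (tt N70402 F450979) (tt N88942 F450980) (tt N96150 (iv4 F451028)) (tt N118329 (iv5 F509731)) (tt N70394 (iv6 D208812)) (tt N113082 (iv7 F483897)))
theorem Q105616 : ∀ i, i < 105616 → P i := stepQ 105615 Q105615 (allL N105615 (tt N114472 (iv1 F490354)) (tt N114471 F490352) (tt N105432 F450981) (tt N70395 (iv3 D208813)) (tt N114281 (iv4 F489371)) (tt N109787 (iv5 F468609)) (tt N105429 F450982) (tt N114279 (iv7 F489360)))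
theorem Q105617 : ∀ i, i < 105617 → P i := stepQ 105616 Q105616 (allL N105616 (tt N109458 (iv1 F467065)) (tt N75124 F450984) (tt N70397 (iv2 D208815)) (tt N120986 (iv3 F523870)) (tt N118627 (iv4 F511209)) (tt N104482 F450983) (tt N116773 (iv6 F501750)) (tt N109457 (iv7 F467056)))
theorem Q105618 : ∀ i, i < 105618 → P i := stepQ 105617 Q105617 (allL N105617 (tt N94641 F450987) (tt N109155 F465611) (tt N118627 F511210) (tt N103644 F450988) (tt N70397 (iv4 D208816)) (tt N103643 F450986) (tt N120915 F523451) (tt N104710 F450985))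
theorem Q105619 : ∀ i, i < 105619 → P i := stepQ 105618 Q105618 (allL N105618 (tt N88902 F454360) (tt N121164 D224423) (tt N116773 (iv2 F501748)) (tt N70399 F450990) (tt N120915 (iv4 F523448)) (tt N106421 (iv5 F454359)) (tt N70397 (iv6 D208817)) (tt N116774 (iv7 F501757)))
theorem Q105620 : ∀ i, i < 105620 → P i := stepQ 105619 Q105619 (allL N105619 (tt N70401 (iv1 F450992)) (tt N70398 (iv0 D208818)) (tt N105697 (iv2 F451300)) (tt N77537 (iv3 F450993)) (tt N105509 F450991) (tt N116325 (iv5 F499563)) (tt N77536 F450994) (tt N105699 (iv7 F451306)))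
theorem Q105621 : ∀ i, i < 105621 → P i := stepQ 105620 Q105620 (allL N105620 (tt N70398 (iv1 D208819)) (tt N70401 F450995) (tt N105699 (iv2 F451305)) (tt N95147 (iv3 F450998)) (tt N103887 F450996) (tt N116326 (iv5 F499569)) (tt N95145 (iv6 F450997)) (tt N105697 (iv7 F451301)))
theorem Q105622 : ∀ i, i < 105622 → P i := stepQ 105621 Q105621 (allL N105621 (tt N83109 F451000) (tt N120261 (iv0 F519878)) (tt N119564 (iv2 F516276)) (tt N70398 (iv3 D208820)) (tt N103644 F450999) (tt N115077 (iv5 F493371)) (tt N114554 (iv6 F490751)) (tt N120913 (iv7 F523436)))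
theorem Q105623 : ∀ i, i < 105623 → P i := stepQ 105622 Q105622 (allL N105622 (tt N82244 F451003) (tt N83286 (iv0 F451004)) (tt N109777 (iv2 F468566)) (tt N115077 (iv3 F493369)) (tt N70538 F451002) (tt N70398 (iv5 D208821)) (tt N110551 F472101) (tt N88927 F451001))
theorem Q105624 : ∀ i, i < 105624 → P i := stepQ 105623 Q105623 (allL N105623 (tt N106931 (iv1 F456330)) (tt N89831 (iv0 F451007)) (tt N98328 F451005) (tt N114554 (iv3 F490746)) (tt N70399 F451006) (tt N106438 (iv5 F454435)) (tt N70398 (iv6 D208822)) (tt N118822 (iv7 F512261)))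
theorem Q105625 : ∀ i, i < 105625 → P i := stepQ 105624 Q105624 (allL N105624 (tt N113034 (iv1 F483650)) (tt N113035 (iv0 F483655)) (tt N70400 (iv2 D208823)) (tt N109457 (iv3 F467059)) (tt N115091 (iv4 F493440)) (tt N106943 F456384) (tt N112906 F483223) (tt N120986 (iv7 F523874)))
theorem Q105626 : ∀ i, i < 105626 → P i := stepQ 105625 Q105625 (allL N105625 (tt N105480 F451010) (tt N105478 F451011) (tt N115091 (iv2 F493438)) (tt N93129 F451012) (tt N70400 (iv4 D208824)) (tt N93128 F451009) (tt N109558 F467516) (tt N103028 F451008))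
theorem Q105627 : ∀ i, i < 105627 → P i := stepQ 105626 Q105626 (allL N105626 (tt N94764 F451015) (tt N85218 (iv0 F451016)) (tt N93718 (iv2 F451018)) (tt N70401 (iv3 D208825)) (tt N93129 F451013) (tt N106154 (iv5 F453369)) (tt N92905 F451017) (tt N94774 F451014))
theorem Q105628 : ∀ i, i < 105628 → P i := stepQ 105627 Q105627 (allL N105627 (tt N83286 (iv1 F451022)) (tt N82244 (iv0 F451021)) (tt N88927 F451019) (tt N106154 F453372) (tt N70537 F451020) (tt N70401 (iv5 D208826)) (tt N118437 (iv6 F510350)) (tt N109777 (iv7 F468568)))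
theorem Q105629 : ∀ i, i < 105629 → P i := stepQ 105628 Q105628 (allL N105628 (tt N114726 F491551) (tt N115105 (iv0 F493502)) (tt N96150 F451027) (tt N92905 F451023) (tt N70402 F451024) (tt N92904 (iv5 F451026)) (tt N70401 (iv6 D208827)) (tt N93712 F451025))
theorem Q105630 : ∀ i, i < 105630 → P i := stepQ 105629 Q105629 (allL N105629 (tt N70402 (iv1 D208828)) (tt N113082 F483896) (tt N107130 (iv2 F457111)) (tt N91069 (iv3 F453837)) (tt N118828 (iv4 F512285)) (tt N107129 (iv5 F457110)) (tt N71198 (iv6 F451030)) (tt N113075 (iv7 F483861)))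
theorem Q105631 : ∀ i, i < 105631 → P i := stepQ 105630 Q105630 (allL N105630 (tt N120451 (iv1 F520852)) (tt N114505 (iv0 F490503)) (tt N101092 F451031) (tt N107218 (iv3 F457492)) (tt N70526 F451032) (tt N70404 (iv5 D208829)) (tt N121165 D224424) (tt N109792 (iv7 F468635)))
theorem Q105632 : ∀ i, i < 105632 → P i := stepQ 105631 Q105631 (allL N105631 (tt N111027 (iv1 F474329)) (tt N118828 F512288) (tt N86340 F451033) (tt N73766 F451034) (tt N86339 F451035) (tt N73765 (iv5 F451037)) (tt N70404 (iv6 D208830)) (tt N105370 F451036))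
theorem Q105633 : ∀ i, i < 105633 → P i := stepQ 105632 Q105632 (allL N105632 (tt N70405 (iv1 D208831)) (tt N70541 F451038) (tt N96313 F451043) (tt N96456 (iv3 F451041)) (tt N70491 F451040) (tt N70511 F451039) (tt N96309 (iv6 F451042)) (tt N109786 (iv7 F468605)))
theorem Q105634 : ∀ i, i < 105634 → P i := stepQ 105633 Q105633 (allL N105633 (tt N96313 (iv1 F451048)) (tt N109786 F468604) (tt N70541 F451044) (tt N96479 F451045) (tt N70520 F451046) (tt N70406 F451047) (tt N116367 (iv6 F499744)) (tt N70405 (iv7 D208832)))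
theorem Q105635 : ∀ i, i < 105635 → P i := stepQ 105634 Q105634 (allL N105634 (tt N113259 (iv1 F484745)) (tt N83267 (iv0 F459448)) (tt N113258 (iv2 F484739)) (tt N107732 (iv3 F459443)) (tt N70409 F451049) (tt N117542 (iv5 F505615)) (tt N70406 (iv6 D208833)) (tt N107730 (iv7 F459434)))
theorem Q105636 : ∀ i, i < 105636 → P i := stepQ 105635 Q105635 (allL N105635 (tt N95145 F451053) (tt N108284 (iv0 F461872)) (tt N118863 (iv2 F512460)) (tt N93353 F451054) (tt N70407 (iv4 D208834)) (tt N94809 F451050) (tt N82258 F451051) (tt N94765 F451052))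
theorem Q105637 : ∀ i, i < 105637 → P i := stepQ 105636 Q105636 (allL N105636 (tt N113081 F483893) (tt N114825 F492079) (tt N100173 F451055) (tt N70423 F451056) (tt N107730 (iv4 F459433)) (tt N120093 (iv5 F519005)) (tt N70408 (iv6 D208835)) (tt N70409 F451057))
theorem Q105638 : ∀ i, i < 105638 → P i := stepQ 105637 Q105637 (allL N105637 (tt N100173 (iv1 F451058)) (tt N70409 (iv0 D208836)) (tt N114825 (iv2 F492074)) (tt N114268 F489307) (tt N89828 (iv4 F471880)) (tt N117160 (iv5 F503695)) (tt N82261 F471881) (tt N113081 (iv7 F483891)))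
theorem Q105639 : ∀ i, i < 105639 → P i := stepQ 105638 Q105638 (allL N105638 (tt N121166 D224425) (tt N106648 (iv0 F455142)) (tt N100274 F451059) (tt N70425 F451060) (tt N109824 (iv4 F468800)) (tt N70409 (iv5 D208837)) (tt N70410 F451061) (tt N120093 (iv7 F519006)))
theorem Q105640 : ∀ i, i < 105640 → P i := stepQ 105639 Q105639 (allL N105639 (tt N70410 (iv1 D208838)) (tt N105264 F451062) (tt N105286 (iv2 F451066)) (tt N83056 (iv3 F451064)) (tt N109822 (iv4 F468789)) (tt N106954 (iv5 F456425)) (tt N83055 F451065) (tt N105287 F451063))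
theorem Q105641 : ∀ i, i < 105641 → P i := stepQ 105640 Q105640 (allL N105640 (tt N119230 F514498) (tt N70412 (iv0 D208839)) (tt N119034 (iv2 F513395)) (tt N89811 (iv3 F457334)) (tt N105696 (iv4 F451299)) (tt N107173 (iv5 F457329)) (tt N89699 F457333) (tt N119231 (iv7 F514503)))
theorem Q105642 : ∀ i, i < 105642 → P i := stepQ 105641 Q105641 (allL N105641 (tt N110859 F473477) (tt N106165 F453413) (tt N110318 (iv2 F471015)) (tt N101908 F451067) (tt N76370 F451069) (tt N70412 (iv5 D208840)) (tt N73249 F451068) (tt N108392 (iv7 F462384)))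
theorem Q105643 : ∀ i, i < 105643 → P i := stepQ 105642 Q105642 (allL N105642 (tt N72587 (iv1 F451073)) (tt N70413 (iv0 D208841)) (tt N88856 (iv2 F451074)) (tt N108446 (iv3 F462610)) (tt N99428 F451071) (tt N89674 F451070) (tt N81867 F451072) (tt N107605 (iv7 F458913)))
theorem Q105644 : ∀ i, i < 105644 → P i := stepQ 105643 Q105643 (allL N105643 (tt N70413 (iv1 D208842)) (tt N72587 F451075) (tt N107605 (iv2 F458911)) (tt N121167 D224426) (tt N99427 F451077) (tt N119225 (iv5 F514466)) (tt N89696 (iv6 F451078)) (tt N88856 F451076))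
theorem Q105645 : ∀ i, i < 105645 → P i := stepQ 105644 Q105644 (allL N105644 (tt N84832 F451081) (tt N85237 (iv0 F451084)) (tt N85212 (iv2 F451083)) (tt N70416 (iv3 D208843)) (tt N84821 F451082) (tt N93531 F451079) (tt N121168 D224427) (tt N85210 F451080))
theorem Q105646 : ∀ i, i < 105646 → P i := stepQ 105645 Q105645 (allL N105645 (tt N101428 (iv1 F451089)) (tt N95200 (iv0 F451088)) (tt N101429 F451085) (tt N121168 (iv3 F524905)) (tt N100608 F451086) (tt N118038 (iv5 F508226)) (tt N70416 (iv6 D208844)) (tt N82277 F451087))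
theorem Q105647 : ∀ i, i < 105647 → P i := stepQ 105646 Q105646 (allL N105646 (tt N71892 F451093) (tt N71898 (iv0 F451095)) (tt N96466 F451096) (tt N70417 (iv3 D208845)) (tt N96668 (iv4 F451094)) (tt N99311 F451090) (tt N82278 F451091) (tt N96465 F451092))
theorem Q105648 : ∀ i, i < 105648 → P i := stepQ 105647 Q105647 (allL N105647 (tt N107976 (iv1 F460570)) (tt N107969 (iv0 F460536)) (tt N119225 F514470) (tt N107828 F459890) (tt N70418 (iv4 D208846)) (tt N107605 (iv5 F458914)) (tt N120485 (iv6 F521018)) (tt N89674 F451097))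
theorem Q105649 : ∀ i, i < 105649 → P i := stepQ 105648 Q105648 (allL N105648 (tt N88880 F451108) (tt N85414 (iv0 F451102)) (tt N86333 F451098) (tt N70420 F451099) (tt N120485 (iv4 F521016)) (tt N73907 F451100) (tt N70418 (iv6 D208847)) (tt N82271 F451101))
theorem Q105650 : ∀ i, i < 105650 → P i := stepQ 105649 Q105649 (allL N105649 (tt N118641 F511297) (tt N95133 (iv0 F451107)) (tt N118355 (iv2 F509876)) (tt N73763 F451103) (tt N70420 F451104) (tt N73762 F451106) (tt N70419 (iv6 D208848)) (tt N82272 F451105))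
theorem Q105651 : ∀ i, i < 105651 → P i := stepQ 105650 Q105650 (allL N105650 (tt N75123 (iv1 F451115)) (tt N85846 F451114) (tt N70421 (iv2 D208849)) (tt N89663 F451109) (tt N85402 F451110) (tt N81198 F451111) (tt N81199 F451112) (tt N86335 F451113))
theorem Q105652 : ∀ i, i < 105652 → P i := stepQ 105651 Q105651 (allL N105651 (tt N85840 F451120) (tt N85839 F451121) (tt N85841 F451116) (tt N70424 (iv3 D208850)) (tt N89654 F451117) (tt N116715 (iv5 F501459)) (tt N82281 F451118) (tt N85834 F451119))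
theorem Q105653 : ∀ i, i < 105653 → P i := stepQ 105652 Q105652 (allL N105652 (tt N100635 F451122) (tt N112550 F481617) (tt N112551 (iv2 F481618)) (tt N116715 (iv3 F501458)) (tt N120228 (iv4 F519706)) (tt N70424 (iv5 D208851)) (tt N112548 (iv6 F481609)) (tt N112518 F481473))
theorem Q105654 : ∀ i, i < 105654 → P i := stepQ 105653 Q105653 (allL N105653 (tt N100224 (iv1 F451123)) (tt N70425 (iv0 D208852)) (tt N118970 (iv2 F513037)) (tt N121169 D224428) (tt N118230 F509267) (tt N118968 (iv5 F513028)) (tt N108010 (iv6 F460716)) (tt N112616 (iv7 F481856)))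
theorem Q105655 : ∀ i, i < 105655 → P i := stepQ 105654 Q105654 (allL N105654 (tt N70425 (iv1 D208853)) (tt N100224 F451124) (tt N112616 (iv2 F481854)) (tt N114265 F492396) (tt N118231 (iv4 F509273)) (tt N118971 (iv5 F513047)) (tt N101505 F453922) (tt N118970 (iv7 F513041)))
theorem Q105656 : ∀ i, i < 105656 → P i := stepQ 105655 Q105655 (allL N105655 (tt N121170 D224429) (tt N121171 D224430) (tt N121120 (iv2 F524608)) (tt N121172 D224431) (tt N70425 (iv4 D208854)) (tt N119897 (iv5 F517920)) (tt N70432 F451125) (tt N120424 (iv7 F520709)))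
theorem Q105657 : ∀ i, i < 105657 → P i := stepQ 105656 Q105656 (allL N105656 (tt N117392 (iv1 F504803)) (tt N110368 (iv0 F471268)) (tt N117382 (iv2 F504758)) (tt N70427 F451126) (tt N116435 (iv4 F500093)) (tt N70426 (iv5 D208855)) (tt N116434 (iv6 F500091)) (tt N105298 F451127))
theorem Q105658 : ∀ i, i < 105658 → P i := stepQ 105657 Q105657 (allL N105657 (tt N70429 (iv1 F451130)) (tt N70427 (iv0 D208856)) (tt N104859 (iv2 F451129)) (tt N107029 (iv3 F483445)) (tt N113398 (iv4 F485332)) (tt N88604 F451128) (tt N112522 (iv6 F481490)) (tt N88603 F451131))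
theorem Q105659 : ∀ i, i < 105659 → P i := stepQ 105658 Q105658 (allL N105658 (tt N121121 (iv1 F524620)) (tt N117256 (iv0 F504140)) (tt N105300 F451132) (tt N121173 D224432) (tt N70427 (iv4 D208857)) (tt N105661 (iv5 F451140)) (tt N121174 D224433) (tt N105299 F451133))
theorem Q105660 : ∀ i, i < 105660 → P i := stepQ 105659 Q105659 (allL N105659 (tt N117376 F504735) (tt N106295 (iv0 F453921)) (tt N105301 F451134) (tt N116434 F500090) (tt N121174 (iv4 F524942)) (tt N100185 F451135) (tt N70427 (iv6 D208858)) (tt N106645 (iv7 F455131)))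
theorem Q105661 : ∀ i, i < 105661 → P i := stepQ 105660 Q105660 (allL N105660 (tt N117256 F504141) (tt N121121 (iv0 F524619)) (tt N105299 F451136) (tt N110700 (iv3 F472815)) (tt N70429 (iv4 D208859)) (tt N81919 F451138) (tt N110699 (iv6 F472810)) (tt N105300 F451137))
theorem Q105662 : ∀ i, i < 105662 → P i := stepQ 105661 Q105661 (allL N105661 (tt N105533 F451142) (tt N112581 F481717) (tt N105302 F451139) (tt N120102 F519054) (tt N70431 (iv4 D208860)) (tt N105658 F451140) (tt N112589 (iv6 F481739)) (tt N105304 F451141))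
theorem Q105663 : ∀ i, i < 105663 → P i := stepQ 105662 Q105662 (allL N105662 (tt N70432 (iv1 D208861)) (tt N105101 F451143) (tt N105305 (iv2 F451146)) (tt N119926 (iv3 F518070)) (tt N105165 F451145) (tt N105665 (iv5 F451158)) (tt N112602 (iv6 F481790)) (tt N105306 F451144))
theorem Q105664 : ∀ i, i < 105664 → P i := stepQ 105663 Q105663 (allL N105663 (tt N112561 (iv1 F481649)) (tt N83368 (iv0 F451150)) (tt N81893 F451147) (tt N70432 (iv3 D208862)) (tt N109823 (iv4 F468796)) (tt N81842 F451148) (tt N121172 (iv6 F524933)) (tt N105307 F451149))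
theorem Q105665 : ∀ i, i < 105665 → P i := stepQ 105664 Q105664 (allL N105664 (tt N70438 (iv1 F451153)) (tt N70434 (iv0 D208863)) (tt N105309 (iv2 F451152)) (tt N121175 D224434) (tt N121114 (iv4 F524581)) (tt N96595 F451151) (tt N101432 (iv6 F451155)) (tt N90878 F451154))
theorem Q105666 : ∀ i, i < 105666 → P i := stepQ 105665 Q105665 (allL N105665 (tt N113398 F485334) (tt N113401 (iv0 F485341)) (tt N105313 F451156) (tt N100455 F451165) (tt N70434 (iv4 D208864)) (tt N105662 F451158) (tt N100453 (iv6 F451164)) (tt N105310 F451157))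
theorem Q105667 : ∀ i, i < 105667 → P i := stepQ 105666 Q105666 (allL N105666 (tt N120420 (iv1 F520688)) (tt N101353 (iv0 F451162)) (tt N105314 F451159) (tt N90390 F451160) (tt N100453 F451163) (tt N90389 F451161) (tt N70434 (iv6 D208865)) (tt N107331 (iv7 F457986)))
theorem Q105668 : ∀ i, i < 105668 → P i := stepQ 105667 Q105667 (allL N105667 (tt N113190 F484400) (tt N106593 (iv0 F454985)) (tt N77369 F451166) (tt N70438 F451167) (tt N109996 (iv4 F469500)) (tt N70437 (iv5 D208866)) (tt N77406 (iv6 F451169)) (tt N105312 F451168))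
theorem Q105669 : ∀ i, i < 105669 → P i := stepQ 105668 Q105668 (allL N105668 (tt N113401 F485342) (tt N113398 F485333) (tt N105310 F451170) (tt N121176 D224435) (tt N70438 (iv4 D208867)) (tt N81930 F451171) (tt N107333 (iv6 F457989)) (tt N105313 F451172))
theorem Q105670 : ∀ i, i < 105670 → P i := stepQ 105669 Q105669 (allL N105669 (tt N121177 D224436) (tt N113036 F483662) (tt N86926 F451173) (tt N70439 (iv3 D208868)) (tt N120818 (iv4 F522897)) (tt N113440 F485502) (tt N105452 F451174) (tt N105315 F451175))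
theorem Q105671 : ∀ i, i < 105671 → P i := stepQ 105670 Q105670 (allL N105670 (tt N100330 F451179) (tt N97800 (iv0 F451180)) (tt N100328 F451176) (tt N108140 (iv3 F461276)) (tt N89774 F451178) (tt N70442 (iv5 D208869)) (tt N120448 (iv6 F520834)) (tt N100329 F451177))
theorem Q105672 : ∀ i, i < 105672 → P i := stepQ 105671 Q105671 (allL N105671 (tt N84996 F451184) (tt N109185 F465700) (tt N105799 (iv2 F451772)) (tt N85003 F451181) (tt N103810 F451182) (tt N105886 F452180) (tt N70442 (iv6 D208870)) (tt N104959 F451183))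
theorem Q105673 : ∀ i, i < 105673 → P i := stepQ 105672 Q105672 (allL N105672 (tt N97800 F451188) (tt N100330 (iv0 F451190)) (tt N100329 F451185) (tt N92795 F451186) (tt N89775 F451192) (tt N70443 (iv5 D208871)) (tt N100320 F451189) (tt N100328 F451187))
theorem Q105674 : ∀ i, i < 105674 → P i := stepQ 105673 Q105673 (allL N105673 (tt N70444 (iv1 D208872)) (tt N105007 F451193) (tt N105801 (iv2 F451789)) (tt N92636 (iv3 F451195)) (tt N105965 (iv4 F452546)) (tt N75067 F451194) (tt N105964 F452544) (tt N105800 (iv7 F451783)))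
theorem Q105675 : ∀ i, i < 105675 → P i := stepQ 105674 Q105674 (allL N105674 (tt N114632 F491107) (tt N120949 (iv0 F523649)) (tt N71310 F451196) (tt N110161 (iv3 F470226)) (tt N70447 (iv4 D208873)) (tt N106507 (iv5 F454700)) (tt N71308 (iv6 F451198)) (tt N89773 F451197))
theorem Q105676 : ∀ i, i < 105676 → P i := stepQ 105675 Q105675 (allL N105675 (tt N109846 (iv1 F468880)) (tt N104030 (iv0 F451203)) (tt N71309 F451199) (tt N113692 F486665) (tt N71308 F451200) (tt N97349 F451201) (tt N70447 (iv6 D208874)) (tt N98137 F451202))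
theorem Q105677 : ∀ i, i < 105677 → P i := stepQ 105676 Q105676 (allL N105676 (tt N120949 (iv1 F523650)) (tt N114632 (iv0 F491106)) (tt N89773 F451204) (tt N71314 (iv3 F451207)) (tt N70448 (iv4 D208875)) (tt N88546 (iv5 F451208)) (tt N88547 F451205) (tt N71310 F451206))
theorem Q105678 : ∀ i, i < 105678 → P i := stepQ 105677 Q105677 (allL N105677 (tt N98563 (iv1 F451215)) (tt N97820 F451217) (tt N98564 (iv2 F451214)) (tt N70449 (iv3 D208876)) (tt N120868 (iv4 F523175)) (tt N104956 F451211) (tt N98588 F451212) (tt N78850 F451213))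
theorem Q105679 : ∀ i, i < 105679 → P i := stepQ 105678 Q105678 (allL N105678 (tt N70659 F451219) (tt N105921 F452358) (tt N105804 (iv2 F451800)) (tt N101478 (iv3 F451220)) (tt N70449 (iv4 D208877)) (tt N106500 (iv5 F454673)) (tt N106090 F453067) (tt N104957 F451218))
theorem Q105680 : ∀ i, i < 105680 → P i := stepQ 105679 Q105679 (allL N105679 (tt N106509 (iv1 F454708)) (tt N106508 F454706) (tt N105808 (iv2 F451823)) (tt N111950 (iv3 F478830)) (tt N105819 (iv4 F451872)) (tt N70450 (iv5 D208878)) (tt N120063 (iv6 F518850)) (tt N105818 (iv7 F451869)))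
theorem Q105681 : ∀ i, i < 105681 → P i := stepQ 105680 Q105680 (allL N105680 (tt N114629 F491091) (tt N72508 F451221) (tt N105810 (iv2 F451830)) (tt N111274 (iv3 F475575)) (tt N70454 (iv4 D208879)) (tt N106509 (iv5 F454710)) (tt N120264 (iv6 F519896)) (tt N105813 (iv7 F451845)))
theorem Q105682 : ∀ i, i < 105682 → P i := stepQ 105681 Q105681 (allL N105681 (tt N106313 (iv1 F467880)) (tt N106319 (iv0 F454009)) (tt N105811 (iv2 F451832)) (tt N116762 (iv3 F501697)) (tt N120264 (iv4 F519894)) (tt N95870 F451222) (tt N70454 (iv6 D208880)) (tt N76225 F451223))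
theorem Q105683 : ∀ i, i < 105683 → P i := stepQ 105682 Q105682 (allL N105682 (tt N100786 F451227) (tt N98727 (iv0 F451228)) (tt N105572 F451224) (tt N70460 (iv3 D208881)) (tt N105554 F451225) (tt N107126 (iv5 F457100)) (tt N108788 F463941) (tt N84939 F451226))
theorem Q105684 : ∀ i, i < 105684 → P i := stepQ 105683 Q105683 (allL N105683 (tt N75256 (iv1 F451231)) (tt N70464 (iv0 D208882)) (tt N78718 (iv2 F451230)) (tt N110043 (iv3 F469692)) (tt N109236 (iv4 F465915)) (tt N81544 F451229) (tt N78552 F451233) (tt N81435 F451232))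
theorem Q105685 : ∀ i, i < 105685 → P i := stepQ 105684 Q105684 (allL N105684 (tt N78718 (iv1 F451239)) (tt N81435 F451238) (tt N70464 (iv2 D208883)) (tt N75224 F451234) (tt N80891 F451235) (tt N71152 F451236) (tt N109460 F467080) (tt N75256 F451237))
theorem Q105686 : ∀ i, i < 105686 → P i := stepQ 105685 Q105685 (allL N105685 (tt N109233 (iv1 F465902)) (tt N80671 (iv0 F451244)) (tt N109460 (iv2 F467081)) (tt N70465 F451240) (tt N80893 F451241) (tt N99578 F451242) (tt N70464 (iv6 D208884)) (tt N74838 F451243))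
theorem Q105687 : ∀ i, i < 105687 → P i := stepQ 105686 Q105686 (allL N105686 (tt N73667 F451248) (tt N73663 F451249) (tt N98147 F451245) (tt N108790 (iv3 F463949)) (tt N96772 F451246) (tt N70466 (iv5 D208885)) (tt N96771 F451250) (tt N98146 F451247))
theorem Q105688 : ∀ i, i < 105688 → P i := stepQ 105687 Q105687 (allL N105687 (tt N74940 F451256) (tt N79911 (iv0 F451257)) (tt N79920 F451251) (tt N96232 F451252) (tt N80867 F451253) (tt N79901 F451254) (tt N70466 (iv6 D208886)) (tt N76620 F451255))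
theorem Q105689 : ∀ i, i < 105689 → P i := stepQ 105688 Q105688 (allL N105688 (tt N108740 (iv1 F463769)) (tt N98762 F451261) (tt N104833 F451258) (tt N114240 (iv3 F489168)) (tt N70469 (iv4 D208887)) (tt N95419 F451259) (tt N116072 (iv6 F498319)) (tt N96941 F451260))
theorem Q105690 : ∀ i, i < 105690 → P i := stepQ 105689 Q105689 (allL N105689 (tt N95431 (iv1 F451268)) (tt N70471 (iv0 D208888)) (tt N104843 (iv2 F451264)) (tt N86762 (iv3 F451265)) (tt N70614 F451263) (tt N95437 F451262) (tt N87601 (iv6 F451266)) (tt N96778 (iv7 F451267)))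
theorem Q105691 : ∀ i, i < 105691 → P i := stepQ 105690 Q105690 (allL N105690 (tt N70471 (iv1 D208889)) (tt N95431 F451269) (tt N96778 F451274) (tt N74131 F451275) (tt N70612 F451271) (tt N95434 F451272) (tt N96737 (iv6 F451273)) (tt N104843 F451270))
theorem Q105692 : ∀ i, i < 105692 → P i := stepQ 105691 Q105691 (allL N105691 (tt N114853 F492185) (tt N114849 (iv0 F492173)) (tt N114850 F492176) (tt N70471 (iv3 D208890)) (tt N121048 (iv4 F524220)) (tt N121178 D224437) (tt N71628 F451277) (tt N114851 (iv7 F492177)))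
theorem Q105693 : ∀ i, i < 105693 → P i := stepQ 105692 Q105692 (allL N105692 (tt N95429 F451282) (tt N95428 F451283) (tt N95432 F451278) (tt N121178 (iv3 F524963)) (tt N87986 F451279) (tt N70471 (iv5 D208891)) (tt N74158 F451280) (tt N95312 F451281))
theorem Q105694 : ∀ i, i < 105694 → P i := stepQ 105693 Q105693 (allL N105693 (tt N96778 (iv1 F451288)) (tt N104843 F451289) (tt N95431 F451284) (tt N114851 F492178) (tt N70472 F451285) (tt N95312 F451286) (tt N86906 F451287) (tt N70471 (iv7 D208892)))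
theorem Q105695 : ∀ i, i < 105695 → P i := stepQ 105694 Q105694 (allL N105694 (tt N105933 F452412) (tt N115204 (iv0 F494005)) (tt N118104 (iv2 F508613)) (tt N70474 F451290) (tt N115686 (iv4 F496309)) (tt N70473 (iv5 D208893)) (tt N118110 (iv6 F508656)) (tt N95865 F451291))
theorem Q105696 : ∀ i, i < 105696 → P i := stepQ 105695 Q105695 (allL N105695 (tt N103591 F451296) (tt N85157 F451297) (tt N70489 F451292) (tt N91726 F451293) (tt N70477 (iv4 D208894)) (tt N109786 (iv5 F468601)) (tt N82305 F451294) (tt N70511 F451295))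
theorem Q105697 : ∀ i, i < 105697 → P i := stepQ 105696 Q105696 (allL N105696 (tt N120277 (iv1 F519981)) (tt N106183 F453501) (tt N119688 (iv2 F516923)) (tt N70484 F451298) (tt N105640 F451299) (tt N70483 (iv5 D208895)) (tt N116742 (iv6 F501592)) (tt N107655 F459105))
theorem Q105698 : ∀ i, i < 105698 → P i := stepQ 105697 Q105697 (allL N105697 (tt N105613 F451302) (tt N105611 F451303) (tt N105619 F451300) (tt N115047 (iv3 F493209)) (tt N70484 (iv4 D208896)) (tt N121179 D224438) (tt N110503 (iv6 F471876)) (tt N105620 F451301))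
theorem Q105699 : ∀ i, i < 105699 → P i := stepQ 105698 Q105698 (allL N105698 (tt N113254 F484724) (tt N84866 (iv0 F451304)) (tt N110497 (iv2 F471849)) (tt N116742 (iv3 F501591)) (tt N110503 (iv4 F471875)) (tt N106592 (iv5 F454980)) (tt N70484 (iv6 D208897)) (tt N121180 D224439))
theorem Q105700 : ∀ i, i < 105700 → P i := stepQ 105699 Q105699 (allL N105699 (tt N105611 F451308) (tt N105613 F451309) (tt N105620 F451305) (tt N101424 (iv3 F451310)) (tt N70485 (iv4 D208898)) (tt N100561 F451307) (tt N118684 F511538) (tt N105619 F451306))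
theorem Q105701 : ∀ i, i < 105701 → P i := stepQ 105700 Q105700 (allL N105700 (tt N99859 F451316) (tt N99900 (iv0 F451317)) (tt N73711 F451314) (tt N121077 (iv3 F524393)) (tt N118684 (iv4 F511535)) (tt N73661 F451315) (tt N70485 (iv6 D208899)) (tt N99898 (iv7 F451318)))
theorem Q105702 : ∀ i, i < 105702 → P i := stepQ 105701 Q105701 (allL N105701 (tt N114334 F489671) (tt N117770 (iv0 F506879)) (tt N105497 F451319) (tt N70487 (iv3 D208900)) (tt N105583 F451321) (tt N71800 F451320) (tt N106001 (iv6 F452700)) (tt N114644 (iv7 F491167)))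
theorem Q105703 : ∀ i, i < 105703 → P i := stepQ 105702 Q105702 (allL N105702 (tt N105607 F451325) (tt N104782 F451326) (tt N105604 F451322) (tt N112832 F482849) (tt N70487 (iv4 D208901)) (tt N83286 F451324) (tt N106003 (iv6 F452706)) (tt N105605 F451323))
theorem Q105704 : ∀ i, i < 105704 → P i := stepQ 105703 Q105703 (allL N105703 (tt N104782 F451330) (tt N105607 F451331) (tt N105605 F451327) (tt N120284 (iv3 F520021)) (tt N70488 (iv4 D208902)) (tt N82244 F451328) (tt N98228 (iv6 F451332)) (tt N105604 F451329))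
theorem Q105705 : ∀ i, i < 105705 → P i := stepQ 105704 Q105704 (allL N105704 (tt N114782 F491831) (tt N116927 (iv0 F502539)) (tt N114557 (iv2 F490765)) (tt N105500 F451333) (tt N98228 F451334) (tt N114731 F491570) (tt N70488 (iv6 D208903)) (tt N106534 (iv7 F454795)))
theorem Q105706 : ∀ i, i < 105706 → P i := stepQ 105705 Q105705 (allL N105705 (tt N70491 (iv1 D208904)) (tt N70513 F451335) (tt N100562 (iv2 F451338)) (tt N83287 (iv3 F451339)) (tt N121179 (iv4 F524971)) (tt N70524 F451337) (tt N115339 (iv6 F494673)) (tt N100559 F451336))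
theorem Q105707 : ∀ i, i < 105707 → P i := stepQ 105706 Q105706 (allL N105706 (tt N96514 F451343) (tt N96513 (iv0 F451344)) (tt N96312 F451340) (tt N116881 (iv3 F502321)) (tt N96309 F451341) (tt N76673 F451342) (tt N70491 (iv6 D208905)) (tt N96506 F451345))
theorem Q105708 : ∀ i, i < 105708 → P i := stepQ 105707 Q105707 (allL N105707 (tt N120021 F518602) (tt N70493 (iv0 D208906)) (tt N73960 (iv2 F451350)) (tt N73656 F451348) (tt N104920 F451347) (tt N88517 F451346) (tt N73654 F451349) (tt N81500 F451351))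
theorem Q105709 : ∀ i, i < 105709 → P i := stepQ 105708 Q105708 (allL N105708 (tt N70506 (iv1 F451355)) (tt N70505 F451356) (tt N70508 F451352) (tt N109279 (iv3 F466157)) (tt N83670 F451353) (tt N109278 (iv5 F466152)) (tt N82501 F451354) (tt N70499 (iv7 D208907)))
theorem Q105710 : ∀ i, i < 105710 → P i := stepQ 105709 Q105709 (allL N105709 (tt N84465 F451360) (tt N84467 (iv0 F451361)) (tt N105929 (iv2 F452389)) (tt N104184 F451357) (tt N105462 F451358) (tt N86801 F451359) (tt N70501 (iv6 D208908)) (tt N117418 (iv7 F504946)))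
theorem Q105711 : ∀ i, i < 105711 → P i := stepQ 105710 Q105710 (allL N105710 (tt N104126 F451364) (tt N85759 F451365) (tt N105930 (iv2 F452394)) (tt N115205 (iv3 F494008)) (tt N108609 (iv4 F463233)) (tt N70502 (iv5 D208909)) (tt N86801 F451362) (tt N86865 F451363))
theorem Q105712 : ∀ i, i < 105712 → P i := stepQ 105711 Q105711 (allL N105711 (tt N81205 F451369) (tt N101103 (iv0 F451370)) (tt N101760 F451366) (tt N101090 F451367) (tt N70504 F451368) (tt N116140 (iv5 F498693)) (tt N70503 (iv6 D208910)) (tt N112537 (iv7 F481564)))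
theorem Q105713 : ∀ i, i < 105713 → P i := stepQ 105712 Q105712 (allL N105712 (tt N101154 F451373) (tt N100336 F451374) (tt N109610 (iv2 F467722)) (tt N70516 F451371) (tt N107756 (iv4 F459578)) (tt N70504 (iv5 D208911)) (tt N70507 F451372) (tt N111812 (iv7 F478104)))
theorem Q105714 : ∀ i, i < 105714 → P i := stepQ 105713 Q105713 (allL N105713 (tt N93772 (iv1 F451381)) (tt N71340 (iv0 F451380)) (tt N104754 F451375) (tt N97739 F451376) (tt N92788 F451377) (tt N93797 F451379) (tt N70505 (iv6 D208912)) (tt N83671 F451378))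
theorem Q105715 : ∀ i, i < 105715 → P i := stepQ 105714 Q105714 (allL N105714 (tt N116300 F499445) (tt N109758 (iv0 F468479)) (tt N101779 F451384) (tt N70514 F451385) (tt N101090 F451386) (tt N112887 (iv5 F483141)) (tt N70512 (iv6 D208913)) (tt N112538 (iv7 F481570)))
theorem Q105716 : ∀ i, i < 105716 → P i := stepQ 105715 Q105715 (allL N105715 (tt N100892 F451389) (tt N100580 F451390) (tt N100895 F451387) (tt N112887 F483143) (tt N121181 D224440) (tt N70514 (iv5 D208914)) (tt N116724 (iv6 F501510)) (tt N100894 F451388))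
theorem Q105717 : ∀ i, i < 105717 → P i := stepQ 105716 Q105716 (allL N105716 (tt N111857 F478337) (tt N111093 (iv0 F474630)) (tt N111711 (iv2 F477607)) (tt N96521 F451392) (tt N70516 (iv4 D208915)) (tt N121136 (iv5 F524713)) (tt N70518 F451391) (tt N111813 (iv7 F478108)))
theorem Q105718 : ∀ i, i < 105718 → P i := stepQ 105717 Q105717 (allL N105717 (tt N70518 (iv1 D208916)) (tt N111543 (iv0 F476837)) (tt N78458 F451397) (tt N102017 (iv3 F451395)) (tt N82398 F451393) (tt N85509 F451394) (tt N82397 (iv6 F451396)) (tt N111709 (iv7 F477601)))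
theorem Q105719 : ∀ i, i < 105719 → P i := stepQ 105718 Q105718 (allL N105718 (tt N82870 F451402) (tt N106364 (iv0 F454157)) (tt N94151 F451398) (tt N70520 F451399) (tt N71172 F451400) (tt N70519 (iv5 D208917)) (tt N115736 F496586) (tt N76946 F451401))
theorem Q105720 : ∀ i, i < 105720 → P i := stepQ 105719 Q105719 (allL N105719 (tt N76923 (iv1 F451407)) (tt N76941 F451408) (tt N76942 F451403) (tt N70521 F451404) (tt N79290 F451405) (tt N110410 (iv5 F471445)) (tt N70519 (iv6 D208918)) (tt N76938 F451406))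
theorem Q105721 : ∀ i, i < 105721 → P i := stepQ 105720 Q105720 (allL N105720 (tt N113746 (iv1 F486935)) (tt N113744 (iv0 F486921)) (tt N70544 F451409) (tt N110410 F471448) (tt N108871 (iv4 F464307)) (tt N70521 (iv5 D208919)) (tt N108869 F464304) (tt N112068 (iv7 F479338)))
theorem Q105722 : ∀ i, i < 105722 → P i := stepQ 105721 Q105721 (allL N105721 (tt N121182 D224441) (tt N121183 D224442) (tt N109795 (iv2 F468646)) (tt N90441 F451410) (tt N121165 (iv4 F524890)) (tt N116933 (iv5 F502569)) (tt N70526 (iv6 D208920)) (tt N119018 (iv7 F513312)))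
theorem Q105723 : ∀ i, i < 105723 → P i := stepQ 105722 Q105722 (allL N105722 (tt N100337 F451415) (tt N91337 (iv0 F451416)) (tt N70530 F451411) (tt N80367 F451412) (tt N83101 F451413) (tt N93800 F451414) (tt N70529 (iv6 D208921)) (tt N109599 (iv7 F467663)))
theorem Q105724 : ∀ i, i < 105724 → P i := stepQ 105723 Q105723 (allL N105723 (tt N109599 (iv1 F467665)) (tt N70530 (iv0 D208922)) (tt N100337 (iv2 F451419)) (tt N91341 (iv3 F451420)) (tt N88483 F451417) (tt N91338 F451418) (tt N88481 (iv6 F451422)) (tt N91337 (iv7 F451421)))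
theorem Q105725 : ∀ i, i < 105725 → P i := stepQ 105724 Q105724 (allL N105724 (tt N70530 (iv1 D208923)) (tt N109599 (iv0 F467664)) (tt N91337 F451427) (tt N99955 (iv3 F451425)) (tt N101203 F451424) (tt N91336 (iv5 F451426)) (tt N110544 (iv6 F472068)) (tt N100337 F451423))
theorem Q105726 : ∀ i, i < 105726 → P i := stepQ 105725 Q105725 (allL N105725 (tt N91337 (iv1 F451431)) (tt N100337 F451432) (tt N109599 (iv2 F467660)) (tt N70535 F451428) (tt N116143 (iv4 F498714)) (tt N97392 F451429) (tt N97393 F451430) (tt N70530 (iv7 D208924)))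
theorem Q105727 : ∀ i, i < 105727 → P i := stepQ 105726 Q105726 (allL N105726 (tt N109867 F468997) (tt N121184 D224443) (tt N109793 (iv2 F468638)) (tt N116727 (iv3 F501521)) (tt N119159 (iv4 F514106)) (tt N109968 F469417) (tt N70531 (iv6 D208925)) (tt N121185 D224444))
theorem Q105728 : ∀ i, i < 105728 → P i := stepQ 105727 Q105727 (allL N105727 (tt N70532 (iv1 D208926)) (tt N100847 F451433) (tt N83306 F451439) (tt N81855 (iv3 F451436)) (tt N104810 F451435) (tt N83304 (iv5 F451438)) (tt N100654 (iv6 F451437)) (tt N81970 F451434))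
theorem Q105729 : ∀ i, i < 105729 → P i := stepQ 105728 Q105728 (allL N105728 (tt N70539 F451441) (tt N109781 F468585) (tt N104155 F451440) (tt N110406 (iv3 F471429)) (tt N70533 (iv4 D208927)) (tt N110405 F471426) (tt N116205 (iv6 F499004)) (tt N109779 (iv7 F468577)))
theorem Q105730 : ∀ i, i < 105730 → P i := stepQ 105729 Q105729 (allL N105729 (tt N94568 F451446) (tt N70548 F451447) (tt N100508 F451442) (tt N102837 F451443) (tt N116205 (iv4 F499003)) (tt N100507 F451444) (tt N70533 (iv6 D208928)) (tt N104863 F451445))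
theorem Q105731 : ∀ i, i < 105731 → P i := stepQ 105730 Q105730 (allL N105730 (tt N100353 F451450) (tt N106967 F456475) (tt N102659 F451448) (tt N118042 (iv3 F508248)) (tt N70534 (iv4 D208929)) (tt N121186 D224445) (tt N102656 F451449) (tt N108305 (iv7 F461983)))
theorem Q105732 : ∀ i, i < 105732 → P i := stepQ 105731 Q105731 (allL N105731 (tt N102660 (iv1 F451455)) (tt N102647 F451456) (tt N102661 F451451) (tt N97392 F451452) (tt N108305 (iv4 F461982)) (tt N70535 F451453) (tt N97386 F451454) (tt N70534 (iv7 D208930)))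
theorem Q105733 : ∀ i, i < 105733 → P i := stepQ 105732 Q105732 (allL N105732 (tt N75864 F451461) (tt N88898 F451462) (tt N83927 F451457) (tt N70537 F451458) (tt N103744 F451459) (tt N70536 (iv5 D208931)) (tt N120826 (iv6 F522947)) (tt N88920 F451460))
theorem Q105734 : ∀ i, i < 105734 → P i := stepQ 105733 Q105733 (allL N105733 (tt N70538 (iv1 F451467)) (tt N70537 (iv0 D208932)) (tt N88513 (iv2 F451466)) (tt N106190 (iv3 F453541)) (tt N120451 (iv4 F520855)) (tt N83893 F451465) (tt N83761 (iv6 F451469)) (tt N88907 F451468))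
theorem Q105735 : ∀ i, i < 105735 → P i := stepQ 105734 Q105734 (allL N105734 (tt N121187 D224446) (tt N121188 D224447) (tt N88928 F451470) (tt N120826 (iv3 F522946)) (tt N118437 (iv4 F510353)) (tt N116574 (iv5 F500802)) (tt N70537 (iv6 D208933)) (tt N121189 D224448))
theorem Q105736 : ∀ i, i < 105736 → P i := stepQ 105735 Q105735 (allL N105735 (tt N100244 F465214) (tt N121190 D224449) (tt N109778 (iv2 F468571)) (tt N83926 F451471) (tt N110551 (iv4 F472102)) (tt N91167 (iv5 F451472)) (tt N70538 (iv6 D208934)) (tt N121191 D224450))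
theorem Q105737 : ∀ i, i < 105737 → P i := stepQ 105736 Q105736 (allL N105736 (tt N88607 F451475) (tt N88609 F451476) (tt N109780 (iv2 F468579)) (tt N81395 F451473) (tt N120338 (iv4 F520258)) (tt N70539 (iv5 D208935)) (tt N91167 F451474) (tt N116383 (iv7 F499812)))
theorem Q105738 : ∀ i, i < 105738 → P i := stepQ 105737 Q105737 (allL N105737 (tt N96511 F468962) (tt N96509 (iv0 F468955)) (tt N109785 (iv2 F468598)) (tt N116322 (iv3 F499552)) (tt N119030 (iv4 F513379)) (tt N109070 (iv5 F465213)) (tt N70540 (iv6 D208936)) (tt N109864 (iv7 F468985)))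
theorem Q105739 : ∀ i, i < 105739 → P i := stepQ 105738 Q105738 (allL N105738 (tt N120430 (iv1 F520740)) (tt N120429 F520738) (tt N116367 (iv2 F499742)) (tt N108904 (iv3 F464439)) (tt N70542 F451477) (tt N118215 (iv5 F509200)) (tt N70541 (iv6 D208937)) (tt N116366 (iv7 F499740)))
theorem Q105740 : ∀ i, i < 105740 → P i := stepQ 105739 Q105739 (allL N105739 (tt N121192 D224451) (tt N118403 (iv0 F510165)) (tt N108869 (iv2 F464302)) (tt N91532 F451478) (tt N91545 (iv4 F451480)) (tt N70542 (iv5 D208938)) (tt N70544 F451479) (tt N108872 (iv7 F464308)))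
theorem Q105741 : ∀ i, i < 105741 → P i := stepQ 105740 Q105740 (allL N105740 (tt N116205 (iv1 F499007)) (tt N116204 (iv0 F498999)) (tt N88668 F451481) (tt N106959 (iv3 F456448)) (tt N80746 F451482) (tt N88667 F451483) (tt N70543 (iv6 D208940)) (tt N116400 (iv7 F499897)))
theorem Q105742 : ∀ i, i < 105742 → P i := stepQ 105741 Q105741 (allL N105741 (tt N112068 (iv1 F479340)) (tt N70544 (iv0 D208941)) (tt N113746 (iv2 F486930)) (tt N110999 (iv3 F474166)) (tt N111376 (iv4 F476077)) (tt N108440 F462576) (tt N100261 F462577) (tt N113744 (iv7 F486919)))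
theorem Q105743 : ∀ i, i < 105743 → P i := stepQ 105742 Q105742 (allL N105742 (tt N100654 F451489) (tt N100893 (iv0 F451490)) (tt N100898 F451484) (tt N71495 F451485) (tt N70548 F451486) (tt N71494 F451487) (tt N70546 (iv6 D208942)) (tt N83234 F451488))
theorem Q105744 : ∀ i, i < 105744 → P i := stepQ 105743 Q105743 (allL N105743 (tt N71760 F451493) (tt N71759 F451494) (tt N71162 F451491) (tt N106797 (iv3 F455719)) (tt N96156 F451495) (tt N70549 (iv5 D208943)) (tt N71161 F451496) (tt N71758 F451492))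
theorem Q105745 : ∀ i, i < 105745 → P i := stepQ 105744 Q105744 (allL N105744 (tt N102555 F451499) (tt N105448 F451500) (tt N103288 F451497) (tt N120858 (iv3 F523117)) (tt N70564 (iv4 D208944)) (tt N115076 (iv5 F493363)) (tt N114378 (iv6 F489875)) (tt N105491 F451498))
theorem Q105746 : ∀ i, i < 105746 → P i := stepQ 105745 Q105745 (allL N105745 (tt N102907 (iv1 F451503)) (tt N104607 (iv0 F451502)) (tt N105493 F451501) (tt N119527 (iv3 F516068)) (tt N114378 F489874) (tt N119632 (iv5 F516614)) (tt N70564 (iv6 D208945)) (tt N119637 (iv7 F516642)))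
theorem Q105747 : ∀ i, i < 105747 → P i := stepQ 105746 Q105746 (allL N105746 (tt N105448 F451509) (tt N102555 F451510) (tt N105491 F451504) (tt N85429 F451505) (tt N70565 (iv4 D208946)) (tt N85428 F451508) (tt N71970 F451506) (tt N103288 F451507))
theorem Q105748 : ∀ i, i < 105748 → P i := stepQ 105747 Q105747 (allL N105747 (tt N88695 F451513) (tt N104552 F451514) (tt N70567 F451511) (tt N105753 (iv3 F451539)) (tt N96598 F451512) (tt N120690 (iv5 F522165)) (tt N70566 (iv6 D208947)) (tt N113054 (iv7 F483755)))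
theorem Q105749 : ∀ i, i < 105749 → P i := stepQ 105748 Q105748 (allL N105748 (tt N113054 (iv1 F483759)) (tt N70567 (iv0 D208948)) (tt N88695 (iv2 F451518)) (tt N96999 F451515) (tt N88688 (iv4 F451519)) (tt N96998 F451516) (tt N88687 F451517) (tt N104552 (iv7 F451520)))
theorem Q105750 : ∀ i, i < 105750 → P i := stepQ 105749 Q105749 (allL N105749 (tt N70567 (iv1 D208949)) (tt N113054 (iv0 F483757)) (tt N104552 (iv2 F451523)) (tt N115413 (iv3 F496924)) (tt N88698 (iv4 F451522)) (tt N104551 F451524) (tt N121193 D224452) (tt N88695 F451521))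
theorem Q105751 : ∀ i, i < 105751 → P i := stepQ 105750 Q105750 (allL N105750 (tt N120662 (iv1 F522030)) (tt N70570 (iv0 D208950)) (tt N111260 (iv2 F475493)) (tt N102779 F451526) (tt N104432 (iv4 F451528)) (tt N92696 F451525) (tt N104431 F451527) (tt N104591 (iv7 F451529)))
theorem Q105752 : ∀ i, i < 105752 → P i := stepQ 105751 Q105751 (allL N105751 (tt N70570 (iv1 D208951)) (tt N120662 F522029) (tt N104591 (iv2 F451534)) (tt N102589 (iv3 F451530)) (tt N103331 (iv4 F451531)) (tt N92698 F451532) (tt N71069 F451533) (tt N111260 (iv7 F475496)))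
theorem Q105753 : ∀ i, i < 105753 → P i := stepQ 105752 Q105752 (allL N105752 (tt N117965 F507823) (tt N109441 (iv0 F466974)) (tt N117962 F507809) (tt N70571 F451535) (tt N86965 F451537) (tt N70570 (iv5 D208952)) (tt N86964 F451536) (tt N117963 (iv7 F507812)))
theorem Q105754 : ∀ i, i < 105754 → P i := stepQ 105753 Q105753 (allL N105753 (tt N116231 (iv1 F499145)) (tt N103615 F451556) (tt N70576 F451538) (tt N105747 F451539) (tt N88721 F451540) (tt N116255 F507739) (tt N70575 (iv6 D208953)) (tt N121194 D224453))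
theorem Q105755 : ∀ i, i < 105755 → P i := stepQ 105754 Q105754 (allL N105754 (tt N121194 (iv1 F525065)) (tt N70576 (iv0 D208954)) (tt N116231 (iv2 F499140)) (tt N100818 F451541) (tt N120806 (iv4 F522826)) (tt N116230 F499139) (tt N103560 F451542) (tt N103615 (iv7 F451543)))
theorem Q105756 : ∀ i, i < 105756 → P i := stepQ 105755 Q105755 (allL N105755 (tt N70576 (iv1 D208955)) (tt N121194 F525064) (tt N103615 F451546) (tt N102483 (iv3 F451544)) (tt N104306 (iv4 F451545)) (tt N113796 (iv5 F487152)) (tt N117960 (iv6 F507796)) (tt N116231 (iv7 F499142)))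
theorem Q105757 : ∀ i, i < 105757 → P i := stepQ 105756 Q105756 (allL N105756 (tt N116256 (iv1 F499244)) (tt N113819 (iv0 F487275)) (tt N116255 F507738) (tt N70577 F451547) (tt N103384 (iv4 F451549)) (tt N70576 (iv5 D208956)) (tt N102497 F451548) (tt N103920 (iv7 F451550)))
theorem Q105758 : ∀ i, i < 105758 → P i := stepQ 105757 Q105757 (allL N105757 (tt N103615 F451555) (tt N116231 (iv0 F499144)) (tt N121194 (iv2 F525059)) (tt N70578 F451551) (tt N88722 F451552) (tt N103920 F451553) (tt N103667 F451554) (tt N70576 (iv7 D208957)))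
theorem Q105759 : ∀ i, i < 105759 → P i := stepQ 105758 Q105758 (allL N105758 (tt N83629 F451561) (tt N113585 (iv0 F486160)) (tt N84916 F451557) (tt N103782 F451558) (tt N83734 F451560) (tt N70583 (iv5 D208958)) (tt N97861 (iv6 F451562)) (tt N84914 F451559))
theorem Q105760 : ∀ i, i < 105760 → P i := stepQ 105759 Q105759 (allL N105759 (tt N115832 (iv1 F497136)) (tt N115831 (iv0 F497132)) (tt N111246 (iv2 F475411)) (tt N70585 F451565) (tt N103468 F451566) (tt N78909 F451567) (tt N70584 (iv6 D208959)) (tt N103472 F451568))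
theorem Q105761 : ∀ i, i < 105761 → P i := stepQ 105760 Q105760 (allL N105760 (tt N70585 (iv1 D208960)) (tt N104745 F451569) (tt N102564 F451572) (tt N88761 (iv3 F451573)) (tt N118122 (iv4 F508726)) (tt N88760 F451574) (tt N104705 (iv6 F451571)) (tt N104634 F451570))
theorem Q105762 : ∀ i, i < 105762 → P i := stepQ 105761 Q105761 (allL N105761 (tt N104746 F451577) (tt N113788 (iv0 F487117)) (tt N116240 (iv2 F499186)) (tt N78909 F451575) (tt N120807 (iv4 F522832)) (tt N70585 (iv5 D208961)) (tt N78907 F451576) (tt N116239 F499182))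
theorem Q105763 : ∀ i, i < 105763 → P i := stepQ 105762 Q105762 (allL N105762 (tt N102564 (iv1 F451581)) (tt N104634 F451582) (tt N104745 F451578) (tt N103472 F451579) (tt N113822 (iv4 F487292)) (tt N116239 (iv5 F499179)) (tt N103484 F451580) (tt N70585 (iv7 D208962)))
theorem Q105764 : ∀ i, i < 105764 → P i := stepQ 105763 Q105763 (allL N105763 (tt N103304 F451587) (tt N79888 F451588) (tt N92719 F451583) (tt N74664 F451584) (tt N70589 (iv4 D208963)) (tt N82355 F451586) (tt N92713 F451585) (tt N105880 (iv7 F452156)))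
theorem Q105765 : ∀ i, i < 105765 → P i := stepQ 105764 Q105764 (allL N105764 (tt N88815 F451591) (tt N88896 (iv0 F451592)) (tt N70595 F451589) (tt N102427 F451590) (tt N88873 F451593) (tt N86433 F451594) (tt N70592 (iv6 D208964)) (tt N86537 (iv7 F451595)))
theorem Q105766 : ∀ i, i < 105766 → P i := stepQ 105765 Q105765 (allL N105765 (tt N70599 (iv1 F451598)) (tt N70593 (iv0 D208965)) (tt N70596 (iv2 F451599)) (tt N115481 (iv3 F495408)) (tt N97054 F451597) (tt N115313 (iv5 F494531)) (tt N102881 (iv6 F451600)) (tt N70597 (iv7 F451601)))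
theorem Q105767 : ∀ i, i < 105767 → P i := stepQ 105766 Q105766 (allL N105766 (tt N70593 (iv1 D208966)) (tt N70599 F451603) (tt N70597 F451608) (tt N91081 (iv3 F451606)) (tt N99805 (iv4 F451605)) (tt N111331 (iv5 F475858)) (tt N100156 (iv6 F451607)) (tt N70596 F451604))
theorem Q105768 : ∀ i, i < 105768 → P i := stepQ 105767 Q105767 (allL N105767 (tt N79093 F451612) (tt N76428 (iv0 F451614)) (tt N70598 F451609) (tt N104820 F451610) (tt N76423 F451613) (tt N70593 (iv5 D208967)) (tt N86433 F451611) (tt N109057 (iv7 F465142)))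
theorem Q105769 : ∀ i, i < 105769 → P i := stepQ 105768 Q105768 (allL N105768 (tt N71499 F451619) (tt N105838 (iv0 F451964)) (tt N88873 F451615) (tt N95901 F451616) (tt N70595 F451617) (tt N85415 F451618) (tt N70594 (iv6 D208968)) (tt N88878 (iv7 F451620)))
theorem Q105770 : ∀ i, i < 105770 → P i := stepQ 105769 Q105769 (allL N105769 (tt N86537 F451626) (tt N70595 (iv0 D208969)) (tt N88815 (iv2 F451623)) (tt N70760 (iv3 F451624)) (tt N85423 F451622) (tt N76455 F451621) (tt N109033 (iv6 F465017)) (tt N88896 (iv7 F451625)))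
theorem Q105771 : ∀ i, i < 105771 → P i := stepQ 105770 Q105770 (allL N105770 (tt N70595 (iv1 D208970)) (tt N86537 F451627) (tt N88896 F451631) (tt N119333 (iv3 F515071)) (tt N88842 F451629) (tt N85408 F451632) (tt N84936 (iv6 F451630)) (tt N88815 F451628))
theorem Q105772 : ∀ i, i < 105772 → P i := stepQ 105771 Q105771 (allL N105771 (tt N86535 (iv1 F451639)) (tt N83723 F451638) (tt N86433 F451633) (tt N70602 F451634) (tt N85412 F451636) (tt N70595 (iv5 D208971)) (tt N70598 F451635) (tt N86530 F451637))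
theorem Q105773 : ∀ i, i < 105773 → P i := stepQ 105772 Q105772 (allL N105772 (tt N88896 (iv1 F451645)) (tt N88815 F451646) (tt N86537 F451640) (tt N70603 F451641) (tt N88878 F451642) (tt N86530 F451643) (tt N97811 F451644) (tt N70595 (iv7 D208972)))
theorem Q105774 : ∀ i, i < 105774 → P i := stepQ 105773 Q105773 (allL N105773 (tt N109385 F466699) (tt N113675 F486585) (tt N115313 F494533) (tt N113780 (iv3 F487071)) (tt N70762 F451647) (tt N70596 (iv5 D208973)) (tt N115479 (iv6 F495395)) (tt N111331 F475861))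
theorem Q105775 : ∀ i, i < 105775 → P i := stepQ 105774 Q105774 (allL N105774 (tt N97882 F451650) (tt N109060 (iv0 F465154)) (tt N92816 F451648) (tt N70597 (iv3 D208974)) (tt N108779 (iv4 F463889)) (tt N93168 (iv5 F451651)) (tt N92805 F451649) (tt N115481 (iv7 F495411)))
theorem Q105776 : ∀ i, i < 105776 → P i := stepQ 105775 Q105775 (allL N105775 (tt N113675 F486584) (tt N109385 (iv0 F466698)) (tt N111331 (iv2 F475855)) (tt N93168 F451652) (tt N113639 (iv4 F486438)) (tt N70597 (iv5 D208975)) (tt N93167 F451653) (tt N115313 (iv7 F494535)))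
theorem Q105777 : ∀ i, i < 105777 → P i := stepQ 105776 Q105776 (allL N105776 (tt N70598 (iv1 D208976)) (tt N109057 (iv0 F465143)) (tt N76428 F451658) (tt N117994 (iv3 F507970)) (tt N86914 (iv4 F451656)) (tt N91038 F451655) (tt N76321 (iv6 F451657)) (tt N79093 F451654))
theorem Q105778 : ∀ i, i < 105778 → P i := stepQ 105777 Q105777 (allL N105777 (tt N76428 (iv1 F451662)) (tt N79093 F451663) (tt N109057 (iv2 F465139)) (tt N70609 F451659) (tt N76424 F451660) (tt N70599 F451661) (tt N109378 (iv6 F466662)) (tt N70598 (iv7 D208977)))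
theorem Q105779 : ∀ i, i < 105779 → P i := stepQ 105778 Q105778 (allL N105778 (tt N104831 (iv1 F451667)) (tt N70602 (iv0 D208978)) (tt N104829 (iv2 F451668)) (tt N92856 (iv3 F451669)) (tt N88330 F451665) (tt N92852 F451664) (tt N92853 F451666) (tt N104830 (iv7 F451670)))
theorem Q105780 : ∀ i, i < 105780 → P i := stepQ 105779 Q105779 (allL N105779 (tt N70602 (iv1 D208979)) (tt N104831 F451671) (tt N104830 (iv2 F451675)) (tt N103902 F451676) (tt N88329 F451674) (tt N97870 F451673) (tt N111080 (iv6 F474569)) (tt N104829 F451672))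
theorem Q105781 : ∀ i, i < 105781 → P i := stepQ 105780 Q105780 (allL N105780 (tt N104005 (iv1 F451683)) (tt N97893 F451682) (tt N70604 (iv2 D208980)) (tt N103898 F451677) (tt N104548 F451678) (tt N97283 F451679) (tt N78911 F451680) (tt N104832 F451681))
theorem Q105782 : ∀ i, i < 105782 → P i := stepQ 105781 Q105781 (allL N105781 (tt N70605 (iv1 D208981)) (tt N103898 F451688) (tt N103900 F451687) (tt N108373 (iv3 F462306)) (tt N108376 (iv4 F462321)) (tt N87656 F451685) (tt N104953 (iv6 F451686)) (tt N103894 F451684))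
theorem Q105783 : ∀ i, i < 105783 → P i := stepQ 105782 Q105782 (allL N105782 (tt N103894 (iv1 F451695)) (tt N103900 F451694) (tt N70605 (iv2 D208982)) (tt N104832 F451689) (tt N105488 F451690) (tt N81660 F451691) (tt N84959 F451692) (tt N103898 F451693))
theorem Q105784 : ∀ i, i < 105784 → P i := stepQ 105783 Q105783 (allL N105783 (tt N103899 F451700) (tt N87656 F451701) (tt N104003 F451696) (tt N70607 (iv3 D208983)) (tt N88079 (iv4 F451699)) (tt N85978 F451697) (tt N117413 F504916) (tt N88816 F451698))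
theorem Q105785 : ∀ i, i < 105785 → P i := stepQ 105784 Q105784 (allL N105784 (tt N115740 F496608) (tt N115772 F496792) (tt N104834 F451702) (tt N88082 F451703) (tt N70607 (iv4 D208984)) (tt N118841 (iv5 F512363)) (tt N97197 F451704) (tt N100525 F451705))
theorem Q105786 : ∀ i, i < 105786 → P i := stepQ 105785 Q105785 (allL N105785 (tt N113618 F486330) (tt N113622 F486343) (tt N104838 F451706) (tt N109378 (iv3 F466661)) (tt N115699 (iv4 F496385)) (tt N76721 F451707) (tt N70609 (iv6 D208985)) (tt N113621 (iv7 F486340)))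
theorem Q105787 : ∀ i, i < 105787 → P i := stepQ 105786 Q105786 (allL N105786 (tt N104841 (iv1 F451710)) (tt N70611 (iv0 D208986)) (tt N104840 (iv2 F451709)) (tt N114076 (iv3 F488473)) (tt N97635 F451708) (tt N115365 (iv5 F494821)) (tt N97634 (iv6 F451712)) (tt N70814 F451711))
theorem Q105788 : ∀ i, i < 105788 → P i := stepQ 105787 Q105787 (allL N105787 (tt N74876 F451717) (tt N109415 F466854) (tt N100022 F451713) (tt N70617 F451714) (tt N90632 F451715) (tt N99798 F451716) (tt N70615 (iv6 D208987)) (tt N109037 (iv7 F465036)))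
theorem Q105789 : ∀ i, i < 105789 → P i := stepQ 105788 Q105788 (allL N105788 (tt N114340 (iv1 F489702)) (tt N74884 (iv0 F451722)) (tt N70624 F451718) (tt N104160 F451719) (tt N71763 F451720) (tt N109375 (iv5 F466644)) (tt N70620 (iv6 D208988)) (tt N73882 (iv7 F451721)))
theorem Q105790 : ∀ i, i < 105790 → P i := stepQ 105789 Q105789 (allL N105789 (tt N70628 (iv1 F451726)) (tt N70621 (iv0 D208989)) (tt N70625 (iv2 F451725)) (tt N117713 F506577) (tt N85015 F451723) (tt N117066 (iv5 F503206)) (tt N91038 F451724) (tt N70626 F451727))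
theorem Q105791 : ∀ i, i < 105791 → P i := stepQ 105790 Q105790 (allL N105790 (tt N109088 (iv1 F465275)) (tt N85027 F451732) (tt N70627 F451728) (tt N104760 F451729) (tt N91050 F451731) (tt N70621 (iv5 D208990)) (tt N109375 F466648) (tt N91036 F451730))
theorem Q105792 : ∀ i, i < 105792 → P i := stepQ 105791 Q105791 (allL N105791 (tt N70624 (iv1 D208991)) (tt N73882 F451733) (tt N74884 F451736) (tt N74915 (iv3 F451735)) (tt N71911 F451734) (tt N114341 (iv5 F489706)) (tt N100788 F451737) (tt N114340 (iv7 F489700)))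
theorem Q105793 : ∀ i, i < 105793 → P i := stepQ 105792 Q105792 (allL N105792 (tt N99995 F451740) (tt N109377 F466660) (tt N109375 F466647) (tt N70631 F451738) (tt N91071 (iv4 F451741)) (tt N70624 (iv5 D208992)) (tt N70627 F451739) (tt N109376 (iv7 F466650)))
theorem Q105794 : ∀ i, i < 105794 → P i := stepQ 105793 Q105793 (allL N105793 (tt N74884 (iv1 F451745)) (tt N114340 (iv0 F489701)) (tt N73882 F451742) (tt N70632 F451743) (tt N71766 F451744) (tt N109376 (iv5 F466652)) (tt N105900 (iv6 F452258)) (tt N70624 (iv7 D208993)))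
theorem Q105795 : ∀ i, i < 105795 → P i := stepQ 105794 Q105794 (allL N105794 (tt N115225 (iv1 F494109)) (tt N70735 (iv0 F451748)) (tt N105235 (iv2 F451749)) (tt N70625 (iv3 D208994)) (tt N83972 F451746) (tt N109078 F465247) (tt N83971 F451750) (tt N74404 F451747))
theorem Q105796 : ∀ i, i < 105796 → P i := stepQ 105795 Q105795 (allL N105795 (tt N114426 (iv1 F490095)) (tt N114427 (iv0 F490100)) (tt N117066 (iv2 F503204)) (tt N109078 (iv3 F465248)) (tt N76493 F451751) (tt N70625 (iv5 D208995)) (tt N76427 (iv6 F451752)) (tt N111324 (iv7 F475828)))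
theorem Q105797 : ∀ i, i < 105797 → P i := stepQ 105796 Q105796 (allL N105796 (tt N91039 (iv1 F451758)) (tt N91030 F451759) (tt N91038 F451753) (tt N83971 F451754) (tt N91781 F451755) (tt N76428 F451756) (tt N70625 (iv6 D208996)) (tt N74857 F451757))
theorem Q105798 : ∀ i, i < 105798 → P i := stepQ 105797 Q105797 (allL N105797 (tt N91036 (iv1 F451763)) (tt N70627 (iv0 D208997)) (tt N109088 (iv2 F465269)) (tt N109677 (iv3 F468056)) (tt N89640 F451761) (tt N85028 F451760) (tt N109051 (iv6 F465111)) (tt N85027 (iv7 F451762)))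
theorem Q105799 : ∀ i, i < 105799 → P i := stepQ 105798 Q105798 (allL N105798 (tt N85027 (iv1 F451768)) (tt N109088 F465274) (tt N91036 F451764) (tt N70639 F451765) (tt N89274 F451766) (tt N70628 F451767) (tt N104201 (iv6 F451771)) (tt N70627 (iv7 D208998)))
theorem Q105800 : ∀ i, i < 105800 → P i := stepQ 105799 Q105799 (allL N105799 (tt N75098 F451774) (tt N109861 (iv0 F468968)) (tt N105671 F451772) (tt N102944 F451773) (tt N111261 (iv4 F475502)) (tt N104169 F451775) (tt N70629 (iv6 D208999)) (tt N114412 (iv7 F490025)))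
theorem Q105801 : ∀ i, i < 105801 → P i := stepQ 105800 Q105800 (allL N105800 (tt N101361 (iv1 F451780)) (tt N70631 (iv0 D209000)) (tt N89873 (iv2 F451781)) (tt N92792 (iv3 F451782)) (tt N120959 (iv4 F523709)) (tt N92791 F451778) (tt N84991 F451779) (tt N105673 F451783))
theorem Q105802 : ∀ i, i < 105802 → P i := stepQ 105801 Q105801 (allL N105801 (tt N70631 (iv1 D209001)) (tt N101361 F451784) (tt N105673 F451789) (tt N89880 (iv3 F451786)) (tt N107829 (iv4 F459894)) (tt N97799 (iv5 F451788)) (tt N89872 F451790) (tt N89873 F451785))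
theorem Q105803 : ∀ i, i < 105803 → P i := stepQ 105802 Q105802 (allL N105802 (tt N70635 (iv1 D209002)) (tt N90405 F451791) (tt N104165 (iv2 F451794)) (tt N115225 (iv3 F494105)) (tt N77210 F451793) (tt N118338 (iv5 F509783)) (tt N86723 (iv6 F451795)) (tt N104163 F451792))
theorem Q105804 : ∀ i, i < 105804 → P i := stepQ 105803 Q105803 (allL N105803 (tt N104164 (iv1 F451798)) (tt N118338 (iv0 F509786)) (tt N114373 (iv2 F489856)) (tt N70637 (iv3 D209003)) (tt N107834 F459913) (tt N85981 F451796) (tt N85277 (iv6 F451799)) (tt N101204 F451797))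
theorem Q105805 : ∀ i, i < 105805 → P i := stepQ 105804 Q105804 (allL N105804 (tt N70783 F451802) (tt N89752 F451803) (tt N105678 F451800) (tt N107835 (iv3 F459915)) (tt N70637 (iv4 D209004)) (tt N110167 (iv5 F470259)) (tt N113261 (iv6 F484755)) (tt N104071 F451801))
theorem Q105806 : ∀ i, i < 105806 → P i := stepQ 105805 Q105805 (allL N105805 (tt N98694 F451808) (tt N85349 (iv0 F451809)) (tt N100333 F451804) (tt N85277 F451805) (tt N113261 (iv4 F484759)) (tt N104174 F451806) (tt N70637 (iv6 D209005)) (tt N100332 F451807))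
theorem Q105807 : ∀ i, i < 105807 → P i := stepQ 105806 Q105806 (allL N105806 (tt N70638 (iv1 D209006)) (tt N100311 F451810) (tt N104202 (iv2 F451813)) (tt N121195 D224454) (tt N70658 F451812) (tt N71148 (iv5 F451814)) (tt N116314 (iv6 F499513)) (tt N104060 F451811))
theorem Q105808 : ∀ i, i < 105808 → P i := stepQ 105807 Q105807 (allL N105807 (tt N101377 (iv1 F451820)) (tt N101376 F451822) (tt N101379 F451817) (tt N70638 (iv3 D209007)) (tt N91068 F451818) (tt N121196 D224455) (tt N106236 (iv6 F489739)) (tt N101371 F451819))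
theorem Q105809 : ∀ i, i < 105809 → P i := stepQ 105808 Q105808 (allL N105808 (tt N107105 (iv1 F457000)) (tt N88837 (iv0 F451826)) (tt N105679 F451823) (tt N121196 (iv3 F525074)) (tt N71150 F451825) (tt N70638 (iv5 D209008)) (tt N121197 D224456) (tt N71417 F451824))
theorem Q105810 : ∀ i, i < 105810 → P i := stepQ 105809 Q105809 (allL N105809 (tt N89857 F451829) (tt N114757 (iv0 F491701)) (tt N105927 (iv2 F452380)) (tt N70641 F451827) (tt N113121 (iv4 F484064)) (tt N70640 (iv5 D209009)) (tt N113120 (iv6 F484061)) (tt N97953 F451828))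
theorem Q105811 : ∀ i, i < 105811 → P i := stepQ 105810 Q105810 (allL N105810 (tt N107368 (iv1 F458126)) (tt N107361 (iv0 F458097)) (tt N105680 F451830) (tt N107636 F459038) (tt N70641 (iv4 D209010)) (tt N107105 (iv5 F456996)) (tt N104974 F451836) (tt N97956 F451831))
theorem Q105812 : ∀ i, i < 105812 → P i := stepQ 105811 Q105811 (allL N105811 (tt N109640 (iv1 F467881)) (tt N109639 F467875) (tt N105681 F451832) (tt N113120 (iv3 F484057)) (tt N104974 (iv4 F451835)) (tt N98284 F451833) (tt N70641 (iv6 D209011)) (tt N98257 F451834))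
theorem Q105813 : ∀ i, i < 105813 → P i := stepQ 105812 Q105812 (allL N105812 (tt N71145 F451840) (tt N70903 F451841) (tt N71455 F451837) (tt N88828 F451838) (tt N88837 (iv4 F451842)) (tt N70642 (iv5 D209012)) (tt N115990 (iv6 F497932)) (tt N71456 F451839))
theorem Q105814 : ∀ i, i < 105814 → P i := stepQ 105813 Q105813 (allL N105813 (tt N107361 F458098) (tt N107368 F458125) (tt N97956 F451843) (tt N88838 (iv3 F451847)) (tt N70644 (iv4 D209013)) (tt N88837 F451846) (tt N76630 F451844) (tt N105680 F451845))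
theorem Q105815 : ∀ i, i < 105815 → P i := stepQ 105814 Q105814 (allL N105814 (tt N120308 F520142) (tt N70646 (iv0 D209014)) (tt N120525 (iv2 F521251)) (tt N121198 D224457) (tt N119765 F517306) (tt N120293 (iv5 F520073)) (tt N71101 F451848) (tt N89374 (iv7 F451849)))
theorem Q105816 : ∀ i, i < 105816 → P i := stepQ 105815 Q105815 (allL N105815 (tt N120525 (iv1 F521256)) (tt N89374 (iv0 F451852)) (tt N70646 (iv2 D209015)) (tt N71401 F451850) (tt N110709 (iv4 F472850)) (tt N120245 (iv5 F519786)) (tt N70892 F451851) (tt N120308 (iv7 F520140)))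
theorem Q105817 : ∀ i, i < 105817 → P i := stepQ 105816 Q105816 (allL N105816 (tt N89374 (iv1 F451855)) (tt N120525 F521255) (tt N120308 (iv2 F520137)) (tt N70648 F451853) (tt N110608 (iv4 F472373)) (tt N120246 F519796) (tt N71389 F451854) (tt N70646 (iv7 D209016)))
theorem Q105818 : ∀ i, i < 105818 → P i := stepQ 105817 Q105817 (allL N105817 (tt N71150 (iv1 F451862)) (tt N70647 (iv0 D209017)) (tt N71415 (iv2 F451857)) (tt N112755 (iv3 F482503)) (tt N82734 F451858) (tt N104713 F451856) (tt N82733 F451859) (tt N71416 F451860))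
theorem Q105819 : ∀ i, i < 105819 → P i := stepQ 105818 Q105818 (allL N105818 (tt N88837 F451868) (tt N107105 (iv0 F456999)) (tt N71417 F451865) (tt N80507 (iv3 F451870)) (tt N70647 (iv4 D209018)) (tt N100311 F451866) (tt N80505 F451867) (tt N105679 F451869))
theorem Q105820 : ∀ i, i < 105820 → P i := stepQ 105819 Q105819 (allL N105819 (tt N71416 (iv1 F451874)) (tt N71415 F451875) (tt N71150 F451871) (tt N120246 F519794) (tt N105679 F451872) (tt N70648 F451873) (tt N113502 (iv6 F485802)) (tt N70647 (iv7 D209019)))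
theorem Q105821 : ∀ i, i < 105821 → P i := stepQ 105820 Q105820 (allL N105820 (tt N75703 (iv1 F451880)) (tt N98263 F451881) (tt N99804 F451876) (tt N70657 F451877) (tt N102793 F451878) (tt N111006 (iv5 F474206)) (tt N104020 F451879) (tt N70653 (iv7 D209020)))
theorem Q105822 : ∀ i, i < 105822 → P i := stepQ 105821 Q105821 (allL N105821 (tt N92164 (iv1 F451886)) (tt N70654 (iv0 D209021)) (tt N97988 (iv2 F451885)) (tt N98491 F451882) (tt N110848 (iv4 F473430)) (tt N97916 F451883) (tt N98487 F451884) (tt N97989 F451887))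
theorem Q105823 : ∀ i, i < 105823 → P i := stepQ 105822 Q105822 (allL N105822 (tt N110943 F475236) (tt N118721 (iv0 F511746)) (tt N97990 F451888) (tt N116767 (iv3 F501718)) (tt N70654 (iv4 D209022)) (tt N121199 D224458) (tt N118211 (iv6 F509176)) (tt N97992 F451889))
theorem Q105824 : ∀ i, i < 105824 → P i := stepQ 105823 Q105823 (allL N105823 (tt N97529 F451892) (tt N97535 F451893) (tt N70744 F451890) (tt N70655 (iv3 D209023)) (tt N118315 (iv4 F509659)) (tt N109641 (iv5 F467886)) (tt N114964 (iv6 F492797)) (tt N104063 F451891))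
theorem Q105825 : ∀ i, i < 105825 → P i := stepQ 105824 Q105824 (allL N105824 (tt N104054 F451897) (tt N104053 (iv0 F451898)) (tt N104056 F451894) (tt N114964 F492795) (tt N104744 F451895) (tt N105852 F452034) (tt N70655 (iv6 D209024)) (tt N104052 F451896))
theorem Q105826 : ∀ i, i < 105826 → P i := stepQ 105825 Q105825 (allL N105825 (tt N105918 (iv1 F452347)) (tt N70656 (iv0 D209025)) (tt N105915 F452328) (tt N85858 (iv3 F451902)) (tt N101363 F451899) (tt N75041 F451901) (tt N85857 F451900) (tt N105916 (iv7 F452333)))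
theorem Q105827 : ∀ i, i < 105827 → P i := stepQ 105826 Q105826 (allL N105826 (tt N70656 (iv1 D209026)) (tt N105918 F452346) (tt N105916 (iv2 F452335)) (tt N104312 F451904) (tt N101362 (iv4 F451905)) (tt N75040 (iv5 F451903)) (tt N107257 (iv6 F457673)) (tt N105915 F452329))
theorem Q105828 : ∀ i, i < 105828 → P i := stepQ 105827 Q105827 (allL N105827 (tt N116778 F501786) (tt N105965 F452548) (tt N105917 (iv2 F452337)) (tt N115140 (iv3 F493680)) (tt N70656 (iv4 D209027)) (tt N115138 (iv5 F493672)) (tt N70659 F451906) (tt N104229 (iv7 F451907)))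
theorem Q105829 : ∀ i, i < 105829 → P i := stepQ 105828 Q105828 (allL N105828 (tt N105916 (iv1 F452332)) (tt N105915 (iv0 F452331)) (tt N105918 (iv2 F452341)) (tt N111006 (iv3 F474204)) (tt N104229 F451908) (tt N70657 F451909) (tt N98367 F451910) (tt N70656 (iv7 D209028)))
theorem Q105830 : ∀ i, i < 105830 → P i := stepQ 105829 Q105829 (allL N105829 (tt N70686 F451913) (tt N105854 F452047) (tt N105852 (iv2 F452035)) (tt N70658 (iv3 D209029)) (tt N116780 (iv4 F501795)) (tt N104056 F451911) (tt N115739 (iv6 F496600)) (tt N104055 F451912))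
theorem Q105831 : ∀ i, i < 105831 → P i := stepQ 105830 Q105830 (allL N105830 (tt N106507 (iv1 F454703)) (tt N88546 (iv0 F451917)) (tt N105920 (iv2 F452352)) (tt N84435 F451914) (tt N71145 F451916) (tt N70659 (iv5 D209030)) (tt N115137 F493669) (tt N71457 F451915))
theorem Q105832 : ∀ i, i < 105832 → P i := stepQ 105831 Q105831 (allL N105831 (tt N78689 F451921) (tt N77562 F451922) (tt N73721 F451918) (tt N105065 F451919) (tt N73720 F451923) (tt N70664 (iv5 D209031)) (tt N79112 F451924) (tt N73383 F451920))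
theorem Q105833 : ∀ i, i < 105833 → P i := stepQ 105832 Q105832 (allL N105832 (tt N106590 (iv1 F454974)) (tt N106536 (iv0 F454799)) (tt N92156 F451925) (tt N105068 F451926) (tt N70666 F451927) (tt N121200 D224459) (tt N70664 (iv6 D209032)) (tt N92155 F451928))
theorem Q105834 : ∀ i, i < 105834 → P i := stepQ 105833 Q105833 (allL N105833 (tt N98551 (iv1 F451935)) (tt N98539 (iv0 F451934)) (tt N70671 F451929) (tt N97921 F451930) (tt N99806 F451931) (tt N78288 F451933) (tt N70667 (iv6 D209033)) (tt N98550 F451932))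
theorem Q105835 : ∀ i, i < 105835 → P i := stepQ 105834 Q105834 (allL N105834 (tt N70675 (iv1 F451942)) (tt N70668 (iv0 D209034)) (tt N70672 (iv2 F451938)) (tt N94022 F451939) (tt N105219 F451937) (tt N86777 F451936) (tt N92158 F451940) (tt N70673 F451941))
theorem Q105836 : ∀ i, i < 105836 → P i := stepQ 105835 Q105835 (allL N105835 (tt N109737 (iv1 F468360)) (tt N114959 (iv0 F492767)) (tt N70674 F451943) (tt N98591 F451944) (tt N83721 F451946) (tt N70668 (iv5 D209035)) (tt N78288 F451945) (tt N88807 (iv7 F451947)))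
theorem Q105837 : ∀ i, i < 105837 → P i := stepQ 105836 Q105836 (allL N105836 (tt N70673 (iv1 F451953)) (tt N70672 F451954) (tt N70675 F451948) (tt N92165 F451949) (tt N88895 F451950) (tt N88807 F451951) (tt N92143 F451952) (tt N70668 (iv7 D209036)))
theorem Q105838 : ∀ i, i < 105838 → P i := stepQ 105837 Q105837 (allL N105837 (tt N98550 (iv1 F451958)) (tt N70671 (iv0 D209037)) (tt N98551 (iv2 F451957)) (tt N84465 (iv3 F451961)) (tt N98723 F451955) (tt N84464 F451956) (tt N74908 (iv6 F451960)) (tt N98539 F451959))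
theorem Q105839 : ∀ i, i < 105839 → P i := stepQ 105838 Q105838 (allL N105838 (tt N105768 F451964) (tt N106588 F454968) (tt N105341 F451962) (tt N105214 F451965) (tt N70673 (iv4 D209038)) (tt N114666 (iv5 F491277)) (tt N113574 (iv6 F486088)) (tt N105219 F451963))
theorem Q105840 : ∀ i, i < 105840 → P i := stepQ 105839 Q105839 (allL N105839 (tt N114959 (iv1 F492768)) (tt N109737 (iv0 F468359)) (tt N88807 F451966) (tt N70682 F451967) (tt N83722 F451968) (tt N70675 F451969) (tt N104227 F451970) (tt N70674 (iv7 D209039)))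
theorem Q105841 : ∀ i, i < 105841 → P i := stepQ 105840 Q105840 (allL N105840 (tt N109014 (iv1 F464932)) (tt N74486 F451975) (tt N104922 F451971) (tt N87553 F451972) (tt N108808 (iv4 F464048)) (tt N70676 (iv5 D209040)) (tt N100660 F451973) (tt N87550 F451974))
theorem Q105842 : ∀ i, i < 105842 → P i := stepQ 105841 Q105841 (allL N105841 (tt N76475 F451981) (tt N76474 (iv0 F451982)) (tt N76476 F451976) (tt N70681 (iv3 D209041)) (tt N83948 F451977) (tt N87647 F451978) (tt N76458 F451979) (tt N76329 F451980))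
theorem Q105843 : ∀ i, i < 105843 → P i := stepQ 105842 Q105842 (allL N105842 (tt N98450 F451988) (tt N98449 F451987) (tt N98451 F451983) (tt N105927 (iv3 F452381)) (tt N89793 F451984) (tt N70685 (iv5 D209042)) (tt N98446 F451985) (tt N97974 F451986))
theorem Q105844 : ∀ i, i < 105844 → P i := stepQ 105843 Q105843 (allL N105843 (tt N105852 (iv1 F452032)) (tt N104055 (iv0 F451991)) (tt N105854 (iv2 F452044)) (tt N98510 F451989) (tt N106175 (iv4 F453459)) (tt N70687 F451990) (tt N106174 (iv6 F453455)) (tt N70686 (iv7 D209043)))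
theorem Q105845 : ∀ i, i < 105845 → P i := stepQ 105844 Q105844 (allL N105844 (tt N98039 F451996) (tt N91781 (iv0 F451997)) (tt N70691 F451992) (tt N97917 F451993) (tt N98744 F451994) (tt N118051 (iv5 F508303)) (tt N70689 (iv6 D209044)) (tt N97983 F451995))
theorem Q105846 : ∀ i, i < 105846 → P i := stepQ 105845 Q105845 (allL N105845 (tt N97983 (iv1 F452004)) (tt N70691 (iv0 D209045)) (tt N98039 (iv2 F452002)) (tt N91783 F452000) (tt N74857 F451999) (tt N94009 F451998) (tt N74856 F452001) (tt N91781 F452003))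
theorem Q105847 : ∀ i, i < 105847 → P i := stepQ 105846 Q105846 (allL N105846 (tt N109731 F468330) (tt N104996 F452007) (tt N118051 (iv2 F508300)) (tt N70693 F452005) (tt N84464 F452006) (tt N70691 (iv5 D209046)) (tt N109742 F468392) (tt N121201 D224460))
theorem Q105848 : ∀ i, i < 105848 → P i := stepQ 105847 Q105847 (allL N105847 (tt N91781 (iv1 F452011)) (tt N98039 F452012) (tt N97983 F452008) (tt N70694 F452009) (tt N109052 (iv4 F465115)) (tt N121201 (iv5 F525109)) (tt N97980 F452010) (tt N70691 (iv7 D209047)))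
theorem Q105849 : ∀ i, i < 105849 → P i := stepQ 105848 Q105848 (allL N105848 (tt N87133 (iv1 F452016)) (tt N74167 F452017) (tt N87514 F452013) (tt N121201 (iv3 F525107)) (tt N88343 F452014) (tt N70694 F452015) (tt N115695 (iv6 F496361)) (tt N70693 (iv7 D209048)))
theorem Q105850 : ∀ i, i < 105850 → P i := stepQ 105849 Q105849 (allL N105849 (tt N95895 (iv1 F452020)) (tt N95896 F452021) (tt N111252 (iv2 F475443)) (tt N70699 F452018) (tt N106131 (iv4 F453276)) (tt N115375 (iv5 F494879)) (tt N75710 F452019) (tt N70695 (iv7 D209049)))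
theorem Q105851 : ∀ i, i < 105851 → P i := stepQ 105850 Q105850 (allL N105850 (tt N70817 F452025) (tt N70809 (iv0 F452026)) (tt N70773 F452022) (tt N70696 (iv3 D209050)) (tt N103927 F452023) (tt N115356 (iv5 F494766)) (tt N119508 (iv6 F515973)) (tt N70815 F452024))
theorem Q105852 : ∀ i, i < 105852 → P i := stepQ 105851 Q105851 (allL N105851 (tt N76420 F452030) (tt N87540 F452031) (tt N87144 F452027) (tt N115356 (iv3 F494764)) (tt N87143 F452028) (tt N70696 (iv5 D209051)) (tt N115723 (iv6 F496521)) (tt N87538 F452029))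
theorem Q105853 : ∀ i, i < 105853 → P i := stepQ 105852 Q105852 (allL N105852 (tt N70703 (iv1 D209052)) (tt N105843 F452032) (tt N105829 F452035) (tt N87641 (iv3 F452037)) (tt N120955 (iv4 F523682)) (tt N105824 (iv5 F452034)) (tt N87640 F452036) (tt N98421 F452033))
theorem Q105854 : ∀ i, i < 105854 → P i := stepQ 105853 Q105853 (allL N105853 (tt N120910 (iv1 F523417)) (tt N101320 (iv0 F452043)) (tt N101032 F452038) (tt N73350 (iv3 F452041)) (tt N70703 (iv4 D209053)) (tt N101022 F452040) (tt N73349 F452039) (tt N101030 (iv7 F452042)))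
theorem Q105855 : ∀ i, i < 105855 → P i := stepQ 105854 Q105854 (allL N105854 (tt N105829 (iv1 F452047)) (tt N98421 F452048) (tt N105843 F452044) (tt N114937 (iv3 F492637)) (tt N101030 F452045) (tt N70704 F452046) (tt N98437 (iv6 F452049)) (tt N70703 (iv7 D209054)))
theorem Q105856 : ∀ i, i < 105856 → P i := stepQ 105855 Q105855 (allL N105855 (tt N120835 F522992) (tt N104626 (iv0 F452052)) (tt N120833 F522983) (tt N70705 (iv3 D209055)) (tt N105531 F452051) (tt N108559 F463063) (tt N97802 F452050) (tt N105937 (iv7 F452424)))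
theorem Q105857 : ∀ i, i < 105857 → P i := stepQ 105856 Q105856 (allL N105856 (tt N111853 (iv1 F478317)) (tt N117677 (iv0 F506369)) (tt N105936 (iv2 F452422)) (tt N108559 (iv3 F463064)) (tt N108570 (iv4 F463090)) (tt N70705 (iv5 D209056)) (tt N121202 D224461) (tt N105938 (iv7 F452431)))
theorem Q105858 : ∀ i, i < 105858 → P i := stepQ 105857 Q105857 (allL N105857 (tt N120627 F521835) (tt N104680 (iv0 F452053)) (tt N120905 (iv2 F523392)) (tt N70706 (iv3 D209057)) (tt N117144 (iv4 F503607)) (tt N121203 D224462) (tt N109427 (iv6 F466908)) (tt N105935 (iv7 F452420)))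
theorem Q105859 : ∀ i, i < 105859 → P i := stepQ 105858 Q105858 (allL N105858 (tt N117677 (iv1 F506370)) (tt N111853 (iv0 F478316)) (tt N105938 (iv2 F452430)) (tt N121203 (iv3 F525116)) (tt N115511 (iv4 F495564)) (tt N70706 (iv5 D209058)) (tt N115510 (iv6 F495561)) (tt N105936 (iv7 F452423)))
theorem Q105860 : ∀ i, i < 105860 → P i := stepQ 105859 Q105859 (allL N105859 (tt N104709 (iv1 F452056)) (tt N104635 F452435) (tt N105939 (iv2 F452432)) (tt N109427 F466906) (tt N97801 F452054) (tt N121008 (iv5 F523989)) (tt N70706 (iv6 D209059)) (tt N97798 F452055))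
theorem Q105861 : ∀ i, i < 105861 → P i := stepQ 105860 Q105860 (allL N105860 (tt N105942 (iv1 F452442)) (tt N70707 (iv0 D209060)) (tt N105940 F468978) (tt N121067 (iv3 F524335)) (tt N119235 (iv4 F514527)) (tt N109862 (iv5 F468974)) (tt N120908 (iv6 F523402)) (tt N105941 F468976))
theorem Q105862 : ∀ i, i < 105862 → P i := stepQ 105861 Q105861 (allL N105861 (tt N70707 (iv1 D209061)) (tt N105942 F452441) (tt N105941 (iv2 F468977)) (tt N120040 (iv3 F518706)) (tt N114842 (iv4 F492143)) (tt N114376 (iv5 F489867)) (tt N121204 D224463) (tt N105940 (iv7 F468979)))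
theorem Q105863 : ∀ i, i < 105863 → P i := stepQ 105862 Q105862 (allL N105862 (tt N120686 F522147) (tt N120692 (iv0 F522183)) (tt N116008 (iv2 F498022)) (tt N70708 (iv3 D209062)) (tt N115671 (iv4 F496240)) (tt N87388 F452058) (tt N75022 F452059) (tt N105944 (iv7 F452447)))
theorem Q105864 : ∀ i, i < 105864 → P i := stepQ 105863 Q105863 (allL N105863 (tt N117680 (iv1 F506380)) (tt N117679 F506377) (tt N91897 F452060) (tt N117042 (iv3 F503097)) (tt N87436 F452061) (tt N70709 (iv5 D209063)) (tt N87435 (iv6 F452062)) (tt N105943 (iv7 F452445)))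
theorem Q105865 : ∀ i, i < 105865 → P i := stepQ 105864 Q105864 (allL N105864 (tt N118001 F508019) (tt N119472 (iv0 F515795)) (tt N105945 (iv2 F452448)) (tt N74897 F452063) (tt N70710 F452064) (tt N97900 (iv5 F452066)) (tt N70709 (iv6 D209064)) (tt N75039 F452065))
theorem Q105866 : ∀ i, i < 105866 → P i := stepQ 105865 Q105865 (allL N105865 (tt N83663 F452071) (tt N92158 (iv0 F452073)) (tt N92157 F452067) (tt N70712 F452068) (tt N71000 F452069) (tt N109089 (iv5 F465279)) (tt N70711 (iv6 D209065)) (tt N74921 F452070))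
theorem Q105867 : ∀ i, i < 105867 → P i := stepQ 105866 Q105866 (allL N105866 (tt N76304 F452080) (tt N76302 F452081) (tt N98548 F452075) (tt N70714 (iv3 D209066)) (tt N98547 F452076) (tt N100322 F452077) (tt N85025 F452078) (tt N98547 F452079))
theorem Q105868 : ∀ i, i < 105868 → P i := stepQ 105867 Q105867 (allL N105867 (tt N91413 F452087) (tt N92537 F452088) (tt N97618 F452082) (tt N87386 F452083) (tt N70715 (iv4 D209067)) (tt N74105 F452086) (tt N92068 F452084) (tt N97171 F452085))
theorem Q105869 : ∀ i, i < 105869 → P i := stepQ 105868 Q105868 (allL N105868 (tt N88681 F452092) (tt N102375 F452093) (tt N93066 F452089) (tt N70718 F452090) (tt N93060 F452091) (tt N111682 (iv5 F477459)) (tt N70716 (iv6 D209068)) (tt N111683 (iv7 F477464)))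
theorem Q105870 : ∀ i, i < 105870 → P i := stepQ 105869 Q105869 (allL N105869 (tt N103923 (iv1 F452099)) (tt N103922 (iv0 F452097)) (tt N103925 F452094) (tt N111682 (iv3 F477456)) (tt N101527 F452098) (tt N70718 (iv5 D209069)) (tt N86933 F452095) (tt N103918 F452096))
theorem Q105871 : ∀ i, i < 105871 → P i := stepQ 105870 Q105870 (allL N105870 (tt N102928 F452108) (tt N102931 (iv0 F452109)) (tt N102930 F452111) (tt N70721 F452106) (tt N120808 (iv4 F522840)) (tt N103384 (iv5 F452110)) (tt N70719 (iv6 D209070)) (tt N102929 F452107))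
theorem Q105872 : ∀ i, i < 105872 → P i := stepQ 105871 Q105871 (allL N105871 (tt N102378 F452116) (tt N119333 (iv0 F515075)) (tt N120805 (iv2 F522817)) (tt N97884 F452113) (tt N70721 F452114) (tt N87534 F452115) (tt N70720 (iv6 D209071)) (tt N103928 (iv7 F452117)))
theorem Q105873 : ∀ i, i < 105873 → P i := stepQ 105872 Q105872 (allL N105872 (tt N112318 F480527) (tt N112869 (iv0 F483056)) (tt N118208 (iv2 F509150)) (tt N70723 (iv3 D209072)) (tt N96008 F452118) (tt N104268 F452119) (tt N80360 F452120) (tt N79710 F452121))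
theorem Q105874 : ∀ i, i < 105874 → P i := stepQ 105873 Q105873 (allL N105873 (tt N112867 F483047) (tt N115410 (iv0 F495057)) (tt N119490 (iv2 F515869)) (tt N70724 (iv3 D209073)) (tt N79863 F452122) (tt N97682 F452123) (tt N79536 F452124) (tt N79708 F452125))
theorem Q105875 : ∀ i, i < 105875 → P i := stepQ 105874 Q105874 (allL N105874 (tt N112868 F483050) (tt N120501 (iv0 F521118)) (tt N120265 (iv2 F519900)) (tt N70725 (iv3 D209074)) (tt N79627 F452127) (tt N104353 (iv5 F452128)) (tt N102024 F452126) (tt N117445 (iv7 F505069)))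
theorem Q105876 : ∀ i, i < 105876 → P i := stepQ 105875 Q105875 (allL N105875 (tt N97647 F452131) (tt N87768 F452132) (tt N115826 F497110) (tt N104353 F452129) (tt N104084 F452130) (tt N70725 (iv5 D209075)) (tt N120579 (iv6 F521561)) (tt N115825 F497103))
theorem Q105877 : ∀ i, i < 105877 → P i := stepQ 105876 Q105876 (allL N105876 (tt N104780 F452134) (tt N82401 (iv0 F452135)) (tt N105337 (iv2 F452137)) (tt N70726 (iv3 D209076)) (tt N80370 F452133) (tt N115320 (iv5 F494574)) (tt N80369 F452136) (tt N111907 (iv7 F478580)))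
theorem Q105878 : ∀ i, i < 105878 → P i := stepQ 105877 Q105877 (allL N105877 (tt N87768 F452138) (tt N97647 (iv0 F452140)) (tt N115825 (iv2 F497104)) (tt N115320 (iv3 F494573)) (tt N111247 (iv4 F475418)) (tt N70726 (iv5 D209077)) (tt N104352 F452139) (tt N115826 (iv7 F497107)))
theorem Q105879 : ∀ i, i < 105879 → P i := stepQ 105878 Q105878 (allL N105878 (tt N82342 F452145) (tt N91876 (iv0 F452147)) (tt N97489 F452141) (tt N80369 F452142) (tt N97600 F452143) (tt N86984 F452146) (tt N70726 (iv6 D209078)) (tt N81533 F452144))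
theorem Q105880 : ∀ i, i < 105880 → P i := stepQ 105879 Q105879 (allL N105879 (tt N97933 F452151) (tt N71779 (iv0 F452152)) (tt N97912 F452148) (tt N70728 (iv3 D209079)) (tt N115800 (iv4 F496956)) (tt N86784 F452149) (tt N109053 (iv6 F465122)) (tt N97932 F452150))
theorem Q105881 : ∀ i, i < 105881 → P i := stepQ 105880 Q105880 (allL N105880 (tt N70804 F452157) (tt N70813 F452158) (tt N102404 F452153) (tt N93978 F452154) (tt N70729 (iv4 D209080)) (tt N97671 F452155) (tt N114432 F490133) (tt N105763 F452156))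
theorem Q105882 : ∀ i, i < 105882 → P i := stepQ 105881 Q105881 (allL N105881 (tt N98546 F452164) (tt N85020 (iv0 F452165)) (tt N91029 F452159) (tt N97916 F452160) (tt N70731 F452161) (tt N98491 F452162) (tt N70730 (iv6 D209081)) (tt N89615 F452163))
theorem Q105883 : ∀ i, i < 105883 → P i := stepQ 105882 Q105882 (allL N105882 (tt N105235 (iv1 F452169)) (tt N74404 (iv0 F452168)) (tt N70735 F452166) (tt N104163 F452167) (tt N121130 (iv4 F524673)) (tt N109374 (iv5 F466643)) (tt N70732 (iv6 D209082)) (tt N115225 (iv7 F494107)))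
theorem Q105884 : ∀ i, i < 105884 → P i := stepQ 105883 Q105883 (allL N105883 (tt N105331 F452235) (tt N92142 (iv0 F452172)) (tt N121130 (iv2 F524671)) (tt N103537 F452170) (tt N70735 F452171) (tt N108422 (iv5 F462502)) (tt N70734 (iv6 D209083)) (tt N116315 (iv7 F499517)))
theorem Q105885 : ∀ i, i < 105885 → P i := stepQ 105884 Q105884 (allL N105884 (tt N109677 F468058) (tt N114338 (iv0 F489689)) (tt N109374 (iv2 F466641)) (tt N70737 F452173) (tt N74932 F452175) (tt N70735 (iv5 D209084)) (tt N70736 F452174) (tt N119475 (iv7 F515809)))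
theorem Q105886 : ∀ i, i < 105886 → P i := stepQ 105885 Q105885 (allL N105885 (tt N104171 (iv1 F452177)) (tt N70737 (iv0 D209085)) (tt N104168 (iv2 F452185)) (tt N111209 (iv3 F475230)) (tt N120910 (iv4 F523413)) (tt N114412 (iv5 F490020)) (tt N100287 F452176) (tt N104169 (iv7 F452186)))
theorem Q105887 : ∀ i, i < 105887 → P i := stepQ 105886 Q105886 (allL N105886 (tt N70737 (iv1 D209086)) (tt N104171 F452178) (tt N104169 F452181) (tt N104766 F452182) (tt N101320 F452179) (tt N105671 (iv5 F452180)) (tt N105224 (iv6 F452184)) (tt N104168 F452183))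
theorem Q105888 : ∀ i, i < 105888 → P i := stepQ 105887 Q105887 (allL N105887 (tt N98062 (iv1 F452191)) (tt N70738 (iv0 D209087)) (tt N104073 (iv2 F452190)) (tt N74914 F452188) (tt N119488 (iv4 F515861)) (tt N98255 F452187) (tt N104912 F452189) (tt N104072 F452192))
theorem Q105889 : ∀ i, i < 105889 → P i := stepQ 105888 Q105888 (allL N105888 (tt N120449 (iv1 F520843)) (tt N109080 (iv0 F486717)) (tt N104174 F452193) (tt N103045 F452194) (tt N113055 (iv4 F483762)) (tt N100333 F452195) (tt N70739 (iv6 D209088)) (tt N113117 (iv7 F484045)))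
theorem Q105890 : ∀ i, i < 105890 → P i := stepQ 105889 Q105889 (allL N105889 (tt N109071 F465220) (tt N89874 (iv0 F452201)) (tt N104176 F452196) (tt N96691 F452197) (tt N78729 F452198) (tt N104086 F452199) (tt N70741 (iv6 D209089)) (tt N80610 F452200))
theorem Q105891 : ∀ i, i < 105891 → P i := stepQ 105890 Q105890 (allL N105890 (tt N70742 (iv1 D209090)) (tt N104178 F452202) (tt N104177 (iv2 F452208)) (tt N95911 (iv3 F452206)) (tt N104312 F452205) (tt N99391 F452204) (tt N101472 F452207) (tt N96699 F452203))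
theorem Q105892 : ∀ i, i < 105892 → P i := stepQ 105891 Q105891 (allL N105891 (tt N121205 D224464) (tt N77911 (iv0 F452212)) (tt N112674 (iv2 F482114)) (tt N72915 F452209) (tt N90347 F452210) (tt N112593 F481750) (tt N70749 (iv6 D209091)) (tt N90344 F452211))
theorem Q105893 : ∀ i, i < 105893 → P i := stepQ 105892 Q105892 (allL N105892 (tt N93377 F452214) (tt N93380 F452215) (tt N118599 (iv2 F511091)) (tt N70750 (iv3 D209092)) (tt N95283 F452213) (tt N118599 (iv5 F511093)) (tt N116545 (iv6 F500696)) (tt N112673 (iv7 F482111)))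
theorem Q105894 : ∀ i, i < 105894 → P i := stepQ 105893 Q105893 (allL N105893 (tt N70753 (iv1 D209093)) (tt N99151 F452216) (tt N104183 F452219) (tt N78017 (iv3 F452218)) (tt N108051 (iv4 F460886)) (tt N99259 F452220) (tt N119935 (iv6 F518120)) (tt N99242 F452217))
theorem Q105895 : ∀ i, i < 105895 → P i := stepQ 105894 Q105894 (allL N105894 (tt N104183 (iv1 F452226)) (tt N99242 F452227) (tt N99151 F452221) (tt N94663 F452222) (tt N99053 F452223) (tt N82088 F452224) (tt N82091 F452225) (tt N70753 (iv7 D209094)))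
theorem Q105896 : ∀ i, i < 105896 → P i := stepQ 105895 Q105895 (allL N105895 (tt N105064 F452232) (tt N99828 F452233) (tt N70758 F452228) (tt N88784 F452229) (tt N70756 (iv4 D209095)) (tt N77562 F452230) (tt N88782 (iv6 F452234)) (tt N105141 F452231))
theorem Q105897 : ∀ i, i < 105897 → P i := stepQ 105896 Q105896 (allL N105896 (tt N82982 (iv1 F452240)) (tt N91081 (iv0 F452239)) (tt N70759 F452236) (tt N103894 F452237) (tt N88782 F452238) (tt N115480 (iv5 F495404)) (tt N70756 (iv6 D209096)) (tt N108373 (iv7 F462308)))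
theorem Q105898 : ∀ i, i < 105898 → P i := stepQ 105897 Q105897 (allL N105897 (tt N119579 F516361) (tt N119686 (iv0 F516916)) (tt N70762 F452241) (tt N103895 F452242) (tt N115313 F494536) (tt N70757 (iv5 D209097)) (tt N115480 (iv6 F495402)) (tt N113639 (iv7 F486441)))
theorem Q105899 : ∀ i, i < 105899 → P i := stepQ 105898 Q105898 (allL N105898 (tt N73721 F452247) (tt N73383 F452248) (tt N77562 F452243) (tt N74985 F452244) (tt N73374 F452246) (tt N70758 (iv5 D209098)) (tt N77543 F452249) (tt N78689 F452245))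
theorem Q105900 : ∀ i, i < 105900 → P i := stepQ 105899 Q105899 (allL N105899 (tt N84082 (iv1 F452255)) (tt N106895 F456173) (tt N88782 F452250) (tt N103775 F452251) (tt N70759 F452252) (tt N84444 F452253) (tt N70758 (iv6 D209099)) (tt N91210 F452254))
theorem Q105901 : ∀ i, i < 105901 → P i := stepQ 105900 Q105900 (allL N105900 (tt N91081 (iv1 F452259)) (tt N82982 F452260) (tt N108373 (iv2 F462305)) (tt N70767 F452256) (tt N91210 F452257) (tt N115714 (iv5 F496465)) (tt N105793 F452258) (tt N70759 (iv7 D209100)))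
theorem Q105902 : ∀ i, i < 105902 → P i := stepQ 105901 Q105901 (allL N105901 (tt N86914 F452266) (tt N98724 F452265) (tt N117736 (iv2 F506702)) (tt N76455 F452261) (tt N78287 F452264) (tt N70760 (iv5 D209101)) (tt N76454 F452262) (tt N88811 F452263))
theorem Q105903 : ∀ i, i < 105903 → P i := stepQ 105902 Q105902 (allL N105902 (tt N120805 F522823) (tt N103928 (iv0 F452270)) (tt N119333 (iv2 F515070)) (tt N70761 (iv3 D209102)) (tt N102380 F452267) (tt N93170 (iv5 F452269)) (tt N114945 F492694) (tt N102378 F452268))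
theorem Q105904 : ∀ i, i < 105904 → P i := stepQ 105903 Q105903 (allL N105903 (tt N98724 F452275) (tt N86914 F452276) (tt N88811 F452271) (tt N93170 F452272) (tt N78288 F452273) (tt N70761 (iv5 D209103)) (tt N83721 F452274) (tt N117736 (iv7 F506706)))
theorem Q105905 : ∀ i, i < 105905 → P i := stepQ 105904 Q105904 (allL N105904 (tt N113639 F486442) (tt N70762 (iv0 D209104)) (tt N119579 (iv2 F516355)) (tt N86535 F452277) (tt N109013 (iv4 F464925)) (tt N102880 F452278) (tt N108802 (iv6 F464019)) (tt N119686 (iv7 F516915)))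
theorem Q105906 : ∀ i, i < 105906 → P i := stepQ 105905 Q105905 (allL N105905 (tt N70762 (iv1 D209105)) (tt N113639 (iv0 F486440)) (tt N119686 (iv2 F516911)) (tt N87164 (iv3 F452279)) (tt N86818 F452281) (tt N102881 (iv5 F452280)) (tt N76474 F452282) (tt N119579 (iv7 F516359)))
theorem Q105907 : ∀ i, i < 105907 → P i := stepQ 105906 Q105906 (allL N105906 (tt N119686 (iv1 F516917)) (tt N119579 (iv0 F516360)) (tt N113639 (iv2 F486436)) (tt N70772 F452283) (tt N111331 (iv4 F475857)) (tt N70763 F452284) (tt N104979 (iv6 F452285)) (tt N70762 (iv7 D209106)))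
theorem Q105908 : ∀ i, i < 105908 → P i := stepQ 105907 Q105907 (allL N105907 (tt N93197 (iv1 F452288)) (tt N70768 (iv0 D209107)) (tt N97821 (iv2 F452287)) (tt N103928 F452286) (tt N121206 D224465) (tt N118102 (iv5 F508602)) (tt N79055 (iv6 F452290)) (tt N97884 F452289))
theorem Q105909 : ∀ i, i < 105909 → P i := stepQ 105908 Q105908 (allL N105908 (tt N86585 (iv1 F452293)) (tt N114072 (iv0 F488451)) (tt N115356 (iv2 F494763)) (tt N70774 F452291) (tt N112435 F481098) (tt N70773 (iv5 D209108)) (tt N115355 (iv6 F494760)) (tt N86418 F452292))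
theorem Q105910 : ∀ i, i < 105910 → P i := stepQ 105909 Q105909 (allL N105909 (tt N87548 F452297) (tt N87547 F452298) (tt N87145 F452294) (tt N87567 F452299) (tt N70774 (iv4 D209109)) (tt N104981 F452295) (tt N100659 (iv6 F452300)) (tt N87549 F452296))
theorem Q105911 : ∀ i, i < 105911 → P i := stepQ 105910 Q105910 (allL N105910 (tt N94128 F452304) (tt N79902 (iv0 F452305)) (tt N104033 F452301) (tt N115355 (iv3 F494757)) (tt N100659 F452302) (tt N116761 (iv5 F501686)) (tt N70774 (iv6 D209110)) (tt N104921 F452303))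
theorem Q105912 : ∀ i, i < 105912 → P i := stepQ 105911 Q105911 (allL N105911 (tt N74800 F452310) (tt N108809 F464056) (tt N86413 F452306) (tt N87541 F452307) (tt N87550 F452308) (tt N79033 F452309) (tt N70775 (iv6 D209111)) (tt N108808 (iv7 F464051)))
theorem Q105913 : ∀ i, i < 105913 → P i := stepQ 105912 Q105912 (allL N105912 (tt N100164 F452314) (tt N99796 F452315) (tt N98526 F452311) (tt N113588 (iv3 F486171)) (tt N76185 F452313) (tt N70776 (iv5 D209112)) (tt N109715 (iv6 F468253)) (tt N76181 F452312))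
theorem Q105914 : ∀ i, i < 105914 → P i := stepQ 105913 Q105913 (allL N105913 (tt N117727 (iv1 F506652)) (tt N70777 (iv0 D209113)) (tt N98597 (iv2 F452319)) (tt N104969 F452320) (tt N76343 F452317) (tt N104968 F452316) (tt N76343 F452318) (tt N115033 (iv7 F493132)))
theorem Q105915 : ∀ i, i < 105915 → P i := stepQ 105914 Q105914 (allL N105914 (tt N115033 F493134) (tt N98597 (iv0 F452324)) (tt N117727 (iv2 F506647)) (tt N70784 F452321) (tt N109371 (iv4 F466625)) (tt N70778 F452322) (tt N77672 (iv6 F452323)) (tt N70777 (iv7 D209114)))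
theorem Q105916 : ∀ i, i < 105916 → P i := stepQ 105915 Q105915 (allL N105915 (tt N105828 F452331) (tt N70780 (iv0 D209115)) (tt N105825 (iv2 F452328)) (tt N97973 F452327) (tt N105009 F452326) (tt N97972 F452325) (tt N98391 F452330) (tt N105826 (iv7 F452329)))
theorem Q105917 : ∀ i, i < 105917 → P i := stepQ 105916 Q105916 (allL N105916 (tt N70780 (iv1 D209116)) (tt N105828 F452332) (tt N105826 F452335) (tt N114903 (iv3 F492442)) (tt N105008 F452336) (tt N99756 (iv5 F452334)) (tt N121139 (iv6 F524729)) (tt N105825 F452333))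
theorem Q105918 : ∀ i, i < 105918 → P i := stepQ 105917 Q105917 (allL N105917 (tt N120959 (iv1 F523706)) (tt N107829 (iv0 F459896)) (tt N105827 F452337) (tt N76671 F452338) (tt N70780 (iv4 D209117)) (tt N121164 (iv5 F524883)) (tt N70783 F452339) (tt N100317 (iv7 F452340)))
theorem Q105919 : ∀ i, i < 105919 → P i := stepQ 105918 Q105918 (allL N105918 (tt N105826 (iv1 F452346)) (tt N105825 F452347) (tt N105828 F452341) (tt N74906 F452342) (tt N100317 F452343) (tt N70781 F452344) (tt N98395 F452345) (tt N70780 (iv7 D209118)))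
theorem Q105920 : ∀ i, i < 105920 → P i := stepQ 105919 Q105919 (allL N105919 (tt N98420 (iv1 F452351)) (tt N98424 (iv0 F452350)) (tt N121207 D224466) (tt N70783 (iv3 D209119)) (tt N76672 F452348) (tt N120144 (iv5 F519280)) (tt N76671 F452349) (tt N120056 (iv7 F518809)))
theorem Q105921 : ∀ i, i < 105921 → P i := stepQ 105920 Q105920 (allL N105920 (tt N106395 (iv1 F454280)) (tt N82734 (iv0 F452354)) (tt N105830 F452352) (tt N120144 (iv3 F519279)) (tt N90720 F452353) (tt N70783 (iv5 D209120)) (tt N121208 D224467) (tt N106010 (iv7 F452727)))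
theorem Q105922 : ∀ i, i < 105922 → P i := stepQ 105921 Q105921 (allL N105921 (tt N105678 (iv1 F452358)) (tt N104071 F452359) (tt N89752 F452355) (tt N120056 (iv3 F518807)) (tt N70784 F452356) (tt N106010 (iv5 F452726)) (tt N78299 F452357) (tt N70783 (iv7 D209121)))
theorem Q105923 : ∀ i, i < 105923 → P i := stepQ 105922 Q105922 (allL N105922 (tt N104194 (iv1 F452363)) (tt N70787 (iv0 D209122)) (tt N104855 (iv2 F452362)) (tt N117345 (iv3 F504580)) (tt N120838 (iv4 F523008)) (tt N98282 F452360) (tt N78953 F452361) (tt N117352 (iv7 F504623)))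
theorem Q105924 : ∀ i, i < 105924 → P i := stepQ 105923 Q105923 (allL N105923 (tt N108493 F462826) (tt N108500 F462867) (tt N108499 (iv2 F462860)) (tt N81570 F452364) (tt N70789 (iv4 D209123)) (tt N111622 (iv5 F477190)) (tt N81569 F452365) (tt N108498 F462855))
theorem Q105925 : ∀ i, i < 105925 → P i := stepQ 105924 Q105924 (allL N105924 (tt N110266 (iv1 F470729)) (tt N85261 F452370) (tt N85214 F452366) (tt N70807 F452367) (tt N121168 (iv4 F524906)) (tt N70798 (iv5 D209124)) (tt N84821 F452368) (tt N90408 F452369))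
theorem Q105926 : ∀ i, i < 105926 → P i := stepQ 105925 Q105925 (allL N105925 (tt N90426 (iv1 F452373)) (tt N70802 (iv0 D209125)) (tt N90425 (iv2 F452372)) (tt N114966 (iv3 F492810)) (tt N117713 (iv4 F506576)) (tt N101688 F452371) (tt N113153 (iv6 F484228)) (tt N90424 F452374))
theorem Q105927 : ∀ i, i < 105927 → P i := stepQ 105926 Q105926 (allL N105926 (tt N84789 F452379) (tt N114903 F492445) (tt N114902 (iv2 F492440)) (tt N84821 F452375) (tt N100598 F452376) (tt N70805 (iv5 D209126)) (tt N70807 F452377) (tt N85209 F452378))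
theorem Q105928 : ∀ i, i < 105928 → P i := stepQ 105927 Q105927 (allL N105927 (tt N114898 (iv1 F492416)) (tt N107920 F460296) (tt N105809 F452380) (tt N105842 F452381) (tt N106303 (iv4 F453949)) (tt N70806 (iv5 D209127)) (tt N105541 F452382) (tt N114454 (iv7 F490255)))
theorem Q105929 : ∀ i, i < 105929 → P i := stepQ 105928 Q105928 (allL N105928 (tt N113100 (iv1 F483967)) (tt N70807 (iv0 D209128)) (tt N104947 (iv2 F452384)) (tt N98421 F452385) (tt N87644 F452386) (tt N104945 F452383) (tt N98418 F452387) (tt N87641 F452388))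
theorem Q105930 : ∀ i, i < 105930 → P i := stepQ 105929 Q105929 (allL N105929 (tt N108782 F463909) (tt N112468 (iv0 F481214)) (tt N105709 F452389) (tt N70814 F452390) (tt N88797 F452391) (tt N92958 F452392) (tt N70810 (iv6 D209129)) (tt N114076 (iv7 F488475)))
theorem Q105931 : ∀ i, i < 105931 → P i := stepQ 105930 Q105930 (allL N105930 (tt N114863 (iv1 F492233)) (tt N114846 F492163) (tt N105710 F452394) (tt N70816 F452395) (tt N115812 (iv4 F497022)) (tt N70811 (iv5 D209130)) (tt N92958 F452396) (tt N91220 F452397))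
theorem Q105932 : ∀ i, i < 105932 → P i := stepQ 105931 Q105931 (allL N105931 (tt N97693 F452402) (tt N97468 (iv0 F452403)) (tt N97720 F452398) (tt N70813 (iv3 D209131)) (tt N88799 F452399) (tt N79706 F452400) (tt N88798 (iv6 F452404)) (tt N97719 F452401))
theorem Q105933 : ∀ i, i < 105933 → P i := stepQ 105932 Q105932 (allL N105932 (tt N111937 (iv1 F478761)) (tt N86945 (iv0 F452409)) (tt N111935 (iv2 F478747)) (tt N88798 F452405) (tt N70814 F452406) (tt N86952 F452407) (tt N70813 (iv6 D209132)) (tt N97635 F452408))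
theorem Q105934 : ∀ i, i < 105934 → P i := stepQ 105933 Q105933 (allL N105933 (tt N93138 (iv1 F452413)) (tt N105694 (iv0 F452412)) (tt N115742 (iv2 F496613)) (tt N92958 F452410) (tt N115489 (iv4 F495459)) (tt N70814 (iv5 D209133)) (tt N70816 F452411) (tt N115365 (iv7 F494823)))
theorem Q105935 : ∀ i, i < 105935 → P i := stepQ 105934 Q105934 (allL N105934 (tt N92186 F452417) (tt N98031 F452418) (tt N98030 F452414) (tt N120801 (iv3 F522791)) (tt N70823 (iv4 D209134)) (tt N90237 F452415) (tt N114430 (iv6 F490117)) (tt N97546 F452416))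
theorem Q105936 : ∀ i, i < 105936 → P i := stepQ 105935 Q105935 (allL N105935 (tt N117935 F507681) (tt N103768 (iv0 F452421)) (tt N107014 (iv2 F456646)) (tt N70826 (iv3 D209135)) (tt N107012 (iv4 F456643)) (tt N121209 D224468) (tt N75060 F452419) (tt N105857 F452420))
theorem Q105937 : ∀ i, i < 105937 → P i := stepQ 105936 Q105936 (allL N105936 (tt N117654 (iv1 F506240)) (tt N117651 (iv0 F506224)) (tt N105856 F452422) (tt N121209 (iv3 F525143)) (tt N112652 (iv4 F482006)) (tt N70826 (iv5 D209136)) (tt N121210 D224469) (tt N105858 F452423))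
theorem Q105938 : ∀ i, i < 105938 → P i := stepQ 105937 Q105937 (allL N105937 (tt N103535 F454809) (tt N120809 F522848) (tt N120884 (iv2 F523276)) (tt N70827 (iv3 D209137)) (tt N105163 F452425) (tt N120714 (iv5 F522301)) (tt N104504 (iv6 F454808)) (tt N105855 F452424))
theorem Q105939 : ∀ i, i < 105939 → P i := stepQ 105938 Q105938 (allL N105938 (tt N117651 (iv1 F506225)) (tt N117654 (iv0 F506239)) (tt N105858 F452430) (tt N120714 (iv3 F522299)) (tt N112653 (iv4 F482009)) (tt N70827 (iv5 D209138)) (tt N115446 F495232) (tt N105856 F452431))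
theorem Q105940 : ∀ i, i < 105940 → P i := stepQ 105939 Q105939 (allL N105939 (tt N109131 (iv1 F465478)) (tt N109129 (iv0 F465469)) (tt N105859 F452432) (tt N104504 F454807) (tt N75069 F452433) (tt N120713 (iv5 F522294)) (tt N70827 (iv6 D209139)) (tt N75066 F452434))
theorem Q105941 : ∀ i, i < 105941 → P i := stepQ 105940 Q105940 (allL N105940 (tt N103833 (iv1 F452440)) (tt N70828 (iv0 D209140)) (tt N105860 (iv2 F468978)) (tt N120938 (iv3 F523578)) (tt N111851 (iv4 F478309)) (tt N117958 (iv5 F507787)) (tt N120937 (iv6 F523572)) (tt N105861 F468979))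
theorem Q105942 : ∀ i, i < 105942 → P i := stepQ 105941 Q105941 (allL N105941 (tt N70828 (iv1 D209141)) (tt N103833 F452436) (tt N105861 F468977) (tt N121211 D224470) (tt N111755 (iv4 F477805)) (tt N109189 (iv5 F465711)) (tt N121212 D224471) (tt N105860 (iv7 F468976)))
theorem Q105943 : ∀ i, i < 105943 → P i := stepQ 105942 Q105942 (allL N105942 (tt N105861 (iv1 F452441)) (tt N105860 F452442) (tt N103833 F452437) (tt N108895 (iv3 F464394)) (tt N91986 F452438) (tt N70829 F452439) (tt N121017 (iv6 F524036)) (tt N70828 (iv7 D209142)))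
theorem Q105944 : ∀ i, i < 105944 → P i := stepQ 105943 Q105943 (allL N105943 (tt N117657 (iv1 F506248)) (tt N117656 F506247) (tt N91992 F452443) (tt N120663 (iv3 F522032)) (tt N91990 F452444) (tt N70830 (iv5 D209143)) (tt N116369 (iv6 F499748)) (tt N105863 F452445))
theorem Q105945 : ∀ i, i < 105945 → P i := stepQ 105944 Q105944 (allL N105944 (tt N120647 F521944) (tt N118080 (iv0 F508462)) (tt N115671 (iv2 F496237)) (tt N70832 (iv3 D209144)) (tt N116008 (iv4 F498025)) (tt N88167 F452446) (tt N119503 (iv6 F515945)) (tt N105862 F452447))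
theorem Q105946 : ∀ i, i < 105946 → P i := stepQ 105945 Q105945 (allL N105945 (tt N109128 (iv1 F465457)) (tt N109127 F465456) (tt N105864 F452448) (tt N119503 (iv3 F515942)) (tt N70833 F452449) (tt N119503 (iv5 F515944)) (tt N70832 (iv6 D209145)) (tt N97806 F452450))
theorem Q105947 : ∀ i, i < 105947 → P i := stepQ 105946 Q105946 (allL N105946 (tt N113953 (iv1 F487940)) (tt N113952 F487939) (tt N113954 (iv2 F487946)) (tt N70839 F452451) (tt N90820 F452452) (tt N70838 (iv5 D209146)) (tt N121018 (iv6 F524042)) (tt N112384 (iv7 F480848)))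
theorem Q105948 : ∀ i, i < 105948 → P i := stepQ 105947 Q105947 (allL N105947 (tt N117181 (iv1 F503792)) (tt N117180 F503788) (tt N71148 F452453) (tt N116318 (iv3 F499528)) (tt N70839 (iv4 D209147)) (tt N104202 F452454) (tt N114704 F491434) (tt N109408 (iv7 F466813)))
theorem Q105949 : ∀ i, i < 105949 → P i := stepQ 105948 Q105948 (allL N105948 (tt N97305 F452460) (tt N97290 F452461) (tt N71202 F452455) (tt N99706 F452456) (tt N70840 (iv4 D209148)) (tt N99704 F452459) (tt N89196 F452457) (tt N71201 F452458))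
theorem Q105950 : ∀ i, i < 105950 → P i := stepQ 105949 Q105949 (allL N105949 (tt N86080 F452466) (tt N119059 (iv0 F513561)) (tt N100628 F452462) (tt N94964 F452463) (tt N70843 (iv4 D209149)) (tt N101367 (iv5 F452467)) (tt N94963 F452464) (tt N71207 F452465))
theorem Q105951 : ∀ i, i < 105951 → P i := stepQ 105950 Q105950 (allL N105950 (tt N71186 (iv1 F452470)) (tt N70845 (iv0 D209150)) (tt N71183 (iv2 F452469)) (tt N99454 (iv3 F452472)) (tt N99981 F452468) (tt N107478 (iv5 F458455)) (tt N116880 (iv6 F502319)) (tt N71184 F452471))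
theorem Q105952 : ∀ i, i < 105952 → P i := stepQ 105951 Q105951 (allL N105951 (tt N100248 F452476) (tt N119105 (iv0 F513819)) (tt N121213 D224472) (tt N70846 (iv3 D209151)) (tt N72261 F452473) (tt N116291 (iv5 F499400)) (tt N70972 F452474) (tt N71189 F452475))
theorem Q105953 : ∀ i, i < 105953 → P i := stepQ 105952 Q105952 (allL N105952 (tt N71399 F452480) (tt N71397 F452481) (tt N71188 F452477) (tt N116291 (iv3 F499398)) (tt N118825 (iv4 F512274)) (tt N70846 (iv5 D209152)) (tt N84863 F452478) (tt N71190 F452479))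
theorem Q105954 : ∀ i, i < 105954 → P i := stepQ 105953 Q105953 (allL N105953 (tt N101916 (iv1 F453776)) (tt N115349 F494720) (tt N121214 D224473) (tt N70847 (iv3 D209153)) (tt N94118 F452482) (tt N115345 F494704) (tt N121215 D224474) (tt N71187 F452483))
theorem Q105955 : ∀ i, i < 105955 → P i := stepQ 105954 Q105954 (allL N105954 (tt N71397 F452486) (tt N71399 F452487) (tt N71190 F452484) (tt N115345 F494703) (tt N121216 D224475) (tt N70847 (iv5 D209154)) (tt N86338 F452488) (tt N71188 F452485))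
theorem Q105956 : ∀ i, i < 105956 → P i := stepQ 105955 Q105955 (allL N105955 (tt N71860 F452492) (tt N71026 (iv0 F452494)) (tt N71191 F452489) (tt N121215 (iv3 F525174)) (tt N93962 F452490) (tt N70945 F452493) (tt N70847 (iv6 D209155)) (tt N70971 F452491))
theorem Q105957 : ∀ i, i < 105957 → P i := stepQ 105956 Q105956 (allL N105956 (tt N95514 F452499) (tt N95498 F452500) (tt N71193 F452495) (tt N96188 F452496) (tt N70848 (iv4 D209156)) (tt N95500 F452498) (tt N72834 F452497) (tt N106482 (iv7 F454622)))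
theorem Q105958 : ∀ i, i < 105958 → P i := stepQ 105957 Q105957 (allL N105957 (tt N71391 F452504) (tt N71393 F452505) (tt N71198 F452501) (tt N82274 F452502) (tt N107843 (iv4 F459961)) (tt N70850 (iv5 D209157)) (tt N107130 F457116) (tt N71195 F452503))
theorem Q105959 : ∀ i, i < 105959 → P i := stepQ 105958 Q105958 (allL N105958 (tt N94361 (iv1 F452511)) (tt N72350 F452510) (tt N71249 F452506) (tt N97336 F452507) (tt N70851 (iv4 D209158)) (tt N96926 F452509) (tt N120960 (iv6 F523716)) (tt N71246 F452508))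
theorem Q105960 : ∀ i, i < 105960 → P i := stepQ 105959 Q105959 (allL N105959 (tt N70880 F452515) (tt N71308 (iv0 F452516)) (tt N71247 F452513) (tt N120573 (iv3 F521523)) (tt N109640 (iv4 F467883)) (tt N70852 (iv5 D209159)) (tt N121217 D224476) (tt N71250 F452514))
theorem Q105961 : ∀ i, i < 105961 → P i := stepQ 105960 Q105960 (allL N105960 (tt N71255 (iv1 F452522)) (tt N71254 F452521) (tt N70854 F452517) (tt N71230 F452518) (tt N89872 F452519) (tt N70853 (iv5 D209160)) (tt N107829 (iv6 F459895)) (tt N71252 F452520))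
theorem Q105962 : ∀ i, i < 105962 → P i := stepQ 105961 Q105961 (allL N105961 (tt N71956 F452527) (tt N116487 F500400) (tt N70855 F452524) (tt N71231 F452525) (tt N94287 F452526) (tt N121218 D224477) (tt N70853 (iv6 D209161)) (tt N116486 (iv7 F500394)))
theorem Q105963 : ∀ i, i < 105963 → P i := stepQ 105962 Q105962 (allL N105962 (tt N71252 (iv1 F452528)) (tt N70854 (iv0 D209162)) (tt N71255 (iv2 F452533)) (tt N89834 (iv3 F452532)) (tt N98325 (iv4 F452530)) (tt N101909 F452529) (tt N89832 F452531) (tt N71254 (iv7 F452534)))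
theorem Q105964 : ∀ i, i < 105964 → P i := stepQ 105963 Q105963 (allL N105963 (tt N70854 (iv1 D209163)) (tt N71252 F452535) (tt N71254 F452539) (tt N120209 (iv3 F519609)) (tt N121219 D224478) (tt N101910 F452537) (tt N100501 (iv6 F452538)) (tt N71255 F452536))
theorem Q105965 : ∀ i, i < 105965 → P i := stepQ 105964 Q105964 (allL N105964 (tt N89871 F452542) (tt N76433 (iv0 F452543)) (tt N89872 F452540) (tt N117756 (iv3 F506811)) (tt N70854 (iv4 D209164)) (tt N113674 (iv5 F486575)) (tt N105673 (iv6 F452544)) (tt N71256 F452541))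
theorem Q105966 : ∀ i, i < 105966 → P i := stepQ 105965 Q105965 (allL N105965 (tt N105827 (iv1 F452548)) (tt N100317 (iv0 F452547)) (tt N107829 (iv2 F459893)) (tt N70856 F452545) (tt N105673 F452546) (tt N120057 (iv5 F518814)) (tt N70854 (iv6 D209165)) (tt N120959 (iv7 F523707)))
theorem Q105967 : ∀ i, i < 105967 → P i := stepQ 105966 Q105966 (allL N105966 (tt N70855 (iv1 D209166)) (tt N116486 F500395) (tt N116487 (iv2 F500396)) (tt N117303 (iv3 F504369)) (tt N121220 D224479) (tt N121221 D224480) (tt N117316 (iv6 F504434)) (tt N71956 F452549))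
theorem Q105968 : ∀ i, i < 105968 → P i := stepQ 105967 Q105967 (allL N105967 (tt N115080 F493387) (tt N121222 D224481) (tt N121218 (iv2 F525192)) (tt N70857 F452550) (tt N120828 (iv4 F522958)) (tt N70855 (iv5 D209167)) (tt N120057 (iv6 F518817)) (tt N106479 (iv7 F454608)))
theorem Q105969 : ∀ i, i < 105969 → P i := stepQ 105968 Q105968 (allL N105968 (tt N116487 (iv1 F500401)) (tt N71956 (iv0 F454086)) (tt N116486 F500392) (tt N70858 F452551) (tt N94292 F452552) (tt N106479 (iv5 F454607)) (tt N71261 F452553) (tt N70855 (iv7 D209168)))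
theorem Q105970 : ∀ i, i < 105970 → P i := stepQ 105969 Q105969 (allL N105969 (tt N71242 (iv1 F452558)) (tt N70856 (iv0 D209169)) (tt N71239 (iv2 F452556)) (tt N114540 (iv3 F490677)) (tt N103828 F452555) (tt N105367 F452554) (tt N120479 (iv6 F520992)) (tt N71240 F452557))
theorem Q105971 : ∀ i, i < 105971 → P i := stepQ 105970 Q105970 (allL N105970 (tt N107775 (iv1 F459669)) (tt N99307 F452561) (tt N71241 F452559) (tt N120057 F518815) (tt N119562 (iv4 F516265)) (tt N70856 (iv5 D209170)) (tt N70857 F452560) (tt N107778 (iv7 F459688)))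
theorem Q105972 : ∀ i, i < 105972 → P i := stepQ 105971 Q105971 (allL N105971 (tt N71240 (iv1 F452564)) (tt N71239 F452565) (tt N71242 F452562) (tt N120959 F523710) (tt N117761 (iv4 F506841)) (tt N107778 (iv5 F459685)) (tt N71265 F452563) (tt N70856 (iv7 D209171)))
theorem Q105973 : ∀ i, i < 105973 → P i := stepQ 105972 Q105972 (allL N105972 (tt N71435 F452568) (tt N106264 (iv0 F453795)) (tt N71244 F452566) (tt N120832 (iv3 F522975)) (tt N70857 (iv4 D209172)) (tt N95486 F452567) (tt N119562 (iv6 F516267)) (tt N106480 (iv7 F454611)))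
theorem Q105974 : ∀ i, i < 105974 → P i := stepQ 105973 Q105973 (allL N105973 (tt N71233 F452574) (tt N71232 F452573) (tt N70862 F452569) (tt N71252 F452570) (tt N85241 F452571) (tt N70861 (iv5 D209173)) (tt N85240 F452575) (tt N71230 F452572))
theorem Q105975 : ∀ i, i < 105975 → P i := stepQ 105974 Q105974 (allL N105974 (tt N113377 (iv1 F485259)) (tt N71919 (iv0 F452580)) (tt N70863 F452576) (tt N71253 F452577) (tt N77515 F452578) (tt N83471 F452579) (tt N70861 (iv6 D209174)) (tt N110417 (iv7 F471479)))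
theorem Q105976 : ∀ i, i < 105976 → P i := stepQ 105975 Q105975 (allL N105975 (tt N71230 (iv1 F452589)) (tt N70862 (iv0 D209175)) (tt N71233 (iv2 F452588)) (tt N121223 D224482) (tt N94648 F452586) (tt N101907 F452587) (tt N120072 (iv6 F518899)) (tt N71232 F452590))
theorem Q105977 : ∀ i, i < 105977 → P i := stepQ 105976 Q105976 (allL N105976 (tt N110417 (iv1 F471481)) (tt N70863 (iv0 D209176)) (tt N113377 (iv2 F485253)) (tt N77734 F452593) (tt N77738 F452592) (tt N90886 F452591) (tt N113014 (iv6 F483559)) (tt N71919 (iv7 F452594)))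
theorem Q105978 : ∀ i, i < 105978 → P i := stepQ 105977 Q105977 (allL N105977 (tt N71919 (iv1 F452599)) (tt N113377 (iv0 F485258)) (tt N110417 (iv2 F471476)) (tt N70866 F452595) (tt N77516 F452596) (tt N83472 F452597) (tt N71238 F452598) (tt N70863 (iv7 D209177)))
theorem Q105979 : ∀ i, i < 105979 → P i := stepQ 105978 Q105978 (allL N105978 (tt N108007 (iv1 F460700)) (tt N121224 D224483) (tt N71264 F452601) (tt N83450 F452602) (tt N121225 D224484) (tt N70864 (iv5 D209178)) (tt N70865 F452603) (tt N121226 D224485))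
theorem Q105980 : ∀ i, i < 105980 → P i := stepQ 105979 Q105979 (allL N105979 (tt N71263 (iv1 F452607)) (tt N71262 F452608) (tt N71265 F452604) (tt N91731 F452605) (tt N111175 (iv4 F475091)) (tt N121226 (iv5 F525238)) (tt N71242 F452606) (tt N70864 (iv7 D209179)))
theorem Q105981 : ∀ i, i < 105981 → P i := stepQ 105980 Q105980 (allL N105980 (tt N71518 F452610) (tt N71512 F452611) (tt N71266 F452609) (tt N121225 (iv3 F525233)) (tt N70865 (iv4 D209180)) (tt N119819 (iv5 F517531)) (tt N121225 (iv6 F525234)) (tt N106647 (iv7 F455137)))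
theorem Q105982 : ∀ i, i < 105982 → P i := stepQ 105981 Q105981 (allL N105981 (tt N117349 (iv1 F504605)) (tt N71227 (iv0 F452613)) (tt N70869 (iv2 D209181)) (tt N116489 (iv3 F500409)) (tt N78164 F452612) (tt N119231 (iv5 F514501)) (tt N116478 F500349) (tt N107173 (iv7 F457330)))
theorem Q105983 : ∀ i, i < 105983 → P i := stepQ 105982 Q105982 (allL N105982 (tt N71227 (iv1 F452617)) (tt N117349 F504604) (tt N107173 (iv2 F457327)) (tt N70872 F452615) (tt N78165 F452616) (tt N119034 (iv5 F513396)) (tt N115114 F493555) (tt N70869 (iv7 D209183)))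
theorem Q105984 : ∀ i, i < 105984 → P i := stepQ 105983 Q105983 (allL N105983 (tt N116502 F500483) (tt N106687 F500484) (tt N117285 (iv2 F504280)) (tt N78210 F452618) (tt N70871 F452619) (tt N120197 (iv5 F519539)) (tt N70870 (iv6 D209184)) (tt N117284 (iv7 F504277)))
theorem Q105985 : ∀ i, i < 105985 → P i := stepQ 105984 Q105984 (allL N105984 (tt N106231 (iv1 F453685)) (tt N71566 (iv0 F452624)) (tt N70874 F452620) (tt N78199 F452621) (tt N70872 F452622) (tt N77921 F452623) (tt N116622 (iv6 F501021)) (tt N70870 (iv7 D209185)))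
theorem Q105986 : ∀ i, i < 105986 → P i := stepQ 105985 Q105985 (allL N105985 (tt N100236 (iv1 F452628)) (tt N71222 (iv0 F452627)) (tt N70875 F452625) (tt N115114 F493557) (tt N116622 (iv4 F501020)) (tt N101506 F452626) (tt N70872 (iv6 D209186)) (tt N111196 (iv7 F475180)))
theorem Q105987 : ∀ i, i < 105987 → P i := stepQ 105986 Q105986 (allL N105986 (tt N121227 D224486) (tt N98903 (iv0 F452636)) (tt N116622 (iv2 F501019)) (tt N91458 F452633) (tt N70875 F452634) (tt N101443 F452635) (tt N70874 (iv6 D209187)) (tt N117437 (iv7 F505024)))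
theorem Q105988 : ∀ i, i < 105988 → P i := stepQ 105987 Q105987 (allL N105987 (tt N71222 (iv1 F452638)) (tt N100236 F452639) (tt N111196 F475184) (tt N116418 (iv3 F500003)) (tt N117437 (iv4 F505023)) (tt N101505 F452637) (tt N116488 (iv6 F500404)) (tt N70875 (iv7 D209188)))
theorem Q105989 : ∀ i, i < 105989 → P i := stepQ 105988 Q105988 (allL N105988 (tt N85375 F452643) (tt N85374 F452644) (tt N85376 (iv2 F452645)) (tt N70878 (iv3 D209189)) (tt N114999 (iv4 F492987)) (tt N84389 F452640) (tt N85332 F452641) (tt N84388 F452642))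
theorem Q105990 : ∀ i, i < 105990 → P i := stepQ 105989 Q105989 (allL N105989 (tt N114784 (iv1 F491844)) (tt N113314 (iv0 F484981)) (tt N110188 (iv2 F470331)) (tt N117764 (iv3 F506855)) (tt N70882 (iv4 D209190)) (tt N116960 (iv5 F502712)) (tt N110079 F469880) (tt N71307 F452646))
theorem Q105991 : ∀ i, i < 105991 → P i := stepQ 105990 Q105990 (allL N105990 (tt N101480 F452650) (tt N114684 (iv0 F491357)) (tt N71313 F452647) (tt N110070 (iv3 F469837)) (tt N121111 (iv4 F524565)) (tt N70883 (iv5 D209191)) (tt N71412 F452648) (tt N84228 F452649))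
theorem Q105992 : ∀ i, i < 105992 → P i := stepQ 105991 Q105991 (allL N105991 (tt N89717 F452653) (tt N121217 (iv0 F525190)) (tt N121228 D224487) (tt N70884 (iv3 D209192)) (tt N119572 (iv4 F516322)) (tt N113136 (iv5 F484135)) (tt N95964 F452651) (tt N71323 F452652))
theorem Q105993 : ∀ i, i < 105993 → P i := stepQ 105992 Q105992 (allL N105992 (tt N113237 (iv1 F484657)) (tt N88841 F452658) (tt N108143 (iv2 F461286)) (tt N70885 (iv3 D209193)) (tt N72984 (iv4 F452656)) (tt N87040 F452654) (tt N72983 F452657) (tt N71319 F452655))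
theorem Q105994 : ∀ i, i < 105994 → P i := stepQ 105993 Q105993 (allL N105993 (tt N99516 (iv1 F452663)) (tt N113085 (iv0 F483916)) (tt N71326 F452659) (tt N72983 F452660) (tt N109219 F465829) (tt N95244 F452661) (tt N70885 (iv6 D209194)) (tt N95976 F452662))
theorem Q105995 : ∀ i, i < 105995 → P i := stepQ 105994 Q105994 (allL N105994 (tt N97715 F452668) (tt N71384 F452669) (tt N71582 F452664) (tt N93923 F452665) (tt N70887 (iv4 D209195)) (tt N89307 F452667) (tt N114674 (iv6 F491312)) (tt N71579 F452666))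
theorem Q105996 : ∀ i, i < 105996 → P i := stepQ 105995 Q105995 (allL N105995 (tt N99717 F452674) (tt N95581 F452675) (tt N93916 F452671) (tt N70888 (iv3 D209196)) (tt N108572 (iv4 F463099)) (tt N103221 F452672) (tt N116465 (iv6 F500274)) (tt N71581 F452673))
theorem Q105997 : ∀ i, i < 105997 → P i := stepQ 105996 Q105996 (allL N105996 (tt N71579 F452680) (tt N71582 F452682) (tt N97715 F452676) (tt N70891 (iv3 D209197)) (tt N99696 F452677) (tt N71002 F452678) (tt N107959 (iv6 F460478)) (tt N71384 F452679))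
theorem Q105998 : ∀ i, i < 105998 → P i := stepQ 105997 Q105997 (allL N105997 (tt N71497 F452688) (tt N70912 (iv0 F452690)) (tt N71441 F452684) (tt N72032 F452685) (tt N92563 F452687) (tt N70893 (iv5 D209198)) (tt N72030 F452689) (tt N71438 F452686))
theorem Q105999 : ∀ i, i < 105999 → P i := stepQ 105998 Q105998 (allL N105998 (tt N70912 F452693) (tt N71497 F452694) (tt N71438 F452691) (tt N120743 (iv3 F522467)) (tt N109092 (iv4 F465298)) (tt N70894 (iv5 D209199)) (tt N117732 F506683) (tt N71441 F452692))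
theorem Q106000 : ∀ i, i < 106000 → P i := stepQ 105999 Q105999 (allL N105999 (tt N108401 (iv1 F462432)) (tt N99904 (iv0 F452698)) (tt N70896 F452695) (tt N71426 F452696) (tt N72531 F452697) (tt N121141 (iv5 F524743)) (tt N70895 (iv6 D209200)) (tt N108400 (iv7 F462423)))
theorem Q106001 : ∀ i, i < 106001 → P i := stepQ 106000 Q106000 (allL N106000 (tt N108400 (iv1 F462422)) (tt N70896 (iv0 D209201)) (tt N108401 (iv2 F462428)) (tt N107910 F460238) (tt N107616 F458956) (tt N115095 (iv5 F493460)) (tt N108399 (iv6 F462419)) (tt N99904 (iv7 F460239)))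
theorem Q106002 : ∀ i, i < 106002 → P i := stepQ 106001 Q106001 (allL N106001 (tt N119620 F516561) (tt N107984 (iv0 F491012)) (tt N121141 (iv2 F524740)) (tt N70897 F452699) (tt N107971 (iv4 F460547)) (tt N70896 (iv5 D209202)) (tt N105701 F452700) (tt N106263 (iv7 F453792)))
theorem Q106003 : ∀ i, i < 106003 → P i := stepQ 106002 Q106002 (allL N106002 (tt N99904 (iv1 F452704)) (tt N108401 F462431) (tt N108400 F462424) (tt N70898 F452701) (tt N72539 F452702) (tt N106263 (iv5 F453791)) (tt N71144 F452703) (tt N70896 (iv7 D209203)))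
theorem Q106004 : ∀ i, i < 106004 → P i := stepQ 106003 Q106003 (allL N106003 (tt N106480 (iv1 F454613)) (tt N71244 F452707) (tt N71435 F452705) (tt N117594 (iv3 F505894)) (tt N70897 (iv4 D209204)) (tt N118860 (iv5 F512444)) (tt N105702 F452706) (tt N106264 (iv7 F453793)))
theorem Q106005 : ∀ i, i < 106005 → P i := stepQ 106004 Q106004 (allL N106004 (tt N71509 F452709) (tt N70918 (iv0 F452710)) (tt N71425 F452708) (tt N116999 (iv3 F502904)) (tt N117556 (iv4 F505675)) (tt N121122 (iv5 F524624)) (tt N70899 (iv6 D209205)) (tt N71508 F452711))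
theorem Q106006 : ∀ i, i < 106006 → P i := stepQ 106005 Q106005 (allL N106005 (tt N71618 F452715) (tt N70904 F452716) (tt N71617 F452712) (tt N70900 (iv3 D209206)) (tt N107691 (iv4 F459249)) (tt N102346 F452713) (tt N113323 (iv6 F485023)) (tt N71422 F452714))
theorem Q106007 : ∀ i, i < 106007 → P i := stepQ 106006 Q106006 (allL N106006 (tt N70942 F452719) (tt N71676 (iv0 F452720)) (tt N71421 F452717) (tt N113323 (iv3 F485022)) (tt N108897 (iv4 F464401)) (tt N99256 F452718) (tt N70900 (iv6 D209207)) (tt N71675 (iv7 F453663)))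
theorem Q106008 : ∀ i, i < 106008 → P i := stepQ 106007 Q106007 (allL N106007 (tt N116965 (iv1 F502738)) (tt N116930 (iv0 F502554)) (tt N70902 F452721) (tt N71444 F452722) (tt N93873 F452723) (tt N121229 D224488) (tt N70901 (iv6 D209208)) (tt N116964 (iv7 F502729)))
theorem Q106009 : ∀ i, i < 106009 → P i := stepQ 106008 Q106008 (allL N106008 (tt N116964 (iv1 F502728)) (tt N70902 (iv0 D209209)) (tt N116965 (iv2 F502733)) (tt N117018 (iv3 F502993)) (tt N119049 (iv4 F513492)) (tt N121230 D224489) (tt N71111 F453438) (tt N116930 (iv7 F502553)))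
theorem Q106010 : ∀ i, i < 106010 → P i := stepQ 106009 Q106009 (allL N106009 (tt N121231 D224490) (tt N116973 (iv0 F502777)) (tt N121229 (iv2 F525255)) (tt N70903 F452724) (tt N119368 (iv4 F515254)) (tt N70902 (iv5 D209210)) (tt N106850 (iv6 F455982)) (tt N117174 (iv7 F503757)))
theorem Q106011 : ∀ i, i < 106011 → P i := stepQ 106010 Q106010 (allL N106010 (tt N88546 F452728) (tt N106507 (iv0 F454702)) (tt N71457 F452725) (tt N121232 D224491) (tt N70903 (iv4 D209211)) (tt N105921 F452726) (tt N106854 (iv6 F456005)) (tt N105920 F452727))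
theorem Q106012 : ∀ i, i < 106012 → P i := stepQ 106011 Q106011 (allL N106011 (tt N71641 F452731) (tt N71640 F452732) (tt N70910 F452729) (tt N114430 (iv3 F490116)) (tt N70907 (iv4 D209212)) (tt N121233 D224492) (tt N120801 (iv6 F522794)) (tt N71633 F452730))
theorem Q106013 : ∀ i, i < 106013 → P i := stepQ 106012 Q106012 (allL N106012 (tt N104336 F452736) (tt N105534 (iv0 F452737)) (tt N70911 F452733) (tt N71475 F452734) (tt N120801 (iv4 F522792)) (tt N87690 F452735) (tt N70907 (iv6 D209213)) (tt N113039 (iv7 F483679)))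
theorem Q106014 : ∀ i, i < 106014 → P i := stepQ 106013 Q106013 (allL N106013 (tt N97466 F452739) (tt N106893 (iv0 F456167)) (tt N121233 (iv2 F525277)) (tt N120602 (iv3 F521693)) (tt N121234 D224493) (tt N70910 (iv5 D209214)) (tt N97463 (iv6 F455486)) (tt N71642 F452738))
theorem Q106015 : ∀ i, i < 106015 → P i := stepQ 106014 Q106014 (allL N106014 (tt N71441 (iv1 F452744)) (tt N71438 F452743) (tt N70912 (iv2 D209215)) (tt N71492 F452740) (tt N109062 (iv4 F465164)) (tt N70952 F452741) (tt N111988 (iv6 F478974)) (tt N71497 F452742))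
theorem Q106016 : ∀ i, i < 106016 → P i := stepQ 106015 Q106015 (allL N106015 (tt N99214 F452749) (tt N112331 (iv0 F480603)) (tt N71503 F452746) (tt N105556 F452747) (tt N109924 (iv4 F469248)) (tt N70914 (iv5 D209216)) (tt N121235 D224494) (tt N71501 F452748))
theorem Q106017 : ∀ i, i < 106017 → P i := stepQ 106016 Q106016 (allL N106016 (tt N71507 (iv1 F452752)) (tt N70915 (iv0 D209217)) (tt N71504 (iv2 F452751)) (tt N117748 (iv3 F506767)) (tt N99594 F452750) (tt N106897 (iv5 F456183)) (tt N116898 (iv6 F502413)) (tt N71505 F452753))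
theorem Q106018 : ∀ i, i < 106018 → P i := stepQ 106017 Q106017 (allL N106017 (tt N73616 (iv1 F452758)) (tt N109919 (iv0 F469217)) (tt N71506 F452754) (tt N110813 (iv3 F473272)) (tt N70915 (iv4 D209218)) (tt N76596 F452757) (tt N70922 F452755) (tt N76799 F452756))
theorem Q106019 : ∀ i, i < 106019 → P i := stepQ 106018 Q106018 (allL N106018 (tt N107270 (iv1 F457730)) (tt N120082 (iv0 F518955)) (tt N116431 (iv2 F500069)) (tt N70917 F452759) (tt N71515 F452761) (tt N70916 (iv5 D209219)) (tt N112578 F481705) (tt N71515 F452760))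
theorem Q106020 : ∀ i, i < 106020 → P i := stepQ 106019 Q106019 (allL N106019 (tt N71425 (iv1 F452766)) (tt N71508 F452765) (tt N70918 (iv2 D209220)) (tt N71513 F452762) (tt N93897 F452763) (tt N110014 (iv5 F469567)) (tt N110046 F469716) (tt N71509 F452764))
theorem Q106021 : ∀ i, i < 106021 → P i := stepQ 106020 Q106020 (allL N106020 (tt N110015 (iv1 F469574)) (tt N83453 (iv0 F452770)) (tt N110014 F469565) (tt N70919 F452767) (tt N121236 D224495) (tt N70918 (iv5 D209221)) (tt N77140 F452768) (tt N71510 F452769))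
theorem Q106022 : ∀ i, i < 106022 → P i := stepQ 106021 Q106021 (allL N106021 (tt N106647 (iv1 F455139)) (tt N71266 F452774) (tt N71518 F452771) (tt N121237 D224496) (tt N70919 (iv4 D209222)) (tt N98963 F452772) (tt N109513 (iv6 F467320)) (tt N71512 F452773))
theorem Q106023 : ∀ i, i < 106023 → P i := stepQ 106022 Q106022 (allL N106022 (tt N116092 (iv1 F498426)) (tt N116436 F500100) (tt N116433 F500082) (tt N70920 (iv3 D209223)) (tt N71523 (iv4 F452777)) (tt N71215 F452775) (tt N99922 F452778) (tt N71523 F452776))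
theorem Q106024 : ∀ i, i < 106024 → P i := stepQ 106023 Q106023 (allL N106023 (tt N106642 (iv1 F455127)) (tt N102675 F452782) (tt N71521 F452779) (tt N71524 F452780) (tt N70920 (iv4 D209224)) (tt N110744 (iv5 F472981)) (tt N99933 (iv6 F452783)) (tt N71524 F452781))
theorem Q106025 : ∀ i, i < 106025 → P i := stepQ 106024 Q106024 (allL N106024 (tt N110812 (iv1 F473268)) (tt N116105 F498486) (tt N71522 F452784) (tt N99922 F452785) (tt N99933 F452786) (tt N117177 (iv5 F503772)) (tt N70920 (iv6 D209225)) (tt N99934 F452787))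
theorem Q106026 : ∀ i, i < 106026 → P i := stepQ 106025 Q106025 (allL N106025 (tt N121122 F524627) (tt N110394 (iv0 F471379)) (tt N121238 D224497) (tt N70921 (iv3 D209226)) (tt N121239 D224498) (tt N71217 F452788) (tt N99865 F452789) (tt N71520 F452790))
theorem Q106027 : ∀ i, i < 106027 → P i := stepQ 106026 Q106026 (allL N106026 (tt N102675 F452794) (tt N106642 (iv0 F455126)) (tt N71524 F452791) (tt N121240 D224499) (tt N70921 (iv4 D209227)) (tt N110741 (iv5 F472970)) (tt N99130 F452792) (tt N71521 F452793))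
theorem Q106028 : ∀ i, i < 106028 → P i := stepQ 106027 Q106027 (allL N106027 (tt N71529 (iv1 F452798)) (tt N70922 (iv0 D209228)) (tt N71525 (iv2 F452796)) (tt N117226 F504002) (tt N71220 F452795) (tt N110752 (iv5 F473014)) (tt N110811 F473260) (tt N71526 (iv7 F452797)))
theorem Q106029 : ∀ i, i < 106029 → P i := stepQ 106028 Q106028 (allL N106028 (tt N70922 (iv1 D209229)) (tt N71529 F452799) (tt N71526 (iv2 F452802)) (tt N121241 D224500) (tt N71223 F452801) (tt N110748 (iv5 F472998)) (tt N117223 F503984) (tt N71525 F452800))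
theorem Q106030 : ∀ i, i < 106030 → P i := stepQ 106029 Q106029 (allL N106029 (tt N117227 (iv1 F504006)) (tt N117226 F504004) (tt N117228 (iv2 F504011)) (tt N70922 (iv3 D209230)) (tt N116864 (iv4 F502235)) (tt N76858 F472837) (tt N110813 F473275) (tt N116861 (iv7 F502221)))
theorem Q106031 : ∀ i, i < 106031 → P i := stepQ 106030 Q106030 (allL N106030 (tt N72832 F452806) (tt N98982 F452807) (tt N71528 F452803) (tt N76858 F472834) (tt N71558 F452804) (tt N70922 (iv5 D209231)) (tt N119740 (iv6 F517185)) (tt N71556 F452805))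
theorem Q106032 : ∀ i, i < 106032 → P i := stepQ 106031 Q106031 (allL N106031 (tt N71526 (iv1 F452811)) (tt N71525 F452812) (tt N71529 F452808) (tt N116861 (iv3 F502218)) (tt N70923 F452809) (tt N71556 F452810) (tt N116860 F502216) (tt N70922 (iv7 D209232)))
theorem Q106033 : ∀ i, i < 106033 → P i := stepQ 106032 Q106032 (allL N106032 (tt N117230 F504022) (tt N110387 (iv0 F471355)) (tt N71530 F452813) (tt N110383 (iv3 F471331)) (tt N116860 (iv4 F502213)) (tt N71691 F452814) (tt N70923 (iv6 D209233)) (tt N116798 (iv7 F501897)))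
theorem Q106034 : ∀ i, i < 106034 → P i := stepQ 106033 Q106033 (allL N106033 (tt N98975 F452819) (tt N98996 F452820) (tt N71540 F452815) (tt N121242 D224501) (tt N70924 (iv4 D209234)) (tt N98982 F452816) (tt N75886 F452817) (tt N71536 F452818))
theorem Q106035 : ∀ i, i < 106035 → P i := stepQ 106034 Q106034 (allL N106034 (tt N71458 (iv1 F452826)) (tt N71439 F452825) (tt N70929 (iv2 D209235)) (tt N71469 F452821) (tt N92293 F452822) (tt N104643 F452823) (tt N117023 (iv6 F503009)) (tt N71459 F452824))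
theorem Q106036 : ∀ i, i < 106036 → P i := stepQ 106035 Q106035 (allL N106035 (tt N120128 (iv1 F519211)) (tt N116442 (iv0 F500138)) (tt N117023 (iv2 F503006)) (tt N70930 F452827) (tt N82324 F452828) (tt N113990 (iv5 F488090)) (tt N70929 (iv6 D209236)) (tt N108241 (iv7 F461648)))
theorem Q106037 : ∀ i, i < 106037 → P i := stepQ 106036 Q106036 (allL N106036 (tt N113038 (iv1 F483673)) (tt N70934 (iv0 D209237)) (tt N73298 (iv2 F452831)) (tt N121078 (iv3 F524400)) (tt N114055 (iv4 F488379)) (tt N73297 F452829) (tt N80687 F452830) (tt N91796 F452832))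
theorem Q106038 : ∀ i, i < 106038 → P i := stepQ 106037 Q106037 (allL N106037 (tt N89934 F452835) (tt N72148 F452836) (tt N117098 (iv2 F503370)) (tt N70940 F452833) (tt N116453 (iv4 F500204)) (tt N70934 (iv5 D209238)) (tt N70937 F452834) (tt N119988 (iv7 F518414)))
theorem Q106039 : ∀ i, i < 106039 → P i := stepQ 106038 Q106038 (allL N106038 (tt N91796 (iv1 F452840)) (tt N73298 F452841) (tt N113038 (iv2 F483668)) (tt N70941 F452837) (tt N86127 F452838) (tt N119988 (iv5 F518408)) (tt N71482 F452839) (tt N70934 (iv7 D209239)))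
theorem Q106040 : ∀ i, i < 106040 → P i := stepQ 106039 Q106039 (allL N106039 (tt N116429 F500062) (tt N118931 (iv0 F512812)) (tt N96299 F452842) (tt N70935 (iv3 D209240)) (tt N108988 F464789) (tt N96283 F452843) (tt N99989 (iv6 F452844)) (tt N117078 (iv7 F503264)))
theorem Q106041 : ∀ i, i < 106041 → P i := stepQ 106040 Q106040 (allL N106040 (tt N99895 F452849) (tt N99860 (iv0 F452850)) (tt N97059 F452845) (tt N99989 F452846) (tt N97057 F452847) (tt N106837 F455911) (tt N70935 (iv6 D209241)) (tt N71124 F452848))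
theorem Q106042 : ∀ i, i < 106042 → P i := stepQ 106041 Q106041 (allL N106041 (tt N73311 F452855) (tt N99255 (iv0 F452856)) (tt N105568 F452851) (tt N70938 (iv3 D209242)) (tt N104632 F452852) (tt N90184 F452857) (tt N82799 F452853) (tt N71658 F452854))
theorem Q106043 : ∀ i, i < 106043 → P i := stepQ 106042 Q106042 (allL N106042 (tt N89593 F452863) (tt N96110 (iv0 F452865)) (tt N71656 F452858) (tt N90184 F452859) (tt N93295 F452862) (tt N70938 (iv5 D209243)) (tt N84235 F452860) (tt N71660 F452861))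
theorem Q106044 : ∀ i, i < 106044 → P i := stepQ 106043 Q106043 (allL N106043 (tt N96110 F452871) (tt N89593 (iv0 F452873)) (tt N71660 F452867) (tt N73359 F452868) (tt N93732 F452872) (tt N70939 (iv5 D209244)) (tt N88555 F452869) (tt N71656 F452870))
theorem Q106045 : ∀ i, i < 106045 → P i := stepQ 106044 Q106044 (allL N106044 (tt N71664 (iv1 F452886)) (tt N70940 (iv0 D209245)) (tt N71661 (iv2 F452877)) (tt N99253 (iv3 F452878)) (tt N107074 (iv4 F456854)) (tt N106859 (iv5 F456035)) (tt N76070 F452876) (tt N71662 F452879))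
theorem Q106046 : ∀ i, i < 106046 → P i := stepQ 106045 Q106045 (allL N106045 (tt N70940 (iv1 D209246)) (tt N71664 F452880) (tt N71662 F452885) (tt N72186 (iv3 F452883)) (tt N107075 (iv4 F456858)) (tt N99827 F452882) (tt N72184 (iv6 F452884)) (tt N71661 F452881))
theorem Q106047 : ∀ i, i < 106047 → P i := stepQ 106046 Q106046 (allL N106046 (tt N74634 F452889) (tt N108662 (iv0 F463423)) (tt N71663 F452887) (tt N110475 (iv3 F471758)) (tt N70940 (iv4 D209247)) (tt N110468 (iv5 F471720)) (tt N70947 F452888) (tt N108663 (iv7 F463428)))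
theorem Q106048 : ∀ i, i < 106048 → P i := stepQ 106047 Q106047 (allL N106047 (tt N71662 (iv1 F452892)) (tt N71661 F452893) (tt N71664 F452890) (tt N119988 (iv3 F518410)) (tt N108663 (iv4 F463429)) (tt N70941 F452891) (tt N118375 (iv6 F510008)) (tt N70940 (iv7 D209248)))
theorem Q106049 : ∀ i, i < 106049 → P i := stepQ 106048 Q106048 (allL N106048 (tt N71676 (iv1 F452895)) (tt N70942 (iv0 D209249)) (tt N71675 F453664) (tt N72436 F452894) (tt N121135 (iv4 F524705)) (tt N118764 (iv5 F511955)) (tt N71508 (iv6 F452897)) (tt N71421 F452896))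
theorem Q106050 : ∀ i, i < 106050 → P i := stepQ 106049 Q106049 (allL N106049 (tt N71675 (iv1 F452903)) (tt N71421 (iv0 F453660)) (tt N70942 (iv2 D209250)) (tt N71666 F452898) (tt N93952 F452899) (tt N96267 F452900) (tt N108397 (iv6 F462405)) (tt N71676 F452901))
theorem Q106051 : ∀ i, i < 106051 → P i := stepQ 106050 Q106050 (allL N106050 (tt N106799 (iv1 F455734)) (tt N106801 (iv0 F455740)) (tt N71673 F452904) (tt N101661 F452906) (tt N70943 (iv4 D209251)) (tt N106105 (iv5 F453132)) (tt N107245 (iv6 F457626)) (tt N71678 F452905))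
theorem Q106052 : ∀ i, i < 106052 → P i := stepQ 106051 Q106051 (allL N106051 (tt N118764 (iv1 F511958)) (tt N99256 (iv0 F455707)) (tt N121243 D224502) (tt N70945 (iv3 D209252)) (tt N119941 (iv4 F518151)) (tt N121215 (iv5 F525176)) (tt N121079 F524410) (tt N71683 F452907))
theorem Q106053 : ∀ i, i < 106053 → P i := stepQ 106052 Q106052 (allL N106052 (tt N106794 (iv1 F455706)) (tt N95087 F452911) (tt N71681 F452908) (tt N79176 F452912) (tt N70945 (iv4 D209253)) (tt N79175 F452910) (tt N121244 D224503) (tt N71684 F452909))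
theorem Q106054 : ∀ i, i < 106054 → P i := stepQ 106053 Q106053 (allL N106053 (tt N86269 (iv1 F455641)) (tt N121245 D224504) (tt N71682 F452913) (tt N121079 F524409) (tt N121244 (iv4 F525334)) (tt N86338 F452914) (tt N70945 (iv6 D209254)) (tt N89069 F452915))
theorem Q106055 : ∀ i, i < 106055 → P i := stepQ 106054 Q106054 (allL N106054 (tt N95087 F452921) (tt N106794 (iv0 F455705)) (tt N71684 F452916) (tt N80357 F452917) (tt N70946 (iv4 D209255)) (tt N95078 F452918) (tt N89067 F452919) (tt N71681 F452920))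
theorem Q106056 : ∀ i, i < 106056 → P i := stepQ 106055 Q106055 (allL N106055 (tt N71690 (iv1 F452925)) (tt N70947 (iv0 D209256)) (tt N71686 F452928) (tt N93388 (iv3 F452923)) (tt N107131 (iv4 F457119)) (tt N94752 F452922) (tt N93387 (iv6 F452924)) (tt N71687 F452927))
theorem Q106057 : ∀ i, i < 106057 → P i := stepQ 106056 Q106056 (allL N106056 (tt N70947 (iv1 D209257)) (tt N71690 F452929) (tt N71687 F452933) (tt N111424 (iv3 F476294)) (tt N71870 F452931) (tt N111423 F476290) (tt N89070 (iv6 F452932)) (tt N71686 F452930))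
theorem Q106058 : ∀ i, i < 106058 → P i := stepQ 106057 Q106057 (allL N106057 (tt N91579 F452935) (tt N91490 (iv0 F471399)) (tt N91613 F452937) (tt N70947 (iv3 D209258)) (tt N91627 F452934) (tt N111933 (iv5 F478740)) (tt N110475 (iv6 F471761)) (tt N91614 (iv7 F452936)))
theorem Q106059 : ∀ i, i < 106059 → P i := stepQ 106058 Q106058 (allL N106058 (tt N71687 (iv1 F452942)) (tt N71686 F452943) (tt N71690 F452938) (tt N91614 F452939) (tt N70948 F452940) (tt N71714 F452941) (tt N118369 (iv6 F509969)) (tt N70947 (iv7 D209259)))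
theorem Q106060 : ∀ i, i < 106060 → P i := stepQ 106059 Q106059 (allL N106059 (tt N121246 D224505) (tt N72758 (iv0 F452947)) (tt N71691 F452944) (tt N72471 F452945) (tt N118369 F509972) (tt N71530 F452946) (tt N70948 (iv6 D209260)) (tt N118375 (iv7 F510009)))
theorem Q106061 : ∀ i, i < 106061 → P i := stepQ 106060 Q106060 (allL N106060 (tt N108408 (iv1 F462451)) (tt N73951 (iv0 F452952)) (tt N70953 F452948) (tt N71758 F452949) (tt N73238 F452950) (tt N80619 F452951) (tt N70952 (iv6 D209261)) (tt N106797 (iv7 F455722)))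
theorem Q106062 : ∀ i, i < 106062 → P i := stepQ 106061 Q106061 (allL N106061 (tt N106797 (iv1 F455723)) (tt N70953 (iv0 D209262)) (tt N108408 (iv2 F462447)) (tt N72405 F452953) (tt N108056 (iv4 F460909)) (tt N77249 (iv5 F452954)) (tt N108380 F462335) (tt N73951 (iv7 F452955)))
theorem Q106063 : ∀ i, i < 106063 → P i := stepQ 106062 Q106062 (allL N106062 (tt N70953 (iv1 D209263)) (tt N106797 F455724) (tt N73951 (iv2 F452957)) (tt N101188 (iv3 F452958)) (tt N110322 (iv4 F471042)) (tt N77250 F452956) (tt N108059 (iv6 F460928)) (tt N108408 (iv7 F462448)))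
theorem Q106064 : ∀ i, i < 106064 → P i := stepQ 106063 Q106063 (allL N106063 (tt N71847 F452962) (tt N71846 F452963) (tt N70958 F452959) (tt N92715 F452960) (tt N70957 (iv4 D209264)) (tt N120589 (iv5 F521615)) (tt N113931 (iv6 F487845)) (tt N71841 F452961))
theorem Q106065 : ∀ i, i < 106065 → P i := stepQ 106064 Q106064 (allL N106064 (tt N116215 (iv1 F499063)) (tt N117357 (iv0 F504645)) (tt N120589 F521618) (tt N120600 (iv3 F521685)) (tt N121247 D224506) (tt N70958 (iv5 D209265)) (tt N120990 (iv6 F523891)) (tt N71848 F452964))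
theorem Q106066 : ∀ i, i < 106066 → P i := stepQ 106065 Q106065 (allL N106065 (tt N121248 D224507) (tt N90246 (iv0 F452967)) (tt N108377 (iv2 F462324)) (tt N70962 F452965) (tt N102853 F452966) (tt N117178 (iv5 F503775)) (tt N70961 (iv6 D209266)) (tt N119828 (iv7 F517586)))
theorem Q106067 : ∀ i, i < 106067 → P i := stepQ 106066 Q106066 (allL N106066 (tt N71414 F452969) (tt N71412 F452970) (tt N71815 F452968) (tt N117297 (iv3 F504337)) (tt N117181 (iv4 F503795)) (tt N70963 (iv5 D209267)) (tt N120073 (iv6 F518904)) (tt N113000 (iv7 F483503)))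
theorem Q106068 : ∀ i, i < 106068 → P i := stepQ 106067 Q106067 (allL N106067 (tt N101653 F452974) (tt N121249 D224508) (tt N90288 F452971) (tt N70971 F452972) (tt N108956 (iv4 F464654)) (tt N71683 F452973) (tt N70970 (iv6 D209268)) (tt N121215 (iv7 F525177)))
theorem Q106069 : ∀ i, i < 106069 → P i := stepQ 106068 Q106068 (allL N106068 (tt N71767 (iv1 F452979)) (tt N71854 F452978) (tt N70972 (iv2 D209269)) (tt N71861 F452975) (tt N89272 F452976) (tt N113871 (iv5 F487561)) (tt N121213 (iv6 F525163)) (tt N71855 F452977))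
theorem Q106070 : ∀ i, i < 106070 → P i := stepQ 106069 Q106069 (allL N106069 (tt N70974 (iv1 D209270)) (tt N71199 F452980) (tt N71869 F452985) (tt N115946 F497717) (tt N95587 F452982) (tt N95609 F452983) (tt N71814 (iv6 F452984)) (tt N71021 F452981))
theorem Q106071 : ∀ i, i < 106071 → P i := stepQ 106070 Q106070 (allL N106070 (tt N120137 F519264) (tt N108048 (iv0 F460876)) (tt N71933 F452986) (tt N117794 (iv3 F507005)) (tt N70977 F452987) (tt N90474 F452988) (tt N70975 (iv6 D209271)) (tt N120960 (iv7 F523717)))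
theorem Q106072 : ∀ i, i < 106072 → P i := stepQ 106071 Q106071 (allL N106071 (tt N72018 F452992) (tt N72013 F452993) (tt N71967 F452989) (tt N70979 F452990) (tt N120878 (iv4 F523239)) (tt N70978 (iv5 D209272)) (tt N121046 (iv6 F524209)) (tt N71931 F452991))
theorem Q106073 : ∀ i, i < 106073 → P i := stepQ 106072 Q106072 (allL N106072 (tt N71015 (iv1 F452998)) (tt N72108 (iv0 F452997)) (tt N71929 F452994) (tt N121046 (iv3 F524208)) (tt N104627 F452995) (tt N121217 (iv5 F525188)) (tt N70979 (iv6 D209273)) (tt N72107 F452996))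
theorem Q106074 : ∀ i, i < 106074 → P i := stepQ 106073 Q106073 (allL N106073 (tt N114969 F492828) (tt N106496 F489878) (tt N71951 F452999) (tt N116510 (iv3 F500529)) (tt N120639 (iv4 F521902)) (tt N121250 D224509) (tt N70982 (iv6 D209274)) (tt N121251 D224510))
theorem Q106075 : ∀ i, i < 106075 → P i := stepQ 106074 Q106074 (allL N106074 (tt N71968 F453003) (tt N71973 (iv0 F453005)) (tt N71970 F453000) (tt N70983 (iv3 D209275)) (tt N105492 F453004) (tt N96126 F453001) (tt N105491 (iv6 F453006)) (tt N71949 F453002))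
theorem Q106076 : ∀ i, i < 106076 → P i := stepQ 106075 Q106075 (allL N106075 (tt N103588 F453012) (tt N103671 (iv0 F453011)) (tt N71948 F453008) (tt N105491 F453009) (tt N104451 F453010) (tt N115079 (iv5 F493381)) (tt N70983 (iv6 D209276)) (tt N120858 (iv7 F523120)))
theorem Q106077 : ∀ i, i < 106077 → P i := stepQ 106076 Q106076 (allL N106076 (tt N117321 (iv1 F504455)) (tt N111000 (iv0 F474173)) (tt N110102 (iv2 F469996)) (tt N117329 (iv3 F504484)) (tt N110115 (iv4 F470056)) (tt N90053 F453013) (tt N70986 (iv6 D209277)) (tt N110114 (iv7 F470054)))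
theorem Q106078 : ∀ i, i < 106078 → P i := stepQ 106077 Q106077 (allL N106077 (tt N96466 F453019) (tt N96465 F453018) (tt N71898 F453014) (tt N116783 (iv3 F501808)) (tt N96314 F453015) (tt N70987 (iv5 D209278)) (tt N77129 F453016) (tt N71892 F453017))
theorem Q106079 : ∀ i, i < 106079 → P i := stepQ 106078 Q106078 (allL N106078 (tt N118136 (iv1 F508801)) (tt N104181 F453025) (tt N77892 F453020) (tt N82103 F453021) (tt N96731 F453022) (tt N70996 (iv5 D209279)) (tt N77809 F453023) (tt N99030 F453024))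
theorem Q106080 : ∀ i, i < 106080 → P i := stepQ 106079 Q106079 (allL N106079 (tt N105587 (iv1 F453032)) (tt N71897 F453031) (tt N71000 (iv2 D209280)) (tt N97716 F453026) (tt N92157 F453027) (tt N99390 F453028) (tt N92153 F453029) (tt N92154 F453030))
theorem Q106081 : ∀ i, i < 106081 → P i := stepQ 106080 Q106080 (allL N106080 (tt N111129 F474829) (tt N105596 (iv0 F453036)) (tt N71007 F453033) (tt N72067 F453034) (tt N103633 F453035) (tt N113489 (iv5 F485739)) (tt N71005 (iv6 D209281)) (tt N116279 (iv7 F499330)))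
theorem Q106082 : ∀ i, i < 106082 → P i := stepQ 106081 Q106081 (allL N106081 (tt N71007 (iv1 D209282)) (tt N116279 (iv0 F499331)) (tt N105596 F467067) (tt N120648 (iv3 F521947)) (tt N120835 (iv4 F522990)) (tt N113449 (iv5 F485537)) (tt N105594 (iv6 F467066)) (tt N111129 (iv7 F474828)))
theorem Q106083 : ∀ i, i < 106083 → P i := stepQ 106082 Q106082 (allL N106082 (tt N113520 F485883) (tt N113211 (iv0 F484502)) (tt N113489 (iv2 F485738)) (tt N71008 F453037) (tt N121252 D224511) (tt N71007 (iv5 D209283)) (tt N117797 (iv6 F507023)) (tt N113519 (iv7 F485878)))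
theorem Q106084 : ∀ i, i < 106084 → P i := stepQ 106083 Q106083 (allL N106083 (tt N72078 (iv1 F453039)) (tt N71008 (iv0 D209284)) (tt N72075 (iv2 F453038)) (tt N113478 (iv3 F485675)) (tt N73616 (iv4 F453041)) (tt N106987 (iv5 F456530)) (tt N113482 (iv6 F485698)) (tt N72076 F453040))
theorem Q106085 : ∀ i, i < 106085 → P i := stepQ 106084 Q106084 (allL N106084 (tt N106594 F454990) (tt N106597 (iv0 F454998)) (tt N72077 F453042) (tt N119888 (iv3 F517875)) (tt N71008 (iv4 D209285)) (tt N76594 F453044) (tt N106620 F455075) (tt N76794 F453043))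
theorem Q106086 : ∀ i, i < 106086 → P i := stepQ 106085 Q106085 (allL N106085 (tt N83189 F453047) (tt N101802 F453048) (tt N110302 (iv2 F470933)) (tt N71013 F453045) (tt N118988 (iv4 F513144)) (tt N71011 (iv5 D209286)) (tt N83205 F453046) (tt N110301 F470930))
theorem Q106087 : ∀ i, i < 106087 → P i := stepQ 106086 Q106086 (allL N106086 (tt N71013 (iv1 D209287)) (tt N72090 F453049) (tt N72088 F453053) (tt N106955 (iv3 F456429)) (tt N108662 (iv4 F463421)) (tt N73314 (iv5 F453051)) (tt N78102 (iv6 F453052)) (tt N72087 F453050))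
theorem Q106088 : ∀ i, i < 106088 → P i := stepQ 106087 Q106087 (allL N106087 (tt N106759 (iv1 F455574)) (tt N106760 (iv0 F455578)) (tt N72089 F453054) (tt N110930 (iv3 F473840)) (tt N71013 (iv4 D209288)) (tt N117792 (iv5 F506995)) (tt N106772 F455617) (tt N118145 (iv7 F508842)))
theorem Q106089 : ∀ i, i < 106089 → P i := stepQ 106088 Q106088 (allL N106088 (tt N72088 (iv1 F453057)) (tt N72087 F453058) (tt N72090 F453055) (tt N110301 F470929) (tt N118145 (iv4 F508840)) (tt N71014 F453056) (tt N99401 F453059) (tt N71013 (iv7 D209289)))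
theorem Q106090 : ∀ i, i < 106090 → P i := stepQ 106089 Q106089 (allL N106089 (tt N72107 (iv1 F453063)) (tt N71929 F453062) (tt N71015 (iv2 D209290)) (tt N72097 F453060) (tt N120690 (iv4 F522166)) (tt N113261 (iv5 F484754)) (tt N113809 (iv6 F487212)) (tt N72108 F453061))
theorem Q106091 : ∀ i, i < 106091 → P i := stepQ 106090 Q106090 (allL N106090 (tt N89060 F453066) (tt N121253 D224512) (tt N113261 (iv2 F484753)) (tt N71017 F453064) (tt N100333 F453068) (tt N71015 (iv5 D209291)) (tt N105678 (iv6 F453067)) (tt N72109 F453065))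
theorem Q106092 : ∀ i, i < 106092 → P i := stepQ 106091 Q106091 (allL N106091 (tt N90096 F453071) (tt N116350 (iv0 F499667)) (tt N72104 F453069) (tt N119650 (iv3 F516709)) (tt N71017 (iv4 D209292)) (tt N115941 F497693) (tt N120482 (iv6 F520999)) (tt N72111 F453070))
theorem Q106093 : ∀ i, i < 106093 → P i := stepQ 106092 Q106092 (allL N106092 (tt N110102 F470000) (tt N110114 (iv0 F470053)) (tt N111000 (iv2 F474170)) (tt N71019 F453072) (tt N100085 F453073) (tt N100052 F453074) (tt N71018 (iv6 D209293)) (tt N117321 (iv7 F504453)))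
theorem Q106094 : ∀ i, i < 106094 → P i := stepQ 106093 Q106093 (allL N106093 (tt N95602 F453079) (tt N91904 (iv0 F453080)) (tt N71030 F453075) (tt N81008 F453076) (tt N101984 F453077) (tt N71709 F453078) (tt N71029 (iv6 D209294)) (tt N111475 (iv7 F476518)))
theorem Q106095 : ∀ i, i < 106095 → P i := stepQ 106094 Q106094 (allL N106094 (tt N111475 (iv1 F476519)) (tt N71030 (iv0 D209295)) (tt N95602 (iv2 F453083)) (tt N91907 F453082) (tt N117702 (iv4 F506510)) (tt N95601 F453081) (tt N111065 (iv6 F474494)) (tt N91904 (iv7 F453084)))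
theorem Q106096 : ∀ i, i < 106096 → P i := stepQ 106095 Q106095 (allL N106095 (tt N71030 (iv1 D209296)) (tt N111475 (iv0 F476521)) (tt N91904 F453089) (tt N95540 (iv3 F453086)) (tt N117699 (iv4 F506492)) (tt N95539 (iv5 F453087)) (tt N91903 (iv6 F453088)) (tt N95602 F453085))
theorem Q106097 : ∀ i, i < 106097 → P i := stepQ 106096 Q106096 (allL N106096 (tt N94946 F453092) (tt N95595 F453093) (tt N106105 (iv2 F453128)) (tt N81721 F453090) (tt N71031 (iv4 D209297)) (tt N71673 F453091) (tt N107737 F459476) (tt N108312 (iv7 F462020)))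
theorem Q106098 : ∀ i, i < 106098 → P i := stepQ 106097 Q106097 (allL N106097 (tt N96721 (iv1 F453098)) (tt N112046 (iv0 F479243)) (tt N96617 F453094) (tt N91995 F453095) (tt N92873 F453096) (tt N81600 F453097) (tt N71032 (iv6 D209298)) (tt N110594 (iv7 F472297)))
theorem Q106099 : ∀ i, i < 106099 → P i := stepQ 106098 Q106098 (allL N106098 (tt N117098 F503376) (tt N119988 F518413) (tt N72148 F453099) (tt N105524 F453100) (tt N71034 (iv4 D209299)) (tt N105108 F453101) (tt N72146 F453102) (tt N89934 F453103))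
theorem Q106100 : ∀ i, i < 106100 → P i := stepQ 106099 Q106099 (allL N106099 (tt N102401 F453108) (tt N102400 (iv0 F453109)) (tt N75296 F453104) (tt N71037 (iv3 D209300)) (tt N75293 F453105) (tt N112310 (iv5 F480481)) (tt N79335 F453106) (tt N104247 F453107))
theorem Q106101 : ∀ i, i < 106101 → P i := stepQ 106100 Q106100 (allL N106100 (tt N106116 (iv1 F453197)) (tt N71045 (iv0 D209301)) (tt N106113 F453183) (tt N108951 F464631) (tt N93582 F453110) (tt N115528 (iv5 F495645)) (tt N108950 (iv6 F464632)) (tt N106114 F453182))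
theorem Q106102 : ∀ i, i < 106102 → P i := stepQ 106101 Q106101 (allL N106101 (tt N115634 (iv1 F496067)) (tt N84632 (iv0 F453113)) (tt N106115 (iv2 F453190)) (tt N78270 F453111) (tt N111898 (iv4 F478557)) (tt N71045 (iv5 D209302)) (tt N96803 F453112) (tt N114103 (iv7 F488572)))
theorem Q106103 : ∀ i, i < 106103 → P i := stepQ 106102 Q106102 (allL N106102 (tt N92552 F453116) (tt N95319 (iv0 F453117)) (tt N106124 (iv2 F453233)) (tt N92305 F453114) (tt N71047 (iv4 D209303)) (tt N108701 (iv5 F463614)) (tt N118467 (iv6 F510525)) (tt N92444 F453115))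
theorem Q106104 : ∀ i, i < 106104 → P i := stepQ 106103 Q106103 (allL N106103 (tt N87468 F453122) (tt N87475 F453121) (tt N87473 F453118) (tt N93729 F453119) (tt N108729 (iv4 F463730)) (tt N71047 (iv5 D209304)) (tt N98475 (iv6 F453123)) (tt N87472 F453120))
theorem Q106105 : ∀ i, i < 106105 → P i := stepQ 106104 Q106104 (allL N106104 (tt N121254 D224513) (tt N108950 (iv0 F464627)) (tt N102869 F453125) (tt N79483 F453126) (tt N108704 (iv4 F463629)) (tt N79482 F453127) (tt N71048 (iv6 D209305)) (tt N111108 (iv7 F474710)))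
theorem Q106106 : ∀ i, i < 106106 → P i := stepQ 106105 Q106105 (allL N106105 (tt N95467 F453133) (tt N94976 F453134) (tt N106096 F453128) (tt N73210 F453129) (tt N71050 (iv4 D209306)) (tt N106050 F453132) (tt N101119 F453130) (tt N101649 F453131))
theorem Q106107 : ∀ i, i < 106107 → P i := stepQ 106106 Q106106 (allL N106106 (tt N78663 (iv1 F453141)) (tt N71053 (iv0 D209307)) (tt N95539 (iv2 F453138)) (tt N91906 F453139) (tt N92093 F453136) (tt N91904 F453135) (tt N80249 F453137) (tt N95601 F453140))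
theorem Q106108 : ∀ i, i < 106108 → P i := stepQ 106107 Q106107 (allL N106107 (tt N95601 (iv1 F453147)) (tt N95539 F453148) (tt N78663 F453142) (tt N81593 F453143) (tt N82536 F453144) (tt N91959 F453145) (tt N78662 F453146) (tt N71053 (iv7 D209308)))
theorem Q106109 : ∀ i, i < 106109 → P i := stepQ 106108 Q106108 (allL N106108 (tt N90770 F453154) (tt N90760 (iv0 F453155)) (tt N78257 F453149) (tt N81613 F453150) (tt N93738 F453151) (tt N81610 F453152) (tt N71054 (iv6 D209309)) (tt N90713 F453153))
theorem Q106110 : ∀ i, i < 106110 → P i := stepQ 106109 Q106109 (allL N106109 (tt N103151 F453159) (tt N119366 (iv0 F515243)) (tt N119238 (iv2 F514546)) (tt N73689 F453156) (tt N81696 F453157) (tt N114224 F489077) (tt N71056 (iv6 D209310)) (tt N91365 F453158))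
theorem Q106111 : ∀ i, i < 106111 → P i := stepQ 106110 Q106110 (allL N106110 (tt N90659 (iv1 F453166)) (tt N86351 F453167) (tt N90658 F453161) (tt N71064 F453162) (tt N99467 F453163) (tt N79973 F453164) (tt N73666 F453165) (tt N71058 (iv7 D209311)))
theorem Q106112 : ∀ i, i < 106112 → P i := stepQ 106111 Q106111 (allL N106111 (tt N72420 F453172) (tt N73296 F453173) (tt N73231 F453168) (tt N73306 F453169) (tt N71059 (iv4 D209312)) (tt N91796 F453170) (tt N89950 (iv6 F453174)) (tt N73297 F453171))
theorem Q106113 : ∀ i, i < 106113 → P i := stepQ 106112 Q106112 (allL N106112 (tt N112118 F479576) (tt N90588 (iv0 F453178)) (tt N117919 (iv2 F507595)) (tt N71060 F453175) (tt N89950 F453176) (tt N117198 (iv5 F503872)) (tt N71059 (iv6 D209313)) (tt N89947 F453177))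
theorem Q106114 : ∀ i, i < 106114 → P i := stepQ 106113 Q106113 (allL N106113 (tt N91347 (iv1 F453187)) (tt N71060 (iv0 D209314)) (tt N106100 (iv2 F453183)) (tt N87220 (iv3 F453186)) (tt N92504 F453184) (tt N87219 F453188) (tt N117669 (iv6 F506322)) (tt N103149 F453185))
theorem Q106115 : ∀ i, i < 106115 → P i := stepQ 106114 Q106114 (allL N106114 (tt N71060 (iv1 D209315)) (tt N91347 F453179) (tt N103149 (iv2 F453181)) (tt N119366 (iv3 F515239)) (tt N92505 F453180) (tt N114106 (iv5 F488583)) (tt N108269 (iv6 F461801)) (tt N106100 (iv7 F453182)))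
theorem Q106116 : ∀ i, i < 106116 → P i := stepQ 106115 Q106115 (allL N106115 (tt N114180 (iv1 F488871)) (tt N114218 F489047) (tt N106101 F453190) (tt N117198 F503873) (tt N118898 (iv4 F512639)) (tt N71060 (iv5 D209316)) (tt N92331 F453191) (tt N87371 (iv7 F453200)))
theorem Q106117 : ∀ i, i < 106117 → P i := stepQ 106116 Q106116 (allL N106116 (tt N103149 (iv1 F453196)) (tt N106100 F453197) (tt N91347 F453192) (tt N89947 F453193) (tt N92401 F453194) (tt N87371 (iv5 F453198)) (tt N87372 F453195) (tt N71060 (iv7 D209317)))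
theorem Q106118 : ∀ i, i < 106118 → P i := stepQ 106117 Q106117 (allL N106117 (tt N92315 (iv1 F453202)) (tt N71061 (iv0 D209318)) (tt N92317 (iv2 F453204)) (tt N119842 F517652) (tt N93294 F453201) (tt N92333 F453203) (tt N116803 (iv6 F501922)) (tt N92316 (iv7 F453205)))
theorem Q106119 : ∀ i, i < 106119 → P i := stepQ 106118 Q106118 (allL N106118 (tt N71061 (iv1 D209319)) (tt N92315 F453210) (tt N92316 (iv2 F453209)) (tt N116281 (iv3 F499339)) (tt N93293 (iv4 F453208)) (tt N92334 F453207) (tt N116385 (iv6 F499822)) (tt N92317 F453206))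
theorem Q106120 : ∀ i, i < 106120 → P i := stepQ 106119 Q106119 (allL N106119 (tt N92317 (iv1 F453215)) (tt N92316 F453214) (tt N71061 (iv2 D209320)) (tt N73324 F453211) (tt N118306 (iv4 F509617)) (tt N73323 F453212) (tt N117855 (iv6 F507291)) (tt N92315 F453213))
theorem Q106121 : ∀ i, i < 106121 → P i := stepQ 106120 Q106120 (allL N106120 (tt N120496 F521089) (tt N117823 (iv0 F507136)) (tt N117855 (iv2 F507286)) (tt N71062 F453216) (tt N108152 (iv4 F461320)) (tt N95400 F453227) (tt N71061 (iv6 D209321)) (tt N117857 (iv7 F507299)))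
theorem Q106122 : ∀ i, i < 106122 → P i := stepQ 106121 Q106121 (allL N106121 (tt N71062 (iv1 D209322)) (tt N91315 F453217) (tt N90971 (iv2 F453220)) (tt N118167 (iv3 F508966)) (tt N90979 F453219) (tt N99623 (iv5 F453221)) (tt N118746 (iv6 F511865)) (tt N92513 F453218))
theorem Q106123 : ∀ i, i < 106123 → P i := stepQ 106122 Q106122 (allL N106122 (tt N76049 F453225) (tt N111931 (iv0 F478729)) (tt N92514 F453222) (tt N95400 (iv3 F453226)) (tt N74518 F453224) (tt N71062 (iv5 D209323)) (tt N92324 F453223) (tt N110592 (iv7 F472278)))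
theorem Q106124 : ∀ i, i < 106124 → P i := stepQ 106123 Q106123 (allL N106123 (tt N90971 (iv1 F453231)) (tt N92513 F453232) (tt N91315 F453228) (tt N117857 (iv3 F507298)) (tt N71064 F453229) (tt N110592 (iv5 F472276)) (tt N92323 F453230) (tt N71062 (iv7 D209324)))
theorem Q106125 : ∀ i, i < 106125 → P i := stepQ 106124 Q106124 (allL N106124 (tt N106125 (iv1 F453242)) (tt N92366 (iv0 F453237)) (tt N106102 F453233) (tt N74297 F453234) (tt N71063 (iv4 D209325)) (tt N74284 F453236) (tt N119367 (iv6 F515247)) (tt N74283 F453235))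
theorem Q106126 : ∀ i, i < 106126 → P i := stepQ 106125 Q106125 (allL N106125 (tt N92444 (iv1 F453241)) (tt N106124 F453242) (tt N92552 F453238) (tt N119906 (iv3 F517964)) (tt N90978 F453239) (tt N108047 (iv5 F460872)) (tt N71065 (iv6 D209326)) (tt N95319 F453240))
theorem Q106127 : ∀ i, i < 106127 → P i := stepQ 106126 Q106126 (allL N106126 (tt N92259 F453245) (tt N103398 F453247) (tt N103403 F453243) (tt N109594 (iv3 F467636)) (tt N86133 F453246) (tt N71069 (iv5 D209327)) (tt N98279 F453248) (tt N103404 F453244))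
theorem Q106128 : ∀ i, i < 106128 → P i := stepQ 106127 Q106127 (allL N106127 (tt N98662 F453253) (tt N98660 F453252) (tt N71071 F453249) (tt N117763 (iv3 F506849)) (tt N92861 F453250) (tt N71070 (iv5 D209328)) (tt N98681 (iv6 F453254)) (tt N78791 F453251))
theorem Q106129 : ∀ i, i < 106129 → P i := stepQ 106128 Q106128 (allL N106128 (tt N120815 (iv1 F522880)) (tt N104596 (iv0 F453262)) (tt N71072 F453255) (tt N86917 F453256) (tt N82524 F453257) (tt N103873 (iv5 F453259)) (tt N71070 (iv6 D209329)) (tt N87914 F453258))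
theorem Q106130 : ∀ i, i < 106130 → P i := stepQ 106129 Q106129 (allL N106129 (tt N98675 (iv1 F453267)) (tt N98672 (iv0 F453268)) (tt N98681 F453263) (tt N71073 F453264) (tt N92864 F453265) (tt N109432 (iv5 F466926)) (tt N71071 (iv6 D209330)) (tt N78793 F453266))
theorem Q106131 : ∀ i, i < 106131 → P i := stepQ 106130 Q106130 (allL N106130 (tt N71072 (iv1 D209331)) (tt N87914 F453269) (tt N104596 (iv2 F453271)) (tt N118022 (iv3 F508136)) (tt N103457 F453270) (tt N109444 (iv5 F466985)) (tt N118021 F508134) (tt N120815 (iv7 F522878)))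
theorem Q106132 : ∀ i, i < 106132 → P i := stepQ 106131 Q106131 (allL N106131 (tt N103791 (iv1 F453277)) (tt N103874 (iv0 F453275)) (tt N103873 F453272) (tt N71074 F453273) (tt N105849 F453276) (tt N71072 (iv5 D209332)) (tt N109432 (iv6 F466927)) (tt N92267 F453274))
theorem Q106133 : ∀ i, i < 106133 → P i := stepQ 106132 Q106132 (allL N106132 (tt N104596 (iv1 F453283)) (tt N120815 (iv0 F522879)) (tt N87914 F453278) (tt N71075 F453279) (tt N87911 F453280) (tt N92267 F453281) (tt N75088 F453282) (tt N71072 (iv7 D209333)))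
theorem Q106134 : ∀ i, i < 106134 → P i := stepQ 106133 Q106133 (allL N106133 (tt N71073 (iv1 D209334)) (tt N98621 F453287) (tt N98593 (iv2 F453285)) (tt N119632 (iv3 F516613)) (tt N104523 (iv4 F453286)) (tt N119527 (iv5 F516070)) (tt N119065 (iv6 F513593)) (tt N98622 F453284))
theorem Q106135 : ∀ i, i < 106135 → P i := stepQ 106134 Q106134 (allL N106134 (tt N121255 D224514) (tt N120928 (iv0 F523535)) (tt N117765 (iv2 F506858)) (tt N109432 F466931) (tt N120667 (iv4 F522058)) (tt N71073 (iv5 D209335)) (tt N71074 F453291) (tt N120665 (iv7 F522046)))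
theorem Q106136 : ∀ i, i < 106136 → P i := stepQ 106135 Q106135 (allL N106135 (tt N98593 (iv1 F453296)) (tt N98622 F453297) (tt N98621 F453292) (tt N78793 F453293) (tt N71314 F453294) (tt N120665 (iv5 F522045)) (tt N78792 F453295) (tt N71073 (iv7 D209336)))
theorem Q106137 : ∀ i, i < 106137 → P i := stepQ 106136 Q106136 (allL N106136 (tt N103884 F453300) (tt N103886 F453301) (tt N118798 (iv2 F512129)) (tt N102616 F453298) (tt N71074 (iv4 D209337)) (tt N103595 F453299) (tt N120667 (iv6 F522060)) (tt N102613 F453302))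
theorem Q106138 : ∀ i, i < 106138 → P i := stepQ 106137 Q106137 (allL N106137 (tt N102570 (iv1 F453307)) (tt N102567 F453308) (tt N104546 F453303) (tt N92267 F453304) (tt N102613 F453305) (tt N71075 F453306) (tt N92265 F453309) (tt N71074 (iv7 D209338)))
theorem Q106139 : ∀ i, i < 106139 → P i := stepQ 106138 Q106138 (allL N106138 (tt N71077 (iv1 D209339)) (tt N111175 F475093) (tt N98628 F453312) (tt N116352 (iv3 F499673)) (tt N90092 (iv4 F453311)) (tt N116352 (iv5 F499676)) (tt N116350 F499669) (tt N90089 F453310))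
theorem Q106140 : ∀ i, i < 106140 → P i := stepQ 106139 Q106139 (allL N106139 (tt N98628 (iv1 F453315)) (tt N90089 F453316) (tt N111175 (iv2 F475088)) (tt N111316 (iv3 F475782)) (tt N71265 F453313) (tt N98689 F453314) (tt N117761 (iv6 F506843)) (tt N71077 (iv7 D209340)))
theorem Q106141 : ∀ i, i < 106141 → P i := stepQ 106140 Q106140 (allL N106140 (tt N104618 F453317) (tt N116688 (iv0 F501311)) (tt N117753 (iv2 F506792)) (tt N121189 (iv3 F525035)) (tt N71078 (iv4 D209341)) (tt N121256 D224515) (tt N111177 (iv6 F475097)) (tt N120826 (iv7 F522950)))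
theorem Q106142 : ∀ i, i < 106142 → P i := stepQ 106141 Q106141 (allL N106141 (tt N111251 (iv1 F475442)) (tt N75708 (iv0 F453322)) (tt N98670 F453318) (tt N71085 F453319) (tt N79054 F453320) (tt N78786 F453321) (tt N71082 (iv6 D209342)) (tt N97819 (iv7 F453323)))
theorem Q106143 : ∀ i, i < 106143 → P i := stepQ 106142 Q106142 (allL N106142 (tt N93217 F453329) (tt N93194 F453328) (tt N93062 F453324) (tt N100522 F453325) (tt N92954 F453327) (tt N71083 (iv5 D209343)) (tt N92952 F453326) (tt N115311 (iv7 F494519)))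
theorem Q106144 : ∀ i, i < 106144 → P i := stepQ 106143 Q106143 (allL N106143 (tt N113315 (iv1 F484987)) (tt N119161 (iv0 F514122)) (tt N86138 F453331) (tt N86057 F453332) (tt N71084 (iv4 D209344)) (tt N109648 (iv5 F467919)) (tt N86055 F453333) (tt N120882 (iv7 F523266)))
theorem Q106145 : ∀ i, i < 106145 → P i := stepQ 106144 Q106144 (allL N106144 (tt N119671 (iv1 F516830)) (tt N119555 (iv0 F516227)) (tt N119530 (iv2 F516085)) (tt N71088 F453334) (tt N86136 F453336) (tt N71086 (iv5 D209345)) (tt N117739 (iv6 F506722)) (tt N86131 F453335))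
theorem Q106146 : ∀ i, i < 106146 → P i := stepQ 106145 Q106145 (allL N106145 (tt N88760 F453340) (tt N104540 (iv0 F453339)) (tt N120808 (iv2 F522838)) (tt N71089 F453337) (tt N102930 F453338) (tt N104534 F453361) (tt N71086 (iv6 D209346)) (tt N120881 (iv7 F523258)))
theorem Q106147 : ∀ i, i < 106147 → P i := stepQ 106146 Q106146 (allL N106146 (tt N93194 F453344) (tt N93217 F453343) (tt N115311 (iv2 F494523)) (tt N88318 F453341) (tt N109649 (iv4 F467924)) (tt N71087 (iv5 D209347)) (tt N115715 (iv6 F496471)) (tt N93062 F453342))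
theorem Q106148 : ∀ i, i < 106148 → P i := stepQ 106147 Q106147 (allL N106147 (tt N116131 (iv1 F498647)) (tt N116130 (iv0 F498640)) (tt N119523 (iv2 F516048)) (tt N93071 F453345) (tt N71089 F453346) (tt N97511 (iv5 F453348)) (tt N71087 (iv6 D209348)) (tt N117737 (iv7 F506713)))
theorem Q106149 : ∀ i, i < 106149 → P i := stepQ 106148 Q106148 (allL N106148 (tt N119161 F514123) (tt N113315 (iv0 F484986)) (tt N120882 (iv2 F523262)) (tt N86142 F453349) (tt N71088 (iv4 D209349)) (tt N109650 (iv5 F467927)) (tt N119040 (iv6 F513442)) (tt N86138 F453350))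
theorem Q106150 : ∀ i, i < 106150 → P i := stepQ 106149 Q106149 (allL N106149 (tt N71089 (iv1 D209350)) (tt N103865 F453351) (tt N103783 F453356) (tt N103547 (iv3 F453354)) (tt N93243 (iv4 F453353)) (tt N78918 F453357) (tt N85058 (iv6 F453355)) (tt N103866 F453352))
theorem Q106151 : ∀ i, i < 106151 → P i := stepQ 106150 Q106150 (allL N106150 (tt N103868 F453359) (tt N120838 (iv0 F523010)) (tt N120839 F523015) (tt N104534 (iv3 F453360)) (tt N104005 F453358) (tt N71089 (iv5 D209351)) (tt N119146 (iv6 F514030)) (tt N119506 (iv7 F515962)))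
theorem Q106152 : ∀ i, i < 106152 → P i := stepQ 106151 Q106151 (allL N106151 (tt N103783 F466940) (tt N103866 F466941) (tt N103865 F453364) (tt N120881 (iv3 F523256)) (tt N117737 (iv4 F506711)) (tt N119506 (iv5 F515961)) (tt N98613 F453365) (tt N71089 (iv7 D209352)))
theorem Q106153 : ∀ i, i < 106153 → P i := stepQ 106152 Q106152 (allL N106152 (tt N120400 (iv1 F520588)) (tt N109655 (iv0 F467958)) (tt N118197 (iv2 F509092)) (tt N114910 (iv3 F492483)) (tt N71091 (iv4 D209353)) (tt N96103 F453367) (tt N96026 F453366) (tt N114909 (iv7 F492480)))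
theorem Q106154 : ∀ i, i < 106154 → P i := stepQ 106153 Q106153 (allL N106153 (tt N109655 (iv1 F467959)) (tt N120400 (iv0 F520587)) (tt N114909 (iv2 F492476)) (tt N111159 (iv3 F474995)) (tt N71092 (iv4 D209354)) (tt N103030 F453368) (tt N111158 (iv6 F474993)) (tt N118197 (iv7 F509095)))
theorem Q106155 : ∀ i, i < 106155 → P i := stepQ 106154 Q106154 (allL N106154 (tt N100653 (iv1 F453370)) (tt N71093 (iv0 D209355)) (tt N101413 (iv2 F453371)) (tt N105627 (iv3 F453372)) (tt N120899 (iv4 F523359)) (tt N105626 F453369) (tt N94116 (iv6 F453373)) (tt N101414 (iv7 F453374)))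
theorem Q106156 : ∀ i, i < 106156 → P i := stepQ 106155 Q106155 (allL N106155 (tt N71093 (iv1 D209356)) (tt N100653 F453375) (tt N101414 (iv2 F453378)) (tt N105562 (iv3 F490908)) (tt N120853 (iv4 F523092)) (tt N98215 F453377) (tt N107793 (iv6 F459748)) (tt N101413 F453376))
theorem Q106157 : ∀ i, i < 106157 → P i := stepQ 106156 Q106156 (allL N106156 (tt N121009 (iv1 F523997)) (tt N103717 (iv0 F453381)) (tt N105158 (iv2 F453382)) (tt N71094 (iv3 D209357)) (tt N105157 F453379) (tt N103704 F453380) (tt N111218 (iv6 F475271)) (tt N118653 (iv7 F511366)))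
theorem Q106158 : ∀ i, i < 106158 → P i := stepQ 106157 Q106157 (allL N106157 (tt N103732 F453384) (tt N116211 (iv0 F499040)) (tt N116891 (iv2 F502375)) (tt N111218 F475270) (tt N91705 F453383) (tt N116217 (iv5 F499070)) (tt N71094 (iv6 D209358)) (tt N116790 (iv7 F501849)))
theorem Q106159 : ∀ i, i < 106159 → P i := stepQ 106158 Q106158 (allL N106158 (tt N103718 F453387) (tt N115334 F494646) (tt N105457 (iv2 F453389)) (tt N71095 (iv3 D209359)) (tt N105456 F453385) (tt N103703 F453386) (tt N92865 (iv6 F453390)) (tt N119685 (iv7 F516909)))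
theorem Q106160 : ∀ i, i < 106160 → P i := stepQ 106159 Q106159 (allL N106159 (tt N108006 F460694) (tt N103730 (iv0 F453392)) (tt N119612 (iv2 F516510)) (tt N92865 F453391) (tt N109534 (iv4 F467413)) (tt N109160 (iv5 F465627)) (tt N71095 (iv6 D209360)) (tt N119613 (iv7 F516518)))
theorem Q106161 : ∀ i, i < 106161 → P i := stepQ 106160 Q106160 (allL N106160 (tt N101861 (iv1 F453397)) (tt N77189 (iv0 F453398)) (tt N103113 F453393) (tt N71097 (iv3 D209361)) (tt N77325 F453396) (tt N103123 F453394) (tt N119378 (iv6 F515309)) (tt N77324 F453395))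
theorem Q106162 : ∀ i, i < 106162 → P i := stepQ 106161 Q106161 (allL N106161 (tt N112361 (iv1 F480746)) (tt N81487 F453399) (tt N112387 (iv2 F480862)) (tt N108360 (iv3 F462246)) (tt N71097 (iv4 D209362)) (tt N106363 (iv5 F454151)) (tt N108359 (iv6 F462241)) (tt N112389 (iv7 F480878)))
theorem Q106163 : ∀ i, i < 106163 → P i := stepQ 106162 Q106162 (allL N106162 (tt N116458 F500237) (tt N99896 (iv0 F453400)) (tt N112388 (iv2 F480868)) (tt N119378 (iv3 F515308)) (tt N108359 (iv4 F462244)) (tt N106826 (iv5 F455857)) (tt N71097 (iv6 D209363)) (tt N106731 (iv7 F455454)))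
theorem Q106164 : ∀ i, i < 106164 → P i := stepQ 106163 Q106163 (allL N106163 (tt N81487 F453402) (tt N112361 (iv0 F480745)) (tt N112389 (iv2 F480875)) (tt N104962 F453403) (tt N71098 (iv4 D209364)) (tt N106301 (iv5 F453946)) (tt N90482 F453401) (tt N112387 (iv7 F480863)))
theorem Q106165 : ∀ i, i < 106165 → P i := stepQ 106164 Q106164 (allL N106164 (tt N100515 (iv1 F453410)) (tt N100514 (iv0 F453409)) (tt N79623 F453404) (tt N71099 (iv3 D209365)) (tt N102806 F453405) (tt N76525 F453406) (tt N79621 F453407) (tt N94066 F453408))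
theorem Q106166 : ∀ i, i < 106166 → P i := stepQ 106165 Q106165 (allL N106165 (tt N105641 (iv1 F453413)) (tt N108360 (iv0 F462247)) (tt N107114 (iv2 F457045)) (tt N71101 (iv3 D209366)) (tt N78098 F453412) (tt N111131 (iv5 F474839)) (tt N121198 (iv6 F525088)) (tt N89637 F453411))
theorem Q106167 : ∀ i, i < 106167 → P i := stepQ 106166 Q106166 (allL N106166 (tt N106189 (iv1 F453535)) (tt N71562 F453416) (tt N110660 (iv2 F472636)) (tt N82078 F453414) (tt N71101 (iv4 D209367)) (tt N82077 F453415) (tt N119765 (iv6 F517303)) (tt N110661 (iv7 F472645)))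
theorem Q106168 : ∀ i, i < 106168 → P i := stepQ 106167 Q106167 (allL N106167 (tt N71562 F453419) (tt N106189 (iv0 F453534)) (tt N110661 (iv2 F472642)) (tt N90740 F453417) (tt N71102 (iv4 D209368)) (tt N110603 (iv5 F472344)) (tt N84384 F453418) (tt N110660 (iv7 F472639)))
theorem Q106169 : ∀ i, i < 106169 → P i := stepQ 106168 Q106168 (allL N106168 (tt N71106 (iv1 D209369)) (tt N95982 F453420) (tt N95989 F453424) (tt N121257 D224516) (tt N104486 F453422) (tt N104153 (iv5 F453423)) (tt N101479 (iv6 F453425)) (tt N95990 F453421))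
theorem Q106170 : ∀ i, i < 106170 → P i := stepQ 106169 Q106169 (allL N106169 (tt N71125 (iv1 F453430)) (tt N101326 (iv0 F453431)) (tt N101408 F453426) (tt N71111 (iv3 D209370)) (tt N82084 F453428) (tt N101070 (iv5 F453429)) (tt N117018 (iv6 F502995)) (tt N101410 F453427))
theorem Q106171 : ∀ i, i < 106171 → P i := stepQ 106170 Q106170 (allL N106170 (tt N117010 (iv1 F502956)) (tt N101927 (iv0 F488274)) (tt N117011 (iv2 F502960)) (tt N94893 F453432) (tt N71111 (iv4 D209371)) (tt N94890 (iv5 F453433)) (tt N119049 (iv6 F513493)) (tt N117007 F502944))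
theorem Q106172 : ∀ i, i < 106172 → P i := stepQ 106171 Q106171 (allL N106171 (tt N101919 F453437) (tt N71132 (iv0 F453439)) (tt N101920 F453434) (tt N101070 F453435) (tt N114929 (iv4 F492589)) (tt N71111 (iv5 D209372)) (tt N107378 (iv6 F458147)) (tt N101409 F453436))
theorem Q106173 : ∀ i, i < 106173 → P i := stepQ 106172 Q106172 (allL N106172 (tt N106227 (iv1 F453659)) (tt N96708 F453441) (tt N71113 F453440) (tt N106244 (iv3 F453735)) (tt N98437 (iv4 F453442)) (tt N71112 (iv5 D209373)) (tt N101030 F453443) (tt N106243 (iv7 F453732)))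
theorem Q106174 : ∀ i, i < 106174 → P i := stepQ 106173 Q106173 (allL N106173 (tt N99863 F453448) (tt N99861 F453449) (tt N71114 F453444) (tt N73855 F453445) (tt N103346 F453446) (tt N73854 F453447) (tt N71112 (iv6 D209374)) (tt N108397 (iv7 F462406)))
theorem Q106175 : ∀ i, i < 106175 → P i := stepQ 106174 Q106174 (allL N106174 (tt N98439 F453453) (tt N95879 (iv0 F453454)) (tt N98437 F453450) (tt N78770 F453451) (tt N71113 (iv4 D209375)) (tt N115374 (iv5 F494873)) (tt N105843 F453455) (tt N98438 F453452))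
theorem Q106176 : ∀ i, i < 106176 → P i := stepQ 106175 Q106175 (allL N106175 (tt N101320 F453462) (tt N120910 (iv0 F523416)) (tt N101030 F453457) (tt N71115 F453458) (tt N105843 F453459) (tt N101021 F453460) (tt N71113 (iv6 D209376)) (tt N101032 F453461))
theorem Q106177 : ∀ i, i < 106177 → P i := stepQ 106176 Q106176 (allL N106176 (tt N71114 (iv1 D209377)) (tt N108397 F462408) (tt N99861 (iv2 F453465)) (tt N110049 (iv3 F469728)) (tt N110490 (iv4 F471817)) (tt N99820 F453464) (tt N71430 F453466) (tt N99863 F453463))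
theorem Q106178 : ∀ i, i < 106178 → P i := stepQ 106177 Q106177 (allL N106177 (tt N106248 (iv1 F453758)) (tt N71115 (iv0 D209378)) (tt N105340 (iv2 F453469)) (tt N90148 (iv3 F453470)) (tt N103698 (iv4 F453471)) (tt N105330 F453467) (tt N90097 F453468) (tt N106247 (iv7 F453749)))
theorem Q106179 : ∀ i, i < 106179 → P i := stepQ 106178 Q106178 (allL N106178 (tt N71115 (iv1 D209379)) (tt N106248 F453757) (tt N106247 (iv2 F453751)) (tt N101328 (iv3 F453479)) (tt N103699 (iv4 F453478)) (tt N99938 (iv5 F453477)) (tt N121258 D224517) (tt N105340 F453476))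
theorem Q106180 : ∀ i, i < 106180 → P i := stepQ 106179 Q106179 (allL N106179 (tt N106247 (iv1 F453748)) (tt N105340 (iv0 F453484)) (tt N106248 (iv2 F453752)) (tt N101032 F453480) (tt N103666 F453481) (tt N101031 F453482) (tt N90116 F453483) (tt N71115 (iv7 D209380)))
theorem Q106181 : ∀ i, i < 106181 → P i := stepQ 106180 Q106180 (allL N106180 (tt N116450 (iv1 F500182)) (tt N71121 F453486) (tt N104971 F453485) (tt N71117 (iv3 D209381)) (tt N117889 (iv4 F507452)) (tt N104974 F457665) (tt N120128 (iv6 F519208)) (tt N116449 (iv7 F500181)))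
theorem Q106182 : ∀ i, i < 106182 → P i := stepQ 106181 Q106181 (allL N106181 (tt N71144 (iv1 F453492)) (tt N71444 (iv0 F453488)) (tt N71448 F453487) (tt N120128 (iv3 F519206)) (tt N107369 (iv4 F458130)) (tt N108410 F462464) (tt N71117 (iv6 D209382)) (tt N71449 (iv7 F453489)))
theorem Q106183 : ∀ i, i < 106183 → P i := stepQ 106182 Q106182 (allL N106182 (tt N71119 (iv1 D209383)) (tt N106244 F453739) (tt N105577 (iv2 F453496)) (tt N107255 (iv3 F457668)) (tt N105400 F453495) (tt N96286 F453494) (tt N107983 (iv6 F460596)) (tt N105573 F453493))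
theorem Q106184 : ∀ i, i < 106184 → P i := stepQ 106183 Q106183 (allL N106183 (tt N105696 (iv1 F453501)) (tt N105507 (iv0 F453500)) (tt N119987 (iv2 F518403)) (tt N94654 F453497) (tt N71119 (iv4 D209384)) (tt N105454 F453499) (tt N72589 F453498) (tt N106245 (iv7 F453741)))
theorem Q106185 : ∀ i, i < 106185 → P i := stepQ 106184 Q106184 (allL N106184 (tt N90116 (iv1 F453506)) (tt N71120 (iv0 D209385)) (tt N90068 (iv2 F453505)) (tt N72423 (iv3 F453508)) (tt N95985 F453503) (tt N72463 F453502) (tt N76090 F453504) (tt N90044 F453507))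
theorem Q106186 : ∀ i, i < 106186 → P i := stepQ 106185 Q106185 (allL N106185 (tt N107255 (iv1 F457669)) (tt N107258 F457678) (tt N101316 F453509) (tt N71123 F453510) (tt N76433 F453511) (tt N71121 (iv5 D209386)) (tt N77657 F453512) (tt N106233 (iv7 F453696)))
theorem Q106187 : ∀ i, i < 106187 → P i := stepQ 106186 Q106186 (allL N106186 (tt N99905 (iv1 F453519)) (tt N99976 (iv0 F453518)) (tt N99988 F453513) (tt N71124 F453514) (tt N92543 F453515) (tt N77658 F453516) (tt N71121 (iv6 D209387)) (tt N99989 (iv7 F453517)))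
theorem Q106188 : ∀ i, i < 106188 → P i := stepQ 106187 Q106187 (allL N106187 (tt N112705 (iv1 F482267)) (tt N75162 (iv0 F453523)) (tt N94034 F453520) (tt N71122 (iv3 D209388)) (tt N92548 F453521) (tt N107564 (iv5 F458767)) (tt N92547 F453522) (tt N111805 (iv7 F478065)))
theorem Q106189 : ∀ i, i < 106189 → P i := stepQ 106188 Q106188 (allL N106188 (tt N101329 F453528) (tt N101328 (iv0 F453529)) (tt N98109 F453524) (tt N77657 F453525) (tt N118448 (iv4 F510417)) (tt N77655 F453526) (tt N71123 (iv6 D209389)) (tt N98114 F453527))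
theorem Q106190 : ∀ i, i < 106190 → P i := stepQ 106189 Q106189 (allL N106189 (tt N106167 F453534) (tt N106166 F453535) (tt N77875 F453530) (tt N97208 F453531) (tt N71125 (iv4 D209390)) (tt N77923 F453532) (tt N72437 F453533) (tt N106676 (iv7 F455243)))
theorem Q106191 : ∀ i, i < 106191 → P i := stepQ 106190 Q106190 (allL N106190 (tt N82875 F453540) (tt N106376 (iv0 F454209)) (tt N81194 F453536) (tt N105733 F453541) (tt N71129 (iv4 D209391)) (tt N80822 F453537) (tt N82823 F453538) (tt N81427 F453539))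
theorem Q106192 : ∀ i, i < 106192 → P i := stepQ 106191 Q106191 (allL N106191 (tt N89680 (iv1 F453546)) (tt N91423 (iv0 F453545)) (tt N91692 F453542) (tt N103721 F453543) (tt N71131 F453544) (tt N114715 (iv5 F491492)) (tt N71130 (iv6 D209392)) (tt N113246 (iv7 F484691)))
theorem Q106193 : ∀ i, i < 106193 → P i := stepQ 106192 Q106192 (allL N106192 (tt N101920 (iv1 F453551)) (tt N101409 F453550) (tt N71132 (iv2 D209393)) (tt N117772 (iv3 F506888)) (tt N119002 (iv4 F513219)) (tt N71161 F453547) (tt N83236 F453548) (tt N101919 F453549))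
theorem Q106194 : ∀ i, i < 106194 → P i := stepQ 106193 Q106193 (allL N106193 (tt N113331 F485070) (tt N106372 (iv0 F454195)) (tt N119002 (iv2 F513217)) (tt N92270 F453552) (tt N71132 (iv4 D209394)) (tt N92955 (iv5 F453555)) (tt N101046 F453553) (tt N101921 F453554))
theorem Q106195 : ∀ i, i < 106195 → P i := stepQ 106194 Q106194 (allL N106194 (tt N116883 F502338) (tt N117771 F506885) (tt N71133 (iv2 D209395)) (tt N101919 F453556) (tt N114334 (iv4 F489669)) (tt N71165 F453557) (tt N88882 (iv6 F453558)) (tt N117772 (iv7 F506891)))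
theorem Q106196 : ∀ i, i < 106196 → P i := stepQ 106195 Q106195 (allL N106195 (tt N114644 (iv1 F491169)) (tt N105497 F453561) (tt N114334 (iv2 F489667)) (tt N94490 F453559) (tt N71133 (iv4 D209396)) (tt N94488 F453560) (tt N86528 (iv6 F453562)) (tt N117770 (iv7 F506878)))
theorem Q106197 : ∀ i, i < 106197 → P i := stepQ 106196 Q106196 (allL N106196 (tt N85419 F453567) (tt N85421 F453568) (tt N88882 F453563) (tt N71134 F453564) (tt N86528 F453565) (tt N71499 F453566) (tt N71133 (iv6 D209397)) (tt N88883 (iv7 F453569)))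
theorem Q106198 : ∀ i, i < 106198 → P i := stepQ 106197 Q106197 (allL N106197 (tt N101924 (iv1 F453574)) (tt N71134 (iv0 D209398)) (tt N96122 (iv2 F453575)) (tt N86285 F453572) (tt N71316 F453571) (tt N103619 F453570) (tt N96109 F453573) (tt N101923 (iv7 F453576)))
theorem Q106199 : ∀ i, i < 106199 → P i := stepQ 106198 Q106198 (allL N106198 (tt N71134 (iv1 D209399)) (tt N101924 F453581) (tt N101923 F453585) (tt N87669 (iv3 F453583)) (tt N71317 F453586) (tt N87668 (iv5 F453584)) (tt N114319 (iv6 F489578)) (tt N96122 F453582))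
theorem Q106200 : ∀ i, i < 106200 → P i := stepQ 106199 Q106199 (allL N106199 (tt N114526 (iv1 F490603)) (tt N114525 (iv0 F490602)) (tt N114528 (iv2 F490611)) (tt N121001 (iv3 F523950)) (tt N71139 F453587) (tt N121259 D224518) (tt N71138 (iv6 D209400)) (tt N89778 F453588))
theorem Q106201 : ∀ i, i < 106201 → P i := stepQ 106200 Q106200 (allL N106200 (tt N107637 (iv1 F459040)) (tt N107636 F459047) (tt N107639 (iv2 F459044)) (tt N71140 (iv3 D209401)) (tt N121260 D224519) (tt N121261 D224520) (tt N107615 (iv6 F458953)) (tt N99431 F453589))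
theorem Q106202 : ∀ i, i < 106202 → P i := stepQ 106201 Q106201 (allL N106201 (tt N120088 F518986) (tt N121126 (iv0 F524649)) (tt N119606 (iv2 F516477)) (tt N121261 (iv3 F525438)) (tt N121262 D224521) (tt N71140 (iv5 D209402)) (tt N113979 (iv6 F488050)) (tt N121019 (iv7 F524049)))
theorem Q106203 : ∀ i, i < 106203 → P i := stepQ 106202 Q106202 (allL N106202 (tt N121126 F524650) (tt N120088 (iv0 F518985)) (tt N121019 (iv2 F524046)) (tt N119598 (iv3 F516451)) (tt N113022 (iv4 F483598)) (tt N71141 (iv5 D209403)) (tt N113021 (iv6 F483597)) (tt N119606 (iv7 F516479)))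
theorem Q106204 : ∀ i, i < 106204 → P i := stepQ 106203 Q106203 (allL N106203 (tt N96123 (iv1 F453595)) (tt N96109 (iv0 F453594)) (tt N96119 F453590) (tt N95944 F453591) (tt N119025 (iv4 F513348)) (tt N99429 F453593) (tt N71141 (iv6 D209404)) (tt N96120 F453592))
theorem Q106205 : ∀ i, i < 106205 → P i := stepQ 106204 Q106204 (allL N106204 (tt N113860 F487506) (tt N71142 (iv0 D209405)) (tt N113963 (iv2 F487986)) (tt N121263 D224522) (tt N121250 (iv4 F525372)) (tt N90063 F453596) (tt N110095 F469965) (tt N113962 F487989))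
theorem Q106206 : ∀ i, i < 106206 → P i := stepQ 106205 Q106205 (allL N106205 (tt N71142 (iv1 D209406)) (tt N113860 F487507) (tt N113962 F487988) (tt N121264 D224523) (tt N121265 D224524) (tt N106252 (iv5 F453773)) (tt N114730 (iv6 F491568)) (tt N113963 (iv7 F487987)))
theorem Q106207 : ∀ i, i < 106207 → P i := stepQ 106206 Q106206 (allL N106206 (tt N84317 F454297) (tt N105188 (iv0 F454303)) (tt N114704 F491431) (tt N121266 D224525) (tt N71142 (iv4 D209407)) (tt N105184 F453598) (tt N71148 F453597) (tt N113961 (iv7 F487980)))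
theorem Q106208 : ∀ i, i < 106208 → P i := stepQ 106207 Q106207 (allL N106207 (tt N71449 (iv1 F453601)) (tt N71448 F453600) (tt N71144 (iv2 D209408)) (tt N116964 F502731) (tt N110869 (iv4 F473533)) (tt N121267 D224526) (tt N108400 F462427) (tt N71444 F453599))
theorem Q106209 : ∀ i, i < 106209 → P i := stepQ 106208 Q106208 (allL N106208 (tt N121268 D224527) (tt N121269 D224528) (tt N121267 (iv2 F525471)) (tt N71145 F453602) (tt N121270 D224529) (tt N71144 (iv5 D209409)) (tt N116745 (iv6 F501611)) (tt N71450 F453603))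
theorem Q106210 : ∀ i, i < 106210 → P i := stepQ 106209 Q106209 (allL N106209 (tt N116751 F501637) (tt N85513 (iv0 F453800)) (tt N117175 (iv2 F503760)) (tt N116745 F501610) (tt N115137 (iv4 F493667)) (tt N106265 (iv5 F453799)) (tt N71145 (iv6 D209410)) (tt N121125 (iv7 F524644)))
theorem Q106211 : ∀ i, i < 106211 → P i := stepQ 106210 Q106210 (allL N106210 (tt N106505 (iv1 F454695)) (tt N106500 (iv0 F454674)) (tt N117179 (iv2 F503779)) (tt N114612 (iv3 F491014)) (tt N71146 (iv4 D209411)) (tt N106393 F454268) (tt N99943 F453604) (tt N117176 (iv7 F503767)))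
theorem Q106212 : ∀ i, i < 106212 → P i := stepQ 106211 Q106211 (allL N106211 (tt N121230 F525265) (tt N82666 (iv0 F483205)) (tt N121271 D224530) (tt N71147 (iv3 D209412)) (tt N121272 D224531) (tt N119828 (iv5 F517585)) (tt N113413 F485380) (tt N117178 (iv7 F503776)))
theorem Q106213 : ∀ i, i < 106213 → P i := stepQ 106212 Q106212 (allL N106212 (tt N106500 (iv1 F454675)) (tt N106505 (iv0 F454694)) (tt N117176 (iv2 F503766)) (tt N121273 D224532) (tt N71147 (iv4 D209413)) (tt N106394 F454273) (tt N121274 D224533) (tt N117179 (iv7 F503781)))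
theorem Q106214 : ∀ i, i < 106214 → P i := stepQ 106213 Q106213 (allL N106213 (tt N120135 (iv1 F519251)) (tt N110097 (iv0 F469970)) (tt N117177 (iv2 F503770)) (tt N113413 (iv3 F485377)) (tt N121274 (iv4 F525507)) (tt N71522 F453605) (tt N71147 (iv6 D209414)) (tt N120134 (iv7 F519241)))
theorem Q106215 : ∀ i, i < 106215 → P i := stepQ 106214 Q106214 (allL N106214 (tt N109408 (iv1 F466815)) (tt N71148 (iv0 D209415)) (tt N117181 F503796) (tt N117629 F506084) (tt N71815 F453606) (tt N114629 (iv5 F491090)) (tt N120076 (iv6 F518920)) (tt N117180 F503791))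
theorem Q106216 : ∀ i, i < 106216 → P i := stepQ 106215 Q106215 (allL N106215 (tt N71148 (iv1 D209416)) (tt N109408 (iv0 F466814)) (tt N117180 F503789) (tt N72515 (iv3 F453608)) (tt N113000 (iv4 F483500)) (tt N72508 F453607) (tt N72511 (iv6 F453609)) (tt N117181 (iv7 F503793)))
theorem Q106217 : ∀ i, i < 106217 → P i := stepQ 106216 Q106216 (allL N106216 (tt N110179 F470298) (tt N110177 F483529) (tt N110175 F470287) (tt N71148 (iv3 D209417)) (tt N113497 (iv4 F485782)) (tt N121195 (iv5 F525068)) (tt N121266 (iv6 F525467)) (tt N110176 (iv7 F470286)))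
theorem Q106218 : ∀ i, i < 106218 → P i := stepQ 106217 Q106217 (allL N106217 (tt N71405 (iv1 F453613)) (tt N71404 F453612) (tt N71149 (iv2 D209418)) (tt N120308 (iv3 F520138)) (tt N72240 F453610) (tt N120306 (iv5 F520130)) (tt N117515 (iv6 F505457)) (tt N71401 F453611))
theorem Q106219 : ∀ i, i < 106219 → P i := stepQ 106218 Q106218 (allL N106218 (tt N107057 (iv1 F456800)) (tt N73930 F456801) (tt N120306 (iv2 F520127)) (tt N71150 F453614) (tt N116740 (iv4 F501581)) (tt N71149 (iv5 D209419)) (tt N114291 (iv6 F489421)) (tt N71406 F453615))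
theorem Q106220 : ∀ i, i < 106220 → P i := stepQ 106219 Q106219 (allL N106219 (tt N113504 F485815) (tt N113073 (iv0 F483853)) (tt N113502 F485803) (tt N114291 (iv3 F489420)) (tt N121197 (iv4 F525080)) (tt N106308 (iv5 F453967)) (tt N71150 (iv6 D209420)) (tt N113503 (iv7 F485807)))
theorem Q106221 : ∀ i, i < 106221 → P i := stepQ 106220 Q106220 (allL N106220 (tt N71284 F453619) (tt N71270 F453618) (tt N71224 F453616) (tt N117349 (iv3 F504600)) (tt N71151 (iv4 D209421)) (tt N113839 (iv5 F487377)) (tt N110059 F469787) (tt N71283 F453617))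
theorem Q106222 : ∀ i, i < 106222 → P i := stepQ 106221 Q106221 (allL N106221 (tt N89203 F453623) (tt N72131 F453624) (tt N79597 F453620) (tt N112170 (iv3 F479873)) (tt N110059 (iv4 F469783)) (tt N79596 F453621) (tt N71151 (iv6 D209422)) (tt N71740 F453622))
theorem Q106223 : ∀ i, i < 106223 → P i := stepQ 106222 Q106222 (allL N106222 (tt N82195 F453629) (tt N77720 (iv0 F453630)) (tt N75678 F453625) (tt N71154 (iv3 D209423)) (tt N110711 (iv4 F472857)) (tt N75611 F453626) (tt N76748 F453627) (tt N94094 F453628))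
theorem Q106224 : ∀ i, i < 106224 → P i := stepQ 106223 Q106223 (allL N106223 (tt N74253 F453636) (tt N74251 F453637) (tt N79756 F453631) (tt N80742 F453632) (tt N71157 (iv4 D209424)) (tt N80741 F453635) (tt N100378 F453633) (tt N95753 F453634))
theorem Q106225 : ∀ i, i < 106225 → P i := stepQ 106224 Q106224 (allL N106224 (tt N93449 (iv1 F453644)) (tt N93441 (iv0 F453643)) (tt N93453 F453638) (tt N72891 F453639) (tt N71159 (iv4 D209425)) (tt N72889 F453641) (tt N117571 F505768) (tt N93450 F453640))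
theorem Q106226 : ∀ i, i < 106226 → P i := stepQ 106225 Q106225 (allL N106225 (tt N119827 (iv1 F517579)) (tt N71217 (iv0 F453650)) (tt N101918 F453648) (tt N110637 (iv3 F472533)) (tt N117571 (iv4 F505766)) (tt N76857 F453649) (tt N71159 (iv6 D209426)) (tt N119826 (iv7 F517573)))
theorem Q106227 : ∀ i, i < 106227 → P i := stepQ 106226 Q106226 (allL N106226 (tt N72356 F453653) (tt N71200 (iv0 F453654)) (tt N110633 (iv2 F472514)) (tt N71160 (iv3 D209427)) (tt N93454 F453651) (tt N114758 (iv5 F491706)) (tt N90295 F454779) (tt N101917 F453652))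
theorem Q106228 : ∀ i, i < 106228 → P i := stepQ 106227 Q106227 (allL N106227 (tt N71179 F453658) (tt N106172 F453659) (tt N101915 F453655) (tt N114758 (iv3 F491704)) (tt N76677 F453657) (tt N71160 (iv5 D209428)) (tt N76676 (iv6 F453662)) (tt N76719 F453656))
theorem Q106229 : ∀ i, i < 106229 → P i := stepQ 106228 Q106228 (allL N106228 (tt N71187 F453669) (tt N121214 F525171) (tt N101916 F453667) (tt N90295 (iv3 F454778)) (tt N93452 F453668) (tt N106528 F454776) (tt N71160 (iv6 D209429)) (tt N115349 (iv7 F494719)))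
theorem Q106230 : ∀ i, i < 106230 → P i := stepQ 106229 Q106229 (allL N106229 (tt N121213 (iv1 F525165)) (tt N71189 (iv0 F453672)) (tt N119105 (iv2 F513814)) (tt N72346 F453670) (tt N112710 (iv4 F482298)) (tt N107635 (iv5 F459034)) (tt N71163 (iv6 D209430)) (tt N100248 F453671))
theorem Q106231 : ∀ i, i < 106231 → P i := stepQ 106230 Q106230 (allL N106230 (tt N72360 (iv1 F453678)) (tt N71166 (iv0 F453677)) (tt N72364 F453673) (tt N71164 (iv3 D209431)) (tt N94361 F453674) (tt N120423 (iv5 F520701)) (tt N100241 F453675) (tt N72361 F453676))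
theorem Q106232 : ∀ i, i < 106232 → P i := stepQ 106231 Q106231 (allL N106231 (tt N97205 F453684) (tt N105984 F453685) (tt N71570 F453679) (tt N78202 F453680) (tt N71168 (iv4 D209432)) (tt N77873 F453683) (tt N71773 F453681) (tt N82105 F453682))
theorem Q106233 : ∀ i, i < 106233 → P i := stepQ 106232 Q106232 (allL N106232 (tt N71176 (iv1 F453690)) (tt N71175 F453691) (tt N71178 F453686) (tt N86349 F453687) (tt N80137 F453688) (tt N106570 (iv5 F454899)) (tt N91432 F453689) (tt N71170 (iv7 D209433)))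
theorem Q106234 : ∀ i, i < 106234 → P i := stepQ 106233 Q106233 (allL N106233 (tt N120423 (iv1 F520699)) (tt N72362 (iv0 F453697)) (tt N99368 F453692) (tt N71171 (iv3 D209434)) (tt N97350 F453693) (tt N90700 F453694) (tt N98386 F453695) (tt N106185 F453696))
theorem Q106235 : ∀ i, i < 106235 → P i := stepQ 106234 Q106234 (allL N106234 (tt N71173 (iv1 D209435)) (tt N80528 F453698) (tt N81431 F453702) (tt N94466 (iv3 F453701)) (tt N121223 (iv4 F525220)) (tt N94465 F453700) (tt N113845 F487417) (tt N81430 F453699))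
theorem Q106236 : ∀ i, i < 106236 → P i := stepQ 106235 Q106235 (allL N106235 (tt N86332 F453707) (tt N118648 (iv0 F511334)) (tt N81432 F453703) (tt N103844 F453704) (tt N71174 F453705) (tt N104770 F453706) (tt N71173 (iv6 D209436)) (tt N121140 (iv7 F524737)))
theorem Q106237 : ∀ i, i < 106237 → P i := stepQ 106236 Q106236 (allL N106236 (tt N114345 (iv1 F489736)) (tt N71174 (iv0 D209437)) (tt N114770 F491768) (tt N105010 (iv3 F489738)) (tt N117348 (iv4 F504596)) (tt N121140 (iv5 F524735)) (tt N105807 F489739) (tt N104770 F489737))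
theorem Q106238 : ∀ i, i < 106238 → P i := stepQ 106237 Q106237 (allL N106237 (tt N104770 (iv1 F453709)) (tt N114770 F491769) (tt N114345 (iv2 F489730)) (tt N71186 F453708) (tt N121140 (iv4 F524734)) (tt N113248 (iv5 F484704)) (tt N116421 (iv6 F500015)) (tt N71174 (iv7 D209438)))
theorem Q106239 : ∀ i, i < 106239 → P i := stepQ 106238 Q106238 (allL N106238 (tt N121275 D224534) (tt N72363 (iv0 F453712)) (tt N118511 (iv2 F510755)) (tt N71175 (iv3 D209439)) (tt N106969 (iv4 F456478)) (tt N99984 F453710) (tt N89173 F453711) (tt N117097 (iv7 F503361)))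
theorem Q106240 : ∀ i, i < 106240 → P i := stepQ 106239 Q106239 (allL N106239 (tt N110634 F472524) (tt N121153 (iv0 F524819)) (tt N121147 (iv2 F524777)) (tt N71176 (iv3 D209440)) (tt N121276 D224535) (tt N100633 (iv5 F453715)) (tt N101655 F453713) (tt N90313 F453714))
theorem Q106241 : ∀ i, i < 106241 → P i := stepQ 106240 Q106240 (allL N106240 (tt N113845 (iv1 F487414)) (tt N86347 F453719) (tt N113846 (iv2 F487420)) (tt N100633 F453716) (tt N119551 (iv4 F516200)) (tt N71176 (iv5 D209441)) (tt N86329 F453717) (tt N85466 F453718))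
theorem Q106242 : ∀ i, i < 106242 → P i := stepQ 106241 Q106241 (allL N106241 (tt N71177 (iv1 D209442)) (tt N106570 F454904) (tt N106571 (iv2 F454905)) (tt N105469 (iv3 F453722)) (tt N91703 (iv4 F453723)) (tt N90563 F453721) (tt N121156 (iv6 F524835)) (tt N105465 F453720))
theorem Q106243 : ∀ i, i < 106243 → P i := stepQ 106242 Q106242 (allL N106242 (tt N106571 (iv1 F454908)) (tt N105465 (iv0 F453727)) (tt N106570 F454900) (tt N71194 F453724) (tt N91424 F453725) (tt N71178 F453726) (tt N91423 F453728) (tt N71177 (iv7 D209443)))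
theorem Q106244 : ∀ i, i < 106244 → P i := stepQ 106243 Q106243 (allL N106243 (tt N76719 (iv1 F453734)) (tt N101915 F453733) (tt N71179 (iv2 D209444)) (tt N99537 F453729) (tt N119003 (iv4 F513227)) (tt N90324 F453730) (tt N99159 F453731) (tt N106172 F453732))
theorem Q106245 : ∀ i, i < 106245 → P i := stepQ 106244 Q106244 (allL N106244 (tt N106182 (iv1 F453739)) (tt N72381 F453738) (tt N71181 (iv2 D209445)) (tt N106172 F453735) (tt N120277 (iv4 F519977)) (tt N104464 F453736) (tt N108060 (iv6 F460935)) (tt N99537 F453737))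
theorem Q106246 : ∀ i, i < 106246 → P i := stepQ 106245 Q106245 (allL N106245 (tt N107655 F459106) (tt N119688 (iv0 F516927)) (tt N120277 (iv2 F519975)) (tt N94492 F453740) (tt N71181 (iv4 D209446)) (tt N79080 F453742) (tt N121041 (iv6 F524175)) (tt N106183 F453741))
theorem Q106247 : ∀ i, i < 106247 → P i := stepQ 106246 Q106246 (allL N106246 (tt N88874 (iv1 F453746)) (tt N75649 F453747) (tt N108060 (iv2 F460932)) (tt N71182 F453743) (tt N121041 (iv4 F524173)) (tt N72699 F453744) (tt N71181 (iv6 D209447)) (tt N99536 F453745))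
theorem Q106248 : ∀ i, i < 106248 → P i := stepQ 106247 Q106247 (allL N106247 (tt N71182 (iv1 D209448)) (tt N106179 F453748) (tt N106178 F453751) (tt N113914 (iv3 F487760)) (tt N103858 (iv4 F453750)) (tt N113912 F487752) (tt N116879 F502314) (tt N106177 F453749))
theorem Q106249 : ∀ i, i < 106249 → P i := stepQ 106248 Q106248 (allL N106248 (tt N106178 (iv1 F453757)) (tt N106177 F453758) (tt N106179 F453752) (tt N99536 F453753) (tt N104487 F453754) (tt N74389 F453755) (tt N99535 F453756) (tt N71182 (iv7 D209449)))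
theorem Q106250 : ∀ i, i < 106250 → P i := stepQ 106249 Q106249 (allL N106249 (tt N76574 (iv1 F453762)) (tt N76676 F453763) (tt N76674 F453759) (tt N71183 (iv3 D209450)) (tt N111157 (iv4 F474981)) (tt N96506 (iv5 F453761)) (tt N119599 (iv6 F516455)) (tt N76673 F453760))
theorem Q106251 : ∀ i, i < 106251 → P i := stepQ 106250 Q106250 (allL N106250 (tt N105208 F453766) (tt N92261 F453767) (tt N99981 F453764) (tt N103192 F453768) (tt N71183 (iv4 D209451)) (tt N119274 (iv5 F514763)) (tt N119655 (iv6 F516742)) (tt N105207 F453765))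
theorem Q106252 : ∀ i, i < 106252 → P i := stepQ 106251 Q106251 (allL N106251 (tt N105368 F453771) (tt N105369 F453770) (tt N107478 (iv2 F458453)) (tt N96506 F453769) (tt N116783 (iv4 F501809)) (tt N71183 (iv5 D209452)) (tt N85512 F453772) (tt N116881 (iv7 F502324)))
theorem Q106253 : ∀ i, i < 106253 → P i := stepQ 106252 Q106252 (allL N106252 (tt N116879 (iv1 F502313)) (tt N116878 (iv0 F502312)) (tt N116880 (iv2 F502316)) (tt N119599 (iv3 F516458)) (tt N119655 (iv4 F516741)) (tt N106205 F453773) (tt N71183 (iv6 D209453)) (tt N109595 (iv7 F467643)))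
theorem Q106254 : ∀ i, i < 106254 → P i := stepQ 106253 Q106253 (allL N106253 (tt N121214 (iv1 F525170)) (tt N71187 (iv0 D209454)) (tt N115349 (iv2 F494721)) (tt N121153 (iv3 F524814)) (tt N117306 F504383) (tt N106527 F505365) (tt N119826 F517574) (tt N101916 F494722))
theorem Q106255 : ∀ i, i < 106255 → P i := stepQ 106254 Q106254 (allL N106254 (tt N115349 (iv1 F494723)) (tt N101916 (iv0 F453775)) (tt N71187 (iv2 D209455)) (tt N121213 (iv3 F525160)) (tt N101947 (iv4 F473674)) (tt N113873 (iv5 F487566)) (tt N71861 F453774) (tt N121214 (iv7 F525169)))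
theorem Q106256 : ∀ i, i < 106256 → P i := stepQ 106255 Q106255 (allL N106255 (tt N115346 (iv1 F494709)) (tt N115339 (iv0 F494675)) (tt N113873 (iv2 F487565)) (tt N71188 F453777) (tt N120430 (iv4 F520742)) (tt N71187 (iv5 D209456)) (tt N85508 F453778) (tt N115345 (iv7 F494702)))
theorem Q106257 : ∀ i, i < 106257 → P i := stepQ 106256 Q106256 (allL N106256 (tt N106478 (iv1 F454606)) (tt N106475 (iv0 F454600)) (tt N118825 (iv2 F512273)) (tt N110845 F474375) (tt N71188 (iv4 D209457)) (tt N118874 (iv5 F512517)) (tt N85509 F453779) (tt N121216 (iv7 F525184)))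
theorem Q106258 : ∀ i, i < 106258 → P i := stepQ 106257 Q106257 (allL N106257 (tt N71189 (iv1 D209458)) (tt N121213 F525166) (tt N100248 F493550) (tt N121275 (iv3 F525511)) (tt N115113 (iv4 F493549)) (tt N121260 (iv5 F525434)) (tt N99915 F493551) (tt N119105 (iv7 F513818)))
theorem Q106259 : ∀ i, i < 106259 → P i := stepQ 106258 Q106258 (allL N106258 (tt N119105 F513820) (tt N100248 F453780) (tt N71189 (iv2 D209459)) (tt N121214 (iv3 F525167)) (tt N118455 (iv4 F510461)) (tt N121277 D224536) (tt N118454 F510457) (tt N121213 (iv7 F525164)))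
theorem Q106260 : ∀ i, i < 106260 → P i := stepQ 106259 Q106259 (allL N106259 (tt N115095 F493462) (tt N99455 (iv0 F459035)) (tt N121277 (iv2 F525522)) (tt N71190 F453781) (tt N116730 (iv4 F501538)) (tt N71189 (iv5 D209460)) (tt N109609 (iv6 F467717)) (tt N116291 (iv7 F499401)))
theorem Q106261 : ∀ i, i < 106261 → P i := stepQ 106260 Q106260 (allL N106260 (tt N108057 (iv1 F460915)) (tt N108059 (iv0 F460930)) (tt N118454 (iv2 F510451)) (tt N71191 F453782) (tt N89377 F453783) (tt N71680 (iv5 F453785)) (tt N71189 (iv6 D209461)) (tt N71857 F453784))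
theorem Q106262 : ∀ i, i < 106262 → P i := stepQ 106261 Q106261 (allL N106261 (tt N106475 (iv1 F454601)) (tt N106478 (iv0 F454605)) (tt N121216 (iv2 F525180)) (tt N116769 (iv3 F501727)) (tt N71190 (iv4 D209462)) (tt N118873 (iv5 F512509)) (tt N118330 F509742) (tt N118825 (iv7 F512276)))
theorem Q106263 : ∀ i, i < 106263 → P i := stepQ 106262 Q106262 (allL N106262 (tt N86339 F453789) (tt N85927 F453790) (tt N86338 F453786) (tt N109609 (iv3 F467716)) (tt N118330 (iv4 F509738)) (tt N71682 F453787) (tt N71190 (iv6 D209463)) (tt N85507 F453788))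
theorem Q106264 : ∀ i, i < 106264 → P i := stepQ 106263 Q106263 (allL N106263 (tt N107635 F459036) (tt N121260 (iv0 F525436)) (tt N116736 (iv2 F501563)) (tt N71192 (iv3 D209464)) (tt N107471 F458438) (tt N106002 F453791) (tt N114062 (iv6 F488401)) (tt N106001 F453792))
theorem Q106265 : ∀ i, i < 106265 → P i := stepQ 106264 Q106264 (allL N106264 (tt N105972 F453795) (tt N106311 F453981) (tt N106309 (iv2 F453973)) (tt N91699 F453797) (tt N71192 (iv4 D209465)) (tt N97836 F453794) (tt N91698 (iv6 F453796)) (tt N106003 F453793))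
theorem Q106266 : ∀ i, i < 106266 → P i := stepQ 106265 Q106265 (allL N106265 (tt N116927 (iv1 F502540)) (tt N114782 (iv0 F491830)) (tt N106534 (iv2 F454793)) (tt N114062 (iv3 F488400)) (tt N91698 F453798) (tt N106209 F453799) (tt N71192 (iv6 D209466)) (tt N114557 (iv7 F490768)))
theorem Q106267 : ∀ i, i < 106267 → P i := stepQ 106266 Q106266 (allL N106266 (tt N71193 (iv1 D209467)) (tt N106482 F454621) (tt N95498 F453804) (tt N84816 F453805) (tt N71243 F453802) (tt N95456 (iv5 F453806)) (tt N84815 (iv6 F453803)) (tt N95514 F453801))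
theorem Q106268 : ∀ i, i < 106268 → P i := stepQ 106267 Q106267 (allL N106267 (tt N101219 F453811) (tt N101249 F453812) (tt N99589 F453807) (tt N71193 (iv3 D209468)) (tt N91429 F453808) (tt N117051 (iv5 F503130)) (tt N73569 F453809) (tt N91426 (iv7 F453810)))
theorem Q106269 : ∀ i, i < 106269 → P i := stepQ 106268 Q106268 (allL N106268 (tt N79810 F453817) (tt N108205 F461488) (tt N95500 F453813) (tt N117051 (iv3 F503128)) (tt N95359 F453815) (tt N71193 (iv5 D209469)) (tt N105366 F453814) (tt N95358 F453816))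
theorem Q106270 : ∀ i, i < 106270 → P i := stepQ 106269 Q106269 (allL N106269 (tt N95498 (iv1 F453822)) (tt N95514 F453823) (tt N106482 F454620) (tt N91426 F453818) (tt N71194 F453819) (tt N95358 F453820) (tt N91425 F453821) (tt N71193 (iv7 D209470)))
theorem Q106271 : ∀ i, i < 106271 → P i := stepQ 106270 Q106270 (allL N106270 (tt N110203 F470417) (tt N114775 F491790) (tt N106531 (iv2 F454784)) (tt N91423 F453824) (tt N91425 F453825) (tt N106606 (iv5 F455035)) (tt N71194 (iv6 D209471)) (tt N113247 (iv7 F484696)))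
theorem Q106272 : ∀ i, i < 106272 → P i := stepQ 106271 Q106271 (allL N106271 (tt N71272 (iv1 F453829)) (tt N71282 F453828) (tt N71197 (iv2 D209472)) (tt N116498 (iv3 F500454)) (tt N72285 F453826) (tt N98490 F453830) (tt N117287 (iv6 F504295)) (tt N71280 F453827))
theorem Q106273 : ∀ i, i < 106273 → P i := stepQ 106272 Q106272 (allL N106272 (tt N76513 F453835) (tt N109087 (iv0 F465267)) (tt N98490 F453831) (tt N71198 F453832) (tt N98482 F453834) (tt N71197 (iv5 D209473)) (tt N91069 F453836) (tt N98493 F453833))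
theorem Q106274 : ∀ i, i < 106274 → P i := stepQ 106273 Q106273 (allL N106273 (tt N117286 (iv1 F504284)) (tt N72065 (iv0 F453841)) (tt N117287 (iv2 F504291)) (tt N71199 F453838) (tt N72286 F453839) (tt N119999 (iv5 F518473)) (tt N71197 (iv6 D209474)) (tt N71865 F453840))
theorem Q106275 : ∀ i, i < 106275 → P i := stepQ 106274 Q106274 (allL N106274 (tt N118639 (iv1 F511288)) (tt N115096 (iv0 F493468)) (tt N107843 (iv2 F459964)) (tt N115550 (iv3 F495735)) (tt N71198 (iv4 D209475)) (tt N108205 (iv5 F461485)) (tt N118828 (iv6 F512286)) (tt N110899 (iv7 F473682)))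
theorem Q106276 : ∀ i, i < 106276 → P i := stepQ 106275 Q106275 (allL N106275 (tt N71200 (iv1 D209476)) (tt N72356 F453842) (tt N101917 F453845) (tt N101411 (iv3 F453844)) (tt N105383 F453843) (tt N107285 (iv5 F457796)) (tt N110362 (iv6 F471240)) (tt N110633 (iv7 F472517)))
theorem Q106277 : ∀ i, i < 106277 → P i := stepQ 106276 Q106276 (allL N106276 (tt N71202 (iv1 F453850)) (tt N71201 (iv0 D209477)) (tt N97290 (iv2 F453849)) (tt N97206 F453848) (tt N90965 F453847) (tt N81611 F453846) (tt N90652 (iv6 F453852)) (tt N97305 F453851))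
theorem Q106278 : ∀ i, i < 106278 → P i := stepQ 106277 Q106277 (allL N106277 (tt N119059 F513562) (tt N86080 F453858) (tt N71207 F453853) (tt N80529 F453854) (tt N71203 (iv4 D209478)) (tt N101061 F453857) (tt N89805 F453855) (tt N100628 F453856))
theorem Q106279 : ∀ i, i < 106279 → P i := stepQ 106278 Q106278 (allL N106278 (tt N71211 (iv1 F453863)) (tt N71204 (iv0 D209479)) (tt N71208 (iv2 F453862)) (tt N72384 F453860) (tt N100127 F453859) (tt N113547 (iv5 F485970)) (tt N89200 F453861) (tt N71209 F453864))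
theorem Q106280 : ∀ i, i < 106280 → P i := stepQ 106279 Q106279 (allL N106279 (tt N100628 (iv1 F453866)) (tt N71207 (iv0 D209480)) (tt N119059 (iv2 F513556)) (tt N121134 F524700) (tt N114030 (iv4 F488280)) (tt N86081 F453865) (tt N93791 (iv6 F453867)) (tt N86080 (iv7 F453868)))
theorem Q106281 : ∀ i, i < 106281 → P i := stepQ 106280 Q106280 (allL N106280 (tt N71207 (iv1 D209481)) (tt N100628 F453869) (tt N86080 (iv2 F453873)) (tt N98221 (iv3 F453871)) (tt N89834 (iv4 F453870)) (tt N85868 (iv5 F453874)) (tt N89833 F453872) (tt N119059 (iv7 F513560)))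
theorem Q106282 : ∀ i, i < 106282 → P i := stepQ 106281 Q106281 (allL N106281 (tt N101366 F453880) (tt N86057 F453881) (tt N101061 F453876) (tt N101381 F453877) (tt N83752 F453878) (tt N71207 (iv5 D209482)) (tt N118245 (iv6 F509339)) (tt N101367 F453879))
theorem Q106283 : ∀ i, i < 106283 → P i := stepQ 106282 Q106282 (allL N106282 (tt N110361 (iv1 F471236)) (tt N110362 (iv0 F471242)) (tt N78823 F453882) (tt N71208 (iv3 D209483)) (tt N109356 (iv4 F466546)) (tt N83355 F453883) (tt N90256 F453884) (tt N90308 F453885))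
theorem Q106284 : ∀ i, i < 106284 → P i := stepQ 106283 Q106283 (allL N106283 (tt N89093 F453889) (tt N89089 F453890) (tt N100127 F453886) (tt N85267 F453891) (tt N71208 (iv4 D209484)) (tt N113064 (iv5 F483811)) (tt N90535 F453887) (tt N90683 F453888))
theorem Q106285 : ∀ i, i < 106285 → P i := stepQ 106284 Q106284 (allL N106284 (tt N116196 F498959) (tt N90841 (iv0 F453895)) (tt N90795 F453892) (tt N106606 (iv3 F455033)) (tt N71210 (iv4 D209485)) (tt N91423 F453894) (tt N106579 F454940) (tt N90797 F453893))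
theorem Q106286 : ∀ i, i < 106286 → P i := stepQ 106285 Q106285 (allL N106285 (tt N99930 (iv1 F453900)) (tt N75908 (iv0 F453898)) (tt N116898 (iv2 F502411)) (tt N76709 F453897) (tt N121278 D224537) (tt N71212 (iv5 D209486)) (tt N71504 (iv6 F453899)) (tt N116104 (iv7 F498478)))
theorem Q106287 : ∀ i, i < 106287 → P i := stepQ 106286 Q106286 (allL N106286 (tt N116897 F502410) (tt N71213 (iv0 D209487)) (tt N119513 (iv2 F515999)) (tt N107614 (iv3 F458949)) (tt N121279 D224538) (tt N107607 F458927) (tt N107608 (iv6 F458933)) (tt N119614 (iv7 F516523)))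
theorem Q106288 : ∀ i, i < 106288 → P i := stepQ 106287 Q106287 (allL N106287 (tt N121280 D224539) (tt N121281 D224540) (tt N119830 (iv2 F517592)) (tt N106605 (iv3 F455025)) (tt N71213 (iv4 D209488)) (tt N113527 F485907) (tt N71218 F453901) (tt N119829 (iv7 F517591)))
theorem Q106289 : ∀ i, i < 106289 → P i := stepQ 106288 Q106288 (allL N106288 (tt N119614 (iv1 F516525)) (tt N119513 (iv0 F516003)) (tt N116897 (iv2 F502407)) (tt N114778 (iv3 F491807)) (tt N119829 (iv4 F517590)) (tt N71214 F453902) (tt N114776 (iv6 F491794)) (tt N71213 (iv7 D209489)))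
theorem Q106290 : ∀ i, i < 106290 → P i := stepQ 106289 Q106289 (allL N106289 (tt N99915 (iv1 F453906)) (tt N72382 F453905) (tt N71215 (iv2 D209490)) (tt N119827 (iv3 F517575)) (tt N89383 F453903) (tt N116433 (iv5 F500081)) (tt N108382 (iv6 F462344)) (tt N99908 F453904))
theorem Q106291 : ∀ i, i < 106291 → P i := stepQ 106290 Q106290 (allL N106290 (tt N71217 (iv1 D209491)) (tt N119827 F517580) (tt N119826 F517571) (tt N110361 (iv3 F471232)) (tt N117572 F505774) (tt N106603 F455021) (tt N115349 (iv6 F494718)) (tt N101918 F453907))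
theorem Q106292 : ∀ i, i < 106292 → P i := stepQ 106291 Q106291 (allL N106291 (tt N101918 F453910) (tt N119826 F517572) (tt N71217 (iv2 D209492)) (tt N99908 F453908) (tt N101953 (iv4 F453911)) (tt N121238 (iv5 F525306)) (tt N71807 F453909) (tt N119827 (iv7 F517578)))
theorem Q106293 : ∀ i, i < 106293 → P i := stepQ 106292 Q106292 (allL N106292 (tt N109824 F468802) (tt N106652 (iv0 F455155)) (tt N109937 (iv2 F469299)) (tt N71218 (iv3 D209493)) (tt N106606 (iv4 F455034)) (tt N119815 (iv5 F517520)) (tt N106605 F455031) (tt N109936 F469297))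
theorem Q106294 : ∀ i, i < 106294 → P i := stepQ 106293 Q106293 (allL N106293 (tt N106592 F454981) (tt N120208 (iv0 F519602)) (tt N106606 (iv2 F455032)) (tt N90798 F453915) (tt N109937 (iv4 F469300)) (tt N106531 (iv5 F454786)) (tt N71219 (iv6 D209494)) (tt N114776 (iv7 F491795)))
theorem Q106295 : ∀ i, i < 106295 → P i := stepQ 106294 Q106294 (allL N106294 (tt N71412 F453917) (tt N71414 F453918) (tt N113000 F483501) (tt N108429 (iv3 F462523)) (tt N117180 (iv4 F503786)) (tt N71221 (iv5 D209495)) (tt N113485 (iv6 F485716)) (tt N71815 F453916))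
theorem Q106296 : ∀ i, i < 106296 → P i := stepQ 106295 Q106295 (allL N106295 (tt N105659 F453921) (tt N107338 (iv0 F458011)) (tt N111197 (iv2 F475185)) (tt N71223 F453919) (tt N109835 (iv4 F468836)) (tt N71222 (iv5 D209496)) (tt N81905 F453920) (tt N119825 (iv7 F517566)))
theorem Q106297 : ∀ i, i < 106297 → P i := stepQ 106296 Q106296 (allL N106296 (tt N71293 F453926) (tt N113089 (iv0 F483932)) (tt N113839 (iv2 F487374)) (tt N71226 F453923) (tt N81429 F453924) (tt N71224 (iv5 D209497)) (tt N91725 F453925) (tt N113835 (iv7 F487357)))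
theorem Q106298 : ∀ i, i < 106298 → P i := stepQ 106297 Q106297 (allL N106297 (tt N71228 (iv1 F453930)) (tt N71225 (iv0 D209498)) (tt N105383 (iv2 F453932)) (tt N89769 F453928) (tt N101917 F453927) (tt N90120 F453931) (tt N86157 F453929) (tt N93454 (iv7 F453933)))
theorem Q106299 : ∀ i, i < 106299 → P i := stepQ 106298 Q106298 (allL N106298 (tt N71225 (iv1 D209499)) (tt N71228 F453934) (tt N93454 F453937) (tt N78134 (iv3 F453936)) (tt N110633 (iv4 F472515)) (tt N106391 (iv5 F454260)) (tt N81861 F453938) (tt N105383 F453935))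
theorem Q106300 : ∀ i, i < 106300 → P i := stepQ 106299 Q106299 (allL N106299 (tt N71319 F453943) (tt N108143 (iv0 F461292)) (tt N113237 (iv2 F484652)) (tt N85417 F453939) (tt N94613 F453940) (tt N71899 F453941) (tt N71229 (iv6 D209500)) (tt N88841 F453942))
theorem Q106301 : ∀ i, i < 106301 → P i := stepQ 106300 Q106300 (allL N106300 (tt N113121 F484068) (tt N118009 (iv0 F508068)) (tt N71237 F453944) (tt N121218 (iv3 F525193)) (tt N107921 (iv4 F460299)) (tt N71231 (iv5 D209501)) (tt N107830 (iv6 F459900)) (tt N117602 (iv7 F505946)))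
theorem Q106302 : ∀ i, i < 106302 → P i := stepQ 106301 Q106301 (allL N106301 (tt N71285 F453947) (tt N113087 (iv0 F483925)) (tt N117062 (iv2 F503180)) (tt N71232 (iv3 D209502)) (tt N81430 F453945) (tt N106163 F453946) (tt N113264 (iv6 F484770)) (tt N121223 (iv7 F525223)))
theorem Q106303 : ∀ i, i < 106303 → P i := stepQ 106302 Q106302 (allL N106302 (tt N81861 (iv1 F470340)) (tt N115350 (iv0 F494728)) (tt N117601 (iv2 F505937)) (tt N116415 (iv3 F499982)) (tt N71236 (iv4 D209503)) (tt N120240 (iv5 F519760)) (tt N116414 F499980) (tt N90300 F453948))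
theorem Q106304 : ∀ i, i < 106304 → P i := stepQ 106303 Q106303 (allL N106303 (tt N117602 (iv1 F505948)) (tt N71237 (iv0 D209504)) (tt N113121 (iv2 F484062)) (tt N119543 (iv3 F516158)) (tt N105927 F453949) (tt N102670 F453950) (tt N86730 (iv6 F453951)) (tt N118009 (iv7 F508067)))
theorem Q106305 : ∀ i, i < 106305 → P i := stepQ 106304 Q106304 (allL N106304 (tt N71237 (iv1 D209505)) (tt N117602 (iv0 F505947)) (tt N118009 (iv2 F508065)) (tt N121161 (iv3 F524862)) (tt N97953 (iv4 F469770)) (tt N106476 (iv5 F469768)) (tt N103035 F469769) (tt N113121 (iv7 F484066)))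
theorem Q106306 : ∀ i, i < 106306 → P i := stepQ 106305 Q106305 (allL N106305 (tt N118009 F508069) (tt N113121 (iv0 F484067)) (tt N117602 (iv2 F505944)) (tt N71245 F453952) (tt N115042 (iv4 F493182)) (tt N71238 F453953) (tt N113093 F483949) (tt N71237 (iv7 D209506)))
theorem Q106307 : ∀ i, i < 106307 → P i := stepQ 106306 Q106306 (allL N106306 (tt N99307 (iv1 F453957)) (tt N107775 (iv0 F459668)) (tt N107778 F459686) (tt N103017 F453954) (tt N103022 F453955) (tt N71242 F453956) (tt N118625 (iv6 F511203)) (tt N71241 (iv7 D209507)))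
theorem Q106308 : ∀ i, i < 106308 → P i := stepQ 106307 Q106307 (allL N106307 (tt N71281 (iv1 F453963)) (tt N100233 (iv0 F453964)) (tt N98495 F453958) (tt N71243 (iv3 D209508)) (tt N84814 F453959) (tt N95513 F453960) (tt N84813 (iv6 F453962)) (tt N95512 F453961))
theorem Q106309 : ∀ i, i < 106309 → P i := stepQ 106308 Q106308 (allL N106308 (tt N103036 (iv1 F453969)) (tt N119565 F516288) (tt N106483 (iv2 F454623)) (tt N84813 F453965) (tt N84815 F453966) (tt N106219 F453967) (tt N71243 (iv6 D209509)) (tt N85136 F453968))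
theorem Q106310 : ∀ i, i < 106310 → P i := stepQ 106309 Q106309 (allL N106309 (tt N71244 (iv1 D209510)) (tt N106480 (iv0 F454612)) (tt N106264 F453973) (tt N120781 (iv3 F522673)) (tt N71436 F453971) (tt N106814 (iv5 F455799)) (tt N103041 (iv6 F453972)) (tt N71435 F453970))
theorem Q106311 : ∀ i, i < 106311 → P i := stepQ 106310 Q106310 (allL N106310 (tt N118861 (iv1 F512453)) (tt N115995 F497959) (tt N95486 F453974) (tt N119481 (iv3 F515834)) (tt N81175 F453975) (tt N71244 (iv5 D209511)) (tt N115596 F495923) (tt N95391 F453976))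
theorem Q106312 : ∀ i, i < 106312 → P i := stepQ 106311 Q106311 (allL N106311 (tt N106264 (iv1 F453981)) (tt N71435 F453982) (tt N106480 (iv2 F454609)) (tt N93560 F453977) (tt N71245 F453978) (tt N95391 F453979) (tt N93559 F453980) (tt N71244 (iv7 D209512)))
theorem Q106313 : ∀ i, i < 106313 → P i := stepQ 106312 Q106312 (allL N106312 (tt N113079 F483880) (tt N111144 F483881) (tt N106481 (iv2 F454614)) (tt N113093 F483948) (tt N93559 F453983) (tt N106648 (iv5 F455141)) (tt N71245 (iv6 D209513)) (tt N118625 (iv7 F511205)))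
theorem Q106314 : ∀ i, i < 106314 → P i := stepQ 106313 Q106313 (allL N106313 (tt N98257 (iv1 F467879)) (tt N105681 F467880) (tt N109640 F467884) (tt N92968 F453984) (tt N71247 (iv4 D209514)) (tt N118095 (iv5 F508556)) (tt N113111 F484020) (tt N109639 (iv7 F467878)))
theorem Q106315 : ∀ i, i < 106315 → P i := stepQ 106314 Q106314 (allL N106314 (tt N121228 (iv1 F525253)) (tt N71323 F454353) (tt N121217 (iv2 F525187)) (tt N89732 F453985) (tt N113111 F484018) (tt N71929 F453986) (tt N71247 (iv6 D209515)) (tt N89717 F453987))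
theorem Q106316 : ∀ i, i < 106316 → P i := stepQ 106315 Q106315 (allL N106315 (tt N93453 F453992) (tt N93450 F453991) (tt N93441 F453988) (tt N94329 F453989) (tt N71248 (iv4 D209516)) (tt N100752 (iv5 F453993)) (tt N107886 (iv6 F460124)) (tt N93449 F453990))
theorem Q106317 : ∀ i, i < 106317 → P i := stepQ 106316 Q106316 (allL N106316 (tt N120803 (iv1 F522809)) (tt N71290 (iv0 F453996)) (tt N89742 F453994) (tt N71250 F453995) (tt N114928 (iv4 F492581)) (tt N71248 (iv5 D209517)) (tt N89735 F453997) (tt N120573 (iv7 F521525)))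
theorem Q106318 : ∀ i, i < 106318 → P i := stepQ 106317 Q106317 (allL N106317 (tt N113745 (iv1 F486927)) (tt N72059 (iv0 F454002)) (tt N89743 F453998) (tt N71251 F453999) (tt N107886 (iv4 F460123)) (tt N89736 F454000) (tt N71248 (iv6 D209518)) (tt N71932 F454001))
theorem Q106319 : ∀ i, i < 106319 → P i := stepQ 106318 Q106318 (allL N106318 (tt N108048 (iv1 F460877)) (tt N120137 (iv0 F519263)) (tt N120960 (iv2 F523713)) (tt N94330 F454003) (tt N71251 F454004) (tt N90473 (iv5 F454006)) (tt N71249 (iv6 D209519)) (tt N71933 F454005))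
theorem Q106320 : ∀ i, i < 106320 → P i := stepQ 106319 Q106319 (allL N106319 (tt N105681 F454009) (tt N98257 (iv0 F454010)) (tt N109639 F467876) (tt N98651 (iv3 F454011)) (tt N71250 (iv4 D209520)) (tt N96932 F454008) (tt N100302 F454007) (tt N109640 (iv7 F467882)))
theorem Q106321 : ∀ i, i < 106321 → P i := stepQ 106320 Q106320 (allL N106320 (tt N71261 (iv1 F454016)) (tt N71253 (iv0 D209521)) (tt N71258 (iv2 F454013)) (tt N111192 (iv3 F475165)) (tt N108822 F464128) (tt N98941 F454012) (tt N110114 (iv6 F470052)) (tt N71259 (iv7 F454014)))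
theorem Q106322 : ∀ i, i < 106322 → P i := stepQ 106321 Q106321 (allL N106321 (tt N121282 D224541) (tt N83530 (iv0 F454021)) (tt N71260 F454018) (tt N83471 F454019) (tt N109990 (iv4 F469482)) (tt N71253 (iv5 D209522)) (tt N89870 F454020) (tt N110416 (iv7 F471472)))
theorem Q106323 : ∀ i, i < 106323 → P i := stepQ 106322 Q106322 (allL N106322 (tt N71259 (iv1 F454023)) (tt N71258 F454024) (tt N71261 F454022) (tt N110417 (iv3 F471477)) (tt N120730 (iv4 F522396)) (tt N110416 F471474) (tt N116486 (iv6 F500391)) (tt N71253 (iv7 D209523)))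
theorem Q106324 : ∀ i, i < 106324 → P i := stepQ 106323 Q106323 (allL N106323 (tt N117313 (iv1 F504420)) (tt N89811 (iv0 F454027)) (tt N114030 (iv2 F488278)) (tt N71254 (iv3 D209524)) (tt N119059 (iv4 F513558)) (tt N90707 F454025) (tt N110519 (iv6 F471957)) (tt N89834 F454026))
theorem Q106325 : ∀ i, i < 106325 → P i := stepQ 106324 Q106324 (allL N106324 (tt N121139 F524732) (tt N121283 D224542) (tt N121219 (iv2 F525198)) (tt N85220 (iv3 F454030)) (tt N71254 (iv4 D209525)) (tt N93120 F454029) (tt N109800 (iv6 F468675)) (tt N98325 F454028))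
theorem Q106326 : ∀ i, i < 106326 → P i := stepQ 106325 Q106325 (allL N106325 (tt N98436 (iv1 F454034)) (tt N71274 F454033) (tt N120210 (iv2 F519610)) (tt N71255 (iv3 D209526)) (tt N76721 (iv4 F454031)) (tt N117272 (iv5 F504218)) (tt N99153 F454032) (tt N120209 (iv7 F519606)))
theorem Q106327 : ∀ i, i < 106327 → P i := stepQ 106326 Q106326 (allL N106326 (tt N121283 (iv1 F525547)) (tt N121139 (iv0 F524731)) (tt N98325 F454035) (tt N99813 F454036) (tt N71255 (iv4 D209527)) (tt N95869 F454037) (tt N98324 (iv6 F454038)) (tt N121219 (iv7 F525202)))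
theorem Q106328 : ∀ i, i < 106328 → P i := stepQ 106327 Q106327 (allL N106327 (tt N100318 F454043) (tt N85630 (iv0 F454044)) (tt N89832 F454039) (tt N99153 F454040) (tt N98324 F454041) (tt N99152 F454045) (tt N71255 (iv6 D209528)) (tt N98384 F454042))
theorem Q106329 : ∀ i, i < 106329 → P i := stepQ 106328 Q106328 (allL N106328 (tt N89872 (iv1 F454050)) (tt N71256 (iv0 D209529)) (tt N76433 (iv2 F454049)) (tt N114942 F492673) (tt N101316 F454047) (tt N76432 F454046) (tt N101315 F454048) (tt N89871 F454051))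
theorem Q106330 : ∀ i, i < 106330 → P i := stepQ 106329 Q106329 (allL N106329 (tt N71257 (iv1 D209530)) (tt N89801 F454052) (tt N89803 F454056) (tt N76578 (iv3 F454055)) (tt N89485 F454054) (tt N113517 (iv5 F485874)) (tt N121253 F525391) (tt N76703 F454053))
theorem Q106331 : ∀ i, i < 106331 → P i := stepQ 106330 Q106330 (allL N106330 (tt N114633 (iv1 F491111)) (tt N114631 (iv0 F491099)) (tt N89870 F454057) (tt N71264 F454058) (tt N89543 F454060) (tt N71257 (iv5 D209531)) (tt N71260 F454059) (tt N121284 D224543))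
theorem Q106332 : ∀ i, i < 106332 → P i := stepQ 106331 Q106331 (allL N106331 (tt N89803 (iv1 F454064)) (tt N76703 F454065) (tt N89801 F454061) (tt N71265 F454062) (tt N84991 F454063) (tt N121284 (iv5 F525557)) (tt N120959 (iv6 F523712)) (tt N71257 (iv7 D209532)))
theorem Q106333 : ∀ i, i < 106333 → P i := stepQ 106332 Q106332 (allL N106332 (tt N108823 (iv1 F464131)) (tt N76045 (iv0 F454068)) (tt N108822 (iv2 F464129)) (tt N96846 F454066) (tt N71258 (iv4 D209533)) (tt N110087 (iv5 F469931)) (tt N110082 F469899) (tt N96843 F454067))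
theorem Q106334 : ∀ i, i < 106334 → P i := stepQ 106333 Q106333 (allL N106333 (tt N121285 D224544) (tt N117797 (iv0 F507025)) (tt N98941 F454069) (tt N91144 F454070) (tt N98924 (iv4 F454071)) (tt N71258 (iv5 D209534)) (tt N91142 (iv6 F454072)) (tt N117336 (iv7 F504520)))
theorem Q106335 : ∀ i, i < 106335 → P i := stepQ 106334 Q106334 (allL N106334 (tt N111000 (iv1 F474174)) (tt N117321 F504454) (tt N110114 (iv2 F470051)) (tt N116201 F498980) (tt N110082 (iv4 F469902)) (tt N110103 (iv5 F470003)) (tt N71258 (iv6 D209535)) (tt N110102 F470001))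
theorem Q106336 : ∀ i, i < 106336 → P i := stepQ 106335 Q106335 (allL N106335 (tt N111194 (iv1 F475174)) (tt N109635 (iv0 F467861)) (tt N111193 F475170) (tt N71259 (iv3 D209536)) (tt N117573 (iv4 F505778)) (tt N117386 (iv5 F504775)) (tt N71974 F454073) (tt N111192 F475166))
theorem Q106337 : ∀ i, i < 106337 → P i := stepQ 106336 Q106336 (allL N106336 (tt N76045 F454076) (tt N108823 F464132) (tt N96843 F454074) (tt N117888 (iv3 F507445)) (tt N71259 (iv4 D209537)) (tt N110131 (iv5 F470106)) (tt N96842 F454075) (tt N108822 (iv7 F464127)))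
theorem Q106338 : ∀ i, i < 106338 → P i := stepQ 106337 Q106337 (allL N106337 (tt N117797 F507026) (tt N121285 F525563) (tt N117336 (iv2 F504518)) (tt N117386 (iv3 F504774)) (tt N98942 (iv4 F454078)) (tt N71259 (iv5 D209538)) (tt N117384 F504769) (tt N98941 F454077))
theorem Q106339 : ∀ i, i < 106339 → P i := stepQ 106338 Q106338 (allL N106338 (tt N110416 (iv1 F471475)) (tt N71260 (iv0 D209539)) (tt N121282 F525544) (tt N112344 (iv3 F480671)) (tt N121286 D224545) (tt N106638 F455119) (tt N109498 (iv6 F467279)) (tt N83530 (iv7 F455120)))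
theorem Q106340 : ∀ i, i < 106340 → P i := stepQ 106339 Q106339 (allL N106339 (tt N71260 (iv1 D209540)) (tt N110416 (iv0 F471473)) (tt N83530 F454080) (tt N116520 (iv3 F500588)) (tt N71552 F454081) (tt N106639 (iv5 F473099)) (tt N77930 (iv6 F454079)) (tt N121282 (iv7 F525546)))
theorem Q106341 : ∀ i, i < 106341 → P i := stepQ 106340 Q106340 (allL N106340 (tt N110004 (iv1 F469525)) (tt N77971 (iv0 F455030)) (tt N109990 (iv2 F469481)) (tt N121287 D224546) (tt N71260 (iv4 D209541)) (tt N109827 (iv5 F468807)) (tt N89543 F454082) (tt N109989 (iv7 F469476)))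
theorem Q106342 : ∀ i, i < 106342 → P i := stepQ 106341 Q106341 (allL N106341 (tt N83530 (iv1 F454085)) (tt N121282 F525545) (tt N110416 (iv2 F471471)) (tt N71267 F454083) (tt N109989 (iv4 F469477)) (tt N71261 F454084) (tt N121288 D224547) (tt N71260 (iv7 D209542)))
theorem Q106343 : ∀ i, i < 106343 → P i := stepQ 106342 Q106342 (allL N106342 (tt N113481 (iv1 F485690)) (tt N75875 (iv0 F454090)) (tt N113482 (iv2 F485695)) (tt N81910 F454087) (tt N119895 (iv4 F517904)) (tt N71263 (iv5 D209543)) (tt N72075 F454088) (tt N90689 F454089))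
theorem Q106344 : ∀ i, i < 106344 → P i := stepQ 106343 Q106343 (allL N106343 (tt N121226 (iv1 F525241)) (tt N71264 (iv0 D209544)) (tt N108007 (iv2 F460696)) (tt N111205 F475216) (tt N121280 (iv4 F525537)) (tt N108005 F460689) (tt N119977 (iv6 F518353)) (tt N121224 (iv7 F525227)))
theorem Q106345 : ∀ i, i < 106345 → P i := stepQ 106344 Q106344 (allL N106344 (tt N71264 (iv1 D209545)) (tt N121226 F525240) (tt N121224 (iv2 F525230)) (tt N108013 (iv3 F460726)) (tt N121281 (iv4 F525538)) (tt N108008 (iv5 F460705)) (tt N83424 (iv6 F467194)) (tt N108007 F460701))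
theorem Q106346 : ∀ i, i < 106346 → P i := stepQ 106345 Q106345 (allL N106345 (tt N121289 D224548) (tt N121290 D224549) (tt N121225 (iv2 F525232)) (tt N121291 D224550) (tt N71264 (iv4 D209546)) (tt N113531 (iv5 F485911)) (tt N71266 F454091) (tt N121292 D224551))
theorem Q106347 : ∀ i, i < 106347 → P i := stepQ 106346 Q106346 (allL N106346 (tt N121224 (iv1 F525226)) (tt N108007 (iv0 F460699)) (tt N121226 (iv2 F525236)) (tt N121284 (iv3 F525555)) (tt N121292 (iv4 F525595)) (tt N71265 F454092) (tt N121166 (iv6 F524895)) (tt N71264 (iv7 D209547)))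
theorem Q106348 : ∀ i, i < 106348 → P i := stepQ 106347 Q106347 (allL N106347 (tt N109947 F516527) (tt N119884 (iv0 F519741)) (tt N121291 (iv2 F525590)) (tt N71266 (iv3 D209548)) (tt N121287 (iv4 F525573)) (tt N112571 (iv5 F481878)) (tt N121291 (iv6 F525593)) (tt N121293 D224552))
theorem Q106349 : ∀ i, i < 106349 → P i := stepQ 106348 Q106348 (allL N106348 (tt N98970 F454094) (tt N98967 F454095) (tt N119819 (iv2 F517530)) (tt N112571 F481877) (tt N72828 F454093) (tt N71266 (iv5 D209549)) (tt N121294 D224553) (tt N119375 (iv7 F515289)))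
theorem Q106350 : ∀ i, i < 106350 → P i := stepQ 106349 Q106349 (allL N106349 (tt N71512 (iv1 F454097)) (tt N71518 F454098) (tt N106647 (iv2 F455135)) (tt N121293 (iv3 F525599)) (tt N71267 F454096) (tt N119375 (iv5 F515290)) (tt N121295 D224554) (tt N71266 (iv7 D209550)))
theorem Q106351 : ∀ i, i < 106351 → P i := stepQ 106350 Q106350 (allL N106350 (tt N100274 F454099) (tt N120093 (iv0 F519007)) (tt N106648 (iv2 F455140)) (tt N121288 (iv3 F525577)) (tt N121295 (iv4 F525605)) (tt N106481 (iv5 F454615)) (tt N71267 (iv6 D209551)) (tt N121166 (iv7 F524898)))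
theorem Q106352 : ∀ i, i < 106352 → P i := stepQ 106351 Q106351 (allL N106351 (tt N117062 (iv1 F503186)) (tt N121223 (iv0 F525224)) (tt N113087 (iv2 F483921)) (tt N71271 F454100) (tt N88853 F454102) (tt N71270 (iv5 D209552)) (tt N119226 (iv6 F514472)) (tt N71285 F454101))
theorem Q106353 : ∀ i, i < 106353 → P i := stepQ 106352 Q106352 (allL N106352 (tt N80136 (iv1 F454106)) (tt N117101 (iv0 F503394)) (tt N117310 (iv2 F504397)) (tt N71272 F454103) (tt N81473 F454104) (tt N119548 (iv5 F516183)) (tt N71270 (iv6 D209553)) (tt N103189 F454105))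
theorem Q106354 : ∀ i, i < 106354 → P i := stepQ 106353 Q106353 (allL N106353 (tt N95512 F454110) (tt N98495 F454111) (tt N71281 F454107) (tt N119548 F516185) (tt N100235 F454109) (tt N71272 (iv5 D209554)) (tt N119227 (iv6 F514477)) (tt N100233 F454108))
theorem Q106355 : ∀ i, i < 106355 → P i := stepQ 106354 Q106354 (allL N106354 (tt N71290 F454114) (tt N120803 (iv0 F522808)) (tt N120573 (iv2 F521522)) (tt N85375 F454112) (tt N85316 F454115) (tt N71273 (iv5 D209555)) (tt N121108 (iv6 F524552)) (tt N89742 F454113))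
theorem Q106356 : ∀ i, i < 106356 → P i := stepQ 106355 Q106355 (allL N106355 (tt N71274 (iv1 D209556)) (tt N98436 F454116) (tt N120209 (iv2 F519604)) (tt N114030 (iv3 F488279)) (tt N76720 (iv4 F454117)) (tt N114029 (iv5 F488277)) (tt N120956 (iv6 F523690)) (tt N120210 (iv7 F519613)))
theorem Q106357 : ∀ i, i < 106357 → P i := stepQ 106356 Q106356 (allL N106356 (tt N76671 (iv1 F454123)) (tt N76669 (iv0 F454122)) (tt N119170 (iv2 F514168)) (tt N71278 F454118) (tt N98375 F454119) (tt N88975 (iv5 F454121)) (tt N71274 (iv6 D209557)) (tt N98374 F454120))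
theorem Q106358 : ∀ i, i < 106358 → P i := stepQ 106357 Q106357 (allL N106357 (tt N121296 D224555) (tt N121297 D224556) (tt N117311 (iv2 F504404)) (tt N71281 F454125) (tt N96571 (iv4 F454127)) (tt N71275 (iv5 D209558)) (tt N88975 F454126) (tt N117309 (iv7 F504393)))
theorem Q106359 : ∀ i, i < 106359 → P i := stepQ 106358 Q106358 (allL N106358 (tt N114794 F491907) (tt N112871 (iv0 F483070)) (tt N107603 (iv2 F458897)) (tt N95018 F454128) (tt N71278 F454129) (tt N71440 F454130) (tt N71277 (iv6 D209559)) (tt N98387 F454131))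
theorem Q106360 : ∀ i, i < 106360 → P i := stepQ 106359 Q106359 (allL N106359 (tt N107998 (iv1 F460657)) (tt N113084 (iv0 F483909)) (tt N119227 (iv2 F514475)) (tt N88975 F454132) (tt N100246 F454135) (tt N71278 (iv5 D209560)) (tt N71281 F454133) (tt N100245 F454134))
theorem Q106361 : ∀ i, i < 106361 → P i := stepQ 106360 Q106360 (allL N106360 (tt N109087 (iv1 F465268)) (tt N76513 F454141) (tt N98493 F454136) (tt N82273 F454137) (tt N98484 F454138) (tt N71280 (iv5 D209561)) (tt N83910 F454139) (tt N98490 F454140))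
theorem Q106362 : ∀ i, i < 106362 → P i := stepQ 106361 Q106361 (allL N106361 (tt N98495 (iv1 F454146)) (tt N95512 F454147) (tt N100233 F454142) (tt N117309 (iv3 F504392)) (tt N86224 F454143) (tt N71282 F454144) (tt N92587 F454145) (tt N71281 (iv7 D209562)))
theorem Q106363 : ∀ i, i < 106363 → P i := stepQ 106362 Q106362 (allL N106362 (tt N121223 F525225) (tt N117062 (iv0 F503185)) (tt N71285 F454148) (tt N98436 F454149) (tt N110057 (iv4 F469772)) (tt N71284 (iv5 D209563)) (tt N98434 (iv6 F454150)) (tt N113087 (iv7 F483924)))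
theorem Q106364 : ∀ i, i < 106364 → P i := stepQ 106363 Q106363 (allL N106363 (tt N113087 (iv1 F483926)) (tt N71285 (iv0 D209564)) (tt N121223 (iv2 F525219)) (tt N119230 F514495) (tt N81431 F454152) (tt N106161 F454151) (tt N98099 (iv6 F454153)) (tt N117062 (iv7 F503183)))
theorem Q106365 : ∀ i, i < 106365 → P i := stepQ 106364 Q106364 (allL N106364 (tt N105718 F454157) (tt N76335 F454158) (tt N110057 (iv2 F469771)) (tt N81870 F454154) (tt N71285 (iv4 D209565)) (tt N81868 F454156) (tt N114678 (iv6 F491331)) (tt N88853 F454155))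
theorem Q106366 : ∀ i, i < 106366 → P i := stepQ 106365 Q106365 (allL N106365 (tt N113839 (iv1 F487380)) (tt N113835 (iv0 F487359)) (tt N113089 (iv2 F483929)) (tt N71286 (iv3 D209566)) (tt N88862 F454159) (tt N81487 F454160) (tt N89679 (iv6 F454162)) (tt N71293 F454161))
theorem Q106367 : ∀ i, i < 106367 → P i := stepQ 106366 Q106366 (allL N106366 (tt N113223 F484568) (tt N89035 (iv0 F454166)) (tt N71292 F454163) (tt N89679 F454164) (tt N89841 (iv4 F454167)) (tt N91501 F454165) (tt N71286 (iv6 D209567)) (tt N113228 (iv7 F484595)))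
theorem Q106368 : ∀ i, i < 106368 → P i := stepQ 106367 Q106367 (allL N106367 (tt N120573 (iv1 F521527)) (tt N89742 (iv0 F454172)) (tt N120803 (iv2 F522804)) (tt N71287 (iv3 D209568)) (tt N98428 F454169) (tt N104965 F454170) (tt N98427 (iv6 F454173)) (tt N71290 F454171))
theorem Q106369 : ∀ i, i < 106369 → P i := stepQ 106368 Q106368 (allL N106368 (tt N108000 (iv1 F460667)) (tt N107996 (iv0 F460646)) (tt N71295 F454174) (tt N98427 F454175) (tt N109705 F468211) (tt N114682 (iv5 F491344)) (tt N71287 (iv6 D209569)) (tt N107999 (iv7 F460659)))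
theorem Q106370 : ∀ i, i < 106370 → P i := stepQ 106369 Q106369 (allL N106369 (tt N71300 (iv1 F454180)) (tt N71289 (iv0 D209570)) (tt N71302 (iv2 F454183)) (tt N86287 F454177) (tt N88884 F454178) (tt N73885 F454176) (tt N72532 F454179) (tt N71303 (iv7 F454184)))
theorem Q106371 : ∀ i, i < 106371 → P i := stepQ 106370 Q106370 (allL N106370 (tt N71289 (iv1 D209571)) (tt N71300 F454185) (tt N71303 F454188) (tt N121298 D224557) (tt N116288 (iv4 F499376)) (tt N105449 (iv5 F454187)) (tt N107997 F460653) (tt N71302 F454186))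
theorem Q106372 : ∀ i, i < 106372 → P i := stepQ 106371 Q106371 (allL N106371 (tt N89742 F454191) (tt N120573 (iv0 F521526)) (tt N71290 (iv2 D209572)) (tt N113089 (iv3 F483934)) (tt N113091 (iv4 F483940)) (tt N90902 F454189) (tt N88701 F454190) (tt N120803 (iv7 F522807)))
theorem Q106373 : ∀ i, i < 106373 → P i := stepQ 106372 Q106372 (allL N106372 (tt N106193 F454195) (tt N114497 (iv0 F490470)) (tt N113091 (iv2 F483939)) (tt N101358 F454192) (tt N71290 (iv4 D209573)) (tt N104186 (iv5 F454196)) (tt N83239 F454193) (tt N98428 F454194))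
theorem Q106374 : ∀ i, i < 106374 → P i := stepQ 106373 Q106373 (allL N106373 (tt N84854 (iv1 F454201)) (tt N85633 (iv0 F454200)) (tt N89841 F454197) (tt N101359 F454198) (tt N71292 F454199) (tt N110363 (iv5 F471244)) (tt N71291 (iv6 D209574)) (tt N89842 (iv7 F454202)))
theorem Q106375 : ∀ i, i < 106375 → P i := stepQ 106374 Q106374 (allL N106374 (tt N89035 (iv1 F454206)) (tt N113223 (iv0 F484566)) (tt N113228 F484597) (tt N88699 F454203) (tt N89842 F454204) (tt N88586 F454205) (tt N107999 F460661) (tt N71292 (iv7 D209575)))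
theorem Q106376 : ∀ i, i < 106376 → P i := stepQ 106375 Q106375 (allL N106375 (tt N113835 (iv1 F487360)) (tt N113839 F487379) (tt N71293 (iv2 D209576)) (tt N120803 (iv3 F522805)) (tt N109704 F468206) (tt N112361 (iv5 F480743)) (tt N121299 D224558) (tt N113089 (iv7 F483931)))
theorem Q106377 : ∀ i, i < 106377 → P i := stepQ 106376 Q106376 (allL N106376 (tt N106190 F454209) (tt N94156 F454210) (tt N109704 (iv2 F468201)) (tt N81873 F454211) (tt N71293 (iv4 D209577)) (tt N76945 F454208) (tt N117346 (iv6 F504583)) (tt N88862 F454207))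
theorem Q106378 : ∀ i, i < 106378 → P i := stepQ 106377 Q106377 (allL N106377 (tt N121300 D224559) (tt N117588 (iv0 F505863)) (tt N121299 (iv2 F525621)) (tt N71295 F454212) (tt N117346 (iv4 F504587)) (tt N121301 D224560) (tt N71293 (iv6 D209578)) (tt N113245 (iv7 F484686)))
theorem Q106379 : ∀ i, i < 106379 → P i := stepQ 106378 Q106378 (allL N106378 (tt N101043 F454218) (tt N109593 (iv0 F467634)) (tt N88865 F454213) (tt N71294 (iv3 D209579)) (tt N81873 F454214) (tt N79113 F454215) (tt N79114 F454216) (tt N88863 F454217))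
theorem Q106380 : ∀ i, i < 106380 → P i := stepQ 106379 Q106379 (allL N106379 (tt N107999 (iv1 F460658)) (tt N71295 (iv0 D209580)) (tt N108000 (iv2 F460663)) (tt N71311 (iv3 F454220)) (tt N78973 F454219) (tt N84430 F454283) (tt N113229 (iv6 F484602)) (tt N107996 F460648))
theorem Q106381 : ∀ i, i < 106381 → P i := stepQ 106380 Q106380 (allL N106380 (tt N88570 F475587) (tt N88833 (iv0 F454284)) (tt N114682 (iv2 F491348)) (tt N121301 (iv3 F525634)) (tt N114734 (iv4 F491582)) (tt N71295 (iv5 D209581)) (tt N112736 (iv6 F482436)) (tt N114683 (iv7 F491350)))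
theorem Q106382 : ∀ i, i < 106382 → P i := stepQ 106381 Q106381 (allL N106381 (tt N107996 (iv1 F460647)) (tt N108000 F460666) (tt N107999 F460662) (tt N113245 (iv3 F484685)) (tt N111287 (iv4 F475647)) (tt N114683 (iv5 F491352)) (tt N113228 (iv6 F484599)) (tt N71295 (iv7 D209582)))
theorem Q106383 : ∀ i, i < 106383 → P i := stepQ 106382 Q106382 (allL N106382 (tt N89735 F454226) (tt N89041 (iv0 F454227)) (tt N89740 F454221) (tt N71296 (iv3 D209583)) (tt N97975 F454222) (tt N101074 F454223) (tt N76680 F454224) (tt N89739 F454225))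
theorem Q106384 : ∀ i, i < 106384 → P i := stepQ 106383 Q106383 (allL N106383 (tt N72359 F454232) (tt N72357 F454233) (tt N101096 F454228) (tt N117771 (iv3 F506883)) (tt N71297 (iv4 D209584)) (tt N72182 F454229) (tt N78975 F454230) (tt N101469 F454231))
theorem Q106385 : ∀ i, i < 106385 → P i := stepQ 106384 Q106384 (allL N106384 (tt N100840 F454239) (tt N100960 (iv0 F454240)) (tt N100639 F454234) (tt N72113 F454235) (tt N74001 F454236) (tt N72055 F454237) (tt N71299 (iv6 D209585)) (tt N72058 F454238))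
theorem Q106386 : ∀ i, i < 106386 → P i := stepQ 106385 Q106385 (allL N106385 (tt N121302 D224561) (tt N121108 (iv0 F524555)) (tt N113102 (iv2 F483978)) (tt N71302 (iv3 D209586)) (tt N104180 (iv4 F454243)) (tt N88696 F454241) (tt N104179 F454242) (tt N121298 (iv7 F525619)))
theorem Q106387 : ∀ i, i < 106387 → P i := stepQ 106386 Q106386 (allL N106386 (tt N112872 F483075) (tt N115791 (iv0 F496904)) (tt N88884 F454244) (tt N101393 (iv3 F454246)) (tt N71302 (iv4 D209587)) (tt N88785 F454245) (tt N107955 (iv6 F460465)) (tt N116288 (iv7 F499378)))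
theorem Q106388 : ∀ i, i < 106388 → P i := stepQ 106387 Q106387 (allL N106387 (tt N115791 (iv1 F496905)) (tt N112872 (iv0 F483074)) (tt N116288 (iv2 F499374)) (tt N85419 F454247) (tt N71303 (iv4 D209588)) (tt N72007 F454248) (tt N106830 (iv6 F455875)) (tt N88884 F454249))
theorem Q106389 : ∀ i, i < 106389 → P i := stepQ 106388 Q106388 (allL N106388 (tt N107995 F460643) (tt N72534 (iv0 F454251)) (tt N107997 (iv2 F460652)) (tt N113249 F487472) (tt N106830 (iv4 F455877)) (tt N105419 F454250) (tt N71303 (iv6 D209589)) (tt N107953 (iv7 F460454)))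
theorem Q106390 : ∀ i, i < 106390 → P i := stepQ 106389 Q106389 (allL N106389 (tt N117287 (iv1 F504297)) (tt N71865 (iv0 F454254)) (tt N72065 F454252) (tt N116493 (iv3 F500426)) (tt N109003 (iv4 F464857)) (tt N73240 F454253) (tt N71304 (iv6 D209590)) (tt N117286 (iv7 F504285)))
theorem Q106391 : ∀ i, i < 106391 → P i := stepQ 106390 Q106390 (allL N106390 (tt N110059 (iv1 F469786)) (tt N71888 (iv0 F454259)) (tt N81204 F454255) (tt N71305 (iv3 D209591)) (tt N79517 F454256) (tt N81196 F454257) (tt N110536 (iv6 F472044)) (tt N72062 F454258))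
theorem Q106392 : ∀ i, i < 106392 → P i := stepQ 106391 Q106391 (allL N106391 (tt N71307 (iv1 D209592)) (tt N110188 (iv0 F470336)) (tt N114784 (iv2 F491838)) (tt N78432 (iv3 F454262)) (tt N85645 F454261) (tt N106298 F454260) (tt N78431 F454263) (tt N113314 (iv7 F484980)))
theorem Q106393 : ∀ i, i < 106393 → P i := stepQ 106392 Q106392 (allL N106392 (tt N98137 (iv1 F454264)) (tt N71309 (iv0 D209593)) (tt N109846 (iv2 F468885)) (tt N115171 (iv3 F493835)) (tt N107254 (iv4 F457663)) (tt N113673 (iv5 F486566)) (tt N120450 (iv6 F520849)) (tt N104030 F454265))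
theorem Q106394 : ∀ i, i < 106394 → P i := stepQ 106393 Q106393 (allL N106393 (tt N89773 (iv1 F454267)) (tt N71310 (iv0 D209594)) (tt N114632 (iv2 F491102)) (tt N85331 F454269) (tt N97955 F454266) (tt N106210 (iv5 F454268)) (tt N110982 F474074) (tt N120949 (iv7 F523648)))
theorem Q106395 : ∀ i, i < 106395 → P i := stepQ 106394 Q106394 (allL N106394 (tt N71310 (iv1 D209595)) (tt N89773 F454271) (tt N120949 (iv2 F523644)) (tt N115051 (iv3 F493231)) (tt N97954 F454272) (tt N106212 (iv5 F454273)) (tt N98383 (iv6 F454274)) (tt N114632 (iv7 F491105)))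
theorem Q106396 : ∀ i, i < 106396 → P i := stepQ 106395 Q106395 (allL N106395 (tt N71457 F454279) (tt N105920 F454280) (tt N106507 (iv2 F454698)) (tt N71313 F454275) (tt N72124 F454276) (tt N71310 (iv5 D209596)) (tt N100055 F454277) (tt N88546 F454278))
theorem Q106397 : ∀ i, i < 106397 → P i := stepQ 106396 Q106396 (allL N106396 (tt N110172 F470277) (tt N120483 (iv0 F521008)) (tt N121020 (iv2 F524052)) (tt N84430 (iv3 F454282)) (tt N84433 F454281) (tt N71311 (iv5 D209597)) (tt N121303 D224562) (tt N121021 (iv7 F524063)))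
theorem Q106398 : ∀ i, i < 106398 → P i := stepQ 106397 Q106397 (allL N106397 (tt N98683 F454287) (tt N98685 (iv0 F454286)) (tt N108008 (iv2 F460702)) (tt N113229 (iv3 F484601)) (tt N103730 F454285) (tt N121224 (iv5 F525228)) (tt N71311 (iv6 D209598)) (tt N108005 (iv7 F460688)))
theorem Q106399 : ∀ i, i < 106399 → P i := stepQ 106398 Q106398 (allL N106398 (tt N120483 (iv1 F521007)) (tt N110172 (iv0 F470276)) (tt N121021 (iv2 F524059)) (tt N72562 F454288) (tt N105185 F458355) (tt N71312 (iv5 D209599)) (tt N72558 F454289) (tt N121020 (iv7 F524055)))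
theorem Q106400 : ∀ i, i < 106400 → P i := stepQ 106399 Q106399 (allL N106399 (tt N84228 F454294) (tt N71313 (iv0 D209600)) (tt N101480 (iv2 F454293)) (tt N88570 F454291) (tt N84317 (iv4 F454296)) (tt N101474 F454290) (tt N101475 F454292) (tt N114684 (iv7 F491356)))
theorem Q106401 : ∀ i, i < 106401 → P i := stepQ 106400 Q106400 (allL N106400 (tt N71313 (iv1 D209601)) (tt N84228 F454298) (tt N114684 F491359) (tt N101491 F454301) (tt N105188 F454302) (tt N101481 (iv5 F454300)) (tt N112753 (iv6 F482496)) (tt N101480 F454299))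
theorem Q106402 : ∀ i, i < 106402 → P i := stepQ 106401 Q106401 (allL N106401 (tt N106980 F487219) (tt N121110 (iv0 F524562)) (tt N121111 (iv2 F524563)) (tt N110168 (iv3 F470264)) (tt N71313 (iv4 D209602)) (tt N113809 F487218) (tt N110167 F470262) (tt N120695 (iv7 F522199)))
theorem Q106403 : ∀ i, i < 106403 → P i := stepQ 106402 Q106402 (allL N106402 (tt N114684 F491358) (tt N101480 (iv0 F454308)) (tt N84228 F454304) (tt N88546 F454305) (tt N120695 (iv4 F522200)) (tt N71314 F454306) (tt N84222 F454307) (tt N71313 (iv7 D209603)))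
theorem Q106404 : ∀ i, i < 106404 → P i := stepQ 106403 Q106403 (allL N106403 (tt N121016 (iv1 F524028)) (tt N121015 F524027) (tt N121017 (iv2 F524033)) (tt N71318 F454309) (tt N100674 F454312) (tt N71315 (iv5 D209604)) (tt N103833 F454310) (tt N71318 F454311))
theorem Q106405 : ∀ i, i < 106405 → P i := stepQ 106404 Q106404 (allL N106404 (tt N113755 (iv1 F486977)) (tt N82631 (iv0 F454315)) (tt N115332 F494638) (tt N71316 (iv3 D209605)) (tt N75142 F454313) (tt N121210 (iv5 F525150)) (tt N75061 (iv6 F454314)) (tt N113849 (iv7 F487440)))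
theorem Q106406 : ∀ i, i < 106406 → P i := stepQ 106405 Q106405 (allL N106405 (tt N121304 D224563) (tt N111822 (iv0 F484650)) (tt N121013 (iv2 F524012)) (tt N121210 (iv3 F525148)) (tt N118887 F512591) (tt N71316 (iv5 D209606)) (tt N121209 (iv6 F525145)) (tt N121014 (iv7 F524021)))
theorem Q106407 : ∀ i, i < 106407 → P i := stepQ 106406 Q106406 (allL N106406 (tt N72555 (iv1 F454321)) (tt N106847 F455970) (tt N96121 F454316) (tt N75061 F454317) (tt N96109 F454318) (tt N75060 F454319) (tt N71316 (iv6 D209607)) (tt N96142 (iv7 F454320)))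
theorem Q106408 : ∀ i, i < 106408 → P i := stepQ 106407 Q106407 (allL N106407 (tt N121000 F523949) (tt N116152 (iv0 F498771)) (tt N118748 (iv2 F511870)) (tt N71317 (iv3 D209608)) (tt N95116 F454322) (tt N103944 F454324) (tt N95115 (iv6 F454323)) (tt N121012 (iv7 F524009)))
theorem Q106409 : ∀ i, i < 106409 → P i := stepQ 106408 Q106408 (allL N106408 (tt N111822 (iv1 F478152)) (tt N121304 F525655) (tt N121014 (iv2 F524018)) (tt N103944 F454325) (tt N118888 (iv4 F512595)) (tt N71317 (iv5 D209609)) (tt N103940 (iv6 F454326)) (tt N121013 (iv7 F524014)))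
theorem Q106410 : ∀ i, i < 106410 → P i := stepQ 106409 Q106409 (allL N106409 (tt N104619 (iv1 F454330)) (tt N103729 (iv0 F454329)) (tt N116886 (iv2 F502352)) (tt N95115 F454327) (tt N114319 (iv4 F489576)) (tt N102792 F454328) (tt N71317 (iv6 D209610)) (tt N114660 (iv7 F491250)))
theorem Q106411 : ∀ i, i < 106411 → P i := stepQ 106410 Q106410 (allL N106410 (tt N121017 (iv1 F524038)) (tt N71318 (iv0 D209611)) (tt N121015 F524025) (tt N121035 (iv3 F524139)) (tt N114843 (iv4 F492147)) (tt N116903 (iv5 F502431)) (tt N121034 F524137) (tt N121016 (iv7 F524029)))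
theorem Q106412 : ∀ i, i < 106412 → P i := stepQ 106411 Q106411 (allL N106411 (tt N71318 (iv1 D209612)) (tt N121017 F524037) (tt N121016 F524032) (tt N121212 (iv3 F525158)) (tt N114844 (iv4 F492151)) (tt N116902 (iv5 F502427)) (tt N121211 F525156) (tt N121015 F524026))
theorem Q106413 : ∀ i, i < 106413 → P i := stepQ 106412 Q106412 (allL N106412 (tt N84505 (iv1 F454335)) (tt N114834 (iv0 F492117)) (tt N115942 (iv2 F497699)) (tt N78490 F454331) (tt N71318 (iv4 D209613)) (tt N78489 F454334) (tt N103834 F454332) (tt N100674 F454333))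
theorem Q106414 : ∀ i, i < 106414 → P i := stepQ 106413 Q106413 (allL N106413 (tt N88841 (iv1 F454337)) (tt N113237 F484656) (tt N71319 (iv2 D209614)) (tt N121228 (iv3 F525248)) (tt N107745 (iv4 F459518)) (tt N87039 F454336) (tt N107744 F459516) (tt N108143 (iv7 F461289)))
theorem Q106415 : ∀ i, i < 106415 → P i := stepQ 106414 Q106414 (allL N106414 (tt N120282 (iv1 F520011)) (tt N121087 (iv0 F524452)) (tt N118800 (iv2 F512142)) (tt N71320 (iv3 D209615)) (tt N118811 (iv4 F512194)) (tt N120670 (iv5 F522069)) (tt N103514 F454343) (tt N120856 (iv7 F523109)))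
theorem Q106416 : ∀ i, i < 106416 → P i := stepQ 106415 Q106415 (allL N106415 (tt N118963 (iv1 F513005)) (tt N116901 (iv0 F502423)) (tt N120855 (iv2 F523103)) (tt N120670 (iv3 F522068)) (tt N111518 (iv4 F476691)) (tt N71320 (iv5 D209616)) (tt N120669 (iv6 F522067)) (tt N120755 (iv7 F522542)))
theorem Q106417 : ∀ i, i < 106417 → P i := stepQ 106416 Q106416 (allL N106416 (tt N119065 (iv1 F513596)) (tt N98053 (iv0 F454342)) (tt N95968 F454338) (tt N103514 (iv3 F454340)) (tt N71322 F454339) (tt N118996 (iv5 F513184)) (tt N71320 (iv6 D209617)) (tt N95975 (iv7 F454341)))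
theorem Q106418 : ∀ i, i < 106418 → P i := stepQ 106417 Q106417 (allL N106417 (tt N71323 (iv1 D209619)) (tt N121228 F525254) (tt N89717 F454355) (tt N121302 (iv3 F525641)) (tt N113110 (iv4 F484014)) (tt N72107 F454356) (tt N89715 (iv6 F454354)) (tt N121217 (iv7 F525189)))
theorem Q106419 : ∀ i, i < 106419 → P i := stepQ 106418 Q106418 (allL N106418 (tt N121217 F525191) (tt N89717 F454344) (tt N71323 (iv2 D209620)) (tt N108143 (iv3 F461287)) (tt N120448 (iv4 F520832)) (tt N113137 (iv5 F484138)) (tt N89774 F454365) (tt N121228 (iv7 F525252)))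
theorem Q106420 : ∀ i, i < 106420 → P i := stepQ 106419 Q106419 (allL N106419 (tt N120450 (iv1 F520851)) (tt N104140 (iv0 F454345)) (tt N120448 F520835) (tt N103048 (iv3 F454348)) (tt N71323 (iv4 D209621)) (tt N76700 F454346) (tt N100328 F454347) (tt N119572 (iv7 F516321)))
theorem Q106421 : ∀ i, i < 106421 → P i := stepQ 106420 Q106420 (allL N106420 (tt N83988 F454352) (tt N113138 F484143) (tt N113137 (iv2 F484142)) (tt N71325 F454349) (tt N103672 F454350) (tt N71323 (iv5 D209622)) (tt N103588 (iv6 F454351)) (tt N113136 F484137))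
theorem Q106422 : ∀ i, i < 106422 → P i := stepQ 106421 Q106421 (allL N106421 (tt N89776 F454362) (tt N89772 (iv0 F454361)) (tt N89774 (iv2 F454363)) (tt N71326 F454357) (tt N100328 F454358) (tt N105618 F454359) (tt N71323 (iv6 D209623)) (tt N89775 (iv7 F454364)))
theorem Q106423 : ∀ i, i < 106423 → P i := stepQ 106422 Q106422 (allL N106422 (tt N116370 F499754) (tt N104443 (iv0 F454367)) (tt N119574 (iv2 F516328)) (tt N71324 (iv3 D209624)) (tt N103048 F454366) (tt N118610 (iv5 F511149)) (tt N98051 (iv6 F454368)) (tt N119573 (iv7 F516327)))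
theorem Q106424 : ∀ i, i < 106424 → P i := stepQ 106423 Q106423 (allL N106423 (tt N116901 (iv1 F502424)) (tt N118963 (iv0 F513004)) (tt N120755 (iv2 F522540)) (tt N118610 (iv3 F511147)) (tt N111821 (iv4 F478151)) (tt N71324 (iv5 D209625)) (tt N115663 (iv6 F496205)) (tt N120855 (iv7 F523105)))
theorem Q106425 : ∀ i, i < 106425 → P i := stepQ 106424 Q106424 (allL N106424 (tt N103603 (iv1 F454372)) (tt N90075 (iv0 F454371)) (tt N109219 (iv2 F465830)) (tt N98051 F454369) (tt N71326 F454370) (tt N120749 (iv5 F522500)) (tt N71324 (iv6 D209626)) (tt N109218 F465827))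
theorem Q106426 : ∀ i, i < 106426 → P i := stepQ 106425 Q106425 (allL N106425 (tt N95976 (iv1 F454379)) (tt N71326 (iv0 D209627)) (tt N99516 (iv2 F454374)) (tt N107995 (iv3 F460640)) (tt N104619 F454373) (tt N107775 (iv5 F459666)) (tt N113231 (iv6 F484616)) (tt N113085 (iv7 F483914)))
theorem Q106427 : ∀ i, i < 106427 → P i := stepQ 106426 Q106426 (allL N106426 (tt N113085 (iv1 F483915)) (tt N99516 F454380) (tt N95976 F454375) (tt N89775 F454376) (tt N109218 F465825) (tt N95243 F454377) (tt N72554 F454378) (tt N71326 (iv7 D209628)))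
theorem Q106428 : ∀ i, i < 106428 → P i := stepQ 106427 Q106427 (allL N106427 (tt N113224 F484573) (tt N113231 F484617) (tt N100998 F454381) (tt N91428 F454382) (tt N117767 (iv4 F506864)) (tt N74391 F454383) (tt N71327 (iv6 D209629)) (tt N100439 (iv7 F454384)))
theorem Q106429 : ∀ i, i < 106429 → P i := stepQ 106428 Q106428 (allL N106428 (tt N108005 F460690) (tt N108008 F460707) (tt N98683 F454385) (tt N104134 F454386) (tt N98056 F454387) (tt N109482 (iv5 F467192)) (tt N71328 (iv6 D209630)) (tt N98685 (iv7 F454388)))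
theorem Q106430 : ∀ i, i < 106430 → P i := stepQ 106429 Q106429 (allL N106429 (tt N98909 F454393) (tt N92359 (iv0 F454394)) (tt N102678 F454389) (tt N93589 F454390) (tt N71331 (iv4 D209631)) (tt N117783 (iv5 F506949)) (tt N71344 F454391) (tt N102677 F454392))
theorem Q106431 : ∀ i, i < 106431 → P i := stepQ 106430 Q106430 (allL N106430 (tt N81067 (iv1 F454400)) (tt N71334 (iv0 F454401)) (tt N93771 F454395) (tt N71332 (iv3 D209632)) (tt N83192 F454399) (tt N97723 F454396) (tt N77326 F454397) (tt N83210 F454398))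
theorem Q106432 : ∀ i, i < 106432 → P i := stepQ 106431 Q106431 (allL N106431 (tt N92359 F454404) (tt N98909 F454405) (tt N102677 F454402) (tt N92343 F454406) (tt N71332 (iv4 D209633)) (tt N108337 (iv5 F462131)) (tt N110997 (iv6 F474155)) (tt N102678 F454403))
theorem Q106433 : ∀ i, i < 106433 → P i := stepQ 106432 Q106432 (allL N106432 (tt N71381 F454409) (tt N99390 F454410) (tt N106941 (iv2 F456371)) (tt N71335 (iv3 D209634)) (tt N102748 F454407) (tt N91077 F454408) (tt N120112 (iv6 F519111)) (tt N106727 (iv7 F455434)))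
theorem Q106434 : ∀ i, i < 106434 → P i := stepQ 106433 Q106433 (allL N106433 (tt N119617 (iv1 F516541)) (tt N118929 (iv0 F512798)) (tt N106729 (iv2 F455441)) (tt N120112 (iv3 F519109)) (tt N71336 F454411) (tt N98104 (iv5 F454412)) (tt N71335 (iv6 D209635)) (tt N121305 D224564))
theorem Q106435 : ∀ i, i < 106435 → P i := stepQ 106434 Q106434 (allL N106434 (tt N106730 (iv1 F455444)) (tt N102685 (iv0 F454417)) (tt N98118 F454413) (tt N77179 F454414) (tt N121305 (iv4 F525660)) (tt N77178 F454415) (tt N81062 F454416) (tt N71336 (iv7 D209636)))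
theorem Q106436 : ∀ i, i < 106436 → P i := stepQ 106435 Q106435 (allL N106435 (tt N104754 F454423) (tt N83671 (iv0 F454424)) (tt N71340 F454418) (tt N97724 F454419) (tt N83664 F454420) (tt N74569 F454421) (tt N71338 (iv6 D209637)) (tt N93772 F454422))
theorem Q106437 : ∀ i, i < 106437 → P i := stepQ 106436 Q106436 (allL N106436 (tt N77014 F454429) (tt N77016 (iv0 F454430)) (tt N77013 F454425) (tt N71344 (iv3 D209638)) (tt N93782 F454426) (tt N121306 D224565) (tt N93589 F454427) (tt N77012 F454428))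
theorem Q106438 : ∀ i, i < 106438 → P i := stepQ 106437 Q106437 (allL N106437 (tt N117839 (iv1 F507210)) (tt N107498 (iv0 F458537)) (tt N106447 (iv2 F454486)) (tt N121306 (iv3 F525666)) (tt N74364 F454431) (tt N71344 (iv5 D209639)) (tt N121307 D224566) (tt N106455 (iv7 F454522)))
theorem Q106439 : ∀ i, i < 106439 → P i := stepQ 106438 Q106438 (allL N106438 (tt N103759 F454436) (tt N93258 F454437) (tt N99314 F454432) (tt N99319 F454438) (tt N71355 (iv4 D209640)) (tt N105623 F454435) (tt N102721 F454433) (tt N102686 F454434))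
theorem Q106440 : ∀ i, i < 106440 → P i := stepQ 106439 Q106439 (allL N106439 (tt N71612 F454444) (tt N100384 F454445) (tt N90465 F454440) (tt N111512 (iv3 F476653)) (tt N97037 F454441) (tt N75838 F454442) (tt N71356 (iv6 D209641)) (tt N102766 F454443))
theorem Q106441 : ∀ i, i < 106441 → P i := stepQ 106440 Q106440 (allL N106440 (tt N99684 F454448) (tt N91266 (iv0 F454449)) (tt N93908 F454446) (tt N71361 (iv3 D209642)) (tt N118265 (iv4 F509433)) (tt N88271 F454450) (tt N121308 D224567) (tt N91407 F454447))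
theorem Q106442 : ∀ i, i < 106442 → P i := stepQ 106441 Q106441 (allL N106441 (tt N88247 F454457) (tt N87898 F454454) (tt N88244 F454451) (tt N88271 F454452) (tt N88282 F454455) (tt N71361 (iv5 D209643)) (tt N88269 F454456) (tt N88245 F454453))
theorem Q106443 : ∀ i, i < 106443 → P i := stepQ 106442 Q106442 (allL N106442 (tt N91412 (iv1 F454463)) (tt N96809 (iv0 F454462)) (tt N91406 F454458) (tt N121308 (iv3 F525676)) (tt N71363 F454459) (tt N91386 F454461) (tt N71361 (iv6 D209644)) (tt N101234 F454460))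
theorem Q106444 : ∀ i, i < 106444 → P i := stepQ 106443 Q106443 (allL N106443 (tt N103581 F454470) (tt N103573 F454469) (tt N102826 F454464) (tt N104432 F454465) (tt N71362 (iv4 D209645)) (tt N102216 F454468) (tt N104430 F454466) (tt N102824 F454467))
theorem Q106445 : ∀ i, i < 106445 → P i := stepQ 106444 Q106444 (allL N106444 (tt N87898 F454475) (tt N88247 (iv0 F454477)) (tt N88245 F454471) (tt N93906 F454472) (tt N102218 F454474) (tt N71364 (iv5 D209646)) (tt N83590 F454476) (tt N88244 F454473))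
theorem Q106446 : ∀ i, i < 106446 → P i := stepQ 106445 Q106445 (allL N106445 (tt N77776 (iv1 F454479)) (tt N71366 (iv0 D209647)) (tt N102727 (iv2 F454480)) (tt N106577 (iv3 F454928)) (tt N94096 F454478) (tt N118547 (iv5 F510892)) (tt N118597 F511084) (tt N102729 (iv7 F454481)))
theorem Q106447 : ∀ i, i < 106447 → P i := stepQ 106446 Q106446 (allL N106446 (tt N71366 (iv1 D209648)) (tt N77776 F454482) (tt N102729 (iv2 F454485)) (tt N108816 F464099) (tt N94097 F454484) (tt N118545 (iv5 F510882)) (tt N118322 (iv6 F509700)) (tt N102727 F454483))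
theorem Q106448 : ∀ i, i < 106448 → P i := stepQ 106447 Q106447 (allL N106447 (tt N99631 F454489) (tt N100101 (iv0 F454490)) (tt N106437 F454486) (tt N110460 (iv3 F471691)) (tt N94351 F454488) (tt N71366 (iv5 D209649)) (tt N110458 F471684) (tt N94350 F454487))
theorem Q106449 : ∀ i, i < 106449 → P i := stepQ 106448 Q106448 (allL N106448 (tt N94103 F454495) (tt N100509 F454496) (tt N102725 F454491) (tt N100088 F454492) (tt N71368 (iv4 D209650)) (tt N99631 F454494) (tt N78253 (iv6 F454497)) (tt N102726 F454493))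
theorem Q106450 : ∀ i, i < 106450 → P i := stepQ 106449 Q106449 (allL N106449 (tt N81273 F454504) (tt N76733 (iv0 F454505)) (tt N81270 F454499) (tt N80827 F454500) (tt N78253 F454501) (tt N102804 F454502) (tt N71368 (iv6 D209651)) (tt N81271 F454503))
theorem Q106451 : ∀ i, i < 106451 → P i := stepQ 106450 Q106450 (allL N106450 (tt N100509 F454511) (tt N94103 F454512) (tt N102726 F454506) (tt N94318 F454507) (tt N71370 (iv4 D209652)) (tt N100101 F454508) (tt N72714 F454509) (tt N102725 F454510))
theorem Q106452 : ∀ i, i < 106452 → P i := stepQ 106451 Q106451 (allL N106451 (tt N112769 F482577) (tt N71373 (iv0 D209653)) (tt N117453 (iv2 F505118)) (tt N108822 F464130) (tt N117566 (iv4 F505733)) (tt N110125 (iv5 F470089)) (tt N110111 F470041) (tt N117888 (iv7 F507449)))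
theorem Q106453 : ∀ i, i < 106453 → P i := stepQ 106452 Q106452 (allL N106452 (tt N117453 F505122) (tt N117888 (iv0 F507447)) (tt N71373 (iv2 D209654)) (tt N71380 F454513) (tt N93425 F454514) (tt N121309 D224568) (tt N71379 F454515) (tt N112769 (iv7 F482575)))
theorem Q106454 : ∀ i, i < 106454 → P i := stepQ 106453 Q106453 (allL N106453 (tt N121310 D224569) (tt N121311 D224570) (tt N121309 (iv2 F525682)) (tt N71374 F454516) (tt N112784 (iv4 F482617)) (tt N71373 (iv5 D209655)) (tt N121309 (iv6 F525684)) (tt N108770 (iv7 F463858)))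
theorem Q106455 : ∀ i, i < 106455 → P i := stepQ 106454 Q106454 (allL N106454 (tt N117888 (iv1 F507448)) (tt N117453 (iv0 F505121)) (tt N112769 (iv2 F482573)) (tt N71375 F454517) (tt N93428 F454518) (tt N108770 (iv5 F463857)) (tt N94336 F454519) (tt N71373 (iv7 D209656)))
theorem Q106456 : ∀ i, i < 106456 → P i := stepQ 106455 Q106455 (allL N106455 (tt N100101 F454523) (tt N99631 F454524) (tt N94350 F454520) (tt N110119 (iv3 F470081)) (tt N71374 (iv4 D209657)) (tt N77776 F454521) (tt N120149 F519311) (tt N106437 F454522))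
theorem Q106457 : ∀ i, i < 106457 → P i := stepQ 106456 Q106456 (allL N106456 (tt N119724 (iv1 F517113)) (tt N119723 (iv0 F517107)) (tt N94348 F454525) (tt N121309 (iv3 F525683)) (tt N120149 (iv4 F519308)) (tt N71380 F454526) (tt N71374 (iv6 D209658)) (tt N121312 D224571))
theorem Q106458 : ∀ i, i < 106458 → P i := stepQ 106457 Q106457 (allL N106457 (tt N94223 (iv1 F454529)) (tt N71376 (iv0 D209659)) (tt N94222 (iv2 F454532)) (tt N82325 F454528) (tt N109192 (iv4 F465728)) (tt N96255 F454527) (tt N74292 (iv6 F454530)) (tt N94221 (iv7 F454531)))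
theorem Q106459 : ∀ i, i < 106459 → P i := stepQ 106458 Q106458 (allL N106458 (tt N71376 (iv1 D209660)) (tt N94223 (iv0 F454536)) (tt N94221 (iv2 F454537)) (tt N100753 (iv3 F454535)) (tt N109222 (iv4 F465839)) (tt N96256 F454534) (tt N121313 D224572) (tt N94222 F454533))
theorem Q106460 : ∀ i, i < 106460 → P i := stepQ 106459 Q106459 (allL N106459 (tt N94222 (iv1 F454544)) (tt N94221 F454543) (tt N71376 (iv2 D209661)) (tt N94226 F454538) (tt N72154 F454539) (tt N102743 F454540) (tt N101172 F454541) (tt N94223 F454542))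
theorem Q106461 : ∀ i, i < 106461 → P i := stepQ 106460 Q106460 (allL N106460 (tt N112812 (iv1 F482733)) (tt N92876 F454550) (tt N93439 F454545) (tt N93449 F454546) (tt N71377 (iv4 D209662)) (tt N78443 F454547) (tt N92914 F454548) (tt N94329 F454549))
theorem Q106462 : ∀ i, i < 106462 → P i := stepQ 106461 Q106461 (allL N106461 (tt N94362 F454553) (tt N94199 F454554) (tt N97336 F454551) (tt N71378 (iv3 D209663)) (tt N117505 (iv4 F505391)) (tt N112799 (iv5 F482668)) (tt N117915 (iv6 F507579)) (tt N94331 F454552))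
theorem Q106463 : ∀ i, i < 106463 → P i := stepQ 106462 Q106462 (allL N106462 (tt N93849 (iv1 F454558)) (tt N96903 F454559) (tt N94330 F454555) (tt N117915 (iv3 F507576)) (tt N96413 F454556) (tt N107722 (iv5 F459389)) (tt N71378 (iv6 D209664)) (tt N93680 F454557))
theorem Q106464 : ∀ i, i < 106464 → P i := stepQ 106463 Q106463 (allL N106463 (tt N94349 (iv1 F454563)) (tt N71380 (iv0 D209665)) (tt N94346 F472466) (tt N89509 (iv3 F472462)) (tt N110623 (iv4 F472460)) (tt N117834 F507186) (tt N121314 D224573) (tt N94347 F472463))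
theorem Q106465 : ∀ i, i < 106465 → P i := stepQ 106464 Q106464 (allL N106464 (tt N71380 (iv1 D209666)) (tt N94349 F454560) (tt N94347 (iv2 F472465)) (tt N117790 (iv3 F506983)) (tt N110624 F472471) (tt N121315 D224574) (tt N99055 (iv6 F463104)) (tt N94346 (iv7 F472468)))
theorem Q106466 : ∀ i, i < 106466 → P i := stepQ 106465 Q106465 (allL N106465 (tt N94347 (iv1 F454564)) (tt N94346 F454565) (tt N94349 F454561) (tt N112769 (iv3 F482574)) (tt N106661 (iv4 F455193)) (tt N121312 (iv5 F525698)) (tt N94342 F454562) (tt N71380 (iv7 D209667)))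
theorem Q106467 : ∀ i, i < 106467 → P i := stepQ 106466 Q106466 (allL N106466 (tt N82188 F454571) (tt N77319 (iv0 F454572)) (tt N101107 F454566) (tt N71383 F454567) (tt N94161 F454568) (tt N74000 F454569) (tt N71381 (iv6 D209668)) (tt N101108 F454570))
theorem Q106468 : ∀ i, i < 106468 → P i := stepQ 106467 Q106467 (allL N106467 (tt N96248 F454575) (tt N99373 (iv0 F454576)) (tt N107288 F457814) (tt N112678 (iv3 F482131)) (tt N71383 F454573) (tt N101629 F454574) (tt N71382 (iv6 D209669)) (tt N107289 (iv7 F457818)))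
theorem Q106469 : ∀ i, i < 106469 → P i := stepQ 106468 Q106468 (allL N106468 (tt N71582 (iv1 F454583)) (tt N71579 F454582) (tt N71384 (iv2 D209670)) (tt N99390 F454577) (tt N90787 F454578) (tt N97716 F454579) (tt N89267 F454580) (tt N97715 F454581))
theorem Q106470 : ∀ i, i < 106470 → P i := stepQ 106469 Q106469 (allL N106469 (tt N119767 F517319) (tt N106582 (iv0 F454945)) (tt N116619 (iv2 F501002)) (tt N91265 F454585) (tt N71386 F454586) (tt N120419 (iv5 F520682)) (tt N71385 (iv6 D209671)) (tt N117486 (iv7 F505288)))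
theorem Q106471 : ∀ i, i < 106471 → P i := stepQ 106470 Q106470 (allL N106470 (tt N114674 (iv1 F491314)) (tt N117113 (iv0 F503466)) (tt N86334 F454587) (tt N71388 (iv3 D209672)) (tt N90590 (iv4 F454591)) (tt N83933 F454588) (tt N95563 F454589) (tt N86343 F454590))
theorem Q106472 : ∀ i, i < 106472 → P i := stepQ 106471 Q106471 (allL N106471 (tt N119690 F516939) (tt N98948 (iv0 F454593)) (tt N120532 (iv2 F521294)) (tt N107562 (iv3 F458753)) (tt N71388 (iv4 D209673)) (tt N109977 (iv5 F469443)) (tt N98897 F454592) (tt N119746 (iv7 F517214)))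
theorem Q106473 : ∀ i, i < 106473 → P i := stepQ 106472 Q106472 (allL N106472 (tt N118928 (iv1 F512792)) (tt N71390 (iv0 D209674)) (tt N118927 F512785) (tt N117113 F503469) (tt N119316 (iv4 F514980)) (tt N119634 F516626) (tt N117185 (iv6 F503810)) (tt N106974 (iv7 F503470)))
theorem Q106474 : ∀ i, i < 106474 → P i := stepQ 106473 Q106473 (allL N106473 (tt N118927 F512787) (tt N106974 (iv0 F456493)) (tt N71390 (iv2 D209675)) (tt N110056 (iv3 F469762)) (tt N117827 (iv4 F507154)) (tt N113101 (iv5 F483974)) (tt N88622 F454594) (tt N118928 (iv7 F512791)))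
theorem Q106475 : ∀ i, i < 106475 → P i := stepQ 106474 Q106474 (allL N106474 (tt N83931 F454597) (tt N121221 (iv0 F525212)) (tt N113101 (iv2 F483972)) (tt N71391 F454595) (tt N103712 (iv4 F454598)) (tt N71390 (iv5 D209676)) (tt N82256 F454596) (tt N109108 (iv7 F465376)))
theorem Q106476 : ∀ i, i < 106476 → P i := stepQ 106475 Q106475 (allL N106475 (tt N106256 F454600) (tt N106261 F454601) (tt N118923 (iv2 F512765)) (tt N121316 D224575) (tt N71391 (iv4 D209677)) (tt N112258 (iv5 F480251)) (tt N82257 F454599) (tt N118921 (iv7 F512756)))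
theorem Q106477 : ∀ i, i < 106477 → P i := stepQ 106476 Q106476 (allL N106476 (tt N71392 (iv1 D209678)) (tt N110056 F469767) (tt N118926 F512781) (tt N120113 F519118) (tt N112535 (iv4 F481552)) (tt N106304 F469768) (tt N113017 F483576) (tt N106942 F456379))
theorem Q106478 : ∀ i, i < 106478 → P i := stepQ 106477 Q106477 (allL N106477 (tt N106942 F466250) (tt N118926 F512782) (tt N71392 (iv2 D209679)) (tt N118928 (iv3 F512788)) (tt N118712 (iv4 F511692)) (tt N87642 F454602) (tt N109296 (iv6 F466246)) (tt N110056 (iv7 F469765)))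
theorem Q106479 : ∀ i, i < 106479 → P i := stepQ 106478 Q106478 (allL N106478 (tt N106261 F454605) (tt N106256 F454606) (tt N118921 (iv2 F512754)) (tt N94767 F454603) (tt N71393 (iv4 D209680)) (tt N112261 (iv5 F480259)) (tt N94765 F454604) (tt N118923 (iv7 F512769)))
theorem Q106480 : ∀ i, i < 106480 → P i := stepQ 106479 Q106479 (allL N106479 (tt N119634 F516628) (tt N119636 (iv0 F516639)) (tt N121317 D224576) (tt N71394 (iv3 D209681)) (tt N121318 D224577) (tt N105968 F454607) (tt N116335 F499611) (tt N105967 F454608))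
theorem Q106481 : ∀ i, i < 106481 → P i := stepQ 106480 Q106480 (allL N106480 (tt N106309 F454612) (tt N106003 F454613) (tt N106311 F454609) (tt N121319 D224578) (tt N71394 (iv4 D209682)) (tt N96829 F454610) (tt N110202 F470412) (tt N105972 F454611))
theorem Q106482 : ∀ i, i < 106482 → P i := stepQ 106481 Q106481 (allL N106481 (tt N94467 F454616) (tt N117166 (iv0 F503712)) (tt N106312 F454614) (tt N116335 (iv3 F499612)) (tt N110202 (iv4 F470410)) (tt N106350 F454615) (tt N71394 (iv6 D209683)) (tt N121320 D224579))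
theorem Q106483 : ∀ i, i < 106483 → P i := stepQ 106482 Q106482 (allL N106482 (tt N106266 (iv1 F454621)) (tt N71395 (iv0 D209684)) (tt N106269 (iv2 F454620)) (tt N73543 F454619) (tt N71434 F454617) (tt N73542 F454618) (tt N114461 (iv6 F490297)) (tt N105956 F454622))
theorem Q106484 : ∀ i, i < 106484 → P i := stepQ 106483 Q106483 (allL N106483 (tt N114493 (iv1 F490447)) (tt N98224 (iv0 F454627)) (tt N106308 F454623) (tt N104103 F454624) (tt N95124 F454625) (tt N113502 (iv5 F485801)) (tt N71396 (iv6 D209685)) (tt N104098 F454626))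
theorem Q106485 : ∀ i, i < 106485 → P i := stepQ 106484 Q106484 (allL N106484 (tt N113846 (iv1 F487424)) (tt N85466 F454632) (tt N86347 F454628) (tt N71399 F454629) (tt N98100 F454630) (tt N71398 (iv5 D209686)) (tt N99897 F454631) (tt N113845 (iv7 F487415)))
theorem Q106486 : ∀ i, i < 106486 → P i := stepQ 106485 Q106485 (allL N106485 (tt N107843 F459965) (tt N110899 (iv0 F473683)) (tt N115096 (iv2 F493463)) (tt N120009 (iv3 F518536)) (tt N71399 (iv4 D209687)) (tt N112263 (iv5 F480267)) (tt N99899 F454633) (tt N118639 (iv7 F511286)))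
theorem Q106487 : ∀ i, i < 106487 → P i := stepQ 106486 Q106486 (allL N106486 (tt N73930 (iv1 F456802)) (tt N107057 (iv0 F456799)) (tt N71406 F454634) (tt N120245 F519789) (tt N110865 (iv4 F473509)) (tt N71401 (iv5 D209688)) (tt N88575 F454635) (tt N120306 (iv7 F520128)))
theorem Q106488 : ∀ i, i < 106488 → P i := stepQ 106487 Q106487 (allL N106487 (tt N72036 F454639) (tt N72033 F454640) (tt N99424 F454636) (tt N72087 F454637) (tt N73912 F454638) (tt N71402 (iv5 D209689)) (tt N99423 F454641) (tt N106955 (iv7 F456432)))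
theorem Q106489 : ∀ i, i < 106489 → P i := stepQ 106488 Q106488 (allL N106488 (tt N101004 F454648) (tt N101003 F454649) (tt N100823 F454643) (tt N92605 F454644) (tt N71403 F454645) (tt N74532 F454646) (tt N71402 (iv6 D209690)) (tt N101002 F454647))
theorem Q106490 : ∀ i, i < 106490 → P i := stepQ 106489 Q106489 (allL N106489 (tt N88576 F454654) (tt N88577 F454655) (tt N88575 F454650) (tt N71409 F454651) (tt N110530 (iv4 F472015)) (tt N71403 (iv5 D209691)) (tt N71406 F454652) (tt N88574 F454653))
theorem Q106491 : ∀ i, i < 106491 → P i := stepQ 106490 Q106490 (allL N106490 (tt N121321 D224580) (tt N117182 (iv0 F503801)) (tt N118383 (iv2 F510058)) (tt N71404 (iv3 D209692)) (tt N108668 (iv4 F463463)) (tt N121322 D224581) (tt N104965 F454656) (tt N90900 F454657))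
theorem Q106492 : ∀ i, i < 106492 → P i := stepQ 106491 Q106491 (allL N106491 (tt N108433 (iv1 F462539)) (tt N108429 (iv0 F462521)) (tt N112736 (iv2 F482435)) (tt N121322 (iv3 F525755)) (tt N108417 F462487) (tt N71404 (iv5 D209693)) (tt N114682 F491347) (tt N120182 (iv7 F519475)))
theorem Q106493 : ∀ i, i < 106493 → P i := stepQ 106492 Q106492 (allL N106492 (tt N106728 F455440) (tt N112385 (iv0 F480853)) (tt N81482 (iv2 F454660)) (tt N71405 (iv3 D209694)) (tt N80125 F454658) (tt N113063 (iv5 F483807)) (tt N80124 F454659) (tt N112735 (iv7 F482432)))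
theorem Q106494 : ∀ i, i < 106494 → P i := stepQ 106493 Q106493 (allL N106493 (tt N108429 (iv1 F462522)) (tt N108433 (iv0 F462538)) (tt N120182 (iv2 F519471)) (tt N113063 (iv3 F483805)) (tt N79123 F454662) (tt N71405 (iv5 D209695)) (tt N88583 F454661) (tt N112736 (iv7 F482437)))
theorem Q106495 : ∀ i, i < 106495 → P i := stepQ 106494 Q106494 (allL N106494 (tt N120306 (iv1 F520132)) (tt N71406 (iv0 D209696)) (tt N73930 (iv2 F454664)) (tt N121323 D224582) (tt N73895 F454663) (tt N106863 F456061) (tt N119975 F518344) (tt N107057 (iv7 F456798)))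
theorem Q106496 : ∀ i, i < 106496 → P i := stepQ 106495 Q106495 (allL N106495 (tt N109555 (iv1 F467500)) (tt N109557 (iv0 F467507)) (tt N110865 (iv2 F473505)) (tt N117337 (iv3 F504523)) (tt N71406 (iv4 D209697)) (tt N77044 F454665) (tt N110530 (iv6 F472016)) (tt N116740 (iv7 F501583)))
theorem Q106497 : ∀ i, i < 106497 → P i := stepQ 106496 Q106496 (allL N106496 (tt N106073 (iv1 F489878)) (tt N106981 (iv0 F489877)) (tt N106979 (iv2 F485543)) (tt N71408 (iv3 D209698)) (tt N120872 (iv4 F523199)) (tt N121324 D224583) (tt N109918 (iv6 F469210)) (tt N106951 (iv7 F456411)))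
theorem Q106498 : ∀ i, i < 106498 → P i := stepQ 106497 Q106497 (allL N106497 (tt N105270 F454667) (tt N104736 F454668) (tt N106953 (iv2 F456417)) (tt N121324 (iv3 F525763)) (tt N77072 F454666) (tt N71408 (iv5 D209699)) (tt N120127 (iv6 F519201)) (tt N106952 (iv7 F456415)))
theorem Q106499 : ∀ i, i < 106499 → P i := stepQ 106498 Q106498 (allL N106498 (tt N86757 (iv1 F454669)) (tt N71411 (iv0 D209700)) (tt N113017 F483575) (tt N112385 (iv3 F480851)) (tt N107753 (iv4 F459563)) (tt N113506 (iv5 F485823)) (tt N118926 (iv6 F512780)) (tt N106940 F456370))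
theorem Q106500 : ∀ i, i < 106500 → P i := stepQ 106499 Q106499 (allL N106499 (tt N113017 (iv1 F483572)) (tt N106940 (iv0 F456368)) (tt N71411 (iv2 D209701)) (tt N120564 (iv3 F521477)) (tt N90366 F454670) (tt N110162 (iv5 F470234)) (tt N104964 F454671) (tt N86757 F454672))
theorem Q106501 : ∀ i, i < 106501 → P i := stepQ 106500 Q106500 (allL N106500 (tt N106210 F454674) (tt N106212 F454675) (tt N110167 (iv2 F470261)) (tt N120483 (iv3 F521004)) (tt N71412 (iv4 D209702)) (tt N105678 F454673) (tt N121111 (iv6 F524567)) (tt N112999 F483498))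
theorem Q106502 : ∀ i, i < 106502 → P i := stepQ 106501 Q106501 (allL N106501 (tt N71413 (iv1 D209703)) (tt N120564 (iv0 F521481)) (tt N117185 F503814) (tt N121321 (iv3 F525751)) (tt N108326 F462075) (tt N117058 (iv5 F503164)) (tt N118927 F512786) (tt N106978 F456509))
theorem Q106503 : ∀ i, i < 106503 → P i := stepQ 106502 Q106502 (allL N106502 (tt N106978 F456508) (tt N117185 (iv0 F503812)) (tt N71413 (iv2 D209704)) (tt N86757 F454676) (tt N100084 F454678) (tt N88544 (iv5 F454679)) (tt N86756 F454677) (tt N120564 (iv7 F521480)))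
theorem Q106504 : ∀ i, i < 106504 → P i := stepQ 106503 Q106503 (allL N106503 (tt N112798 (iv1 F482666)) (tt N73613 F454685) (tt N100084 F454680) (tt N72495 F454681) (tt N71413 (iv4 D209705)) (tt N100039 (iv5 F454684)) (tt N89365 F454682) (tt N74298 F454683))
theorem Q106505 : ∀ i, i < 106505 → P i := stepQ 106504 Q106504 (allL N106504 (tt N110103 F470004) (tt N90053 (iv0 F454691)) (tt N88544 F454686) (tt N71414 F454687) (tt N100035 F454690) (tt N71413 (iv5 D209706)) (tt N88532 F454688) (tt N100055 F454689))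
theorem Q106506 : ∀ i, i < 106506 → P i := stepQ 106505 Q106505 (allL N106505 (tt N106212 F454694) (tt N106210 F454695) (tt N112999 (iv2 F483495)) (tt N82655 F454692) (tt N71414 (iv4 D209707)) (tt N104071 F454693) (tt N112997 (iv6 F483486)) (tt N110167 (iv7 F470260)))
theorem Q106507 : ∀ i, i < 106507 → P i := stepQ 106506 Q106506 (allL N106506 (tt N113506 F485824) (tt N120721 (iv0 F522346)) (tt N120125 (iv2 F519183)) (tt N71415 (iv3 D209708)) (tt N110155 (iv4 F470206)) (tt N106865 (iv5 F456063)) (tt N83449 F454696) (tt N77071 F454697))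
theorem Q106508 : ∀ i, i < 106508 → P i := stepQ 106507 Q106507 (allL N106507 (tt N106010 F454702) (tt N105830 F454703) (tt N106395 F454698) (tt N77063 F454699) (tt N71416 (iv4 D209709)) (tt N105674 F454700) (tt N116163 (iv6 F498821)) (tt N82734 F454701))
theorem Q106509 : ∀ i, i < 106509 → P i := stepQ 106508 Q106508 (allL N106508 (tt N105679 (iv1 F454706)) (tt N71417 (iv0 D209710)) (tt N88837 (iv2 F454707)) (tt N121325 D224584) (tt N71455 F454705) (tt N97956 F454704) (tt N115974 (iv6 F497856)) (tt N107105 (iv7 F456998)))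
theorem Q106510 : ∀ i, i < 106510 → P i := stepQ 106509 Q106509 (allL N106509 (tt N71417 (iv1 D209711)) (tt N105679 F454708) (tt N107105 (iv2 F456995)) (tt N88839 (iv3 F454712)) (tt N71456 F454711) (tt N105680 F454710) (tt N110101 (iv6 F469991)) (tt N88837 F454709))
theorem Q106511 : ∀ i, i < 106511 → P i := stepQ 106510 Q106510 (allL N106510 (tt N113606 F486275) (tt N121018 (iv0 F524044)) (tt N101378 F454713) (tt N71417 (iv3 D209712)) (tt N117337 (iv4 F504526)) (tt N101371 F454714) (tt N90510 F454715) (tt N121196 (iv7 F525076)))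
theorem Q106512 : ∀ i, i < 106512 → P i := stepQ 106511 Q106511 (allL N106511 (tt N107878 F500941) (tt N93937 (iv0 F454717)) (tt N108897 (iv2 F464399)) (tt N108907 (iv3 F464448)) (tt N71421 F454716) (tt N107872 (iv5 F464405)) (tt N71419 (iv6 D209713)) (tt N121135 (iv7 F524707)))
theorem Q106513 : ∀ i, i < 106513 → P i := stepQ 106512 Q106512 (allL N106512 (tt N120878 (iv1 F523243)) (tt N104469 F454720) (tt N118997 (iv2 F513187)) (tt N71751 F454718) (tt N71420 (iv4 D209714)) (tt N95975 F454719) (tt N102718 F454721) (tt N118996 (iv7 F513183)))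
theorem Q106514 : ∀ i, i < 106514 → P i := stepQ 106513 Q106513 (allL N106513 (tt N105568 F454726) (tt N71658 (iv0 F454728)) (tt N99255 F454722) (tt N73230 F454723) (tt N102718 F454724) (tt N99251 F454727) (tt N71420 (iv6 D209715)) (tt N73311 F454725))
theorem Q106515 : ∀ i, i < 106515 → P i := stepQ 106514 Q106514 (allL N106514 (tt N121243 (iv1 F525330)) (tt N71683 (iv0 F454733)) (tt N99256 F454729) (tt N72621 F454730) (tt N99252 F454732) (tt N71421 (iv5 D209716)) (tt N99251 F454731) (tt N118764 (iv7 F511956)))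
theorem Q106516 : ∀ i, i < 106516 → P i := stepQ 106515 Q106515 (allL N106515 (tt N93256 F454737) (tt N106939 (iv0 F456364)) (tt N99311 F454734) (tt N93528 F454735) (tt N71422 (iv4 D209717)) (tt N96466 F454736) (tt N110430 (iv6 F471548)) (tt N107691 (iv7 F459247)))
theorem Q106517 : ∀ i, i < 106517 → P i := stepQ 106516 Q106516 (allL N106516 (tt N87705 F454740) (tt N117557 F505686) (tt N117556 F505677) (tt N93529 F454738) (tt N71425 F454739) (tt N114278 (iv5 F489352)) (tt N71423 (iv6 D209718)) (tt N114463 (iv7 F490309)))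
theorem Q106518 : ∀ i, i < 106518 → P i := stepQ 106517 Q106517 (allL N106517 (tt N104469 F454743) (tt N120878 F523242) (tt N118996 (iv2 F513180)) (tt N97730 F454741) (tt N71424 (iv4 D209719)) (tt N95968 F454742) (tt N120649 (iv6 F521953)) (tt N118997 (iv7 F513190)))
theorem Q106519 : ∀ i, i < 106519 → P i := stepQ 106518 Q106518 (allL N106518 (tt N71520 F454744) (tt N121238 F525310) (tt N121122 (iv2 F524621)) (tt N110355 (iv3 F471202)) (tt N121326 D224585) (tt N71425 (iv5 D209720)) (tt N110354 F471195) (tt N110394 (iv7 F471378)))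
theorem Q106520 : ∀ i, i < 106520 → P i := stepQ 106519 Q106519 (allL N106519 (tt N71426 (iv1 D209721)) (tt N71432 F454745) (tt N71430 F454748) (tt N119733 (iv3 F517159)) (tt N121327 D224586) (tt N115346 (iv5 F494707)) (tt N99861 (iv6 F454747)) (tt N71429 F454746))
theorem Q106521 : ∀ i, i < 106521 → P i := stepQ 106520 Q106520 (allL N106520 (tt N71430 (iv1 F454751)) (tt N71429 F454752) (tt N71432 F454750) (tt N108400 F462425) (tt N108867 (iv4 F464297)) (tt N121143 (iv5 F524756)) (tt N116964 F502732) (tt N71426 (iv7 D209722)))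
theorem Q106522 : ∀ i, i < 106522 → P i := stepQ 106521 Q106521 (allL N106521 (tt N105130 F454758) (tt N105129 F454759) (tt N103511 F454753) (tt N97687 F454754) (tt N71427 (iv4 D209723)) (tt N103680 F454755) (tt N82770 F454756) (tt N105124 F454757))
theorem Q106523 : ∀ i, i < 106523 → P i := stepQ 106522 Q106522 (allL N106522 (tt N71428 (iv1 D209724)) (tt N105145 F454760) (tt N75072 (iv2 F454765)) (tt N119494 (iv3 F515892)) (tt N71973 F454763) (tt N103854 F454762) (tt N88689 (iv6 F454764)) (tt N71971 F454761))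
theorem Q106524 : ∀ i, i < 106524 → P i := stepQ 106523 Q106523 (allL N106523 (tt N117025 F503023) (tt N105147 (iv0 F454769)) (tt N79165 F454766) (tt N71429 (iv3 D209725)) (tt N119728 (iv4 F517131)) (tt N100570 (iv5 F454768)) (tt N79144 F454767) (tt N119733 (iv7 F517155)))
theorem Q106525 : ∀ i, i < 106525 → P i := stepQ 106524 Q106524 (allL N106524 (tt N121328 D224587) (tt N93924 (iv0 F456441)) (tt N108902 (iv2 F464427)) (tt N101339 (iv3 F454771)) (tt N71429 (iv4 D209726)) (tt N96503 (iv5 F454772)) (tt N96505 F454770) (tt N121327 (iv7 F525784)))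
theorem Q106526 : ∀ i, i < 106526 → P i := stepQ 106525 Q106525 (allL N106525 (tt N113873 F487568) (tt N115345 F494701) (tt N115339 (iv2 F494671)) (tt N100570 F454773) (tt N121329 D224588) (tt N71429 (iv5 D209727)) (tt N100562 F454774) (tt N115346 (iv7 F494708)))
theorem Q106527 : ∀ i, i < 106527 → P i := stepQ 106526 Q106526 (allL N106526 (tt N93924 (iv1 F464431)) (tt N121328 F525791) (tt N121327 (iv2 F525781)) (tt N108899 (iv3 F464417)) (tt N71430 (iv4 D209728)) (tt N110489 F471816) (tt N110490 (iv6 F471818)) (tt N108902 (iv7 F464430)))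
theorem Q106528 : ∀ i, i < 106528 → P i := stepQ 106527 Q106527 (allL N106527 (tt N121143 (iv1 F524759)) (tt N71431 (iv0 D209729)) (tt N121142 F524749) (tt N105546 F457256) (tt N108873 F505364) (tt N106253 (iv5 F505365)) (tt N121184 F525006) (tt N120565 (iv7 F521486)))
theorem Q106529 : ∀ i, i < 106529 → P i := stepQ 106528 Q106528 (allL N106528 (tt N71431 (iv1 D209730)) (tt N121143 F524758) (tt N120565 (iv2 F521483)) (tt N85551 F454777) (tt N108870 (iv4 F478206)) (tt N106228 (iv5 F454776)) (tt N85548 (iv6 F454775)) (tt N121142 (iv7 F524751)))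
theorem Q106530 : ∀ i, i < 106530 → P i := stepQ 106529 Q106529 (allL N106529 (tt N119172 F514183) (tt N96571 (iv0 F454781)) (tt N119154 (iv2 F514076)) (tt N117553 (iv3 F505659)) (tt N71431 (iv4 D209731)) (tt N90953 F464326) (tt N105561 F454780) (tt N119171 (iv7 F514175)))
theorem Q106531 : ∀ i, i < 106531 → P i := stepQ 106530 Q106530 (allL N106530 (tt N120565 (iv1 F521489)) (tt N121142 F524752) (tt N121143 (iv2 F524753)) (tt N71436 F454782) (tt N119171 F514179) (tt N71432 F454783) (tt N121145 (iv6 F524770)) (tt N71431 (iv7 D209732)))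
theorem Q106532 : ∀ i, i < 106532 → P i := stepQ 106531 Q106531 (allL N106531 (tt N90439 F454788) (tt N119074 (iv0 F513645)) (tt N106270 F454784) (tt N85600 F454785) (tt N114461 F490295) (tt N106293 F454786) (tt N71434 (iv6 D209733)) (tt N85594 F454787))
theorem Q106533 : ∀ i, i < 106533 → P i := stepQ 106532 Q106532 (allL N106532 (tt N109634 F467857) (tt N116020 F498097) (tt N120782 (iv2 F522683)) (tt N71435 (iv3 D209734)) (tt N117553 (iv4 F505663)) (tt N121330 D224589) (tt N101417 F454789) (tt N120781 F522677))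
theorem Q106534 : ∀ i, i < 106534 → P i := stepQ 106533 Q106533 (allL N106533 (tt N95493 F454792) (tt N95489 F454791) (tt N118860 (iv2 F512443)) (tt N121330 (iv3 F525804)) (tt N96814 F454790) (tt N71435 (iv5 D209735)) (tt N116364 F499733) (tt N106814 (iv7 F455798)))
theorem Q106535 : ∀ i, i < 106535 → P i := stepQ 106534 Q106534 (allL N106534 (tt N114503 F490495) (tt N114502 (iv0 F490494)) (tt N106265 F454793) (tt N121145 (iv3 F524767)) (tt N103041 F454794) (tt N117175 (iv5 F503762)) (tt N71436 (iv6 D209736)) (tt N105704 F454795))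
theorem Q106536 : ∀ i, i < 106536 → P i := stepQ 106535 Q106535 (allL N106535 (tt N109091 (iv1 F465289)) (tt N109033 (iv0 F465020)) (tt N109092 (iv2 F465296)) (tt N112349 (iv3 F480692)) (tt N71438 (iv4 D209737)) (tt N100246 F454797) (tt N109044 (iv6 F465078)) (tt N92563 F454796))
theorem Q106537 : ∀ i, i < 106537 → P i := stepQ 106536 Q106536 (allL N106536 (tt N105832 F454799) (tt N71502 (iv0 F454800)) (tt N117732 F506680) (tt N113187 F484382) (tt N109044 (iv4 F465076)) (tt N120188 (iv5 F519504)) (tt N71438 (iv6 D209738)) (tt N109043 (iv7 F465072)))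
theorem Q106538 : ∀ i, i < 106538 → P i := stepQ 106537 Q106537 (allL N106537 (tt N73829 F454803) (tt N71478 F454804) (tt N118930 (iv2 F512800)) (tt N71441 F454801) (tt N103701 F454802) (tt N71439 (iv5 D209739)) (tt N109090 (iv6 F465285)) (tt N120743 (iv7 F522469)))
theorem Q106539 : ∀ i, i < 106539 → P i := stepQ 106538 Q106538 (allL N106538 (tt N96299 F454811) (tt N117078 (iv0 F503265)) (tt N118931 (iv2 F512807)) (tt N71442 F454810) (tt N117877 (iv4 F507391)) (tt N110529 (iv5 F472010)) (tt N71439 (iv6 D209740)) (tt N116429 (iv7 F500060)))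
theorem Q106540 : ∀ i, i < 106540 → P i := stepQ 106539 Q106539 (allL N106539 (tt N99106 F454814) (tt N106857 F456024) (tt N71446 F454812) (tt N76242 F454815) (tt N71443 (iv4 D209741)) (tt N76240 F454813) (tt N119629 (iv6 F516600)) (tt N106856 (iv7 F456015)))
theorem Q106541 : ∀ i, i < 106541 → P i := stepQ 106540 Q106540 (allL N106540 (tt N114385 F489906) (tt N121331 D224590) (tt N71447 F454816) (tt N105146 F454817) (tt N119629 F516604) (tt N121332 D224591) (tt N71443 (iv6 D209742)) (tt N121128 (iv7 F524661)))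
theorem Q106542 : ∀ i, i < 106542 → P i := stepQ 106541 Q106541 (allL N106541 (tt N121269 (iv1 F525484)) (tt N121268 F525480) (tt N71450 F454818) (tt N121229 (iv3 F525256)) (tt N121333 D224592) (tt N71444 (iv5 D209743)) (tt N121332 (iv6 F525819)) (tt N121267 (iv7 F525473)))
theorem Q106543 : ∀ i, i < 106543 → P i := stepQ 106542 Q106542 (allL N106542 (tt N98501 F454821) (tt N76806 (iv0 F454822)) (tt N76240 F454819) (tt N107760 (iv3 F459607)) (tt N113084 (iv4 F483907)) (tt N71446 (iv5 D209744)) (tt N113083 (iv6 F483904)) (tt N100214 F454820))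
theorem Q106544 : ∀ i, i < 106544 → P i := stepQ 106543 Q106543 (allL N106543 (tt N86002 F454826) (tt N104949 (iv0 F454827)) (tt N119629 (iv2 F516598)) (tt N86009 F454823) (tt N71447 F454824) (tt N115033 (iv5 F493131)) (tt N71446 (iv6 D209745)) (tt N104968 F454825))
theorem Q106545 : ∀ i, i < 106545 → P i := stepQ 106544 Q106544 (allL N106544 (tt N121128 F524663) (tt N71447 (iv0 D209746)) (tt N114385 F489904) (tt N108345 F462178) (tt N84950 F454828) (tt N121334 D224593) (tt N84949 (iv6 F454829)) (tt N121331 (iv7 F525810)))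
theorem Q106546 : ∀ i, i < 106546 → P i := stepQ 106545 Q106545 (allL N106545 (tt N71447 (iv1 D209747)) (tt N121128 (iv0 F524662)) (tt N121331 (iv2 F525814)) (tt N114388 (iv3 F489918)) (tt N109079 (iv4 F468970)) (tt N120171 (iv5 F519416)) (tt N109368 F468971) (tt N114385 (iv7 F489907)))
theorem Q106547 : ∀ i, i < 106547 → P i := stepQ 106546 Q106546 (allL N106546 (tt N121335 D224594) (tt N121336 D224595) (tt N121332 (iv2 F525816)) (tt N71453 F454830) (tt N98594 (iv4 F454832)) (tt N71447 (iv5 D209748)) (tt N71450 F454831) (tt N119627 (iv7 F516589)))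
theorem Q106548 : ∀ i, i < 106548 → P i := stepQ 106547 Q106547 (allL N106547 (tt N121331 (iv1 F525809)) (tt N114385 (iv0 F489908)) (tt N121128 (iv2 F524657)) (tt N71454 F454833) (tt N104968 F454834) (tt N119627 (iv5 F516590)) (tt N104967 F454835) (tt N71447 (iv7 D209749)))
theorem Q106549 : ∀ i, i < 106549 → P i := stepQ 106548 Q106548 (allL N106548 (tt N121337 D224596) (tt N119016 (iv0 F513302)) (tt N107369 (iv2 F458127)) (tt N82167 F454836) (tt N71448 (iv4 D209750)) (tt N121338 D224597) (tt N82165 F454837) (tt N107641 (iv7 F459053)))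
theorem Q106550 : ∀ i, i < 106550 → P i := stepQ 106549 Q106549 (allL N106549 (tt N108381 F462342) (tt N108412 F462470) (tt N108410 (iv2 F462465)) (tt N116451 (iv3 F500190)) (tt N121339 D224598) (tt N71448 (iv5 D209751)) (tt N121340 D224599) (tt N108409 F462461))
theorem Q106551 : ∀ i, i < 106551 → P i := stepQ 106550 Q106550 (allL N106550 (tt N117023 F503012) (tt N108241 (iv0 F469986)) (tt N116442 (iv2 F500133)) (tt N71449 (iv3 D209752)) (tt N110107 (iv4 F470022)) (tt N110099 F469984) (tt N115987 (iv6 F497921)) (tt N120128 (iv7 F519209)))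
theorem Q106552 : ∀ i, i < 106552 → P i := stepQ 106551 Q106551 (allL N106551 (tt N119016 F513303) (tt N121337 F525848) (tt N107641 (iv2 F459050)) (tt N107362 (iv3 F458103)) (tt N71449 (iv4 D209753)) (tt N121341 D224600) (tt N89639 F454838) (tt N107369 (iv7 F458129)))
theorem Q106553 : ∀ i, i < 106553 → P i := stepQ 106552 Q106552 (allL N106552 (tt N108412 (iv1 F462471)) (tt N108381 (iv0 F462341)) (tt N108409 F462459) (tt N110099 (iv3 F469983)) (tt N121342 D224601) (tt N71449 (iv5 D209754)) (tt N86468 F454839) (tt N108410 (iv7 F462462)))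
theorem Q106554 : ∀ i, i < 106554 → P i := stepQ 106553 Q106553 (allL N106553 (tt N121267 F525476) (tt N71450 (iv0 D209755)) (tt N121269 (iv2 F525489)) (tt N117187 F503824) (tt N121343 D224602) (tt N73918 F460917) (tt N107644 F460918) (tt N121268 F525483))
theorem Q106555 : ∀ i, i < 106555 → P i := stepQ 106554 Q106554 (allL N106554 (tt N71450 (iv1 D209756)) (tt N121267 (iv0 F525475)) (tt N121268 F525481) (tt N100074 (iv3 F454840)) (tt N113955 (iv4 F487953)) (tt N73919 F462452) (tt N110093 (iv6 F469952)) (tt N121269 (iv7 F525485)))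
theorem Q106556 : ∀ i, i < 106556 → P i := stepQ 106555 Q106555 (allL N106555 (tt N121344 D224603) (tt N116550 (iv0 F500720)) (tt N121333 (iv2 F525822)) (tt N113966 (iv3 F487999)) (tt N71450 (iv4 D209757)) (tt N99393 (iv5 F454842)) (tt N98594 F454841) (tt N121270 (iv7 F525493)))
theorem Q106557 : ∀ i, i < 106557 → P i := stepQ 106556 Q106556 (allL N106556 (tt N71626 F454847) (tt N103316 (iv0 F454848)) (tt N85989 F454844) (tt N71452 (iv3 D209758)) (tt N113823 (iv4 F487301)) (tt N91802 F454849) (tt N84028 F454845) (tt N90412 F454846))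
theorem Q106558 : ∀ i, i < 106558 → P i := stepQ 106557 Q106557 (allL N106557 (tt N105332 F454852) (tt N105333 F454853) (tt N106852 (iv2 F455993)) (tt N91802 F454850) (tt N101185 F454851) (tt N71452 (iv5 D209759)) (tt N120135 (iv6 F519249)) (tt N106851 (iv7 F455990)))
theorem Q106559 : ∀ i, i < 106559 → P i := stepQ 106558 Q106558 (allL N106558 (tt N77066 F454857) (tt N88539 F454858) (tt N106854 (iv2 F456004)) (tt N88558 F454854) (tt N71453 (iv4 D209760)) (tt N94124 F454856) (tt N71457 F454855) (tt N113749 (iv7 F486949)))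
theorem Q106560 : ∀ i, i < 106560 → P i := stepQ 106559 Q106559 (allL N106559 (tt N113991 (iv1 F488099)) (tt N71473 (iv0 F454861)) (tt N113069 (iv2 F483829)) (tt N71455 (iv3 D209761)) (tt N90822 (iv4 F454860)) (tt N90492 F454859) (tt N121345 D224604) (tt N107104 (iv7 F456991)))
theorem Q106561 : ∀ i, i < 106561 → P i := stepQ 106560 Q106560 (allL N106560 (tt N113021 (iv1 F483596)) (tt N89527 F486010) (tt N115990 (iv2 F497931)) (tt N121345 (iv3 F525877)) (tt N115974 (iv4 F497860)) (tt N118943 (iv5 F512885)) (tt N71455 (iv6 D209762)) (tt N110100 (iv7 F469988)))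
theorem Q106562 : ∀ i, i < 106562 → P i := stepQ 106561 Q106561 (allL N106561 (tt N71478 F454864) (tt N73829 F454865) (tt N120743 (iv2 F522466)) (tt N72035 F454862) (tt N103702 F454863) (tt N71458 (iv5 D209763)) (tt N105530 F454866) (tt N118930 (iv7 F512802)))
theorem Q106563 : ∀ i, i < 106563 → P i := stepQ 106562 Q106562 (allL N106562 (tt N116446 F500163) (tt N99985 (iv0 F454871)) (tt N71462 F454867) (tt N105147 F454868) (tt N92358 F454869) (tt N105545 F454870) (tt N71459 (iv6 D209764)) (tt N121346 D224605))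
theorem Q106564 : ∀ i, i < 106564 → P i := stepQ 106563 Q106563 (allL N106563 (tt N102677 F454876) (tt N102678 F454877) (tt N98909 F454872) (tt N71460 (iv3 D209765)) (tt N71464 F454873) (tt N104646 F454874) (tt N113736 (iv6 F486894)) (tt N92359 F454875))
theorem Q106565 : ∀ i, i < 106565 → P i := stepQ 106564 Q106564 (allL N106564 (tt N97102 F454880) (tt N119760 (iv0 F517284)) (tt N92358 F454878) (tt N113736 (iv3 F486893)) (tt N71462 F454879) (tt N113735 F486892) (tt N71460 (iv6 D209766)) (tt N108242 (iv7 F461653)))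
theorem Q106566 : ∀ i, i < 106566 → P i := stepQ 106565 Q106565 (allL N106565 (tt N121346 (iv1 F525889)) (tt N71462 (iv0 D209767)) (tt N116446 (iv2 F500159)) (tt N108401 (iv3 F462429)) (tt N121347 D224606) (tt N99986 F454885) (tt N104978 (iv6 F454886)) (tt N99985 (iv7 F454887)))
theorem Q106567 : ∀ i, i < 106567 → P i := stepQ 106566 Q106566 (allL N106566 (tt N71462 (iv1 D209768)) (tt N121346 F525888) (tt N99985 F454888) (tt N107911 (iv3 F460246)) (tt N107591 F458866) (tt N99975 (iv5 F454884)) (tt N99976 F454889) (tt N116446 (iv7 F500161)))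
theorem Q106568 : ∀ i, i < 106568 → P i := stepQ 106567 Q106567 (allL N106567 (tt N119622 (iv1 F516567)) (tt N107260 (iv0 F457683)) (tt N105545 F454881) (tt N71466 F454882) (tt N121348 D224607) (tt N71462 (iv5 D209769)) (tt N105543 F454883) (tt N119621 F516564))
theorem Q106569 : ∀ i, i < 106569 → P i := stepQ 106568 Q106568 (allL N106568 (tt N99985 (iv1 F454891)) (tt N116446 (iv0 F500162)) (tt N121346 (iv2 F525883)) (tt N71467 F454890) (tt N108242 (iv4 F461652)) (tt N119621 (iv5 F516562)) (tt N108241 F461650) (tt N71462 (iv7 D209770)))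
theorem Q106570 : ∀ i, i < 106570 → P i := stepQ 106569 Q106569 (allL N106569 (tt N71608 F454897) (tt N71606 F454898) (tt N95516 F454892) (tt N93869 F454893) (tt N71463 (iv4 D209771)) (tt N75055 F454894) (tt N100269 F454895) (tt N96127 F454896))
theorem Q106571 : ∀ i, i < 106571 → P i := stepQ 106570 Q106570 (allL N106570 (tt N106241 (iv1 F454904)) (tt N71466 (iv0 D209772)) (tt N106242 (iv2 F454900)) (tt N85590 F454901) (tt N98102 F454902) (tt N106232 F454899) (tt N116718 (iv6 F501478)) (tt N85581 F454903))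
theorem Q106572 : ∀ i, i < 106572 → P i := stepQ 106571 Q106571 (allL N106571 (tt N85581 (iv1 F454907)) (tt N106242 F454908) (tt N106241 F454905) (tt N119621 (iv3 F516563)) (tt N115359 (iv4 F494782)) (tt N71467 F454906) (tt N117231 (iv6 F504027)) (tt N71466 (iv7 D209773)))
theorem Q106573 : ∀ i, i < 106573 → P i := stepQ 106572 Q106572 (allL N106572 (tt N121349 D224608) (tt N116544 (iv0 F500693)) (tt N98918 F454909) (tt N119792 (iv3 F517438)) (tt N71471 F454910) (tt N121350 D224609) (tt N71470 (iv6 D209774)) (tt N117024 (iv7 F503015)))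
theorem Q106574 : ∀ i, i < 106574 → P i := stepQ 106573 Q106573 (allL N106573 (tt N107104 (iv1 F456994)) (tt N113069 (iv0 F483833)) (tt N113991 (iv2 F488094)) (tt N111970 F478907) (tt N91147 F454911) (tt N71474 F454912) (tt N113972 (iv6 F488026)) (tt N71473 (iv7 D209775)))
theorem Q106575 : ∀ i, i < 106575 → P i := stepQ 106574 Q106574 (allL N106574 (tt N71475 (iv1 D209776)) (tt N71482 F454913) (tt N71481 F454918) (tt N105529 F454919) (tt N92621 F454916) (tt N88615 F454915) (tt N94584 (iv6 F454917)) (tt N71480 F454914))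
theorem Q106576 : ∀ i, i < 106576 → P i := stepQ 106575 Q106575 (allL N106575 (tt N116112 F498533) (tt N98994 F454922) (tt N71488 F454920) (tt N110005 (iv3 F469530)) (tt N109875 (iv4 F469037)) (tt N71476 (iv5 D209777)) (tt N112327 (iv6 F480576)) (tt N71485 F454921))
theorem Q106577 : ∀ i, i < 106577 → P i := stepQ 106576 Q106576 (allL N106576 (tt N71491 (iv1 F454926)) (tt N71477 (iv0 D209778)) (tt N71489 (iv2 F454925)) (tt N113388 (iv3 F485306)) (tt N89813 F454924) (tt N78838 F454923) (tt N113385 (iv6 F485297)) (tt N71490 F454927))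
theorem Q106578 : ∀ i, i < 106578 → P i := stepQ 106577 Q106577 (allL N106577 (tt N92364 F454930) (tt N92360 (iv0 F500049)) (tt N92361 F454931) (tt N106445 F454928) (tt N71483 (iv4 D209780)) (tt N120731 (iv5 F522403)) (tt N116447 (iv6 F500165)) (tt N92362 F454929))
theorem Q106579 : ∀ i, i < 106579 → P i := stepQ 106578 Q106578 (allL N106578 (tt N119776 (iv1 F517364)) (tt N119773 (iv0 F517352)) (tt N117248 (iv2 F504107)) (tt N71485 F454933) (tt N77971 F454935) (tt N71483 (iv5 D209781)) (tt N77973 F454934) (tt N110005 (iv7 F469531)))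
theorem Q106580 : ∀ i, i < 106580 → P i := stepQ 106579 Q106579 (allL N106579 (tt N71485 (iv1 D209782)) (tt N71488 F454936) (tt N116112 (iv2 F498527)) (tt N71511 (iv3 F454939)) (tt N90137 (iv4 F454941)) (tt N98995 F454938) (tt N106284 (iv6 F454940)) (tt N98994 F454937))
theorem Q106581 : ∀ i, i < 106581 → P i := stepQ 106580 Q106580 (allL N106580 (tt N111201 (iv1 F475206)) (tt N116406 (iv0 F499934)) (tt N116779 F501791) (tt N109811 (iv3 F468737)) (tt N71485 (iv4 D209783)) (tt N107299 (iv5 F457864)) (tt N89351 F454942) (tt N109875 (iv7 F469036)))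
theorem Q106582 : ∀ i, i < 106582 → P i := stepQ 106581 Q106581 (allL N106581 (tt N71486 (iv1 D209784)) (tt N116511 (iv0 F500540)) (tt N116970 (iv2 F502760)) (tt N71508 F455010) (tt N76608 F455011) (tt N118765 (iv5 F511962)) (tt N72436 F455012) (tt N116999 (iv7 F502899)))
theorem Q106583 : ∀ i, i < 106583 → P i := stepQ 106582 Q106582 (allL N106582 (tt N106469 F454945) (tt N106644 (iv0 F455129)) (tt N98935 F454943) (tt N109607 F467708) (tt N71486 (iv4 D209785)) (tt N120493 (iv5 F521066)) (tt N79163 F454944) (tt N109965 (iv7 F469408)))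
theorem Q106584 : ∀ i, i < 106584 → P i := stepQ 106583 Q106583 (allL N106583 (tt N116406 (iv1 F499935)) (tt N111201 (iv0 F475205)) (tt N109875 (iv2 F469034)) (tt N113447 (iv3 F485530)) (tt N71488 (iv4 D209786)) (tt N109874 F469032) (tt N113446 F485527) (tt N116779 (iv7 F501788)))
theorem Q106585 : ∀ i, i < 106585 → P i := stepQ 106584 Q106584 (allL N106584 (tt N116432 (iv1 F500078)) (tt N111336 (iv0 F475885)) (tt N120187 (iv2 F519501)) (tt N71489 (iv3 D209787)) (tt N76850 (iv4 F454947)) (tt N100239 F454946) (tt N117215 (iv6 F503942)) (tt N117219 F503963))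
theorem Q106586 : ∀ i, i < 106586 → P i := stepQ 106585 Q106585 (allL N106585 (tt N89812 (iv1 F454953)) (tt N81400 (iv0 F454954)) (tt N89813 F454948) (tt N76697 F454949) (tt N71489 (iv4 D209788)) (tt N76696 F454950) (tt N91133 F454951) (tt N84741 F454952))
theorem Q106587 : ∀ i, i < 106587 → P i := stepQ 106586 Q106586 (allL N106586 (tt N114020 (iv1 F488231)) (tt N114022 (iv0 F488237)) (tt N114718 (iv2 F491507)) (tt N71530 F454955) (tt N99927 F454956) (tt N72471 F454957) (tt N71491 (iv6 D209789)) (tt N112326 (iv7 F480571)))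
theorem Q106588 : ∀ i, i < 106588 → P i := stepQ 106587 Q106587 (allL N106587 (tt N75478 F454963) (tt N75477 F454964) (tt N75316 F454958) (tt N75454 F454959) (tt N71495 (iv4 D209790)) (tt N75228 F454960) (tt N71761 F454961) (tt N75474 F454962))
theorem Q106589 : ∀ i, i < 106589 → P i := stepQ 106588 Q106588 (allL N106588 (tt N105838 (iv1 F454968)) (tt N71499 (iv0 D209791)) (tt N88878 (iv2 F454967)) (tt N113866 (iv3 F487534)) (tt N86537 F454966) (tt N85413 F454965) (tt N117724 F506637) (tt N88873 F454969))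
theorem Q106590 : ∀ i, i < 106590 → P i := stepQ 106589 Q106589 (allL N106589 (tt N71503 (iv1 F454972)) (tt N71501 (iv0 D209792)) (tt N112331 F480605) (tt N112335 (iv3 F480623)) (tt N76801 F454971) (tt N76758 F454970) (tt N117141 (iv6 F503597)) (tt N99214 F454973))
theorem Q106591 : ∀ i, i < 106591 → P i := stepQ 106590 Q106590 (allL N106590 (tt N71502 (iv1 D209793)) (tt N105832 F454974) (tt N109043 (iv2 F465069)) (tt N105531 (iv3 F454976)) (tt N92565 F454975) (tt N121351 D224610) (tt N92564 (iv6 F454977)) (tt N117732 (iv7 F506682)))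
theorem Q106592 : ∀ i, i < 106592 → P i := stepQ 106591 Q106591 (allL N106591 (tt N113184 F484364) (tt N107184 (iv0 F457396)) (tt N117733 (iv2 F506685)) (tt N71503 F454978) (tt N72765 F454979) (tt N71502 (iv5 D209794)) (tt N121352 D224611) (tt N117734 (iv7 F506693)))
theorem Q106593 : ∀ i, i < 106593 → P i := stepQ 106592 Q106592 (allL N106592 (tt N117206 F503908) (tt N106293 (iv0 F454981)) (tt N121235 (iv2 F525290)) (tt N121352 (iv3 F525920)) (tt N120020 (iv4 F518594)) (tt N105698 F454980) (tt N71503 (iv6 D209795)) (tt N110515 (iv7 F471935)))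
theorem Q106594 : ∀ i, i < 106594 → P i := stepQ 106593 Q106593 (allL N106593 (tt N105667 F454985) (tt N110354 F471194) (tt N110353 F471196) (tt N71504 (iv3 D209796)) (tt N76837 (iv4 F454984)) (tt N115403 (iv5 F495018)) (tt N76709 F454982) (tt N83324 F454983))
theorem Q106595 : ∀ i, i < 106595 → P i := stepQ 106594 Q106594 (allL N106594 (tt N107061 (iv1 F456826)) (tt N106084 (iv0 F454990)) (tt N99594 F454986) (tt N99125 F454989) (tt N71504 (iv4 D209797)) (tt N76777 F454988) (tt N121278 (iv6 F525530)) (tt N99139 F454987))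
theorem Q106596 : ∀ i, i < 106596 → P i := stepQ 106595 Q106595 (allL N106595 (tt N87688 F454993) (tt N106853 (iv0 F456002)) (tt N106897 (iv2 F456180)) (tt N115403 (iv3 F495017)) (tt N76768 F454992) (tt N71504 (iv5 D209798)) (tt N106899 (iv6 F456201)) (tt N84085 F454991))
theorem Q106597 : ∀ i, i < 106597 → P i := stepQ 106596 Q106596 (allL N106596 (tt N120188 F519505) (tt N121351 (iv0 F525918)) (tt N117747 (iv2 F506763)) (tt N71505 (iv3 D209799)) (tt N117394 (iv4 F504810)) (tt N106896 F456179) (tt N112564 F481667) (tt N117748 (iv7 F506769)))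
theorem Q106598 : ∀ i, i < 106598 → P i := stepQ 106597 Q106597 (allL N106597 (tt N106084 F454998) (tt N107061 F456825) (tt N99139 F454994) (tt N121353 D224612) (tt N71505 (iv4 D209800)) (tt N76776 F454995) (tt N77884 F454996) (tt N99594 F454997))
theorem Q106599 : ∀ i, i < 106599 → P i := stepQ 106598 Q106598 (allL N106598 (tt N109919 (iv1 F469218)) (tt N73616 (iv0 F455003)) (tt N76799 F454999) (tt N75894 F455000) (tt N71507 F455001) (tt N76597 F455002) (tt N110799 (iv6 F473224)) (tt N71506 (iv7 D209801)))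
theorem Q106600 : ∀ i, i < 106600 → P i := stepQ 106599 Q106599 (allL N106599 (tt N110387 F471354) (tt N117230 F504023) (tt N116798 (iv2 F501894)) (tt N112326 (iv3 F480569)) (tt N110799 F473226) (tt N118375 (iv5 F510010)) (tt N71507 (iv6 D209802)) (tt N71530 F455004))
theorem Q106601 : ∀ i, i < 106601 → P i := stepQ 106600 Q106600 (allL N106600 (tt N117557 (iv1 F505685)) (tt N87705 (iv0 F455009)) (tt N114463 (iv2 F490306)) (tt N103157 F455008) (tt N71508 (iv4 D209804)) (tt N114462 F490305) (tt N121135 (iv6 F524706)) (tt N117556 (iv7 F505679)))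
theorem Q106602 : ∀ i, i < 106602 → P i := stepQ 106601 Q106601 (allL N106601 (tt N121238 (iv1 F525309)) (tt N71520 (iv0 F455013)) (tt N110394 (iv2 F471375)) (tt N118765 (iv3 F511960)) (tt N121354 D224613) (tt N71508 (iv5 D209805)) (tt N110385 (iv6 F471339)) (tt N121122 (iv7 F524625)))
theorem Q106603 : ∀ i, i < 106603 → P i := stepQ 106602 Q106602 (allL N106602 (tt N83453 F455016) (tt N110015 F469573) (tt N71510 F455014) (tt N116431 (iv3 F500070)) (tt N117164 (iv4 F503708)) (tt N71509 (iv5 D209806)) (tt N83041 F455015) (tt N110014 (iv7 F469568)))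
theorem Q106604 : ∀ i, i < 106604 → P i := stepQ 106603 Q106603 (allL N106603 (tt N71510 (iv1 D209807)) (tt N110014 F469569) (tt N110015 (iv2 F469570)) (tt N77382 (iv3 F455020)) (tt N109840 (iv4 F468847)) (tt N106290 (iv5 F455021)) (tt N109900 (iv6 F469131)) (tt N83453 F455019))
theorem Q106605 : ∀ i, i < 106605 → P i := stepQ 106604 Q106604 (allL N106604 (tt N100479 F455023) (tt N121355 D224614) (tt N117164 (iv2 F503706)) (tt N121356 D224615) (tt N71510 (iv4 D209808)) (tt N106927 (iv5 F456309)) (tt N77907 F455022) (tt N121236 (iv7 F525299)))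
theorem Q106606 : ∀ i, i < 106606 → P i := stepQ 106605 Q106605 (allL N106605 (tt N71536 F455028) (tt N71540 F455029) (tt N98975 F455024) (tt N106287 F455025) (tt N71511 (iv4 D209809)) (tt N93514 F455026) (tt N106292 (iv6 F455031)) (tt N98996 F455027))
theorem Q106607 : ∀ i, i < 106607 → P i := stepQ 106606 Q106606 (allL N106606 (tt N121235 F525296) (tt N110515 (iv0 F471936)) (tt N106293 F455032) (tt N106284 F455033) (tt N106292 F455034) (tt N106270 F455035) (tt N71511 (iv6 D209810)) (tt N117206 (iv7 F503906)))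
theorem Q106608 : ∀ i, i < 106608 → P i := stepQ 106607 Q106607 (allL N106607 (tt N121357 D224616) (tt N121357 F525947) (tt N121237 (iv2 F525302)) (tt N71512 (iv3 D209811)) (tt N121356 (iv4 F525943)) (tt N121358 D224617) (tt N106911 F456249) (tt N121237 (iv7 F525304)))
theorem Q106609 : ∀ i, i < 106609 → P i := stepQ 106608 Q106608 (allL N106608 (tt N77991 F455040) (tt N119822 (iv0 F517550)) (tt N98958 F455036) (tt N121358 (iv3 F525949)) (tt N71555 F455039) (tt N71512 (iv5 D209812)) (tt N71555 F455037) (tt N98963 F455038))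
theorem Q106610 : ∀ i, i < 106610 → P i := stepQ 106609 Q106609 (allL N106609 (tt N120082 (iv1 F518956)) (tt N107270 (iv0 F457729)) (tt N71515 F455041) (tt N110014 (iv3 F469566)) (tt N116431 (iv4 F500071)) (tt N71513 (iv5 D209813)) (tt N113779 (iv6 F487066)) (tt N116431 (iv7 F500073)))
theorem Q106611 : ∀ i, i < 106611 → P i := stepQ 106610 Q106610 (allL N106610 (tt N99907 F455044) (tt N108399 F462420) (tt N71516 F455042) (tt N110046 F469715) (tt N106907 (iv4 F456234)) (tt N101114 (iv5 F455043)) (tt N71513 (iv6 D209814)) (tt N108398 (iv7 F462413)))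
theorem Q106612 : ∀ i, i < 106612 → P i := stepQ 106611 Q106611 (allL N106611 (tt N113124 (iv1 F484086)) (tt N83842 F455047) (tt N106905 (iv2 F456220)) (tt N72455 F455045) (tt N106905 (iv4 F456222)) (tt N71514 (iv5 D209815)) (tt N90923 F455048) (tt N72598 F455046))
theorem Q106613 : ∀ i, i < 106613 → P i := stepQ 106612 Q106612 (allL N106612 (tt N99462 F455052) (tt N100266 F455053) (tt N106907 (iv2 F456231)) (tt N72456 F455049) (tt N71516 F455050) (tt N90924 F455051) (tt N71514 (iv6 D209816)) (tt N108464 (iv7 F462698)))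
theorem Q106614 : ∀ i, i < 106614 → P i := stepQ 106613 Q106613 (allL N106613 (tt N71515 (iv1 D209817)) (tt N116431 (iv0 F500074)) (tt N107270 (iv2 F457726)) (tt N119776 (iv3 F517361)) (tt N112614 (iv4 F481849)) (tt N89574 F455054) (tt N121359 D224618) (tt N120082 (iv7 F518954)))
theorem Q106615 : ∀ i, i < 106615 → P i := stepQ 106614 Q106614 (allL N106614 (tt N112322 F480549) (tt N112552 (iv0 F481627)) (tt N113779 (iv2 F487063)) (tt N71519 F455055) (tt N112578 (iv4 F481701)) (tt N75891 F455056) (tt N71515 (iv6 D209818)) (tt N101750 (iv7 F455057)))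
theorem Q106616 : ∀ i, i < 106616 → P i := stepQ 106615 Q106615 (allL N106615 (tt N71516 (iv1 D209819)) (tt N108398 F462414) (tt N108399 (iv2 F462415)) (tt N104978 (iv3 F455060)) (tt N100258 (iv4 F455061)) (tt N104977 F455059) (tt N108401 (iv6 F462430)) (tt N99907 F455058))
theorem Q106617 : ∀ i, i < 106617 → P i := stepQ 106616 Q106616 (allL N106616 (tt N119822 (iv1 F517551)) (tt N77991 (iv0 F455067)) (tt N98963 F455062) (tt N98958 F455063) (tt N71554 F455064) (tt N71518 (iv5 D209820)) (tt N98957 F455065) (tt N98958 F455066))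
theorem Q106618 : ∀ i, i < 106618 → P i := stepQ 106617 Q106617 (allL N106617 (tt N110394 F500086) (tt N121122 (iv0 F524626)) (tt N71520 (iv2 D209821)) (tt N116433 F500085) (tt N121360 D224619) (tt N119827 (iv5 F517577)) (tt N83331 (iv6 F455089)) (tt N121238 (iv7 F525308)))
theorem Q106619 : ∀ i, i < 106619 → P i := stepQ 106618 Q106618 (allL N106618 (tt N121361 D224620) (tt N121362 D224621) (tt N121360 (iv2 F525958)) (tt N121363 D224622) (tt N71520 (iv4 D209822)) (tt N121364 D224623) (tt N113412 (iv6 F485374)) (tt N121239 (iv7 F525312)))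
theorem Q106620 : ∀ i, i < 106620 → P i := stepQ 106619 Q106619 (allL N106619 (tt N71524 (iv1 F455070)) (tt N71521 (iv0 D209823)) (tt N106642 (iv2 F455124)) (tt N109508 (iv3 F467300)) (tt N99362 F455069) (tt N77991 F455068) (tt N109507 F467301) (tt N102675 (iv7 F455071)))
theorem Q106621 : ∀ i, i < 106621 → P i := stepQ 106620 Q106620 (allL N106620 (tt N71521 (iv1 D209824)) (tt N71524 F455072) (tt N102675 (iv2 F455074)) (tt N121365 D224624) (tt N92327 F455073) (tt N119822 (iv5 F517548)) (tt N106084 (iv6 F455075)) (tt N106642 (iv7 F455125)))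
theorem Q106622 : ∀ i, i < 106622 → P i := stepQ 106621 Q106621 (allL N106621 (tt N121366 D224625) (tt N121366 F525986) (tt N121240 (iv2 F525315)) (tt N71521 (iv3 D209825)) (tt N121363 (iv4 F525972)) (tt N119808 (iv5 F517501)) (tt N90929 (iv6 F455289)) (tt N121240 (iv7 F525317)))
theorem Q106623 : ∀ i, i < 106623 → P i := stepQ 106622 Q106622 (allL N106622 (tt N77879 F455079) (tt N106926 F456306) (tt N99933 F455076) (tt N90929 F455288) (tt N71522 F455077) (tt N90928 (iv5 F455279)) (tt N71521 (iv6 D209826)) (tt N100417 F455078))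
theorem Q106624 : ∀ i, i < 106624 → P i := stepQ 106623 Q106623 (allL N106623 (tt N71522 (iv1 D209827)) (tt N99934 F455081) (tt N116105 (iv2 F498481)) (tt N116251 F499223) (tt N110813 (iv4 F473273)) (tt N121367 D224626) (tt N116864 (iv6 F502237)) (tt N110812 F473270))
theorem Q106625 : ∀ i, i < 106625 → P i := stepQ 106624 Q106624 (allL N106624 (tt N116105 (iv1 F498487)) (tt N110812 F473269) (tt N99934 F455082) (tt N83330 (iv3 F455085)) (tt N100417 F455083) (tt N120134 (iv5 F519242)) (tt N99868 F455084) (tt N71522 (iv7 D209828)))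
theorem Q106626 : ∀ i, i < 106626 → P i := stepQ 106625 Q106625 (allL N106625 (tt N116436 (iv1 F500101)) (tt N116092 (iv0 F498425)) (tt N71523 (iv2 D209829)) (tt N121238 (iv3 F525305)) (tt N116433 F500083) (tt N99908 F455091) (tt N99911 F455092) (tt N116433 (iv7 F500080)))
theorem Q106627 : ∀ i, i < 106627 → P i := stepQ 106626 Q106626 (allL N106626 (tt N119807 F517500) (tt N117022 F517487) (tt N120460 (iv2 F520901)) (tt N71525 (iv3 D209830)) (tt N121368 D224627) (tt N81946 F455093) (tt N120497 (iv6 F521091)) (tt N121241 (iv7 F525319)))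
theorem Q106628 : ∀ i, i < 106628 → P i := stepQ 106627 Q106627 (allL N106627 (tt N110648 (iv1 F473277)) (tt N110813 (iv0 F473276)) (tt N110811 (iv2 F473262)) (tt N120497 (iv3 F521090)) (tt N113215 (iv4 F484521)) (tt N119907 (iv5 F517973)) (tt N71525 (iv6 D209831)) (tt N110810 (iv7 F473264)))
theorem Q106629 : ∀ i, i < 106629 → P i := stepQ 106628 Q106628 (allL N106628 (tt N116861 F502222) (tt N117228 F504016) (tt N117227 (iv2 F504010)) (tt N71526 (iv3 D209832)) (tt N90694 F455094) (tt N119812 (iv5 F517511)) (tt N117135 (iv6 F503568)) (tt N117226 F504003))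
theorem Q106630 : ∀ i, i < 106630 → P i := stepQ 106629 Q106629 (allL N106629 (tt N117225 F503999) (tt N71527 (iv0 D209833)) (tt N119895 (iv2 F517903)) (tt N73618 F467217) (tt N113482 (iv4 F485696)) (tt N113525 (iv5 F485904)) (tt N73616 F467218) (tt N73618 F467219))
theorem Q106631 : ∀ i, i < 106631 → P i := stepQ 106630 Q106630 (allL N106630 (tt N119895 (iv1 F517907)) (tt N73618 F455102) (tt N71527 (iv2 D209835)) (tt N117228 (iv3 F504012)) (tt N75908 F455095) (tt N121369 D224628) (tt N75907 F455096) (tt N117225 (iv7 F503997)))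
theorem Q106632 : ∀ i, i < 106632 → P i := stepQ 106631 Q106631 (allL N106631 (tt N121370 D224629) (tt N121371 D224630) (tt N121369 (iv2 F525997)) (tt N71528 F455097) (tt N118670 F511449) (tt N71527 (iv5 D209836)) (tt N121150 (iv6 F524798)) (tt N110746 (iv7 F472992)))
theorem Q106633 : ∀ i, i < 106633 → P i := stepQ 106632 Q106632 (allL N106632 (tt N73618 (iv1 F455101)) (tt N119895 F517906) (tt N117225 (iv2 F503993)) (tt N71529 F455098) (tt N99930 F455099) (tt N110746 (iv5 F472990)) (tt N99928 (iv6 F455100)) (tt N71527 (iv7 D209837)))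
theorem Q106634 : ∀ i, i < 106634 → P i := stepQ 106633 Q106633 (allL N106633 (tt N71528 (iv1 D209838)) (tt N71556 F455103) (tt N98982 (iv2 F455107)) (tt N76860 (iv3 F455109)) (tt N71538 F455106) (tt N71540 F455105) (tt N91268 F455108) (tt N72832 F455104))
theorem Q106635 : ∀ i, i < 106635 → P i := stepQ 106634 Q106634 (allL N106634 (tt N100458 (iv1 F455111)) (tt N113419 (iv0 F485409)) (tt N119740 (iv2 F517183)) (tt N121150 (iv3 F524796)) (tt N110747 (iv4 F472995)) (tt N76797 F455110) (tt N71528 (iv6 D209839)) (tt N119739 (iv7 F517180)))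
theorem Q106636 : ∀ i, i < 106636 → P i := stepQ 106635 Q106635 (allL N106635 (tt N119702 (iv1 F516997)) (tt N119700 (iv0 F516990)) (tt N116860 (iv2 F502212)) (tt N99928 F455112) (tt N71530 F455113) (tt N100412 (iv5 F455114)) (tt N71529 (iv6 D209840)) (tt N110799 (iv7 F473225)))
theorem Q106637 : ∀ i, i < 106637 → P i := stepQ 106636 Q106636 (allL N106636 (tt N116798 (iv1 F501900)) (tt N71530 (iv0 D209841)) (tt N117230 (iv2 F504019)) (tt N110389 F493298) (tt N121372 D224631) (tt N115061 F493296) (tt N116862 (iv6 F502223)) (tt N110387 (iv7 F493297)))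
theorem Q106638 : ∀ i, i < 106638 → P i := stepQ 106637 Q106637 (allL N106637 (tt N71530 (iv1 D209842)) (tt N116798 F501899) (tt N110387 F471353) (tt N117394 (iv3 F504809)) (tt N121353 (iv4 F525925)) (tt N109474 (iv5 F467152)) (tt N75892 (iv6 F455115)) (tt N117230 (iv7 F504020)))
theorem Q106639 : ∀ i, i < 106639 → P i := stepQ 106638 Q106638 (allL N106638 (tt N117795 F507014) (tt N71531 (iv0 D209843)) (tt N117796 (iv2 F507021)) (tt N88634 F455116) (tt N120121 (iv4 F519162)) (tt N106338 (iv5 F455119)) (tt N88625 (iv6 F455117)) (tt N89265 (iv7 F455118)))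
theorem Q106640 : ∀ i, i < 106640 → P i := stepQ 106639 Q106639 (allL N106639 (tt N71531 (iv1 D209844)) (tt N117795 (iv0 F507013)) (tt N89265 (iv2 F473100)) (tt N90899 F473102) (tt N118852 (iv4 F512416)) (tt N106339 F473099) (tt N89262 (iv6 F473101)) (tt N117796 (iv7 F507017)))
theorem Q106641 : ∀ i, i < 106641 → P i := stepQ 106640 Q106640 (allL N106640 (tt N117796 (iv1 F507016)) (tt N89265 F455122) (tt N71531 (iv2 D209845)) (tt N91739 F455121) (tt N117831 (iv4 F507172)) (tt N121285 (iv5 F525560)) (tt N118946 (iv6 F512905)) (tt N117795 (iv7 F507015)))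
theorem Q106642 : ∀ i, i < 106642 → P i := stepQ 106641 Q106641 (allL N106641 (tt N117336 (iv1 F504521)) (tt N98941 F464787) (tt N121285 F525562) (tt N71532 F455123) (tt N109993 (iv4 F469489)) (tt N71531 (iv5 D209846)) (tt N121373 D224632) (tt N117797 (iv7 F507024)))
theorem Q106643 : ∀ i, i < 106643 → P i := stepQ 106642 Q106642 (allL N106642 (tt N106026 F455126) (tt N106023 F455127) (tt N106619 F455124) (tt N121374 D224633) (tt N71532 (iv4 D209847)) (tt N107664 (iv5 F459138)) (tt N121375 D224634) (tt N106620 F455125))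
theorem Q106644 : ∀ i, i < 106644 → P i := stepQ 106643 Q106643 (allL N106643 (tt N121376 D224635) (tt N107193 (iv0 F457416)) (tt N110369 (iv2 F471274)) (tt N121373 (iv3 F526013)) (tt N121375 (iv4 F526020)) (tt N99400 F455128) (tt N71532 (iv6 D209848)) (tt N121113 (iv7 F524576)))
theorem Q106645 : ∀ i, i < 106645 → P i := stepQ 106644 Q106644 (allL N106644 (tt N106582 F455129) (tt N119767 (iv0 F517318)) (tt N117486 (iv2 F505286)) (tt N114401 (iv3 F489967)) (tt N71533 (iv4 D209849)) (tt N121377 D224636) (tt N107289 F457821) (tt N116619 (iv7 F501005)))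
theorem Q106646 : ∀ i, i < 106646 → P i := stepQ 106645 Q106645 (allL N106645 (tt N111197 F475189) (tt N119825 (iv0 F517568)) (tt N107338 (iv2 F458008)) (tt N116694 (iv3 F501343)) (tt N119778 F517370) (tt N71533 (iv5 D209850)) (tt N95002 F455130) (tt N105659 F455131))
theorem Q106647 : ∀ i, i < 106647 → P i := stepQ 106646 Q106646 (allL N106646 (tt N76610 (iv1 F455134)) (tt N106650 F455148) (tt N117277 (iv2 F504240)) (tt N112562 (iv3 F481654)) (tt N71534 (iv4 D209851)) (tt N106654 (iv5 F455164)) (tt N81894 F455132) (tt N81940 F455133))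
theorem Q106648 : ∀ i, i < 106648 → P i := stepQ 106647 Q106647 (allL N106647 (tt N99143 F455138) (tt N106021 F455139) (tt N106349 F455135) (tt N121378 D224637) (tt N71535 (iv4 D209852)) (tt N102668 F455136) (tt N121379 D224638) (tt N105980 F455137))
theorem Q106649 : ∀ i, i < 106649 → P i := stepQ 106648 Q106648 (allL N106648 (tt N105638 F455142) (tt N120165 (iv0 F519383)) (tt N106350 F455140) (tt N113475 (iv3 F485661)) (tt N121379 (iv4 F526043)) (tt N106312 F455141) (tt N71535 (iv6 D209853)) (tt N120195 (iv7 F519532)))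
theorem Q106650 : ∀ i, i < 106650 → P i := stepQ 106649 Q106649 (allL N106649 (tt N121380 D224639) (tt N121381 D224640) (tt N121382 D224641) (tt N71536 (iv3 D209854)) (tt N112562 (iv4 F481655)) (tt N107669 (iv5 F459154)) (tt N90913 F455143) (tt N121242 (iv7 F525323)))
theorem Q106651 : ∀ i, i < 106651 → P i := stepQ 106650 Q106650 (allL N106650 (tt N106646 (iv1 F455148)) (tt N101504 F455147) (tt N100443 F455144) (tt N71538 F455145) (tt N101444 (iv4 F455173)) (tt N71537 (iv5 D209855)) (tt N121171 F524929) (tt N98980 F455146))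
theorem Q106652 : ∀ i, i < 106652 → P i := stepQ 106651 Q106651 (allL N106651 (tt N109837 (iv1 F468844)) (tt N109999 F469509) (tt N98983 F455149) (tt N121171 F524928) (tt N91268 F455150) (tt N91470 F455151) (tt N71538 (iv6 D209856)) (tt N91469 F455152))
theorem Q106653 : ∀ i, i < 106653 → P i := stepQ 106652 Q106652 (allL N106652 (tt N106292 F455155) (tt N121383 D224642) (tt N121384 D224643) (tt N71540 (iv3 D209857)) (tt N120165 (iv4 F519380)) (tt N76860 F455153) (tt N99190 F455163) (tt N76802 F455154))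
theorem Q106654 : ∀ i, i < 106654 → P i := stepQ 106653 Q106653 (allL N106653 (tt N75883 (iv1 F455161)) (tt N75882 (iv0 F455160)) (tt N75886 F455156) (tt N99190 (iv3 F455162)) (tt N71541 F455157) (tt N75932 F455158) (tt N71540 (iv6 D209858)) (tt N75850 F455159))
theorem Q106655 : ∀ i, i < 106655 → P i := stepQ 106654 Q106654 (allL N106654 (tt N99966 (iv1 F455167)) (tt N71542 (iv0 D209859)) (tt N100451 (iv2 F455166)) (tt N81939 F455165) (tt N113466 (iv4 F485614)) (tt N106646 F455164) (tt N81937 (iv6 F455174)) (tt N100452 F455168))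
theorem Q106656 : ∀ i, i < 106656 → P i := stepQ 106655 Q106655 (allL N106655 (tt N119821 (iv1 F517544)) (tt N119726 (iv0 F517126)) (tt N100453 F455175) (tt N71543 F455176) (tt N105314 (iv4 F455177)) (tt N71542 (iv5 D209860)) (tt N105313 (iv6 F455178)) (tt N110751 (iv7 F473010)))
theorem Q106657 : ∀ i, i < 106657 → P i := stepQ 106656 Q106656 (allL N106656 (tt N101644 F481735) (tt N121385 D224644) (tt N100454 F455179) (tt N71544 F455180) (tt N101626 F455181) (tt N113197 (iv5 F484430)) (tt N71542 (iv6 D209861)) (tt N113423 (iv7 F485437)))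
theorem Q106658 : ∀ i, i < 106658 → P i := stepQ 106657 Q106657 (allL N106657 (tt N98954 F455184) (tt N120469 (iv0 F520944)) (tt N110749 (iv2 F473001)) (tt N105313 F455182) (tt N99248 F455183) (tt N113198 (iv5 F484437)) (tt N71543 (iv6 D209862)) (tt N121176 (iv7 F524954)))
theorem Q106659 : ∀ i, i < 106659 → P i := stepQ 106658 Q106658 (allL N106658 (tt N121386 D224645) (tt N119939 (iv0 F518141)) (tt N110753 (iv2 F473018)) (tt N81943 F455185) (tt N81945 F455186) (tt N73412 F455187) (tt N71545 (iv6 D209863)) (tt N120339 (iv7 F520266)))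
theorem Q106660 : ∀ i, i < 106660 → P i := stepQ 106659 Q106659 (allL N106659 (tt N91462 (iv1 F455190)) (tt N91458 F455189) (tt N71546 (iv2 D209864)) (tt N100283 F455188) (tt N115004 (iv4 F493011)) (tt N119804 (iv5 F517490)) (tt N118763 (iv6 F511950)) (tt N109940 (iv7 F469315)))
theorem Q106661 : ∀ i, i < 106661 → P i := stepQ 106660 Q106660 (allL N106660 (tt N119846 F517674) (tt N120015 F518567) (tt N118763 (iv2 F511949)) (tt N71547 F455191) (tt N118274 (iv4 F509464)) (tt N110702 (iv5 F472821)) (tt N71546 (iv6 D209865)) (tt N118302 (iv7 F509598)))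
theorem Q106662 : ∀ i, i < 106662 → P i := stepQ 106661 Q106661 (allL N106661 (tt N71550 (iv1 F455195)) (tt N71549 (iv0 D209866)) (tt N71553 (iv2 F455194)) (tt N100468 F455192) (tt N106465 F455193) (tt N121286 (iv5 F525569)) (tt N77948 (iv6 F455197)) (tt N71551 F455196))
theorem Q106663 : ∀ i, i < 106663 → P i := stepQ 106662 Q106662 (allL N106662 (tt N71553 (iv1 F455202)) (tt N71551 F455201) (tt N71549 (iv2 D209867)) (tt N121227 (iv3 F525243)) (tt N94317 F455199) (tt N119768 (iv5 F517320)) (tt N119855 (iv6 F517717)) (tt N71550 F455200))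
theorem Q106664 : ∀ i, i < 106664 → P i := stepQ 106663 Q106663 (allL N106663 (tt N119852 F517703) (tt N105323 (iv0 F455207)) (tt N119855 (iv2 F517714)) (tt N98895 F455205) (tt N117908 (iv4 F507537)) (tt N110696 F472794) (tt N71549 (iv6 D209869)) (tt N98888 F455206))
theorem Q106665 : ∀ i, i < 106665 → P i := stepQ 106664 Q106664 (allL N106664 (tt N116622 F501023) (tt N117437 (iv0 F505025)) (tt N98903 F455208) (tt N71550 (iv3 D209870)) (tt N111360 (iv4 F476003)) (tt N119778 (iv5 F517369)) (tt N98901 F455209) (tt N121227 (iv7 F525246)))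
theorem Q106666 : ∀ i, i < 106666 → P i := stepQ 106665 Q106665 (allL N106665 (tt N98937 F455212) (tt N98934 (iv0 F455213)) (tt N71552 F455210) (tt N110725 (iv3 F472910)) (tt N83530 (iv4 F455215)) (tt N71551 (iv5 D209871)) (tt N77821 F455211) (tt N121286 (iv7 F525568)))
theorem Q106667 : ∀ i, i < 106667 → P i := stepQ 106666 Q106666 (allL N106666 (tt N121286 (iv1 F525571)) (tt N71552 (iv0 D209872)) (tt N98937 (iv2 F455217)) (tt N100473 (iv3 F455218)) (tt N100242 F455220) (tt N98923 F455216) (tt N100477 F455221) (tt N98934 (iv7 F455219)))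
theorem Q106668 : ∀ i, i < 106668 → P i := stepQ 106667 Q106667 (allL N106667 (tt N71552 (iv1 D209873)) (tt N121286 (iv0 F525570)) (tt N98934 F455224) (tt N120494 (iv3 F521075)) (tt N121387 D224646) (tt N98922 (iv5 F455223)) (tt N121388 D224647) (tt N98937 F455222))
theorem Q106669 : ∀ i, i < 106669 → P i := stepQ 106668 Q106668 (allL N106668 (tt N98934 (iv1 F455227)) (tt N98937 F455228) (tt N121286 (iv2 F525566)) (tt N71558 F455225) (tt N121282 (iv4 F525541)) (tt N71553 F455226) (tt N121389 D224648) (tt N71552 (iv7 D209874)))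
theorem Q106670 : ∀ i, i < 106670 → P i := stepQ 106669 Q106669 (allL N106669 (tt N117438 (iv1 F505031)) (tt N117435 (iv0 F505016)) (tt N98964 F455233) (tt N71554 (iv3 D209875)) (tt N98957 F455229) (tt N74199 F455230) (tt N71554 (iv6 F455232)) (tt N98957 F455231))
theorem Q106671 : ∀ i, i < 106671 → P i := stepQ 106670 Q106670 (allL N106670 (tt N100285 F462393) (tt N109944 (iv0 F469332)) (tt N109946 F469339) (tt N71555 (iv3 D209876)) (tt N121380 (iv4 F526046)) (tt N93513 F455234) (tt N121358 (iv6 F525950)) (tt N98961 F455235))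
theorem Q106672 : ∀ i, i < 106672 → P i := stepQ 106671 Q106671 (allL N106671 (tt N76614 (iv1 F459142)) (tt N76860 (iv0 F459141)) (tt N76859 F472832) (tt N71556 (iv3 D209877)) (tt N116520 (iv4 F500589)) (tt N116861 (iv5 F502220)) (tt N110704 (iv6 F472831)) (tt N76858 F472833))
theorem Q106673 : ∀ i, i < 106673 → P i := stepQ 106672 Q106672 (allL N106672 (tt N112598 F481773) (tt N119103 (iv0 F513807)) (tt N110739 (iv2 F472960)) (tt N110704 (iv3 F472826)) (tt N71557 F455236) (tt N108088 F461063) (tt N71556 (iv6 D209878)) (tt N110800 (iv7 F473228)))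
theorem Q106674 : ∀ i, i < 106674 → P i := stepQ 106673 Q106673 (allL N106673 (tt N71557 (iv1 D209879)) (tt N110740 F472966) (tt N110738 (iv2 F472958)) (tt N117371 (iv3 F504709)) (tt N121390 D224649) (tt N110693 (iv5 F472780)) (tt N117370 (iv6 F504706)) (tt N110737 F472954))
theorem Q106675 : ∀ i, i < 106675 → P i := stepQ 106674 Q106674 (allL N106674 (tt N110738 (iv1 F472955)) (tt N110737 F472959) (tt N110740 (iv2 F472963)) (tt N77931 F455237) (tt N110800 (iv4 F473229)) (tt N71574 F455238) (tt N121391 D224650) (tt N71557 (iv7 D209880)))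
theorem Q106676 : ∀ i, i < 106676 → P i := stepQ 106675 Q106675 (allL N106675 (tt N120227 (iv1 F519703)) (tt N121392 D224651) (tt N110747 (iv2 F472993)) (tt N121389 (iv3 F526092)) (tt N119740 (iv4 F517187)) (tt N110722 (iv5 F472900)) (tt N71558 (iv6 D209881)) (tt N121391 (iv7 F526106)))
theorem Q106677 : ∀ i, i < 106677 → P i := stepQ 106676 Q106676 (allL N106676 (tt N110660 (iv1 F472641)) (tt N110661 (iv0 F472646)) (tt N71562 F455239) (tt N93508 F455240) (tt N90698 F455241) (tt N71561 (iv5 D209882)) (tt N93507 F455242) (tt N106189 F455243))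
theorem Q106678 : ∀ i, i < 106678 → P i := stepQ 106677 Q106677 (allL N106677 (tt N71563 (iv1 D209883)) (tt N105447 F455244) (tt N108131 F461245) (tt N110023 (iv3 F469595)) (tt N72848 F455245) (tt N107677 (iv5 F459193)) (tt N118754 (iv6 F511903)) (tt N108130 F461239))
theorem Q106679 : ∀ i, i < 106679 → P i := stepQ 106678 Q106678 (allL N106678 (tt N112685 (iv1 F482172)) (tt N112684 F482170) (tt N99092 F455246) (tt N93630 F455247) (tt N71677 F455249) (tt N71567 (iv5 D209884)) (tt N93628 F455248) (tt N110920 (iv7 F473798)))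
theorem Q106680 : ∀ i, i < 106680 → P i := stepQ 106679 Q106679 (allL N106679 (tt N98784 (iv1 F455251)) (tt N71569 (iv0 D209885)) (tt N78051 (iv2 F455250)) (tt N99110 (iv3 F455253)) (tt N117891 F507461) (tt N100948 F455254) (tt N119784 (iv6 F517402)) (tt N99070 F455252))
theorem Q106681 : ∀ i, i < 106681 → P i := stepQ 106680 Q106680 (allL N106680 (tt N94342 (iv1 F455265)) (tt N71571 (iv0 D209886)) (tt N94339 (iv2 F472454)) (tt N101529 F455255) (tt N101531 F455256) (tt N121393 D224652) (tt N117894 (iv6 F507477)) (tt N94340 (iv7 F472456)))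
theorem Q106682 : ∀ i, i < 106682 → P i := stepQ 106681 Q106681 (allL N106681 (tt N71571 (iv1 D209887)) (tt N94342 F455257) (tt N94340 F472457) (tt N119107 F513828) (tt N110628 F472494) (tt N121394 D224653) (tt N119933 (iv6 F518110)) (tt N94339 F472455))
theorem Q106683 : ∀ i, i < 106683 → P i := stepQ 106682 Q106682 (allL N106682 (tt N119719 (iv1 F517084)) (tt N121395 D224654) (tt N94341 F455258) (tt N77914 F455259) (tt N115129 (iv4 F493630)) (tt N71571 (iv5 D209888)) (tt N77914 F455260) (tt N121396 D224655))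
theorem Q106684 : ∀ i, i < 106684 → P i := stepQ 106683 Q106683 (allL N106683 (tt N94340 (iv1 F455266)) (tt N94339 F455267) (tt N94342 F455261) (tt N77915 F455262) (tt N71574 F455263) (tt N121396 (iv5 F526123)) (tt N94349 F455264) (tt N71571 (iv7 D209889)))
theorem Q106685 : ∀ i, i < 106685 → P i := stepQ 106684 Q106684 (allL N106684 (tt N110563 F472162) (tt N78204 (iv0 F455278)) (tt N99131 (iv2 F455276)) (tt N71572 (iv3 D209891)) (tt N100362 (iv4 F455277)) (tt N118237 (iv5 F509300)) (tt N98789 F455274) (tt N110570 F472187))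
theorem Q106686 : ∀ i, i < 106686 → P i := stepQ 106685 Q106685 (allL N106685 (tt N120418 F520678) (tt N107557 (iv0 F472698)) (tt N110733 (iv2 F472935)) (tt N118237 (iv3 F509304)) (tt N110745 (iv4 F472986)) (tt N71572 (iv5 D209893)) (tt N110744 F472983) (tt N110735 (iv7 F472948)))
theorem Q106687 : ∀ i, i < 106687 → P i := stepQ 106686 Q106686 (allL N106686 (tt N98785 (iv1 F455272)) (tt N98788 (iv0 F455271)) (tt N90928 F455273) (tt N98789 (iv3 F455270)) (tt N118521 (iv4 F510791)) (tt N99933 F455269) (tt N71572 (iv6 D209894)) (tt N98786 F455275))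
theorem Q106688 : ∀ i, i < 106688 → P i := stepQ 106687 Q106687 (allL N106687 (tt N105983 (iv1 F500484)) (tt N121397 D224656) (tt N121276 (iv2 F525516)) (tt N71573 (iv3 D209895)) (tt N121147 (iv4 F524783)) (tt N121398 D224657) (tt N108458 F462673) (tt N90930 F455290))
theorem Q106689 : ∀ i, i < 106689 → P i := stepQ 106688 Q106688 (allL N106688 (tt N107557 (iv1 F472938)) (tt N120418 (iv0 F520677)) (tt N110735 (iv2 F472946)) (tt N121398 (iv3 F526132)) (tt N119811 (iv4 F517509)) (tt N71573 (iv5 D209897)) (tt N118236 (iv6 F509294)) (tt N110733 (iv7 F472937)))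
theorem Q106690 : ∀ i, i < 106690 → P i := stepQ 106689 Q106689 (allL N106689 (tt N96892 F462676) (tt N119784 (iv0 F517404)) (tt N110736 (iv2 F472950)) (tt N108458 (iv3 F462674)) (tt N110583 (iv4 F472236)) (tt N100404 (iv5 F462677)) (tt N71573 (iv6 D209898)) (tt N100403 F462675))
theorem Q106691 : ∀ i, i < 106691 → P i := stepQ 106690 Q106690 (allL N106690 (tt N99666 (iv1 F462927)) (tt N108522 F462933) (tt N99725 F455291) (tt N108735 (iv3 F463754)) (tt N109269 (iv4 F466096)) (tt N115580 (iv5 F495857)) (tt N71575 (iv6 D209899)) (tt N108521 (iv7 F462921)))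
theorem Q106692 : ∀ i, i < 106692 → P i := stepQ 106691 Q106691 (allL N106691 (tt N71604 (iv1 F455295)) (tt N71578 (iv0 D209900)) (tt N71601 F455297) (tt N102132 F455294) (tt N97609 F455293) (tt N95818 F455292) (tt N111465 (iv6 F476467)) (tt N71602 (iv7 F455296)))
theorem Q106693 : ∀ i, i < 106693 → P i := stepQ 106692 Q106692 (allL N106692 (tt N71578 (iv1 D209901)) (tt N71604 F455298) (tt N71602 (iv2 F455304)) (tt N96863 (iv3 F455302)) (tt N99712 F455301) (tt N71830 F455300) (tt N87717 F455303) (tt N71601 F455299))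
theorem Q106694 : ∀ i, i < 106694 → P i := stepQ 106693 Q106693 (allL N106693 (tt N80229 F455309) (tt N102182 F455310) (tt N71603 F455305) (tt N117702 (iv3 F506509)) (tt N71578 (iv4 D209902)) (tt N102342 F455308) (tt N80209 F455306) (tt N102185 F455307))
theorem Q106695 : ∀ i, i < 106695 → P i := stepQ 106694 Q106694 (allL N106694 (tt N91095 F455311) (tt N121399 D224658) (tt N106871 (iv2 F456083)) (tt N117420 (iv3 F504954)) (tt N71580 (iv4 D209903)) (tt N121400 D224659) (tt N115303 (iv6 F494479)) (tt N106869 (iv7 F456078)))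
theorem Q106696 : ∀ i, i < 106696 → P i := stepQ 106695 Q106695 (allL N106695 (tt N113560 F486036) (tt N108562 (iv0 F463073)) (tt N106872 (iv2 F456085)) (tt N113595 (iv3 F486213)) (tt N115303 (iv4 F494478)) (tt N100725 F455312) (tt N71580 (iv6 D209904)) (tt N113559 (iv7 F486030)))
theorem Q106697 : ∀ i, i < 106697 → P i := stepQ 106696 Q106696 (allL N106696 (tt N95397 F455316) (tt N99639 F455317) (tt N103222 F455313) (tt N71583 F455314) (tt N111119 (iv4 F474765)) (tt N71581 (iv5 D209905)) (tt N111118 F474757) (tt N103221 F455315))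
theorem Q106698 : ∀ i, i < 106698 → P i := stepQ 106697 Q106697 (allL N106697 (tt N86343 F455329) (tt N86334 (iv0 F455330)) (tt N114674 (iv2 F491311)) (tt N106974 (iv3 F456492)) (tt N71584 F455327) (tt N86278 F455328) (tt N71582 (iv6 D209906)) (tt N117113 (iv7 F503465)))
theorem Q106699 : ∀ i, i < 106699 → P i := stepQ 106698 Q106698 (allL N106698 (tt N121399 (iv1 F526136)) (tt N91095 F455331) (tt N106869 (iv2 F456076)) (tt N117423 (iv3 F504971)) (tt N71583 (iv4 D209907)) (tt N121401 D224660) (tt N115286 (iv6 F494390)) (tt N106871 (iv7 F456084)))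
theorem Q106700 : ∀ i, i < 106700 → P i := stepQ 106699 Q106699 (allL N106699 (tt N108509 F474760) (tt N121402 D224661) (tt N106870 (iv2 F456080)) (tt N111118 (iv3 F474758)) (tt N115286 (iv4 F494385)) (tt N100928 F474759) (tt N71583 (iv6 D209908)) (tt N112437 (iv7 F481111)))
theorem Q106701 : ∀ i, i < 106701 → P i := stepQ 106700 Q106700 (allL N106700 (tt N108526 F462951) (tt N112277 F480319) (tt N117115 (iv2 F503477)) (tt N111410 (iv3 F476230)) (tt N100929 F474762) (tt N71584 (iv5 D209909)) (tt N100928 (iv6 F474761)) (tt N117114 (iv7 F503472)))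
theorem Q106702 : ∀ i, i < 106702 → P i := stepQ 106701 Q106701 (allL N106701 (tt N115196 (iv1 F493976)) (tt N115195 F493971) (tt N71589 F455332) (tt N121403 D224662) (tt N71585 (iv4 D209910)) (tt N121234 (iv5 F525286)) (tt N116088 (iv6 F498400)) (tt N112881 (iv7 F483124)))
theorem Q106703 : ∀ i, i < 106703 → P i := stepQ 106702 Q106702 (allL N106702 (tt N112010 (iv1 F479060)) (tt N90673 F455337) (tt N71593 F455333) (tt N80930 F455334) (tt N95148 F455336) (tt N71586 (iv5 D209911)) (tt N111063 (iv6 F474482)) (tt N95162 F455335))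
theorem Q106704 : ∀ i, i < 106704 → P i := stepQ 106703 Q106703 (allL N106703 (tt N117425 (iv1 F504980)) (tt N117423 (iv0 F504973)) (tt N117356 (iv2 F504637)) (tt N117740 (iv3 F506728)) (tt N71587 (iv4 D209912)) (tt N120588 (iv5 F521612)) (tt N86523 F455338) (tt N117358 (iv7 F504648)))
theorem Q106705 : ∀ i, i < 106705 → P i := stepQ 106704 Q106704 (allL N106704 (tt N108246 F461670) (tt N99656 (iv0 F455341)) (tt N87628 F455339) (tt N71588 (iv3 D209913)) (tt N120792 (iv4 F522742)) (tt N71817 F455340) (tt N72312 F455342) (tt N108548 F463040))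
theorem Q106706 : ∀ i, i < 106706 → P i := stepQ 106705 Q106705 (allL N106705 (tt N117423 F504974) (tt N117425 F504979) (tt N117358 (iv2 F504647)) (tt N121399 F526139) (tt N71588 (iv4 D209914)) (tt N121404 D224663) (tt N115259 F494248) (tt N117356 (iv7 F504640)))
theorem Q106707 : ∀ i, i < 106707 → P i := stepQ 106706 Q106706 (allL N106706 (tt N97279 F455346) (tt N119329 F515051) (tt N104880 F455343) (tt N72312 F455344) (tt N115259 (iv4 F494246)) (tt N72311 F455345) (tt N71588 (iv6 D209915)) (tt N110908 (iv7 F473735)))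
theorem Q106708 : ∀ i, i < 106708 → P i := stepQ 106707 Q106707 (allL N106707 (tt N112881 F483122) (tt N71589 (iv0 D209916)) (tt N115196 (iv2 F493972)) (tt N91242 (iv3 F455348)) (tt N71837 F455347) (tt N119454 (iv5 F515710)) (tt N109692 F468137) (tt N115195 (iv7 F493969)))
theorem Q106709 : ∀ i, i < 106709 → P i := stepQ 106708 Q106708 (allL N106708 (tt N71589 (iv1 D209917)) (tt N112881 F483125) (tt N115195 (iv2 F493966)) (tt N119389 (iv3 F515376)) (tt N71839 (iv4 F455349)) (tt N119388 F515373) (tt N115194 F493965) (tt N115196 (iv7 F493974)))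
theorem Q106710 : ∀ i, i < 106710 → P i := stepQ 106709 Q106709 (allL N106709 (tt N119408 (iv1 F515462)) (tt N119400 (iv0 F515423)) (tt N121234 (iv2 F525284)) (tt N120789 (iv3 F522725)) (tt N121233 (iv4 F525279)) (tt N71589 (iv5 D209918)) (tt N121405 D224664) (tt N120789 (iv7 F522727)))
theorem Q106711 : ∀ i, i < 106711 → P i := stepQ 106710 Q106710 (allL N106710 (tt N91245 F455389) (tt N91248 (iv0 F455351)) (tt N116088 (iv2 F498398)) (tt N112877 (iv3 F483098)) (tt N71590 F455350) (tt N115240 (iv5 F494166)) (tt N71589 (iv6 D209919)) (tt N115246 (iv7 F494199)))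
theorem Q106712 : ∀ i, i < 106712 → P i := stepQ 106711 Q106711 (allL N106711 (tt N100922 F455355) (tt N100919 (iv0 F455356)) (tt N111063 (iv2 F474480)) (tt N71597 F455352) (tt N95160 F455354) (tt N71590 (iv5 D209920)) (tt N71593 F455353) (tt N111066 (iv7 F474501)))
theorem Q106713 : ∀ i, i < 106713 → P i := stepQ 106712 Q106712 (allL N106712 (tt N85624 (iv1 F455363)) (tt N81794 (iv0 F455362)) (tt N93934 F455357) (tt N71591 (iv3 D209921)) (tt N93930 F455361) (tt N79503 F455358) (tt N95529 F455359) (tt N93938 F455360))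
theorem Q106714 : ∀ i, i < 106714 → P i := stepQ 106713 Q106713 (allL N106713 (tt N90908 F455367) (tt N107959 (iv0 F460480)) (tt N95564 F455364) (tt N119067 (iv3 F513604)) (tt N71591 (iv4 D209922)) (tt N96193 F455366) (tt N91011 F455365) (tt N107945 (iv7 F460412)))
theorem Q106715 : ∀ i, i < 106715 → P i := stepQ 106714 Q106714 (allL N106714 (tt N107959 (iv1 F460481)) (tt N90908 F455371) (tt N107945 (iv2 F460410)) (tt N118944 (iv3 F512890)) (tt N71592 (iv4 D209923)) (tt N95956 F455370) (tt N84387 F455368) (tt N95564 F455369))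
theorem Q106716 : ∀ i, i < 106716 → P i := stepQ 106715 Q106715 (allL N106715 (tt N95162 (iv1 F455375)) (tt N71593 (iv0 D209924)) (tt N112010 (iv2 F479055)) (tt N80261 F455372) (tt N111017 (iv4 F474274)) (tt N90545 F455373) (tt N80259 F455376) (tt N90673 (iv7 F455374)))
theorem Q106717 : ∀ i, i < 106717 → P i := stepQ 106716 Q106716 (allL N106716 (tt N90673 (iv1 F455381)) (tt N112010 F479059) (tt N95162 F455377) (tt N71604 F455378) (tt N95149 F455379) (tt N71594 F455380) (tt N87799 (iv6 F455382)) (tt N71593 (iv7 D209925)))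
theorem Q106718 : ∀ i, i < 106718 → P i := stepQ 106717 Q106717 (allL N106717 (tt N97282 (iv1 F467565)) (tt N109567 (iv0 F467564)) (tt N104932 F455383) (tt N111750 (iv3 F477781)) (tt N74183 F455384) (tt N115500 (iv5 F495514)) (tt N71595 (iv6 D209926)) (tt N115499 (iv7 F495508)))
theorem Q106719 : ∀ i, i < 106719 → P i := stepQ 106718 Q106718 (allL N106718 (tt N78536 F455388) (tt N86570 F455391) (tt N88471 F455385) (tt N71596 (iv3 D209927)) (tt N97283 F455386) (tt N78522 (iv5 F455390)) (tt N115482 (iv6 F495413)) (tt N88472 F455387))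
theorem Q106720 : ∀ i, i < 106720 → P i := stepQ 106719 Q106719 (allL N106719 (tt N111749 (iv1 F477776)) (tt N111112 (iv0 F474724)) (tt N85725 F455392) (tt N78522 F455393) (tt N102076 F455394) (tt N71596 (iv5 D209928)) (tt N91961 (iv6 F455396)) (tt N103460 F455395))
theorem Q106721 : ∀ i, i < 106721 → P i := stepQ 106720 Q106720 (allL N106720 (tt N120791 F522739) (tt N103225 (iv0 F486390)) (tt N116076 (iv2 F498338)) (tt N115482 (iv3 F495412)) (tt N74185 F455397) (tt N108515 F462904) (tt N71596 (iv6 D209929)) (tt N120790 (iv7 F522730)))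
theorem Q106722 : ∀ i, i < 106722 → P i := stepQ 106721 Q106721 (allL N106721 (tt N96831 F455403) (tt N96835 (iv0 F455404)) (tt N96833 F455398) (tt N71600 F455399) (tt N100807 F455402) (tt N71599 (iv5 D209930)) (tt N101670 F455400) (tt N96832 F455401))
theorem Q106723 : ∀ i, i < 106723 → P i := stepQ 106722 Q106722 (allL N106722 (tt N91821 F455408) (tt N91811 (iv0 F455409)) (tt N91819 F455405) (tt N101670 F455406) (tt N102035 F455407) (tt N111606 (iv5 F477130)) (tt N71600 (iv6 D209931)) (tt N91820 (iv7 F455410)))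
theorem Q106724 : ∀ i, i < 106724 → P i := stepQ 106723 Q106723 (allL N106723 (tt N96893 F455415) (tt N93913 F455416) (tt N97609 F455411) (tt N82538 F455412) (tt N71601 (iv4 D209932)) (tt N101081 F455413) (tt N102148 F455417) (tt N99712 F455414))
theorem Q106725 : ∀ i, i < 106725 → P i := stepQ 106724 Q106724 (allL N106724 (tt N111053 F474436) (tt N115411 (iv0 F495063)) (tt N111465 (iv2 F476465)) (tt N107079 (iv3 F456878)) (tt N102148 F455418) (tt N118618 (iv5 F511183)) (tt N71601 (iv6 D209933)) (tt N115778 (iv7 F496822)))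
theorem Q106726 : ∀ i, i < 106726 → P i := stepQ 106725 Q106725 (allL N106725 (tt N80927 F455424) (tt N108936 (iv0 F464569)) (tt N102134 F455419) (tt N71602 (iv3 D209934)) (tt N96894 F455420) (tt N102873 F455421) (tt N96866 F455422) (tt N102132 F455423))
theorem Q106727 : ∀ i, i < 106727 → P i := stepQ 106726 Q106726 (allL N106726 (tt N102182 (iv1 F455429)) (tt N80229 F455430) (tt N102185 F455425) (tt N95031 F455426) (tt N71604 F455427) (tt N101998 F455428) (tt N111677 (iv6 F477435)) (tt N71603 (iv7 D209935)))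
theorem Q106728 : ∀ i, i < 106728 → P i := stepQ 106727 Q106727 (allL N106727 (tt N72528 F455435) (tt N72526 (iv0 F455436)) (tt N102671 F455431) (tt N71606 (iv3 D209936)) (tt N95928 F455432) (tt N85033 F455433) (tt N114035 (iv6 F488307)) (tt N106432 F455434))
theorem Q106729 : ∀ i, i < 106729 → P i := stepQ 106728 Q106728 (allL N106728 (tt N112372 F480781) (tt N106492 (iv0 F455440)) (tt N97935 F455437) (tt N114035 (iv3 F488305)) (tt N71607 F455438) (tt N84312 F455439) (tt N71606 (iv6 D209937)) (tt N112164 (iv7 F479843)))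
theorem Q106730 : ∀ i, i < 106730 → P i := stepQ 106729 Q106729 (allL N106729 (tt N112365 (iv1 F480762)) (tt N112364 (iv0 F480759)) (tt N106433 F455441) (tt N102670 F455442) (tt N71609 F455443) (tt N119543 (iv5 F516160)) (tt N71608 (iv6 D209938)) (tt N119552 (iv7 F516205)))
theorem Q106731 : ∀ i, i < 106731 → P i := stepQ 106730 Q106730 (allL N106730 (tt N71609 (iv1 D209939)) (tt N106434 F455444) (tt N74245 (iv2 F455448)) (tt N99263 (iv3 F455450)) (tt N90564 F455447) (tt N81497 F455446) (tt N99262 (iv6 F455449)) (tt N90561 F455445))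
theorem Q106732 : ∀ i, i < 106732 → P i := stepQ 106731 Q106731 (allL N106731 (tt N99262 F455455) (tt N111705 (iv0 F477589)) (tt N90520 F455451) (tt N102149 F455452) (tt N98184 (iv4 F455456)) (tt N89747 F455453) (tt N71610 (iv6 D209940)) (tt N106162 F455454))
theorem Q106733 : ∀ i, i < 106733 → P i := stepQ 106732 Q106732 (allL N106732 (tt N118424 F510279) (tt N111648 (iv0 F477298)) (tt N104248 F455459) (tt N71614 F455460) (tt N105153 F455461) (tt N102401 F455462) (tt N71612 (iv6 D209941)) (tt N94055 F455463))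
theorem Q106734 : ∀ i, i < 106734 → P i := stepQ 106733 Q106733 (allL N106733 (tt N71646 F455466) (tt N107928 (iv0 F460329)) (tt N113323 (iv2 F485021)) (tt N72435 F455464) (tt N107788 (iv4 F459732)) (tt N90197 F455465) (tt N71617 (iv6 D209942)) (tt N109310 (iv7 F466330)))
theorem Q106735 : ∀ i, i < 106735 → P i := stepQ 106734 Q106734 (allL N106734 (tt N71839 F455471) (tt N71837 F455472) (tt N91251 F455467) (tt N87105 F455468) (tt N119406 (iv4 F515450)) (tt N71621 (iv5 D209943)) (tt N87100 F455469) (tt N91250 F455470))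
theorem Q106736 : ∀ i, i < 106736 → P i := stepQ 106735 Q106735 (allL N106735 (tt N71647 F455476) (tt N71650 (iv0 F455477)) (tt N117173 F503753) (tt N74140 F455473) (tt N89555 F455474) (tt N78484 F455475) (tt N71622 (iv6 D209944)) (tt N112120 (iv7 F479583)))
theorem Q106737 : ∀ i, i < 106737 → P i := stepQ 106736 Q106736 (allL N106736 (tt N106867 (iv1 F456071)) (tt N103196 F455480) (tt N106874 (iv2 F456096)) (tt N119648 (iv3 F516699)) (tt N71624 (iv4 D209945)) (tt N119408 (iv5 F515459)) (tt N115316 (iv6 F494552)) (tt N106873 F456091))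
theorem Q106738 : ∀ i, i < 106738 → P i := stepQ 106737 Q106737 (allL N106737 (tt N103302 (iv1 F455488)) (tt N88727 (iv0 F455487)) (tt N103318 F455481) (tt N102411 F455482) (tt N71626 F455483) (tt N104348 F455485) (tt N71625 (iv6 D209946)) (tt N103236 F455484))
theorem Q106739 : ∀ i, i < 106739 → P i := stepQ 106738 Q106738 (allL N106738 (tt N103196 F455489) (tt N106867 (iv0 F456070)) (tt N106873 F456089) (tt N115319 (iv3 F494567)) (tt N71628 (iv4 D209947)) (tt N119400 (iv5 F515422)) (tt N121048 (iv6 F524221)) (tt N106874 (iv7 F456092)))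
theorem Q106740 : ∀ i, i < 106740 → P i := stepQ 106739 Q106739 (allL N106739 (tt N117148 F503637) (tt N117150 (iv0 F503645)) (tt N117117 (iv2 F503484)) (tt N74158 F455490) (tt N87987 F455491) (tt N71629 (iv5 D209948)) (tt N121178 (iv6 F524964)) (tt N115585 (iv7 F495870)))
theorem Q106741 : ∀ i, i < 106741 → P i := stepQ 106740 Q106740 (allL N106740 (tt N106893 (iv1 F456168)) (tt N97466 F455495) (tt N71642 F455492) (tt N102154 F455493) (tt N120789 (iv4 F522728)) (tt N71633 (iv5 D209949)) (tt N102151 F455494) (tt N121233 (iv7 F525281)))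
theorem Q106742 : ∀ i, i < 106742 → P i := stepQ 106741 Q106741 (allL N106741 (tt N89079 F455500) (tt N89979 (iv0 F455501)) (tt N71644 F455496) (tt N117098 (iv3 F503371)) (tt N96092 F455499) (tt N71634 (iv5 D209950)) (tt N71636 F455497) (tt N89978 F455498))
theorem Q106743 : ∀ i, i < 106743 → P i := stepQ 106742 Q106742 (allL N106742 (tt N102349 (iv1 F455507)) (tt N102346 F455506) (tt N71637 (iv2 D209951)) (tt N73796 F455502) (tt N92171 F455503) (tt N71834 F455504) (tt N113332 (iv6 F485075)) (tt N73824 F455505))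
theorem Q106744 : ∀ i, i < 106744 → P i := stepQ 106743 Q106743 (allL N106743 (tt N120589 (iv1 F521613)) (tt N71848 F455510) (tt N117357 (iv2 F504642)) (tt N102129 F455508) (tt N121404 (iv4 F526169)) (tt N71640 (iv5 D209952)) (tt N102128 F455509) (tt N116215 (iv7 F499061)))
theorem Q106745 : ∀ i, i < 106745 → P i := stepQ 106744 Q106744 (allL N106744 (tt N121233 (iv1 F525283)) (tt N71642 (iv0 D209953)) (tt N106893 (iv2 F456164)) (tt N97472 F455513) (tt N121401 (iv4 F526152)) (tt N91107 F455511) (tt N97465 F455514) (tt N97466 (iv7 F455512)))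
theorem Q106746 : ∀ i, i < 106746 → P i := stepQ 106745 Q106745 (allL N106745 (tt N71642 (iv1 D209954)) (tt N121233 (iv0 F525282)) (tt N97466 F455518) (tt N102008 (iv3 F455516)) (tt N121400 (iv4 F526147)) (tt N91105 F455515) (tt N97441 (iv6 F455517)) (tt N106893 (iv7 F456166)))
theorem Q106747 : ∀ i, i < 106747 → P i := stepQ 106746 Q106746 (allL N106746 (tt N119400 F515424) (tt N119408 (iv0 F515461)) (tt N120789 (iv2 F522724)) (tt N121406 D224665) (tt N71642 (iv4 D209955)) (tt N112881 (iv5 F483123)) (tt N119399 F515420) (tt N121234 (iv7 F525288)))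
theorem Q106748 : ∀ i, i < 106748 → P i := stepQ 106747 Q106747 (allL N106747 (tt N102007 F455522) (tt N117428 F504990) (tt N102151 F455519) (tt N96636 F455520) (tt N119399 (iv4 F515418)) (tt N96635 F455521) (tt N71642 (iv6 D209956)) (tt N120556 (iv7 F521437)))
theorem Q106749 : ∀ i, i < 106749 → P i := stepQ 106748 Q106748 (allL N106748 (tt N89985 F455525) (tt N116613 F500976) (tt N96092 F455523) (tt N107877 F460082) (tt N71644 (iv4 D209957)) (tt N108924 (iv5 F464509)) (tt N71653 F455524) (tt N116612 (iv7 F500971)))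
theorem Q106750 : ∀ i, i < 106750 → P i := stepQ 106749 Q106749 (allL N106749 (tt N89979 (iv1 F455529)) (tt N89079 F455530) (tt N89978 F455526) (tt N71664 F455527) (tt N116612 (iv4 F500967)) (tt N71645 F455528) (tt N116799 (iv6 F501904)) (tt N71644 (iv7 D209958)))
theorem Q106751 : ∀ i, i < 106751 → P i := stepQ 106750 Q106750 (allL N106750 (tt N109310 (iv1 F466332)) (tt N113323 (iv0 F485025)) (tt N71646 (iv2 D209959)) (tt N99461 F455531) (tt N93932 F455532) (tt N96282 F455533) (tt N110048 (iv6 F469722)) (tt N107928 (iv7 F460328)))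
theorem Q106752 : ∀ i, i < 106752 → P i := stepQ 106751 Q106751 (allL N106751 (tt N117152 (iv1 F503656)) (tt N80920 (iv0 F455538)) (tt N95343 F455534) (tt N93947 F455535) (tt N81231 F455537) (tt N71647 (iv5 D209960)) (tt N79295 F455536) (tt N108960 (iv7 F464679)))
theorem Q106753 : ∀ i, i < 106753 → P i := stepQ 106752 Q106752 (allL N106752 (tt N119951 F518215) (tt N108438 (iv0 F462563)) (tt N107929 (iv2 F460332)) (tt N71651 F455539) (tt N78358 F455540) (tt N71649 (iv5 D209961)) (tt N91075 F455541) (tt N116729 (iv7 F501534)))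
theorem Q106754 : ∀ i, i < 106754 → P i := stepQ 106753 Q106753 (allL N106753 (tt N86165 F455547) (tt N86164 (iv0 F455548)) (tt N86166 F455542) (tt N102265 F455543) (tt N71652 (iv4 D209962)) (tt N95166 F455546) (tt N86264 F455544) (tt N85892 F455545))
theorem Q106755 : ∀ i, i < 106755 → P i := stepQ 106754 Q106754 (allL N106754 (tt N116680 F501279) (tt N90006 (iv0 F455551)) (tt N116679 F501273) (tt N71653 (iv3 D209963)) (tt N71688 F455549) (tt N90551 F455550) (tt N107877 (iv6 F460086)) (tt N116678 (iv7 F501268)))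
theorem Q106756 : ∀ i, i < 106756 → P i := stepQ 106755 Q106755 (allL N106755 (tt N109318 F466363) (tt N90021 (iv0 F455555)) (tt N90000 F455553) (tt N71691 F455554) (tt N112636 (iv4 F481939)) (tt N110383 F471328) (tt N71654 (iv6 D209964)) (tt N116799 (iv7 F501905)))
theorem Q106757 : ∀ i, i < 106757 → P i := stepQ 106756 Q106756 (allL N106756 (tt N71660 (iv1 F455559)) (tt N71656 (iv0 D209965)) (tt N89593 (iv2 F455558)) (tt N73296 (iv3 F455561)) (tt N93654 F455557) (tt N103587 F455556) (tt N96147 (iv6 F455562)) (tt N96110 F455560))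
theorem Q106758 : ∀ i, i < 106758 → P i := stepQ 106757 Q106757 (allL N106757 (tt N92908 F455565) (tt N118590 (iv0 F511041)) (tt N93732 F455563) (tt N93302 F455566) (tt N71660 (iv4 D209966)) (tt N93296 (iv5 F455567)) (tt N81136 F455568) (tt N93295 F455564))
theorem Q106759 : ∀ i, i < 106759 → P i := stepQ 106758 Q106758 (allL N106758 (tt N89608 F455573) (tt N118943 (iv0 F512887)) (tt N88555 F455569) (tt N115123 (iv3 F493599)) (tt N81136 F455570) (tt N88534 F455571) (tt N71660 (iv6 D209967)) (tt N89066 F455572))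
theorem Q106760 : ∀ i, i < 106760 → P i := stepQ 106759 Q106759 (allL N106759 (tt N107076 (iv1 F456864)) (tt N106087 F455574) (tt N107074 F456855) (tt N108920 (iv3 F464486)) (tt N71661 (iv4 D209968)) (tt N116985 (iv5 F502834)) (tt N107882 F460105) (tt N107075 (iv7 F456857)))
theorem Q106761 : ∀ i, i < 106761 → P i := stepQ 106760 Q106760 (allL N106760 (tt N106087 F455578) (tt N107076 F456863) (tt N107075 (iv2 F456860)) (tt N96731 F455575) (tt N71662 (iv4 D209969)) (tt N105149 F455577) (tt N96730 F455576) (tt N107074 F456856))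
theorem Q106762 : ∀ i, i < 106762 → P i := stepQ 106761 Q106761 (allL N106761 (tt N108663 (iv1 F463427)) (tt N71663 (iv0 D209970)) (tt N74634 (iv2 F455580)) (tt N118414 (iv3 F510221)) (tt N72087 F455579) (tt N118312 (iv5 F509648)) (tt N74632 F455581) (tt N108662 (iv7 F463422)))
theorem Q106763 : ∀ i, i < 106763 → P i := stepQ 106762 Q106762 (allL N106762 (tt N119063 (iv1 F513584)) (tt N110948 (iv0 F473922)) (tt N118341 (iv2 F509795)) (tt N71663 (iv3 D209971)) (tt N107877 F460083) (tt N116998 (iv5 F502892)) (tt N71688 F455582) (tt N118347 (iv7 F509832)))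
theorem Q106764 : ∀ i, i < 106764 → P i := stepQ 106763 Q106763 (allL N106763 (tt N96131 F455584) (tt N93656 F455585) (tt N110468 (iv2 F471717)) (tt N116998 (iv3 F502897)) (tt N120722 (iv4 F522350)) (tt N71663 (iv5 D209972)) (tt N91842 F455583) (tt N110463 (iv7 F471700)))
theorem Q106765 : ∀ i, i < 106765 → P i := stepQ 106764 Q106764 (allL N106764 (tt N108662 (iv1 F463426)) (tt N74634 (iv0 F455587)) (tt N108663 F463434) (tt N118347 (iv3 F509830)) (tt N71664 F455586) (tt N110463 (iv5 F471702)) (tt N118370 F509978) (tt N71663 (iv7 D209973)))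
theorem Q106766 : ∀ i, i < 106766 → P i := stepQ 106765 Q106765 (allL N106765 (tt N72758 F455589) (tt N121246 F525348) (tt N118375 (iv2 F510006)) (tt N116799 (iv3 F501902)) (tt N118370 (iv4 F509980)) (tt N116798 F501898) (tt N71664 (iv6 D209974)) (tt N71691 F455588))
theorem Q106767 : ∀ i, i < 106767 → P i := stepQ 106766 Q106766 (allL N106766 (tt N88555 F455593) (tt N89066 (iv0 F455594)) (tt N118943 (iv2 F512882)) (tt N89030 F455590) (tt N96172 F455591) (tt N115990 (iv5 F497934)) (tt N71672 (iv6 D209975)) (tt N89608 F455592))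
theorem Q106768 : ∀ i, i < 106768 → P i := stepQ 106767 Q106767 (allL N106767 (tt N93937 (iv1 F464404)) (tt N107878 (iv0 F460088)) (tt N121135 (iv2 F524703)) (tt N89981 F455595) (tt N71675 (iv4 D209976)) (tt N89980 (iv5 F455596)) (tt N114463 (iv6 F490308)) (tt N108897 F464402))
theorem Q106769 : ∀ i, i < 106769 → P i := stepQ 106768 Q106768 (allL N106768 (tt N71683 F455600) (tt N121243 F525331) (tt N118764 (iv2 F511952)) (tt N90198 F455597) (tt N99259 F455599) (tt N71675 (iv5 D209977)) (tt N109270 (iv6 F466100)) (tt N99256 F455598))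
theorem Q106770 : ∀ i, i < 106770 → P i := stepQ 106769 Q106769 (allL N106769 (tt N71677 (iv1 D209978)) (tt N96267 F455601) (tt N72434 F455604) (tt N77278 (iv3 F455602)) (tt N110755 (iv4 F473024)) (tt N106829 (iv5 F455871)) (tt N77277 (iv6 F455603)) (tt N115126 (iv7 F493615)))
theorem Q106771 : ∀ i, i < 106771 → P i := stepQ 106770 Q106770 (allL N106770 (tt N109618 (iv1 F467768)) (tt N109617 F467764) (tt N71680 (iv2 D209979)) (tt N121243 (iv3 F525325)) (tt N72196 F455605) (tt N118454 (iv5 F510454)) (tt N72195 F455606) (tt N72826 F455607))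
theorem Q106772 : ∀ i, i < 106772 → P i := stepQ 106771 Q106771 (allL N106771 (tt N71684 (iv1 F455610)) (tt N71681 (iv0 D209980)) (tt N106794 (iv2 F455702)) (tt N94709 (iv3 F455611)) (tt N95608 F455609) (tt N94946 F455608) (tt N108913 (iv6 F464462)) (tt N95087 F455612))
theorem Q106773 : ∀ i, i < 106773 → P i := stepQ 106772 Q106772 (allL N106772 (tt N71681 (iv1 D209981)) (tt N71684 F455613) (tt N95087 (iv2 F455616)) (tt N118219 (iv3 F509218)) (tt N94939 F455614) (tt N95595 F455615) (tt N106087 (iv6 F455617)) (tt N106794 (iv7 F455704)))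
theorem Q106774 : ∀ i, i < 106774 → P i := stepQ 106773 Q106773 (allL N106773 (tt N94707 F455624) (tt N95079 F455622) (tt N79175 F455618) (tt N80356 F455619) (tt N71707 F455620) (tt N71681 (iv5 D209982)) (tt N72886 F455623) (tt N95078 F455621))
theorem Q106775 : ∀ i, i < 106775 → P i := stepQ 106774 Q106774 (allL N106774 (tt N121407 D224666) (tt N121408 D224667) (tt N121244 (iv2 F525332)) (tt N78233 F455625) (tt N71682 F455626) (tt N118705 (iv5 F511643)) (tt N71681 (iv6 D209983)) (tt N103071 F455627))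
theorem Q106776 : ∀ i, i < 106776 → P i := stepQ 106775 Q106775 (allL N106775 (tt N89069 (iv1 F455639)) (tt N71682 (iv0 D209984)) (tt N86269 (iv2 F455633)) (tt N89955 (iv3 F455629)) (tt N91571 F455628) (tt N117061 F503176) (tt N108661 (iv6 F463412)) (tt N121245 (iv7 F525340)))
theorem Q106777 : ∀ i, i < 106777 → P i := stepQ 106776 Q106776 (allL N106776 (tt N71682 (iv1 D209985)) (tt N89069 F455630) (tt N121245 (iv2 F525345)) (tt N85916 (iv3 F455631)) (tt N110944 (iv4 F473896)) (tt N117060 (iv5 F503173)) (tt N119990 F518425) (tt N86269 F455632))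
theorem Q106778 : ∀ i, i < 106778 → P i := stepQ 106777 Q106777 (allL N106777 (tt N121245 (iv1 F525339)) (tt N86269 (iv0 F455640)) (tt N89069 F455634) (tt N72193 F455635) (tt N103071 F455636) (tt N85507 F455637) (tt N72821 F455638) (tt N71682 (iv7 D209986)))
theorem Q106779 : ∀ i, i < 106779 → P i := stepQ 106778 Q106778 (allL N106778 (tt N99256 F455645) (tt N118764 (iv0 F511957)) (tt N71683 (iv2 D209987)) (tt N72826 F455642) (tt N109964 (iv4 F469402)) (tt N90288 F455643) (tt N72824 F455644) (tt N121243 (iv7 F525329)))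
theorem Q106780 : ∀ i, i < 106780 → P i := stepQ 106779 Q106779 (allL N106779 (tt N110832 (iv1 F473353)) (tt N101632 (iv0 F455647)) (tt N109964 (iv2 F469400)) (tt N112002 (iv3 F479024)) (tt N71683 (iv4 D209988)) (tt N98938 F455648) (tt N90188 F455646) (tt N119941 (iv7 F518149)))
theorem Q106781 : ∀ i, i < 106781 → P i := stepQ 106780 Q106780 (allL N106780 (tt N86352 (iv1 F455654)) (tt N90032 (iv0 F455653)) (tt N89067 F455649) (tt N103158 F455650) (tt N71685 F455651) (tt N112001 (iv5 F479019)) (tt N71684 (iv6 D209989)) (tt N89068 (iv7 F455652)))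
theorem Q106782 : ∀ i, i < 106782 → P i := stepQ 106781 Q106781 (allL N106781 (tt N81665 F455655) (tt N112128 (iv0 F479637)) (tt N110947 (iv2 F473912)) (tt N71686 (iv3 D209990)) (tt N90167 (iv4 F455656)) (tt N111425 (iv5 F476303)) (tt N90170 F455657) (tt N111424 (iv7 F476296)))
theorem Q106783 : ∀ i, i < 106783 → P i := stepQ 106782 Q106782 (allL N106782 (tt N95604 F455660) (tt N95161 F455661) (tt N94752 F455658) (tt N111425 (iv3 F476301)) (tt N71703 F455659) (tt N71686 (iv5 D209991)) (tt N94750 F455662) (tt N111423 (iv7 F476292)))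
theorem Q106784 : ∀ i, i < 106784 → P i := stepQ 106783 Q106783 (allL N106783 (tt N91571 F455665) (tt N110944 F473899) (tt N93387 F455663) (tt N90170 F455664) (tt N107129 (iv4 F457106)) (tt N118335 (iv5 F509768)) (tt N71686 (iv6 D209992)) (tt N110945 (iv7 F473905)))
theorem Q106785 : ∀ i, i < 106785 → P i := stepQ 106784 Q106784 (allL N106784 (tt N95161 F455669) (tt N95604 F455670) (tt N111423 (iv2 F476287)) (tt N93558 F455666) (tt N71702 F455667) (tt N71687 (iv5 D209993)) (tt N112417 (iv6 F481017)) (tt N94752 F455668))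
theorem Q106786 : ∀ i, i < 106786 → P i := stepQ 106785 Q106785 (allL N106785 (tt N71688 (iv1 D209994)) (tt N95165 F455677) (tt N95167 F455673) (tt N76210 (iv3 F455672)) (tt N77468 F455674) (tt N95150 F455676) (tt N76208 F455675) (tt N81723 F455671))
theorem Q106787 : ∀ i, i < 106787 → P i := stepQ 106786 Q106786 (allL N106786 (tt N81723 (iv1 F455689)) (tt N95167 F455688) (tt N71688 (iv2 D209995)) (tt N91613 F455678) (tt N116679 (iv4 F501271)) (tt N107888 (iv5 F460131)) (tt N118341 (iv6 F509797)) (tt N95165 (iv7 F455679)))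
theorem Q106788 : ∀ i, i < 106788 → P i := stepQ 106787 Q106787 (allL N106787 (tt N96409 F455683) (tt N107890 F460143) (tt N107888 F460133) (tt N71689 F455680) (tt N91846 F455681) (tt N71688 (iv5 D209996)) (tt N91841 (iv6 F455682)) (tt N107889 (iv7 F460135)))
theorem Q106789 : ∀ i, i < 106789 → P i := stepQ 106788 Q106788 (allL N106788 (tt N95167 F455687) (tt N81723 (iv0 F455686)) (tt N95165 F455684) (tt N71690 F455685) (tt N116678 (iv4 F501266)) (tt N107889 F460139) (tt N118373 (iv6 F509995)) (tt N71688 (iv7 D209997)))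
theorem Q106790 : ∀ i, i < 106790 → P i := stepQ 106789 Q106789 (allL N106789 (tt N118375 F510012) (tt N71691 (iv0 D209998)) (tt N121246 F525347) (tt N72766 F464470) (tt N108916 F464471) (tt N116107 (iv5 F498499)) (tt N110886 (iv6 F473607)) (tt N72758 F464472))
theorem Q106791 : ∀ i, i < 106791 → P i := stepQ 106790 Q106790 (allL N106790 (tt N71691 (iv1 D209999)) (tt N118375 (iv0 F510011)) (tt N72758 F455691) (tt N95934 F455692) (tt N108912 (iv4 F464461)) (tt N116108 F498507) (tt N72756 (iv6 F455690)) (tt N121246 (iv7 F525349)))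
theorem Q106792 : ∀ i, i < 106792 → P i := stepQ 106791 Q106791 (allL N106791 (tt N117597 (iv1 F505919)) (tt N71692 (iv0 D210000)) (tt N107964 (iv2 F460500)) (tt N90482 F455693) (tt N116614 (iv4 F500979)) (tt N107962 (iv5 F460494)) (tt N104962 (iv6 F455694)) (tt N117103 (iv7 F503405)))
theorem Q106793 : ∀ i, i < 106793 → P i := stepQ 106792 Q106792 (allL N106792 (tt N71692 (iv1 D210001)) (tt N117597 (iv0 F505918)) (tt N117103 (iv2 F503403)) (tt N82188 (iv3 F455695)) (tt N107706 (iv4 F459311)) (tt N79569 F455697) (tt N99845 (iv6 F455696)) (tt N107964 (iv7 F460503)))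
theorem Q106794 : ∀ i, i < 106794 → P i := stepQ 106793 Q106793 (allL N106793 (tt N107964 (iv1 F460505)) (tt N117103 (iv0 F503406)) (tt N71692 (iv2 D210002)) (tt N118946 (iv3 F512902)) (tt N103086 F455699) (tt N83206 F455700) (tt N91739 F455701) (tt N117597 (iv7 F505917)))
theorem Q106795 : ∀ i, i < 106795 → P i := stepQ 106794 Q106794 (allL N106794 (tt N106054 F455705) (tt N106052 F455706) (tt N106771 F455702) (tt N118243 (iv3 F509330)) (tt N71693 (iv4 D210003)) (tt N95467 F455703) (tt N118242 (iv6 F509328)) (tt N106772 F455704))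
theorem Q106796 : ∀ i, i < 106796 → P i := stepQ 106795 Q106795 (allL N106795 (tt N99403 (iv1 F456869)) (tt N99399 (iv0 F455710)) (tt N99400 F455708) (tt N107453 (iv3 F458395)) (tt N118242 (iv4 F509324)) (tt N110369 (iv5 F471271)) (tt N71693 (iv6 D210004)) (tt N99401 F455709))
theorem Q106797 : ∀ i, i < 106797 → P i := stepQ 106796 Q106796 (allL N106796 (tt N76378 (iv1 F455716)) (tt N76311 (iv0 F455717)) (tt N71696 F455711) (tt N100946 F455712) (tt N73194 F455713) (tt N99834 F455714) (tt N71694 (iv6 D210005)) (tt N76377 F455715))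
theorem Q106798 : ∀ i, i < 106798 → P i := stepQ 106797 Q106797 (allL N106797 (tt N106062 (iv1 F455724)) (tt N106061 F455723) (tt N98999 F455718) (tt N105743 F455719) (tt N71695 (iv4 D210006)) (tt N88993 F455720) (tt N98998 F455721) (tt N106060 F455722))
theorem Q106799 : ∀ i, i < 106799 → P i := stepQ 106798 Q106798 (allL N106798 (tt N76377 (iv1 F455728)) (tt N71696 (iv0 D210007)) (tt N76378 (iv2 F455727)) (tt N120802 (iv3 F522798)) (tt N101865 F455726) (tt N76312 F455725) (tt N117516 (iv6 F505464)) (tt N76311 F455729))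
theorem Q106800 : ∀ i, i < 106800 → P i := stepQ 106799 Q106799 (allL N106799 (tt N73760 F455733) (tt N106050 F455734) (tt N95080 F455730) (tt N93794 F455735) (tt N71697 (iv4 D210008)) (tt N95079 F455732) (tt N112183 (iv6 F479943)) (tt N93811 F455731))
theorem Q106801 : ∀ i, i < 106801 → P i := stepQ 106800 Q106800 (allL N106800 (tt N119100 (iv1 F513791)) (tt N119896 (iv0 F517913)) (tt N116655 (iv2 F501163)) (tt N71698 (iv3 D210009)) (tt N118504 F510728) (tt N90976 F455736) (tt N116634 (iv6 F501076)) (tt N107100 (iv7 F456968)))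
theorem Q106802 : ∀ i, i < 106802 → P i := stepQ 106801 Q106801 (allL N106801 (tt N106050 F455740) (tt N73760 F455741) (tt N93811 F455737) (tt N94708 F455742) (tt N71698 (iv4 D210010)) (tt N94707 F455738) (tt N112215 (iv6 F480085)) (tt N95080 F455739))
theorem Q106803 : ∀ i, i < 106803 → P i := stepQ 106802 Q106802 (allL N106802 (tt N108016 F460746) (tt N108020 F460768) (tt N108018 (iv2 F460758)) (tt N116634 (iv3 F501078)) (tt N112215 (iv4 F480084)) (tt N82733 F455743) (tt N71698 (iv6 D210011)) (tt N108017 F460750))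
theorem Q106804 : ∀ i, i < 106804 → P i := stepQ 106803 Q106803 (allL N106803 (tt N99373 F455745) (tt N96248 F455746) (tt N107289 F457820) (tt N117488 (iv3 F505296)) (tt N71701 (iv4 D210012)) (tt N73995 F455744) (tt N117486 (iv6 F505291)) (tt N107288 F457815))
theorem Q106805 : ∀ i, i < 106805 → P i := stepQ 106804 Q106804 (allL N106804 (tt N96880 F455750) (tt N96935 (iv0 F455751)) (tt N96934 F455747) (tt N100919 F455748) (tt N112417 F481015) (tt N115284 (iv5 F494373)) (tt N71702 (iv6 D210013)) (tt N96913 F455749))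
theorem Q106806 : ∀ i, i < 106806 → P i := stepQ 106805 Q106805 (allL N106805 (tt N91194 F455755) (tt N95436 (iv0 F455756)) (tt N79863 F455752) (tt N118942 (iv3 F512877)) (tt N119490 (iv4 F515872)) (tt N103964 F455753) (tt N71708 (iv6 D210014)) (tt N103963 F455754))
theorem Q106807 : ∀ i, i < 106807 → P i := stepQ 106806 Q106806 (allL N106806 (tt N90782 F455759) (tt N95151 F455760) (tt N71719 F455757) (tt N79956 F455758) (tt N110336 (iv4 F471107)) (tt N71718 (iv5 D210015)) (tt N79954 (iv6 F455761)) (tt N110601 (iv7 F472332)))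
theorem Q106808 : ∀ i, i < 106808 → P i := stepQ 106807 Q106807 (allL N106807 (tt N81161 (iv1 F455766)) (tt N80810 (iv0 F455765)) (tt N71720 F455762) (tt N87759 F455763) (tt N107687 (iv4 F459234)) (tt N121068 (iv5 F524341)) (tt N71718 (iv6 D210016)) (tt N81160 F455764))
theorem Q106809 : ∀ i, i < 106809 → P i := stepQ 106808 Q106808 (allL N106808 (tt N71719 (iv1 D210017)) (tt N110601 F472334) (tt N95151 F455771) (tt N72732 (iv3 F455770)) (tt N85583 F455769) (tt N77791 F455768) (tt N113690 F486654) (tt N90782 F455767))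
theorem Q106810 : ∀ i, i < 106810 → P i := stepQ 106809 Q106809 (allL N106809 (tt N71720 (iv1 D210018)) (tt N81160 F455772) (tt N80810 F455777) (tt N80167 (iv3 F455774)) (tt N96499 (iv4 F455775)) (tt N117653 (iv5 F506232)) (tt N92328 (iv6 F455776)) (tt N81161 F455773))
theorem Q106811 : ∀ i, i < 106811 → P i := stepQ 106810 Q106810 (allL N106810 (tt N81155 F455779) (tt N117676 (iv0 F506364)) (tt N121068 (iv2 F524339)) (tt N71722 F455778) (tt N80268 F463198) (tt N71720 (iv5 D210019)) (tt N110338 (iv6 F471116)) (tt N119244 (iv7 F514589)))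
theorem Q106812 : ∀ i, i < 106812 → P i := stepQ 106811 Q106811 (allL N106811 (tt N115659 (iv1 F496188)) (tt N121043 (iv0 F524191)) (tt N88094 F455780) (tt N110338 (iv3 F471115)) (tt N121409 D224668) (tt N71721 (iv5 D210020)) (tt N71722 F455781) (tt N88097 F455782))
theorem Q106813 : ∀ i, i < 106813 → P i := stepQ 106812 Q106812 (allL N106812 (tt N95356 (iv1 F455784)) (tt N71722 (iv0 D210021)) (tt N95606 (iv2 F455785)) (tt N84627 (iv3 F455786)) (tt N95496 (iv4 F455789)) (tt N95503 F455783) (tt N101592 (iv6 F455787)) (tt N95662 (iv7 F455788)))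
theorem Q106814 : ∀ i, i < 106814 → P i := stepQ 106813 Q106813 (allL N106813 (tt N71722 (iv1 D210022)) (tt N95356 F455792) (tt N95662 (iv2 F455796)) (tt N108598 (iv3 F463194)) (tt N95497 F455795) (tt N95504 F455794) (tt N121410 D224669) (tt N95606 F455793))
theorem Q106815 : ∀ i, i < 106815 → P i := stepQ 106814 Q106814 (allL N106814 (tt N112261 (iv1 F480261)) (tt N112258 (iv0 F480252)) (tt N97836 F455797) (tt N121411 D224670) (tt N71722 (iv4 D210023)) (tt N106309 F455799) (tt N121409 (iv6 F526199)) (tt N106533 F455798))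
theorem Q106816 : ∀ i, i < 106816 → P i := stepQ 106815 Q106815 (allL N106815 (tt N91187 F455804) (tt N119236 F514537) (tt N71727 F455800) (tt N79837 F455801) (tt N82757 F455802) (tt N91244 F455803) (tt N71725 (iv6 D210024)) (tt N111060 (iv7 F474466)))
theorem Q106817 : ∀ i, i < 106817 → P i := stepQ 106816 Q106816 (allL N106816 (tt N88240 F455810) (tt N95452 (iv0 F455811)) (tt N104939 F455805) (tt N71728 F455806) (tt N100774 F455807) (tt N92991 F455808) (tt N71726 (iv6 D210025)) (tt N79959 F455809))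
theorem Q106818 : ∀ i, i < 106818 → P i := stepQ 106817 Q106817 (allL N106817 (tt N111060 F474470) (tt N71727 (iv0 D210026)) (tt N91187 (iv2 F455813)) (tt N111630 (iv3 F477224)) (tt N115776 (iv4 F496808)) (tt N103958 F455812) (tt N114226 (iv6 F489087)) (tt N119236 (iv7 F514538)))
theorem Q106819 : ∀ i, i < 106819 → P i := stepQ 106818 Q106818 (allL N106818 (tt N71727 (iv1 D210027)) (tt N111060 F474469) (tt N119236 F514536) (tt N79844 (iv3 F455818)) (tt N103340 (iv4 F455816)) (tt N103957 F455815) (tt N103339 F455817) (tt N91187 F455814))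
theorem Q106820 : ∀ i, i < 106820 → P i := stepQ 106819 Q106819 (allL N106819 (tt N97419 F455823) (tt N81767 (iv0 F455824)) (tt N95440 F455819) (tt N71731 (iv3 D210028)) (tt N95695 F455820) (tt N97428 F455821) (tt N97430 F455822) (tt N112870 (iv7 F483061)))
theorem Q106821 : ∀ i, i < 106821 → P i := stepQ 106820 Q106820 (allL N106820 (tt N97139 F455827) (tt N108598 F463197) (tt N108599 (iv2 F463199)) (tt N114141 (iv3 F488722)) (tt N94443 F455825) (tt N71733 (iv5 D210029)) (tt N114870 (iv6 F492256)) (tt N99695 F455826))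
theorem Q106822 : ∀ i, i < 106822 → P i := stepQ 106821 Q106821 (allL N106821 (tt N112162 F479835) (tt N112163 (iv0 F479841)) (tt N79605 F455828) (tt N71740 F455829) (tt N102797 F455830) (tt N79604 F455831) (tt N71738 (iv6 D210030)) (tt N112170 (iv7 F479877)))
theorem Q106823 : ∀ i, i < 106823 → P i := stepQ 106822 Q106822 (allL N106822 (tt N81204 F455835) (tt N72062 F455837) (tt N71888 F455832) (tt N100943 F455833) (tt N71740 F455834) (tt N100942 (iv5 F455836)) (tt N71739 (iv6 D210031)) (tt N110059 (iv7 F469784)))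
theorem Q106824 : ∀ i, i < 106824 → P i := stepQ 106823 Q106823 (allL N106823 (tt N71746 (iv1 F455841)) (tt N71741 (iv0 D210032)) (tt N71743 (iv2 F455842)) (tt N75685 (iv3 F455843)) (tt N71917 F455839) (tt N79787 F455838) (tt N75682 F455840) (tt N71744 (iv7 F455844)))
theorem Q106825 : ∀ i, i < 106825 → P i := stepQ 106824 Q106824 (allL N106824 (tt N71741 (iv1 D210033)) (tt N71746 F455845) (tt N71744 (iv2 F455847)) (tt N112160 (iv3 F479817)) (tt N116483 (iv4 F500376)) (tt N118984 (iv5 F513118)) (tt N103131 (iv6 F455848)) (tt N71743 F455846))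
theorem Q106826 : ∀ i, i < 106826 → P i := stepQ 106825 Q106825 (allL N106825 (tt N97084 F455852) (tt N79824 F455853) (tt N79787 F455849) (tt N102021 F455850) (tt N82422 F455854) (tt N71743 (iv5 D210034)) (tt N81001 F455851) (tt N118984 (iv7 F513120)))
theorem Q106827 : ∀ i, i < 106827 → P i := stepQ 106826 Q106826 (allL N106826 (tt N90641 (iv1 F455859)) (tt N71745 (iv0 D210035)) (tt N96666 (iv2 F455858)) (tt N97395 F455856) (tt N95713 F455855) (tt N106162 F455857) (tt N97630 (iv6 F455861)) (tt N89747 F455860))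
theorem Q106828 : ∀ i, i < 106828 → P i := stepQ 106827 Q106827 (allL N106827 (tt N108377 F462326) (tt N119828 (iv0 F517587)) (tt N90246 F455862) (tt N101610 F455863) (tt N111378 (iv4 F476087)) (tt N112796 (iv5 F482656)) (tt N71759 (iv6 D210036)) (tt N121248 (iv7 F525360)))
theorem Q106829 : ∀ i, i < 106829 → P i := stepQ 106828 Q106828 (allL N106828 (tt N93741 F455867) (tt N107886 (iv0 F460126)) (tt N101652 F455864) (tt N93467 F455868) (tt N71760 (iv4 D210037)) (tt N80947 F455865) (tt N116605 (iv6 F500939)) (tt N90245 F455866))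
theorem Q106830 : ∀ i, i < 106830 → P i := stepQ 106829 Q106829 (allL N106829 (tt N121215 F525179) (tt N90288 (iv0 F455872)) (tt N101653 F455869) (tt N90205 F455870) (tt N116605 (iv4 F500940)) (tt N106769 F455871) (tt N71760 (iv6 D210038)) (tt N121249 (iv7 F525363)))
theorem Q106831 : ∀ i, i < 106831 → P i := stepQ 106830 Q106830 (allL N106830 (tt N121412 D224671) (tt N114317 (iv0 F489566)) (tt N105050 F455873) (tt N72759 F455874) (tt N106388 F455877) (tt N71762 (iv5 D210039)) (tt N106387 F455875) (tt N73872 F455876))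
theorem Q106832 : ∀ i, i < 106832 → P i := stepQ 106831 Q106831 (allL N106831 (tt N114317 (iv1 F489567)) (tt N121412 F526218) (tt N73872 F455878) (tt N72505 F455879) (tt N107404 (iv4 F458231)) (tt N71765 (iv5 D210040)) (tt N107403 F458229) (tt N105050 F455880))
theorem Q106833 : ∀ i, i < 106833 → P i := stepQ 106832 Q106832 (allL N106832 (tt N73946 (iv1 F455886)) (tt N101188 (iv0 F455887)) (tt N71769 F455881) (tt N79143 F455882) (tt N92416 F455883) (tt N76744 F455884) (tt N71768 (iv6 D210041)) (tt N76743 F455885))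
theorem Q106834 : ∀ i, i < 106834 → P i := stepQ 106833 Q106833 (allL N106833 (tt N76743 (iv1 F455889)) (tt N71769 (iv0 D210042)) (tt N73946 (iv2 F455890)) (tt N108408 F462449) (tt N120137 (iv4 F519261)) (tt N89163 F455888) (tt N108406 F462454) (tt N101188 (iv7 F455891)))
theorem Q106835 : ∀ i, i < 106835 → P i := stepQ 106834 Q106834 (allL N106834 (tt N71769 (iv1 D210043)) (tt N76743 F455892) (tt N101188 F455896) (tt N72403 (iv3 F455895)) (tt N108048 (iv4 F460874)) (tt N89148 F455894) (tt N117090 (iv6 F503325)) (tt N73946 F455893))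
theorem Q106836 : ∀ i, i < 106836 → P i := stepQ 106835 Q106835 (allL N106835 (tt N73831 F455901) (tt N73834 (iv0 F455902)) (tt N73832 F455897) (tt N71776 (iv3 D210044)) (tt N92420 F455898) (tt N74490 F455899) (tt N120117 (iv6 F519140)) (tt N71781 F455900))
theorem Q106837 : ∀ i, i < 106837 → P i := stepQ 106836 Q106836 (allL N106836 (tt N90509 F455906) (tt N72134 (iv0 F455907)) (tt N71787 F455903) (tt N120117 (iv3 F519139)) (tt N88498 F455904) (tt N113953 (iv5 F487941)) (tt N71776 (iv6 D210045)) (tt N90507 F455905))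
theorem Q106838 : ∀ i, i < 106838 → P i := stepQ 106837 Q106837 (allL N106837 (tt N71777 (iv1 D210046)) (tt N71791 F455908) (tt N71789 F455913) (tt N105293 (iv3 F455910)) (tt N117924 (iv4 F507623)) (tt N106040 (iv5 F455911)) (tt N96215 (iv6 F455912)) (tt N71788 F455909))
theorem Q106839 : ∀ i, i < 106839 → P i := stepQ 106838 Q106838 (allL N106838 (tt N98465 F455919) (tt N73137 F455920) (tt N71790 F455914) (tt N98479 F455915) (tt N71777 (iv4 D210047)) (tt N91452 F455916) (tt N81530 F455917) (tt N90642 F455918))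
theorem Q106840 : ∀ i, i < 106840 → P i := stepQ 106839 Q106839 (allL N106839 (tt N73834 (iv1 F455925)) (tt N73831 F455924) (tt N71781 (iv2 D210048)) (tt N79150 F455921) (tt N92419 (iv4 F455926)) (tt N79149 F455922) (tt N100240 F457680) (tt N73832 F455923))
theorem Q106841 : ∀ i, i < 106841 → P i := stepQ 106840 Q106840 (allL N106840 (tt N92421 F455931) (tt N92418 F455932) (tt N92419 F455927) (tt N74304 F455928) (tt N71781 (iv4 D210049)) (tt N74303 F455930) (tt N102736 F455933) (tt N92420 F455929))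
theorem Q106842 : ∀ i, i < 106842 → P i := stepQ 106841 Q106841 (allL N106841 (tt N100241 (iv1 F455938)) (tt N100180 (iv0 F455937)) (tt N100240 (iv2 F457681)) (tt N71784 F455934) (tt N102736 F455935) (tt N117219 (iv5 F503962)) (tt N71781 (iv6 D210050)) (tt N100239 (iv7 F455936)))
theorem Q106843 : ∀ i, i < 106843 → P i := stepQ 106842 Q106842 (allL N106842 (tt N101647 F455942) (tt N101610 (iv0 F455943)) (tt N101645 F455939) (tt N71787 F455940) (tt N99079 F455941) (tt N114002 F488143) (tt N71785 (iv6 D210051)) (tt N101646 (iv7 F455945)))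
theorem Q106844 : ∀ i, i < 106844 → P i := stepQ 106843 Q106843 (allL N106843 (tt N99936 F455950) (tt N84174 (iv0 F455952)) (tt N98188 F455946) (tt N79152 F455947) (tt N84718 F455948) (tt N88559 (iv5 F455951)) (tt N71786 (iv6 D210052)) (tt N84715 F455949))
theorem Q106845 : ∀ i, i < 106845 → P i := stepQ 106844 Q106844 (allL N106844 (tt N112384 (iv1 F480849)) (tt N113954 F487950) (tt N113953 (iv2 F487945)) (tt N114002 (iv3 F488146)) (tt N88560 (iv4 F455954)) (tt N71787 (iv5 D210053)) (tt N88559 F455953) (tt N113952 F487938))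
theorem Q106846 : ∀ i, i < 106846 → P i := stepQ 106845 Q106845 (allL N106845 (tt N72134 (iv1 F455959)) (tt N90509 F455960) (tt N90507 F455955) (tt N101646 F455956) (tt N78839 F455957) (tt N113952 (iv5 F487937)) (tt N78838 F455958) (tt N71787 (iv7 D210054)))
theorem Q106847 : ∀ i, i < 106847 → P i := stepQ 106846 Q106846 (allL N106846 (tt N71790 (iv1 D210055)) (tt N90642 F455961) (tt N73137 (iv2 F455964)) (tt N98307 (iv3 F455965)) (tt N117604 (iv4 F505956)) (tt N98305 F455963) (tt N115157 (iv6 F493772)) (tt N98465 F455962))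
theorem Q106848 : ∀ i, i < 106848 → P i := stepQ 106847 Q106847 (allL N106847 (tt N106406 (iv1 F455970)) (tt N107435 F458335) (tt N73279 F455966) (tt N103726 F455967) (tt N73278 F455968) (tt N71792 (iv5 D210056)) (tt N120866 (iv6 F523163)) (tt N104531 F455969))
theorem Q106849 : ∀ i, i < 106849 → P i := stepQ 106848 Q106848 (allL N106848 (tt N109183 F465695) (tt N121413 D224672) (tt N121092 (iv2 F524474)) (tt N103530 F455971) (tt N71793 F455972) (tt N121318 (iv5 F525732)) (tt N71792 (iv6 D210057)) (tt N103524 F455973))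
theorem Q106850 : ∀ i, i < 106850 → P i := stepQ 106849 Q106849 (allL N106849 (tt N71793 (iv1 D210058)) (tt N105386 F455974) (tt N105452 F455978) (tt N86928 (iv3 F455976)) (tt N102907 (iv4 F455977)) (tt N112949 (iv5 F483342)) (tt N86926 (iv6 F455979)) (tt N105501 F455975))
theorem Q106851 : ∀ i, i < 106851 → P i := stepQ 106850 Q106850 (allL N106850 (tt N105072 F455984) (tt N117685 (iv0 F506410)) (tt N118515 (iv2 F510768)) (tt N71796 F455981) (tt N118507 F510745) (tt N71793 (iv5 D210059)) (tt N106009 F455982) (tt N105502 F455983))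
theorem Q106852 : ∀ i, i < 106852 → P i := stepQ 106851 Q106851 (allL N106851 (tt N88541 F455992) (tt N117627 (iv0 F506076)) (tt N100075 F455987) (tt N84165 F455988) (tt N100937 F455991) (tt N71794 (iv5 D210060)) (tt N76995 F455989) (tt N106557 F455990))
theorem Q106853 : ∀ i, i < 106853 → P i := stepQ 106852 Q106852 (allL N106852 (tt N117627 (iv1 F506077)) (tt N88541 F455997) (tt N106557 F455993) (tt N84962 F455994) (tt N100938 F455995) (tt N71795 (iv5 D210061)) (tt N121414 D224673) (tt N100075 F455996))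
theorem Q106854 : ∀ i, i < 106854 → P i := stepQ 106853 Q106853 (allL N106853 (tt N106595 F456002) (tt N71850 (iv0 F456003)) (tt N76758 F455998) (tt N84963 F455999) (tt N76585 F456000) (tt N112331 (iv5 F480601)) (tt N71795 (iv6 D210062)) (tt N76765 F456001))
theorem Q106855 : ∀ i, i < 106855 → P i := stepQ 106854 Q106854 (allL N106854 (tt N100049 F456007) (tt N110068 (iv0 F469826)) (tt N106558 F456004) (tt N120555 (iv3 F521428)) (tt N71796 (iv4 D210063)) (tt N78300 F456006) (tt N106010 F456005) (tt N110165 (iv7 F470253)))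
theorem Q106856 : ∀ i, i < 106856 → P i := stepQ 106855 Q106855 (allL N106855 (tt N105336 (iv1 F456011)) (tt N83696 F456012) (tt N105334 F456008) (tt N105502 F456009) (tt N110165 (iv4 F470251)) (tt N71797 F456010) (tt N114731 F491569) (tt N71796 (iv7 D210064)))
theorem Q106857 : ∀ i, i < 106857 → P i := stepQ 106856 Q106856 (allL N106856 (tt N102526 F456017) (tt N91079 F456018) (tt N71799 F456013) (tt N75703 F456019) (tt N71798 (iv4 D210065)) (tt N98265 F456016) (tt N74411 F456014) (tt N106539 F456015))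
theorem Q106858 : ∀ i, i < 106858 → P i := stepQ 106857 Q106857 (allL N106857 (tt N106539 (iv1 F456024)) (tt N71799 (iv0 D210066)) (tt N102526 (iv2 F456023)) (tt N92134 F456021) (tt N91080 F456020) (tt N114533 (iv5 F490642)) (tt N74918 F456022) (tt N91079 F456025))
theorem Q106859 : ∀ i, i < 106859 → P i := stepQ 106858 Q106858 (allL N106858 (tt N105385 (iv1 F456030)) (tt N71800 (iv0 D210067)) (tt N105454 (iv2 F456029)) (tt N105474 F456027) (tt N100790 F456026) (tt N119987 (iv5 F518405)) (tt N88885 F456028) (tt N100789 F456031))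
theorem Q106860 : ∀ i, i < 106860 → P i := stepQ 106859 Q106859 (allL N106859 (tt N96124 (iv1 F456037)) (tt N103587 F456038) (tt N92136 F456032) (tt N105505 F456033) (tt N102778 F456034) (tt N106044 F456035) (tt N75862 F456036) (tt N71802 (iv7 D210068)))
theorem Q106861 : ∀ i, i < 106861 → P i := stepQ 106860 Q106860 (allL N106860 (tt N74389 (iv1 F456042)) (tt N71810 (iv0 D210069)) (tt N74387 (iv2 F456041)) (tt N87261 (iv3 F456044)) (tt N74402 F456039) (tt N89848 (iv5 F456047)) (tt N99929 F456040) (tt N74388 F456043))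
theorem Q106862 : ∀ i, i < 106862 → P i := stepQ 106861 Q106861 (allL N106861 (tt N116483 F500380) (tt N71917 (iv0 F456052)) (tt N81491 F456048) (tt N71811 (iv3 D210070)) (tt N80645 F456049) (tt N111213 (iv5 F475252)) (tt N72002 F456050) (tt N71964 F456051))
theorem Q106863 : ∀ i, i < 106863 → P i := stepQ 106862 Q106862 (allL N106862 (tt N108427 (iv1 F462516)) (tt N72061 (iv0 F456057)) (tt N71813 F456053) (tt N101625 F456054) (tt N73417 F456055) (tt N108433 (iv5 F462536)) (tt N71812 (iv6 D210071)) (tt N100238 F456056))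
theorem Q106864 : ∀ i, i < 106864 → P i := stepQ 106863 Q106863 (allL N106863 (tt N100238 (iv1 F456059)) (tt N71813 (iv0 D210072)) (tt N108427 (iv2 F462512)) (tt N117331 (iv3 F504492)) (tt N80086 F456058) (tt N106494 (iv5 F456061)) (tt N117286 F504288) (tt N72061 F456060))
theorem Q106865 : ∀ i, i < 106865 → P i := stepQ 106864 Q106864 (allL N106864 (tt N120182 (iv1 F519476)) (tt N112736 (iv0 F482439)) (tt N108433 (iv2 F462535)) (tt N71815 F456062) (tt N108389 (iv4 F462373)) (tt N71813 (iv5 D210073)) (tt N119653 F516731) (tt N108429 (iv7 F462519)))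
theorem Q106866 : ∀ i, i < 106866 → P i := stepQ 106865 Q106865 (allL N106865 (tt N113014 F483562) (tt N71922 F470238) (tt N117603 (iv2 F505950)) (tt N71814 (iv3 D210074)) (tt N112656 (iv4 F482025)) (tt N106506 F456063) (tt N115946 (iv6 F497720)) (tt N72121 F456064))
theorem Q106867 : ∀ i, i < 106867 → P i := stepQ 106866 Q106866 (allL N106866 (tt N108248 F461679) (tt N118881 F512560) (tt N101823 F456065) (tt N71818 F456066) (tt N117794 (iv4 F507006)) (tt N72313 F456067) (tt N71817 (iv6 D210075)) (tt N73635 F456068))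
theorem Q106868 : ∀ i, i < 106868 → P i := stepQ 106867 Q106867 (allL N106867 (tt N106738 F456070) (tt N106736 F456071) (tt N71822 F456069) (tt N121415 D224674) (tt N71819 (iv4 D210076)) (tt N121247 (iv5 F525352)) (tt N121416 D224675) (tt N120785 (iv7 F522700)))
theorem Q106869 : ∀ i, i < 106869 → P i := stepQ 106868 Q106868 (allL N106868 (tt N87791 F456075) (tt N115366 (iv0 F494830)) (tt N71823 F456072) (tt N87747 F456073) (tt N121416 (iv4 F526239)) (tt N83867 F456074) (tt N71819 (iv6 D210077)) (tt N113130 (iv7 F484114)))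
theorem Q106870 : ∀ i, i < 106870 → P i := stepQ 106869 Q106869 (allL N106869 (tt N117355 (iv1 F504635)) (tt N116509 (iv0 F500526)) (tt N106698 F456076) (tt N91230 F456077) (tt N71820 (iv4 D210078)) (tt N119403 (iv5 F515433)) (tt N91229 (iv6 F456079)) (tt N106694 F456078))
theorem Q106871 : ∀ i, i < 106871 → P i := stepQ 106870 Q106870 (allL N106870 (tt N119352 F515173) (tt N120041 (iv0 F518710)) (tt N106699 F456080) (tt N88431 F456081) (tt N91229 F456082) (tt N120348 (iv5 F520315)) (tt N71820 (iv6 D210079)) (tt N115227 (iv7 F494120)))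
theorem Q106872 : ∀ i, i < 106872 → P i := stepQ 106871 Q106871 (allL N106871 (tt N116509 (iv1 F500527)) (tt N117355 F504634) (tt N106694 F456083) (tt N119406 (iv3 F515449)) (tt N71821 (iv4 D210080)) (tt N119404 (iv5 F515439)) (tt N115301 F494470) (tt N106698 F456084))
theorem Q106873 : ∀ i, i < 106873 → P i := stepQ 106872 Q106872 (allL N106872 (tt N119325 F515029) (tt N83576 (iv0 F456087)) (tt N106695 F456085) (tt N87104 F456086) (tt N115301 (iv4 F494468)) (tt N111643 F477280) (tt N71821 (iv6 D210081)) (tt N115810 (iv7 F497013)))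
theorem Q106874 : ∀ i, i < 106874 → P i := stepQ 106873 Q106873 (allL N106873 (tt N120785 (iv1 F522702)) (tt N71822 (iv0 D210082)) (tt N106738 (iv2 F456089)) (tt N98581 (iv3 F456090)) (tt N91094 F456088) (tt N121405 (iv5 F526174)) (tt N115240 (iv6 F494167)) (tt N106736 (iv7 F456091)))
theorem Q106875 : ∀ i, i < 106875 → P i := stepQ 106874 Q106874 (allL N106874 (tt N71822 (iv1 D210083)) (tt N120785 (iv0 F522701)) (tt N106736 F456096) (tt N86691 (iv3 F456094)) (tt N73669 (iv4 F456093)) (tt N120604 (iv5 F521710)) (tt N86690 F456095) (tt N106738 F456092))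
theorem Q106876 : ∀ i, i < 106876 → P i := stepQ 106875 Q106875 (allL N106875 (tt N119454 F515713) (tt N119388 (iv0 F515372)) (tt N121247 (iv2 F525351)) (tt N120786 (iv3 F522704)) (tt N120589 (iv4 F521616)) (tt N71822 (iv5 D210084)) (tt N121417 D224676) (tt N120786 (iv7 F522706)))
theorem Q106877 : ∀ i, i < 106877 → P i := stepQ 106876 Q106876 (allL N106876 (tt N115152 F493746) (tt N115183 (iv0 F493908)) (tt N121416 (iv2 F526237)) (tt N118934 (iv3 F512828)) (tt N71823 F456097) (tt N104412 (iv5 F456098)) (tt N71822 (iv6 D210085)) (tt N121418 D224677))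
theorem Q106878 : ∀ i, i < 106878 → P i := stepQ 106877 Q106877 (allL N106877 (tt N71823 (iv1 D210086)) (tt N113130 (iv0 F484115)) (tt N115366 (iv2 F494825)) (tt N97187 (iv3 F456101)) (tt N115212 (iv4 F494044)) (tt N87792 F456100) (tt N114465 (iv6 F490319)) (tt N87791 F456099))
theorem Q106879 : ∀ i, i < 106879 → P i := stepQ 106878 Q106878 (allL N106878 (tt N115366 F494831) (tt N87791 (iv0 F456105)) (tt N113130 (iv2 F484111)) (tt N71827 F456102) (tt N121418 (iv4 F526246)) (tt N84257 F456103) (tt N96868 F456104) (tt N71823 (iv7 D210087)))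
theorem Q106880 : ∀ i, i < 106880 → P i := stepQ 106879 Q106879 (allL N106879 (tt N117923 (iv1 F507621)) (tt N95880 (iv0 F456108)) (tt N109249 (iv2 F465986)) (tt N71824 (iv3 D210088)) (tt N119346 (iv4 F515136)) (tt N87714 F456106) (tt N87937 F456107) (tt N120788 (iv7 F522721)))
theorem Q106881 : ∀ i, i < 106881 → P i := stepQ 106880 Q106880 (allL N106880 (tt N108473 (iv1 F462744)) (tt N111788 F477981) (tt N111789 (iv2 F477982)) (tt N71825 (iv3 D210089)) (tt N79966 F456109) (tt N87713 F456110) (tt N113633 (iv6 F486399)) (tt N87712 F456111))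
theorem Q106882 : ∀ i, i < 106882 → P i := stepQ 106881 Q106881 (allL N106881 (tt N97165 F456113) (tt N97168 F456114) (tt N115710 (iv2 F496439)) (tt N113633 (iv3 F486396)) (tt N112432 (iv4 F481076)) (tt N113633 (iv5 F486398)) (tt N71825 (iv6 D210090)) (tt N88336 F456112))
theorem Q106883 : ∀ i, i < 106883 → P i := stepQ 106882 Q106882 (allL N106882 (tt N75926 (iv1 F456118)) (tt N75921 F456117) (tt N71828 (iv2 D210091)) (tt N102871 F456115) (tt N116503 (iv4 F500486)) (tt N108331 (iv5 F462101)) (tt N111136 (iv6 F474869)) (tt N102874 F456116))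
theorem Q106884 : ∀ i, i < 106884 → P i := stepQ 106883 Q106883 (allL N106883 (tt N119247 (iv1 F514609)) (tt N96886 (iv0 F456121)) (tt N111136 (iv2 F474867)) (tt N71830 F456119) (tt N117294 (iv4 F504327)) (tt N96863 F456120) (tt N71828 (iv6 D210092)) (tt N111135 (iv7 F474864)))
theorem Q106885 : ∀ i, i < 106885 → P i := stepQ 106884 Q106884 (allL N106884 (tt N111231 (iv1 F475342)) (tt N111767 (iv0 F477869)) (tt N109528 (iv2 F467381)) (tt N71832 F456122) (tt N85771 F456124) (tt N71831 (iv5 D210093)) (tt N85770 F456125) (tt N102872 F456123))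
theorem Q106886 : ∀ i, i < 106886 → P i := stepQ 106885 Q106885 (allL N106885 (tt N73669 F456129) (tt N91094 F456130) (tt N91096 F456126) (tt N120792 (iv3 F522741)) (tt N121399 (iv4 F526138)) (tt N71835 (iv5 D210094)) (tt N95610 F456127) (tt N89305 F456128))
theorem Q106887 : ∀ i, i < 106887 → P i := stepQ 106886 Q106886 (allL N106886 (tt N89196 (iv1 F456134)) (tt N71840 (iv0 D210095)) (tt N88627 (iv2 F456133)) (tt N89225 (iv3 F456136)) (tt N81415 F456132) (tt N89224 F456131) (tt N121419 D224678) (tt N88630 F456135))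
theorem Q106888 : ∀ i, i < 106888 → P i := stepQ 106887 Q106887 (allL N106887 (tt N92713 F456141) (tt N92572 F456142) (tt N92716 F456137) (tt N71841 (iv3 D210096)) (tt N85031 F456138) (tt N117991 (iv5 F507951)) (tt N87658 F456139) (tt N92715 F456140))
theorem Q106889 : ∀ i, i < 106889 → P i := stepQ 106888 Q106888 (allL N106888 (tt N117357 (iv1 F504646)) (tt N116215 (iv0 F499062)) (tt N71848 F456143) (tt N117991 F507955) (tt N120786 (iv4 F522707)) (tt N71841 (iv5 D210097)) (tt N71848 F456144) (tt N120589 (iv7 F521614)))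
theorem Q106890 : ∀ i, i < 106890 → P i := stepQ 106889 Q106889 (allL N106889 (tt N117054 F503149) (tt N120372 (iv0 F520434)) (tt N73838 F456145) (tt N71845 F456146) (tt N89159 F456147) (tt N121420 D224679) (tt N71843 (iv6 D210098)) (tt N101212 F456148))
theorem Q106891 : ∀ i, i < 106891 → P i := stepQ 106890 Q106890 (allL N106890 (tt N116289 F499386) (tt N120621 F521808) (tt N110316 (iv2 F471004)) (tt N71844 (iv3 D210099)) (tt N90238 F456149) (tt N102153 (iv5 F456152)) (tt N90237 F456150) (tt N105113 F456151))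
theorem Q106892 : ∀ i, i < 106892 → P i := stepQ 106891 Q106891 (allL N106891 (tt N97465 F456157) (tt N97453 F456158) (tt N97463 F456154) (tt N102153 F456155) (tt N121405 (iv4 F526173)) (tt N71844 (iv5 D210100)) (tt N121233 (iv6 F525280)) (tt N97464 F456156))
theorem Q106893 : ∀ i, i < 106893 → P i := stepQ 106892 Q106892 (allL N106892 (tt N84321 F456162) (tt N84282 (iv0 F456163)) (tt N84320 F456159) (tt N121420 (iv3 F526259)) (tt N116800 (iv4 F501912)) (tt N71845 (iv5 D210101)) (tt N89249 F456160) (tt N84319 F456161))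
theorem Q106894 : ∀ i, i < 106894 → P i := stepQ 106893 Q106893 (allL N106893 (tt N106013 F456167) (tt N106740 F456168) (tt N106744 F456164) (tt N102225 F456165) (tt N119403 (iv4 F515432)) (tt N71847 (iv5 D210102)) (tt N119397 (iv6 F515412)) (tt N106745 F456166))
theorem Q106895 : ∀ i, i < 106895 → P i := stepQ 106894 Q106894 (allL N106894 (tt N119388 F515374) (tt N119454 (iv0 F515712)) (tt N120786 (iv2 F522703)) (tt N121417 (iv3 F526243)) (tt N71848 (iv4 D210103)) (tt N120785 (iv5 F522698)) (tt N120786 (iv6 F522705)) (tt N121247 (iv7 F525353)))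
theorem Q106896 : ∀ i, i < 106896 → P i := stepQ 106895 Q106895 (allL N106895 (tt N105899 (iv1 F456173)) (tt N73883 F456172) (tt N71849 (iv2 D210104)) (tt N82648 F456169) (tt N91083 F456170) (tt N82647 F456171) (tt N92227 (iv6 F456174)) (tt N113037 (iv7 F483665)))
theorem Q106897 : ∀ i, i < 106897 → P i := stepQ 106896 Q106896 (allL N106896 (tt N120111 (iv1 F519107)) (tt N114962 (iv0 F492784)) (tt N92227 F456175) (tt N71850 F456176) (tt N92215 F456177) (tt N106596 (iv5 F456179)) (tt N71849 (iv6 D210105)) (tt N92232 (iv7 F456178)))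
theorem Q106898 : ∀ i, i < 106898 → P i := stepQ 106897 Q106897 (allL N106897 (tt N76765 (iv1 F456185)) (tt N76758 F456186) (tt N106595 F456180) (tt N92232 F456181) (tt N104125 F456182) (tt N106016 F456183) (tt N104123 F456184) (tt N71850 (iv7 D210106)))
theorem Q106899 : ∀ i, i < 106899 → P i := stepQ 106898 Q106898 (allL N106898 (tt N96600 F456193) (tt N96598 (iv0 F456194)) (tt N96596 F456189) (tt N71853 F456190) (tt N103542 F456191) (tt N90093 F456192) (tt N71851 (iv6 D210107)) (tt N96597 (iv7 F456195)))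
theorem Q106900 : ∀ i, i < 106900 → P i := stepQ 106899 Q106899 (allL N106899 (tt N87668 (iv1 F456202)) (tt N103619 F456203) (tt N104123 F456197) (tt N96597 F456198) (tt N104122 F456199) (tt N90099 F456200) (tt N106595 F456201) (tt N71853 (iv7 D210108)))
theorem Q106901 : ∀ i, i < 106901 → P i := stepQ 106900 Q106900 (allL N106900 (tt N86469 F456208) (tt N114027 (iv0 F488264)) (tt N71856 F456204) (tt N82667 F456205) (tt N91032 F456206) (tt N71855 (iv5 D210109)) (tt N72825 F456207) (tt N113871 (iv7 F487559)))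
theorem Q106902 : ∀ i, i < 106902 → P i := stepQ 106901 Q106901 (allL N106901 (tt N71856 (iv1 D210110)) (tt N113871 (iv0 F487560)) (tt N114027 (iv2 F488259)) (tt N112396 (iv3 F480917)) (tt N85019 F456210) (tt N116437 (iv5 F500102)) (tt N113864 (iv6 F487523)) (tt N86469 F456209))
theorem Q106903 : ∀ i, i < 106903 → P i := stepQ 106902 Q106902 (allL N106902 (tt N118454 (iv1 F510456)) (tt N71857 (iv0 D210111)) (tt N108059 (iv2 F460925)) (tt N73952 F456213) (tt N89166 F456212) (tt N73949 F456211) (tt N73951 (iv6 F456214)) (tt N108057 (iv7 F460912)))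
theorem Q106904 : ∀ i, i < 106904 → P i := stepQ 106903 Q106903 (allL N106903 (tt N71857 (iv1 D210112)) (tt N118454 F510455) (tt N108057 (iv2 F460911)) (tt N117092 (iv3 F503333)) (tt N101179 F456216) (tt N99538 F456215) (tt N108379 (iv6 F462330)) (tt N108059 (iv7 F460929)))
theorem Q106905 : ∀ i, i < 106905 → P i := stepQ 106904 Q106904 (allL N106904 (tt N110504 F471886) (tt N109042 (iv0 F465068)) (tt N113348 (iv2 F485133)) (tt N71859 (iv3 D210113)) (tt N85786 F456217) (tt N90825 F456218) (tt N90085 F456219) (tt N113703 (iv7 F486723)))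
theorem Q106906 : ∀ i, i < 106906 → P i := stepQ 106905 Q106905 (allL N106905 (tt N85913 (iv1 F456226)) (tt N85911 (iv0 F456225)) (tt N106611 F456220) (tt N71868 F456221) (tt N106611 F456222) (tt N89117 F456224) (tt N71864 (iv6 D210114)) (tt N91419 F456223))
theorem Q106907 : ∀ i, i < 106907 → P i := stepQ 106906 Q106906 (allL N106906 (tt N71865 (iv1 D210115)) (tt N117287 F504296) (tt N117286 (iv2 F504289)) (tt N80301 (iv3 F456229)) (tt N73185 F456228) (tt N73239 (iv5 F456230)) (tt N108427 (iv6 F462514)) (tt N72065 F456227))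
theorem Q106908 : ∀ i, i < 106908 → P i := stepQ 106907 Q106907 (allL N106907 (tt N100944 F456235) (tt N107411 F458253) (tt N106612 F456231) (tt N71870 F456232) (tt N106610 F456234) (tt N71865 (iv5 D210116)) (tt N89117 F456233) (tt N119999 (iv7 F518479)))
theorem Q106909 : ∀ i, i < 106909 → P i := stepQ 106908 Q106908 (allL N106908 (tt N110798 (iv1 F473220)) (tt N110797 F473218) (tt N100412 F456236) (tt N71872 (iv3 D210117)) (tt N119088 (iv4 F513727)) (tt N116860 (iv5 F502214)) (tt N108088 (iv6 F461065)) (tt N94218 F456237))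
theorem Q106910 : ∀ i, i < 106910 → P i := stepQ 106909 Q106909 (allL N106909 (tt N110674 (iv1 F472715)) (tt N71875 (iv0 D210118)) (tt N110673 F472712) (tt N76594 F456238) (tt N110135 (iv4 F470123)) (tt N119888 (iv5 F517874)) (tt N110697 F472802) (tt N76793 (iv7 F456239)))
theorem Q106911 : ∀ i, i < 106911 → P i := stepQ 106910 Q106910 (allL N106910 (tt N110673 F472711) (tt N76793 F456242) (tt N71875 (iv2 D210119)) (tt N90739 F456240) (tt N90349 F456243) (tt N121421 D224680) (tt N76834 F456241) (tt N110674 (iv7 F472714)))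
theorem Q106912 : ∀ i, i < 106912 → P i := stepQ 106911 Q106911 (allL N106911 (tt N90939 F456250) (tt N99121 F456248) (tt N121421 (iv2 F526264)) (tt N71876 F456246) (tt N110689 (iv4 F472763)) (tt N71875 (iv5 D210120)) (tt N106607 (iv6 F456249)) (tt N90031 F456247))
theorem Q106913 : ∀ i, i < 106913 → P i := stepQ 106912 Q106912 (allL N106912 (tt N71877 (iv1 D210121)) (tt N90739 F456255) (tt N89256 (iv2 F456253)) (tt N121422 D224681) (tt N75931 F456252) (tt N75874 (iv5 F456254)) (tt N108537 (iv6 F467431)) (tt N90737 F456251))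
theorem Q106914 : ∀ i, i < 106914 → P i := stepQ 106913 Q106913 (allL N106913 (tt N90737 (iv1 F456260)) (tt N89256 F456259) (tt N71877 (iv2 D210122)) (tt N110674 (iv3 F472713)) (tt N103994 F456256) (tt N90026 F456257) (tt N99288 (iv6 F456261)) (tt N90739 F456258))
theorem Q106915 : ∀ i, i < 106915 → P i := stepQ 106914 Q106914 (allL N106914 (tt N78055 F456267) (tt N78052 (iv0 F456268)) (tt N99288 F456262) (tt N71879 F456263) (tt N103996 F456264) (tt N71879 F456265) (tt N71877 (iv6 D210123)) (tt N99287 F456266))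
theorem Q106916 : ∀ i, i < 106916 → P i := stepQ 106915 Q106915 (allL N106915 (tt N71881 (iv1 F456271)) (tt N71880 (iv0 D210124)) (tt N71884 (iv2 F456269)) (tt N110606 (iv3 F472363)) (tt N107842 (iv4 F459960)) (tt N119879 (iv5 F517841)) (tt N110681 (iv6 F472746)) (tt N71882 F456270))
theorem Q106917 : ∀ i, i < 106917 → P i := stepQ 106916 Q106916 (allL N106916 (tt N71884 (iv1 F456280)) (tt N71882 (iv0 F456277)) (tt N71880 (iv2 D210125)) (tt N76791 (iv3 F456276)) (tt N110932 (iv4 F473851)) (tt N99128 F456278) (tt N76823 F456275) (tt N71881 (iv7 F456272)))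
theorem Q106918 : ∀ i, i < 106918 → P i := stepQ 106917 Q106917 (allL N106917 (tt N121422 F526276) (tt N112676 (iv0 F501432)) (tt N116944 (iv2 F502625)) (tt N71880 (iv3 D210126)) (tt N115119 (iv4 F493581)) (tt N121423 D224682) (tt N115118 F493578) (tt N121424 D224683))
theorem Q106919 : ∀ i, i < 106919 → P i := stepQ 106918 Q106918 (allL N106918 (tt N117273 F504225) (tt N118969 F513036) (tt N110932 F473855) (tt N116411 (iv3 F499963)) (tt N71880 (iv4 D210127)) (tt N107508 (iv5 F458576)) (tt N116409 (iv6 F499955)) (tt N111375 F476074))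
theorem Q106920 : ∀ i, i < 106920 → P i := stepQ 106919 Q106919 (allL N106919 (tt N99115 F456273) (tt N99129 F456281) (tt N99128 (iv2 F456279)) (tt N121423 (iv3 F526278)) (tt N120197 (iv4 F519538)) (tt N71880 (iv5 D210128)) (tt N120196 F519535) (tt N99127 (iv7 F456299)))
theorem Q106921 : ∀ i, i < 106921 → P i := stepQ 106920 Q106920 (allL N106920 (tt N71882 (iv1 F456283)) (tt N71884 F456284) (tt N71881 F456282) (tt N121424 (iv3 F526285)) (tt N111375 (iv4 F476072)) (tt N99127 (iv5 F456298)) (tt N111364 (iv6 F476023)) (tt N71880 (iv7 D210129)))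
theorem Q106922 : ∀ i, i < 106922 → P i := stepQ 106921 Q106921 (allL N106921 (tt N76595 (iv1 F456289)) (tt N76594 F456291) (tt N76790 (iv2 F456288)) (tt N71881 (iv3 D210130)) (tt N82651 F456285) (tt N99595 (iv5 F456290)) (tt N99035 F456286) (tt N76791 F456287))
theorem Q106923 : ∀ i, i < 106923 → P i := stepQ 106922 Q106922 (allL N106922 (tt N99129 (iv1 F456296)) (tt N99115 (iv0 F456295)) (tt N99127 F456297) (tt N99595 F456292) (tt N121425 D224684) (tt N71881 (iv5 D210131)) (tt N90937 F456293) (tt N99128 F456294))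
theorem Q106924 : ∀ i, i < 106924 → P i := stepQ 106923 Q106923 (allL N106923 (tt N119874 (iv1 F517821)) (tt N119875 (iv0 F517824)) (tt N71883 F456300) (tt N71885 F456301) (tt N120472 (iv4 F520959)) (tt N71882 (iv5 D210132)) (tt N71883 F456302) (tt N119879 (iv7 F517844)))
theorem Q106925 : ∀ i, i < 106925 → P i := stepQ 106924 Q106924 (allL N106924 (tt N119732 (iv1 F517152)) (tt N119734 (iv0 F517162)) (tt N120472 F520957) (tt N110617 (iv3 F472418)) (tt N71883 (iv4 D210134)) (tt N110616 F472416) (tt N120472 F520960) (tt N110723 (iv7 F472902)))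
theorem Q106926 : ∀ i, i < 106926 → P i := stepQ 106925 Q106925 (allL N106925 (tt N119875 (iv1 F517825)) (tt N119874 (iv0 F517820)) (tt N119879 F517842) (tt N71886 F456303) (tt N110723 (iv4 F472903)) (tt N71884 F456304) (tt N121426 D224685) (tt N71883 (iv7 D210135)))
theorem Q106927 : ∀ i, i < 106927 → P i := stepQ 106926 Q106926 (allL N106926 (tt N106622 (iv1 F456306)) (tt N110672 F472703) (tt N90691 F456305) (tt N119879 F517845) (tt N113217 (iv4 F484533)) (tt N110606 (iv5 F472364)) (tt N121427 D224686) (tt N71885 (iv7 D210136)))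
theorem Q106928 : ∀ i, i < 106928 → P i := stepQ 106927 Q106927 (allL N106927 (tt N121428 D224687) (tt N119890 (iv0 F517885)) (tt N90692 F456307) (tt N121426 (iv3 F526298)) (tt N90688 F456308) (tt N106604 F456309) (tt N71886 (iv6 D210137)) (tt N121427 (iv7 F526307)))
theorem Q106929 : ∀ i, i < 106929 → P i := stepQ 106928 Q106928 (allL N106928 (tt N71917 (iv1 F456314)) (tt N116483 (iv0 F500379)) (tt N71964 F456310) (tt N71969 F456311) (tt N81493 F456312) (tt N117247 (iv5 F504103)) (tt N71887 (iv6 D210138)) (tt N81491 F456313))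
theorem Q106930 : ∀ i, i < 106930 → P i := stepQ 106929 Q106929 (allL N106929 (tt N71888 (iv1 D210139)) (tt N110059 (iv0 F469785)) (tt N72062 (iv2 F456318)) (tt N113745 (iv3 F486924)) (tt N81423 F456317) (tt N81197 F456316) (tt N81422 (iv6 F456319)) (tt N81204 F456315))
theorem Q106931 : ∀ i, i < 106931 → P i := stepQ 106930 Q106930 (allL N106930 (tt N71918 (iv1 F456325)) (tt N71921 F456326) (tt N75357 F456320) (tt N99463 F456321) (tt N90212 F456322) (tt N75282 F456323) (tt N71890 (iv6 D210140)) (tt N88149 F456324))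
theorem Q106932 : ∀ i, i < 106932 → P i := stepQ 106931 Q106931 (allL N106931 (tt N98219 F456329) (tt N105623 F456330) (tt N107700 (iv2 F459288)) (tt N71892 F456327) (tt N116881 (iv4 F502322)) (tt N71891 (iv5 D210141)) (tt N101793 F456328) (tt N116783 (iv7 F501811)))
theorem Q106933 : ∀ i, i < 106933 → P i := stepQ 106932 Q106932 (allL N106932 (tt N71898 (iv1 F456333)) (tt N71892 (iv0 D210142)) (tt N96465 (iv2 F456332)) (tt N85212 (iv3 F456335)) (tt N96601 F456331) (tt N107691 (iv5 F459248)) (tt N117531 F505552) (tt N96466 F456334))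
theorem Q106934 : ∀ i, i < 106934 → P i := stepQ 106933 Q106933 (allL N106933 (tt N78344 F456338) (tt N71904 F456339) (tt N72120 F456336) (tt N102268 F456340) (tt N71895 (iv4 D210143)) (tt N77476 F456337) (tt N120278 (iv6 F519985)) (tt N108228 (iv7 F461580)))
theorem Q106935 : ∀ i, i < 106935 → P i := stepQ 106934 Q106934 (allL N106934 (tt N71922 F456342) (tt N113014 (iv0 F483561)) (tt N72121 F456341) (tt N111000 (iv3 F474171)) (tt N120278 (iv4 F519983)) (tt N110073 (iv5 F469852)) (tt N71895 (iv6 D210144)) (tt N117603 (iv7 F505952)))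
theorem Q106936 : ∀ i, i < 106936 → P i := stepQ 106935 Q106935 (allL N106935 (tt N109092 (iv1 F465300)) (tt N92563 F456345) (tt N109033 (iv2 F465014)) (tt N92769 F456343) (tt N71897 (iv4 D210145)) (tt N109377 (iv5 F466657)) (tt N88815 F456344) (tt N109091 (iv7 F465290)))
theorem Q106937 : ∀ i, i < 106937 → P i := stepQ 106936 Q106936 (allL N106936 (tt N101798 F456349) (tt N80588 F456351) (tt N118150 (iv2 F508872)) (tt N96471 F456346) (tt N96656 F456347) (tt N80571 (iv5 F456350)) (tt N71905 (iv6 D210146)) (tt N94842 F456348))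
theorem Q106938 : ∀ i, i < 106938 → P i := stepQ 106937 Q106937 (allL N106937 (tt N77490 F456357) (tt N96670 F456358) (tt N95719 F456352) (tt N96614 F456353) (tt N71906 (iv4 D210147)) (tt N95718 F456354) (tt N94852 F456355) (tt N96669 F456356))
theorem Q106939 : ∀ i, i < 106939 → P i := stepQ 106938 Q106938 (allL N106938 (tt N112656 F482033) (tt N120278 F519987) (tt N80090 F456359) (tt N108934 (iv3 F464559)) (tt N112950 (iv4 F483345)) (tt N102895 F456360) (tt N71909 (iv6 D210148)) (tt N116977 (iv7 F502790)))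
theorem Q106940 : ∀ i, i < 106940 → P i := stepQ 106939 Q106939 (allL N106939 (tt N106515 F456364) (tt N72958 F456365) (tt N72860 F456361) (tt N104651 F456362) (tt N71910 (iv4 D210149)) (tt N118813 (iv5 F512207)) (tt N90352 F458298) (tt N102669 F456363))
theorem Q106941 : ∀ i, i < 106941 → P i := stepQ 106940 Q106940 (allL N106940 (tt N106499 F456368) (tt N82727 (iv0 F456369)) (tt N102672 F456366) (tt N97935 F456367) (tt N90352 F458297) (tt N110169 (iv5 F470271)) (tt N71910 (iv6 D210150)) (tt N106498 (iv7 F456370)))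
theorem Q106942 : ∀ i, i < 106942 → P i := stepQ 106941 Q106941 (allL N106941 (tt N72526 F456374) (tt N72528 F456375) (tt N106432 F456371) (tt N71912 F456372) (tt N90019 F456376) (tt N71911 (iv5 D210151)) (tt N108394 (iv6 F462395)) (tt N102671 F456373))
theorem Q106943 : ∀ i, i < 106943 → P i := stepQ 106942 Q106942 (allL N106942 (tt N95505 F456378) (tt N106477 (iv0 F466250)) (tt N102670 F456377) (tt N108394 F462397) (tt N118134 (iv4 F508783)) (tt N113121 (iv5 F484065)) (tt N71912 (iv6 D210152)) (tt N106476 (iv7 F456379)))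
theorem Q106944 : ∀ i, i < 106944 → P i := stepQ 106943 Q106943 (allL N106943 (tt N71913 (iv1 D210153)) (tt N93091 F456380) (tt N103589 F456383) (tt N103671 (iv3 F456382)) (tt N104283 F456381) (tt N105624 (iv5 F456384)) (tt N113144 F484177) (tt N113149 (iv7 F484202)))
theorem Q106945 : ∀ i, i < 106945 → P i := stepQ 106944 Q106944 (allL N106944 (tt N105171 F456390) (tt N105168 F456391) (tt N79724 F456385) (tt N104563 F456386) (tt N79553 F456387) (tt N71916 (iv5 D210154)) (tt N79551 F456388) (tt N79574 F456389))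
theorem Q106946 : ∀ i, i < 106946 → P i := stepQ 106945 Q106945 (allL N106945 (tt N102852 F456395) (tt N118305 (iv0 F509613)) (tt N77746 F456392) (tt N71918 (iv3 D210155)) (tt N75685 F456393) (tt N103345 (iv5 F456401)) (tt N75683 F456394) (tt N112668 (iv7 F482096)))
theorem Q106947 : ∀ i, i < 106947 → P i := stepQ 106946 Q106946 (allL N106946 (tt N78251 (iv1 F456399)) (tt N107934 (iv0 F460358)) (tt N82235 F456396) (tt N103345 F456400) (tt N82234 F456397) (tt N71918 (iv5 D210156)) (tt N91547 F456398) (tt N108984 (iv7 F464766)))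
theorem Q106948 : ∀ i, i < 106948 → P i := stepQ 106947 Q106947 (allL N106947 (tt N113376 (iv1 F485247)) (tt N110370 (iv0 F471280)) (tt N110395 (iv2 F471380)) (tt N111200 (iv3 F475197)) (tt N90888 F456404) (tt N71919 (iv5 D210157)) (tt N113371 (iv6 F485227)) (tt N90886 F456403))
theorem Q106949 : ∀ i, i < 106949 → P i := stepQ 106948 Q106948 (allL N106948 (tt N117325 F504471) (tt N101620 (iv0 F456406)) (tt N116484 (iv2 F500382)) (tt N71922 F456405) (tt N116396 (iv4 F499870)) (tt N113015 (iv5 F483563)) (tt N71920 (iv6 D210158)) (tt N116395 (iv7 F499866)))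
theorem Q106950 : ∀ i, i < 106950 → P i := stepQ 106949 Q106949 (allL N106949 (tt N118830 (iv1 F512303)) (tt N90254 F459530) (tt N107750 (iv2 F459548)) (tt N112814 (iv3 F482741)) (tt N71922 F456407) (tt N107746 F459526) (tt N71921 (iv6 D210159)) (tt N107752 (iv7 F459561)))
theorem Q106951 : ∀ i, i < 106951 → P i := stepQ 106950 Q106950 (allL N106950 (tt N72121 (iv1 F456408)) (tt N117603 (iv0 F505953)) (tt N113014 (iv2 F483556)) (tt N116395 (iv3 F499863)) (tt N107752 F459562) (tt N112899 (iv5 F483193)) (tt N113377 (iv6 F485255)) (tt N71922 (iv7 D210161)))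
theorem Q106952 : ∀ i, i < 106952 → P i := stepQ 106951 Q106951 (allL N106951 (tt N121251 (iv1 F525382)) (tt N71951 (iv0 F456412)) (tt N114969 (iv2 F492824)) (tt N71924 (iv3 D210162)) (tt N103677 F456409) (tt N116158 (iv5 F498795)) (tt N88660 F456410) (tt N106496 F456411))
theorem Q106953 : ∀ i, i < 106953 → P i := stepQ 106952 Q106952 (allL N106952 (tt N120718 (iv1 F522330)) (tt N100939 F456416) (tt N100053 F456413) (tt N116158 (iv3 F498793)) (tt N110072 F469848) (tt N71924 (iv5 D210163)) (tt N82266 F456414) (tt N106497 F456415))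
theorem Q106954 : ∀ i, i < 106954 → P i := stepQ 106953 Q106953 (allL N106953 (tt N100939 F456420) (tt N120718 (iv0 F522329)) (tt N106497 F456417) (tt N110164 (iv3 F470245)) (tt N100054 F456419) (tt N71925 (iv5 D210164)) (tt N112898 (iv6 F483191)) (tt N100053 F456418))
theorem Q106955 : ∀ i, i < 106955 → P i := stepQ 106954 Q106954 (allL N106954 (tt N101816 (iv1 F456427)) (tt N71959 (iv0 F456426)) (tt N76770 F456421) (tt N87042 F456422) (tt N76589 F456423) (tt N105639 F456425) (tt N71925 (iv6 D210165)) (tt N76783 F456424))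
theorem Q106956 : ∀ i, i < 106956 → P i := stepQ 106955 Q106955 (allL N106955 (tt N100001 F456433) (tt N99998 F456434) (tt N72158 F456428) (tt N106086 F456429) (tt N73855 F456430) (tt N71927 (iv5 D210166)) (tt N72157 F456431) (tt N106487 F456432))
theorem Q106957 : ∀ i, i < 106957 → P i := stepQ 106956 Q106956 (allL N106956 (tt N90245 (iv1 F456440)) (tt N101652 (iv0 F456439)) (tt N93741 F456435) (tt N96411 F456436) (tt N71932 F456437) (tt N96410 (iv5 F456438)) (tt N71930 (iv6 D210167)) (tt N107886 (iv7 F460125)))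
theorem Q106958 : ∀ i, i < 106958 → P i := stepQ 106957 Q106957 (allL N106957 (tt N120960 (iv1 F523719)) (tt N71933 (iv0 D210168)) (tt N120137 (iv2 F519259)) (tt N73943 (iv3 F456444)) (tt N73946 F456443) (tt N92553 F456442) (tt N92555 (iv6 F456445)) (tt N108048 (iv7 F460875)))
theorem Q106959 : ∀ i, i < 106959 → P i := stepQ 106958 Q106958 (allL N106958 (tt N71933 (iv1 D210169)) (tt N120960 (iv0 F523718)) (tt N108048 (iv2 F460878)) (tt N118483 (iv3 F510615)) (tt N101188 F456446) (tt N111804 (iv5 F478056)) (tt N117091 (iv6 F503330)) (tt N120137 (iv7 F519265)))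
theorem Q106960 : ∀ i, i < 106960 → P i := stepQ 106959 Q106959 (allL N106959 (tt N89719 F456452) (tt N89718 F456451) (tt N89720 F456447) (tt N105740 F456448) (tt N111940 (iv4 F478778)) (tt N71934 (iv5 D210170)) (tt N71936 F456449) (tt N89716 F456450))
theorem Q106961 : ∀ i, i < 106961 → P i := stepQ 106960 Q106960 (allL N106960 (tt N71940 F456455) (tt N94284 F456456) (tt N72125 F456453) (tt N92409 (iv3 F456457)) (tt N71935 (iv4 D210171)) (tt N92408 F456454) (tt N117320 (iv6 F504446)) (tt N108991 (iv7 F464802)))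
theorem Q106962 : ∀ i, i < 106962 → P i := stepQ 106961 Q106961 (allL N106961 (tt N120722 (iv1 F522354)) (tt N110459 F471689) (tt N119851 (iv2 F517693)) (tt N71939 F456458) (tt N93296 F456460) (tt N71938 (iv5 D210172)) (tt N92439 (iv6 F456461)) (tt N92301 F456459))
theorem Q106963 : ∀ i, i < 106963 → P i := stepQ 106962 Q106962 (allL N106962 (tt N93693 F456464) (tt N111603 (iv0 F477122)) (tt N117907 (iv2 F507535)) (tt N71940 F456462) (tt N81813 F456463) (tt N109909 (iv5 F469167)) (tt N71938 (iv6 D210173)) (tt N117906 (iv7 F507531)))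
theorem Q106964 : ∀ i, i < 106964 → P i := stepQ 106963 Q106963 (allL N106963 (tt N96133 F456468) (tt N94260 (iv0 F456469)) (tt N120717 F522321) (tt N71942 (iv3 D210174)) (tt N107509 (iv4 F458582)) (tt N92359 F456465) (tt N93586 F456466) (tt N104646 F456467))
theorem Q106965 : ∀ i, i < 106965 → P i := stepQ 106964 Q106964 (allL N106964 (tt N118846 F512392) (tt N99207 (iv0 F456470)) (tt N119693 (iv2 F516953)) (tt N71943 (iv3 D210175)) (tt N116499 (iv4 F500461)) (tt N118495 (iv5 F510680)) (tt N108049 F460883) (tt N117290 (iv7 F504312)))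
theorem Q106966 : ∀ i, i < 106966 → P i := stepQ 106965 Q106965 (allL N106965 (tt N112800 F482674) (tt N94238 (iv0 F470647)) (tt N117146 (iv2 F503618)) (tt N118495 (iv3 F510682)) (tt N117841 (iv4 F507219)) (tt N71943 (iv5 D210176)) (tt N117840 F507216) (tt N117605 (iv7 F505963)))
theorem Q106967 : ∀ i, i < 106967 → P i := stepQ 106966 Q106966 (allL N106966 (tt N117320 F504449) (tt N102270 (iv0 F462669)) (tt N90475 F456471) (tt N108049 (iv3 F460882)) (tt N90495 F456472) (tt N120160 (iv5 F519350)) (tt N71943 (iv6 D210177)) (tt N121429 D224688))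
theorem Q106968 : ∀ i, i < 106968 → P i := stepQ 106967 Q106967 (allL N106967 (tt N105730 (iv1 F456475)) (tt N120204 F519579) (tt N118595 (iv2 F511070)) (tt N71944 (iv3 D210178)) (tt N80644 F456473) (tt N110652 (iv5 F472601)) (tt N121430 D224689) (tt N80643 F456474))
theorem Q106969 : ∀ i, i < 106969 → P i := stepQ 106968 Q106968 (allL N106968 (tt N94238 F456477) (tt N112800 (iv0 F482673)) (tt N117605 (iv2 F505961)) (tt N110652 (iv3 F472602)) (tt N94983 F456476) (tt N71944 (iv5 D210179)) (tt N121431 D224690) (tt N117146 (iv7 F503620)))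
theorem Q106970 : ∀ i, i < 106970 → P i := stepQ 106969 Q106969 (allL N106969 (tt N94292 F456480) (tt N94287 (iv0 F456479)) (tt N94289 F503367) (tt N121430 (iv3 F526324)) (tt N106238 F456478) (tt N121432 D224691) (tt N71944 (iv6 D210180)) (tt N94290 (iv7 F503366)))
theorem Q106971 : ∀ i, i < 106971 → P i := stepQ 106970 Q106970 (allL N106970 (tt N116538 (iv1 F500674)) (tt N71945 (iv0 D210181)) (tt N116803 (iv2 F501917)) (tt N116653 (iv3 F501155)) (tt N116661 (iv4 F501189)) (tt N116425 (iv5 F500038)) (tt N92317 F456481) (tt N116648 (iv7 F501134)))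
theorem Q106972 : ∀ i, i < 106972 → P i := stepQ 106971 Q106971 (allL N106971 (tt N71945 (iv1 D210182)) (tt N116538 (iv0 F500673)) (tt N116648 (iv2 F501131)) (tt N118574 (iv3 F510973)) (tt N96441 (iv4 F456485)) (tt N116447 (iv5 F500167)) (tt N116646 (iv6 F501129)) (tt N116803 (iv7 F501919)))
theorem Q106973 : ∀ i, i < 106973 → P i := stepQ 106972 Q106972 (allL N106972 (tt N80408 F456484) (tt N91511 F456486) (tt N117607 (iv2 F505971)) (tt N81282 F456482) (tt N71945 (iv4 D210183)) (tt N87010 F456483) (tt N117862 (iv6 F507330)) (tt N81280 (iv7 F456487)))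
theorem Q106974 : ∀ i, i < 106974 → P i := stepQ 106973 Q106973 (allL N106973 (tt N116648 F501136) (tt N116803 (iv0 F501920)) (tt N116538 (iv2 F500668)) (tt N81272 F456488) (tt N81280 F456489) (tt N71946 F456490) (tt N111806 (iv6 F478069)) (tt N71945 (iv7 D210184)))
theorem Q106975 : ∀ i, i < 106975 → P i := stepQ 106974 Q106974 (allL N106974 (tt N106473 F456493) (tt N95508 (iv0 F456494)) (tt N102752 F456491) (tt N106697 F456492) (tt N121031 (iv4 F524116)) (tt N115080 (iv5 F493386)) (tt N71947 (iv6 D210185)) (tt N106472 F503470))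
theorem Q106976 : ∀ i, i < 106976 → P i := stepQ 106975 Q106975 (allL N106975 (tt N103671 (iv1 F456497)) (tt N103588 F456498) (tt N120858 (iv2 F523116)) (tt N85426 F456495) (tt N120796 (iv4 F522768)) (tt N85425 F456496) (tt N121251 (iv6 F525380)) (tt N71948 (iv7 D210186)))
theorem Q106977 : ∀ i, i < 106977 → P i := stepQ 106976 Q106976 (allL N106976 (tt N93869 F456502) (tt N93871 F456504) (tt N96056 F456499) (tt N71950 F456500) (tt N96055 F456503) (tt N71949 (iv5 D210187)) (tt N117270 (iv6 F504209)) (tt N96126 F456501))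
theorem Q106978 : ∀ i, i < 106978 → P i := stepQ 106977 Q106977 (allL N106977 (tt N85040 F470719) (tt N114379 F490158) (tt N114377 F489872) (tt N71951 F456505) (tt N119637 (iv4 F516643)) (tt N113739 F486900) (tt N71949 (iv6 D210188)) (tt N114378 (iv7 F489873)))
theorem Q106979 : ∀ i, i < 106979 → P i := stepQ 106978 Q106978 (allL N106978 (tt N101912 F456507) (tt N106502 (iv0 F456508)) (tt N102751 F456506) (tt N117270 (iv3 F504211)) (tt N118275 (iv4 F509470)) (tt N120131 (iv5 F519226)) (tt N71950 (iv6 D210189)) (tt N106501 (iv7 F456509)))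
theorem Q106980 : ∀ i, i < 106980 → P i := stepQ 106979 Q106979 (allL N106979 (tt N71951 (iv1 D210190)) (tt N121251 F525381) (tt N106496 F485543) (tt N113012 F485544) (tt N103676 (iv4 F485546)) (tt N113011 F485545) (tt N88717 (iv6 F485542)) (tt N114969 (iv7 F492826)))
theorem Q106981 : ∀ i, i < 106981 → P i := stepQ 106980 Q106980 (allL N106980 (tt N105267 F456510) (tt N106401 (iv0 F487219)) (tt N121250 (iv2 F525369)) (tt N113739 (iv3 F486901)) (tt N113963 F487990) (tt N71951 (iv5 D210191)) (tt N120131 (iv6 F519224)) (tt N121265 (iv7 F525462)))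
theorem Q106982 : ∀ i, i < 106982 → P i := stepQ 106981 Q106981 (allL N106981 (tt N106496 F489877) (tt N114969 (iv0 F492827)) (tt N121251 (iv2 F525376)) (tt N114378 F489876) (tt N120642 F521918) (tt N121265 (iv5 F525461)) (tt N120858 (iv6 F523119)) (tt N71951 (iv7 D210192)))
theorem Q106983 : ∀ i, i < 106983 → P i := stepQ 106982 Q106982 (allL N106982 (tt N93682 (iv1 F456514)) (tt N93690 (iv0 F456513)) (tt N93688 F456511) (tt N71954 (iv3 D210193)) (tt N117300 (iv4 F504356)) (tt N118490 (iv5 F510654)) (tt N94333 F456517) (tt N93687 F456512))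
theorem Q106984 : ∀ i, i < 106984 → P i := stepQ 106983 Q106983 (allL N106983 (tt N108824 F464136) (tt N119106 (iv0 F513824)) (tt N116485 (iv2 F500388)) (tt N94333 (iv3 F456516)) (tt N71956 F456515) (tt N120327 (iv5 F520208)) (tt N71954 (iv6 D210194)) (tt N121220 (iv7 F525206)))
theorem Q106985 : ∀ i, i < 106985 → P i := stepQ 106984 Q106984 (allL N106984 (tt N109108 F465377) (tt N113101 F483977) (tt N83931 F456518) (tt N88951 F456519) (tt N120746 (iv4 F522484)) (tt N71956 (iv5 D210195)) (tt N83547 F456520) (tt N121221 (iv7 F525211)))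
theorem Q106986 : ∀ i, i < 106986 → P i := stepQ 106985 Q106985 (allL N106985 (tt N105449 F456524) (tt N73885 F456525) (tt N88598 F456521) (tt N103620 F456522) (tt N71958 (iv4 D210196)) (tt N107048 (iv5 F456770)) (tt N121433 D224692) (tt N105490 F456523))
theorem Q106987 : ∀ i, i < 106987 → P i := stepQ 106986 Q106986 (allL N106986 (tt N116100 (iv1 F498457)) (tt N116102 (iv0 F498468)) (tt N88599 F456526) (tt N71959 F456527) (tt N121433 (iv4 F526344)) (tt N107030 F456708) (tt N71958 (iv6 D210197)) (tt N121433 (iv7 F526345)))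
theorem Q106988 : ∀ i, i < 106988 → P i := stepQ 106987 Q106987 (allL N106987 (tt N76783 (iv1 F456532)) (tt N76770 F456533) (tt N101816 F456528) (tt N121433 (iv3 F526343)) (tt N76757 F456529) (tt N106083 F456530) (tt N103620 F456531) (tt N71959 (iv7 D210198)))
theorem Q106989 : ∀ i, i < 106989 → P i := stepQ 106988 Q106988 (allL N106988 (tt N73859 F456536) (tt N117604 (iv0 F505959)) (tt N117247 (iv2 F504100)) (tt N71966 F456534) (tt N98111 F456535) (tt N71964 (iv5 D210199)) (tt N114255 (iv6 F489250)) (tt N111213 F475254))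
theorem Q106990 : ∀ i, i < 106990 → P i := stepQ 106989 Q106989 (allL N106989 (tt N118996 (iv1 F513186)) (tt N118997 (iv0 F513191)) (tt N120878 (iv2 F523237)) (tt N117979 (iv3 F507894)) (tt N71967 (iv4 D210200)) (tt N104470 F456537) (tt N120696 (iv6 F522203)) (tt N104469 F456538))
theorem Q106991 : ∀ i, i < 106991 → P i := stepQ 106990 Q106990 (allL N106990 (tt N110856 F473461) (tt N115796 (iv0 F496938)) (tt N71972 F456539) (tt N97934 F456540) (tt N104502 F456541) (tt N101838 (iv5 F456543)) (tt N71968 (iv6 D210201)) (tt N88691 F456542))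
theorem Q106992 : ∀ i, i < 106992 → P i := stepQ 106991 Q106991 (allL N106991 (tt N91116 F456549) (tt N99585 F456548) (tt N71975 F456544) (tt N117247 (iv3 F504101)) (tt N75192 F456547) (tt N71969 (iv5 D210202)) (tt N101838 F456545) (tt N88527 F456546))
theorem Q106993 : ∀ i, i < 106993 → P i := stepQ 106992 Q106992 (allL N106992 (tt N119493 F515890) (tt N103527 (iv0 F456553)) (tt N75078 F456550) (tt N71971 (iv3 D210203)) (tt N71989 F456551) (tt N116911 (iv5 F502461)) (tt N105453 F456552) (tt N119494 (iv7 F515895)))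
theorem Q106994 : ∀ i, i < 106994 → P i := stepQ 106993 Q106993 (allL N106993 (tt N99585 (iv1 F456559)) (tt N91116 F456560) (tt N88527 F456554) (tt N71997 F456555) (tt N75193 F456556) (tt N71976 F456557) (tt N84339 F456558) (tt N71975 (iv7 D210204)))
theorem Q106995 : ∀ i, i < 106995 → P i := stepQ 106994 Q106994 (allL N106994 (tt N73383 F456565) (tt N73721 F456566) (tt N78689 F456561) (tt N108329 (iv3 F462088)) (tt N71981 F456562) (tt N105141 F456563) (tt N71980 (iv6 D210205)) (tt N77562 F456564))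
theorem Q106996 : ∀ i, i < 106996 → P i := stepQ 106995 Q106995 (allL N106995 (tt N92231 (iv1 F456572)) (tt N82576 F456573) (tt N82237 F456567) (tt N74975 F456568) (tt N77628 F456569) (tt N71984 F456570) (tt N77626 F456571) (tt N71983 (iv7 D210206)))
theorem Q106997 : ∀ i, i < 106997 → P i := stepQ 106996 Q106996 (allL N106996 (tt N71986 (iv1 D210207)) (tt N105450 F456574) (tt N85041 (iv2 F456576)) (tt N114379 (iv3 F489879)) (tt N113865 (iv4 F487526)) (tt N107645 (iv5 F459055)) (tt N116100 (iv6 F498458)) (tt N105451 F456575))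
theorem Q106998 : ∀ i, i < 106998 → P i := stepQ 106997 Q106997 (allL N106997 (tt N99903 F456580) (tt N99906 F456581) (tt N107024 F456687) (tt N77328 F456577) (tt N73903 F456579) (tt N71987 (iv5 D210208)) (tt N77320 F456578) (tt N107023 F456681))
theorem Q106999 : ∀ i, i < 106999 → P i := stepQ 106998 Q106998 (allL N106998 (tt N99906 F456584) (tt N99903 F456585) (tt N107023 F456680) (tt N97704 F456582) (tt N73904 F456583) (tt N71988 (iv5 D210209)) (tt N109727 (iv6 F468310)) (tt N107024 (iv7 F456684)))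
theorem Q107000 : ∀ i, i < 107000 → P i := stepQ 106999 Q106999 (allL N106999 (tt N105519 (iv1 F456589)) (tt N71989 (iv0 D210210)) (tt N105396 (iv2 F456588)) (tt N105518 F456587) (tt N120823 (iv4 F522926)) (tt N92434 F456586) (tt N111810 (iv6 F478091)) (tt N105520 F456590))
theorem Q107001 : ∀ i, i < 107001 → P i := stepQ 107000 Q107000 (allL N107000 (tt N72006 (iv1 F456595)) (tt N71990 (iv0 D210211)) (tt N89581 (iv2 F456594)) (tt N86361 (iv3 F456597)) (tt N89275 F456593) (tt N72021 F456592) (tt N113303 (iv6 F484927)) (tt N86357 F456596))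
theorem Q107002 : ∀ i, i < 107002 → P i := stepQ 107001 Q107001 (allL N107001 (tt N89269 (iv1 F456602)) (tt N89271 (iv0 F456601)) (tt N91054 F456598) (tt N119950 (iv3 F518203)) (tt N73916 F456599) (tt N113123 (iv5 F484076)) (tt N71990 (iv6 D210212)) (tt N91055 F456600))
theorem Q107003 : ∀ i, i < 107003 → P i := stepQ 107002 Q107002 (allL N107002 (tt N105479 F456605) (tt N113856 (iv0 F487485)) (tt N114938 (iv2 F492643)) (tt N94653 F456603) (tt N98636 F456604) (tt N71991 (iv5 D210213)) (tt N113123 F484078) (tt N117063 (iv7 F503192)))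
theorem Q107004 : ∀ i, i < 107004 → P i := stepQ 107003 Q107003 (allL N107003 (tt N90857 F456609) (tt N116151 (iv0 F498767)) (tt N76375 F456606) (tt N96196 F456607) (tt N108801 (iv4 F464013)) (tt N100762 F456608) (tt N71994 (iv6 D210214)) (tt N107185 (iv7 F457400)))
theorem Q107005 : ∀ i, i < 107005 → P i := stepQ 107004 Q107004 (allL N107004 (tt N76313 F456615) (tt N76315 F456614) (tt N76385 F456610) (tt N86651 F456611) (tt N105017 F456612) (tt N71996 (iv5 D210215)) (tt N76417 F456616) (tt N76384 F456613))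
theorem Q107006 : ∀ i, i < 107006 → P i := stepQ 107005 Q107005 (allL N107005 (tt N116312 (iv1 F499505)) (tt N113863 (iv0 F487518)) (tt N88890 F456617) (tt N72007 F456618) (tt N86588 F456619) (tt N85419 F456620) (tt N72005 (iv6 D210216)) (tt N88885 F456621))
theorem Q107007 : ∀ i, i < 107007 → P i := stepQ 107006 Q107006 (allL N107006 (tt N113188 (iv1 F484391)) (tt N88400 (iv0 F456624)) (tt N72025 F456622) (tt N109043 (iv3 F465070)) (tt N72012 F456623) (tt N113368 (iv5 F485208)) (tt N72011 (iv6 D210217)) (tt N113187 (iv7 F484379)))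
theorem Q107008 : ∀ i, i < 107008 → P i := stepQ 107007 Q107007 (allL N107007 (tt N95858 F456627) (tt N103785 F456628) (tt N97796 F456625) (tt N109149 (iv3 F465577)) (tt N72013 (iv4 D210218)) (tt N107435 (iv5 F458332)) (tt N109426 F466902) (tt N72019 F456626))
theorem Q107009 : ∀ i, i < 107009 → P i := stepQ 107008 Q107008 (allL N107008 (tt N113818 F487270) (tt N97713 (iv0 F456631)) (tt N113821 (iv2 F487290)) (tt N72015 F456629) (tt N109426 (iv4 F466900)) (tt N116675 (iv5 F501258)) (tt N72013 (iv6 D210219)) (tt N72034 (iv7 F456630)))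
theorem Q107010 : ∀ i, i < 107010 → P i := stepQ 107009 Q107009 (allL N107009 (tt N121078 (iv1 F524404)) (tt N73307 (iv0 F456634)) (tt N109090 (iv2 F465283)) (tt N72014 (iv3 D210220)) (tt N109149 (iv4 F465578)) (tt N105522 F456632) (tt N118930 F512806) (tt N72023 F456633))
theorem Q107011 : ∀ i, i < 107011 → P i := stepQ 107010 Q107010 (allL N107010 (tt N86128 F456636) (tt N83005 (iv0 F456637)) (tt N117145 (iv2 F503612)) (tt N72016 (iv3 D210221)) (tt N112349 (iv4 F480693)) (tt N118910 (iv5 F512702)) (tt N112341 F480657) (tt N72029 F456635))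
theorem Q107012 : ∀ i, i < 107012 → P i := stepQ 107011 Q107011 (allL N107011 (tt N113234 (iv1 F484638)) (tt N116185 (iv0 F498902)) (tt N72050 F456638) (tt N85471 F456639) (tt N88872 (iv4 F456641)) (tt N72017 (iv5 D210222)) (tt N120382 (iv6 F520490)) (tt N72054 F456640))
theorem Q107013 : ∀ i, i < 107013 → P i := stepQ 107012 Q107012 (allL N107012 (tt N120971 F523786) (tt N120648 (iv0 F521950)) (tt N72020 F456642) (tt N109142 (iv3 F465538)) (tt N105935 F456643) (tt N112346 (iv5 F480680)) (tt N72018 (iv6 D210223)) (tt N117144 (iv7 F503608)))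
theorem Q107014 : ∀ i, i < 107014 → P i := stepQ 107013 Q107013 (allL N107013 (tt N109148 F465576) (tt N109147 F465568) (tt N97802 F456644) (tt N72019 (iv3 D210224)) (tt N72023 F456645) (tt N118143 (iv5 F508833)) (tt N120833 (iv6 F522982)) (tt N109149 (iv7 F465580)))
theorem Q107015 : ∀ i, i < 107015 → P i := stepQ 107014 Q107014 (allL N107014 (tt N104680 F456648) (tt N120627 (iv0 F521834)) (tt N105935 F456646) (tt N120833 (iv3 F522981)) (tt N72020 F456647) (tt N121434 D224693) (tt N72019 (iv6 D210225)) (tt N120905 (iv7 F523388)))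
theorem Q107016 : ∀ i, i < 107016 → P i := stepQ 107015 Q107015 (allL N107015 (tt N117144 F503610) (tt N72020 (iv0 D210226)) (tt N120971 (iv2 F523781)) (tt N111129 (iv3 F474826)) (tt N117750 (iv4 F506775)) (tt N117143 F503604) (tt N101839 F456649) (tt N120648 (iv7 F521949)))
theorem Q107017 : ∀ i, i < 107017 → P i := stepQ 107016 Q107016 (allL N107016 (tt N72020 (iv1 D210227)) (tt N117144 (iv0 F503609)) (tt N120648 (iv2 F521946)) (tt N103355 (iv3 F456650)) (tt N102583 F456651) (tt N117142 (iv5 F503598)) (tt N102581 F456652) (tt N120971 (iv7 F523784)))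
theorem Q107018 : ∀ i, i < 107018 → P i := stepQ 107017 Q107017 (allL N107017 (tt N119919 F518041) (tt N91128 (iv0 F456654)) (tt N112346 (iv2 F480678)) (tt N72027 F456653) (tt N109978 F469446) (tt N72020 (iv5 D210228)) (tt N119072 (iv6 F513635)) (tt N116097 (iv7 F498445)))
theorem Q107019 : ∀ i, i < 107019 → P i := stepQ 107018 Q107018 (allL N107018 (tt N120648 F521951) (tt N120971 (iv0 F523785)) (tt N117144 (iv2 F503606)) (tt N72028 F456655) (tt N120905 F523390) (tt N116097 (iv5 F498444)) (tt N72034 F456656) (tt N72020 (iv7 D210229)))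
theorem Q107020 : ∀ i, i < 107020 → P i := stepQ 107019 Q107019 (allL N107019 (tt N109090 F465288) (tt N72023 (iv0 D210230)) (tt N73307 (iv2 F456659)) (tt N91796 F456658) (tt N107067 (iv4 F456839)) (tt N73306 F456657) (tt N91795 (iv6 F456660)) (tt N121078 (iv7 F524402)))
theorem Q107021 : ∀ i, i < 107021 → P i := stepQ 107020 Q107020 (allL N107020 (tt N72023 (iv1 D210231)) (tt N109090 (iv0 F465287)) (tt N121078 (iv2 F524399)) (tt N73229 (iv3 F456662)) (tt N107066 (iv4 F456836)) (tt N73228 F456663) (tt N96484 F456664) (tt N73307 F456661))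
theorem Q107022 : ∀ i, i < 107022 → P i := stepQ 107021 Q107021 (allL N107021 (tt N73307 F456669) (tt N121078 (iv0 F524403)) (tt N72023 (iv2 D210232)) (tt N92564 F456665) (tt N97802 F456666) (tt N105523 (iv5 F456668)) (tt N105531 F456667) (tt N109090 (iv7 F465286)))
theorem Q107023 : ∀ i, i < 107023 → P i := stepQ 107022 Q107022 (allL N107022 (tt N105524 F456676) (tt N101194 F456675) (tt N105523 F456672) (tt N72024 F456673) (tt N117897 (iv4 F507490)) (tt N72023 (iv5 D210233)) (tt N118770 (iv6 F511983)) (tt N105522 F456674))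
theorem Q107024 : ∀ i, i < 107024 → P i := stepQ 107023 Q107023 (allL N107023 (tt N72031 (iv1 F456679)) (tt N72024 (iv0 D210234)) (tt N106998 (iv2 F456680)) (tt N105114 F456682) (tt N73860 F456678) (tt N73839 F456677) (tt N110319 (iv6 F471025)) (tt N106997 (iv7 F456681)))
theorem Q107025 : ∀ i, i < 107025 → P i := stepQ 107024 Q107024 (allL N107024 (tt N72024 (iv1 D210235)) (tt N72031 F456683) (tt N106997 (iv2 F456687)) (tt N89079 F456689) (tt N73862 F456686) (tt N73837 F456685) (tt N89078 (iv6 F456688)) (tt N106998 F456684))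
theorem Q107026 : ∀ i, i < 107026 → P i := stepQ 107025 Q107025 (allL N107025 (tt N109320 F466373) (tt N117234 (iv0 F504043)) (tt N119992 (iv2 F518430)) (tt N118770 (iv3 F511982)) (tt N73914 F456690) (tt N110381 F471321) (tt N72024 (iv6 D210236)) (tt N118767 F511973))
theorem Q107027 : ∀ i, i < 107027 → P i := stepQ 107026 Q107026 (allL N107026 (tt N113187 (iv1 F484378)) (tt N72025 (iv0 D210237)) (tt N113188 (iv2 F484385)) (tt N96488 (iv3 F456692)) (tt N83039 F456691) (tt N88401 (iv5 F456694)) (tt N96486 (iv6 F456693)) (tt N88400 F456695))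
theorem Q107028 : ∀ i, i < 107028 → P i := stepQ 107027 Q107027 (allL N107027 (tt N83340 F456698) (tt N90883 F456697) (tt N113368 F485209) (tt N121094 (iv3 F524487)) (tt N83021 F456696) (tt N72025 (iv5 D210238)) (tt N110381 F471320) (tt N111338 (iv7 F475895)))
theorem Q107029 : ∀ i, i < 107029 → P i := stepQ 107028 Q107028 (allL N107028 (tt N88400 (iv1 F456702)) (tt N113188 F484390) (tt N113187 (iv2 F484384)) (tt N105530 F456699) (tt N72028 F456700) (tt N111338 (iv5 F475894)) (tt N72035 F456701) (tt N72025 (iv7 D210239)))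
theorem Q107030 : ∀ i, i < 107030 → P i := stepQ 107029 Q107029 (allL N107029 (tt N83023 (iv1 F456704)) (tt N72027 (iv0 D210240)) (tt N113478 (iv2 F485674)) (tt N105657 F483445) (tt N91119 F456703) (tt N116186 (iv5 F498909)) (tt N116440 (iv6 F500123)) (tt N116096 (iv7 F498440)))
theorem Q107031 : ∀ i, i < 107031 → P i := stepQ 107030 Q107030 (allL N107030 (tt N72027 (iv1 D210241)) (tt N83023 F456705) (tt N116096 F498438) (tt N72076 (iv3 F456707)) (tt N90690 F456706) (tt N106986 (iv5 F456708)) (tt N90690 F456709) (tt N113478 (iv7 F485676)))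
theorem Q107032 : ∀ i, i < 107032 → P i := stepQ 107031 Q107031 (allL N107031 (tt N117145 F503617) (tt N72029 (iv0 D210242)) (tt N83005 (iv2 F456713)) (tt N92138 F456711) (tt N86129 F456710) (tt N107967 (iv5 F460521)) (tt N83003 F456712) (tt N86128 F456714))
theorem Q107033 : ∀ i, i < 107033 → P i := stepQ 107032 Q107032 (allL N107032 (tt N121435 D224694) (tt N121062 (iv0 F524309)) (tt N119210 (iv2 F514377)) (tt N72033 F456715) (tt N90591 F456717) (tt N72029 (iv5 D210243)) (tt N90483 F456716) (tt N118910 (iv7 F512701)))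
theorem Q107034 : ∀ i, i < 107034 → P i := stepQ 107033 Q107033 (allL N107033 (tt N99833 F456722) (tt N72186 F456723) (tt N101804 F456718) (tt N72031 F456719) (tt N75565 F456721) (tt N72030 (iv5 D210244)) (tt N109617 (iv6 F467763)) (tt N101805 F456720))
theorem Q107035 : ∀ i, i < 107035 → P i := stepQ 107034 Q107034 (allL N107034 (tt N89998 (iv1 F456728)) (tt N89123 (iv0 F456727)) (tt N89996 F456724) (tt N109617 F467765) (tt N73913 F456725) (tt N72696 F456726) (tt N72031 (iv6 D210245)) (tt N89997 F456729))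
theorem Q107036 : ∀ i, i < 107036 → P i := stepQ 107035 Q107035 (allL N107035 (tt N113821 (iv1 F487285)) (tt N72034 (iv0 D210246)) (tt N97713 (iv2 F456730)) (tt N72084 F456731) (tt N103748 F456732) (tt N116621 (iv5 F501016)) (tt N114951 F492728) (tt N113818 (iv7 F487272)))
theorem Q107037 : ∀ i, i < 107037 → P i := stepQ 107036 Q107036 (allL N107036 (tt N97713 (iv1 F466910)) (tt N113818 F487271) (tt N72034 (iv2 D210247)) (tt N117145 (iv3 F503613)) (tt N109427 F466909) (tt N121436 D224695) (tt N117144 F503611) (tt N113821 (iv7 F487286)))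
theorem Q107038 : ∀ i, i < 107038 → P i := stepQ 107037 Q107037 (allL N107037 (tt N103713 F456735) (tt N78917 F456734) (tt N109427 (iv2 F466907)) (tt N103702 F456733) (tt N72034 (iv4 D210248)) (tt N102841 (iv5 F456736)) (tt N120905 F523391) (tt N109426 F466904))
theorem Q107039 : ∀ i, i < 107039 → P i := stepQ 107038 Q107038 (allL N107038 (tt N99174 F456739) (tt N99169 (iv0 F456738)) (tt N121436 (iv2 F526360)) (tt N72036 F456737) (tt N112680 (iv4 F482140)) (tt N72034 (iv5 D210249)) (tt N107412 (iv6 F458254)) (tt N116675 F501259))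
theorem Q107040 : ∀ i, i < 107040 → P i := stepQ 107039 Q107039 (allL N107039 (tt N107967 F460524) (tt N107989 F460620) (tt N107966 (iv2 F460514)) (tt N72040 (iv3 D210250)) (tt N96616 F456740) (tt N73884 F456741) (tt N95907 F456742) (tt N107988 (iv7 F460612)))
theorem Q107041 : ∀ i, i < 107041 → P i := stepQ 107040 Q107040 (allL N107040 (tt N116549 (iv1 F500710)) (tt N107957 F460474) (tt N73917 F456743) (tt N108016 (iv3 F460743)) (tt N73893 F456744) (tt N121344 (iv5 F525871)) (tt N72042 (iv6 D210251)) (tt N116548 (iv7 F500707)))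
theorem Q107042 : ∀ i, i < 107042 → P i := stepQ 107041 Q107041 (allL N107041 (tt N88801 F456746) (tt N73828 F456747) (tt N113866 F487535) (tt N118742 (iv3 F511836)) (tt N72043 (iv4 D210252)) (tt N116287 (iv5 F499371)) (tt N112512 (iv6 F481441)) (tt N105414 F456745))
theorem Q107043 : ∀ i, i < 107043 → P i := stepQ 107042 Q107042 (allL N107042 (tt N73828 F456752) (tt N88801 F456753) (tt N105414 F456748) (tt N88873 F456749) (tt N72044 (iv4 D210253)) (tt N88872 F456751) (tt N105410 F456750) (tt N113866 (iv7 F487537)))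
theorem Q107044 : ∀ i, i < 107044 → P i := stepQ 107043 Q107043 (allL N107043 (tt N107645 (iv1 F459056)) (tt N89538 F456754) (tt N120973 (iv2 F523792)) (tt N120718 (iv3 F522325)) (tt N107475 F458449) (tt N72047 (iv5 D210254)) (tt N121344 (iv6 F525873)) (tt N121086 (iv7 F524447)))
theorem Q107045 : ∀ i, i < 107045 → P i := stepQ 107044 Q107044 (allL N107044 (tt N119519 F516030) (tt N72048 (iv0 D210255)) (tt N113787 (iv2 F487107)) (tt N72107 F456922) (tt N120654 (iv4 F521981)) (tt N121302 (iv5 F525639)) (tt N103787 F456923) (tt N121046 (iv7 F524210)))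
theorem Q107046 : ∀ i, i < 107046 → P i := stepQ 107045 Q107045 (allL N107045 (tt N113787 F487111) (tt N121046 (iv0 F524211)) (tt N72048 (iv2 D210256)) (tt N84945 F456757) (tt N120752 (iv4 F522522)) (tt N89816 F456759) (tt N84944 F456758) (tt N119519 (iv7 F516028)))
theorem Q107047 : ∀ i, i < 107047 → P i := stepQ 107046 Q107046 (allL N107046 (tt N103786 F456760) (tt N105220 (iv0 F456761)) (tt N120752 (iv2 F522521)) (tt N113806 F487199) (tt N72048 (iv4 D210257)) (tt N121007 (iv5 F523986)) (tt N116260 (iv6 F499259)) (tt N116272 (iv7 F499299)))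
theorem Q107048 : ∀ i, i < 107048 → P i := stepQ 107047 Q107047 (allL N107047 (tt N89814 F456766) (tt N76698 F456767) (tt N89816 F456762) (tt N72050 F456763) (tt N98425 F456765) (tt N72048 (iv5 D210258)) (tt N98424 (iv6 F456768)) (tt N89815 F456764))
theorem Q107049 : ∀ i, i < 107049 → P i := stepQ 107048 Q107048 (allL N107048 (tt N72050 (iv1 D210259)) (tt N72054 F456769) (tt N116185 (iv2 F498898)) (tt N72103 (iv3 F456771)) (tt N113234 (iv4 F484634)) (tt N106985 F456770) (tt N113233 F484631) (tt N113234 (iv7 F484636)))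
theorem Q107050 : ∀ i, i < 107050 → P i := stepQ 107049 Q107049 (allL N107049 (tt N111280 F475609) (tt N111279 (iv0 F475604)) (tt N120382 F520492) (tt N98424 F456772) (tt N116925 (iv4 F502527)) (tt N121437 D224696) (tt N72050 (iv6 D210260)) (tt N120383 (iv7 F520494)))
theorem Q107051 : ∀ i, i < 107051 → P i := stepQ 107050 Q107050 (allL N107050 (tt N88575 F456775) (tt N88574 (iv0 F456776)) (tt N88577 F456773) (tt N116261 (iv3 F499261)) (tt N118447 (iv4 F510410)) (tt N72051 (iv5 D210261)) (tt N121437 (iv6 F526368)) (tt N88576 F456774))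
theorem Q107052 : ∀ i, i < 107052 → P i := stepQ 107051 Q107051 (allL N107051 (tt N84874 F456782) (tt N85460 F456781) (tt N85470 F456777) (tt N72054 F456778) (tt N85411 F456779) (tt N72052 (iv5 D210262)) (tt N121438 D224697) (tt N85471 F456780))
theorem Q107053 : ∀ i, i < 107053 → P i := stepQ 107052 Q107052 (allL N107052 (tt N105566 F456787) (tt N84086 (iv0 F456788)) (tt N86817 F456783) (tt N72053 (iv3 D210263)) (tt N108788 (iv4 F463938)) (tt N82794 F456784) (tt N105554 F456785) (tt N83828 F456786))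
theorem Q107054 : ∀ i, i < 107054 → P i := stepQ 107053 Q107053 (allL N107053 (tt N111271 (iv1 F475560)) (tt N111270 (iv0 F475554)) (tt N111277 F475597) (tt N121438 (iv3 F526374)) (tt N116926 (iv4 F502533)) (tt N109721 (iv5 F468286)) (tt N72054 (iv6 D210264)) (tt N111278 (iv7 F475599)))
theorem Q107055 : ∀ i, i < 107055 → P i := stepQ 107054 Q107054 (allL N107054 (tt N87832 F456792) (tt N108341 (iv0 F462156)) (tt N105409 F456789) (tt N95900 F456790) (tt N72056 (iv4 D210265)) (tt N121439 D224698) (tt N95899 F456791) (tt N112512 (iv7 F481442)))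
theorem Q107056 : ∀ i, i < 107056 → P i := stepQ 107055 Q107055 (allL N107055 (tt N108341 (iv1 F462157)) (tt N87832 F456794) (tt N112512 (iv2 F481439)) (tt N117724 F506636) (tt N72057 (iv4 D210266)) (tt N110531 (iv5 F472021)) (tt N113866 F487538) (tt N105409 F456793))
theorem Q107057 : ∀ i, i < 107057 → P i := stepQ 107056 Q107056 (allL N107056 (tt N117329 F504486) (tt N117334 F504510) (tt N117332 (iv2 F504500)) (tt N72061 F456795) (tt N119077 (iv4 F513661)) (tt N121440 D224699) (tt N72059 (iv6 D210267)) (tt N117331 F504495))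
theorem Q107058 : ∀ i, i < 107058 → P i := stepQ 107057 Q107057 (allL N107057 (tt N106486 F456799) (tt N106218 F456800) (tt N100965 F456796) (tt N121440 (iv3 F526387)) (tt N108386 (iv4 F462359)) (tt N72061 (iv5 D210268)) (tt N100006 F456797) (tt N106494 F456798))
theorem Q107059 : ∀ i, i < 107059 → P i := stepQ 107058 Q107058 (allL N107058 (tt N73238 F456808) (tt N72245 F456809) (tt N73240 F456803) (tt N90489 F456804) (tt N88629 F456807) (tt N72065 (iv5 D210269)) (tt N101098 F456805) (tt N73239 F456806))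
theorem Q107060 : ∀ i, i < 107060 → P i := stepQ 107059 Q107059 (allL N107059 (tt N72071 (iv1 F456813)) (tt N72070 F456814) (tt N72073 F456810) (tt N116279 (iv3 F499328)) (tt N104383 F456811) (tt N110350 (iv5 F471171)) (tt N83008 F456812) (tt N72067 (iv7 D210270)))
theorem Q107061 : ∀ i, i < 107061 → P i := stepQ 107060 Q107060 (allL N107060 (tt N72098 F456820) (tt N88775 (iv0 F456821)) (tt N84023 F456815) (tt N82810 F456816) (tt N94914 F456817) (tt N82807 F456818) (tt N72068 (iv6 D210271)) (tt N88776 F456819))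
theorem Q107062 : ∀ i, i < 107062 → P i := stepQ 107061 Q107061 (allL N107061 (tt N106597 (iv1 F456825)) (tt N106594 F456826) (tt N76794 F456822) (tt N119885 F517866) (tt N72078 F456823) (tt N76595 F456824) (tt N120386 (iv6 F520513)) (tt N72077 (iv7 D210272)))
theorem Q107063 : ∀ i, i < 107063 → P i := stepQ 107062 Q107062 (allL N107062 (tt N107193 F457417) (tt N121376 F526028) (tt N121113 (iv2 F524573)) (tt N77199 F456827) (tt N120386 (iv4 F520511)) (tt N99401 F456828) (tt N72078 (iv6 D210273)) (tt N110369 (iv7 F471272)))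
theorem Q107064 : ∀ i, i < 107064 → P i := stepQ 107063 Q107063 (allL N107063 (tt N92696 F487283) (tt N92698 F487284) (tt N117943 F507714) (tt N72079 (iv3 D210274)) (tt N117700 (iv4 F506501)) (tt N119455 F515718) (tt N119535 (iv6 F516115)) (tt N117944 (iv7 F507716)))
theorem Q107065 : ∀ i, i < 107065 → P i := stepQ 107064 Q107064 (allL N107064 (tt N121441 D224700) (tt N103798 (iv0 F456831)) (tt N72083 F456829) (tt N119535 (iv3 F516113)) (tt N72080 F456830) (tt N119534 (iv5 F516112)) (tt N72079 (iv6 D210275)) (tt N116277 (iv7 F499317)))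
theorem Q107066 : ∀ i, i < 107066 → P i := stepQ 107065 Q107065 (allL N107065 (tt N116606 (iv1 F500946)) (tt N116610 F500959) (tt N72085 F456832) (tt N110302 F470932) (tt N92433 F456833) (tt N72080 (iv5 D210276)) (tt N116388 (iv6 F499835)) (tt N116278 (iv7 F499323)))
theorem Q107067 : ∀ i, i < 107067 → P i := stepQ 107066 Q107066 (allL N107066 (tt N116277 F499319) (tt N72083 (iv0 D210277)) (tt N121441 F526395) (tt N102789 F456835) (tt N107020 F456836) (tt N105377 F456834) (tt N82968 F456837) (tt N103798 (iv7 F456838)))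
theorem Q107068 : ∀ i, i < 107068 → P i := stepQ 107067 Q107067 (allL N107067 (tt N72083 (iv1 D210278)) (tt N116277 (iv0 F499318)) (tt N103798 (iv2 F456840)) (tt N109028 F464995) (tt N107019 F456839) (tt N118161 (iv5 F508935)) (tt N103796 (iv6 F456841)) (tt N121441 (iv7 F526397)))
theorem Q107069 : ∀ i, i < 107069 → P i := stepQ 107068 Q107068 (allL N107068 (tt N93291 F456844) (tt N120822 (iv0 F522923)) (tt N119534 (iv2 F516106)) (tt N116885 F502349) (tt N73486 F456843) (tt N72083 (iv5 D210279)) (tt N95119 F456842) (tt N107805 (iv7 F459782)))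
theorem Q107070 : ∀ i, i < 107070 → P i := stepQ 107069 Q107069 (allL N107069 (tt N103798 (iv1 F456847)) (tt N121441 F526396) (tt N116277 (iv2 F499316)) (tt N119469 F515783) (tt N72086 F456845) (tt N107805 (iv5 F459783)) (tt N103634 F456846) (tt N72083 (iv7 D210280)))
theorem Q107071 : ∀ i, i < 107071 → P i := stepQ 107070 Q107070 (allL N107070 (tt N109149 (iv1 F465581)) (tt N97802 (iv0 F456848)) (tt N109148 (iv2 F465575)) (tt N120643 (iv3 F521919)) (tt N72084 (iv4 D210281)) (tt N120859 (iv5 F523125)) (tt N120640 F521906) (tt N109147 (iv7 F465571)))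
theorem Q107072 : ∀ i, i < 107072 → P i := stepQ 107071 Q107071 (allL N107071 (tt N95965 F456850) (tt N116280 F499336) (tt N107948 F460428) (tt N116621 (iv3 F501014)) (tt N119843 (iv4 F517655)) (tt N72084 (iv5 D210282)) (tt N116635 (iv6 F501083)) (tt N83175 F456849))
theorem Q107073 : ∀ i, i < 107073 → P i := stepQ 107072 Q107072 (allL N107072 (tt N72085 (iv1 D210284)) (tt N116278 F499325) (tt N116610 (iv2 F500955)) (tt N99174 (iv3 F457023)) (tt N94208 F457025) (tt N120829 (iv5 F522962)) (tt N94207 F457026) (tt N116606 (iv7 F500944)))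
theorem Q107074 : ∀ i, i < 107074 → P i := stepQ 107073 Q107073 (allL N107073 (tt N116610 (iv1 F500960)) (tt N116606 (iv0 F500945)) (tt N116278 (iv2 F499321)) (tt N72090 F456851) (tt N92432 F456852) (tt N72086 F456853) (tt N121442 D224701) (tt N72085 (iv7 D210285)))
theorem Q107075 : ∀ i, i < 107075 → P i := stepQ 107074 Q107074 (allL N107074 (tt N118145 (iv1 F508843)) (tt N72089 (iv0 D210286)) (tt N106759 (iv2 F456855)) (tt N107510 (iv3 F458587)) (tt N106044 F456854) (tt N107509 F458584) (tt N109590 (iv6 F467616)) (tt N106760 (iv7 F456856)))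
theorem Q107076 : ∀ i, i < 107076 → P i := stepQ 107075 Q107075 (allL N107075 (tt N72089 (iv1 D210287)) (tt N118145 F508844) (tt N106760 F456860) (tt N94422 F456861) (tt N106045 F456858) (tt N118589 (iv5 F511033)) (tt N94421 (iv6 F456859)) (tt N106759 F456857))
theorem Q107077 : ∀ i, i < 107077 → P i := stepQ 107076 Q107076 (allL N107076 (tt N106760 (iv1 F456863)) (tt N106759 F456864) (tt N118145 (iv2 F508838)) (tt N117886 F507435) (tt N72090 F456862) (tt N117789 (iv5 F506977)) (tt N121443 D224702) (tt N72089 (iv7 D210288)))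
theorem Q107078 : ∀ i, i < 107078 → P i := stepQ 107077 Q107077 (allL N107077 (tt N99399 F456867) (tt N99403 F456868) (tt N99401 F456865) (tt N121442 (iv3 F526398)) (tt N121443 (iv4 F526404)) (tt N121113 (iv5 F524575)) (tt N72090 (iv6 D210289)) (tt N99400 F456866))
theorem Q107079 : ∀ i, i < 107079 → P i := stepQ 107078 Q107078 (allL N107078 (tt N82455 (iv1 F456876)) (tt N100681 (iv0 F456875)) (tt N87782 F456870) (tt N72094 (iv3 D210290)) (tt N80051 F456874) (tt N103583 F456871) (tt N76115 F456872) (tt N87784 F456873))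
theorem Q107080 : ∀ i, i < 107080 → P i := stepQ 107079 Q107079 (allL N107079 (tt N95650 F456881) (tt N95620 (iv0 F456882)) (tt N95649 F456877) (tt N106724 F456878) (tt N72094 (iv4 D210291)) (tt N118887 (iv5 F512588)) (tt N78746 F456879) (tt N95629 F456880))
theorem Q107081 : ∀ i, i < 107081 → P i := stepQ 107080 Q107080 (allL N107080 (tt N114834 (iv1 F492118)) (tt N84505 F456886) (tt N100674 F456883) (tt N101724 F456884) (tt N121017 (iv4 F524034)) (tt N72095 (iv5 D210292)) (tt N91986 F456885) (tt N115942 (iv7 F497696)))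
theorem Q107082 : ∀ i, i < 107082 → P i := stepQ 107081 Q107081 (allL N107081 (tt N88776 F456890) (tt N84023 (iv0 F456891)) (tt N72098 F456887) (tt N118123 (iv3 F508731)) (tt N72097 (iv4 D210293)) (tt N113052 (iv5 F483743)) (tt N78407 F456888) (tt N88775 F456889))
theorem Q107083 : ∀ i, i < 107083 → P i := stepQ 107082 Q107082 (allL N107082 (tt N89325 F456895) (tt N80564 F456896) (tt N91683 F456892) (tt N121444 D224703) (tt N72099 (iv4 D210294)) (tt N78428 F456894) (tt N107822 F459857) (tt N91682 F456893))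
theorem Q107084 : ∀ i, i < 107084 → P i := stepQ 107083 Q107083 (allL N107083 (tt N86026 F456899) (tt N113508 (iv0 F485830)) (tt N110168 (iv2 F470263)) (tt N72106 F456897) (tt N110073 (iv4 F469851)) (tt N72100 (iv5 D210295)) (tt N82656 F456898) (tt N113974 (iv7 F488031)))
theorem Q107085 : ∀ i, i < 107085 → P i := stepQ 107084 Q107084 (allL N107084 (tt N72111 (iv1 F456901)) (tt N72104 (iv0 D210296)) (tt N90096 (iv2 F456902)) (tt N113756 (iv3 F486978)) (tt N90040 F456900) (tt N118889 (iv5 F512597)) (tt N90039 (iv6 F456903)) (tt N116350 (iv7 F499666)))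
theorem Q107086 : ∀ i, i < 107086 → P i := stepQ 107085 Q107085 (allL N107085 (tt N72104 (iv1 D210297)) (tt N72111 F456904) (tt N116350 (iv2 F499665)) (tt N98340 (iv3 F456907)) (tt N90099 F456906) (tt N121445 D224704) (tt N98628 (iv6 F456908)) (tt N90096 F456905))
theorem Q107087 : ∀ i, i < 107087 → P i := stepQ 107086 Q107086 (allL N107086 (tt N112000 F490053) (tt N121446 D224705) (tt N121447 D224706) (tt N72104 (iv3 D210298)) (tt N121444 (iv4 F526410)) (tt N121448 D224707) (tt N114417 F490052) (tt N121112 (iv7 F524570)))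
theorem Q107088 : ∀ i, i < 107088 → P i := stepQ 107087 Q107087 (allL N107087 (tt N118901 (iv1 F512657)) (tt N104446 F456910) (tt N115941 (iv2 F497690)) (tt N121448 (iv3 F526432)) (tt N84505 F456909) (tt N72104 (iv5 D210299)) (tt N84504 (iv6 F456911)) (tt N120857 (iv7 F523111)))
theorem Q107089 : ∀ i, i < 107089 → P i := stepQ 107088 Q107088 (allL N107088 (tt N120107 (iv1 F519085)) (tt N119578 (iv0 F516354)) (tt N120482 (iv2 F520998)) (tt N114417 (iv3 F490050)) (tt N72105 F456912) (tt N114416 (iv5 F490047)) (tt N72104 (iv6 D210300)) (tt N120484 (iv7 F521011)))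
theorem Q107090 : ∀ i, i < 107090 → P i := stepQ 107089 Q107089 (allL N107089 (tt N121020 (iv1 F524058)) (tt N121021 (iv0 F524064)) (tt N120483 (iv2 F521003)) (tt N82656 F456913) (tt N116158 (iv4 F498794)) (tt N72105 (iv5 D210301)) (tt N72106 F456914) (tt N110172 (iv7 F470275)))
theorem Q107091 : ∀ i, i < 107091 → P i := stepQ 107090 Q107090 (allL N107090 (tt N104624 (iv1 F456921)) (tt N104630 (iv0 F456918)) (tt N104628 F456916) (tt N102558 (iv3 F456919)) (tt N72107 (iv4 D210303)) (tt N103849 F456920) (tt N116216 (iv6 F499066)) (tt N104627 F456917))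
theorem Q107092 : ∀ i, i < 107092 → P i := stepQ 107091 Q107091 (allL N107091 (tt N121253 (iv1 F525386)) (tt N89060 (iv0 F456927)) (tt N72109 F456924) (tt N91733 F456925) (tt N100332 F456926) (tt N72108 (iv5 D210304)) (tt N109845 (iv6 F468875)) (tt N113261 (iv7 F484756)))
theorem Q107093 : ∀ i, i < 107093 → P i := stepQ 107092 Q107092 (allL N107092 (tt N113261 F484758) (tt N72109 (iv0 D210305)) (tt N121253 (iv2 F525392)) (tt N89062 (iv3 F456929)) (tt N98334 F456928) (tt N113791 (iv5 F487126)) (tt N89803 F456931) (tt N89060 (iv7 F456930)))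
theorem Q107094 : ∀ i, i < 107094 → P i := stepQ 107093 Q107093 (allL N107093 (tt N72109 (iv1 D210306)) (tt N113261 (iv0 F484757)) (tt N89060 F456935) (tt N89814 F456936) (tt N98330 (iv4 F456932)) (tt N82963 (iv5 F456934)) (tt N82964 (iv6 F456933)) (tt N121253 (iv7 F525387)))
theorem Q107095 : ∀ i, i < 107095 → P i := stepQ 107094 Q107094 (allL N107094 (tt N104446 F456937) (tt N118901 (iv0 F512656)) (tt N120857 F523114) (tt N119649 (iv3 F516705)) (tt N114834 (iv4 F492115)) (tt N72111 (iv5 D210307)) (tt N120854 F523102) (tt N115941 F497692))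
theorem Q107096 : ∀ i, i < 107096 → P i := stepQ 107095 Q107095 (allL N107095 (tt N104695 F456941) (tt N104694 (iv0 F456942)) (tt N104738 F456938) (tt N72115 (iv3 D210308)) (tt N120926 (iv4 F523517)) (tt N79912 F456939) (tt N95828 F456943) (tt N104756 F456940))
theorem Q107097 : ∀ i, i < 107097 → P i := stepQ 107096 Q107096 (allL N107096 (tt N104777 F456949) (tt N104775 (iv0 F456950)) (tt N82628 F456944) (tt N95828 F456945) (tt N72116 F456946) (tt N95827 F456947) (tt N72115 (iv6 D210309)) (tt N104774 F456948))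
theorem Q107098 : ∀ i, i < 107098 → P i := stepQ 107097 Q107097 (allL N107097 (tt N80384 F456956) (tt N75837 F456957) (tt N75878 F456951) (tt N77430 F456952) (tt N77558 F456953) (tt N75848 F456954) (tt N72117 (iv6 D210310)) (tt N75881 F456955))
theorem Q107099 : ∀ i, i < 107099 → P i := stepQ 107098 Q107098 (allL N107098 (tt N80090 F456961) (tt N116977 (iv0 F502791)) (tt N120278 F519986) (tt N72843 F456958) (tt N72121 F456959) (tt N80554 F456960) (tt N72120 (iv6 D210311)) (tt N112656 (iv7 F482028)))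
theorem Q107100 : ∀ i, i < 107100 → P i := stepQ 107099 Q107099 (allL N107099 (tt N121429 (iv1 F526322)) (tt N90475 (iv0 F456965)) (tt N117320 (iv2 F504445)) (tt N94408 F456962) (tt N72126 F456963) (tt N112803 (iv5 F482686)) (tt N72125 (iv6 D210312)) (tt N102270 F456964))
theorem Q107101 : ∀ i, i < 107101 → P i := stepQ 107100 Q107100 (allL N107100 (tt N119021 F513328) (tt N109224 (iv0 F465848)) (tt N110296 (iv2 F470903)) (tt N72130 F456966) (tt N117871 F507364) (tt N72126 (iv5 D210313)) (tt N89450 F456967) (tt N106800 F456968))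
theorem Q107102 : ∀ i, i < 107102 → P i := stepQ 107101 Q107101 (allL N107101 (tt N75836 F456973) (tt N75802 F456974) (tt N100028 F456969) (tt N89450 F456970) (tt N118794 (iv4 F512112)) (tt N72129 (iv5 D210314)) (tt N72130 F456971) (tt N101000 F456972))
theorem Q107103 : ∀ i, i < 107103 → P i := stepQ 107102 Q107102 (allL N107102 (tt N103131 (iv1 F456981)) (tt N77735 (iv0 F456980)) (tt N77413 F456975) (tt N72132 F456976) (tt N72134 F456977) (tt N77412 F456979) (tt N72131 (iv6 D210315)) (tt N103130 F456978))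
theorem Q107104 : ∀ i, i < 107104 → P i := stepQ 107103 Q107103 (allL N107103 (tt N80377 F456985) (tt N90558 F456986) (tt N89218 (iv2 F456987)) (tt N72133 (iv3 D210316)) (tt N72137 F456982) (tt N78759 F456983) (tt N111705 (iv6 F477587)) (tt N90555 F456984))
theorem Q107105 : ∀ i, i < 107105 → P i := stepQ 107104 Q107104 (allL N107104 (tt N84318 F456993) (tt N106573 F456994) (tt N90508 F456988) (tt N72135 F456989) (tt N84313 F456992) (tt N72134 (iv5 D210317)) (tt N90501 F456990) (tt N106559 F456991))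
theorem Q107106 : ∀ i, i < 107106 → P i := stepQ 107105 Q107105 (allL N107105 (tt N105818 F456999) (tt N105808 F457000) (tt N106509 F456995) (tt N121449 D224708) (tt N72135 (iv4 D210318)) (tt N105810 F456996) (tt N100057 F456997) (tt N106508 F456998))
theorem Q107107 : ∀ i, i < 107107 → P i := stepQ 107106 Q107106 (allL N107106 (tt N109477 (iv1 F467175)) (tt N72184 (iv0 F457003)) (tt N108660 (iv2 F463405)) (tt N72144 (iv3 D210319)) (tt N93372 F457002) (tt N74980 F457001) (tt N119958 (iv6 F518255)) (tt N108661 (iv7 F463413)))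
theorem Q107108 : ∀ i, i < 107108 → P i := stepQ 107107 Q107107 (allL N107107 (tt N89975 F457005) (tt N89077 (iv0 F457006)) (tt N86271 (iv2 F457008)) (tt N72145 (iv3 D210320)) (tt N114544 (iv4 F490702)) (tt N114781 (iv5 F491823)) (tt N85917 F457007) (tt N89974 F457004))
theorem Q107109 : ∀ i, i < 107109 → P i := stepQ 107108 Q107108 (allL N107108 (tt N72178 F457012) (tt N89956 (iv0 F457013)) (tt N89955 F457009) (tt N85917 F457010) (tt N89919 F457011) (tt N114780 (iv5 F491818)) (tt N72145 (iv6 D210321)) (tt N86265 (iv7 F457014)))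
theorem Q107110 : ∀ i, i < 107110 → P i := stepQ 107109 Q107109 (allL N107109 (tt N72148 (iv1 D210322)) (tt N89934 F457015) (tt N119988 F518412) (tt N89978 (iv3 F457016)) (tt N117108 (iv4 F503433)) (tt N113038 (iv5 F483670)) (tt N72472 (iv6 F457953)) (tt N117098 (iv7 F503374)))
theorem Q107111 : ∀ i, i < 107111 → P i := stepQ 107110 Q107110 (allL N107110 (tt N99254 F457022) (tt N99253 (iv0 F457024)) (tt N98832 F457017) (tt N72150 (iv3 D210323)) (tt N98831 F457018) (tt N73311 F457019) (tt N72478 F457020) (tt N99251 F457021))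
theorem Q107112 : ∀ i, i < 107112 → P i := stepQ 107111 Q107111 (allL N107111 (tt N110319 (iv1 F471027)) (tt N76370 (iv0 F457031)) (tt N101801 F457027) (tt N72152 (iv3 D210324)) (tt N104463 F457030) (tt N75048 F457028) (tt N113325 F485033) (tt N105525 F457029))
theorem Q107113 : ∀ i, i < 107113 → P i := stepQ 107112 Q107112 (allL N107112 (tt N89954 F457035) (tt N72180 F457036) (tt N75146 F457032) (tt N113325 (iv3 F485035)) (tt N74301 F457033) (tt N75049 F457034) (tt N72152 (iv6 D210325)) (tt N94274 (iv7 F457039)))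
theorem Q107114 : ∀ i, i < 107114 → P i := stepQ 107113 Q107113 (allL N107113 (tt N72512 F457044) (tt N72504 (iv0 F457042)) (tt N72509 F457040) (tt N72792 F457041) (tt N108706 (iv4 F463633)) (tt N120066 (iv5 F518860)) (tt N72153 (iv6 D210326)) (tt N72510 (iv7 F457043)))
theorem Q107115 : ∀ i, i < 107115 → P i := stepQ 107114 Q107114 (allL N107114 (tt N110318 (iv1 F471019)) (tt N108392 (iv0 F462385)) (tt N106165 F457045) (tt N113722 (iv3 F486834)) (tt N72155 (iv4 D210327)) (tt N105583 F457046) (tt N114037 (iv6 F488311)) (tt N110859 (iv7 F473475)))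
theorem Q107116 : ∀ i, i < 107116 → P i := stepQ 107115 Q107115 (allL N107115 (tt N78013 F457049) (tt N78003 F457051) (tt N78008 F457047) (tt N72156 (iv3 D210328)) (tt N82100 (iv4 F457050)) (tt N109194 (iv5 F465739)) (tt N116710 (iv6 F501429)) (tt N78009 F457048))
theorem Q107117 : ∀ i, i < 107117 → P i := stepQ 107116 Q107116 (allL N107116 (tt N72170 F457053) (tt N110866 F473520) (tt N110860 (iv2 F473480)) (tt N109194 (iv3 F465737)) (tt N98757 F457052) (tt N72156 (iv5 D210329)) (tt N109193 (iv6 F465735)) (tt N109671 (iv7 F468037)))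
theorem Q107118 : ∀ i, i < 107118 → P i := stepQ 107117 Q107117 (allL N107117 (tt N96258 (iv1 F457056)) (tt N78010 (iv0 F457057)) (tt N109192 (iv2 F465725)) (tt N72159 (iv3 D210330)) (tt N94222 F457055) (tt N75741 F457054) (tt N89564 (iv6 F457058)) (tt N109222 (iv7 F465838)))
theorem Q107119 : ∀ i, i < 107119 → P i := stepQ 107118 Q107118 (allL N107118 (tt N96730 F457061) (tt N78231 F457062) (tt N110863 (iv2 F473497)) (tt N78444 F457063) (tt N72159 (iv4 D210331)) (tt N78440 F457060) (tt N121407 (iv6 F526186)) (tt N100748 F457059))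
theorem Q107120 : ∀ i, i < 107120 → P i := stepQ 107119 Q107119 (allL N107119 (tt N90050 F457065) (tt N72173 F457066) (tt N110256 (iv2 F470664)) (tt N89564 F457064) (tt N121407 (iv4 F526184)) (tt N118451 (iv5 F510435)) (tt N72159 (iv6 D210332)) (tt N119087 (iv7 F513725)))
theorem Q107121 : ∀ i, i < 107121 → P i := stepQ 107120 Q107120 (allL N107120 (tt N78231 F457069) (tt N96730 F457070) (tt N100748 F457067) (tt N78223 (iv3 F457071)) (tt N72160 (iv4 D210333)) (tt N100744 F457068) (tt N108887 (iv6 F464370)) (tt N110863 (iv7 F473500)))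
theorem Q107122 : ∀ i, i < 107122 → P i := stepQ 107121 Q107121 (allL N107121 (tt N72559 F457423) (tt N72553 (iv0 F457073)) (tt N72556 F457072) (tt N112166 (iv3 F479851)) (tt N108887 (iv4 F464372)) (tt N88550 (iv5 F457074)) (tt N72160 (iv6 D210334)) (tt N72557 (iv7 F457075)))
theorem Q107123 : ∀ i, i < 107123 → P i := stepQ 107122 Q107122 (allL N107122 (tt N109614 (iv1 F467747)) (tt N109613 F467744) (tt N72169 F457076) (tt N85584 F457077) (tt N107653 (iv4 F459093)) (tt N72165 (iv5 D210335)) (tt N85582 F457078) (tt N109611 (iv7 F467731)))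
theorem Q107124 : ∀ i, i < 107124 → P i := stepQ 107123 Q107123 (allL N107123 (tt N112315 F480509) (tt N92839 (iv0 F457083)) (tt N98101 F457079) (tt N72166 (iv3 D210336)) (tt N98472 F457080) (tt N72247 F457081) (tt N98091 F457082) (tt N108078 (iv7 F461021)))
theorem Q107125 : ∀ i, i < 107125 → P i := stepQ 107124 Q107124 (allL N107124 (tt N72167 (iv1 D210337)) (tt N73715 F457084) (tt N73717 F457089) (tt N73657 (iv3 F457087)) (tt N72275 F457086) (tt N109601 (iv5 F467674)) (tt N73858 (iv6 F457088)) (tt N73704 F457085))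
theorem Q107126 : ∀ i, i < 107126 → P i := stepQ 107125 Q107125 (allL N107125 (tt N77678 F457093) (tt N77677 (iv0 F457094)) (tt N77680 F457090) (tt N116203 (iv3 F498990)) (tt N76287 F457091) (tt N91058 F457095) (tt N72168 (iv6 D210338)) (tt N72594 F457092))
theorem Q107127 : ∀ i, i < 107127 → P i := stepQ 107126 Q107126 (allL N107126 (tt N100160 F457101) (tt N99803 F457102) (tt N74446 F457096) (tt N85823 F457097) (tt N72170 (iv4 D210339)) (tt N105682 F457100) (tt N74444 F457098) (tt N85822 F457099))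
theorem Q107128 : ∀ i, i < 107128 → P i := stepQ 107127 Q107127 (allL N107127 (tt N114031 F488287) (tt N110861 (iv0 F473489)) (tt N72171 (iv2 D210340)) (tt N90050 F457103) (tt N114947 (iv4 F492708)) (tt N116482 (iv5 F500368)) (tt N72597 F457104) (tt N114033 (iv7 F488298)))
theorem Q107129 : ∀ i, i < 107129 → P i := stepQ 107128 Q107128 (allL N107128 (tt N72173 (iv1 D210341)) (tt N90050 F457108) (tt N119087 F513723) (tt N91721 (iv3 F457105)) (tt N121408 (iv4 F526193)) (tt N118450 (iv5 F510430)) (tt N72557 (iv6 F458348)) (tt N110256 (iv7 F470666)))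
theorem Q107130 : ∀ i, i < 107130 → P i := stepQ 107129 Q107129 (allL N107129 (tt N110256 (iv1 F470668)) (tt N119087 F513724) (tt N72173 (iv2 D210342)) (tt N114033 (iv3 F488295)) (tt N106783 F457106) (tt N105629 F457110) (tt N102757 (iv6 F457109)) (tt N90050 F457107))
theorem Q107131 : ∀ i, i < 107131 → P i := stepQ 107130 Q107130 (allL N107130 (tt N105614 (iv1 F457115)) (tt N95978 F457114) (tt N105629 F457111) (tt N72174 F457112) (tt N115106 (iv4 F493506)) (tt N72173 (iv5 D210343)) (tt N105957 (iv6 F457116)) (tt N82857 F457113))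
theorem Q107132 : ∀ i, i < 107132 → P i := stepQ 107131 Q107131 (allL N107131 (tt N95608 F457122) (tt N94939 F457123) (tt N102757 F457117) (tt N72175 F457118) (tt N106055 F457119) (tt N96743 F457120) (tt N72173 (iv6 D210344)) (tt N72601 F457121))
theorem Q107133 : ∀ i, i < 107133 → P i := stepQ 107132 Q107132 (allL N107132 (tt N73541 F457127) (tt N73540 F457128) (tt N73544 F457124) (tt N120018 (iv3 F518583)) (tt N73453 F457125) (tt N72176 (iv5 D210345)) (tt N120017 (iv6 F518577)) (tt N73452 F457126))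
theorem Q107134 : ∀ i, i < 107134 → P i := stepQ 107133 Q107133 (allL N107133 (tt N114523 F490590) (tt N112542 F481592) (tt N73543 F457129) (tt N83123 F457130) (tt N72177 F457131) (tt N73452 F457132) (tt N83122 (iv6 F457133)) (tt N72176 (iv7 D210346)))
theorem Q107135 : ∀ i, i < 107135 → P i := stepQ 107134 Q107134 (allL N107134 (tt N89956 (iv1 F457136)) (tt N72178 (iv0 D210347)) (tt N86265 (iv2 F457135)) (tt N121245 F525343) (tt N89918 F457134) (tt N120010 (iv5 F518543)) (tt N110881 F473588) (tt N89955 F457137))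
theorem Q107136 : ∀ i, i < 107136 → P i := stepQ 107135 Q107135 (allL N107135 (tt N72180 (iv1 D210348)) (tt N89954 F457144) (tt N94274 (iv2 F457143)) (tt N92594 (iv3 F457141)) (tt N74299 F457140) (tt N75147 F457139) (tt N72510 F457142) (tt N75146 F457138))
theorem Q107137 : ∀ i, i < 107137 → P i := stepQ 107136 Q107136 (allL N107136 (tt N75146 (iv1 F457148)) (tt N94274 F457147) (tt N72180 (iv2 D210349)) (tt N89956 F457145) (tt N110677 (iv4 F472723)) (tt N121028 (iv5 F524097)) (tt N116463 (iv6 F500265)) (tt N89954 F457146))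
theorem Q107138 : ∀ i, i < 107138 → P i := stepQ 107137 Q107137 (allL N107137 (tt N117096 (iv1 F503353)) (tt N110529 (iv0 F472012)) (tt N116463 (iv2 F500263)) (tt N72181 F457149) (tt N120738 (iv4 F522438)) (tt N117089 (iv5 F503318)) (tt N72180 (iv6 D210350)) (tt N72618 F457150))
theorem Q107139 : ∀ i, i < 107139 → P i := stepQ 107138 Q107138 (allL N107138 (tt N96244 F457153) (tt N90261 F457154) (tt N101655 F457151) (tt N117089 (iv3 F503317)) (tt N108458 (iv4 F462672)) (tt N72181 (iv5 D210351)) (tt N121147 (iv6 F524779)) (tt N72622 F457152))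
theorem Q107140 : ∀ i, i < 107140 → P i := stepQ 107139 Q107139 (allL N107139 (tt N72184 (iv1 D210352)) (tt N109477 (iv0 F467174)) (tt N108661 (iv2 F463410)) (tt N86271 (iv3 F457157)) (tt N93371 F457156) (tt N74981 F457155) (tt N86269 F457158) (tt N108660 (iv7 F463406)))
theorem Q107141 : ∀ i, i < 107141 → P i := stepQ 107140 Q107140 (allL N107140 (tt N72186 (iv1 D210353)) (tt N99833 F457159) (tt N101805 (iv2 F457163)) (tt N105523 F457165) (tt N92568 F457162) (tt N92564 F457161) (tt N72764 (iv6 F457164)) (tt N101804 F457160))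
theorem Q107142 : ∀ i, i < 107142 → P i := stepQ 107141 Q107141 (allL N107141 (tt N75809 F457171) (tt N72194 F457172) (tt N76798 F457167) (tt N89193 F457168) (tt N76597 F457169) (tt N77602 F457170) (tt N72187 (iv6 D210354)) (tt N76796 F457173))
theorem Q107143 : ∀ i, i < 107143 → P i := stepQ 107142 Q107142 (allL N107142 (tt N100335 F457178) (tt N103099 (iv0 F457179)) (tt N105025 F457174) (tt N72192 F457175) (tt N81348 F457176) (tt N72808 F457177) (tt N72191 (iv6 D210355)) (tt N109470 (iv7 F467135)))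
theorem Q107144 : ∀ i, i < 107144 → P i := stepQ 107143 Q107143 (allL N107143 (tt N72195 (iv1 F457182)) (tt N72193 (iv0 D210356)) (tt N92594 (iv2 F457181)) (tt N89186 (iv3 F457184)) (tt N89188 F457180) (tt N120012 (iv5 F518553)) (tt N72793 (iv6 F457185)) (tt N92595 F457183))
theorem Q107145 : ∀ i, i < 107145 → P i := stepQ 107144 Q107144 (allL N107144 (tt N73878 F457189) (tt N121041 (iv0 F524177)) (tt N92596 F457186) (tt N85507 F457187) (tt N107482 F458475) (tt N72193 (iv5 D210357)) (tt N85505 F457188) (tt N109609 (iv7 F467718)))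
theorem Q107146 : ∀ i, i < 107146 → P i := stepQ 107145 Q107145 (allL N107145 (tt N81680 F457194) (tt N81713 F457195) (tt N80346 F457190) (tt N72196 F457191) (tt N109931 (iv4 F469280)) (tt N75791 F457192) (tt N72194 (iv6 D210358)) (tt N72823 F457193))
theorem Q107147 : ∀ i, i < 107147 → P i := stepQ 107146 Q107146 (allL N107146 (tt N110796 F473216) (tt N119088 (iv0 F513730)) (tt N121079 F524408) (tt N72195 (iv3 D210359)) (tt N109930 (iv4 F469278)) (tt N119020 (iv5 F513324)) (tt N121243 (iv6 F525328)) (tt N90190 F457196))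
theorem Q107148 : ∀ i, i < 107148 → P i := stepQ 107147 Q107147 (allL N107147 (tt N121041 F524178) (tt N73878 F457199) (tt N109609 (iv2 F467715)) (tt N119020 (iv3 F513320)) (tt N95995 F457198) (tt N72195 (iv5 D210360)) (tt N121277 (iv6 F525523)) (tt N92596 F457197))
theorem Q107149 : ∀ i, i < 107149 → P i := stepQ 107148 Q107148 (allL N107148 (tt N78250 F457201) (tt N111531 (iv0 F476774)) (tt N107506 (iv2 F458567)) (tt N117497 (iv3 F505339)) (tt N72197 (iv4 D210361)) (tt N78457 F457200) (tt N110078 F469875) (tt N107504 (iv7 F458557)))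
theorem Q107150 : ∀ i, i < 107150 → P i := stepQ 107149 Q107149 (allL N107149 (tt N110850 (iv1 F473443)) (tt N94508 (iv0 F457204)) (tt N107507 (iv2 F458573)) (tt N90368 F457202) (tt N110078 F469874) (tt N112225 F480135) (tt N72197 (iv6 D210362)) (tt N90373 (iv7 F457203)))
theorem Q107151 : ∀ i, i < 107151 → P i := stepQ 107150 Q107150 (allL N107150 (tt N89470 (iv1 F457207)) (tt N96259 (iv0 F457206)) (tt N116796 (iv2 F501882)) (tt N72198 (iv3 D210363)) (tt N113941 (iv4 F487890)) (tt N85225 F457205) (tt N121450 D224709) (tt N107505 (iv7 F458562)))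
theorem Q107152 : ∀ i, i < 107152 → P i := stepQ 107151 Q107151 (allL N107151 (tt N111531 (iv1 F476775)) (tt N78250 F457209) (tt N107504 (iv2 F458556)) (tt N74219 F457210) (tt N72198 (iv4 D210364)) (tt N81220 F457208) (tt N108845 (iv6 F464232)) (tt N107506 (iv7 F458570)))
theorem Q107153 : ∀ i, i < 107153 → P i := stepQ 107152 Q107152 (allL N107152 (tt N72220 F457212) (tt N72930 (iv0 F457214)) (tt N72934 F457211) (tt N121450 (iv3 F526442)) (tt N108845 (iv4 F464234)) (tt N101146 F457213) (tt N72198 (iv6 D210365)) (tt N72935 (iv7 F457215)))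
theorem Q107154 : ∀ i, i < 107154 → P i := stepQ 107153 Q107153 (allL N107153 (tt N96065 F457220) (tt N98163 (iv0 F457221)) (tt N116760 (iv2 F501678)) (tt N72201 F457216) (tt N90117 F457217) (tt N93790 F457218) (tt N72200 (iv6 D210366)) (tt N93789 F457219))
theorem Q107155 : ∀ i, i < 107155 → P i := stepQ 107154 Q107154 (allL N107154 (tt N107515 (iv1 F458619)) (tt N72201 (iv0 D210367)) (tt N91729 (iv2 F457223)) (tt N105364 F457224) (tt N105296 F457225) (tt N117548 (iv5 F505633)) (tt N105295 F457222) (tt N107514 (iv7 F458610)))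
theorem Q107156 : ∀ i, i < 107156 → P i := stepQ 107155 Q107155 (allL N107155 (tt N107514 (iv1 F458609)) (tt N91729 (iv0 F457522)) (tt N107515 (iv2 F458614)) (tt N93789 F457226) (tt N105553 F457227) (tt N93782 F457228) (tt N93785 F457229) (tt N72201 (iv7 D210368)))
theorem Q107157 : ∀ i, i < 107157 → P i := stepQ 107156 Q107156 (allL N107156 (tt N90349 (iv1 F457234)) (tt N90348 (iv0 F457233)) (tt N90217 F457230) (tt N90328 F457231) (tt N118600 (iv4 F511098)) (tt N111419 (iv5 F476267)) (tt N72202 (iv6 D210369)) (tt N90350 F457232))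
theorem Q107158 : ∀ i, i < 107158 → P i := stepQ 107157 Q107157 (allL N107157 (tt N93581 F457238) (tt N93580 F457239) (tt N73043 F457235) (tt N78032 F457240) (tt N72207 (iv4 D210370)) (tt N110127 (iv5 F470096)) (tt N77118 F457236) (tt N73042 F457237))
theorem Q107159 : ∀ i, i < 107159 → P i := stepQ 107158 Q107158 (allL N107158 (tt N94498 F457242) (tt N118650 F511347) (tt N118425 (iv2 F510280)) (tt N72208 (iv3 D210371)) (tt N81350 F457241) (tt N118664 (iv5 F511414)) (tt N111855 (iv6 F478325)) (tt N110836 (iv7 F473376)))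
theorem Q107160 : ∀ i, i < 107160 → P i := stepQ 107159 Q107159 (allL N107159 (tt N90713 F457248) (tt N78257 F457249) (tt N90770 F457243) (tt N91335 F457244) (tt N72208 (iv4 D210372)) (tt N74175 F457247) (tt N90778 F457245) (tt N90760 F457246))
theorem Q107161 : ∀ i, i < 107161 → P i := stepQ 107160 Q107160 (allL N107160 (tt N95170 (iv1 F457254)) (tt N72212 (iv0 D210373)) (tt N95219 (iv2 F457253)) (tt N91479 F457257) (tt N105546 F457250) (tt N91478 F457252) (tt N95231 F457251) (tt N95206 F457255))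
theorem Q107162 : ∀ i, i < 107162 → P i := stepQ 107161 Q107161 (allL N107161 (tt N96397 F457263) (tt N96714 F457264) (tt N72216 F457258) (tt N96692 F457259) (tt N72213 (iv4 D210374)) (tt N91728 F457260) (tt N96344 F457261) (tt N91727 F457262))
theorem Q107163 : ∀ i, i < 107163 → P i := stepQ 107162 Q107162 (allL N107162 (tt N83261 F457269) (tt N96467 F457270) (tt N80622 F457265) (tt N109786 F468606) (tt N72214 (iv4 D210375)) (tt N91726 F457266) (tt N85244 F457267) (tt N96456 F457268))
theorem Q107164 : ∀ i, i < 107164 → P i := stepQ 107163 Q107163 (allL N107163 (tt N117509 (iv1 F505419)) (tt N115429 (iv0 F495150)) (tt N91976 (iv2 F457273)) (tt N72217 (iv3 D210376)) (tt N108722 F463693) (tt N91972 F457271) (tt N119946 (iv6 F518182)) (tt N72980 F457272))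
theorem Q107165 : ∀ i, i < 107165 → P i := stepQ 107164 Q107164 (allL N107164 (tt N72916 (iv1 F457278)) (tt N72858 F457277) (tt N72219 (iv2 D210377)) (tt N118651 (iv3 F511348)) (tt N110698 (iv4 F472803)) (tt N72486 F457274) (tt N81857 F457275) (tt N72914 F457276))
theorem Q107166 : ∀ i, i < 107166 → P i := stepQ 107165 Q107165 (allL N107165 (tt N72930 (iv1 F457281)) (tt N72220 (iv0 D210378)) (tt N72935 (iv2 F457280)) (tt N90376 F457279) (tt N108964 F464697) (tt N101145 F459627) (tt N90373 (iv6 F457283)) (tt N72934 F457282))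
theorem Q107167 : ∀ i, i < 107167 → P i := stepQ 107166 Q107166 (allL N107166 (tt N72935 (iv1 F457290)) (tt N72934 F457289) (tt N72220 (iv2 D210379)) (tt N77570 F457284) (tt N81144 F457285) (tt N101144 F457286) (tt N82029 F457287) (tt N72930 F457288))
theorem Q107168 : ∀ i, i < 107168 → P i := stepQ 107167 Q107167 (allL N107167 (tt N109002 (iv1 F464855)) (tt N119248 (iv0 F514615)) (tt N99045 F457291) (tt N72228 F457292) (tt N98780 F457295) (tt N72222 (iv5 D210380)) (tt N99592 F457293) (tt N73168 F457294))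
theorem Q107169 : ∀ i, i < 107169 → P i := stepQ 107168 Q107168 (allL N107168 (tt N94972 F457301) (tt N77848 F457302) (tt N94973 F457296) (tt N72223 (iv3 D210381)) (tt N77871 F457297) (tt N93359 F457298) (tt N101604 F457299) (tt N94694 F457300))
theorem Q107170 : ∀ i, i < 107170 → P i := stepQ 107169 Q107169 (allL N107169 (tt N90277 F457308) (tt N93733 F457309) (tt N93734 F457303) (tt N72231 F457304) (tt N78341 F457305) (tt N75353 F457306) (tt N72229 (iv6 D210382)) (tt N93731 F457307))
theorem Q107171 : ∀ i, i < 107171 → P i := stepQ 107170 Q107170 (allL N107170 (tt N73105 (iv1 F457315)) (tt N73104 F457314) (tt N72236 (iv2 D210383)) (tt N90730 F457310) (tt N78263 F457311) (tt N103756 F457312) (tt N108626 (iv6 F463271)) (tt N73101 F457313))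
theorem Q107172 : ∀ i, i < 107172 → P i := stepQ 107171 Q107171 (allL N107171 (tt N90376 F457319) (tt N120029 (iv0 F518651)) (tt N121451 D224710) (tt N72237 (iv3 D210384)) (tt N90777 F457317) (tt N108675 F463495) (tt N119055 F513533) (tt N73113 F457318))
theorem Q107173 : ∀ i, i < 107173 → P i := stepQ 107172 Q107172 (allL N107172 (tt N72705 F457326) (tt N72704 F457325) (tt N72241 F457320) (tt N100316 F457321) (tt N72389 F457324) (tt N72240 (iv5 D210385)) (tt N79096 F457322) (tt N72399 F457323))
theorem Q107174 : ∀ i, i < 107174 → P i := stepQ 107173 Q107173 (allL N107173 (tt N91074 F457331) (tt N105585 (iv0 F457332)) (tt N105982 F457327) (tt N91100 F457328) (tt N72242 (iv4 D210386)) (tt N105640 F457329) (tt N89577 (iv6 F457341)) (tt N105981 F457330))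
theorem Q107175 : ∀ i, i < 107175 → P i := stepQ 107174 Q107174 (allL N107174 (tt N89383 F457338) (tt N73286 (iv0 F457339)) (tt N89385 F457335) (tt N89936 F457336) (tt N89577 F457340) (tt N85911 F457337) (tt N72242 (iv6 D210387)) (tt N89384 (iv7 F457342)))
theorem Q107176 : ∀ i, i < 107176 → P i := stepQ 107175 Q107175 (allL N107175 (tt N72261 F457344) (tt N118455 (iv0 F510463)) (tt N110900 (iv2 F473685)) (tt N110923 (iv3 F473807)) (tt N91061 (iv4 F460543)) (tt N107415 F458264) (tt N72243 (iv6 D210388)) (tt N119091 (iv7 F513743)))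
theorem Q107177 : ∀ i, i < 107177 → P i := stepQ 107176 Q107176 (allL N107176 (tt N97291 (iv1 F457351)) (tt N97299 F457350) (tt N72247 (iv2 D210389)) (tt N91421 F457345) (tt N96220 F457346) (tt N98101 F457347) (tt N73251 F457348) (tt N97296 F457349))
theorem Q107178 : ∀ i, i < 107178 → P i := stepQ 107177 Q107177 (allL N107177 (tt N97297 F457356) (tt N78923 (iv0 F457357)) (tt N98181 F457352) (tt N72250 (iv3 D210390)) (tt N114081 (iv4 F488502)) (tt N78103 F457353) (tt N98179 F457354) (tt N92194 F457355))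
theorem Q107179 : ∀ i, i < 107179 → P i := stepQ 107178 Q107178 (allL N107178 (tt N72251 (iv1 D210391)) (tt N75999 F457358) (tt N76000 F457364) (tt N75995 (iv3 F457362)) (tt N78128 F457361) (tt N76443 F457360) (tt N79100 (iv6 F457363)) (tt N75994 F457359))
theorem Q107180 : ∀ i, i < 107180 → P i := stepQ 107179 Q107179 (allL N107179 (tt N77555 (iv1 F457367)) (tt N72252 (iv0 D210392)) (tt N84733 (iv2 F457366)) (tt N84475 F457370) (tt N75965 F457365) (tt N111340 (iv5 F475904)) (tt N75964 (iv6 F457369)) (tt N99997 F457368))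
theorem Q107181 : ∀ i, i < 107181 → P i := stepQ 107180 Q107180 (allL N107180 (tt N91283 F457374) (tt N91442 F457376) (tt N75433 (iv2 F457377)) (tt N72253 (iv3 D210393)) (tt N75305 F457371) (tt N77160 (iv5 F457375)) (tt N102799 F457372) (tt N75439 F457373))
theorem Q107182 : ∀ i, i < 107182 → P i := stepQ 107181 Q107181 (allL N107181 (tt N117730 (iv1 F506673)) (tt N108683 (iv0 F463535)) (tt N117397 (iv2 F504822)) (tt N77160 F457378) (tt N117133 (iv4 F503557)) (tt N72253 (iv5 D210394)) (tt N83553 (iv6 F457380)) (tt N77393 F457379))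
theorem Q107183 : ∀ i, i < 107183 → P i := stepQ 107182 Q107182 (allL N107182 (tt N97298 F457383) (tt N113293 (iv0 F484888)) (tt N112123 (iv2 F479602)) (tt N72254 (iv3 D210395)) (tt N91653 F457382) (tt N110349 (iv5 F471167)) (tt N111886 (iv6 F478501)) (tt N117241 (iv7 F504073)))
theorem Q107184 : ∀ i, i < 107184 → P i := stepQ 107183 Q107183 (allL N107183 (tt N108683 (iv1 F463536)) (tt N117730 (iv0 F506672)) (tt N77393 F457393) (tt N110349 (iv3 F471166)) (tt N91151 F457395) (tt N72254 (iv5 D210396)) (tt N91150 F457394) (tt N117397 (iv7 F504826)))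
theorem Q107185 : ∀ i, i < 107185 → P i := stepQ 107184 Q107184 (allL N107184 (tt N106591 F457396) (tt N121200 (iv0 F525104)) (tt N113342 (iv2 F485109)) (tt N116194 (iv3 F498946)) (tt N72255 (iv4 D210397)) (tt N109368 (iv5 F466608)) (tt N117212 (iv6 F503928)) (tt N113343 (iv7 F485115)))
theorem Q107186 : ∀ i, i < 107186 → P i := stepQ 107185 Q107185 (allL N107185 (tt N109728 (iv1 F468313)) (tt N101100 (iv0 F457401)) (tt N99946 F457397) (tt N72257 (iv3 D210398)) (tt N74948 F457398) (tt N91159 F457399) (tt N109730 (iv6 F468324)) (tt N107003 F457400))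
theorem Q107187 : ∀ i, i < 107187 → P i := stepQ 107186 Q107186 (allL N107186 (tt N118455 F510464) (tt N72261 (iv0 D210399)) (tt N119091 (iv2 F513748)) (tt N113293 (iv3 F484885)) (tt N90961 F457402) (tt N107414 F458261) (tt N89384 F458262) (tt N110900 (iv7 F473688)))
theorem Q107188 : ∀ i, i < 107188 → P i := stepQ 107187 Q107187 (allL N107187 (tt N119091 (iv1 F513742)) (tt N110900 F473691) (tt N72261 (iv2 D210400)) (tt N119013 (iv3 F513282)) (tt N121213 (iv4 F525161)) (tt N121452 D224711) (tt N89272 F457403) (tt N118455 (iv7 F510462)))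
theorem Q107189 : ∀ i, i < 107189 → P i := stepQ 107188 Q107188 (allL N107188 (tt N113170 F484314) (tt N100265 (iv0 F457406)) (tt N121452 (iv2 F526454)) (tt N72262 F457404) (tt N117374 F504721) (tt N72261 (iv5 D210401)) (tt N102879 F457405) (tt N112565 (iv7 F481670)))
theorem Q107190 : ∀ i, i < 107190 → P i := stepQ 107189 Q107189 (allL N107189 (tt N107333 (iv1 F457991)) (tt N107330 (iv0 F457984)) (tt N119090 (iv2 F513737)) (tt N117375 (iv3 F504725)) (tt N72262 (iv4 D210402)) (tt N118755 (iv5 F511908)) (tt N113407 F485357) (tt N101459 F457407))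
theorem Q107191 : ∀ i, i < 107191 → P i := stepQ 107190 Q107190 (allL N107190 (tt N112551 (iv1 F481624)) (tt N112518 (iv0 F481471)) (tt N112550 F481615) (tt N102879 F457408) (tt N113407 (iv4 F485356)) (tt N100636 F457409) (tt N72262 (iv6 D210403)) (tt N100635 F457410))
theorem Q107192 : ∀ i, i < 107192 → P i := stepQ 107191 Q107191 (allL N107191 (tt N72263 (iv1 D210404)) (tt N119013 F513284) (tt N119014 (iv2 F513285)) (tt N91283 (iv3 F457411)) (tt N120780 (iv4 F522668)) (tt N110357 (iv5 F471212)) (tt N89380 (iv6 F457412)) (tt N110901 (iv7 F473695)))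
theorem Q107193 : ∀ i, i < 107193 → P i := stepQ 107192 Q107192 (allL N107192 (tt N110901 F473696) (tt N119014 F513289) (tt N72263 (iv2 D210405)) (tt N118455 (iv3 F510460)) (tt N118192 (iv4 F509067)) (tt N109502 (iv5 F467288)) (tt N75836 F457413) (tt N119013 (iv7 F513283)))
theorem Q107194 : ∀ i, i < 107194 → P i := stepQ 107193 Q107193 (allL N107193 (tt N106643 F457416) (tt N107062 (iv0 F457417)) (tt N109502 (iv2 F467287)) (tt N72264 F457414) (tt N121453 D224712) (tt N72263 (iv5 D210406)) (tt N101086 F457415) (tt N117167 (iv7 F503718)))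
theorem Q107195 : ∀ i, i < 107195 → P i := stepQ 107194 Q107194 (allL N107194 (tt N107330 (iv1 F457985)) (tt N107333 (iv0 F457990)) (tt N101459 F457418) (tt N121454 D224713) (tt N72264 (iv4 D210407)) (tt N118756 (iv5 F511912)) (tt N100908 F457419) (tt N119090 (iv7 F513739)))
theorem Q107196 : ∀ i, i < 107196 → P i := stepQ 107195 Q107195 (allL N107195 (tt N99953 F457422) (tt N110357 (iv0 F471215)) (tt N113338 F485100) (tt N72265 (iv3 D210408)) (tt N121455 D224714) (tt N99403 F457420) (tt N113203 F484464) (tt N99402 F457421))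
theorem Q107197 : ∀ i, i < 107197 → P i := stepQ 107196 Q107196 (allL N107196 (tt N96210 F457425) (tt N107425 F458291) (tt N107428 (iv2 F458303)) (tt N121456 D224715) (tt N72265 (iv4 D210409)) (tt N107690 (iv5 F459242)) (tt N113422 (iv6 F485432)) (tt N99404 F457424))
theorem Q107198 : ∀ i, i < 107198 → P i := stepQ 107197 Q107197 (allL N107197 (tt N81848 F457427) (tt N81927 (iv0 F457428)) (tt N81926 F457426) (tt N113203 (iv3 F484465)) (tt N113422 F485430) (tt N107449 (iv5 F458375)) (tt N72265 (iv6 D210410)) (tt N81925 (iv7 F457429)))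
theorem Q107199 : ∀ i, i < 107199 → P i := stepQ 107198 Q107198 (allL N107198 (tt N72266 (iv1 D210411)) (tt N107335 F457999) (tt N94990 (iv2 F457433)) (tt N112670 (iv3 F482101)) (tt N95016 F457432) (tt N94696 F457431) (tt N121457 D224716) (tt N95014 F457430))
theorem Q107200 : ∀ i, i < 107200 → P i := stepQ 107199 Q107199 (allL N107199 (tt N121458 D224717) (tt N121459 D224718) (tt N116531 (iv2 F500635)) (tt N72266 (iv3 D210412)) (tt N116194 (iv4 F498947)) (tt N99582 F457434) (tt N119834 (iv6 F517603)) (tt N121460 D224719))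
theorem Q107201 : ∀ i, i < 107201 → P i := stepQ 107200 Q107200 (allL N107200 (tt N94990 (iv1 F457437)) (tt N95014 F457438) (tt N107335 F457998) (tt N121460 (iv3 F526497)) (tt N72267 F457435) (tt N95000 F457436) (tt N81887 (iv6 F457439)) (tt N72266 (iv7 D210413)))
theorem Q107202 : ∀ i, i < 107202 → P i := stepQ 107201 Q107201 (allL N107201 (tt N112326 (iv1 F480573)) (tt N114718 (iv0 F491512)) (tt N114020 (iv2 F488228)) (tt N72269 F457440) (tt N113718 (iv4 F486810)) (tt N72268 (iv5 D210414)) (tt N114650 (iv6 F491203)) (tt N114022 (iv7 F488236)))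
theorem Q107203 : ∀ i, i < 107203 → P i := stepQ 107202 Q107202 (allL N107202 (tt N110699 (iv1 F472813)) (tt N118758 (iv0 F511924)) (tt N119093 (iv2 F513752)) (tt N112664 (iv3 F482072)) (tt N72269 (iv4 D210415)) (tt N112663 F482071) (tt N120229 F519715) (tt N112568 F481686))
theorem Q107204 : ∀ i, i < 107204 → P i := stepQ 107203 Q107203 (allL N107203 (tt N99358 F457444) (tt N96543 F457445) (tt N107906 (iv2 F460211)) (tt N72270 (iv3 D210416)) (tt N80093 F457441) (tt N77494 F457442) (tt N107782 (iv6 F459706)) (tt N96727 F457443))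
theorem Q107205 : ∀ i, i < 107205 → P i := stepQ 107204 Q107204 (allL N107204 (tt N96252 (iv1 F463691)) (tt N121461 D224720) (tt N121462 D224721) (tt N72271 (iv3 D210417)) (tt N72273 F457446) (tt N121463 D224722) (tt N120291 (iv6 F520060)) (tt N94299 F457447))
theorem Q107206 : ∀ i, i < 107206 → P i := stepQ 107205 Q107205 (allL N107205 (tt N117807 (iv1 F507071)) (tt N117809 (iv0 F507080)) (tt N94302 F457448) (tt N121463 (iv3 F526513)) (tt N101292 F457450) (tt N72271 (iv5 D210418)) (tt N120242 (iv6 F519769)) (tt N94300 F457449))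
theorem Q107207 : ∀ i, i < 107207 → P i := stepQ 107206 Q107206 (allL N107206 (tt N102254 (iv1 F457454)) (tt N94408 F457455) (tt N94303 F457451) (tt N120291 (iv3 F520058)) (tt N72272 F457452) (tt N117780 (iv5 F506931)) (tt N72271 (iv6 D210419)) (tt N102269 F457453))
theorem Q107208 : ∀ i, i < 107208 → P i := stepQ 107207 Q107207 (allL N107207 (tt N72273 (iv1 D210420)) (tt N96293 (iv0 F457459)) (tt N96295 (iv2 F457460)) (tt N74872 (iv3 F457457)) (tt N116642 (iv4 F501108)) (tt N121464 D224723) (tt N74873 F457458) (tt N96284 F457456))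
theorem Q107209 : ∀ i, i < 107209 → P i := stepQ 107208 Q107208 (allL N107208 (tt N96284 (iv1 F457466)) (tt N96295 F457465) (tt N72273 (iv2 D210421)) (tt N89929 F457462) (tt N121462 (iv4 F526508)) (tt N120391 (iv5 F520539)) (tt N89927 F457463) (tt N96293 F457464))
theorem Q107210 : ∀ i, i < 107210 → P i := stepQ 107209 Q107209 (allL N107209 (tt N115059 (iv1 F493286)) (tt N96035 (iv0 F462037)) (tt N115061 F493299) (tt N72277 (iv3 D210422)) (tt N108317 (iv4 F462036)) (tt N117230 (iv5 F504021)) (tt N96145 F457467) (tt N109474 (iv7 F467153)))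
theorem Q107211 : ∀ i, i < 107211 → P i := stepQ 107210 Q107210 (allL N107210 (tt N117731 (iv1 F506678)) (tt N116435 (iv0 F500095)) (tt N110390 F471362) (tt N117230 F504024) (tt N117748 (iv4 F506768)) (tt N72277 (iv5 D210423)) (tt N117229 (iv6 F504025)) (tt N117394 (iv7 F504814)))
theorem Q107212 : ∀ i, i < 107212 → P i := stepQ 107211 Q107211 (allL N107211 (tt N119248 (iv1 F514616)) (tt N109002 (iv0 F464854)) (tt N73168 F457468) (tt N72280 F457469) (tt N98779 F457470) (tt N73166 F457472) (tt N72278 (iv6 D210424)) (tt N99045 F457471))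
theorem Q107213 : ∀ i, i < 107213 → P i := stepQ 107212 Q107212 (allL N107212 (tt N96268 F457474) (tt N96273 (iv0 F457475)) (tt N96271 (iv2 F457477)) (tt N72279 (iv3 D210425)) (tt N110925 F473811) (tt N110386 (iv5 F471345)) (tt N90176 F457476) (tt N96270 F457473))
theorem Q107214 : ∀ i, i < 107214 → P i := stepQ 107213 Q107213 (allL N107213 (tt N116435 (iv1 F500096)) (tt N117731 (iv0 F506677)) (tt N117394 (iv2 F504808)) (tt N110386 F471350) (tt N117747 (iv4 F506766)) (tt N72279 (iv5 D210426)) (tt N116114 (iv6 F498540)) (tt N110390 (iv7 F471361)))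
theorem Q107215 : ∀ i, i < 107215 → P i := stepQ 107214 Q107214 (allL N107214 (tt N107938 (iv1 F460375)) (tt N107939 (iv0 F460381)) (tt N109472 (iv2 F467142)) (tt N90176 F457478) (tt N72280 F457479) (tt N90175 F457480) (tt N72279 (iv6 D210427)) (tt N108369 (iv7 F462292)))
theorem Q107216 : ∀ i, i < 107216 → P i := stepQ 107215 Q107215 (allL N107215 (tt N121465 D224724) (tt N121466 D224725) (tt N118587 (iv2 F511023)) (tt N94120 F457481) (tt N121467 D224726) (tt N72283 (iv5 D210428)) (tt N118514 (iv6 F510766)) (tt N110898 (iv7 F473677)))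
theorem Q107217 : ∀ i, i < 107217 → P i := stepQ 107216 Q107216 (allL N107216 (tt N73614 (iv1 F457485)) (tt N72286 (iv0 D210429)) (tt N73615 (iv2 F457484)) (tt N111932 (iv3 F478732)) (tt N117093 (iv4 F503339)) (tt N82190 F457482) (tt N73418 F457483) (tt N72404 F457486))
theorem Q107218 : ∀ i, i < 107218 → P i := stepQ 107217 Q107217 (allL N107217 (tt N115029 (iv1 F493117)) (tt N108129 (iv0 F461232)) (tt N108091 (iv2 F461070)) (tt N72289 F457487) (tt N81739 F457488) (tt N93264 F457489) (tt N72288 (iv6 D210430)) (tt N73478 F457490))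
theorem Q107219 : ∀ i, i < 107219 → P i := stepQ 107218 Q107218 (allL N107218 (tt N101221 F457495) (tt N101269 F457496) (tt N101266 F457491) (tt N105630 F457492) (tt N72291 (iv4 D210431)) (tt N83105 F457493) (tt N108318 (iv6 F462038)) (tt N101265 F457494))
theorem Q107220 : ∀ i, i < 107220 → P i := stepQ 107219 Q107219 (allL N107219 (tt N80589 F457501) (tt N118801 F512149) (tt N118151 (iv2 F508877)) (tt N103591 F457497) (tt N72295 (iv4 D210432)) (tt N101407 F457498) (tt N105361 F457499) (tt N101406 F457500))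
theorem Q107221 : ∀ i, i < 107221 → P i := stepQ 107220 Q107220 (allL N107220 (tt N104926 F457507) (tt N104925 F457508) (tt N84804 F457502) (tt N85126 F457503) (tt N72297 (iv4 D210433)) (tt N86603 F457506) (tt N75990 F457504) (tt N103056 F457505))
theorem Q107222 : ∀ i, i < 107222 → P i := stepQ 107221 Q107221 (allL N107221 (tt N99474 (iv1 F457513)) (tt N72298 (iv0 D210434)) (tt N98312 (iv2 F457514)) (tt N76216 F457510) (tt N105459 F457509) (tt N76215 F457511) (tt N72964 F457512) (tt N102318 (iv7 F457515)))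
theorem Q107223 : ∀ i, i < 107223 → P i := stepQ 107222 Q107222 (allL N107222 (tt N72298 (iv1 D210435)) (tt N99474 F457516) (tt N102318 F457520) (tt N98298 (iv3 F457518)) (tt N105460 (iv4 F457521)) (tt N103176 (iv5 F457519)) (tt N108169 (iv6 F461378)) (tt N98312 F457517))
theorem Q107224 : ∀ i, i < 107224 → P i := stepQ 107223 Q107223 (allL N107223 (tt N95721 F457525) (tt N96399 (iv0 F457526)) (tt N96678 (iv2 F457528)) (tt N72302 (iv3 D210436)) (tt N107316 (iv4 F457938)) (tt N93262 F457523) (tt N72302 F457527) (tt N96677 F457524))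
theorem Q107225 : ∀ i, i < 107225 → P i := stepQ 107224 Q107224 (allL N107224 (tt N114573 (iv1 F490828)) (tt N96390 (iv0 F457532)) (tt N115758 (iv2 F496700)) (tt N72303 (iv3 D210437)) (tt N90102 F457529) (tt N74196 F457530) (tt N120952 (iv6 F523664)) (tt N96695 F457531))
theorem Q107226 : ∀ i, i < 107226 → P i := stepQ 107225 Q107225 (allL N107225 (tt N86050 (iv1 F457538)) (tt N86056 F457537) (tt N72304 (iv2 D210438)) (tt N75523 F457533) (tt N98164 F457534) (tt N98170 F457535) (tt N112211 (iv6 F480075)) (tt N77525 F457536))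
theorem Q107227 : ∀ i, i < 107227 → P i := stepQ 107226 Q107226 (allL N107226 (tt N118160 F508933) (tt N116702 (iv0 F501388)) (tt N112211 (iv2 F480073)) (tt N72306 F457539) (tt N112210 F480072) (tt N101007 F457540) (tt N72304 (iv6 D210439)) (tt N101147 F457541))
theorem Q107228 : ∀ i, i < 107228 → P i := stepQ 107227 Q107227 (allL N107227 (tt N119159 F514111) (tt N103082 F457545) (tt N77527 F457542) (tt N72308 F457543) (tt N121190 (iv4 F525042)) (tt N72307 (iv5 D210440)) (tt N119172 (iv6 F514182)) (tt N77523 F457544))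
theorem Q107229 : ∀ i, i < 107229 → P i := stepQ 107228 Q107228 (allL N107228 (tt N104410 F457548) (tt N93154 F457549) (tt N101822 F457546) (tt N95610 F457550) (tt N72312 (iv4 D210441)) (tt N91942 F457547) (tt N120792 (iv6 F522743)) (tt N110909 (iv7 F473739)))
theorem Q107230 : ∀ i, i < 107230 → P i := stepQ 107229 Q107229 (allL N107229 (tt N99700 F457556) (tt N87313 F457555) (tt N72327 F457551) (tt N84540 F457552) (tt N84613 F457553) (tt N72316 (iv5 D210442)) (tt N114204 (iv6 F488973)) (tt N84535 F457554))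
theorem Q107231 : ∀ i, i < 107231 → P i := stepQ 107230 Q107230 (allL N107230 (tt N82481 F457560) (tt N103977 F457561) (tt N96916 F457557) (tt N108245 (iv3 F461664)) (tt N72317 (iv4 D210443)) (tt N96915 F457558) (tt N74093 F457559) (tt N110912 (iv7 F473755)))
theorem Q107232 : ∀ i, i < 107232 → P i := stepQ 107231 Q107231 (allL N107231 (tt N97354 F457566) (tt N97353 F457567) (tt N74019 F457562) (tt N90523 F457563) (tt N118845 (iv4 F512384)) (tt N72318 (iv5 D210444)) (tt N74018 F457564) (tt N73664 F457565))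
theorem Q107233 : ∀ i, i < 107233 → P i := stepQ 107232 Q107232 (allL N107232 (tt N97316 F457571) (tt N87866 (iv0 F457572)) (tt N110913 (iv2 F473756)) (tt N97157 F457568) (tt N117923 (iv4 F507618)) (tt N73668 F457569) (tt N72320 (iv6 D210445)) (tt N97330 F457570))
theorem Q107234 : ∀ i, i < 107234 → P i := stepQ 107233 Q107233 (allL N107233 (tt N118953 (iv1 F512950)) (tt N112816 (iv0 F482755)) (tt N110915 (iv2 F473765)) (tt N116078 (iv3 F498348)) (tt N72321 (iv4 D210446)) (tt N109804 (iv5 F468699)) (tt N97243 F457573) (tt N110914 (iv7 F473763)))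
theorem Q107235 : ∀ i, i < 107235 → P i := stepQ 107234 Q107234 (allL N107234 (tt N87565 F457579) (tt N87562 (iv0 F457578)) (tt N81610 F457574) (tt N72322 (iv3 D210447)) (tt N112875 (iv4 F483088)) (tt N78257 F457575) (tt N81608 F457576) (tt N87564 F457577))
theorem Q107236 : ∀ i, i < 107236 → P i := stepQ 107235 Q107235 (allL N107235 (tt N112816 (iv1 F482756)) (tt N118953 (iv0 F512949)) (tt N110914 (iv2 F473761)) (tt N95421 F457581) (tt N72322 (iv4 D210448)) (tt N95417 F457580) (tt N115379 (iv6 F494905)) (tt N110915 (iv7 F473766)))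
theorem Q107237 : ∀ i, i < 107237 → P i := stepQ 107236 Q107236 (allL N107236 (tt N112457 F481178) (tt N114203 F488968) (tt N114204 (iv2 F488969)) (tt N94436 F457582) (tt N84614 F457584) (tt N72324 (iv5 D210449)) (tt N72327 F457583) (tt N114202 (iv7 F488966)))
theorem Q107238 : ∀ i, i < 107238 → P i := stepQ 107237 Q107237 (allL N107237 (tt N98380 (iv1 F457591)) (tt N94453 F457590) (tt N78156 F457585) (tt N78836 F457586) (tt N72325 (iv4 D210450)) (tt N91530 F457589) (tt N90649 F457587) (tt N100091 F457588))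
theorem Q107239 : ∀ i, i < 107239 → P i := stepQ 107238 Q107238 (allL N107238 (tt N91373 F457592) (tt N91363 F457593) (tt N91370 F466465) (tt N72326 (iv3 D210451)) (tt N109340 (iv4 F466459)) (tt N121468 D224727) (tt N117647 (iv6 F506203)) (tt N91371 (iv7 F466466)))
theorem Q107240 : ∀ i, i < 107240 → P i := stepQ 107239 Q107239 (allL N107239 (tt N84515 F457598) (tt N87354 F457599) (tt N87377 F457594) (tt N121468 (iv3 F526541)) (tt N88001 F457597) (tt N72326 (iv5 D210452)) (tt N95660 F457595) (tt N87378 F457596))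
theorem Q107241 : ∀ i, i < 107241 → P i := stepQ 107240 Q107240 (allL N107240 (tt N72327 (iv1 D210453)) (tt N84535 F457600) (tt N87313 (iv2 F457604)) (tt N121469 D224728) (tt N87310 F457603) (tt N99701 F457602) (tt N118884 (iv6 F512578)) (tt N99700 F457601))

end Cfsg.Agent.Helper17.ONTC
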