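import Cfsg.Agent.Helper17.ONTC.Fin23

set_option autoImplicit false
set_option linter.all false
set_option maxRecDepth 100000

noncomputable section

namespace Cfsg.Agent.Helper17.ONTC

theorem Q107242 : ∀ i, i < 107242 → P i := stepQ 107241 Q107241 (allL N107241 (tt N89923 F457607) (tt N91656 F457608) (tt N91654 F457605) (tt N72329 (iv3 D210454)) (tt N117241 (iv4 F504069)) (tt N111885 (iv5 F478494)) (tt N110032 (iv6 F469648)) (tt N91653 F457606))
theorem Q107243 : ∀ i, i < 107243 → P i := stepQ 107242 Q107242 (allL N107242 (tt N115838 (iv1 F497163)) (tt N115890 (iv0 F497437)) (tt N87376 F457609) (tt N111885 (iv3 F478492)) (tt N84513 F457612) (tt N72329 (iv5 D210455)) (tt N95646 F457610) (tt N87373 F457611))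
theorem Q107244 : ∀ i, i < 107244 → P i := stepQ 107243 Q107243 (allL N107243 (tt N115890 (iv1 F497438)) (tt N115838 (iv0 F497162)) (tt N87373 F457613) (tt N115886 (iv3 F497413)) (tt N84514 F457614) (tt N72330 (iv5 D210456)) (tt N95622 F457615) (tt N87376 F457616))
theorem Q107245 : ∀ i, i < 107245 → P i := stepQ 107244 Q107244 (allL N107244 (tt N111369 F476041) (tt N97497 (iv0 F457621)) (tt N103434 F457617) (tt N111373 (iv3 F476059)) (tt N103432 F457618) (tt N73733 F457619) (tt N72335 (iv6 D210457)) (tt N111370 (iv7 F476045)))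
theorem Q107246 : ∀ i, i < 107246 → P i := stepQ 107245 Q107245 (allL N107245 (tt N95920 (iv1 F457628)) (tt N95918 F457627) (tt N72341 (iv2 D210458)) (tt N95292 F457623) (tt N80016 F457624) (tt N95291 F457625) (tt N106050 F457626) (tt N109904 (iv7 F469148)))
theorem Q107247 : ∀ i, i < 107247 → P i := stepQ 107246 Q107246 (allL N107246 (tt N72346 (iv1 D210459)) (tt N72372 F457629) (tt N72370 (iv2 F457633)) (tt N90296 F457634) (tt N74971 F457631) (tt N115094 (iv5 F493456)) (tt N99459 (iv6 F457632)) (tt N72369 F457630))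
theorem Q107248 : ∀ i, i < 107248 → P i := stepQ 107247 Q107247 (allL N107247 (tt N98499 F457638) (tt N98498 F457639) (tt N72371 F457635) (tt N107635 (iv3 F459032)) (tt N74967 F457636) (tt N72346 (iv5 D210460)) (tt N107634 (iv6 F459030)) (tt N98486 F457637))
theorem Q107249 : ∀ i, i < 107249 → P i := stepQ 107248 Q107248 (allL N107248 (tt N116485 F500390) (tt N121220 (iv0 F525207)) (tt N119106 (iv2 F513821)) (tt N72352 F457640) (tt N72363 F457641) (tt N121470 D224729) (tt N72350 (iv6 D210461)) (tt N108824 (iv7 F464135)))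
theorem Q107250 : ∀ i, i < 107250 → P i := stepQ 107249 Q107249 (allL N107249 (tt N101529 F457644) (tt N119180 F514226) (tt N94357 F457642) (tt N97337 F457643) (tt N121136 (iv4 F524712)) (tt N120376 (iv5 F520456)) (tt N72351 (iv6 D210462)) (tt N121471 D224730))
theorem Q107251 : ∀ i, i < 107251 → P i := stepQ 107250 Q107250 (allL N107250 (tt N72352 (iv1 D210463)) (tt N94360 F457645) (tt N78160 (iv2 F457649)) (tt N109416 (iv3 F466857)) (tt N74736 F457647) (tt N119308 (iv5 F514960)) (tt N74735 (iv6 F457648)) (tt N94358 F457646))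
theorem Q107252 : ∀ i, i < 107252 → P i := stepQ 107251 Q107251 (allL N107251 (tt N72730 F457651) (tt N121472 D224731) (tt N94359 F457650) (tt N121470 (iv3 F526554)) (tt N120375 (iv4 F520450)) (tt N72352 (iv5 D210464)) (tt N120376 (iv6 F520454)) (tt N108825 (iv7 F464138)))
theorem Q107253 : ∀ i, i < 107253 → P i := stepQ 107252 Q107252 (allL N107252 (tt N111932 F478736) (tt N112723 (iv0 F482368)) (tt N110118 (iv2 F470074)) (tt N74700 F457652) (tt N92521 F457653) (tt N74699 F457655) (tt N72354 (iv6 D210465)) (tt N74710 F457654))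
theorem Q107254 : ∀ i, i < 107254 → P i := stepQ 107253 Q107253 (allL N107253 (tt N116288 (iv1 F499380)) (tt N88884 (iv0 F457657)) (tt N112872 (iv2 F483072)) (tt N112829 F482832) (tt N113312 (iv4 F484966)) (tt N73828 F457656) (tt N72359 (iv6 D210466)) (tt N115791 (iv7 F496902)))
theorem Q107255 : ∀ i, i < 107255 → P i := stepQ 107254 Q107254 (allL N107254 (tt N104975 F457662) (tt N104974 (iv0 F457664)) (tt N104976 F457658) (tt N101071 F457659) (tt N106392 F457663) (tt N72360 (iv5 D210467)) (tt N101394 F457660) (tt N100663 F457661))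
theorem Q107256 : ∀ i, i < 107256 → P i := stepQ 107255 Q107255 (allL N107255 (tt N99368 F457670) (tt N106185 F457669) (tt N72362 F457667) (tt N106182 F457668) (tt N121139 (iv4 F524727)) (tt N72361 (iv5 D210468)) (tt N105008 (iv6 F457671)) (tt N120423 (iv7 F520700)))
theorem Q107257 : ∀ i, i < 107257 → P i := stepQ 107256 Q107256 (allL N107256 (tt N118511 F510760) (tt N117097 F503369) (tt N72363 F457672) (tt N119105 (iv3 F513815)) (tt N119106 (iv4 F513823)) (tt N121152 (iv5 F524808)) (tt N72361 (iv6 D210469)) (tt N121275 (iv7 F525514)))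
theorem Q107258 : ∀ i, i < 107258 → P i := stepQ 107257 Q107257 (allL N107257 (tt N98325 F457675) (tt N121219 (iv0 F525203)) (tt N121139 (iv2 F524726)) (tt N120478 (iv3 F520983)) (tt N72362 (iv4 D210470)) (tt N97345 F457674) (tt N105826 F457673) (tt N121283 (iv7 F525548)))
theorem Q107259 : ∀ i, i < 107259 → P i := stepQ 107258 Q107258 (allL N107258 (tt N106185 (iv1 F457678)) (tt N99368 F457679) (tt N120423 (iv2 F520704)) (tt N72368 F457676) (tt N121283 (iv4 F525550)) (tt N72364 F457677) (tt N114404 F489985) (tt N72362 (iv7 D210471)))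
theorem Q107260 : ∀ i, i < 107260 → P i := stepQ 107259 Q107259 (allL N107259 (tt N72363 (iv1 D210472)) (tt N121275 F525513) (tt N117097 (iv2 F503359)) (tt N121147 (iv3 F524778)) (tt N118506 (iv4 F510741)) (tt N99983 (iv5 F489715)) (tt N117089 F503322) (tt N118511 (iv7 F510758)))
theorem Q107261 : ∀ i, i < 107261 → P i := stepQ 107260 Q107260 (allL N107260 (tt N106567 F457683) (tt N120062 (iv0 F518847)) (tt N121152 (iv2 F524811)) (tt N72371 F457682) (tt N98537 (iv4 F457684)) (tt N72363 (iv5 D210473)) (tt N114342 (iv6 F489711)) (tt N98500 (iv7 F457685)))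
theorem Q107262 : ∀ i, i < 107262 → P i := stepQ 107261 Q107261 (allL N107261 (tt N117097 F503362) (tt N118511 (iv0 F510759)) (tt N121275 F525512) (tt N72372 F457686) (tt N108824 (iv4 F464134)) (tt N98500 F457687) (tt N100180 F457688) (tt N72363 (iv7 D210474)))
theorem Q107263 : ∀ i, i < 107263 → P i := stepQ 107262 Q107262 (allL N107262 (tt N107285 F457799) (tt N114758 (iv0 F491708)) (tt N90338 F457689) (tt N72365 (iv3 D210475)) (tt N89763 F457690) (tt N90219 F457691) (tt N83270 (iv6 F457693)) (tt N90336 F457692))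
theorem Q107264 : ∀ i, i < 107264 → P i := stepQ 107263 Q107263 (allL N107263 (tt N107603 (iv1 F458902)) (tt N98387 (iv0 F457696)) (tt N112871 (iv2 F483065)) (tt N83270 F457694) (tt N90126 F457695) (tt N73871 F457697) (tt N72365 (iv6 D210476)) (tt N114794 (iv7 F491905)))
theorem Q107265 : ∀ i, i < 107265 → P i := stepQ 107264 Q107264 (allL N107264 (tt N116925 F502530) (tt N120404 F520607) (tt N78982 F457698) (tt N90712 F457699) (tt N101251 F457700) (tt N78968 F457701) (tt N72366 (iv6 D210477)) (tt N78989 (iv7 F457702)))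
theorem Q107266 : ∀ i, i < 107266 → P i := stepQ 107265 Q107265 (allL N107265 (tt N114343 (iv1 F489722)) (tt N72367 (iv0 D210478)) (tt N114771 (iv2 F491772)) (tt N72994 (iv3 F457704)) (tt N90165 F457703) (tt N109768 (iv5 F468522)) (tt N111295 (iv6 F475680)) (tt N109767 F468519))
theorem Q107267 : ∀ i, i < 107267 → P i := stepQ 107266 Q107266 (allL N107266 (tt N117093 F503342) (tt N73952 (iv0 F457710)) (tt N99459 F457705) (tt N89211 F457706) (tt N76205 F457707) (tt N89998 F457708) (tt N72370 (iv6 D210479)) (tt N73887 F457709))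
theorem Q107268 : ∀ i, i < 107268 → P i := stepQ 107267 Q107267 (allL N107267 (tt N98486 (iv1 F457712)) (tt N72371 (iv0 D210480)) (tt N98499 (iv2 F457713)) (tt N105477 F457715) (tt N115056 (iv4 F493264)) (tt N73125 F457711) (tt N105475 (iv6 F457714)) (tt N98498 (iv7 F457716)))
theorem Q107269 : ∀ i, i < 107269 → P i := stepQ 107268 Q107268 (allL N107268 (tt N72371 (iv1 D210481)) (tt N98486 F457717) (tt N98498 (iv2 F457722)) (tt N90579 F457721) (tt N100019 F457719) (tt N90577 (iv5 F457720)) (tt N115035 (iv6 F493140)) (tt N98499 F457718))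
theorem Q107270 : ∀ i, i < 107270 → P i := stepQ 107269 Q107269 (allL N107269 (tt N76711 F457725) (tt N116895 F502398) (tt N116893 (iv2 F502389)) (tt N72383 F457723) (tt N85839 F457724) (tt N120238 F519752) (tt N72381 (iv6 D210482)) (tt N116892 F502383))
theorem Q107271 : ∀ i, i < 107271 → P i := stepQ 107270 Q107270 (allL N107270 (tt N106609 F457729) (tt N106018 F457730) (tt N106613 F457726) (tt N72386 F457727) (tt N116837 (iv4 F502097)) (tt N72382 (iv5 D210483)) (tt N120238 F519753) (tt N100247 F457728))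
theorem Q107272 : ∀ i, i < 107272 → P i := stepQ 107271 Q107271 (allL N107271 (tt N113269 (iv1 F484799)) (tt N89843 F457733) (tt N100243 F457731) (tt N120238 F519751) (tt N111207 (iv4 F475222)) (tt N72383 (iv5 D210484)) (tt N72386 F457732) (tt N111204 (iv7 F475211)))
theorem Q107273 : ∀ i, i < 107273 → P i := stepQ 107272 Q107272 (allL N107272 (tt N89142 (iv1 F457736)) (tt N83265 F457737) (tt N90141 F457735) (tt N116892 (iv3 F502379)) (tt N113227 (iv4 F484589)) (tt N111204 F475212) (tt N114343 (iv6 F489719)) (tt N72383 (iv7 D210485)))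
theorem Q107274 : ∀ i, i < 107274 → P i := stepQ 107273 Q107273 (allL N107273 (tt N100181 (iv1 F457741)) (tt N72386 (iv0 D210486)) (tt N78816 (iv2 F457740)) (tt N81393 F457744) (tt N103069 F457739) (tt N75980 F457738) (tt N81374 (iv6 F457743)) (tt N78821 F457742))
theorem Q107275 : ∀ i, i < 107275 → P i := stepQ 107274 Q107274 (allL N107274 (tt N100174 F457748) (tt N100188 F457749) (tt N100226 F457745) (tt N90800 F484593) (tt N72386 (iv4 D210487)) (tt N100178 F457747) (tt N111207 (iv6 F475224)) (tt N100225 F457746))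
theorem Q107276 : ∀ i, i < 107276 → P i := stepQ 107275 Q107275 (allL N107275 (tt N111923 F478677) (tt N80455 (iv0 F457755)) (tt N73106 F457750) (tt N72395 (iv3 D210488)) (tt N80728 F457751) (tt N73101 F457752) (tt N76163 F457753) (tt N103756 F457754))
theorem Q107277 : ∀ i, i < 107277 → P i := stepQ 107276 Q107276 (allL N107276 (tt N110118 F470080) (tt N74710 (iv0 F457758)) (tt N112723 (iv2 F482363)) (tt N72404 F457756) (tt N94282 F457757) (tt N107937 (iv5 F460369)) (tt N72402 (iv6 D210489)) (tt N111932 (iv7 F478734)))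
theorem Q107278 : ∀ i, i < 107278 → P i := stepQ 107277 Q107277 (allL N107277 (tt N99459 F457761) (tt N73887 (iv0 F457762)) (tt N73952 F457759) (tt N117090 (iv3 F503323)) (tt N72404 F457760) (tt N110322 (iv5 F471043)) (tt N72403 (iv6 D210490)) (tt N117093 (iv7 F503338)))
theorem Q107279 : ∀ i, i < 107279 → P i := stepQ 107278 Q107278 (allL N107278 (tt N73848 F457765) (tt N75961 (iv0 F457766)) (tt N73947 F457763) (tt N108380 (iv3 F462336)) (tt N72406 F457764) (tt N116816 (iv5 F501983)) (tt N72405 (iv6 D210491)) (tt N108404 (iv7 F462438)))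
theorem Q107280 : ∀ i, i < 107280 → P i := stepQ 107279 Q107279 (allL N107279 (tt N74326 F457770) (tt N119577 F516348) (tt N105034 F457767) (tt N96137 F457768) (tt N108607 (iv4 F463226)) (tt N72415 (iv5 D210492)) (tt N115367 (iv6 F494835)) (tt N105030 F457769))
theorem Q107281 : ∀ i, i < 107281 → P i := stepQ 107280 Q107280 (allL N107280 (tt N113852 F487458) (tt N101338 F457773) (tt N105037 F457771) (tt N96143 F457772) (tt N113853 (iv4 F487461)) (tt N112355 (iv5 F480719)) (tt N72416 (iv6 D210493)) (tt N113851 (iv7 F487452)))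
theorem Q107282 : ∀ i, i < 107282 → P i := stepQ 107281 Q107281 (allL N107281 (tt N107693 (iv1 F459263)) (tt N93268 F457778) (tt N96118 F457774) (tt N72419 F457775) (tt N112845 (iv4 F482926)) (tt N72418 (iv5 D210494)) (tt N87666 F457776) (tt N105033 F457777))
theorem Q107283 : ∀ i, i < 107283 → P i := stepQ 107282 Q107282 (allL N107282 (tt N105039 (iv1 F457781)) (tt N72425 (iv0 D210495)) (tt N105040 (iv2 F457782)) (tt N109295 (iv3 F466242)) (tt N119229 (iv4 F514486)) (tt N91177 F457779) (tt N101372 F457780) (tt N91176 (iv7 F457783)))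
theorem Q107284 : ∀ i, i < 107284 → P i := stepQ 107283 Q107283 (allL N107283 (tt N72425 (iv1 D210496)) (tt N105039 F457784) (tt N91176 F457787) (tt N73364 F457788) (tt N113243 (iv4 F484678)) (tt N73363 (iv5 F457786)) (tt N90802 F457789) (tt N105040 F457785))
theorem Q107285 : ∀ i, i < 107285 → P i := stepQ 107284 Q107284 (allL N107284 (tt N89950 F457794) (tt N89912 (iv0 F457793)) (tt N89604 F457790) (tt N118943 (iv3 F512883)) (tt N90572 F457791) (tt N121345 (iv5 F525879)) (tt N72426 (iv6 D210497)) (tt N89948 F457792))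
theorem Q107286 : ∀ i, i < 107286 → P i := stepQ 107285 Q107285 (allL N107285 (tt N101241 F457798) (tt N107262 (iv0 F457799)) (tt N109898 (iv2 F469125)) (tt N72428 (iv3 D210498)) (tt N94528 F457795) (tt N106275 F457796) (tt N89322 F457800) (tt N96715 F457797))
theorem Q107287 : ∀ i, i < 107287 → P i := stepQ 107286 Q107286 (allL N107286 (tt N89315 F457805) (tt N105231 (iv0 F457806)) (tt N96709 F457801) (tt N89322 F457802) (tt N96399 F457803) (tt N110012 (iv5 F469550)) (tt N72428 (iv6 D210499)) (tt N96676 F457804))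
theorem Q107288 : ∀ i, i < 107288 → P i := stepQ 107287 Q107287 (allL N107287 (tt N90926 F457808) (tt N108457 (iv0 F462667)) (tt N119095 (iv2 F513766)) (tt N119707 (iv3 F517020)) (tt N72432 (iv4 D210500)) (tt N99050 F457807) (tt N120215 F519644) (tt N116979 F502799))
theorem Q107289 : ∀ i, i < 107289 → P i := stepQ 107288 Q107288 (allL N107288 (tt N96305 (iv1 F457812)) (tt N72437 (iv0 D210501)) (tt N106467 (iv2 F457814)) (tt N98884 F457810) (tt N73242 F457809) (tt N99616 F457811) (tt N98882 F457816) (tt N106803 (iv7 F457815)))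
theorem Q107290 : ∀ i, i < 107290 → P i := stepQ 107289 Q107289 (allL N107289 (tt N72437 (iv1 D210502)) (tt N96305 F457817) (tt N106803 (iv2 F457820)) (tt N116150 (iv3 F498757)) (tt N73243 F457819) (tt N107290 (iv5 F457823)) (tt N106644 (iv6 F457821)) (tt N106467 F457818))
theorem Q107291 : ∀ i, i < 107291 → P i := stepQ 107290 Q107290 (allL N107290 (tt N107503 (iv1 F458554)) (tt N117293 F504324) (tt N73995 F457822) (tt N121473 D224732) (tt N72439 (iv4 D210503)) (tt N107289 F457823) (tt N119857 (iv6 F517728)) (tt N101629 F457824))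
theorem Q107292 : ∀ i, i < 107292 → P i := stepQ 107291 Q107291 (allL N107291 (tt N101626 (iv1 F457829)) (tt N101625 (iv0 F457828)) (tt N73996 F457825) (tt N113829 (iv3 F487328)) (tt N119857 (iv4 F517727)) (tt N100878 F457826) (tt N72439 (iv6 D210504)) (tt N79421 F457827))
theorem Q107293 : ∀ i, i < 107293 → P i := stepQ 107292 Q107292 (allL N107292 (tt N72442 (iv1 D210505)) (tt N73411 F457830) (tt N72527 F457834) (tt N72575 (iv3 F457833)) (tt N98885 F457831) (tt N89789 F457832) (tt N85333 F457835) (tt N119166 (iv7 F514149)))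
theorem Q107294 : ∀ i, i < 107294 → P i := stepQ 107293 Q107293 (allL N107293 (tt N104179 F457839) (tt N104067 F457840) (tt N76690 F457836) (tt N72444 F457837) (tt N73413 F457838) (tt N72442 (iv5 D210506)) (tt N76577 F457841) (tt N107946 (iv7 F460418)))
theorem Q107295 : ∀ i, i < 107295 → P i := stepQ 107294 Q107294 (allL N107294 (tt N121474 D224733) (tt N121475 D224734) (tt N119871 (iv2 F517798)) (tt N72445 F457842) (tt N107517 (iv4 F458626)) (tt N110765 (iv5 F473072)) (tt N72442 (iv6 D210507)) (tt N121476 D224735))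
theorem Q107296 : ∀ i, i < 107296 → P i := stepQ 107295 Q107295 (allL N107295 (tt N72939 F457845) (tt N73107 (iv0 F457846)) (tt N81963 F457843) (tt N72443 (iv3 D210508)) (tt N107516 (iv4 F458620)) (tt N95685 F457847) (tt N81854 (iv6 F457848)) (tt N94987 F457844))
theorem Q107297 : ∀ i, i < 107297 → P i := stepQ 107296 Q107296 (allL N107296 (tt N98323 F457851) (tt N93329 F457853) (tt N114661 (iv2 F491254)) (tt N95685 F457850) (tt N105033 F457852) (tt N72443 (iv5 D210509)) (tt N89781 F457854) (tt N112845 (iv7 F482928)))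
theorem Q107298 : ∀ i, i < 107298 → P i := stepQ 107297 Q107297 (allL N107297 (tt N112625 (iv1 F481890)) (tt N112627 (iv0 F481899)) (tt N116856 (iv2 F502192)) (tt N81854 F457855) (tt N72445 F457856) (tt N81853 F457857) (tt N72443 (iv6 D210510)) (tt N81968 (iv7 F457858)))
theorem Q107299 : ∀ i, i < 107299 → P i := stepQ 107298 Q107298 (allL N107298 (tt N112845 (iv1 F482930)) (tt N114661 (iv0 F491258)) (tt N98323 F457859) (tt N72932 F457860) (tt N72444 (iv4 D210511)) (tt N93316 F457862) (tt N114460 (iv6 F490290)) (tt N93329 F457861))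
theorem Q107300 : ∀ i, i < 107300 → P i := stepQ 107299 Q107299 (allL N107299 (tt N89800 F457865) (tt N89727 (iv0 F457866)) (tt N107947 (iv2 F460421)) (tt N76577 F457863) (tt N114460 (iv4 F490288)) (tt N106580 F457864) (tt N72444 (iv6 D210512)) (tt N76682 (iv7 F457867)))
theorem Q107301 : ∀ i, i < 107301 → P i := stepQ 107300 Q107300 (allL N107300 (tt N89898 F457871) (tt N72445 (iv0 D210513)) (tt N72483 (iv2 F457869)) (tt N72572 F457870) (tt N117668 (iv4 F506316)) (tt N113468 (iv5 F485623)) (tt N89019 F457868) (tt N117729 (iv7 F506665)))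
theorem Q107302 : ∀ i, i < 107302 → P i := stepQ 107301 Q107301 (allL N107301 (tt N117729 F506667) (tt N72483 (iv0 F457875)) (tt N89898 F457872) (tt N121476 (iv3 F526582)) (tt N81968 F457873) (tt N89086 F457874) (tt N96263 (iv6 F457876)) (tt N72445 (iv7 D210514)))
theorem Q107303 : ∀ i, i < 107303 → P i := stepQ 107302 Q107302 (allL N107302 (tt N72547 (iv1 F457882)) (tt N110990 (iv0 F474123)) (tt N72446 (iv2 D210515)) (tt N73411 F457879) (tt N98846 F457880) (tt N98383 (iv5 F457881)) (tt N121477 D224736) (tt N113290 (iv7 F484875)))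
theorem Q107304 : ∀ i, i < 107304 → P i := stepQ 107303 Q107303 (allL N107303 (tt N74274 F457884) (tt N95017 F457885) (tt N98846 F457883) (tt N117840 (iv3 F507212)) (tt N72446 (iv4 D210516)) (tt N104648 (iv5 F457886)) (tt N118495 (iv6 F510683)) (tt N107359 (iv7 F458090)))
theorem Q107305 : ∀ i, i < 107305 → P i := stepQ 107304 Q107304 (allL N107304 (tt N118812 F512203) (tt N95964 F457891) (tt N98383 F457887) (tt N72448 F457888) (tt N78381 F457890) (tt N72446 (iv5 D210517)) (tt N120949 (iv6 F523647)) (tt N98317 F457889))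
theorem Q107306 : ∀ i, i < 107306 → P i := stepQ 107305 Q107305 (allL N107305 (tt N121478 D224737) (tt N121479 D224738) (tt N121477 (iv2 F526588)) (tt N72449 F457892) (tt N118495 (iv4 F510681)) (tt N121480 D224739) (tt N72446 (iv6 D210518)) (tt N121481 D224740))
theorem Q107307 : ∀ i, i < 107307 → P i := stepQ 107306 Q107306 (allL N107306 (tt N93329 F457896) (tt N98323 F457895) (tt N112845 (iv2 F482924)) (tt N93289 F457893) (tt N96118 F457894) (tt N72447 (iv5 D210519)) (tt N82521 (iv6 F457897)) (tt N114661 (iv7 F491257)))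
theorem Q107308 : ∀ i, i < 107308 → P i := stepQ 107307 Q107307 (allL N107307 (tt N121450 F526446) (tt N115070 F493337) (tt N94985 F457898) (tt N117841 (iv3 F507218)) (tt N72449 F457899) (tt N82522 F457900) (tt N72447 (iv6 D210520)) (tt N112815 (iv7 F482749)))
theorem Q107309 : ∀ i, i < 107309 → P i := stepQ 107308 Q107308 (allL N107308 (tt N114661 (iv1 F491260)) (tt N112845 (iv0 F482929)) (tt N93329 F457901) (tt N78382 F457902) (tt N72448 (iv4 D210521)) (tt N93327 F457903) (tt N114525 (iv6 F490599)) (tt N98323 F457904))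
theorem Q107310 : ∀ i, i < 107310 → P i := stepQ 107309 Q107309 (allL N107309 (tt N85332 F457924) (tt N84437 (iv0 F457906)) (tt N85330 F457905) (tt N120949 (iv3 F523645)) (tt N114525 F490601) (tt N121482 D224741) (tt N72448 (iv6 D210522)) (tt N85331 (iv7 F457907)))
theorem Q107311 : ∀ i, i < 107311 → P i := stepQ 107310 Q107310 (allL N107310 (tt N72449 (iv1 D210523)) (tt N96263 F457908) (tt N72523 F457912) (tt N72581 F457913) (tt N101159 F457910) (tt N89536 F457914) (tt N89024 (iv6 F457911)) (tt N96261 F457909))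
theorem Q107312 : ∀ i, i < 107312 → P i := stepQ 107311 Q107311 (allL N107311 (tt N88563 F457915) (tt N114621 (iv0 F491048)) (tt N116135 F498668) (tt N121480 (iv3 F526607)) (tt N113061 (iv4 F483793)) (tt N72449 (iv5 D210524)) (tt N121482 (iv6 F526618)) (tt N116136 (iv7 F498670)))
theorem Q107313 : ∀ i, i < 107313 → P i := stepQ 107312 Q107312 (allL N107312 (tt N72523 (iv1 F457918)) (tt N96261 F457919) (tt N96263 F457916) (tt N121481 (iv3 F526612)) (tt N112815 (iv4 F482751)) (tt N116136 (iv5 F498671)) (tt N89898 F457917) (tt N72449 (iv7 D210525)))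
theorem Q107314 : ∀ i, i < 107314 → P i := stepQ 107313 Q107313 (allL N107313 (tt N89811 F457923) (tt N117313 (iv0 F504419)) (tt N89834 F457920) (tt N120210 (iv3 F519611)) (tt N86080 F457921) (tt N90709 F457922) (tt N72450 (iv6 D210526)) (tt N114030 (iv7 F488281)))
theorem Q107315 : ∀ i, i < 107315 → P i := stepQ 107314 Q107314 (allL N107314 (tt N85630 F457929) (tt N100318 (iv0 F457930)) (tt N98384 F457925) (tt N72451 (iv3 D210527)) (tt N78385 F457926) (tt N73214 F457927) (tt N100502 F457931) (tt N89832 F457928))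
theorem Q107316 : ∀ i, i < 107316 → P i := stepQ 107315 Q107315 (allL N107315 (tt N117339 (iv1 F504540)) (tt N89818 (iv0 F457936)) (tt N89836 F457932) (tt N100502 F457933) (tt N93723 F457934) (tt N87206 F457935) (tt N72451 (iv6 D210528)) (tt N110519 (iv7 F471958)))
theorem Q107317 : ∀ i, i < 107317 → P i := stepQ 107316 Q107316 (allL N107316 (tt N89807 F457940) (tt N119035 (iv0 F513406)) (tt N72596 F457937) (tt N116091 (iv3 F498415)) (tt N107223 F457938) (tt N81911 F457939) (tt N72453 (iv6 D210529)) (tt N116439 (iv7 F500118)))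
theorem Q107318 : ∀ i, i < 107318 → P i := stepQ 107317 Q107317 (allL N107317 (tt N88881 F457943) (tt N113105 F483995) (tt N72469 F457941) (tt N119628 (iv3 F516593)) (tt N72467 (iv4 D210530)) (tt N91174 F457942) (tt N121483 D224742) (tt N113104 (iv7 F483989)))
theorem Q107319 : ∀ i, i < 107319 → P i := stepQ 107318 Q107318 (allL N107318 (tt N114721 F491527) (tt N117232 F504034) (tt N72470 F457944) (tt N89869 F457945) (tt N121483 (iv4 F526624)) (tt N114897 F492409) (tt N72467 (iv6 D210531)) (tt N114627 (iv7 F491080)))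
theorem Q107320 : ∀ i, i < 107320 → P i := stepQ 107319 Q107319 (allL N107319 (tt N72474 F457949) (tt N72468 (iv0 D210532)) (tt N72471 (iv2 F457947)) (tt N90000 (iv3 F457948)) (tt N108501 (iv4 F462870)) (tt N114718 (iv5 F491509)) (tt N89952 F457946) (tt N72472 (iv7 F457950)))
theorem Q107321 : ∀ i, i < 107321 → P i := stepQ 107320 Q107320 (allL N107320 (tt N72468 (iv1 D210533)) (tt N72474 F457954) (tt N72472 (iv2 F457956)) (tt N118375 (iv3 F510007)) (tt N108736 (iv4 F463758)) (tt N112326 F480572) (tt N119988 (iv6 F518411)) (tt N72471 F457955))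
theorem Q107322 : ∀ i, i < 107322 → P i := stepQ 107321 Q107321 (allL N107321 (tt N72472 (iv1 F457958)) (tt N72471 F457959) (tt N72474 F457957) (tt N118766 (iv3 F511966)) (tt N117130 (iv4 F503540)) (tt N113922 F487802) (tt N110882 (iv6 F473591)) (tt N72468 (iv7 D210534)))
theorem Q107323 : ∀ i, i < 107323 → P i := stepQ 107322 Q107322 (allL N107322 (tt N72469 (iv1 D210535)) (tt N113104 F483990) (tt N113105 (iv2 F483991)) (tt N72805 (iv3 F457962)) (tt N107951 (iv4 F460442)) (tt N72804 F457961) (tt N108367 (iv6 F462281)) (tt N88881 F457960))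
theorem Q107324 : ∀ i, i < 107324 → P i := stepQ 107323 Q107323 (allL N107323 (tt N91177 (iv1 F457969)) (tt N73363 F457966) (tt N91174 F457963) (tt N75106 F457964) (tt N74773 F457967) (tt N72469 (iv5 D210536)) (tt N92666 F457968) (tt N91175 F457965))
theorem Q107325 : ∀ i, i < 107325 → P i := stepQ 107324 Q107324 (allL N107324 (tt N118008 F508064) (tt N114744 (iv0 F491627)) (tt N121483 (iv2 F526622)) (tt N119157 (iv3 F514096)) (tt N72470 F457970) (tt N115134 (iv5 F493653)) (tt N72469 (iv6 D210537)) (tt N120457 (iv7 F520890)))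
theorem Q107326 : ∀ i, i < 107326 → P i := stepQ 107325 Q107325 (allL N107325 (tt N117207 (iv1 F503915)) (tt N117205 (iv0 F503901)) (tt N114897 (iv2 F492405)) (tt N72475 F457971) (tt N84762 (iv4 F457980)) (tt N72470 (iv5 D210539)) (tt N72473 F457972) (tt N114895 (iv7 F492398)))
theorem Q107327 : ∀ i, i < 107327 → P i := stepQ 107326 Q107326 (allL N107326 (tt N108735 (iv1 F463756)) (tt N108738 F463762) (tt N108736 F463759) (tt N108495 (iv3 F462842)) (tt N72472 (iv4 D210540)) (tt N111058 F474458) (tt N117108 (iv6 F503435)) (tt N108501 (iv7 F462869)))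
theorem Q107328 : ∀ i, i < 107328 → P i := stepQ 107327 Q107327 (allL N107327 (tt N84374 (iv1 F457978)) (tt N83881 F457977) (tt N84371 F457974) (tt N99771 (iv3 F457981)) (tt N72473 (iv4 D210541)) (tt N87276 F457976) (tt N84762 F457979) (tt N84372 F457975))
theorem Q107329 : ∀ i, i < 107329 → P i := stepQ 107328 Q107328 (allL N107328 (tt N110011 (iv1 F469547)) (tt N72475 (iv0 D210542)) (tt N109819 (iv2 F468774)) (tt N109896 (iv3 F469117)) (tt N121484 D224743) (tt N96676 F457982) (tt N118642 (iv6 F511300)) (tt N110012 (iv7 F469551)))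
theorem Q107330 : ∀ i, i < 107330 → P i := stepQ 107329 Q107329 (allL N107329 (tt N120234 F519740) (tt N121485 D224744) (tt N118777 (iv2 F512007)) (tt N121486 D224745) (tt N72475 (iv4 D210543)) (tt N121487 D224746) (tt N72481 F457983) (tt N120458 (iv7 F520894)))
theorem Q107331 : ∀ i, i < 107331 → P i := stepQ 107330 Q107330 (allL N107330 (tt N107189 F457984) (tt N107194 F457985) (tt N118757 (iv2 F511915)) (tt N109986 (iv3 F469466)) (tt N72476 (iv4 D210544)) (tt N107755 (iv5 F459574)) (tt N109985 F469464) (tt N110237 (iv7 F470567)))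
theorem Q107332 : ∀ i, i < 107332 → P i := stepQ 107331 Q107331 (allL N107331 (tt N101308 F457987) (tt N113388 (iv0 F485308)) (tt N118765 (iv2 F511959)) (tt N109321 (iv3 F466375)) (tt N109985 (iv4 F469461)) (tt N116970 (iv5 F502761)) (tt N72476 (iv6 D210545)) (tt N105666 F457986))
theorem Q107333 : ∀ i, i < 107333 → P i := stepQ 107332 Q107332 (allL N107332 (tt N72478 (iv1 D210546)) (tt N109270 F466103) (tt N110393 F471374) (tt N121246 F525350) (tt N119866 (iv4 F517769)) (tt N83392 F466104) (tt N119964 (iv6 F518291)) (tt N95934 F457988))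
theorem Q107334 : ∀ i, i < 107334 → P i := stepQ 107333 Q107333 (allL N107333 (tt N107194 F457990) (tt N107189 F457991) (tt N110237 (iv2 F470570)) (tt N121488 D224747) (tt N72479 (iv4 D210547)) (tt N107754 (iv5 F459568)) (tt N105668 F457989) (tt N118757 (iv7 F511919)))
theorem Q107335 : ∀ i, i < 107335 → P i := stepQ 107334 Q107334 (allL N107334 (tt N107428 (iv1 F458307)) (tt N99404 F457995) (tt N107425 F458288) (tt N110356 (iv3 F471208)) (tt N72480 (iv4 D210548)) (tt N96447 F457994) (tt N81890 F457992) (tt N96210 F457993))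
theorem Q107336 : ∀ i, i < 107336 → P i := stepQ 107335 Q107335 (allL N107335 (tt N107198 (iv1 F457999)) (tt N72481 (iv0 D210549)) (tt N107200 (iv2 F457998)) (tt N89346 F458002) (tt N72544 F457997) (tt N96418 (iv5 F458001)) (tt N112519 (iv6 F481476)) (tt N96201 F458000))
theorem Q107337 : ∀ i, i < 107337 → P i := stepQ 107336 Q107336 (allL N107336 (tt N119860 (iv1 F517748)) (tt N98894 F479951) (tt N109207 (iv2 F465787)) (tt N72481 (iv3 D210550)) (tt N99771 F458003) (tt N112184 (iv5 F479950)) (tt N121486 (iv6 F526639)) (tt N118759 (iv7 F511928)))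
theorem Q107338 : ∀ i, i < 107338 → P i := stepQ 107337 Q107337 (allL N107337 (tt N90807 F458007) (tt N89465 F458006) (tt N113468 (iv2 F485622)) (tt N72484 F458004) (tt N87055 F458005) (tt N72483 (iv5 D210551)) (tt N116474 (iv6 F500323)) (tt N113470 (iv7 F485633)))
theorem Q107339 : ∀ i, i < 107339 → P i := stepQ 107338 Q107338 (allL N107338 (tt N106295 F458011) (tt N117376 (iv0 F504733)) (tt N106645 F458008) (tt N116474 (iv3 F500322)) (tt N119756 (iv4 F517262)) (tt N100184 F458009) (tt N72484 (iv6 D210552)) (tt N105301 F458010))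
theorem Q107340 : ∀ i, i < 107340 → P i := stepQ 107339 Q107339 (allL N107339 (tt N108670 (iv1 F463476)) (tt N93375 (iv0 F458015)) (tt N101870 F458012) (tt N72486 (iv3 D210553)) (tt N93853 F458013) (tt N118651 (iv5 F511350)) (tt N93852 F458014) (tt N108669 (iv7 F463467)))
theorem Q107341 : ∀ i, i < 107341 → P i := stepQ 107340 Q107340 (allL N107340 (tt N77393 F458018) (tt N117397 F504827) (tt N117730 (iv2 F506668)) (tt N72488 F458016) (tt N121351 (iv4 F525916)) (tt N72487 (iv5 D210554)) (tt N105298 F458017) (tt N108683 (iv7 F463534)))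
theorem Q107342 : ∀ i, i < 107342 → P i := stepQ 107341 Q107341 (allL N107341 (tt N112568 F481688) (tt N119093 (iv0 F513756)) (tt N110699 (iv2 F472808)) (tt N121489 D224748) (tt N72488 (iv4 D210555)) (tt N110698 F472807) (tt N105299 F458019) (tt N118758 (iv7 F511923)))
theorem Q107343 : ∀ i, i < 107343 → P i := stepQ 107342 Q107342 (allL N107342 (tt N101193 F458024) (tt N101172 (iv0 F458025)) (tt N101190 F458020) (tt N95092 F458021) (tt N89444 F458022) (tt N74285 F458026) (tt N72490 (iv6 D210556)) (tt N101191 F458023))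
theorem Q107344 : ∀ i, i < 107344 → P i := stepQ 107343 Q107343 (allL N107343 (tt N121313 F525707) (tt N94385 (iv0 F458029)) (tt N72493 F458027) (tt N117819 (iv3 F507113)) (tt N72504 F458028) (tt N92481 (iv5 F473161)) (tt N72491 (iv6 D210557)) (tt N121490 D224749))
theorem Q107345 : ∀ i, i < 107345 → P i := stepQ 107344 Q107344 (allL N107344 (tt N74494 (iv1 F458031)) (tt N72492 (iv0 D210558)) (tt N105048 F458035) (tt N102658 (iv3 F458032)) (tt N108340 (iv4 F462148)) (tt N92410 F458030) (tt N94404 (iv6 F458034)) (tt N105046 F458033))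
theorem Q107346 : ∀ i, i < 107346 → P i := stepQ 107345 Q107345 (allL N107345 (tt N72492 (iv1 D210559)) (tt N74494 F458036) (tt N105046 F458041) (tt N118289 F509543) (tt N94433 F458039) (tt N92411 F458038) (tt N94262 (iv6 F458040)) (tt N105048 F458037))
theorem Q107347 : ∀ i, i < 107347 → P i := stepQ 107346 Q107346 (allL N107346 (tt N121490 (iv1 F526660)) (tt N72493 (iv0 D210560)) (tt N121313 (iv2 F525701)) (tt N102876 F458042) (tt N121478 (iv4 F526594)) (tt N94386 (iv5 F458044)) (tt N94221 F458043) (tt N94385 (iv7 F458045)))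
theorem Q107348 : ∀ i, i < 107348 → P i := stepQ 107347 Q107347 (allL N107347 (tt N72493 (iv1 D210561)) (tt N121490 F526659) (tt N94385 F458047) (tt N118291 (iv3 F509554)) (tt N121479 F526602) (tt N93392 F458048) (tt N74290 (iv6 F458046)) (tt N121313 (iv7 F525705)))
theorem Q107349 : ∀ i, i < 107349 → P i := stepQ 107348 Q107348 (allL N107348 (tt N92484 F463687) (tt N92476 (iv0 F458050)) (tt N92481 F473160) (tt N72496 F458049) (tt N119699 (iv4 F516982)) (tt N72493 (iv5 D210562)) (tt N110585 (iv6 F472249)) (tt N92482 F473159))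
theorem Q107350 : ∀ i, i < 107350 → P i := stepQ 107349 Q107349 (allL N107349 (tt N94385 (iv1 F458053)) (tt N121313 (iv0 F525706)) (tt N121490 (iv2 F526655)) (tt N72497 F458051) (tt N72512 F458052) (tt N92482 (iv5 F473157)) (tt N117814 (iv6 F507093)) (tt N72493 (iv7 D210563)))
theorem Q107351 : ∀ i, i < 107351 → P i := stepQ 107350 Q107350 (allL N107350 (tt N116597 (iv1 F500915)) (tt N72494 (iv0 D210564)) (tt N117824 (iv2 F507143)) (tt N121491 D224750) (tt N89232 F458054) (tt N101189 F458055) (tt N118486 (iv6 F510630)) (tt N117825 (iv7 F507145)))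
theorem Q107352 : ∀ i, i < 107352 → P i := stepQ 107351 Q107351 (allL N107351 (tt N72494 (iv1 D210565)) (tt N116597 (iv0 F500914)) (tt N117825 (iv2 F507150)) (tt N92371 (iv3 F458058)) (tt N91344 F458056) (tt N100103 F458057) (tt N91343 F458059) (tt N117824 (iv7 F507142)))
theorem Q107353 : ∀ i, i < 107353 → P i := stepQ 107352 Q107352 (allL N107352 (tt N116595 (iv1 F500904)) (tt N116594 F500899) (tt N116379 (iv2 F499792)) (tt N110585 (iv3 F472248)) (tt N83171 F458061) (tt N72494 (iv5 D210566)) (tt N72496 F458060) (tt N116591 (iv7 F500887)))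
theorem Q107354 : ∀ i, i < 107354 → P i := stepQ 107353 Q107353 (allL N107353 (tt N117825 (iv1 F507144)) (tt N117824 F507140) (tt N116597 (iv2 F500911)) (tt N100119 F458062) (tt N95371 F458063) (tt N116591 (iv5 F500886)) (tt N108580 F463139) (tt N72494 (iv7 D210567)))
theorem Q107355 : ∀ i, i < 107355 → P i := stepQ 107354 Q107354 (allL N107354 (tt N94273 F458069) (tt N94272 F458070) (tt N74301 F458064) (tt N100039 F458065) (tt N75146 F458068) (tt N72495 (iv5 D210568)) (tt N75149 F458066) (tt N74299 F458067))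
theorem Q107356 : ∀ i, i < 107356 → P i := stepQ 107355 Q107355 (allL N107355 (tt N94270 (iv1 F458075)) (tt N72496 (iv0 D210569)) (tt N104721 (iv2 F458072)) (tt N90969 F458073) (tt N119950 (iv4 F518204)) (tt N104673 F458071) (tt N119249 (iv6 F514620)) (tt N104725 F458074))
theorem Q107357 : ∀ i, i < 107357 → P i := stepQ 107356 Q107356 (allL N107356 (tt N108719 (iv1 F463684)) (tt N108720 (iv0 F463686)) (tt N116380 (iv2 F499798)) (tt N116574 (iv3 F500801)) (tt N72496 (iv4 D210570)) (tt N120826 (iv5 F522944)) (tt N83171 F458076) (tt N121256 (iv7 F525408)))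
theorem Q107358 : ∀ i, i < 107358 → P i := stepQ 107357 Q107357 (allL N107357 (tt N104725 (iv1 F458079)) (tt N104721 F458080) (tt N94270 F458077) (tt N92482 F473158) (tt N121256 (iv4 F525407)) (tt N72497 F458078) (tt N118562 (iv6 F510940)) (tt N72496 (iv7 D210571)))
theorem Q107359 : ∀ i, i < 107359 → P i := stepQ 107358 Q107358 (allL N107358 (tt N72498 (iv1 D210572)) (tt N72751 F458081) (tt N95928 F458085) (tt N72861 (iv3 F458084)) (tt N102671 F458083) (tt N121412 (iv5 F526213)) (tt N121492 D224751) (tt N90019 F458082))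
theorem Q107360 : ∀ i, i < 107360 → P i := stepQ 107359 Q107359 (allL N107359 (tt N72501 (iv1 F458089)) (tt N72499 (iv0 D210573)) (tt N108693 (iv2 F463582)) (tt N94799 F458088) (tt N96495 F458087) (tt N101858 F458086) (tt N121493 D224752) (tt N107303 F458090))
theorem Q107361 : ∀ i, i < 107361 → P i := stepQ 107360 Q107360 (allL N107360 (tt N110824 F473313) (tt N110823 (iv0 F473308)) (tt N101189 F458091) (tt N72723 F458092) (tt N72502 F458093) (tt N117824 (iv5 F507137)) (tt N72501 (iv6 D210574)) (tt N100103 F458094))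
theorem Q107362 : ∀ i, i < 107362 → P i := stepQ 107361 Q107361 (allL N107361 (tt N105810 F458097) (tt N105813 (iv0 F458098)) (tt N72508 F458095) (tt N119954 (iv3 F518229)) (tt N100323 F458096) (tt N117180 (iv5 F503785)) (tt N72503 (iv6 D210575)) (tt N114629 (iv7 F491089)))
theorem Q107363 : ∀ i, i < 107363 → P i := stepQ 107362 Q107362 (allL N107362 (tt N72504 (iv1 D210576)) (tt N72512 F458099) (tt N72510 (iv2 F458101)) (tt N106551 F458103) (tt N94267 F458104) (tt N121494 D224753) (tt N94274 (iv6 F458102)) (tt N72509 F458100))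
theorem Q107364 : ∀ i, i < 107364 → P i := stepQ 107363 Q107363 (allL N107363 (tt N120354 F520341) (tt N120133 (iv0 F519239)) (tt N72511 F458105) (tt N119955 (iv3 F518236)) (tt N113485 (iv4 F485715)) (tt N72504 (iv5 D210577)) (tt N117180 F503790) (tt N121495 D224754))
theorem Q107365 : ∀ i, i < 107365 → P i := stepQ 107364 Q107364 (allL N107364 (tt N72510 (iv1 F458107)) (tt N72509 F458108) (tt N72512 F458106) (tt N110882 (iv3 F473589)) (tt N121490 (iv4 F526657)) (tt N121495 (iv5 F526686)) (tt N118766 (iv6 F511967)) (tt N72504 (iv7 D210578)))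
theorem Q107366 : ∀ i, i < 107366 → P i := stepQ 107365 Q107365 (allL N107365 (tt N100327 F458111) (tt N109216 (iv0 F465821)) (tt N105058 F458109) (tt N107403 (iv3 F458228)) (tt N76227 F458110) (tt N120437 (iv5 F520779)) (tt N72505 (iv6 D210579)) (tt N119594 (iv7 F516425)))
theorem Q107367 : ∀ i, i < 107367 → P i := stepQ 107366 Q107366 (allL N107366 (tt N74499 (iv1 F458114)) (tt N72507 (iv0 D210580)) (tt N100320 (iv2 F458115)) (tt N89861 F458112) (tt N118812 (iv4 F512199)) (tt N108338 (iv5 F462137)) (tt N100329 F458113) (tt N100319 (iv7 F458116)))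
theorem Q107368 : ∀ i, i < 107368 → P i := stepQ 107367 Q107367 (allL N107367 (tt N72507 (iv1 D210581)) (tt N74499 F458117) (tt N100319 F458121) (tt N98204 (iv3 F458120)) (tt N95964 F458119) (tt N108339 (iv5 F462143)) (tt N119572 (iv6 F516320)) (tt N100320 F458118))
theorem Q107369 : ∀ i, i < 107369 → P i := stepQ 107368 Q107368 (allL N107368 (tt N105813 (iv1 F458125)) (tt N105810 F458126) (tt N114629 (iv2 F491087)) (tt N72516 F458122) (tt N86199 F458123) (tt N117181 (iv5 F503794)) (tt N86198 F458124) (tt N72508 (iv7 D210582)))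
theorem Q107370 : ∀ i, i < 107370 → P i := stepQ 107369 Q107369 (allL N107369 (tt N112167 (iv1 F479858)) (tt N121492 (iv0 F526673)) (tt N106548 F458127) (tt N72509 (iv3 D210583)) (tt N106181 F458130) (tt N121496 D224755) (tt N105525 F458128) (tt N106551 F458129))
theorem Q107371 : ∀ i, i < 107371 → P i := stepQ 107370 Q107370 (allL N107370 (tt N121497 D224756) (tt N119721 (iv0 F517094)) (tt N108706 F463636) (tt N100079 F458134) (tt N72509 (iv4 D210584)) (tt N94268 (iv5 F458133)) (tt N94206 F458131) (tt N94267 F458132))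
theorem Q107372 : ∀ i, i < 107372 → P i := stepQ 107371 Q107371 (allL N107371 (tt N114065 F488412) (tt N121091 (iv0 F524472)) (tt N120066 (iv2 F518857)) (tt N121496 (iv3 F526690)) (tt N84310 F458136) (tt N72509 (iv5 D210585)) (tt N84309 F458135) (tt N121494 (iv7 F526681)))
theorem Q107373 : ∀ i, i < 107373 → P i := stepQ 107372 Q107372 (allL N107372 (tt N119721 F517095) (tt N121497 F526700) (tt N94267 F458137) (tt N100083 F458138) (tt N72510 (iv4 D210586)) (tt N94189 (iv5 F458140)) (tt N74299 F458139) (tt N108706 (iv7 F463635)))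
theorem Q107374 : ∀ i, i < 107374 → P i := stepQ 107373 Q107373 (allL N107373 (tt N121091 (iv1 F524473)) (tt N114065 (iv0 F488411)) (tt N121494 (iv2 F526678)) (tt N116758 (iv3 F501669)) (tt N121367 (iv4 F525989)) (tt N72510 (iv5 D210587)) (tt N116757 F501667) (tt N120066 (iv7 F518861)))
theorem Q107375 : ∀ i, i < 107375 → P i := stepQ 107374 Q107374 (allL N107374 (tt N121495 (iv1 F526688)) (tt N72511 (iv0 D210588)) (tt N120354 (iv2 F520338)) (tt N116815 (iv3 F501979)) (tt N120135 (iv4 F519247)) (tt N101184 F458141) (tt N101185 F458142) (tt N120133 (iv7 F519238)))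
theorem Q107376 : ∀ i, i < 107376 → P i := stepQ 107375 Q107375 (allL N107375 (tt N72511 (iv1 D210589)) (tt N121495 F526687) (tt N120133 (iv2 F519235)) (tt N110533 (iv3 F472027)) (tt N110097 F469971) (tt N108030 (iv5 F460813)) (tt N110096 (iv6 F469972)) (tt N120354 (iv7 F520340)))
theorem Q107377 : ∀ i, i < 107377 → P i := stepQ 107376 Q107376 (allL N107376 (tt N120127 (iv1 F519203)) (tt N82736 (iv0 F483505)) (tt N113485 (iv2 F485714)) (tt N111916 F478630) (tt N72511 (iv4 D210590)) (tt N113215 (iv5 F484520)) (tt N113000 F483504) (tt N113483 (iv7 F485703)))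
theorem Q107378 : ∀ i, i < 107378 → P i := stepQ 107377 Q107377 (allL N107377 (tt N120133 (iv1 F519240)) (tt N120354 F520342) (tt N121495 (iv2 F526684)) (tt N72522 F458143) (tt N113483 (iv4 F485704)) (tt N72512 F458144) (tt N121498 D224757) (tt N72511 (iv7 D210591)))
theorem Q107379 : ∀ i, i < 107379 → P i := stepQ 107378 Q107378 (allL N107378 (tt N98349 (iv1 F458150)) (tt N98417 (iv0 F458149)) (tt N98429 F458145) (tt N72513 (iv3 D210592)) (tt N86216 F458146) (tt N120444 (iv5 F520814)) (tt N106171 F458147) (tt N86214 F458148))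
theorem Q107380 : ∀ i, i < 107380 → P i := stepQ 107379 Q107379 (allL N107379 (tt N119963 (iv1 F518287)) (tt N72515 (iv0 D210593)) (tt N101387 (iv2 F458153)) (tt N121499 D224758) (tt N121500 D224759) (tt N101063 F458151) (tt N105076 F458152) (tt N101285 (iv7 F458154)))
theorem Q107381 : ∀ i, i < 107381 → P i := stepQ 107380 Q107380 (allL N107380 (tt N72515 (iv1 D210594)) (tt N119963 F518286) (tt N101285 F458158) (tt N110074 (iv3 F469858)) (tt N100879 F469859) (tt N101064 F458156) (tt N100586 (iv6 F458157)) (tt N101387 F458155))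
theorem Q107382 : ∀ i, i < 107382 → P i := stepQ 107381 Q107381 (allL N107381 (tt N120488 (iv1 F521035)) (tt N119969 (iv0 F518317)) (tt N119962 (iv2 F518279)) (tt N121501 D224760) (tt N72515 (iv4 D210595)) (tt N121502 D224761) (tt N72521 F458159) (tt N121503 D224762))
theorem Q107383 : ∀ i, i < 107383 → P i := stepQ 107382 Q107382 (allL N107382 (tt N101285 (iv1 F458161)) (tt N101387 F458162) (tt N119963 (iv2 F518282)) (tt N117181 F503797) (tt N121503 (iv4 F526728)) (tt N72516 F458160) (tt N112972 (iv6 F483406)) (tt N72515 (iv7 D210596)))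
theorem Q107384 : ∀ i, i < 107384 → P i := stepQ 107383 Q107383 (allL N107383 (tt N95930 F458165) (tt N109319 F466369) (tt N72517 (iv2 D210597)) (tt N119965 (iv3 F518293)) (tt N100406 F458163) (tt N110330 (iv5 F471082)) (tt N86253 F458164) (tt N110325 (iv7 F471062)))
theorem Q107385 : ∀ i, i < 107385 → P i := stepQ 107384 Q107384 (allL N107384 (tt N116551 (iv1 F500725)) (tt N108021 (iv0 F460772)) (tt N119967 (iv2 F518304)) (tt N101280 F458166) (tt N72518 (iv4 D210598)) (tt N105245 F458167) (tt N121504 D224763) (tt N118431 (iv7 F510318)))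
theorem Q107386 : ∀ i, i < 107386 → P i := stepQ 107385 Q107385 (allL N107385 (tt N100626 F458170) (tt N111955 F478849) (tt N111954 (iv2 F478843)) (tt N115130 (iv3 F493633)) (tt N121504 (iv4 F526733)) (tt N105460 F458168) (tt N72518 (iv6 D210599)) (tt N101281 F458169))
theorem Q107387 : ∀ i, i < 107387 → P i := stepQ 107386 Q107386 (allL N107386 (tt N121088 F524457) (tt N121089 (iv0 F524461)) (tt N112919 (iv2 F483275)) (tt N72519 (iv3 D210600)) (tt N121505 D224764) (tt N101118 F458171) (tt N100590 F458172) (tt N119968 (iv7 F518313)))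
theorem Q107388 : ∀ i, i < 107388 → P i := stepQ 107387 Q107387 (allL N107387 (tt N105248 F458175) (tt N99397 F458176) (tt N100880 F458173) (tt N120312 F520153) (tt N72519 (iv4 D210601)) (tt N111965 (iv5 F478883)) (tt N80513 F458174) (tt N107447 (iv7 F458367)))
theorem Q107389 : ∀ i, i < 107389 → P i := stepQ 107388 Q107388 (allL N107388 (tt N110067 (iv1 F469820)) (tt N110157 F470214) (tt N86381 F458180) (tt N72520 (iv3 D210602)) (tt N101228 (iv4 F458179)) (tt N83213 F458177) (tt N105180 F458181) (tt N86383 F458178))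
theorem Q107390 : ∀ i, i < 107390 → P i := stepQ 107389 Q107389 (allL N107389 (tt N99397 F458184) (tt N105248 F458185) (tt N107447 F458369) (tt N100991 F458182) (tt N72520 (iv4 D210603)) (tt N111966 (iv5 F478888)) (tt N105195 (iv6 F458186)) (tt N100880 F458183))
theorem Q107391 : ∀ i, i < 107391 → P i := stepQ 107390 Q107390 (allL N107390 (tt N112756 (iv1 F482509)) (tt N105192 (iv0 F458191)) (tt N112797 (iv2 F482657)) (tt N105180 F458187) (tt N105195 F458188) (tt N101647 F458189) (tt N72520 (iv6 D210604)) (tt N80521 F458190))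
theorem Q107392 : ∀ i, i < 107392 → P i := stepQ 107391 Q107391 (allL N107391 (tt N113999 F488133) (tt N112789 (iv0 F519204)) (tt N120302 (iv2 F520108)) (tt N72521 (iv3 D210605)) (tt N111916 (iv4 F478629)) (tt N111968 F478900) (tt N121501 (iv6 F526721)) (tt N120303 (iv7 F520113)))
theorem Q107393 : ∀ i, i < 107393 → P i := stepQ 107392 Q107392 (allL N107392 (tt N112970 F483402) (tt N90892 F483403) (tt N110885 (iv2 F473604)) (tt N121498 (iv3 F526702)) (tt N121102 (iv4 F524519)) (tt N113199 (iv5 F484440)) (tt N72522 (iv6 D210606)) (tt N112972 F483408))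
theorem Q107394 : ∀ i, i < 107394 → P i := stepQ 107393 Q107393 (allL N107393 (tt N84419 F458196) (tt N89537 (iv0 F458197)) (tt N89536 F458192) (tt N72524 F458193) (tt N80508 F458195) (tt N72523 (iv5 D210607)) (tt N112779 (iv6 F482610)) (tt N89535 F458194))
theorem Q107395 : ∀ i, i < 107395 → P i := stepQ 107394 Q107394 (allL N107394 (tt N110877 (iv1 F473564)) (tt N110876 F473563) (tt N110879 (iv2 F473573)) (tt N80509 F458198) (tt N72524 (iv4 D210608)) (tt N104106 F458200) (tt N112780 (iv6 F482613)) (tt N96264 F458199))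
theorem Q107396 : ∀ i, i < 107396 → P i := stepQ 107395 Q107395 (allL N107395 (tt N107997 (iv1 F460649)) (tt N107953 F460456) (tt N72534 F458201) (tt N113085 (iv3 F483911)) (tt N72530 (iv4 D210609)) (tt N113084 F483908) (tt N113223 (iv6 F484564)) (tt N107995 (iv7 F460641)))
theorem Q107397 : ∀ i, i < 107397 → P i := stepQ 107396 Q107396 (allL N107396 (tt N98447 (iv1 F458204)) (tt N101470 (iv0 F458203)) (tt N72535 F458202) (tt N108005 (iv3 F460687)) (tt N113223 (iv4 F484567)) (tt N111205 (iv5 F475214)) (tt N72530 (iv6 D210610)) (tt N113229 (iv7 F484603)))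
theorem Q107398 : ∀ i, i < 107398 → P i := stepQ 107397 Q107397 (allL N107397 (tt N72539 F458210) (tt N72531 (iv0 D210611)) (tt N72536 F458209) (tt N121474 (iv3 F526574)) (tt N101631 (iv4 F458207)) (tt N100265 F458206) (tt N100266 F458205) (tt N72537 (iv7 F458208)))
theorem Q107399 : ∀ i, i < 107399 → P i := stepQ 107398 Q107398 (allL N107398 (tt N72531 (iv1 D210612)) (tt N72539 F458211) (tt N72537 F458214) (tt N119983 F518384) (tt N99999 F458215) (tt N113170 (iv5 F484312)) (tt N99998 (iv6 F458213)) (tt N72536 F458212))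
theorem Q107400 : ∀ i, i < 107400 → P i := stepQ 107399 Q107399 (allL N107399 (tt N116530 (iv1 F500634)) (tt N90858 (iv0 F458217)) (tt N72538 F458216) (tt N119977 (iv3 F518352)) (tt N121506 D224765) (tt N72531 (iv5 D210613)) (tt N111205 (iv6 F475213)) (tt N121507 D224766))
theorem Q107401 : ∀ i, i < 107401 → P i := stepQ 107400 Q107400 (allL N107400 (tt N72537 (iv1 F458219)) (tt N72536 F458220) (tt N72539 F458218) (tt N119978 (iv3 F518358)) (tt N108400 F462426) (tt N121507 (iv5 F526751)) (tt N110869 (iv6 F473534)) (tt N72531 (iv7 D210614)))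
theorem Q107402 : ∀ i, i < 107402 → P i := stepQ 107401 Q107401 (allL N107401 (tt N72577 (iv1 F458224)) (tt N107974 F460565) (tt N107965 (iv2 F460507)) (tt N72532 (iv3 D210615)) (tt N88881 F458223) (tt N95907 F458221) (tt N86287 F458222) (tt N107951 (iv7 F460441)))
theorem Q107403 : ∀ i, i < 107403 → P i := stepQ 107402 Q107402 (allL N107402 (tt N114318 (iv1 F489574)) (tt N83147 (iv0 F458227)) (tt N107955 (iv2 F460464)) (tt N88886 F458225) (tt N72532 (iv4 D210616)) (tt N119986 (iv5 F518399)) (tt N88884 F458226) (tt N107952 (iv7 F460447)))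
theorem Q107404 : ∀ i, i < 107404 → P i := stepQ 107403 Q107403 (allL N107403 (tt N83147 F458230) (tt N114318 F489573) (tt N107952 (iv2 F460445)) (tt N107365 F458228) (tt N72533 (iv4 D210617)) (tt N114936 (iv5 F492632)) (tt N106831 (iv6 F458229)) (tt N107955 (iv7 F460466)))
theorem Q107405 : ∀ i, i < 107405 → P i := stepQ 107404 Q107404 (allL N107404 (tt N72534 F458232) (tt N107995 (iv0 F460642)) (tt N107953 (iv2 F460451)) (tt N119873 (iv3 F517810)) (tt N106831 F458231) (tt N109789 (iv5 F468616)) (tt N72533 (iv6 D210618)) (tt N107997 (iv7 F460650)))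
theorem Q107406 : ∀ i, i < 107406 → P i := stepQ 107405 Q107405 (allL N107405 (tt N119227 (iv1 F514478)) (tt N100245 (iv0 F458236)) (tt N113084 (iv2 F483905)) (tt N83913 F458233) (tt N76240 F458235) (tt N72534 (iv5 D210619)) (tt N83912 F458234) (tt N107998 (iv7 F460655)))
theorem Q107407 : ∀ i, i < 107407 → P i := stepQ 107406 Q107406 (allL N107406 (tt N111207 F475225) (tt N100272 (iv0 F458239)) (tt N111205 F475215) (tt N72542 F458237) (tt N111206 F475220) (tt N72535 (iv5 D210620)) (tt N72538 F458238) (tt N111206 (iv7 F475217)))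
theorem Q107408 : ∀ i, i < 107408 → P i := stepQ 107407 Q107407 (allL N107407 (tt N101470 (iv1 F458242)) (tt N98447 F458243) (tt N113229 (iv2 F484600)) (tt N72543 F458240) (tt N89035 F458241) (tt N111206 (iv5 F475218)) (tt N108000 (iv6 F460665)) (tt N72535 (iv7 D210621)))
theorem Q107409 : ∀ i, i < 107409 → P i := stepQ 107408 Q107408 (allL N107408 (tt N119984 F518391) (tt N119982 (iv0 F518378)) (tt N117082 (iv2 F503281)) (tt N72536 (iv3 D210622)) (tt N116460 (iv4 F500247)) (tt N121508 D224767) (tt N112352 F480711) (tt N119983 (iv7 F518381)))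
theorem Q107410 : ∀ i, i < 107410 → P i := stepQ 107409 Q107409 (allL N107409 (tt N108395 (iv1 F462398)) (tt N108394 F462396) (tt N101631 F458244) (tt N113747 (iv3 F486937)) (tt N72536 (iv4 D210623)) (tt N112758 (iv5 F482515)) (tt N101630 (iv6 F458246)) (tt N99999 F458245))
theorem Q107411 : ∀ i, i < 107411 → P i := stepQ 107410 Q107410 (allL N107410 (tt N121452 (iv1 F526459)) (tt N112565 (iv0 F481671)) (tt N100265 F458247) (tt N121508 (iv3 F526756)) (tt N113172 (iv4 F484317)) (tt N72536 (iv5 D210624)) (tt N76150 F458248) (tt N113170 (iv7 F484313)))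
theorem Q107412 : ∀ i, i < 107412 → P i := stepQ 107411 Q107411 (allL N107411 (tt N106907 (iv1 F458253)) (tt N108464 (iv0 F462699)) (tt N100266 F458249) (tt N112352 (iv3 F480707)) (tt N101630 F458250) (tt N76151 F458251) (tt N72536 (iv6 D210625)) (tt N99462 F458252))
theorem Q107413 : ∀ i, i < 107413 → P i := stepQ 107412 Q107412 (allL N107412 (tt N119871 F517802) (tt N121476 F526586) (tt N121475 (iv2 F526581)) (tt N72537 (iv3 D210626)) (tt N119865 (iv4 F517767)) (tt N121509 D224768) (tt N107038 F458254) (tt N121474 F526577))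
theorem Q107414 : ∀ i, i < 107414 → P i := stepQ 107413 Q107413 (allL N107413 (tt N112565 (iv1 F481672)) (tt N121452 (iv0 F526458)) (tt N113170 (iv2 F484309)) (tt N121509 (iv3 F526762)) (tt N88388 (iv4 F458257)) (tt N72537 (iv5 D210627)) (tt N88387 F458255) (tt N100265 F458256))
theorem Q107415 : ∀ i, i < 107415 → P i := stepQ 107414 Q107414 (allL N107414 (tt N121507 (iv1 F526754)) (tt N72538 (iv0 D210628)) (tt N116530 (iv2 F500629)) (tt N90861 F458258) (tt N113474 (iv4 F485654)) (tt N107186 (iv5 F458261)) (tt N100277 (iv6 F458259)) (tt N90858 (iv7 F458260)))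
theorem Q107416 : ∀ i, i < 107416 → P i := stepQ 107415 Q107415 (allL N107415 (tt N72538 (iv1 D210629)) (tt N121507 F526753) (tt N90858 F458265) (tt N116533 (iv3 F500646)) (tt N110364 (iv4 F471246)) (tt N107175 (iv5 F458264)) (tt N90856 (iv6 F458263)) (tt N116530 (iv7 F500632)))
theorem Q107417 : ∀ i, i < 107417 → P i := stepQ 107416 Q107416 (allL N107416 (tt N113176 F484334) (tt N112516 (iv0 F481461)) (tt N121506 (iv2 F526741)) (tt N112526 F481511) (tt N72538 (iv4 D210630)) (tt N121510 D224769) (tt N111206 (iv6 F475221)) (tt N112592 (iv7 F481745)))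
theorem Q107418 : ∀ i, i < 107418 → P i := stepQ 107417 Q107417 (allL N107417 (tt N90858 (iv1 F458268)) (tt N116530 (iv0 F500633)) (tt N121507 (iv2 F526748)) (tt N72546 F458266) (tt N112592 F481746) (tt N72539 F458267) (tt N112592 (iv6 F481744)) (tt N72538 (iv7 D210631)))
theorem Q107419 : ∀ i, i < 107419 → P i := stepQ 107418 Q107418 (allL N107418 (tt N76682 F458271) (tt N107947 F460424) (tt N89800 F458273) (tt N72540 (iv3 D210632)) (tt N77115 F458269) (tt N112348 (iv5 F480689)) (tt N89055 (iv6 F458272)) (tt N89727 F458270))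
theorem Q107420 : ∀ i, i < 107420 → P i := stepQ 107419 Q107419 (allL N107419 (tt N99517 (iv1 F458278)) (tt N89037 F458279) (tt N100978 F458274) (tt N89055 F458275) (tt N119158 (iv4 F514100)) (tt N79393 F458276) (tt N72540 (iv6 D210633)) (tt N79392 F458277))
theorem Q107421 : ∀ i, i < 107421 → P i := stepQ 107420 Q107420 (allL N107420 (tt N72571 F458281) (tt N107981 F460585) (tt N107979 (iv2 F460575)) (tt N72541 (iv3 D210634)) (tt N116727 (iv4 F501522)) (tt N110427 (iv5 F471531)) (tt N82296 F458280) (tt N107978 F460578))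
theorem Q107422 : ∀ i, i < 107422 → P i := stepQ 107421 Q107421 (allL N107421 (tt N108013 (iv1 F460730)) (tt N72542 (iv0 D210635)) (tt N108010 F460714) (tt N89808 (iv3 F458283)) (tt N120234 (iv4 F519738)) (tt N89807 F458282) (tt N118970 (iv6 F513040)) (tt N108011 (iv7 F460719)))
theorem Q107423 : ∀ i, i < 107423 → P i := stepQ 107422 Q107422 (allL N107422 (tt N72542 (iv1 D210636)) (tt N108013 F460729) (tt N108011 F460722) (tt N121511 D224770) (tt N121485 (iv4 F526634)) (tt N119035 (iv5 F513404)) (tt N101506 (iv6 F458284)) (tt N108010 F460717))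
theorem Q107424 : ∀ i, i < 107424 → P i := stepQ 107423 Q107423 (allL N107423 (tt N119824 F517561) (tt N109836 F469554) (tt N108012 (iv2 F460723)) (tt N121512 D224771) (tt N72542 (iv4 D210637)) (tt N121513 D224772) (tt N72545 F458285) (tt N121512 (iv7 F526783)))
theorem Q107425 : ∀ i, i < 107425 → P i := stepQ 107424 Q107424 (allL N107424 (tt N108011 (iv1 F460718)) (tt N108010 F460715) (tt N108013 (iv2 F460725)) (tt N111206 F475219) (tt N121512 (iv4 F526778)) (tt N72543 F458286) (tt N112526 (iv6 F481507)) (tt N72542 (iv7 D210638)))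
theorem Q107426 : ∀ i, i < 107426 → P i := stepQ 107425 Q107425 (allL N107425 (tt N107196 (iv1 F458291)) (tt N72545 (iv0 D210639)) (tt N107334 (iv2 F458288)) (tt N121514 D224773) (tt N95013 F458287) (tt N94982 F458289) (tt N112520 (iv6 F481487)) (tt N96276 F458290))
theorem Q107427 : ∀ i, i < 107427 → P i := stepQ 107426 Q107426 (allL N107426 (tt N112602 F481836) (tt N83388 (iv0 F458292)) (tt N112590 (iv2 F481740)) (tt N72545 (iv3 D210640)) (tt N112526 (iv4 F481512)) (tt N90344 F458302) (tt N121512 (iv6 F526779)) (tt N112593 (iv7 F481749)))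
theorem Q107428 : ∀ i, i < 107428 → P i := stepQ 107427 Q107427 (allL N107427 (tt N94986 F458295) (tt N94984 F458294) (tt N118760 (iv2 F511931)) (tt N90344 (iv3 F458299)) (tt N72916 F458293) (tt N72545 (iv5 D210641)) (tt N90342 (iv6 F458300)) (tt N72915 (iv7 F458301)))
theorem Q107429 : ∀ i, i < 107429 → P i := stepQ 107428 Q107428 (allL N107428 (tt N96276 (iv1 F458306)) (tt N107334 F458307) (tt N107196 F458303) (tt N112593 (iv3 F481747)) (tt N72546 F458304) (tt N72915 F458305) (tt N112593 (iv6 F481748)) (tt N72545 (iv7 D210642)))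
theorem Q107430 : ∀ i, i < 107430 → P i := stepQ 107429 Q107429 (allL N107429 (tt N89068 (iv1 F458313)) (tt N89067 (iv0 F458310)) (tt N86352 F458308) (tt N107885 (iv3 F460117)) (tt N72549 F458309) (tt N90112 (iv5 F458311)) (tt N72548 (iv6 D210643)) (tt N90032 F458312))
theorem Q107431 : ∀ i, i < 107431 → P i := stepQ 107430 Q107430 (allL N107430 (tt N72553 (iv1 D210644)) (tt N72559 F458314) (tt N72557 (iv2 F458316)) (tt N121479 F526603) (tt N115996 (iv4 F497961)) (tt N88548 (iv5 F458317)) (tt N119087 (iv6 F513722)) (tt N72556 F458315))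
theorem Q107432 : ∀ i, i < 107432 → P i := stepQ 107431 Q107431 (allL N107431 (tt N112169 F479870) (tt N82733 F458319) (tt N72558 F458318) (tt N119971 (iv3 F518324)) (tt N113951 (iv4 F487935)) (tt N72553 (iv5 D210645)) (tt N121021 (iv6 F524062)) (tt N116160 (iv7 F498806)))
theorem Q107433 : ∀ i, i < 107433 → P i := stepQ 107432 Q107432 (allL N107432 (tt N72557 (iv1 F458321)) (tt N72556 F458322) (tt N72559 F458320) (tt N110869 (iv3 F473532)) (tt N108844 (iv4 F464229)) (tt N116160 (iv5 F498801)) (tt N119978 (iv6 F518361)) (tt N72553 (iv7 D210646)))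
theorem Q107434 : ∀ i, i < 107434 → P i := stepQ 107433 Q107433 (allL N107433 (tt N98317 (iv1 F458328)) (tt N98383 (iv0 F458327)) (tt N118812 (iv2 F512198)) (tt N72554 (iv3 D210647)) (tt N100320 F458326) (tt N95966 F458323) (tt N89775 F458324) (tt N95964 F458325))
theorem Q107435 : ∀ i, i < 107435 → P i := stepQ 107434 Q107434 (allL N107434 (tt N98053 F458331) (tt N119065 (iv0 F513595)) (tt N95975 F458329) (tt N109170 F465664) (tt N72554 (iv4 D210648)) (tt N118997 (iv5 F513189)) (tt N109218 F465826) (tt N95968 F458330))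
theorem Q107436 : ∀ i, i < 107436 → P i := stepQ 107435 Q107435 (allL N107435 (tt N106847 (iv1 F458335)) (tt N72555 (iv0 D210649)) (tt N96142 (iv2 F458334)) (tt N118700 (iv3 F511613)) (tt N96123 F458333) (tt N107007 F458332) (tt N114660 (iv6 F491249)) (tt N96121 F458336))
theorem Q107437 : ∀ i, i < 107437 → P i := stepQ 107436 Q107436 (allL N107436 (tt N121481 (iv1 F526615)) (tt N121477 (iv0 F526592)) (tt N121478 F526598) (tt N72556 (iv3 D210650)) (tt N121313 (iv4 F525703)) (tt N112980 F483427) (tt N109222 F465842) (tt N121479 (iv7 F526600)))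
theorem Q107438 : ∀ i, i < 107438 → P i := stepQ 107437 Q107437 (allL N107437 (tt N117617 (iv1 F506023)) (tt N93888 (iv0 F458340)) (tt N108887 F464373) (tt N100750 (iv3 F458339)) (tt N72556 (iv4 D210651)) (tt N100746 F458338) (tt N100748 F458337) (tt N115996 (iv7 F497962)))
theorem Q107439 : ∀ i, i < 107439 → P i := stepQ 107438 Q107438 (allL N107438 (tt N102760 (iv1 F458346)) (tt N83318 (iv0 F458345)) (tt N112165 (iv2 F479845)) (tt N72557 (iv3 D210652)) (tt N79448 F458343) (tt N110150 (iv5 F470187)) (tt N91721 (iv6 F458347)) (tt N112166 (iv7 F479853)))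
theorem Q107440 : ∀ i, i < 107440 → P i := stepQ 107439 Q107439 (allL N107439 (tt N93888 F458344) (tt N117617 (iv0 F506022)) (tt N115996 (iv2 F497960)) (tt N79449 (iv3 F458342)) (tt N72557 (iv4 D210653)) (tt N88071 F458341) (tt N121408 F526195) (tt N108887 (iv7 F464371)))
theorem Q107441 : ∀ i, i < 107441 → P i := stepQ 107440 Q107440 (allL N107440 (tt N110874 F473554) (tt N113556 F486017) (tt N88548 F458349) (tt N110150 (iv3 F470185)) (tt N88533 F458350) (tt N72557 (iv5 D210654)) (tt N112751 (iv6 F482491)) (tt N88550 F458351))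
theorem Q107442 : ∀ i, i < 107442 → P i := stepQ 107441 Q107441 (allL N107441 (tt N113597 (iv1 F486227)) (tt N115974 (iv0 F497858)) (tt N113951 (iv2 F487930)) (tt N82680 F458353) (tt N72558 (iv4 D210655)) (tt N90889 F458352) (tt N105185 (iv6 F458354)) (tt N113996 (iv7 F488115)))
theorem Q107443 : ∀ i, i < 107443 → P i := stepQ 107442 Q107442 (allL N107442 (tt N82733 (iv1 F458358)) (tt N112169 (iv0 F479869)) (tt N116160 F498804) (tt N72566 F458356) (tt N113996 (iv4 F488116)) (tt N72559 F458357) (tt N121515 D224774) (tt N72558 (iv7 D210656)))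
theorem Q107444 : ∀ i, i < 107444 → P i := stepQ 107443 Q107443 (allL N107443 (tt N107973 (iv1 F460560)) (tt N72580 F460550) (tt N107971 F460548) (tt N72560 (iv3 D210657)) (tt N121141 (iv4 F524742)) (tt N121516 D224775) (tt N111131 (iv6 F474840)) (tt N89683 F458359))
theorem Q107445 : ∀ i, i < 107445 → P i := stepQ 107444 Q107444 (allL N107444 (tt N101079 F458362) (tt N101491 (iv0 F458363)) (tt N101489 F458360) (tt N121516 (iv3 F526805)) (tt N120446 (iv4 F520823)) (tt N72560 (iv5 D210658)) (tt N120293 (iv6 F520074)) (tt N88591 F458361))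
theorem Q107446 : ∀ i, i < 107446 → P i := stepQ 107445 Q107445 (allL N107445 (tt N111967 F478894) (tt N120310 F520150) (tt N108003 (iv2 F460678)) (tt N105186 F458364) (tt N72562 (iv4 D210659)) (tt N121517 D224776) (tt N72565 F458365) (tt N120309 (iv7 F520143)))
theorem Q107447 : ∀ i, i < 107447 → P i := stepQ 107446 Q107446 (allL N107446 (tt N108002 (iv1 F460673)) (tt N108001 (iv0 F460672)) (tt N108004 (iv2 F460682)) (tt N121020 (iv3 F524053)) (tt N120309 (iv4 F520144)) (tt N72563 F458366) (tt N112591 (iv6 F481741)) (tt N72562 (iv7 D210660)))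
theorem Q107448 : ∀ i, i < 107448 → P i := stepQ 107447 Q107447 (allL N107447 (tt N72565 (iv1 D210661)) (tt N110871 (iv0 F473544)) (tt N107389 (iv2 F458369)) (tt N121517 (iv3 F526811)) (tt N99387 F458368) (tt N105186 (iv5 F458370)) (tt N120316 (iv6 F520164)) (tt N107387 F458367))
theorem Q107449 : ∀ i, i < 107449 → P i := stepQ 107448 Q107448 (allL N107448 (tt N100854 F458373) (tt N100856 (iv0 F458374)) (tt N113998 (iv2 F488126)) (tt N72565 (iv3 D210662)) (tt N82680 F458371) (tt N120368 (iv5 F520408)) (tt N105186 F458372) (tt N113997 (iv7 F488122)))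
theorem Q107450 : ∀ i, i < 107450 → P i := stepQ 107449 Q107449 (allL N107449 (tt N88593 F458376) (tt N117378 F504742) (tt N110872 (iv2 F473546)) (tt N121515 (iv3 F526798)) (tt N121106 (iv4 F524542)) (tt N107197 F458375) (tt N72566 (iv6 D210663)) (tt N112591 (iv7 F481742)))
theorem Q107451 : ∀ i, i < 107451 → P i := stepQ 107450 Q107450 (allL N107450 (tt N107744 (iv1 F459515)) (tt N95973 F458379) (tt N72568 F458377) (tt N107974 (iv3 F460561)) (tt N107914 (iv4 F460258)) (tt N72567 (iv5 D210664)) (tt N114634 F491117) (tt N102759 F458378))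
theorem Q107452 : ∀ i, i < 107452 → P i := stepQ 107451 Q107451 (allL N107451 (tt N83317 F458383) (tt N83316 (iv0 F458385)) (tt N72569 F458380) (tt N119982 (iv3 F518375)) (tt N75312 F458381) (tt N77156 F458382) (tt N72567 (iv6 D210665)) (tt N75443 F458384))
theorem Q107453 : ∀ i, i < 107453 → P i := stepQ 107452 Q107452 (allL N107452 (tt N113253 F484720) (tt N101764 (iv0 F458389)) (tt N114634 (iv2 F491118)) (tt N72571 F458386) (tt N98248 F458387) (tt N77381 F458388) (tt N72568 (iv6 D210666)) (tt N83452 (iv7 F458390)))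
theorem Q107454 : ∀ i, i < 107454 → P i := stepQ 107453 Q107453 (allL N107453 (tt N75443 (iv1 F458392)) (tt N72569 (iv0 D210667)) (tt N83317 F458394) (tt N106795 F458395) (tt N109256 (iv4 F466028)) (tt N77391 F458391) (tt N91719 (iv6 F458393)) (tt N83316 (iv7 F458396)))
theorem Q107455 : ∀ i, i < 107455 → P i := stepQ 107454 Q107454 (allL N107454 (tt N72569 (iv1 D210668)) (tt N75443 F458397) (tt N83316 (iv2 F458400)) (tt N121518 D224777) (tt N109271 (iv4 F466107)) (tt N77392 F458399) (tt N113155 (iv6 F484239)) (tt N83317 F458398))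
theorem Q107456 : ∀ i, i < 107456 → P i := stepQ 107455 Q107455 (allL N107455 (tt N113544 F485963) (tt N88864 (iv0 F458402)) (tt N107977 (iv2 F460571)) (tt N118968 (iv3 F513026)) (tt N72571 F458401) (tt N121169 (iv5 F524912)) (tt N72570 (iv6 D210669)) (tt N120262 (iv7 F519883)))
theorem Q107457 : ∀ i, i < 107457 → P i := stepQ 107456 Q107456 (allL N107456 (tt N107981 (iv1 F460586)) (tt N72571 (iv0 D210670)) (tt N107978 F460577) (tt N89800 (iv3 F458404)) (tt N120173 F519427) (tt N116743 (iv5 F501597)) (tt N89691 F458403) (tt N107979 (iv7 F460576)))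
theorem Q107458 : ∀ i, i < 107458 → P i := stepQ 107457 Q107457 (allL N107457 (tt N121519 D224778) (tt N121511 (iv0 F526776)) (tt N107980 (iv2 F460581)) (tt N77381 F458405) (tt N114889 (iv4 F492367)) (tt N72571 (iv5 D210671)) (tt N72573 F458406) (tt N83448 (iv7 F458407)))
theorem Q107459 : ∀ i, i < 107459 → P i := stepQ 107458 Q107458 (allL N107458 (tt N107979 (iv1 F460573)) (tt N107978 F460580) (tt N107981 (iv2 F460583)) (tt N83452 F458408) (tt N120262 (iv4 F519881)) (tt N83448 F458409) (tt N107973 (iv6 F460558)) (tt N72571 (iv7 D210672)))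
theorem Q107460 : ∀ i, i < 107460 → P i := stepQ 107459 Q107459 (allL N107459 (tt N117397 F504828) (tt N77393 F458410) (tt N108683 (iv2 F463532)) (tt N113468 F485625) (tt N120188 (iv4 F519503)) (tt N72572 (iv5 D210673)) (tt N116428 (iv6 F500053)) (tt N117730 (iv7 F506671)))
theorem Q107461 : ∀ i, i < 107461 → P i := stepQ 107460 Q107460 (allL N107460 (tt N72594 F458415) (tt N77680 F458416) (tt N77678 F458411) (tt N89019 F458412) (tt N72773 F458413) (tt N110323 (iv5 F471047)) (tt N72572 (iv6 D210674)) (tt N77677 F458414))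
theorem Q107462 : ∀ i, i < 107462 → P i := stepQ 107461 Q107461 (allL N107461 (tt N113264 F484774) (tt N72586 F458422) (tt N113243 (iv2 F484676)) (tt N89789 F458419) (tt N91176 F458420) (tt N72575 (iv5 D210675)) (tt N89677 F458421) (tt N119229 (iv7 F514489)))
theorem Q107463 : ∀ i, i < 107463 → P i := stepQ 107462 Q107462 (allL N107462 (tt N107951 (iv1 F460444)) (tt N107965 F460513) (tt N72577 F458423) (tt N102759 F458424) (tt N113848 (iv4 F487433)) (tt N72576 (iv5 D210676)) (tt N117588 (iv6 F505861)) (tt N107974 (iv7 F460563)))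
theorem Q107464 : ∀ i, i < 107464 → P i := stepQ 107463 Q107463 (allL N107463 (tt N117196 (iv1 F503865)) (tt N117191 (iv0 F503840)) (tt N72578 F458425) (tt N102760 F458426) (tt N104885 F458427) (tt N120402 (iv5 F520595)) (tt N72576 (iv6 D210677)) (tt N117195 (iv7 F503854)))
theorem Q107465 : ∀ i, i < 107465 → P i := stepQ 107464 Q107464 (allL N107464 (tt N107974 (iv1 F460564)) (tt N72577 (iv0 D210678)) (tt N107951 (iv2 F460439)) (tt N104067 F458429) (tt N113105 (iv4 F483993)) (tt N99506 F458428) (tt N113250 F484707) (tt N107965 (iv7 F460509)))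
theorem Q107466 : ∀ i, i < 107466 → P i := stepQ 107465 Q107465 (allL N107465 (tt N121299 F525625) (tt N113245 (iv0 F484687)) (tt N117588 (iv2 F505859)) (tt N72580 F458430) (tt N114780 (iv4 F491817)) (tt N113943 F487899) (tt N72577 (iv6 D210679)) (tt N121300 (iv7 F525632)))
theorem Q107467 : ∀ i, i < 107467 → P i := stepQ 107466 Q107466 (allL N107466 (tt N117195 (iv1 F503853)) (tt N72578 (iv0 D210680)) (tt N117196 (iv2 F503859)) (tt N121520 D224779) (tt N74147 F473595) (tt N114068 (iv5 F488425)) (tt N103954 F473596) (tt N117191 (iv7 F503837)))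
theorem Q107468 : ∀ i, i < 107468 → P i := stepQ 107467 Q107467 (allL N107467 (tt N121521 D224780) (tt N121522 D224781) (tt N120402 (iv2 F520594)) (tt N72582 F458431) (tt N113944 (iv4 F487902)) (tt N72578 (iv5 D210681)) (tt N113943 (iv6 F487901)) (tt N121523 D224782))
theorem Q107469 : ∀ i, i < 107469 → P i := stepQ 107468 Q107468 (allL N107468 (tt N117191 F503839) (tt N117196 F503864) (tt N117195 (iv2 F503858)) (tt N72583 F458432) (tt N110975 (iv4 F474032)) (tt N121523 (iv5 F526844)) (tt N119984 (iv6 F518390)) (tt N72578 (iv7 D210682)))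
theorem Q107470 : ∀ i, i < 107470 → P i := stepQ 107469 Q107469 (allL N107469 (tt N119225 (iv1 F514464)) (tt N89674 F458435) (tt N107969 (iv2 F460532)) (tt N88978 F458433) (tt N72817 F458434) (tt N72579 (iv5 D210683)) (tt N119231 (iv6 F514502)) (tt N107976 (iv7 F460569)))
theorem Q107471 : ∀ i, i < 107471 → P i := stepQ 107470 Q107470 (allL N107470 (tt N119549 F516190) (tt N121161 F524866) (tt N107970 (iv2 F460538)) (tt N88979 F458436) (tt N72580 F458437) (tt N116478 F500347) (tt N72579 (iv6 D210684)) (tt N117312 (iv7 F504410)))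
theorem Q107472 : ∀ i, i < 107472 → P i := stepQ 107471 Q107471 (allL N107471 (tt N72580 (iv1 D210686)) (tt N107973 F460559) (tt N89683 F458440) (tt N84437 F458441) (tt N106263 (iv4 F458438)) (tt N84431 F458442) (tt N84432 (iv6 F458439)) (tt N107971 (iv7 F460549)))
theorem Q107473 : ∀ i, i < 107473 → P i := stepQ 107472 Q107472 (allL N107472 (tt N120486 F521025) (tt N108430 (iv0 F473513)) (tt N107972 (iv2 F460553)) (tt N113943 (iv3 F487900)) (tt N121524 D224783) (tt N72580 (iv5 D210687)) (tt N72582 F458443) (tt N121525 D224784))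
theorem Q107474 : ∀ i, i < 107474 → P i := stepQ 107473 Q107473 (allL N107473 (tt N89683 (iv1 F458444)) (tt N107971 F460552) (tt N107973 (iv2 F460556)) (tt N121300 (iv3 F525629)) (tt N117312 F504414) (tt N121525 (iv5 F526853)) (tt N107981 (iv6 F460584)) (tt N72580 (iv7 D210688)))
theorem Q107475 : ∀ i, i < 107475 → P i := stepQ 107474 Q107474 (allL N107474 (tt N109687 (iv1 F468111)) (tt N110532 F472024) (tt N108731 (iv2 F463739)) (tt N89536 F458445) (tt N88574 F458446) (tt N72581 (iv5 D210689)) (tt N114496 (iv6 F490463)) (tt N110530 (iv7 F472018)))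
theorem Q107476 : ∀ i, i < 107476 → P i := stepQ 107475 Q107475 (allL N107475 (tt N72582 (iv1 D210690)) (tt N83447 F458447) (tt N108456 (iv2 F462660)) (tt N114621 (iv3 F491044)) (tt N107043 (iv4 F458449)) (tt N77689 F458448) (tt N121526 D224785) (tt N116568 (iv7 F500778)))
theorem Q107477 : ∀ i, i < 107477 → P i := stepQ 107476 Q107476 (allL N107476 (tt N113495 F485767) (tt N121527 D224786) (tt N119981 (iv2 F518369)) (tt N114390 (iv3 F489928)) (tt N72582 (iv4 D210691)) (tt N108346 (iv5 F485768)) (tt N121524 (iv6 F526846)) (tt N121528 D224787))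
theorem Q107478 : ∀ i, i < 107478 → P i := stepQ 107477 Q107477 (allL N107477 (tt N108456 (iv1 F462664)) (tt N116568 (iv0 F500776)) (tt N83447 F458450) (tt N121523 (iv3 F526843)) (tt N121528 (iv4 F526867)) (tt N72583 F458451) (tt N83443 (iv6 F458452)) (tt N72582 (iv7 D210692)))
theorem Q107479 : ∀ i, i < 107479 → P i := stepQ 107478 Q107478 (allL N107478 (tt N95262 F458458) (tt N95259 (iv0 F458459)) (tt N106251 F458453) (tt N72584 (iv3 D210693)) (tt N89831 F458454) (tt N105950 F458455) (tt N89709 F458456) (tt N90434 F458457))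
theorem Q107480 : ∀ i, i < 107480 → P i := stepQ 107479 Q107479 (allL N107479 (tt N113243 F484683) (tt N119229 F514491) (tt N72586 (iv2 D210694)) (tt N85631 F458460) (tt N99897 F458462) (tt N73251 F458461) (tt N98100 (iv6 F458463)) (tt N113264 (iv7 F484771)))
theorem Q107481 : ∀ i, i < 107481 → P i := stepQ 107480 Q107480 (allL N107480 (tt N100607 F458467) (tt N75136 F458468) (tt N99897 F458464) (tt N86348 F458465) (tt N72586 (iv4 D210695)) (tt N91254 F458466) (tt N86347 F458469) (tt N109388 (iv7 F466715)))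
theorem Q107482 : ∀ i, i < 107482 → P i := stepQ 107481 Q107481 (allL N107481 (tt N121529 D224788) (tt N121438 (iv0 F526377)) (tt N98100 F458470) (tt N72588 F458471) (tt N86347 F458472) (tt N98091 F458473) (tt N72586 (iv6 D210696)) (tt N98099 (iv7 F458474)))
theorem Q107483 : ∀ i, i < 107483 → P i := stepQ 107482 Q107482 (allL N107482 (tt N72588 (iv1 D210697)) (tt N110523 (iv0 F471973)) (tt N114676 (iv2 F491321)) (tt N89818 F458477) (tt N107144 (iv4 F458475)) (tt N108432 (iv5 F462531)) (tt N85836 (iv6 F458476)) (tt N108431 F462527))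
theorem Q107484 : ∀ i, i < 107484 → P i := stepQ 107483 Q107483 (allL N107483 (tt N114676 (iv1 F491326)) (tt N108431 (iv0 F462525)) (tt N110523 (iv2 F471968)) (tt N98099 F458478) (tt N88875 F458479) (tt N73861 F458480) (tt N119230 F514496) (tt N72588 (iv7 D210698)))
theorem Q107485 : ∀ i, i < 107485 → P i := stepQ 107484 Q107484 (allL N107484 (tt N101364 F458483) (tt N120917 F523464) (tt N118626 (iv2 F511206)) (tt N72589 (iv3 D210699)) (tt N103675 F458481) (tt N109642 (iv5 F467891)) (tt N94654 F458482) (tt N119985 (iv7 F518394)))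
theorem Q107486 : ∀ i, i < 107486 → P i := stepQ 107485 Q107485 (allL N107485 (tt N73384 F458486) (tt N73264 F458487) (tt N88886 F458484) (tt N109642 (iv3 F467889)) (tt N72810 F458485) (tt N72589 (iv5 D210700)) (tt N85421 (iv6 F458488)) (tt N107609 (iv7 F458938)))
theorem Q107487 : ∀ i, i < 107487 → P i := stepQ 107486 Q107486 (allL N107486 (tt N114739 F491603) (tt N76477 (iv0 F458490)) (tt N114936 (iv2 F492630)) (tt N72590 (iv3 D210701)) (tt N85202 F458489) (tt N107952 (iv5 F460448)) (tt N108366 (iv6 F462275)) (tt N119986 (iv7 F518400)))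
theorem Q107488 : ∀ i, i < 107488 → P i := stepQ 107487 Q107487 (allL N107487 (tt N72819 (iv1 F458493)) (tt N72591 (iv0 D210702)) (tt N107985 (iv2 F460599)) (tt N101363 (iv3 F458494)) (tt N72797 F458492) (tt N72761 F458491) (tt N109894 F469113) (tt N107983 (iv7 F460592)))
theorem Q107489 : ∀ i, i < 107489 → P i := stepQ 107488 Q107488 (allL N107488 (tt N72591 (iv1 D210703)) (tt N72819 F458495) (tt N107983 (iv2 F460590)) (tt N96697 (iv3 F458498)) (tt N72769 F458497) (tt N72790 F458496) (tt N105577 (iv6 F458499)) (tt N107985 (iv7 F460601)))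
theorem Q107490 : ∀ i, i < 107490 → P i := stepQ 107489 Q107489 (allL N107489 (tt N109405 F466798) (tt N114664 (iv0 F491271)) (tt N116316 F499521) (tt N109865 (iv3 F468987)) (tt N119995 (iv4 F518451)) (tt N121530 D224789) (tt N72591 (iv6 D210704)) (tt N116317 (iv7 F499523)))
theorem Q107491 : ∀ i, i < 107491 → P i := stepQ 107490 Q107490 (allL N107490 (tt N89711 (iv1 F458503)) (tt N89710 F458504) (tt N89714 F458500) (tt N119178 (iv3 F514214)) (tt N89626 F458502) (tt N72592 (iv5 D210705)) (tt N121530 (iv6 F526879)) (tt N89658 F458501))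
theorem Q107492 : ∀ i, i < 107492 → P i := stepQ 107491 Q107491 (allL N107491 (tt N112351 (iv1 F480705)) (tt N112352 (iv0 F480710)) (tt N91717 F458505) (tt N72594 F458506) (tt N90529 F458507) (tt N80707 F458508) (tt N72593 (iv6 D210706)) (tt N116203 (iv7 F498993)))
theorem Q107493 : ∀ i, i < 107493 → P i := stepQ 107492 Q107492 (allL N107492 (tt N81844 F458513) (tt N81912 (iv0 F458514)) (tt N81911 F458509) (tt N90689 F458510) (tt N117259 (iv4 F504151)) (tt N72596 (iv5 D210707)) (tt N81881 F458511) (tt N81910 F458512))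
theorem Q107494 : ∀ i, i < 107494 → P i := stepQ 107493 Q107493 (allL N107493 (tt N91501 F458518) (tt N88586 (iv0 F458519)) (tt N115060 (iv2 F493287)) (tt N72602 (iv3 D210708)) (tt N115060 (iv4 F493288)) (tt N89138 F458515) (tt N84351 F458516) (tt N85327 F458517))
theorem Q107495 : ∀ i, i < 107495 → P i := stepQ 107494 Q107494 (allL N107494 (tt N116979 F502798) (tt N119095 (iv0 F513769)) (tt N90926 F458520) (tt N96824 F458521) (tt N72603 (iv4 D210709)) (tt N90926 F458523) (tt N89295 F458522) (tt N108457 (iv7 F462666)))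
theorem Q107496 : ∀ i, i < 107496 → P i := stepQ 107495 Q107495 (allL N107495 (tt N74009 (iv1 F458527)) (tt N72609 (iv0 D210710)) (tt N99339 (iv2 F458526)) (tt N116984 (iv3 F502825)) (tt N74015 F458525) (tt N93365 F458524) (tt N72630 (iv6 F458529)) (tt N99299 F458528))
theorem Q107497 : ∀ i, i < 107497 → P i := stepQ 107496 Q107496 (allL N107496 (tt N116638 (iv1 F501093)) (tt N116641 (iv0 F501105)) (tt N113284 (iv2 F484847)) (tt N72611 F458530) (tt N120147 (iv4 F519296)) (tt N72610 (iv5 D210711)) (tt N108828 (iv6 F464152)) (tt N113286 (iv7 F484857)))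
theorem Q107498 : ∀ i, i < 107498 → P i := stepQ 107497 Q107497 (allL N107497 (tt N117318 F504443) (tt N118809 (iv0 F512184)) (tt N113285 (iv2 F484851)) (tt N72612 F458531) (tt N72618 F458532) (tt N107936 (iv5 F460367)) (tt N72610 (iv6 D210712)) (tt N120738 (iv7 F522440)))
theorem Q107499 : ∀ i, i < 107499 → P i := stepQ 107498 Q107498 (allL N107498 (tt N106437 F458537) (tt N94350 F458538) (tt N100101 F458533) (tt N100114 F458539) (tt N72611 (iv4 D210713)) (tt N102726 F458536) (tt N74505 F458534) (tt N99631 F458535))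
theorem Q107500 : ∀ i, i < 107500 → P i := stepQ 107499 Q107499 (allL N107499 (tt N109041 (iv1 F465061)) (tt N85910 F458545) (tt N72617 F458540) (tt N85908 F458541) (tt N87315 F458544) (tt N72616 (iv5 D210714)) (tt N90637 F458542) (tt N86236 F458543))
theorem Q107501 : ∀ i, i < 107501 → P i := stepQ 107500 Q107500 (allL N107500 (tt N112397 F480928) (tt N112396 F480919) (tt N90637 F458546) (tt N72620 F458547) (tt N87231 F458548) (tt N89174 F458549) (tt N72617 (iv6 D210715)) (tt N112398 (iv7 F480933)))
theorem Q107502 : ∀ i, i < 107502 → P i := stepQ 107501 Q107501 (allL N107501 (tt N116463 F500268) (tt N72618 (iv0 D210716)) (tt N110529 (iv2 F472009)) (tt N89996 F462700) (tt N117075 (iv4 F503252)) (tt N118931 (iv5 F512810)) (tt N105522 (iv6 F462701)) (tt N117096 (iv7 F503354)))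
theorem Q107503 : ∀ i, i < 107503 → P i := stepQ 107502 Q107502 (allL N107502 (tt N72618 (iv1 D210717)) (tt N116463 (iv0 F500267)) (tt N117096 (iv2 F503357)) (tt N109618 (iv3 F467774)) (tt N110582 (iv4 F472232)) (tt N116429 (iv5 F500058)) (tt N117745 (iv6 F506756)) (tt N110529 (iv7 F472011)))
theorem Q107504 : ∀ i, i < 107504 → P i := stepQ 107503 Q107503 (allL N107503 (tt N99616 F458553) (tt N107290 F458554) (tt N90932 F458550) (tt N100403 (iv3 F458555)) (tt N72622 (iv4 D210718)) (tt N90932 F458552) (tt N89298 F458551) (tt N108458 (iv7 F462671)))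
theorem Q107505 : ∀ i, i < 107505 → P i := stepQ 107504 Q107504 (allL N107504 (tt N94431 F458559) (tt N93394 F458560) (tt N107151 F458556) (tt N118829 F512294) (tt N72624 (iv4 D210719)) (tt N80971 F458558) (tt N107763 (iv6 F459619)) (tt N107148 F458557))
theorem Q107506 : ∀ i, i < 107506 → P i := stepQ 107505 Q107505 (allL N107505 (tt N96182 F458565) (tt N89982 (iv0 F458566)) (tt N114544 (iv2 F490698)) (tt N72625 (iv3 D210720)) (tt N86271 (iv4 F458563)) (tt N89875 F458561) (tt N86270 F458564) (tt N107150 F458562))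
theorem Q107507 : ∀ i, i < 107507 → P i := stepQ 107506 Q107506 (allL N107506 (tt N93394 F458571) (tt N94431 F458572) (tt N107148 F458567) (tt N93371 F458568) (tt N72625 (iv4 D210721)) (tt N80276 F458569) (tt N117596 F505910) (tt N107151 F458570))
theorem Q107508 : ∀ i, i < 107508 → P i := stepQ 107507 Q107507 (allL N107507 (tt N78077 F458575) (tt N117039 F503087) (tt N107149 F458573) (tt N86270 F458574) (tt N117596 (iv4 F505909)) (tt N108213 F461518) (tt N72625 (iv6 D210722)) (tt N107768 (iv7 F459642)))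
theorem Q107509 : ∀ i, i < 107509 → P i := stepQ 107508 Q107508 (allL N107508 (tt N95689 (iv1 F458580)) (tt N72629 (iv0 D210723)) (tt N95691 (iv2 F458579)) (tt N114504 (iv3 F490497)) (tt N105590 F458577) (tt N106918 F458576) (tt N95701 F458578) (tt N95673 F458581))
theorem Q107510 : ∀ i, i < 107510 → P i := stepQ 107509 Q107509 (allL N107509 (tt N116611 F500965) (tt N94372 (iv0 F458585)) (tt N116985 (iv2 F502832)) (tt N72630 (iv3 D210724)) (tt N106963 F458582) (tt N107074 (iv5 F458584)) (tt N116984 F502831) (tt N105149 F458583))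
theorem Q107511 : ∀ i, i < 107511 → P i := stepQ 107510 Q107510 (allL N107510 (tt N93277 F458590) (tt N93280 F458591) (tt N99487 F458586) (tt N107074 F458587) (tt N99030 F458588) (tt N72630 (iv5 D210725)) (tt N99028 (iv6 F458592)) (tt N96731 F458589))
theorem Q107512 : ∀ i, i < 107512 → P i := stepQ 107511 Q107511 (allL N107511 (tt N107708 F459324) (tt N94594 (iv0 F458597)) (tt N97714 F458596) (tt N72633 (iv3 D210726)) (tt N97708 F458593) (tt N95796 F458594) (tt N114922 (iv6 F492550)) (tt N97411 F458595))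
theorem Q107513 : ∀ i, i < 107513 → P i := stepQ 107512 Q107512 (allL N107512 (tt N103717 F458601) (tt N121009 F523998) (tt N118653 (iv2 F511362)) (tt N105457 F458598) (tt N72637 (iv4 D210727)) (tt N103711 F458600) (tt N90114 (iv6 F458602)) (tt N105158 F458599))
theorem Q107514 : ∀ i, i < 107514 → P i := stepQ 107513 Q107513 (allL N107513 (tt N93292 F458607) (tt N110034 (iv0 F469654)) (tt N90052 F458603) (tt N72638 F458604) (tt N90114 F458605) (tt N90032 F458606) (tt N72637 (iv6 D210728)) (tt N90112 (iv7 F458608)))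
theorem Q107515 : ∀ i, i < 107515 → P i := stepQ 107514 Q107514 (allL N107514 (tt N72638 (iv1 D210729)) (tt N107155 F458609) (tt N83122 F458613) (tt N114461 F490294) (tt N104101 F458611) (tt N117566 (iv5 F505734)) (tt N73543 (iv6 F458612)) (tt N107154 F458610))
theorem Q107516 : ∀ i, i < 107516 → P i := stepQ 107515 Q107515 (allL N107515 (tt N83122 (iv1 F458618)) (tt N107154 F458619) (tt N107155 F458614) (tt N90112 F458615) (tt N105461 F458616) (tt N107885 (iv5 F460119)) (tt N95689 F458617) (tt N72638 (iv7 D210730)))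
theorem Q107517 : ∀ i, i < 107517 → P i := stepQ 107516 Q107516 (allL N107516 (tt N99310 F458623) (tt N99312 (iv0 F458624)) (tt N107785 F459721) (tt N72639 (iv3 D210731)) (tt N107295 F458620) (tt N90942 F458621) (tt N112527 (iv6 F481520)) (tt N99096 F458622))
theorem Q107518 : ∀ i, i < 107518 → P i := stepQ 107517 Q107517 (allL N107517 (tt N72658 F458630) (tt N98833 (iv0 F458628)) (tt N99103 F458625) (tt N112527 (iv3 F481515)) (tt N107294 F458626) (tt N83390 F458627) (tt N72639 (iv6 D210732)) (tt N112594 (iv7 F481753)))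
theorem Q107519 : ∀ i, i < 107519 → P i := stepQ 107518 Q107518 (allL N107518 (tt N121531 D224790) (tt N116579 (iv0 F500827)) (tt N99270 F458631) (tt N72642 F458632) (tt N96834 F458634) (tt N72641 (iv5 D210733)) (tt N78048 F458633) (tt N110805 (iv7 F473243)))
theorem Q107520 : ∀ i, i < 107520 → P i := stepQ 107519 Q107519 (allL N107519 (tt N73168 F458638) (tt N99045 F458639) (tt N109002 (iv2 F464849)) (tt N96836 F458635) (tt N72642 (iv4 D210734)) (tt N96887 F458637) (tt N81714 F458636) (tt N119248 (iv7 F514614)))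
theorem Q107521 : ∀ i, i < 107521 → P i := stepQ 107520 Q107520 (allL N107520 (tt N99100 (iv1 F458645)) (tt N99203 F458644) (tt N72645 (iv2 D210735)) (tt N74087 F458640) (tt N98908 F458641) (tt N104182 F458642) (tt N76849 F458643) (tt N108083 (iv7 F461038)))
theorem Q107522 : ∀ i, i < 107522 → P i := stepQ 107521 Q107521 (allL N107521 (tt N90995 F458650) (tt N90993 F458651) (tt N72648 F458646) (tt N96073 F458647) (tt N72646 (iv4 D210736)) (tt N95444 F458648) (tt N117541 (iv6 F505612)) (tt N90994 F458649))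
theorem Q107523 : ∀ i, i < 107523 → P i := stepQ 107522 Q107522 (allL N107522 (tt N119940 (iv1 F518147)) (tt N110830 (iv0 F473343)) (tt N72649 F458652) (tt N119727 (iv3 F517128)) (tt N117541 (iv4 F505610)) (tt N121532 D224791) (tt N72646 (iv6 D210737)) (tt N117538 (iv7 F505595)))
theorem Q107524 : ∀ i, i < 107524 → P i := stepQ 107523 Q107523 (allL N107523 (tt N72653 (iv1 F458655)) (tt N72647 (iv0 D210738)) (tt N72650 (iv2 F458656)) (tt N121533 D224792) (tt N72738 F458653) (tt N113524 (iv5 F485898)) (tt N76863 F458654) (tt N72651 (iv7 F458657)))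
theorem Q107525 : ∀ i, i < 107525 → P i := stepQ 107524 Q107524 (allL N107524 (tt N72647 (iv1 D210739)) (tt N72653 F458658) (tt N72651 F458661) (tt N99215 F458662) (tt N117517 (iv4 F505472)) (tt N109995 (iv5 F469494)) (tt N82090 (iv6 F458660)) (tt N72650 F458659))
theorem Q107526 : ∀ i, i < 107526 → P i := stepQ 107525 Q107525 (allL N107525 (tt N120211 (iv1 F519621)) (tt N78000 F458664) (tt N72652 F458663) (tt N112608 (iv3 F481823)) (tt N83430 (iv4 F458665)) (tt N72647 (iv5 D210740)) (tt N121532 (iv6 F526891)) (tt N112605 F481806))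
theorem Q107527 : ∀ i, i < 107527 → P i := stepQ 107526 Q107526 (allL N107526 (tt N117540 (iv1 F505603)) (tt N117539 (iv0 F505601)) (tt N117541 (iv2 F505608)) (tt N91354 F458666) (tt N72649 F458667) (tt N114177 (iv5 F488853)) (tt N72648 (iv6 D210741)) (tt N91352 F458668))
theorem Q107528 : ∀ i, i < 107528 → P i := stepQ 107527 Q107527 (allL N107527 (tt N117538 F505597) (tt N72649 (iv0 D210742)) (tt N119940 (iv2 F518142)) (tt N119717 (iv3 F517071)) (tt N118834 (iv4 F512322)) (tt N116950 (iv5 F502659)) (tt N116935 F502583) (tt N110830 (iv7 F502584)))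
theorem Q107529 : ∀ i, i < 107529 → P i := stepQ 107528 Q107528 (allL N107528 (tt N121534 D224793) (tt N121096 (iv0 F524495)) (tt N121532 (iv2 F526890)) (tt N72656 F458669) (tt N83431 (iv4 F458671)) (tt N72649 (iv5 D210743)) (tt N72652 F458670) (tt N121535 D224794))
theorem Q107530 : ∀ i, i < 107530 → P i := stepQ 107529 Q107529 (allL N107529 (tt N110830 (iv1 F473344)) (tt N119940 F518146) (tt N117538 (iv2 F505593)) (tt N72657 F458672) (tt N91352 F458673) (tt N121535 (iv5 F526910)) (tt N91351 F458674) (tt N72649 (iv7 D210744)))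
theorem Q107531 : ∀ i, i < 107531 → P i := stepQ 107530 Q107530 (allL N107530 (tt N99223 F458677) (tt N99222 (iv0 F458678)) (tt N99225 (iv2 F458679)) (tt N72650 (iv3 D210745)) (tt N120035 (iv4 F518680)) (tt N109998 (iv5 F469504)) (tt N78045 F458675) (tt N99215 F458676))
theorem Q107532 : ∀ i, i < 107532 → P i := stepQ 107531 Q107531 (allL N107531 (tt N109963 (iv1 F469397)) (tt N109663 (iv0 F467990)) (tt N113524 F485901) (tt N109998 (iv3 F469502)) (tt N117381 (iv4 F504755)) (tt N72650 (iv5 D210746)) (tt N113349 (iv6 F485141)) (tt N109995 F469495))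
theorem Q107533 : ∀ i, i < 107533 → P i := stepQ 107532 Q107532 (allL N107532 (tt N112599 F481776) (tt N110819 (iv0 F517081)) (tt N99221 F458680) (tt N72651 (iv3 D210747)) (tt N119369 (iv4 F515258)) (tt N120341 (iv5 F520275)) (tt N94391 F458681) (tt N121533 (iv7 F526899)))
theorem Q107534 : ∀ i, i < 107534 → P i := stepQ 107533 Q107533 (allL N107533 (tt N109663 (iv1 F467991)) (tt N109963 (iv0 F469396)) (tt N109995 (iv2 F469492)) (tt N120341 (iv3 F520278)) (tt N121536 D224795) (tt N72651 (iv5 D210748)) (tt N109992 (iv6 F469488)) (tt N113524 (iv7 F485897)))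
theorem Q107535 : ∀ i, i < 107535 → P i := stepQ 107534 Q107534 (allL N107534 (tt N112605 (iv1 F481807)) (tt N72652 (iv0 D210749)) (tt N120211 (iv2 F519617)) (tt N121537 D224796) (tt N121538 D224797) (tt N78001 F458682) (tt N121539 D224798) (tt N78000 (iv7 F458683)))
theorem Q107536 : ∀ i, i < 107536 → P i := stepQ 107535 Q107535 (allL N107535 (tt N72652 (iv1 D210750)) (tt N112605 F481808) (tt N78000 (iv2 F458686)) (tt N107665 (iv3 F459144)) (tt N113428 (iv4 F485457)) (tt N77994 F458684) (tt N107663 F459136) (tt N120211 (iv7 F519619)))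
theorem Q107537 : ∀ i, i < 107537 → P i := stepQ 107536 Q107536 (allL N107536 (tt N78000 (iv1 F458690)) (tt N120211 (iv0 F519620)) (tt N112605 (iv2 F481804)) (tt N72665 F458687) (tt N83054 F458688) (tt N72653 F458689) (tt N110411 (iv6 F471450)) (tt N72652 (iv7 D210751)))
theorem Q107538 : ∀ i, i < 107538 → P i := stepQ 107537 Q107537 (allL N107537 (tt N112187 (iv1 F479960)) (tt N120719 (iv0 F522335)) (tt N119736 (iv2 F517168)) (tt N109830 (iv3 F468821)) (tt N90816 F458691) (tt N72654 (iv5 D210752)) (tt N109829 (iv6 F468818)) (tt N113349 (iv7 F485142)))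
theorem Q107539 : ∀ i, i < 107539 → P i := stepQ 107538 Q107538 (allL N107538 (tt N99166 F482069) (tt N121540 D224799) (tt N99276 F458692) (tt N72655 (iv3 D210753)) (tt N86379 F458693) (tt N121541 D224800) (tt N99155 F458694) (tt N119735 (iv7 F517165)))
theorem Q107540 : ∀ i, i < 107540 → P i := stepQ 107539 Q107539 (allL N107539 (tt N120719 (iv1 F522336)) (tt N112187 (iv0 F479959)) (tt N113349 (iv2 F485143)) (tt N121541 (iv3 F526936)) (tt N101350 (iv4 F458695)) (tt N72655 (iv5 D210754)) (tt N113524 (iv6 F485900)) (tt N119736 (iv7 F517171)))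
theorem Q107541 : ∀ i, i < 107541 → P i := stepQ 107540 Q107540 (allL N107540 (tt N112196 (iv1 F480006)) (tt N72656 (iv0 D210755)) (tt N109213 (iv2 F465803)) (tt N83386 (iv3 F458697)) (tt N89356 (iv4 F458699)) (tt N98881 F458696) (tt N110018 (iv6 F469579)) (tt N89347 (iv7 F458698)))
theorem Q107542 : ∀ i, i < 107542 → P i := stepQ 107541 Q107541 (allL N107541 (tt N72656 (iv1 D210756)) (tt N112196 F480007) (tt N89347 F465808) (tt N121542 D224801) (tt N89355 (iv4 F465809)) (tt N118488 (iv5 F510646)) (tt N121096 (iv6 F524492)) (tt N109213 F465807))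
theorem Q107543 : ∀ i, i < 107543 → P i := stepQ 107542 Q107542 (allL N107542 (tt N75116 (iv1 F458703)) (tt N114024 (iv0 F488246)) (tt N116250 (iv2 F499210)) (tt N82740 F458700) (tt N72656 (iv4 D210757)) (tt N101698 F458702) (tt N72664 F458701) (tt N120060 (iv7 F518835)))
theorem Q107544 : ∀ i, i < 107544 → P i := stepQ 107543 Q107543 (allL N107543 (tt N89347 (iv1 F458705)) (tt N109213 F465806) (tt N112196 (iv2 F480003)) (tt N121535 (iv3 F526908)) (tt N120060 (iv4 F518831)) (tt N72657 F458704) (tt N121543 D224802) (tt N72656 (iv7 D210758)))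
theorem Q107545 : ∀ i, i < 107545 → P i := stepQ 107544 Q107544 (allL N107544 (tt N98833 (iv1 F458706)) (tt N72658 (iv0 D210759)) (tt N112594 (iv2 F481751)) (tt N110819 (iv3 F473293)) (tt N121544 D224803) (tt N110002 F469517) (tt N108089 (iv6 F461066)) (tt N99103 F458707))
theorem Q107546 : ∀ i, i < 107546 → P i := stepQ 107545 Q107545 (allL N107545 (tt N112594 (iv1 F481754)) (tt N99103 F458710) (tt N72658 (iv2 D210760)) (tt N98837 F458708) (tt N109270 (iv4 F466098)) (tt N120461 F520906) (tt N99259 F458711) (tt N98833 F458709))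
theorem Q107547 : ∀ i, i < 107547 → P i := stepQ 107546 Q107546 (allL N107546 (tt N99258 (iv1 F458717)) (tt N99257 F458718) (tt N99259 F458713) (tt N72660 F458714) (tt N118764 (iv4 F511954)) (tt N104183 F458716) (tt N72658 (iv6 D210762)) (tt N99252 F458715))
theorem Q107548 : ∀ i, i < 107548 → P i := stepQ 107547 Q107547 (allL N107547 (tt N113173 (iv1 F484325)) (tt N88383 F458725) (tt N90876 F458722) (tt N85479 F458726) (tt N72659 (iv4 D210763)) (tt N96849 F458723) (tt N121545 D224804) (tt N90806 F458724))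
theorem Q107549 : ∀ i, i < 107549 → P i := stepQ 107548 Q107548 (allL N107548 (tt N121252 F525385) (tt N121546 D224805) (tt N113523 (iv2 F485895)) (tt N110235 (iv3 F470560)) (tt N121545 (iv4 F526961)) (tt N110830 (iv5 F473342)) (tt N72659 (iv6 D210764)) (tt N116950 (iv7 F502660)))
theorem Q107550 : ∀ i, i < 107550 → P i := stepQ 107549 Q107549 (allL N107549 (tt N116948 (iv1 F502648)) (tt N89494 (iv0 F458729)) (tt N113522 (iv2 F485892)) (tt N97371 F458727) (tt N112623 F481881) (tt N89541 F458728) (tt N72661 (iv6 D210765)) (tt N107661 (iv7 F459132)))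
theorem Q107551 : ∀ i, i < 107551 → P i := stepQ 107550 Q107550 (allL N107550 (tt N110002 (iv1 F469516)) (tt N83390 F469522) (tt N110003 (iv2 F469523)) (tt N72662 (iv3 D210766)) (tt N116416 (iv4 F499988)) (tt N77967 F458730) (tt N110010 (iv6 F469541)) (tt N77966 F458731))
theorem Q107552 : ∀ i, i < 107552 → P i := stepQ 107551 Q107551 (allL N107551 (tt N109510 (iv1 F469539)) (tt N110411 (iv0 F474084)) (tt N112864 (iv2 F483026)) (tt N110010 (iv3 F469540)) (tt N110983 F474083) (tt N119823 (iv5 F517556)) (tt N72662 (iv6 D210767)) (tt N110006 (iv7 F469538)))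
theorem Q107553 : ∀ i, i < 107553 → P i := stepQ 107552 Q107552 (allL N107552 (tt N99244 F458734) (tt N99245 (iv0 F458733)) (tt N110001 (iv2 F469514)) (tt N72663 (iv3 D210768)) (tt N117249 (iv4 F504113)) (tt N77828 F458732) (tt N109999 F469510) (tt N119737 (iv7 F517175)))
theorem Q107554 : ∀ i, i < 107554 → P i := stepQ 107553 Q107553 (allL N107553 (tt N109990 (iv1 F469483)) (tt N109989 (iv0 F469478)) (tt N77971 F458735) (tt N109999 (iv3 F469507)) (tt N117248 (iv4 F504109)) (tt N77829 F458736) (tt N72663 (iv6 D210769)) (tt N110004 (iv7 F469524)))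
theorem Q107555 : ∀ i, i < 107555 → P i := stepQ 107554 Q107554 (allL N107554 (tt N121539 F526928) (tt N118774 (iv0 F511996)) (tt N113355 (iv2 F485154)) (tt N110411 (iv3 F471449)) (tt N83312 F458737) (tt N110707 (iv5 F472848)) (tt N72665 (iv6 D210770)) (tt N121543 (iv7 F526952)))
theorem Q107556 : ∀ i, i < 107556 → P i := stepQ 107555 Q107555 (allL N107555 (tt N119720 (iv1 F517090)) (tt N108694 F517079) (tt N119718 F517076) (tt N72666 (iv3 D210771)) (tt N72668 F458738) (tt N121547 D224806) (tt N108773 (iv6 F463866)) (tt N94398 F458739))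
theorem Q107557 : ∀ i, i < 107557 → P i := stepQ 107556 Q107556 (allL N107556 (tt N94120 F458742) (tt N110712 (iv0 F472863)) (tt N97108 F458740) (tt N121547 (iv3 F526968)) (tt N120279 (iv4 F519991)) (tt N72666 (iv5 D210772)) (tt N118622 (iv6 F511194)) (tt N97109 F458741))
theorem Q107558 : ∀ i, i < 107558 → P i := stepQ 107557 Q107557 (allL N107557 (tt N106685 F472698) (tt N106688 F472938) (tt N119762 (iv2 F517289)) (tt N72669 F458743) (tt N119939 (iv4 F518140)) (tt N72668 (iv5 D210774)) (tt N121548 D224807) (tt N113514 (iv7 F485861)))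
theorem Q107559 : ∀ i, i < 107559 → P i := stepQ 107558 Q107558 (allL N107558 (tt N99037 F458746) (tt N110671 F472697) (tt N119763 (iv2 F517293)) (tt N72670 F458744) (tt N108773 (iv4 F463865)) (tt N112685 F482174) (tt N72668 (iv6 D210775)) (tt N99291 F458745))
theorem Q107560 : ∀ i, i < 107560 → P i := stepQ 107559 Q107559 (allL N107559 (tt N108538 F517332) (tt N121489 F526654) (tt N113518 (iv2 F485876)) (tt N121548 (iv3 F526975)) (tt N113211 (iv4 F484500)) (tt N119850 (iv5 F517690)) (tt N72669 (iv6 D210776)) (tt N121549 D224808))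
theorem Q107561 : ∀ i, i < 107561 → P i := stepQ 107560 Q107560 (allL N107560 (tt N120219 (iv1 F519666)) (tt N109970 (iv0 F469424)) (tt N113515 (iv2 F485865)) (tt N120434 (iv3 F520764)) (tt N89802 F458747) (tt N89486 F458748) (tt N72672 (iv6 D210777)) (tt N120221 (iv7 F519675)))
theorem Q107562 : ∀ i, i < 107562 → P i := stepQ 107561 Q107561 (allL N107561 (tt N102776 F458750) (tt N82103 F458751) (tt N119753 (iv2 F517242)) (tt N72675 F458749) (tt N119899 (iv4 F517929)) (tt N72674 (iv5 D210778)) (tt N110832 (iv6 F473354)) (tt N119757 (iv7 F517266)))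
theorem Q107563 : ∀ i, i < 107563 → P i := stepQ 107562 Q107562 (allL N107562 (tt N98886 F458756) (tt N98892 F458757) (tt N98890 F458752) (tt N106471 F458753) (tt N117123 (iv4 F503506)) (tt N76837 F458754) (tt N72676 (iv6 D210779)) (tt N98889 F458755))
theorem Q107564 : ∀ i, i < 107564 → P i := stepQ 107563 Q107563 (allL N107563 (tt N98930 F458762) (tt N98929 (iv0 F458763)) (tt N72682 F458759) (tt N112567 (iv3 F481678)) (tt N72678 (iv4 D210780)) (tt N112566 F481676) (tt N76866 F458760) (tt N72684 F458761))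
theorem Q107565 : ∀ i, i < 107565 → P i := stepQ 107564 Q107564 (allL N107564 (tt N74340 F458769) (tt N99560 (iv0 F458770)) (tt N94177 F458764) (tt N75783 F458765) (tt N99198 F458766) (tt N106187 F458767) (tt N72680 (iv6 D210781)) (tt N100489 F458768))
theorem Q107566 : ∀ i, i < 107566 → P i := stepQ 107565 Q107565 (allL N107565 (tt N72684 (iv1 F458773)) (tt N72682 (iv0 D210782)) (tt N98930 (iv2 F458772)) (tt N121550 D224809) (tt N99439 F458771) (tt N120097 (iv5 F519025)) (tt N107627 (iv6 F458994)) (tt N98929 F458774))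
theorem Q107567 : ∀ i, i < 107567 → P i := stepQ 107566 Q107566 (allL N107566 (tt N109957 (iv1 F469375)) (tt N109956 (iv0 F469372)) (tt N112566 (iv2 F481673)) (tt N98955 F458775) (tt N113212 (iv4 F484503)) (tt N72682 (iv5 D210783)) (tt N119750 (iv6 F517232)) (tt N98931 F458776))
theorem Q107568 : ∀ i, i < 107568 → P i := stepQ 107567 Q107567 (allL N107567 (tt N110196 (iv1 F470383)) (tt N103083 F458781) (tt N95055 F458777) (tt N74260 F458778) (tt N95047 F458780) (tt N72688 (iv5 D210784)) (tt N95046 F458779) (tt N118248 (iv7 F509358)))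
theorem Q107569 : ∀ i, i < 107569 → P i := stepQ 107568 Q107568 (allL N107568 (tt N96658 F458784) (tt N109337 (iv0 F466451)) (tt N119947 (iv2 F518184)) (tt N72692 F458782) (tt N111850 (iv4 F478305)) (tt N72691 (iv5 D210785)) (tt N118804 (iv6 F512161)) (tt N96723 F458783))
theorem Q107570 : ∀ i, i < 107570 → P i := stepQ 107569 Q107569 (allL N107569 (tt N108241 F461649) (tt N117023 F503011) (tt N120128 (iv2 F519205)) (tt N72702 (iv3 D210786)) (tt N110106 (iv4 F470019)) (tt N110101 F469995) (tt N104971 F458785) (tt N116442 (iv7 F500137)))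
theorem Q107571 : ∀ i, i < 107571 → P i := stepQ 107570 Q107570 (allL N107570 (tt N111827 (iv1 F478179)) (tt N111834 (iv0 F478214)) (tt N116451 (iv2 F500189)) (tt N110101 (iv3 F469990)) (tt N88840 F458786) (tt N72702 (iv5 D210787)) (tt N88839 (iv6 F458787)) (tt N113598 (iv7 F486234)))
theorem Q107572 : ∀ i, i < 107572 → P i := stepQ 107571 Q107571 (allL N107571 (tt N109769 F468528) (tt N78726 (iv0 F458792)) (tt N109791 (iv2 F468626)) (tt N72704 (iv3 D210788)) (tt N104255 F458788) (tt N80406 F458789) (tt N75800 F458790) (tt N80441 F458791))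
theorem Q107573 : ∀ i, i < 107573 → P i := stepQ 107572 Q107572 (allL N107572 (tt N104157 F458797) (tt N104154 F458798) (tt N77695 (iv2 F458799)) (tt N72705 (iv3 D210789)) (tt N83255 F458793) (tt N76290 F458794) (tt N83253 F458795) (tt N73953 F458796))
theorem Q107574 : ∀ i, i < 107574 → P i := stepQ 107573 Q107573 (allL N107573 (tt N72739 (iv1 F458804)) (tt N72741 (iv0 F458803)) (tt N74683 F458800) (tt N92389 F458801) (tt N74681 F458802) (tt N121551 D224810) (tt N72709 (iv6 D210790)) (tt N119596 (iv7 F516438)))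
theorem Q107575 : ∀ i, i < 107575 → P i := stepQ 107574 Q107574 (allL N107574 (tt N98774 (iv1 F458808)) (tt N92357 F458807) (tt N72710 (iv2 D210791)) (tt N92351 F458805) (tt N108083 (iv4 F461040)) (tt N108342 (iv5 F462161)) (tt N110584 (iv6 F472245)) (tt N98908 F458806))
theorem Q107576 : ∀ i, i < 107576 → P i := stepQ 107575 Q107575 (allL N107575 (tt N72711 (iv1 D210792)) (tt N72714 F458809) (tt N73739 (iv2 F458813)) (tt N92392 (iv3 F458814)) (tt N100511 F458812) (tt N73315 F458811) (tt N120204 (iv6 F519577)) (tt N73803 F458810))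
theorem Q107577 : ∀ i, i < 107577 → P i := stepQ 107576 Q107576 (allL N107576 (tt N94364 (iv1 F458820)) (tt N94374 F458818) (tt N92335 F458815) (tt N72716 F458816) (tt N96132 F458819) (tt N72715 (iv5 D210793)) (tt N120553 (iv6 F521417)) (tt N94373 F458817))
theorem Q107578 : ∀ i, i < 107578 → P i := stepQ 107577 Q107577 (allL N107577 (tt N121552 D224811) (tt N72727 (iv0 F458824)) (tt N92336 F458821) (tt N72717 F458822) (tt N102679 F458823) (tt N112913 (iv5 F483255)) (tt N72715 (iv6 D210794)) (tt N118487 (iv7 F510638)))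
theorem Q107579 : ∀ i, i < 107579 → P i := stepQ 107578 Q107578 (allL N107578 (tt N92336 F458827) (tt N118487 (iv0 F510639)) (tt N72727 F458825) (tt N120553 (iv3 F521416)) (tt N98075 F458826) (tt N121553 D224812) (tt N72716 (iv6 D210795)) (tt N121552 (iv7 F527005)))
theorem Q107580 : ∀ i, i < 107580 → P i := stepQ 107579 Q107579 (allL N107579 (tt N72731 (iv1 F458832)) (tt N72717 (iv0 D210796)) (tt N72728 (iv2 F458829)) (tt N121554 D224813) (tt N95521 F458828) (tt N121466 (iv5 F526530)) (tt N100116 (iv6 F458830)) (tt N72729 (iv7 F458831)))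
theorem Q107581 : ∀ i, i < 107581 → P i := stepQ 107580 Q107580 (allL N107580 (tt N72717 (iv1 D210797)) (tt N72731 F458833) (tt N72729 F458837) (tt N118771 (iv3 F511986)) (tt N98407 F458835) (tt N121465 (iv5 F526523)) (tt N101858 (iv6 F458836)) (tt N72728 F458834))
theorem Q107582 : ∀ i, i < 107582 → P i := stepQ 107581 Q107581 (allL N107581 (tt N108825 (iv1 F464140)) (tt N94359 F458839) (tt N72730 F458838) (tt N112913 (iv3 F483256)) (tt N121555 D224814) (tt N72717 (iv5 D210798)) (tt N121553 (iv6 F527008)) (tt N121472 (iv7 F526565)))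
theorem Q107583 : ∀ i, i < 107583 → P i := stepQ 107582 Q107582 (allL N107582 (tt N72729 (iv1 F458842)) (tt N72728 F458843) (tt N72731 F458840) (tt N118487 (iv3 F510635)) (tt N72721 F458841) (tt N121472 (iv5 F526566)) (tt N108701 (iv6 F463615)) (tt N72717 (iv7 D210799)))
theorem Q107584 : ∀ i, i < 107584 → P i := stepQ 107583 Q107583 (allL N107583 (tt N119596 (iv1 F516441)) (tt N74683 F458847) (tt N72739 F458844) (tt N108580 (iv3 F463137)) (tt N72719 (iv4 D210800)) (tt N121556 D224815) (tt N100119 F458845) (tt N72741 F458846))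
theorem Q107585 : ∀ i, i < 107585 → P i := stepQ 107584 Q107584 (allL N107584 (tt N74683 F458851) (tt N119596 (iv0 F516440)) (tt N72741 F458848) (tt N119369 (iv3 F515257)) (tt N72720 (iv4 D210801)) (tt N121557 D224816) (tt N74494 F458849) (tt N72739 F458850))
theorem Q107586 : ∀ i, i < 107586 → P i := stepQ 107585 Q107585 (allL N107585 (tt N98078 (iv1 F468908)) (tt N85803 (iv0 F458854)) (tt N98075 F458852) (tt N119239 (iv3 F514554)) (tt N72727 F458853) (tt N119689 (iv5 F516931)) (tt N72726 (iv6 D210802)) (tt N98076 (iv7 F458855)))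
theorem Q107587 : ∀ i, i < 107587 → P i := stepQ 107586 Q107586 (allL N107586 (tt N72727 (iv1 D210803)) (tt N121552 F527004) (tt N118487 (iv2 F510634)) (tt N92340 (iv3 F458857)) (tt N102684 F458859) (tt N112925 (iv5 F483291)) (tt N92448 (iv6 F458858)) (tt N92336 F458856))
theorem Q107588 : ∀ i, i < 107588 → P i := stepQ 107587 Q107587 (allL N107587 (tt N112932 F483306) (tt N112929 (iv0 F483300)) (tt N121553 (iv2 F527006)) (tt N97111 F458860) (tt N83900 F458862) (tt N72727 (iv5 D210804)) (tt N72730 F458861) (tt N121558 D224817))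
theorem Q107589 : ∀ i, i < 107589 → P i := stepQ 107588 Q107588 (allL N107588 (tt N118487 (iv1 F510640)) (tt N92336 (iv0 F463146)) (tt N121552 F527003) (tt N97114 F458863) (tt N98076 F458864) (tt N121558 (iv5 F527038)) (tt N108705 (iv6 F463631)) (tt N72727 (iv7 D210805)))
theorem Q107590 : ∀ i, i < 107590 → P i := stepQ 107589 Q107589 (allL N107589 (tt N121559 D224818) (tt N121493 (iv0 F526677)) (tt N118768 (iv2 F511977)) (tt N72728 (iv3 D210806)) (tt N117745 (iv4 F506755)) (tt N121560 D224819) (tt N110582 (iv6 F472233)) (tt N118771 (iv7 F511988)))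
theorem Q107591 : ∀ i, i < 107591 → P i := stepQ 107590 Q107590 (allL N107590 (tt N118587 (iv1 F511026)) (tt N110898 (iv0 F473678)) (tt N121466 F526531) (tt N121560 (iv3 F527042)) (tt N121561 D224820) (tt N72728 (iv5 D210807)) (tt N118522 (iv6 F510794)) (tt N121465 F526527))
theorem Q107592 : ∀ i, i < 107592 → P i := stepQ 107591 Q107591 (allL N107591 (tt N121031 F524119) (tt N121562 D224821) (tt N117898 (iv2 F507492)) (tt N72729 (iv3 D210808)) (tt N106566 (iv4 F458866)) (tt N121563 D224822) (tt N96922 F458865) (tt N121554 (iv7 F527015)))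
theorem Q107593 : ∀ i, i < 107593 → P i := stepQ 107592 Q107592 (allL N107592 (tt N110898 (iv1 F473679)) (tt N118587 (iv0 F511025)) (tt N121465 F526526) (tt N121563 (iv3 F527056)) (tt N98431 F458867) (tt N72729 (iv5 D210809)) (tt N121564 D224823) (tt N121466 (iv7 F526529)))
theorem Q107594 : ∀ i, i < 107594 → P i := stepQ 107593 Q107593 (allL N107593 (tt N121472 (iv1 F526564)) (tt N72730 (iv0 D210810)) (tt N108825 (iv2 F464137)) (tt N121565 D224824) (tt N121566 D224825) (tt N94360 F458868) (tt N121567 D224826) (tt N94359 (iv7 F458869)))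
theorem Q107595 : ∀ i, i < 107595 → P i := stepQ 107594 Q107594 (allL N107594 (tt N121568 D224827) (tt N121232 (iv0 F525275)) (tt N121555 (iv2 F527018)) (tt N113065 (iv3 F483815)) (tt N72730 (iv4 D210811)) (tt N89791 F458871) (tt N83900 F458870) (tt N121569 D224828))
theorem Q107596 : ∀ i, i < 107596 → P i := stepQ 107595 Q107595 (allL N107595 (tt N94359 (iv1 F458874)) (tt N108825 (iv0 F464139)) (tt N121472 (iv2 F526569)) (tt N94343 F458872) (tt N121569 (iv4 F527082)) (tt N72731 F458873) (tt N121570 D224829) (tt N72730 (iv7 D210812)))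
theorem Q107597 : ∀ i, i < 107597 → P i := stepQ 107596 Q107596 (allL N107596 (tt N72735 F458879) (tt N74847 F458880) (tt N73815 F458875) (tt N113690 F486653) (tt N73806 F458876) (tt N87864 F458877) (tt N72732 (iv6 D210813)) (tt N75930 F458878))
theorem Q107598 : ∀ i, i < 107598 → P i := stepQ 107597 Q107597 (allL N107597 (tt N87091 F458885) (tt N87093 F458886) (tt N81634 F458881) (tt N74814 F458882) (tt N114817 (iv4 F492031)) (tt N72735 (iv5 D210814)) (tt N78672 F458883) (tt N87476 F458884))
theorem Q107599 : ∀ i, i < 107599 → P i := stepQ 107598 Q107598 (allL N107598 (tt N72741 (iv1 F458888)) (tt N72739 (iv0 D210815)) (tt N119596 (iv2 F516436)) (tt N120611 (iv3 F521744)) (tt N74688 F458887) (tt N121571 D224830) (tt N108726 (iv6 F463721)) (tt N74683 F458889))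
theorem Q107600 : ∀ i, i < 107600 → P i := stepQ 107599 Q107599 (allL N107599 (tt N121572 D224831) (tt N98911 (iv0 F517279)) (tt N121573 D224832) (tt N72739 (iv3 D210816)) (tt N121533 (iv4 F526896)) (tt N121574 D224833) (tt N110586 (iv6 F472252)) (tt N119369 (iv7 F515259)))
theorem Q107601 : ∀ i, i < 107601 → P i := stepQ 107600 Q107600 (allL N107600 (tt N118621 (iv1 F511192)) (tt N118622 (iv0 F511195)) (tt N121556 (iv2 F527025)) (tt N121574 (iv3 F527108)) (tt N121575 D224834) (tt N72739 (iv5 D210817)) (tt N118565 (iv6 F510946)) (tt N121557 (iv7 F527033)))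
theorem Q107602 : ∀ i, i < 107602 → P i := stepQ 107601 Q107601 (allL N107601 (tt N99832 F458894) (tt N87823 F458896) (tt N117514 F505450) (tt N72742 F458891) (tt N90646 F458895) (tt N72740 (iv5 D210819)) (tt N74767 F458892) (tt N98399 F458893))
theorem Q107603 : ∀ i, i < 107603 → P i := stepQ 107602 Q107602 (allL N107602 (tt N118622 (iv1 F511196)) (tt N118621 (iv0 F511191)) (tt N121557 (iv2 F527031)) (tt N117815 (iv3 F507094)) (tt N120201 (iv4 F519560)) (tt N72741 (iv5 D210820)) (tt N117813 (iv6 F507089)) (tt N121556 (iv7 F527028)))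
theorem Q107604 : ∀ i, i < 107604 → P i := stepQ 107603 Q107603 (allL N107603 (tt N90165 F458901) (tt N107263 F458902) (tt N106358 F458897) (tt N72752 F458898) (tt N96683 F458903) (tt N72751 (iv5 D210821)) (tt N89141 F458899) (tt N89147 F458900))
theorem Q107605 : ∀ i, i < 107605 → P i := stepQ 107604 Q107604 (allL N107604 (tt N90175 F458909) (tt N76064 F458910) (tt N104136 F458904) (tt N76494 F458905) (tt N104977 F458906) (tt N72753 (iv5 D210822)) (tt N89130 F458907) (tt N85996 F458908))
theorem Q107606 : ∀ i, i < 107606 → P i := stepQ 107605 Q107605 (allL N107605 (tt N99416 F458915) (tt N95242 F458916) (tt N105643 F458911) (tt N109565 (iv3 F467550)) (tt N72754 (iv4 D210823)) (tt N105647 F458914) (tt N85439 F458912) (tt N105642 F458913))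
theorem Q107607 : ∀ i, i < 107607 → P i := stepQ 107606 Q107606 (allL N107606 (tt N95968 F458919) (tt N95975 F458920) (tt N98053 F458917) (tt N119679 (iv3 F516875)) (tt N72757 (iv4 D210824)) (tt N105129 F458918) (tt N98057 (iv6 F458921)) (tt N119065 (iv7 F513594)))
theorem Q107608 : ∀ i, i < 107608 → P i := stepQ 107607 Q107607 (allL N107607 (tt N98453 (iv1 F458929)) (tt N98452 (iv0 F458928)) (tt N97976 F458923) (tt N72762 F458924) (tt N98057 F458925) (tt N106286 (iv5 F458927)) (tt N72757 (iv6 D210825)) (tt N98454 F458926))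
theorem Q107609 : ∀ i, i < 107609 → P i := stepQ 107608 Q107608 (allL N107608 (tt N116106 F498492) (tt N116109 F498513) (tt N116108 (iv2 F498508)) (tt N72765 F458932) (tt N119894 (iv4 F517901)) (tt N72758 (iv5 D210826)) (tt N106286 F458933) (tt N116107 F498501))
theorem Q107610 : ∀ i, i < 107610 → P i := stepQ 107609 Q107609 (allL N107609 (tt N90071 F458939) (tt N99511 F458941) (tt N73875 F458935) (tt N105058 F458936) (tt N99448 F458937) (tt N99418 (iv5 F458940)) (tt N72760 (iv6 D210828)) (tt N107485 F458938))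
theorem Q107611 : ∀ i, i < 107611 → P i := stepQ 107610 Q107610 (allL N107610 (tt N109217 F465823) (tt N99776 (iv0 F458943)) (tt N109215 F465817) (tt N72761 (iv3 D210829)) (tt N119679 (iv4 F516876)) (tt N101363 F458942) (tt N119678 (iv6 F516873)) (tt N107982 (iv7 F460587)))
theorem Q107612 : ∀ i, i < 107612 → P i := stepQ 107611 Q107611 (allL N107611 (tt N120173 F519430) (tt N116727 (iv0 F501523)) (tt N107986 (iv2 F460604)) (tt N119678 (iv3 F516869)) (tt N72762 F458944) (tt N121576 D224835) (tt N72761 (iv6 D210830)) (tt N120174 (iv7 F519434)))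
theorem Q107613 : ∀ i, i < 107613 → P i := stepQ 107612 Q107612 (allL N107612 (tt N98351 (iv1 F458954)) (tt N72762 (iv0 D210831)) (tt N109938 (iv2 F469305)) (tt N114316 F489559) (tt N116308 (iv4 F499482)) (tt N117396 (iv5 F504820)) (tt N110520 F471966) (tt N109939 (iv7 F469307)))
theorem Q107614 : ∀ i, i < 107614 → P i := stepQ 107613 Q107613 (allL N107613 (tt N72762 (iv1 D210832)) (tt N98351 F458945) (tt N109939 (iv2 F469310)) (tt N104138 F458947) (tt N112540 (iv4 F481580)) (tt N116714 (iv5 F501455)) (tt N104137 (iv6 F458946)) (tt N109938 F469304))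
theorem Q107615 : ∀ i, i < 107615 → P i := stepQ 107614 Q107614 (allL N107614 (tt N121577 D224836) (tt N121359 (iv0 F525955)) (tt N100480 F458948) (tt N106286 F458949) (tt N121352 (iv4 F525921)) (tt N72762 (iv5 D210833)) (tt N72765 F458950) (tt N121578 D224837))
theorem Q107616 : ∀ i, i < 107616 → P i := stepQ 107615 Q107615 (allL N107615 (tt N109939 (iv1 F469306)) (tt N109938 F469303) (tt N98351 F458951) (tt N98454 F458952) (tt N120174 (iv4 F519433)) (tt N121578 (iv5 F527128)) (tt N106200 F458953) (tt N72762 (iv7 D210834)))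
theorem Q107617 : ∀ i, i < 107617 → P i := stepQ 107616 Q107616 (allL N107616 (tt N117234 F504044) (tt N109320 (iv0 F466372)) (tt N118767 (iv2 F511970)) (tt N72763 (iv3 D210835)) (tt N106000 (iv4 F458956)) (tt N110380 (iv5 F471315)) (tt N89997 F458955) (tt N119992 (iv7 F518433)))
theorem Q107618 : ∀ i, i < 107618 → P i := stepQ 107617 Q107617 (allL N107617 (tt N110390 F471363) (tt N117394 (iv0 F504812)) (tt N116435 (iv2 F500092)) (tt N110380 F471318) (tt N117382 (iv4 F504764)) (tt N72763 (iv5 D210836)) (tt N116092 (iv6 F498423)) (tt N117731 (iv7 F506676)))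
theorem Q107619 : ∀ i, i < 107619 → P i := stepQ 107618 Q107618 (allL N107618 (tt N117394 (iv1 F504813)) (tt N110390 F471364) (tt N117731 (iv2 F506674)) (tt N118772 (iv3 F511989)) (tt N105298 F458957) (tt N72764 (iv5 D210837)) (tt N121351 (iv6 F525917)) (tt N116435 F500097))
theorem Q107620 : ∀ i, i < 107620 → P i := stepQ 107619 Q107619 (allL N107619 (tt N119993 (iv1 F518441)) (tt N72765 (iv0 D210838)) (tt N109039 (iv2 F465045)) (tt N83032 F458961) (tt N90630 F458959) (tt N99799 F458958) (tt N83030 (iv6 F458960)) (tt N112711 (iv7 F482304)))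
theorem Q107621 : ∀ i, i < 107621 → P i := stepQ 107620 Q107620 (allL N107620 (tt N72765 (iv1 D210839)) (tt N119993 F518440) (tt N112711 (iv2 F482302)) (tt N118773 F511991) (tt N83442 F458965) (tt N101800 F458964) (tt N83441 (iv6 F458966)) (tt N109039 (iv7 F465046)))
theorem Q107622 : ∀ i, i < 107622 → P i := stepQ 107621 Q107621 (allL N107621 (tt N112711 (iv1 F482306)) (tt N109039 (iv0 F465048)) (tt N119993 (iv2 F518436)) (tt N116107 F498500) (tt N117734 (iv4 F506691)) (tt N72766 F458967) (tt N120359 (iv6 F520364)) (tt N72765 (iv7 D210840)))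
theorem Q107623 : ∀ i, i < 107623 → P i := stepQ 107622 Q107622 (allL N107622 (tt N99342 F458971) (tt N99343 (iv0 F458972)) (tt N72781 F458968) (tt N77895 F458969) (tt N72780 F458970) (tt N119818 (iv5 F517527)) (tt N72778 (iv6 D210841)) (tt N109932 (iv7 F469286)))
theorem Q107624 : ∀ i, i < 107624 → P i := stepQ 107623 Q107623 (allL N107623 (tt N72780 (iv1 D210842)) (tt N72787 F458973) (tt N72785 F458979) (tt N73105 (iv3 F458977)) (tt N76797 (iv4 F458976)) (tt N105021 F458975) (tt N76796 (iv6 F458978)) (tt N72784 F458974))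
theorem Q107625 : ∀ i, i < 107625 → P i := stepQ 107624 Q107624 (allL N107624 (tt N89448 F458985) (tt N110987 (iv0 F474103)) (tt N72786 F458981) (tt N100655 F458982) (tt N100614 F458984) (tt N72780 (iv5 D210843)) (tt N105026 F458983) (tt N104260 (iv7 F458986)))
theorem Q107626 : ∀ i, i < 107626 → P i := stepQ 107625 Q107625 (allL N107625 (tt N72785 (iv1 F458991)) (tt N72784 F458992) (tt N72787 F458987) (tt N81709 F458988) (tt N109932 (iv4 F469287)) (tt N104260 F458989) (tt N81707 F458990) (tt N72780 (iv7 D210844)))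
theorem Q107627 : ∀ i, i < 107627 → P i := stepQ 107626 Q107626 (allL N107626 (tt N118240 F509316) (tt N110537 (iv0 F472047)) (tt N119818 (iv2 F517529)) (tt N110745 (iv3 F472985)) (tt N119805 (iv4 F517494)) (tt N72781 (iv5 D210845)) (tt N110743 (iv6 F472976)) (tt N119817 F517526))
theorem Q107628 : ∀ i, i < 107628 → P i := stepQ 107627 Q107627 (allL N107627 (tt N99343 (iv1 F458995)) (tt N99342 F458996) (tt N109932 F469288) (tt N119863 (iv3 F517757)) (tt N72787 F458993) (tt N119817 (iv5 F517525)) (tt N107565 F458994) (tt N72781 (iv7 D210846)))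
theorem Q107629 : ∀ i, i < 107629 → P i := stepQ 107628 Q107628 (allL N107628 (tt N75939 (iv1 F459001)) (tt N72783 (iv0 D210847)) (tt N75940 (iv2 F459000)) (tt N80477 F458998) (tt N100664 F458997) (tt N112484 (iv5 F481287)) (tt N80477 F458999) (tt N75936 F459002))
theorem Q107630 : ∀ i, i < 107630 → P i := stepQ 107629 Q107629 (allL N107629 (tt N104260 F459007) (tt N72786 (iv0 D210848)) (tt N89448 (iv2 F459005)) (tt N111923 (iv3 F478673)) (tt N89447 (iv4 F459006)) (tt N103160 F459003) (tt N89445 F459004) (tt N110987 (iv7 F474102)))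
theorem Q107631 : ∀ i, i < 107631 → P i := stepQ 107630 Q107630 (allL N107630 (tt N72786 (iv1 D210849)) (tt N104260 F459008) (tt N110987 (iv2 F474099)) (tt N108053 (iv3 F460894)) (tt N89456 F459010) (tt N103159 F459011) (tt N103057 (iv6 F459012)) (tt N89448 F459009))
theorem Q107632 : ∀ i, i < 107632 → P i := stepQ 107631 Q107631 (allL N107631 (tt N110987 (iv1 F474104)) (tt N89448 (iv0 F459018)) (tt N104260 F459013) (tt N72801 F459014) (tt N100615 F459015) (tt N72787 F459016) (tt N94167 F459017) (tt N72786 (iv7 D210850)))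
theorem Q107633 : ∀ i, i < 107633 → P i := stepQ 107632 Q107632 (allL N107632 (tt N98429 F459023) (tt N86214 (iv0 F459024)) (tt N98417 F459019) (tt N72791 F459020) (tt N98350 F459021) (tt N121561 (iv5 F527044)) (tt N72788 (iv6 D210851)) (tt N98349 F459022))
theorem Q107634 : ∀ i, i < 107634 → P i := stepQ 107633 Q107633 (allL N107633 (tt N112919 F483277) (tt N119968 (iv0 F518314)) (tt N121089 (iv2 F524458)) (tt N72794 F459025) (tt N118522 (iv4 F510795)) (tt N72789 (iv5 D210852)) (tt N121561 (iv6 F527045)) (tt N121088 (iv7 F524455)))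
theorem Q107635 : ∀ i, i < 107635 → P i := stepQ 107634 Q107634 (allL N107634 (tt N84903 F459028) (tt N84893 (iv0 F459029)) (tt N84901 (iv2 F459031)) (tt N72790 (iv3 D210853)) (tt N109089 (iv4 F465278)) (tt N96697 F459026) (tt N107247 F459030) (tt N84902 F459027))
theorem Q107636 : ∀ i, i < 107636 → P i := stepQ 107635 Q107635 (allL N107635 (tt N121141 F524745) (tt N106263 (iv0 F459036)) (tt N107984 (iv2 F460597)) (tt N107247 F459032) (tt N72791 F459033) (tt N106229 F459034) (tt N72790 (iv6 D210854)) (tt N119620 (iv7 F516559)))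
theorem Q107637 : ∀ i, i < 107637 → P i := stepQ 107636 Q107636 (allL N107636 (tt N106200 (iv1 F459047)) (tt N72791 (iv0 D210855)) (tt N111283 (iv2 F475620)) (tt N105810 (iv3 F459038)) (tt N105580 (iv4 F459039)) (tt N121449 (iv5 F526437)) (tt N105579 F459037) (tt N119510 (iv7 F515986)))
theorem Q107638 : ∀ i, i < 107638 → P i := stepQ 107637 Q107637 (allL N107637 (tt N72791 (iv1 D210856)) (tt N106200 F459040) (tt N119510 (iv2 F515984)) (tt N89840 F459042) (tt N116738 (iv4 F501570)) (tt N113778 (iv5 F487061)) (tt N89838 (iv6 F459041)) (tt N111283 (iv7 F475621)))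
theorem Q107639 : ∀ i, i < 107639 → P i := stepQ 107638 Q107638 (allL N107638 (tt N116318 F499530) (tt N108419 (iv0 F462490)) (tt N119991 (iv2 F518427)) (tt N121561 (iv3 F527048)) (tt N120362 (iv4 F520376)) (tt N72791 (iv5 D210857)) (tt N72794 F459043) (tt N120360 (iv7 F520371)))
theorem Q107640 : ∀ i, i < 107640 → P i := stepQ 107639 Q107639 (allL N107639 (tt N119510 F515988) (tt N111283 (iv0 F475622)) (tt N106200 F459044) (tt N98349 F459045) (tt N119620 (iv4 F516556)) (tt N120360 (iv5 F520370)) (tt N98351 F459046) (tt N72791 (iv7 D210858)))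
theorem Q107641 : ∀ i, i < 107641 → P i := stepQ 107640 Q107640 (allL N107640 (tt N88554 F459049) (tt N118447 (iv0 F510413)) (tt N112712 (iv2 F482307)) (tt N120066 (iv3 F518858)) (tt N121420 (iv4 F526262)) (tt N72792 (iv5 D210859)) (tt N73929 F459048) (tt N116758 (iv7 F501672)))
theorem Q107642 : ∀ i, i < 107642 → P i := stepQ 107641 Q107641 (allL N107641 (tt N121492 F526674) (tt N112167 (iv0 F479857)) (tt N106551 F459050) (tt N72793 (iv3 D210860)) (tt N89187 F459051) (tt N121579 D224838) (tt N89186 F459052) (tt N106548 F459053))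
theorem Q107643 : ∀ i, i < 107643 → P i := stepQ 107642 Q107642 (allL N107642 (tt N118447 (iv1 F510414)) (tt N88554 (iv0 F459054)) (tt N116758 (iv2 F501668)) (tt N121579 (iv3 F527133)) (tt N121580 D224839) (tt N72793 (iv5 D210861)) (tt N116725 F501514) (tt N112712 (iv7 F482309)))
theorem Q107644 : ∀ i, i < 107644 → P i := stepQ 107643 Q107643 (allL N107643 (tt N110887 (iv1 F473614)) (tt N72794 (iv0 D210862)) (tt N110534 (iv2 F472031)) (tt N120354 (iv3 F520339)) (tt N114394 (iv4 F489945)) (tt N108080 F461029) (tt N114393 F489942) (tt N110533 (iv7 F472028)))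
theorem Q107645 : ∀ i, i < 107645 → P i := stepQ 107644 Q107644 (allL N107644 (tt N72794 (iv1 D210863)) (tt N110887 (iv0 F473613)) (tt N110533 (iv2 F472026)) (tt N121581 D224840) (tt N117055 (iv4 F503151)) (tt N108058 (iv5 F460921)) (tt N106553 (iv6 F460918)) (tt N110534 (iv7 F472033)))
theorem Q107646 : ∀ i, i < 107646 → P i := stepQ 107645 Q107645 (allL N107645 (tt N105198 F459057) (tt N107043 F459056) (tt N114048 (iv2 F488351)) (tt N121582 D224841) (tt N72794 (iv4 D210864)) (tt N106996 F459055) (tt N120362 (iv6 F520378)) (tt N116663 (iv7 F501200)))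
theorem Q107647 : ∀ i, i < 107647 → P i := stepQ 107646 Q107646 (allL N107646 (tt N110533 (iv1 F472030)) (tt N110534 (iv0 F472034)) (tt N110887 (iv2 F473610)) (tt N121088 (iv3 F524453)) (tt N116663 (iv4 F501197)) (tt N72795 F459058) (tt N120288 (iv6 F520041)) (tt N72794 (iv7 D210865)))
theorem Q107648 : ∀ i, i < 107648 → P i := stepQ 107647 Q107647 (allL N107647 (tt N76932 F459060) (tt N75376 F459061) (tt N110269 (iv2 F470747)) (tt N72797 F459059) (tt N85858 F459062) (tt N72796 (iv5 D210866)) (tt N85703 F459063) (tt N108070 (iv7 F460988)))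
theorem Q107649 : ∀ i, i < 107649 → P i := stepQ 107648 Q107648 (allL N107648 (tt N112033 F479179) (tt N90056 (iv0 F459066)) (tt N104145 F459064) (tt N72800 (iv3 D210867)) (tt N116716 (iv4 F501465)) (tt N84949 F459067) (tt N89659 F459065) (tt N114953 (iv7 F492737)))
theorem Q107650 : ∀ i, i < 107650 → P i := stepQ 107649 Q107649 (allL N107649 (tt N84091 F459070) (tt N89159 F459072) (tt N90410 F459068) (tt N84949 F459069) (tt N84951 F459071) (tt N72800 (iv5 D210868)) (tt N108345 (iv6 F462177)) (tt N90411 (iv7 F459073)))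
theorem Q107651 : ∀ i, i < 107651 → P i := stepQ 107650 Q107650 (allL N107650 (tt N89104 (iv1 F459077)) (tt N78346 F459078) (tt N104146 F459074) (tt N114953 (iv3 F492736)) (tt N72801 F459075) (tt N90411 F459076) (tt N76488 (iv6 F459079)) (tt N72800 (iv7 D210869)))
theorem Q107652 : ∀ i, i < 107652 → P i := stepQ 107651 Q107651 (allL N107651 (tt N89650 (iv1 F459085)) (tt N89676 (iv0 F459084)) (tt N72820 F459080) (tt N76461 F459081) (tt N88854 F459082) (tt N76483 F459083) (tt N72803 (iv6 D210870)) (tt N89675 (iv7 F459086)))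
theorem Q107653 : ∀ i, i < 107653 → P i := stepQ 107652 Q107652 (allL N107652 (tt N92197 (iv1 F459091)) (tt N76944 F459090) (tt N72804 (iv2 D210871)) (tt N75375 F459087) (tt N92203 F459088) (tt N113105 (iv5 F483994)) (tt N119546 (iv6 F516175)) (tt N92195 F459089))
theorem Q107654 : ∀ i, i < 107654 → P i := stepQ 107653 Q107653 (allL N107653 (tt N89692 F459096) (tt N89691 F459097) (tt N89693 F459092) (tt N114769 (iv3 F491760)) (tt N107122 F459093) (tt N72806 (iv5 D210872)) (tt N89688 F459094) (tt N89653 F459095))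
theorem Q107655 : ∀ i, i < 107655 → P i := stepQ 107654 Q107654 (allL N107654 (tt N79114 F459100) (tt N77661 F459101) (tt N109561 (iv2 F467532)) (tt N116789 (iv3 F501844)) (tt N73385 F459099) (tt N72813 (iv5 D210873)) (tt N73384 F459098) (tt N109560 F467524))
theorem Q107656 : ∀ i, i < 107656 → P i := stepQ 107655 Q107655 (allL N107655 (tt N119987 F518407) (tt N106245 (iv0 F459106)) (tt N105507 F459102) (tt N103887 F459103) (tt N119231 (iv4 F514500)) (tt N81463 F459104) (tt N72817 (iv6 D210874)) (tt N105696 (iv7 F459105)))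
theorem Q107657 : ∀ i, i < 107657 → P i := stepQ 107656 Q107656 (allL N107656 (tt N110307 (iv1 F470960)) (tt N118628 (iv0 F511216)) (tt N119155 (iv2 F514082)) (tt N72818 (iv3 D210875)) (tt N105043 F459107) (tt N99543 F459108) (tt N114749 (iv6 F491655)) (tt N105508 F459109))
theorem Q107658 : ∀ i, i < 107658 → P i := stepQ 107657 Q107657 (allL N107657 (tt N120177 (iv1 F519451)) (tt N89702 (iv0 F491656)) (tt N108074 (iv2 F461008)) (tt N114749 F491654) (tt N89698 F459110) (tt N121583 D224842) (tt N72818 (iv6 D210876)) (tt N120176 (iv7 F519446)))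
theorem Q107659 : ∀ i, i < 107659 → P i := stepQ 107658 Q107658 (allL N107658 (tt N89129 F459115) (tt N101360 (iv0 F459116)) (tt N88854 F459111) (tt N76088 F459112) (tt N72820 F459113) (tt N81866 F459114) (tt N72819 (iv6 D210877)) (tt N88857 (iv7 F459117)))
theorem Q107660 : ∀ i, i < 107660 → P i := stepQ 107659 Q107659 (allL N107659 (tt N89676 (iv1 F459122)) (tt N89650 F459123) (tt N89675 F459118) (tt N75586 F459119) (tt N88857 F459120) (tt N89666 F459121) (tt N119998 (iv6 F518471)) (tt N72820 (iv7 D210878)))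
theorem Q107661 : ∀ i, i < 107661 → P i := stepQ 107660 Q107660 (allL N107660 (tt N80346 (iv1 F459128)) (tt N72823 (iv0 D210879)) (tt N81713 (iv2 F459127)) (tt N109568 (iv3 F467567)) (tt N76862 F459125) (tt N80977 F459124) (tt N99226 F459126) (tt N81680 F459129))
theorem Q107662 : ∀ i, i < 107662 → P i := stepQ 107661 Q107661 (allL N107661 (tt N114636 (iv1 F491128)) (tt N114616 (iv0 F491033)) (tt N90193 F459130) (tt N72828 F459131) (tt N114623 (iv4 F491057)) (tt N72827 (iv5 D210880)) (tt N121584 D224843) (tt N107549 F459132))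
theorem Q107663 : ∀ i, i < 107663 → P i := stepQ 107662 Q107662 (allL N107662 (tt N121585 D224844) (tt N98878 (iv0 F459134)) (tt N119820 (iv2 F517535)) (tt N121584 (iv3 F527161)) (tt N121294 (iv4 F525603)) (tt N100457 F459133) (tt N72828 (iv6 D210881)) (tt N119923 (iv7 F518061)))
theorem Q107664 : ∀ i, i < 107664 → P i := stepQ 107663 Q107663 (allL N107663 (tt N116664 (iv1 F501206)) (tt N116392 (iv0 F499855)) (tt N110793 (iv2 F473203)) (tt N72829 (iv3 D210882)) (tt N115045 (iv4 F493200)) (tt N77831 F459135) (tt N107535 (iv6 F459136)) (tt N116672 (iv7 F501245)))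
theorem Q107665 : ∀ i, i < 107665 → P i := stepQ 107664 Q107664 (allL N107664 (tt N98963 F459139) (tt N98958 F459140) (tt N77991 F459137) (tt N121586 D224845) (tt N72829 (iv4 D210883)) (tt N106642 F459138) (tt N121587 D224846) (tt N119822 (iv7 F517549)))
theorem Q107666 : ∀ i, i < 107666 → P i := stepQ 107665 Q107665 (allL N107665 (tt N81931 F481779) (tt N121588 D224847) (tt N77989 F459143) (tt N107535 F459144) (tt N121587 (iv4 F527182)) (tt N77832 F459145) (tt N72829 (iv6 D210884)) (tt N121589 D224848))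
theorem Q107667 : ∀ i, i < 107667 → P i := stepQ 107666 Q107666 (allL N107666 (tt N110556 (iv1 F472127)) (tt N76861 (iv0 F459148)) (tt N119742 (iv2 F517192)) (tt N72830 (iv3 D210885)) (tt N121590 D224849) (tt N77986 F459146) (tt N121591 D224850) (tt N77985 F459147))
theorem Q107668 : ∀ i, i < 107668 → P i := stepQ 107667 Q107667 (allL N107667 (tt N98958 F459151) (tt N98963 F459152) (tt N119822 (iv2 F517546)) (tt N121592 D224851) (tt N72830 (iv4 D210886)) (tt N102675 F459149) (tt N109933 (iv6 F469291)) (tt N77991 F459150))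
theorem Q107669 : ∀ i, i < 107669 → P i := stepQ 107668 Q107668 (allL N107668 (tt N119927 F518076) (tt N121593 D224852) (tt N119823 (iv2 F517553)) (tt N121591 (iv3 F527205)) (tt N109933 F469293) (tt N112864 (iv5 F483029)) (tt N72830 (iv6 D210887)) (tt N120466 (iv7 F520927)))
theorem Q107670 : ∀ i, i < 107670 → P i := stepQ 107669 Q107669 (allL N107669 (tt N108012 (iv1 F469544)) (tt N121512 (iv0 F526780)) (tt N109836 (iv2 F468840)) (tt N72831 (iv3 D210888)) (tt N76856 F459153) (tt N106649 F459154) (tt N98980 F459155) (tt N119824 (iv7 F517560)))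
theorem Q107671 : ∀ i, i < 107671 → P i := stepQ 107670 Q107670 (allL N107670 (tt N100606 F459161) (tt N96481 F459160) (tt N99587 F459156) (tt N72834 F459157) (tt N88968 F459159) (tt N72833 (iv5 D210889)) (tt N96188 (iv6 F459162)) (tt N105295 F459158))
theorem Q107672 : ∀ i, i < 107672 → P i := stepQ 107671 Q107671 (allL N107671 (tt N101533 (iv1 F461610)) (tt N100917 (iv0 F459167)) (tt N99588 F459163) (tt N72835 F459164) (tt N99065 F459165) (tt N108206 (iv5 F461492)) (tt N72833 (iv6 D210890)) (tt N99119 F459166))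
theorem Q107673 : ∀ i, i < 107673 → P i := stepQ 107672 Q107672 (allL N107672 (tt N73558 (iv1 F459172)) (tt N72835 (iv0 D210891)) (tt N73454 (iv2 F459169)) (tt N73549 F459170) (tt N111807 (iv4 F478077)) (tt N112221 (iv5 F480116)) (tt N111536 (iv6 F476804)) (tt N73559 F459171))
theorem Q107674 : ∀ i, i < 107674 → P i := stepQ 107673 Q107673 (allL N107673 (tt N115929 F497634) (tt N118154 (iv0 F508899)) (tt N105366 F459173) (tt N108206 (iv3 F461490)) (tt N95501 F459175) (tt N72835 (iv5 D210892)) (tt N95500 F459174) (tt N121594 D224853))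
theorem Q107675 : ∀ i, i < 107675 → P i := stepQ 107674 Q107674 (allL N107674 (tt N73559 (iv1 F459180)) (tt N73454 F459181) (tt N73558 F459176) (tt N99119 F459177) (tt N88463 F459178) (tt N121594 (iv5 F527223)) (tt N97381 F459179) (tt N72835 (iv7 D210893)))
theorem Q107676 : ∀ i, i < 107676 → P i := stepQ 107675 Q107675 (allL N107675 (tt N90005 F459185) (tt N92406 F459186) (tt N116955 (iv2 F502686)) (tt N99299 F459183) (tt N108696 (iv4 F463593)) (tt N72839 (iv5 D210894)) (tt N99298 F459184) (tt N116984 (iv7 F502828)))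
theorem Q107677 : ∀ i, i < 107677 → P i := stepQ 107676 Q107676 (allL N107676 (tt N72842 (iv1 D210895)) (tt N72845 F459187) (tt N116677 (iv2 F501260)) (tt N92406 (iv3 F459190)) (tt N120022 (iv4 F518606)) (tt N74009 F459189) (tt N117031 (iv6 F503053)) (tt N99340 F459188))
theorem Q107678 : ∀ i, i < 107678 → P i := stepQ 107677 Q107677 (allL N107677 (tt N99024 F459195) (tt N99023 F459196) (tt N99026 F459191) (tt N76866 F459192) (tt N72842 (iv4 D210896)) (tt N106677 F459193) (tt N112567 (iv6 F481683)) (tt N99013 F459194))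
theorem Q107679 : ∀ i, i < 107679 → P i := stepQ 107678 Q107678 (allL N107678 (tt N89462 F459199) (tt N117610 (iv0 F505986)) (tt N111611 (iv2 F477150)) (tt N72846 F459197) (tt N99734 F459198) (tt N107878 (iv5 F460087)) (tt N72844 (iv6 D210897)) (tt N120614 (iv7 F521766)))
theorem Q107680 : ∀ i, i < 107680 → P i := stepQ 107679 Q107679 (allL N107679 (tt N94567 (iv1 F459202)) (tt N72849 (iv0 D210898)) (tt N108469 (iv2 F462717)) (tt N90260 F459201) (tt N73472 F459200) (tt N107684 (iv5 F459222)) (tt N119297 (iv6 F514900)) (tt N101643 (iv7 F459203)))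
theorem Q107681 : ∀ i, i < 107681 → P i := stepQ 107680 Q107680 (allL N107680 (tt N72849 (iv1 D210899)) (tt N94567 F459204) (tt N101643 F459208) (tt N101637 (iv3 F459207)) (tt N73473 F459205) (tt N99614 F459206) (tt N118756 F511914) (tt N108469 (iv7 F462719)))
theorem Q107682 : ∀ i, i < 107682 → P i := stepQ 107681 Q107681 (allL N107681 (tt N73431 (iv1 F459212)) (tt N94511 F459211) (tt N72850 (iv2 D210900)) (tt N73479 F459209) (tt N89437 F459210) (tt N110050 (iv5 F469734)) (tt N89436 (iv6 F459213)) (tt N110989 (iv7 F474115)))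
theorem Q107683 : ∀ i, i < 107683 → P i := stepQ 107682 Q107682 (allL N107682 (tt N110434 (iv1 F471578)) (tt N110432 (iv0 F471562)) (tt N110050 (iv2 F469733)) (tt N72851 F459214) (tt N120388 (iv4 F520524)) (tt N72850 (iv5 D210901)) (tt N121595 D224854) (tt N110433 (iv7 F471566)))
theorem Q107684 : ∀ i, i < 107684 → P i := stepQ 107683 Q107683 (allL N107683 (tt N89075 (iv1 F459220)) (tt N89072 (iv0 F459219)) (tt N89436 F459215) (tt N72852 F459216) (tt N79425 F459217) (tt N107854 (iv5 F459999)) (tt N72850 (iv6 D210902)) (tt N89438 F459218))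
theorem Q107685 : ∀ i, i < 107685 → P i := stepQ 107684 Q107684 (allL N107684 (tt N120022 (iv1 F518603)) (tt N116671 (iv0 F501238)) (tt N74007 F459221) (tt N98827 F459223) (tt N72851 (iv4 D210903)) (tt N107679 F459222) (tt N98826 (iv6 F459224)) (tt N118168 (iv7 F508976)))
theorem Q107686 : ∀ i, i < 107686 → P i := stepQ 107685 Q107685 (allL N107685 (tt N92888 F459227) (tt N78060 (iv0 F459228)) (tt N74008 F459225) (tt N121595 (iv3 F527227)) (tt N98826 F459226) (tt N107856 (iv5 F460010)) (tt N72851 (iv6 D210904)) (tt N107853 (iv7 F459996)))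
theorem Q107687 : ∀ i, i < 107687 → P i := stepQ 107686 Q107686 (allL N107686 (tt N95360 F459230) (tt N95362 (iv0 F459231)) (tt N118696 (iv2 F511592)) (tt N72855 (iv3 D210905)) (tt N111482 (iv4 F476546)) (tt N95156 F459229) (tt N112292 (iv6 F480396)) (tt N115437 (iv7 F495197)))
theorem Q107688 : ∀ i, i < 107688 → P i := stepQ 107687 Q107687 (allL N107687 (tt N91841 F459235) (tt N107895 (iv0 F460158)) (tt N72857 F459232) (tt N72909 F459233) (tt N106807 F459234) (tt N116772 (iv5 F501745)) (tt N72856 (iv6 D210906)) (tt N112242 (iv7 F480194)))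
theorem Q107689 : ∀ i, i < 107689 → P i := stepQ 107688 Q107688 (allL N107688 (tt N112242 (iv1 F480195)) (tt N72857 (iv0 D210907)) (tt N91841 (iv2 F459238)) (tt N87905 F459237) (tt N91845 F459236) (tt N87904 (iv5 F459239)) (tt N107888 F460134) (tt N107895 (iv7 F460160)))
theorem Q107690 : ∀ i, i < 107690 → P i := stepQ 107689 Q107689 (allL N107689 (tt N112808 F482709) (tt N117642 (iv0 F506171)) (tt N116772 (iv2 F501742)) (tt N72858 F459240) (tt N110931 (iv4 F473847)) (tt N72857 (iv5 D210908)) (tt N110835 (iv6 F473370)) (tt N118255 (iv7 F509389)))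
theorem Q107691 : ∀ i, i < 107691 → P i := stepQ 107690 Q107690 (allL N107690 (tt N94984 F459244) (tt N94986 F459245) (tt N72915 F459241) (tt N119289 F514855) (tt N72858 (iv4 D210909)) (tt N107196 F459242) (tt N77847 F459243) (tt N118760 (iv7 F511935)))
theorem Q107692 : ∀ i, i < 107692 → P i := stepQ 107691 Q107691 (allL N107691 (tt N72860 (iv1 D210910)) (tt N102669 F459246) (tt N72958 F459251) (tt N72986 (iv3 F459250)) (tt N106005 F459249) (tt N106932 F459248) (tt N121596 D224855) (tt N106515 F459247))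
theorem Q107693 : ∀ i, i < 107693 → P i := stepQ 107692 Q107692 (allL N107692 (tt N72912 F459255) (tt N90224 (iv0 F459256)) (tt N90352 F459252) (tt N72863 F459253) (tt N102672 F459254) (tt N112813 (iv5 F482736)) (tt N72860 (iv6 D210911)) (tt N90353 (iv7 F459257)))
theorem Q107694 : ∀ i, i < 107694 → P i := stepQ 107693 Q107693 (allL N107693 (tt N85407 F459262) (tt N107281 F459263) (tt N73436 F459259) (tt N121412 (iv3 F526215)) (tt N73432 F459260) (tt N72861 (iv5 D210912)) (tt N85392 F459264) (tt N90020 F459261))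
theorem Q107695 : ∀ i, i < 107695 → P i := stepQ 107694 Q107694 (allL N107694 (tt N121597 D224856) (tt N86268 (iv0 F459267)) (tt N90022 F459265) (tt N121492 (iv3 F526669)) (tt N72863 F459266) (tt N116133 (iv5 F498654)) (tt N72861 (iv6 D210913)) (tt N117236 (iv7 F504055)))
theorem Q107696 : ∀ i, i < 107696 → P i := stepQ 107695 Q107695 (allL N107695 (tt N120768 (iv1 F522611)) (tt N98211 F459269) (tt N114774 (iv2 F491785)) (tt N72866 F459268) (tt N114344 (iv4 F489724)) (tt N72864 (iv5 D210914)) (tt N114658 (iv6 F491238)) (tt N108095 (iv7 F461090)))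
theorem Q107697 : ∀ i, i < 107697 → P i := stepQ 107696 Q107696 (allL N107696 (tt N120724 (iv1 F522367)) (tt N118310 (iv0 F509640)) (tt N120902 (iv2 F523377)) (tt N72867 F459270) (tt N102259 F459271) (tt N87072 (iv5 F459272)) (tt N72864 (iv6 D210915)) (tt N110421 (iv7 F471499)))
theorem Q107698 : ∀ i, i < 107698 → P i := stepQ 107697 Q107697 (allL N107697 (tt N72867 (iv1 D210916)) (tt N117235 (iv0 F504048)) (tt N72953 F459274) (tt N72991 (iv3 F459273)) (tt N117729 (iv4 F506663)) (tt N112045 F479237) (tt N117728 (iv6 F506660)) (tt N117668 (iv7 F506314)))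
theorem Q107699 : ∀ i, i < 107699 → P i := stepQ 107698 Q107698 (allL N107698 (tt N121598 D224857) (tt N111040 (iv0 F474387)) (tt N72872 F459275) (tt N72995 F459276) (tt N90166 F459277) (tt N73790 (iv5 F459278)) (tt N72868 (iv6 D210917)) (tt N117171 (iv7 F503741)))
theorem Q107700 : ∀ i, i < 107700 → P i := stepQ 107699 Q107699 (allL N107699 (tt N89483 F459284) (tt N89482 F459285) (tt N72875 F459279) (tt N72997 F459280) (tt N81244 F459283) (tt N72869 (iv5 D210918)) (tt N73790 F459281) (tt N89013 F459282))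
theorem Q107701 : ∀ i, i < 107701 → P i := stepQ 107700 Q107700 (allL N107700 (tt N118822 (iv1 F512264)) (tt N98328 (iv0 F459293)) (tt N106931 F459288) (tt N72870 (iv3 D210919)) (tt N90434 F459289) (tt N73429 F459290) (tt N89768 F459291) (tt N89831 F459292))
theorem Q107702 : ∀ i, i < 107702 → P i := stepQ 107701 Q107701 (allL N107701 (tt N117172 (iv1 F503744)) (tt N90148 (iv0 F459299)) (tt N90166 F459294) (tt N101218 F459295) (tt N72872 F459296) (tt N84152 F459298) (tt N72871 (iv6 D210920)) (tt N101236 F459297))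
theorem Q107703 : ∀ i, i < 107703 → P i := stepQ 107702 Q107702 (allL N107702 (tt N117171 (iv1 F503743)) (tt N72872 (iv0 D210921)) (tt N121598 F527251) (tt N91569 (iv3 F461515)) (tt N117339 (iv4 F504538)) (tt N91568 F461514) (tt N95248 (iv6 F469606)) (tt N111040 F474389))
theorem Q107704 : ∀ i, i < 107704 → P i := stepQ 107703 Q107703 (allL N107703 (tt N72872 (iv1 D210922)) (tt N117171 (iv0 F503742)) (tt N111040 (iv2 F474384)) (tt N114726 (iv3 F491549)) (tt N89818 F459301) (tt N117596 (iv5 F505908)) (tt N80275 (iv6 F459300)) (tt N121598 (iv7 F527253)))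
theorem Q107705 : ∀ i, i < 107705 → P i := stepQ 107704 Q107704 (allL N107704 (tt N108210 (iv1 F461512)) (tt N93332 F459305) (tt N73790 F459302) (tt N72878 F459303) (tt N116958 (iv4 F502702)) (tt N72872 (iv5 D210923)) (tt N72875 F459304) (tt N93706 (iv7 F459306)))
theorem Q107706 : ∀ i, i < 107706 → P i := stepQ 107705 Q107705 (allL N107705 (tt N111040 (iv1 F474388)) (tt N121598 F527252) (tt N117171 (iv2 F503737)) (tt N72879 F459307) (tt N101236 F459308) (tt N93706 F459309) (tt N94779 F459310) (tt N72872 (iv7 D210924)))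
theorem Q107707 : ∀ i, i < 107707 → P i := stepQ 107706 Q107706 (allL N107706 (tt N119299 F514911) (tt N121596 (iv0 F527238)) (tt N120961 (iv2 F523720)) (tt N72873 (iv3 D210925)) (tt N106792 F459311) (tt N91610 (iv5 F459313)) (tt N108297 (iv6 F461950)) (tt N89477 F459312))
theorem Q107708 : ∀ i, i < 107708 → P i := stepQ 107707 Q107707 (allL N107707 (tt N74703 F459318) (tt N93602 F459319) (tt N89480 F459314) (tt N91610 F459315) (tt N93943 F459317) (tt N72873 (iv5 D210926)) (tt N74669 F459320) (tt N89478 F459316))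
theorem Q107709 : ∀ i, i < 107709 → P i := stepQ 107708 Q107708 (allL N107708 (tt N117728 (iv1 F506659)) (tt N107511 (iv0 F459324)) (tt N89481 F459321) (tt N108297 (iv3 F461949)) (tt N89079 F459322) (tt N108296 (iv5 F461946)) (tt N72873 (iv6 D210927)) (tt N94497 F459323))
theorem Q107710 : ∀ i, i < 107710 → P i := stepQ 107709 Q107709 (allL N107709 (tt N117070 (iv1 F503234)) (tt N93604 (iv0 F459328)) (tt N109478 (iv2 F467176)) (tt N72874 (iv3 D210928)) (tt N74713 F459325) (tt N74631 F459329) (tt N94498 F459326) (tt N89479 F459327))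
theorem Q107711 : ∀ i, i < 107711 → P i := stepQ 107710 Q107710 (allL N107710 (tt N93602 F459334) (tt N74703 F459335) (tt N89478 F459330) (tt N74631 F459331) (tt N89080 F459336) (tt N72874 (iv5 D210929)) (tt N76977 F459332) (tt N89480 F459333))
theorem Q107712 : ∀ i, i < 107712 → P i := stepQ 107711 Q107711 (allL N107711 (tt N89013 (iv1 F459338)) (tt N72875 (iv0 D210930)) (tt N89483 (iv2 F459339)) (tt N121599 D224858) (tt N74613 (iv4 F459341)) (tt N89075 F459337) (tt N118638 (iv6 F511279)) (tt N89482 (iv7 F459340)))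
theorem Q107713 : ∀ i, i < 107713 → P i := stepQ 107712 Q107712 (allL N107712 (tt N72875 (iv1 D210931)) (tt N89013 F459342) (tt N89482 (iv2 F459344)) (tt N117107 (iv3 F503425)) (tt N108214 (iv4 F461521)) (tt N89072 (iv5 F459345)) (tt N121600 D224859) (tt N89483 F459343))
theorem Q107714 : ∀ i, i < 107714 → P i := stepQ 107713 Q107713 (allL N107713 (tt N112171 (iv1 F479881)) (tt N112173 (iv0 F479890)) (tt N81244 F459346) (tt N108946 (iv3 F464614)) (tt N72875 (iv4 D210932)) (tt N80832 F459348) (tt N116958 (iv6 F502704)) (tt N89484 F459347))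
theorem Q107715 : ∀ i, i < 107715 → P i := stepQ 107714 Q107714 (allL N107714 (tt N92905 F459353) (tt N92903 F459355) (tt N93390 F459349) (tt N72876 (iv3 D210933)) (tt N98327 F459350) (tt N74547 (iv5 F459354)) (tt N95251 F459351) (tt N73032 F459352))
theorem Q107716 : ∀ i, i < 107716 → P i := stepQ 107715 Q107715 (allL N107715 (tt N77093 F459361) (tt N77091 F459360) (tt N73030 F459357) (tt N74547 F459358) (tt N110658 (iv4 F472627)) (tt N72876 (iv5 D210934)) (tt N74545 F459362) (tt N73034 F459359))
theorem Q107717 : ∀ i, i < 107717 → P i := stepQ 107716 Q107716 (allL N107716 (tt N77091 F459367) (tt N77093 F459368) (tt N73034 F459363) (tt N93381 F459364) (tt N110655 (iv4 F472619)) (tt N72877 (iv5 D210935)) (tt N82413 F459365) (tt N73030 F459366))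
theorem Q107718 : ∀ i, i < 107718 → P i := stepQ 107717 Q107717 (allL N107717 (tt N108718 (iv1 F463682)) (tt N118042 (iv0 F508251)) (tt N73036 F459369) (tt N92436 (iv3 F459372)) (tt N72878 (iv4 D210936)) (tt N95324 (iv5 F459373)) (tt N72882 F459370) (tt N93707 F459371))
theorem Q107719 : ∀ i, i < 107719 → P i := stepQ 107718 Q107718 (allL N107718 (tt N107875 (iv1 F460078)) (tt N94944 F459378) (tt N73045 F459374) (tt N93850 F459375) (tt N72880 (iv4 D210937)) (tt N108994 (iv5 F464812)) (tt N93849 F459376) (tt N73048 F459377))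
theorem Q107720 : ∀ i, i < 107720 → P i := stepQ 107719 Q107719 (allL N107719 (tt N112175 F479901) (tt N119085 F513711) (tt N118782 (iv2 F512034)) (tt N72881 (iv3 D210938)) (tt N121601 D224860) (tt N73525 F459379) (tt N112197 F480009) (tt N73044 F459380))
theorem Q107721 : ∀ i, i < 107721 → P i := stepQ 107720 Q107720 (allL N107720 (tt N94944 F459383) (tt N107875 (iv0 F460077)) (tt N73048 F459381) (tt N108306 (iv3 F461987)) (tt N72881 (iv4 D210939)) (tt N108304 F461979) (tt N121602 D224861) (tt N73045 F459382))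
theorem Q107722 : ∀ i, i < 107722 → P i := stepQ 107721 Q107721 (allL N107721 (tt N118797 (iv1 F512124)) (tt N116005 (iv0 F498008)) (tt N73050 F459384) (tt N112197 (iv3 F480010)) (tt N121602 (iv4 F527272)) (tt N73528 F459385) (tt N72881 (iv6 D210940)) (tt N96904 F459386))
theorem Q107723 : ∀ i, i < 107723 → P i := stepQ 107722 Q107722 (allL N107722 (tt N73055 (iv1 F459392)) (tt N72882 (iv0 D210941)) (tt N73051 (iv2 F459390)) (tt N108711 (iv3 F463654)) (tt N95083 F459388) (tt N106462 F459389) (tt N95082 (iv6 F459393)) (tt N73052 (iv7 F459391)))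
theorem Q107724 : ∀ i, i < 107724 → P i := stepQ 107723 Q107723 (allL N107723 (tt N72882 (iv1 D210942)) (tt N73055 F459394) (tt N73052 (iv2 F459399)) (tt N76749 (iv3 F459398)) (tt N73557 F459397) (tt N92458 F459396) (tt N112081 (iv6 F479407)) (tt N73051 F459395))
theorem Q107725 : ∀ i, i < 107725 → P i := stepQ 107724 Q107724 (allL N107724 (tt N117867 F507350) (tt N119841 (iv0 F517646)) (tt N118604 (iv2 F511115)) (tt N72882 (iv3 D210943)) (tt N108946 F464616) (tt N94395 F459400) (tt N92436 F459401) (tt N120055 (iv7 F518804)))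
theorem Q107726 : ∀ i, i < 107726 → P i := stepQ 107725 Q107725 (allL N107725 (tt N73052 (iv1 F459405)) (tt N73051 F459406) (tt N73055 F459402) (tt N120055 (iv3 F518801)) (tt N72883 F459403) (tt N73084 F459404) (tt N120570 (iv6 F521508)) (tt N72882 (iv7 D210944)))
theorem Q107727 : ∀ i, i < 107727 → P i := stepQ 107726 Q107726 (allL N107726 (tt N73069 (iv1 F459409)) (tt N72884 (iv0 D210945)) (tt N73068 (iv2 F459408)) (tt N116830 (iv3 F502052)) (tt N104245 F459407) (tt N109588 (iv5 F467608)) (tt N103081 (iv6 F459411)) (tt N72941 F459410))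
theorem Q107728 : ∀ i, i < 107728 → P i := stepQ 107727 Q107727 (allL N107727 (tt N109590 (iv1 F467619)) (tt N74609 (iv0 F459417)) (tt N93758 F459412) (tt N72885 F459413) (tt N76094 F459414) (tt N72884 (iv5 D210946)) (tt N74598 F459415) (tt N73070 F459416))
theorem Q107729 : ∀ i, i < 107729 → P i := stepQ 107728 Q107728 (allL N107728 (tt N94828 F459422) (tt N94826 F459423) (tt N72888 F459418) (tt N85106 F459419) (tt N99885 F459420) (tt N72887 (iv5 D210947)) (tt N85104 (iv6 F459424)) (tt N94875 F459421))
theorem Q107730 : ∀ i, i < 107730 → P i := stepQ 107729 Q107729 (allL N107729 (tt N117681 (iv1 F506390)) (tt N95732 (iv0 F459430)) (tt N72889 F459425) (tt N81217 F459426) (tt N95549 F459427) (tt N93453 (iv5 F459429)) (tt N72887 (iv6 D210948)) (tt N93451 F459428))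
theorem Q107731 : ∀ i, i < 107731 → P i := stepQ 107730 Q107730 (allL N107730 (tt N112774 F482598) (tt N83130 (iv0 F459435)) (tt N85104 F459431) (tt N72890 F459432) (tt N105636 F459433) (tt N117571 (iv5 F505764)) (tt N72888 (iv6 D210949)) (tt N105634 F459434))
theorem Q107732 : ∀ i, i < 107732 → P i := stepQ 107731 Q107731 (allL N107731 (tt N72889 (iv1 D210950)) (tt N93451 F459436) (tt N95732 F459438) (tt N93445 F459440) (tt N91835 (iv4 F459437)) (tt N96007 (iv5 F459441)) (tt N91834 F459439) (tt N117681 (iv7 F506388)))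
theorem Q107733 : ∀ i, i < 107733 → P i := stepQ 107732 Q107732 (allL N107732 (tt N93357 (iv1 F459446)) (tt N80569 F459447) (tt N85110 F459442) (tt N105634 F459443) (tt N73023 F459444) (tt N120161 (iv5 F519355)) (tt N93345 F459445) (tt N72890 (iv7 D210951)))
theorem Q107734 : ∀ i, i < 107734 → P i := stepQ 107733 Q107733 (allL N107733 (tt N78477 F459452) (tt N93465 (iv0 F459453)) (tt N94823 F459449) (tt N93470 F459450) (tt N79832 F459451) (tt N112275 (iv5 F480311)) (tt N72892 (iv6 D210952)) (tt N94883 (iv7 F459454)))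
theorem Q107735 : ∀ i, i < 107735 → P i := stepQ 107734 Q107734 (allL N107734 (tt N94951 F459459) (tt N94670 (iv0 F459460)) (tt N94950 F459455) (tt N72893 (iv3 D210953)) (tt N87002 F459456) (tt N89759 F459457) (tt N101146 F459461) (tt N94821 F459458))
theorem Q107736 : ∀ i, i < 107736 → P i := stepQ 107735 Q107735 (allL N107735 (tt N72917 (iv1 F459465)) (tt N88497 (iv0 F459464)) (tt N94820 F459462) (tt N101146 F459463) (tt N109235 (iv4 F465910)) (tt N121450 (iv5 F526443)) (tt N72893 (iv6 D210954)) (tt N94981 (iv7 F459466)))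
theorem Q107737 : ∀ i, i < 107737 → P i := stepQ 107736 Q107736 (allL N107736 (tt N111602 (iv1 F477114)) (tt N101119 (iv0 F459472)) (tt N72899 F459467) (tt N80780 F459468) (tt N95364 F459469) (tt N80603 F459470) (tt N72898 (iv6 D210955)) (tt N80992 F459471))
theorem Q107738 : ∀ i, i < 107738 → P i := stepQ 107737 Q107737 (allL N107737 (tt N72899 (iv1 D210956)) (tt N80992 F459473) (tt N101119 F459477) (tt N112485 (iv3 F481293)) (tt N99708 (iv4 F459475)) (tt N81772 F459474) (tt N106096 (iv6 F459476)) (tt N111602 (iv7 F477115)))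
theorem Q107739 : ∀ i, i < 107739 → P i := stepQ 107738 Q107738 (allL N107738 (tt N72901 (iv1 D210957)) (tt N102787 F459478) (tt N111688 (iv2 F477490)) (tt N95360 (iv3 F459481)) (tt N82490 F459480) (tt N118692 (iv5 F511568)) (tt N100802 F459482) (tt N82489 F459479))
theorem Q107740 : ∀ i, i < 107740 → P i := stepQ 107739 Q107739 (allL N107739 (tt N94759 F459487) (tt N103522 F459488) (tt N118745 (iv2 F511855)) (tt N72903 F459483) (tt N95119 F459486) (tt N72901 (iv5 D210958)) (tt N73486 F459484) (tt N95185 F459485))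
theorem Q107741 : ∀ i, i < 107741 → P i := stepQ 107740 Q107740 (allL N107740 (tt N72906 (iv1 F459493)) (tt N72902 (iv0 D210959)) (tt N74660 (iv2 F459492)) (tt N95349 F459491) (tt N97766 F459490) (tt N102762 F459489) (tt N87778 F459495) (tt N97524 F459494))
theorem Q107742 : ∀ i, i < 107742 → P i := stepQ 107741 Q107741 (allL N107741 (tt N107819 (iv1 F459836)) (tt N76196 (iv0 F459498)) (tt N107820 (iv2 F459842)) (tt N111093 (iv3 F474631)) (tt N111095 (iv4 F474637)) (tt N99323 F459496) (tt N101128 F459497) (tt N72904 (iv7 D210960)))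
theorem Q107743 : ∀ i, i < 107743 → P i := stepQ 107742 Q107742 (allL N107742 (tt N95209 F459503) (tt N82445 F459504) (tt N95211 F459499) (tt N72907 F459500) (tt N85301 F459502) (tt N72905 (iv5 D210961)) (tt N118635 (iv6 F511260)) (tt N95188 F459501))
theorem Q107744 : ∀ i, i < 107744 → P i := stepQ 107743 Q107743 (allL N107743 (tt N80360 F459509) (tt N81762 (iv0 F459510)) (tt N103436 F459505) (tt N76121 F459506) (tt N72908 F459507) (tt N80443 F459508) (tt N72906 (iv6 D210962)) (tt N111592 (iv7 F477060)))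
theorem Q107745 : ∀ i, i < 107745 → P i := stepQ 107744 Q107744 (allL N107744 (tt N73256 F459514) (tt N107450 F459515) (tt N95186 F459511) (tt N119022 (iv3 F513330)) (tt N72907 (iv4 D210963)) (tt N73245 F459512) (tt N106413 (iv6 F459516)) (tt N95189 F459513))
theorem Q107746 : ∀ i, i < 107746 → P i := stepQ 107745 Q107745 (allL N107745 (tt N78464 F459521) (tt N107809 F459794) (tt N95187 F459517) (tt N118635 (iv3 F511259)) (tt N106413 F459518) (tt N80562 F459519) (tt N72907 (iv6 D210964)) (tt N73490 F459520))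
theorem Q107747 : ∀ i, i < 107747 → P i := stepQ 107746 Q107746 (allL N107746 (tt N72913 F459529) (tt N72909 (iv0 D210965)) (tt N72910 (iv2 F459524)) (tt N101156 (iv3 F459525)) (tt N81675 F459522) (tt N106949 (iv5 F459526)) (tt N81674 F459523) (tt N72911 (iv7 F459527)))
theorem Q107748 : ∀ i, i < 107748 → P i := stepQ 107747 Q107747 (allL N107747 (tt N72909 (iv1 D210966)) (tt N72913 F459531) (tt N72911 F459535) (tt N110554 (iv3 F472114)) (tt N81766 (iv4 F459533)) (tt N110549 (iv5 F472094)) (tt N95931 (iv6 F459534)) (tt N72910 F459532))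
theorem Q107749 : ∀ i, i < 107749 → P i := stepQ 107748 Q107748 (allL N107748 (tt N90353 (iv1 F459542)) (tt N90352 (iv0 F459540)) (tt N72912 F459536) (tt N116772 (iv3 F501743)) (tt N90226 F459537) (tt N72909 (iv5 D210967)) (tt N90335 F459538) (tt N90224 F459539))
theorem Q107750 : ∀ i, i < 107750 → P i := stepQ 107749 Q107749 (allL N107749 (tt N72911 (iv1 F459546)) (tt N72910 F459547) (tt N72913 F459543) (tt N112242 (iv3 F480192)) (tt N102048 F459544) (tt N90224 F459545) (tt N118740 (iv6 F511831)) (tt N72909 (iv7 D210968)))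
theorem Q107751 : ∀ i, i < 107751 → P i := stepQ 107750 Q107750 (allL N107750 (tt N116976 (iv1 F502786)) (tt N116952 (iv0 F502671)) (tt N106949 F459548) (tt N82055 F459549) (tt N91751 (iv4 F459551)) (tt N72910 (iv5 D210969)) (tt N91750 F459550) (tt N110549 (iv7 F472095)))
theorem Q107752 : ∀ i, i < 107752 → P i := stepQ 107751 Q107751 (allL N107751 (tt N81765 F459556) (tt N81764 (iv0 F459558)) (tt N81766 F459552) (tt N97421 F459553) (tt N72911 (iv4 D210970)) (tt N92023 F459557) (tt N97419 F459554) (tt N81675 F459555))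
theorem Q107753 : ∀ i, i < 107753 → P i := stepQ 107752 Q107752 (allL N107752 (tt N116952 F502672) (tt N116976 F502785) (tt N110549 (iv2 F472092)) (tt N89029 F459559) (tt N106950 (iv4 F459562)) (tt N72911 (iv5 D210971)) (tt N89028 F459560) (tt N106949 F459561))
theorem Q107754 : ∀ i, i < 107754 → P i := stepQ 107753 Q107753 (allL N107753 (tt N90224 (iv1 F459565)) (tt N72912 (iv0 D210972)) (tt N90353 (iv2 F459564)) (tt N100371 (iv3 F459567)) (tt N106498 F459563) (tt N118814 (iv5 F512214)) (tt N120495 (iv6 F521079)) (tt N90352 F459566))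
theorem Q107755 : ∀ i, i < 107755 → P i := stepQ 107754 Q107754 (allL N107754 (tt N118760 (iv1 F511937)) (tt N72915 (iv0 D210973)) (tt N94984 (iv2 F459571)) (tt N119868 (iv3 F517780)) (tt N81969 F459569) (tt N107333 F459568) (tt N81929 F459570) (tt N94986 (iv7 F459572)))
theorem Q107756 : ∀ i, i < 107756 → P i := stepQ 107755 Q107755 (allL N107755 (tt N72915 (iv1 D210974)) (tt N118760 (iv0 F511936)) (tt N94986 (iv2 F459576)) (tt N78025 F459577) (tt N94695 F459575) (tt N107330 F459574) (tt N117298 (iv6 F504345)) (tt N94984 F459573))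
theorem Q107757 : ∀ i, i < 107757 → P i := stepQ 107756 Q107756 (allL N107756 (tt N88497 (iv1 F459580)) (tt N72917 (iv0 D210975)) (tt N94981 (iv2 F459579)) (tt N118365 (iv3 F509944)) (tt N105712 F459578) (tt N115070 (iv5 F493335)) (tt N94883 (iv6 F459582)) (tt N94820 F459581))
theorem Q107758 : ∀ i, i < 107758 → P i := stepQ 107757 Q107757 (allL N107757 (tt N89532 F459587) (tt N89531 F459588) (tt N89533 F459583) (tt N72918 F459584) (tt N85343 F459586) (tt N72917 (iv5 D210976)) (tt N89504 (iv6 F459589)) (tt N85340 F459585))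
theorem Q107759 : ∀ i, i < 107759 → P i := stepQ 107758 Q107758 (allL N107758 (tt N118761 (iv1 F511941)) (tt N118762 (iv0 F511947)) (tt N94979 F459590) (tt N99166 F459594) (tt N72918 (iv4 D210977)) (tt N96276 F459591) (tt N97019 (iv6 F459593)) (tt N94982 F459592))
theorem Q107760 : ∀ i, i < 107760 → P i := stepQ 107759 Q107759 (allL N107759 (tt N93633 F459599) (tt N99112 (iv0 F459600)) (tt N94980 F459595) (tt N89504 F459596) (tt N97019 F459597) (tt N117885 (iv5 F507426)) (tt N72918 (iv6 D210978)) (tt N89500 F459598))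
theorem Q107761 : ∀ i, i < 107761 → P i := stepQ 107760 Q107760 (allL N107760 (tt N93787 F459605) (tt N93766 F459606) (tt N72933 F459601) (tt N106542 F459607) (tt N72929 (iv4 D210979)) (tt N102780 F459602) (tt N86172 F459603) (tt N98313 F459604))
theorem Q107762 : ∀ i, i < 107762 → P i := stepQ 107761 Q107761 (allL N107761 (tt N104075 F459613) (tt N104167 F459614) (tt N85365 F459608) (tt N74864 F459609) (tt N72931 (iv4 D210980)) (tt N74879 F459610) (tt N84851 F459611) (tt N93321 F459612))
theorem Q107763 : ∀ i, i < 107763 → P i := stepQ 107762 Q107762 (allL N107762 (tt N121451 (iv1 F526452)) (tt N73113 (iv0 F459618)) (tt N120029 (iv2 F518645)) (tt N72934 (iv3 D210981)) (tt N104870 F459617) (tt N118366 F509953) (tt N104869 F459615) (tt N90376 F459616))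
theorem Q107764 : ∀ i, i < 107764 → P i := stepQ 107763 Q107763 (allL N107763 (tt N108966 (iv1 F464708)) (tt N102310 (iv0 F459620)) (tt N108845 F464235) (tt N108967 (iv3 F464709)) (tt N72934 (iv4 D210982)) (tt N115667 F496217) (tt N107504 F459619) (tt N108964 (iv7 F464696)))
theorem Q107765 : ∀ i, i < 107765 → P i := stepQ 107764 Q107764 (allL N107764 (tt N94968 (iv1 F459625)) (tt N101007 (iv0 F459623)) (tt N101146 F459621) (tt N118366 F509952) (tt N91514 F459624) (tt N72934 (iv5 D210983)) (tt N94950 F459622) (tt N101145 (iv7 F459626)))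
theorem Q107766 : ∀ i, i < 107766 → P i := stepQ 107765 Q107765 (allL N107765 (tt N94985 F459638) (tt N112815 (iv0 F482750)) (tt N115070 (iv2 F493332)) (tt N72935 (iv3 D210984)) (tt N114934 (iv4 F492620)) (tt N94981 (iv5 F459637)) (tt N89569 (iv6 F459639)) (tt N121450 (iv7 F526444)))
theorem Q107767 : ∀ i, i < 107767 → P i := stepQ 107766 Q107766 (allL N107766 (tt N102310 (iv1 F464237)) (tt N108966 F464707) (tt N108964 F464700) (tt N108842 (iv3 F464223)) (tt N72935 (iv4 D210985)) (tt N115666 (iv5 F496216)) (tt N110077 F469870) (tt N108845 (iv7 F464233)))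
theorem Q107768 : ∀ i, i < 107768 → P i := stepQ 107767 Q107767 (allL N107767 (tt N101007 F459631) (tt N94968 F459635) (tt N101145 F459629) (tt N94981 F459636) (tt N91515 (iv4 F459634)) (tt N72935 (iv5 D210986)) (tt N100740 F459632) (tt N101146 F459630))
theorem Q107769 : ∀ i, i < 107769 → P i := stepQ 107768 Q107768 (allL N107768 (tt N94508 (iv1 F459643)) (tt N110850 F473444) (tt N90373 F459640) (tt N89569 F459641) (tt N110077 (iv4 F469867)) (tt N112224 (iv5 F480128)) (tt N72935 (iv6 D210987)) (tt N107507 F459642))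
theorem Q107770 : ∀ i, i < 107770 → P i := stepQ 107769 Q107769 (allL N107769 (tt N90363 (iv1 F459646)) (tt N72936 (iv0 D210988)) (tt N94983 (iv2 F459645)) (tt N112815 (iv3 F482747)) (tt N117605 (iv4 F505962)) (tt N111991 (iv5 F478989)) (tt N96516 F459644) (tt N117841 (iv7 F507221)))
theorem Q107771 : ∀ i, i < 107771 → P i := stepQ 107770 Q107770 (allL N107770 (tt N94983 (iv1 F459652)) (tt N117841 (iv0 F507222)) (tt N72936 (iv2 D210989)) (tt N90366 F459647) (tt N94261 F459648) (tt N91506 F459649) (tt N94253 F459650) (tt N90363 F459651))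
theorem Q107772 : ∀ i, i < 107772 → P i := stepQ 107771 Q107771 (allL N107771 (tt N72937 (iv1 D210990)) (tt N90366 F459653) (tt N90356 F459656) (tt N121451 (iv3 F526447)) (tt N89250 (iv4 F459655)) (tt N111994 (iv5 F479004)) (tt N118713 (iv6 F511700)) (tt N90354 F459654))
theorem Q107773 : ∀ i, i < 107773 → P i := stepQ 107772 Q107772 (allL N107772 (tt N116831 (iv1 F502060)) (tt N89469 (iv0 F459659)) (tt N108982 (iv2 F464759)) (tt N72941 F459657) (tt N98900 F459658) (tt N118356 (iv5 F509886)) (tt N72939 (iv6 D210991)) (tt N116830 (iv7 F502056)))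
theorem Q107774 : ∀ i, i < 107774 → P i := stepQ 107773 Q107773 (allL N107773 (tt N112183 (iv1 F479945)) (tt N112182 F479939) (tt N107930 (iv2 F460340)) (tt N118356 (iv3 F509884)) (tt N75828 F459660) (tt N72941 (iv5 D210992)) (tt N118354 (iv6 F509875)) (tt N109588 (iv7 F467609)))
theorem Q107775 : ∀ i, i < 107775 → P i := stepQ 107774 Q107774 (allL N107774 (tt N77523 F459663) (tt N77527 F459664) (tt N119159 (iv2 F514105)) (tt N76003 F459661) (tt N109793 (iv4 F468639)) (tt N72942 (iv5 D210993)) (tt N109792 F468637) (tt N103082 F459662))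
theorem Q107776 : ∀ i, i < 107776 → P i := stepQ 107775 Q107775 (allL N107775 (tt N106306 F459668) (tt N105970 F459669) (tt N72945 F459665) (tt N120172 (iv3 F519419)) (tt N72943 (iv4 D210994)) (tt N106425 F459666) (tt N108811 (iv6 F464070)) (tt N82864 F459667))
theorem Q107777 : ∀ i, i < 107777 → P i := stepQ 107776 Q107776 (allL N107776 (tt N72944 (iv1 D210995)) (tt N72948 F459670) (tt N72947 (iv2 F459677)) (tt N81962 F459674) (tt N97062 F459672) (tt N100911 (iv5 F459673)) (tt N97061 F459676) (tt N72946 F459671))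
theorem Q107778 : ∀ i, i < 107778 → P i := stepQ 107777 Q107777 (allL N107777 (tt N72947 (iv1 F459683)) (tt N72946 F459684) (tt N72948 F459678) (tt N82029 F459679) (tt N77571 F459680) (tt N82028 F459681) (tt N77570 F459682) (tt N72944 (iv7 D210996)))
theorem Q107779 : ∀ i, i < 107779 → P i := stepQ 107778 Q107778 (allL N107778 (tt N82864 (iv1 F459687)) (tt N72945 (iv0 D210997)) (tt N106306 (iv2 F459686)) (tt N109119 (iv3 F484029)) (tt N120768 (iv4 F522607)) (tt N105971 F459685) (tt N121320 (iv6 F525748)) (tt N105970 F459688))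
theorem Q107780 : ∀ i, i < 107780 → P i := stepQ 107779 Q107779 (allL N107779 (tt N95081 (iv1 F459694)) (tt N101524 F459693) (tt N100911 F459689) (tt N101522 F459690) (tt N91898 F459691) (tt N72947 (iv5 D210998)) (tt N117681 (iv6 F506387)) (tt N101525 F459692))
theorem Q107781 : ∀ i, i < 107781 → P i := stepQ 107780 Q107780 (allL N107780 (tt N118712 (iv1 F511689)) (tt N72949 (iv0 D210999)) (tt N118713 (iv2 F511696)) (tt N73136 F459696) (tt N90272 F459699) (tt N96318 F459695) (tt N90356 (iv6 F459697)) (tt N73131 (iv7 F459698)))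
theorem Q107782 : ∀ i, i < 107782 → P i := stepQ 107781 Q107781 (allL N107781 (tt N118713 (iv1 F511702)) (tt N73131 F459702) (tt N72949 (iv2 D211000)) (tt N101528 F459700) (tt N110056 (iv4 F469763)) (tt N101527 (iv5 F459703)) (tt N90206 F459701) (tt N118712 (iv7 F511690)))
theorem Q107783 : ∀ i, i < 107783 → P i := stepQ 107782 Q107782 (allL N107782 (tt N116994 (iv1 F502875)) (tt N95061 F473713) (tt N101527 F459704) (tt N72950 F459705) (tt N103925 (iv4 F459708)) (tt N72949 (iv5 D211001)) (tt N107203 F459706) (tt N95281 F459707))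
theorem Q107784 : ∀ i, i < 107784 → P i := stepQ 107783 Q107783 (allL N107783 (tt N72952 (iv1 D211002)) (tt N101528 (iv0 F459714)) (tt N96516 (iv2 F459711)) (tt N81774 (iv3 F459712)) (tt N121431 (iv4 F526332)) (tt N80046 F459710) (tt N94983 (iv6 F459713)) (tt N81960 F459709))
theorem Q107785 : ∀ i, i < 107785 → P i := stepQ 107784 Q107784 (allL N107784 (tt N81960 (iv1 F459718)) (tt N96516 F459717) (tt N72952 (iv2 D211003)) (tt N118712 F511693) (tt N117844 (iv4 F507233)) (tt N101495 F459715) (tt N118589 F511035) (tt N101528 F459716))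
theorem Q107786 : ∀ i, i < 107786 → P i := stepQ 107785 Q107785 (allL N107785 (tt N72959 (iv1 F459722)) (tt N72956 (iv0 D211004)) (tt N107516 (iv2 F459721)) (tt N98844 F459720) (tt N81963 F459719) (tt N117281 (iv5 F504265)) (tt N81932 (iv6 F459723)) (tt N117298 (iv7 F504346)))
theorem Q107787 : ∀ i, i < 107787 → P i := stepQ 107786 Q107786 (allL N107786 (tt N82087 F459728) (tt N99157 F459727) (tt N98824 F459724) (tt N119284 (iv3 F514820)) (tt N79155 F459725) (tt N72956 (iv5 D211005)) (tt N119729 F517141) (tt N79154 F459726))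
theorem Q107788 : ∀ i, i < 107788 → P i := stepQ 107787 Q107787 (allL N107787 (tt N109988 F469475) (tt N89542 (iv0 F459730)) (tt N109834 F468835) (tt N119285 (iv3 F514827)) (tt N72957 F459729) (tt N120474 (iv5 F520964)) (tt N72956 (iv6 D211006)) (tt N116849 (iv7 F502163)))
theorem Q107789 : ∀ i, i < 107789 → P i := stepQ 107788 Q107788 (allL N107788 (tt N120961 F523726) (tt N89477 (iv0 F459733)) (tt N121596 (iv2 F527233)) (tt N72961 F459731) (tt N106733 F459732) (tt N117525 (iv5 F505514)) (tt N72958 (iv6 D211007)) (tt N119299 (iv7 F514908)))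
theorem Q107790 : ∀ i, i < 107790 → P i := stepQ 107789 Q107789 (allL N107789 (tt N116832 F502069) (tt N77849 (iv0 F459736)) (tt N119301 (iv2 F514918)) (tt N98854 F459734) (tt N72961 F459735) (tt N120533 (iv5 F521303)) (tt N72959 (iv6 D211008)) (tt N119300 (iv7 F514915)))
theorem Q107791 : ∀ i, i < 107791 → P i := stepQ 107790 Q107790 (allL N107790 (tt N73044 F459738) (tt N118782 (iv0 F512038)) (tt N112175 F479903) (tt N117525 (iv3 F505512)) (tt N121603 D224862) (tt N72961 (iv5 D211009)) (tt N92898 F459737) (tt N119085 (iv7 F513712)))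
theorem Q107792 : ∀ i, i < 107792 → P i := stepQ 107791 Q107791 (allL N107791 (tt N98843 F459741) (tt N117840 (iv0 F507215)) (tt N117799 (iv2 F507028)) (tt N99672 F459739) (tt N72968 (iv4 D211010)) (tt N113277 (iv5 F484830)) (tt N116841 F502123) (tt N108573 (iv7 F463107)))
theorem Q107793 : ∀ i, i < 107793 → P i := stepQ 107792 Q107792 (allL N107792 (tt N77479 F459746) (tt N75509 (iv0 F459745)) (tt N77478 F459742) (tt N72970 F459743) (tt N116841 (iv4 F502119)) (tt N110464 (iv5 F471703)) (tt N72968 (iv6 D211011)) (tt N77477 F459744))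
theorem Q107794 : ∀ i, i < 107794 → P i := stepQ 107793 Q107793 (allL N107793 (tt N116398 F499887) (tt N117461 (iv0 F505156)) (tt N91401 F459747) (tt N110464 F471705) (tt N121604 D224863) (tt N72970 (iv5 D211012)) (tt N106155 F459748) (tt N118443 (iv7 F510385)))
theorem Q107795 : ∀ i, i < 107795 → P i := stepQ 107794 Q107794 (allL N107794 (tt N72975 (iv1 F459754)) (tt N72972 (iv0 D211013)) (tt N72973 (iv2 F459751)) (tt N101880 (iv3 F459755)) (tt N90595 (iv4 F459753)) (tt N101879 F459750) (tt N90594 F459749) (tt N72974 F459752))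
theorem Q107796 : ∀ i, i < 107796 → P i := stepQ 107795 Q107795 (allL N107795 (tt N72974 (iv1 F459759)) (tt N72973 F459760) (tt N72975 F459756) (tt N81857 F459757) (tt N108497 (iv4 F462848)) (tt N81856 F459758) (tt N118651 (iv6 F511351)) (tt N72972 (iv7 D211014)))
theorem Q107797 : ∀ i, i < 107797 → P i := stepQ 107796 Q107796 (allL N107796 (tt N110421 F471501) (tt N120902 (iv0 F523382)) (tt N120724 (iv2 F522362)) (tt N72973 (iv3 D211015)) (tt N117695 (iv4 F506467)) (tt N117640 (iv5 F506159)) (tt N111609 F477147) (tt N118310 (iv7 F509639)))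
theorem Q107798 : ∀ i, i < 107798 → P i := stepQ 107797 Q107797 (allL N107797 (tt N118857 (iv1 F512427)) (tt N99698 (iv0 F459764)) (tt N90595 F459761) (tt N91412 F459762) (tt N72973 (iv4 D211016)) (tt N108624 (iv5 F463257)) (tt N74035 (iv6 F459763)) (tt N118311 (iv7 F509644)))
theorem Q107799 : ∀ i, i < 107799 → P i := stepQ 107798 Q107798 (allL N107798 (tt N108465 (iv1 F462708)) (tt N108471 (iv0 F462732)) (tt N90594 F459765) (tt N111609 (iv3 F477145)) (tt N74035 F459766) (tt N105446 F459768) (tt N72973 (iv6 D211017)) (tt N90597 F459767))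
theorem Q107800 : ∀ i, i < 107800 → P i := stepQ 107799 Q107799 (allL N107799 (tt N119945 F518177) (tt N119946 F518183) (tt N101876 (iv2 F459771)) (tt N72974 (iv3 D211018)) (tt N117800 (iv4 F507036)) (tt N101868 F459769) (tt N108664 (iv6 F463437)) (tt N101880 F459770))
theorem Q107801 : ∀ i, i < 107801 → P i := stepQ 107800 Q107800 (allL N107800 (tt N117840 (iv1 F507214)) (tt N98843 (iv0 F459773)) (tt N108573 (iv2 F463105)) (tt N74262 F459772) (tt N72976 (iv4 D211019)) (tt N117791 (iv5 F506988)) (tt N117071 (iv6 F503237)) (tt N117799 (iv7 F507032)))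
theorem Q107802 : ∀ i, i < 107802 → P i := stepQ 107801 Q107801 (allL N107801 (tt N72999 F459775) (tt N114555 F490756) (tt N98329 F459774) (tt N118822 (iv3 F512265)) (tt N120918 (iv4 F523467)) (tt N72976 (iv5 D211020)) (tt N116988 (iv6 F502848)) (tt N114554 (iv7 F490749)))
theorem Q107803 : ∀ i, i < 107803 → P i := stepQ 107802 Q107802 (allL N107802 (tt N73012 F490758) (tt N118412 (iv0 F510212)) (tt N93605 F459776) (tt N117070 (iv3 F503235)) (tt N117071 (iv4 F503236)) (tt N116989 (iv5 F502852)) (tt N72976 (iv6 D211021)) (tt N119069 (iv7 F513620)))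
theorem Q107804 : ∀ i, i < 107804 → P i := stepQ 107803 Q107803 (allL N107803 (tt N108132 F461249) (tt N98209 F459779) (tt N72979 F459777) (tt N93765 F459778) (tt N118144 (iv4 F508835)) (tt N72977 (iv5 D211022)) (tt N117644 (iv6 F506181)) (tt N108139 (iv7 F461272)))
theorem Q107805 : ∀ i, i < 107805 → P i := stepQ 107804 Q107804 (allL N107804 (tt N72979 (iv1 D211023)) (tt N108139 F461274) (tt N98209 (iv2 F459781)) (tt N120768 (iv3 F522606)) (tt N120894 (iv4 F523331)) (tt N99468 F459780) (tt N114785 F491848) (tt N108132 (iv7 F461247)))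
theorem Q107806 : ∀ i, i < 107806 → P i := stepQ 107805 Q107805 (allL N107805 (tt N103508 F459784) (tt N116887 F502358) (tt N118144 F508837) (tt N109219 F465828) (tt N72979 (iv4 D211024)) (tt N107069 F459783) (tt N120856 (iv6 F523108)) (tt N107068 F459782))
theorem Q107807 : ∀ i, i < 107807 → P i := stepQ 107806 Q107806 (allL N107806 (tt N121137 F524720) (tt N121605 D224864) (tt N117644 (iv2 F506180)) (tt N72984 F459785) (tt N120856 (iv4 F523107)) (tt N81590 F459786) (tt N72979 (iv6 D211025)) (tt N118811 (iv7 F512195)))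
theorem Q107808 : ∀ i, i < 107808 → P i := stepQ 107807 Q107807 (allL N107807 (tt N91976 (iv1 F459788)) (tt N72980 (iv0 D211026)) (tt N115429 (iv2 F495146)) (tt N110838 (iv3 F473386)) (tt N112800 (iv4 F482672)) (tt N91840 F459787) (tt N110837 F473383) (tt N117509 (iv7 F505417)))
theorem Q107809 : ∀ i, i < 107809 → P i := stepQ 107808 Q107808 (allL N107808 (tt N72980 (iv1 D211027)) (tt N91976 F459789) (tt N117509 (iv2 F505414)) (tt N111704 (iv3 F477580)) (tt N94238 F459791) (tt N87817 F459790) (tt N121606 D224865) (tt N115429 (iv7 F495148)))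
theorem Q107810 : ∀ i, i < 107810 → P i := stepQ 107809 Q107809 (allL N107809 (tt N107745 (iv1 F459794)) (tt N72984 (iv0 D211028)) (tt N78431 (iv2 F459793)) (tt N78460 (iv3 F459795)) (tt N113313 (iv4 F484972)) (tt N78430 F459792) (tt N114784 (iv6 F491841)) (tt N108144 (iv7 F461295)))
theorem Q107811 : ∀ i, i < 107811 → P i := stepQ 107810 Q107810 (allL N107810 (tt N119060 (iv1 F513569)) (tt N73015 (iv0 F459797)) (tt N112176 (iv2 F479904)) (tt N121596 (iv3 F527234)) (tt N74581 F459796) (tt N81242 (iv5 F459798)) (tt N72986 (iv6 D211029)) (tt N110137 (iv7 F470134)))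
theorem Q107812 : ∀ i, i < 107812 → P i := stepQ 107811 Q107811 (allL N107811 (tt N93755 F459802) (tt N93768 F459803) (tt N72988 F459799) (tt N108139 (iv3 F461270)) (tt N104958 F459801) (tt N72987 (iv5 D211030)) (tt N112842 F482910) (tt N93765 F459800))
theorem Q107813 : ∀ i, i < 107813 → P i := stepQ 107812 Q107812 (allL N107812 (tt N101519 F459807) (tt N121607 D224866) (tt N72989 F459804) (tt N119945 (iv3 F518173)) (tt N93594 F459805) (tt N80180 F459806) (tt N72987 (iv6 D211031)) (tt N81979 (iv7 F459808)))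
theorem Q107814 : ∀ i, i < 107814 → P i := stepQ 107813 Q107813 (allL N107813 (tt N81979 F459814) (tt N72989 (iv0 D211032)) (tt N101519 (iv2 F459812)) (tt N90271 F459810) (tt N74585 (iv4 F459813)) (tt N101518 F459809) (tt N90270 (iv6 F459811)) (tt N121607 (iv7 F527303)))
theorem Q107815 : ∀ i, i < 107815 → P i := stepQ 107814 Q107814 (allL N107814 (tt N72989 (iv1 D211033)) (tt N81979 F459815) (tt N121607 (iv2 F527307)) (tt N81975 F459818) (tt N74586 F459819) (tt N80114 (iv5 F459817)) (tt N119061 (iv6 F513573)) (tt N101519 F459816))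
theorem Q107816 : ∀ i, i < 107816 → P i := stepQ 107815 Q107815 (allL N107815 (tt N121607 (iv1 F527302)) (tt N101519 (iv0 F459823)) (tt N81979 F459820) (tt N72993 F459821) (tt N117521 (iv4 F505491)) (tt N80986 F459822) (tt N112808 (iv6 F482707)) (tt N72989 (iv7 D211034)))
theorem Q107817 : ∀ i, i < 107817 → P i := stepQ 107816 Q107816 (allL N107816 (tt N89772 (iv1 F459828)) (tt N89776 (iv0 F459827)) (tt N89775 F459824) (tt N72990 (iv3 D211035)) (tt N100329 F459825) (tt N116323 (iv5 F499555)) (tt N118812 (iv6 F512201)) (tt N89774 F459826))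
theorem Q107818 : ∀ i, i < 107818 → P i := stepQ 107817 Q107817 (allL N107817 (tt N109565 (iv1 F467555)) (tt N82872 F459831) (tt N98218 F459829) (tt N116323 (iv3 F499556)) (tt N73161 F459830) (tt N72990 (iv5 D211036)) (tt N82896 (iv6 F459832)) (tt N108142 (iv7 F461285)))
theorem Q107819 : ∀ i, i < 107819 → P i := stepQ 107818 Q107818 (allL N107818 (tt N109337 (iv1 F466452)) (tt N96658 F459834) (tt N96723 F459833) (tt N112045 (iv3 F479235)) (tt N111849 (iv4 F478296)) (tt N72991 (iv5 D211037)) (tt N96642 F459835) (tt N119947 (iv7 F518188)))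
theorem Q107820 : ∀ i, i < 107820 → P i := stepQ 107819 Q107819 (allL N107819 (tt N72992 (iv1 D211038)) (tt N107741 F459836) (tt N78139 F459841) (tt N87071 (iv3 F459840)) (tt N97777 (iv4 F459839)) (tt N78136 F459838) (tt N111037 F474370) (tt N103079 F459837))
theorem Q107821 : ∀ i, i < 107821 → P i := stepQ 107820 Q107820 (allL N107820 (tt N78139 (iv1 F459847)) (tt N103079 F459848) (tt N107741 F459842) (tt N80986 F459843) (tt N82548 F459844) (tt N72993 F459845) (tt N80984 F459846) (tt N72992 (iv7 D211039)))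
theorem Q107822 : ∀ i, i < 107822 → P i := stepQ 107821 Q107821 (allL N107821 (tt N73011 (iv1 F459851)) (tt N72995 (iv0 D211040)) (tt N73009 (iv2 F459852)) (tt N120398 (iv3 F520574)) (tt N101785 F459850) (tt N76970 F459849) (tt N120403 F520602) (tt N73010 (iv7 F459853)))
theorem Q107823 : ∀ i, i < 107823 → P i := stepQ 107822 Q107822 (allL N107822 (tt N72995 (iv1 D211041)) (tt N73011 F459854) (tt N73010 F459858) (tt N120804 (iv3 F522812)) (tt N101784 F459859) (tt N76971 F459856) (tt N107082 (iv6 F459857)) (tt N73009 F459855))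
theorem Q107824 : ∀ i, i < 107824 → P i := stepQ 107823 Q107823 (allL N107823 (tt N110137 (iv1 F470137)) (tt N112176 (iv0 F479908)) (tt N119060 (iv2 F513563)) (tt N72996 (iv3 D211042)) (tt N74703 F459860) (tt N73184 F459861) (tt N118155 (iv6 F508904)) (tt N73015 F459862))
theorem Q107825 : ∀ i, i < 107825 → P i := stepQ 107824 Q107824 (allL N107824 (tt N73019 F459869) (tt N72997 (iv0 D211043)) (tt N73017 (iv2 F459866)) (tt N81245 (iv3 F459867)) (tt N73172 F459864) (tt N74707 F459863) (tt N73747 F459865) (tt N73018 (iv7 F459868)))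
theorem Q107826 : ∀ i, i < 107826 → P i := stepQ 107825 Q107825 (allL N107825 (tt N72997 (iv1 D211044)) (tt N73019 F459870) (tt N73018 F459875) (tt N119082 (iv3 F513692)) (tt N73171 F459873) (tt N73498 F459872) (tt N81255 (iv6 F459874)) (tt N73017 F459871))
theorem Q107827 : ∀ i, i < 107827 → P i := stepQ 107826 Q107826 (allL N107826 (tt N73018 (iv1 F459881)) (tt N73017 F459882) (tt N73019 F459876) (tt N89013 F459877) (tt N73791 F459878) (tt N72998 F459879) (tt N100134 F459880) (tt N72997 (iv7 D211045)))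
theorem Q107828 : ∀ i, i < 107828 → P i := stepQ 107827 Q107827 (allL N107827 (tt N93343 F459885) (tt N121127 (iv0 F524655)) (tt N114553 (iv2 F490742)) (tt N105208 F459883) (tt N72999 (iv4 D211046)) (tt N104484 (iv5 F459886)) (tt N114550 (iv6 F490728)) (tt N105205 F459884))
theorem Q107829 : ∀ i, i < 107829 → P i := stepQ 107828 Q107828 (allL N107828 (tt N73000 (iv1 D211047)) (tt N73003 F459887) (tt N101768 (iv2 F459892)) (tt N105647 (iv3 F459890)) (tt N99348 F459889) (tt N109565 (iv5 F467551)) (tt N101786 (iv6 F459891)) (tt N83108 F459888))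
theorem Q107830 : ∀ i, i < 107830 → P i := stepQ 107829 Q107829 (allL N107829 (tt N105917 F459896) (tt N104229 (iv0 F459897)) (tt N105965 F459893) (tt N73003 (iv3 D211048)) (tt N105801 F459894) (tt N109120 F465421) (tt N105960 F459895) (tt N116778 (iv7 F501783)))
theorem Q107831 : ∀ i, i < 107831 → P i := stepQ 107830 Q107830 (allL N107830 (tt N82916 F459902) (tt N82642 F459903) (tt N82914 F459898) (tt N109120 (iv3 F465422)) (tt N73159 F459899) (tt N73003 (iv5 D211049)) (tt N106300 F459900) (tt N82915 F459901))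
theorem Q107832 : ∀ i, i < 107832 → P i := stepQ 107831 Q107831 (allL N107831 (tt N93716 F459911) (tt N116988 (iv0 F502847)) (tt N121608 D224867) (tt N73009 (iv3 D211050)) (tt N109177 (iv4 F465679)) (tt N77088 F459904) (tt N121609 D224868) (tt N120804 (iv7 F522813)))
theorem Q107833 : ∀ i, i < 107833 → P i := stepQ 107832 Q107832 (allL N107832 (tt N83106 F459908) (tt N101786 F459909) (tt N101785 F459905) (tt N101479 F459910) (tt N73009 (iv4 D211051)) (tt N77073 F459907) (tt N121257 (iv6 F525412)) (tt N101784 F459906))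
theorem Q107834 : ∀ i, i < 107834 → P i := stepQ 107833 Q107833 (allL N107833 (tt N117013 (iv1 F502974)) (tt N94776 (iv0 F469614)) (tt N120403 (iv2 F520603)) (tt N121609 (iv3 F527316)) (tt N121257 (iv4 F525415)) (tt N114803 (iv5 F491951)) (tt N73009 (iv6 D211052)) (tt N117589 (iv7 F505868)))
theorem Q107835 : ∀ i, i < 107835 → P i := stepQ 107834 Q107834 (allL N107834 (tt N114542 F490692) (tt N112765 (iv0 F482552)) (tt N114562 (iv2 F490782)) (tt N73010 (iv3 D211053)) (tt N105803 (iv4 F459913)) (tt N77090 F459912) (tt N114299 (iv6 F489469)) (tt N120398 (iv7 F520577)))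
theorem Q107836 : ∀ i, i < 107836 → P i := stepQ 107835 Q107835 (allL N107835 (tt N101786 F459919) (tt N83106 (iv0 F459920)) (tt N101784 F459914) (tt N105804 F459915) (tt N73010 (iv4 D211054)) (tt N77070 F459916) (tt N83137 F459917) (tt N101785 F459918))
theorem Q107837 : ∀ i, i < 107837 → P i := stepQ 107836 Q107836 (allL N107836 (tt N92397 F459924) (tt N92390 F459930) (tt N92394 F459926) (tt N94404 F459921) (tt N73012 (iv4 D211056)) (tt N94403 (iv5 F459925)) (tt N102658 F459922) (tt N92395 F459923))
theorem Q107838 : ∀ i, i < 107838 → P i := stepQ 107837 Q107837 (allL N107837 (tt N73015 (iv1 D211057)) (tt N119060 (iv0 F513568)) (tt N110137 (iv2 F470132)) (tt N73038 F459942) (tt N74619 (iv4 F459938)) (tt N81243 F459940) (tt N77466 (iv6 F459941)) (tt N112176 (iv7 F479907)))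
theorem Q107839 : ∀ i, i < 107839 → P i := stepQ 107838 Q107838 (allL N107838 (tt N112176 (iv1 F479909)) (tt N110137 (iv0 F470136)) (tt N73015 (iv2 D211058)) (tt N118412 (iv3 F510208)) (tt N93602 F459932) (tt N90484 F459931) (tt N110843 (iv6 F473419)) (tt N119060 (iv7 F513567)))
theorem Q107840 : ∀ i, i < 107840 → P i := stepQ 107839 Q107839 (allL N107839 (tt N89480 F459939) (tt N89478 F459937) (tt N93602 F459933) (tt N73183 F459934) (tt N73015 (iv4 D211059)) (tt N116145 (iv5 F498730)) (tt N94431 F459935) (tt N74703 F459936))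
theorem Q107841 : ∀ i, i < 107841 → P i := stepQ 107840 Q107840 (allL N107840 (tt N107935 (iv1 F460365)) (tt N74004 F459946) (tt N74707 F459943) (tt N108947 F464619) (tt N74700 F459945) (tt N73017 (iv5 D211060)) (tt N76195 F459947) (tt N73498 F459944))
theorem Q107842 : ∀ i, i < 107842 → P i := stepQ 107841 Q107841 (allL N107841 (tt N74004 F459952) (tt N107935 (iv0 F460364)) (tt N73498 F459948) (tt N81244 F459949) (tt N73788 F459951) (tt N73018 (iv5 D211061)) (tt N73483 F459953) (tt N74707 F459950))
theorem Q107843 : ∀ i, i < 107843 → P i := stepQ 107842 Q107842 (allL N107842 (tt N93383 F459957) (tt N91478 (iv0 F459959)) (tt N93385 F459954) (tt N73030 F459955) (tt N106915 F459960) (tt N73028 (iv5 D211062)) (tt N93552 F459958) (tt N93381 F459956))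
theorem Q107844 : ∀ i, i < 107844 → P i := stepQ 107843 Q107843 (allL N107843 (tt N94546 F459963) (tt N106485 (iv0 F459965)) (tt N106274 F459964) (tt N73029 (iv3 D211063)) (tt N105957 F459961) (tt N111695 (iv5 F477538)) (tt N115106 (iv6 F493508)) (tt N94878 F459962))
theorem Q107845 : ∀ i, i < 107845 → P i := stepQ 107844 Q107844 (allL N107844 (tt N95073 F459966) (tt N110656 F472629) (tt N110658 (iv2 F472625)) (tt N118172 (iv3 F508998)) (tt N73030 (iv4 D211064)) (tt N120273 (iv5 F519953)) (tt N118594 (iv6 F511067)) (tt N110655 F472620))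
theorem Q107846 : ∀ i, i < 107846 → P i := stepQ 107845 Q107845 (allL N107845 (tt N73444 F459970) (tt N73521 (iv0 F459971)) (tt N73519 F459967) (tt N73536 F459968) (tt N111542 (iv4 F476830)) (tt N73031 (iv5 D211065)) (tt N111542 (iv6 F476832)) (tt N73518 F459969))
theorem Q107847 : ∀ i, i < 107847 → P i := stepQ 107846 Q107846 (allL N107846 (tt N119514 F516011) (tt N116795 (iv0 F501880)) (tt N115965 (iv2 F497799)) (tt N73033 (iv3 D211066)) (tt N85263 F459972) (tt N87268 F459973) (tt N78451 F459974) (tt N94876 F459975))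
theorem Q107848 : ∀ i, i < 107848 → P i := stepQ 107847 Q107847 (allL N107847 (tt N93688 (iv1 F459980)) (tt N93687 F459979) (tt N93690 F459976) (tt N117896 (iv3 F507484)) (tt N73035 (iv4 D211067)) (tt N107870 (iv5 F460065)) (tt N93577 F459977) (tt N93682 F459978))
theorem Q107849 : ∀ i, i < 107849 → P i := stepQ 107848 Q107848 (allL N107848 (tt N93707 (iv1 F459982)) (tt N73036 (iv0 D211068)) (tt N108718 (iv2 F463680)) (tt N108305 F461984) (tt N95067 F459981) (tt N121602 (iv5 F527273)) (tt N108303 (iv6 F461986)) (tt N118042 (iv7 F508250)))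
theorem Q107850 : ∀ i, i < 107850 → P i := stepQ 107849 Q107849 (allL N107849 (tt N73036 (iv1 D211069)) (tt N93707 F459983) (tt N118042 (iv2 F508247)) (tt N105049 (iv3 F459986)) (tt N95070 (iv4 F459984)) (tt N117916 (iv5 F507585)) (tt N93701 F459985) (tt N108718 (iv7 F463678)))
theorem Q107851 : ∀ i, i < 107851 → P i := stepQ 107850 Q107850 (allL N107850 (tt N118042 (iv1 F508252)) (tt N108718 (iv0 F463681)) (tt N93707 F459987) (tt N73793 F459988) (tt N73037 F459989) (tt N108714 (iv5 F463661)) (tt N118620 (iv6 F511189)) (tt N73036 (iv7 D211070)))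
theorem Q107852 : ∀ i, i < 107852 → P i := stepQ 107851 Q107851 (allL N107851 (tt N77849 F472562) (tt N116832 (iv0 F502068)) (tt N119300 (iv2 F514912)) (tt N119296 (iv3 F514894)) (tt N73038 (iv4 D211071)) (tt N121610 D224869) (tt N116849 F502164) (tt N119301 (iv7 F514921)))
theorem Q107853 : ∀ i, i < 107853 → P i := stepQ 107852 Q107852 (allL N107852 (tt N118782 F512039) (tt N73044 (iv0 F459992)) (tt N119085 F513710) (tt N81243 F459990) (tt N120422 (iv4 F520695)) (tt N73038 (iv5 D211072)) (tt N93409 F459991) (tt N112175 (iv7 F479899)))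
theorem Q107854 : ∀ i, i < 107854 → P i := stepQ 107853 Q107853 (allL N107853 (tt N99018 (iv1 F459995)) (tt N73039 (iv0 D211073)) (tt N101515 (iv2 F459994)) (tt N119061 (iv3 F513571)) (tt N118264 (iv4 F509428)) (tt N93396 F459993) (tt N81975 (iv6 F459997)) (tt N107685 F459996))
theorem Q107855 : ∀ i, i < 107855 → P i := stepQ 107854 Q107854 (allL N107854 (tt N89478 (iv1 F460001)) (tt N89480 F460002) (tt N74703 F459998) (tt N73040 (iv3 D211074)) (tt N119060 (iv4 F513565)) (tt N107683 F459999) (tt N119063 (iv6 F513582)) (tt N93602 F460000))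
theorem Q107856 : ∀ i, i < 107856 → P i := stepQ 107855 Q107855 (allL N107855 (tt N73071 F460006) (tt N73065 F460007) (tt N93600 F460003) (tt N92394 (iv3 F460008)) (tt N73040 (iv4 D211075)) (tt N96903 F460005) (tt N118041 (iv6 F508246)) (tt N93603 F460004))
theorem Q107857 : ∀ i, i < 107857 → P i := stepQ 107856 Q107856 (allL N107856 (tt N108665 F463447) (tt N95172 (iv0 F460012)) (tt N93601 F460009) (tt N119063 (iv3 F513581)) (tt N118041 (iv4 F508243)) (tt N107685 F460010) (tt N73040 (iv6 D211076)) (tt N93396 F460011))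
theorem Q107858 : ∀ i, i < 107858 → P i := stepQ 107857 Q107857 (allL N107857 (tt N73065 F460018) (tt N73071 F460019) (tt N93603 F460013) (tt N74709 F460014) (tt N73041 (iv4 D211077)) (tt N93849 F460015) (tt N93393 F460016) (tt N93600 F460017))
theorem Q107859 : ∀ i, i < 107859 → P i := stepQ 107858 Q107858 (allL N107858 (tt N73042 (iv1 D211078)) (tt N73043 F460020) (tt N93581 F460024) (tt N120736 (iv3 F522427)) (tt N95098 F460022) (tt N95082 F460025) (tt N93391 (iv6 F460023)) (tt N93580 F460021))
theorem Q107860 : ∀ i, i < 107860 → P i := stepQ 107859 Q107859 (allL N107859 (tt N99043 F460324) (tt N99124 (iv0 F500499)) (tt N96897 F460026) (tt N119784 (iv3 F517400)) (tt N73044 (iv4 D211079)) (tt N98900 F460028) (tt N99110 F460027) (tt N121601 (iv7 F527267)))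
theorem Q107861 : ∀ i, i < 107861 → P i := stepQ 107860 Q107860 (allL N107860 (tt N73048 (iv1 F460031)) (tt N73045 (iv0 D211080)) (tt N107875 (iv2 F460074)) (tt N121611 D224870) (tt N94945 F460030) (tt N95085 F460029) (tt N94334 F460033) (tt N94944 (iv7 F460032)))
theorem Q107862 : ∀ i, i < 107862 → P i := stepQ 107861 Q107861 (allL N107861 (tt N73045 (iv1 D211081)) (tt N73048 F460034) (tt N94944 (iv2 F460037)) (tt N117314 (iv3 F504423)) (tt N92385 F460035) (tt N95088 F460036) (tt N93687 (iv6 F460038)) (tt N107875 (iv7 F460076)))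
theorem Q107863 : ∀ i, i < 107863 → P i := stepQ 107862 Q107862 (allL N107862 (tt N119933 (iv1 F518113)) (tt N117901 (iv0 F507507)) (tt N117917 (iv2 F507586)) (tt N73045 (iv3 D211082)) (tt N119784 (iv4 F517401)) (tt N94458 F460042) (tt N117891 F507463) (tt N108306 (iv7 F461988)))
theorem Q107864 : ∀ i, i < 107864 → P i := stepQ 107863 Q107863 (allL N107863 (tt N107868 F460062) (tt N118283 (iv0 F509508)) (tt N108994 (iv2 F464811)) (tt N94458 (iv3 F460041)) (tt N73082 F460039) (tt N73045 (iv5 D211083)) (tt N94457 F460040) (tt N108304 (iv7 F461978)))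
theorem Q107865 : ∀ i, i < 107865 → P i := stepQ 107864 Q107864 (allL N107864 (tt N93697 (iv1 F460047)) (tt N74740 F460048) (tt N96889 (iv2 F460046)) (tt N73048 (iv3 D211084)) (tt N93699 F460043) (tt N99733 F460044) (tt N108027 (iv6 F460797)) (tt N93850 F460045))
theorem Q107866 : ∀ i, i < 107866 → P i := stepQ 107865 Q107865 (allL N107865 (tt N110111 (iv1 F470040)) (tt N93579 (iv0 F505111)) (tt N121602 (iv2 F527271)) (tt N108027 (iv3 F460796)) (tt N73050 F460049) (tt N108718 (iv5 F463676)) (tt N73048 (iv6 D211085)) (tt N117916 (iv7 F507584)))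
theorem Q107867 : ∀ i, i < 107867 → P i := stepQ 107866 Q107866 (allL N107866 (tt N73050 (iv1 D211086)) (tt N96904 F460050) (tt N116005 (iv2 F498005)) (tt N121612 D224871) (tt N118319 (iv4 F509682)) (tt N111540 (iv5 F476817)) (tt N92887 (iv6 F460051)) (tt N118797 (iv7 F512125)))
theorem Q107868 : ∀ i, i < 107868 → P i := stepQ 107867 Q107867 (allL N107867 (tt N118176 (iv1 F509020)) (tt N102314 (iv0 F460056)) (tt N73528 F460052) (tt N93880 F460053) (tt N73516 (iv4 F460057)) (tt N73050 (iv5 D211087)) (tt N73447 F460054) (tt N96592 F460055))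
theorem Q107869 : ∀ i, i < 107869 → P i := stepQ 107868 Q107868 (allL N107868 (tt N93705 (iv1 F460063)) (tt N107863 (iv0 F460062)) (tt N95082 F460058) (tt N112496 (iv3 F481355)) (tt N93812 F460059) (tt N93581 F460060) (tt N73051 (iv6 D211088)) (tt N95076 (iv7 F460061)))
theorem Q107870 : ∀ i, i < 107870 → P i := stepQ 107869 Q107869 (allL N107869 (tt N108689 (iv1 F463568)) (tt N108713 F463660) (tt N108712 (iv2 F463657)) (tt N73052 (iv3 D211089)) (tt N108257 (iv4 F461733)) (tt N92511 F460064) (tt N116656 (iv6 F501168)) (tt N108711 F463653))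
theorem Q107871 : ∀ i, i < 107871 → P i := stepQ 107870 Q107870 (allL N107870 (tt N118320 (iv1 F509686)) (tt N118319 F509685) (tt N112081 F479409) (tt N116656 (iv3 F501167)) (tt N112087 (iv4 F479433)) (tt N107847 F460065) (tt N73052 (iv6 D211090)) (tt N118317 (iv7 F509674)))
theorem Q107872 : ∀ i, i < 107872 → P i := stepQ 107871 Q107871 (allL N107871 (tt N121613 D224872) (tt N120442 (iv0 F520805)) (tt N120570 (iv2 F521506)) (tt N110117 (iv3 F470069)) (tt N73056 F460066) (tt N121614 D224873) (tt N73055 (iv6 D211091)) (tt N118620 (iv7 F511190)))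
theorem Q107873 : ∀ i, i < 107873 → P i := stepQ 107872 Q107872 (allL N107872 (tt N73057 (iv1 D211092)) (tt N116828 F502045) (tt N89474 (iv2 F460068)) (tt N116831 (iv3 F502058)) (tt N118592 (iv4 F511052)) (tt N106511 F464405) (tt N118591 (iv6 F511047)) (tt N105434 F460067))
theorem Q107874 : ∀ i, i < 107874 → P i := stepQ 107873 Q107873 (allL N107873 (tt N105434 (iv1 F460072)) (tt N89474 F460071) (tt N73057 (iv2 D211093)) (tt N103086 F460069) (tt N117847 (iv4 F507244)) (tt N121615 D224874) (tt N89566 F460070) (tt N116828 (iv7 F502046)))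
theorem Q107875 : ∀ i, i < 107875 → P i := stepQ 107874 Q107874 (allL N107874 (tt N116836 F502095) (tt N120536 (iv0 F521322)) (tt N121615 (iv2 F527342)) (tt N73058 F460073) (tt N117085 F503302) (tt N73057 (iv5 D211094)) (tt N118214 F509194) (tt N116992 F502862))
theorem Q107876 : ∀ i, i < 107876 → P i := stepQ 107875 Q107875 (allL N107875 (tt N107720 F460077) (tt N107718 F460078) (tt N107860 F460074) (tt N121616 D224875) (tt N73058 (iv4 D211095)) (tt N95173 F460075) (tt N118550 F510900) (tt N107861 F460076))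
theorem Q107877 : ∀ i, i < 107877 → P i := stepQ 107876 Q107876 (allL N107876 (tt N120443 (iv1 F520812)) (tt N120381 (iv0 F520485)) (tt N117550 F505645) (tt N118214 (iv3 F509195)) (tt N118550 (iv4 F510902)) (tt N96551 F460079) (tt N73058 (iv6 D211096)) (tt N118553 (iv7 F510916)))
theorem Q107878 : ∀ i, i < 107878 → P i := stepQ 107877 Q107877 (allL N107877 (tt N73062 (iv1 D211097)) (tt N93775 F460080) (tt N93737 F460085) (tt N106748 (iv3 F460082)) (tt N106762 (iv4 F460083)) (tt N93774 (iv5 F460084)) (tt N106754 F460086) (tt N93773 F460081))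
theorem Q107879 : ∀ i, i < 107879 → P i := stepQ 107878 Q107878 (allL N107878 (tt N106767 F460088) (tt N106511 (iv0 F500941)) (tt N118408 (iv2 F510184)) (tt N73063 (iv3 D211098)) (tt N117081 (iv4 F503279)) (tt N107678 F460087) (tt N118986 (iv6 F513131)) (tt N118411 (iv7 F510205)))
theorem Q107880 : ∀ i, i < 107880 → P i := stepQ 107879 Q107879 (allL N107879 (tt N92553 F460091) (tt N111804 (iv0 F478058)) (tt N110997 (iv2 F474153)) (tt N73065 (iv3 D211099)) (tt N100498 F460089) (tt N116197 (iv5 F498962)) (tt N102677 F460090) (tt N110513 (iv7 F471928)))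
theorem Q107881 : ∀ i, i < 107881 → P i := stepQ 107880 Q107880 (allL N107880 (tt N112182 F479938) (tt N112183 F479944) (tt N109588 (iv2 F467607)) (tt N103084 F460092) (tt N75830 F460093) (tt N73068 (iv5 D211100)) (tt N110194 (iv6 F470371)) (tt N107930 (iv7 F460338)))
theorem Q107882 : ∀ i, i < 107882 → P i := stepQ 107881 Q107881 (allL N107881 (tt N93758 (iv1 F460097)) (tt N73070 (iv0 D211101)) (tt N74609 F460099) (tt N95290 F460096) (tt N75832 F460095) (tt N82047 F460094) (tt N95289 (iv6 F460098)) (tt N109590 (iv7 F467617)))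
theorem Q107883 : ∀ i, i < 107883 → P i := stepQ 107882 Q107882 (allL N107882 (tt N73070 (iv1 D211102)) (tt N93758 F460100) (tt N109590 (iv2 F467614)) (tt N74604 (iv3 F460103)) (tt N75833 F460102) (tt N79417 (iv5 F460104)) (tt N106759 (iv6 F460105)) (tt N74609 F460101))
theorem Q107884 : ∀ i, i < 107884 → P i := stepQ 107883 Q107883 (allL N107883 (tt N77016 (iv1 F460110)) (tt N77014 F460111) (tt N77012 F460106) (tt N83167 F460107) (tt N73072 F460108) (tt N121617 D224876) (tt N73071 (iv6 D211103)) (tt N77013 F460109))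
theorem Q107885 : ∀ i, i < 107885 → P i := stepQ 107884 Q107884 (allL N107884 (tt N73072 (iv1 D211104)) (tt N93782 F460112) (tt N83162 F460115) (tt N115757 (iv3 F496695)) (tt N95326 (iv4 F460113)) (tt N94562 (iv5 F460114)) (tt N117269 (iv6 F504204)) (tt N112775 (iv7 F482601)))
theorem Q107886 : ∀ i, i < 107886 → P i := stepQ 107885 Q107885 (allL N107885 (tt N83162 (iv1 F460121)) (tt N112775 (iv0 F482603)) (tt N93782 F460116) (tt N107429 F460117) (tt N77013 F460118) (tt N107515 F460119) (tt N93776 F460120) (tt N73072 (iv7 D211105)))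
theorem Q107887 : ∀ i, i < 107887 → P i := stepQ 107886 Q107886 (allL N107886 (tt N106828 F460126) (tt N79180 F460127) (tt N116763 (iv2 F501698)) (tt N73077 F460122) (tt N106317 F460123) (tt N73076 (iv5 D211106)) (tt N106315 F460124) (tt N106956 F460125))
theorem Q107888 : ∀ i, i < 107888 → P i := stepQ 107887 Q107887 (allL N107887 (tt N111535 (iv1 F476798)) (tt N80307 (iv0 F460130)) (tt N111536 F476802) (tt N73078 (iv3 D211107)) (tt N100386 F460128) (tt N112182 (iv5 F479936)) (tt N73454 F460129) (tt N110895 (iv7 F473654)))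
theorem Q107889 : ∀ i, i < 107889 → P i := stepQ 107888 Q107888 (allL N107888 (tt N81231 (iv1 F460132)) (tt N73079 (iv0 D211108)) (tt N106787 (iv2 F460133)) (tt N111369 (iv3 F476039)) (tt N112158 (iv4 F479807)) (tt N106786 F460131) (tt N107688 (iv6 F460134)) (tt N117109 (iv7 F503441)))
theorem Q107890 : ∀ i, i < 107890 → P i := stepQ 107889 Q107889 (allL N107889 (tt N73079 (iv1 D211109)) (tt N81231 (iv0 F460138)) (tt N117109 (iv2 F503438)) (tt N95596 (iv3 F460136)) (tt N112157 (iv4 F479798)) (tt N106788 (iv5 F460139)) (tt N73087 (iv6 F460137)) (tt N106787 F460135))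
theorem Q107891 : ∀ i, i < 107891 → P i := stepQ 107890 Q107890 (allL N107890 (tt N106787 (iv1 F460143)) (tt N117109 (iv0 F503442)) (tt N73079 (iv2 D211110)) (tt N99552 F460140) (tt N108960 (iv4 F464677)) (tt N99551 F460141) (tt N120571 (iv6 F521513)) (tt N81231 F460142))
theorem Q107892 : ∀ i, i < 107892 → P i := stepQ 107891 Q107891 (allL N107891 (tt N112154 (iv1 F479783)) (tt N112153 (iv0 F479779)) (tt N120571 (iv2 F521510)) (tt N73080 F460144) (tt N112430 (iv4 F481062)) (tt N82201 F460145) (tt N73079 (iv6 D211111)) (tt N112429 F481059))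
theorem Q107893 : ∀ i, i < 107893 → P i := stepQ 107892 Q107892 (allL N107892 (tt N119725 F517120) (tt N92396 (iv0 F463603)) (tt N108773 (iv2 F463864)) (tt N73084 (iv3 D211112)) (tt N119763 (iv4 F517295)) (tt N120055 (iv5 F518799)) (tt N119718 (iv6 F517077)) (tt N94395 F460146))
theorem Q107894 : ∀ i, i < 107894 → P i := stepQ 107893 Q107893 (allL N107893 (tt N118278 (iv1 F509482)) (tt N95323 (iv0 F460149)) (tt N97107 F460147) (tt N119718 (iv3 F517075)) (tt N73085 F460148) (tt N121618 D224877) (tt N73084 (iv6 D211113)) (tt N117884 (iv7 F507423)))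
theorem Q107895 : ∀ i, i < 107895 → P i := stepQ 107894 Q107894 (allL N107894 (tt N115788 (iv1 F496885)) (tt N87070 (iv0 F460152)) (tt N88187 F460150) (tt N97500 F460151) (tt N73086 (iv4 D211114)) (tt N117108 (iv5 F503434)) (tt N91516 (iv6 F460153)) (tt N115787 (iv7 F496874)))
theorem Q107896 : ∀ i, i < 107896 → P i := stepQ 107895 Q107895 (allL N107895 (tt N107687 F460158) (tt N94993 F460159) (tt N91510 F460154) (tt N77493 F460155) (tt N91516 F460156) (tt N77489 F460157) (tt N73086 (iv6 D211115)) (tt N107688 F460160))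
theorem Q107897 : ∀ i, i < 107897 → P i := stepQ 107896 Q107896 (allL N107896 (tt N96748 (iv1 F460167)) (tt N96750 (iv0 F460166)) (tt N97496 F460161) (tt N73087 (iv3 D211116)) (tt N88184 F460162) (tt N96621 F460163) (tt N95596 F460164) (tt N88183 F460165))
theorem Q107898 : ∀ i, i < 107898 → P i := stepQ 107897 Q107897 (allL N107897 (tt N73090 (iv1 D211117)) (tt N82417 F460168) (tt N82422 F460172) (tt N109806 (iv3 F468711)) (tt N79787 (iv4 F460171)) (tt N96626 F460170) (tt N111372 F476057) (tt N82423 F460169))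
theorem Q107899 : ∀ i, i < 107899 → P i := stepQ 107898 Q107898 (allL N107898 (tt N92055 (iv1 F460178)) (tt N92054 F460177) (tt N73091 (iv2 D211118)) (tt N82417 F460173) (tt N93623 F460174) (tt N118149 (iv5 F508867)) (tt N80560 F460175) (tt N97495 F460176))
theorem Q107900 : ∀ i, i < 107900 → P i := stepQ 107899 Q107899 (allL N107899 (tt N73106 (iv1 D211119)) (tt N103756 F460179) (tt N80455 F460183) (tt N110987 (iv3 F474100)) (tt N104796 (iv4 F460181)) (tt N81690 F460180) (tt N78725 (iv6 F460182)) (tt N111923 (iv7 F478675)))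
theorem Q107901 : ∀ i, i < 107901 → P i := stepQ 107900 Q107900 (allL N107900 (tt N76885 F460188) (tt N77087 (iv0 F460189)) (tt N73763 F460184) (tt N105370 F460185) (tt N113239 (iv4 F484661)) (tt N73752 F460186) (tt N73109 (iv6 D211120)) (tt N73766 F460187))
theorem Q107902 : ∀ i, i < 107902 → P i := stepQ 107901 Q107901 (allL N107901 (tt N120029 (iv1 F518650)) (tt N90376 F460193) (tt N73113 F460190) (tt N90354 F460191) (tt N90729 F460192) (tt N108676 F463497) (tt N73111 (iv6 D211121)) (tt N121451 (iv7 F526451)))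
theorem Q107903 : ∀ i, i < 107903 → P i := stepQ 107902 Q107902 (allL N107902 (tt N112013 F479078) (tt N119037 (iv0 F513420)) (tt N120767 (iv2 F522599)) (tt N73115 F460194) (tt N82919 F460195) (tt N112008 F479052) (tt N73112 (iv6 D211122)) (tt N109657 (iv7 F467965)))
theorem Q107904 : ∀ i, i < 107904 → P i := stepQ 107903 Q107903 (allL N107903 (tt N73113 (iv1 D211123)) (tt N121451 F526453) (tt N90376 F460197) (tt N115070 (iv3 F493333)) (tt N104893 (iv4 F460196)) (tt N118365 (iv5 F509942)) (tt N90372 F460198) (tt N120029 (iv7 F518648)))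
theorem Q107905 : ∀ i, i < 107905 → P i := stepQ 107904 Q107904 (allL N107904 (tt N93432 F460200) (tt N108677 F463501) (tt N108676 (iv2 F463498)) (tt N73117 F460199) (tt N118200 (iv4 F509112)) (tt N73113 (iv5 D211124)) (tt N112008 (iv6 F479053)) (tt N108675 F463496))
theorem Q107906 : ∀ i, i < 107906 → P i := stepQ 107905 Q107905 (allL N107905 (tt N94720 F460206) (tt N94714 F460205) (tt N94717 F460201) (tt N112008 F479051) (tt N80157 F460204) (tt N73115 (iv5 D211125)) (tt N73117 F460202) (tt N94718 F460203))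
theorem Q107907 : ∀ i, i < 107907 → P i := stepQ 107906 Q107906 (allL N107906 (tt N73117 (iv1 D211126)) (tt N112807 (iv0 F482701)) (tt N107203 F460211) (tt N82067 F460212) (tt N86933 F460209) (tt N81695 F460208) (tt N101527 (iv6 F460210)) (tt N103917 F460207))
theorem Q107908 : ∀ i, i < 107908 → P i := stepQ 107907 Q107907 (allL N107907 (tt N85146 F460216) (tt N85549 F460217) (tt N107919 F460287) (tt N105057 F460213) (tt N82916 F460214) (tt N73118 (iv5 D211127)) (tt N119583 F516384) (tt N82913 F460215))
theorem Q107909 : ∀ i, i < 107909 → P i := stepQ 107908 Q107908 (allL N107908 (tt N98418 (iv1 F460223)) (tt N109801 (iv0 F468685)) (tt N86314 F460218) (tt N98308 F460219) (tt N82932 F460220) (tt N73978 F460221) (tt N73120 (iv6 D211128)) (tt N86317 F460222))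
theorem Q107910 : ∀ i, i < 107910 → P i := stepQ 107909 Q107909 (allL N107909 (tt N78352 F460230) (tt N86746 F460231) (tt N90273 F460225) (tt N73125 F460226) (tt N73131 F460227) (tt N105477 F460228) (tt N73123 (iv6 D211129)) (tt N90272 F460229))
theorem Q107911 : ∀ i, i < 107911 → P i := stepQ 107910 Q107910 (allL N107910 (tt N90577 F460237) (tt N73125 (iv0 D211130)) (tt N89168 (iv2 F460235)) (tt N106000 (iv3 F460238)) (tt N95520 F460233) (tt N86323 F460232) (tt N89149 F460234) (tt N95522 (iv7 F460236)))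
theorem Q107912 : ∀ i, i < 107912 → P i := stepQ 107911 Q107911 (allL N107911 (tt N73125 (iv1 D211131)) (tt N90577 F460240) (tt N95522 F460245) (tt N106566 F460246) (tt N75564 F460242) (tt N86322 (iv5 F460243)) (tt N75563 (iv6 F460244)) (tt N89168 F460241))
theorem Q107913 : ∀ i, i < 107913 → P i := stepQ 107912 Q107912 (allL N107912 (tt N95522 (iv1 F460252)) (tt N89168 F460253) (tt N90577 F460247) (tt N90272 F460248) (tt N73129 F460249) (tt N98498 F460250) (tt N89190 F460251) (tt N73125 (iv7 D211132)))
theorem Q107914 : ∀ i, i < 107914 → P i := stepQ 107913 Q107913 (allL N107913 (tt N117247 F504106) (tt N111213 (iv0 F475253)) (tt N117604 (iv2 F505955)) (tt N73126 (iv3 D211133)) (tt N73137 F460254) (tt N98184 F460255) (tt N108078 (iv6 F461020)) (tt N73859 F460256))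
theorem Q107915 : ∀ i, i < 107915 → P i := stepQ 107914 Q107914 (allL N107914 (tt N95682 (iv1 F460261)) (tt N73132 (iv0 D211134)) (tt N95683 (iv2 F460260)) (tt N95041 (iv3 F460263)) (tt N107450 F460258) (tt N95039 F460257) (tt N97833 F460259) (tt N95681 F460262))
theorem Q107916 : ∀ i, i < 107916 → P i := stepQ 107915 Q107915 (allL N107915 (tt N101521 F460267) (tt N101520 F460268) (tt N100912 F460264) (tt N101525 F460265) (tt N111832 (iv4 F478201)) (tt N73133 (iv5 D211135)) (tt N111995 (iv6 F479008)) (tt N101522 F460266))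
theorem Q107917 : ∀ i, i < 107917 → P i := stepQ 107916 Q107916 (allL N107916 (tt N101799 (iv1 F460272)) (tt N81957 F460273) (tt N109341 F466472) (tt N96318 F460269) (tt N97778 F460270) (tt N73136 F460271) (tt N118706 (iv6 F511651)) (tt N73135 (iv7 D211136)))
theorem Q107918 : ∀ i, i < 107918 → P i := stepQ 107917 Q107917 (allL N107917 (tt N75180 F460279) (tt N75178 F460280) (tt N75331 F460274) (tt N80166 F460275) (tt N73143 (iv4 D211137)) (tt N80164 F460276) (tt N75318 F460277) (tt N75270 F460278))
theorem Q107919 : ∀ i, i < 107919 → P i := stepQ 107918 Q107918 (allL N107918 (tt N100324 F460284) (tt N76510 (iv0 F460285)) (tt N75528 F460281) (tt N73146 F460282) (tt N109135 (iv4 F465504)) (tt N73145 (iv5 D211138)) (tt N116125 (iv6 F498605)) (tt N78820 F460283))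
theorem Q107920 : ∀ i, i < 107920 → P i := stepQ 107919 Q107919 (allL N107919 (tt N73158 (iv1 F460288)) (tt N73154 (iv0 D211139)) (tt N107907 (iv2 F460287)) (tt N104065 F460291) (tt N112911 (iv4 F483245)) (tt N73584 F460286) (tt N104064 (iv6 F460290)) (tt N99591 F460289))
theorem Q107921 : ∀ i, i < 107921 → P i := stepQ 107920 Q107920 (allL N107920 (tt N105927 (iv1 F460296)) (tt N97953 (iv0 F460295)) (tt N114757 (iv2 F491698)) (tt N89859 F460292) (tt N114751 (iv4 F491665)) (tt N104946 F460293) (tt N73154 (iv6 D211140)) (tt N89857 F460294))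
theorem Q107922 : ∀ i, i < 107922 → P i := stepQ 107921 Q107921 (allL N107921 (tt N120770 (iv1 F522625)) (tt N92742 (iv0 F460300)) (tt N97826 F460297) (tt N92862 F460298) (tt N106300 F460299) (tt N115343 F494694) (tt N73159 (iv6 D211141)) (tt N111222 (iv7 F475288)))
theorem Q107923 : ∀ i, i < 107923 → P i := stepQ 107922 Q107922 (allL N107922 (tt N83288 (iv1 F460304)) (tt N73163 (iv0 D211142)) (tt N76935 (iv2 F460303)) (tt N78806 (iv3 F460306)) (tt N76010 F460302) (tt N115470 (iv5 F495340)) (tt N110270 (iv6 F470751)) (tt N98697 F460305))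
theorem Q107924 : ∀ i, i < 107924 → P i := stepQ 107923 Q107923 (allL N107923 (tt N110855 (iv1 F473449)) (tt N74496 (iv0 F460311)) (tt N73169 F460307) (tt N101864 F460308) (tt N99703 F460309) (tt N105279 F460310) (tt N73166 (iv6 D211143)) (tt N109492 (iv7 F467252)))
theorem Q107925 : ∀ i, i < 107925 → P i := stepQ 107924 Q107924 (allL N107924 (tt N99045 (iv1 F460315)) (tt N73168 (iv0 D211144)) (tt N119248 (iv2 F514610)) (tt N73189 F460314) (tt N73201 F460313) (tt N95373 F460312) (tt N110593 (iv6 F472290)) (tt N109002 (iv7 F464853)))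
theorem Q107926 : ∀ i, i < 107926 → P i := stepQ 107925 Q107925 (allL N107925 (tt N89469 F460318) (tt N116831 F502061) (tt N116830 F502054) (tt N73170 (iv3 D211145)) (tt N99039 F460316) (tt N107927 (iv5 F460323)) (tt N77037 F460317) (tt N108982 (iv7 F464762)))
theorem Q107927 : ∀ i, i < 107927 → P i := stepQ 107926 Q107926 (allL N107926 (tt N73177 (iv1 F460321)) (tt N73173 (iv0 D211146)) (tt N102399 (iv2 F460320)) (tt N120599 (iv3 F521672)) (tt N101789 F460319) (tt N107933 (iv5 F460351)) (tt N110986 (iv6 F474095)) (tt N108307 (iv7 F461993)))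
theorem Q107928 : ∀ i, i < 107928 → P i := stepQ 107927 Q107927 (allL N107927 (tt N116587 F500869) (tt N101662 (iv0 F492677)) (tt N121619 D224878) (tt N73173 (iv3 D211147)) (tt N99043 F460322) (tt N107925 F460323) (tt N117520 (iv6 F505487)) (tt N108313 F462024))
theorem Q107929 : ∀ i, i < 107929 → P i := stepQ 107928 Q107928 (allL N107928 (tt N106733 F460329) (tt N90388 (iv0 F460331)) (tt N90339 F460325) (tt N73174 (iv3 D211148)) (tt N73175 F460326) (tt N102797 (iv5 F460330)) (tt N90219 F460327) (tt N106750 F460328))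
theorem Q107930 : ∀ i, i < 107930 → P i := stepQ 107929 Q107929 (allL N107929 (tt N108056 F460910) (tt N110322 (iv0 F471044)) (tt N106752 F460332) (tt N102797 F460333) (tt N100943 F460335) (tt N73174 (iv5 D211149)) (tt N73871 F460334) (tt N119104 (iv7 F513812)))
theorem Q107931 : ∀ i, i < 107931 → P i := stepQ 107930 Q107930 (allL N107930 (tt N118794 (iv1 F512116)) (tt N81097 (iv0 F460339)) (tt N107773 F460340) (tt N73177 (iv3 D211150)) (tt N76065 F460336) (tt N74712 F460337) (tt N108308 (iv6 F461996)) (tt N107880 F460338))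
theorem Q107932 : ∀ i, i < 107932 → P i := stepQ 107931 Q107931 (allL N107931 (tt N109001 F464846) (tt N96836 F460344) (tt N109627 (iv2 F467812)) (tt N73179 F460341) (tt N95344 F460342) (tt N73178 (iv5 D211151)) (tt N76197 F460345) (tt N73601 F460343))
theorem Q107933 : ∀ i, i < 107933 → P i := stepQ 107932 Q107932 (allL N107932 (tt N108921 (iv1 F464496)) (tt N107940 (iv0 F460388)) (tt N108923 F464503) (tt N93609 F460349) (tt N73179 (iv4 D211152)) (tt N73988 F460348) (tt N75505 F460346) (tt N73605 F460347))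
theorem Q107934 : ∀ i, i < 107934 → P i := stepQ 107933 Q107933 (allL N107933 (tt N107940 (iv1 F460389)) (tt N108921 (iv0 F464495)) (tt N73605 F460350) (tt N114197 (iv3 F488948)) (tt N73181 (iv4 D211153)) (tt N107926 F460351) (tt N73579 F460352) (tt N108923 (iv7 F464505)))
theorem Q107935 : ∀ i, i < 107935 → P i := stepQ 107934 Q107934 (allL N107934 (tt N106946 F460358) (tt N81731 (iv0 F460359)) (tt N74705 F460353) (tt N93601 F460354) (tt N74701 F460355) (tt N78342 F460356) (tt N73182 (iv6 D211154)) (tt N94435 F460357))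
theorem Q107936 : ∀ i, i < 107936 → P i := stepQ 107935 Q107935 (allL N107935 (tt N107841 F460364) (tt N107840 F460365) (tt N74711 F460360) (tt N116145 (iv3 F498728)) (tt N81693 F460361) (tt N73183 (iv5 D211155)) (tt N77492 F460362) (tt N74704 F460363))
theorem Q107937 : ∀ i, i < 107937 → P i := stepQ 107936 Q107936 (allL N107936 (tt N117900 (iv1 F507502)) (tt N117893 (iv0 F507472)) (tt N117899 F507497) (tt N73187 (iv3 D211156)) (tt N100253 F460366) (tt N107497 F460367) (tt N100043 F460368) (tt N108699 (iv7 F463607)))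
theorem Q107938 : ∀ i, i < 107938 → P i := stepQ 107937 Q107937 (allL N107937 (tt N74710 (iv1 F460371)) (tt N110118 (iv0 F470079)) (tt N111932 (iv2 F478731)) (tt N73195 (iv3 D211157)) (tt N95320 F460370) (tt N107276 F460369) (tt N109348 F466510) (tt N112723 (iv7 F482367)))
theorem Q107939 : ∀ i, i < 107939 → P i := stepQ 107938 Q107938 (allL N107938 (tt N99547 F460374) (tt N107214 F460375) (tt N108439 (iv2 F462564)) (tt N101169 F460376) (tt N73195 (iv4 D211158)) (tt N88843 F460373) (tt N108080 (iv6 F461025)) (tt N101186 F460372))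
theorem Q107940 : ∀ i, i < 107940 → P i := stepQ 107939 Q107939 (allL N107939 (tt N107214 F460381) (tt N99547 F460382) (tt N101186 F460377) (tt N89166 F460378) (tt N73196 (iv4 D211159)) (tt N88844 F460380) (tt N73949 F460379) (tt N108439 (iv7 F462567)))
theorem Q107941 : ∀ i, i < 107941 → P i := stepQ 107940 Q107940 (allL N107940 (tt N107932 F460388) (tt N107933 F460389) (tt N74607 F460383) (tt N79417 F460384) (tt N73199 (iv4 D211160)) (tt N74604 F460387) (tt N90276 F460385) (tt N74610 F460386))
theorem Q107942 : ∀ i, i < 107942 → P i := stepQ 107941 Q107941 (allL N107941 (tt N78305 F460393) (tt N100459 (iv0 F460394)) (tt N100457 F460390) (tt N99268 F460391) (tt N110593 (iv4 F472288)) (tt N119820 (iv5 F517537)) (tt N73201 (iv6 D211161)) (tt N100456 F460392))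
theorem Q107943 : ∀ i, i < 107943 → P i := stepQ 107942 Q107942 (allL N107942 (tt N103152 (iv1 F460398)) (tt N73208 (iv0 D211162)) (tt N103153 (iv2 F460397)) (tt N76740 (iv3 F460400)) (tt N117560 (iv4 F505700)) (tt N76731 F460395) (tt N79552 F460396) (tt N76730 F460399))
theorem Q107944 : ∀ i, i < 107944 → P i := stepQ 107943 Q107943 (allL N107943 (tt N103153 (iv1 F460406)) (tt N76730 F460405) (tt N73208 (iv2 D211163)) (tt N91709 F460401) (tt N112122 (iv4 F479597)) (tt N80768 F460402) (tt N91319 F460403) (tt N103152 F460404))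
theorem Q107945 : ∀ i, i < 107945 → P i := stepQ 107944 Q107944 (allL N107944 (tt N120527 F521270) (tt N121620 D224879) (tt N99154 F460407) (tt N73213 F460408) (tt N98800 F460409) (tt N117080 (iv5 F503274)) (tt N73211 (iv6 D211164)) (tt N112316 (iv7 F480513)))
theorem Q107946 : ∀ i, i < 107946 → P i := stepQ 107945 Q107945 (allL N107945 (tt N89555 F460415) (tt N89556 F460413) (tt N106714 F460410) (tt N117080 (iv3 F503275)) (tt N90710 F460414) (tt N73213 (iv5 D211165)) (tt N90709 F460411) (tt N106713 F460412))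
theorem Q107947 : ∀ i, i < 107947 → P i := stepQ 107946 Q107946 (allL N107946 (tt N99108 F460419) (tt N99093 F460420) (tt N108085 (iv2 F461051)) (tt N73218 (iv3 D211166)) (tt N99105 F460416) (tt N96493 F460417) (tt N109883 (iv6 F469068)) (tt N107293 F460418))
theorem Q107948 : ∀ i, i < 107948 → P i := stepQ 107947 Q107947 (allL N107947 (tt N107418 (iv1 F460424)) (tt N109873 F469024) (tt N107299 F460421) (tt N85356 F460422) (tt N96065 F460423) (tt N116779 (iv5 F501789)) (tt N73219 (iv6 D211167)) (tt N109874 (iv7 F469029)))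
theorem Q107949 : ∀ i, i < 107949 → P i := stepQ 107948 Q107948 (allL N107948 (tt N113279 (iv1 F484837)) (tt N113278 F484834) (tt N107071 (iv2 F460428)) (tt N73221 (iv3 D211168)) (tt N117791 (iv4 F506991)) (tt N88765 F460425) (tt N89526 F460426) (tt N88764 F460427))
theorem Q107950 : ∀ i, i < 107950 → P i := stepQ 107949 Q107949 (allL N107949 (tt N89502 F460433) (tt N89501 F460432) (tt N89504 F460429) (tt N117792 (iv3 F506994)) (tt N73221 (iv4 D211169)) (tt N110930 (iv5 F473839)) (tt N89533 F460430) (tt N88774 F460431))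
theorem Q107951 : ∀ i, i < 107951 → P i := stepQ 107950 Q107950 (allL N107950 (tt N89948 (iv1 F460438)) (tt N89604 (iv0 F460437)) (tt N89950 F460434) (tt N73232 F460435) (tt N117919 (iv4 F507597)) (tt N113615 (iv5 F486316)) (tt N73231 (iv6 D211170)) (tt N89912 F460436))
theorem Q107952 : ∀ i, i < 107952 → P i := stepQ 107951 Q107951 (allL N107951 (tt N73259 F460443) (tt N107462 F460444) (tt N107464 F460439) (tt N73234 F460440) (tt N107322 F460442) (tt N73233 (iv5 D211171)) (tt N116733 F501556) (tt N107401 F460441))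
theorem Q107953 : ∀ i, i < 107953 → P i := stepQ 107952 Q107952 (allL N107952 (tt N84855 F460449) (tt N108134 (iv0 F461252)) (tt N107403 F460445) (tt N73875 F460446) (tt N73234 (iv4 D211172)) (tt N107486 F460448) (tt N73872 (iv6 F460450)) (tt N107402 F460447))
theorem Q107954 : ∀ i, i < 107954 → P i := stepQ 107953 Q107953 (allL N107953 (tt N107395 (iv1 F460456)) (tt N73272 (iv0 F460455)) (tt N107404 F460451) (tt N116733 F501554) (tt N73872 F460452) (tt N91071 F460453) (tt N73234 (iv6 D211173)) (tt N106388 F460454))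
theorem Q107955 : ∀ i, i < 107955 → P i := stepQ 107954 Q107954 (allL N107954 (tt N89488 F460461) (tt N89498 F460462) (tt N89497 F460457) (tt N73237 F460458) (tt N93636 F460459) (tt N104633 F460460) (tt N73235 (iv6 D211174)) (tt N89496 (iv7 F460463)))
theorem Q107956 : ∀ i, i < 107956 → P i := stepQ 107955 Q107955 (allL N107955 (tt N108134 (iv1 F461253)) (tt N84855 (iv0 F460467)) (tt N107402 F460464) (tt N119594 (iv3 F516424)) (tt N73236 (iv4 D211175)) (tt N109766 F468513) (tt N106386 F460465) (tt N107403 F460466))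
theorem Q107957 : ∀ i, i < 107957 → P i := stepQ 107956 Q107956 (allL N107956 (tt N110902 F473702) (tt N117079 (iv0 F503271)) (tt N90491 F460471) (tt N73239 (iv3 D211176)) (tt N89225 F460468) (tt N80301 F460469) (tt N113294 (iv6 F484891)) (tt N90489 F460470))
theorem Q107958 : ∀ i, i < 107958 → P i := stepQ 107957 Q107957 (allL N107957 (tt N107040 (iv1 F460474)) (tt N89386 (iv0 F460473)) (tt N108402 F462435) (tt N113294 F484892) (tt N120526 (iv4 F521259)) (tt N108411 F462467) (tt N73239 (iv6 D211177)) (tt N101104 F460472))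
theorem Q107959 : ∀ i, i < 107959 → P i := stepQ 107958 Q107958 (allL N107958 (tt N99154 (iv1 F480515)) (tt N112316 (iv0 F480514)) (tt N121620 (iv2 F527376)) (tt N73240 (iv3 D211178)) (tt N112684 (iv4 F482168)) (tt N116493 (iv5 F500425)) (tt N89426 F460475) (tt N120527 (iv7 F521268)))
theorem Q107960 : ∀ i, i < 107960 → P i := stepQ 107959 Q107959 (allL N107959 (tt N106713 F460480) (tt N106714 F460481) (tt N89555 F460476) (tt N73242 (iv3 D211179)) (tt N117173 (iv4 F503750)) (tt N89018 F460477) (tt N105996 F460478) (tt N89556 F460479))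
theorem Q107961 : ∀ i, i < 107961 → P i := stepQ 107960 Q107960 (allL N107960 (tt N98782 (iv1 F460484)) (tt N73244 (iv0 D211180)) (tt N98854 (iv2 F460485)) (tt N119286 (iv3 F514834)) (tt N96247 F460482) (tt N116979 (iv5 F502797)) (tt N93488 F460483) (tt N99050 (iv7 F460486)))
theorem Q107962 : ∀ i, i < 107962 → P i := stepQ 107961 Q107961 (allL N107961 (tt N73244 (iv1 D211181)) (tt N98782 F460487) (tt N99050 (iv2 F460490)) (tt N119300 (iv3 F514913)) (tt N96246 F460489) (tt N119095 (iv5 F513767)) (tt N98979 F460491) (tt N98854 F460488))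
theorem Q107963 : ∀ i, i < 107963 → P i := stepQ 107962 Q107962 (allL N107962 (tt N110300 (iv1 F470925)) (tt N101747 (iv0 F460495)) (tt N73247 F460492) (tt N117079 (iv3 F503268)) (tt N75419 F460493) (tt N106791 F460494) (tt N73246 (iv6 D211182)) (tt N110298 (iv7 F470911)))
theorem Q107964 : ∀ i, i < 107964 → P i := stepQ 107963 Q107963 (allL N107963 (tt N110298 (iv1 F470910)) (tt N73247 (iv0 D211183)) (tt N110300 (iv2 F470921)) (tt N95609 F460497) (tt N81076 F460496) (tt N115946 (iv5 F497716)) (tt N81075 F460498) (tt N101747 (iv7 F460499)))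
theorem Q107965 : ∀ i, i < 107965 → P i := stepQ 107964 Q107964 (allL N107964 (tt N94938 F460506) (tt N106793 F460505) (tt N106791 F460500) (tt N73249 F460501) (tt N89477 F460504) (tt N73247 (iv5 D211184)) (tt N101908 F460502) (tt N106792 F460503))
theorem Q107966 : ∀ i, i < 107966 → P i := stepQ 107965 Q107965 (allL N107965 (tt N107462 (iv1 F460513)) (tt N73259 F460511) (tt N107401 F460507) (tt N99093 F460508) (tt N82906 F460510) (tt N73250 (iv5 D211185)) (tt N82905 F460512) (tt N107464 F460509))
theorem Q107967 : ∀ i, i < 107967 → P i := stepQ 107966 Q107966 (allL N107966 (tt N91712 F460517) (tt N73267 (iv0 F460518)) (tt N107039 F460514) (tt N89497 F460515) (tt N97288 F460516) (tt N108375 (iv5 F462317)) (tt N73250 (iv6 D211186)) (tt N119209 (iv7 F514374)))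
theorem Q107968 : ∀ i, i < 107968 → P i := stepQ 107967 Q107967 (allL N107967 (tt N119209 (iv1 F514376)) (tt N107039 (iv0 F460524)) (tt N91712 F460519) (tt N73253 (iv3 D211187)) (tt N73705 F460520) (tt N107031 F460521) (tt N76192 F460522) (tt N73267 F460523))
theorem Q107969 : ∀ i, i < 107969 → P i := stepQ 107968 Q107968 (allL N107968 (tt N91674 F460530) (tt N82739 (iv0 F460531)) (tt N91672 F460525) (tt N73258 F460526) (tt N73768 F460527) (tt N100593 F460528) (tt N73256 (iv6 D211188)) (tt N91673 F460529))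
theorem Q107970 : ∀ i, i < 107970 → P i := stepQ 107969 Q107969 (allL N107969 (tt N105647 F460536) (tt N116301 (iv0 F499449)) (tt N107469 F460532) (tt N82300 F460533) (tt N73382 F460535) (tt N73257 (iv5 D211189)) (tt N96703 F460537) (tt N96681 F460534))
theorem Q107971 : ∀ i, i < 107971 → P i := stepQ 107970 Q107970 (allL N107970 (tt N105580 F460546) (tt N116738 (iv0 F501571)) (tt N107470 F460538) (tt N95687 F460539) (tt N73258 F460540) (tt N91061 (iv5 F460544)) (tt N73257 (iv6 D211190)) (tt N121059 (iv7 F524290)))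
theorem Q107972 : ∀ i, i < 107972 → P i := stepQ 107971 Q107971 (allL N107971 (tt N107473 (iv1 F460552)) (tt N73258 (iv0 D211191)) (tt N107443 (iv2 F460548)) (tt N114069 (iv3 F488429)) (tt N106001 F460547) (tt N114061 (iv5 F488397)) (tt N105583 (iv6 F460551)) (tt N107471 F460549))
theorem Q107973 : ∀ i, i < 107973 → P i := stepQ 107972 Q107972 (allL N107972 (tt N121621 D224880) (tt N121622 D224881) (tt N107472 F460553) (tt N100593 F460554) (tt N121623 D224882) (tt N73258 (iv5 D211192)) (tt N99407 F460555) (tt N112890 (iv7 F483157)))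
theorem Q107974 : ∀ i, i < 107974 → P i := stepQ 107973 Q107973 (allL N107973 (tt N107471 (iv1 F460559)) (tt N107443 F460560) (tt N107473 F460556) (tt N91673 F460557) (tt N121059 (iv4 F524287)) (tt N112890 (iv5 F483155)) (tt N107458 F460558) (tt N73258 (iv7 D211193)))
theorem Q107975 : ∀ i, i < 107975 → P i := stepQ 107974 Q107974 (allL N107974 (tt N107401 (iv1 F460565)) (tt N107464 F460564) (tt N73259 (iv2 D211194)) (tt N107450 F460561) (tt N109214 (iv4 F465811)) (tt N99409 F460562) (tt N117402 F504850) (tt N107462 F460563))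
theorem Q107976 : ∀ i, i < 107976 → P i := stepQ 107975 Q107975 (allL N107975 (tt N109870 F484681) (tt N117403 F504857) (tt N117402 (iv2 F504851)) (tt N73261 F460566) (tt N114767 (iv4 F491751)) (tt N114720 F491521) (tt N73259 (iv6 D211195)) (tt N117401 F504846))
theorem Q107977 : ∀ i, i < 107977 → P i := stepQ 107976 Q107976 (allL N107976 (tt N116301 (iv1 F499450)) (tt N105647 F460570) (tt N96681 F460567) (tt N113767 (iv3 F487023)) (tt N73379 F460568) (tt N73260 (iv5 D211196)) (tt N114887 F492351) (tt N107469 F460569))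
theorem Q107978 : ∀ i, i < 107978 → P i := stepQ 107977 Q107977 (allL N107977 (tt N116308 F499485) (tt N112540 (iv0 F484682)) (tt N107455 F460571) (tt N113750 F486958) (tt N73261 F460572) (tt N117211 F503926) (tt N73260 (iv6 D211197)) (tt N116307 (iv7 F499477)))
theorem Q107979 : ∀ i, i < 107979 → P i := stepQ 107978 Q107978 (allL N107978 (tt N107458 (iv1 F460580)) (tt N73261 (iv0 D211198)) (tt N107456 (iv2 F460577)) (tt N73281 F460579) (tt N120014 (iv4 F518563)) (tt N113491 F485746) (tt N116719 (iv6 F501485)) (tt N107420 (iv7 F460578)))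
theorem Q107980 : ∀ i, i < 107980 → P i := stepQ 107979 Q107979 (allL N107979 (tt N73261 (iv1 D211199)) (tt N107458 F460573) (tt N107420 F460575) (tt N109873 (iv3 F469027)) (tt N117059 (iv4 F503169)) (tt N113490 (iv5 F485743)) (tt N88851 (iv6 F460574)) (tt N107456 F460576))
theorem Q107981 : ∀ i, i < 107981 → P i := stepQ 107980 Q107980 (allL N107980 (tt N113462 (iv1 F485599)) (tt N113461 F485597) (tt N107457 F460581) (tt N114720 (iv3 F491522)) (tt N121160 (iv4 F524859)) (tt N73261 (iv5 D211200)) (tt N99411 F460582) (tt N113452 (iv7 F485552)))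
theorem Q107982 : ∀ i, i < 107982 → P i := stepQ 107981 Q107981 (allL N107981 (tt N107420 (iv1 F460585)) (tt N107456 F460586) (tt N107458 F460583) (tt N117401 (iv3 F504845)) (tt N116307 (iv4 F499478)) (tt N113452 (iv5 F485553)) (tt N107473 F460584) (tt N73261 (iv7 D211201)))
theorem Q107983 : ∀ i, i < 107983 → P i := stepQ 107982 Q107982 (allL N107982 (tt N75140 F460588) (tt N113850 F487447) (tt N114342 (iv2 F489709)) (tt N73262 (iv3 D211202)) (tt N121624 D224883) (tt N105008 (iv5 F460589)) (tt N121152 F524810) (tt N107610 F460587))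
theorem Q107984 : ∀ i, i < 107984 → P i := stepQ 107983 Q107983 (allL N107983 (tt N99454 F460594) (tt N99420 F460595) (tt N107488 F460590) (tt N105008 F460591) (tt N73372 F460593) (tt N73262 (iv5 D211203)) (tt N106182 F460596) (tt N107487 F460592))
theorem Q107985 : ∀ i, i < 107985 → P i := stepQ 107984 Q107984 (allL N107984 (tt N106001 F491012) (tt N116736 (iv0 F501565)) (tt N107635 F460597) (tt N121152 (iv3 F524812)) (tt N99431 F460598) (tt N119105 (iv5 F513817)) (tt N73262 (iv6 D211204)) (tt N121260 (iv7 F525433)))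
theorem Q107986 : ∀ i, i < 107986 → P i := stepQ 107985 Q107985 (allL N107985 (tt N99420 F460602) (tt N99454 F460603) (tt N107487 F460599) (tt N114343 (iv3 F489717)) (tt N73364 F460600) (tt N73263 (iv5 D211205)) (tt N116892 (iv6 F502381)) (tt N107488 F460601))
theorem Q107987 : ∀ i, i < 107987 → P i := stepQ 107986 Q107986 (allL N107986 (tt N120014 F518565) (tt N117059 (iv0 F503170)) (tt N107611 F460604) (tt N76805 F460605) (tt N76807 F460606) (tt N111203 (iv5 F475209)) (tt N73263 (iv6 D211206)) (tt N100210 (iv7 F460607)))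
theorem Q107988 : ∀ i, i < 107988 → P i := stepQ 107987 Q107987 (allL N107987 (tt N113782 (iv1 F487084)) (tt N73266 (iv0 D211207)) (tt N85837 (iv2 F460610)) (tt N82986 F460609) (tt N113685 (iv4 F486622)) (tt N85833 F460608) (tt N113783 (iv6 F487092)) (tt N82983 F460611))
theorem Q107989 : ∀ i, i < 107989 → P i := stepQ 107988 Q107988 (allL N107988 (tt N73267 (iv1 D211208)) (tt N91712 (iv0 F460616)) (tt N119209 (iv2 F514370)) (tt N73285 (iv3 F460613)) (tt N89289 F460614) (tt N108328 (iv5 F462082)) (tt N89273 F460615) (tt N107039 F460612))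
theorem Q107990 : ∀ i, i < 107990 → P i := stepQ 107989 Q107989 (allL N107989 (tt N107039 (iv1 F460620)) (tt N119209 (iv0 F514375)) (tt N73267 (iv2 D211209)) (tt N91716 F460617) (tt N117157 (iv4 F503673)) (tt N91785 F460618) (tt N113296 (iv6 F484897)) (tt N91712 F460619))
theorem Q107991 : ∀ i, i < 107991 → P i := stepQ 107990 Q107990 (allL N107990 (tt N96604 F460625) (tt N96610 F460624) (tt N117157 (iv2 F503672)) (tt N73658 F460621) (tt N73267 (iv4 D211210)) (tt N95361 F460623) (tt N117112 (iv6 F503459)) (tt N73705 F460622))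
theorem Q107992 : ∀ i, i < 107992 → P i := stepQ 107991 Q107991 (allL N107991 (tt N113295 (iv1 F484893)) (tt N113294 F484898) (tt N113296 (iv2 F484894)) (tt N73268 F460627) (tt N117112 (iv4 F503457)) (tt N84298 F460628) (tt N73267 (iv6 D211211)) (tt N109686 (iv7 F468107)))
theorem Q107993 : ∀ i, i < 107993 → P i := stepQ 107992 Q107992 (allL N107992 (tt N108731 (iv1 F463745)) (tt N110530 F472019) (tt N110532 (iv2 F472022)) (tt N84298 F460629) (tt N121439 (iv4 F526382)) (tt N73268 (iv5 D211212)) (tt N84297 F460630) (tt N109687 (iv7 F468109)))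
theorem Q107994 : ∀ i, i < 107994 → P i := stepQ 107993 Q107993 (allL N107993 (tt N108375 (iv1 F462319)) (tt N108328 (iv0 F462085)) (tt N108374 F462315) (tt N73270 (iv3 D211213)) (tt N102953 F460631) (tt N121435 (iv5 F526353)) (tt N110261 (iv6 F470700)) (tt N92566 F460632))
theorem Q107995 : ∀ i, i < 107995 → P i := stepQ 107994 Q107994 (allL N107994 (tt N92139 F460637) (tt N92150 F460638) (tt N92148 F460633) (tt N121435 (iv3 F526355)) (tt N74414 F460634) (tt N73270 (iv5 D211214)) (tt N76200 F460635) (tt N78104 F460636))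
theorem Q107996 : ∀ i, i < 107996 → P i := stepQ 107995 Q107995 (allL N107995 (tt N107404 F460642) (tt N106388 (iv0 F460643)) (tt N73272 F460639) (tt N106425 F460640) (tt N73271 (iv4 D211215)) (tt N120172 (iv5 F519421)) (tt N111273 F475573) (tt N107395 F460641))
theorem Q107997 : ∀ i, i < 107997 → P i := stepQ 107996 Q107996 (allL N107996 (tt N106368 F460646) (tt N106381 F460647) (tt N73273 F460644) (tt N104530 F460645) (tt N111273 F475572) (tt N113612 (iv5 F486305)) (tt N73271 (iv6 D211216)) (tt N106379 (iv7 F460648)))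
theorem Q107998 : ∀ i, i < 107998 → P i := stepQ 107997 Q107997 (allL N107997 (tt N73272 (iv1 D211217)) (tt N107395 F460649) (tt N106388 F460652) (tt N109859 F468957) (tt N105050 (iv4 F460651)) (tt N114539 (iv5 F490669)) (tt N106370 (iv6 F460653)) (tt N107404 F460650))
theorem Q107999 : ∀ i, i < 107999 → P i := stepQ 107998 Q107998 (allL N107998 (tt N120166 F519389) (tt N106359 F460657) (tt N120172 (iv2 F519418)) (tt N95215 F460654) (tt N98265 F460656) (tt N73272 (iv5 D211218)) (tt N119557 (iv6 F516237)) (tt N107405 F460655))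
theorem Q108000 : ∀ i, i < 108000 → P i := stepQ 107999 Q107999 (allL N107999 (tt N73273 (iv1 D211219)) (tt N106379 F460658) (tt N106381 (iv2 F460662)) (tt N109880 F469061) (tt N89845 F460660) (tt N116174 (iv5 F498869)) (tt N106374 (iv6 F460661)) (tt N106368 F460659))
theorem Q108001 : ∀ i, i < 108001 → P i := stepQ 108000 Q108000 (allL N108000 (tt N106381 (iv1 F460666)) (tt N106368 F460667) (tt N106379 F460663) (tt N73277 F460664) (tt N111272 F475565) (tt N113774 (iv5 F487045)) (tt N107407 F460665) (tt N73273 (iv7 D211220)))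
theorem Q108002 : ∀ i, i < 108002 → P i := stepQ 108001 Q108001 (allL N108001 (tt N107446 F460672) (tt N73276 (iv0 D211221)) (tt N101485 (iv2 F460670)) (tt N116768 (iv3 F501723)) (tt N121625 D224884) (tt N101078 F460668) (tt N104333 F460669) (tt N100988 (iv7 F460671)))
theorem Q108003 : ∀ i, i < 108003 → P i := stepQ 108002 Q108002 (allL N108002 (tt N73276 (iv1 D211222)) (tt N107446 F460673) (tt N100988 F460677) (tt N121622 F527387) (tt N120415 (iv4 F520661)) (tt N95998 F460675) (tt N100574 (iv6 F460676)) (tt N101485 F460674))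
theorem Q108004 : ∀ i, i < 108004 → P i := stepQ 108003 Q108003 (allL N108003 (tt N121500 (iv1 F526717)) (tt N100879 (iv0 F460681)) (tt N107445 F460678) (tt N100854 F460679) (tt N73276 (iv4 D211223)) (tt N120311 (iv5 F520151)) (tt N99397 F460680) (tt N116178 (iv7 F498879)))
theorem Q108005 : ∀ i, i < 108005 → P i := stepQ 108004 Q108004 (allL N108004 (tt N100988 (iv1 F460684)) (tt N101485 F460685) (tt N107446 F460682) (tt N113774 (iv3 F487047)) (tt N116178 (iv4 F498878)) (tt N73277 F460683) (tt N116181 (iv6 F498890)) (tt N73276 (iv7 D211224)))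
theorem Q108006 : ∀ i, i < 108006 → P i := stepQ 108005 Q108005 (allL N108005 (tt N119539 F516140) (tt N106428 (iv0 F460690)) (tt N73280 F460686) (tt N107396 F460687) (tt N120866 (iv4 F523161)) (tt N106343 (iv5 F460689)) (tt N73278 (iv6 D211225)) (tt N106397 F460688))
theorem Q108007 : ∀ i, i < 108007 → P i := stepQ 108006 Q108006 (allL N108006 (tt N116872 (iv1 F502289)) (tt N106159 (iv0 F460694)) (tt N120866 (iv2 F523160)) (tt N98666 F460691) (tt N73280 F460692) (tt N103723 (iv5 F460695)) (tt N73279 (iv6 D211226)) (tt N104528 F460693))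
theorem Q108008 : ∀ i, i < 108008 → P i := stepQ 108007 Q108007 (allL N108007 (tt N106346 F460699) (tt N105978 F460700) (tt N106343 F460696) (tt N73282 F460697) (tt N121626 D224885) (tt N73280 (iv5 D211227)) (tt N99402 F460698) (tt N106344 (iv7 F460701)))
theorem Q108009 : ∀ i, i < 108009 → P i := stepQ 108008 Q108008 (allL N108008 (tt N106428 (iv1 F460707)) (tt N119539 (iv0 F516139)) (tt N106397 F460702) (tt N73283 F460703) (tt N104528 F460704) (tt N106344 F460705) (tt N104526 F460706) (tt N73280 (iv7 D211228)))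
theorem Q108010 : ∀ i, i < 108010 → P i := stepQ 108009 Q108009 (allL N108009 (tt N81911 F460712) (tt N81910 F460711) (tt N81912 F460708) (tt N113491 (iv3 F485748)) (tt N121627 D224886) (tt N73281 (iv5 D211229)) (tt N81906 F460709) (tt N81844 F460710))
theorem Q108011 : ∀ i, i < 108011 → P i := stepQ 108010 Q108010 (allL N108010 (tt N107424 (iv1 F460715)) (tt N73282 (iv0 D211230)) (tt N107421 (iv2 F460714)) (tt N113462 (iv3 F485601)) (tt N121628 D224887) (tt N96682 F460713) (tt N105653 F460716) (tt N107422 (iv7 F460717)))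
theorem Q108012 : ∀ i, i < 108012 → P i := stepQ 108011 Q108011 (allL N108011 (tt N73282 (iv1 D211231)) (tt N107424 F460718) (tt N107422 (iv2 F460722)) (tt N116406 (iv3 F499930)) (tt N121629 D224888) (tt N96702 (iv5 F460720)) (tt N81942 F460721) (tt N107421 F460719))
theorem Q108013 : ∀ i, i < 108013 → P i := stepQ 108012 Q108012 (allL N108012 (tt N121484 (iv1 F526633)) (tt N107669 F469544) (tt N107423 F460723) (tt N121630 D224889) (tt N73282 (iv4 D211232)) (tt N119807 (iv5 F517499)) (tt N99404 F460724) (tt N121631 D224890))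
theorem Q108014 : ∀ i, i < 108014 → P i := stepQ 108013 Q108013 (allL N108013 (tt N107422 (iv1 F460729)) (tt N107421 F460730) (tt N107424 F460725) (tt N106344 F460726) (tt N121631 (iv4 F527436)) (tt N73283 F460727) (tt N81925 F460728) (tt N73282 (iv7 D211233)))
theorem Q108015 : ∀ i, i < 108015 → P i := stepQ 108014 Q108014 (allL N108014 (tt N73286 (iv1 D211234)) (tt N89383 F460731) (tt N89384 F460736) (tt N85335 (iv3 F460735)) (tt N89578 (iv4 F460734)) (tt N85913 F460733) (tt N119091 F513747) (tt N89385 F460732))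
theorem Q108016 : ∀ i, i < 108016 → P i := stepQ 108015 Q108015 (allL N108015 (tt N93732 F460740) (tt N93295 F460741) (tt N118590 (iv2 F511037)) (tt N92913 F460737) (tt N73288 (iv4 D211235)) (tt N105433 F460739) (tt N108315 (iv6 F462033)) (tt N92908 F460738))
theorem Q108017 : ∀ i, i < 108017 → P i := stepQ 108016 Q108016 (allL N108016 (tt N81073 F460745) (tt N106802 (iv0 F460746)) (tt N73290 F460742) (tt N107040 F460743) (tt N118307 (iv4 F509622)) (tt N113556 (iv5 F486014)) (tt N73289 (iv6 D211236)) (tt N90048 F460744))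
theorem Q108018 : ∀ i, i < 108018 → P i := stepQ 108017 Q108017 (allL N108017 (tt N90048 F460751) (tt N73290 (iv0 D211237)) (tt N81073 (iv2 F460749)) (tt N89524 (iv3 F461737)) (tt N81137 F460752) (tt N88543 F460747) (tt N101000 F460748) (tt N106802 (iv7 F460750)))
theorem Q108019 : ∀ i, i < 108019 → P i := stepQ 108018 Q108018 (allL N108018 (tt N73290 (iv1 D211238)) (tt N90048 F460753) (tt N106802 F460758) (tt N81075 (iv3 F460755)) (tt N81139 (iv4 F460756)) (tt N88545 F460759) (tt N95609 (iv6 F460757)) (tt N81073 F460754))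
theorem Q108020 : ∀ i, i < 108020 → P i := stepQ 108019 Q108019 (allL N108019 (tt N88548 F460764) (tt N88550 F460762) (tt N113556 F486016) (tt N73291 F460760) (tt N88441 F460763) (tt N73290 (iv5 D211239)) (tt N104736 F460761) (tt N110874 (iv7 F473553)))
theorem Q108021 : ∀ i, i < 108021 → P i := stepQ 108020 Q108020 (allL N108020 (tt N106802 (iv1 F460768)) (tt N81073 F460769) (tt N90048 F460765) (tt N73292 F460766) (tt N108654 (iv4 F463379)) (tt N110874 (iv5 F473551)) (tt N83088 F460767) (tt N73290 (iv7 D211240)))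
theorem Q108022 : ∀ i, i < 108022 → P i := stepQ 108021 Q108021 (allL N108021 (tt N107384 F460772) (tt N105140 F460773) (tt N110873 (iv2 F473549)) (tt N88443 F460770) (tt N73291 (iv4 D211241)) (tt N112787 (iv5 F482628)) (tt N105200 F460771) (tt N110875 (iv7 F473557)))
theorem Q108023 : ∀ i, i < 108023 → P i := stepQ 108022 Q108022 (allL N108022 (tt N73300 (iv1 D211242)) (tt N92290 F460774) (tt N92392 (iv2 F460777)) (tt N93704 (iv3 F460778)) (tt N113278 (iv4 F484831)) (tt N92298 F460776) (tt N74294 (iv6 F460779)) (tt N92391 F460775))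
theorem Q108024 : ∀ i, i < 108024 → P i := stepQ 108023 Q108023 (allL N108023 (tt N117903 (iv1 F507519)) (tt N117895 F507481) (tt N92393 F460780) (tt N73302 F460781) (tt N73308 F460782) (tt N94384 (iv5 F472586)) (tt N73300 (iv6 D211243)) (tt N117902 (iv7 F507509)))
theorem Q108025 : ∀ i, i < 108025 → P i := stepQ 108024 Q108024 (allL N108024 (tt N108988 F464792) (tt N108987 F464781) (tt N92294 F460783) (tt N92390 F460784) (tt N102753 F460785) (tt N121632 D224891) (tt N73301 (iv6 D211244)) (tt N108989 (iv7 F464793)))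
theorem Q108026 : ∀ i, i < 108026 → P i := stepQ 108025 Q108025 (allL N108025 (tt N74301 F460788) (tt N74299 F460789) (tt N94272 F460786) (tt N94384 F472585) (tt N116682 (iv4 F501287)) (tt N73302 (iv5 D211245)) (tt N121632 (iv6 F527443)) (tt N94273 F460787))
theorem Q108027 : ∀ i, i < 108027 → P i := stepQ 108026 Q108026 (allL N108026 (tt N103748 F460794) (tt N113820 F487282) (tt N113044 (iv2 F483699)) (tt N73303 (iv3 D211246)) (tt N73311 F460790) (tt N102642 F460791) (tt N102624 F460792) (tt N102718 F460793))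
theorem Q108028 : ∀ i, i < 108028 → P i := stepQ 108027 Q108027 (allL N108027 (tt N102732 F460800) (tt N92429 F460801) (tt N105321 F460795) (tt N107865 F460796) (tt N73304 (iv4 D211247)) (tt N74294 F460799) (tt N107864 F460797) (tt N92517 F460798))
theorem Q108029 : ∀ i, i < 108029 → P i := stepQ 108028 Q108028 (allL N108028 (tt N119843 F517659) (tt N116281 (iv0 F499342)) (tt N119249 (iv2 F514617)) (tt N73406 F460802) (tt N73305 (iv4 D211248)) (tt N93282 F460805) (tt N104721 F460803) (tt N92492 F460804))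
theorem Q108030 : ∀ i, i < 108030 → P i := stepQ 108029 Q108029 (allL N108029 (tt N120393 F520547) (tt N119953 (iv0 F518226)) (tt N73308 F460806) (tt N89950 F460807) (tt N92393 F460808) (tt N114065 (iv5 F488410)) (tt N73306 (iv6 D211249)) (tt N89939 F460809))
theorem Q108031 : ∀ i, i < 108031 → P i := stepQ 108030 Q108030 (allL N108030 (tt N73308 (iv1 D211250)) (tt N89939 F460810) (tt N119953 (iv2 F518222)) (tt N77694 (iv3 F460811)) (tt N116651 (iv4 F501148)) (tt N107375 F460813) (tt N96298 F460812) (tt N120393 (iv7 F520545)))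
theorem Q108032 : ∀ i, i < 108032 → P i := stepQ 108031 Q108031 (allL N108031 (tt N121494 (iv1 F526683)) (tt N120066 (iv0 F518862)) (tt N114065 (iv2 F488408)) (tt N73309 F460814) (tt N112977 F483421) (tt N73308 (iv5 D211251)) (tt N111964 (iv6 F478878)) (tt N121091 (iv7 F524471)))
theorem Q108033 : ∀ i, i < 108033 → P i := stepQ 108032 Q108032 (allL N108032 (tt N119953 F518227) (tt N120393 (iv0 F520546)) (tt N89939 F460815) (tt N73310 F460816) (tt N117902 F507511) (tt N121091 (iv5 F524469)) (tt N76293 F460817) (tt N73308 (iv7 D211252)))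
theorem Q108034 : ∀ i, i < 108034 → P i := stepQ 108033 Q108033 (allL N108033 (tt N110879 F473577) (tt N96264 F460819) (tt N110876 F473562) (tt N121633 D224892) (tt N73309 (iv4 D211253)) (tt N80514 F460818) (tt N111965 (iv6 F478881)) (tt N110877 (iv7 F473565)))
theorem Q108035 : ∀ i, i < 108035 → P i := stepQ 108034 Q108034 (allL N108034 (tt N113785 F487101) (tt N120829 (iv0 F522964)) (tt N120824 (iv2 F522931)) (tt N73312 (iv3 D211254)) (tt N104484 F460820) (tt N113278 (iv5 F484832)) (tt N104093 F460821) (tt N119023 (iv7 F513337)))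
theorem Q108036 : ∀ i, i < 108036 → P i := stepQ 108035 Q108035 (allL N108035 (tt N87857 F460824) (tt N82973 (iv0 F460825)) (tt N110284 F470837) (tt N73313 (iv3 D211255)) (tt N113050 (iv4 F483729)) (tt N91715 F460822) (tt N82984 F460823) (tt N110285 (iv7 F470839)))
theorem Q108037 : ∀ i, i < 108037 → P i := stepQ 108036 Q108036 (allL N108036 (tt N73334 F460830) (tt N73337 (iv0 F460831)) (tt N73740 F460826) (tt N74725 F460827) (tt N73737 F460828) (tt N119259 (iv5 F514676)) (tt N73315 (iv6 D211256)) (tt N101791 F460829))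
theorem Q108038 : ∀ i, i < 108038 → P i := stepQ 108037 Q108037 (allL N108037 (tt N73316 (iv1 D211257)) (tt N73319 F460832) (tt N92545 F460837) (tt N92433 (iv3 F460836)) (tt N79876 F460835) (tt N74302 F460834) (tt N101903 (iv6 F460838)) (tt N92546 F460833))
theorem Q108039 : ∀ i, i < 108039 → P i := stepQ 108038 Q108038 (allL N108038 (tt N110513 (iv1 F471930)) (tt N110997 (iv0 F474157)) (tt N92553 F460839) (tt N108988 (iv3 F464790)) (tt N76735 F460840) (tt N120137 (iv5 F519262)) (tt N73316 (iv6 D211258)) (tt N111804 (iv7 F478057)))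
theorem Q108040 : ∀ i, i < 108040 → P i := stepQ 108039 Q108039 (allL N108039 (tt N109010 F464908) (tt N100289 F460846) (tt N92550 F460841) (tt N99801 F460842) (tt N73322 (iv4 D211259)) (tt N100297 F460843) (tt N75237 F460844) (tt N100325 F460845))
theorem Q108041 : ∀ i, i < 108041 → P i := stepQ 108040 Q108040 (allL N108040 (tt N92454 (iv1 F460850)) (tt N111529 (iv0 F476763)) (tt N73329 F460847) (tt N117855 (iv3 F507287)) (tt N80641 F460848) (tt N117854 F507284) (tt N73324 (iv6 D211260)) (tt N92314 F460849))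
theorem Q108042 : ∀ i, i < 108042 → P i := stepQ 108041 Q108041 (allL N108041 (tt N110581 (iv1 F472231)) (tt N110583 (iv0 F472237)) (tt N73332 F460851) (tt N117856 (iv3 F507293)) (tt N98840 F460852) (tt N73325 (iv5 D211261)) (tt N117854 (iv6 F507285)) (tt N99271 F460853))
theorem Q108043 : ∀ i, i < 108043 → P i := stepQ 108042 Q108042 (allL N108042 (tt N92314 (iv1 F460857)) (tt N73329 (iv0 D211262)) (tt N92454 (iv2 F460856)) (tt N73611 F460855) (tt N102660 F460854) (tt N110691 (iv5 F472768)) (tt N110575 (iv6 F472203)) (tt N111529 (iv7 F476761)))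
theorem Q108044 : ∀ i, i < 108044 → P i := stepQ 108043 Q108043 (allL N108043 (tt N118541 F510864) (tt N118325 (iv0 F509717)) (tt N117854 (iv2 F507282)) (tt N92514 F460858) (tt N99268 (iv4 F460860)) (tt N73329 (iv5 D211263)) (tt N73332 F460859) (tt N121634 D224893))
theorem Q108045 : ∀ i, i < 108045 → P i := stepQ 108044 Q108044 (allL N108044 (tt N111529 (iv1 F476764)) (tt N92454 (iv0 F460865)) (tt N92314 F460861) (tt N91315 F460862) (tt N80642 F460863) (tt N121634 (iv5 F527455)) (tt N92310 F460864) (tt N73329 (iv7 D211264)))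
theorem Q108046 : ∀ i, i < 108046 → P i := stepQ 108045 Q108045 (allL N108045 (tt N118561 F510939) (tt N120607 (iv0 F521729)) (tt N119952 (iv2 F518216)) (tt N73330 (iv3 D211265)) (tt N96298 F460866) (tt N117777 (iv5 F506913)) (tt N116651 F501150) (tt N118593 (iv7 F511061)))
theorem Q108047 : ∀ i, i < 108047 → P i := stepQ 108046 Q108046 (allL N108046 (tt N77767 F460868) (tt N78034 F460869) (tt N108434 (iv2 F462540)) (tt N117777 (iv3 F506914)) (tt N110665 (iv4 F472670)) (tt N73330 (iv5 D211266)) (tt N97327 F460870) (tt N97328 F460867))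
theorem Q108048 : ∀ i, i < 108048 → P i := stepQ 108047 Q108047 (allL N108047 (tt N108333 F462116) (tt N74517 (iv0 F460873)) (tt N108435 (iv2 F462546)) (tt N116651 (iv3 F501149)) (tt N77693 F460871) (tt N106125 F460872) (tt N73330 (iv6 D211267)) (tt N110590 (iv7 F472263)))
theorem Q108049 : ∀ i, i < 108049 → P i := stepQ 108048 Q108048 (allL N108048 (tt N106070 F460876) (tt N106318 F460877) (tt N106958 F460878) (tt N73331 (iv3 D211268)) (tt N106834 F460874) (tt N109905 (iv5 F469154)) (tt N118505 (iv6 F510733)) (tt N106957 F460875))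
theorem Q108050 : ∀ i, i < 108050 → P i := stepQ 108049 Q108049 (allL N108049 (tt N99271 (iv1 F460880)) (tt N73332 (iv0 D211269)) (tt N110581 (iv2 F472227)) (tt N106966 F460882) (tt N100403 (iv4 F460881)) (tt N100115 F460879) (tt N106964 (iv6 F460883)) (tt N110583 (iv7 F472235)))
theorem Q108051 : ∀ i, i < 108051 → P i := stepQ 108050 Q108050 (allL N108050 (tt N73332 (iv1 D211270)) (tt N99271 F460884) (tt N110583 (iv2 F472234)) (tt N109906 (iv3 F469159)) (tt N110736 (iv4 F472951)) (tt N100116 F460885) (tt N110734 F472943) (tt N110581 (iv7 F472229)))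
theorem Q108052 : ∀ i, i < 108052 → P i := stepQ 108051 Q108051 (allL N108051 (tt N94228 F460887) (tt N99069 F460888) (tt N118518 (iv2 F510786)) (tt N73334 (iv3 D211271)) (tt N105893 F460886) (tt N118592 (iv5 F511054)) (tt N121634 (iv6 F527456)) (tt N118517 (iv7 F510778)))
theorem Q108053 : ∀ i, i < 108053 → P i := stepQ 108052 Q108052 (allL N108052 (tt N111931 (iv1 F478730)) (tt N76049 (iv0 F460892)) (tt N110592 (iv2 F472275)) (tt N121634 (iv3 F527453)) (tt N73335 F460889) (tt N91315 F460890) (tt N73334 (iv6 D211272)) (tt N92514 F460891))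
theorem Q108054 : ∀ i, i < 108054 → P i := stepQ 108053 Q108053 (allL N108053 (tt N74308 F460898) (tt N74317 (iv0 F460899)) (tt N74315 F460893) (tt N107630 F460894) (tt N82039 F460895) (tt N73335 (iv5 D211273)) (tt N76039 F460896) (tt N74314 F460897))
theorem Q108055 : ∀ i, i < 108055 → P i := stepQ 108054 Q108054 (allL N108054 (tt N118845 F512388) (tt N97325 (iv0 F460901)) (tt N118847 (iv2 F512398)) (tt N73337 (iv3 D211274)) (tt N108250 F461700) (tt N78031 F460900) (tt N118476 (iv6 F510580)) (tt N117858 (iv7 F507309)))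
theorem Q108056 : ∀ i, i < 108056 → P i := stepQ 108055 Q108055 (allL N108055 (tt N81664 F460907) (tt N101170 (iv0 F460908)) (tt N81678 F460902) (tt N73339 (iv3 D211275)) (tt N101084 F460903) (tt N100118 F460904) (tt N76014 F460905) (tt N101180 F460906))
theorem Q108057 : ∀ i, i < 108057 → P i := stepQ 108056 Q108056 (allL N108056 (tt N116729 (iv1 F501536)) (tt N107929 (iv0 F460910)) (tt N119951 (iv2 F518209)) (tt N73344 (iv3 D211276)) (tt N106061 F460909) (tt N108243 (iv5 F461655)) (tt N113301 (iv6 F484918)) (tt N108438 (iv7 F462562)))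
theorem Q108058 : ∀ i, i < 108058 → P i := stepQ 108057 Q108057 (allL N108057 (tt N94162 F460914) (tt N106260 F460915) (tt N106903 F460911) (tt N108243 (iv3 F461658)) (tt N77315 F460913) (tt N73344 (iv5 D211277)) (tt N73918 (iv6 F460916)) (tt N106902 F460912))
theorem Q108059 : ∀ i, i < 108059 → P i := stepQ 108058 Q108058 (allL N108058 (tt N73395 F460922) (tt N76189 (iv0 F460923)) (tt N77694 F460919) (tt N113301 (iv3 F484916)) (tt N76290 F460920) (tt N107644 F460921) (tt N73344 (iv6 D211278)) (tt N77697 (iv7 F460924)))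
theorem Q108060 : ∀ i, i < 108060 → P i := stepQ 108059 Q108059 (allL N108059 (tt N106260 F460930) (tt N94162 F460931) (tt N106902 F460925) (tt N90493 F460926) (tt N77317 F460927) (tt N73345 (iv5 D211279)) (tt N106062 F460928) (tt N106903 F460929))
theorem Q108061 : ∀ i, i < 108061 → P i := stepQ 108060 Q108060 (allL N108060 (tt N100015 (iv1 F460936)) (tt N108420 (iv0 F462494)) (tt N106246 F460932) (tt N101030 F460933) (tt N108371 (iv4 F462300)) (tt N73856 F460934) (tt N106244 F460935) (tt N73350 (iv7 D211280)))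
theorem Q108062 : ∀ i, i < 108062 → P i := stepQ 108061 Q108061 (allL N108061 (tt N85568 (iv1 F460941)) (tt N85566 F460942) (tt N75047 F460937) (tt N73352 F460938) (tt N100169 F460940) (tt N73351 (iv5 D211281)) (tt N116712 (iv6 F501441)) (tt N85567 F460939))
theorem Q108063 : ∀ i, i < 108063 → P i := stepQ 108062 Q108062 (allL N108062 (tt N108355 F462222) (tt N98758 (iv0 F460946)) (tt N75048 F460943) (tt N73353 F460944) (tt N108793 (iv4 F463970)) (tt N101801 (iv5 F460945)) (tt N73351 (iv6 D211282)) (tt N109707 (iv7 F468220)))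
theorem Q108064 : ∀ i, i < 108064 → P i := stepQ 108063 Q108063 (allL N108063 (tt N108368 (iv1 F462286)) (tt N108370 (iv0 F462297)) (tt N73385 F460947) (tt N116712 (iv3 F501440)) (tt N109561 (iv4 F467530)) (tt N92595 F460948) (tt N73352 (iv6 D211283)) (tt N120012 (iv7 F518559)))
theorem Q108065 : ∀ i, i < 108065 → P i := stepQ 108064 Q108064 (allL N108064 (tt N96296 F460953) (tt N92539 (iv0 F460955)) (tt N73583 F460949) (tt N73354 (iv3 D211284)) (tt N82238 F460954) (tt N88191 F460950) (tt N73582 F460951) (tt N73388 F460952))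
theorem Q108066 : ∀ i, i < 108066 → P i := stepQ 108065 Q108065 (allL N108065 (tt N77697 (iv1 F460962)) (tt N77694 F460961) (tt N73395 F460956) (tt N88555 F460957) (tt N73360 F460958) (tt N88554 (iv5 F460960)) (tt N73359 (iv6 D211285)) (tt N76189 F460959))
theorem Q108067 : ∀ i, i < 108067 → P i := stepQ 108066 Q108066 (allL N108066 (tt N73363 (iv1 D211286)) (tt N91177 F460963) (tt N91175 (iv2 F460967)) (tt N105098 (iv3 F460966)) (tt N74772 F460965) (tt N113104 (iv5 F483986)) (tt N118016 (iv6 F508105)) (tt N91174 F460964))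
theorem Q108068 : ∀ i, i < 108068 → P i := stepQ 108067 Q108067 (allL N108067 (tt N85834 F460972) (tt N85841 F460973) (tt N85840 F460968) (tt N90802 F460969) (tt N116892 (iv4 F502380)) (tt N90801 F460970) (tt N73364 (iv6 D211287)) (tt N85839 F460971))
theorem Q108069 : ∀ i, i < 108069 → P i := stepQ 108068 Q108068 (allL N108068 (tt N79112 F460979) (tt N73380 F460980) (tt N77662 F460975) (tt N100764 F460976) (tt N73366 (iv4 D211288)) (tt N120079 (iv5 F518935)) (tt N77660 F460977) (tt N79097 F460978))
theorem Q108070 : ∀ i, i < 108070 → P i := stepQ 108069 Q108069 (allL N108069 (tt N91173 (iv1 F460985)) (tt N73371 (iv0 D211289)) (tt N75104 (iv2 F460984)) (tt N82133 F460982) (tt N82157 F460981) (tt N112908 (iv5 F483232)) (tt N82136 F460983) (tt N105282 F460986))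
theorem Q108071 : ∀ i, i < 108071 → P i := stepQ 108070 Q108070 (allL N108070 (tt N109293 (iv1 F466234)) (tt N77220 (iv0 F460989)) (tt N109295 F466243) (tt N73372 F460987) (tt N114903 (iv4 F492443)) (tt N73371 (iv5 D211290)) (tt N113034 (iv6 F483647)) (tt N107647 F460988))
theorem Q108072 : ∀ i, i < 108072 → P i := stepQ 108071 Q108071 (allL N108071 (tt N73661 (iv1 F460992)) (tt N73377 (iv0 D211291)) (tt N73710 (iv2 F460993)) (tt N75134 F460991) (tt N105279 F460990) (tt N114723 (iv5 F491534)) (tt N117518 (iv6 F505476)) (tt N73709 (iv7 F460994)))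
theorem Q108073 : ∀ i, i < 108073 → P i := stepQ 108072 Q108072 (allL N108072 (tt N73377 (iv1 D211292)) (tt N73661 F460995) (tt N73709 F460999) (tt N85570 (iv3 F460998)) (tt N99500 F460997) (tt N85569 F461000) (tt N74981 (iv6 F461001)) (tt N73710 F460996))
theorem Q108074 : ∀ i, i < 108074 → P i := stepQ 108073 Q108073 (allL N108073 (tt N99900 F461006) (tt N99859 F461007) (tt N99898 F461003) (tt N73379 F461004) (tt N118683 (iv4 F511531)) (tt N73377 (iv5 D211293)) (tt N121180 (iv6 F524980)) (tt N73711 F461005))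
theorem Q108075 : ∀ i, i < 108075 → P i := stepQ 108074 Q108074 (allL N108074 (tt N100216 F461009) (tt N116722 (iv0 F501502)) (tt N107657 F461008) (tt N121180 (iv3 F524977)) (tt N114887 (iv4 F492353)) (tt N121635 D224894) (tt N73379 (iv6 D211294)) (tt N116742 (iv7 F501593)))
theorem Q108076 : ∀ i, i < 108076 → P i := stepQ 108075 Q108075 (allL N108075 (tt N99917 F461011) (tt N99919 F461012) (tt N113454 (iv2 F485564)) (tt N77632 F461010) (tt N117243 (iv4 F504082)) (tt N73380 (iv5 D211295)) (tt N121635 (iv6 F527461)) (tt N113455 (iv7 F485567)))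
theorem Q108077 : ∀ i, i < 108077 → P i := stepQ 108076 Q108076 (allL N108076 (tt N96300 F461015) (tt N109463 F467096) (tt N73381 (iv2 D211296)) (tt N73661 F461013) (tt N108746 (iv4 F463787)) (tt N121077 (iv5 F524394)) (tt N105066 F461014) (tt N109102 (iv7 F465353)))
theorem Q108078 : ∀ i, i < 108078 → P i := stepQ 108077 Q108077 (allL N108077 (tt N108370 (iv1 F462298)) (tt N108368 (iv0 F462285)) (tt N120012 F518557) (tt N75147 F461016) (tt N109560 (iv4 F467523)) (tt N92594 F461017) (tt N114642 F491160) (tt N73385 (iv7 D211297)))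
theorem Q108079 : ∀ i, i < 108079 → P i := stepQ 108078 Q108078 (allL N108078 (tt N118014 F508093) (tt N118016 F508106) (tt N118015 (iv2 F508100)) (tt N73387 (iv3 D211298)) (tt N86597 F461018) (tt N78169 F461019) (tt N107913 F461020) (tt N107123 F461021))
theorem Q108080 : ∀ i, i < 108080 → P i := stepQ 108079 Q108079 (allL N108079 (tt N113304 F484934) (tt N115124 F493608) (tt N115123 F493600) (tt N73395 F461022) (tt N119758 (iv4 F517270)) (tt N121090 (iv5 F524464)) (tt N73394 (iv6 D211299)) (tt N90186 F461023))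
theorem Q108081 : ∀ i, i < 108081 → P i := stepQ 108080 Q108080 (allL N108080 (tt N76189 (iv1 F461027)) (tt N73395 (iv0 D211300)) (tt N77697 (iv2 F461026)) (tt N120393 (iv3 F520543)) (tt N76291 F461024) (tt N107643 (iv5 F461029)) (tt N107938 F461025) (tt N77694 F461028))
theorem Q108082 : ∀ i, i < 108082 → P i := stepQ 108081 Q108081 (allL N108081 (tt N116758 F501674) (tt N112712 (iv0 F482311)) (tt N88554 F461030) (tt N121090 (iv3 F524463)) (tt N88576 F461031) (tt N73395 (iv5 D211301)) (tt N117725 (iv6 F506640)) (tt N118447 (iv7 F510412)))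
theorem Q108083 : ∀ i, i < 108083 → P i := stepQ 108082 Q108082 (allL N108082 (tt N99076 F461035) (tt N99074 (iv0 F461036)) (tt N95317 F461032) (tt N73404 (iv3 D211302)) (tt N119869 (iv4 F517786)) (tt N95316 F461033) (tt N112805 (iv6 F482692)) (tt N92544 F461034))
theorem Q108084 : ∀ i, i < 108084 → P i := stepQ 108083 Q108083 (allL N108083 (tt N73409 (iv1 D211303)) (tt N98844 F461037) (tt N78036 F461042) (tt N99652 (iv3 F461041)) (tt N107574 F461040) (tt N82089 F461039) (tt N77854 F461043) (tt N107520 F461038))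
theorem Q108085 : ∀ i, i < 108085 → P i := stepQ 108084 Q108084 (allL N108084 (tt N77853 F461049) (tt N78027 F461050) (tt N78025 F461045) (tt N73412 F461046) (tt N98847 F461047) (tt N81943 F461048) (tt N73409 (iv6 D211304)) (tt N78024 F463000))
theorem Q108086 : ∀ i, i < 108086 → P i := stepQ 108085 Q108085 (allL N108085 (tt N104067 F461055) (tt N104179 F461056) (tt N107946 F461051) (tt N98383 F461052) (tt N76691 F461053) (tt N73411 (iv5 D211305)) (tt N115051 (iv6 F493232)) (tt N76690 F461054))
theorem Q108087 : ∀ i, i < 108087 → P i := stepQ 108086 Q108086 (allL N108086 (tt N121520 F526832) (tt N119972 (iv0 F518332)) (tt N119167 (iv2 F514155)) (tt N121477 (iv3 F526589)) (tt N73412 F461057) (tt N121636 D224895) (tt N73411 (iv6 D211306)) (tt N121637 D224896))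
theorem Q108088 : ∀ i, i < 108088 → P i := stepQ 108087 Q108087 (allL N108087 (tt N119868 (iv1 F517784)) (tt N73412 (iv0 D211307)) (tt N78007 (iv2 F461059)) (tt N118488 (iv3 F510642)) (tt N105134 (iv4 F461060)) (tt N121542 (iv5 F526944)) (tt N78002 F461058) (tt N119867 (iv7 F517774)))
theorem Q108089 : ∀ i, i < 108089 → P i := stepQ 108088 Q108088 (allL N108088 (tt N73412 (iv1 D211308)) (tt N119868 F517783) (tt N119867 (iv2 F517778)) (tt N77908 (iv3 F461062)) (tt N99385 F461064) (tt N106672 (iv5 F461063)) (tt N106908 F461065) (tt N78007 F461061))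
theorem Q108090 : ∀ i, i < 108090 → P i := stepQ 108089 Q108089 (allL N108089 (tt N119867 (iv1 F517773)) (tt N78007 (iv0 F463003)) (tt N119868 (iv2 F517779)) (tt N78024 (iv3 F463001)) (tt N121637 (iv4 F527470)) (tt N120339 (iv5 F520264)) (tt N107544 F461066) (tt N73412 (iv7 D211309)))
theorem Q108091 : ∀ i, i < 108091 → P i := stepQ 108090 Q108090 (allL N108090 (tt N75961 F461068) (tt N73848 F461069) (tt N108404 F462440) (tt N117095 (iv3 F503347)) (tt N73418 (iv4 D211310)) (tt N120132 (iv5 F519230)) (tt N117093 F503340) (tt N73947 F461067))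
theorem Q108092 : ∀ i, i < 108092 → P i := stepQ 108091 Q108091 (allL N108091 (tt N93817 F461073) (tt N90253 F461074) (tt N107217 F461070) (tt N108995 (iv3 F464821)) (tt N112486 (iv4 F481298)) (tt N73431 (iv5 D211311)) (tt N89771 F461071) (tt N93763 F461072))
theorem Q108093 : ∀ i, i < 108093 → P i := stepQ 108092 Q108092 (allL N108092 (tt N117594 (iv1 F505898)) (tt N85251 (iv0 F461078)) (tt N73437 F461075) (tt N73482 F461076) (tt N85392 F461077) (tt N121638 D224897) (tt N73432 (iv6 D211312)) (tt N114792 (iv7 F491892)))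
theorem Q108094 : ∀ i, i < 108094 → P i := stepQ 108093 Q108093 (allL N108093 (tt N73441 (iv1 F461082)) (tt N73433 (iv0 D211313)) (tt N73438 (iv2 F461081)) (tt N116126 (iv3 F498610)) (tt N89073 F461079) (tt N115588 (iv5 F495882)) (tt N89072 F461080) (tt N73439 F461083))
theorem Q108095 : ∀ i, i < 108095 → P i := stepQ 108094 Q108094 (allL N108094 (tt N115066 (iv1 F493321)) (tt N87439 F461086) (tt N73440 F461084) (tt N73485 F461085) (tt N108518 (iv4 F462914)) (tt N73433 (iv5 D211314)) (tt N121638 (iv6 F527475)) (tt N112206 (iv7 F480054)))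
theorem Q108096 : ∀ i, i < 108096 → P i := stepQ 108095 Q108095 (allL N108095 (tt N119562 (iv1 F516268)) (tt N103022 (iv0 F461091)) (tt N113086 (iv2 F483917)) (tt N73435 (iv3 D211315)) (tt N85493 F461087) (tt N93258 F461088) (tt N85492 F461089) (tt N107695 F461090))
theorem Q108097 : ∀ i, i < 108097 → P i := stepQ 108096 Q108096 (allL N108096 (tt N114792 (iv1 F491894)) (tt N73437 (iv0 D211316)) (tt N117594 (iv2 F505893)) (tt N120782 F522681) (tt N85332 F461092) (tt N118826 (iv5 F512277)) (tt N114999 F492991) (tt N85251 (iv7 F461093)))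
theorem Q108098 : ∀ i, i < 108098 → P i := stepQ 108097 Q108097 (allL N108097 (tt N120503 F521132) (tt N121069 (iv0 F524351)) (tt N121638 (iv2 F527473)) (tt N73444 F461094) (tt N112253 (iv4 F480231)) (tt N73437 (iv5 D211317)) (tt N73440 F461095) (tt N112200 (iv7 F480027)))
theorem Q108099 : ∀ i, i < 108099 → P i := stepQ 108098 Q108098 (allL N108098 (tt N85251 (iv1 F461098)) (tt N117594 F505897) (tt N114792 (iv2 F491888)) (tt N73445 F461096) (tt N85393 F461097) (tt N112200 F480029) (tt N112201 (iv6 F480032)) (tt N73437 (iv7 D211318)))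
theorem Q108100 : ∀ i, i < 108100 → P i := stepQ 108099 Q108099 (allL N108099 (tt N116129 (iv1 F498628)) (tt N116128 F498625) (tt N91741 F461099) (tt N73439 (iv3 D211319)) (tt N103758 F461100) (tt N115582 (iv5 F495865)) (tt N109326 (iv6 F466398)) (tt N116126 (iv7 F498613)))
theorem Q108101 : ∀ i, i < 108101 → P i := stepQ 108100 Q108100 (allL N108100 (tt N94501 F461102) (tt N115587 F495879) (tt N87987 F461101) (tt N115582 (iv3 F495863)) (tt N117117 (iv4 F503485)) (tt N73439 (iv5 D211320)) (tt N121639 D224898) (tt N115588 (iv7 F495883)))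
theorem Q108102 : ∀ i, i < 108102 → P i := stepQ 108101 Q108101 (allL N108101 (tt N89499 (iv1 F461108)) (tt N94514 (iv0 F461107)) (tt N94518 F461103) (tt N109326 (iv3 F466397)) (tt N89585 F461104) (tt N88371 F461106) (tt N73439 (iv6 D211321)) (tt N89973 F461105))
theorem Q108103 : ∀ i, i < 108103 → P i := stepQ 108102 Q108102 (allL N108102 (tt N87439 (iv1 F461111)) (tt N115066 F493320) (tt N112206 (iv2 F480048)) (tt N73453 F461109) (tt N112092 (iv4 F479457)) (tt N73441 F461110) (tt N81252 (iv6 F461112)) (tt N73440 (iv7 D211322)))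
theorem Q108104 : ∀ i, i < 108104 → P i := stepQ 108103 Q108103 (allL N108103 (tt N93560 F461116) (tt N97994 F461117) (tt N97997 F461113) (tt N73442 (iv3 D211323)) (tt N92167 F461114) (tt N118827 (iv5 F512282)) (tt N109647 (iv6 F467915)) (tt N73514 F461115))
theorem Q108105 : ∀ i, i < 108105 → P i := stepQ 108104 Q108104 (allL N108104 (tt N79815 F461120) (tt N100751 F461121) (tt N73520 F461118) (tt N117568 (iv3 F505747)) (tt N73444 (iv4 D211324)) (tt N117567 (iv5 F505742)) (tt N73452 F461119) (tt N100749 F461127))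
theorem Q108106 : ∀ i, i < 108106 → P i := stepQ 108105 Q108105 (allL N108105 (tt N73519 (iv1 F461124)) (tt N73518 F461125) (tt N73521 F461122) (tt N112200 (iv3 F480025)) (tt N100749 (iv4 F461126)) (tt N73445 F461123) (tt N112199 (iv6 F480021)) (tt N73444 (iv7 D211325)))
theorem Q108107 : ∀ i, i < 108107 → P i := stepQ 108106 Q108106 (allL N108106 (tt N73529 (iv1 F461133)) (tt N73465 F461132) (tt N73446 (iv2 D211326)) (tt N73523 F461128) (tt N102871 F461129) (tt N108857 (iv5 F464271)) (tt N93955 F461130) (tt N73530 F461131))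
theorem Q108108 : ∀ i, i < 108108 → P i := stepQ 108107 Q108107 (allL N108107 (tt N90774 F461137) (tt N90766 (iv0 F461138)) (tt N108857 (iv2 F464269)) (tt N73447 F461134) (tt N121640 D224899) (tt N73446 (iv5 D211327)) (tt N93880 F461135) (tt N73531 F461136))
theorem Q108109 : ∀ i, i < 108109 → P i := stepQ 108108 Q108108 (allL N108108 (tt N79190 F461143) (tt N94504 F461144) (tt N73527 F461139) (tt N97996 (iv3 F461145)) (tt N73447 (iv4 D211328)) (tt N97995 F461142) (tt N73516 F461140) (tt N73533 F461141))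
theorem Q108110 : ∀ i, i < 108110 → P i := stepQ 108109 Q108109 (allL N108109 (tt N94504 F461151) (tt N79190 F461152) (tt N73533 F461146) (tt N73512 F461147) (tt N73449 (iv4 D211329)) (tt N73510 F461148) (tt N96589 F461149) (tt N73527 F461150))
theorem Q108111 : ∀ i, i < 108111 → P i := stepQ 108110 Q108110 (allL N108110 (tt N117447 (iv1 F505083)) (tt N120001 (iv0 F518489)) (tt N116015 (iv2 F498059)) (tt N73450 (iv3 D211330)) (tt N111796 (iv4 F478016)) (tt N78075 F461153) (tt N116015 (iv6 F498060)) (tt N73537 F461154))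
theorem Q108112 : ∀ i, i < 108112 → P i := stepQ 108111 Q108111 (allL N108111 (tt N108208 (iv1 F461502)) (tt N93314 F461158) (tt N73536 F461155) (tt N118386 (iv3 F510075)) (tt N73450 (iv4 D211331)) (tt N78071 F461156) (tt N116016 (iv6 F498067)) (tt N73538 F461157))
theorem Q108113 : ∀ i, i < 108113 → P i := stepQ 108112 Q108112 (allL N108112 (tt N73544 (iv1 F461161)) (tt N73452 (iv0 D211332)) (tt N73540 (iv2 F461162)) (tt N121641 D224900) (tt N78080 F461160) (tt N94548 F461159) (tt N115577 (iv6 F495840)) (tt N73541 (iv7 F461163)))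
theorem Q108114 : ∀ i, i < 108114 → P i := stepQ 108113 Q108113 (allL N108113 (tt N73452 (iv1 D211333)) (tt N73544 F461164) (tt N73541 (iv2 F461168)) (tt N115984 F497905) (tt N78078 F461167) (tt N94547 F461166) (tt N94679 (iv6 F461169)) (tt N73540 F461165))
theorem Q108115 : ∀ i, i < 108115 → P i := stepQ 108114 Q108114 (allL N108114 (tt N115576 F495839) (tt N121642 D224901) (tt N117474 (iv2 F505215)) (tt N73452 (iv3 D211334)) (tt N115574 (iv4 F495835)) (tt N83123 F461170) (tt N117568 (iv6 F505748)) (tt N120018 (iv7 F518586)))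
theorem Q108116 : ∀ i, i < 108116 → P i := stepQ 108115 Q108115 (allL N108115 (tt N116016 F498071) (tt N94910 (iv0 F461174)) (tt N73545 F461171) (tt N81252 F461172) (tt N120017 (iv4 F518579)) (tt N81251 F461173) (tt N73453 (iv6 D211335)) (tt N112199 (iv7 F480022)))
theorem Q108117 : ∀ i, i < 108117 → P i := stepQ 108116 Q108116 (allL N108116 (tt N101582 F461177) (tt N121093 (iv0 F524485)) (tt N112221 (iv2 F480113)) (tt N73455 F461175) (tt N115963 (iv4 F497792)) (tt N73454 (iv5 D211336)) (tt N112218 (iv6 F480104)) (tt N73560 F461176))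
theorem Q108118 : ∀ i, i < 108118 → P i := stepQ 108117 Q108117 (allL N108117 (tt N95254 F480106) (tt N112274 F480308) (tt N73555 F461178) (tt N112218 (iv3 F480102)) (tt N114524 (iv4 F490594)) (tt N112087 (iv5 F479434)) (tt N73455 (iv6 D211337)) (tt N94898 F461179))
theorem Q108119 : ∀ i, i < 108119 → P i := stepQ 108118 Q108118 (allL N108118 (tt N112225 (iv1 F480133)) (tt N112224 (iv0 F480132)) (tt N112226 (iv2 F480137)) (tt N73457 F461180) (tt N112278 (iv4 F480322)) (tt N73456 (iv5 D211338)) (tt N94894 (iv6 F461182)) (tt N73550 F461181))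
theorem Q108120 : ∀ i, i < 108120 → P i := stepQ 108119 Q108119 (allL N108119 (tt N73461 (iv1 F461187)) (tt N73458 (iv0 D211339)) (tt N98799 (iv2 F461186)) (tt N82091 F461185) (tt N94662 F461184) (tt N82087 F461183) (tt N94663 (iv6 F461189)) (tt N98813 F461188))
theorem Q108121 : ∀ i, i < 108121 → P i := stepQ 108120 Q108120 (allL N108120 (tt N97012 (iv1 F461196)) (tt N97019 (iv0 F461195)) (tt N98814 F461190) (tt N98811 F461191) (tt N73460 F461192) (tt N93643 F461193) (tt N73458 (iv6 D211340)) (tt N98820 (iv7 F461194)))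
theorem Q108122 : ∀ i, i < 108122 → P i := stepQ 108121 Q108121 (allL N108121 (tt N92889 F461201) (tt N92885 (iv0 F461202)) (tt N92886 F461197) (tt N96114 F461198) (tt N118287 (iv4 F509530)) (tt N73460 (iv5 D211341)) (tt N93426 F461199) (tt N92887 F461200))
theorem Q108123 : ∀ i, i < 108123 → P i := stepQ 108122 Q108122 (allL N108122 (tt N90942 F461207) (tt N90944 F461208) (tt N98819 F461203) (tt N98818 F461204) (tt N101290 F461205) (tt N73461 (iv5 D211342)) (tt N90918 (iv6 F461209)) (tt N98812 F461206))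
theorem Q108124 : ∀ i, i < 108124 → P i := stepQ 108123 Q108123 (allL N108123 (tt N73510 F461212) (tt N97995 (iv0 F461213)) (tt N105103 F461210) (tt N116020 (iv3 F498092)) (tt N99529 F461211) (tt N108208 (iv5 F461499)) (tt N73462 (iv6 D211343)) (tt N120008 (iv7 F518535)))
theorem Q108125 : ∀ i, i < 108125 → P i := stepQ 108124 Q108124 (allL N108124 (tt N116126 (iv1 F498614)) (tt N91741 (iv0 F461216)) (tt N116129 F498631) (tt N73465 F461214) (tt N104798 F461215) (tt N115596 (iv5 F495921)) (tt N73463 (iv6 D211344)) (tt N116128 F498627))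
theorem Q108126 : ∀ i, i < 108126 → P i := stepQ 108125 Q108125 (allL N108125 (tt N116015 (iv1 F498065)) (tt N73537 F461217) (tt N120001 (iv2 F518486)) (tt N115596 F495922) (tt N117048 (iv4 F503117)) (tt N73465 (iv5 D211345)) (tt N119481 (iv6 F515835)) (tt N117447 (iv7 F505081)))
theorem Q108127 : ∀ i, i < 108127 → P i := stepQ 108126 Q108126 (allL N108126 (tt N101836 F461219) (tt N102263 (iv0 F461220)) (tt N111607 F477138) (tt N73469 (iv3 D211346)) (tt N95770 F461218) (tt N117126 (iv5 F503521)) (tt N100391 (iv6 F461221)) (tt N108940 (iv7 F464586)))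
theorem Q108128 : ∀ i, i < 108128 → P i := stepQ 108127 Q108127 (allL N108127 (tt N108952 (iv1 F464633)) (tt N101152 (iv0 F461224)) (tt N108953 (iv2 F464639)) (tt N100391 F461222) (tt N117460 (iv4 F505146)) (tt N118169 (iv5 F508981)) (tt N73469 (iv6 D211347)) (tt N93961 F461223))
theorem Q108129 : ∀ i, i < 108129 → P i := stepQ 108128 Q108128 (allL N108128 (tt N118345 F509822) (tt N101794 (iv0 F461227)) (tt N118480 (iv2 F510596)) (tt N73470 (iv3 D211348)) (tt N92403 F461225) (tt N117129 (iv5 F503534)) (tt N93953 F461226) (tt N120002 (iv7 F518497)))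
theorem Q108130 : ∀ i, i < 108130 → P i := stepQ 108129 Q108129 (allL N108129 (tt N107217 F461232) (tt N93763 F461233) (tt N90253 F461228) (tt N73473 (iv3 D211349)) (tt N93468 F461229) (tt N86165 F461230) (tt N115828 (iv6 F497119)) (tt N93817 F461231))
theorem Q108131 : ∀ i, i < 108131 → P i := stepQ 108130 Q108130 (allL N108130 (tt N93626 (iv1 F461236)) (tt N73474 (iv0 D211350)) (tt N99025 F461238) (tt N112681 F482146) (tt N93365 F461234) (tt N99013 F461235) (tt N99015 (iv6 F461237)) (tt N106677 (iv7 F461239)))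
theorem Q108132 : ∀ i, i < 108132 → P i := stepQ 108131 Q108131 (allL N108131 (tt N73474 (iv1 D211351)) (tt N93626 F461240) (tt N106677 (iv2 F461245)) (tt N78222 (iv3 F461244)) (tt N93366 F461242) (tt N99026 F461243) (tt N119151 (iv6 F514061)) (tt N99025 F461241))
theorem Q108133 : ∀ i, i < 108133 → P i := stepQ 108132 Q108132 (allL N108132 (tt N73486 F461248) (tt N107803 (iv0 F461249)) (tt N103026 F461246) (tt N119562 (iv3 F516264)) (tt N120830 (iv4 F522967)) (tt N73475 (iv5 D211352)) (tt N120832 (iv6 F522977)) (tt N107804 F461247))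
theorem Q108134 : ∀ i, i < 108134 → P i := stepQ 108133 Q108133 (allL N108133 (tt N73496 F498634) (tt N116995 (iv0 F502879)) (tt N120000 (iv2 F518480)) (tt N116129 F498635) (tt N117787 (iv4 F506972)) (tt N121643 D224902) (tt N73475 (iv6 D211353)) (tt N121644 D224903))
theorem Q108135 : ∀ i, i < 108135 → P i := stepQ 108134 Q108134 (allL N108134 (tt N107952 F461252) (tt N107955 F461253) (tt N114318 (iv2 F489568)) (tt N73481 (iv3 D211354)) (tt N121412 (iv4 F526214)) (tt N114333 (iv5 F489663)) (tt N101245 F461250) (tt N83147 F461251))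
theorem Q108136 : ∀ i, i < 108136 → P i := stepQ 108135 Q108135 (allL N108135 (tt N114804 (iv1 F491957)) (tt N114803 F491953) (tt N73495 F461254) (tt N121638 (iv3 F527474)) (tt N116003 (iv4 F497995)) (tt N73482 (iv5 D211355)) (tt N73485 F461255) (tt N114793 (iv7 F491898)))
theorem Q108137 : ∀ i, i < 108137 → P i := stepQ 108136 Q108136 (allL N108136 (tt N100120 F461261) (tt N103076 F461262) (tt N73497 F461256) (tt N81258 F461257) (tt N87966 F461260) (tt N73483 (iv5 D211356)) (tt N81256 F461258) (tt N73500 F461259))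
theorem Q108138 : ∀ i, i < 108138 → P i := stepQ 108137 Q108137 (allL N108137 (tt N120000 (iv1 F518485)) (tt N121644 F527510) (tt N116995 (iv2 F502877)) (tt N73484 (iv3 D211357)) (tt N92437 F461263) (tt N121645 D224904) (tt N109339 (iv6 F466458)) (tt N73496 F461264))
theorem Q108139 : ∀ i, i < 108139 → P i := stepQ 108138 Q108138 (allL N108138 (tt N103076 F461268) (tt N100120 F461269) (tt N73500 F461265) (tt N121645 (iv3 F527513)) (tt N112249 (iv4 F480220)) (tt N73484 (iv5 D211358)) (tt N96657 F461266) (tt N73497 F461267))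
theorem Q108140 : ∀ i, i < 108140 → P i := stepQ 108139 Q108139 (allL N108139 (tt N107804 (iv1 F461274)) (tt N103026 F461273) (tt N73486 (iv2 D211359)) (tt N107811 F461270) (tt N119534 (iv4 F516107)) (tt N99320 F461271) (tt N118745 (iv6 F511861)) (tt N107803 F461272))
theorem Q108141 : ∀ i, i < 108141 → P i := stepQ 108140 Q108140 (allL N108140 (tt N85365 F461279) (tt N93321 F461280) (tt N104167 F461275) (tt N105670 F461276) (tt N73488 (iv4 D211360)) (tt N104076 F461277) (tt N115040 (iv6 F493169)) (tt N104075 F461278))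
theorem Q108142 : ∀ i, i < 108142 → P i := stepQ 108141 Q108141 (allL N108141 (tt N118633 F511250) (tt N88451 (iv0 F461293)) (tt N118346 (iv2 F509823)) (tt N73490 F461281) (tt N115040 (iv4 F493171)) (tt N94743 (iv5 F461282)) (tt N73488 (iv6 D211361)) (tt N118635 (iv7 F511263)))
theorem Q108143 : ∀ i, i < 108143 → P i := stepQ 108142 Q108142 (allL N108142 (tt N108446 (iv1 F462614)) (tt N109395 (iv0 F466747)) (tt N103027 F461283) (tt N116773 (iv3 F501749)) (tt N73594 F461284) (tt N73489 (iv5 D211362)) (tt N120986 (iv6 F523871)) (tt N107817 F461285))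
theorem Q108144 : ∀ i, i < 108144 → P i := stepQ 108143 Q108143 (allL N108143 (tt N106299 F461292) (tt N83102 (iv0 F461291)) (tt N105992 F461286) (tt N106418 F461287) (tt N73490 F461288) (tt N82985 F461290) (tt N73489 (iv6 D211363)) (tt N106413 F461289))
theorem Q108145 : ∀ i, i < 108145 → P i := stepQ 108144 Q108144 (allL N108144 (tt N73490 (iv1 D211364)) (tt N95187 F461294) (tt N78464 F461299) (tt N82416 (iv3 F461300)) (tt N83257 F461297) (tt N80560 F461296) (tt N83256 (iv6 F461298)) (tt N107809 F461295))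
theorem Q108146 : ∀ i, i < 108146 → P i := stepQ 108145 Q108145 (allL N108145 (tt N83242 F461305) (tt N119116 (iv0 F513872)) (tt N95945 F461301) (tt N73491 (iv3 D211365)) (tt N76659 F461302) (tt N115092 (iv5 F493445)) (tt N95942 F461303) (tt N85617 F461304))
theorem Q108147 : ∀ i, i < 108147 → P i := stepQ 108146 Q108146 (allL N108146 (tt N119482 F515842) (tt N120832 (iv0 F522978)) (tt N119660 (iv2 F516770)) (tt N73493 (iv3 D211366)) (tt N119659 (iv4 F516767)) (tt N115981 (iv5 F497894)) (tt N105564 F461306) (tt N114800 (iv7 F491940)))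
theorem Q108148 : ∀ i, i < 108148 → P i := stepQ 108147 Q108147 (allL N108147 (tt N90331 (iv1 F491945)) (tt N118694 (iv0 F511583)) (tt N114802 (iv2 F491946)) (tt N115981 (iv3 F497896)) (tt N115580 F495859) (tt N73493 (iv5 D211367)) (tt N121646 D224905) (tt N114801 (iv7 F491942)))
theorem Q108149 : ∀ i, i < 108149 → P i := stepQ 108148 Q108148 (allL N108148 (tt N118694 (iv1 F511584)) (tt N90331 (iv0 F461308)) (tt N114801 (iv2 F491941)) (tt N85362 F461307) (tt N115579 (iv4 F495849)) (tt N73494 (iv5 D211368)) (tt N121647 D224906) (tt N114802 (iv7 F491949)))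
theorem Q108150 : ∀ i, i < 108150 → P i := stepQ 108149 Q108149 (allL N108149 (tt N114793 (iv1 F491900)) (tt N73495 (iv0 D211369)) (tt N114804 F491959) (tt N115983 (iv3 F497900)) (tt N91438 F461315) (tt N117589 (iv5 F505867)) (tt N100547 (iv6 F461316)) (tt N114803 F491956))
theorem Q108151 : ∀ i, i < 108151 → P i := stepQ 108150 Q108150 (allL N108150 (tt N73495 (iv1 D211370)) (tt N114793 F491899) (tt N114803 F491955) (tt N115553 F495754) (tt N87975 F461310) (tt N120403 (iv5 F520600)) (tt N87430 (iv6 F461309)) (tt N114804 (iv7 F491958)))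
theorem Q108152 : ∀ i, i < 108152 → P i := stepQ 108151 Q108151 (allL N108151 (tt N116004 (iv1 F498004)) (tt N87427 (iv0 F461314)) (tt N116003 F497997) (tt N96811 (iv3 F461313)) (tt N73495 (iv4 D211371)) (tt N96809 F461312) (tt N73504 F461311) (tt N114805 (iv7 F491962)))
theorem Q108153 : ∀ i, i < 108153 → P i := stepQ 108152 Q108152 (allL N108152 (tt N116995 F502880) (tt N73496 (iv0 D211372)) (tt N121644 (iv2 F527506)) (tt N73529 (iv3 F461322)) (tt N106120 F461320) (tt N121648 D224907) (tt N93656 (iv6 F461323)) (tt N120000 (iv7 F518483)))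
theorem Q108154 : ∀ i, i < 108154 → P i := stepQ 108153 Q108153 (allL N108153 (tt N121644 (iv1 F527511)) (tt N120000 (iv0 F518484)) (tt N73496 (iv2 D211374)) (tt N116958 (iv3 F502703)) (tt N92436 (iv4 F461325)) (tt N121649 D224908) (tt N108946 (iv6 F464617)) (tt N116995 (iv7 F502878)))
theorem Q108155 : ∀ i, i < 108155 → P i := stepQ 108154 Q108154 (allL N108154 (tt N92439 F461319) (tt N91755 (iv0 F461321)) (tt N92436 F461324) (tt N92554 F461317) (tt N73496 (iv4 D211375)) (tt N121650 D224909) (tt N118604 (iv6 F511118)) (tt N92437 F461318))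
theorem Q108156 : ∀ i, i < 108156 → P i := stepQ 108155 Q108155 (allL N108155 (tt N121651 D224910) (tt N121652 D224911) (tt N121649 (iv2 F527533)) (tt N73497 F461326) (tt N121653 D224912) (tt N73496 (iv5 D211376)) (tt N115568 (iv6 F495809)) (tt N121645 (iv7 F527515)))
theorem Q108157 : ∀ i, i < 108157 → P i := stepQ 108156 Q108156 (allL N108156 (tt N93953 F461328) (tt N108945 (iv0 F473657)) (tt N108946 F464615) (tt N73498 F461327) (tt N118604 (iv4 F511116)) (tt N119082 (iv5 F513694)) (tt N73496 (iv6 D211377)) (tt N108947 (iv7 F464618)))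
theorem Q108158 : ∀ i, i < 108158 → P i := stepQ 108157 Q108157 (allL N108157 (tt N73500 (iv1 F461333)) (tt N73497 (iv0 D211378)) (tt N100120 (iv2 F461332)) (tt N115587 (iv3 F495876)) (tt N84549 F461330) (tt N77483 F461329) (tt N101544 F461331) (tt N103076 F461334))
theorem Q108159 : ∀ i, i < 108159 → P i := stepQ 108158 Q108158 (allL N108158 (tt N93332 F461338) (tt N108210 (iv0 F461511)) (tt N93706 F461335) (tt N73757 F461336) (tt N73499 (iv4 D211379)) (tt N117171 (iv5 F503740)) (tt N110199 (iv6 F470397)) (tt N73790 F461337))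
theorem Q108160 : ∀ i, i < 108160 → P i := stepQ 108159 Q108159 (allL N108159 (tt N90329 F461342) (tt N121654 D224913) (tt N116996 (iv2 F502881)) (tt N73500 F461339) (tt N115628 (iv4 F496045)) (tt N73499 (iv5 D211380)) (tt N101550 F461340) (tt N81258 F461341))
theorem Q108161 : ∀ i, i < 108161 → P i := stepQ 108160 Q108160 (allL N108160 (tt N79475 F461344) (tt N110970 (iv0 F474015)) (tt N112249 (iv2 F480218)) (tt N115629 (iv3 F496047)) (tt N73500 (iv4 D211381)) (tt N111927 (iv5 F478698)) (tt N115572 (iv6 F495829)) (tt N87966 F461343))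
theorem Q108162 : ∀ i, i < 108162 → P i := stepQ 108161 Q108161 (allL N108161 (tt N87560 F461348) (tt N119465 (iv0 F515761)) (tt N96657 F461345) (tt N101550 F461346) (tt N115572 (iv4 F495827)) (tt N96645 F461349) (tt N73500 (iv6 D211382)) (tt N96659 F461347))
theorem Q108163 : ∀ i, i < 108163 → P i := stepQ 108162 Q108162 (allL N108162 (tt N96723 F461354) (tt N119947 (iv0 F518189)) (tt N96658 F461350) (tt N101516 F461351) (tt N97531 F461353) (tt N73501 (iv5 D211383)) (tt N96645 F461352) (tt N109337 (iv7 F466450)))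
theorem Q108164 : ∀ i, i < 108164 → P i := stepQ 108163 Q108163 (allL N108163 (tt N121648 (iv1 F527532)) (tt N121643 (iv0 F527504)) (tt N121655 D224914) (tt N73502 (iv3 D211384)) (tt N115998 F497973) (tt N110447 (iv5 F471626)) (tt N87441 F461355) (tt N110446 F471623))
theorem Q108165 : ∀ i, i < 108165 → P i := stepQ 108164 Q108164 (allL N108164 (tt N87445 F461359) (tt N87444 F461360) (tt N87442 F461358) (tt N73503 (iv3 D211385)) (tt N115631 (iv4 F496056)) (tt N77036 F461356) (tt N114984 (iv6 F492912)) (tt N87443 F461357))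
theorem Q108166 : ∀ i, i < 108166 → P i := stepQ 108165 Q108165 (allL N108165 (tt N96587 F461364) (tt N115599 F495932) (tt N110450 (iv2 F471645)) (tt N114984 (iv3 F492910)) (tt N88005 F461361) (tt N77042 F461362) (tt N73503 (iv6 D211386)) (tt N87440 F461363))
theorem Q108167 : ∀ i, i < 108167 → P i := stepQ 108166 Q108166 (allL N108166 (tt N115994 (iv1 F497954)) (tt N121656 D224915) (tt N112205 (iv2 F480045)) (tt N73545 F461365) (tt N116013 (iv4 F498047)) (tt N112204 F480044) (tt N73505 (iv6 D211387)) (tt N114799 (iv7 F491937)))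
theorem Q108168 : ∀ i, i < 108168 → P i := stepQ 108167 Q108167 (allL N108167 (tt N105440 F461370) (tt N111035 (iv0 F474363)) (tt N73509 F461366) (tt N78140 F461367) (tt N98322 F461368) (tt N82439 F461371) (tt N73508 (iv6 D211388)) (tt N95135 F461369))
theorem Q108169 : ∀ i, i < 108169 → P i := stepQ 108168 Q108168 (allL N108168 (tt N73509 (iv1 D211389)) (tt N95135 F461372) (tt N111035 (iv2 F474359)) (tt N121657 D224916) (tt N113114 (iv4 F484030)) (tt N82410 (iv5 F461374)) (tt N109646 F467910) (tt N105440 F461373))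
theorem Q108170 : ∀ i, i < 108170 → P i := stepQ 108169 Q108169 (allL N108169 (tt N97995 (iv1 F461379)) (tt N73510 (iv0 D211390)) (tt N120008 F518533) (tt N85191 F461377) (tt N99528 F461376) (tt N93314 F461375) (tt N107222 F461378) (tt N105103 F461380))
theorem Q108171 : ∀ i, i < 108171 → P i := stepQ 108170 Q108170 (allL N108170 (tt N114504 F490498) (tt N118705 (iv0 F511645)) (tt N118449 (iv2 F510422)) (tt N73511 (iv3 D211391)) (tt N100641 F461381) (tt N121658 D224917) (tt N90443 (iv6 F461383)) (tt N95069 F461382))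
theorem Q108172 : ∀ i, i < 108172 → P i := stepQ 108171 Q108171 (allL N108171 (tt N117529 (iv1 F505539)) (tt N105380 F461386) (tt N95067 F461384) (tt N121658 (iv3 F527587)) (tt N108718 F463679) (tt N73511 (iv5 D211392)) (tt N118280 F509492) (tt N95070 F461385))
theorem Q108173 : ∀ i, i < 108173 → P i := stepQ 108172 Q108172 (allL N108172 (tt N100832 F461390) (tt N112019 F479104) (tt N95068 F461387) (tt N90443 F461388) (tt N73513 F461389) (tt N94371 F461391) (tt N73511 (iv6 D211393)) (tt N110642 (iv7 F472554)))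
theorem Q108174 : ∀ i, i < 108174 → P i := stepQ 108173 Q108173 (allL N108173 (tt N118691 (iv1 F511566)) (tt N119480 (iv0 F515832)) (tt N97996 F461392) (tt N73516 F461393) (tt N121659 D224918) (tt N73514 (iv5 D211394)) (tt N97996 F461394) (tt N118827 (iv7 F512283)))
theorem Q108175 : ∀ i, i < 108175 → P i := stepQ 108174 Q108174 (allL N108174 (tt N119481 (iv1 F515838)) (tt N119483 (iv0 F515847)) (tt N118386 (iv2 F510074)) (tt N73519 (iv3 D211395)) (tt N121660 D224919) (tt N95251 F461395) (tt N74546 (iv6 F461396)) (tt N120500 (iv7 F521110)))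
theorem Q108176 : ∀ i, i < 108176 → P i := stepQ 108175 Q108175 (allL N108175 (tt N111541 (iv1 F476822)) (tt N111540 (iv0 F476821)) (tt N111542 (iv2 F476828)) (tt N74546 (iv3 F461399)) (tt N73519 (iv4 D211396)) (tt N74545 F461398) (tt N73519 (iv6 F461400)) (tt N93399 F461397))
theorem Q108177 : ∀ i, i < 108177 → P i := stepQ 108176 Q108176 (allL N108176 (tt N73520 (iv1 D211397)) (tt N100749 F461401) (tt N100751 F461404) (tt N108890 F464380) (tt N79818 F461405) (tt N108889 (iv5 F464381)) (tt N94877 (iv6 F461403)) (tt N79815 F461402))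
theorem Q108178 : ∀ i, i < 108178 → P i := stepQ 108177 Q108177 (allL N108177 (tt N120512 F521184) (tt N121661 D224920) (tt N118859 (iv2 F512438)) (tt N73520 (iv3 D211398)) (tt N96811 F461406) (tt N121662 D224921) (tt N73542 F461407) (tt N121663 D224922))
theorem Q108179 : ∀ i, i < 108179 → P i := stepQ 108178 Q108178 (allL N108178 (tt N118678 F511501) (tt N80806 (iv0 F461408)) (tt N117567 (iv2 F505740)) (tt N121662 (iv3 F527609)) (tt N110111 (iv4 F470039)) (tt N73520 (iv5 D211399)) (tt N117566 (iv6 F505738)) (tt N118792 (iv7 F512103)))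
theorem Q108180 : ∀ i, i < 108180 → P i := stepQ 108179 Q108179 (allL N108179 (tt N100751 (iv1 F461411)) (tt N79815 F461412) (tt N100749 F461409) (tt N121663 (iv3 F527613)) (tt N73521 F461410) (tt N118792 (iv5 F512097)) (tt N119876 (iv6 F517827)) (tt N73520 (iv7 D211400)))
theorem Q108181 : ∀ i, i < 108181 → P i := stepQ 108180 Q108180 (allL N108180 (tt N94910 F461414) (tt N116016 (iv0 F498070)) (tt N112199 (iv2 F480019)) (tt N114799 (iv3 F491934)) (tt N119876 (iv4 F517829)) (tt N112198 F480017) (tt N73521 (iv6 D211401)) (tt N73545 F461413))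
theorem Q108182 : ∀ i, i < 108182 → P i := stepQ 108181 Q108181 (allL N108181 (tt N101532 F461417) (tt N117001 F502912) (tt N116018 (iv2 F498080)) (tt N98822 F461415) (tt N73522 (iv4 D211402)) (tt N121664 D224923) (tt N98820 F461416) (tt N117002 (iv7 F502917)))
theorem Q108183 : ∀ i, i < 108183 → P i := stepQ 108182 Q108182 (allL N108182 (tt N90351 F461420) (tt N111419 (iv0 F476269)) (tt N73524 F461418) (tt N108857 (iv3 F464270)) (tt N108855 (iv4 F464263)) (tt N73523 (iv5 D211403)) (tt N108855 F464266) (tt N100539 F461419))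
theorem Q108184 : ∀ i, i < 108184 → P i := stepQ 108183 Q108183 (allL N108183 (tt N97027 (iv1 F461447)) (tt N97030 (iv0 F461423)) (tt N73525 F461421) (tt N93955 F461422) (tt N119836 (iv4 F517617)) (tt N118782 (iv5 F512035)) (tt N73523 (iv6 D211404)) (tt N108941 (iv7 F464591)))
theorem Q108185 : ∀ i, i < 108185 → P i := stepQ 108184 Q108184 (allL N108184 (tt N100539 (iv1 F461426)) (tt N73524 (iv0 D211405)) (tt N90351 F461428) (tt N121654 F527564) (tt N101600 F461424) (tt N90350 F461425) (tt N96588 (iv6 F461427)) (tt N111419 (iv7 F476266)))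
theorem Q108186 : ∀ i, i < 108186 → P i := stepQ 108185 Q108185 (allL N108185 (tt N73524 (iv1 D211406)) (tt N100539 F461431) (tt N111419 (iv2 F476264)) (tt N84523 (iv3 F461433)) (tt N101599 (iv4 F461435)) (tt N90217 F461434) (tt N118695 (iv6 F511589)) (tt N90351 F461432))
theorem Q108187 : ∀ i, i < 108187 → P i := stepQ 108186 Q108186 (allL N108186 (tt N112190 F479979) (tt N97015 F461438) (tt N108855 (iv2 F464261)) (tt N73528 F461436) (tt N73524 (iv4 D211407)) (tt N112197 (iv5 F480011)) (tt N73524 (iv6 F461439)) (tt N100536 F461437))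
theorem Q108188 : ∀ i, i < 108188 → P i := stepQ 108187 Q108187 (allL N108187 (tt N108941 F464594) (tt N73525 (iv0 D211408)) (tt N97027 (iv2 F461444)) (tt N112171 (iv3 F479878)) (tt N119708 (iv4 F517027)) (tt N97023 F461440) (tt N99464 (iv6 F461445)) (tt N97030 (iv7 F461446)))
theorem Q108189 : ∀ i, i < 108189 → P i := stepQ 108188 Q108188 (allL N108188 (tt N73525 (iv1 D211409)) (tt N108941 (iv0 F464595)) (tt N97030 F461451) (tt N116981 (iv3 F502806)) (tt N119707 (iv4 F517023)) (tt N95279 F461449) (tt N95280 (iv6 F461450)) (tt N97027 F461448))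
theorem Q108190 : ∀ i, i < 108190 → P i := stepQ 108189 Q108189 (allL N108189 (tt N73537 F461453) (tt N116015 F498063) (tt N117447 (iv2 F505078)) (tt N121648 (iv3 F527528)) (tt N117047 (iv4 F503116)) (tt N73529 (iv5 D211410)) (tt N93402 F461452) (tt N120001 (iv7 F518488)))
theorem Q108191 : ∀ i, i < 108191 → P i := stepQ 108190 Q108190 (allL N108190 (tt N90766 F461457) (tt N90774 F461458) (tt N73531 F461454) (tt N100539 F461455) (tt N121665 D224924) (tt N73530 (iv5 D211411)) (tt N100537 F461456) (tt N108857 (iv7 F464272)))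
theorem Q108192 : ∀ i, i < 108192 → P i := stepQ 108191 Q108191 (allL N108191 (tt N108857 (iv1 F464274)) (tt N73531 (iv0 D211412)) (tt N90766 (iv2 F461460)) (tt N115581 F495861) (tt N120659 (iv4 F522010)) (tt N90759 F461459) (tt N119480 (iv6 F515831)) (tt N90774 (iv7 F461461)))
theorem Q108193 : ∀ i, i < 108193 → P i := stepQ 108192 Q108192 (allL N108192 (tt N73531 (iv1 D211413)) (tt N108857 F464273) (tt N90774 (iv2 F461463)) (tt N121651 (iv3 F527547)) (tt N104445 (iv4 F461464)) (tt N90767 (iv5 F461465)) (tt N118177 (iv6 F509023)) (tt N90766 F461462))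
theorem Q108194 : ∀ i, i < 108194 → P i := stepQ 108193 Q108193 (allL N108193 (tt N117037 (iv1 F503080)) (tt N117040 (iv0 F503090)) (tt N121665 (iv2 F527621)) (tt N120618 (iv3 F521786)) (tt N73531 (iv4 D211414)) (tt N117953 (iv5 F507766)) (tt N121666 D224925) (tt N121640 (iv7 F527486)))
theorem Q108195 : ∀ i, i < 108195 → P i := stepQ 108194 Q108194 (allL N108194 (tt N118177 (iv1 F509025)) (tt N111706 (iv0 F477591)) (tt N100537 F461466) (tt N73534 F461467) (tt N121666 (iv4 F527628)) (tt N96338 F461468) (tt N73531 (iv6 D211415)) (tt N96590 F461469))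
theorem Q108196 : ∀ i, i < 108196 → P i := stepQ 108195 Q108195 (allL N108195 (tt N119480 (iv1 F515833)) (tt N118691 (iv0 F511565)) (tt N118827 (iv2 F512281)) (tt N73533 (iv3 D211416)) (tt N120618 (iv4 F521787)) (tt N97997 F461470) (tt N118735 (iv6 F511806)) (tt N97996 F461471))
theorem Q108197 : ∀ i, i < 108197 → P i := stepQ 108196 Q108196 (allL N108196 (tt N112199 (iv1 F480023)) (tt N73545 (iv0 F461475)) (tt N116016 (iv2 F498066)) (tt N111542 (iv3 F476829)) (tt N73535 (iv4 D211417)) (tt N93552 F461474) (tt N73536 F461472) (tt N94910 F461473))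
theorem Q108198 : ∀ i, i < 108198 → P i := stepQ 108197 Q108197 (allL N108197 (tt N120001 (iv1 F518490)) (tt N117447 (iv0 F505082)) (tt N73537 (iv2 D211418)) (tt N116014 (iv3 F498052)) (tt N117939 (iv4 F507695)) (tt N111791 F477997) (tt N121667 D224926) (tt N116015 (iv7 F498061)))
theorem Q108199 : ∀ i, i < 108199 → P i := stepQ 108198 Q108198 (allL N108198 (tt N117938 (iv1 F507689)) (tt N117937 F507688) (tt N117939 (iv2 F507693)) (tt N121668 D224927) (tt N73537 (iv4 D211419)) (tt N111797 (iv5 F478020)) (tt N121669 D224928) (tt N111796 F478017))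
theorem Q108200 : ∀ i, i < 108200 → P i := stepQ 108199 Q108199 (allL N108199 (tt N121670 D224929) (tt N121670 F527646) (tt N121667 (iv2 F527631)) (tt N73539 F461476) (tt N121669 (iv4 F527642)) (tt N120952 (iv5 F523663)) (tt N73537 (iv6 D211420)) (tt N121667 (iv7 F527634)))
theorem Q108201 : ∀ i, i < 108201 → P i := stepQ 108200 Q108200 (allL N108200 (tt N119483 (iv1 F515848)) (tt N119481 (iv0 F515837)) (tt N120500 (iv2 F521106)) (tt N73538 (iv3 D211421)) (tt N121668 (iv4 F527638)) (tt N118631 (iv5 F511232)) (tt N94907 F461477) (tt N118386 (iv7 F510077)))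
theorem Q108202 : ∀ i, i < 108202 → P i := stepQ 108201 Q108201 (allL N108201 (tt N79195 (iv1 F461481)) (tt N96337 F461482) (tt N94909 F461478) (tt N121667 (iv3 F527632)) (tt N94683 F461479) (tt N104857 F461480) (tt N116014 (iv6 F498055)) (tt N73539 (iv7 D211422)))
theorem Q108203 : ∀ i, i < 108203 → P i := stepQ 108202 Q108202 (allL N108202 (tt N111699 F477562) (tt N115972 (iv0 F497844)) (tt N115521 (iv2 F495617)) (tt N73540 (iv3 D211423)) (tt N115520 F495616) (tt N118661 (iv5 F511403)) (tt N121661 F527607) (tt N115984 (iv7 F497903)))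
theorem Q108204 : ∀ i, i < 108204 → P i := stepQ 108203 Q108203 (allL N108203 (tt N111698 F477557) (tt N108209 (iv0 F461507)) (tt N115577 F495841) (tt N121661 F527606) (tt N118153 (iv4 F508892)) (tt N108909 F464452) (tt N73540 (iv6 D211424)) (tt N94892 F461483))
theorem Q108205 : ∀ i, i < 108205 → P i := stepQ 108204 Q108204 (allL N108204 (tt N120541 F521351) (tt N121671 D224930) (tt N121672 D224931) (tt N73541 (iv3 D211425)) (tt N120052 (iv4 F518782)) (tt N112835 (iv5 F482867)) (tt N94884 F461484) (tt N121641 (iv7 F527493)))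
theorem Q108206 : ∀ i, i < 108206 → P i := stepQ 108205 Q108205 (allL N108205 (tt N106268 (iv1 F461488)) (tt N73542 (iv0 D211426)) (tt N111695 (iv2 F477535)) (tt N87246 F461487) (tt N87247 F461486) (tt N106274 F461485) (tt N88071 (iv6 F461489)) (tt N111694 (iv7 F477531)))
theorem Q108207 : ∀ i, i < 108207 → P i := stepQ 108206 Q108206 (allL N108206 (tt N110854 F490591) (tt N116852 (iv0 F502176)) (tt N120017 (iv2 F518575)) (tt N107673 F461490) (tt N73545 F461491) (tt N107671 F461492) (tt N73544 (iv6 D211427)) (tt N119876 (iv7 F517828)))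
theorem Q108208 : ∀ i, i < 108208 → P i := stepQ 108207 Q108207 (allL N108207 (tt N73545 (iv1 D211428)) (tt N112199 (iv0 F480024)) (tt N94910 F461495) (tt N74544 F461496) (tt N116014 (iv4 F498053)) (tt N74543 (iv5 F461493)) (tt N94683 (iv6 F461494)) (tt N116016 (iv7 F498068)))
theorem Q108209 : ∀ i, i < 108209 → P i := stepQ 108208 Q108208 (allL N108208 (tt N96788 F461501) (tt N108111 F461502) (tt N87272 F461497) (tt N88150 F461498) (tt N73547 (iv4 D211429)) (tt N108123 F461499) (tt N88148 (iv6 F461503)) (tt N105363 F461500))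
theorem Q108210 : ∀ i, i < 108210 → P i := stepQ 108209 Q108209 (allL N108209 (tt N108203 F461507) (tt N118674 (iv0 F511473)) (tt N87297 F461504) (tt N88123 F461505) (tt N88148 F461506) (tt N112217 (iv5 F480096)) (tt N73547 (iv6 D211430)) (tt N88121 (iv7 F461508)))
theorem Q108211 : ∀ i, i < 108211 → P i := stepQ 108210 Q108210 (allL N108210 (tt N108158 F461511) (tt N107704 F461512) (tt N108325 F462069) (tt N112480 (iv3 F481264)) (tt N73548 (iv4 D211431)) (tt N85253 F461510) (tt N118156 (iv6 F508911)) (tt N108298 F461958))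
theorem Q108212 : ∀ i, i < 108212 → P i := stepQ 108211 Q108211 (allL N108211 (tt N115524 (iv1 F495630)) (tt N115556 (iv0 F495771)) (tt N118158 (iv2 F508918)) (tt N115915 F497567) (tt N121673 D224932) (tt N73548 (iv5 D211432)) (tt N118314 (iv6 F509657)) (tt N117044 (iv7 F503103)))
theorem Q108213 : ∀ i, i < 108213 → P i := stepQ 108212 Q108212 (allL N108212 (tt N112226 (iv1 F480142)) (tt N73550 (iv0 D211433)) (tt N112224 F480130) (tt N90375 (iv3 F461516)) (tt N120756 (iv4 F522546)) (tt N90373 F461513) (tt N100926 (iv6 F461517)) (tt N112225 (iv7 F480134)))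
theorem Q108214 : ∀ i, i < 108214 → P i := stepQ 108213 Q108213 (allL N108213 (tt N73550 (iv1 D211434)) (tt N112226 F480141) (tt N112225 (iv2 F480136)) (tt N115074 (iv3 F493354)) (tt N114013 (iv4 F488201)) (tt N107507 (iv5 F461518)) (tt N116917 (iv6 F502487)) (tt N112224 F480131))
theorem Q108215 : ∀ i, i < 108215 → P i := stepQ 108214 Q108214 (allL N108214 (tt N73551 (iv1 D211435)) (tt N108925 F464514) (tt N93616 F461523) (tt N89439 (iv3 F461522)) (tt N107712 F461521) (tt N93615 F461520) (tt N116702 (iv6 F501386)) (tt N90553 F461519))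
theorem Q108216 : ∀ i, i < 108216 → P i := stepQ 108215 Q108215 (allL N108215 (tt N101580 F461528) (tt N101590 F461529) (tt N90362 F461524) (tt N73552 (iv3 D211436)) (tt N121674 D224933) (tt N90360 F461525) (tt N79215 F461526) (tt N101589 F461527))
theorem Q108217 : ∀ i, i < 108217 → P i := stepQ 108216 Q108216 (allL N108216 (tt N94898 (iv1 F461531)) (tt N73555 (iv0 D211437)) (tt N95254 (iv2 F461532)) (tt N121675 D224934) (tt N94777 F461530) (tt N121676 D224935) (tt N97764 (iv6 F461533)) (tt N112274 (iv7 F480309)))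
theorem Q108218 : ∀ i, i < 108218 → P i := stepQ 108217 Q108217 (allL N108217 (tt N73555 (iv1 D211438)) (tt N94898 F461534) (tt N112274 F480307) (tt N93920 F461538) (tt N95255 F461536) (tt N93915 (iv5 F461537)) (tt N79216 F461539) (tt N95254 F461535))
theorem Q108219 : ∀ i, i < 108219 → P i := stepQ 108218 Q108218 (allL N108218 (tt N114197 F488950) (tt N108926 (iv0 F464521)) (tt N93939 (iv2 F461542)) (tt N73556 (iv3 D211439)) (tt N115946 F497718) (tt N93931 F461540) (tt N112656 (iv6 F482027)) (tt N93935 F461541))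
theorem Q108220 : ∀ i, i < 108220 → P i := stepQ 108219 Q108219 (allL N108219 (tt N118154 F508900) (tt N115929 (iv0 F497633)) (tt N121594 (iv2 F527220)) (tt N110134 (iv3 F470118)) (tt N108452 (iv4 F462642)) (tt N73558 (iv5 D211440)) (tt N121677 D224936) (tt N105366 F461543))
theorem Q108221 : ∀ i, i < 108221 → P i := stepQ 108220 Q108220 (allL N108220 (tt N121093 (iv1 F524486)) (tt N101582 (iv0 F461546)) (tt N73560 F461544) (tt N112226 (iv3 F480138)) (tt N108290 (iv4 F461913)) (tt N73559 (iv5 D211441)) (tt N101570 F461545) (tt N112221 (iv7 F480117)))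
theorem Q108222 : ∀ i, i < 108222 → P i := stepQ 108221 Q108221 (allL N108221 (tt N112221 (iv1 F480119)) (tt N73560 (iv0 D211442)) (tt N121093 (iv2 F524480)) (tt N100930 F461548) (tt N108630 (iv4 F463284)) (tt N100433 F461547) (tt N118662 (iv6 F511405)) (tt N101582 (iv7 F461549)))
theorem Q108223 : ∀ i, i < 108223 → P i := stepQ 108222 Q108222 (allL N108222 (tt N73560 (iv1 D211443)) (tt N112221 (iv0 F480118)) (tt N101582 (iv2 F461554)) (tt N103078 F461552) (tt N78264 F461553) (tt N103077 (iv5 F461551)) (tt N79210 (iv6 F461550)) (tt N121093 (iv7 F524484)))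
theorem Q108224 : ∀ i, i < 108224 → P i := stepQ 108223 Q108223 (allL N108223 (tt N108752 (iv1 F463816)) (tt N108750 (iv0 F463807)) (tt N108290 (iv2 F461910)) (tt N121678 D224937) (tt N73560 (iv4 D211444)) (tt N108265 F461780) (tt N118864 (iv6 F512469)) (tt N115963 F497794))
theorem Q108225 : ∀ i, i < 108225 → P i := stepQ 108224 Q108224 (allL N108224 (tt N116766 (iv1 F501717)) (tt N120351 F520330) (tt N121259 (iv2 F525424)) (tt N73562 (iv3 D211445)) (tt N121678 (iv4 F527690)) (tt N114528 (iv5 F490614)) (tt N119196 (iv6 F514309)) (tt N114527 F490610))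
theorem Q108226 : ∀ i, i < 108226 → P i := stepQ 108225 Q108225 (allL N108225 (tt N96481 F461559) (tt N100606 F461560) (tt N105295 F461555) (tt N73567 F461556) (tt N100985 F461557) (tt N73566 (iv5 D211446)) (tt N91729 F461561) (tt N99587 F461558))
theorem Q108227 : ∀ i, i < 108227 → P i := stepQ 108226 Q108226 (allL N108226 (tt N89500 F461566) (tt N94980 (iv0 F461567)) (tt N93633 F461562) (tt N73568 F461563) (tt N93631 F461564) (tt N92499 F461565) (tt N73566 (iv6 D211447)) (tt N99112 F461568))
theorem Q108228 : ∀ i, i < 108228 → P i := stepQ 108227 Q108227 (allL N108227 (tt N73603 F461573) (tt N86755 F461574) (tt N103204 F461569) (tt N86337 F461570) (tt N74022 F461571) (tt N115914 (iv5 F497559)) (tt N73571 (iv6 D211448)) (tt N96088 F461572))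
theorem Q108229 : ∀ i, i < 108229 → P i := stepQ 108228 Q108228 (allL N108228 (tt N90252 (iv1 F461579)) (tt N73575 (iv0 D211449)) (tt N93362 (iv2 F461578)) (tt N79616 F461577) (tt N77272 F461576) (tt N79615 F461575) (tt N118409 (iv6 F510192)) (tt N106933 F461580))
theorem Q108230 : ∀ i, i < 108230 → P i := stepQ 108229 Q108229 (allL N108229 (tt N103204 F461584) (tt N96088 F461586) (tt N86755 F461581) (tt N73581 (iv3 D211450)) (tt N99575 F461582) (tt N115943 (iv5 F497703)) (tt N110896 (iv6 F473659)) (tt N73603 F461583))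
theorem Q108231 : ∀ i, i < 108231 → P i := stepQ 108230 Q108230 (allL N108230 (tt N101603 F461591) (tt N103078 F461592) (tt N73608 F461587) (tt N115943 (iv3 F497702)) (tt N84550 F461588) (tt N73581 (iv5 D211451)) (tt N101561 F461589) (tt N73604 F461590))
theorem Q108232 : ∀ i, i < 108232 → P i := stepQ 108231 Q108231 (allL N108231 (tt N105478 F461596) (tt N105480 (iv0 F461597)) (tt N103028 F461593) (tt N103194 F461594) (tt N120986 (iv4 F523869)) (tt N93151 F461595) (tt N73594 (iv6 D211452)) (tt N115091 (iv7 F493442)))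
theorem Q108233 : ∀ i, i < 108233 → P i := stepQ 108232 Q108232 (allL N108232 (tt N73979 F461602) (tt N84787 F461603) (tt N103108 F461598) (tt N84817 F461599) (tt N103102 F461600) (tt N73597 (iv5 D211453)) (tt N118357 (iv6 F509892)) (tt N85190 F461601))
theorem Q108234 : ∀ i, i < 108234 → P i := stepQ 108233 Q108233 (allL N108233 (tt N100917 (iv1 F461608)) (tt N101533 F461609) (tt N99119 F461604) (tt N73602 (iv3 D211454)) (tt N76787 F461605) (tt N117049 (iv5 F503120)) (tt N99112 F461606) (tt N99588 F461607))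
theorem Q108235 : ∀ i, i < 108235 → P i := stepQ 108234 Q108234 (allL N108234 (tt N90375 F461615) (tt N90370 F461614) (tt N87340 F461611) (tt N73604 F461612) (tt N120664 (iv4 F522038)) (tt N73603 (iv5 D211455)) (tt N93538 F461613) (tt N115943 (iv7 F497704)))
theorem Q108236 : ∀ i, i < 108236 → P i := stepQ 108235 Q108235 (allL N108235 (tt N73608 (iv1 F461619)) (tt N73604 (iv0 D211456)) (tt N103078 F461621) (tt N94904 (iv3 F461620)) (tt N81183 F461617) (tt N77033 F461616) (tt N94874 F461618) (tt N101603 F461622))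
theorem Q108237 : ∀ i, i < 108237 → P i := stepQ 108236 Q108236 (allL N108236 (tt N73604 (iv1 D211457)) (tt N73608 F461623) (tt N101603 (iv2 F461626)) (tt N121093 (iv3 F524481)) (tt N111571 (iv4 F476972)) (tt N77035 F461625) (tt N121679 D224938) (tt N103078 F461624))
theorem Q108238 : ∀ i, i < 108238 → P i := stepQ 108237 Q108237 (allL N108237 (tt N90364 F461631) (tt N79213 F461633) (tt N101561 F461627) (tt N84530 F461628) (tt N84552 F461629) (tt N79196 (iv5 F461632)) (tt N73608 (iv6 D211458)) (tt N101559 F461630))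
theorem Q108239 : ∀ i, i < 108239 → P i := stepQ 108238 Q108238 (allL N108238 (tt N101522 F461637) (tt N100912 F461638) (tt N101521 F461634) (tt N116994 (iv3 F502872)) (tt N111848 (iv4 F478290)) (tt N73609 (iv5 D211459)) (tt N79196 F461635) (tt N101520 F461636))
theorem Q108240 : ∀ i, i < 108240 → P i := stepQ 108239 Q108239 (allL N108239 (tt N100084 F461640) (tt N74298 F461641) (tt N73613 F461639) (tt N110691 F472770) (tt N112757 (iv4 F482511)) (tt N73611 (iv5 D211460)) (tt N117829 (iv6 F507163)) (tt N112798 (iv7 F482664)))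
theorem Q108241 : ∀ i, i < 108241 → P i := stepQ 108240 Q108240 (allL N108240 (tt N73613 (iv1 D211461)) (tt N112798 (iv0 F482665)) (tt N74298 F461646) (tt N94261 (iv3 F461644)) (tt N120564 (iv4 F521478)) (tt N100038 F461643) (tt N94188 (iv6 F461645)) (tt N100084 F461642))
theorem Q108242 : ∀ i, i < 108242 → P i := stepQ 108241 Q108241 (allL N108241 (tt N106550 F469986) (tt N107569 (iv0 F461649)) (tt N112757 (iv2 F482510)) (tt N89241 F461647) (tt N73613 (iv4 D211462)) (tt N112746 (iv5 F482479)) (tt N106568 (iv6 F461650)) (tt N106035 F461648))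
theorem Q108243 : ∀ i, i < 108243 → P i := stepQ 108242 Q108242 (allL N108242 (tt N117808 F507075) (tt N117827 (iv0 F507157)) (tt N117829 (iv2 F507162)) (tt N98077 F461651) (tt N106568 F461652) (tt N118514 F510764) (tt N73613 (iv6 D211463)) (tt N106564 F461653))
theorem Q108244 : ∀ i, i < 108244 → P i := stepQ 108243 Q108243 (allL N108243 (tt N73887 F461656) (tt N99459 F461657) (tt N117093 (iv2 F503337)) (tt N108057 F461658) (tt N73615 (iv4 D211464)) (tt N108056 F461655) (tt N108404 (iv6 F462437)) (tt N73952 F461654))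
theorem Q108245 : ∀ i, i < 108245 → P i := stepQ 108244 Q108244 (allL N108244 (tt N119700 (iv1 F516988)) (tt N119702 (iv0 F516999)) (tt N110799 (iv2 F473222)) (tt N73617 (iv3 D211466)) (tt N116798 (iv4 F501895)) (tt N94218 F461661) (tt N76799 F461662) (tt N116860 (iv7 F502215)))
theorem Q108246 : ∀ i, i < 108246 → P i := stepQ 108245 Q108245 (allL N108245 (tt N86847 F461666) (tt N118094 F508552) (tt N95552 F461663) (tt N107230 F461664) (tt N119332 (iv4 F515065)) (tt N95549 F461665) (tt N73624 (iv6 D211467)) (tt N119001 (iv7 F513214)))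
theorem Q108247 : ∀ i, i < 108247 → P i := stepQ 108246 Q108246 (allL N108246 (tt N115485 F495436) (tt N106704 (iv0 F461670)) (tt N74094 F461667) (tt N73629 (iv3 D211468)) (tt N74090 F461668) (tt N74323 F461669) (tt N111079 (iv6 F474564)) (tt N115727 (iv7 F496545)))
theorem Q108248 : ∀ i, i < 108248 → P i := stepQ 108247 Q108247 (allL N108247 (tt N95870 F461675) (tt N95868 (iv0 F461676)) (tt N93120 F461671) (tt N104011 F461672) (tt N73632 F461673) (tt N121219 (iv5 F525200)) (tt N73631 (iv6 D211469)) (tt N95869 F461674))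
theorem Q108249 : ∀ i, i < 108249 → P i := stepQ 108248 Q108248 (allL N108248 (tt N99571 F461678) (tt N106866 (iv0 F461679)) (tt N95406 (iv2 F461690)) (tt N73633 (iv3 D211470)) (tt N117858 (iv4 F507305)) (tt N100349 F461677) (tt N95306 (iv6 F461680)) (tt N108250 (iv7 F461699)))
theorem Q108250 : ∀ i, i < 108250 → P i := stepQ 108249 Q108249 (allL N108249 (tt N73707 (iv1 F461687)) (tt N100126 (iv0 F461684)) (tt N100504 F461681) (tt N95306 F461682) (tt N110591 (iv4 F472271)) (tt N108754 (iv5 F463821)) (tt N73633 (iv6 D211471)) (tt N95399 F461683))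
theorem Q108251 : ∀ i, i < 108251 → P i := stepQ 108250 Q108250 (allL N108250 (tt N101823 (iv1 F461698)) (tt N73635 (iv0 D211472)) (tt N118881 (iv2 F512555)) (tt N95370 F461696) (tt N108054 (iv4 F461700)) (tt N95365 F461695) (tt N95367 F461697) (tt N108248 F461699))
theorem Q108252 : ∀ i, i < 108252 → P i := stepQ 108251 Q108251 (allL N108251 (tt N117914 (iv1 F507569)) (tt N117913 F507568) (tt N117915 (iv2 F507575)) (tt N120960 (iv3 F523714)) (tt N73635 (iv4 D211473)) (tt N110295 (iv5 F470899)) (tt N97336 F461701) (tt N117794 (iv7 F507007)))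
theorem Q108253 : ∀ i, i < 108253 → P i := stepQ 108252 Q108252 (allL N108252 (tt N75346 (iv1 F461706)) (tt N73637 (iv0 D211474)) (tt N75288 (iv2 F461705)) (tt N74751 F461704) (tt N99758 F461703) (tt N95470 F461702) (tt N75174 (iv6 F461708)) (tt N98296 F461707))
theorem Q108254 : ∀ i, i < 108254 → P i := stepQ 108253 Q108253 (allL N108253 (tt N75288 (iv1 F461713)) (tt N98296 F461712) (tt N73637 (iv2 D211475)) (tt N75279 F461709) (tt N110306 (iv4 F470950)) (tt N95830 F461710) (tt N114453 (iv6 F490251)) (tt N75346 F461711))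
theorem Q108255 : ∀ i, i < 108255 → P i := stepQ 108254 Q108254 (allL N108254 (tt N113032 F483638) (tt N118647 F511327) (tt N114453 (iv2 F490245)) (tt N73638 F461714) (tt N119996 (iv4 F518457)) (tt N104849 F461716) (tt N73637 (iv6 D211476)) (tt N81322 F461715))
theorem Q108256 : ∀ i, i < 108256 → P i := stepQ 108255 Q108255 (allL N108255 (tt N96070 F461721) (tt N96071 F461722) (tt N74034 F461717) (tt N73639 (iv3 D211477)) (tt N93821 F461718) (tt N91280 F461719) (tt N85627 (iv6 F461723)) (tt N91411 F461720))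
theorem Q108257 : ∀ i, i < 108257 → P i := stepQ 108256 Q108256 (allL N108256 (tt N73689 F461728) (tt N100128 (iv0 F461729)) (tt N73983 F461724) (tt N85627 F461725) (tt N73640 F461726) (tt N108631 (iv5 F463286)) (tt N73639 (iv6 D211478)) (tt N100505 F461727))
theorem Q108258 : ∀ i, i < 108258 → P i := stepQ 108257 Q108257 (allL N108257 (tt N88998 F461734) (tt N89446 F461735) (tt N89449 F461730) (tt N101000 F461731) (tt N107869 F461733) (tt N73641 (iv5 D211479)) (tt N89524 F461736) (tt N89450 F461732))
theorem Q108259 : ∀ i, i < 108259 → P i := stepQ 108258 Q108258 (allL N108258 (tt N73644 (iv1 D211480)) (tt N86791 F461738) (tt N117412 (iv2 F504905)) (tt N119269 (iv3 F514731)) (tt N100295 F461739) (tt N115730 (iv5 F496557)) (tt N119272 (iv6 F514749)) (tt N117411 F504904))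
theorem Q108260 : ∀ i, i < 108260 → P i := stepQ 108259 Q108259 (allL N108259 (tt N117412 (iv1 F504910)) (tt N117411 F504903) (tt N86791 F461740) (tt N117575 (iv3 F505792)) (tt N98411 F461741) (tt N112717 (iv5 F482330)) (tt N117574 (iv6 F505786)) (tt N73644 (iv7 D211481)))
theorem Q108261 : ∀ i, i < 108261 → P i := stepQ 108260 Q108260 (allL N108260 (tt N73969 (iv1 F461747)) (tt N73645 (iv0 D211482)) (tt N75408 (iv2 F461746)) (tt N78573 F461744) (tt N75888 F461743) (tt N78572 F461742) (tt N75393 F461745) (tt N81365 F461748))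
theorem Q108262 : ∀ i, i < 108262 → P i := stepQ 108261 Q108261 (allL N108261 (tt N76772 F461754) (tt N76737 F461755) (tt N76773 F461749) (tt N104801 F461750) (tt N75658 F461751) (tt N73645 (iv5 D211483)) (tt N75657 F461752) (tt N76590 F461753))
theorem Q108263 : ∀ i, i < 108263 → P i := stepQ 108262 Q108262 (allL N108262 (tt N73683 (iv1 F461759)) (tt N73649 (iv0 D211484)) (tt N73680 (iv2 F461760)) (tt N103964 F461756) (tt N97192 F461757) (tt N118942 (iv5 F512878)) (tt N96943 F461758) (tt N73681 (iv7 F461761)))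
theorem Q108264 : ∀ i, i < 108264 → P i := stepQ 108263 Q108263 (allL N108263 (tt N73649 (iv1 D211485)) (tt N73683 F461762) (tt N73681 (iv2 F461768)) (tt N79862 F461767) (tt N97191 F461764) (tt N79861 (iv5 F461766)) (tt N97338 (iv6 F461765)) (tt N73680 F461763))
theorem Q108265 : ∀ i, i < 108265 → P i := stepQ 108264 Q108264 (allL N108264 (tt N100505 (iv1 F461773)) (tt N73983 F461774) (tt N73689 F461769) (tt N90534 F461770) (tt N81683 F461771) (tt N110956 (iv5 F473956)) (tt N73651 (iv6 D211486)) (tt N100128 F461772))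
theorem Q108266 : ∀ i, i < 108266 → P i := stepQ 108265 Q108265 (allL N108265 (tt N95399 F461778) (tt N100504 (iv0 F461779)) (tt N73707 F461775) (tt N117112 (iv3 F503458)) (tt N73659 F461776) (tt N108223 (iv5 F461780)) (tt N73658 (iv6 D211487)) (tt N100126 F461777))
theorem Q108267 : ∀ i, i < 108267 → P i := stepQ 108266 Q108266 (allL N108266 (tt N78150 (iv1 F461786)) (tt N73662 (iv0 D211488)) (tt N94470 (iv2 F461785)) (tt N99240 F461783) (tt N99570 F461782) (tt N83170 F461781) (tt N81690 F461784) (tt N99493 F461787))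
theorem Q108268 : ∀ i, i < 108268 → P i := stepQ 108267 Q108267 (allL N108267 (tt N109242 (iv1 F465952)) (tt N108789 (iv0 F463947)) (tt N100292 F461788) (tt N73663 (iv3 D211489)) (tt N119389 (iv4 F515377)) (tt N98141 F461789) (tt N109697 (iv6 F468163)) (tt N98145 F461790))
theorem Q108269 : ∀ i, i < 108269 → P i := stepQ 108268 Q108268 (allL N108268 (tt N74019 (iv1 F461793)) (tt N73664 (iv0 D211490)) (tt N97353 F461795) (tt N91618 F461792) (tt N117914 (iv4 F507572)) (tt N91616 F461791) (tt N121254 (iv6 F525395)) (tt N97354 (iv7 F461794)))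
theorem Q108270 : ∀ i, i < 108270 → P i := stepQ 108269 Q108269 (allL N108269 (tt N73664 (iv1 D211491)) (tt N74019 F461796) (tt N97354 F461800) (tt N97321 (iv3 F461798)) (tt N117913 (iv4 F507564)) (tt N76889 (iv5 F461799)) (tt N106114 F461801) (tt N97353 F461797))
theorem Q108271 : ∀ i, i < 108271 → P i := stepQ 108270 Q108270 (allL N108270 (tt N118847 (iv1 F512393)) (tt N117858 (iv0 F507306)) (tt N97325 F461802) (tt N118502 (iv3 F510711)) (tt N73664 (iv4 D211492)) (tt N116595 F500908) (tt N94233 F461803) (tt N118845 (iv7 F512386)))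
theorem Q108272 : ∀ i, i < 108272 → P i := stepQ 108271 Q108271 (allL N108271 (tt N91323 F461809) (tt N91322 F461810) (tt N91324 F461804) (tt N73665 (iv3 D211493)) (tt N102771 F461805) (tt N88247 F461806) (tt N86393 F461807) (tt N88246 F461808))
theorem Q108273 : ∀ i, i < 108273 → P i := stepQ 108272 Q108272 (allL N108272 (tt N97347 (iv1 F461813)) (tt N73668 (iv0 D211494)) (tt N97352 F461815) (tt N74180 F461812) (tt N98356 F461811) (tt N114817 (iv5 F492032)) (tt N114270 F489318) (tt N97351 (iv7 F461814)))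
theorem Q108274 : ∀ i, i < 108274 → P i := stepQ 108273 Q108273 (allL N108273 (tt N73668 (iv1 D211495)) (tt N97347 F461816) (tt N97351 F461821) (tt N92007 (iv3 F461819)) (tt N98355 F461818) (tt N114814 (iv5 F492012)) (tt N92005 (iv6 F461820)) (tt N97352 F461817))
theorem Q108275 : ∀ i, i < 108275 → P i := stepQ 108274 Q108274 (allL N108274 (tt N119357 F515199) (tt N115455 (iv0 F495276)) (tt N105000 F461822) (tt N73671 F461823) (tt N86690 F461824) (tt N111647 (iv5 F477293)) (tt N73669 (iv6 D211496)) (tt N115236 (iv7 F494153)))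
theorem Q108276 : ∀ i, i < 108276 → P i := stepQ 108275 Q108275 (allL N108275 (tt N120513 F521190) (tt N120514 (iv0 F521195)) (tt N108629 (iv2 F463281)) (tt N111647 F477295) (tt N115598 (iv4 F495927)) (tt N73671 (iv5 D211497)) (tt N99697 F461825) (tt N115393 (iv7 F494967)))
theorem Q108277 : ∀ i, i < 108277 → P i := stepQ 108276 Q108276 (allL N108276 (tt N117625 (iv1 F506064)) (tt N112440 (iv0 F481125)) (tt N98592 F461826) (tt N73674 F461827) (tt N74381 F461828) (tt N110958 (iv5 F473968)) (tt N73672 (iv6 D211498)) (tt N104998 F461829))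
theorem Q108278 : ∀ i, i < 108278 → P i := stepQ 108277 Q108277 (allL N108277 (tt N97178 (iv1 F461834)) (tt N97190 (iv0 F461833)) (tt N97192 F461830) (tt N92997 F461832) (tt N73680 (iv4 D211499)) (tt N114307 (iv5 F489514)) (tt N119237 (iv6 F514542)) (tt N97191 F461831))
theorem Q108279 : ∀ i, i < 108279 → P i := stepQ 108278 Q108278 (allL N108278 (tt N97190 F461839) (tt N97178 F461840) (tt N97191 F461835) (tt N104010 F461836) (tt N73681 (iv4 D211500)) (tt N114597 (iv5 F490939)) (tt N83799 F461837) (tt N97192 F461838))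
theorem Q108280 : ∀ i, i < 108280 → P i := stepQ 108279 Q108279 (allL N108279 (tt N101959 F461845) (tt N91186 F461844) (tt N79861 F461841) (tt N103963 F461842) (tt N118207 (iv4 F509147)) (tt N73681 (iv5 D211501)) (tt N103962 F461843) (tt N118942 (iv7 F512879)))
theorem Q108281 : ∀ i, i < 108281 → P i := stepQ 108280 Q108280 (allL N108280 (tt N91947 F461850) (tt N73682 (iv0 D211502)) (tt N91997 F461851) (tt N79467 F461847) (tt N95729 F461846) (tt N111735 (iv5 F477726)) (tt N79465 (iv6 F461848)) (tt N81547 (iv7 F461849)))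
theorem Q108282 : ∀ i, i < 108282 → P i := stepQ 108281 Q108281 (allL N108281 (tt N81547 (iv1 F461859)) (tt N91997 F461860) (tt N91947 F461855) (tt N92002 F461856) (tt N101937 F461857) (tt N73683 F461858) (tt N96954 (iv6 F461861)) (tt N73682 (iv7 D211503)))
theorem Q108283 : ∀ i, i < 108283 → P i := stepQ 108282 Q108282 (allL N108282 (tt N73687 (iv1 F461867)) (tt N73685 (iv0 D211504)) (tt N96837 (iv2 F461866)) (tt N99200 F461864) (tt N77714 F461863) (tt N105280 F461862) (tt N98378 F461865) (tt N99197 F461868))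
theorem Q108284 : ∀ i, i < 108284 → P i := stepQ 108283 Q108283 (allL N108283 (tt N110957 (iv1 F473967)) (tt N110951 (iv0 F473936)) (tt N110956 F473959) (tt N114224 (iv3 F489078)) (tt N115582 (iv4 F495864)) (tt N73689 (iv5 D211505)) (tt N111479 (iv6 F476532)) (tt N109662 (iv7 F467985)))
theorem Q108285 : ∀ i, i < 108285 → P i := stepQ 108284 Q108284 (allL N108284 (tt N105635 F461872) (tt N99886 F461873) (tt N118683 (iv2 F511527)) (tt N77125 F461869) (tt N99898 F461870) (tt N73690 (iv5 D211506)) (tt N77124 F461871) (tt N118684 (iv7 F511536)))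
theorem Q108286 : ∀ i, i < 108286 → P i := stepQ 108285 Q108285 (allL N108285 (tt N88179 F461879) (tt N88175 F461882) (tt N96608 F461874) (tt N77786 F461875) (tt N96369 F461876) (tt N84269 F461877) (tt N73691 (iv6 D211507)) (tt N96954 F461878))
theorem Q108287 : ∀ i, i < 108287 → P i := stepQ 108286 Q108286 (allL N108286 (tt N73698 (iv1 D211508)) (tt N80333 F461889) (tt N80334 F461887) (tt N74833 (iv3 F461886)) (tt N79064 F461885) (tt N79281 F461884) (tt N80181 F461888) (tt N78370 F461883))
theorem Q108288 : ∀ i, i < 108288 → P i := stepQ 108287 Q108287 (allL N108287 (tt N78370 (iv1 F461895)) (tt N80334 F461894) (tt N73698 (iv2 D211509)) (tt N75344 F461890) (tt N98307 F461891) (tt N79442 F461892) (tt N75250 (iv6 F461896)) (tt N80333 F461893))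
theorem Q108289 : ∀ i, i < 108289 → P i := stepQ 108288 Q108288 (allL N108288 (tt N75253 F461901) (tt N75249 F461903) (tt N75250 F461897) (tt N73699 F461898) (tt N86853 F461899) (tt N82193 (iv5 F461902)) (tt N73698 (iv6 D211510)) (tt N75251 F461900))
theorem Q108290 : ∀ i, i < 108290 → P i := stepQ 108289 Q108289 (allL N108289 (tt N117157 F503678) (tt N73705 (iv0 D211511)) (tt N96610 (iv2 F461908)) (tt N96087 F461906) (tt N91448 F461905) (tt N96349 F461904) (tt N89916 F461907) (tt N96604 F461909))
theorem Q108291 : ∀ i, i < 108291 → P i := stepQ 108290 Q108290 (allL N108290 (tt N118918 (iv1 F512743)) (tt N120053 (iv0 F518790)) (tt N108223 F461910) (tt N87209 F461911) (tt N108220 F461913) (tt N73707 (iv5 D211512)) (tt N111634 (iv6 F477233)) (tt N88064 F461912))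
theorem Q108292 : ∀ i, i < 108292 → P i := stepQ 108291 Q108291 (allL N108291 (tt N105280 F461918) (tt N105277 F461919) (tt N99500 F461914) (tt N76127 F461915) (tt N73709 (iv4 D211513)) (tt N109492 (iv5 F467251)) (tt N76126 F461916) (tt N105279 F461917))
theorem Q108293 : ∀ i, i < 108293 → P i := stepQ 108292 Q108292 (allL N108292 (tt N114724 (iv1 F491544)) (tt N75570 (iv0 F461922)) (tt N85569 F461920) (tt N113848 (iv3 F487434)) (tt N94831 F461921) (tt N73709 (iv5 D211514)) (tt N117061 F503177) (tt N114723 (iv7 F491533)))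
theorem Q108294 : ∀ i, i < 108294 → P i := stepQ 108293 Q108293 (allL N108293 (tt N73711 (iv1 D211515)) (tt N99898 F461923) (tt N99900 F461929) (tt N84149 (iv3 F461927)) (tt N94652 F461926) (tt N80460 F461925) (tt N84145 (iv6 F461928)) (tt N99859 F461924))
theorem Q108295 : ∀ i, i < 108295 → P i := stepQ 108294 Q108294 (allL N108294 (tt N78933 F461935) (tt N78938 F461936) (tt N73722 F461930) (tt N96291 F461931) (tt N81459 F461932) (tt N73720 (iv5 D211516)) (tt N76492 F461933) (tt N73865 F461934))
theorem Q108296 : ∀ i, i < 108296 → P i := stepQ 108295 Q108295 (allL N108295 (tt N81441 F461941) (tt N77628 F461942) (tt N73725 F461937) (tt N74787 F461938) (tt N73724 (iv4 D211517)) (tt N109012 (iv5 F464920)) (tt N76298 F461939) (tt N73866 F461940))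
theorem Q108297 : ∀ i, i < 108297 → P i := stepQ 108296 Q108296 (allL N108296 (tt N112207 F480060) (tt N81253 (iv0 F461948)) (tt N95862 F461943) (tt N73728 F461944) (tt N81247 F461945) (tt N107708 F461946) (tt N73726 (iv6 D211518)) (tt N97699 (iv7 F461947)))
theorem Q108298 : ∀ i, i < 108298 → P i := stepQ 108297 Q108297 (allL N108297 (tt N110993 F474136) (tt N108985 (iv0 F464774)) (tt N109284 (iv2 F466179)) (tt N107708 F461949) (tt N99845 F461951) (tt N73728 (iv5 D211519)) (tt N107706 F461950) (tt N109283 (iv7 F466175)))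
theorem Q108299 : ∀ i, i < 108299 → P i := stepQ 108298 Q108298 (allL N108298 (tt N73790 F461956) (tt N93706 F461957) (tt N93332 F461952) (tt N96136 F461953) (tt N93325 F461954) (tt N91700 F461955) (tt N73730 (iv6 D211520)) (tt N108210 (iv7 F461958)))
theorem Q108300 : ∀ i, i < 108300 → P i := stepQ 108299 Q108299 (allL N108299 (tt N96163 F461961) (tt N101665 F461962) (tt N111374 (iv2 F476066)) (tt N73733 F461959) (tt N81143 F461960) (tt N111373 (iv5 F476065)) (tt N73732 (iv6 D211521)) (tt N112294 (iv7 F480406)))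
theorem Q108301 : ∀ i, i < 108301 → P i := stepQ 108300 Q108300 (allL N108300 (tt N111371 F476052) (tt N73733 (iv0 D211522)) (tt N117111 (iv2 F503450)) (tt N95159 F461964) (tt N108480 F462774) (tt N95158 F461963) (tt N112300 (iv6 F480436)) (tt N118304 (iv7 F509604)))
theorem Q108302 : ∀ i, i < 108302 → P i := stepQ 108301 Q108301 (allL N108301 (tt N118304 (iv1 F509603)) (tt N117111 (iv0 F503456)) (tt N111371 (iv2 F476047)) (tt N112294 (iv3 F480404)) (tt N91593 F461965) (tt N111370 F476046) (tt N91591 F461966) (tt N73733 (iv7 D211523)))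
theorem Q108303 : ∀ i, i < 108303 → P i := stepQ 108302 Q108302 (allL N108302 (tt N73738 (iv1 D211524)) (tt N92430 F461967) (tt N93700 F461971) (tt N92411 (iv3 F461970)) (tt N93804 F461969) (tt N118289 (iv5 F509541)) (tt N117848 (iv6 F507250)) (tt N93701 F461968))
theorem Q108304 : ∀ i, i < 108304 → P i := stepQ 108303 Q108303 (allL N108303 (tt N118034 (iv1 F508207)) (tt N108336 (iv0 F462130)) (tt N93704 F461972) (tt N73739 F461973) (tt N117909 (iv4 F507542)) (tt N73738 (iv5 D211525)) (tt N107848 F461986) (tt N93702 F461974))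
theorem Q108305 : ∀ i, i < 108305 → P i := stepQ 108304 Q108304 (allL N108304 (tt N95076 F461980) (tt N95082 F461981) (tt N93705 F461975) (tt N73740 F461976) (tt N73744 F461977) (tt N107720 (iv5 F461979)) (tt N73738 (iv6 D211526)) (tt N107863 F461978))
theorem Q108306 : ∀ i, i < 108306 → P i := stepQ 108305 Q108305 (allL N108305 (tt N118595 (iv1 F511074)) (tt N80643 (iv0 F461985)) (tt N120204 F519578) (tt N107848 (iv3 F461984)) (tt N105731 F461982) (tt N121680 D224939) (tt N73739 (iv6 D211527)) (tt N105730 F461983))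
theorem Q108307 : ∀ i, i < 108307 → P i := stepQ 108306 Q108306 (allL N108306 (tt N110585 (iv1 F472250)) (tt N110587 (iv0 F472253)) (tt N119259 (iv2 F514674)) (tt N107720 F461987) (tt N119261 (iv4 F514685)) (tt N73740 (iv5 D211528)) (tt N121680 (iv6 F527705)) (tt N107862 F461988))
theorem Q108308 : ∀ i, i < 108308 → P i := stepQ 108307 Q108307 (allL N108307 (tt N103084 F461991) (tt N73764 (iv0 F461992)) (tt N73988 F461989) (tt N118342 (iv3 F509802)) (tt N73751 F461990) (tt N108923 (iv5 F464500)) (tt N73750 (iv6 D211529)) (tt N107926 F461993))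
theorem Q108309 : ∀ i, i < 108309 → P i := stepQ 108308 Q108308 (allL N108308 (tt N121658 (iv1 F527592)) (tt N93796 (iv0 F461998)) (tt N118354 (iv2 F509869)) (tt N73752 (iv3 D211530)) (tt N99545 F461994) (tt N105370 F461995) (tt N107930 F461996) (tt N73765 F461997))
theorem Q108310 : ∀ i, i < 108310 → P i := stepQ 108309 Q108309 (allL N108309 (tt N73770 (iv1 F462001)) (tt N73754 (iv0 D211531)) (tt N73768 F462003) (tt N118705 (iv3 F511641)) (tt N91672 (iv4 F462002)) (tt N78233 F461999) (tt N95681 F462000) (tt N73769 F462004))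
theorem Q108311 : ∀ i, i < 108311 → P i := stepQ 108310 Q108310 (allL N108310 (tt N73754 (iv1 D211532)) (tt N73770 F462005) (tt N73769 F462011) (tt N95691 (iv3 F462008)) (tt N91673 (iv4 F462009)) (tt N78232 F462007) (tt N97832 (iv6 F462010)) (tt N73768 F462006))
theorem Q108312 : ∀ i, i < 108312 → P i := stepQ 108311 Q108311 (allL N108311 (tt N118354 F509873) (tt N73765 (iv0 F462015)) (tt N93796 F462012) (tt N95070 F462013) (tt N95971 F462014) (tt N95069 F462016) (tt N73758 (iv6 D211533)) (tt N121658 (iv7 F527590)))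
theorem Q108313 : ∀ i, i < 108313 → P i := stepQ 108312 Q108312 (allL N108312 (tt N94976 F462021) (tt N95467 F462022) (tt N101649 F462017) (tt N73761 F462018) (tt N95599 F462019) (tt N73760 (iv5 D211534)) (tt N119036 (iv6 F513410)) (tt N106096 F462020))
theorem Q108314 : ∀ i, i < 108314 → P i := stepQ 108313 Q108313 (allL N108313 (tt N112630 F481911) (tt N120538 F521334) (tt N118356 (iv2 F509883)) (tt N73764 F462023) (tt N119263 (iv4 F514695)) (tt N108982 (iv5 F464760)) (tt N73762 (iv6 D211535)) (tt N107927 (iv7 F462024)))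
theorem Q108315 : ∀ i, i < 108315 → P i := stepQ 108314 Q108314 (allL N108314 (tt N73766 (iv1 F462027)) (tt N73763 (iv0 D211536)) (tt N76885 (iv2 F462026)) (tt N91564 (iv3 F462029)) (tt N116513 (iv4 F500551)) (tt N76883 F462025) (tt N118720 (iv6 F511739)) (tt N77087 F462028))
theorem Q108316 : ∀ i, i < 108316 → P i := stepQ 108315 Q108315 (allL N108315 (tt N73765 (iv1 D211537)) (tt N118354 (iv0 F509872)) (tt N121658 (iv2 F527586)) (tt N93803 (iv3 F462032)) (tt N95979 (iv4 F462031)) (tt N118449 (iv5 F510425)) (tt N108015 F462033) (tt N93796 F462030))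
theorem Q108317 : ∀ i, i < 108317 → P i := stepQ 108316 Q108316 (allL N108316 (tt N93796 (iv1 F491562)) (tt N121658 (iv0 F527591)) (tt N73765 (iv2 D211538)) (tt N118350 (iv3 F509853)) (tt N119017 (iv4 F513305)) (tt N86340 F462034) (tt N121681 D224940) (tt N118354 (iv7 F509871)))
theorem Q108318 : ∀ i, i < 108318 → P i := stepQ 108317 Q108317 (allL N108317 (tt N120441 F520803) (tt N118026 (iv0 F508161)) (tt N121681 (iv2 F527708)) (tt N73767 F462035) (tt N107209 F462036) (tt N121165 (iv5 F524891)) (tt N73765 (iv6 D211539)) (tt N110194 (iv7 F470372)))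
theorem Q108319 : ∀ i, i < 108319 → P i := stepQ 108318 Q108318 (allL N108318 (tt N118248 (iv1 F509360)) (tt N95055 F462041) (tt N110196 (iv2 F470378)) (tt N121165 (iv3 F524889)) (tt N91576 F462040) (tt N73767 (iv5 D211540)) (tt N107218 F462038) (tt N103083 F462039))
theorem Q108320 : ∀ i, i < 108320 → P i := stepQ 108319 Q108319 (allL N108319 (tt N95069 F462044) (tt N118449 (iv0 F510427)) (tt N114504 (iv2 F490496)) (tt N73769 (iv3 D211541)) (tt N119076 (iv4 F513656)) (tt N103071 F462042) (tt N90156 F462043) (tt N118705 (iv7 F511644)))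
theorem Q108321 : ∀ i, i < 108321 → P i := stepQ 108320 Q108320 (allL N108320 (tt N92645 F462049) (tt N117407 (iv0 F504882)) (tt N87172 F462045) (tt N73776 (iv3 D211542)) (tt N73778 F462046) (tt N87719 F462047) (tt N79037 F462048) (tt N108971 (iv7 F464720)))
theorem Q108322 : ∀ i, i < 108322 → P i := stepQ 108321 Q108321 (allL N108321 (tt N118110 (iv1 F508658)) (tt N104022 (iv0 F462051)) (tt N115700 (iv2 F496390)) (tt N114916 (iv3 F492514)) (tt N87629 F462050) (tt N114905 (iv5 F492453)) (tt N73782 (iv6 D211543)) (tt N115023 (iv7 F493086)))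
theorem Q108323 : ∀ i, i < 108323 → P i := stepQ 108322 Q108322 (allL N108322 (tt N73787 (iv1 D211544)) (tt N77244 F462052) (tt N98409 F462056) (tt N85069 (iv3 F462055)) (tt N113147 (iv4 F484189)) (tt N98771 F462054) (tt N114965 (iv6 F492801)) (tt N85066 F462053))
theorem Q108324 : ∀ i, i < 108324 → P i := stepQ 108323 Q108323 (allL N108323 (tt N113333 (iv1 F485082)) (tt N102381 F462061) (tt N120399 (iv2 F520578)) (tt N92930 F462057) (tt N73787 (iv4 D211545)) (tt N77233 F462060) (tt N92929 F462058) (tt N98410 F462059))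
theorem Q108325 : ∀ i, i < 108325 → P i := stepQ 108324 Q108324 (allL N108324 (tt N117052 (iv1 F503136)) (tt N112177 (iv0 F479913)) (tt N81490 F462062) (tt N73789 (iv3 D211546)) (tt N76145 F462063) (tt N110187 (iv5 F470327)) (tt N97699 F462064) (tt N102878 F462065))
theorem Q108326 : ∀ i, i < 108326 → P i := stepQ 108325 Q108325 (allL N108325 (tt N93706 (iv1 F462070)) (tt N73790 (iv0 D211547)) (tt N108210 (iv2 F462069)) (tt N93709 F462067) (tt N93335 F462068) (tt N91701 F462066) (tt N96117 (iv6 F462072)) (tt N93332 F462071))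
theorem Q108327 : ∀ i, i < 108327 → P i := stepQ 108326 Q108326 (allL N108326 (tt N100082 F462073) (tt N100079 F462074) (tt N120136 (iv2 F519252)) (tt N108714 (iv3 F463662)) (tt N106501 (iv4 F462075)) (tt N73793 (iv5 D211548)) (tt N121562 F527054) (tt N118275 F509474))
theorem Q108328 : ∀ i, i < 108328 → P i := stepQ 108327 Q108327 (allL N108327 (tt N117500 (iv1 F505362)) (tt N81711 F462080) (tt N110200 (iv2 F470399)) (tt N95266 F462076) (tt N95056 F462077) (tt N73794 (iv5 D211549)) (tt N95265 F462078) (tt N100123 F462079))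
theorem Q108329 : ∀ i, i < 108329 → P i := stepQ 108328 Q108328 (allL N108328 (tt N107993 F462085) (tt N115801 (iv0 F496966)) (tt N104763 F462086) (tt N73797 (iv3 D211550)) (tt N104160 F462081) (tt N107988 F462082) (tt N104159 F462083) (tt N73884 F462084))
theorem Q108330 : ∀ i, i < 108330 → P i := stepQ 108329 Q108329 (allL N108329 (tt N98552 F462090) (tt N77358 F462091) (tt N73845 F462087) (tt N106994 F462088) (tt N109011 (iv4 F464911)) (tt N73798 (iv5 D211551)) (tt N73801 F462089) (tt N109689 (iv7 F468122)))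
theorem Q108331 : ∀ i, i < 108331 → P i := stepQ 108330 Q108330 (allL N108330 (tt N73801 (iv1 D211552)) (tt N73852 F462092) (tt N73850 F462097) (tt N90309 (iv3 F462095)) (tt N76396 F462094) (tt N112737 (iv5 F482442)) (tt N98735 (iv6 F462096)) (tt N73849 F462093))
theorem Q108332 : ∀ i, i < 108332 → P i := stepQ 108331 Q108331 (allL N108331 (tt N75852 F462102) (tt N75854 F462103) (tt N75899 F462098) (tt N86973 F462099) (tt N73805 F462100) (tt N106882 F462101) (tt N73804 (iv6 D211553)) (tt N75898 F462104))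
theorem Q108333 : ∀ i, i < 108333 → P i := stepQ 108332 Q108332 (allL N108332 (tt N73809 (iv1 D211554)) (tt N79624 F462105) (tt N101863 (iv2 F462110)) (tt N119379 (iv3 F515314)) (tt N92546 F462108) (tt N79791 F462107) (tt N102683 (iv6 F462109)) (tt N79876 F462106))
theorem Q108334 : ∀ i, i < 108334 → P i := stepQ 108333 Q108333 (allL N108333 (tt N108832 (iv1 F464163)) (tt N108047 (iv0 F462116)) (tt N99501 F462111) (tt N92449 F462112) (tt N77783 F462113) (tt N94246 F462115) (tt N73810 (iv6 D211555)) (tt N77780 F462114))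
theorem Q108335 : ∀ i, i < 108335 → P i := stepQ 108334 Q108334 (allL N108334 (tt N99752 F462121) (tt N92549 (iv0 F462122)) (tt N108972 (iv2 F464721)) (tt N102958 F462118) (tt N73814 F462119) (tt N103992 F462120) (tt N73813 (iv6 D211556)) (tt N109535 (iv7 F467419)))
theorem Q108336 : ∀ i, i < 108336 → P i := stepQ 108335 Q108335 (allL N108335 (tt N92549 F462125) (tt N99752 F462126) (tt N109535 F467417) (tt N87175 F462123) (tt N73816 (iv4 D211557)) (tt N119345 (iv5 F515128)) (tt N87173 F462124) (tt N108972 (iv7 F464723)))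
theorem Q108337 : ∀ i, i < 108337 → P i := stepQ 108336 Q108336 (allL N108336 (tt N108303 F462130) (tt N117848 F507252) (tt N118287 (iv2 F509527)) (tt N73818 (iv3 D211558)) (tt N92886 F462127) (tt N102305 F462128) (tt N76050 F462129) (tt N118288 (iv7 F509537)))
theorem Q108338 : ∀ i, i < 108338 → P i := stepQ 108337 Q108337 (allL N108337 (tt N92301 F462133) (tt N119851 (iv0 F517698)) (tt N120722 (iv2 F522348)) (tt N73819 (iv3 D211559)) (tt N110468 (iv4 F471719)) (tt N106431 F462131) (tt N89369 F462132) (tt N110459 (iv7 F471688)))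
theorem Q108339 : ∀ i, i < 108339 → P i := stepQ 108338 Q108338 (allL N108338 (tt N100325 F462138) (tt N92550 F462139) (tt N109010 (iv2 F464902)) (tt N79063 F462134) (tt N73820 (iv4 D211560)) (tt N107366 F462137) (tt N74449 F462135) (tt N100289 F462136))
theorem Q108340 : ∀ i, i < 108340 → P i := stepQ 108339 Q108339 (allL N108339 (tt N92550 F462144) (tt N100325 F462145) (tt N100289 F462140) (tt N91556 F462141) (tt N73821 (iv4 D211561)) (tt N107367 F462143) (tt N91555 F462142) (tt N109010 (iv7 F464906)))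
theorem Q108341 : ∀ i, i < 108341 → P i := stepQ 108340 Q108340 (allL N108340 (tt N75560 F462149) (tt N101803 F462150) (tt N108981 (iv2 F464752)) (tt N91561 F462146) (tt N107344 F462148) (tt N73821 (iv5 D211562)) (tt N100249 F462151) (tt N101759 F462147))
theorem Q108342 : ∀ i, i < 108342 → P i := stepQ 108341 Q108341 (allL N108341 (tt N107054 F462156) (tt N107055 F462157) (tt N90417 F462152) (tt N88804 F462153) (tt N73826 F462154) (tt N121527 (iv5 F526861)) (tt N73825 (iv6 D211563)) (tt N88802 F462155))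
theorem Q108343 : ∀ i, i < 108343 → P i := stepQ 108342 Q108342 (allL N108342 (tt N92418 F462162) (tt N92421 F462163) (tt N92420 F462158) (tt N99076 F462159) (tt N73832 (iv4 D211564)) (tt N107574 F462161) (tt N120120 (iv6 F519158)) (tt N92419 F462160))
theorem Q108344 : ∀ i, i < 108344 → P i := stepQ 108343 Q108343 (allL N108343 (tt N73835 (iv1 D211565)) (tt N89171 F462164) (tt N89173 F462168) (tt N90209 (iv3 F462167)) (tt N91754 (iv4 F462166)) (tt N112398 (iv5 F480931)) (tt N118511 (iv6 F510757)) (tt N89174 F462165))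
theorem Q108345 : ∀ i, i < 108345 → P i := stepQ 108344 Q108344 (allL N108344 (tt N77300 F462173) (tt N86928 (iv0 F462175)) (tt N105473 F462169) (tt N73838 F462170) (tt N90414 F462171) (tt N105179 F462174) (tt N73836 (iv6 D211566)) (tt N105393 F462172))
theorem Q108346 : ∀ i, i < 108346 → P i := stepQ 108345 Q108345 (allL N108345 (tt N101212 F462179) (tt N73838 (iv0 D211567)) (tt N117054 (iv2 F503144)) (tt N106544 (iv3 F462178)) (tt N100959 F462176) (tt N113460 (iv5 F485595)) (tt N107649 F462177) (tt N120372 (iv7 F520432)))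
theorem Q108347 : ∀ i, i < 108347 → P i := stepQ 108346 Q108346 (allL N108346 (tt N73838 (iv1 D211568)) (tt N101212 F462180) (tt N120372 (iv2 F520430)) (tt N84965 F489929) (tt N120280 F520000) (tt N107476 F485768) (tt N113182 F484358) (tt N117054 (iv7 F503147)))
theorem Q108348 : ∀ i, i < 108348 → P i := stepQ 108347 Q108347 (allL N108347 (tt N121131 (iv1 F524681)) (tt N121266 (iv0 F525468)) (tt N121420 (iv2 F526258)) (tt N105179 F462181) (tt N112712 (iv4 F482310)) (tt N73838 (iv5 D211569)) (tt N119949 (iv6 F518198)) (tt N121580 (iv7 F527141)))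
theorem Q108349 : ∀ i, i < 108349 → P i := stepQ 108348 Q108348 (allL N108348 (tt N120372 (iv1 F520435)) (tt N117054 (iv0 F503148)) (tt N101212 F462182) (tt N105393 F462183) (tt N84091 F462184) (tt N121580 (iv5 F527139)) (tt N105392 F462185) (tt N73838 (iv7 D211570)))
theorem Q108350 : ∀ i, i < 108350 → P i := stepQ 108349 Q108349 (allL N108349 (tt N116630 F501061) (tt N73841 (iv0 D211571)) (tt N88639 (iv2 F462187)) (tt N113134 (iv3 F484130)) (tt N105495 F462186) (tt N119695 (iv5 F516965)) (tt N88636 (iv6 F462188)) (tt N119901 (iv7 F517944)))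
theorem Q108351 : ∀ i, i < 108351 → P i := stepQ 108350 Q108350 (allL N108350 (tt N73841 (iv1 D211572)) (tt N116630 (iv0 F501060)) (tt N119901 (iv2 F517941)) (tt N88657 (iv3 F462190)) (tt N105496 (iv4 F462191)) (tt N119086 (iv5 F513716)) (tt N110856 (iv6 F473457)) (tt N88639 F462189))
theorem Q108352 : ∀ i, i < 108352 → P i := stepQ 108351 Q108351 (allL N108351 (tt N88639 (iv1 F462195)) (tt N119901 (iv0 F517945)) (tt N73841 (iv2 D211573)) (tt N104763 F462192) (tt N102556 F462193) (tt N116620 (iv5 F501008)) (tt N102555 (iv6 F462194)) (tt N116630 (iv7 F501059)))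
theorem Q108353 : ∀ i, i < 108353 → P i := stepQ 108352 Q108352 (allL N108352 (tt N105491 (iv1 F462203)) (tt N103288 (iv0 F462202)) (tt N102555 F462196) (tt N73842 F462197) (tt N102554 F462198) (tt N105420 (iv5 F462200)) (tt N73841 (iv6 D211574)) (tt N105448 (iv7 F462199)))
theorem Q108354 : ∀ i, i < 108354 → P i := stepQ 108353 Q108353 (allL N108353 (tt N78985 F462207) (tt N76353 (iv0 F462208)) (tt N76396 F462204) (tt N93099 F462205) (tt N73850 (iv4 D211575)) (tt N76317 F462209) (tt N78993 F462210) (tt N76399 F462206))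
theorem Q108355 : ∀ i, i < 108355 → P i := stepQ 108354 Q108354 (allL N108354 (tt N75563 F462215) (tt N73911 F462214) (tt N112737 (iv2 F482440)) (tt N89222 F462211) (tt N101864 F462213) (tt N73850 (iv5 D211576)) (tt N100257 F462216) (tt N90581 F462212))
theorem Q108356 : ∀ i, i < 108356 → P i := stepQ 108355 Q108355 (allL N108355 (tt N105292 F462221) (tt N108062 (iv0 F462222)) (tt N98735 F462217) (tt N90685 F462218) (tt N78993 F462219) (tt N112709 (iv5 F482290)) (tt N73850 (iv6 D211577)) (tt N78990 F462220))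
theorem Q108357 : ∀ i, i < 108357 → P i := stepQ 108356 Q108356 (allL N108356 (tt N105015 F462227) (tt N99738 F462228) (tt N87626 F462223) (tt N76401 F462224) (tt N74484 F462225) (tt N73851 (iv5 D211578)) (tt N76475 F462226) (tt N108802 (iv7 F464022)))
theorem Q108358 : ∀ i, i < 108358 → P i := stepQ 108357 Q108357 (allL N108357 (tt N73952 F462234) (tt N117093 F503341) (tt N73887 F462229) (tt N88030 F462230) (tt N76202 F462231) (tt N89123 F462232) (tt N73853 (iv6 D211579)) (tt N99459 F462233))
theorem Q108359 : ∀ i, i < 108359 → P i := stepQ 108358 Q108358 (allL N108358 (tt N117604 F505960) (tt N73859 (iv0 D211580)) (tt N111213 (iv2 F475249)) (tt N88527 F462237) (tt N98098 F462236) (tt N81491 F462235) (tt N76949 (iv6 F462238)) (tt N117247 (iv7 F504104)))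
theorem Q108360 : ∀ i, i < 108360 → P i := stepQ 108359 Q108359 (allL N108359 (tt N98167 F462243) (tt N98186 F462245) (tt N98185 F462239) (tt N73860 F462240) (tt N106162 F462244) (tt N73859 (iv5 D211581)) (tt N106161 F462241) (tt N98184 F462242))
theorem Q108361 : ∀ i, i < 108361 → P i := stepQ 108360 Q108360 (allL N108360 (tt N106165 F462247) (tt N110859 (iv0 F473476)) (tt N108392 (iv2 F462382)) (tt N106161 F462246) (tt N110319 (iv4 F471023)) (tt N119230 (iv5 F514493)) (tt N73860 (iv6 D211582)) (tt N110318 (iv7 F471020)))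
theorem Q108362 : ∀ i, i < 108362 → P i := stepQ 108361 Q108361 (allL N108361 (tt N75566 F462252) (tt N75561 F462253) (tt N76395 F462248) (tt N118046 (iv3 F508270)) (tt N76317 F462249) (tt N73867 (iv5 D211583)) (tt N104211 F462250) (tt N76398 F462251))
theorem Q108363 : ∀ i, i < 108363 → P i := stepQ 108362 Q108362 (allL N108362 (tt N109609 (iv1 F467721)) (tt N92596 F462258) (tt N73878 F462254) (tt N105059 F462255) (tt N99536 F462257) (tt N73868 (iv5 D211584)) (tt N99418 F462256) (tt N121041 (iv7 F524176)))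
theorem Q108364 : ∀ i, i < 108364 → P i := stepQ 108363 Q108363 (allL N108363 (tt N73877 (iv1 F462263)) (tt N73876 F462264) (tt N73879 F462259) (tt N99531 F462260) (tt N73870 F462261) (tt N121041 (iv5 F524174)) (tt N79083 F462262) (tt N73868 (iv7 D211585)))
theorem Q108365 : ∀ i, i < 108365 → P i := stepQ 108364 Q108364 (allL N108364 (tt N105050 (iv1 F462268)) (tt N73872 (iv0 D211586)) (tt N114317 (iv2 F489561)) (tt N90020 F462267) (tt N83147 F462266) (tt N90019 F462265) (tt N83146 (iv6 F462269)) (tt N121412 (iv7 F526219)))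
theorem Q108366 : ∀ i, i < 108366 → P i := stepQ 108365 Q108365 (allL N108365 (tt N73872 (iv1 D211587)) (tt N105050 F462270) (tt N121412 F526217) (tt N95929 (iv3 F462272)) (tt N114318 (iv4 F489570)) (tt N95928 F462271) (tt N110178 (iv6 F470292)) (tt N114317 (iv7 F489565)))
theorem Q108367 : ∀ i, i < 108367 → P i := stepQ 108366 Q108366 (allL N108366 (tt N85926 F462278) (tt N82928 (iv0 F462279)) (tt N85924 F462273) (tt N73878 F462274) (tt N97981 F462277) (tt N73873 (iv5 D211588)) (tt N107486 F462275) (tt N85925 F462276))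
theorem Q108368 : ∀ i, i < 108368 → P i := stepQ 108367 Q108367 (allL N108367 (tt N116375 F499775) (tt N121682 D224941) (tt N121683 D224942) (tt N73874 (iv3 D211589)) (tt N116733 F501555) (tt N85579 F462280) (tt N107322 F462281) (tt N114665 (iv7 F491276)))
theorem Q108369 : ∀ i, i < 108369 → P i := stepQ 108368 Q108368 (allL N108368 (tt N108077 F462285) (tt N108063 F462286) (tt N99546 F462282) (tt N109795 (iv3 F468647)) (tt N89692 F462284) (tt N73876 (iv5 D211590)) (tt N101091 F462287) (tt N99549 F462283))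
theorem Q108370 : ∀ i, i < 108370 → P i := stepQ 108369 Q108369 (allL N108369 (tt N101186 F462293) (tt N108439 (iv0 F462569)) (tt N99547 F462288) (tt N100845 F462289) (tt N80394 F462290) (tt N100844 F462291) (tt N73876 (iv6 D211591)) (tt N107214 F462292))
theorem Q108371 : ∀ i, i < 108371 → P i := stepQ 108370 Q108370 (allL N108370 (tt N108063 F462297) (tt N108077 F462298) (tt N99549 F462294) (tt N119070 (iv3 F513622)) (tt N89691 F462295) (tt N73877 (iv5 D211592)) (tt N120173 (iv6 F519429)) (tt N99546 F462296))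
theorem Q108372 : ∀ i, i < 108372 → P i := stepQ 108371 Q108371 (allL N108371 (tt N92596 (iv1 F462302)) (tt N109609 (iv0 F467720)) (tt N121041 (iv2 F524172)) (tt N85925 F462299) (tt N108060 F462300) (tt N73879 F462301) (tt N120277 (iv6 F519978)) (tt N73878 (iv7 D211593)))
theorem Q108373 : ∀ i, i < 108373 → P i := stepQ 108372 Q108372 (allL N108372 (tt N109377 (iv1 F466659)) (tt N99995 (iv0 F462304)) (tt N109376 (iv2 F466654)) (tt N96689 F462303) (tt N114539 (iv4 F490670)) (tt N73882 (iv5 D211594)) (tt N121076 (iv6 F524388)) (tt N109375 F466649))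
theorem Q108374 : ∀ i, i < 108374 → P i := stepQ 108373 Q108373 (allL N108373 (tt N83968 (iv1 F462309)) (tt N83966 F462311) (tt N105900 F462305) (tt N105781 F462306) (tt N73883 F462307) (tt N87583 (iv5 F462310)) (tt N73882 (iv6 D211595)) (tt N105896 F462308))
theorem Q108375 : ∀ i, i < 108375 → P i := stepQ 108374 Q108374 (allL N108374 (tt N73884 (iv1 D211596)) (tt N104763 (iv0 F462314)) (tt N107993 (iv2 F462315)) (tt N77238 (iv3 F462312)) (tt N114967 (iv4 F492813)) (tt N113291 (iv5 F484878)) (tt N77216 (iv6 F462313)) (tt N115801 (iv7 F496965)))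
theorem Q108376 : ∀ i, i < 108376 → P i := stepQ 108375 Q108375 (allL N108375 (tt N115801 F496967) (tt N107993 F462319) (tt N73884 (iv2 D211597)) (tt N116630 (iv3 F501056)) (tt N104172 F462316) (tt N107966 F462317) (tt N113103 (iv6 F483982)) (tt N104763 F462318))
theorem Q108377 : ∀ i, i < 108377 → P i := stepQ 108376 Q108376 (allL N108376 (tt N114326 (iv1 F489625)) (tt N87038 (iv0 F462323)) (tt N113103 (iv2 F483981)) (tt N73885 F462320) (tt N105781 F462321) (tt N86287 F462322) (tt N73884 (iv6 D211598)) (tt N113854 (iv7 F487468)))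
theorem Q108378 : ∀ i, i < 108378 → P i := stepQ 108377 Q108377 (allL N108377 (tt N116974 (iv1 F517589)) (tt N106827 (iv0 F462326)) (tt N106065 F462324) (tt N73893 F462325) (tt N119079 (iv4 F513674)) (tt N112939 F483314) (tt N73891 (iv6 D211599)) (tt N116972 (iv7 F502771)))
theorem Q108379 : ∀ i, i < 108379 → P i := stepQ 108378 Q108378 (allL N108378 (tt N110329 (iv1 F471080)) (tt N94344 F462329) (tt N117817 (iv2 F507103)) (tt N73895 F462327) (tt N95321 F462328) (tt N73892 (iv5 D211600)) (tt N112939 (iv6 F483316)) (tt N118532 (iv7 F510823)))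
theorem Q108380 : ∀ i, i < 108380 → P i := stepQ 108379 Q108379 (allL N108379 (tt N73921 (iv1 F462338)) (tt N73893 (iv0 D211601)) (tt N73918 (iv2 F462331)) (tt N121684 D224943) (tt N113302 (iv4 F484925)) (tt N121269 (iv5 F525486)) (tt N106903 F462330) (tt N73919 (iv7 F462332)))
theorem Q108381 : ∀ i, i < 108381 → P i := stepQ 108380 Q108380 (allL N108380 (tt N73893 (iv1 D211602)) (tt N73921 F462333) (tt N73919 (iv2 F462337)) (tt N107278 F462336) (tt N113301 (iv4 F484917)) (tt N121268 (iv5 F525478)) (tt N106061 (iv6 F462335)) (tt N73918 F462334))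
theorem Q108382 : ∀ i, i < 108382 → P i := stepQ 108381 Q108381 (allL N108381 (tt N106552 F462341) (tt N106549 (iv0 F462342)) (tt N73920 F462339) (tt N112939 (iv3 F483315)) (tt N119975 (iv4 F518343)) (tt N73893 (iv5 D211603)) (tt N73895 F462340) (tt N120363 (iv7 F520382)))
theorem Q108383 : ∀ i, i < 108383 → P i := stepQ 108382 Q108382 (allL N108382 (tt N73919 (iv1 F462345)) (tt N73918 F462346) (tt N73921 F462343) (tt N116972 (iv3 F502773)) (tt N116548 (iv4 F500706)) (tt N120363 (iv5 F520381)) (tt N106289 F462344) (tt N73893 (iv7 D211604)))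
theorem Q108384 : ∀ i, i < 108384 → P i := stepQ 108383 Q108383 (allL N108383 (tt N76389 F462350) (tt N121098 (iv0 F524504)) (tt N111124 (iv2 F474791)) (tt N73894 (iv3 D211605)) (tt N79087 F462347) (tt N120170 F519411) (tt N76354 F462348) (tt N73922 F462349))
theorem Q108385 : ∀ i, i < 108385 → P i := stepQ 108384 Q108384 (allL N108384 (tt N100368 F462353) (tt N110505 (iv0 F471889)) (tt N73926 F462351) (tt N120170 F519410) (tt N111827 (iv4 F478177)) (tt N73894 (iv5 D211606)) (tt N121335 (iv6 F525836)) (tt N73923 F462352))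
theorem Q108386 : ∀ i, i < 108386 → P i := stepQ 108385 Q108385 (allL N108385 (tt N73895 (iv1 D211607)) (tt N73931 F462354) (tt N73929 (iv2 F462357)) (tt N109706 (iv3 F468215)) (tt N119949 (iv4 F518197)) (tt N79122 F462356) (tt N112712 (iv6 F482308)) (tt N73928 F462355))
theorem Q108387 : ∀ i, i < 108387 → P i := stepQ 108386 Q108386 (allL N108386 (tt N73929 (iv1 F462361)) (tt N73928 F462362) (tt N73931 F462358) (tt N118532 (iv3 F510825)) (tt N107057 F462359) (tt N73896 F462360) (tt N116818 F501993) (tt N73895 (iv7 D211608)))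
theorem Q108388 : ∀ i, i < 108388 → P i := stepQ 108387 Q108387 (allL N108387 (tt N109552 (iv1 F467482)) (tt N92600 F462366) (tt N73937 F462363) (tt N100574 F462364) (tt N120183 (iv4 F519478)) (tt N73897 (iv5 D211609)) (tt N121622 F527388) (tt N73941 F462365))
theorem Q108389 : ∀ i, i < 108389 → P i := stepQ 108388 Q108388 (allL N108388 (tt N109413 F466846) (tt N113720 (iv0 F486827)) (tt N104327 F462367) (tt N73899 (iv3 D211610)) (tt N113723 (iv4 F486841)) (tt N113742 (iv5 F486905)) (tt N104324 F462368) (tt N73936 F462369))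
theorem Q108390 : ∀ i, i < 108390 → P i := stepQ 108389 Q108389 (allL N108389 (tt N92600 F462374) (tt N109552 (iv0 F467481)) (tt N73941 F462370) (tt N113742 F486909) (tt N106864 F462373) (tt N73899 (iv5 D211611)) (tt N105234 F462371) (tt N73937 F462372))
theorem Q108391 : ∀ i, i < 108391 → P i := stepQ 108390 Q108390 (allL N108390 (tt N116740 (iv1 F501585)) (tt N110865 (iv0 F473510)) (tt N109555 (iv2 F467496)) (tt N113016 (iv3 F483566)) (tt N117187 (iv4 F503823)) (tt N73901 (iv5 D211612)) (tt N113015 F483564) (tt N109557 (iv7 F467506)))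
theorem Q108392 : ∀ i, i < 108392 → P i := stepQ 108391 Q108391 (allL N108391 (tt N101108 F462379) (tt N101107 (iv0 F462380)) (tt N82188 F462375) (tt N90481 F462376) (tt N77320 F462377) (tt N78170 F462378) (tt N73903 (iv6 D211613)) (tt N77319 F462381))
theorem Q108393 : ∀ i, i < 108393 → P i := stepQ 108392 Q108392 (allL N108392 (tt N107114 F462385) (tt N89637 (iv0 F462386)) (tt N108360 F462382) (tt N104963 F462383) (tt N109727 (iv4 F468308)) (tt N105426 F462387) (tt N73904 (iv6 D211614)) (tt N105641 F462384))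
theorem Q108394 : ∀ i, i < 108394 → P i := stepQ 108393 Q108393 (allL N108393 (tt N93507 F462391) (tt N98943 F462392) (tt N98897 F462388) (tt N112680 F482141) (tt N73906 (iv4 D211615)) (tt N93491 F462389) (tt N120532 (iv6 F521297)) (tt N98899 F462390))
theorem Q108395 : ∀ i, i < 108395 → P i := stepQ 108394 Q108394 (allL N108394 (tt N107409 (iv1 F462396)) (tt N73907 (iv0 D211616)) (tt N120112 F519113) (tt N106942 (iv3 F462397)) (tt N116857 (iv4 F502201)) (tt N105580 F462394) (tt N106941 F462395) (tt N120113 (iv7 F519116)))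
theorem Q108396 : ∀ i, i < 108396 → P i := stepQ 108395 Q108395 (allL N108395 (tt N73907 (iv1 D211617)) (tt N107409 F462398) (tt N120113 F519120) (tt N121305 (iv3 F525659)) (tt N113430 F485465) (tt N116738 (iv5 F501572)) (tt N121685 D224944) (tt N120112 F519114))
theorem Q108397 : ∀ i, i < 108397 → P i := stepQ 108396 Q108396 (allL N108396 (tt N73922 (iv1 F462402)) (tt N111124 (iv0 F474795)) (tt N76389 F462399) (tt N78339 F462400) (tt N76316 F462401) (tt N121686 D224945) (tt N73909 (iv6 D211618)) (tt N121098 (iv7 F524503)))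
theorem Q108398 : ∀ i, i < 108398 → P i := stepQ 108397 Q108397 (allL N108397 (tt N106176 (iv1 F462408)) (tt N100601 (iv0 F462407)) (tt N80020 F462403) (tt N73912 (iv3 D211619)) (tt N118414 (iv4 F510222)) (tt N80019 F462404) (tt N106049 F462405) (tt N106173 F462406))
theorem Q108399 : ∀ i, i < 108399 → P i := stepQ 108398 Q108398 (allL N108398 (tt N106615 (iv1 F462414)) (tt N73913 (iv0 D211620)) (tt N77251 (iv2 F462412)) (tt N90167 F462410) (tt N119999 (iv4 F518474)) (tt N77248 F462409) (tt N89128 F462411) (tt N106610 F462413))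
theorem Q108400 : ∀ i, i < 108400 → P i := stepQ 108399 Q108399 (allL N108399 (tt N106610 (iv1 F462420)) (tt N77251 F462421) (tt N106615 F462415) (tt N89149 F462416) (tt N89997 F462417) (tt N94150 F462418) (tt N106000 F462419) (tt N73913 (iv7 D211621)))
theorem Q108401 : ∀ i, i < 108401 → P i := stepQ 108400 Q108400 (allL N108400 (tt N73914 (iv1 D211622)) (tt N106000 F462422) (tt N106002 (iv2 F462424)) (tt N106520 (iv3 F462425)) (tt N107400 (iv4 F462426)) (tt N116736 (iv5 F501566)) (tt N106207 (iv6 F462427)) (tt N105999 F462423))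
theorem Q108402 : ∀ i, i < 108402 → P i := stepQ 108401 Q108401 (allL N108401 (tt N106002 (iv1 F462431)) (tt N105999 F462432) (tt N106000 F462428) (tt N106565 F462429) (tt N118767 (iv4 F511972)) (tt N119998 (iv5 F518470)) (tt N106615 F462430) (tt N73914 (iv7 D211623)))
theorem Q108403 : ∀ i, i < 108403 → P i := stepQ 108402 Q108402 (allL N108402 (tt N73917 (iv1 D211624)) (tt N116548 F500709) (tt N107957 (iv2 F462435)) (tt N114618 (iv3 F499874)) (tt N101620 (iv4 F462433)) (tt N119975 (iv5 F518342)) (tt N101619 F462434) (tt N116549 (iv7 F500711)))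
theorem Q108404 : ∀ i, i < 108404 → P i := stepQ 108403 Q108403 (allL N108403 (tt N121270 (iv1 F525495)) (tt N121333 (iv0 F525827)) (tt N121344 F525874) (tt N78117 F462436) (tt N121687 D224946) (tt N73917 (iv5 D211625)) (tt N120973 (iv6 F523794)) (tt N116550 (iv7 F500719)))
theorem Q108405 : ∀ i, i < 108405 → P i := stepQ 108404 Q108404 (allL N108404 (tt N105020 (iv1 F462442)) (tt N80087 (iv0 F462441)) (tt N108090 (iv2 F462440)) (tt N73918 (iv3 D211626)) (tt N76221 F462439) (tt N117187 (iv5 F503822)) (tt N108243 F462437) (tt N107278 F462438))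
theorem Q108406 : ∀ i, i < 108406 → P i := stepQ 108405 Q108405 (allL N108405 (tt N89027 F462445) (tt N113303 F484928) (tt N113302 (iv2 F484923)) (tt N77697 F462443) (tt N73918 (iv4 D211627)) (tt N121688 D224947) (tt N77315 F462444) (tt N113301 F484919))
theorem Q108407 : ∀ i, i < 108407 → P i := stepQ 108406 Q108406 (allL N108406 (tt N100059 F462457) (tt N100087 (iv0 F462456)) (tt N108436 (iv2 F462553)) (tt N73919 (iv3 D211628)) (tt N100070 (iv4 F462455)) (tt N100074 F462453) (tt N106833 (iv6 F462454)) (tt N121684 (iv7 F527730)))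
theorem Q108408 : ∀ i, i < 108408 → P i := stepQ 108407 Q108407 (allL N108407 (tt N113303 (iv1 F484929)) (tt N89027 (iv0 F462446)) (tt N113301 (iv2 F484920)) (tt N119953 (iv3 F518223)) (tt N73919 (iv4 D211629)) (tt N121689 D224948) (tt N119951 F518213) (tt N113302 (iv7 F484921)))
theorem Q108409 : ∀ i, i < 108409 → P i := stepQ 108408 Q108408 (allL N108408 (tt N98999 (iv1 F462450)) (tt N106060 F462451) (tt N106061 F462447) (tt N106833 (iv3 F462449)) (tt N119951 (iv4 F518212)) (tt N110290 (iv5 F470869)) (tt N73919 (iv6 D211631)) (tt N106062 F462448))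
theorem Q108410 : ∀ i, i < 108410 → P i := stepQ 108409 Q108409 (allL N108409 (tt N120363 (iv1 F520384)) (tt N73920 (iv0 D211632)) (tt N106552 (iv2 F462459)) (tt N89191 (iv3 F462460)) (tt N110156 (iv4 F470209)) (tt N89187 F462458) (tt N110144 (iv6 F470162)) (tt N106549 (iv7 F462461)))
theorem Q108411 : ∀ i, i < 108411 → P i := stepQ 108410 Q108410 (allL N108410 (tt N73920 (iv1 D211633)) (tt N120363 F520383) (tt N106549 F462465) (tt N100057 (iv3 F462463)) (tt N121690 D224949) (tt N106181 (iv5 F462464)) (tt N121449 (iv6 F526438)) (tt N106552 F462462))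
theorem Q108412 : ∀ i, i < 108412 → P i := stepQ 108411 Q108411 (allL N108411 (tt N119971 F518328) (tt N110870 (iv0 F473540)) (tt N119975 (iv2 F518345)) (tt N121522 (iv3 F526841)) (tt N73920 (iv4 D211634)) (tt N107957 (iv5 F462467)) (tt N73930 F462466) (tt N119974 F518340))
theorem Q108413 : ∀ i, i < 108413 → P i := stepQ 108412 Q108412 (allL N108412 (tt N106549 (iv1 F462470)) (tt N106552 F462471) (tt N120363 (iv2 F520379)) (tt N90721 F462468) (tt N119974 (iv4 F518336)) (tt N73921 F462469) (tt N116817 F501989) (tt N73920 (iv7 D211635)))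
theorem Q108414 : ∀ i, i < 108414 → P i := stepQ 108413 Q108413 (allL N108413 (tt N111124 F474797) (tt N73922 (iv0 D211636)) (tt N121098 (iv2 F524500)) (tt N113709 (iv3 F486761)) (tt N76394 F462472) (tt N121691 D224950) (tt N100767 (iv6 F462473)) (tt N76389 (iv7 F462474)))
theorem Q108415 : ∀ i, i < 108415 → P i := stepQ 108414 Q108414 (allL N108414 (tt N121098 F524505) (tt N76389 F462476) (tt N73922 (iv2 D211637)) (tt N75642 F462475) (tt N109679 (iv4 F468069)) (tt N120169 (iv5 F519400)) (tt N75640 (iv6 F462477)) (tt N111124 (iv7 F474794)))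
theorem Q108416 : ∀ i, i < 108416 → P i := stepQ 108415 Q108415 (allL N108415 (tt N113602 F486254) (tt N76341 F462480) (tt N120169 F519404) (tt N73923 F462478) (tt N105236 F462479) (tt N73922 (iv5 D211638)) (tt N113005 (iv6 F483524)) (tt N120170 (iv7 F519408)))
theorem Q108417 : ∀ i, i < 108417 → P i := stepQ 108416 Q108416 (allL N108416 (tt N111300 (iv1 F475705)) (tt N111298 (iv0 F475695)) (tt N75640 F462481) (tt N73924 F462482) (tt N84711 F462483) (tt N120404 (iv5 F520604)) (tt N73922 (iv6 D211639)) (tt N111265 (iv7 F475522)))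
theorem Q108418 : ∀ i, i < 108418 → P i := stepQ 108417 Q108417 (allL N108417 (tt N73926 (iv1 F462485)) (tt N73923 (iv0 D211640)) (tt N110505 (iv2 F471887)) (tt N113365 (iv3 F485191)) (tt N106491 (iv4 F462487)) (tt N75973 F462484) (tt N113363 F485185) (tt N100368 F462486))
theorem Q108419 : ∀ i, i < 108419 → P i := stepQ 108418 Q108418 (allL N108418 (tt N116451 (iv1 F500195)) (tt N113598 (iv0 F486235)) (tt N111834 (iv2 F478210)) (tt N82675 F462488) (tt N73923 (iv4 D211641)) (tt N75961 F462489) (tt N113006 (iv6 F483532)) (tt N111827 (iv7 F478176)))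
theorem Q108420 : ∀ i, i < 108420 → P i := stepQ 108419 Q108419 (allL N108419 (tt N107638 F462490) (tt N121261 F525442) (tt N111835 (iv2 F478216)) (tt N113005 (iv3 F483527)) (tt N113006 (iv4 F483530)) (tt N121692 D224951) (tt N73923 (iv6 D211642)) (tt N121693 D224952))
theorem Q108421 : ∀ i, i < 108421 → P i := stepQ 108420 Q108420 (allL N108420 (tt N108060 F462494) (tt N99536 F462495) (tt N75649 F462491) (tt N120404 (iv3 F520605)) (tt N88876 F462492) (tt N73924 (iv5 D211643)) (tt N121692 (iv6 F527778)) (tt N88874 F462493))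
theorem Q108422 : ∀ i, i < 108422 → P i := stepQ 108421 Q108421 (allL N108421 (tt N73925 (iv1 D211644)) (tt N75642 F462496) (tt N75653 (iv2 F462501)) (tt N85809 F462500) (tt N102947 F462498) (tt N113486 (iv5 F485722)) (tt N85808 (iv6 F462499)) (tt N75654 F462497))
theorem Q108423 : ∀ i, i < 108423 → P i := stepQ 108422 Q108422 (allL N108422 (tt N119627 (iv1 F516591)) (tt N121332 (iv0 F525821)) (tt N121335 F525838) (tt N113988 (iv3 F488077)) (tt N109734 (iv4 F468342)) (tt N105883 F462502) (tt N73926 (iv6 D211645)) (tt N121336 (iv7 F525840)))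
theorem Q108424 : ∀ i, i < 108424 → P i := stepQ 108423 Q108423 (allL N108423 (tt N121691 (iv1 F527775)) (tt N121686 (iv0 F527743)) (tt N109708 (iv2 F468224)) (tt N73928 (iv3 D211646)) (tt N105237 (iv4 F468033)) (tt N76274 F462503) (tt N116756 (iv6 F501660)) (tt N109706 (iv7 F468216)))
theorem Q108425 : ∀ i, i < 108425 → P i := stepQ 108424 Q108424 (allL N108424 (tt N116816 F501985) (tt N120132 (iv0 F519232)) (tt N90731 F462504) (tt N90357 (iv3 F462506)) (tt N73928 (iv4 D211647)) (tt N89190 F462505) (tt N112969 (iv6 F483398)) (tt N119949 (iv7 F518199)))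
theorem Q108426 : ∀ i, i < 108426 → P i := stepQ 108425 Q108425 (allL N108425 (tt N120132 F519233) (tt N116816 (iv0 F501984)) (tt N119949 (iv2 F518195)) (tt N89249 F462507) (tt N73929 (iv4 D211649)) (tt N89189 F462508) (tt N121420 (iv6 F526260)) (tt N90731 F462509))
theorem Q108427 : ∀ i, i < 108427 → P i := stepQ 108426 Q108426 (allL N108426 (tt N113986 F488071) (tt N86028 (iv0 F478590)) (tt N112099 (iv2 F479483)) (tt N73930 (iv3 D211650)) (tt N88571 (iv4 F462510)) (tt N111908 (iv5 F478588)) (tt N121522 F526840) (tt N113985 (iv7 F488064)))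
theorem Q108428 : ∀ i, i < 108428 → P i := stepQ 108427 Q108427 (allL N108427 (tt N76220 (iv1 F462517)) (tt N106862 F462516) (tt N106863 F462512) (tt N111908 (iv3 F478585)) (tt N75960 F462513) (tt N73930 (iv5 D211651)) (tt N106906 F462514) (tt N103182 F462515))
theorem Q108429 : ∀ i, i < 108429 → P i := stepQ 108428 Q108428 (allL N108428 (tt N110865 (iv1 F473511)) (tt N116740 (iv0 F501584)) (tt N109557 (iv2 F467505)) (tt N84164 F462518) (tt N108437 (iv4 F462557)) (tt N73935 (iv5 D211652)) (tt N116444 (iv6 F500149)) (tt N109555 (iv7 F467498)))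
theorem Q108430 : ∀ i, i < 108430 → P i := stepQ 108429 Q108429 (allL N108429 (tt N106491 F462521) (tt N106493 F462522) (tt N120183 (iv2 F519477)) (tt N106294 F462523) (tt N73937 (iv4 D211653)) (tt N76220 F462520) (tt N121694 D224953) (tt N106864 F462519))
theorem Q108431 : ∀ i, i < 108431 → P i := stepQ 108430 Q108430 (allL N108430 (tt N107472 F473513) (tt N112890 F483158) (tt N121622 (iv2 F527389)) (tt N116176 (iv3 F498875)) (tt N121694 (iv4 F527790)) (tt N116730 (iv5 F501541)) (tt N73937 (iv6 D211654)) (tt N121621 F527383))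
theorem Q108432 : ∀ i, i < 108432 → P i := stepQ 108431 Q108431 (allL N108431 (tt N107483 F462525) (tt N99414 F462526) (tt N95995 F462524) (tt N114012 (iv3 F488194)) (tt N109609 (iv4 F467719)) (tt N73938 (iv5 D211655)) (tt N116730 F501539) (tt N107482 (iv7 F462527)))
theorem Q108433 : ∀ i, i < 108433 → P i := stepQ 108432 Q108432 (allL N108432 (tt N91114 (iv1 F462533)) (tt N99449 F462534) (tt N105080 F462528) (tt N91021 F462529) (tt N73940 F462530) (tt N107482 F462531) (tt N105077 F462532) (tt N73938 (iv7 D211656)))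
theorem Q108434 : ∀ i, i < 108434 → P i := stepQ 108433 Q108433 (allL N108433 (tt N106493 F462538) (tt N106491 F462539) (tt N106864 F462535) (tt N114042 F488325) (tt N73941 (iv4 D211657)) (tt N106862 F462536) (tt N105238 F462537) (tt N120183 (iv7 F519479)))
theorem Q108435 : ∀ i, i < 108435 → P i := stepQ 108434 Q108434 (allL N108434 (tt N100098 F462544) (tt N110584 F472246) (tt N108046 F462540) (tt N92553 F462541) (tt N97214 F462542) (tt N73943 (iv5 D211658)) (tt N92551 (iv6 F462545)) (tt N94240 F462543))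
theorem Q108436 : ∀ i, i < 108436 → P i := stepQ 108435 Q108435 (allL N108435 (tt N99501 (iv1 F462551)) (tt N77780 (iv0 F462550)) (tt N108047 F462546) (tt N92555 F462547) (tt N73945 F462548) (tt N92552 F462549) (tt N73943 (iv6 D211659)) (tt N108832 (iv7 F464164)))
theorem Q108437 : ∀ i, i < 108437 → P i := stepQ 108436 Q108436 (allL N108436 (tt N120117 (iv1 F519142)) (tt N120119 (iv0 F519152)) (tt N108406 F462553) (tt N73947 F462554) (tt N92555 F462555) (tt N110098 (iv5 F469977)) (tt N73946 (iv6 D211660)) (tt N117095 (iv7 F503349)))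
theorem Q108438 : ∀ i, i < 108438 → P i := stepQ 108437 Q108437 (allL N108437 (tt N119949 (iv1 F518201)) (tt N90731 F462558) (tt N116816 (iv2 F501981)) (tt N110098 (iv3 F469974)) (tt N108428 F462557) (tt N73947 (iv5 D211661)) (tt N89165 F462556) (tt N120132 (iv7 F519231)))
theorem Q108439 : ∀ i, i < 108439 → P i := stepQ 108438 Q108438 (allL N108438 (tt N106752 F462563) (tt N119104 (iv0 F513813)) (tt N110322 (iv2 F471040)) (tt N73949 (iv3 D211662)) (tt N73951 F462559) (tt N73952 F462560) (tt N89166 F462561) (tt N108056 F462562))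
theorem Q108440 : ∀ i, i < 108440 → P i := stepQ 108439 Q108439 (allL N108439 (tt N108369 F462569) (tt N109472 (iv0 F467147)) (tt N107938 F462564) (tt N77315 F462565) (tt N73954 (iv4 D211663)) (tt N77314 F462568) (tt N77697 F462566) (tt N107939 F462567))
theorem Q108441 : ∀ i, i < 108441 → P i := stepQ 108440 Q108440 (allL N108440 (tt N83915 (iv1 F462572)) (tt N73955 (iv0 D211664)) (tt N83917 (iv2 F462571)) (tt N78367 (iv3 F462574)) (tt N80638 F462570) (tt N105741 (iv5 F462576)) (tt N80636 (iv6 F462575)) (tt N83914 F462573))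
theorem Q108442 : ∀ i, i < 108442 → P i := stepQ 108441 Q108441 (allL N108441 (tt N103812 F462581) (tt N84125 (iv0 F462582)) (tt N82748 F462578) (tt N73957 F462579) (tt N110054 (iv4 F469753)) (tt N77341 F462580) (tt N73956 (iv6 D211665)) (tt N113030 (iv7 F483623)))
theorem Q108443 : ∀ i, i < 108443 → P i := stepQ 108442 Q108442 (allL N108442 (tt N76759 F462588) (tt N76741 F462589) (tt N76760 F462583) (tt N89459 F462584) (tt N75916 F462585) (tt N73958 (iv5 D211666)) (tt N75660 F462586) (tt N76586 F462587))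
theorem Q108444 : ∀ i, i < 108444 → P i := stepQ 108443 Q108443 (allL N108443 (tt N78373 F462595) (tt N75768 (iv0 F462596)) (tt N77444 F462590) (tt N73959 (iv3 D211667)) (tt N74975 F462591) (tt N99577 F462592) (tt N77177 F462593) (tt N74837 F462594))
theorem Q108445 : ∀ i, i < 108445 → P i := stepQ 108444 Q108444 (allL N108444 (tt N109801 (iv1 F468686)) (tt N98418 F462601) (tt N86317 F462597) (tt N98608 F462598) (tt N82933 F462599) (tt N73961 (iv5 D211668)) (tt N114905 (iv6 F492455)) (tt N86314 F462600))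
theorem Q108446 : ∀ i, i < 108446 → P i := stepQ 108445 Q108445 (allL N108445 (tt N87553 (iv1 F462608)) (tt N87139 (iv0 F462607)) (tt N87551 F462602) (tt N81656 F462603) (tt N87633 F462604) (tt N98002 F462605) (tt N73964 (iv6 D211669)) (tt N81653 F462606))
theorem Q108447 : ∀ i, i < 108447 → P i := stepQ 108446 Q108446 (allL N108446 (tt N98218 F462613) (tt N108142 F462614) (tt N82872 F462609) (tt N105642 F462610) (tt N73967 (iv4 D211670)) (tt N83108 F462612) (tt N76934 F462611) (tt N109565 (iv7 F467553)))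
theorem Q108448 : ∀ i, i < 108448 → P i := stepQ 108447 Q108447 (allL N108447 (tt N105173 F462617) (tt N88642 (iv0 F462618)) (tt N112071 (iv2 F479349)) (tt N73971 (iv3 D211671)) (tt N109556 (iv4 F467501)) (tt N76754 F462615) (tt N113030 (iv6 F483622)) (tt N100485 F462616))
theorem Q108449 : ∀ i, i < 108449 → P i := stepQ 108448 Q108448 (allL N108448 (tt N85190 F462624) (tt N103108 F462625) (tt N73979 F462619) (tt N76558 F462620) (tt N82879 F462623) (tt N73976 (iv5 D211672)) (tt N82878 F462621) (tt N84787 F462622))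
theorem Q108450 : ∀ i, i < 108450 → P i := stepQ 108449 Q108449 (allL N108449 (tt N83863 F462630) (tt N84177 (iv0 F462632)) (tt N84188 F462631) (tt N73978 (iv3 D211673)) (tt N91113 F462626) (tt N98308 F462627) (tt N98460 F462628) (tt N84189 F462629))
theorem Q108451 : ∀ i, i < 108451 → P i := stepQ 108450 Q108450 (allL N108450 (tt N92822 F462636) (tt N110257 (iv0 F470672)) (tt N82879 F462633) (tt N117194 F503851) (tt N73979 (iv4 D211674)) (tt N91710 F462635) (tt N82633 F462634) (tt N114901 (iv7 F492431)))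
theorem Q108452 : ∀ i, i < 108452 → P i := stepQ 108451 Q108451 (allL N108451 (tt N74286 F462639) (tt N74285 F462640) (tt N74288 F462637) (tt N117780 F506934) (tt N73982 (iv4 D211675)) (tt N120291 (iv5 F520059)) (tt N108587 (iv6 F463166)) (tt N74265 F462638))
theorem Q108453 : ∀ i, i < 108453 → P i := stepQ 108452 Q108452 (allL N108452 (tt N99697 F462643) (tt N108633 F463292) (tt N108631 F463287) (tt N99683 F462641) (tt N108219 F462642) (tt N73983 (iv5 D211676)) (tt N108588 (iv6 F463170)) (tt N108622 (iv7 F463253)))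
theorem Q108454 : ∀ i, i < 108454 → P i := stepQ 108453 Q108453 (allL N108453 (tt N73987 (iv1 D211677)) (tt N95059 F462644) (tt N79173 F462649) (tt N95078 (iv3 F462648)) (tt N80207 F462647) (tt N80357 F462646) (tt N100828 F462650) (tt N80356 F462645))
theorem Q108455 : ∀ i, i < 108455 → P i := stepQ 108454 Q108454 (allL N108454 (tt N100912 (iv1 F462657)) (tt N101522 (iv0 F462656)) (tt N101520 F462651) (tt N93828 F462652) (tt N82021 F462653) (tt N75505 F462654) (tt N73987 (iv6 D211678)) (tt N101521 F462655))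
theorem Q108456 : ∀ i, i < 108456 → P i := stepQ 108455 Q108455 (allL N108455 (tt N116395 F499867) (tt N116484 (iv0 F500387)) (tt N117325 (iv2 F504467)) (tt N73996 F462658) (tt N116549 F500712) (tt N121687 (iv5 F527749)) (tt N73992 (iv6 D211679)) (tt N101620 F462659))
theorem Q108457 : ∀ i, i < 108457 → P i := stepQ 108456 Q108456 (allL N108456 (tt N99407 F462663) (tt N107477 F462664) (tt N107475 F462660) (tt N73997 F462661) (tt N120973 (iv4 F523796)) (tt N73993 (iv5 D211680)) (tt N121687 (iv6 F527747)) (tt N100872 F462662))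
theorem Q108458 : ∀ i, i < 108458 → P i := stepQ 108457 Q108457 (allL N108457 (tt N107287 F462667) (tt N101654 F462668) (tt N117288 (iv2 F504298)) (tt N95348 F462665) (tt N73994 (iv4 D211681)) (tt N117288 (iv5 F504301)) (tt N110616 (iv6 F472413)) (tt N107494 F462666))
theorem Q108459 : ∀ i, i < 108459 → P i := stepQ 108458 Q108458 (allL N108458 (tt N73995 (iv1 D211682)) (tt N101629 F462670) (tt N117293 (iv2 F504320)) (tt N106689 F462674) (tt N107138 F462672) (tt N117293 (iv5 F504323)) (tt N106687 (iv6 F462673)) (tt N107503 F462671))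
theorem Q108460 : ∀ i, i < 108460 → P i := stepQ 108459 Q108459 (allL N108459 (tt N116932 (iv1 F502563)) (tt N116934 (iv0 F502577)) (tt N116577 (iv2 F500820)) (tt N73995 (iv3 D211683)) (tt N111137 (iv4 F474876)) (tt N117488 F505300) (tt N121695 D224954) (tt N116575 (iv7 F500808)))
theorem Q108461 : ∀ i, i < 108461 → P i := stepQ 108460 Q108460 (allL N108460 (tt N119858 (iv1 F517736)) (tt N112588 (iv0 F481737)) (tt N119857 F517729) (tt N121695 (iv3 F527796)) (tt N73996 F462678) (tt N121696 D224955) (tt N73995 (iv6 D211684)) (tt N101624 F462679))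
theorem Q108462 : ∀ i, i < 108462 → P i := stepQ 108461 Q108461 (allL N108461 (tt N79421 (iv1 F462681)) (tt N73996 (iv0 D211685)) (tt N101626 (iv2 F462680)) (tt N100238 (iv3 F462683)) (tt N100454 F462685) (tt N120292 (iv5 F520064)) (tt N100236 (iv6 F462684)) (tt N101625 F462682))
theorem Q108463 : ∀ i, i < 108463 → P i := stepQ 108462 Q108462 (allL N108462 (tt N100877 (iv1 F462690)) (tt N100876 (iv0 F462689)) (tt N100878 F462686) (tt N121687 (iv3 F527746)) (tt N120371 (iv4 F520427)) (tt N73996 (iv5 D211686)) (tt N73997 F462687) (tt N100578 F462688))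
theorem Q108464 : ∀ i, i < 108464 → P i := stepQ 108463 Q108463 (allL N108463 (tt N99388 F462694) (tt N105196 F462695) (tt N88489 F462691) (tt N111962 (iv3 F478869)) (tt N73997 (iv4 D211687)) (tt N105199 F462692) (tt N120371 (iv6 F520425)) (tt N100874 F462693))
theorem Q108465 : ∀ i, i < 108465 → P i := stepQ 108464 Q108464 (allL N108464 (tt N107411 F462699) (tt N100944 F462702) (tt N119999 F518477) (tt N73999 (iv3 D211688)) (tt N77251 F462696) (tt N117287 (iv5 F504294)) (tt N90023 F462697) (tt N106612 F462698))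
theorem Q108466 : ∀ i, i < 108466 → P i := stepQ 108465 Q108465 (allL N108465 (tt N93662 F462705) (tt N107798 F462708) (tt N99333 F462703) (tt N74006 (iv3 D211689)) (tt N74208 (iv4 F462706)) (tt N99333 F462704) (tt N99332 F462707) (tt N117125 (iv7 F503515)))
theorem Q108467 : ∀ i, i < 108467 → P i := stepQ 108466 Q108466 (allL N108466 (tt N99313 F462713) (tt N99330 (iv0 F462714)) (tt N93262 F462709) (tt N99332 F462710) (tt N98960 F462711) (tt N96678 F462712) (tt N74006 (iv6 D211690)) (tt N99331 F462715))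
theorem Q108468 : ∀ i, i < 108468 → P i := stepQ 108467 Q108467 (allL N108467 (tt N118168 (iv1 F508978)) (tt N74007 (iv0 D211691)) (tt N120022 (iv2 F518608)) (tt N99257 F501220) (tt N116677 (iv4 F501262)) (tt N120022 (iv5 F518605)) (tt N117019 F502999) (tt N116671 F501241))
theorem Q108469 : ∀ i, i < 108469 → P i := stepQ 108468 Q108468 (allL N108468 (tt N74007 (iv1 D211692)) (tt N118168 (iv0 F508977)) (tt N116671 (iv2 F501235)) (tt N116673 (iv3 F501248)) (tt N99340 F462716) (tt N116671 F501240) (tt N116669 F501232) (tt N120022 (iv7 F518604)))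
theorem Q108470 : ∀ i, i < 108470 → P i := stepQ 108469 Q108469 (allL N108469 (tt N94663 F462721) (tt N93367 F462722) (tt N107679 F462717) (tt N79164 F462718) (tt N99464 F462720) (tt N74007 (iv5 D211693)) (tt N119708 (iv6 F517028)) (tt N107680 F462719))
theorem Q108471 : ∀ i, i < 108471 → P i := stepQ 108470 Q108470 (allL N108470 (tt N93648 F462726) (tt N93645 F462728) (tt N98826 F462723) (tt N79154 F462724) (tt N74008 F462725) (tt N93541 (iv5 F462727)) (tt N74007 (iv6 D211694)) (tt N119284 (iv7 F514822)))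
theorem Q108472 : ∀ i, i < 108472 → P i := stepQ 108471 Q108471 (allL N108471 (tt N107798 F462732) (tt N93662 F462733) (tt N117125 (iv2 F503519)) (tt N74011 (iv3 D211695)) (tt N108478 (iv4 F462760)) (tt N117125 (iv5 F503516)) (tt N78075 F462730) (tt N99333 F462731))
theorem Q108473 : ∀ i, i < 108473 → P i := stepQ 108472 Q108472 (allL N108472 (tt N74618 F462739) (tt N108475 (iv0 F462752)) (tt N102862 F462734) (tt N78153 F462735) (tt N74020 (iv4 D211696)) (tt N97323 F462738) (tt N78151 F462736) (tt N97359 F462737))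
theorem Q108474 : ∀ i, i < 108474 → P i := stepQ 108473 Q108473 (allL N108473 (tt N79963 F462743) (tt N106880 F462744) (tt N98272 F462740) (tt N113836 F487363) (tt N92205 F462741) (tt N92643 F462742) (tt N74021 (iv6 D211697)) (tt N115759 (iv7 F496710)))
theorem Q108475 : ∀ i, i < 108475 → P i := stepQ 108474 Q108474 (allL N108474 (tt N74025 (iv1 D211698)) (tt N96087 F462745) (tt N96078 F462750) (tt N95376 (iv3 F462749)) (tt N99480 F462748) (tt N95375 F462747) (tt N121697 D224956) (tt N91633 F462746))
theorem Q108476 : ∀ i, i < 108476 → P i := stepQ 108475 Q108475 (allL N108475 (tt N108472 F462752) (tt N97323 F462753) (tt N108481 (iv2 F462776)) (tt N116700 (iv3 F501376)) (tt N74026 (iv4 D211699)) (tt N116987 (iv5 F502843)) (tt N108935 (iv6 F464563)) (tt N93612 F462751))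
theorem Q108477 : ∀ i, i < 108477 → P i := stepQ 108476 Q108476 (allL N108476 (tt N121697 F527811) (tt N91631 (iv0 F462754)) (tt N108482 (iv2 F462782)) (tt N116456 (iv3 F500221)) (tt N108935 (iv4 F464561)) (tt N108520 (iv5 F462919)) (tt N74026 (iv6 D211700)) (tt N108933 (iv7 F464555)))
theorem Q108478 : ∀ i, i < 108478 → P i := stepQ 108477 Q108477 (allL N108477 (tt N96080 F462755) (tt N91650 (iv0 F462756)) (tt N116459 (iv2 F500238)) (tt N74027 (iv3 D211701)) (tt N118304 (iv4 F509606)) (tt N108653 (iv5 F463373)) (tt N108932 (iv6 F464552)) (tt N108480 (iv7 F462773)))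
theorem Q108479 : ∀ i, i < 108479 → P i := stepQ 108478 Q108478 (allL N108478 (tt N74028 (iv1 D211702)) (tt N74031 F462757) (tt N103997 (iv2 F462763)) (tt N97125 (iv3 F462761)) (tt N108471 F462760) (tt N97125 F462759) (tt N92648 (iv6 F462762)) (tt N91630 F462758))
theorem Q108480 : ∀ i, i < 108480 → P i := stepQ 108479 Q108479 (allL N108479 (tt N91629 F462768) (tt N87631 F462769) (tt N91627 F462764) (tt N74031 F462765) (tt N91613 (iv4 F462770)) (tt N74030 (iv5 D211703)) (tt N95530 F462766) (tt N91628 F462767))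
theorem Q108481 : ∀ i, i < 108481 → P i := stepQ 108480 Q108480 (allL N108480 (tt N111599 (iv1 F477105)) (tt N90524 F462775) (tt N90568 F462771) (tt N74033 (iv3 D211704)) (tt N108300 (iv4 F462774)) (tt N90567 F462772) (tt N115903 (iv6 F497502)) (tt N108477 F462773))
theorem Q108482 : ∀ i, i < 108482 → P i := stepQ 108481 Q108481 (allL N108481 (tt N102862 F462780) (tt N97359 F462781) (tt N108475 F462776) (tt N93339 F462777) (tt N74033 (iv4 D211705)) (tt N90278 F462778) (tt N110479 (iv6 F471773)) (tt N74618 F462779))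
theorem Q108483 : ∀ i, i < 108483 → P i := stepQ 108482 Q108482 (allL N108482 (tt N117563 (iv1 F505720)) (tt N115005 (iv0 F493019)) (tt N108476 F462782) (tt N115903 F497506) (tt N110479 (iv4 F471777)) (tt N120032 (iv5 F518663)) (tt N74033 (iv6 D211706)) (tt N117562 (iv7 F505710)))
theorem Q108484 : ∀ i, i < 108484 → P i := stepQ 108483 Q108483 (allL N108483 (tt N86762 F462785) (tt N86768 F462786) (tt N113629 (iv2 F486377)) (tt N114822 F492058) (tt N86671 F462783) (tt N114134 (iv5 F488687)) (tt N74038 (iv6 D211707)) (tt N87559 F462784))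
theorem Q108485 : ∀ i, i < 108485 → P i := stepQ 108484 Q108484 (allL N108484 (tt N114132 F488679) (tt N74039 (iv0 D211708)) (tt N74075 (iv2 F462788)) (tt N74157 F462789) (tt N96051 F462790) (tt N114086 (iv5 F488535)) (tt N91492 F462787) (tt N114085 (iv7 F488531)))
theorem Q108486 : ∀ i, i < 108486 → P i := stepQ 108485 Q108485 (allL N108485 (tt N115807 F496998) (tt N115732 (iv0 F496572)) (tt N116046 (iv2 F498222)) (tt N74041 F462791) (tt N74113 F462792) (tt N74040 (iv5 D211709)) (tt N87554 (iv6 F462793)) (tt N116053 (iv7 F498251)))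
theorem Q108487 : ∀ i, i < 108487 → P i := stepQ 108486 Q108486 (allL N108486 (tt N116472 (iv1 F500315)) (tt N109537 (iv0 F496999)) (tt N116470 F500300) (tt N74042 F462795) (tt N119288 (iv4 F514848)) (tt N120764 (iv5 F522586)) (tt N74040 (iv6 D211710)) (tt N116471 (iv7 F500304)))
theorem Q108488 : ∀ i, i < 108488 → P i := stepQ 108487 Q108487 (allL N108487 (tt N114789 (iv1 F491873)) (tt N114788 (iv0 F491866)) (tt N115526 (iv2 F495638)) (tt N120764 (iv3 F522584)) (tt N101929 F462797) (tt N74042 (iv5 D211711)) (tt N87556 F462796) (tt N115683 (iv7 F496293)))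
theorem Q108489 : ∀ i, i < 108489 → P i := stepQ 108488 Q108488 (allL N108488 (tt N87105 F462801) (tt N78675 (iv0 F462802)) (tt N114244 (iv2 F489182)) (tt N74044 (iv3 D211712)) (tt N74123 F462798) (tt N96072 F462799) (tt N96795 (iv6 F462803)) (tt N87522 F462800))
theorem Q108490 : ∀ i, i < 108490 → P i := stepQ 108489 Q108489 (allL N108489 (tt N114813 (iv1 F492009)) (tt N92007 (iv0 F462807)) (tt N87524 F462804) (tt N96795 F462805) (tt N103999 F462806) (tt N115722 (iv5 F496513)) (tt N74044 (iv6 D211713)) (tt N114819 (iv7 F492047)))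
theorem Q108491 : ∀ i, i < 108491 → P i := stepQ 108490 Q108490 (allL N108490 (tt N115469 (iv1 F495337)) (tt N92008 (iv0 F462812)) (tt N74183 F462808) (tt N81662 F462809) (tt N104932 F462810) (tt N91949 F462811) (tt N74046 (iv6 D211714)) (tt N115692 (iv7 F496344)))
theorem Q108492 : ∀ i, i < 108492 → P i := stepQ 108491 Q108491 (allL N108491 (tt N87492 F462814) (tt N119580 (iv0 F516366)) (tt N74185 F462813) (tt N112851 (iv3 F482967)) (tt N116076 (iv4 F498340)) (tt N114186 (iv5 F488897)) (tt N74047 (iv6 D211715)) (tt N121698 D224957))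
theorem Q108493 : ∀ i, i < 108493 → P i := stepQ 108492 Q108492 (allL N108492 (tt N81537 F462820) (tt N84055 (iv0 F462821)) (tt N87369 F462815) (tt N74049 (iv3 D211716)) (tt N87256 F462816) (tt N89911 F462817) (tt N79014 F462818) (tt N74191 F462819))
theorem Q108494 : ∀ i, i < 108494 → P i := stepQ 108493 Q108493 (allL N108493 (tt N120793 F522753) (tt N105923 (iv0 F462826)) (tt N74059 F462822) (tt N115726 (iv3 F496537)) (tt N92856 F462823) (tt N104042 F462825) (tt N74057 (iv6 D211717)) (tt N104989 F462824))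
theorem Q108495 : ∀ i, i < 108495 → P i := stepQ 108494 Q108494 (allL N108494 (tt N74063 (iv1 F462841)) (tt N74058 (iv0 D211718)) (tt N74060 (iv2 F462834)) (tt N117561 (iv3 F505706)) (tt N119056 (iv4 F513537)) (tt N120034 (iv5 F518677)) (tt N97170 F462833) (tt N74061 (iv7 F462835)))
theorem Q108496 : ∀ i, i < 108496 → P i := stepQ 108495 Q108495 (allL N108495 (tt N74058 (iv1 D211719)) (tt N74063 F462836) (tt N74061 F462839) (tt N107326 F462842) (tt N93736 F462840) (tt N121699 D224958) (tt N93663 (iv6 F462838)) (tt N74060 F462837))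
theorem Q108497 : ∀ i, i < 108497 → P i := stepQ 108496 Q108496 (allL N108496 (tt N91920 F462846) (tt N97153 F462845) (tt N74062 F462843) (tt N119342 (iv3 F515118)) (tt N115858 (iv4 F497266)) (tt N74058 (iv5 D211720)) (tt N104042 F462844) (tt N115855 (iv7 F497250)))
theorem Q108498 : ∀ i, i < 108498 → P i := stepQ 108497 Q108497 (allL N108497 (tt N74061 (iv1 F462850)) (tt N74060 F462851) (tt N74063 F462847) (tt N120036 (iv3 F518687)) (tt N107795 F462848) (tt N115855 (iv5 F497251)) (tt N104894 F462849) (tt N74058 (iv7 D211721)))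
theorem Q108499 : ∀ i, i < 108499 → P i := stepQ 108498 Q108498 (allL N108498 (tt N104989 F462856) (tt N74059 (iv0 D211722)) (tt N120793 (iv2 F522747)) (tt N97261 F462853) (tt N97993 F462852) (tt N120945 (iv5 F523621)) (tt N97259 F462854) (tt N105923 (iv7 F462855)))
theorem Q108500 : ∀ i, i < 108500 → P i := stepQ 108499 Q108499 (allL N108499 (tt N74059 (iv1 D211723)) (tt N104989 F462857) (tt N105923 F462860) (tt N88433 (iv3 F462861)) (tt N98591 F462858) (tt N115967 (iv5 F497814)) (tt N103971 (iv6 F462859)) (tt N120793 (iv7 F522751)))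
theorem Q108501 : ∀ i, i < 108501 → P i := stepQ 108500 Q108500 (allL N108500 (tt N105923 (iv1 F462867)) (tt N120793 (iv0 F522752)) (tt N104989 F462862) (tt N74067 F462863) (tt N97257 F462864) (tt N104043 F462865) (tt N95742 F462866) (tt N74059 (iv7 D211724)))
theorem Q108502 : ∀ i, i < 108502 → P i := stepQ 108501 Q108501 (allL N108501 (tt N121700 D224959) (tt N74327 (iv0 F462873)) (tt N90531 (iv2 F462871)) (tt N74060 (iv3 D211725)) (tt N107319 F462870) (tt N88040 (iv5 F462872)) (tt N89198 F462868) (tt N107326 F462869))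
theorem Q108503 : ∀ i, i < 108503 → P i := stepQ 108502 Q108502 (allL N108502 (tt N119055 (iv1 F513528)) (tt N118710 (iv0 F511679)) (tt N119056 (iv2 F513535)) (tt N112625 (iv3 F481888)) (tt N74060 (iv4 D211726)) (tt N108673 (iv5 F463485)) (tt N90278 F462874) (tt N93736 F462875))
theorem Q108504 : ∀ i, i < 108504 → P i := stepQ 108503 Q108503 (allL N108503 (tt N119328 (iv1 F515045)) (tt N119323 (iv0 F515017)) (tt N120034 (iv2 F518674)) (tt N88040 F462876) (tt N88056 F462878) (tt N74060 (iv5 D211727)) (tt N74106 F462877) (tt N121699 (iv7 F527823)))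
theorem Q108505 : ∀ i, i < 108505 → P i := stepQ 108504 Q108504 (allL N108504 (tt N96050 F462881) (tt N117586 (iv0 F505851)) (tt N114192 (iv2 F488925)) (tt N74061 (iv3 D211728)) (tt N108974 (iv4 F464730)) (tt N84518 (iv5 F462880)) (tt N87460 F462879) (tt N117561 (iv7 F505708)))
theorem Q108506 : ∀ i, i < 108506 → P i := stepQ 108505 Q108505 (allL N108505 (tt N119323 (iv1 F515018)) (tt N119328 (iv0 F515044)) (tt N121699 (iv2 F527819)) (tt N84518 F462882) (tt N119318 (iv4 F514986)) (tt N74061 (iv5 D211729)) (tt N84517 F462883) (tt N120034 (iv7 F518678)))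
theorem Q108507 : ∀ i, i < 108507 → P i := stepQ 108506 Q108506 (allL N108506 (tt N115855 F497253) (tt N74062 (iv0 D211730)) (tt N91920 (iv2 F462886)) (tt N115896 (iv3 F497463)) (tt N84636 F462884) (tt N97154 F462885) (tt N87180 (iv6 F462887)) (tt N97153 (iv7 F462888)))
theorem Q108508 : ∀ i, i < 108508 → P i := stepQ 108507 Q108507 (allL N108507 (tt N74062 (iv1 D211731)) (tt N115855 (iv0 F497252)) (tt N97153 F462891) (tt N91923 F462892) (tt N121701 D224960) (tt N97141 (iv5 F462890)) (tt N108561 (iv6 F463068)) (tt N91920 F462889))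
theorem Q108509 : ∀ i, i < 108509 → P i := stepQ 108508 Q108508 (allL N108508 (tt N97153 (iv1 F462895)) (tt N91920 F462896) (tt N115855 (iv2 F497248)) (tt N74074 F462893) (tt N114869 (iv4 F492251)) (tt N74063 F462894) (tt N114138 (iv6 F488710)) (tt N74062 (iv7 D211732)))
theorem Q108510 : ∀ i, i < 108510 → P i := stepQ 108509 Q108509 (allL N108509 (tt N115227 F494121) (tt N106699 (iv0 F474760)) (tt N119352 (iv2 F515169)) (tt N74064 (iv3 D211733)) (tt N115385 (iv4 F494927)) (tt N115966 (iv5 F497807)) (tt N115363 (iv6 F494811)) (tt N120041 (iv7 F518709)))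
theorem Q108511 : ∀ i, i < 108511 → P i := stepQ 108510 Q108510 (allL N108510 (tt N115842 F497185) (tt N115862 F497291) (tt N115861 F497283) (tt N115966 (iv3 F497811)) (tt N120047 (iv4 F518745)) (tt N74064 (iv5 D211734)) (tt N119347 (iv6 F515144)) (tt N115860 F497276))
theorem Q108512 : ∀ i, i < 108512 → P i := stepQ 108511 Q108511 (allL N108511 (tt N102067 F462899) (tt N114239 (iv0 F489166)) (tt N112409 (iv2 F480980)) (tt N74065 (iv3 D211735)) (tt N88280 F462897) (tt N87325 (iv5 F462900)) (tt N78510 F462898) (tt N115909 (iv7 F497540)))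
theorem Q108513 : ∀ i, i < 108513 → P i := stepQ 108512 Q108512 (allL N108512 (tt N115862 (iv1 F497292)) (tt N115842 (iv0 F497184)) (tt N115860 F497275) (tt N87325 F462901) (tt N120048 (iv4 F518754)) (tt N74065 (iv5 D211736)) (tt N121702 D224961) (tt N115861 (iv7 F497280)))
theorem Q108514 : ∀ i, i < 108514 → P i := stepQ 108513 Q108513 (allL N108513 (tt N120043 (iv1 F518723)) (tt N74066 (iv0 D211737)) (tt N120042 F518714) (tt N120352 F520333) (tt N108617 (iv4 F463247)) (tt N119356 (iv5 F515195)) (tt N111769 F477880) (tt N119355 F515196))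
theorem Q108515 : ∀ i, i < 108515 → P i := stepQ 108514 Q108514 (allL N108514 (tt N74066 (iv1 D211738)) (tt N120043 F518722) (tt N119355 (iv2 F515187)) (tt N115774 (iv3 F496798)) (tt N108616 (iv4 F498337)) (tt N97161 (iv5 F462902)) (tt N115856 (iv6 F497255)) (tt N120042 (iv7 F518715)))
theorem Q108516 : ∀ i, i < 108516 → P i := stepQ 108515 Q108515 (allL N108515 (tt N108563 F463076) (tt N108561 (iv0 F463070)) (tt N117661 (iv2 F506275)) (tt N118983 (iv3 F513111)) (tt N74066 (iv4 D211739)) (tt N106720 (iv5 F462904)) (tt N74073 F462903) (tt N117660 F506271))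
theorem Q108517 : ∀ i, i < 108517 → P i := stepQ 108516 Q108516 (allL N108516 (tt N119355 (iv1 F515188)) (tt N120042 F518717) (tt N120043 (iv2 F518718)) (tt N104043 F462905) (tt N117660 (iv4 F506267)) (tt N74067 F462906) (tt N115846 (iv6 F497207)) (tt N74066 (iv7 D211740)))
theorem Q108518 : ∀ i, i < 108518 → P i := stepQ 108517 Q108517 (allL N108517 (tt N90576 (iv1 F462908)) (tt N74068 (iv0 D211741)) (tt N90573 (iv2 F462907)) (tt N117586 (iv3 F505848)) (tt N114039 (iv4 F488313)) (tt N117585 (iv5 F505846)) (tt N89245 (iv6 F462910)) (tt N90574 F462909))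
theorem Q108519 : ∀ i, i < 108519 → P i := stepQ 108518 Q108518 (allL N108518 (tt N90959 F462915) (tt N116854 (iv0 F502183)) (tt N90575 F462911) (tt N74069 F462912) (tt N108094 F462914) (tt N74068 (iv5 D211742)) (tt N121703 D224962) (tt N81168 F462913))
theorem Q108520 : ∀ i, i < 108520 → P i := stepQ 108519 Q108519 (allL N108519 (tt N111302 F475720) (tt N115551 (iv0 F495741)) (tt N95353 F462916) (tt N88143 F462917) (tt N74069 (iv4 D211743)) (tt N95350 F462918) (tt N121704 D224963) (tt N113655 (iv7 F486506)))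
theorem Q108521 : ∀ i, i < 108521 → P i := stepQ 108520 Q108520 (allL N108520 (tt N120027 (iv1 F518639)) (tt N104895 (iv0 F462920)) (tt N120032 (iv2 F518666)) (tt N121703 (iv3 F527846)) (tt N121704 (iv4 F527854)) (tt N108476 F462919) (tt N74069 (iv6 D211744)) (tt N120031 F518662))
theorem Q108522 : ∀ i, i < 108522 → P i := stepQ 108521 Q108521 (allL N108521 (tt N74070 (iv1 D211745)) (tt N90569 (iv0 F462926)) (tt N104884 F462924) (tt N121700 (iv3 F527827)) (tt N75442 (iv4 F462922)) (tt N91439 F462925) (tt N103135 (iv6 F462923)) (tt N106690 F462921))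
theorem Q108523 : ∀ i, i < 108523 → P i := stepQ 108522 Q108522 (allL N108522 (tt N106690 (iv1 F462933)) (tt N104884 F462932) (tt N74070 (iv2 D211746)) (tt N90576 F462928) (tt N99263 F462929) (tt N115884 (iv5 F497401)) (tt N95394 F462930) (tt N90569 F462931))
theorem Q108524 : ∀ i, i < 108524 → P i := stepQ 108523 Q108523 (allL N108523 (tt N115886 (iv1 F497418)) (tt N87291 (iv0 F462936)) (tt N115884 F497404) (tt N74071 F462934) (tt N117051 (iv4 F503129)) (tt N74070 (iv5 D211747)) (tt N87333 F462935) (tt N115885 (iv7 F497408)))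
theorem Q108525 : ∀ i, i < 108525 → P i := stepQ 108524 Q108524 (allL N108524 (tt N115551 F495742) (tt N111302 (iv0 F475719)) (tt N113655 (iv2 F486502)) (tt N95359 (iv3 F462939)) (tt N74071 (iv4 D211748)) (tt N95354 F462937) (tt N74153 (iv6 F462940)) (tt N95353 F462938))
theorem Q108526 : ∀ i, i < 108526 → P i := stepQ 108525 Q108525 (allL N108525 (tt N104896 F462945) (tt N74107 F462946) (tt N81167 F462941) (tt N87333 F462942) (tt N74153 F462943) (tt N81166 F462944) (tt N74071 (iv6 D211749)) (tt N115865 (iv7 F497305)))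
theorem Q108527 : ∀ i, i < 108527 → P i := stepQ 108526 Q108526 (allL N108526 (tt N117585 F505845) (tt N106700 (iv0 F462951)) (tt N91433 F462947) (tt N74072 (iv3 D211750)) (tt N115064 (iv4 F493310)) (tt N90655 F462948) (tt N87236 F462949) (tt N97138 F462950))
theorem Q108528 : ∀ i, i < 108528 → P i := stepQ 108527 Q108527 (allL N108527 (tt N108599 (iv1 F463204)) (tt N99695 F462954) (tt N108598 F463195) (tt N84628 F462955) (tt N74072 (iv4 D211751)) (tt N97483 F462952) (tt N115845 (iv6 F497200)) (tt N97139 F462953))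
theorem Q108529 : ∀ i, i < 108529 → P i := stepQ 108528 Q108528 (allL N108528 (tt N114205 (iv1 F488974)) (tt N74073 (iv0 D211752)) (tt N84536 (iv2 F462958)) (tt N111471 (iv3 F476491)) (tt N74134 F462957) (tt N91984 F462956) (tt N84619 (iv6 F462960)) (tt N97131 F462959))
theorem Q108530 : ∀ i, i < 108530 → P i := stepQ 108529 Q108529 (allL N108529 (tt N114207 (iv1 F488987)) (tt N121705 D224964) (tt N115864 (iv2 F497296)) (tt N114138 F488709) (tt N87171 F462961) (tt N88160 F462962) (tt N74074 (iv6 D211753)) (tt N115846 (iv7 F497208)))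
theorem Q108531 : ∀ i, i < 108531 → P i := stepQ 108530 Q108530 (allL N108530 (tt N88164 F462966) (tt N111520 (iv0 F476701)) (tt N114086 (iv2 F488532)) (tt N74076 F462963) (tt N84580 (iv4 F462967)) (tt N74075 (iv5 D211754)) (tt N88057 F462964) (tt N84577 F462965))
theorem Q108532 : ∀ i, i < 108532 → P i := stepQ 108531 Q108531 (allL N108531 (tt N87186 F462971) (tt N87393 F462972) (tt N84517 F462968) (tt N114191 (iv3 F488918)) (tt N74076 (iv4 D211755)) (tt N91307 F462969) (tt N121699 (iv6 F527822)) (tt N87394 F462970))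
theorem Q108533 : ∀ i, i < 108533 → P i := stepQ 108532 Q108532 (allL N108532 (tt N115949 F497735) (tt N117204 F503895) (tt N119318 (iv2 F514984)) (tt N88057 F462973) (tt N121699 (iv4 F527821)) (tt N117460 (iv5 F505147)) (tt N74076 (iv6 D211756)) (tt N88056 F462974))
theorem Q108534 : ∀ i, i < 108534 → P i := stepQ 108533 Q108533 (allL N108533 (tt N88073 F462979) (tt N88072 (iv0 F462981)) (tt N84576 F462975) (tt N87364 F462976) (tt N74105 F462977) (tt N87761 F462978) (tt N74078 (iv6 D211757)) (tt N88074 F462980))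
theorem Q108535 : ∀ i, i < 108535 → P i := stepQ 108534 Q108534 (allL N108534 (tt N98778 F462985) (tt N99041 (iv0 F462986)) (tt N98884 F462982) (tt N119840 F517639) (tt N78652 F462983) (tt N121706 D224965) (tt N74080 (iv6 D211758)) (tt N99040 F462984))
theorem Q108536 : ∀ i, i < 108536 → P i := stepQ 108535 Q108535 (allL N108535 (tt N120940 F523595) (tt N116469 (iv0 F500294)) (tt N74082 F462987) (tt N94988 F462988) (tt N74091 F462989) (tt N119780 (iv5 F517379)) (tt N74081 (iv6 D211759)) (tt N121707 D224966))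
theorem Q108537 : ∀ i, i < 108537 → P i := stepQ 108536 Q108536 (allL N108536 (tt N121707 (iv1 F527877)) (tt N74082 (iv0 D211760)) (tt N120940 (iv2 F523590)) (tt N121349 (iv3 F525903)) (tt N116472 (iv4 F500311)) (tt N121459 F526494) (tt N77867 F462990) (tt N116469 (iv7 F500293)))
theorem Q108538 : ∀ i, i < 108538 → P i := stepQ 108537 Q108537 (allL N108537 (tt N74082 (iv1 D211761)) (tt N121707 F527876) (tt N116469 (iv2 F500291)) (tt N119862 F517753) (tt N109537 (iv4 F467430)) (tt N121458 (iv5 F526486)) (tt N106912 F467431) (tt N120940 (iv7 F523593)))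
theorem Q108539 : ∀ i, i < 108539 → P i := stepQ 108538 Q108538 (allL N108538 (tt N121708 D224967) (tt N107559 (iv0 F517332)) (tt N119780 (iv2 F517377)) (tt N74084 F462991) (tt N121148 (iv4 F524788)) (tt N74082 (iv5 D211762)) (tt N119769 (iv6 F517331)) (tt N116522 (iv7 F500598)))
theorem Q108540 : ∀ i, i < 108540 → P i := stepQ 108539 Q108539 (allL N108539 (tt N116469 (iv1 F500295)) (tt N120940 (iv0 F523594)) (tt N121707 (iv2 F527871)) (tt N74085 F462992) (tt N74099 F462993) (tt N116522 (iv5 F500597)) (tt N98892 F462994) (tt N74082 (iv7 D211763)))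
theorem Q108541 : ∀ i, i < 108541 → P i := stepQ 108540 Q108540 (allL N108540 (tt N77899 F462998) (tt N77898 (iv0 F463006)) (tt N77901 (iv2 F463005)) (tt N74083 (iv3 D211764)) (tt N74291 F462995) (tt N120335 (iv5 F520238)) (tt N77880 F462996) (tt N77813 F462997))
theorem Q108542 : ∀ i, i < 108542 → P i := stepQ 108541 Q108541 (allL N108541 (tt N77906 F463011) (tt N77905 F463012) (tt N77907 F463008) (tt N120335 (iv3 F520237)) (tt N83041 F463009) (tt N74083 (iv5 D211765)) (tt N117164 (iv6 F503707)) (tt N77814 F463010))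
theorem Q108543 : ∀ i, i < 108543 → P i := stepQ 108542 Q108542 (allL N108542 (tt N77903 (iv1 F463016)) (tt N74084 (iv0 D211766)) (tt N76831 (iv2 F463015)) (tt N121709 D224968) (tt N83043 F463014) (tt N98731 F463013) (tt N76602 F463018) (tt N83323 F463017))
theorem Q108544 : ∀ i, i < 108544 → P i := stepQ 108543 Q108543 (allL N108543 (tt N83796 F463023) (tt N112454 (iv0 F481168)) (tt N74095 F463021) (tt N95743 F463022) (tt N111079 (iv4 F474562)) (tt N121710 D224969) (tt N74090 (iv6 D211767)) (tt N104987 (iv7 F463024)))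
theorem Q108545 : ∀ i, i < 108545 → P i := stepQ 108544 Q108544 (allL N108544 (tt N74091 (iv1 D211768)) (tt N74099 F463025) (tt N74097 F463028) (tt N116541 (iv3 F500683)) (tt N110818 (iv4 F473290)) (tt N120699 (iv5 F522219)) (tt N75901 (iv6 F463027)) (tt N74096 F463026))
theorem Q108546 : ∀ i, i < 108546 → P i := stepQ 108545 Q108545 (allL N108545 (tt N121711 D224970) (tt N118879 (iv0 F512546)) (tt N74098 F463029) (tt N120027 (iv3 F518637)) (tt N121057 (iv4 F524274)) (tt N74091 (iv5 D211769)) (tt N121710 (iv6 F527893)) (tt N121054 (iv7 F524261)))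
theorem Q108547 : ∀ i, i < 108547 → P i := stepQ 108546 Q108546 (allL N108546 (tt N74097 (iv1 F463032)) (tt N74096 F463033) (tt N74099 F463030) (tt N104894 F463031) (tt N121707 (iv4 F527873)) (tt N121054 (iv5 F524258)) (tt N120036 (iv6 F518689)) (tt N74091 (iv7 D211770)))
theorem Q108548 : ∀ i, i < 108548 → P i := stepQ 108547 Q108547 (allL N108547 (tt N109249 (iv1 F465989)) (tt N120788 (iv0 F522722)) (tt N95880 F463034) (tt N97188 F463035) (tt N97330 F463036) (tt N75922 F463037) (tt N74092 (iv6 D211771)) (tt N117923 (iv7 F507620)))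
theorem Q108549 : ∀ i, i < 108549 → P i := stepQ 108548 Q108548 (allL N108548 (tt N115727 (iv1 F496547)) (tt N74094 (iv0 D211772)) (tt N115485 (iv2 F495431)) (tt N91098 (iv3 F463039)) (tt N115807 (iv4 F496995)) (tt N91097 F463038) (tt N115361 (iv6 F494797)) (tt N106704 (iv7 F463040)))
theorem Q108550 : ∀ i, i < 108550 → P i := stepQ 108549 Q108549 (allL N108549 (tt N115744 (iv1 F496626)) (tt N115488 (iv0 F495453)) (tt N111079 (iv2 F474561)) (tt N82472 F463041) (tt N74095 F463042) (tt N82471 F463043) (tt N74094 (iv6 D211773)) (tt N115725 (iv7 F496533)))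
theorem Q108551 : ∀ i, i < 108551 → P i := stepQ 108550 Q108550 (allL N108550 (tt N104987 (iv1 F463047)) (tt N74095 (iv0 D211774)) (tt N83796 (iv2 F463046)) (tt N112697 (iv3 F482220)) (tt N83813 F463044) (tt N121712 D224971) (tt N97226 F463045) (tt N112454 (iv7 F481167)))
theorem Q108552 : ∀ i, i < 108552 → P i := stepQ 108551 Q108551 (allL N108551 (tt N118890 F512602) (tt N112425 (iv0 F481036)) (tt N121710 (iv2 F527891)) (tt N74102 F463048) (tt N121713 D224972) (tt N74095 (iv5 D211775)) (tt N74098 F463049) (tt N121714 D224973))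
theorem Q108553 : ∀ i, i < 108553 → P i := stepQ 108552 Q108552 (allL N108552 (tt N112454 F481169) (tt N83796 (iv0 F463052)) (tt N104987 F463050) (tt N74103 F463051) (tt N115725 (iv4 F496531)) (tt N121714 (iv5 F527916)) (tt N115724 F496528) (tt N74095 (iv7 D211776)))
theorem Q108554 : ∀ i, i < 108554 → P i := stepQ 108553 Q108553 (allL N108553 (tt N90726 F500298) (tt N118399 (iv0 F510146)) (tt N96928 F463053) (tt N74096 (iv3 D211777)) (tt N94236 F463054) (tt N95408 (iv5 F463056)) (tt N94235 F463055) (tt N116541 (iv7 F500684)))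
theorem Q108555 : ∀ i, i < 108555 → P i := stepQ 108554 Q108554 (allL N108554 (tt N121715 D224974) (tt N104900 (iv0 F463059)) (tt N120939 (iv2 F523583)) (tt N95408 F463057) (tt N103635 F463058) (tt N74096 (iv5 D211778)) (tt N115970 (iv6 F497835)) (tt N120699 (iv7 F522218)))
theorem Q108556 : ∀ i, i < 108556 → P i := stepQ 108555 Q108555 (allL N108555 (tt N110816 (iv1 F473282)) (tt N110815 F473292) (tt N110818 (iv2 F473288)) (tt N76797 F463060) (tt N74097 (iv4 D211779)) (tt N121150 (iv5 F524797)) (tt N76795 F463061) (tt N110814 (iv7 F473281)))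
theorem Q108557 : ∀ i, i < 108557 → P i := stepQ 108556 Q108556 (allL N108556 (tt N104900 F477886) (tt N121715 F527922) (tt N120699 (iv2 F522216)) (tt N118918 (iv3 F512738)) (tt N120694 (iv4 F522194)) (tt N74097 (iv5 D211780)) (tt N103010 F463062) (tt N120939 (iv7 F523586)))
theorem Q108558 : ∀ i, i < 108558 → P i := stepQ 108557 Q108557 (allL N108557 (tt N121054 F524260) (tt N74098 (iv0 D211781)) (tt N121711 F527898) (tt N118835 (iv3 F512327)) (tt N120843 (iv4 F523035)) (tt N118834 F512324) (tt N112659 F512325) (tt N118879 (iv7 F512545)))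
theorem Q108559 : ∀ i, i < 108559 → P i := stepQ 108558 Q108558 (allL N108558 (tt N74098 (iv1 D211782)) (tt N121054 (iv0 F524259)) (tt N118879 (iv2 F512543)) (tt N120054 (iv3 F518798)) (tt N121716 D224975) (tt N118878 (iv5 F512541)) (tt N120038 (iv6 F518697)) (tt N121711 (iv7 F527900)))
theorem Q108560 : ∀ i, i < 108560 → P i := stepQ 108559 Q108559 (allL N108559 (tt N121056 (iv1 F524265)) (tt N121055 F524272) (tt N121057 (iv2 F524273)) (tt N105856 F463064) (tt N74098 (iv4 D211783)) (tt N105855 (iv5 F463063)) (tt N121713 (iv6 F527908)) (tt N120714 F522303))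
theorem Q108561 : ∀ i, i < 108561 → P i := stepQ 108560 Q108560 (allL N108560 (tt N118879 F512547) (tt N121711 F527899) (tt N121054 (iv2 F524256)) (tt N74108 F463065) (tt N120714 (iv4 F522300)) (tt N74099 F463066) (tt N115863 (iv6 F497295)) (tt N74098 (iv7 D211784)))
theorem Q108562 : ∀ i, i < 108562 → P i := stepQ 108561 Q108561 (allL N108561 (tt N108515 F463070) (tt N115498 (iv0 F495526)) (tt N119327 (iv2 F515037)) (tt N91913 F463067) (tt N108595 F506266) (tt N74100 (iv5 D211785)) (tt N108507 F463068) (tt N91912 F463069))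
theorem Q108563 : ∀ i, i < 108563 → P i := stepQ 108562 Q108562 (allL N108562 (tt N106695 F463073) (tt N115810 (iv0 F497014)) (tt N83576 F463071) (tt N74101 (iv3 D211786)) (tt N115233 (iv4 F494147)) (tt N115578 (iv5 F495846)) (tt N83574 F463072) (tt N119325 (iv7 F515028)))
theorem Q108564 : ∀ i, i < 108564 → P i := stepQ 108563 Q108563 (allL N108563 (tt N115498 F495505) (tt N108515 (iv0 F463076)) (tt N91912 F463074) (tt N115578 (iv3 F495845)) (tt N108594 F463187) (tt N74101 (iv5 D211787)) (tt N91910 F463075) (tt N119327 (iv7 F515039)))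
theorem Q108565 : ∀ i, i < 108565 → P i := stepQ 108564 Q108564 (allL N108564 (tt N115859 F497272) (tt N74102 (iv0 D211788)) (tt N111641 (iv2 F477271)) (tt N120269 (iv3 F519927)) (tt N117662 (iv4 F506278)) (tt N120795 (iv5 F522763)) (tt N111640 F477270) (tt N120033 (iv7 F518668)))
theorem Q108566 : ∀ i, i < 108566 → P i := stepQ 108565 Q108565 (allL N108565 (tt N74102 (iv1 D211789)) (tt N115859 F497273) (tt N120033 (iv2 F518672)) (tt N111645 (iv3 F477283)) (tt N115643 (iv4 F496108)) (tt N103207 (iv5 F463077)) (tt N120945 F523623) (tt N111641 F477276))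
theorem Q108567 : ∀ i, i < 108567 → P i := stepQ 108566 Q108566 (allL N108566 (tt N115861 (iv1 F497279)) (tt N115860 F497284) (tt N115862 (iv2 F497286)) (tt N121717 D224976) (tt N74102 (iv4 D211790)) (tt N116075 (iv5 F498334)) (tt N74107 F463078) (tt N115842 (iv7 F497183)))
theorem Q108568 : ∀ i, i < 108568 → P i := stepQ 108567 Q108567 (allL N108567 (tt N120033 (iv1 F518667)) (tt N111641 (iv0 F477274)) (tt N115859 (iv2 F497268)) (tt N121714 (iv3 F527914)) (tt N115842 (iv4 F497181)) (tt N74103 F463079) (tt N88159 F463080) (tt N74102 (iv7 D211791)))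
theorem Q108569 : ∀ i, i < 108569 → P i := stepQ 108568 Q108568 (allL N108568 (tt N111318 (iv1 F475795)) (tt N98080 (iv0 F463084)) (tt N102991 F463081) (tt N84210 F463082) (tt N114217 (iv4 F489043)) (tt N84207 F463083) (tt N74104 (iv6 D211792)) (tt N115493 (iv7 F495484)))
theorem Q108570 : ∀ i, i < 108570 → P i := stepQ 108569 Q108569 (allL N108569 (tt N74107 (iv1 D211793)) (tt N104896 F463085) (tt N115865 F497303) (tt N80815 (iv3 F463089)) (tt N74154 F463088) (tt N80814 F463087) (tt N120031 (iv6 F518660)) (tt N81167 F463086))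
theorem Q108571 : ∀ i, i < 108571 → P i := stepQ 108570 Q108570 (allL N108570 (tt N95385 F463092) (tt N112659 (iv0 F482047)) (tt N112652 (iv2 F482005)) (tt N74107 (iv3 D211794)) (tt N105856 F463090) (tt N101727 F463091) (tt N121717 (iv6 F527932)) (tt N112653 (iv7 F482010)))
theorem Q108572 : ∀ i, i < 108572 → P i := stepQ 108571 Q108571 (allL N108571 (tt N87401 (iv1 F463097)) (tt N87402 (iv0 F463096)) (tt N110973 (iv2 F474027)) (tt N87421 F463093) (tt N112268 (iv4 F480288)) (tt N88225 F463094) (tt N74110 (iv6 D211795)) (tt N88224 (iv7 F463095)))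
theorem Q108573 : ∀ i, i < 108573 → P i := stepQ 108572 Q108572 (allL N108572 (tt N74115 (iv1 F463101)) (tt N74112 (iv0 D211796)) (tt N94394 (iv2 F463100)) (tt N102750 (iv3 F463103)) (tt N105995 F463099) (tt N94210 F463098) (tt N121650 (iv6 F527540)) (tt N94397 F463102))
theorem Q108574 : ∀ i, i < 108574 → P i := stepQ 108573 Q108573 (allL N108573 (tt N94803 F463108) (tt N94799 (iv0 F463109)) (tt N107800 F463105) (tt N74112 (iv3 D211797)) (tt N99315 F463106) (tt N119843 (iv5 F517656)) (tt N117904 (iv6 F507523)) (tt N107791 F463107))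
theorem Q108575 : ∀ i, i < 108575 → P i := stepQ 108574 Q108574 (allL N108574 (tt N78646 (iv1 F463114)) (tt N91978 (iv0 F463113)) (tt N81588 F463110) (tt N108937 (iv3 F464571)) (tt N119430 (iv4 F515577)) (tt N74114 (iv5 D211798)) (tt N78659 F463111) (tt N91973 F463112))
theorem Q108576 : ∀ i, i < 108576 → P i := stepQ 108575 Q108575 (allL N108575 (tt N117876 (iv1 F507388)) (tt N92348 (iv0 F463117)) (tt N74122 F463115) (tt N117810 (iv3 F507082)) (tt N74118 F463116) (tt N121718 D224977) (tt N74116 (iv6 D211799)) (tt N117874 (iv7 F507378)))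
theorem Q108577 : ∀ i, i < 108577 → P i := stepQ 108576 Q108576 (allL N108576 (tt N81633 F463121) (tt N81631 (iv0 F463122)) (tt N74126 F463118) (tt N85720 F463119) (tt N96770 F463120) (tt N120557 (iv5 F521444)) (tt N74117 (iv6 D211800)) (tt N112848 (iv7 F482948)))
theorem Q108578 : ∀ i, i < 108578 → P i := stepQ 108577 Q108577 (allL N108577 (tt N114115 F488609) (tt N97343 (iv0 F463126)) (tt N74128 F463125) (tt N115881 F497389) (tt N115883 (iv4 F497396)) (tt N74118 (iv5 D211801)) (tt N120557 (iv6 F521442)) (tt N119240 (iv7 F514562)))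
theorem Q108579 : ∀ i, i < 108579 → P i := stepQ 108578 Q108578 (allL N108578 (tt N95317 F463131) (tt N92544 (iv0 F463133)) (tt N99074 F463127) (tt N92419 F463128) (tt N99071 F463129) (tt N74120 (iv5 D211802)) (tt N102746 F463132) (tt N99076 F463130))
theorem Q108580 : ∀ i, i < 108580 → P i := stepQ 108579 Q108579 (allL N108579 (tt N98911 F463136) (tt N121572 F527099) (tt N119369 (iv2 F515256)) (tt N92422 F463134) (tt N99221 F463135) (tt N121719 D224978) (tt N74121 (iv6 D211803)) (tt N121573 (iv7 F527105)))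
theorem Q108581 : ∀ i, i < 108581 → P i := stepQ 108580 Q108580 (allL N108580 (tt N117874 (iv1 F507377)) (tt N74122 (iv0 D211804)) (tt N117876 (iv2 F507384)) (tt N107583 F463137) (tt N95572 F463138) (tt N121272 (iv5 F525503)) (tt N107353 (iv6 F463139)) (tt N92348 (iv7 F463140)))
theorem Q108582 : ∀ i, i < 108582 → P i := stepQ 108581 Q108581 (allL N108581 (tt N120139 (iv1 F519271)) (tt N118510 (iv0 F510754)) (tt N121718 (iv2 F527935)) (tt N95321 F463141) (tt N121323 (iv4 F525760)) (tt N74122 (iv5 D211805)) (tt N121719 (iv6 F527938)) (tt N118531 (iv7 F510821)))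
theorem Q108583 : ∀ i, i < 108583 → P i := stepQ 108582 Q108582 (allL N108582 (tt N92348 (iv1 F463145)) (tt N117876 F507387) (tt N117874 (iv2 F507380)) (tt N94271 F463142) (tt N74129 F463143) (tt N118531 (iv5 F510820)) (tt N94269 F463144) (tt N74122 (iv7 D211806)))
theorem Q108584 : ∀ i, i < 108584 → P i := stepQ 108583 Q108583 (allL N108583 (tt N112848 (iv1 F482950)) (tt N74126 (iv0 D211807)) (tt N81633 (iv2 F463148)) (tt N119651 F516717) (tt N78672 F463147) (tt N101578 (iv5 F463150)) (tt N114817 (iv6 F492033)) (tt N81631 (iv7 F463149)))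
theorem Q108585 : ∀ i, i < 108585 → P i := stepQ 108584 Q108584 (allL N108584 (tt N74126 (iv1 D211808)) (tt N112848 (iv0 F482949)) (tt N81631 F463154) (tt N91775 F463156) (tt N78673 F463152) (tt N91773 (iv5 F463155)) (tt N81594 (iv6 F463153)) (tt N81633 F463151))
theorem Q108586 : ∀ i, i < 108586 → P i := stepQ 108585 Q108585 (allL N108585 (tt N101583 F463161) (tt N101581 F463160) (tt N120557 (iv2 F521440)) (tt N74132 F463158) (tt N111426 (iv4 F476310)) (tt N74126 (iv5 D211809)) (tt N74128 F463159) (tt N120558 (iv7 F521449)))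
theorem Q108587 : ∀ i, i < 108587 → P i := stepQ 108586 Q108586 (allL N108586 (tt N81631 (iv1 F463163)) (tt N81633 F463164) (tt N112848 (iv2 F482945)) (tt N74133 F463162) (tt N111138 (iv4 F474882)) (tt N120558 (iv5 F521448)) (tt N114233 F489129) (tt N74126 (iv7 D211810)))
theorem Q108588 : ∀ i, i < 108588 → P i := stepQ 108587 Q108587 (allL N108587 (tt N97113 F463168) (tt N97112 F463169) (tt N97114 F463165) (tt N120554 (iv3 F521422)) (tt N74127 (iv4 D211811)) (tt N121720 D224979) (tt N108451 F463166) (tt N92337 F463167))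
theorem Q108589 : ∀ i, i < 108589 → P i := stepQ 108588 Q108588 (allL N108588 (tt N119242 (iv1 F514573)) (tt N119241 (iv0 F514572)) (tt N119243 (iv2 F514580)) (tt N117128 (iv3 F503530)) (tt N121677 (iv4 F527684)) (tt N74127 (iv5 D211812)) (tt N108452 F463170) (tt N95355 F463171))
theorem Q108590 : ∀ i, i < 108590 → P i := stepQ 108589 Q108589 (allL N108589 (tt N119240 F514565) (tt N74128 (iv0 D211813)) (tt N114115 (iv2 F488601)) (tt N115653 (iv3 F496161)) (tt N119050 (iv4 F513501)) (tt N97344 F463172) (tt N88105 (iv6 F463173)) (tt N97343 (iv7 F463174)))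
theorem Q108591 : ∀ i, i < 108591 → P i := stepQ 108590 Q108590 (allL N108590 (tt N74128 (iv1 D211814)) (tt N119240 (iv0 F514564)) (tt N97343 F463176) (tt N114119 (iv3 F488624)) (tt N121675 (iv4 F527671)) (tt N97332 (iv5 F463175)) (tt N115705 (iv6 F496418)) (tt N114115 (iv7 F488607)))
theorem Q108592 : ∀ i, i < 108592 → P i := stepQ 108591 Q108591 (allL N108591 (tt N118381 F510048) (tt N118385 F510072) (tt N115883 (iv2 F497395)) (tt N83773 F463177) (tt N74128 (iv4 D211815)) (tt N96166 (iv5 F463178)) (tt N111426 (iv6 F476308)) (tt N112104 (iv7 F479500)))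
theorem Q108593 : ∀ i, i < 108593 → P i := stepQ 108592 Q108592 (allL N108592 (tt N97343 (iv1 F463181)) (tt N114115 (iv0 F488604)) (tt N119240 (iv2 F514560)) (tt N74136 F463179) (tt N112104 (iv4 F479501)) (tt N74129 F463180) (tt N121721 D224980) (tt N74128 (iv7 D211816)))
theorem Q108594 : ∀ i, i < 108594 → P i := stepQ 108593 Q108593 (allL N108593 (tt N108620 F476447) (tt N88158 (iv0 F463183)) (tt N115643 (iv2 F496107)) (tt N95434 F463182) (tt N120033 (iv4 F518669)) (tt N74131 (iv5 D211817)) (tt N111458 (iv6 F476446)) (tt N117662 (iv7 F506281)))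
theorem Q108595 : ∀ i, i < 108595 → P i := stepQ 108594 Q108594 (allL N108594 (tt N120051 (iv1 F518777)) (tt N74132 (iv0 D211818)) (tt N117659 (iv2 F506258)) (tt N87497 (iv3 F463186)) (tt N108563 (iv4 F463187)) (tt N87492 F463184) (tt N87493 F463185) (tt N120049 (iv7 F518758)))
theorem Q108596 : ∀ i, i < 108596 → P i := stepQ 108595 Q108595 (allL N108595 (tt N74132 (iv1 D211819)) (tt N120051 F518776) (tt N120049 (iv2 F518762)) (tt N95428 (iv3 F506265)) (tt N108561 (iv4 F506266)) (tt N119580 (iv5 F516367)) (tt N121701 (iv6 F527835)) (tt N117659 F506264))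
theorem Q108597 : ∀ i, i < 108597 → P i := stepQ 108596 Q108596 (allL N108596 (tt N120046 (iv1 F518743)) (tt N120045 (iv0 F518735)) (tt N120050 (iv2 F518764)) (tt N83774 (iv3 F463189)) (tt N74132 (iv4 D211820)) (tt N83781 (iv5 F463190)) (tt N74135 F463188) (tt N121722 D224981))
theorem Q108598 : ∀ i, i < 108598 → P i := stepQ 108597 Q108597 (allL N108597 (tt N120049 (iv1 F518757)) (tt N117659 (iv0 F506262)) (tt N120051 (iv2 F518771)) (tt N120558 (iv3 F521452)) (tt N121722 (iv4 F527952)) (tt N74133 F463191) (tt N115866 F497311) (tt N74132 (iv7 D211821)))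
theorem Q108599 : ∀ i, i < 108599 → P i := stepQ 108598 Q108598 (allL N108598 (tt N106820 (iv1 F463197)) (tt N74135 (iv0 D211822)) (tt N108527 (iv2 F463195)) (tt N106813 F463194) (tt N97224 F463193) (tt N102107 F463192) (tt N114521 (iv6 F490573)) (tt N97223 F463196))
theorem Q108600 : ∀ i, i < 108600 → P i := stepQ 108599 Q108599 (allL N108599 (tt N97223 (iv1 F463203)) (tt N108527 F463204) (tt N106820 F463199) (tt N83775 F463200) (tt N74136 F463201) (tt N83772 F463202) (tt N87401 (iv6 F463205)) (tt N74135 (iv7 D211823)))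
theorem Q108601 : ∀ i, i < 108601 → P i := stepQ 108600 Q108600 (allL N108600 (tt N114148 F488750) (tt N117614 (iv0 F506005)) (tt N115869 (iv2 F497321)) (tt N121721 (iv3 F527946)) (tt N87401 F463206) (tt N110966 (iv5 F474000)) (tt N74136 (iv6 D211824)) (tt N115866 (iv7 F497308)))
theorem Q108602 : ∀ i, i < 108602 → P i := stepQ 108601 Q108601 (allL N108601 (tt N74461 F463210) (tt N91207 (iv0 F463211)) (tt N74145 F463207) (tt N98146 F463208) (tt N74141 (iv4 D211825)) (tt N74773 F463209) (tt N104079 (iv6 F463212)) (tt N108790 (iv7 F463951)))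
theorem Q108603 : ∀ i, i < 108603 → P i := stepQ 108602 Q108602 (allL N108602 (tt N115376 F494887) (tt N115812 (iv0 F497025)) (tt N74146 F463213) (tt N114234 F489135) (tt N104079 F463214) (tt N120502 (iv5 F521123)) (tt N74141 (iv6 D211826)) (tt N114856 (iv7 F492195)))
theorem Q108604 : ∀ i, i < 108604 → P i := stepQ 108603 Q108603 (allL N108603 (tt N81163 F479575) (tt N117124 (iv0 F503512)) (tt N74148 F463215) (tt N115527 (iv3 F495643)) (tt N120503 (iv4 F521129)) (tt N74142 (iv5 D211827)) (tt N120502 F521126) (tt N117197 (iv7 F503867)))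
theorem Q108605 : ∀ i, i < 108605 → P i := stepQ 108604 Q108604 (allL N108604 (tt N116053 F498253) (tt N116046 (iv0 F498227)) (tt N115807 (iv2 F496993)) (tt N74143 (iv3 D211828)) (tt N115485 (iv4 F495432)) (tt N102861 F463216) (tt N87096 (iv6 F463217)) (tt N115732 (iv7 F496570)))
theorem Q108606 : ∀ i, i < 108606 → P i := stepQ 108605 Q108605 (allL N108605 (tt N91180 F463220) (tt N91178 F463221) (tt N114547 (iv2 F490710)) (tt N87521 F463222) (tt N74143 (iv4 D211829)) (tt N98353 F463219) (tt N114296 (iv6 F489453)) (tt N91228 F463218))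
theorem Q108607 : ∀ i, i < 108607 → P i := stepQ 108606 Q108606 (allL N108606 (tt N115369 (iv1 F494849)) (tt N102864 (iv0 F463224)) (tt N113932 (iv2 F487848)) (tt N87096 F463223) (tt N114296 (iv4 F489452)) (tt N109536 (iv5 F467425)) (tt N74143 (iv6 D211830)) (tt N114548 (iv7 F490720)))
theorem Q108608 : ∀ i, i < 108608 → P i := stepQ 108607 Q108607 (allL N108607 (tt N108790 (iv1 F463952)) (tt N74145 (iv0 D211831)) (tt N74461 (iv2 F463229)) (tt N75559 F463227) (tt N107279 F463226) (tt N74460 F463225) (tt N104916 F463228) (tt N91207 F463230))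
theorem Q108609 : ∀ i, i < 108609 → P i := stepQ 108608 Q108608 (allL N108608 (tt N114856 F492197) (tt N74146 (iv0 D211832)) (tt N115376 (iv2 F494883)) (tt N115745 (iv3 F496631)) (tt N91220 F463231) (tt N112463 (iv5 F481194)) (tt N81611 F463232) (tt N115812 (iv7 F497024)))
theorem Q108610 : ∀ i, i < 108610 → P i := stepQ 108609 Q108609 (allL N108609 (tt N74146 (iv1 D211833)) (tt N114856 F492196) (tt N115812 (iv2 F497020)) (tt N121074 F524376) (tt N105710 F463233) (tt N112462 (iv5 F481191)) (tt N85455 (iv6 F463234)) (tt N115376 (iv7 F494885)))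
theorem Q108611 : ∀ i, i < 108611 → P i := stepQ 108610 Q108610 (allL N108610 (tt N113663 (iv1 F486536)) (tt N113665 (iv0 F486543)) (tt N120502 (iv2 F521120)) (tt N74151 F463235) (tt N100551 F463237) (tt N74146 (iv5 D211834)) (tt N74148 F463236) (tt N120504 (iv7 F521137)))
theorem Q108612 : ∀ i, i < 108612 → P i := stepQ 108611 Q108611 (allL N108611 (tt N115812 (iv1 F497026)) (tt N115376 F494888) (tt N114856 (iv2 F492192)) (tt N74152 F463238) (tt N104078 F463239) (tt N120504 (iv5 F521136)) (tt N85721 F463240) (tt N74146 (iv7 D211835)))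
theorem Q108613 : ∀ i, i < 108613 → P i := stepQ 108612 Q108612 (allL N108612 (tt N116471 (iv1 F500303)) (tt N116470 F500308) (tt N116472 (iv2 F500309)) (tt N74147 (iv3 D211836)) (tt N120940 (iv4 F523592)) (tt N114175 (iv5 F488846)) (tt N103953 F463241) (tt N109537 (iv7 F467429)))
theorem Q108614 : ∀ i, i < 108614 → P i := stepQ 108613 Q108613 (allL N108613 (tt N117198 (iv1 F503870)) (tt N110969 (iv0 F501935)) (tt N117199 (iv2 F503875)) (tt N114175 F488847) (tt N120520 (iv4 F521226)) (tt N74147 (iv5 D211838)) (tt N120519 F521224) (tt N117192 (iv7 F503843)))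
theorem Q108615 : ∀ i, i < 108615 → P i := stepQ 108614 Q108614 (allL N108614 (tt N74148 (iv1 D211840)) (tt N117197 (iv0 F503868)) (tt N117124 (iv2 F503509)) (tt N113824 (iv3 F487307)) (tt N121671 (iv4 F527651)) (tt N116461 (iv5 F500255)) (tt N116462 (iv6 F500259)) (tt N81163 F481193))
theorem Q108616 : ∀ i, i < 108616 → P i := stepQ 108615 Q108615 (allL N108615 (tt N112200 F480028) (tt N121638 (iv0 F527477)) (tt N120503 (iv2 F521127)) (tt N118861 (iv3 F512449)) (tt N74148 (iv4 D211841)) (tt N95249 (iv5 F463244)) (tt N100551 F463243) (tt N121069 (iv7 F524350)))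
theorem Q108617 : ∀ i, i < 108617 → P i := stepQ 108616 Q108616 (allL N108616 (tt N120050 (iv1 F518768)) (tt N121722 F527955) (tt N120045 (iv2 F518730)) (tt N119372 (iv3 F515270)) (tt N108514 F498337) (tt N74149 (iv5 D211842)) (tt N119370 (iv6 F515265)) (tt N120046 (iv7 F518740)))
theorem Q108618 : ∀ i, i < 108618 → P i := stepQ 108617 Q108617 (allL N108617 (tt N121722 (iv1 F527956)) (tt N120050 F518769) (tt N120046 (iv2 F518737)) (tt N84527 F463245) (tt N108513 F463247) (tt N74150 (iv5 D211843)) (tt N84525 F463246) (tt N120045 (iv7 F518733)))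
theorem Q108619 : ∀ i, i < 108619 → P i := stepQ 108618 Q108618 (allL N108618 (tt N115867 F497318) (tt N74151 (iv0 D211844)) (tt N120047 (iv2 F518750)) (tt N121723 D224982) (tt N115861 (iv4 F497281)) (tt N113660 F486526) (tt N121724 D224983) (tt N120048 (iv7 F518752)))
theorem Q108620 : ∀ i, i < 108620 → P i := stepQ 108619 Q108619 (allL N108619 (tt N74151 (iv1 D211845)) (tt N115867 F497317) (tt N120048 (iv2 F518756)) (tt N91780 (iv3 F496124)) (tt N115860 (iv4 F497277)) (tt N113661 (iv5 F486529)) (tt N91777 F496123) (tt N120047 F518749))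
theorem Q108621 : ∀ i, i < 108621 → P i := stepQ 108620 Q108620 (allL N108620 (tt N91917 (iv1 F488899)) (tt N108593 (iv0 F476447)) (tt N115969 (iv2 F497826)) (tt N115993 (iv3 F497945)) (tt N74151 (iv4 D211846)) (tt N121698 (iv5 F527815)) (tt N74155 F463248) (tt N114186 (iv7 F488898)))
theorem Q108622 : ∀ i, i < 108622 → P i := stepQ 108621 Q108621 (allL N108621 (tt N120048 (iv1 F518751)) (tt N120047 F518748) (tt N115867 (iv2 F497312)) (tt N120504 (iv3 F521135)) (tt N114186 (iv4 F488896)) (tt N74152 F463249) (tt N114185 F488893) (tt N74151 (iv7 D211847)))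
theorem Q108623 : ∀ i, i < 108623 → P i := stepQ 108622 Q108622 (allL N108622 (tt N110955 (iv1 F473955)) (tt N74164 (iv0 F463255)) (tt N95501 F463254) (tt N74153 (iv3 D211848)) (tt N105366 F463250) (tt N104737 F463251) (tt N95359 F463252) (tt N108452 F463253))
theorem Q108624 : ∀ i, i < 108624 → P i := stepQ 108623 Q108623 (allL N108623 (tt N115526 F495637) (tt N115683 (iv0 F496294)) (tt N114788 (iv2 F491864)) (tt N74154 (iv3 D211849)) (tt N112302 F480449) (tt N91582 F463256) (tt N115662 F496198) (tt N114789 (iv7 F491870)))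
theorem Q108625 : ∀ i, i < 108625 → P i := stepQ 108624 Q108624 (allL N108624 (tt N115647 F496128) (tt N121468 (iv0 F526545)) (tt N117128 (iv2 F503529)) (tt N115662 (iv3 F496200)) (tt N120031 (iv4 F518659)) (tt N107797 F463257) (tt N74154 (iv6 D211850)) (tt N121704 (iv7 F527856)))
theorem Q108626 : ∀ i, i < 108626 → P i := stepQ 108625 Q108625 (allL N108625 (tt N99346 (iv1 F463266)) (tt N74156 (iv0 D211851)) (tt N99344 (iv2 F463261)) (tt N99436 F463260) (tt N99726 F463259) (tt N100583 F463258) (tt N112476 (iv6 F481239)) (tt N99345 (iv7 F463265)))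
theorem Q108627 : ∀ i, i < 108627 → P i := stepQ 108626 Q108626 (allL N108626 (tt N99345 (iv1 F463272)) (tt N99344 F463273) (tt N99346 F463267) (tt N91531 F463268) (tt N74159 F463269) (tt N74456 F463270) (tt N107170 F463271) (tt N74156 (iv7 D211852)))
theorem Q108628 : ∀ i, i < 108628 → P i := stepQ 108627 Q108627 (allL N108627 (tt N87378 F463277) (tt N87377 F463278) (tt N84515 F463274) (tt N114086 (iv3 F488533)) (tt N84512 F463275) (tt N74157 (iv5 D211853)) (tt N115529 (iv6 F495653)) (tt N87354 F463276))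
theorem Q108629 : ∀ i, i < 108629 → P i := stepQ 108628 Q108628 (allL N108628 (tt N88056 F463280) (tt N119318 (iv0 F514988)) (tt N115949 (iv2 F497733)) (tt N74164 F463279) (tt N117462 (iv4 F505161)) (tt N74161 (iv5 D211854)) (tt N118395 (iv6 F510121)) (tt N117204 (iv7 F503891)))
theorem Q108630 : ∀ i, i < 108630 → P i := stepQ 108629 Q108629 (allL N108629 (tt N121723 (iv1 F527963)) (tt N119192 (iv0 F514288)) (tt N108275 F463281) (tt N118395 (iv3 F510120)) (tt N114748 (iv4 F491647)) (tt N74162 (iv5 D211855)) (tt N74164 F463282) (tt N113676 (iv7 F486587)))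
theorem Q108631 : ∀ i, i < 108631 → P i := stepQ 108630 Q108630 (allL N108630 (tt N109662 (iv1 F467987)) (tt N110956 F473962) (tt N110957 (iv2 F473963)) (tt N87343 F463283) (tt N108221 F463284) (tt N74163 (iv5 D211856)) (tt N115979 F497889) (tt N110951 (iv7 F473935)))
theorem Q108632 : ∀ i, i < 108632 → P i := stepQ 108631 Q108631 (allL N108631 (tt N74164 (iv1 D211857)) (tt N110955 (iv0 F473954)) (tt N108452 (iv2 F463287)) (tt N114788 (iv3 F491865)) (tt N121594 (iv4 F527222)) (tt N108256 F463286) (tt N119243 (iv6 F514583)) (tt N95501 F463285))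
theorem Q108633 : ∀ i, i < 108633 → P i := stepQ 108632 Q108632 (allL N108632 (tt N115673 F496246) (tt N115672 F496241) (tt N87323 F463288) (tt N86263 (iv3 F463290)) (tt N74164 (iv4 D211858)) (tt N86260 F463289) (tt N114748 (iv6 F491646)) (tt N115674 (iv7 F496252)))
theorem Q108634 : ∀ i, i < 108634 → P i := stepQ 108633 Q108633 (allL N108633 (tt N108452 (iv1 F463292)) (tt N95501 F463293) (tt N110955 (iv2 F473950)) (tt N117204 (iv3 F503890)) (tt N115674 (iv4 F496250)) (tt N74165 F463291) (tt N115871 F497329) (tt N74164 (iv7 D211859)))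
theorem Q108635 : ∀ i, i < 108635 → P i := stepQ 108634 Q108634 (allL N108634 (tt N102937 (iv1 F463300)) (tt N75696 F463299) (tt N87515 F463294) (tt N104092 F463295) (tt N88715 F463296) (tt N74167 (iv5 D211860)) (tt N98413 F463297) (tt N102936 F463298))
theorem Q108636 : ∀ i, i < 108636 → P i := stepQ 108635 Q108635 (allL N108635 (tt N80662 F463303) (tt N87100 F463305) (tt N111740 (iv2 F477747)) (tt N74168 (iv3 D211861)) (tt N112879 (iv4 F483110)) (tt N81548 F463301) (tt N81549 (iv6 F463304)) (tt N87513 F463302))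
theorem Q108637 : ∀ i, i < 108637 → P i := stepQ 108636 Q108636 (allL N108636 (tt N92005 F463309) (tt N115693 (iv0 F496351)) (tt N87512 F463306) (tt N81549 F463307) (tt N109902 (iv4 F469137)) (tt N81547 F463308) (tt N74168 (iv6 D211862)) (tt N111735 (iv7 F477727)))
theorem Q108638 : ∀ i, i < 108638 → P i := stepQ 108637 Q108637 (allL N108637 (tt N91680 F463313) (tt N100334 F463314) (tt N87517 F463310) (tt N113864 F487521) (tt N74172 (iv4 D211863)) (tt N76629 F463311) (tt N112396 (iv6 F480918)) (tt N87516 F463312))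
theorem Q108639 : ∀ i, i < 108639 → P i := stepQ 108638 Q108638 (allL N108638 (tt N87483 F463319) (tt N87482 F463320) (tt N87485 F463315) (tt N74175 (iv3 D211864)) (tt N86420 F463316) (tt N91335 F463317) (tt N83599 (iv6 F463321)) (tt N87121 F463318))
theorem Q108640 : ∀ i, i < 108640 → P i := stepQ 108639 Q108639 (allL N108639 (tt N74185 F463324) (tt N121698 F527817) (tt N119580 (iv2 F516362)) (tt N83599 F463322) (tt N108642 (iv4 F463333)) (tt N120049 F518761) (tt N74175 (iv6 D211865)) (tt N87492 F463323))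
theorem Q108641 : ∀ i, i < 108641 → P i := stepQ 108640 Q108640 (allL N108640 (tt N87490 (iv1 F463330)) (tt N81648 (iv0 F463328)) (tt N87117 F463325) (tt N87467 F463326) (tt N108643 (iv4 F463335)) (tt N80027 F463327) (tt N74176 (iv6 D211866)) (tt N87488 (iv7 F463329)))
theorem Q108642 : ∀ i, i < 108642 → P i := stepQ 108641 Q108641 (allL N108641 (tt N114823 (iv1 F492064)) (tt N86605 F463332) (tt N113634 (iv2 F486402)) (tt N114817 (iv3 F492030)) (tt N103054 F463331) (tt N74180 (iv5 D211867)) (tt N119651 (iv6 F516715)) (tt N113635 (iv7 F486411)))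
theorem Q108643 : ∀ i, i < 108643 → P i := stepQ 108642 Q108642 (allL N108642 (tt N108644 F463341) (tt N113662 F486533) (tt N113661 (iv2 F486528)) (tt N114270 F489317) (tt N108639 F463333) (tt N120048 (iv5 F518753)) (tt N74180 (iv6 D211868)) (tt N113660 F486525))
theorem Q108644 : ∀ i, i < 108644 → P i := stepQ 108643 Q108643 (allL N108643 (tt N115692 (iv1 F496343)) (tt N74183 (iv0 F463336)) (tt N115469 (iv2 F495332)) (tt N87518 F463334) (tt N108640 F463335) (tt N118112 (iv5 F508667)) (tt N74181 (iv6 D211869)) (tt N92008 (iv7 F463337)))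
theorem Q108645 : ∀ i, i < 108645 → P i := stepQ 108644 Q108644 (allL N108644 (tt N117682 F506396) (tt N108642 (iv0 F463341)) (tt N83781 F463338) (tt N87883 F463339) (tt N88339 F463340) (tt N120050 (iv5 F518767)) (tt N74182 (iv6 D211870)) (tt N115464 (iv7 F495314)))
theorem Q108646 : ∀ i, i < 108646 → P i := stepQ 108645 Q108645 (allL N108645 (tt N92008 (iv1 F463344)) (tt N115469 (iv0 F495336)) (tt N115692 F496347) (tt N95294 F463342) (tt N115499 (iv4 F495507)) (tt N92001 F463343) (tt N121698 (iv6 F527816)) (tt N74183 (iv7 D211871)))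
theorem Q108647 : ∀ i, i < 108647 → P i := stepQ 108646 Q108646 (allL N108646 (tt N113689 F486648) (tt N119363 (iv0 F515229)) (tt N81659 F463345) (tt N74185 F463346) (tt N113684 (iv4 F486615)) (tt N114840 F492134) (tt N74184 (iv6 D211872)) (tt N121725 D224984))
theorem Q108648 : ∀ i, i < 108648 → P i := stepQ 108647 Q108647 (allL N108647 (tt N121698 (iv1 F527818)) (tt N74185 (iv0 D211873)) (tt N87492 (iv2 F463348)) (tt N95866 F463349) (tt N117682 (iv4 F506394)) (tt N117659 (iv5 F506261)) (tt N87488 F463347) (tt N119580 (iv7 F516365)))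
theorem Q108649 : ∀ i, i < 108649 → P i := stepQ 108648 Q108648 (allL N108648 (tt N119580 F516368) (tt N87492 F497832) (tt N121698 (iv2 F527812)) (tt N121725 (iv3 F527972)) (tt N120790 (iv4 F522732)) (tt N115969 F497833) (tt N115692 F496348) (tt N74185 (iv7 D211874)))
theorem Q108650 : ∀ i, i < 108650 → P i := stepQ 108649 Q108649 (allL N108649 (tt N76054 F463353) (tt N117835 (iv0 F507189)) (tt N108831 (iv2 F464158)) (tt N95333 F463350) (tt N74515 F463352) (tt N74186 (iv5 D211875)) (tt N74514 F463351) (tt N117449 (iv7 F505095)))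
theorem Q108651 : ∀ i, i < 108651 → P i := stepQ 108650 Q108650 (allL N108650 (tt N91466 (iv1 F463360)) (tt N91464 F463359) (tt N74199 (iv2 D211876)) (tt N98960 F463354) (tt N74204 F463355) (tt N98964 F463356) (tt N98965 F463357) (tt N98956 F463358))
theorem Q108652 : ∀ i, i < 108652 → P i := stepQ 108651 Q108651 (allL N108651 (tt N99227 F463365) (tt N99277 F463366) (tt N74206 F463361) (tt N74208 F463362) (tt N98965 F463363) (tt N74206 F463364) (tt N74204 (iv6 D211877)) (tt N118939 (iv7 F512861)))
theorem Q108653 : ∀ i, i < 108653 → P i := stepQ 108652 Q108652 (allL N108652 (tt N74206 (iv1 D211878)) (tt N118939 F512860) (tt N99277 (iv2 F463370)) (tt N118880 (iv3 F512549)) (tt N78045 F463369) (tt N99640 F463368) (tt N120035 (iv6 F518682)) (tt N99227 F463367))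
theorem Q108654 : ∀ i, i < 108654 → P i := stepQ 108653 Q108653 (allL N108653 (tt N81831 F463376) (tt N86966 (iv0 F463377)) (tt N89220 F463371) (tt N74207 (iv3 D211879)) (tt N82469 F463372) (tt N108477 F463373) (tt N99264 F463374) (tt N90567 F463375))
theorem Q108655 : ∀ i, i < 108655 → P i := stepQ 108654 Q108654 (allL N108654 (tt N96172 F463381) (tt N115991 (iv0 F497938)) (tt N116875 (iv2 F502302)) (tt N74211 F463378) (tt N108020 F463379) (tt N115837 (iv5 F497154)) (tt N74210 (iv6 D211880)) (tt N93657 F463380))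
theorem Q108656 : ∀ i, i < 108656 → P i := stepQ 108655 Q108655 (allL N108655 (tt N74544 F463385) (tt N74546 F463386) (tt N93403 F463383) (tt N115837 (iv3 F497157)) (tt N120567 (iv4 F521496)) (tt N74211 (iv5 D211881)) (tt N119483 (iv6 F515846)) (tt N93402 F463384))
theorem Q108657 : ∀ i, i < 108657 → P i := stepQ 108656 Q108656 (allL N108656 (tt N103016 (iv1 F463391)) (tt N74213 (iv0 D211882)) (tt N103185 (iv2 F463390)) (tt N103171 F463389) (tt N86377 F463388) (tt N90136 F463387) (tt N118030 (iv6 F508184)) (tt N103186 F463392))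
theorem Q108658 : ∀ i, i < 108658 → P i := stepQ 108657 Q108657 (allL N108657 (tt N118212 (iv1 F509183)) (tt N74216 (iv0 D211883)) (tt N118210 F509167) (tt N90129 F463394) (tt N111006 (iv4 F474205)) (tt N96401 F463393) (tt N90128 F463395) (tt N118211 (iv7 F509171)))
theorem Q108659 : ∀ i, i < 108659 → P i := stepQ 108658 Q108658 (allL N108658 (tt N74216 (iv1 D211884)) (tt N118212 F509182) (tt N118211 (iv2 F509175)) (tt N105430 (iv3 F463398)) (tt N97991 F463396) (tt N96404 F463397) (tt N97990 (iv6 F463399)) (tt N118210 F509168))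
theorem Q108660 : ∀ i, i < 108660 → P i := stepQ 108659 Q108659 (allL N108659 (tt N96103 F463403) (tt N103030 (iv0 F463404)) (tt N83260 F463400) (tt N100132 F463401) (tt N86680 F463402) (tt N108905 (iv5 F464445)) (tt N74217 (iv6 D211885)) (tt N118339 (iv7 F509792)))
theorem Q108661 : ∀ i, i < 108661 → P i := stepQ 108660 Q108660 (allL N108660 (tt N78123 F463408) (tt N105132 F463409) (tt N107106 F463405) (tt N113941 (iv3 F487887)) (tt N74219 (iv4 D211886)) (tt N80013 F463407) (tt N108846 (iv6 F464238)) (tt N107139 F463406))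
theorem Q108662 : ∀ i, i < 108662 → P i := stepQ 108661 Q108661 (allL N108661 (tt N105132 F463414) (tt N78123 F463415) (tt N107139 F463410) (tt N78094 F463416) (tt N74220 (iv4 D211887)) (tt N80014 F463411) (tt N106775 F463412) (tt N107106 F463413))
theorem Q108663 : ∀ i, i < 108663 → P i := stepQ 108662 Q108662 (allL N108662 (tt N106046 F463423) (tt N106764 F463426) (tt N74223 F463419) (tt N103346 F463420) (tt N106086 F463421) (tt N96132 (iv5 F463424)) (tt N74221 (iv6 D211888)) (tt N106761 F463422))
theorem Q108664 : ∀ i, i < 108664 → P i := stepQ 108663 Q108663 (allL N108663 (tt N74223 (iv1 D211889)) (tt N106761 F463427) (tt N106764 (iv2 F463434)) (tt N77506 (iv3 F463431)) (tt N106047 F463429) (tt N77503 F463430) (tt N93860 F463433) (tt N106046 F463428))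
theorem Q108665 : ∀ i, i < 108665 → P i := stepQ 108664 Q108664 (allL N108664 (tt N96134 F463440) (tt N96111 F463441) (tt N96132 F463435) (tt N74227 F463436) (tt N92335 F463439) (tt N74223 (iv5 D211890)) (tt N107799 F463437) (tt N93661 F463438))
theorem Q108666 : ∀ i, i < 108666 → P i := stepQ 108665 Q108665 (allL N108665 (tt N118024 F508153) (tt N107856 (iv0 F463447)) (tt N99478 F463442) (tt N74226 (iv3 D211891)) (tt N93683 F463443) (tt N99117 F463444) (tt N93865 F463445) (tt N103343 F463446))
theorem Q108667 : ∀ i, i < 108667 → P i := stepQ 108666 Q108666 (allL N108666 (tt N93936 F463452) (tt N101928 F463454) (tt N99499 (iv2 F463453)) (tt N74228 (iv3 D211892)) (tt N104866 F463448) (tt N80463 F463449) (tt N95063 F463450) (tt N99498 F463451))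
theorem Q108668 : ∀ i, i < 108668 → P i := stepQ 108667 Q108667 (allL N108667 (tt N95270 (iv1 F463460)) (tt N112174 F479897) (tt N82230 F463455) (tt N74229 (iv3 D211893)) (tt N81457 F463459) (tt N101958 F463456) (tt N101199 F463457) (tt N81456 F463458))
theorem Q108669 : ∀ i, i < 108669 → P i := stepQ 108668 Q108668 (allL N108668 (tt N93877 F463466) (tt N93873 (iv0 F463465)) (tt N93874 F463461) (tt N99626 F463462) (tt N106490 F463463) (tt N115665 (iv5 F496213)) (tt N74230 (iv6 D211894)) (tt N93875 F463464))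
theorem Q108670 : ∀ i, i < 108670 → P i := stepQ 108669 Q108669 (allL N108669 (tt N74233 (iv1 D211895)) (tt N118169 F508983) (tt N82357 F463471) (tt N94724 (iv3 F463469)) (tt N103352 F463468) (tt N99316 (iv5 F463470)) (tt N82439 F463472) (tt N107339 F463467))
theorem Q108671 : ∀ i, i < 108671 → P i := stepQ 108670 Q108670 (allL N108670 (tt N82357 (iv1 F463475)) (tt N107339 F463476) (tt N118169 (iv2 F508979)) (tt N91865 F463473) (tt N108673 (iv4 F463484)) (tt N108953 (iv5 F464640)) (tt N103353 F463474) (tt N74233 (iv7 D211896)))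
theorem Q108672 : ∀ i, i < 108672 → P i := stepQ 108671 Q108671 (allL N108671 (tt N96949 (iv1 F463481)) (tt N118028 F508174) (tt N74234 (iv2 D211897)) (tt N96527 F463477) (tt N87017 F463478) (tt N78225 F463479) (tt N81951 F463480) (tt N118027 (iv7 F508167)))
theorem Q108673 : ∀ i, i < 108673 → P i := stepQ 108672 Q108672 (allL N108672 (tt N74235 (iv1 D211898)) (tt N118201 F509120) (tt N118200 (iv2 F509115)) (tt N115352 (iv3 F494737)) (tt N108676 F498739) (tt N115351 (iv5 F494736)) (tt N118363 (iv6 F509932)) (tt N93838 F463482))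
theorem Q108674 : ∀ i, i < 108674 → P i := stepQ 108673 Q108673 (allL N108673 (tt N118200 (iv1 F509110)) (tt N93838 (iv0 F464532)) (tt N118201 (iv2 F509117)) (tt N81950 F463483) (tt N108670 F463484) (tt N108502 F463485) (tt N118199 (iv6 F509107)) (tt N74235 (iv7 D211899)))
theorem Q108675 : ∀ i, i < 108675 → P i := stepQ 108674 Q108674 (allL N108674 (tt N82363 F463489) (tt N82361 F463490) (tt N112137 (iv2 F479686)) (tt N74237 F463486) (tt N101867 F463487) (tt N89532 F463488) (tt N74236 (iv6 D211900)) (tt N101878 (iv7 F463491)))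
theorem Q108676 : ∀ i, i < 108676 → P i := stepQ 108675 Q108675 (allL N108675 (tt N118199 (iv1 F509109)) (tt N74237 (iv0 D211901)) (tt N118198 F509099) (tt N96543 F463493) (tt N93828 F463492) (tt N107171 (iv5 F463495)) (tt N93827 F463494) (tt N107904 (iv7 F463496)))
theorem Q108677 : ∀ i, i < 108677 → P i := stepQ 108676 Q108676 (allL N108676 (tt N74237 (iv1 D211902)) (tt N118199 F509108) (tt N107904 F463498) (tt N117027 (iv3 F503031)) (tt N108672 (iv4 F498739)) (tt N107901 (iv5 F463497)) (tt N120281 (iv6 F520005)) (tt N118198 (iv7 F509101)))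
theorem Q108678 : ∀ i, i < 108678 → P i := stepQ 108677 Q108677 (allL N108677 (tt N107904 (iv1 F463501)) (tt N118198 F509102) (tt N118199 (iv2 F509103)) (tt N101878 F463499) (tt N101879 F463500) (tt N108935 (iv5 F464562)) (tt N118201 (iv6 F509119)) (tt N74237 (iv7 D211903)))
theorem Q108679 : ∀ i, i < 108679 → P i := stepQ 108678 Q108678 (allL N108678 (tt N81513 F463505) (tt N114807 (iv0 F491973)) (tt N103126 F463502) (tt N74243 F463503) (tt N110268 (iv4 F470738)) (tt N74242 (iv5 D211904)) (tt N76111 F463506) (tt N103125 F463504))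
theorem Q108680 : ∀ i, i < 108680 → P i := stepQ 108679 Q108679 (allL N108679 (tt N86367 (iv1 F463513)) (tt N91342 (iv0 F463512)) (tt N90559 F463507) (tt N74244 F463508) (tt N90567 F463509) (tt N82470 F463510) (tt N74242 (iv6 D211905)) (tt N82469 F463511))
theorem Q108681 : ∀ i, i < 108681 → P i := stepQ 108680 Q108680 (allL N108680 (tt N97376 (iv1 F463519)) (tt N97375 (iv0 F463518)) (tt N97377 F463514) (tt N74250 F463515) (tt N98839 F463516) (tt N109262 (iv5 F466054)) (tt N74249 (iv6 D211906)) (tt N94035 F463517))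
theorem Q108682 : ∀ i, i < 108682 → P i := stepQ 108681 Q108681 (allL N108681 (tt N95513 F463524) (tt N95511 F463525) (tt N91532 F463520) (tt N112365 (iv3 F480760)) (tt N74254 (iv4 D211907)) (tt N94152 F463523) (tt N77779 F463521) (tt N95510 F463522))
theorem Q108683 : ∀ i, i < 108683 → P i := stepQ 108682 Q108682 (allL N108682 (tt N81148 F463530) (tt N80536 (iv0 F463531)) (tt N81146 F463526) (tt N74255 (iv3 D211908)) (tt N108977 (iv4 F464736)) (tt N100024 F463527) (tt N82236 F463528) (tt N81147 F463529))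
theorem Q108684 : ∀ i, i < 108684 → P i := stepQ 108683 Q108683 (allL N108683 (tt N107181 F463535) (tt N107183 F463536) (tt N107459 F463532) (tt N95002 F463533) (tt N121726 D224985) (tt N74256 (iv5 D211909)) (tt N116694 F501341) (tt N107340 F463534))
theorem Q108685 : ∀ i, i < 108685 → P i := stepQ 108684 Q108684 (allL N108684 (tt N119415 (iv1 F515502)) (tt N80192 F463541) (tt N75220 F463537) (tt N79275 F463538) (tt N74259 (iv4 D211910)) (tt N109332 (iv5 F466417)) (tt N75187 F463539) (tt N79272 F463540))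
theorem Q108686 : ∀ i, i < 108686 → P i := stepQ 108685 Q108685 (allL N108685 (tt N118438 (iv1 F510358)) (tt N118442 (iv0 F510378)) (tt N118247 (iv2 F509348)) (tt N102796 (iv3 F463543)) (tt N74260 (iv4 D211911)) (tt N97851 F463542) (tt N102795 (iv6 F463544)) (tt N109171 (iv7 F465668)))
theorem Q108687 : ∀ i, i < 108687 → P i := stepQ 108686 Q108686 (allL N108686 (tt N118203 (iv1 F509131)) (tt N118202 (iv0 F509124)) (tt N96535 F463545) (tt N95046 F463546) (tt N102795 F463547) (tt N93486 F463548) (tt N74260 (iv6 D211912)) (tt N115008 (iv7 F493034)))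
theorem Q108688 : ∀ i, i < 108688 → P i := stepQ 108687 Q108687 (allL N108687 (tt N74288 (iv1 F463552)) (tt N74265 (iv0 D211913)) (tt N74285 (iv2 F463554)) (tt N88624 (iv3 F463556)) (tt N88632 F463550) (tt N101190 F463553) (tt N89368 F463551) (tt N74286 (iv7 F463555)))
theorem Q108689 : ∀ i, i < 108689 → P i := stepQ 108688 Q108688 (allL N108688 (tt N74265 (iv1 D211914)) (tt N74288 F463557) (tt N74286 (iv2 F463561)) (tt N95093 (iv3 F463562)) (tt N91624 F463559) (tt N101191 F463560) (tt N91390 F463563) (tt N74285 F463558))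
theorem Q108690 : ∀ i, i < 108690 → P i := stepQ 108689 Q108689 (allL N108689 (tt N110295 (iv1 F470902)) (tt N107869 F463568) (tt N74287 F463564) (tt N102269 F463565) (tt N80596 F463567) (tt N74265 (iv5 D211915)) (tt N74267 F463566) (tt N120291 (iv7 F520061)))
theorem Q108691 : ∀ i, i < 108691 → P i := stepQ 108690 Q108690 (allL N108690 (tt N93573 (iv1 F463571)) (tt N118326 (iv0 F509721)) (tt N118594 (iv2 F511064)) (tt N74266 (iv3 D211916)) (tt N74545 F463569) (tt N110109 F470030) (tt N110658 (iv6 F472628)) (tt N74289 F463570))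
theorem Q108692 : ∀ i, i < 108692 → P i := stepQ 108691 Q108691 (allL N108691 (tt N94245 F463575) (tt N110677 F472725) (tt N74292 F463572) (tt N110109 (iv3 F470031)) (tt N89564 F463574) (tt N74266 (iv5 D211917)) (tt N94222 (iv6 F463576)) (tt N74290 F463573))
theorem Q108693 : ∀ i, i < 108693 → P i := stepQ 108692 Q108692 (allL N108692 (tt N74297 (iv1 F463580)) (tt N74267 (iv0 D211918)) (tt N74294 (iv2 F463579)) (tt N120204 F519581) (tt N121727 D224986) (tt N105321 F463577) (tt N92392 F463578) (tt N74295 F463581))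
theorem Q108694 : ∀ i, i < 108694 → P i := stepQ 108693 Q108693 (allL N108693 (tt N95017 F463585) (tt N74274 (iv0 F463586)) (tt N107359 F463582) (tt N74270 (iv3 D211919)) (tt N113290 (iv4 F484871)) (tt N104649 F463583) (tt N121728 D224987) (tt N98846 F463584))
theorem Q108695 : ∀ i, i < 108695 → P i := stepQ 108694 Q108694 (allL N108694 (tt N107555 (iv1 F517079)) (tt N118477 (iv0 F510585)) (tt N98845 F463587) (tt N121728 (iv3 F527993)) (tt N119870 (iv4 F517794)) (tt N118566 (iv5 F510947)) (tt N74270 (iv6 D211920)) (tt N118596 (iv7 F511078)))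
theorem Q108696 : ∀ i, i < 108696 → P i := stepQ 108695 Q108695 (allL N108695 (tt N77773 F463591) (tt N77770 F463590) (tt N110116 (iv2 F470061)) (tt N74273 F463588) (tt N100396 F463589) (tt N74272 (iv5 D211921)) (tt N110083 (iv6 F469908)) (tt N108814 F464091))
theorem Q108697 : ∀ i, i < 108697 → P i := stepQ 108696 Q108696 (allL N108696 (tt N74721 (iv1 F463595)) (tt N74273 (iv0 D211922)) (tt N93585 F463597) (tt N74371 F463594) (tt N107675 F463593) (tt N74740 F463592) (tt N117806 (iv6 F507062)) (tt N93586 (iv7 F463596)))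
theorem Q108698 : ∀ i, i < 108698 → P i := stepQ 108697 Q108697 (allL N108697 (tt N74273 (iv1 D211923)) (tt N74721 F463598) (tt N93586 (iv2 F463602)) (tt N110053 (iv3 F469750)) (tt N90275 F463601) (tt N93697 F463600) (tt N120717 (iv6 F522320)) (tt N93585 F463599))
theorem Q108699 : ∀ i, i < 108699 → P i := stepQ 108698 Q108698 (allL N108698 (tt N117126 F503524) (tt N121729 D224988) (tt N93587 F463604) (tt N109346 (iv3 F466498)) (tt N74273 (iv4 D211924)) (tt N79609 F463605) (tt N110447 (iv6 F471627)) (tt N109344 F466490))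
theorem Q108700 : ∀ i, i < 108700 → P i := stepQ 108699 Q108699 (allL N108699 (tt N92480 F463608) (tt N120736 (iv0 F522431)) (tt N117877 (iv2 F507389)) (tt N74276 F463606) (tt N118931 (iv4 F512809)) (tt N120738 (iv5 F522439)) (tt N74275 (iv6 D211925)) (tt N107936 F463607))
theorem Q108701 : ∀ i, i < 108701 → P i := stepQ 108700 Q108700 (allL N108700 (tt N111614 F477161) (tt N77763 (iv0 F463610)) (tt N74280 F463609) (tt N117781 F506941) (tt N112505 (iv4 F481407)) (tt N117882 (iv5 F507413)) (tt N74277 (iv6 D211926)) (tt N111615 (iv7 F477165)))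
theorem Q108702 : ∀ i, i < 108702 → P i := stepQ 108701 Q108701 (allL N108701 (tt N74282 (iv1 F463616)) (tt N74281 F463617) (tt N74284 F463611) (tt N94248 F463612) (tt N74309 F463613) (tt N106102 F463614) (tt N107582 F463615) (tt N74278 (iv7 D211927)))
theorem Q108703 : ∀ i, i < 108703 → P i := stepQ 108702 Q108702 (allL N108702 (tt N112369 F480774) (tt N112509 (iv0 F481427)) (tt N112505 (iv2 F481403)) (tt N79559 F463618) (tt N74280 F463619) (tt N79575 F463620) (tt N74279 (iv6 D211928)) (tt N112498 (iv7 F481365)))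
theorem Q108704 : ∀ i, i < 108704 → P i := stepQ 108703 Q108703 (allL N108703 (tt N74280 (iv1 D211929)) (tt N111615 F477164) (tt N77763 (iv2 F463623)) (tt N74361 (iv3 F463624)) (tt N77777 F463622) (tt N95576 (iv5 F463625)) (tt N74359 (iv6 F463626)) (tt N111614 (iv7 F477159)))
theorem Q108705 : ∀ i, i < 108705 → P i := stepQ 108704 Q108704 (allL N108704 (tt N111605 (iv1 F477129)) (tt N117793 (iv0 F507003)) (tt N117882 (iv2 F507410)) (tt N74287 F463627) (tt N106104 F463629) (tt N74280 (iv5 D211930)) (tt N74283 F463628) (tt N121730 D224989))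
theorem Q108706 : ∀ i, i < 108706 → P i := stepQ 108705 Q108705 (allL N108705 (tt N77763 (iv1 F463632)) (tt N111614 F477162) (tt N111615 F477163) (tt N74288 F463630) (tt N112498 (iv4 F481366)) (tt N121730 (iv5 F528008)) (tt N107588 F463631) (tt N74280 (iv7 D211931)))
theorem Q108707 : ∀ i, i < 108707 → P i := stepQ 108706 Q108706 (allL N108706 (tt N118496 (iv1 F510685)) (tt N118495 F510684) (tt N107370 (iv2 F463636)) (tt N74281 (iv3 D211932)) (tt N107113 F463633) (tt N118460 (iv5 F510494)) (tt N78029 F463634) (tt N107372 F463635))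
theorem Q108708 : ∀ i, i < 108708 → P i := stepQ 108707 Q108707 (allL N108707 (tt N94246 F463638) (tt N108833 (iv0 F464173)) (tt N110105 F470014) (tt N118460 (iv3 F510492)) (tt N89371 F463637) (tt N74281 (iv5 D211933)) (tt N117822 F507129) (tt N117168 (iv7 F503724)))
theorem Q108709 : ∀ i, i < 108709 → P i := stepQ 108708 Q108708 (allL N108708 (tt N90761 F463643) (tt N91328 (iv0 F463642)) (tt N89368 F463639) (tt N95073 F463640) (tt N89372 F463641) (tt N111931 (iv5 F478726)) (tt N74285 (iv6 D211934)) (tt N113270 (iv7 F484804)))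
theorem Q108710 : ∀ i, i < 108710 → P i := stepQ 108709 Q108709 (allL N108709 (tt N90476 (iv1 F463646)) (tt N116445 (iv0 F500157)) (tt N120150 (iv2 F519312)) (tt N74286 (iv3 D211935)) (tt N88625 F463644) (tt N113276 (iv5 F484823)) (tt N120121 F519167) (tt N88624 F463645))
theorem Q108711 : ∀ i, i < 108711 → P i := stepQ 108710 Q108710 (allL N108710 (tt N88278 (iv1 F463650)) (tt N91388 (iv0 F463651)) (tt N91390 F463647) (tt N120121 (iv3 F519163)) (tt N89506 F463648) (tt N113289 (iv5 F484867)) (tt N74286 (iv6 D211936)) (tt N91391 F463649))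
theorem Q108712 : ∀ i, i < 108712 → P i := stepQ 108711 Q108711 (allL N108711 (tt N120291 (iv1 F520063)) (tt N74287 (iv0 D211937)) (tt N110295 (iv2 F470898)) (tt N107722 F463654) (tt N89450 F463652) (tt N117915 (iv5 F507578)) (tt N117871 (iv6 F507365)) (tt N107869 (iv7 F463653)))
theorem Q108713 : ∀ i, i < 108713 → P i := stepQ 108712 Q108712 (allL N108712 (tt N74287 (iv1 D211938)) (tt N120291 (iv0 F520062)) (tt N107869 F463657) (tt N90474 (iv3 F463656)) (tt N89449 F463655) (tt N117794 (iv5 F507008)) (tt N117903 F507520) (tt N110295 (iv7 F470900)))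
theorem Q108714 : ∀ i, i < 108714 → P i := stepQ 108713 Q108713 (allL N108713 (tt N107869 (iv1 F463660)) (tt N110295 (iv0 F470901)) (tt N120291 (iv2 F520057)) (tt N121730 (iv3 F528006)) (tt N89927 F463658) (tt N74288 F463659) (tt N121462 (iv6 F526509)) (tt N74287 (iv7 D211939)))
theorem Q108715 : ∀ i, i < 108715 → P i := stepQ 108714 Q108714 (allL N108714 (tt N118594 (iv1 F511069)) (tt N74289 (iv0 D211940)) (tt N118326 (iv2 F509719)) (tt N108326 F463662) (tt N121676 (iv4 F527677)) (tt N107850 F463661) (tt N118849 (iv6 F512404)) (tt N93573 (iv7 F463663)))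
theorem Q108716 : ∀ i, i < 108716 → P i := stepQ 108715 Q108715 (allL N108715 (tt N110112 F470046) (tt N110110 F470037) (tt N110108 F470033) (tt N74290 F463664) (tt N95072 F463665) (tt N74289 (iv5 D211941)) (tt N118291 F509552) (tt N110109 (iv7 F470032)))
theorem Q108717 : ∀ i, i < 108717 → P i := stepQ 108716 Q108716 (allL N108716 (tt N74290 (iv1 D211942)) (tt N74292 F463666) (tt N94245 (iv2 F463669)) (tt N108833 (iv3 F464170)) (tt N89954 F463668) (tt N74373 F463667) (tt N89953 (iv6 F463670)) (tt N110677 (iv7 F472726)))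
theorem Q108718 : ∀ i, i < 108718 → P i := stepQ 108717 Q108717 (allL N108717 (tt N89565 F463674) (tt N89558 F463675) (tt N89563 F463671) (tt N119087 (iv3 F513721)) (tt N74290 (iv4 D211943)) (tt N104712 F463672) (tt N121479 F526604) (tt N89564 F463673))
theorem Q108719 : ∀ i, i < 108719 → P i := stepQ 108718 Q108718 (allL N108718 (tt N107850 F463681) (tt N107717 F463682) (tt N107848 F463680) (tt N74294 (iv3 D211944)) (tt N108171 (iv4 F463679)) (tt N107865 F463676) (tt N93704 F463677) (tt N107849 F463678))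
theorem Q108720 : ∀ i, i < 108720 → P i := stepQ 108719 Q108719 (allL N108719 (tt N118498 (iv1 F510696)) (tt N107356 F463684) (tt N121727 (iv2 F527985)) (tt N118329 (iv3 F509732)) (tt N74294 (iv4 D211945)) (tt N88942 F463683) (tt N113278 (iv6 F484833)) (tt N119024 (iv7 F513345)))
theorem Q108721 : ∀ i, i < 108721 → P i := stepQ 108720 Q108720 (allL N108720 (tt N107356 F463686) (tt N118498 (iv0 F510695)) (tt N119024 (iv2 F513341)) (tt N111843 (iv3 F478261)) (tt N74295 (iv4 D211946)) (tt N88941 F463685) (tt N117868 (iv6 F507353)) (tt N121727 (iv7 F527989)))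
theorem Q108722 : ∀ i, i < 108722 → P i := stepQ 108721 Q108721 (allL N108721 (tt N121461 F526506) (tt N96252 (iv0 F463690)) (tt N94299 F463688) (tt N119367 (iv3 F515246)) (tt N96293 F463689) (tt N118569 (iv5 F510954)) (tt N74297 (iv6 D211947)) (tt N121462 (iv7 F526510)))
theorem Q108723 : ∀ i, i < 108723 → P i := stepQ 108722 Q108722 (allL N108722 (tt N74300 (iv1 D211948)) (tt N94261 (iv0 F463696)) (tt N94263 F463694) (tt N112865 (iv3 F483031)) (tt N107163 (iv4 F463693)) (tt N89277 F463695) (tt N117845 (iv6 F507235)) (tt N90972 F463692))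
theorem Q108724 : ∀ i, i < 108724 → P i := stepQ 108723 Q108723 (allL N108723 (tt N90972 (iv1 F463703)) (tt N94263 F463702) (tt N74300 (iv2 D211949)) (tt N100084 F463697) (tt N90363 F463698) (tt N89182 F463699) (tt N90361 F463700) (tt N94261 F463701))
theorem Q108725 : ∀ i, i < 108725 → P i := stepQ 108724 Q108724 (allL N108724 (tt N74311 F463708) (tt N74313 (iv0 F463710)) (tt N99623 F463705) (tt N90972 F463706) (tt N99622 F463707) (tt N90971 F463709) (tt N74302 (iv6 D211950)) (tt N112865 (iv7 F483033)))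
theorem Q108726 : ∀ i, i < 108726 → P i := stepQ 108725 Q108725 (allL N108725 (tt N104255 F463715) (tt N95824 F463716) (tt N74316 F463711) (tt N103933 F463712) (tt N74308 (iv4 D211951)) (tt N112159 (iv5 F479813)) (tt N78592 F463713) (tt N104241 F463714))
theorem Q108727 : ∀ i, i < 108727 → P i := stepQ 108726 Q108726 (allL N108726 (tt N74313 (iv1 F463718)) (tt N74311 (iv0 D211952)) (tt N112865 (iv2 F483030)) (tt N118175 (iv3 F509011)) (tt N99625 F463717) (tt N92513 F463720) (tt N107598 F463721) (tt N99623 F463719))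
theorem Q108728 : ∀ i, i < 108728 → P i := stepQ 108727 Q108727 (allL N108727 (tt N117819 F507116) (tt N94269 (iv0 F463723)) (tt N117822 (iv2 F507130)) (tt N74313 (iv3 D211953)) (tt N108751 (iv4 F463809)) (tt N94370 F463722) (tt N110105 (iv6 F470010)) (tt N117821 F507124))
theorem Q108729 : ∀ i, i < 108729 → P i := stepQ 108728 Q108728 (allL N108728 (tt N104241 (iv1 F463729)) (tt N74316 (iv0 D211954)) (tt N104255 (iv2 F463727)) (tt N78606 F463725) (tt N109791 (iv4 F468628)) (tt N81307 F463724) (tt N94474 F463726) (tt N95824 F463728))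
theorem Q108730 : ∀ i, i < 108730 → P i := stepQ 108729 Q108729 (allL N108729 (tt N100395 F463731) (tt N100394 F463732) (tt N112159 (iv2 F479811)) (tt N109411 (iv3 F466829)) (tt N106103 F463730) (tt N74316 (iv5 D211955)) (tt N119373 (iv6 F515277)) (tt N112109 (iv7 F479523)))
theorem Q108731 : ∀ i, i < 108731 → P i := stepQ 108730 Q108730 (allL N108730 (tt N95824 (iv1 F463737)) (tt N104255 F463738) (tt N104241 F463733) (tt N77650 F463734) (tt N74317 F463735) (tt N112109 (iv5 F479521)) (tt N94476 F463736) (tt N74316 (iv7 D211956)))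
theorem Q108732 : ∀ i, i < 108732 → P i := stepQ 108731 Q108731 (allL N108731 (tt N77691 F463744) (tt N107992 F463745) (tt N107474 F463739) (tt N78120 F463740) (tt N105243 F463743) (tt N74318 (iv5 D211957)) (tt N89690 F463741) (tt N78110 F463742))
theorem Q108733 : ∀ i, i < 108733 → P i := stepQ 108732 Q108732 (allL N108732 (tt N120567 (iv1 F521494)) (tt N120566 F521491) (tt N118259 (iv2 F509404)) (tt N116001 (iv3 F497989)) (tt N74319 (iv4 D211958)) (tt N103299 F463746) (tt N121731 D224990) (tt N94429 F463747))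
theorem Q108734 : ∀ i, i < 108734 → P i := stepQ 108733 Q108733 (allL N108733 (tt N117046 F503114) (tt N118392 (iv0 F510106)) (tt N118260 (iv2 F509409)) (tt N115887 (iv3 F497420)) (tt N121731 (iv4 F528013)) (tt N110943 (iv5 F473895)) (tt N74319 (iv6 D211959)) (tt N121732 D224991))
theorem Q108735 : ∀ i, i < 108735 → P i := stepQ 108734 Q108734 (allL N108734 (tt N105030 F463751) (tt N105034 F463752) (tt N74326 F463748) (tt N102823 F463749) (tt N91180 F463750) (tt N74325 (iv5 D211960)) (tt N112402 (iv6 F480950)) (tt N119577 (iv7 F516349)))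
theorem Q108736 : ∀ i, i < 108736 → P i := stepQ 108735 Q108735 (allL N108735 (tt N90531 F463755) (tt N107326 F463756) (tt N74327 F463753) (tt N106690 F463754) (tt N119982 (iv4 F518376)) (tt N117577 (iv5 F505805)) (tt N74325 (iv6 D211961)) (tt N121700 (iv7 F527831)))
theorem Q108737 : ∀ i, i < 108737 → P i := stepQ 108736 Q108736 (allL N108736 (tt N74327 (iv1 D211962)) (tt N121700 F527830) (tt N107326 (iv2 F463759)) (tt N114192 (iv3 F488926)) (tt N107320 F463758) (tt N111884 F478490) (tt N116032 (iv6 F498147)) (tt N90531 F463757))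
theorem Q108738 : ∀ i, i < 108738 → P i := stepQ 108737 Q108737 (allL N108737 (tt N115896 F497467) (tt N117578 F505813) (tt N117577 (iv2 F505808)) (tt N74334 F463760) (tt N119553 (iv4 F516211)) (tt N74327 (iv5 D211963)) (tt N114859 (iv6 F492208)) (tt N117576 F505802))
theorem Q108739 : ∀ i, i < 108739 → P i := stepQ 108738 Q108738 (allL N108738 (tt N107326 (iv1 F463762)) (tt N90531 F463763) (tt N121700 F527829) (tt N74335 F463761) (tt N119984 (iv4 F518388)) (tt N117576 (iv5 F505798)) (tt N110975 (iv6 F474033)) (tt N74327 (iv7 D211964)))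
theorem Q108740 : ∀ i, i < 108740 → P i := stepQ 108739 Q108739 (allL N108739 (tt N118843 (iv1 F512379)) (tt N118841 (iv0 F512364)) (tt N118896 F512628) (tt N114859 (iv3 F492207)) (tt N87367 F463765) (tt N74331 (iv5 D211965)) (tt N74334 F463764) (tt N118897 (iv7 F512632)))
theorem Q108741 : ∀ i, i < 108741 → P i := stepQ 108740 Q108740 (allL N108740 (tt N96766 (iv1 F463768)) (tt N105688 F463769) (tt N115396 (iv2 F494977)) (tt N112403 F480957) (tt N98736 F463766) (tt N118897 (iv5 F512633)) (tt N83795 F463767) (tt N74331 (iv7 D211966)))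
theorem Q108742 : ∀ i, i < 108742 → P i := stepQ 108741 Q108741 (allL N108741 (tt N87376 F463771) (tt N87373 F463772) (tt N115890 (iv2 F497434)) (tt N118938 (iv3 F512850)) (tt N87309 F463770) (tt N74332 (iv5 D211967)) (tt N118836 (iv6 F512333)) (tt N115838 (iv7 F497160)))
theorem Q108743 : ∀ i, i < 108743 → P i := stepQ 108742 Q108742 (allL N108742 (tt N87373 F463774) (tt N87376 F463775) (tt N115838 (iv2 F497158)) (tt N120039 (iv3 F518702)) (tt N82937 F463773) (tt N74333 (iv5 D211968)) (tt N119245 (iv6 F514596)) (tt N115890 (iv7 F497436)))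
theorem Q108744 : ∀ i, i < 108744 → P i := stepQ 108743 Q108743 (allL N108743 (tt N87370 (iv1 F463779)) (tt N74334 (iv0 D211969)) (tt N115892 (iv2 F497444)) (tt N115964 (iv3 F497796)) (tt N87312 F463777) (tt N77709 F463776) (tt N87312 F463778) (tt N115893 (iv7 F497452)))
theorem Q108745 : ∀ i, i < 108745 → P i := stepQ 108744 Q108744 (allL N108744 (tt N74334 (iv1 D211970)) (tt N87370 F463780) (tt N115893 (iv2 F497450)) (tt N119340 (iv3 F515112)) (tt N87311 F463782) (tt N82172 F463781) (tt N121733 D224992) (tt N115892 (iv7 F497445)))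
theorem Q108746 : ∀ i, i < 108746 → P i := stepQ 108745 Q108745 (allL N108745 (tt N115893 (iv1 F497454)) (tt N115892 (iv0 F497447)) (tt N87370 F463783) (tt N117576 (iv3 F505800)) (tt N84509 F463784) (tt N74335 F463785) (tt N118899 F512646) (tt N74334 (iv7 D211971)))
theorem Q108747 : ∀ i, i < 108747 → P i := stepQ 108746 Q108746 (allL N108746 (tt N81326 (iv1 F463791)) (tt N96971 F463790) (tt N74338 (iv2 D211972)) (tt N75015 F463786) (tt N108076 F463787) (tt N99793 F463788) (tt N109227 (iv6 F465865)) (tt N75017 F463789))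
theorem Q108748 : ∀ i, i < 108748 → P i := stepQ 108747 Q108747 (allL N108747 (tt N99560 (iv1 F463799)) (tt N74340 (iv0 D211973)) (tt N100489 (iv2 F463797)) (tt N94058 F463794) (tt N75917 F463793) (tt N94057 F463792) (tt N75915 F463795) (tt N94177 F463798))
theorem Q108749 : ∀ i, i < 108749 → P i := stepQ 108748 Q108748 (allL N108748 (tt N94177 (iv1 F463804)) (tt N100489 F463805) (tt N99560 F463800) (tt N109254 (iv3 F466013)) (tt N74342 F463801) (tt N94203 F463802) (tt N94093 F463803) (tt N74340 (iv7 D211974)))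
theorem Q108750 : ∀ i, i < 108750 → P i := stepQ 108749 Q108749 (allL N108749 (tt N113619 (iv1 F486332)) (tt N116373 (iv0 F499766)) (tt N115394 (iv2 F494968)) (tt N111495 F476599) (tt N119191 (iv4 F514283)) (tt N74347 (iv5 D211975)) (tt N74350 F463806) (tt N115395 (iv7 F494974)))
theorem Q108751 : ∀ i, i < 108751 → P i := stepQ 108750 Q108750 (allL N108750 (tt N108223 F463807) (tt N88064 F463808) (tt N120053 (iv2 F518785)) (tt N120939 (iv3 F523584)) (tt N112860 (iv4 F483006)) (tt N74348 (iv5 D211976)) (tt N111409 F476229) (tt N118918 (iv7 F512741)))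
theorem Q108752 : ∀ i, i < 108752 → P i := stepQ 108751 Q108751 (allL N108751 (tt N118399 F510147) (tt N90726 (iv0 F463812)) (tt N116541 (iv2 F500682)) (tt N74349 (iv3 D211977)) (tt N108727 F463809) (tt N95407 (iv5 F463813)) (tt N90703 F463810) (tt N96928 F463811))
theorem Q108753 : ∀ i, i < 108753 → P i := stepQ 108752 Q108752 (allL N108752 (tt N88064 F463815) (tt N108223 F463816) (tt N118918 (iv2 F512737)) (tt N95407 F463814) (tt N115898 (iv4 F497474)) (tt N74349 (iv5 D211978)) (tt N115518 F495607) (tt N120053 (iv7 F518789)))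
theorem Q108754 : ∀ i, i < 108754 → P i := stepQ 108753 Q108753 (allL N108753 (tt N110976 (iv1 F474039)) (tt N74350 (iv0 D211979)) (tt N95487 (iv2 F463818)) (tt N121711 F527901) (tt N115596 (iv4 F495920)) (tt N96888 F463817) (tt N81175 (iv6 F463819)) (tt N120054 (iv7 F518793)))
theorem Q108755 : ∀ i, i < 108755 → P i := stepQ 108754 Q108754 (allL N108754 (tt N74350 (iv1 D211980)) (tt N110976 (iv0 F474038)) (tt N120054 (iv2 F518797)) (tt N118836 (iv3 F512332)) (tt N115597 (iv4 F495924)) (tt N108249 F463821) (tt N118938 (iv6 F512852)) (tt N95487 F463820))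
theorem Q108756 : ∀ i, i < 108756 → P i := stepQ 108755 Q108755 (allL N108755 (tt N105366 F463822) (tt N121594 F527224) (tt N118154 (iv2 F508895)) (tt N115524 (iv3 F495627)) (tt N74350 (iv4 D211981)) (tt N118632 (iv5 F511239)) (tt N119191 (iv6 F514281)) (tt N115929 F497637))
theorem Q108757 : ∀ i, i < 108757 → P i := stepQ 108756 Q108756 (allL N108756 (tt N120054 (iv1 F518792)) (tt N95487 (iv0 F463825)) (tt N110976 (iv2 F474035)) (tt N87384 F463823) (tt N115929 (iv4 F497632)) (tt N74351 F463824) (tt N114161 (iv6 F488800)) (tt N74350 (iv7 D211982)))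
theorem Q108758 : ∀ i, i < 108758 → P i := stepQ 108757 Q108757 (allL N108757 (tt N104797 (iv1 F463828)) (tt N74356 (iv0 D211983)) (tt N104799 (iv2 F463827)) (tt N111088 (iv3 F474599)) (tt N111923 (iv4 F478674)) (tt N112042 (iv5 F479218)) (tt N100152 F463826) (tt N104796 F463829))
theorem Q108759 : ∀ i, i < 108759 → P i := stepQ 108758 Q108758 (allL N108758 (tt N110084 F469916) (tt N74357 (iv0 D211984)) (tt N108813 (iv2 F464076)) (tt N102317 F463830) (tt N109343 (iv4 F466480)) (tt N118539 (iv5 F510850)) (tt N74721 (iv6 F463831)) (tt N110085 (iv7 F469920)))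
theorem Q108760 : ∀ i, i < 108760 → P i := stepQ 108759 Q108759 (allL N108759 (tt N108813 F464084) (tt N110085 F469922) (tt N74357 (iv2 D211985)) (tt N117831 (iv3 F507171)) (tt N89566 F463832) (tt N121734 D224993) (tt N117847 (iv6 F507245)) (tt N110084 (iv7 F469911)))
theorem Q108761 : ∀ i, i < 108761 → P i := stepQ 108760 Q108760 (allL N108760 (tt N121307 F525673) (tt N109572 (iv0 F467582)) (tt N121734 (iv2 F528025)) (tt N74358 F463833) (tt N121735 D224994) (tt N74357 (iv5 D211986)) (tt N118577 (iv6 F510989)) (tt N117775 (iv7 F506904)))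
theorem Q108762 : ∀ i, i < 108762 → P i := stepQ 108761 Q108761 (allL N108761 (tt N108826 (iv1 F464146)) (tt N77762 F463835) (tt N117838 (iv2 F507199)) (tt N120152 (iv3 F519324)) (tt N74358 (iv4 D211987)) (tt N77725 F463834) (tt N121736 D224995) (tt N117776 (iv7 F506908)))
theorem Q108763 : ∀ i, i < 108763 → P i := stepQ 108762 Q108762 (allL N108762 (tt N120152 (iv1 F519328)) (tt N109571 (iv0 F467580)) (tt N116843 (iv2 F502130)) (tt N118577 F510990) (tt N121736 (iv4 F528035)) (tt N116839 (iv5 F502110)) (tt N74358 (iv6 D211988)) (tt N120151 (iv7 F519319)))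
theorem Q108764 : ∀ i, i < 108764 → P i := stepQ 108763 Q108763 (allL N108763 (tt N117838 (iv1 F507204)) (tt N117776 (iv0 F506910)) (tt N77762 F463836) (tt N74360 F463837) (tt N74372 F463838) (tt N74359 (iv5 D211989)) (tt N108821 (iv6 F464124)) (tt N108826 (iv7 F464144)))
theorem Q108765 : ∀ i, i < 108765 → P i := stepQ 108764 Q108764 (allL N108764 (tt N98848 (iv1 F463839)) (tt N74362 (iv0 D211990)) (tt N98850 (iv2 F463843)) (tt N116839 (iv3 F502108)) (tt N109827 (iv4 F468808)) (tt N118577 (iv5 F510988)) (tt N117853 (iv6 F507279)) (tt N98849 (iv7 F463845)))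
theorem Q108766 : ∀ i, i < 108766 → P i := stepQ 108765 Q108765 (allL N108765 (tt N74362 (iv1 D211991)) (tt N98848 (iv0 F463842)) (tt N98849 F463844) (tt N89557 (iv3 F463840)) (tt N109828 F468814) (tt N118578 (iv5 F510991)) (tt N118171 (iv6 F508994)) (tt N98850 F463841))
theorem Q108767 : ∀ i, i < 108767 → P i := stepQ 108766 Q108766 (allL N108766 (tt N98850 (iv1 F463851)) (tt N98849 F463850) (tt N74362 (iv2 D211992)) (tt N77118 F463846) (tt N98925 F463847) (tt N110130 (iv5 F470105)) (tt N78032 F463848) (tt N98848 F463849))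
theorem Q108768 : ∀ i, i < 108768 → P i := stepQ 108767 Q108767 (allL N108767 (tt N121315 F525718) (tt N117834 (iv0 F507185)) (tt N110130 (iv2 F470103)) (tt N74363 F463852) (tt N110087 (iv4 F469930)) (tt N74362 (iv5 D211993)) (tt N76055 (iv6 F464083)) (tt N98851 F463853))
theorem Q108769 : ∀ i, i < 108769 → P i := stepQ 108768 Q108768 (allL N108768 (tt N118547 (iv1 F510895)) (tt N118545 (iv0 F510883)) (tt N118436 (iv2 F510343)) (tt N116638 (iv3 F501091)) (tt N74363 (iv4 D211994)) (tt N77719 F463854) (tt N120140 (iv6 F519274)) (tt N98852 F463855))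
theorem Q108770 : ∀ i, i < 108770 → P i := stepQ 108769 Q108769 (allL N108769 (tt N118540 (iv1 F510859)) (tt N76057 (iv0 F463856)) (tt N118539 F510852) (tt N76055 F464082) (tt N120140 (iv4 F519273)) (tt N108813 (iv5 F464081)) (tt N74363 (iv6 D211995)) (tt N110086 (iv7 F469926)))
theorem Q108771 : ∀ i, i < 108771 → P i := stepQ 108770 Q108770 (allL N108770 (tt N118853 (iv1 F512421)) (tt N118854 (iv0 F512423)) (tt N121737 D224996) (tt N74364 (iv3 D211996)) (tt N121738 D224997) (tt N106454 F463857) (tt N121739 D224998) (tt N106453 F463858))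
theorem Q108772 : ∀ i, i < 108772 → P i := stepQ 108771 Q108771 (allL N108771 (tt N121740 D224999) (tt N121741 D225000) (tt N118581 (iv2 F511000)) (tt N121739 (iv3 F528047)) (tt N121307 (iv4 F525670)) (tt N118572 (iv5 F510967)) (tt N74364 (iv6 D211997)) (tt N121742 D225001))
theorem Q108773 : ∀ i, i < 108773 → P i := stepQ 108772 Q108772 (allL N108772 (tt N77727 (iv1 F463862)) (tt N74365 (iv0 D211998)) (tt N102731 (iv2 F463861)) (tt N116061 (iv3 F498275)) (tt N102742 F463860) (tt N100046 F463859) (tt N121743 D225002) (tt N102740 F463863))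
theorem Q108774 : ∀ i, i < 108774 → P i := stepQ 108773 Q108773 (allL N108773 (tt N117853 (iv1 F507281)) (tt N117846 F507241) (tt N107892 F463864) (tt N74367 (iv3 D211999)) (tt N107558 F463865) (tt N117918 (iv5 F507593)) (tt N107555 F463866) (tt N117851 (iv7 F507265)))
theorem Q108775 : ∀ i, i < 108775 → P i := stepQ 108774 Q108774 (allL N108774 (tt N111363 (iv1 F476018)) (tt N117072 (iv0 F503243)) (tt N110053 (iv2 F469749)) (tt N74370 (iv3 D212000)) (tt N88623 F463867) (tt N79382 F463868) (tt N98919 F463869) (tt N118605 (iv7 F511126)))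
theorem Q108776 : ∀ i, i < 108776 → P i := stepQ 108775 Q108775 (allL N108775 (tt N95320 F463874) (tt N94282 F463875) (tt N74735 F463870) (tt N74740 F463871) (tt N74732 F463872) (tt N74371 (iv5 D212001)) (tt N78160 F463876) (tt N82317 F463873))
theorem Q108777 : ∀ i, i < 108777 → P i := stepQ 108776 Q108776 (allL N108776 (tt N116641 (iv1 F501106)) (tt N116638 (iv0 F501092)) (tt N113286 (iv2 F484853)) (tt N108831 (iv3 F464159)) (tt N108821 (iv4 F464126)) (tt N89953 F463877) (tt N74372 (iv6 D212002)) (tt N113284 (iv7 F484849)))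
theorem Q108778 : ∀ i, i < 108778 → P i := stepQ 108777 Q108777 (allL N108777 (tt N78400 (iv1 F463882)) (tt N74378 (iv0 D212003)) (tt N102148 (iv2 F463881)) (tt N97610 F463879) (tt N111465 (iv4 F476466)) (tt N104375 F463878) (tt N97609 F463880) (tt N102112 F463883))
theorem Q108779 : ∀ i, i < 108779 → P i := stepQ 108778 Q108778 (allL N108778 (tt N121201 (iv1 F525112)) (tt N118051 (iv0 F508304)) (tt N109731 (iv2 F468326)) (tt N74381 F463884) (tt N98756 F463887) (tt N74379 (iv5 D212004)) (tt N92247 F463885) (tt N104996 F463886))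
theorem Q108780 : ∀ i, i < 108780 → P i := stepQ 108779 Q108779 (allL N108779 (tt N111935 (iv1 F478752)) (tt N97635 (iv0 F463892)) (tt N86945 F463888) (tt N74380 (iv3 D212005)) (tt N105774 F463889) (tt N86944 F463890) (tt N92248 F463891) (tt N111937 (iv7 F478760)))
theorem Q108781 : ∀ i, i < 108781 → P i := stepQ 108780 Q108780 (allL N108780 (tt N74384 (iv1 F463895)) (tt N74381 (iv0 D212006)) (tt N97993 (iv2 F463894)) (tt N88807 (iv3 F463897)) (tt N120793 (iv4 F522749)) (tt N92165 F463893) (tt N111005 (iv6 F474199)) (tt N98591 F463896))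
theorem Q108782 : ∀ i, i < 108782 → P i := stepQ 108781 Q108781 (allL N108781 (tt N85032 (iv1 F463902)) (tt N86583 F463901) (tt N74382 (iv2 D212007)) (tt N74908 F463898) (tt N83965 F463899) (tt N115166 (iv5 F493811)) (tt N84465 F463903) (tt N97931 F463900))
theorem Q108783 : ∀ i, i < 108783 → P i := stepQ 108782 Q108782 (allL N108782 (tt N117418 (iv1 F504948)) (tt N105929 (iv0 F463909)) (tt N84465 F463904) (tt N74385 F463905) (tt N87038 F463906) (tt N81654 F463907) (tt N74382 (iv6 D212008)) (tt N84467 F463908))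
theorem Q108784 : ∀ i, i < 108784 → P i := stepQ 108783 Q108783 (allL N108783 (tt N112440 (iv1 F481126)) (tt N117625 (iv0 F506063)) (tt N104998 F463910) (tt N121744 D225003) (tt N74384 (iv4 D212009)) (tt N110959 F473972) (tt N93901 F463911) (tt N98592 F463912))
theorem Q108785 : ∀ i, i < 108785 → P i := stepQ 108784 Q108784 (allL N108784 (tt N90084 (iv1 F463917)) (tt N90036 (iv0 F463916)) (tt N89848 F463913) (tt N115359 (iv3 F494781)) (tt N120895 (iv4 F523337)) (tt N74387 (iv5 D212010)) (tt N98453 F463914) (tt N90083 F463915))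
theorem Q108786 : ∀ i, i < 108786 → P i := stepQ 108785 Q108785 (allL N108785 (tt N74391 (iv1 F463922)) (tt N74390 (iv0 D212011)) (tt N95922 (iv2 F463921)) (tt N78965 F463920) (tt N74786 F463919) (tt N95982 F463918) (tt N82135 (iv6 F463924)) (tt N74784 F463923))
theorem Q108787 : ∀ i, i < 108787 → P i := stepQ 108786 Q108786 (allL N108786 (tt N113231 (iv1 F484618)) (tt N113224 (iv0 F484572)) (tt N100439 F463925) (tt N109803 F468696) (tt N98615 F463927) (tt N74390 (iv5 D212012)) (tt N98685 (iv6 F463928)) (tt N100998 F463926))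
theorem Q108788 : ∀ i, i < 108788 → P i := stepQ 108787 Q108787 (allL N108787 (tt N83971 (iv1 F463932)) (tt N74405 (iv0 D212013)) (tt N85975 (iv2 F463933)) (tt N102912 F463934) (tt N86467 F463929) (tt N104216 F463931) (tt N85971 F463930) (tt N102922 (iv7 F463935)))
theorem Q108789 : ∀ i, i < 108789 → P i := stepQ 108788 Q108788 (allL N108788 (tt N74405 (iv1 D212014)) (tt N83971 F463936) (tt N102922 F463942) (tt N85979 (iv3 F463940)) (tt N107052 F463938) (tt N104217 F463939) (tt N105682 (iv6 F463941)) (tt N85975 F463937))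
theorem Q108790 : ∀ i, i < 108790 → P i := stepQ 108789 Q108789 (allL N108789 (tt N108267 F463947) (tt N109382 (iv0 F466679)) (tt N112358 (iv2 F480727)) (tt N74429 F463943) (tt N97461 F463946) (tt N74428 (iv5 D212015)) (tt N105327 F463944) (tt N75234 F463945))
theorem Q108791 : ∀ i, i < 108791 → P i := stepQ 108790 Q108790 (allL N108790 (tt N99735 F463953) (tt N108607 F463952) (tt N99687 F463948) (tt N105686 F463949) (tt N99685 F463950) (tt N74434 (iv5 D212016)) (tt N85409 F463954) (tt N108601 F463951))
theorem Q108792 : ∀ i, i < 108792 → P i := stepQ 108791 Q108791 (allL N108791 (tt N83810 (iv1 F463959)) (tt N74445 (iv0 D212017)) (tt N98266 (iv2 F463958)) (tt N75533 F463957) (tt N75566 F463956) (tt N74472 F463955) (tt N109751 (iv6 F468444)) (tt N79073 F463960))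
theorem Q108793 : ∀ i, i < 108793 → P i := stepQ 108792 Q108792 (allL N108792 (tt N104209 F463965) (tt N87577 (iv0 F463966)) (tt N104217 F463961) (tt N74447 F463962) (tt N109738 (iv4 F468363)) (tt N102922 F463963) (tt N74445 (iv6 D212018)) (tt N104216 F463964))
theorem Q108794 : ∀ i, i < 108794 → P i := stepQ 108793 Q108793 (allL N108793 (tt N74446 (iv1 D212019)) (tt N85822 F463967) (tt N99803 F463972) (tt N99496 (iv3 F463971)) (tt N108062 F463970) (tt N100788 F463969) (tt N99495 F463973) (tt N100160 F463968))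
theorem Q108795 : ∀ i, i < 108795 → P i := stepQ 108794 Q108794 (allL N108794 (tt N99803 (iv1 F463977)) (tt N100160 F463978) (tt N85822 F463974) (tt N74451 F463975) (tt N110866 (iv4 F473515)) (tt N114367 (iv5 F489829)) (tt N85821 F463976) (tt N74446 (iv7 D212020)))
theorem Q108796 : ∀ i, i < 108796 → P i := stepQ 108795 Q108795 (allL N108795 (tt N86711 (iv1 F463983)) (tt N86451 F463984) (tt N83804 F463979) (tt N104216 F463980) (tt N108809 (iv4 F464054)) (tt N102912 F463981) (tt N83802 F463982) (tt N74447 (iv7 D212021)))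
theorem Q108797 : ∀ i, i < 108797 → P i := stepQ 108796 Q108796 (allL N108796 (tt N74457 (iv1 F463988)) (tt N74456 F463989) (tt N74458 F463985) (tt N110792 (iv3 F473197)) (tt N99978 F463986) (tt N110791 (iv5 F473192)) (tt N83301 F463987) (tt N74455 (iv7 D212022)))
theorem Q108798 : ∀ i, i < 108798 → P i := stepQ 108797 Q108797 (allL N108797 (tt N93130 F463993) (tt N79947 (iv0 F463994)) (tt N92657 F463995) (tt N74463 (iv3 D212023)) (tt N120579 (iv4 F521560)) (tt N74771 F463990) (tt N104084 F463991) (tt N98158 F463992))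
theorem Q108799 : ∀ i, i < 108799 → P i := stepQ 108798 Q108798 (allL N108798 (tt N98424 F463997) (tt N98420 F463998) (tt N120056 (iv2 F518806)) (tt N89048 (iv3 F463999)) (tt N74467 (iv4 D212024)) (tt N114067 (iv5 F488419)) (tt N80872 F463996) (tt N121207 (iv7 F525137)))
theorem Q108800 : ∀ i, i < 108800 → P i := stepQ 108799 Q108799 (allL N108799 (tt N119544 (iv1 F516168)) (tt N110942 F473892) (tt N76672 F464000) (tt N98556 F464001) (tt N121207 (iv4 F525135)) (tt N74468 F464002) (tt N76573 F464003) (tt N74467 (iv7 D212025)))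
theorem Q108801 : ∀ i, i < 108801 → P i := stepQ 108800 Q108800 (allL N108800 (tt N100365 F464009) (tt N100367 F464010) (tt N99876 F464004) (tt N91158 F464005) (tt N99187 F464008) (tt N74471 (iv5 D212026)) (tt N78179 F464006) (tt N99947 F464007))
theorem Q108802 : ∀ i, i < 108802 → P i := stepQ 108801 Q108801 (allL N108801 (tt N79077 F464015) (tt N111945 (iv0 F478806)) (tt N74475 F464011) (tt N92199 F464012) (tt N107003 F464013) (tt N74949 F464014) (tt N74473 (iv6 D212027)) (tt N74948 F464016))
theorem Q108803 : ∀ i, i < 108803 → P i := stepQ 108802 Q108802 (allL N108802 (tt N75559 (iv1 F464021)) (tt N74474 (iv0 D212028)) (tt N98280 (iv2 F464020)) (tt N109012 (iv3 F464917)) (tt N74796 F464018) (tt N74787 F464017) (tt N105904 F464019) (tt N108356 F464022))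
theorem Q108804 : ∀ i, i < 108804 → P i := stepQ 108803 Q108803 (allL N108803 (tt N100020 (iv1 F464028)) (tt N74479 (iv0 D212029)) (tt N98496 (iv2 F464027)) (tt N84177 F464025) (tt N99743 F464024) (tt N84814 F464023) (tt N84484 F464026) (tt N98497 F464029))
theorem Q108805 : ∀ i, i < 108805 → P i := stepQ 108804 Q108804 (allL N108804 (tt N120478 (iv1 F520988)) (tt N114904 (iv0 F492450)) (tt N101040 F464030) (tt N94002 F464031) (tt N80608 F464034) (tt N74480 (iv5 D212030)) (tt N74481 F464032) (tt N101037 F464033))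
theorem Q108806 : ∀ i, i < 108806 → P i := stepQ 108805 Q108805 (allL N108805 (tt N121745 D225004) (tt N101388 (iv0 F475610)) (tt N101041 F464035) (tt N116317 F499525) (tt N74481 (iv4 D212031)) (tt N118588 (iv5 F511028)) (tt N80608 F464036) (tt N109865 (iv7 F468989)))
theorem Q108807 : ∀ i, i < 108807 → P i := stepQ 108806 Q108806 (allL N108806 (tt N98344 (iv1 F464040)) (tt N98345 F464041) (tt N98419 F464037) (tt N119619 (iv3 F516555)) (tt N109865 (iv4 F468988)) (tt N74482 F464038) (tt N98373 F464039) (tt N74481 (iv7 D212032)))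
theorem Q108808 : ∀ i, i < 108808 → P i := stepQ 108807 Q108807 (allL N108807 (tt N79993 (iv1 F464045)) (tt N79994 F464046) (tt N110980 (iv2 F474059)) (tt N104014 F464042) (tt N104133 F464043) (tt N109799 (iv5 F468669)) (tt N104013 F464044) (tt N74483 (iv7 D212033)))
theorem Q108809 : ∀ i, i < 108809 → P i := stepQ 108808 Q108808 (allL N108808 (tt N109015 (iv1 F464938)) (tt N74485 (iv0 D212034)) (tt N86758 (iv2 F464050)) (tt N113867 (iv3 F487540)) (tt N105840 F464048) (tt N82645 F464047) (tt N111758 F477823) (tt N105911 F464051))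
theorem Q108810 : ∀ i, i < 108810 → P i := stepQ 108809 Q108809 (allL N108809 (tt N105911 (iv1 F464056)) (tt N86758 F464057) (tt N109015 (iv2 F464933)) (tt N84447 F464053) (tt N108795 F464054) (tt N84446 F464055) (tt N109014 (iv6 F464930)) (tt N74485 (iv7 D212035)))
theorem Q108811 : ∀ i, i < 108811 → P i := stepQ 108810 Q108810 (allL N108810 (tt N103154 F464063) (tt N99831 F464062) (tt N74491 F464059) (tt N110855 F473453) (tt N82090 F464060) (tt N74489 (iv5 D212036)) (tt N117517 (iv6 F505469)) (tt N99226 F464061))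
theorem Q108812 : ∀ i, i < 108812 → P i := stepQ 108811 Q108811 (allL N108811 (tt N105283 F464068) (tt N105281 F464069) (tt N94832 F464064) (tt N100192 F464065) (tt N94829 F464067) (tt N74495 (iv5 D212037)) (tt N107775 F464070) (tt N99883 F464066))
theorem Q108813 : ∀ i, i < 108813 → P i := stepQ 108812 Q108812 (allL N108812 (tt N74887 F464075) (tt N114753 F491678) (tt N86192 F464071) (tt N74499 F464072) (tt N119628 (iv4 F516596)) (tt N74498 (iv5 D212038)) (tt N86191 F464073) (tt N100321 F464074))
theorem Q108814 : ∀ i, i < 108814 → P i := stepQ 108813 Q108813 (allL N108813 (tt N92291 F464079) (tt N108759 (iv0 F464084)) (tt N108758 F464076) (tt N74503 (iv3 D212039)) (tt N75509 F464077) (tt N108769 F464081) (tt N99732 (iv6 F464080)) (tt N76984 F464078))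
theorem Q108815 : ∀ i, i < 108815 → P i := stepQ 108814 Q108814 (allL N108814 (tt N100117 F464089) (tt N100119 F464090) (tt N77020 F464085) (tt N99732 F464086) (tt N75508 F464087) (tt N94401 F464088) (tt N74503 (iv6 D212040)) (tt N108695 (iv7 F464091)))
theorem Q108816 : ∀ i, i < 108816 → P i := stepQ 108815 Q108815 (allL N108815 (tt N100096 (iv1 F464094)) (tt N74504 (iv0 D212041)) (tt N98933 (iv2 F464095)) (tt N92361 F464092) (tt N98922 F464093) (tt N116650 (iv5 F501145)) (tt N94265 F472359) (tt N98936 (iv7 F464096)))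
theorem Q108817 : ∀ i, i < 108817 → P i := stepQ 108816 Q108816 (allL N108816 (tt N74504 (iv1 D212042)) (tt N100096 F464101) (tt N98936 F464100) (tt N106446 (iv3 F464099)) (tt N98923 (iv4 F464098)) (tt N120733 (iv5 F522411)) (tt N119839 (iv6 F517632)) (tt N98933 F464097))
theorem Q108818 : ∀ i, i < 108818 → P i := stepQ 108817 Q108817 (allL N108817 (tt N98933 (iv1 F464107)) (tt N98936 F464106) (tt N74504 (iv2 D212043)) (tt N100099 F464102) (tt N76849 F464103) (tt N110579 (iv5 F472221)) (tt N98908 F464104) (tt N100096 F464105))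
theorem Q108819 : ∀ i, i < 108819 → P i := stepQ 108818 Q108818 (allL N108818 (tt N110578 (iv1 F472214)) (tt N110577 (iv0 F472213)) (tt N110579 (iv2 F472219)) (tt N74505 F464108) (tt N120123 (iv4 F519174)) (tt N74504 (iv5 D212044)) (tt N100114 F464109) (tt N100097 F464110))
theorem Q108820 : ∀ i, i < 108820 → P i := stepQ 108819 Q108819 (allL N108819 (tt N100099 (iv1 F464114)) (tt N74506 (iv0 D212045)) (tt N91343 (iv2 F464113)) (tt N83179 F464112) (tt N88277 F464111) (tt N109581 (iv5 F467593)) (tt N117825 F507149) (tt N91285 F464115))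
theorem Q108821 : ∀ i, i < 108821 → P i := stepQ 108820 Q108820 (allL N108820 (tt N91343 (iv1 F464121)) (tt N91285 F464120) (tt N74506 (iv2 D212046)) (tt N100096 F464116) (tt N83156 F464117) (tt N110576 (iv5 F472207)) (tt N92440 F464118) (tt N100099 F464119))
theorem Q108822 : ∀ i, i < 108822 → P i := stepQ 108821 Q108821 (allL N108821 (tt N117452 (iv1 F505117)) (tt N117450 (iv0 F505102)) (tt N110576 (iv2 F472205)) (tt N74507 F464123) (tt N108776 F464126) (tt N74506 (iv5 D212047)) (tt N108763 F464124) (tt N100100 F464125))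
theorem Q108823 : ∀ i, i < 108823 → P i := stepQ 108822 Q108822 (allL N108822 (tt N74509 (iv1 D212048)) (tt N109569 F467575) (tt N106332 F464129) (tt N106451 (iv3 F464130)) (tt N106320 (iv4 F464128)) (tt N77019 F469903) (tt N77008 (iv6 F469901)) (tt N106336 F464127))
theorem Q108824 : ∀ i, i < 108824 → P i := stepQ 108823 Q108823 (allL N108823 (tt N106336 (iv1 F464132)) (tt N106332 F464131) (tt N74509 (iv2 D212049)) (tt N116384 F499820) (tt N120081 (iv4 F518948)) (tt N120153 (iv5 F519330)) (tt N121746 D225005) (tt N109569 (iv7 F467573)))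
theorem Q108825 : ∀ i, i < 108825 → P i := stepQ 108824 Q108824 (allL N108824 (tt N121747 D225006) (tt N106983 (iv0 F464136)) (tt N121746 (iv2 F528074)) (tt N74510 F464133) (tt N107261 F464134) (tt N121748 D225007) (tt N74509 (iv6 D212050)) (tt N107248 F464135))
theorem Q108826 : ∀ i, i < 108826 → P i := stepQ 108825 Q108825 (allL N108825 (tt N107595 F464139) (tt N107581 F464140) (tt N107593 F464137) (tt N121748 (iv3 F528085)) (tt N121264 F525457) (tt N74510 (iv5 D212051)) (tt N120157 (iv6 F519341)) (tt N107251 F464138))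
theorem Q108827 : ∀ i, i < 108827 → P i := stepQ 108826 Q108826 (allL N108826 (tt N92374 F464145) (tt N108761 F464146) (tt N100047 F464141) (tt N92377 F464142) (tt N74511 (iv4 D212052)) (tt N92376 F464143) (tt N120146 F519292) (tt N108763 F464144))
theorem Q108828 : ∀ i, i < 108828 → P i := stepQ 108827 Q108827 (allL N108827 (tt N77019 F464150) (tt N119250 (iv0 F514630)) (tt N100107 F464147) (tt N74515 F464148) (tt N120146 (iv4 F519289)) (tt N100106 F464149) (tt N74511 (iv6 D212053)) (tt N121749 D225008))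
theorem Q108829 : ∀ i, i < 108829 → P i := stepQ 108828 Q108828 (allL N108828 (tt N119250 (iv1 F514629)) (tt N77019 F471694) (tt N121749 (iv2 F528088)) (tt N74513 (iv3 D212054)) (tt N120145 (iv4 F519282)) (tt N100043 F464151) (tt N107496 F464152) (tt N100107 F464153))
theorem Q108830 : ∀ i, i < 108830 → P i := stepQ 108829 Q108829 (allL N108829 (tt N74515 (iv1 D212055)) (tt N100102 F464154) (tt N116386 (iv2 F499826)) (tt N118575 (iv3 F510975)) (tt N116636 (iv4 F501087)) (tt N83174 F464155) (tt N121750 D225009) (tt N116632 (iv7 F501069)))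
theorem Q108831 : ∀ i, i < 108831 → P i := stepQ 108830 Q108830 (allL N108830 (tt N116386 (iv1 F499829)) (tt N116632 (iv0 F501071)) (tt N100102 F464156) (tt N121749 (iv3 F528089)) (tt N117449 (iv4 F505093)) (tt N89116 F464157) (tt N109581 (iv6 F467596)) (tt N74515 (iv7 D212056)))
theorem Q108832 : ∀ i, i < 108832 → P i := stepQ 108831 Q108831 (allL N108831 (tt N109580 (iv1 F467592)) (tt N100092 F464162) (tt N108649 F464158) (tt N108776 F464159) (tt N103183 F464160) (tt N91285 (iv5 F464161)) (tt N74516 (iv6 D212057)) (tt N109581 F467595))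
theorem Q108833 : ∀ i, i < 108833 → P i := stepQ 108832 Q108832 (allL N108832 (tt N74517 (iv1 D212058)) (tt N108333 F464163) (tt N110590 (iv2 F472267)) (tt N100078 (iv3 F464168)) (tt N80406 F464165) (tt N92366 F464166) (tt N92414 (iv6 F464167)) (tt N108435 F464164))
theorem Q108834 : ∀ i, i < 108834 → P i := stepQ 108833 Q108833 (allL N108833 (tt N108707 F464173) (tt N100081 F464174) (tt N102808 F464169) (tt N108716 F464170) (tt N88092 F464171) (tt N74517 (iv5 D212059)) (tt N91285 F464172) (tt N118486 (iv7 F510631)))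
theorem Q108835 : ∀ i, i < 108835 → P i := stepQ 108834 Q108834 (allL N108834 (tt N110475 F471762) (tt N109273 (iv0 F466120)) (tt N110473 F471747) (tt N93378 F464175) (tt N97217 F464177) (tt N74519 (iv5 D212060)) (tt N93376 F464176) (tt N110474 (iv7 F471752)))
theorem Q108836 : ∀ i, i < 108836 → P i := stepQ 108835 Q108835 (allL N108835 (tt N74521 (iv1 D212061)) (tt N89485 F464178) (tt N84790 F464181) (tt N89330 (iv3 F464180)) (tt N114404 (iv4 F489983)) (tt N111305 (iv5 F475733)) (tt N121283 F525552) (tt N98391 F464179))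
theorem Q108837 : ∀ i, i < 108837 → P i := stepQ 108836 Q108836 (allL N108836 (tt N84790 (iv1 F464187)) (tt N98391 F464188) (tt N89485 F464182) (tt N74523 F464183) (tt N89803 F464184) (tt N75989 F464185) (tt N98334 F464186) (tt N74521 (iv7 D212062)))
theorem Q108838 : ∀ i, i < 108838 → P i := stepQ 108837 Q108837 (allL N108837 (tt N94772 F464193) (tt N94771 (iv0 F464194)) (tt N84819 F464189) (tt N85194 F464190) (tt N93355 F464191) (tt N97898 F464192) (tt N74522 (iv6 D212063)) (tt N94763 F464195))
theorem Q108839 : ∀ i, i < 108839 → P i := stepQ 108838 Q108838 (allL N108838 (tt N111097 (iv1 F474652)) (tt N76767 F464200) (tt N80285 F464196) (tt N80319 F464197) (tt N103869 (iv4 F464201)) (tt N74524 (iv5 D212064)) (tt N79784 F464198) (tt N96997 F464199))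
theorem Q108840 : ∀ i, i < 108840 → P i := stepQ 108839 Q108839 (allL N108839 (tt N76979 F464207) (tt N76208 (iv0 F464208)) (tt N76978 F464203) (tt N74535 F464204) (tt N86037 F464205) (tt N78866 (iv5 F464209)) (tt N74534 (iv6 D212065)) (tt N76977 F464206))
theorem Q108841 : ∀ i, i < 108841 → P i := stepQ 108840 Q108840 (allL N108840 (tt N91608 (iv1 F464215)) (tt N91607 (iv0 F464214)) (tt N91610 F464210) (tt N74537 F464211) (tt N81794 F464212) (tt N120961 (iv5 F523722)) (tt N74536 (iv6 D212066)) (tt N91487 F464213))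
theorem Q108842 : ∀ i, i < 108842 → P i := stepQ 108841 Q108841 (allL N108841 (tt N74542 (iv1 F464222)) (tt N74538 (iv0 D212067)) (tt N74539 (iv2 F464217)) (tt N111559 F476920) (tt N119958 (iv4 F518257)) (tt N115975 (iv5 F497863)) (tt N93372 F464216) (tt N74540 (iv7 F464218)))
theorem Q108843 : ∀ i, i < 108843 → P i := stepQ 108842 Q108842 (allL N108842 (tt N74538 (iv1 D212068)) (tt N74542 F464219) (tt N74540 (iv2 F464221)) (tt N107766 F464223) (tt N119990 (iv4 F518423)) (tt N115977 (iv5 F497876)) (tt N110944 (iv6 F473900)) (tt N74539 F464220))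
theorem Q108844 : ∀ i, i < 108844 → P i := stepQ 108843 Q108843 (allL N108843 (tt N88112 (iv1 F464227)) (tt N88106 F464225) (tt N74541 F464224) (tt N118381 (iv3 F510045)) (tt N88063 F464226) (tt N74538 (iv5 D212069)) (tt N118381 (iv6 F510046)) (tt N115536 (iv7 F495679)))
theorem Q108845 : ∀ i, i < 108845 → P i := stepQ 108844 Q108844 (allL N108844 (tt N74540 (iv1 F464230)) (tt N74539 F464231) (tt N74542 F464228) (tt N118382 (iv3 F510052)) (tt N107432 F464229) (tt N115536 (iv5 F495680)) (tt N118372 (iv6 F509992)) (tt N74538 (iv7 D212070)))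
theorem Q108846 : ∀ i, i < 108846 → P i := stepQ 108845 Q108845 (allL N108845 (tt N120612 (iv1 F521755)) (tt N74671 (iv0 F464236)) (tt N107763 (iv2 F464235)) (tt N74539 (iv3 D212071)) (tt N107152 F464234) (tt N115992 (iv5 F497939)) (tt N107151 F464232) (tt N107766 F464233))
theorem Q108847 : ∀ i, i < 108847 → P i := stepQ 108846 Q108846 (allL N108846 (tt N110886 F487976) (tt N119989 (iv0 F518419)) (tt N119958 F518258) (tt N121597 (iv3 F527242)) (tt N74539 (iv4 D212072)) (tt N88553 F464239) (tt N108660 F464238) (tt N119990 (iv7 F518421)))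
theorem Q108848 : ∀ i, i < 108848 → P i := stepQ 108847 Q108847 (allL N108847 (tt N74672 F476921) (tt N111560 F476929) (tt N91570 (iv2 F464245)) (tt N74540 (iv3 D212073)) (tt N113273 (iv4 F484813)) (tt N115994 (iv5 F497952)) (tt N91476 F464243) (tt N111559 (iv7 F476918)))
theorem Q108849 : ∀ i, i < 108849 → P i := stepQ 108848 Q108848 (allL N108848 (tt N119989 (iv1 F518420)) (tt N110886 (iv0 F473609)) (tt N119990 (iv2 F518426)) (tt N110881 (iv3 F473584)) (tt N74540 (iv4 D212074)) (tt N88552 (iv5 F476922)) (tt N121245 F525344) (tt N119958 (iv7 F518256)))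
theorem Q108850 : ∀ i, i < 108850 → P i := stepQ 108849 Q108849 (allL N108849 (tt N93387 F464244) (tt N110945 F473906) (tt N110944 F473898) (tt N91476 (iv3 F464242)) (tt N121245 (iv4 F525342)) (tt N115105 F493503) (tt N74540 (iv6 D212076)) (tt N91571 F464241))
theorem Q108851 : ∀ i, i < 108851 → P i := stepQ 108850 Q108850 (allL N108850 (tt N115536 (iv1 F495682)) (tt N74541 (iv0 D212077)) (tt N88112 (iv2 F464247)) (tt N121751 D225010) (tt N88087 F464246) (tt N116701 (iv5 F501382)) (tt N115899 (iv6 F497479)) (tt N88106 (iv7 F464248)))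
theorem Q108852 : ∀ i, i < 108852 → P i := stepQ 108851 Q108851 (allL N108851 (tt N74541 (iv1 D212078)) (tt N115536 (iv0 F495681)) (tt N88106 (iv2 F464251)) (tt N115900 (iv3 F497484)) (tt N88085 F464250) (tt N118308 (iv5 F509629)) (tt N111454 (iv6 F476431)) (tt N88112 F464249))
theorem Q108853 : ∀ i, i < 108853 → P i := stepQ 108852 Q108852 (allL N108852 (tt N88106 (iv1 F464255)) (tt N88112 F464256) (tt N115536 (iv2 F495677)) (tt N74551 F464252) (tt N88062 F464253) (tt N74542 F464254) (tt N115397 (iv6 F494985)) (tt N74541 (iv7 D212079)))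
theorem Q108854 : ∀ i, i < 108854 → P i := stepQ 108853 Q108853 (allL N108853 (tt N118612 (iv1 F511159)) (tt N118614 (iv0 F511169)) (tt N93404 F464257) (tt N117939 (iv3 F507694)) (tt N74544 (iv4 D212080)) (tt N103764 F464258) (tt N120575 (iv6 F521536)) (tt N117933 (iv7 F507673)))
theorem Q108855 : ∀ i, i < 108855 → P i := stepQ 108854 Q108854 (allL N108854 (tt N118614 (iv1 F511170)) (tt N118612 (iv0 F511158)) (tt N117933 (iv2 F507670)) (tt N121660 (iv3 F527599)) (tt N74546 (iv4 D212081)) (tt N103314 F464259) (tt N121660 (iv6 F527600)) (tt N93404 F464260))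
theorem Q108856 : ∀ i, i < 108856 → P i := stepQ 108855 Q108855 (allL N108855 (tt N101605 (iv1 F464264)) (tt N93553 (iv0 F464265)) (tt N108186 F464261) (tt N74548 (iv3 D212082)) (tt N108182 F464263) (tt N112304 (iv5 F480452)) (tt N108182 (iv6 F464266)) (tt N100557 F464262))
theorem Q108857 : ∀ i, i < 108857 → P i := stepQ 108856 Q108856 (allL N108856 (tt N108895 (iv1 F464398)) (tt N93540 F464268) (tt N108893 F464386) (tt N121752 D225011) (tt N74548 (iv4 D212083)) (tt N104363 F464267) (tt N121752 F528111) (tt N108894 (iv7 F464390)))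
theorem Q108858 : ∀ i, i < 108858 → P i := stepQ 108857 Q108857 (allL N108857 (tt N108192 (iv1 F464273)) (tt N108191 F464274) (tt N108107 F464269) (tt N108182 F464270) (tt N121752 (iv4 F528107)) (tt N108106 F464271) (tt N74548 (iv6 D212084)) (tt N108190 F464272))
theorem Q108859 : ∀ i, i < 108859 → P i := stepQ 108858 Q108858 (allL N108858 (tt N93540 F464276) (tt N108895 F464397) (tt N108894 F464392) (tt N119419 (iv3 F515518)) (tt N74549 (iv4 D212085)) (tt N104361 F464275) (tt N119199 (iv6 F514321)) (tt N108893 F464387))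
theorem Q108860 : ∀ i, i < 108860 → P i := stepQ 108859 Q108859 (allL N108859 (tt N104366 (iv1 F464279)) (tt N74550 (iv0 D212086)) (tt N118261 (iv2 F509411)) (tt N115615 (iv3 F495982)) (tt N74576 F464277) (tt N104373 (iv5 F464278)) (tt N115613 F495978) (tt N118262 (iv7 F509419)))
theorem Q108861 : ∀ i, i < 108861 → P i := stepQ 108860 Q108860 (allL N108860 (tt N74550 (iv1 D212087)) (tt N104366 F464280) (tt N118262 (iv2 F509417)) (tt N115660 (iv3 F496189)) (tt N74577 F464281) (tt N104370 (iv5 F464282)) (tt N121753 D225012) (tt N118261 (iv7 F509413)))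
theorem Q108862 : ∀ i, i < 108862 → P i := stepQ 108861 Q108861 (allL N108861 (tt N84586 F488839) (tt N88023 F488840) (tt N114097 F488559) (tt N74550 (iv3 D212088)) (tt N115507 (iv4 F495551)) (tt N120692 (iv5 F522181)) (tt N118387 (iv6 F510080)) (tt N114098 (iv7 F488558)))
theorem Q108863 : ∀ i, i < 108863 → P i := stepQ 108862 Q108862 (allL N108862 (tt N104364 F464286) (tt N103299 F464287) (tt N104367 F464283) (tt N120692 (iv3 F522179)) (tt N93044 F464284) (tt N74550 (iv5 D212089)) (tt N118120 F508717) (tt N93043 F464285))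
theorem Q108864 : ∀ i, i < 108864 → P i := stepQ 108863 Q108863 (allL N108863 (tt N118262 (iv1 F509421)) (tt N118261 (iv0 F509415)) (tt N104366 F464288) (tt N114098 F488557) (tt N74551 F464289) (tt N93043 F464290) (tt N121754 D225013) (tt N74550 (iv7 D212090)))
theorem Q108865 : ∀ i, i < 108865 → P i := stepQ 108864 Q108864 (allL N108864 (tt N119200 (iv1 F514328)) (tt N119200 (iv0 F514327)) (tt N118388 (iv2 F510081)) (tt N115397 F494988) (tt N121754 (iv4 F528117)) (tt N118195 (iv5 F509085)) (tt N74551 (iv6 D212091)) (tt N118388 (iv7 F510084)))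
theorem Q108866 : ∀ i, i < 108866 → P i := stepQ 108865 Q108865 (allL N108865 (tt N74554 (iv1 D212092)) (tt N74558 F464291) (tt N74556 (iv2 F464293)) (tt N111549 (iv3 F476868)) (tt N121755 D225014) (tt N110558 F472136) (tt N110560 (iv6 F472143)) (tt N74555 F464292))
theorem Q108867 : ∀ i, i < 108867 → P i := stepQ 108866 Q108866 (allL N108866 (tt N121329 (iv1 F525803)) (tt N101948 (iv0 F464295)) (tt N74557 F464294) (tt N118371 (iv3 F509983)) (tt N88961 F464325) (tt N74554 (iv5 D212093)) (tt N118371 (iv6 F509984)) (tt N88958 F464328))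
theorem Q108868 : ∀ i, i < 108868 → P i := stepQ 108867 Q108867 (allL N108867 (tt N74556 (iv1 F464298)) (tt N74555 F464299) (tt N74558 F464296) (tt N118372 (iv3 F509990)) (tt N106520 F464297) (tt N88958 (iv5 F464327)) (tt N118382 (iv6 F510055)) (tt N74554 (iv7 D212094)))
theorem Q108869 : ∀ i, i < 108869 → P i := stepQ 108868 Q108868 (allL N108868 (tt N81113 (iv1 F476871)) (tt N111552 F476884) (tt N81710 F464300) (tt N74555 (iv3 D212095)) (tt N111975 F478933) (tt N117479 (iv5 F505246)) (tt N81727 (iv6 F464301)) (tt N111549 (iv7 F476870)))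
theorem Q108870 : ∀ i, i < 108870 → P i := stepQ 108869 Q108869 (allL N108869 (tt N121756 D225015) (tt N119066 (iv0 F513600)) (tt N105739 F464302) (tt N119617 (iv3 F516536)) (tt N74555 (iv4 D212096)) (tt N88960 (iv5 F464303)) (tt N105720 (iv6 F464304)) (tt N121755 (iv7 F528123)))
theorem Q108871 : ∀ i, i < 108871 → P i := stepQ 108870 Q108870 (allL N108870 (tt N120574 (iv1 F521532)) (tt N118441 (iv0 F510373)) (tt N117523 (iv2 F505502)) (tt N117479 (iv3 F505244)) (tt N106528 F478206) (tt N74555 (iv5 D212097)) (tt N114756 (iv6 F491695)) (tt N110558 (iv7 F472137)))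
theorem Q108872 : ∀ i, i < 108872 → P i := stepQ 108871 Q108871 (allL N108871 (tt N111424 F476299) (tt N110947 F473918) (tt N81665 F464305) (tt N81727 F464306) (tt N105720 F464307) (tt N112126 (iv5 F479622)) (tt N74555 (iv6 D212098)) (tt N112128 (iv7 F479636)))
theorem Q108873 : ∀ i, i < 108873 → P i := stepQ 108872 Q108872 (allL N108872 (tt N119066 (iv1 F513601)) (tt N121756 F528130) (tt N121755 (iv2 F528119)) (tt N117516 (iv3 F505461)) (tt N74556 (iv4 D212099)) (tt N88959 (iv5 F464323)) (tt N120802 (iv6 F522800)) (tt N105739 F464308))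
theorem Q108874 : ∀ i, i < 108874 → P i := stepQ 108873 Q108873 (allL N108873 (tt N118441 (iv1 F510374)) (tt N120574 (iv0 F521531)) (tt N110558 (iv2 F472134)) (tt N117500 F505363) (tt N106527 (iv4 F505364)) (tt N74556 (iv5 D212100)) (tt N109418 (iv6 F466860)) (tt N117523 (iv7 F505505)))
theorem Q108875 : ∀ i, i < 108875 → P i := stepQ 108874 Q108874 (allL N108874 (tt N88958 (iv1 F464331)) (tt N74557 (iv0 D212101)) (tt N121329 (iv2 F525797)) (tt N121757 D225016) (tt N115339 (iv4 F494676)) (tt N101949 (iv5 F464333)) (tt N121179 (iv6 F524972)) (tt N101948 F464332))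
theorem Q108876 : ∀ i, i < 108876 → P i := stepQ 108875 Q108875 (allL N108875 (tt N74557 (iv1 D212102)) (tt N88958 F464329) (tt N101948 F464311) (tt N119427 (iv3 F515556)) (tt N115346 (iv4 F494706)) (tt N101938 (iv5 F464310)) (tt N119426 (iv6 F515551)) (tt N121329 (iv7 F525801)))
theorem Q108877 : ∀ i, i < 108877 → P i := stepQ 108876 Q108876 (allL N108876 (tt N88960 (iv1 F464320)) (tt N88959 (iv0 F464322)) (tt N88961 (iv2 F464319)) (tt N121221 (iv3 F525209)) (tt N74557 (iv4 D212103)) (tt N117303 (iv5 F504370)) (tt N118378 (iv6 F510027)) (tt N88951 F464318))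
theorem Q108878 : ∀ i, i < 108878 → P i := stepQ 108877 Q108877 (allL N108877 (tt N101948 (iv1 F464314)) (tt N121329 (iv0 F525802)) (tt N88958 F464316) (tt N74565 F464312) (tt N88951 (iv4 F464315)) (tt N74558 F464313) (tt N88950 F464317) (tt N74557 (iv7 D212104)))
theorem Q108879 : ∀ i, i < 108879 → P i := stepQ 108878 Q108878 (allL N108878 (tt N98612 F464338) (tt N98667 F464339) (tt N118379 (iv2 F510031)) (tt N104458 F464334) (tt N74560 (iv4 D212105)) (tt N97567 F464337) (tt N96406 F464335) (tt N104525 F464336))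
theorem Q108880 : ∀ i, i < 108880 → P i := stepQ 108879 Q108879 (allL N108879 (tt N98667 F464343) (tt N98612 F464344) (tt N104525 F464340) (tt N120867 (iv3 F523168)) (tt N74562 (iv4 D212106)) (tt N97566 F464341) (tt N98665 F464342) (tt N118379 (iv7 F510033)))
theorem Q108881 : ∀ i, i < 108881 → P i := stepQ 108880 Q108880 (allL N108880 (tt N97569 F464350) (tt N93526 F464351) (tt N103695 F464345) (tt N101477 F464346) (tt N74563 (iv4 D212107)) (tt N97577 F464347) (tt N101476 F464348) (tt N101935 F464349))
theorem Q108882 : ∀ i, i < 108882 → P i := stepQ 108881 Q108881 (allL N108881 (tt N97852 (iv1 F464354)) (tt N74564 (iv0 D212108)) (tt N118249 (iv2 F509361)) (tt N117304 (iv3 F504374)) (tt N74589 F464353) (tt N97856 F464352) (tt N118126 (iv6 F508741)) (tt N93438 F464355))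
theorem Q108883 : ∀ i, i < 108883 → P i := stepQ 108882 Q108882 (allL N108882 (tt N104592 F464357) (tt N99982 F464358) (tt N120751 F522518) (tt N74564 (iv3 D212109)) (tt N121221 (iv4 F525214)) (tt N120747 (iv5 F522492)) (tt N103497 F464356) (tt N120746 F522488))
theorem Q108884 : ∀ i, i < 108884 → P i := stepQ 108883 Q108883 (allL N108883 (tt N120952 F523666) (tt N120952 (iv0 F523665)) (tt N118195 (iv2 F509082)) (tt N88950 F464359) (tt N120748 (iv4 F522498)) (tt N118388 (iv5 F510083)) (tt N74565 (iv6 D212110)) (tt N118195 (iv7 F509086)))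
theorem Q108885 : ∀ i, i < 108885 → P i := stepQ 108884 Q108884 (allL N108884 (tt N117551 F505652) (tt N117553 (iv0 F505661)) (tt N77520 F464360) (tt N74567 F464361) (tt N110035 (iv4 F469657)) (tt N74566 (iv5 D212111)) (tt N75520 F464362) (tt N96536 F464363))
theorem Q108886 : ∀ i, i < 108886 → P i := stepQ 108885 Q108885 (allL N108885 (tt N118442 (iv1 F510379)) (tt N118438 (iv0 F510357)) (tt N109171 (iv2 F465666)) (tt N119658 (iv3 F516759)) (tt N74567 (iv4 D212112)) (tt N97850 F464364) (tt N114579 (iv6 F490854)) (tt N118247 (iv7 F509350)))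
theorem Q108887 : ∀ i, i < 108887 → P i := stepQ 108886 Q108886 (allL N108886 (tt N98163 F464368) (tt N96065 F464369) (tt N93789 F464365) (tt N115112 (iv3 F493538)) (tt N89850 F464366) (tt N74570 (iv5 D212113)) (tt N89849 F464367) (tt N116760 (iv7 F501682)))
theorem Q108888 : ∀ i, i < 108888 → P i := stepQ 108887 Q108887 (allL N108887 (tt N118390 (iv1 F510097)) (tt N118389 (iv0 F510087)) (tt N107437 (iv2 F464373)) (tt N74572 (iv3 D212114)) (tt N107121 F464372) (tt N87242 (iv5 F464374)) (tt N107120 F464370) (tt N107439 F464371))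
theorem Q108889 : ∀ i, i < 108889 → P i := stepQ 108888 Q108888 (allL N108888 (tt N112085 (iv1 F479428)) (tt N101728 F464377) (tt N111555 (iv2 F476898)) (tt N87242 F464375) (tt N81149 F464376) (tt N74572 (iv5 D212115)) (tt N111696 (iv6 F477544)) (tt N111553 (iv7 F476888)))
theorem Q108890 : ∀ i, i < 108890 → P i := stepQ 108889 Q108889 (allL N108889 (tt N118276 F509479) (tt N118398 F510140) (tt N118397 (iv2 F510136)) (tt N74573 (iv3 D212116)) (tt N110657 (iv4 F472623)) (tt N108176 F464381) (tt N118166 (iv6 F508961)) (tt N111554 (iv7 F476895)))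
theorem Q108891 : ∀ i, i < 108891 → P i := stepQ 108890 Q108890 (allL N108890 (tt N101728 F464379) (tt N112085 (iv0 F479427)) (tt N111553 (iv2 F476886)) (tt N108176 (iv3 F464380)) (tt N81150 F464378) (tt N74573 (iv5 D212117)) (tt N115549 (iv6 F495728)) (tt N111555 (iv7 F476902)))
theorem Q108892 : ∀ i, i < 108892 → P i := stepQ 108891 Q108891 (allL N108891 (tt N96016 F464383) (tt N110938 F473881) (tt N110937 F473873) (tt N118166 (iv3 F508959)) (tt N81107 F464382) (tt N118159 (iv5 F508923)) (tt N74573 (iv6 D212118)) (tt N110928 (iv7 F473833)))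
theorem Q108893 : ∀ i, i < 108893 → P i := stepQ 108892 Q108892 (allL N108892 (tt N118220 (iv1 F509224)) (tt N117041 (iv0 F503094)) (tt N118263 (iv2 F509422)) (tt N111393 (iv3 F476148)) (tt N121753 (iv4 F528114)) (tt N93834 F464384) (tt N74577 (iv6 D212119)) (tt N120509 (iv7 F521165)))
theorem Q108894 : ∀ i, i < 108894 → P i := stepQ 108893 Q108893 (allL N108893 (tt N104385 (iv1 F464388)) (tt N74578 (iv0 D212120)) (tt N108856 (iv2 F464386)) (tt N121659 (iv3 F527594)) (tt N93880 F464385) (tt N118078 (iv5 F508450)) (tt N121640 (iv6 F527485)) (tt N108858 (iv7 F464387)))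
theorem Q108895 : ∀ i, i < 108895 → P i := stepQ 108894 Q108894 (allL N108894 (tt N74578 (iv1 D212121)) (tt N104385 F464389) (tt N108858 (iv2 F464392)) (tt N121665 (iv3 F527622)) (tt N93847 F464391) (tt N118076 (iv5 F508443)) (tt N119630 (iv6 F516606)) (tt N108856 F464390))
theorem Q108896 : ∀ i, i < 108896 → P i := stepQ 108895 Q108895 (allL N108895 (tt N108858 (iv1 F464397)) (tt N108856 F464398) (tt N104385 F464393) (tt N105942 F464394) (tt N74579 F464395) (tt N93052 F464396) (tt N121758 D225017) (tt N74578 (iv7 D212122)))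
theorem Q108897 : ∀ i, i < 108897 → P i := stepQ 108896 Q108896 (allL N108896 (tt N121759 D225018) (tt N121759 F528146) (tt N118189 (iv2 F509057)) (tt N120540 (iv3 F521342)) (tt N121758 (iv4 F528142)) (tt N118250 (iv5 F509369)) (tt N74579 (iv6 D212123)) (tt N118189 (iv7 F509060)))
theorem Q108898 : ∀ i, i < 108898 → P i := stepQ 108897 Q108897 (allL N108897 (tt N118408 F510187) (tt N118411 F510206) (tt N106511 F464399) (tt N74581 F464400) (tt N106006 F464401) (tt N89474 F464403) (tt N74580 (iv6 D212124)) (tt N106767 (iv7 F464402)))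
theorem Q108899 : ∀ i, i < 108899 → P i := stepQ 108898 Q108898 (allL N108898 (tt N74588 (iv1 F464412)) (tt N74584 (iv0 D212125)) (tt N74585 (iv2 F464408)) (tt N101659 (iv3 F464409)) (tt N101519 (iv4 F464411)) (tt N86221 F464407) (tt N101658 F464406) (tt N74586 (iv7 F464410)))
theorem Q108900 : ∀ i, i < 108900 → P i := stepQ 108899 Q108899 (allL N108899 (tt N74584 (iv1 D212126)) (tt N74588 F464413) (tt N74586 (iv2 F464415)) (tt N106526 F464417) (tt N121607 (iv4 F527305)) (tt N86225 (iv5 F464416)) (tt N118157 (iv6 F508916)) (tt N74585 F464414))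
theorem Q108901 : ∀ i, i < 108901 → P i := stepQ 108900 Q108900 (allL N108900 (tt N101323 (iv1 F464442)) (tt N93457 F464420) (tt N74587 F464418) (tt N118241 (iv3 F509318)) (tt N98503 F464419) (tt N74584 (iv5 D212127)) (tt N118241 (iv6 F509319)) (tt N119164 (iv7 F514138)))
theorem Q108902 : ∀ i, i < 108902 → P i := stepQ 108901 Q108901 (allL N108901 (tt N74586 (iv1 F464425)) (tt N74585 F464426) (tt N74588 F464421) (tt N81145 F464422) (tt N82029 F464423) (tt N119164 (iv5 F514139)) (tt N81144 F464424) (tt N74584 (iv7 D212128)))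
theorem Q108903 : ∀ i, i < 108903 → P i := stepQ 108902 Q108902 (allL N108902 (tt N118405 F513510) (tt N118402 (iv0 F510161)) (tt N106524 F464427) (tt N74585 (iv3 D212129)) (tt N90269 F464428) (tt N96571 F464429) (tt N90268 (iv6 F464432)) (tt N106526 F464430))
theorem Q108904 : ∀ i, i < 108904 → P i := stepQ 108903 Q108903 (allL N108903 (tt N116846 (iv1 F502149)) (tt N110941 (iv0 F473887)) (tt N101658 F464433) (tt N90268 F464434) (tt N90270 F464435) (tt N101657 F464436) (tt N74585 (iv6 D212130)) (tt N118273 F509462))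
theorem Q108905 : ∀ i, i < 108905 → P i := stepQ 108904 Q108904 (allL N108904 (tt N119164 (iv1 F514137)) (tt N74587 (iv0 D212131)) (tt N101323 (iv2 F464440)) (tt N105738 F464439) (tt N82036 F464438) (tt N93458 F464437) (tt N86140 (iv6 F464443)) (tt N93457 F464441))
theorem Q108906 : ∀ i, i < 108906 → P i := stepQ 108905 Q108905 (allL N108905 (tt N120882 (iv1 F523268)) (tt N86138 (iv0 F464446)) (tt N113315 (iv2 F484983)) (tt N77538 F464444) (tt N118126 (iv4 F508740)) (tt N108659 F464445) (tt N74589 (iv6 D212132)) (tt N119161 (iv7 F514121)))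
theorem Q108907 : ∀ i, i < 108907 → P i := stepQ 108906 Q108906 (allL N108906 (tt N120772 F522636) (tt N120772 (iv0 F522635)) (tt N118250 (iv2 F509367)) (tt N86174 F464447) (tt N119422 (iv4 F515528)) (tt N118189 (iv5 F509059)) (tt N74591 (iv6 D212133)) (tt N118250 (iv7 F509370)))
theorem Q108908 : ∀ i, i < 108908 → P i := stepQ 108907 Q108907 (allL N108907 (tt N74606 F464449) (tt N95290 (iv0 F464450)) (tt N116833 (iv2 F502071)) (tt N106511 F464448) (tt N119286 (iv4 F514835)) (tt N116831 F502062) (tt N74592 (iv6 D212134)) (tt N119234 (iv7 F514520)))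
theorem Q108909 : ∀ i, i < 108909 → P i := stepQ 108908 Q108908 (allL N108908 (tt N110683 F472753) (tt N74593 (iv0 D212135)) (tt N118733 (iv2 F511793)) (tt N110931 (iv3 F473846)) (tt N119289 (iv4 F514852)) (tt N118674 (iv5 F511471)) (tt N95282 F464451) (tt N118254 (iv7 F509383)))
theorem Q108910 : ∀ i, i < 108910 → P i := stepQ 108909 Q108909 (allL N108909 (tt N74593 (iv1 D212136)) (tt N110683 F472754) (tt N118254 (iv2 F509382)) (tt N117275 (iv3 F504235)) (tt N119290 (iv4 F514860)) (tt N108203 (iv5 F464452)) (tt N117273 (iv6 F504227)) (tt N118733 (iv7 F511795)))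
theorem Q108911 : ∀ i, i < 108911 → P i := stepQ 108910 Q108910 (allL N108910 (tt N118254 (iv1 F509386)) (tt N118733 (iv0 F511796)) (tt N110683 (iv2 F472750)) (tt N74597 F464453) (tt N110679 (iv4 F472732)) (tt N101600 F464454) (tt N112481 (iv6 F481271)) (tt N74593 (iv7 D212137)))
theorem Q108912 : ∀ i, i < 108912 → P i := stepQ 108911 Q108911 (allL N108911 (tt N88128 (iv1 F464458)) (tt N88127 F464459) (tt N115566 (iv2 F495800)) (tt N101600 F464455) (tt N87964 F464456) (tt N74597 F464457) (tt N120777 (iv6 F522654)) (tt N74596 (iv7 D212138)))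
theorem Q108913 : ∀ i, i < 108913 → P i := stepQ 108912 Q108912 (allL N108912 (tt N118242 F509327) (tt N121443 (iv0 F526407)) (tt N74600 F464460) (tt N118226 (iv3 F509238)) (tt N106790 F464461) (tt N119033 (iv5 F513393)) (tt N74599 (iv6 D212139)) (tt N121760 D225019))
theorem Q108914 : ∀ i, i < 108914 → P i := stepQ 108913 Q108913 (allL N108913 (tt N121760 (iv1 F528153)) (tt N74600 (iv0 D212140)) (tt N118242 (iv2 F509323)) (tt N96552 (iv3 F464463)) (tt N99400 (iv4 F464464)) (tt N96549 (iv5 F464465)) (tt N106771 F464462) (tt N121443 (iv7 F526406)))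
theorem Q108915 : ∀ i, i < 108915 → P i := stepQ 108914 Q108914 (allL N108914 (tt N74600 (iv1 D212141)) (tt N121760 F528152) (tt N121443 (iv2 F526402)) (tt N111547 (iv3 F476852)) (tt N99401 (iv4 F464466)) (tt N114996 F492973) (tt N118145 (iv6 F508841)) (tt N118242 (iv7 F509325)))
theorem Q108916 : ∀ i, i < 108916 → P i := stepQ 108915 Q108915 (allL N108915 (tt N101382 F489595) (tt N119114 (iv0 F513861)) (tt N119033 (iv2 F513391)) (tt N74602 F464467) (tt N105514 F489594) (tt N74600 (iv5 D212142)) (tt N118404 (iv6 F510167)) (tt N119177 (iv7 F514209)))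
theorem Q108917 : ∀ i, i < 108917 → P i := stepQ 108916 Q108916 (allL N108916 (tt N121443 F526408) (tt N118242 (iv0 F509326)) (tt N121760 (iv2 F528147)) (tt N74603 F464468) (tt N106789 (iv4 F464471)) (tt N119177 (iv5 F514210)) (tt N118390 (iv6 F510095)) (tt N74600 (iv7 D212143)))
theorem Q108918 : ∀ i, i < 108918 → P i := stepQ 108917 Q108917 (allL N108917 (tt N103083 F464477) (tt N110196 (iv0 F470382)) (tt N118248 (iv2 F509354)) (tt N77520 F464473) (tt N95058 F464474) (tt N74601 (iv5 D212144)) (tt N77519 F464475) (tt N95055 F464476))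
theorem Q108919 : ∀ i, i < 108919 → P i := stepQ 108918 Q108918 (allL N108918 (tt N117528 (iv1 F505533)) (tt N117524 (iv0 F505508)) (tt N91569 F464478) (tt N115105 (iv3 F493501)) (tt N74602 (iv4 D212145)) (tt N91476 F464479) (tt N118406 (iv6 F510173)) (tt N91572 (iv7 F464480)))
theorem Q108920 : ∀ i, i < 108920 → P i := stepQ 108919 Q108919 (allL N108919 (tt N78187 (iv1 F464483)) (tt N77104 F464484) (tt N112482 (iv2 F481276)) (tt N119177 F514212) (tt N91572 F464481) (tt N74603 F464482) (tt N117620 F506037) (tt N74602 (iv7 D212146)))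
theorem Q108921 : ∀ i, i < 108921 → P i := stepQ 108920 Q108920 (allL N108920 (tt N99993 (iv1 F464490)) (tt N109258 (iv0 F466040)) (tt N74608 F464485) (tt N106759 F464486) (tt N74977 F464487) (tt N90277 F464488) (tt N74604 (iv6 D212147)) (tt N94422 F464489))
theorem Q108922 : ∀ i, i < 108922 → P i := stepQ 108921 Q108921 (allL N108921 (tt N107933 F464495) (tt N107932 F464496) (tt N74610 F464491) (tt N116585 F500858) (tt N74706 F464494) (tt N74605 (iv5 D212148)) (tt N81694 F464492) (tt N74607 F464493))
theorem Q108923 : ∀ i, i < 108923 → P i := stepQ 108922 Q108922 (allL N108922 (tt N95290 (iv1 F464498)) (tt N74606 (iv0 D212149)) (tt N119234 (iv2 F514524)) (tt N74619 F464497) (tt N119296 (iv4 F514893)) (tt N89469 F464499) (tt N118147 (iv6 F508854)) (tt N116833 (iv7 F502073)))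
theorem Q108924 : ∀ i, i < 108924 → P i := stepQ 108923 Q108923 (allL N108923 (tt N74610 (iv1 F464504)) (tt N74607 (iv0 D212150)) (tt N107932 (iv2 F464503)) (tt N118410 (iv3 F510198)) (tt N78159 F464501) (tt N108307 F464500) (tt N78158 F464502) (tt N107933 F464505))
theorem Q108925 : ∀ i, i < 108925 → P i := stepQ 108924 Q108924 (allL N108924 (tt N89503 F464510) (tt N110930 F473843) (tt N74614 F464506) (tt N93774 F464507) (tt N81238 F464508) (tt N106748 F464509) (tt N74612 (iv6 D212151)) (tt N110929 (iv7 F473836)))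
theorem Q108926 : ∀ i, i < 108926 → P i := stepQ 108925 Q108925 (allL N108925 (tt N108214 (iv1 F464514)) (tt N74613 (iv0 D212152)) (tt N89989 (iv2 F464513)) (tt N111909 F478596) (tt N89081 F464512) (tt N81099 F464511) (tt N118636 (iv6 F511267)) (tt N81098 F464515))
theorem Q108927 : ∀ i, i < 108927 → P i := stepQ 108926 Q108926 (allL N108926 (tt N108218 F464521) (tt N118409 (iv0 F510194)) (tt N118410 F510199) (tt N74615 (iv3 D212153)) (tt N90263 (iv4 F464518)) (tt N93836 F464516) (tt N94614 F464519) (tt N90298 F464517))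
theorem Q108928 : ∀ i, i < 108928 → P i := stepQ 108927 Q108927 (allL N108927 (tt N74642 F464525) (tt N74637 F464526) (tt N117647 (iv2 F506197)) (tt N90548 F464522) (tt N74615 (iv4 D212154)) (tt N102398 F464524) (tt N91370 (iv6 F464527)) (tt N90661 F464523))
theorem Q108929 : ∀ i, i < 108929 → P i := stepQ 108928 Q108928 (allL N108928 (tt N97146 F464531) (tt N110476 (iv0 F471766)) (tt N109340 F466464) (tt N94614 F464528) (tt N91370 F464529) (tt N93838 F464530) (tt N74615 (iv6 D212155)) (tt N115351 (iv7 F494734)))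
theorem Q108930 : ∀ i, i < 108930 → P i := stepQ 108929 Q108929 (allL N108929 (tt N74637 F464537) (tt N74642 F464538) (tt N90661 F464533) (tt N77790 F464534) (tt N74616 (iv4 D212156)) (tt N77788 F464535) (tt N90659 F464536) (tt N117647 (iv7 F506200)))
theorem Q108931 : ∀ i, i < 108931 → P i := stepQ 108930 Q108930 (allL N108930 (tt N74622 (iv1 F464541)) (tt N74617 (iv0 D212157)) (tt N108942 (iv2 F464596)) (tt N95818 (iv3 F464542)) (tt N93854 F464540) (tt N102132 F464539) (tt N97135 F464543) (tt N102873 F464544))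
theorem Q108932 : ∀ i, i < 108932 → P i := stepQ 108931 Q108931 (allL N108931 (tt N74617 (iv1 D212158)) (tt N74622 F464545) (tt N102873 (iv2 F464548)) (tt N111136 (iv3 F474868)) (tt N93955 F464547) (tt N102134 F464546) (tt N102871 (iv6 F464549)) (tt N108942 (iv7 F464597)))
theorem Q108933 : ∀ i, i < 108933 → P i := stepQ 108932 Q108932 (allL N108932 (tt N111500 (iv1 F476619)) (tt N90672 (iv0 F464553)) (tt N100696 F464550) (tt N74617 (iv3 D212159)) (tt N121599 (iv4 F527255)) (tt N100695 F464551) (tt N108477 F464552) (tt N111583 (iv7 F477015)))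
theorem Q108934 : ∀ i, i < 108934 → P i := stepQ 108933 Q108933 (allL N108933 (tt N115005 F493020) (tt N117563 F505719) (tt N117562 (iv2 F505714)) (tt N111578 (iv3 F476990)) (tt N74623 F464554) (tt N120031 (iv5 F518658)) (tt N74622 (iv6 D212160)) (tt N108476 F464555))
theorem Q108935 : ∀ i, i < 108935 → P i := stepQ 108934 Q108934 (allL N108934 (tt N74623 (iv1 D212161)) (tt N110479 F471775) (tt N81696 F464558) (tt N106938 F464559) (tt N119238 (iv4 F514548)) (tt N93840 (iv5 F464557)) (tt N93667 (iv6 F464556)) (tt N110477 (iv7 F471768)))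
theorem Q108936 : ∀ i, i < 108936 → P i := stepQ 108935 Q108935 (allL N108935 (tt N81696 (iv1 F464564)) (tt N110477 F471770) (tt N110479 F471774) (tt N89605 F464560) (tt N108476 F464561) (tt N108677 F464562) (tt N108475 F464563) (tt N74623 (iv7 D212162)))
theorem Q108937 : ∀ i, i < 108937 → P i := stepQ 108936 Q108936 (allL N108936 (tt N106725 F464569) (tt N111874 (iv0 F478440)) (tt N79563 F464565) (tt N79565 F464566) (tt N74653 F464567) (tt N74624 (iv5 D212163)) (tt N84480 F464568) (tt N109308 (iv7 F466317)))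
theorem Q108938 : ∀ i, i < 108938 → P i := stepQ 108937 Q108937 (allL N108937 (tt N91878 F464576) (tt N91877 F464575) (tt N91879 F464570) (tt N108574 F464571) (tt N74645 F464572) (tt N74627 (iv5 D212164)) (tt N102140 F464573) (tt N91874 F464574))
theorem Q108939 : ∀ i, i < 108939 → P i := stepQ 108938 Q108938 (allL N108938 (tt N111533 (iv1 F476787)) (tt N111532 (iv0 F476780)) (tt N74633 F464577) (tt N118413 (iv3 F510215)) (tt N81276 F464578) (tt N74632 (iv5 D212165)) (tt N118987 (iv6 F513136)) (tt N81275 F464579))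
theorem Q108940 : ∀ i, i < 108940 → P i := stepQ 108939 Q108939 (allL N108939 (tt N74633 (iv1 D212166)) (tt N81275 F464580) (tt N111532 (iv2 F476777)) (tt N90301 (iv3 F464582)) (tt N80305 F464581) (tt N118331 (iv5 F509745)) (tt N88464 F464583) (tt N111533 (iv7 F476784)))
theorem Q108941 : ∀ i, i < 108941 → P i := stepQ 108940 Q108940 (allL N108940 (tt N79606 (iv1 F464588)) (tt N79601 (iv0 F464587)) (tt N118987 (iv2 F513134)) (tt N74638 F464584) (tt N97078 F464585) (tt N117866 (iv5 F507341)) (tt N74633 (iv6 D212167)) (tt N108126 F464586))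
theorem Q108942 : ∀ i, i < 108942 → P i := stepQ 108941 Q108941 (allL N108941 (tt N108188 F464595) (tt N108187 (iv0 F464594)) (tt N81988 F464589) (tt N74635 (iv3 D212168)) (tt N99031 (iv4 F464592)) (tt N96177 F464590) (tt N81862 F464593) (tt N108183 F464591))
theorem Q108943 : ∀ i, i < 108943 → P i := stepQ 108942 Q108942 (allL N108942 (tt N93617 F464598) (tt N93611 F464599) (tt N108930 F464596) (tt N119257 (iv3 F514664)) (tt N74635 (iv4 D212169)) (tt N111874 (iv5 F478441)) (tt N119322 (iv6 F515009)) (tt N108931 F464597))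
theorem Q108944 : ∀ i, i < 108944 → P i := stepQ 108943 Q108943 (allL N108943 (tt N105437 F464604) (tt N91369 (iv0 F464605)) (tt N78142 F464600) (tt N81862 F464601) (tt N119322 (iv4 F515008)) (tt N96179 F464602) (tt N74635 (iv6 D212170)) (tt N81986 F464603))
theorem Q108945 : ∀ i, i < 108945 → P i := stepQ 108944 Q108944 (allL N108944 (tt N91383 F464609) (tt N91318 F464610) (tt N117560 (iv2 F505699)) (tt N74637 (iv3 D212171)) (tt N103153 F464606) (tt N91826 F464607) (tt N111598 (iv6 F477097)) (tt N91825 F464608))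
theorem Q108946 : ∀ i, i < 108946 → P i := stepQ 108945 Q108945 (allL N108945 (tt N108156 F473657) (tt N116617 (iv0 F500994)) (tt N74641 F464611) (tt N81275 F464612) (tt N111806 (iv4 F478068)) (tt N74640 (iv5 D212172)) (tt N81280 F464613) (tt N118413 (iv7 F510217)))
theorem Q108947 : ∀ i, i < 108947 → P i := stepQ 108946 Q108946 (allL N108946 (tt N118413 (iv1 F510218)) (tt N74641 (iv0 D212173)) (tt N108156 (iv2 F464615)) (tt N107713 F464614) (tt N107724 (iv4 F464616)) (tt N112100 (iv5 F479491)) (tt N108153 F464617) (tt N116617 (iv7 F500993)))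
theorem Q108948 : ∀ i, i < 108948 → P i := stepQ 108947 Q108947 (allL N108947 (tt N74641 (iv1 D212174)) (tt N118413 (iv0 F510219)) (tt N116617 (iv2 F500991)) (tt N107840 (iv3 F464619)) (tt N117918 (iv4 F507592)) (tt N96169 (iv5 F464620)) (tt N109623 (iv6 F467792)) (tt N108156 F464618))
theorem Q108949 : ∀ i, i < 108949 → P i := stepQ 108948 Q108948 (allL N108948 (tt N121761 D225020) (tt N116596 (iv0 F500910)) (tt N111806 F478070) (tt N118284 (iv3 F509511)) (tt N74641 (iv4 D212175)) (tt N99069 F464621) (tt N116538 (iv6 F500671)) (tt N117863 (iv7 F507335)))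
theorem Q108950 : ∀ i, i < 108950 → P i := stepQ 108949 Q108949 (allL N108949 (tt N91511 (iv1 F464626)) (tt N80408 (iv0 F464625)) (tt N81280 F464622) (tt N74643 F464623) (tt N116538 (iv4 F500670)) (tt N91974 F464624) (tt N74641 (iv6 D212176)) (tt N117607 (iv7 F505973)))
theorem Q108951 : ∀ i, i < 108951 → P i := stepQ 108950 Q108950 (allL N108950 (tt N106104 F464627) (tt N119320 (iv0 F515002)) (tt N117669 (iv2 F506320)) (tt N74642 (iv3 D212177)) (tt N118284 (iv4 F509512)) (tt N111580 F477000) (tt N106100 F464632) (tt N118416 (iv7 F510235)))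
theorem Q108952 : ∀ i, i < 108952 → P i := stepQ 108951 Q108951 (allL N108951 (tt N91365 F464630) (tt N119238 (iv0 F514551)) (tt N103151 F464628) (tt N106100 (iv3 F464631)) (tt N74643 F464629) (tt N115960 (iv5 F497779)) (tt N74642 (iv6 D212178)) (tt N119366 (iv7 F515242)))
theorem Q108953 : ∀ i, i < 108953 → P i := stepQ 108952 Q108952 (allL N108952 (tt N74643 (iv1 D212179)) (tt N108127 F464633) (tt N99481 F464637) (tt N94699 F464638) (tt N121697 (iv4 F527807)) (tt N94698 (iv5 F464635)) (tt N99480 (iv6 F464636)) (tt N94999 F464634))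
theorem Q108954 : ∀ i, i < 108954 → P i := stepQ 108953 Q108953 (allL N108953 (tt N99481 (iv1 F464642)) (tt N94999 F464643) (tt N108127 F464639) (tt N117607 (iv3 F505976)) (tt N119366 (iv4 F515240)) (tt N108670 F464640) (tt N105446 F464641) (tt N74643 (iv7 D212180)))
theorem Q108955 : ∀ i, i < 108955 → P i := stepQ 108954 Q108954 (allL N108954 (tt N88470 F464647) (tt N88467 F464648) (tt N112857 (iv2 F482995)) (tt N97594 F464644) (tt N102140 F464645) (tt N117709 (iv5 F506553)) (tt N74645 (iv6 D212181)) (tt N102177 F464646))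
theorem Q108956 : ∀ i, i < 108956 → P i := stepQ 108955 Q108955 (allL N108955 (tt N117107 (iv1 F503430)) (tt N96175 (iv0 F464653)) (tt N109479 (iv2 F467180)) (tt N74646 (iv3 D212182)) (tt N76075 F464649) (tt N93604 F464650) (tt N93413 F464651) (tt N93713 F464652))
theorem Q108957 : ∀ i, i < 108957 → P i := stepQ 108956 Q108956 (allL N108956 (tt N119078 F513671) (tt N119082 F513696) (tt N116989 (iv2 F502849)) (tt N74649 (iv3 D212183)) (tt N106067 F464654) (tt N93605 F464655) (tt N92902 F464656) (tt N118417 (iv7 F510240)))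
theorem Q108958 : ∀ i, i < 108958 → P i := stepQ 108957 Q108957 (allL N108957 (tt N74652 (iv1 D212184)) (tt N79573 F464657) (tt N97499 F464662) (tt N103452 (iv3 F464660)) (tt N111369 (iv4 F476037)) (tt N100684 F464659) (tt N80415 (iv6 F464661)) (tt N92056 F464658))
theorem Q108959 : ∀ i, i < 108959 → P i := stepQ 108958 Q108958 (allL N108958 (tt N86937 F464668) (tt N86936 (iv0 F464669)) (tt N82352 F464663) (tt N100797 F464664) (tt N84480 F464665) (tt N102103 F464666) (tt N74653 (iv6 D212185)) (tt N86938 F464667))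
theorem Q108960 : ∀ i, i < 108960 → P i := stepQ 108959 Q108959 (allL N108959 (tt N103436 F464675) (tt N111592 (iv0 F477061)) (tt N81762 F464670) (tt N74655 (iv3 D212186)) (tt N81769 F464671) (tt N96541 F464672) (tt N79538 F464673) (tt N80360 F464674))
theorem Q108961 : ∀ i, i < 108961 → P i := stepQ 108960 Q108960 (allL N108960 (tt N112117 (iv1 F479572)) (tt N96853 (iv0 F464680)) (tt N96820 F464676) (tt N74657 (iv3 D212187)) (tt N107890 F464677) (tt N90714 F464678) (tt N111714 F477624) (tt N106751 F464679))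
theorem Q108962 : ∀ i, i < 108962 → P i := stepQ 108961 Q108961 (allL N108961 (tt N115694 (iv1 F496357)) (tt N118112 (iv0 F508669)) (tt N118418 (iv2 F510243)) (tt N111714 (iv3 F477623)) (tt N74658 F464681) (tt N92526 F464682) (tt N74657 (iv6 D212188)) (tt N115377 (iv7 F494891)))
theorem Q108963 : ∀ i, i < 108963 → P i := stepQ 108962 Q108962 (allL N108962 (tt N74658 (iv1 D212189)) (tt N102395 F464683) (tt N82382 F464689) (tt N103245 (iv3 F464687)) (tt N103341 F464686) (tt N92185 F464685) (tt N82381 (iv6 F464688)) (tt N103413 F464684))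
theorem Q108964 : ∀ i, i < 108964 → P i := stepQ 108963 Q108963 (allL N108963 (tt N97696 F464694) (tt N102204 F464695) (tt N74662 F464690) (tt N119449 (iv3 F515678)) (tt N74661 (iv4 D212190)) (tt N95441 F464693) (tt N103293 F464691) (tt N102360 F464692))
theorem Q108965 : ∀ i, i < 108965 → P i := stepQ 108964 Q108964 (allL N108964 (tt N74671 (iv1 D212191)) (tt N120612 F521754) (tt N107766 (iv2 F464700)) (tt N91570 F464699) (tt N107165 (iv4 F464697)) (tt N121762 D225021) (tt N91568 (iv6 F464698)) (tt N107763 F464696))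
theorem Q108966 : ∀ i, i < 108966 → P i := stepQ 108965 Q108965 (allL N108965 (tt N121751 F528105) (tt N121763 D225022) (tt N111573 (iv2 F476977)) (tt N74675 F464703) (tt N81182 (iv4 F464705)) (tt N74671 (iv5 D212192)) (tt N81117 F464704) (tt N116038 (iv7 F498180)))
theorem Q108967 : ∀ i, i < 108967 → P i := stepQ 108966 Q108966 (allL N108966 (tt N107766 (iv1 F464707)) (tt N107763 F464708) (tt N120612 (iv2 F521749)) (tt N74676 F464706) (tt N112808 (iv4 F482705)) (tt N116038 (iv5 F498179)) (tt N117521 (iv6 F505492)) (tt N74671 (iv7 D212193)))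
theorem Q108968 : ∀ i, i < 108968 → P i := stepQ 108967 Q108967 (allL N108967 (tt N111560 (iv1 F476928)) (tt N74672 (iv0 D212194)) (tt N111559 F476919) (tt N107763 F464709) (tt N115901 (iv4 F497494)) (tt N121656 (iv5 F527574)) (tt N118829 (iv6 F512296)) (tt N91570 (iv7 F464710)))
theorem Q108969 : ∀ i, i < 108969 → P i := stepQ 108968 Q108968 (allL N108968 (tt N87318 F464714) (tt N115900 F497488) (tt N115622 (iv2 F496013)) (tt N81117 F464711) (tt N84611 (iv4 F464713)) (tt N74672 (iv5 D212196)) (tt N74675 F464712) (tt N111561 (iv7 F476931)))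
theorem Q108970 : ∀ i, i < 108970 → P i := stepQ 108969 Q108969 (allL N108969 (tt N119759 F517277) (tt N98077 (iv0 F464715)) (tt N117922 (iv2 F507609)) (tt N118296 F509572) (tt N112193 F479996) (tt N121764 D225023) (tt N74682 (iv6 D212197)) (tt N120723 (iv7 F522359)))
theorem Q108971 : ∀ i, i < 108971 → P i := stepQ 108970 Q108970 (allL N108970 (tt N100095 F464716) (tt N94461 F464717) (tt N121551 (iv2 F526992)) (tt N120610 (iv3 F521742)) (tt N115050 (iv4 F493229)) (tt N74683 (iv5 D212198)) (tt N121764 (iv6 F528173)) (tt N121571 (iv7 F527092)))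
theorem Q108972 : ∀ i, i < 108972 → P i := stepQ 108971 Q108971 (allL N108971 (tt N115494 (iv1 F495486)) (tt N111790 (iv0 F477989)) (tt N115495 (iv2 F495492)) (tt N74684 (iv3 D212199)) (tt N74693 F464718) (tt N96752 F464719) (tt N115500 (iv6 F495515)) (tt N108320 F464720))
theorem Q108973 : ∀ i, i < 108973 → P i := stepQ 108972 Q108972 (allL N108972 (tt N75922 F464724) (tt N96761 (iv0 F464725)) (tt N108334 F464721) (tt N115500 (iv3 F495512)) (tt N74685 F464722) (tt N111750 (iv5 F477782)) (tt N74684 (iv6 D212200)) (tt N108335 F464723))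
theorem Q108974 : ∀ i, i < 108974 → P i := stepQ 108973 Q108973 (allL N108973 (tt N111550 (iv1 F476877)) (tt N74689 (iv0 D212201)) (tt N120025 F518626) (tt N118369 F509971) (tt N117105 (iv4 F503416)) (tt N110471 F471736) (tt N91614 F464726) (tt N110470 (iv7 F471737)))
theorem Q108975 : ∀ i, i < 108975 → P i := stepQ 108974 Q108974 (allL N108974 (tt N74689 (iv1 D212202)) (tt N111550 (iv0 F476876)) (tt N110470 (iv2 F471727)) (tt N120023 F518613) (tt N108504 F464730) (tt N109347 (iv5 F466505)) (tt N109273 (iv6 F466121)) (tt N120025 (iv7 F518628)))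
theorem Q108976 : ∀ i, i < 108976 → P i := stepQ 108975 Q108975 (allL N108975 (tt N91658 F464729) (tt N96641 (iv0 F464732)) (tt N120026 (iv2 F518629)) (tt N93547 F464727) (tt N94866 (iv4 F464731)) (tt N74689 (iv5 D212203)) (tt N74691 F464728) (tt N96718 (iv7 F464733)))
theorem Q108977 : ∀ i, i < 108977 → P i := stepQ 108976 Q108976 (allL N108976 (tt N110470 F471730) (tt N120025 F518627) (tt N111550 (iv2 F476873)) (tt N93548 F464734) (tt N114132 (iv4 F488676)) (tt N96718 F464735) (tt N111560 (iv6 F476926)) (tt N74689 (iv7 D212204)))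
theorem Q108978 : ∀ i, i < 108978 → P i := stepQ 108977 Q108977 (allL N108977 (tt N111552 (iv1 F476885)) (tt N81113 (iv0 F464740)) (tt N111549 F476867) (tt N74690 (iv3 D212205)) (tt N108682 F464736) (tt N86074 F464737) (tt N89591 F464738) (tt N81710 F464739))
theorem Q108979 : ∀ i, i < 108979 → P i := stepQ 108978 Q108978 (allL N108978 (tt N117522 (iv1 F505501)) (tt N74691 (iv0 D212206)) (tt N102996 (iv2 F464744)) (tt N121329 (iv3 F525798)) (tt N101426 F464742) (tt N102945 F464741) (tt N101425 (iv6 F464743)) (tt N119427 (iv7 F515559)))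
theorem Q108980 : ∀ i, i < 108980 → P i := stepQ 108979 Q108979 (allL N108979 (tt N74691 (iv1 D212207)) (tt N117522 (iv0 F505500)) (tt N119427 (iv2 F515555)) (tt N96606 F464748) (tt N117531 (iv4 F505550)) (tt N101851 F464746) (tt N96601 (iv6 F464747)) (tt N102996 F464745))
theorem Q108981 : ∀ i, i < 108981 → P i := stepQ 108980 Q108980 (allL N108980 (tt N119427 F515561) (tt N102996 (iv0 F464751)) (tt N117522 (iv2 F505496)) (tt N95725 F464749) (tt N110183 (iv4 F470308)) (tt N74692 F464750) (tt N110449 F471631) (tt N74691 (iv7 D212208)))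
theorem Q108982 : ∀ i, i < 108982 → P i := stepQ 108981 Q108981 (allL N108981 (tt N98382 (iv1 F464757)) (tt N98314 F464758) (tt N108340 F464752) (tt N74701 F464753) (tt N105048 F464754) (tt N99557 F464755) (tt N74699 (iv6 D212209)) (tt N94433 F464756))
theorem Q108983 : ∀ i, i < 108983 → P i := stepQ 108982 Q108982 (allL N108982 (tt N89983 F464763) (tt N110643 (iv0 F472561)) (tt N107772 F464759) (tt N74702 (iv3 D212210)) (tt N110662 (iv4 F472651)) (tt N108313 F464760) (tt N99347 F464761) (tt N107925 F464762))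
theorem Q108984 : ∀ i, i < 108984 → P i := stepQ 108983 Q108983 (allL N108983 (tt N118347 F509834) (tt N118341 (iv0 F509799)) (tt N119063 (iv2 F513580)) (tt N74705 F464764) (tt N118155 (iv4 F508905)) (tt N119062 (iv5 F513576)) (tt N74703 (iv6 D212211)) (tt N110948 (iv7 F473921)))
theorem Q108985 : ∀ i, i < 108985 → P i := stepQ 108984 Q108984 (allL N108984 (tt N74705 (iv1 D212212)) (tt N94435 F464765) (tt N81731 F464770) (tt N118415 F510230) (tt N80353 F464767) (tt N91750 F464768) (tt N77132 (iv6 F464769)) (tt N106946 F464766))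
theorem Q108986 : ∀ i, i < 108986 → P i := stepQ 108985 Q108985 (allL N108985 (tt N108297 F464774) (tt N120071 (iv0 F518894)) (tt N78342 F464771) (tt N119062 F513578) (tt N76919 F464773) (tt N74705 (iv5 D212213)) (tt N76921 F464772) (tt N110949 (iv7 F473924)))
theorem Q108987 : ∀ i, i < 108987 → P i := stepQ 108986 Q108986 (allL N108986 (tt N112173 (iv1 F479891)) (tt N112171 (iv0 F479880)) (tt N89484 (iv2 F464778)) (tt N74707 (iv3 D212214)) (tt N89013 F464775) (tt N81245 F464776) (tt N109336 (iv6 F466442)) (tt N81244 F464777))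
theorem Q108988 : ∀ i, i < 108988 → P i := stepQ 108987 Q108987 (allL N108987 (tt N108024 (iv1 F464781)) (tt N74716 (iv0 D212215)) (tt N94234 F464783) (tt N97328 F464779) (tt N99371 F464780) (tt N118593 (iv5 F511059)) (tt N94186 (iv6 F464782)) (tt N117777 (iv7 F506918)))
theorem Q108989 : ∀ i, i < 108989 → P i := stepQ 108988 Q108988 (allL N108988 (tt N74716 (iv1 D212216)) (tt N108024 (iv0 F464792)) (tt N117777 F506916) (tt N108038 F464790) (tt N106039 (iv4 F464789)) (tt N119952 (iv5 F518217)) (tt N99206 F464791) (tt N94234 F464788))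
theorem Q108990 : ∀ i, i < 108990 → P i := stepQ 108989 Q108989 (allL N108989 (tt N94234 (iv1 F464794)) (tt N117777 F506917) (tt N74716 (iv2 D212217)) (tt N117847 (iv3 F507243)) (tt N118946 (iv4 F512903)) (tt N113281 F484845) (tt N117831 (iv6 F507173)) (tt N108024 F464793))
theorem Q108991 : ∀ i, i < 108991 → P i := stepQ 108990 Q108990 (allL N108990 (tt N120160 F519352) (tt N121765 D225024) (tt N113281 (iv2 F484843)) (tt N74717 F464795) (tt N89017 (iv4 F464796)) (tt N74716 (iv5 D212218)) (tt N89016 (iv6 F464797)) (tt N117778 (iv7 F506921)))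
theorem Q108992 : ∀ i, i < 108992 → P i := stepQ 108991 Q108991 (allL N108991 (tt N102744 (iv1 F464804)) (tt N92416 F464803) (tt N92523 F464798) (tt N74719 F464799) (tt N78368 F464800) (tt N74718 (iv5 D212219)) (tt N92494 F464801) (tt N106960 F464802))
theorem Q108993 : ∀ i, i < 108993 → P i := stepQ 108992 Q108992 (allL N108992 (tt N89369 F464808) (tt N117510 (iv0 F505425)) (tt N74727 F464805) (tt N92494 F464806) (tt N116660 (iv4 F501183)) (tt N90970 F464807) (tt N74719 (iv6 D212220)) (tt N116448 (iv7 F500172)))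
theorem Q108994 : ∀ i, i < 108994 → P i := stepQ 108993 Q108993 (allL N108993 (tt N121729 (iv1 F527998)) (tt N117126 (iv0 F503523)) (tt N109344 (iv2 F466486)) (tt N110432 (iv3 F471559)) (tt N74721 (iv4 D212221)) (tt N79612 F464809) (tt N109343 F466485) (tt N93587 F464810))
theorem Q108995 : ∀ i, i < 108995 → P i := stepQ 108994 Q108994 (allL N108994 (tt N95082 (iv1 F464816)) (tt N95076 (iv0 F464817)) (tt N107863 F464811) (tt N74724 (iv3 D212222)) (tt N93424 F464815) (tt N107718 F464812) (tt N93423 F464813) (tt N93705 F464814))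
theorem Q108996 : ∀ i, i < 108996 → P i := stepQ 108995 Q108995 (allL N108995 (tt N118480 (iv1 F510601)) (tt N120002 F518496) (tt N101794 F464818) (tt N108091 F464821) (tt N74724 (iv4 D212223)) (tt N79606 F464819) (tt N101792 F464820) (tt N118345 (iv7 F509820)))
theorem Q108997 : ∀ i, i < 108997 → P i := stepQ 108996 Q108996 (allL N108996 (tt N116661 F501191) (tt N96441 (iv0 F464825)) (tt N116660 F501184) (tt N82011 F464822) (tt N74727 F464823) (tt N91836 F464824) (tt N74726 (iv6 D212224)) (tt N111992 (iv7 F478996)))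
theorem Q108998 : ∀ i, i < 108998 → P i := stepQ 108997 Q108997 (allL N108997 (tt N116448 (iv1 F500174)) (tt N74727 (iv0 D212225)) (tt N89369 (iv2 F464828)) (tt N118319 (iv3 F509683)) (tt N91842 F464826) (tt N89360 F464827) (tt N120722 (iv6 F522351)) (tt N117510 (iv7 F505424)))
theorem Q108999 : ∀ i, i < 108999 → P i := stepQ 108998 Q108998 (allL N108998 (tt N74727 (iv1 D212226)) (tt N116448 (iv0 F500173)) (tt N117510 (iv2 F505421)) (tt N76049 (iv3 F464830)) (tt N109353 (iv4 F466529)) (tt N89264 (iv5 F464831)) (tt N76047 (iv6 F464832)) (tt N89369 F464829))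
theorem Q109000 : ∀ i, i < 109000 → P i := stepQ 108999 Q108999 (allL N108999 (tt N90966 F464839) (tt N89277 F464838) (tt N90970 F464833) (tt N104725 F464834) (tt N91833 F464836) (tt N74727 (iv5 D212227)) (tt N74730 F464835) (tt N90969 F464837))
theorem Q109001 : ∀ i, i < 109001 → P i := stepQ 109000 Q109000 (allL N109000 (tt N117510 (iv1 F505426)) (tt N89369 (iv0 F464842)) (tt N116448 (iv2 F500170)) (tt N104673 F464840) (tt N111992 (iv4 F478997)) (tt N90969 F464841) (tt N119841 (iv6 F517644)) (tt N74727 (iv7 D212228)))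
theorem Q109002 : ∀ i, i < 109002 → P i := stepQ 109001 Q109001 (allL N109001 (tt N99460 (iv1 F464848)) (tt N107931 (iv0 F464846)) (tt N96887 (iv2 F464847)) (tt N74733 (iv3 D212229)) (tt N95374 F464845) (tt N109002 (iv5 F464851)) (tt N81689 F464843) (tt N95373 F464844))
theorem Q109003 : ∀ i, i < 109003 → P i := stepQ 109002 Q109002 (allL N109002 (tt N107211 F464854) (tt N107167 F464855) (tt N107519 F464849) (tt N74734 (iv3 D212230)) (tt N94924 F464850) (tt N109001 F464851) (tt N94469 F464852) (tt N107924 F464853))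
theorem Q109004 : ∀ i, i < 109004 → P i := stepQ 109003 Q109003 (allL N109003 (tt N76205 (iv1 F464862)) (tt N76202 F464861) (tt N74737 (iv2 D212231)) (tt N80352 F464856) (tt N106389 F464857) (tt N95613 F464858) (tt N80349 F464859) (tt N99458 F464860))
theorem Q109005 : ∀ i, i < 109005 → P i := stepQ 109004 Q109004 (allL N109004 (tt N75203 (iv1 F464865)) (tt N74742 (iv0 D212232)) (tt N75202 F464867) (tt N82097 F464864) (tt N109023 (iv4 F464980)) (tt N89724 F464863) (tt N78553 (iv6 F464866)) (tt N75201 F464868))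
theorem Q109006 : ∀ i, i < 109006 → P i := stepQ 109005 Q109005 (allL N109005 (tt N74742 (iv1 D212233)) (tt N75203 F464875) (tt N75201 F464873) (tt N81522 F464874) (tt N75756 F464871) (tt N97630 F464870) (tt N81435 (iv6 F464872)) (tt N75202 F464869))
theorem Q109007 : ∀ i, i < 109007 → P i := stepQ 109006 Q109006 (allL N109006 (tt N75202 (iv1 F464882)) (tt N75201 F464881) (tt N74742 (iv2 D212234)) (tt N75208 F464876) (tt N74745 F464877) (tt N79285 F464878) (tt N79438 F464879) (tt N75203 F464880))
theorem Q109008 : ∀ i, i < 109008 → P i := stepQ 109007 Q109007 (allL N109007 (tt N80537 F464887) (tt N78578 (iv0 F464888)) (tt N74746 F464883) (tt N79917 F464884) (tt N79438 F464885) (tt N112718 (iv5 F482334)) (tt N74745 (iv6 D212235)) (tt N80535 F464886))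
theorem Q109009 : ∀ i, i < 109009 → P i := stepQ 109008 Q109008 (allL N109008 (tt N80535 (iv1 F464893)) (tt N74746 (iv0 D212236)) (tt N80537 (iv2 F464892)) (tt N115569 (iv3 F495811)) (tt N80666 F464889) (tt N81148 F464890) (tt N80666 F464891) (tt N78578 F464894))
theorem Q109010 : ∀ i, i < 109010 → P i := stepQ 109009 Q109009 (allL N109009 (tt N99829 F464899) (tt N99199 F464900) (tt N74816 F464895) (tt N103155 F464896) (tt N78694 F464897) (tt N103154 F464898) (tt N74769 (iv6 D212237)) (tt N99830 F464901))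
theorem Q109011 : ∀ i, i < 109011 → P i := stepQ 109010 Q109010 (allL N109010 (tt N79922 F464907) (tt N108039 (iv0 F464908)) (tt N108338 F464902) (tt N79953 F464903) (tt N100646 F464904) (tt N100320 F464905) (tt N74779 (iv6 D212238)) (tt N108339 F464906))
theorem Q109012 : ∀ i, i < 109012 → P i := stepQ 109011 Q109011 (allL N109011 (tt N105096 F464914) (tt N96233 F464915) (tt N104218 F464909) (tt N87584 F464910) (tt N108329 F464911) (tt N79089 F464912) (tt N74788 (iv6 D212239)) (tt N76303 F464913))
theorem Q109013 : ∀ i, i < 109013 → P i := stepQ 109012 Q109012 (allL N109012 (tt N76319 F464921) (tt N76403 F464922) (tt N76402 F464916) (tt N108802 F464917) (tt N74790 (iv4 D212240)) (tt N108295 F464920) (tt N86535 F464918) (tt N76401 F464919))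
theorem Q109014 : ∀ i, i < 109014 → P i := stepQ 109013 Q109013 (allL N109013 (tt N111267 F475534) (tt N114074 F488462) (tt N98281 F464923) (tt N74798 F464924) (tt N105904 F464925) (tt N98744 F464926) (tt N74796 (iv6 D212241)) (tt N114070 (iv7 F488437)))
theorem Q109015 : ∀ i, i < 109015 → P i := stepQ 109014 Q109014 (allL N109014 (tt N104839 (iv1 F464931)) (tt N105840 F464932) (tt N83803 F464927) (tt N114070 (iv3 F488435)) (tt N83802 F464928) (tt N98748 F464929) (tt N108809 F464930) (tt N74798 (iv7 D212242)))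
theorem Q109016 : ∀ i, i < 109016 → P i := stepQ 109015 Q109015 (allL N109015 (tt N86413 (iv1 F464937)) (tt N108808 F464938) (tt N108809 F464933) (tt N86431 F464934) (tt N83804 F464935) (tt N113580 (iv5 F486125)) (tt N83803 F464936) (tt N74800 (iv7 D212243)))
theorem Q109017 : ∀ i, i < 109017 → P i := stepQ 109016 Q109016 (allL N109016 (tt N79076 F464943) (tt N109045 (iv0 F465086)) (tt N84713 F464939) (tt N74807 (iv3 D212244)) (tt N112314 (iv4 F480502)) (tt N98547 F464940) (tt N84710 F464941) (tt N100322 F464942))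
theorem Q109018 : ∀ i, i < 109018 → P i := stepQ 109017 Q109017 (allL N109017 (tt N100573 F464948) (tt N100572 (iv0 F464949)) (tt N99838 F464944) (tt N76270 F464945) (tt N74809 F464946) (tt N113487 (iv5 F485728)) (tt N74808 (iv6 D212245)) (tt N76267 F464947))
theorem Q109019 : ∀ i, i < 109019 → P i := stepQ 109018 Q109018 (allL N109018 (tt N104939 F464955) (tt N79959 (iv0 F464956)) (tt N95452 F464950) (tt N74812 F464951) (tt N79941 F464952) (tt N87895 F464953) (tt N74811 (iv6 D212246)) (tt N88240 F464954))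
theorem Q109020 : ∀ i, i < 109020 → P i := stepQ 109019 Q109019 (allL N109019 (tt N115768 (iv1 F496768)) (tt N115769 (iv0 F496774)) (tt N87479 F464957) (tt N103054 F464961) (tt N74814 (iv4 D212247)) (tt N103053 F464960) (tt N87536 F464958) (tt N87477 F464959))
theorem Q109021 : ∀ i, i < 109021 → P i := stepQ 109020 Q109020 (allL N109020 (tt N87357 F464966) (tt N111721 (iv0 F477661)) (tt N78371 F464962) (tt N87380 F464963) (tt N74834 (iv4 D212248)) (tt N109306 (iv5 F466307)) (tt N87500 F464964) (tt N78374 F464965))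
theorem Q109022 : ∀ i, i < 109022 → P i := stepQ 109021 Q109021 (allL N109021 (tt N77183 F464971) (tt N77447 (iv0 F464972)) (tt N74836 F464967) (tt N109459 (iv3 F467069)) (tt N87962 F464968) (tt N94628 F464969) (tt N74835 (iv6 D212249)) (tt N77446 F464970))
theorem Q109023 : ∀ i, i < 109023 → P i := stepQ 109022 Q109022 (allL N109022 (tt N75768 (iv1 F464978)) (tt N78373 F464977) (tt N74837 (iv2 D212250)) (tt N109460 F467079) (tt N74974 F464973) (tt N99842 F464974) (tt N75224 F464975) (tt N77444 F464976))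
theorem Q109024 : ∀ i, i < 109024 → P i := stepQ 109023 Q109023 (allL N109023 (tt N109460 (iv1 F467075)) (tt N74838 (iv0 D212251)) (tt N80671 (iv2 F464982)) (tt N75277 F464981) (tt N109004 F464980) (tt N75274 F464979) (tt N79274 F464983) (tt N109233 (iv7 F465900)))
theorem Q109025 : ∀ i, i < 109025 → P i := stepQ 109024 Q109024 (allL N109024 (tt N119503 (iv1 F515947)) (tt N74839 (iv0 D212252)) (tt N119502 F515941) (tt N92630 F464984) (tt N120689 (iv4 F522162)) (tt N78950 F465461) (tt N103886 (iv6 F465462)) (tt N117975 (iv7 F507874)))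
theorem Q109026 : ∀ i, i < 109026 → P i := stepQ 109025 Q109025 (allL N109025 (tt N74839 (iv1 D212253)) (tt N119503 F515948) (tt N117975 (iv2 F507872)) (tt N103748 (iv3 F464986)) (tt N120643 (iv4 F521920)) (tt N78951 F464985) (tt N120641 (iv6 F521912)) (tt N119502 (iv7 F515935)))
theorem Q109027 : ∀ i, i < 109027 → P i := stepQ 109026 Q109026 (allL N109026 (tt N119502 (iv1 F515940)) (tt N117975 (iv0 F507875)) (tt N74839 (iv2 D212254)) (tt N97806 F464987) (tt N109027 (iv4 F464992)) (tt N97806 F464988) (tt N97804 (iv6 F464989)) (tt N119503 (iv7 F515946)))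
theorem Q109028 : ∀ i, i < 109028 → P i := stepQ 109027 Q109027 (allL N109027 (tt N109105 (iv1 F465364)) (tt N109104 F465359) (tt N97804 F464990) (tt N74840 F464991) (tt N109026 F464992) (tt N109118 (iv5 F465418)) (tt N74839 (iv6 D212255)) (tt N109106 (iv7 F465363)))
theorem Q109029 : ∀ i, i < 109029 → P i := stepQ 109028 Q109028 (allL N109028 (tt N74840 (iv1 D212256)) (tt N97807 F464993) (tt N109126 (iv2 F465451)) (tt N107067 (iv3 F464995)) (tt N92625 F464994) (tt N119160 (iv5 F514114)) (tt N114053 (iv6 F488367)) (tt N109125 F465446))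
theorem Q109030 : ∀ i, i < 109030 → P i := stepQ 109029 Q109029 (allL N109029 (tt N103741 F464999) (tt N119184 (iv0 F514250)) (tt N96374 F464996) (tt N109118 (iv3 F465416)) (tt N96367 F464998) (tt N74840 (iv5 D212257)) (tt N96374 F464997) (tt N96381 (iv7 F465000)))
theorem Q109031 : ∀ i, i < 109031 → P i := stepQ 109030 Q109030 (allL N109030 (tt N109126 (iv1 F465447)) (tt N109125 F465443) (tt N97807 F465001) (tt N109106 (iv3 F465362)) (tt N74843 F465002) (tt N96381 F465003) (tt N104444 F465004) (tt N74840 (iv7 D212258)))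
theorem Q109032 : ∀ i, i < 109032 → P i := stepQ 109031 Q109031 (allL N109031 (tt N117940 (iv1 F507702)) (tt N97894 F465008) (tt N117941 F507705) (tt N95987 F465005) (tt N74841 (iv4 D212259)) (tt N95986 F465007) (tt N118422 (iv6 F510268)) (tt N96393 F465006))
theorem Q109033 : ∀ i, i < 109033 → P i := stepQ 109032 Q109032 (allL N109032 (tt N97894 F465013) (tt N117940 (iv0 F507701)) (tt N96393 F465009) (tt N103776 F465010) (tt N74842 (iv4 D212260)) (tt N96384 F465011) (tt N83629 F465012) (tt N117941 (iv7 F507707)))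
theorem Q109034 : ∀ i, i < 109034 → P i := stepQ 109033 Q109033 (allL N109033 (tt N106535 F465020) (tt N74973 (iv0 F465019)) (tt N106935 F465014) (tt N74859 (iv3 D212261)) (tt N91073 F465015) (tt N75545 F465016) (tt N105769 F465017) (tt N97978 F465018))
theorem Q109035 : ∀ i, i < 109035 → P i := stepQ 109034 Q109034 (allL N109034 (tt N109562 (iv1 F467538)) (tt N85849 (iv0 F465026)) (tt N98318 F465021) (tt N74861 (iv3 D212262)) (tt N76688 F465022) (tt N86780 F465023) (tt N74882 F465024) (tt N76283 F465025))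
theorem Q109036 : ∀ i, i < 109036 → P i := stepQ 109035 Q109035 (allL N109035 (tt N77673 F465030) (tt N77672 (iv0 F465031)) (tt N77674 F465027) (tt N114459 (iv3 F490281)) (tt N109063 (iv4 F465173)) (tt N104212 F465028) (tt N74862 (iv6 D212263)) (tt N76284 F465029))
theorem Q109037 : ∀ i, i < 109037 → P i := stepQ 109036 Q109036 (allL N109036 (tt N109084 (iv1 F465256)) (tt N109081 (iv0 F465252)) (tt N117927 (iv2 F507639)) (tt N113879 (iv3 F487593)) (tt N114565 (iv4 F490798)) (tt N98494 F465032) (tt N74863 (iv6 D212264)) (tt N114565 (iv7 F490797)))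
theorem Q109038 : ∀ i, i < 109038 → P i := stepQ 109037 Q109037 (allL N109037 (tt N109044 (iv1 F465080)) (tt N92565 F465037) (tt N75668 F465033) (tt N98728 F465034) (tt N92151 F465035) (tt N74869 (iv5 D212265)) (tt N98727 F465038) (tt N105787 F465036))
theorem Q109039 : ∀ i, i < 109039 → P i := stepQ 109038 Q109038 (allL N109038 (tt N75556 F465043) (tt N80485 (iv0 F465044)) (tt N75669 F465039) (tt N111945 (iv3 F478802)) (tt N74870 F465040) (tt N100787 F465041) (tt N74869 (iv6 D212266)) (tt N80486 F465042))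
theorem Q109040 : ∀ i, i < 109040 → P i := stepQ 109039 Q109039 (allL N109039 (tt N107621 F465048) (tt N99442 F465049) (tt N107619 F465045) (tt N121464 (iv3 F526517)) (tt N81915 F465047) (tt N74872 (iv5 D212267)) (tt N81913 (iv6 F465050)) (tt N107620 F465046))
theorem Q109041 : ∀ i, i < 109041 → P i := stepQ 109040 Q109040 (allL N109040 (tt N76294 (iv1 F465055)) (tt N76293 F465054) (tt N74873 (iv2 D212268)) (tt N86355 F465051) (tt N116384 (iv4 F499818)) (tt N88275 (iv5 F465056)) (tt N96295 F465052) (tt N76295 F465053))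
theorem Q109042 : ∀ i, i < 109042 → P i := stepQ 109041 Q109041 (allL N109041 (tt N88445 (iv1 F465063)) (tt N107499 F465061) (tt N88275 F465057) (tt N74874 F465058) (tt N84639 F465060) (tt N74873 (iv5 D212269)) (tt N102083 F465062) (tt N76296 F465059))
theorem Q109043 : ∀ i, i < 109043 → P i := stepQ 109042 Q109042 (allL N109042 (tt N106904 F465068) (tt N112915 (iv0 F483266)) (tt N113162 F484272) (tt N102083 F465064) (tt N85743 F465065) (tt N81913 F465066) (tt N74874 (iv6 D212270)) (tt N86779 F465067))
theorem Q109044 : ∀ i, i < 109044 → P i := stepQ 109043 Q109043 (allL N109043 (tt N92155 (iv1 F465074)) (tt N92156 (iv0 F465073)) (tt N106590 F465069) (tt N107006 F465070) (tt N74876 F465071) (tt N121766 D225025) (tt N74875 (iv6 D212271)) (tt N106536 F465072))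
theorem Q109045 : ∀ i, i < 109045 → P i := stepQ 109044 Q109044 (allL N109044 (tt N100022 (iv1 F465079)) (tt N109037 F465080) (tt N109415 F466853) (tt N81401 F465075) (tt N106536 F465076) (tt N74959 F465077) (tt N106535 F465078) (tt N74876 (iv7 D212272)))
theorem Q109046 : ∀ i, i < 109046 → P i := stepQ 109045 Q109045 (allL N109045 (tt N109016 F465086) (tt N109361 (iv0 F466574)) (tt N83839 F465081) (tt N80488 F465082) (tt N83829 F465083) (tt N74881 (iv5 D212273)) (tt N80487 F465084) (tt N83843 F465085))
theorem Q109047 : ∀ i, i < 109047 → P i := stepQ 109046 Q109046 (allL N109046 (tt N95964 F465091) (tt N118812 (iv0 F512202)) (tt N98317 F465087) (tt N76690 F465088) (tt N74882 (iv4 D212274)) (tt N113290 (iv5 F484870)) (tt N76688 F465089) (tt N98383 F465090))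
theorem Q109048 : ∀ i, i < 109048 → P i := stepQ 109047 Q109047 (allL N109047 (tt N114753 (iv1 F491679)) (tt N74887 (iv0 D212275)) (tt N100321 (iv2 F465094)) (tt N86197 F465093) (tt N121767 D225026) (tt N75527 F465092) (tt N114423 (iv6 F490081)) (tt N86192 F465095))
theorem Q109049 : ∀ i, i < 109049 → P i := stepQ 109048 Q109048 (allL N109048 (tt N74955 (iv1 F465097)) (tt N74888 (iv0 D212276)) (tt N74953 (iv2 F465098)) (tt N114309 (iv3 F489524)) (tt N114764 (iv4 F491740)) (tt N85542 F465096) (tt N114308 F489521) (tt N74954 (iv7 F465099)))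
theorem Q109050 : ∀ i, i < 109050 → P i := stepQ 109049 Q109049 (allL N109049 (tt N74888 (iv1 D212277)) (tt N74955 F465100) (tt N74954 (iv2 F465103)) (tt N120377 (iv3 F520458)) (tt N114765 (iv4 F491744)) (tt N85541 F465102) (tt N109682 F468082) (tt N74953 F465101))
theorem Q109051 : ∀ i, i < 109051 → P i := stepQ 109050 Q109050 (allL N109050 (tt N74962 (iv1 F465107)) (tt N74890 (iv0 D212278)) (tt N74960 (iv2 F465105)) (tt N112662 (iv3 F482061)) (tt N109790 (iv4 F468622)) (tt N99744 F465104) (tt N109362 F466583) (tt N74961 F465106))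
theorem Q109052 : ∀ i, i < 109052 → P i := stepQ 109051 Q109051 (allL N109051 (tt N74961 (iv1 F465112)) (tt N74960 F465113) (tt N74962 F465108) (tt N76272 F465109) (tt N115094 (iv4 F493455)) (tt N74891 F465110) (tt N105797 F465111) (tt N74890 (iv7 D212279)))
theorem Q109053 : ∀ i, i < 109053 → P i := stepQ 109052 Q109052 (allL N109052 (tt N92170 (iv1 F465119)) (tt N74893 (iv0 D212280)) (tt N85017 (iv2 F465118)) (tt N78919 F465116) (tt N105847 F465115) (tt N86818 F465114) (tt N85013 F465117) (tt N92169 F465120))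
theorem Q109054 : ∀ i, i < 109054 → P i := stepQ 109053 Q109053 (allL N109053 (tt N114440 F490183) (tt N114914 (iv0 F492507)) (tt N115016 F493067) (tt N74902 (iv3 D212281)) (tt N92566 F465121) (tt N114976 (iv5 F492867)) (tt N105879 F465122) (tt N102953 F465123))
theorem Q109055 : ∀ i, i < 109055 → P i := stepQ 109054 Q109054 (allL N109054 (tt N76284 F465129) (tt N77674 (iv0 F465130)) (tt N77673 F465124) (tt N98395 F465125) (tt N74941 F465126) (tt N91217 F465127) (tt N74906 (iv6 D212282)) (tt N77672 F465128))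
theorem Q109056 : ∀ i, i < 109056 → P i := stepQ 109055 Q109055 (allL N109055 (tt N118051 F508305) (tt N121201 F525111) (tt N104996 F465131) (tt N115166 (iv3 F493809)) (tt N86684 F465132) (tt N74908 (iv5 D212283)) (tt N86683 F465133) (tt N109731 (iv7 F468329)))
theorem Q109057 : ∀ i, i < 109057 → P i := stepQ 109056 Q109056 (allL N109056 (tt N75550 F465136) (tt N75530 (iv0 F465137)) (tt N75547 F465134) (tt N115331 (iv3 F494629)) (tt N74925 F465135) (tt N115226 (iv5 F494113)) (tt N74911 (iv6 D212284)) (tt N75548 (iv7 F465138)))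
theorem Q109058 : ∀ i, i < 109058 → P i := stepQ 109057 Q109057 (allL N109057 (tt N105776 F465143) (tt N94127 F465144) (tt N105777 F465139) (tt N93123 F465140) (tt N94009 F465141) (tt N74912 (iv5 D212285)) (tt N115226 (iv6 F494114)) (tt N105767 F465142))
theorem Q109059 : ∀ i, i < 109059 → P i := stepQ 109058 Q109058 (allL N109058 (tt N110346 (iv1 F471153)) (tt N102377 F465146) (tt N115342 (iv2 F494687)) (tt N117721 (iv3 F506617)) (tt N75376 F465145) (tt N74913 (iv5 D212286)) (tt N115335 (iv6 F494649)) (tt N110270 (iv7 F470752)))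
theorem Q109060 : ∀ i, i < 109060 → P i := stepQ 109059 Q109059 (allL N109059 (tt N102377 F465149) (tt N110346 (iv0 F471152)) (tt N110270 (iv2 F470750)) (tt N98255 F465147) (tt N76932 F465148) (tt N74914 (iv5 D212287)) (tt N76935 F465150) (tt N115342 (iv7 F494691)))
theorem Q109061 : ∀ i, i < 109061 → P i := stepQ 109060 Q109060 (allL N109060 (tt N105774 F465154) (tt N87578 (iv0 F465153)) (tt N118007 (iv2 F508058)) (tt N104912 F465151) (tt N118316 (iv4 F509666)) (tt N93144 F465152) (tt N74914 (iv6 D212288)) (tt N117988 (iv7 F507933)))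
theorem Q109062 : ∀ i, i < 109062 → P i := stepQ 109061 Q109061 (allL N109061 (tt N85555 F465160) (tt N85554 F465161) (tt N85553 F465155) (tt N100199 F465156) (tt N74916 (iv4 D212289)) (tt N75372 F465157) (tt N85538 F465158) (tt N82935 F465159))
theorem Q109063 : ∀ i, i < 109063 → P i := stepQ 109062 Q109062 (allL N109062 (tt N74921 (iv1 D212290)) (tt N92157 F465162) (tt N83663 F465167) (tt N97898 (iv3 F465165)) (tt N106014 F465164) (tt N85194 (iv5 F465166)) (tt N83661 (iv6 F465168)) (tt N92158 F465163))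
theorem Q109064 : ∀ i, i < 109064 → P i := stepQ 109063 Q109063 (allL N109063 (tt N74925 (iv1 D212291)) (tt N110524 F471980) (tt N110525 (iv2 F471981)) (tt N85885 F465172) (tt N109035 F465173) (tt N86541 (iv5 F465171)) (tt N86115 (iv6 F465170)) (tt N85881 F465169))
theorem Q109065 : ∀ i, i < 109065 → P i := stepQ 109064 Q109064 (allL N109064 (tt N110525 (iv1 F471987)) (tt N85881 (iv0 F465178)) (tt N110524 F471978) (tt N92964 F465174) (tt N75548 F465175) (tt N76391 F465176) (tt N76393 F465177) (tt N74925 (iv7 D212292)))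
theorem Q109066 : ∀ i, i < 109066 → P i := stepQ 109065 Q109065 (allL N109065 (tt N76361 F465183) (tt N76392 F465184) (tt N76394 F465179) (tt N77645 F465180) (tt N121098 (iv4 F524501)) (tt N74932 (iv5 D212293)) (tt N74933 F465181) (tt N76316 F465182))
theorem Q109067 : ∀ i, i < 109067 → P i := stepQ 109066 Q109066 (allL N109066 (tt N111946 (iv1 F478814)) (tt N110317 F471014) (tt N100767 F465186) (tt N83421 F465187) (tt N74933 (iv4 D212294)) (tt N110242 (iv5 F470595)) (tt N121098 (iv6 F524502)) (tt N76383 F465188))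
theorem Q109068 : ∀ i, i < 109068 → P i := stepQ 109067 Q109067 (allL N109067 (tt N76490 (iv1 F465192)) (tt N74935 (iv0 D212295)) (tt N76487 (iv2 F465191)) (tt N110090 (iv3 F469941)) (tt N80436 F465190) (tt N81373 F465189) (tt N80435 (iv6 F465194)) (tt N76488 F465193))
theorem Q109069 : ∀ i, i < 109069 → P i := stepQ 109068 Q109068 (allL N109068 (tt N80875 F465200) (tt N79913 (iv0 F465201)) (tt N81446 F465195) (tt N81342 F465196) (tt N74936 (iv4 D212296)) (tt N94170 F465199) (tt N76551 F465197) (tt N94056 F465198))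
theorem Q109070 : ∀ i, i < 109070 → P i := stepQ 109069 Q109069 (allL N109069 (tt N76620 F465206) (tt N79920 (iv0 F465207)) (tt N74940 F465202) (tt N91204 F465203) (tt N120021 (iv4 F518598)) (tt N91203 F465204) (tt N74937 (iv6 D212297)) (tt N79911 F465205))
theorem Q109071 : ∀ i, i < 109071 → P i := stepQ 109070 Q109070 (allL N109070 (tt N119170 (iv1 F514173)) (tt N98374 F465211) (tt N76669 F465208) (tt N100317 F465209) (tt N74939 (iv4 D212298)) (tt N105737 F465213) (tt N80865 (iv6 F465212)) (tt N76671 F465210))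
theorem Q109072 : ∀ i, i < 109072 → P i := stepQ 109071 Q109071 (allL N109071 (tt N83237 F465219) (tt N105889 (iv0 F465220)) (tt N76670 F465215) (tt N74941 F465216) (tt N80865 F465217) (tt N78294 F465218) (tt N74939 (iv6 D212299)) (tt N112030 (iv7 F479160)))
theorem Q109073 : ∀ i, i < 109073 → P i := stepQ 109072 Q109072 (allL N109072 (tt N109373 (iv1 F466640)) (tt N74941 (iv0 D212300)) (tt N109372 F466633) (tt N89624 (iv3 F465223)) (tt N75550 F465221) (tt N109700 (iv5 F468180)) (tt N85933 F465222) (tt N75546 (iv7 F465224)))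
theorem Q109074 : ∀ i, i < 109074 → P i := stepQ 109073 Q109073 (allL N109073 (tt N74941 (iv1 D212301)) (tt N109373 F466639) (tt N75546 F465226) (tt N105480 F465227) (tt N75530 F465228) (tt N109753 (iv5 F468453)) (tt N75529 (iv6 F465225)) (tt N109372 (iv7 F466634)))
theorem Q109075 : ∀ i, i < 109075 → P i := stepQ 109074 Q109074 (allL N109074 (tt N75546 (iv1 F465231)) (tt N109372 F466635) (tt N109373 (iv2 F466636)) (tt N112030 (iv3 F479156)) (tt N77672 F465229) (tt N94139 F465230) (tt N109371 (iv6 F466627)) (tt N74941 (iv7 D212302)))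
theorem Q109076 : ∀ i, i < 109076 → P i := stepQ 109075 Q109075 (allL N109075 (tt N98554 F465236) (tt N78852 F465237) (tt N98556 F465232) (tt N74947 F465233) (tt N119514 (iv4 F516006)) (tt N84186 F465234) (tt N74946 (iv6 D212303)) (tt N98555 F465235))
theorem Q109077 : ∀ i, i < 109077 → P i := stepQ 109076 Q109076 (allL N109076 (tt N79087 F465240) (tt N109679 (iv0 F468068)) (tt N109370 (iv2 F466617)) (tt N84186 F465238) (tt N109730 (iv4 F468323)) (tt N74947 (iv5 D212304)) (tt N74948 F465239) (tt N109665 (iv7 F468005)))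
theorem Q109078 : ∀ i, i < 109078 → P i := stepQ 109077 Q109077 (allL N109077 (tt N76275 (iv1 F465242)) (tt N76272 F465243) (tt N109371 (iv2 F466623)) (tt N98555 F465241) (tt N117727 (iv4 F506651)) (tt N109665 (iv5 F468004)) (tt N109373 (iv6 F466638)) (tt N74947 (iv7 D212305)))
theorem Q109079 : ∀ i, i < 109079 → P i := stepQ 109078 Q109078 (allL N109078 (tt N76184 (iv1 F465245)) (tt N74950 (iv0 D212306)) (tt N109684 (iv2 F468094)) (tt N105795 F465248) (tt N76277 F465244) (tt N105794 (iv5 F465247)) (tt N109683 (iv6 F468093)) (tt N100166 F465246))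
theorem Q109080 : ∀ i, i < 109080 → P i := stepQ 109079 Q109079 (allL N109079 (tt N85026 F465250) (tt N111326 (iv0 F475837)) (tt N114372 (iv2 F489852)) (tt N109861 (iv3 F468964)) (tt N106545 F468970) (tt N74950 (iv5 D212307)) (tt N75535 F465249) (tt N109712 (iv7 F468236)))
theorem Q109081 : ∀ i, i < 109081 → P i := stepQ 109080 Q109080 (allL N109080 (tt N105888 F486717) (tt N109858 F486718) (tt N114598 (iv2 F490941)) (tt N74953 (iv3 D212308)) (tt N121768 D225027) (tt N114336 (iv5 F489679)) (tt N114597 F490940) (tt N120377 (iv7 F520460)))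
theorem Q109082 : ∀ i, i < 109082 → P i := stepQ 109081 Q109081 (allL N109081 (tt N109036 F465252) (tt N119531 (iv0 F516097)) (tt N114764 (iv2 F491736)) (tt N121769 D225028) (tt N74953 (iv4 D212309)) (tt N84895 F465251) (tt N109714 (iv6 F468246)) (tt N114765 (iv7 F491746)))
theorem Q109083 : ∀ i, i < 109083 → P i := stepQ 109082 Q109082 (allL N109082 (tt N109716 F468259) (tt N109680 (iv0 F468073)) (tt N114308 (iv2 F489522)) (tt N114597 (iv3 F490938)) (tt N109714 F468245) (tt N104010 F465253) (tt N74953 (iv6 D212310)) (tt N114594 (iv7 F490927)))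
theorem Q109084 : ∀ i, i < 109084 → P i := stepQ 109083 Q109083 (allL N109083 (tt N114585 F490879) (tt N114601 F490958) (tt N113694 (iv2 F486673)) (tt N74954 (iv3 D212311)) (tt N80583 (iv4 F465254)) (tt N114337 (iv5 F489683)) (tt N86892 F468088) (tt N114309 (iv7 F489526)))
theorem Q109085 : ∀ i, i < 109085 → P i := stepQ 109084 Q109084 (allL N109084 (tt N119531 F516098) (tt N109036 F465256) (tt N114765 (iv2 F491742)) (tt N119576 F516340) (tt N74954 (iv4 D212312)) (tt N83826 F465255) (tt N114987 F492932) (tt N114764 (iv7 F491739)))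
theorem Q109086 : ∀ i, i < 109086 → P i := stepQ 109085 Q109085 (allL N109085 (tt N94141 F468184) (tt N109683 F468185) (tt N109682 (iv2 F468083)) (tt N86892 (iv3 F468086)) (tt N114987 (iv4 F492929)) (tt N86891 F468087) (tt N74954 (iv6 D212313)) (tt N109681 F468089))
theorem Q109087 : ∀ i, i < 109087 → P i := stepQ 109086 Q109086 (allL N109086 (tt N87463 F465262) (tt N92577 F465263) (tt N75955 F465257) (tt N87465 F465258) (tt N92562 F465259) (tt N74956 (iv5 D212314)) (tt N87773 F465260) (tt N92560 F465261))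
theorem Q109088 : ∀ i, i < 109088 → P i := stepQ 109087 Q109087 (allL N109087 (tt N106272 F465267) (tt N106360 F465268) (tt N109790 (iv2 F468620)) (tt N115735 (iv3 F496582)) (tt N74960 (iv4 D212315)) (tt N95510 F465264) (tt N100197 F465265) (tt N94152 F465266))
theorem Q109089 : ∀ i, i < 109089 → P i := stepQ 109088 Q109088 (allL N109088 (tt N105798 (iv1 F465274)) (tt N105790 F465275) (tt N105797 F465269) (tt N86743 F465270) (tt N85926 F465271) (tt N98754 F465272) (tt N74962 (iv6 D212316)) (tt N85923 F465273))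
theorem Q109090 : ∀ i, i < 109090 → P i := stepQ 109089 Q109089 (allL N109089 (tt N100214 (iv1 F465281)) (tt N76240 F465282) (tt N98501 F465276) (tt N76809 F465277) (tt N107634 F465278) (tt N105865 F465279) (tt N74967 (iv6 D212317)) (tt N76806 F465280))
theorem Q109091 : ∀ i, i < 109091 → P i := stepQ 109090 Q109090 (allL N109090 (tt N107020 F465287) (tt N107019 (iv0 F465288)) (tt N107009 F465283) (tt N74972 (iv3 D212318)) (tt N75064 F465284) (tt N120396 (iv5 F520562)) (tt N106537 F465285) (tt N107021 F465286))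
theorem Q109092 : ∀ i, i < 109092 → P i := stepQ 109091 Q109091 (allL N109091 (tt N74973 (iv1 D212319)) (tt N106535 F465289) (tt N97978 F465295) (tt N97536 (iv3 F465292)) (tt N91076 F465291) (tt N89622 (iv5 F465294)) (tt N85972 (iv6 F465293)) (tt N106935 F465290))
theorem Q109093 : ∀ i, i < 109093 → P i := stepQ 109092 Q109092 (allL N109092 (tt N97978 (iv1 F465299)) (tt N106935 F465300) (tt N106535 F465296) (tt N75069 F465297) (tt N105998 F465298) (tt N114339 (iv5 F489691)) (tt N109415 F466856) (tt N74973 (iv7 D212320)))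
theorem Q109094 : ∀ i, i < 109094 → P i := stepQ 109093 Q109093 (allL N109093 (tt N84221 F465304) (tt N79119 F465305) (tt N81701 F465301) (tt N98094 F465302) (tt N81700 F465303) (tt N120068 (iv5 F518874)) (tt N74980 (iv6 D212321)) (tt N117518 (iv7 F505477)))
theorem Q109095 : ∀ i, i < 109095 → P i := stepQ 109094 Q109094 (allL N109094 (tt N84264 F465310) (tt N111294 F475677) (tt N114781 (iv2 F491821)) (tt N74981 (iv3 D212322)) (tt N96758 F465306) (tt N86271 F465307) (tt N85570 F465308) (tt N84279 F465309))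
theorem Q109096 : ∀ i, i < 109096 → P i := stepQ 109095 Q109095 (allL N109095 (tt N100584 F465316) (tt N84038 (iv0 F465317)) (tt N78687 F465311) (tt N77543 F465312) (tt N74986 F465313) (tt N91908 F465314) (tt N74985 (iv6 D212323)) (tt N77563 F465315))
theorem Q109097 : ∀ i, i < 109097 → P i := stepQ 109096 Q109096 (allL N109096 (tt N101350 (iv1 F465323)) (tt N90816 (iv0 F465322)) (tt N101162 F465318) (tt N79116 F465319) (tt N119791 (iv4 F517433)) (tt N74991 (iv5 D212324)) (tt N101010 F465320) (tt N77665 F465321))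
theorem Q109098 : ∀ i, i < 109098 → P i := stepQ 109097 Q109097 (allL N109097 (tt N74993 (iv1 D212325)) (tt N75662 F465324) (tt N99957 (iv2 F465326)) (tt N110273 (iv3 F470769)) (tt N84232 F465325) (tt N112997 (iv5 F483488)) (tt N75036 (iv6 F465327)) (tt N110271 (iv7 F470758)))
theorem Q109099 : ∀ i, i < 109099 → P i := stepQ 109098 Q109098 (allL N109098 (tt N83484 F465331) (tt N109452 (iv0 F467029)) (tt N113500 F485795) (tt N97100 F465328) (tt N84080 F465330) (tt N74993 (iv5 D212326)) (tt N113008 (iv6 F485949)) (tt N84079 F465329))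
theorem Q109100 : ∀ i, i < 109100 → P i := stepQ 109099 Q109099 (allL N109099 (tt N99872 (iv1 F465337)) (tt N99948 (iv0 F465336)) (tt N84367 F465332) (tt N97091 F465333) (tt N74994 F465334) (tt N121770 D225029) (tt N74993 (iv6 D212327)) (tt N99878 F465335))
theorem Q109101 : ∀ i, i < 109101 → P i := stepQ 109100 Q109100 (allL N109100 (tt N79272 F465342) (tt N75220 F465343) (tt N119415 (iv2 F515496)) (tt N78375 F465338) (tt N75003 (iv4 D212328)) (tt N80177 F465341) (tt N78373 F465339) (tt N80192 F465340))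
theorem Q109102 : ∀ i, i < 109102 → P i := stepQ 109101 Q109101 (allL N109101 (tt N75220 F465347) (tt N79272 F465349) (tt N80192 F465344) (tt N80341 F465345) (tt N75004 (iv4 D212329)) (tt N80190 F465348) (tt N75198 F465346) (tt N119415 (iv7 F515500)))
theorem Q109103 : ∀ i, i < 109103 → P i := stepQ 109102 Q109102 (allL N109102 (tt N75760 F465354) (tt N75757 (iv0 F465355)) (tt N99543 F465350) (tt N100425 F465351) (tt N75017 (iv4 D212330)) (tt N119155 (iv5 F514084)) (tt N77136 F465352) (tt N108076 F465353))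
theorem Q109104 : ∀ i, i < 109104 → P i := stepQ 109103 Q109103 (allL N109103 (tt N117971 F507857) (tt N117978 F507892) (tt N117977 (iv2 F507887)) (tt N75021 (iv3 D212331)) (tt N92749 F465356) (tt N119529 (iv5 F516084)) (tt N113582 F486142) (tt N109143 (iv7 F465545)))
theorem Q109105 : ∀ i, i < 109105 → P i := stepQ 109104 Q109104 (allL N109104 (tt N109027 (iv1 F465359)) (tt N75022 (iv0 D212332)) (tt N119473 F515800) (tt N103682 F465358) (tt N104503 (iv4 F465360)) (tt N103675 F465357) (tt N103678 (iv6 F465361)) (tt N104752 F465373))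
theorem Q109106 : ∀ i, i < 109106 → P i := stepQ 109105 Q109105 (allL N109105 (tt N75022 (iv1 D212333)) (tt N109027 F465364) (tt N104752 (iv2 F465371)) (tt N121771 D225030) (tt N104743 (iv4 F465372)) (tt N104719 (iv5 F465369)) (tt N102570 F465370) (tt N119473 (iv7 F515798)))
theorem Q109107 : ∀ i, i < 109107 → P i := stepQ 109106 Q109106 (allL N109106 (tt N119473 (iv1 F515797)) (tt N104752 F508021) (tt N75022 (iv2 D212334)) (tt N109030 F465362) (tt N119503 (iv4 F515943)) (tt N119139 (iv5 F514000)) (tt N116008 F498026) (tt N109027 F465363))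
theorem Q109108 : ∀ i, i < 109108 → P i := stepQ 109107 Q109107 (allL N109107 (tt N121624 (iv1 F527403)) (tt N98691 (iv0 F465367)) (tt N119139 (iv2 F513998)) (tt N75023 F465365) (tt N83942 F465366) (tt N75022 (iv5 D212335)) (tt N83941 (iv6 F465368)) (tt N119474 (iv7 F515804)))
theorem Q109109 : ∀ i, i < 109109 → P i := stepQ 109108 Q109108 (allL N109108 (tt N113760 (iv1 F486998)) (tt N106984 (iv0 F465377)) (tt N109200 (iv2 F465766)) (tt N95509 F465374) (tt N119511 (iv4 F515990)) (tt N95508 F465375) (tt N75024 (iv6 D212336)) (tt N106474 F465376))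
theorem Q109110 : ∀ i, i < 109110 → P i := stepQ 109109 Q109109 (allL N109109 (tt N109454 (iv1 F467041)) (tt N96548 F465381) (tt N75029 F465378) (tt N83939 F465379) (tt N118949 (iv4 F512925)) (tt N75028 (iv5 D212337)) (tt N88977 F465382) (tt N83938 F465380))
theorem Q109111 : ∀ i, i < 109111 → P i := stepQ 109110 Q109110 (allL N109110 (tt N120115 (iv1 F519127)) (tt N120114 F519124) (tt N75030 F465383) (tt N84358 F465384) (tt N103754 F465385) (tt N89794 (iv5 F465387)) (tt N75028 (iv6 D212338)) (tt N84354 F465386))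
theorem Q109112 : ∀ i, i < 109112 → P i := stepQ 109111 Q109111 (allL N109111 (tt N75029 (iv1 D212339)) (tt N83938 F465388) (tt N96548 (iv2 F465391)) (tt N121767 (iv3 F528192)) (tt N96547 F465390) (tt N75107 F465389) (tt N121188 F525032) (tt N109454 (iv7 F467039)))
theorem Q109113 : ∀ i, i < 109113 → P i := stepQ 109112 Q109112 (allL N109112 (tt N88976 (iv1 F465395)) (tt N88975 F465397) (tt N88977 F465392) (tt N75034 F465393) (tt N119131 (iv4 F513953)) (tt N76663 (iv5 F465396)) (tt N75029 (iv6 D212340)) (tt N88971 F465394))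
theorem Q109114 : ∀ i, i < 109114 → P i := stepQ 109113 Q109113 (allL N109113 (tt N84354 (iv1 F465400)) (tt N75030 (iv0 D212341)) (tt N120115 (iv2 F519133)) (tt N110262 (iv3 F470701)) (tt N94578 F465398) (tt N120955 (iv5 F523681)) (tt N94577 F465399) (tt N120114 F519126))
theorem Q109115 : ∀ i, i < 109115 → P i := stepQ 109114 Q109114 (allL N109114 (tt N75030 (iv1 D212342)) (tt N84354 F465401) (tt N120114 F519125) (tt N113029 (iv3 F483615)) (tt N103888 F465402) (tt N120948 (iv5 F523641)) (tt N97099 (iv6 F465403)) (tt N120115 (iv7 F519128)))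
theorem Q109116 : ∀ i, i < 109116 → P i := stepQ 109115 Q109115 (allL N109115 (tt N89793 F465408) (tt N89792 F465410) (tt N89794 F465404) (tt N75037 F465405) (tt N76664 (iv4 F465409)) (tt N75030 (iv5 D212343)) (tt N76663 F465406) (tt N89790 F465407))
theorem Q109117 : ∀ i, i < 109117 → P i := stepQ 109116 Q109116 (allL N109116 (tt N99883 F465413) (tt N94832 (iv0 F465414)) (tt N105283 F465415) (tt N75031 (iv3 D212344)) (tt N118932 (iv4 F512816)) (tt N75102 F465411) (tt N119565 (iv6 F516285)) (tt N105281 F465412))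
theorem Q109118 : ∀ i, i < 109118 → P i := stepQ 109117 Q109117 (allL N109117 (tt N118011 F508078) (tt N118010 F508071) (tt N109451 (iv2 F467022)) (tt N119565 (iv3 F516283)) (tt N111225 F475306) (tt N113501 (iv5 F485800)) (tt N75031 (iv6 D212345)) (tt N118012 (iv7 F508082)))
theorem Q109119 : ∀ i, i < 109119 → P i := stepQ 109118 Q109118 (allL N109118 (tt N98691 F465419) (tt N121624 (iv0 F527402)) (tt N119474 (iv2 F515801)) (tt N109029 F465416) (tt N75034 F465417) (tt N109027 F465418) (tt N75033 (iv6 D212346)) (tt N119139 (iv7 F514001)))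
theorem Q109120 : ∀ i, i < 109120 → P i := stepQ 109119 Q109119 (allL N109119 (tt N83942 (iv1 F465434)) (tt N75034 (iv0 D212347)) (tt N113113 (iv2 F484028)) (tt N107778 F484029) (tt N120891 (iv4 F523317)) (tt N120959 (iv5 F523708)) (tt N120890 F523315) (tt N120057 (iv7 F518813)))
theorem Q109121 : ∀ i, i < 109121 → P i := stepQ 109120 Q109120 (allL N109120 (tt N75034 (iv1 D212348)) (tt N83942 F465420) (tt N120057 (iv2 F518816)) (tt N107830 F465422) (tt N120682 (iv4 F522120)) (tt N107829 (iv5 F465421)) (tt N121218 (iv6 F525194)) (tt N113113 (iv7 F484025)))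
theorem Q109122 : ∀ i, i < 109122 → P i := stepQ 109121 Q109121 (allL N109121 (tt N89775 (iv1 F465429)) (tt N89774 (iv0 F465428)) (tt N89776 F465423) (tt N76663 F465424) (tt N98390 F465425) (tt N75034 (iv5 D212349)) (tt N75037 F465426) (tt N89772 F465427))
theorem Q109123 : ∀ i, i < 109123 → P i := stepQ 109122 Q109122 (allL N109122 (tt N120057 (iv1 F518812)) (tt N113113 (iv0 F484026)) (tt N83942 F465430) (tt N88971 F465431) (tt N119139 (iv4 F513999)) (tt N89772 F465432) (tt N83940 F465433) (tt N75034 (iv7 D212350)))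
theorem Q109124 : ∀ i, i < 109124 → P i := stepQ 109123 Q109123 (allL N109123 (tt N110268 (iv1 F470742)) (tt N84472 (iv0 F465437)) (tt N110275 (iv2 F470780)) (tt N75036 (iv3 D212351)) (tt N75307 F465435) (tt N120546 (iv5 F521373)) (tt N110273 (iv6 F470772)) (tt N75425 F465436))
theorem Q109125 : ∀ i, i < 109125 → P i := stepQ 109124 Q109124 (allL N109124 (tt N100501 F465438) (tt N100502 (iv0 F465441)) (tt N109844 (iv2 F468866)) (tt N120546 (iv3 F521371)) (tt N98071 F465439) (tt N75036 (iv5 D212352)) (tt N104071 F465440) (tt N109845 (iv7 F468876)))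
theorem Q109126 : ∀ i, i < 109126 → P i := stepQ 109125 Q109125 (allL N109125 (tt N109030 (iv1 F465443)) (tt N75038 (iv0 D212353)) (tt N103876 (iv2 F465445)) (tt N121441 (iv3 F526393)) (tt N97895 F465444) (tt N118205 (iv5 F509135)) (tt N103874 F465442) (tt N109028 (iv7 F465446)))
theorem Q109127 : ∀ i, i < 109127 → P i := stepQ 109126 Q109126 (allL N109126 (tt N75038 (iv1 D212354)) (tt N109030 F465447) (tt N109028 F465451) (tt N102469 (iv3 F465450)) (tt N97896 F465449) (tt N118749 (iv5 F511873)) (tt N102467 F465452) (tt N103876 F465448))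
theorem Q109128 : ∀ i, i < 109128 → P i := stepQ 109127 Q109127 (allL N109127 (tt N105945 (iv1 F465456)) (tt N75039 (iv0 D212355)) (tt N119472 (iv2 F515790)) (tt N117706 (iv3 F506535)) (tt N75067 F465454) (tt N75724 F465453) (tt N102512 F465455) (tt N118001 (iv7 F508016)))
theorem Q109129 : ∀ i, i < 109129 → P i := stepQ 109128 Q109128 (allL N109128 (tt N75039 (iv1 D212356)) (tt N105945 F465457) (tt N118001 (iv2 F508013)) (tt N112729 (iv3 F482394)) (tt N75068 (iv4 F465458)) (tt N75725 (iv5 F465459)) (tt N91040 F465460) (tt N119472 (iv7 F515793)))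
theorem Q109130 : ∀ i, i < 109130 → P i := stepQ 109129 Q109129 (allL N109129 (tt N105939 F465469) (tt N97798 F465468) (tt N104635 F465463) (tt N102563 F465464) (tt N75040 (iv4 D212357)) (tt N104641 F465467) (tt N102542 F465465) (tt N104709 F465466))
theorem Q109131 : ∀ i, i < 109131 → P i := stepQ 109130 Q109130 (allL N109130 (tt N97542 F465474) (tt N97545 (iv0 F465473)) (tt N105324 F465470) (tt N75041 (iv3 D212358)) (tt N117704 (iv4 F506523)) (tt N85858 F465471) (tt N83617 (iv6 F465472)) (tt N119508 (iv7 F515976)))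
theorem Q109132 : ∀ i, i < 109132 → P i := stepQ 109131 Q109131 (allL N109131 (tt N97798 (iv1 F465480)) (tt N105939 F465478) (tt N104709 F465475) (tt N92612 (iv3 F465479)) (tt N75041 (iv4 D212359)) (tt N103642 F465477) (tt N104707 (iv6 F465481)) (tt N104635 F465476))
theorem Q109133 : ∀ i, i < 109133 → P i := stepQ 109132 Q109132 (allL N109132 (tt N98738 F465487) (tt N98742 (iv0 F465488)) (tt N98732 F465483) (tt N83617 F465484) (tt N104707 F465485) (tt N112941 (iv5 F483320)) (tt N75041 (iv6 D212360)) (tt N98741 F465486))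
theorem Q109134 : ∀ i, i < 109134 → P i := stepQ 109133 Q109133 (allL N109133 (tt N84402 F465494) (tt N75588 (iv0 F465495)) (tt N84481 F465489) (tt N76728 F465490) (tt N88191 F465491) (tt N89517 F465492) (tt N75044 (iv6 D212361)) (tt N99950 F465493))
theorem Q109135 : ∀ i, i < 109135 → P i := stepQ 109134 Q109134 (allL N109134 (tt N85570 F465498) (tt N84277 (iv0 F465499)) (tt N84261 F465496) (tt N75046 (iv3 D212362)) (tt N110601 (iv4 F472329)) (tt N90448 F465500) (tt N83869 F465497) (tt N110336 (iv7 F471108)))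
theorem Q109136 : ∀ i, i < 109136 → P i := stepQ 109135 Q109135 (allL N109135 (tt N99974 F465505) (tt N100206 F465506) (tt N109363 (iv2 F466584)) (tt N90448 F465502) (tt N107918 F465504) (tt N75046 (iv5 D212363)) (tt N90447 F465503) (tt N109387 (iv7 F466706)))
theorem Q109137 : ∀ i, i < 109137 → P i := stepQ 109136 Q109136 (allL N109136 (tt N76493 F465509) (tt N91059 F465510) (tt N116712 (iv2 F501439)) (tt N75049 F465507) (tt N100204 F465508) (tt N113325 F485032) (tt N75047 (iv6 D212364)) (tt N116713 (iv7 F501449)))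
theorem Q109138 : ∀ i, i < 109138 → P i := stepQ 109137 Q109137 (allL N109137 (tt N75145 (iv1 F465514)) (tt N75144 F465515) (tt N75147 F465511) (tt N116713 (iv3 F501447)) (tt N103499 F465512) (tt N94274 F465513) (tt N120059 (iv6 F518827)) (tt N75049 (iv7 D212365)))
theorem Q109139 : ∀ i, i < 109139 → P i := stepQ 109138 Q109138 (allL N109138 (tt N75051 (iv1 F465518)) (tt N75050 (iv0 D212366)) (tt N75150 (iv2 F465517)) (tt N110063 (iv3 F469797)) (tt N105278 F465516) (tt N110293 (iv5 F470891)) (tt N109453 (iv6 F467034)) (tt N75105 F465519))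
theorem Q109140 : ∀ i, i < 109140 → P i := stepQ 109139 Q109139 (allL N109139 (tt N95917 F465525) (tt N114079 (iv0 F488492)) (tt N75154 F465520) (tt N81355 F465521) (tt N94219 F465522) (tt N75051 (iv5 D212367)) (tt N95962 F465523) (tt N75152 F465524))
theorem Q109141 : ∀ i, i < 109141 → P i := stepQ 109140 Q109140 (allL N109140 (tt N75052 (iv1 D212368)) (tt N75163 F465526) (tt N75160 F465530) (tt N81428 (iv3 F465528)) (tt N101176 F465531) (tt N112734 (iv5 F482424)) (tt N104772 (iv6 F465529)) (tt N75159 F465527))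
theorem Q109142 : ∀ i, i < 109142 → P i := stepQ 109141 Q109141 (allL N109141 (tt N94034 F465536) (tt N111805 (iv0 F478066)) (tt N75162 F465532) (tt N103949 F465533) (tt N82313 F465534) (tt N75052 (iv5 D212369)) (tt N100350 F465535) (tt N112705 (iv7 F482266)))
theorem Q109143 : ∀ i, i < 109143 → P i := stepQ 109142 Q109142 (allL N109142 (tt N81391 F465540) (tt N81410 (iv0 F465541)) (tt N90634 F465537) (tt N107012 F465538) (tt N75056 F465539) (tt N81399 (iv5 F465542)) (tt N75055 (iv6 D212370)) (tt N90633 F465543))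
theorem Q109144 : ∀ i, i < 109144 → P i := stepQ 109143 Q109143 (allL N109143 (tt N119438 F515630) (tt N92703 (iv0 F465546)) (tt N103867 F465544) (tt N75059 (iv3 D212371)) (tt N113157 (iv4 F484251)) (tt N121772 D225031) (tt N103866 (iv6 F465547)) (tt N109103 F465545))
theorem Q109145 : ∀ i, i < 109145 → P i := stepQ 109144 Q109144 (allL N109144 (tt N75581 F465551) (tt N75579 F465552) (tt N97959 F465548) (tt N121772 (iv3 F528227)) (tt N75112 F465549) (tt N75059 (iv5 D212372)) (tt N120916 (iv6 F523457)) (tt N103714 F465550))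
theorem Q109146 : ∀ i, i < 109146 → P i := stepQ 109145 Q109145 (allL N109145 (tt N102921 (iv1 F465559)) (tt N102923 (iv0 F465557)) (tt N97960 F465553) (tt N103866 F465554) (tt N97957 F465555) (tt N103781 (iv5 F465558)) (tt N75059 (iv6 D212373)) (tt N103547 F465556))
theorem Q109147 : ∀ i, i < 109147 → P i := stepQ 109146 Q109146 (allL N109146 (tt N75061 (iv1 D212374)) (tt N75065 F465560) (tt N97945 (iv2 F465566)) (tt N78876 F465565) (tt N75743 F465563) (tt N75071 F465562) (tt N78874 (iv6 F465564)) (tt N97944 F465561))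
theorem Q109148 : ∀ i, i < 109148 → P i := stepQ 109147 Q109147 (allL N109147 (tt N107013 (iv1 F465568)) (tt N75064 (iv0 D212375)) (tt N88762 F465570) (tt N104543 (iv3 F465572)) (tt N87843 (iv4 F465569)) (tt N120918 (iv5 F523468)) (tt N87842 F465567) (tt N107070 F465571))
theorem Q109149 : ∀ i, i < 109149 → P i := stepQ 109148 Q109148 (allL N109148 (tt N75064 (iv1 D212376)) (tt N107013 (iv0 F465576)) (tt N107070 F465575) (tt N119436 (iv3 F515621)) (tt N88765 (iv4 F465574)) (tt N119563 (iv5 F516271)) (tt N103539 F487211) (tt N88762 F465573))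
theorem Q109150 : ∀ i, i < 109150 → P i := stepQ 109149 Q109149 (allL N109149 (tt N88762 (iv1 F465582)) (tt N107070 F465581) (tt N75064 (iv2 D212377)) (tt N107007 F465577) (tt N107009 F465578) (tt N118700 (iv5 F511616)) (tt N102858 F465579) (tt N107013 F465580))
theorem Q109151 : ∀ i, i < 109151 → P i := stepQ 109150 Q109150 (allL N109150 (tt N120894 F523335) (tt N120769 (iv0 F522617)) (tt N118700 (iv2 F511612)) (tt N75065 F465583) (tt N93290 (iv4 F465585)) (tt N75064 (iv5 D212378)) (tt N95117 F465584) (tt N118701 (iv7 F511621)))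
theorem Q109152 : ∀ i, i < 109152 → P i := stepQ 109151 Q109151 (allL N109151 (tt N120865 (iv1 F523159)) (tt N120625 (iv0 F521824)) (tt N119470 (iv2 F515785)) (tt N95117 F465586) (tt N75140 F465587) (tt N102790 (iv5 F465588)) (tt N75065 (iv6 D212379)) (tt N118747 (iv7 F511868)))
theorem Q109153 : ∀ i, i < 109153 → P i := stepQ 109152 Q109152 (allL N109152 (tt N104743 F465591) (tt N104503 F465592) (tt N119471 (iv2 F515788)) (tt N92427 F465589) (tt N102790 F465593) (tt N75066 (iv5 D212380)) (tt N102790 F465590) (tt N120713 (iv7 F522295)))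
theorem Q109154 : ∀ i, i < 109154 → P i := stepQ 109153 Q109153 (allL N109153 (tt N104069 (iv1 F465597)) (tt N75070 (iv0 D212381)) (tt N98725 (iv2 F465596)) (tt N92655 (iv3 F465600)) (tt N80684 F465594) (tt N115223 (iv5 F494094)) (tt N85986 F465595) (tt N104082 F465599))
theorem Q109155 : ∀ i, i < 109155 → P i := stepQ 109154 Q109154 (allL N109154 (tt N112916 (iv1 F483271)) (tt N103870 (iv0 F465606)) (tt N88689 F465601) (tt N75074 F465602) (tt N83998 F465603) (tt N102923 F465604) (tt N75072 (iv6 D212382)) (tt N88690 F465605))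
theorem Q109156 : ∀ i, i < 109156 → P i := stepQ 109155 Q109155 (allL N109155 (tt N105617 (iv1 F465611)) (tt N118665 F511423) (tt N94493 F465607) (tt N103831 F465608) (tt N75138 F465609) (tt N94489 F465610) (tt N75073 (iv6 D212383)) (tt N109596 (iv7 F467648)))
theorem Q109157 : ∀ i, i < 109157 → P i := stepQ 109156 Q109156 (allL N109156 (tt N87842 F465617) (tt N84008 F465618) (tt N88759 F465612) (tt N102923 F465613) (tt N87509 F465616) (tt N75074 (iv5 D212384)) (tt N94489 F465614) (tt N88758 F465615))
theorem Q109158 : ∀ i, i < 109158 → P i := stepQ 109157 Q109157 (allL N109157 (tt N75084 F465622) (tt N82970 F465623) (tt N104594 F465619) (tt N120815 (iv3 F522875)) (tt N75076 (iv4 D212385)) (tt N87845 F465620) (tt N88694 F465621) (tt N118022 (iv7 F508138)))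
theorem Q109159 : ∀ i, i < 109159 → P i := stepQ 109158 Q109158 (allL N109158 (tt N119494 (iv1 F515896)) (tt N75078 (iv0 D212386)) (tt N119493 F515891) (tt N120626 (iv3 F521826)) (tt N113134 F501062) (tt N120894 (iv5 F523332)) (tt N113133 (iv6 F501063)) (tt N103527 F501064))
theorem Q109160 : ∀ i, i < 109160 → P i := stepQ 109159 Q109159 (allL N109159 (tt N120859 F523127) (tt N116276 (iv0 F499314)) (tt N116911 (iv2 F502458)) (tt N75079 F465624) (tt N93286 F465625) (tt N75078 (iv5 D212387)) (tt N116909 F502455) (tt N109389 (iv7 F466721)))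
theorem Q109161 : ∀ i, i < 109161 → P i := stepQ 109160 Q109160 (allL N109160 (tt N113533 (iv1 F485923)) (tt N116870 F502278) (tt N109390 (iv2 F466722)) (tt N116909 (iv3 F502451)) (tt N75131 F465626) (tt N106159 F465627) (tt N75079 (iv6 D212388)) (tt N116871 (iv7 F502283)))
theorem Q109162 : ∀ i, i < 109162 → P i := stepQ 109161 Q109161 (allL N109161 (tt N109422 (iv1 F466882)) (tt N75082 (iv0 D212389)) (tt N109421 F466875) (tt N105492 F465628) (tt N102541 F465629) (tt N121624 (iv5 F527399)) (tt N102584 F465630) (tt N109420 F466871))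
theorem Q109163 : ∀ i, i < 109163 → P i := stepQ 109162 Q109162 (allL N109162 (tt N75082 (iv1 D212390)) (tt N109422 F466883) (tt N109420 F466872) (tt N98626 (iv3 F465632)) (tt N102540 F465631) (tt N98691 (iv5 F465633)) (tt N98623 F465634) (tt N109421 (iv7 F466873)))
theorem Q109164 : ∀ i, i < 109164 → P i := stepQ 109163 Q109163 (allL N109163 (tt N109421 F466877) (tt N109420 F466870) (tt N75082 (iv2 D212391)) (tt N102793 F465635) (tt N102590 F465636) (tt N104792 (iv5 F465638)) (tt N102592 F465637) (tt N109422 (iv7 F466881)))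
theorem Q109165 : ∀ i, i < 109165 → P i := stepQ 109164 Q109164 (allL N109164 (tt N120874 (iv1 F523217)) (tt N120871 (iv0 F523197)) (tt N104792 F465639) (tt N75083 F465640) (tt N88902 F465642) (tt N75082 (iv5 D212392)) (tt N88901 F465641) (tt N109394 (iv7 F466742)))
theorem Q109166 : ∀ i, i < 109166 → P i := stepQ 109165 Q109165 (allL N109165 (tt N104594 (iv1 F465647)) (tt N118022 (iv0 F508139)) (tt N82970 F465643) (tt N120658 (iv3 F522003)) (tt N104942 F465644) (tt N82954 F465645) (tt N104583 F465646) (tt N75084 (iv7 D212393)))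
theorem Q109167 : ∀ i, i < 109167 → P i := stepQ 109166 Q109166 (allL N109166 (tt N119160 (iv1 F514117)) (tt N119041 (iv0 F513448)) (tt N96389 F465648) (tt N75086 F465649) (tt N95991 F465651) (tt N75085 (iv5 D212394)) (tt N114577 (iv6 F490846)) (tt N96386 F465650))
theorem Q109168 : ∀ i, i < 109168 → P i := stepQ 109167 Q109167 (allL N109167 (tt N103190 F465656) (tt N116896 F502406) (tt N98684 F465652) (tt N114577 (iv3 F490844)) (tt N75113 F465653) (tt N98056 F465654) (tt N75086 (iv6 D212395)) (tt N98686 F465655))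
theorem Q109169 : ∀ i, i < 109169 → P i := stepQ 109168 Q109168 (allL N109168 (tt N119026 F513358) (tt N119447 F515669) (tt N75091 F465657) (tt N116866 (iv3 F502247)) (tt N109566 (iv4 F467558)) (tt N75090 (iv5 D212396)) (tt N85290 (iv6 F465658)) (tt N119442 (iv7 F515648)))
theorem Q109170 : ∀ i, i < 109170 → P i := stepQ 109169 Q109169 (allL N109169 (tt N119442 (iv1 F515650)) (tt N75091 (iv0 D212397)) (tt N119026 (iv2 F513353)) (tt N95118 F465661) (tt N103024 F465660) (tt N102914 F465659) (tt N120771 (iv6 F522628)) (tt N119447 (iv7 F515670)))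
theorem Q109171 : ∀ i, i < 109171 → P i := stepQ 109170 Q109170 (allL N109170 (tt N75091 (iv1 D212398)) (tt N119442 (iv0 F515649)) (tt N119447 F515668) (tt N107434 (iv3 F465664)) (tt N103023 F465663) (tt N102915 F465662) (tt N98693 (iv6 F465665)) (tt N119026 (iv7 F513356)))
theorem Q109172 : ∀ i, i < 109172 → P i := stepQ 109171 Q109171 (allL N109171 (tt N103407 F465670) (tt N118191 (iv0 F509065)) (tt N108885 F465666) (tt N75096 F465667) (tt N93524 F465669) (tt N75092 (iv5 D212399)) (tt N115006 (iv6 F493024)) (tt N108685 F465668))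
theorem Q109173 : ∀ i, i < 109173 → P i := stepQ 109172 Q109172 (allL N109172 (tt N116867 (iv1 F502259)) (tt N75093 (iv0 D212400)) (tt N116884 F502341) (tt N98688 (iv3 F499236)) (tt N118011 (iv4 F508075)) (tt N117752 (iv5 F506788)) (tt N98533 F499235) (tt N111174 F499237))
theorem Q109174 : ∀ i, i < 109174 → P i := stepQ 109173 Q109173 (allL N109173 (tt N75093 (iv1 D212401)) (tt N116867 (iv0 F502257)) (tt N111174 F475085) (tt N121604 (iv3 F527289)) (tt N118010 (iv4 F508070)) (tt N85234 F490732) (tt N103631 (iv6 F465671)) (tt N116884 (iv7 F502343)))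
theorem Q109175 : ∀ i, i < 109175 → P i := stepQ 109174 Q109174 (allL N109174 (tt N98682 (iv1 F465674)) (tt N114311 F489538) (tt N114422 (iv2 F490075)) (tt N115006 (iv3 F493022)) (tt N116775 (iv4 F501763)) (tt N75093 (iv5 D212402)) (tt N75096 F465672) (tt N103742 (iv7 F465673)))
theorem Q109176 : ∀ i, i < 109176 → P i := stepQ 109175 Q109175 (allL N109175 (tt N111174 F475086) (tt N116884 F502342) (tt N116867 (iv2 F502253)) (tt N85291 F465675) (tt N120059 (iv4 F518826)) (tt N103742 F465676) (tt N103499 F465677) (tt N75093 (iv7 D212403)))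
theorem Q109177 : ∀ i, i < 109177 → P i := stepQ 109176 Q109176 (allL N109176 (tt N119527 (iv1 F516072)) (tt N98623 (iv0 F465678)) (tt N119526 F516790) (tt N75094 (iv3 D212404)) (tt N114357 (iv4 F489791)) (tt N120484 (iv5 F521012)) (tt N120877 (iv6 F523234)) (tt N114416 (iv7 F490045)))
theorem Q109178 : ∀ i, i < 109178 → P i := stepQ 109177 Q109177 (allL N109177 (tt N117343 (iv1 F504566)) (tt N118206 (iv0 F509141)) (tt N114414 (iv2 F490034)) (tt N120484 (iv3 F521009)) (tt N107831 F465679) (tt N75094 (iv5 D212405)) (tt N119640 (iv6 F516655)) (tt N114417 (iv7 F490051)))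
theorem Q109179 : ∀ i, i < 109179 → P i := stepQ 109178 Q109178 (allL N109178 (tt N104586 (iv1 F465681)) (tt N111261 (iv0 F475505)) (tt N114415 (iv2 F490038)) (tt N120877 (iv3 F523232)) (tt N114444 (iv4 F490200)) (tt N104588 F465680) (tt N75094 (iv6 D212406)) (tt N120901 (iv7 F523374)))
theorem Q109180 : ∀ i, i < 109180 → P i := stepQ 109179 Q109179 (allL N109179 (tt N118206 (iv1 F509142)) (tt N117343 (iv0 F504565)) (tt N114417 (iv2 F490049)) (tt N119641 (iv3 F516658)) (tt N117271 (iv4 F504213)) (tt N75095 (iv5 D212407)) (tt N121447 (iv6 F526429)) (tt N114414 (iv7 F490036)))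
theorem Q109181 : ∀ i, i < 109181 → P i := stepQ 109180 Q109180 (allL N109180 (tt N92660 (iv1 F465683)) (tt N118019 (iv0 F508122)) (tt N114418 (iv2 F490054)) (tt N117954 (iv3 F507768)) (tt N98752 F465682) (tt N120668 (iv5 F522063)) (tt N75095 (iv6 D212408)) (tt N118020 (iv7 F508125)))
theorem Q109182 : ∀ i, i < 109182 → P i := stepQ 109181 Q109181 (allL N109181 (tt N103510 (iv1 F465687)) (tt N75096 (iv0 D212409)) (tt N98680 F465689) (tt N98621 F465686) (tt N95864 F465685) (tt N98740 F465684) (tt N83097 (iv6 F465688)) (tt N114420 (iv7 F490065)))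
theorem Q109183 : ∀ i, i < 109183 → P i := stepQ 109182 Q109182 (allL N109182 (tt N75096 (iv1 D212410)) (tt N103510 F465690) (tt N114420 F490068) (tt N98681 (iv3 F465692)) (tt N117268 (iv4 F504197)) (tt N114425 (iv5 F490088)) (tt N117763 (iv6 F506851)) (tt N98680 F465691))
theorem Q109184 : ∀ i, i < 109184 → P i := stepQ 109183 Q109183 (allL N109183 (tt N120636 F521884) (tt N106848 (iv0 F465695)) (tt N120827 (iv2 F522954)) (tt N75097 (iv3 D212411)) (tt N85040 F465693) (tt N120108 (iv5 F519089)) (tt N104477 F465694) (tt N114374 (iv7 F489861)))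
theorem Q109185 : ∀ i, i < 109185 → P i := stepQ 109184 Q109184 (allL N109184 (tt N104708 F465696) (tt N119623 (iv0 F516572)) (tt N114410 (iv2 F490010)) (tt N120108 (iv3 F519086)) (tt N117274 (iv4 F504230)) (tt N75097 (iv5 D212412)) (tt N120820 (iv6 F522908)) (tt N114375 (iv7 F489864)))
theorem Q109186 : ∀ i, i < 109186 → P i := stepQ 109185 Q109185 (allL N109185 (tt N105671 (iv1 F465700)) (tt N114412 F490024) (tt N109861 (iv2 F468963)) (tt N85982 F465697) (tt N120847 (iv4 F523059)) (tt N97813 F465698) (tt N92659 F465699) (tt N75098 (iv7 D212413)))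
theorem Q109187 : ∀ i, i < 109187 → P i := stepQ 109186 Q109186 (allL N109186 (tt N117351 F504619) (tt N117744 (iv0 F506753)) (tt N85984 F465701) (tt N75101 F465702) (tt N114962 (iv4 F492782)) (tt N75536 F465703) (tt N75099 (iv6 D212414)) (tt N75535 (iv7 F465704)))
theorem Q109188 : ∀ i, i < 109188 → P i := stepQ 109187 Q109187 (allL N109187 (tt N113133 (iv1 F484129)) (tt N88661 (iv0 F465705)) (tt N120373 (iv2 F520436)) (tt N75100 (iv3 D212415)) (tt N114960 (iv4 F492770)) (tt N103698 F465706) (tt N121773 D225032) (tt N114409 (iv7 F490005)))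
theorem Q109189 : ∀ i, i < 109189 → P i := stepQ 109188 Q109188 (allL N109188 (tt N119623 F516573) (tt N104708 F465709) (tt N114375 (iv2 F489863)) (tt N103698 F465707) (tt N90322 F465708) (tt N75100 (iv5 D212416)) (tt N121774 D225033) (tt N114410 (iv7 F490012)))
theorem Q109190 : ∀ i, i < 109190 → P i := stepQ 109189 Q109189 (allL N109189 (tt N109798 (iv1 F468665)) (tt N98416 (iv0 F465712)) (tt N114376 (iv2 F489865)) (tt N121773 (iv3 F528234)) (tt N75101 F465710) (tt N105941 F465711) (tt N75100 (iv6 D212417)) (tt N109862 (iv7 F468973)))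
theorem Q109191 : ∀ i, i < 109191 → P i := stepQ 109190 Q109190 (allL N109190 (tt N76267 F465717) (tt N99838 (iv0 F465718)) (tt N100573 F465713) (tt N75103 F465714) (tt N99792 F465715) (tt N112975 (iv5 F483413)) (tt N75102 (iv6 D212418)) (tt N100572 F465716))
theorem Q109192 : ∀ i, i < 109192 → P i := stepQ 109191 Q109191 (allL N109191 (tt N82186 F465723) (tt N103122 (iv0 F465724)) (tt N82136 F465719) (tt N75105 F465720) (tt N82160 F465721) (tt N101744 F465722) (tt N75104 (iv6 D212419)) (tt N110063 (iv7 F469799)))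
theorem Q109193 : ∀ i, i < 109193 → P i := stepQ 109192 Q109192 (allL N109192 (tt N94207 F465729) (tt N96184 F465730) (tt N107117 F465725) (tt N101744 F465726) (tt N106457 F465728) (tt N75105 (iv5 D212420)) (tt N103115 F465727) (tt N110293 (iv7 F470892)))
theorem Q109194 : ∀ i, i < 109194 → P i := stepQ 109193 Q109193 (allL N109193 (tt N100208 F465733) (tt N105097 (iv0 F465734)) (tt N105098 F465731) (tt N75107 (iv3 D212421)) (tt N111325 (iv4 F475831)) (tt N121767 (iv5 F528193)) (tt N107116 F465735) (tt N100952 F465732))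
theorem Q109195 : ∀ i, i < 109195 → P i := stepQ 109194 Q109194 (allL N109194 (tt N75151 F465740) (tt N82070 F465741) (tt N81325 F465736) (tt N107116 F465737) (tt N80888 F465738) (tt N107115 F465739) (tt N75107 (iv6 D212422)) (tt N81327 (iv7 F465742)))
theorem Q109196 : ∀ i, i < 109196 → P i := stepQ 109195 Q109195 (allL N109195 (tt N76506 F465745) (tt N105041 F465746) (tt N75109 F465743) (tt N85846 F465744) (tt N114919 (iv4 F492533)) (tt N75108 (iv5 D212423)) (tt N85844 (iv6 F465747)) (tt N109455 (iv7 F467045)))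
theorem Q109197 : ∀ i, i < 109197 → P i := stepQ 109196 Q109196 (allL N109196 (tt N75109 (iv1 D212424)) (tt N109455 (iv0 F467046)) (tt N105041 (iv2 F465751)) (tt N76512 F465752) (tt N105045 F465750) (tt N99758 F465749) (tt N88959 (iv6 F465753)) (tt N76506 F465748))
theorem Q109198 : ∀ i, i < 109198 → P i := stepQ 109197 Q109197 (allL N109197 (tt N96609 F465757) (tt N119426 (iv0 F515553)) (tt N114919 (iv2 F492532)) (tt N95991 F465754) (tt N75109 (iv4 D212425)) (tt N95460 F465756) (tt N110545 F472076) (tt N96385 F465755))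
theorem Q109199 : ∀ i, i < 109199 → P i := stepQ 109198 Q109198 (allL N109198 (tt N88955 F465760) (tt N100222 F465761) (tt N85844 F465758) (tt N75113 F465759) (tt N110545 (iv4 F472075)) (tt N121590 (iv5 F527198)) (tt N75109 (iv6 D212426)) (tt N114262 (iv7 F489287)))
theorem Q109200 : ∀ i, i < 109200 → P i := stepQ 109199 Q109199 (allL N109199 (tt N84377 F465790) (tt N90852 (iv0 F465765)) (tt N90850 F465762) (tt N75116 F465763) (tt N121591 (iv4 F527206)) (tt N75110 (iv5 D212427)) (tt N121590 F527203) (tt N90851 F465764))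
theorem Q109201 : ∀ i, i < 109201 → P i := stepQ 109200 Q109200 (allL N109200 (tt N121221 (iv1 F525213)) (tt N83931 (iv0 F465768)) (tt N109108 F465766) (tt N87642 F465767) (tt N120916 (iv4 F523455)) (tt N118928 (iv5 F512789)) (tt N75112 (iv6 D212428)) (tt N113101 (iv7 F483976)))
theorem Q109202 : ∀ i, i < 109202 → P i := stepQ 109201 Q109201 (allL N109201 (tt N85842 F465772) (tt N75113 (iv0 D212429)) (tt N83545 (iv2 F465770)) (tt N113081 (iv3 F483888)) (tt N104702 (iv4 F472908)) (tt N83531 (iv5 F465771)) (tt N83532 F465769) (tt N114268 (iv7 F489306)))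
theorem Q109203 : ∀ i, i < 109203 → P i := stepQ 109202 Q109202 (allL N109202 (tt N75113 (iv1 D212430)) (tt N85842 F465773) (tt N114268 F489309) (tt N83552 (iv3 F465775)) (tt N104700 F465777) (tt N83546 (iv5 F465776)) (tt N111321 (iv6 F475810)) (tt N83545 F465774))
theorem Q109204 : ∀ i, i < 109204 → P i := stepQ 109203 Q109203 (allL N109203 (tt N121288 F525580) (tt N121775 D225034) (tt N114269 (iv2 F489311)) (tt N121590 (iv3 F527202)) (tt N121592 (iv4 F527210)) (tt N75113 (iv5 D212431)) (tt N75116 F465778) (tt N121776 D225035))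
theorem Q109205 : ∀ i, i < 109205 → P i := stepQ 109204 Q109204 (allL N109204 (tt N114268 (iv1 F489305)) (tt N83545 (iv0 F465781)) (tt N85842 F465779) (tt N114262 (iv3 F489285)) (tt N98686 F465780) (tt N121776 (iv5 F528253)) (tt N109458 (iv6 F467063)) (tt N75113 (iv7 D212432)))
theorem Q109206 : ∀ i, i < 109206 → P i := stepQ 109205 Q109205 (allL N109205 (tt N120110 (iv1 F519101)) (tt N121770 (iv0 F528217)) (tt N114637 (iv2 F491130)) (tt N100367 F465782) (tt N116628 (iv4 F501044)) (tt N75114 (iv5 D212433)) (tt N114625 (iv6 F491066)) (tt N100431 F465783))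
theorem Q109207 : ∀ i, i < 109207 → P i := stepQ 109206 Q109206 (allL N109206 (tt N121770 (iv1 F528218)) (tt N120110 (iv0 F519100)) (tt N100431 F465784) (tt N101739 F465785) (tt N119928 (iv4 F518078)) (tt N75115 (iv5 D212434)) (tt N101738 F465786) (tt N114637 (iv7 F491133)))
theorem Q109208 : ∀ i, i < 109208 → P i := stepQ 109207 Q109207 (allL N109207 (tt N116535 (iv1 F500656)) (tt N99082 F465789) (tt N107336 F465787) (tt N109933 (iv3 F469290)) (tt N75116 (iv4 D212435)) (tt N100423 F465788) (tt N121592 (iv6 F527212)) (tt N119751 (iv7 F517233)))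
theorem Q109209 : ∀ i, i < 109209 → P i := stepQ 109208 Q109208 (allL N109208 (tt N116250 (iv1 F499215)) (tt N120060 F518834) (tt N114024 F488248) (tt N90851 F465791) (tt N119751 F517235) (tt N75117 F465792) (tt N121777 D225036) (tt N75116 (iv7 D212436)))
theorem Q109210 : ∀ i, i < 109210 → P i := stepQ 109209 Q109209 (allL N109209 (tt N90816 F465795) (tt N101350 F465796) (tt N77665 F465793) (tt N110347 (iv3 F471155)) (tt N120725 (iv4 F522371)) (tt N75118 (iv5 D212437)) (tt N121778 D225037) (tt N101162 F465794))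
theorem Q109211 : ∀ i, i < 109211 → P i := stepQ 109210 Q109210 (allL N109210 (tt N109393 (iv1 F466740)) (tt N75131 (iv0 D212438)) (tt N109391 F466728) (tt N84884 F465797) (tt N103190 (iv4 F465799)) (tt N113174 (iv5 F484328)) (tt N84880 F465798) (tt N100219 (iv7 F465800)))
theorem Q109212 : ∀ i, i < 109212 → P i := stepQ 109211 Q109211 (allL N109211 (tt N75131 (iv1 D212439)) (tt N109393 F466739) (tt N100219 (iv2 F466730)) (tt N116722 (iv3 F501500)) (tt N116896 (iv4 F502402)) (tt N121779 D225038) (tt N116720 F501492) (tt N109391 F466729))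
theorem Q109213 : ∀ i, i < 109213 → P i := stepQ 109212 Q109212 (allL N109212 (tt N111148 F474930) (tt N121780 D225039) (tt N109392 (iv2 F466732)) (tt N101348 F465801) (tt N110746 (iv4 F472989)) (tt N75131 (iv5 D212440)) (tt N75132 F465802) (tt N118670 (iv7 F511448)))
theorem Q109214 : ∀ i, i < 109214 → P i := stepQ 109213 Q109213 (allL N109213 (tt N107543 (iv1 F465806)) (tt N98865 (iv0 F465805)) (tt N107540 F465803) (tt N110739 (iv3 F472961)) (tt N75132 (iv4 D212441)) (tt N100413 F465804) (tt N110746 (iv6 F472991)) (tt N107541 (iv7 F465807)))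
theorem Q109215 : ∀ i, i < 109215 → P i := stepQ 109214 Q109214 (allL N109214 (tt N75141 F465812) (tt N105036 F465813) (tt N85572 F465810) (tt N114723 F491537) (tt N107974 F465811) (tt N75134 (iv5 D212442)) (tt N121154 (iv6 F524823)) (tt N113848 (iv7 F487437)))
theorem Q109216 : ∀ i, i < 109216 → P i := stepQ 109215 Q109215 (allL N109215 (tt N113850 F487448) (tt N75140 (iv0 D212443)) (tt N107610 (iv2 F465817)) (tt N100213 F465815) (tt N98691 F465816) (tt N105009 F465814) (tt N98690 (iv6 F465818)) (tt N114342 (iv7 F489712)))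
theorem Q109217 : ∀ i, i < 109217 → P i := stepQ 109216 Q109216 (allL N109216 (tt N107365 F465821) (tt N109642 (iv0 F467892)) (tt N120061 (iv2 F518837)) (tt N95951 F465819) (tt N115054 (iv4 F493251)) (tt N75140 (iv5 D212444)) (tt N75576 F465820) (tt N116512 (iv7 F500546)))
theorem Q109218 : ∀ i, i < 109218 → P i := stepQ 109217 Q109217 (allL N109217 (tt N114342 F489713) (tt N107610 (iv0 F465823)) (tt N113850 (iv2 F487443)) (tt N95686 F465822) (tt N118747 (iv4 F511867)) (tt N116512 (iv5 F500545)) (tt N113701 (iv6 F486709)) (tt N75140 (iv7 D212445)))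
theorem Q109219 : ∀ i, i < 109219 → P i := stepQ 109218 Q109218 (allL N109218 (tt N116866 F502251) (tt N75143 (iv0 D212446)) (tt N116885 (iv2 F502351)) (tt N98693 F465824) (tt N106426 (iv4 F465825)) (tt N119468 (iv5 F515774)) (tt N107434 (iv6 F465826)) (tt N106424 (iv7 F465827)))
theorem Q109220 : ∀ i, i < 109220 → P i := stepQ 109219 Q109219 (allL N109219 (tt N75143 (iv1 D212447)) (tt N116866 F502252) (tt N106424 F465830) (tt N107805 (iv3 F465828)) (tt N105993 (iv4 F465829)) (tt N119469 (iv5 F515781)) (tt N103637 F465831) (tt N116885 (iv7 F502346)))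
theorem Q109221 : ∀ i, i < 109221 → P i := stepQ 109220 Q109220 (allL N109220 (tt N114780 (iv1 F491820)) (tt N120010 F518547) (tt N114651 (iv2 F491204)) (tt N75145 (iv3 D212448)) (tt N114649 (iv4 F491196)) (tt N91090 F465832) (tt N113246 (iv6 F484693)) (tt N113838 (iv7 F487373)))
theorem Q109222 : ∀ i, i < 109222 → P i := stepQ 109221 Q109221 (allL N109221 (tt N111147 (iv1 F474927)) (tt N98690 (iv0 F465836)) (tt N104704 F465833) (tt N113246 F484692) (tt N103725 F465834) (tt N121781 D225040) (tt N75145 (iv6 D212449)) (tt N103721 F465835))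
theorem Q109223 : ∀ i, i < 109223 → P i := stepQ 109222 Q109222 (allL N109222 (tt N96184 F465841) (tt N94207 F465840) (tt N110293 (iv2 F470889)) (tt N78100 F465837) (tt N106458 F465839) (tt N75150 (iv5 D212450)) (tt N107436 (iv6 F465842)) (tt N107117 F465838))
theorem Q109224 : ∀ i, i < 109224 → P i := stepQ 109223 Q109223 (allL N109223 (tt N82070 (iv1 F465845)) (tt N75151 (iv0 D212451)) (tt N81327 (iv2 F465844)) (tt N118014 (iv3 F508088)) (tt N81290 F465843) (tt N110795 (iv5 F473209)) (tt N97101 (iv6 F465847)) (tt N81325 F465846))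
theorem Q109225 : ∀ i, i < 109225 → P i := stepQ 109224 Q109224 (allL N109224 (tt N107100 F465848) (tt N116655 F501166) (tt N119100 (iv2 F513785)) (tt N110754 (iv3 F473021)) (tt N118561 (iv4 F510935)) (tt N118945 (iv5 F512897)) (tt N75152 (iv6 D212452)) (tt N119896 (iv7 F517912)))
theorem Q109226 : ∀ i, i < 109226 → P i := stepQ 109225 Q109225 (allL N109225 (tt N84481 F465854) (tt N99950 F465855) (tt N75588 F465849) (tt N83890 F465850) (tt N75158 (iv4 D212453)) (tt N96184 F465851) (tt N75574 F465852) (tt N84402 F465853))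
theorem Q109227 : ∀ i, i < 109227 → P i := stepQ 109226 Q109226 (allL N109226 (tt N75934 F465860) (tt N111348 F475945) (tt N101176 F465856) (tt N75913 F465861) (tt N75160 (iv4 D212454)) (tt N98357 F465857) (tt N103004 F465858) (tt N75904 F465859))
theorem Q109228 : ∀ i, i < 109228 → P i := stepQ 109227 Q109227 (allL N109227 (tt N94089 F465867) (tt N111127 (iv0 F474816)) (tt N94572 F465862) (tt N75167 (iv3 D212455)) (tt N105066 F465863) (tt N94077 F465864) (tt N108746 F465865) (tt N75260 F465866))
theorem Q109229 : ∀ i, i < 109229 → P i := stepQ 109228 Q109228 (allL N109228 (tt N82461 F465872) (tt N95635 F465873) (tt N75286 F465868) (tt N76312 F465869) (tt N75174 (iv4 D212456)) (tt N120802 (iv5 F522799)) (tt N99758 F465870) (tt N75290 F465871))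
theorem Q109230 : ∀ i, i < 109230 → P i := stepQ 109229 Q109229 (allL N109229 (tt N81995 F465877) (tt N111091 F474619) (tt N75493 F465874) (tt N115057 (iv3 F493269)) (tt N111840 (iv4 F478244)) (tt N75178 (iv5 D212457)) (tt N100681 F465875) (tt N75498 F465876))
theorem Q109231 : ∀ i, i < 109231 → P i := stepQ 109230 Q109230 (allL N109230 (tt N111091 (iv1 F474620)) (tt N81995 F465882) (tt N75498 F465878) (tt N80108 F465879) (tt N102339 F465883) (tt N75180 (iv5 D212458)) (tt N82467 F465880) (tt N75493 F465881))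
theorem Q109232 : ∀ i, i < 109232 → P i := stepQ 109231 Q109231 (allL N109231 (tt N76891 (iv1 F465889)) (tt N76890 F465888) (tt N75182 (iv2 D212459)) (tt N75524 F465884) (tt N76812 F465885) (tt N114943 (iv5 F492674)) (tt N100915 F465886) (tt N76892 F465887))
theorem Q109233 : ∀ i, i < 109233 → P i := stepQ 109232 Q109232 (allL N109232 (tt N75441 F465895) (tt N75310 F465896) (tt N75440 F465890) (tt N81287 F465891) (tt N75188 (iv4 D212460)) (tt N104800 F465892) (tt N82564 F465893) (tt N75348 F465894))
theorem Q109234 : ∀ i, i < 109234 → P i := stepQ 109233 Q109233 (allL N109233 (tt N79442 F465901) (tt N105685 F465902) (tt N75756 F465897) (tt N103119 F465898) (tt N75201 (iv4 D212461)) (tt N98299 F465899) (tt N109237 F465926) (tt N109023 F465900))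
theorem Q109235 : ∀ i, i < 109235 → P i := stepQ 109234 Q109234 (allL N109234 (tt N80670 F465906) (tt N82075 (iv0 F465908)) (tt N75205 F465903) (tt N120021 (iv3 F518597)) (tt N75784 F465904) (tt N81049 F465907) (tt N75203 (iv6 D212462)) (tt N82502 F465905))
theorem Q109236 : ∀ i, i < 109236 → P i := stepQ 109235 Q109235 (allL N109235 (tt N100336 F465912) (tt N101154 (iv0 F465913)) (tt N111812 (iv2 F478101)) (tt N75206 F465909) (tt N107735 F465910) (tt N90505 F465911) (tt N75204 (iv6 D212463)) (tt N109610 (iv7 F467726)))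
theorem Q109237 : ∀ i, i < 109237 → P i := stepQ 109236 Q109236 (allL N109236 (tt N82502 (iv1 F465918)) (tt N75205 (iv0 D212464)) (tt N80670 (iv2 F465919)) (tt N82069 F465916) (tt N105683 F465915) (tt N80913 F465914) (tt N79273 F465917) (tt N82075 (iv7 F465920)))
theorem Q109238 : ∀ i, i < 109238 → P i := stepQ 109237 Q109237 (allL N109237 (tt N75205 (iv1 D212465)) (tt N82502 F465921) (tt N82075 F465927) (tt N80907 (iv3 F465925)) (tt N101837 F465923) (tt N76898 F465924) (tt N109233 (iv6 F465926)) (tt N80670 F465922))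
theorem Q109239 : ∀ i, i < 109239 → P i := stepQ 109238 Q109238 (allL N109238 (tt N76652 F465930) (tt N96489 F465931) (tt N96403 F465928) (tt N95457 F465929) (tt N75209 (iv4 D212466)) (tt N121782 D225041) (tt N111543 (iv6 F476835)) (tt N109280 (iv7 F466164)))
theorem Q109240 : ∀ i, i < 109240 → P i := stepQ 109239 Q109239 (allL N109239 (tt N96339 F465936) (tt N96378 F465937) (tt N96366 F465932) (tt N95624 F465933) (tt N75215 (iv4 D212467)) (tt N116374 (iv5 F499769)) (tt N79580 F465934) (tt N79234 F465935))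
theorem Q109241 : ∀ i, i < 109241 → P i := stepQ 109240 Q109240 (allL N109240 (tt N79611 F465941) (tt N103114 (iv0 F465943)) (tt N116951 (iv2 F502666)) (tt N79581 F465938) (tt N83206 F465942) (tt N75216 (iv5 D212468)) (tt N75333 F465939) (tt N101890 F465940))
theorem Q109242 : ∀ i, i < 109242 → P i := stepQ 109241 Q109241 (allL N109241 (tt N96870 F465949) (tt N96869 F465950) (tt N96872 F465944) (tt N75226 (iv3 D212469)) (tt N84370 F465945) (tt N90674 F465946) (tt N84368 F465947) (tt N87753 F465948))
theorem Q109243 : ∀ i, i < 109243 → P i := stepQ 109242 Q109242 (allL N109242 (tt N109382 (iv1 F466680)) (tt N108267 F465952) (tt N75234 F465951) (tt N111777 F477924) (tt N115304 (iv4 F494481)) (tt N75233 (iv5 D212470)) (tt N113637 (iv6 F486421)) (tt N112358 (iv7 F480729)))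
theorem Q109244 : ∀ i, i < 109244 → P i := stepQ 109243 Q109243 (allL N109243 (tt N76128 F465957) (tt N98117 F465958) (tt N75235 F465953) (tt N97276 F465954) (tt N75249 F465955) (tt N97268 F465956) (tt N75233 (iv6 D212471)) (tt N109841 (iv7 F468855)))
theorem Q109245 : ∀ i, i < 109245 → P i := stepQ 109244 Q109244 (allL N109244 (tt N115260 F494250) (tt N117740 (iv0 F506730)) (tt N115304 (iv2 F494480)) (tt N97461 F465959) (tt N75234 (iv4 D212472)) (tt N97460 F465962) (tt N86645 F465960) (tt N97461 F465961))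
theorem Q109246 : ∀ i, i < 109246 → P i := stepQ 109245 Q109245 (allL N109245 (tt N81452 F465967) (tt N97262 F465968) (tt N97268 F465965) (tt N75239 F465966) (tt N119233 (iv4 F514514)) (tt N75235 (iv5 D212473)) (tt N113698 (iv6 F486693)) (tt N97269 F465969))
theorem Q109247 : ∀ i, i < 109247 → P i := stepQ 109246 Q109246 (allL N109246 (tt N98117 (iv1 F465974)) (tt N76128 F465975) (tt N109841 (iv2 F468851)) (tt N75240 F465970) (tt N75253 F465971) (tt N97269 F465972) (tt N98119 F465973) (tt N75235 (iv7 D212474)))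
theorem Q109248 : ∀ i, i < 109248 → P i := stepQ 109247 Q109247 (allL N109247 (tt N115760 (iv1 F496716)) (tt N75242 (iv0 D212475)) (tt N75911 (iv2 F465979)) (tt N82941 F465977) (tt N75855 F465976) (tt N97240 (iv5 F465980)) (tt N75854 F465978) (tt N99754 (iv7 F465981)))
theorem Q109249 : ∀ i, i < 109249 → P i := stepQ 109248 Q109248 (allL N109248 (tt N75242 (iv1 D212476)) (tt N115760 F496715) (tt N99754 (iv2 F465984)) (tt N115765 F496747) (tt N75913 F465983) (tt N116051 (iv5 F498240)) (tt N103005 (iv6 F465985)) (tt N75911 F465982))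
theorem Q109250 : ∀ i, i < 109250 → P i := stepQ 109249 Q109249 (allL N109249 (tt N119000 F513208) (tt N108547 F465989) (tt N106879 F465986) (tt N79963 F465987) (tt N112716 (iv4 F482328)) (tt N75242 (iv5 D212477)) (tt N87170 F465988) (tt N119004 (iv7 F513232)))
theorem Q109251 : ∀ i, i < 109251 → P i := stepQ 109250 Q109250 (allL N109250 (tt N99754 (iv1 F465992)) (tt N75911 F465993) (tt N115760 (iv2 F496711)) (tt N79964 F465990) (tt N75243 F465991) (tt N119004 (iv5 F513233)) (tt N115760 (iv6 F496714)) (tt N75242 (iv7 D212478)))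
theorem Q109252 : ∀ i, i < 109252 → P i := stepQ 109251 Q109251 (allL N109251 (tt N87743 F465999) (tt N87745 F466000) (tt N88376 F465994) (tt N78658 F465995) (tt N93001 F465996) (tt N75245 (iv5 D212479)) (tt N78657 F465997) (tt N87211 F465998))
theorem Q109253 : ∀ i, i < 109253 → P i := stepQ 109252 Q109252 (allL N109252 (tt N81456 F466005) (tt N82230 F466006) (tt N95270 F466001) (tt N97120 F466002) (tt N75252 (iv4 D212480)) (tt N95143 F466004) (tt N97405 F466003) (tt N112174 (iv7 F479898)))
theorem Q109254 : ∀ i, i < 109254 → P i := stepQ 109253 Q109253 (allL N109253 (tt N75260 (iv1 D212481)) (tt N94572 (iv0 F466012)) (tt N94089 F466011) (tt N76130 (iv3 F466008)) (tt N88526 F466007) (tt N103950 (iv5 F466009)) (tt N88525 (iv6 F466010)) (tt N111127 (iv7 F474815)))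
theorem Q109255 : ∀ i, i < 109255 → P i := stepQ 109254 Q109254 (allL N109254 (tt N111127 (iv1 F474817)) (tt N94089 F466017) (tt N75260 (iv2 D212482)) (tt N108748 F466013) (tt N105065 F466014) (tt N94076 F466015) (tt N110225 (iv6 F470517)) (tt N94572 F466016))
theorem Q109256 : ∀ i, i < 109256 → P i := stepQ 109255 Q109255 (allL N109255 (tt N87569 F466023) (tt N87568 F466024) (tt N87570 F466018) (tt N100660 F466019) (tt N87148 F466020) (tt N75262 (iv5 D212483)) (tt N87553 F466021) (tt N87146 F466022))
theorem Q109257 : ∀ i, i < 109257 → P i := stepQ 109256 Q109256 (allL N109256 (tt N77179 F466029) (tt N77184 F466030) (tt N75333 F466025) (tt N81115 F466026) (tt N107453 F466028) (tt N75271 (iv5 D212484)) (tt N116951 F502665) (tt N75460 F466027))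
theorem Q109258 : ∀ i, i < 109258 → P i := stepQ 109257 Q109257 (allL N109257 (tt N80198 F466034) (tt N75497 F466035) (tt N75361 F466031) (tt N84124 F466032) (tt N109690 (iv4 F468126)) (tt N80178 F466033) (tt N75272 (iv6 D212485)) (tt N112377 (iv7 F480807)))
theorem Q109259 : ∀ i, i < 109259 → P i := stepQ 109258 Q109258 (allL N109258 (tt N108920 F466040) (tt N78230 F466041) (tt N75352 F466036) (tt N99499 (iv3 F466042)) (tt N75280 (iv4 D212486)) (tt N90306 F466037) (tt N80355 F466038) (tt N75349 F466039))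
theorem Q109260 : ∀ i, i < 109260 → P i := stepQ 109259 Q109259 (allL N109259 (tt N75358 (iv1 F466045)) (tt N75282 (iv0 D212487)) (tt N75354 (iv2 F466044)) (tt N96162 (iv3 F466047)) (tt N102997 F466043) (tt N120071 (iv5 F518891)) (tt N101790 F466048) (tt N75355 F466046))
theorem Q109261 : ∀ i, i < 109261 → P i := stepQ 109260 Q109260 (allL N109260 (tt N117366 (iv1 F504691)) (tt N120016 (iv0 F518573)) (tt N120802 (iv2 F522797)) (tt N119302 (iv3 F514926)) (tt N110560 (iv4 F472144)) (tt N75286 (iv5 D212488)) (tt N121755 (iv6 F528122)) (tt N119556 (iv7 F516232)))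
theorem Q109262 : ∀ i, i < 109262 → P i := stepQ 109261 Q109261 (allL N109261 (tt N120016 (iv1 F518574)) (tt N117366 (iv0 F504690)) (tt N119556 (iv2 F516229)) (tt N76311 F466049) (tt N118415 (iv4 F510229)) (tt N75290 (iv5 D212489)) (tt N100949 F466050) (tt N120802 (iv7 F522801)))
theorem Q109263 : ∀ i, i < 109263 → P i := stepQ 109262 Q109262 (allL N109262 (tt N79775 F466056) (tt N80979 (iv0 F466057)) (tt N75297 F466051) (tt N75391 F466052) (tt N79335 F466053) (tt N108680 F466054) (tt N75293 (iv6 D212490)) (tt N81800 F466055))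
theorem Q109264 : ∀ i, i < 109264 → P i := stepQ 109263 Q109263 (allL N109263 (tt N75294 (iv1 D212491)) (tt N75301 F466058) (tt N75299 F466064) (tt N85361 (iv3 F466060)) (tt N85371 (iv4 F466061)) (tt N94086 (iv5 F466062)) (tt N81288 (iv6 F466063)) (tt N75298 F466059))
theorem Q109265 : ∀ i, i < 109265 → P i := stepQ 109264 Q109264 (allL N109264 (tt N119689 F516934) (tt N76649 (iv0 F466069)) (tt N80878 F466065) (tt N75298 (iv3 D212492)) (tt N76640 F466068) (tt N118432 (iv5 F510324)) (tt N76638 F466066) (tt N85361 F466067))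
theorem Q109266 : ∀ i, i < 109266 → P i := stepQ 109265 Q109265 (allL N109265 (tt N113719 F486818) (tt N114017 F488214) (tt N81357 F466070) (tt N84378 F466071) (tt N75298 (iv4 D212493)) (tt N84377 F466074) (tt N81299 F466072) (tt N85371 F466073))
theorem Q109267 : ∀ i, i < 109267 → P i := stepQ 109266 Q109266 (allL N109266 (tt N75307 (iv1 D212494)) (tt N75424 (iv0 F466079)) (tt N75423 F466078) (tt N119689 (iv3 F516929)) (tt N84123 (iv4 F466076)) (tt N119239 (iv5 F514556)) (tt N82013 (iv6 F466077)) (tt N75373 F466075))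
theorem Q109268 : ∀ i, i < 109268 → P i := stepQ 109267 Q109267 (allL N109267 (tt N75373 (iv1 F466084)) (tt N75423 F466083) (tt N75307 (iv2 D212495)) (tt N75437 F466080) (tt N110275 (iv4 F470782)) (tt N91378 F466081) (tt N81047 F466085) (tt N75424 F466082))
theorem Q109269 : ∀ i, i < 109269 → P i := stepQ 109268 Q109268 (allL N109268 (tt N81045 F466090) (tt N81044 (iv0 F466091)) (tt N81047 F466086) (tt N75310 F466087) (tt N110273 (iv4 F470770)) (tt N81042 F466088) (tt N75307 (iv6 D212496)) (tt N81041 F466089))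
theorem Q109270 : ∀ i, i < 109270 → P i := stepQ 109269 Q109269 (allL N109269 (tt N111597 F477093) (tt N119239 (iv0 F514558)) (tt N75673 F466092) (tt N75312 (iv3 D212497)) (tt N106690 F466096) (tt N83303 F466093) (tt N102633 F466094) (tt N75442 F466095))
theorem Q109271 : ∀ i, i < 109271 → P i := stepQ 109270 Q109270 (allL N109270 (tt N107332 (iv1 F466103)) (tt N99440 (iv0 F466102)) (tt N95005 F466097) (tt N75313 (iv3 D212498)) (tt N107545 F466098) (tt N77408 F466099) (tt N106768 F466100) (tt N77407 F466101))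
theorem Q109272 : ∀ i, i < 109272 → P i := stepQ 109271 Q109271 (allL N109271 (tt N77184 F466109) (tt N77179 F466110) (tt N75460 F466105) (tt N102683 F466106) (tt N107454 F466107) (tt N75318 (iv5 D212499)) (tt N119379 (iv6 F515317)) (tt N75333 F466108))
theorem Q109273 : ∀ i, i < 109273 → P i := stepQ 109272 Q109272 (allL N109272 (tt N90305 F466114) (tt N93756 (iv0 F466115)) (tt N93769 F466116) (tt N75328 (iv3 D212500)) (tt N75356 F466111) (tt N119053 (iv5 F513519)) (tt N75513 F466112) (tt N93770 F466113))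
theorem Q109274 : ∀ i, i < 109274 → P i := stepQ 109273 Q109273 (allL N109273 (tt N108834 F466120) (tt N117558 (iv0 F505692)) (tt N77506 F466117) (tt N119053 (iv3 F513518)) (tt N87460 F466119) (tt N75328 (iv5 D212501)) (tt N108974 F466121) (tt N99470 F466118))
theorem Q109275 : ∀ i, i < 109275 → P i := stepQ 109274 Q109274 (allL N109274 (tt N80765 (iv1 F466126)) (tt N80761 F466127) (tt N111473 (iv2 F476502)) (tt N75331 F466122) (tt N78161 F466123) (tt N91526 F466124) (tt N75459 F466125) (tt N75329 (iv7 D212502)))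
theorem Q109276 : ∀ i, i < 109276 → P i := stepQ 109275 Q109275 (allL N109275 (tt N80190 (iv1 F466133)) (tt N80177 F466134) (tt N80164 F466128) (tt N91526 F466129) (tt N80153 F466130) (tt N75331 F466131) (tt N97082 F466132) (tt N75330 (iv7 D212503)))
theorem Q109277 : ∀ i, i < 109277 → P i := stepQ 109276 Q109276 (allL N109276 (tt N84765 (iv1 F466139)) (tt N75332 (iv0 D212504)) (tt N100497 (iv2 F466138)) (tt N75602 F466137) (tt N100658 F466136) (tt N94094 F466135) (tt N79898 (iv6 F466141)) (tt N75611 F466140))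
theorem Q109278 : ∀ i, i < 109278 → P i := stepQ 109277 Q109277 (allL N109277 (tt N102684 F466146) (tt N102679 F466147) (tt N102682 F466142) (tt N75333 F466143) (tt N112937 (iv4 F483310)) (tt N75332 (iv5 D212505)) (tt N79581 F466144) (tt N102683 F466145))
theorem Q109279 : ∀ i, i < 109279 → P i := stepQ 109278 Q109278 (allL N109278 (tt N79777 F466153) (tt N80077 (iv0 F466154)) (tt N79832 F466149) (tt N75335 F466150) (tt N94823 F466151) (tt N105708 F466152) (tt N75334 (iv6 D212506)) (tt N80076 F466155))
theorem Q109280 : ∀ i, i < 109280 → P i := stepQ 109279 Q109279 (allL N109279 (tt N103426 F466161) (tt N96986 F466162) (tt N84088 F466156) (tt N105708 F466157) (tt N84098 F466158) (tt N75335 (iv5 D212507)) (tt N103425 F466159) (tt N103140 F466160))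
theorem Q109281 : ∀ i, i < 109281 → P i := stepQ 109280 Q109280 (allL N109280 (tt N109855 (iv1 F468937)) (tt N109806 (iv0 F468713)) (tt N109854 F468929) (tt N96748 F466163) (tt N75336 (iv4 D212508)) (tt N119143 (iv5 F514014)) (tt N120550 (iv6 F521399)) (tt N109238 F466164))
theorem Q109282 : ∀ i, i < 109282 → P i := stepQ 109281 Q109281 (allL N109281 (tt N88642 F466167) (tt N105173 (iv0 F466168)) (tt N100485 F466165) (tt N88476 F466166) (tt N110055 (iv4 F469759)) (tt N112129 (iv5 F479641)) (tt N75340 (iv6 D212509)) (tt N112071 (iv7 F479353)))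
theorem Q109283 : ∀ i, i < 109283 → P i := stepQ 109282 Q109282 (allL N109282 (tt N81047 F466172) (tt N81041 (iv0 F466173)) (tt N81044 F466169) (tt N116030 (iv3 F498135)) (tt N105174 F466170) (tt N110535 (iv5 F472040)) (tt N75347 (iv6 D212510)) (tt N81045 F466171))
theorem Q109284 : ∀ i, i < 109284 → P i := stepQ 109283 Q109283 (allL N109283 (tt N78342 F466177) (tt N110949 (iv0 F473925)) (tt N120071 (iv2 F518889)) (tt N94497 F466174) (tt N99893 F466176) (tt N75354 (iv5 D212511)) (tt N90332 F466178) (tt N108297 F466175))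
theorem Q109285 : ∀ i, i < 109285 → P i := stepQ 109284 Q109284 (allL N109284 (tt N110949 (iv1 F473926)) (tt N78342 F466182) (tt N108297 F466179) (tt N96161 F466180) (tt N99892 F466181) (tt N75355 (iv5 D212512)) (tt N120961 (iv6 F523723)) (tt N120071 (iv7 F518893)))
theorem Q109286 : ∀ i, i < 109286 → P i := stepQ 109285 Q109285 (allL N109285 (tt N75361 (iv1 D212513)) (tt N112377 (iv0 F480808)) (tt N75497 F466187) (tt N80197 (iv3 F466185)) (tt N82035 (iv4 F466184)) (tt N100705 (iv5 F466186)) (tt N110253 (iv6 F470651)) (tt N80198 F466183))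
theorem Q109287 : ∀ i, i < 109287 → P i := stepQ 109286 Q109286 (allL N109286 (tt N75497 (iv1 F466191)) (tt N80198 F466192) (tt N112377 (iv2 F480803)) (tt N80172 F466188) (tt N109550 (iv4 F467468)) (tt N80170 F466189) (tt N75481 F466190) (tt N75361 (iv7 D212514)))
theorem Q109288 : ∀ i, i < 109288 → P i := stepQ 109287 Q109287 (allL N109287 (tt N82043 F466199) (tt N75363 (iv0 D212515)) (tt N90396 (iv2 F466197)) (tt N80939 F466195) (tt N103238 F466194) (tt N79497 F466193) (tt N80716 F466196) (tt N90503 (iv7 F466198)))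
theorem Q109289 : ∀ i, i < 109289 → P i := stepQ 109288 Q109288 (allL N109288 (tt N75363 (iv1 D212516)) (tt N82043 F466200) (tt N90503 F466206) (tt N81785 (iv3 F466204)) (tt N102135 F466203) (tt N79498 F466202) (tt N80731 (iv6 F466205)) (tt N90396 F466201))
theorem Q109290 : ∀ i, i < 109290 → P i := stepQ 109289 Q109289 (allL N109289 (tt N90503 (iv1 F466211)) (tt N90396 F466212) (tt N82043 F466207) (tt N75366 F466208) (tt N111421 (iv4 F476277)) (tt N90562 F466209) (tt N80669 F466210) (tt N75363 (iv7 D212517)))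
theorem Q109291 : ∀ i, i < 109291 → P i := stepQ 109290 Q109290 (allL N109290 (tt N97085 F466218) (tt N97087 (iv0 F466219)) (tt N81777 F466213) (tt N80783 F466214) (tt N79503 F466215) (tt N81076 F466216) (tt N75365 (iv6 D212518)) (tt N97086 F466217))
theorem Q109292 : ∀ i, i < 109292 → P i := stepQ 109291 Q109291 (allL N109291 (tt N80878 F466223) (tt N85361 (iv0 F466225)) (tt N76649 F466220) (tt N75373 F466221) (tt N86471 F466222) (tt N98076 F466224) (tt N75371 (iv6 D212519)) (tt N119689 (iv7 F516932)))
theorem Q109293 : ∀ i, i < 109293 → P i := stepQ 109292 Q109292 (allL N109292 (tt N75442 F466229) (tt N75673 F466228) (tt N111597 (iv2 F477088)) (tt N98076 F466226) (tt N117442 (iv4 F505047)) (tt N75373 (iv5 D212520)) (tt N81787 F466227) (tt N119239 (iv7 F514557)))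
theorem Q109294 : ∀ i, i < 109294 → P i := stepQ 109293 Q109293 (allL N109293 (tt N110269 (iv1 F470743)) (tt N108070 F466234) (tt N75376 F466230) (tt N99855 F466231) (tt N115342 (iv4 F494689)) (tt N75374 (iv5 D212521)) (tt N82901 F466232) (tt N76932 F466233))
theorem Q109295 : ∀ i, i < 109295 → P i := stepQ 109294 Q109294 (allL N109294 (tt N75425 (iv1 F466238)) (tt N110275 F470784) (tt N110268 (iv2 F470736)) (tt N119546 (iv3 F516172)) (tt N103126 F466235) (tt N91429 F466237) (tt N75375 (iv6 D212522)) (tt N84472 F466236))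
theorem Q109296 : ∀ i, i < 109296 → P i := stepQ 109295 Q109295 (allL N109295 (tt N75376 (iv1 D212523)) (tt N76932 F466239) (tt N108070 (iv2 F466243)) (tt N107282 F466242) (tt N114275 (iv4 F489343)) (tt N81521 F466240) (tt N104387 (iv6 F466241)) (tt N110269 (iv7 F470744)))
theorem Q109297 : ∀ i, i < 109297 → P i := stepQ 109296 Q109296 (allL N109296 (tt N99893 F466248) (tt N99892 F466249) (tt N99853 F466244) (tt N99879 F466245) (tt N116986 (iv4 F502837)) (tt N75377 (iv5 D212524)) (tt N106477 F466246) (tt N76930 F466247))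
theorem Q109298 : ∀ i, i < 109298 → P i := stepQ 109297 Q109297 (allL N109297 (tt N79340 F466256) (tt N79336 F466257) (tt N79337 F466251) (tt N81712 F466252) (tt N77598 F466253) (tt N75386 (iv5 D212525)) (tt N103889 F466254) (tt N79338 F466255))
theorem Q109299 : ∀ i, i < 109299 → P i := stepQ 109298 Q109298 (allL N109298 (tt N75401 F466261) (tt N81364 (iv0 F466262)) (tt N111920 (iv2 F478651)) (tt N80903 F466258) (tt N94107 F466259) (tt N111975 (iv5 F478932)) (tt N75388 (iv6 D212526)) (tt N81466 F466260))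
theorem Q109300 : ∀ i, i < 109300 → P i := stepQ 109299 Q109299 (allL N109299 (tt N111920 F478657) (tt N81466 (iv0 F466268)) (tt N81364 (iv2 F466267)) (tt N75393 (iv3 D212527)) (tt N104761 F466266) (tt N81241 F466263) (tt N78573 F466264) (tt N75401 F466265))
theorem Q109301 : ∀ i, i < 109301 → P i := stepQ 109300 Q109300 (allL N109300 (tt N80438 F466274) (tt N75665 F466275) (tt N75406 F466269) (tt N103007 F466270) (tt N75393 (iv4 D212528)) (tt N79364 F466271) (tt N75888 F466272) (tt N75402 F466273))
theorem Q109302 : ∀ i, i < 109302 → P i := stepQ 109301 Q109301 (allL N109301 (tt N81466 (iv1 F466280)) (tt N111920 (iv0 F478656)) (tt N75401 (iv2 D212529)) (tt N95641 F466276) (tt N104762 F466277) (tt N112721 (iv5 F482351)) (tt N80890 F466278) (tt N81364 F466279))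
theorem Q109303 : ∀ i, i < 109303 → P i := stepQ 109302 Q109302 (allL N109302 (tt N75631 F466286) (tt N103003 (iv0 F466287)) (tt N103004 F466281) (tt N75402 (iv3 D212530)) (tt N104772 F466282) (tt N80448 F466283) (tt N101176 F466284) (tt N103007 F466285))
theorem Q109304 : ∀ i, i < 109304 → P i := stepQ 109303 Q109303 (allL N109303 (tt N75405 (iv1 D212531)) (tt N95641 (iv0 F466293)) (tt N118457 (iv2 F510472)) (tt N75423 (iv3 F466291)) (tt N102979 (iv4 F466290)) (tt N102694 F466289) (tt N85667 (iv6 F466292)) (tt N92066 F466288))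
theorem Q109305 : ∀ i, i < 109305 → P i := stepQ 109304 Q109304 (allL N109304 (tt N92066 (iv1 F466298)) (tt N118457 F510476) (tt N75405 (iv2 D212532)) (tt N81364 F466294) (tt N95618 F466295) (tt N120206 (iv5 F519589)) (tt N81304 F466296) (tt N95641 F466297))
theorem Q109306 : ∀ i, i < 109306 → P i := stepQ 109305 Q109305 (allL N109305 (tt N94573 F466303) (tt N91377 (iv0 F466304)) (tt N120206 (iv2 F519586)) (tt N75407 F466299) (tt N78148 F466302) (tt N75405 (iv5 D212533)) (tt N81274 F466300) (tt N94092 F466301))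
theorem Q109307 : ∀ i, i < 109307 → P i := stepQ 109306 Q109306 (allL N109306 (tt N88175 F466310) (tt N88179 (iv0 F466311)) (tt N96954 F466305) (tt N75415 (iv3 D212534)) (tt N96351 F466306) (tt N109020 F466307) (tt N91947 F466308) (tt N96608 F466309))
theorem Q109308 : ∀ i, i < 109308 → P i := stepQ 109307 Q109307 (allL N109307 (tt N121599 F527259) (tt N111584 (iv0 F477019)) (tt N117525 (iv2 F505511)) (tt N81242 F466312) (tt N75416 (iv4 D212535)) (tt N121596 (iv5 F527236)) (tt N96138 F466313) (tt N112178 (iv7 F479916)))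
theorem Q109309 : ∀ i, i < 109309 → P i := stepQ 109308 Q109308 (allL N109308 (tt N102132 F466318) (tt N102134 (iv0 F466319)) (tt N80927 F466314) (tt N75418 (iv3 D212536)) (tt N92074 F466315) (tt N93606 F466320) (tt N83716 F466316) (tt N108936 F466317))
theorem Q109310 : ∀ i, i < 109310 → P i := stepQ 109309 Q109309 (allL N109309 (tt N93934 F466327) (tt N93938 F466326) (tt N81794 F466321) (tt N93606 F466322) (tt N91610 F466325) (tt N75418 (iv5 D212537)) (tt N87630 F466323) (tt N85624 F466324))
theorem Q109311 : ∀ i, i < 109311 → P i := stepQ 109310 Q109310 (allL N109310 (tt N90339 F466331) (tt N106750 F466332) (tt N90388 F466328) (tt N96246 F466329) (tt N119299 (iv4 F514909)) (tt N75421 (iv5 D212538)) (tt N90229 (iv6 F466333)) (tt N106733 F466330))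
theorem Q109312 : ∀ i, i < 109312 → P i := stepQ 109311 Q109311 (allL N109311 (tt N75673 F466336) (tt N75442 F466337) (tt N119239 (iv2 F514553)) (tt N102694 F466334) (tt N117472 (iv4 F505205)) (tt N75423 (iv5 D212539)) (tt N82155 F466335) (tt N111597 (iv7 F477091)))
theorem Q109313 : ∀ i, i < 109313 → P i := stepQ 109312 Q109312 (allL N109312 (tt N113267 F484792) (tt N120072 (iv0 F518901)) (tt N110274 (iv2 F470775)) (tt N109845 F468879) (tt N118693 (iv4 F511577)) (tt N75425 (iv5 D212540)) (tt N91733 F466338) (tt N120546 (iv7 F521374)))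
theorem Q109314 : ∀ i, i < 109314 → P i := stepQ 109313 Q109313 (allL N109313 (tt N103180 F466341) (tt N101313 F466343) (tt N109469 (iv2 F467125)) (tt N75429 F466339) (tt N76785 F466342) (tt N75428 (iv5 D212541)) (tt N76104 F466340) (tt N109467 (iv7 F467116)))
theorem Q109315 : ∀ i, i < 109315 → P i := stepQ 109314 Q109314 (allL N109314 (tt N113293 (iv1 F484890)) (tt N97298 (iv0 F466347)) (tt N117241 F504071) (tt N75433 (iv3 D212542)) (tt N91654 F466344) (tt N77398 F466345) (tt N91066 (iv6 F466346)) (tt N112123 F479607))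
theorem Q109316 : ∀ i, i < 109316 → P i := stepQ 109315 Q109315 (allL N109315 (tt N111843 (iv1 F478266)) (tt N111844 (iv0 F478272)) (tt N102799 F466349) (tt N91066 F466350) (tt N75434 F466351) (tt N114901 (iv5 F492430)) (tt N75433 (iv6 D212543)) (tt N91710 F466352))
theorem Q109317 : ∀ i, i < 109317 → P i := stepQ 109316 Q109316 (allL N109316 (tt N119983 (iv1 F518380)) (tt N117082 (iv0 F503285)) (tt N119984 (iv2 F518386)) (tt N75443 (iv3 D212544)) (tt N121700 (iv4 F527826)) (tt N77388 F466354) (tt N117195 F503856) (tt N119982 (iv7 F518377)))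
theorem Q109318 : ∀ i, i < 109318 → P i := stepQ 109317 Q109317 (allL N109317 (tt N112165 (iv1 F479849)) (tt N112166 (iv0 F479855)) (tt N83318 F466355) (tt N117195 F503855) (tt N75445 F466356) (tt N82706 F466357) (tt N75443 (iv6 D212545)) (tt N102760 F466358))
theorem Q109319 : ∀ i, i < 109319 → P i := stepQ 109318 Q109318 (allL N109318 (tt N90809 F466361) (tt N106755 (iv0 F466363)) (tt N90843 (iv2 F466364)) (tt N75447 (iv3 D212546)) (tt N91932 F466362) (tt N77461 F466359) (tt N115071 F493341) (tt N90844 F466360))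
theorem Q109320 : ∀ i, i < 109320 → P i := stepQ 109319 Q109319 (allL N109319 (tt N107383 (iv1 F466369)) (tt N94067 (iv0 F466368)) (tt N81065 F466365) (tt N115071 (iv3 F493342)) (tt N77449 F466366) (tt N112995 (iv5 F483475)) (tt N75447 (iv6 D212547)) (tt N81066 F466367))
theorem Q109321 : ∀ i, i < 109321 → P i := stepQ 109320 Q109320 (allL N109320 (tt N107616 F466372) (tt N107025 (iv0 F466373)) (tt N116857 (iv2 F502199)) (tt N75448 (iv3 D212548)) (tt N120112 (iv4 F519108)) (tt N77432 F466370) (tt N102748 F466371) (tt N113430 (iv7 F485463)))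
theorem Q109322 : ∀ i, i < 109322 → P i := stepQ 109321 Q109321 (allL N109321 (tt N110244 F470610) (tt N83350 (iv0 F466379)) (tt N77410 F466374) (tt N107331 F466375) (tt N77164 F466376) (tt N90229 F466377) (tt N75449 (iv6 D212549)) (tt N90390 F466378))
theorem Q109323 : ∀ i, i < 109323 → P i := stepQ 109322 Q109322 (allL N109322 (tt N115626 (iv1 F496036)) (tt N115625 (iv0 F496028)) (tt N114216 (iv2 F489035)) (tt N75456 F466380) (tt N95664 F466383) (tt N75455 (iv5 D212550)) (tt N95429 F466381) (tt N102981 F466382))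
theorem Q109324 : ∀ i, i < 109324 → P i := stepQ 109323 Q109323 (allL N109323 (tt N121783 D225042) (tt N114134 (iv0 F488688)) (tt N87497 F466384) (tt N95429 F466385) (tt N104883 F466386) (tt N83598 F466387) (tt N75456 (iv6 D212551)) (tt N84635 F466388))
theorem Q109325 : ∀ i, i < 109325 → P i := stepQ 109324 Q109324 (allL N109324 (tt N75459 (iv1 D212552)) (tt N109856 (iv0 F468941)) (tt N80912 F466391) (tt N112113 (iv3 F479544)) (tt N111919 (iv4 F478646)) (tt N112180 (iv5 F479923)) (tt N80325 (iv6 F466390)) (tt N88645 F466389))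
theorem Q109326 : ∀ i, i < 109326 → P i := stepQ 109325 Q109325 (allL N109325 (tt N88645 (iv1 F466396)) (tt N80912 F466395) (tt N75459 (iv2 D212553)) (tt N84765 F466392) (tt N84768 F466393) (tt N81114 F466394) (tt N111473 (iv6 F476506)) (tt N109856 F468944))
theorem Q109327 : ∀ i, i < 109327 → P i := stepQ 109326 Q109326 (allL N109326 (tt N116698 F501369) (tt N105439 (iv0 F466462)) (tt N117600 (iv2 F505932)) (tt N108101 F466397) (tt N75461 (iv4 D212554)) (tt N91900 F466399) (tt N108099 F466398) (tt N116826 (iv7 F502032)))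
theorem Q109328 : ∀ i, i < 109328 → P i := stepQ 109327 Q109327 (allL N109327 (tt N86315 F466404) (tt N86318 (iv0 F466405)) (tt N80133 F466400) (tt N86336 F466401) (tt N75466 F466402) (tt N109551 (iv5 F467474)) (tt N75465 (iv6 D212555)) (tt N83276 F466403))
theorem Q109329 : ∀ i, i < 109329 → P i := stepQ 109328 Q109328 (allL N109328 (tt N109703 F468199) (tt N75471 (iv0 D212556)) (tt N110406 (iv2 F471428)) (tt N94165 F466408) (tt N104811 F466407) (tt N90629 F466406) (tt N110263 (iv6 F470707)) (tt N109772 (iv7 F468542)))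
theorem Q109330 : ∀ i, i < 109330 → P i := stepQ 109329 Q109329 (allL N109329 (tt N110406 F471434) (tt N109772 F468544) (tt N75471 (iv2 D212557)) (tt N80621 F466409) (tt N80919 F466410) (tt N113378 (iv5 F485265)) (tt N80618 F466411) (tt N109703 (iv7 F468197)))
theorem Q109331 : ∀ i, i < 109331 → P i := stepQ 109330 Q109330 (allL N109330 (tt N117310 (iv1 F504402)) (tt N103189 F466414) (tt N117101 (iv2 F503389)) (tt N116479 (iv3 F500351)) (tt N75483 (iv4 D212558)) (tt N121784 D225043) (tt N90488 F466412) (tt N80136 F466413))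
theorem Q109332 : ∀ i, i < 109332 → P i := stepQ 109331 Q109331 (allL N109331 (tt N112710 F482300) (tt N115113 (iv0 F493547)) (tt N116413 (iv2 F499971)) (tt N75485 (iv3 D212559)) (tt N116479 (iv4 F500352)) (tt N77402 F466415) (tt N83277 F466416) (tt N115120 (iv7 F493588)))
theorem Q109333 : ∀ i, i < 109333 → P i := stepQ 109332 Q109332 (allL N109332 (tt N75498 (iv1 F466420)) (tt N75493 (iv0 D212560)) (tt N81995 (iv2 F466419)) (tt N111092 (iv3 F474622)) (tt N80096 F466418) (tt N108684 F466417) (tt N103250 (iv6 F466421)) (tt N111091 (iv7 F474618)))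
theorem Q109334 : ∀ i, i < 109334 → P i := stepQ 109333 Q109333 (allL N109333 (tt N87802 F466425) (tt N82005 F466424) (tt N100705 F466422) (tt N75498 F466423) (tt N101666 F466427) (tt N75497 (iv5 D212561)) (tt N100704 (iv6 F466426)) (tt N115057 (iv7 F493272)))
theorem Q109335 : ∀ i, i < 109335 → P i := stepQ 109334 Q109334 (allL N109334 (tt N100800 F466432) (tt N100801 F466433) (tt N102339 F466430) (tt N111831 F478197) (tt N75498 (iv4 D212562)) (tt N82548 F466431) (tt N102332 F466435) (tt N111840 (iv7 F478242)))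
theorem Q109336 : ∀ i, i < 109336 → P i := stepQ 109335 Q109335 (allL N109335 (tt N82470 F466439) (tt N82465 (iv0 F466440)) (tt N82467 F466436) (tt N100704 F466437) (tt N102332 F466438) (tt N110396 (iv5 F471386)) (tt N75498 (iv6 D212563)) (tt N82468 F466441))
theorem Q109337 : ∀ i, i < 109337 → P i := stepQ 109336 Q109336 (allL N109336 (tt N81980 F466444) (tt N81985 (iv0 F466445)) (tt N81982 (iv2 F466447)) (tt N75501 (iv3 D212564)) (tt N114931 (iv4 F492604)) (tt N101666 F466446) (tt N108986 F466442) (tt N81981 F466443))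
theorem Q109338 : ∀ i, i < 109338 → P i := stepQ 109337 Q109337 (allL N109337 (tt N107568 F466451) (tt N107818 F466452) (tt N109624 (iv2 F467795)) (tt N101666 F466448) (tt N111831 (iv4 F478196)) (tt N75501 (iv5 D212565)) (tt N94732 F466449) (tt N108162 F466450))
theorem Q109339 : ∀ i, i < 109339 → P i := stepQ 109338 Q109338 (allL N109338 (tt N94462 F466456) (tt N94454 F466457) (tt N94459 F466453) (tt N117880 (iv3 F507400)) (tt N75502 (iv4 D212566)) (tt N121785 D225044) (tt N100069 F466454) (tt N94460 F466455))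
theorem Q109340 : ∀ i, i < 109340 → P i := stepQ 109339 Q109339 (allL N109339 (tt N121786 D225045) (tt N118583 (iv0 F511008)) (tt N120551 (iv2 F521404)) (tt N75503 (iv3 D212567)) (tt N117880 (iv4 F507401)) (tt N111014 F474260) (tt N108137 F466458) (tt N109623 (iv7 F467793)))
theorem Q109341 : ∀ i, i < 109341 → P i := stepQ 109340 Q109340 (allL N109340 (tt N94536 F466463) (tt N116696 (iv0 F501356)) (tt N108928 (iv2 F466464)) (tt N75505 (iv3 D212568)) (tt N107238 F466459) (tt N93828 F466460) (tt N93609 F466461) (tt N110896 (iv7 F473660)))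
theorem Q109342 : ∀ i, i < 109342 → P i := stepQ 109341 Q109341 (allL N109341 (tt N82543 (iv1 F466473)) (tt N75507 (iv0 D212569)) (tt N107916 (iv2 F466472)) (tt N118225 (iv3 F509233)) (tt N100798 F466470) (tt N99355 F466469) (tt N96542 F466471) (tt N99354 F466474))
theorem Q109343 : ∀ i, i < 109343 → P i := stepQ 109342 Q109342 (allL N109342 (tt N75509 (iv1 D212570)) (tt N77479 (iv0 F466477)) (tt N77477 (iv2 F466478)) (tt N86257 (iv3 F466476)) (tt N116842 (iv4 F502127)) (tt N110465 F471711) (tt N119069 (iv6 F513617)) (tt N77478 F466475))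
theorem Q109344 : ∀ i, i < 109344 → P i := stepQ 109343 Q109343 (allL N109343 (tt N77478 (iv1 F466484)) (tt N77477 F466483) (tt N75509 (iv2 D212571)) (tt N77467 F466479) (tt N108758 F466480) (tt N85081 F466481) (tt N108993 (iv6 F466485)) (tt N77479 F466482))
theorem Q109345 : ∀ i, i < 109345 → P i := stepQ 109344 Q109344 (allL N109344 (tt N117866 (iv1 F507345)) (tt N117864 (iv0 F507338)) (tt N108993 F466486) (tt N75510 F466487) (tt N99732 F466488) (tt N95791 (iv5 F466489)) (tt N75509 (iv6 D212572)) (tt N108698 (iv7 F466490)))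
theorem Q109346 : ∀ i, i < 109346 → P i := stepQ 109345 Q109345 (allL N109345 (tt N77473 (iv1 F466495)) (tt N75510 (iv0 D212573)) (tt N77470 (iv2 F466493)) (tt N86164 (iv3 F466496)) (tt N99615 F466492) (tt N90204 F466491) (tt N110842 (iv6 F473413)) (tt N77471 F466494))
theorem Q109347 : ∀ i, i < 109347 → P i := stepQ 109346 Q109346 (allL N109346 (tt N77471 (iv1 F466502)) (tt N77470 F466503) (tt N77473 F466497) (tt N108698 F466498) (tt N75512 F466499) (tt N78350 F466500) (tt N77485 F466501) (tt N75510 (iv7 D212574)))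
theorem Q109348 : ∀ i, i < 109348 → P i := stepQ 109347 Q109347 (allL N109347 (tt N101342 (iv1 F471725)) (tt N101341 (iv0 F466506)) (tt N77504 F466504) (tt N111230 (iv3 F475333)) (tt N109634 (iv4 F467856)) (tt N108974 F466505) (tt N75514 (iv6 D212575)) (tt N101340 (iv7 F471585)))
theorem Q109349 : ∀ i, i < 109349 → P i := stepQ 109348 Q109348 (allL N109348 (tt N75515 (iv1 D212576)) (tt N80403 F466507) (tt N80406 F466511) (tt N76291 (iv3 F466509)) (tt N110590 (iv4 F472265)) (tt N109791 (iv5 F468629)) (tt N107937 (iv6 F466510)) (tt N77693 F466508))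
theorem Q109350 : ∀ i, i < 109350 → P i := stepQ 109349 Q109349 (allL N109349 (tt N77501 (iv1 F466513)) (tt N75516 (iv0 D212577)) (tt N77500 (iv2 F466514)) (tt N91362 F466512) (tt N116644 (iv4 F501114)) (tt N110217 (iv5 F471607)) (tt N121786 F528312) (tt N77499 (iv7 F466515)))
theorem Q109351 : ∀ i, i < 109351 → P i := stepQ 109350 Q109350 (allL N109350 (tt N75516 (iv1 D212578)) (tt N77501 F466520) (tt N77499 F466518) (tt N77737 (iv3 F466517)) (tt N116645 (iv4 F501120)) (tt N110218 (iv5 F470478)) (tt N105442 F466519) (tt N77500 F466516))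
theorem Q109352 : ∀ i, i < 109352 → P i := stepQ 109351 Q109351 (allL N109351 (tt N77500 (iv1 F466525)) (tt N77499 F466524) (tt N75516 (iv2 D212579)) (tt N77487 F466521) (tt N94314 F466522) (tt N114975 (iv5 F492861)) (tt N91511 F466534) (tt N77501 F466523))
theorem Q109353 : ∀ i, i < 109353 → P i := stepQ 109352 Q109352 (allL N109352 (tt N110438 (iv1 F471708)) (tt N110439 F471712) (tt N114975 (iv2 F492860)) (tt N75517 F466526) (tt N121138 (iv4 F524721)) (tt N75516 (iv5 D212580)) (tt N121787 D225046) (tt N77502 F466527))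
theorem Q109354 : ∀ i, i < 109354 → P i := stepQ 109353 Q109353 (allL N109353 (tt N117607 (iv1 F505975)) (tt N81280 (iv0 F466533)) (tt N91511 (iv2 F466532)) (tt N75518 F466528) (tt N108998 F466529) (tt N91502 (iv5 F466530)) (tt N75516 (iv6 D212581)) (tt N80408 (iv7 F466531)))
theorem Q109355 : ∀ i, i < 109355 → P i := stepQ 109354 Q109354 (allL N109354 (tt N96669 (iv1 F466539)) (tt N95719 (iv0 F466538)) (tt N77490 F466535) (tt N121787 (iv3 F528314)) (tt N96537 F466536) (tt N92054 F466537) (tt N75517 (iv6 D212582)) (tt N96670 (iv7 F466540)))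
theorem Q109356 : ∀ i, i < 109356 → P i := stepQ 109355 Q109355 (allL N109355 (tt N77517 (iv1 F466542)) (tt N75521 (iv0 D212583)) (tt N77516 (iv2 F466541)) (tt N89528 (iv3 F466544)) (tt N110417 (iv4 F471478)) (tt N110219 (iv5 F470484)) (tt N116993 (iv6 F502866)) (tt N77515 F466543))
theorem Q109357 : ∀ i, i < 109357 → P i := stepQ 109356 Q109356 (allL N109356 (tt N77516 (iv1 F466549)) (tt N77515 F466548) (tt N75521 (iv2 D212584)) (tt N77512 F466545) (tt N106282 F466546) (tt N115007 (iv5 F493028)) (tt N116977 (iv6 F502789)) (tt N77517 F466547))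
theorem Q109358 : ∀ i, i < 109358 → P i := stepQ 109357 Q109357 (allL N109357 (tt N103085 F466554) (tt N103087 (iv0 F466555)) (tt N115007 (iv2 F493027)) (tt N75522 F466550) (tt N94716 F466553) (tt N75521 (iv5 D212585)) (tt N94715 F466551) (tt N77519 F466552))
theorem Q109359 : ∀ i, i < 109359 → P i := stepQ 109358 Q109358 (allL N109358 (tt N77531 F466559) (tt N77530 F466560) (tt N75525 F466556) (tt N114943 (iv3 F492676)) (tt N114749 (iv4 F491653)) (tt N75524 (iv5 D212586)) (tt N105043 F466557) (tt N77529 F466558))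
theorem Q109360 : ∀ i, i < 109360 → P i := stepQ 109359 Q109359 (allL N109359 (tt N114746 (iv1 F491640)) (tt N85861 F466562) (tt N114749 F491657) (tt N110213 (iv3 F470457)) (tt N75525 (iv4 D212587)) (tt N109899 (iv5 F471314)) (tt N119155 (iv6 F514085)) (tt N77532 F466561))
theorem Q109361 : ∀ i, i < 109361 → P i := stepQ 109360 Q109360 (allL N109360 (tt N94856 (iv1 F466568)) (tt N94691 F466569) (tt N94864 F466563) (tt N105044 F466564) (tt N95222 F466565) (tt N102044 F466566) (tt N77540 F466567) (tt N75526 (iv7 D212588)))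
theorem Q109362 : ∀ i, i < 109362 → P i := stepQ 109361 Q109361 (allL N109361 (tt N109045 F466574) (tt N79076 (iv0 F466576)) (tt N100322 F466570) (tt N84718 F466571) (tt N84349 F466572) (tt N98548 F466575) (tt N75527 (iv6 D212589)) (tt N84713 F466573))
theorem Q109363 : ∀ i, i < 109363 → P i := stepQ 109362 Q109362 (allL N109362 (tt N78820 (iv1 F466581)) (tt N75528 (iv0 D212590)) (tt N100324 (iv2 F466580)) (tt N98112 F466579) (tt N76512 F466578) (tt N98108 F466577) (tt N109050 (iv6 F466583)) (tt N76510 F466582))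
theorem Q109364 : ∀ i, i < 109364 → P i := stepQ 109363 Q109363 (allL N109363 (tt N119994 (iv1 F518448)) (tt N75572 F466588) (tt N109135 F466584) (tt N105481 F466585) (tt N75528 (iv4 D212591)) (tt N99764 F466587) (tt N105479 F466589) (tt N103068 F466586))
theorem Q109365 : ∀ i, i < 109365 → P i := stepQ 109364 Q109364 (allL N109364 (tt N121076 (iv1 F524390)) (tt N104201 (iv0 F466593)) (tt N116125 (iv2 F498602)) (tt N75530 F466590) (tt N105479 F466591) (tt N109751 (iv5 F468443)) (tt N75528 (iv6 D212592)) (tt N78815 F466592))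
theorem Q109366 : ∀ i, i < 109366 → P i := stepQ 109365 Q109365 (allL N109365 (tt N75530 (iv1 D212593)) (tt N75550 F466594) (tt N75548 (iv2 F466596)) (tt N100440 (iv3 F466597)) (tt N110524 (iv4 F471976)) (tt N115221 (iv5 F494085)) (tt N119475 (iv6 F515808)) (tt N75547 F466595))
theorem Q109367 : ∀ i, i < 109367 → P i := stepQ 109366 Q109366 (allL N109366 (tt N80486 (iv1 F466604)) (tt N75669 (iv0 F466603)) (tt N75556 F466598) (tt N79923 F466599) (tt N101498 F466600) (tt N76263 F466602) (tt N75532 (iv6 D212594)) (tt N80485 F466601))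
theorem Q109368 : ∀ i, i < 109368 → P i := stepQ 109367 Q109367 (allL N109367 (tt N85984 (iv1 F466606)) (tt N75535 (iv0 D212595)) (tt N117744 (iv2 F506748)) (tt N76304 (iv3 F466607)) (tt N114885 (iv4 F492344)) (tt N76298 F466605) (tt N111328 (iv6 F475845)) (tt N117351 (iv7 F504617)))
theorem Q109369 : ∀ i, i < 109369 → P i := stepQ 109368 Q109368 (allL N109368 (tt N92232 F466609) (tt N92227 F466610) (tt N120111 (iv2 F519102)) (tt N121788 D225047) (tt N75535 (iv4 D212596)) (tt N107184 F466608) (tt N106545 (iv6 F468971)) (tt N114962 (iv7 F492783)))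
theorem Q109370 : ∀ i, i < 109370 → P i := stepQ 109369 Q109369 (allL N109369 (tt N98703 F466615) (tt N75540 F466616) (tt N98704 F466611) (tt N100296 F466612) (tt N112841 (iv4 F482900)) (tt N75537 (iv5 D212597)) (tt N100303 F466613) (tt N98162 F466614))
theorem Q109371 : ∀ i, i < 109371 → P i := stepQ 109370 Q109370 (allL N109370 (tt N100781 (iv1 F466621)) (tt N103103 F466620) (tt N109076 F466617) (tt N94463 F466618) (tt N120074 (iv4 F518909)) (tt N75539 (iv5 D212598)) (tt N99814 F466619) (tt N99739 (iv7 F466622)))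
theorem Q109372 : ∀ i, i < 109372 → P i := stepQ 109371 Q109371 (allL N109371 (tt N100161 (iv1 F466628)) (tt N100159 F466629) (tt N109077 F466623) (tt N99742 F466624) (tt N105914 F466625) (tt N99739 F466626) (tt N109074 F466627) (tt N75539 (iv7 D212599)))
theorem Q109373 : ∀ i, i < 109373 → P i := stepQ 109372 Q109372 (allL N109372 (tt N109074 (iv1 F466635)) (tt N75542 (iv0 D212600)) (tt N109072 (iv2 F466633)) (tt N115720 (iv3 F496501)) (tt N76178 F466630) (tt N88808 F466631) (tt N76177 F466632) (tt N109073 F466634))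
theorem Q109374 : ∀ i, i < 109374 → P i := stepQ 109373 Q109373 (allL N109373 (tt N109073 (iv1 F466639)) (tt N109072 F466640) (tt N109074 F466636) (tt N86898 F466637) (tt N109685 (iv4 F468100)) (tt N109381 (iv5 F466671)) (tt N109077 F466638) (tt N75542 (iv7 D212601)))
theorem Q109375 : ∀ i, i < 109375 → P i := stepQ 109374 Q109374 (allL N109374 (tt N109676 (iv1 F468053)) (tt N109678 (iv0 F468063)) (tt N105884 F466641) (tt N116797 (iv3 F501889)) (tt N98326 F466642) (tt N105882 F466643) (tt N75543 (iv6 D212602)) (tt N109380 (iv7 F466667)))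
theorem Q109376 : ∀ i, i < 109376 → P i := stepQ 109375 Q109375 (allL N109375 (tt N89622 (iv1 F466646)) (tt N75545 (iv0 D212603)) (tt N105792 (iv2 F466647)) (tt N89630 F466645) (tt N109789 (iv4 F468617)) (tt N105788 F466644) (tt N105790 (iv6 F466648)) (tt N108372 (iv7 F466649)))
theorem Q109377 : ∀ i, i < 109377 → P i := stepQ 109376 Q109376 (allL N109376 (tt N75545 (iv1 D212604)) (tt N89622 F466656) (tt N108372 F466654) (tt N105007 (iv3 F466653)) (tt N105419 F466651) (tt N105793 F466652) (tt N105006 F466655) (tt N105792 F466650))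
theorem Q109378 : ∀ i, i < 109378 → P i := stepQ 109377 Q109377 (allL N109377 (tt N105792 (iv1 F466660)) (tt N108372 F466659) (tt N75545 (iv2 D212605)) (tt N117998 (iv3 F507997)) (tt N109702 (iv4 F468193)) (tt N106935 F466657) (tt N109698 F468172) (tt N89622 F466658))
theorem Q109379 : ∀ i, i < 109379 → P i := stepQ 109378 Q109378 (allL N109378 (tt N113768 F487035) (tt N111330 (iv0 F475853)) (tt N115226 (iv2 F494110)) (tt N105785 F466661) (tt N109748 (iv4 F468426)) (tt N75547 (iv5 D212606)) (tt N105777 F466662) (tt N115221 (iv7 F494083)))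
theorem Q109380 : ∀ i, i < 109380 → P i := stepQ 109379 Q109379 (allL N109379 (tt N100303 F466664) (tt N78802 (iv0 F466665)) (tt N109901 (iv2 F469132)) (tt N75548 (iv3 D212607)) (tt N114471 (iv4 F490349)) (tt N85320 F466663) (tt N118338 (iv6 F509784)) (tt N115331 (iv7 F494631)))
theorem Q109381 : ∀ i, i < 109381 → P i := stepQ 109380 Q109380 (allL N109380 (tt N114338 F489690) (tt N109677 F468059) (tt N119475 (iv2 F515806)) (tt N118338 (iv3 F509782)) (tt N76393 F466666) (tt N115225 (iv5 F494106)) (tt N75548 (iv6 D212608)) (tt N109374 F466667))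
theorem Q109382 : ∀ i, i < 109382 → P i := stepQ 109381 Q109381 (allL N109381 (tt N94142 F466673) (tt N94132 F466672) (tt N94139 F466668) (tt N104916 (iv3 F466674)) (tt N75549 (iv4 D212609)) (tt N109373 F466671) (tt N75559 F466669) (tt N94140 F466670))
theorem Q109383 : ∀ i, i < 109383 → P i := stepQ 109382 Q109382 (allL N109382 (tt N108789 F466679) (tt N109242 F466680) (tt N98145 F466675) (tt N75555 F466676) (tt N115256 (iv4 F494237)) (tt N75553 (iv5 D212610)) (tt N92033 F466677) (tt N100292 F466678))
theorem Q109384 : ∀ i, i < 109384 → P i := stepQ 109383 Q109383 (allL N109383 (tt N80471 F466686) (tt N94168 (iv0 F466687)) (tt N101498 F466681) (tt N78377 F466682) (tt N75556 F466683) (tt N100023 F466684) (tt N75554 (iv6 D212611)) (tt N99745 F466685))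
theorem Q109385 : ∀ i, i < 109385 → P i := stepQ 109384 Q109384 (allL N109384 (tt N100782 F466692) (tt N100754 F466693) (tt N109739 (iv2 F468368)) (tt N92033 F466688) (tt N94001 F466689) (tt N96233 F466690) (tt N75555 (iv6 D212612)) (tt N93999 F466691))
theorem Q109386 : ∀ i, i < 109386 → P i := stepQ 109385 Q109385 (allL N109385 (tt N105775 F466698) (tt N105773 (iv0 F466699)) (tt N98756 F466694) (tt N86689 F466695) (tt N109731 (iv4 F468327)) (tt N91039 F466696) (tt N75558 (iv6 D212613)) (tt N86684 F466697))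
theorem Q109387 : ∀ i, i < 109387 → P i := stepQ 109386 Q109386 (allL N109386 (tt N79304 F466704) (tt N91507 F466705) (tt N87078 F466700) (tt N96801 F466701) (tt N118862 (iv4 F512454)) (tt N75571 (iv5 D212614)) (tt N87082 F466702) (tt N102082 F466703))
theorem Q109388 : ∀ i, i < 109388 → P i := stepQ 109387 Q109387 (allL N109387 (tt N75572 (iv1 D212615)) (tt N119994 (iv0 F518447)) (tt N103068 (iv2 F466709)) (tt N113884 F487624) (tt N78820 F466708) (tt N99765 F466707) (tt N78819 (iv6 F466710)) (tt N109135 F466706))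
theorem Q109389 : ∀ i, i < 109389 → P i := stepQ 109388 Q109388 (allL N109388 (tt N94589 F466716) (tt N75580 F466717) (tt N101200 F466711) (tt N90446 F466712) (tt N99415 F466713) (tt N75577 (iv5 D212616)) (tt N90444 F466714) (tt N107480 F466715))
theorem Q109390 : ∀ i, i < 109390 → P i := stepQ 109389 Q109389 (allL N109389 (tt N120918 F523471) (tt N119563 (iv0 F516274)) (tt N118142 (iv2 F508827)) (tt N75579 (iv3 D212617)) (tt N94644 F466718) (tt N97868 F466719) (tt N94643 F466720) (tt N109159 F466721))
theorem Q109391 : ∀ i, i < 109391 → P i := stepQ 109390 Q109390 (allL N109390 (tt N104702 F466725) (tt N104700 (iv0 F466726)) (tt N109160 F466722) (tt N90043 F466723) (tt N75582 F466724) (tt N119612 (iv5 F516514)) (tt N75581 (iv6 D212618)) (tt N90041 (iv7 F466727)))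
theorem Q109392 : ∀ i, i < 109392 → P i := stepQ 109391 Q109391 (allL N109391 (tt N94656 (iv1 F466731)) (tt N75582 (iv0 D212619)) (tt N109210 (iv2 F466728)) (tt N120177 (iv3 F519447)) (tt N116352 (iv4 F499674)) (tt N121789 D225048) (tt N113563 (iv6 F486048)) (tt N109211 (iv7 F466729)))
theorem Q109393 : ∀ i, i < 109393 → P i := stepQ 109392 Q109392 (allL N109392 (tt N121790 D225049) (tt N119680 (iv0 F516883)) (tt N109212 F466732) (tt N89357 F466733) (tt N110018 (iv4 F469578)) (tt N75582 (iv5 D212620)) (tt N89356 F466734) (tt N121791 D225050))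
theorem Q109394 : ∀ i, i < 109394 → P i := stepQ 109393 Q109393 (allL N109393 (tt N109211 (iv1 F466739)) (tt N109210 F466740) (tt N94656 F466735) (tt N89087 F466736) (tt N90041 F466737) (tt N121791 (iv5 F528339)) (tt N94655 F466738) (tt N75582 (iv7 D212621)))
theorem Q109395 : ∀ i, i < 109395 → P i := stepQ 109394 Q109394 (allL N109394 (tt N103675 F466743) (tt N104719 (iv0 F466866)) (tt N119144 (iv2 F514018)) (tt N75584 (iv3 D212622)) (tt N115138 (iv4 F493671)) (tt N75695 F466741) (tt N115136 (iv6 F493664)) (tt N109164 F466742))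
theorem Q109396 : ∀ i, i < 109396 → P i := stepQ 109395 Q109395 (allL N109395 (tt N108142 F466747) (tt N98218 F466748) (tt N109565 (iv2 F467549)) (tt N121792 D225051) (tt N75598 (iv4 D212623)) (tt N101768 F466744) (tt N85710 F466745) (tt N82872 F466746))
theorem Q109397 : ∀ i, i < 109397 → P i := stepQ 109396 Q109396 (allL N109396 (tt N112038 (iv1 F479202)) (tt N112107 F479514) (tt N80923 F466749) (tt N117152 (iv3 F503651)) (tt N75601 F466750) (tt N117151 F503648) (tt N75600 (iv6 D212624)) (tt N112106 (iv7 F479507)))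
theorem Q109398 : ∀ i, i < 109398 → P i := stepQ 109397 Q109397 (allL N109397 (tt N86471 F466756) (tt N86476 (iv0 F466757)) (tt N100496 F466751) (tt N75609 (iv3 D212625)) (tt N75611 F466752) (tt N84784 F466753) (tt N100493 F466754) (tt N100658 F466755))
theorem Q109399 : ∀ i, i < 109399 → P i := stepQ 109398 Q109398 (allL N109398 (tt N100938 F466761) (tt N100937 F466762) (tt N80503 F466758) (tt N88477 F466759) (tt N120718 (iv4 F522326)) (tt N75620 (iv5 D212626)) (tt N112062 (iv6 F479313)) (tt N100933 F466760))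
theorem Q109400 : ∀ i, i < 109400 → P i := stepQ 109399 Q109399 (allL N109399 (tt N92192 F466768) (tt N92808 F466769) (tt N75625 F466763) (tt N85433 F466764) (tt N83618 F466765) (tt N75624 (iv5 D212627)) (tt N83704 F466766) (tt N84786 F466767))
theorem Q109401 : ∀ i, i < 109401 → P i := stepQ 109400 Q109400 (allL N109400 (tt N84786 (iv1 F466774)) (tt N75625 (iv0 D212628)) (tt N92192 (iv2 F466773)) (tt N83613 F466772) (tt N92192 F466771) (tt N85777 F466770) (tt N83611 (iv6 F466776)) (tt N92808 F466775))
theorem Q109402 : ∀ i, i < 109402 → P i := stepQ 109401 Q109401 (allL N109401 (tt N103007 (iv1 F466783)) (tt N103004 F466782) (tt N75631 (iv2 D212629)) (tt N75965 F466777) (tt N100008 F466778) (tt N103060 F466779) (tt N75890 F466780) (tt N103003 F466781))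
theorem Q109403 : ∀ i, i < 109403 → P i := stepQ 109402 Q109402 (allL N109402 (tt N78982 F466785) (tt N78989 F466786) (tt N120404 F520606) (tt N75641 F466784) (tt N120383 (iv4 F520496)) (tt N75640 (iv5 D212630)) (tt N120409 F520631) (tt N116925 F502531))
theorem Q109404 : ∀ i, i < 109404 → P i := stepQ 109403 Q109403 (allL N109403 (tt N101337 (iv1 F466788)) (tt N75645 (iv0 D212631)) (tt N112363 (iv2 F480751)) (tt N91014 (iv3 F466790)) (tt N100768 F466787) (tt N119551 (iv5 F516199)) (tt N111102 (iv6 F474675)) (tt N101202 F466789))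
theorem Q109405 : ∀ i, i < 109405 → P i := stepQ 109404 Q109404 (allL N109404 (tt N77661 F466793) (tt N79114 F466794) (tt N109560 (iv2 F467526)) (tt N83248 F466791) (tt N120012 (iv4 F518554)) (tt N75648 (iv5 D212632)) (tt N83244 F466792) (tt N109561 (iv7 F467528)))
theorem Q109406 : ∀ i, i < 109406 → P i := stepQ 109405 Q109405 (allL N109405 (tt N116304 F499461) (tt N107489 (iv0 F466798)) (tt N121692 (iv2 F527776)) (tt N75652 F466795) (tt N88880 F466796) (tt N111835 (iv5 F478218)) (tt N75649 (iv6 D212633)) (tt N88879 F466797))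
theorem Q109407 : ∀ i, i < 109407 → P i := stepQ 109406 Q109406 (allL N109406 (tt N98422 (iv1 F466801)) (tt N75651 (iv0 D212634)) (tt N109800 F468676) (tt N98596 (iv3 F466803)) (tt N100501 F466800) (tt N100495 F466799) (tt N121219 (iv6 F525201)) (tt N98385 (iv7 F466802)))
theorem Q109408 : ∀ i, i < 109408 → P i := stepQ 109407 Q109407 (allL N109407 (tt N75651 (iv1 D212635)) (tt N98422 F466804) (tt N98385 F466809) (tt N78386 (iv3 F466807)) (tt N100502 F466806) (tt N98402 F466805) (tt N78385 (iv6 F466808)) (tt N109800 (iv7 F468678)))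
theorem Q109409 : ∀ i, i < 109409 → P i := stepQ 109408 Q109408 (allL N109408 (tt N106215 F466814) (tt N106214 F466815) (tt N90723 F466810) (tt N111835 (iv3 F478217)) (tt N90718 F466811) (tt N75652 (iv5 D212636)) (tt N75655 F466812) (tt N105947 F466813))
theorem Q109410 : ∀ i, i < 109410 → P i := stepQ 109409 Q109409 (allL N109409 (tt N113704 F486732) (tt N101178 (iv0 F466820)) (tt N85808 F466816) (tt N96209 F466817) (tt N87699 F466818) (tt N101350 F466819) (tt N75653 (iv6 D212637)) (tt N111359 (iv7 F475998)))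
theorem Q109411 : ∀ i, i < 109411 → P i := stepQ 109410 Q109410 (allL N109410 (tt N84294 F466825) (tt N84293 F466826) (tt N83691 F466821) (tt N84034 (iv3 F466827)) (tt N75655 (iv4 D212638)) (tt N76099 F466822) (tt N90718 F466823) (tt N84076 F466824))
theorem Q109412 : ∀ i, i < 109412 → P i := stepQ 109411 Q109411 (allL N109411 (tt N80855 F466834) (tt N80861 F466833) (tt N76786 F466828) (tt N108729 F466829) (tt N98402 F466830) (tt N75656 (iv5 D212639)) (tt N97363 F466831) (tt N80860 F466832))
theorem Q109413 : ∀ i, i < 109413 → P i := stepQ 109412 Q109412 (allL N109412 (tt N104803 F466839) (tt N80304 (iv0 F466840)) (tt N110535 (iv2 F472036)) (tt N75657 (iv3 D212640)) (tt N104802 F466835) (tt N81044 F466836) (tt N104801 F466837) (tt N76782 F466838))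
theorem Q109414 : ∀ i, i < 109414 → P i := stepQ 109413 Q109413 (allL N109413 (tt N84350 F466845) (tt N108388 (iv0 F466846)) (tt N91003 F466841) (tt N75662 (iv3 D212641)) (tt N87753 F466842) (tt N114051 (iv5 F488358)) (tt N87752 F466843) (tt N84370 F466844))
theorem Q109415 : ∀ i, i < 109415 → P i := stepQ 109414 Q109414 (allL N109414 (tt N109452 F467030) (tt N83484 F466849) (tt N84079 F466847) (tt N114051 (iv3 F488357)) (tt N76992 F466848) (tt N75662 (iv5 D212642)) (tt N76999 (iv6 F466850)) (tt N113500 (iv7 F485797)))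
theorem Q109416 : ∀ i, i < 109416 → P i := stepQ 109415 Q109415 (allL N109415 (tt N105787 (iv1 F466854)) (tt N75668 (iv0 D212643)) (tt N109044 (iv2 F466853)) (tt N92785 F466852) (tt N117732 (iv4 F506679)) (tt N92588 F466851) (tt N109092 (iv6 F466856)) (tt N92565 F466855))
theorem Q109417 : ∀ i, i < 109417 → P i := stepQ 109416 Q109416 (allL N109416 (tt N118470 F510547) (tt N118433 (iv0 F510333)) (tt N110711 (iv2 F472856)) (tt N107250 F466857) (tt N75678 (iv4 D212644)) (tt N112932 (iv5 F483305)) (tt N100499 F466858) (tt N110575 (iv7 F472204)))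
theorem Q109418 : ∀ i, i < 109418 → P i := stepQ 109417 Q109417 (allL N109417 (tt N105439 F481949) (tt N116698 (iv0 F501368)) (tt N116826 (iv2 F502028)) (tt N117601 (iv3 F505938)) (tt N75680 (iv4 D212645)) (tt N117650 (iv5 F506218)) (tt N111533 (iv6 F476783)) (tt N117600 (iv7 F505935)))
theorem Q109419 : ∀ i, i < 109419 → P i := stepQ 109418 Q109418 (allL N109418 (tt N114989 (iv1 F492939)) (tt N114988 F492935) (tt N77745 F466859) (tt N114991 (iv3 F492951)) (tt N121184 (iv4 F525004)) (tt N75683 (iv5 D212646)) (tt N108873 F466860) (tt N77739 F466861))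
theorem Q109420 : ∀ i, i < 109420 → P i := stepQ 109419 Q109419 (allL N109419 (tt N102430 F466865) (tt N102428 F466867) (tt N102586 F466862) (tt N75692 (iv3 D212647)) (tt N75705 F466863) (tt N117773 (iv5 F506896)) (tt N75695 F466864) (tt N120651 (iv7 F521963)))
theorem Q109421 : ∀ i, i < 109421 → P i := stepQ 109420 Q109420 (allL N109420 (tt N109163 (iv1 F466870)) (tt N75695 (iv0 D212648)) (tt N109162 (iv2 F466872)) (tt N105129 F466869) (tt N104641 F466868) (tt N119679 (iv5 F516877)) (tt N119663 (iv6 F516787)) (tt N109161 (iv7 F466871)))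
theorem Q109422 : ∀ i, i < 109422 → P i := stepQ 109421 Q109421 (allL N109421 (tt N75695 (iv1 D212649)) (tt N109163 (iv0 F466877)) (tt N109161 (iv2 F466875)) (tt N119464 (iv3 F515753)) (tt N103642 F466874) (tt N119638 (iv5 F516647)) (tt N102478 (iv6 F466876)) (tt N109162 F466873))
theorem Q109423 : ∀ i, i < 109423 → P i := stepQ 109422 Q109422 (allL N109422 (tt N109162 (iv1 F466883)) (tt N109161 F466882) (tt N75695 (iv2 D212650)) (tt N103661 F466878) (tt N75726 F466879) (tt N119144 (iv5 F514019)) (tt N102586 F466880) (tt N109163 F466881))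
theorem Q109424 : ∀ i, i < 109424 → P i := stepQ 109423 Q109423 (allL N109423 (tt N81464 (iv1 F466889)) (tt N80484 F466890) (tt N81412 F466884) (tt N75701 F466885) (tt N80887 F466886) (tt N98467 F466887) (tt N80886 F466888) (tt N75699 (iv7 D212651)))
theorem Q109425 : ∀ i, i < 109425 → P i := stepQ 109424 Q109424 (allL N109424 (tt N119497 F515912) (tt N119488 (iv0 F515864)) (tt N103531 F466891) (tt N105498 F466892) (tt N75703 F466893) (tt N96406 F466894) (tt N75702 (iv6 D212652)) (tt N109659 (iv7 F467971)))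
theorem Q109426 : ∀ i, i < 109426 → P i := stepQ 109425 Q109425 (allL N109425 (tt N85053 (iv1 F466898)) (tt N111171 (iv0 F475070)) (tt N109660 (iv2 F467973)) (tt N85063 F466895) (tt N119675 (iv4 F516852)) (tt N98512 F466896) (tt N98263 F466897) (tt N75704 (iv7 D212653)))
theorem Q109427 : ∀ i, i < 109427 → P i := stepQ 109426 Q109426 (allL N109426 (tt N104632 (iv1 F466901)) (tt N75707 (iv0 D212654)) (tt N111253 (iv2 F475453)) (tt N102858 F466903) (tt N107008 F466900) (tt N102857 F466899) (tt N107007 (iv6 F466902)) (tt N107037 (iv7 F466904)))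
theorem Q109428 : ∀ i, i < 109428 → P i := stepQ 109427 Q109427 (allL N109427 (tt N75707 (iv1 D212655)) (tt N104632 F466905) (tt N107037 F466907) (tt N105859 (iv3 F466906)) (tt N107036 (iv4 F466909)) (tt N111249 (iv5 F475428)) (tt N105857 F466908) (tt N111253 (iv7 F475450)))
theorem Q109429 : ∀ i, i < 109429 → P i := stepQ 109428 Q109428 (allL N109428 (tt N118666 F511431) (tt N114370 (iv0 F489844)) (tt N120887 (iv2 F523293)) (tt N75708 F466911) (tt N117723 (iv4 F506630)) (tt N103843 F466912) (tt N75707 (iv6 D212656)) (tt N120909 (iv7 F523408)))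
theorem Q109430 : ∀ i, i < 109430 → P i := stepQ 109429 Q109429 (allL N109429 (tt N75708 (iv1 D212657)) (tt N111251 F475441) (tt N97819 F466915) (tt N119283 (iv3 F514813)) (tt N79055 (iv4 F466914)) (tt N98671 F466916) (tt N121206 (iv6 F525130)) (tt N98670 F466913))
theorem Q109431 : ∀ i, i < 109431 → P i := stepQ 109430 Q109430 (allL N109430 (tt N98522 F466921) (tt N98509 F466920) (tt N111250 (iv2 F475432)) (tt N103843 F466917) (tt N98700 F466919) (tt N75708 (iv5 D212658)) (tt N98698 F466918) (tt N119642 (iv7 F516665)))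
theorem Q109432 : ∀ i, i < 109432 → P i := stepQ 109431 Q109431 (allL N109431 (tt N97819 (iv1 F466923)) (tt N98670 F466924) (tt N111251 (iv2 F475437)) (tt N120909 (iv3 F523406)) (tt N75711 F466922) (tt N119642 (iv5 F516664)) (tt N111254 (iv6 F475459)) (tt N75708 (iv7 D212659)))
theorem Q109433 : ∀ i, i < 109433 → P i := stepQ 109432 Q109432 (allL N109432 (tt N75734 F466930) (tt N104716 F466929) (tt N104715 F466925) (tt N106134 (iv3 F466931)) (tt N75710 (iv4 D212660)) (tt N106129 F466926) (tt N106131 F466927) (tt N104440 F466928))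
theorem Q109434 : ∀ i, i < 109434 → P i := stepQ 109433 Q109433 (allL N109433 (tt N75712 (iv1 D212661)) (tt N102714 F466932) (tt N102857 (iv2 F466934)) (tt N119471 (iv3 F515789)) (tt N102859 F466933) (tt N111253 (iv5 F475451)) (tt N120741 (iv6 F522457)) (tt N111249 (iv7 F475427)))
theorem Q109435 : ∀ i, i < 109435 → P i := stepQ 109434 Q109434 (allL N109434 (tt N111254 (iv1 F475461)) (tt N75713 (iv0 D212662)) (tt N97861 (iv2 F466939)) (tt N103459 F466936) (tt N79057 F466935) (tt N104613 F466938) (tt N84916 F466937) (tt N109449 (iv7 F467011)))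
theorem Q109436 : ∀ i, i < 109436 → P i := stepQ 109435 Q109435 (allL N109435 (tt N85056 (iv1 F466949)) (tt N85055 F466950) (tt N83660 F466944) (tt N102460 F466945) (tt N75721 F466946) (tt N102459 F466947) (tt N97925 F466948) (tt N75718 (iv7 D212663)))
theorem Q109437 : ∀ i, i < 109437 → P i := stepQ 109436 Q109436 (allL N109436 (tt N84928 F466953) (tt N75722 F466954) (tt N84924 F466951) (tt N114415 (iv3 F490039)) (tt N75719 (iv4 D212664)) (tt N119525 (iv5 F516064)) (tt N114413 F490033) (tt N84925 F466952))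
theorem Q109438 : ∀ i, i < 109438 → P i := stepQ 109437 Q109437 (allL N109437 (tt N75722 F466957) (tt N84928 F466958) (tt N84925 F466955) (tt N120876 (iv3 F523225)) (tt N75720 (iv4 D212665)) (tt N120875 (iv5 F523223)) (tt N117955 F507776) (tt N84924 F466956))
theorem Q109439 : ∀ i, i < 109439 → P i := stepQ 109438 Q109438 (allL N109438 (tt N92223 F466962) (tt N109563 (iv0 F467542)) (tt N85054 F466959) (tt N98414 F466960) (tt N117955 (iv4 F507773)) (tt N86479 F466961) (tt N75720 (iv6 D212666)) (tt N119677 (iv7 F516865)))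
theorem Q109440 : ∀ i, i < 109440 → P i := stepQ 109439 Q109439 (allL N109439 (tt N102497 F466967) (tt N102596 (iv0 F466968)) (tt N84927 F466963) (tt N102486 F466964) (tt N90421 F466966) (tt N75722 (iv5 D212667)) (tt N109448 (iv6 F467006)) (tt N104468 F466965))
theorem Q109441 : ∀ i, i < 109441 → P i := stepQ 109440 Q109440 (allL N109440 (tt N75728 F466971) (tt N75726 F466972) (tt N75724 (iv2 D212668)) (tt N105495 F466970) (tt N120626 (iv4 F521827)) (tt N119472 (iv5 F515794)) (tt N120645 (iv6 F521931)) (tt N75725 (iv7 F466969)))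
theorem Q109442 : ∀ i, i < 109442 → P i := stepQ 109441 Q109441 (allL N109441 (tt N105752 F466974) (tt N119435 (iv0 F515613)) (tt N92683 F466973) (tt N75724 (iv3 D212669)) (tt N92677 F466975) (tt N117706 (iv5 F506537)) (tt N120660 (iv6 F522016)) (tt N92692 (iv7 F466976)))
theorem Q109443 : ∀ i, i < 109443 → P i := stepQ 109442 Q109442 (allL N109442 (tt N120877 (iv1 F523236)) (tt N120876 (iv0 F523229)) (tt N120645 (iv2 F521929)) (tt N120660 (iv3 F522014)) (tt N104527 F466977) (tt N102599 F466978) (tt N75724 (iv6 D212670)) (tt N120623 (iv7 F521819)))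
theorem Q109444 : ∀ i, i < 109444 → P i := stepQ 109443 Q109443 (allL N109443 (tt N75726 (iv1 F466982)) (tt N75728 F466983) (tt N75725 F466979) (tt N92692 F466980) (tt N102533 F466981) (tt N118001 (iv5 F508017)) (tt N102532 (iv6 F466984)) (tt N75724 (iv7 D212671)))
theorem Q109445 : ∀ i, i < 109445 → P i := stepQ 109444 Q109444 (allL N109444 (tt N103489 (iv1 F466988)) (tt N75729 (iv0 D212672)) (tt N95807 (iv2 F466987)) (tt N103562 (iv3 F466990)) (tt N92655 F466986) (tt N106130 F466985) (tt N92654 (iv6 F466991)) (tt N103559 F466989))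
theorem Q109446 : ∀ i, i < 109446 → P i := stepQ 109445 Q109445 (allL N109445 (tt N111237 F475369) (tt N78909 F466993) (tt N103544 F466992) (tt N121793 D225052) (tt N75731 (iv4 D212673)) (tt N120814 (iv5 F522870)) (tt N120276 (iv6 F519971)) (tt N111245 (iv7 F475408)))
theorem Q109447 : ∀ i, i < 109447 → P i := stepQ 109446 Q109446 (allL N109446 (tt N78909 F466997) (tt N111237 (iv0 F475368)) (tt N111245 F475410) (tt N102284 F466994) (tt N75732 (iv4 D212674)) (tt N120813 (iv5 F522867)) (tt N103550 F466995) (tt N103544 F466996))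
theorem Q109448 : ∀ i, i < 109448 → P i := stepQ 109447 Q109447 (allL N109447 (tt N119641 F516662) (tt N111211 (iv0 F475241)) (tt N103662 F466998) (tt N104674 F466999) (tt N98604 F467002) (tt N75734 (iv5 D212675)) (tt N98637 F467000) (tt N104717 F467001))
theorem Q109449 : ∀ i, i < 109449 → P i := stepQ 109448 Q109448 (allL N109448 (tt N104791 (iv1 F467008)) (tt N82969 F467007) (tt N104749 F467004) (tt N105206 F467005) (tt N116130 (iv4 F498639)) (tt N75737 (iv5 D212676)) (tt N109439 F467006) (tt N118129 (iv7 F508757)))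
theorem Q109450 : ∀ i, i < 109450 → P i := stepQ 109449 Q109449 (allL N109449 (tt N78918 F467013) (tt N103555 F467014) (tt N102935 F467009) (tt N111246 (iv3 F475412)) (tt N75738 (iv4 D212677)) (tt N103548 F467012) (tt N104741 F467010) (tt N109434 F467011))
theorem Q109451 : ∀ i, i < 109451 → P i := stepQ 109450 Q109450 (allL N109450 (tt N82639 F467019) (tt N82911 F467020) (tt N82910 F467015) (tt N75743 F467016) (tt N92770 F467018) (tt N75742 (iv5 D212678)) (tt N92771 (iv6 F467021)) (tt N82909 F467017))
theorem Q109452 : ∀ i, i < 109452 → P i := stepQ 109451 Q109451 (allL N109451 (tt N121794 D225053) (tt N114668 (iv0 F491292)) (tt N109117 F467022) (tt N92771 F467023) (tt N78874 F467024) (tt N121795 D225054) (tt N75743 (iv6 D212679)) (tt N92828 (iv7 F467025)))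
theorem Q109453 : ∀ i, i < 109453 → P i := stepQ 109452 Q109452 (allL N109452 (tt N109098 F467029) (tt N109414 (iv0 F467030)) (tt N83512 F467026) (tt N77055 F467027) (tt N82841 F467028) (tt N75744 (iv5 D212680)) (tt N121795 (iv6 F528363)) (tt N113476 (iv7 F485666)))
theorem Q109454 : ∀ i, i < 109454 → P i := stepQ 109453 Q109453 (allL N109453 (tt N99768 (iv1 F467035)) (tt N89913 F467036) (tt N99785 F467031) (tt N76960 F467032) (tt N101272 F467033) (tt N113476 (iv5 F485665)) (tt N109138 F467034) (tt N75744 (iv7 D212681)))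
theorem Q109455 : ∀ i, i < 109455 → P i := stepQ 109454 Q109454 (allL N109454 (tt N99759 F467040) (tt N109109 F467041) (tt N96439 F467037) (tt N114490 (iv3 F490440)) (tt N96436 F467038) (tt N75746 (iv5 D212682)) (tt N114488 F490437) (tt N109111 F467039))
theorem Q109456 : ∀ i, i < 109456 → P i := stepQ 109455 Q109455 (allL N109455 (tt N109196 F467046) (tt N96477 F467047) (tt N75748 F467042) (tt N105593 F467043) (tt N118912 (iv4 F512712)) (tt N75747 (iv5 D212683)) (tt N105592 F467044) (tt N109195 F467045))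
theorem Q109457 : ∀ i, i < 109457 → P i := stepQ 109456 Q109456 (allL N109456 (tt N116330 (iv1 F499593)) (tt N105420 (iv0 F467051)) (tt N105592 F467048) (tt N75749 F467049) (tt N105510 (iv4 F467052)) (tt N102579 F467050) (tt N75748 (iv6 D212684)) (tt N116331 (iv7 F499598)))
theorem Q109458 : ∀ i, i < 109458 → P i := stepQ 109457 Q109457 (allL N109457 (tt N75749 (iv1 D212685)) (tt N105595 F467055) (tt N105612 (iv2 F467057)) (tt N105624 F467059) (tt N118665 (iv4 F511420)) (tt N103671 (iv5 F467058)) (tt N116344 F499641) (tt N105616 F467056))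
theorem Q109459 : ∀ i, i < 109459 → P i := stepQ 109458 Q109458 (allL N109458 (tt N105612 (iv1 F467064)) (tt N105616 F467065) (tt N105595 F467060) (tt N116331 (iv3 F499594)) (tt N92278 F467061) (tt N105594 F467062) (tt N109204 F467063) (tt N75749 (iv7 D212686)))
theorem Q109460 : ∀ i, i < 109460 → P i := stepQ 109459 Q109459 (allL N109459 (tt N101231 F467073) (tt N77135 (iv0 F467074)) (tt N75761 F467068) (tt N109021 F467069) (tt N85824 F467070) (tt N82196 F467071) (tt N75754 (iv6 D212687)) (tt N101230 F467072))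
theorem Q109461 : ∀ i, i < 109461 → P i := stepQ 109460 Q109460 (allL N109460 (tt N75756 (iv1 D212688)) (tt N109023 F467075) (tt N105685 F467081) (tt N109022 (iv3 F467079)) (tt N94181 F467078) (tt N80333 F467077) (tt N105684 (iv6 F467080)) (tt N79442 F467076))
theorem Q109462 : ∀ i, i < 109462 → P i := stepQ 109461 Q109461 (allL N109461 (tt N77148 F467085) (tt N77355 (iv0 F467086)) (tt N77353 F467082) (tt N75757 (iv3 D212689)) (tt N81522 F467083) (tt N85554 F467087) (tt N96237 F467084) (tt N77332 F467088))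
theorem Q109463 : ∀ i, i < 109463 → P i := stepQ 109462 Q109462 (allL N109462 (tt N119156 (iv1 F514093)) (tt N96956 F467091) (tt N119112 (iv2 F513846)) (tt N85554 F467089) (tt N96621 F467090) (tt N75757 (iv5 D212690)) (tt N121183 F524999) (tt N121796 D225055))
theorem Q109464 : ∀ i, i < 109464 → P i := stepQ 109463 Q109463 (allL N109463 (tt N108076 (iv1 F467096)) (tt N99543 F467097) (tt N75760 F467092) (tt N77332 F467093) (tt N75759 F467094) (tt N121796 (iv5 F528371)) (tt N77330 F467095) (tt N75757 (iv7 D212691)))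
theorem Q109465 : ∀ i, i < 109465 → P i := stepQ 109464 Q109464 (allL N109464 (tt N96956 F467099) (tt N119156 (iv0 F514092)) (tt N121796 (iv2 F528368)) (tt N100605 F467098) (tt N121787 (iv4 F528315)) (tt N75760 (iv5 D212692)) (tt N121138 (iv6 F524722)) (tt N119112 (iv7 F513848)))
theorem Q109466 : ∀ i, i < 109466 → P i := stepQ 109465 Q109465 (allL N109465 (tt N88620 (iv1 F467105)) (tt N75798 (iv0 D212693)) (tt N88621 (iv2 F467104)) (tt N79534 F467102) (tt N78367 F467101) (tt N79380 F467100) (tt N105021 F467103) (tt N88617 F467106))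
theorem Q109467 : ∀ i, i < 109467 → P i := stepQ 109466 Q109466 (allL N109466 (tt N100062 (iv1 F467110)) (tt N75799 (iv0 D212694)) (tt N75916 (iv2 F467109)) (tt N112666 (iv3 F482081)) (tt N76760 F467108) (tt N75914 F467107) (tt N110517 (iv6 F471946)) (tt N76756 F467111))
theorem Q109468 : ∀ i, i < 109468 → P i := stepQ 109467 Q109467 (allL N109467 (tt N76764 F467117) (tt N110517 (iv0 F471948)) (tt N75811 F467112) (tt N76011 F467113) (tt N80005 F467114) (tt N92581 F467115) (tt N75806 (iv6 D212695)) (tt N109313 F467116))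
theorem Q109469 : ∀ i, i < 109469 → P i := stepQ 109468 Q109468 (allL N109468 (tt N99212 F467122) (tt N80393 F467123) (tt N76763 F467118) (tt N98378 F467119) (tt N99145 F467124) (tt N75808 (iv5 D212696)) (tt N99200 F467120) (tt N76755 F467121))
theorem Q109470 : ∀ i, i < 109470 → P i := stepQ 109469 Q109469 (allL N109469 (tt N110517 (iv1 F471949)) (tt N76764 (iv0 F467130)) (tt N109313 F467125) (tt N80392 F467126) (tt N102767 F467127) (tt N92574 F467128) (tt N80400 F467129) (tt N75811 (iv7 D212697)))
theorem Q109471 : ∀ i, i < 109471 → P i := stepQ 109470 Q109470 (allL N109470 (tt N112666 (iv1 F482086)) (tt N75924 (iv0 F467136)) (tt N75820 F467131) (tt N76007 F467132) (tt N100281 F467133) (tt N103095 F467134) (tt N75813 (iv6 D212698)) (tt N107142 F467135))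
theorem Q109472 : ∀ i, i < 109472 → P i := stepQ 109471 Q109471 (allL N109471 (tt N75828 (iv1 D212699)) (tt N75830 F467137) (tt N90542 F467141) (tt N79507 (iv3 F467140)) (tt N118331 (iv4 F509746)) (tt N90540 F467139) (tt N116170 (iv6 F498850)) (tt N90539 F467138))
theorem Q109473 : ∀ i, i < 109473 → P i := stepQ 109472 Q109472 (allL N109472 (tt N108439 F467147) (tt N101186 F467146) (tt N107214 F467142) (tt N75830 F467143) (tt N96905 F467145) (tt N75829 (iv5 D212700)) (tt N100122 F467148) (tt N99547 F467144))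
theorem Q109474 : ∀ i, i < 109474 → P i := stepQ 109473 Q109473 (allL N109473 (tt N109771 F468538) (tt N116716 (iv0 F501467)) (tt N116728 (iv2 F501525)) (tt N75831 F467149) (tt N78359 F467150) (tt N91153 (iv5 F467371)) (tt N75829 (iv6 D212701)) (tt N116717 (iv7 F501472)))
theorem Q109475 : ∀ i, i < 109475 → P i := stepQ 109474 Q109474 (allL N109474 (tt N96219 (iv1 F467155)) (tt N86249 (iv0 F467154)) (tt N109589 (iv2 F467611)) (tt N100122 F467151) (tt N110194 (iv4 F470370)) (tt N106637 F467152) (tt N75830 (iv6 D212702)) (tt N107209 F467153))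
theorem Q109476 : ∀ i, i < 109476 → P i := stepQ 109475 Q109475 (allL N109475 (tt N100067 (iv1 F467161)) (tt N75831 (iv0 D212703)) (tt N75923 (iv2 F467159)) (tt N112024 (iv3 F479127)) (tt N75839 F467157) (tt N101751 F467156) (tt N100077 F467158) (tt N75927 F467160))
theorem Q109477 : ∀ i, i < 109477 → P i := stepQ 109476 Q109476 (allL N109476 (tt N75927 (iv1 F467167)) (tt N75923 F467168) (tt N100067 F467163) (tt N116717 (iv3 F501470)) (tt N76877 F467164) (tt N90613 F467165) (tt N84144 F467166) (tt N75831 (iv7 D212704)))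
theorem Q109478 : ∀ i, i < 109478 → P i := stepQ 109477 Q109477 (allL N109477 (tt N107139 F467174) (tt N107106 F467175) (tt N78123 F467169) (tt N105062 F467170) (tt N95289 F467171) (tt N78705 F467172) (tt N75832 (iv6 D212705)) (tt N105132 F467173))
theorem Q109479 : ∀ i, i < 109479 → P i := stepQ 109478 Q109478 (allL N109478 (tt N97037 F467179) (tt N115063 (iv0 F493305)) (tt N107709 F467176) (tt N116614 (iv3 F500978)) (tt N82045 F467177) (tt N75834 (iv5 D212706)) (tt N111130 (iv6 F474835)) (tt N104246 F467178))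
theorem Q109480 : ∀ i, i < 109480 → P i := stepQ 109479 Q109479 (allL N109479 (tt N118331 (iv1 F509743)) (tt N90541 F467181) (tt N108955 F467180) (tt N121797 D225056) (tt N75836 (iv4 D212707)) (tt N115063 (iv5 F493307)) (tt N118192 (iv6 F509068)) (tt N109591 (iv7 F467622)))
theorem Q109481 : ∀ i, i < 109481 → P i := stepQ 109480 Q109480 (allL N109480 (tt N79413 F467186) (tt N79405 F467187) (tt N79387 F467182) (tt N79416 F467183) (tt N119334 (iv4 F515079)) (tt N75842 (iv5 D212708)) (tt N100709 F467184) (tt N79418 F467185))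
theorem Q109482 : ∀ i, i < 109482 → P i := stepQ 109481 Q109481 (allL N109481 (tt N109526 (iv1 F467376)) (tt N109525 (iv0 F467367)) (tt N75874 F467188) (tt N117291 F504317) (tt N75847 (iv4 D212709)) (tt N89256 F467189) (tt N119891 (iv6 F517889)) (tt N75872 F467190))
theorem Q109483 : ∀ i, i < 109483 → P i := stepQ 109482 Q109482 (allL N109482 (tt N113482 (iv1 F485700)) (tt N90689 (iv0 F467193)) (tt N75875 F467191) (tt N113516 (iv3 F485872)) (tt N119891 (iv4 F517888)) (tt N106428 F467192) (tt N75847 (iv6 D212710)) (tt N113481 (iv7 F485691)))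
theorem Q109484 : ∀ i, i < 109484 → P i := stepQ 109483 Q109483 (allL N109483 (tt N99142 F467200) (tt N90026 F467201) (tt N75877 F467196) (tt N113339 (iv3 F485102)) (tt N75848 (iv4 D212711)) (tt N90935 F467199) (tt N76779 F467197) (tt N75880 F467198))
theorem Q109485 : ∀ i, i < 109485 → P i := stepQ 109484 Q109484 (allL N109484 (tt N83920 F467205) (tt N113132 F484125) (tt N77429 F467202) (tt N75849 (iv3 D212712)) (tt N121798 D225057) (tt N89454 F467203) (tt N113202 (iv6 F484459)) (tt N75876 F467204))
theorem Q109486 : ∀ i, i < 109486 → P i := stepQ 109485 Q109485 (allL N109485 (tt N90026 F467209) (tt N99142 F467210) (tt N75880 F467206) (tt N89301 (iv3 F467211)) (tt N75849 (iv4 D212713)) (tt N89300 F467207) (tt N113444 (iv6 F485521)) (tt N75877 F467208))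
theorem Q109487 : ∀ i, i < 109487 → P i := stepQ 109486 Q109486 (allL N109486 (tt N75886 (iv1 F467214)) (tt N75850 (iv0 D212714)) (tt N75882 (iv2 F467213)) (tt N117139 (iv3 F503587)) (tt N101751 F467212) (tt N99202 F467220) (tt N76800 (iv6 F467216)) (tt N75883 F467215))
theorem Q109488 : ∀ i, i < 109488 → P i := stepQ 109487 Q109487 (allL N109487 (tt N98808 F467224) (tt N99176 F467226) (tt N99189 F467227) (tt N75850 (iv3 D212715)) (tt N99951 F467221) (tt N99260 (iv5 F467225)) (tt N76803 F467222) (tt N99190 F467223))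
theorem Q109489 : ∀ i, i < 109489 → P i := stepQ 109488 Q109488 (allL N109488 (tt N110645 F472570) (tt N76795 F467233) (tt N75885 F467228) (tt N99260 F467229) (tt N75933 F467230) (tt N75850 (iv5 D212716)) (tt N99228 F467231) (tt N75932 F467232))
theorem Q109490 : ∀ i, i < 109490 → P i := stepQ 109489 Q109489 (allL N109489 (tt N117136 (iv1 F503571)) (tt N117135 F503566) (tt N75894 F467235) (tt N110648 (iv3 F472574)) (tt N75851 (iv4 D212717)) (tt N110645 (iv5 F472568)) (tt N99926 F467236) (tt N75907 F467237))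
theorem Q109491 : ∀ i, i < 109491 → P i := stepQ 109490 Q109490 (allL N109490 (tt N111347 (iv1 F475939)) (tt N75935 (iv0 F467242)) (tt N111346 F475930) (tt N75855 F467238) (tt N81268 F467239) (tt N80464 F467240) (tt N75853 (iv6 D212718)) (tt N99753 F467241))
theorem Q109492 : ∀ i, i < 109492 → P i := stepQ 109491 Q109491 (allL N109491 (tt N84205 F467247) (tt N110906 (iv0 F473723)) (tt N111858 (iv2 F478338)) (tt N75854 (iv3 D212719)) (tt N81306 F467243) (tt N90704 F467244) (tt N82941 F467245) (tt N75900 F467246))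
theorem Q109493 : ∀ i, i < 109493 → P i := stepQ 109492 Q109492 (allL N109492 (tt N102967 F467253) (tt N95567 F467254) (tt N78083 F467248) (tt N82221 F467249) (tt N94411 F467250) (tt N108291 F467251) (tt N75859 (iv6 D212720)) (tt N107923 F467252))
theorem Q109494 : ∀ i, i < 109494 → P i := stepQ 109493 Q109493 (allL N109493 (tt N82256 F467259) (tt N88900 F467260) (tt N83923 F467255) (tt N76503 F467256) (tt N103879 F467257) (tt N75863 (iv5 D212721)) (tt N114686 (iv6 F491365)) (tt N88899 F467258))
theorem Q109495 : ∀ i, i < 109495 → P i := stepQ 109494 Q109494 (allL N109494 (tt N82265 F467264) (tt N78369 (iv0 F467265)) (tt N83924 F467261) (tt N88908 F467262) (tt N112484 (iv4 F481286)) (tt N110165 (iv5 F470250)) (tt N75863 (iv6 D212722)) (tt N78300 F467263))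
theorem Q109496 : ∀ i, i < 109496 → P i := stepQ 109495 Q109495 (allL N109495 (tt N75865 (iv1 D212723)) (tt N82252 F467266) (tt N90440 F467270) (tt N89728 (iv3 F467269)) (tt N90431 F467268) (tt N110840 (iv5 F473400)) (tt N117595 (iv6 F505902)) (tt N90438 F467267))
theorem Q109497 : ∀ i, i < 109497 → P i := stepQ 109496 Q109496 (allL N109496 (tt N105127 F467274) (tt N118634 (iv0 F511256)) (tt N105438 F467271) (tt N75865 (iv3 D212724)) (tt N104511 F467272) (tt N94571 F467273) (tt N113077 (iv6 F483870)) (tt N120547 (iv7 F521380)))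
theorem Q109498 : ∀ i, i < 109498 → P i := stepQ 109497 Q109497 (allL N109497 (tt N113338 (iv1 F485099)) (tt N99402 (iv0 F467277)) (tt N110357 F471216) (tt N113274 (iv3 F484817)) (tt N99144 F467275) (tt N119014 (iv5 F513287)) (tt N75866 (iv6 D212725)) (tt N99953 F467276))
theorem Q109499 : ∀ i, i < 109499 → P i := stepQ 109498 Q109498 (allL N109498 (tt N77429 F467281) (tt N75876 (iv0 F467282)) (tt N113132 (iv2 F484122)) (tt N81394 F467278) (tt N121799 D225058) (tt N75868 (iv5 D212726)) (tt N106338 F467279) (tt N83920 F467280))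
theorem Q109500 : ∀ i, i < 109500 → P i := stepQ 109499 Q109499 (allL N109499 (tt N75869 (iv1 D212727)) (tt N77418 F467283) (tt N113532 (iv2 F485912)) (tt N109780 (iv3 F468580)) (tt N120392 (iv4 F520541)) (tt N109776 (iv5 F468563)) (tt N113511 F485848) (tt N116593 (iv7 F500895)))
theorem Q109501 : ∀ i, i < 109501 → P i := stepQ 109500 Q109500 (allL N109500 (tt N101447 F467284) (tt N121800 D225059) (tt N120542 (iv2 F521352)) (tt N112560 (iv3 F481647)) (tt N75869 (iv4 D212728)) (tt N112559 F481645) (tt N112187 F479961) (tt N120953 (iv7 F523669)))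
theorem Q109502 : ∀ i, i < 109502 → P i := stepQ 109501 Q109501 (allL N109501 (tt N75907 F467285) (tt N75894 F467286) (tt N117136 F503575) (tt N117224 F503991) (tt N75870 (iv4 D212729)) (tt N116506 (iv5 F500509)) (tt N119700 (iv6 F516989)) (tt N117135 F503570))
theorem Q109503 : ∀ i, i < 109503 → P i := stepQ 109502 Q109502 (allL N109502 (tt N110369 F471275) (tt N121113 (iv0 F524577)) (tt N107193 F467287) (tt N120193 F519522) (tt N119700 (iv4 F516987)) (tt N107192 F467288) (tt N75870 (iv6 D212730)) (tt N121376 (iv7 F526029)))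
theorem Q109504 : ∀ i, i < 109504 → P i := stepQ 109503 Q109503 (allL N109503 (tt N75894 F467289) (tt N75907 F467290) (tt N117135 F503569) (tt N120473 (iv3 F520961)) (tt N75871 (iv4 D212731)) (tt N116507 (iv5 F500513)) (tt N117227 F504009) (tt N117136 (iv7 F503572)))
theorem Q109505 : ∀ i, i < 109505 → P i := stepQ 109504 Q109504 (allL N109504 (tt N90688 F467293) (tt N90695 F467294) (tt N90694 F467291) (tt N81900 F467292) (tt N117227 (iv4 F504008)) (tt N113079 (iv5 F483879)) (tt N75871 (iv6 D212732)) (tt N90693 F503690))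
theorem Q109506 : ∀ i, i < 109506 → P i := stepQ 109505 Q109505 (allL N109505 (tt N75874 (iv1 F467297)) (tt N75872 (iv0 D212733)) (tt N109525 (iv2 F467364)) (tt N119877 (iv3 F517833)) (tt N90614 F467296) (tt N116503 (iv5 F500485)) (tt N119878 (iv6 F517838)) (tt N109526 (iv7 F467374)))
theorem Q109507 : ∀ i, i < 109507 → P i := stepQ 109506 Q109506 (allL N109506 (tt N116500 (iv1 F500472)) (tt N116501 (iv0 F500479)) (tt N113435 (iv2 F485482)) (tt N75872 (iv3 D212734)) (tt N112560 (iv4 F481648)) (tt N84384 F467298) (tt N119889 F517880) (tt N117291 (iv7 F504315)))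
theorem Q109508 : ∀ i, i < 109508 → P i := stepQ 109507 Q109507 (allL N109507 (tt N120019 (iv1 F518591)) (tt N119878 (iv0 F517840)) (tt N121375 (iv2 F526018)) (tt N75874 (iv3 D212735)) (tt N110369 (iv4 F471270)) (tt N121422 (iv5 F526272)) (tt N106619 (iv6 F467301)) (tt N120386 (iv7 F520514)))
theorem Q109509 : ∀ i, i < 109509 → P i := stepQ 109508 Q109508 (allL N109508 (tt N119893 F517898) (tt N110676 (iv0 F472721)) (tt N119891 F517890) (tt N106619 F467300) (tt N75875 F467299) (tt N110786 (iv5 F473170)) (tt N75874 (iv6 D212736)) (tt N119892 (iv7 F517891)))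
theorem Q109510 : ∀ i, i < 109510 → P i := stepQ 109509 Q109509 (allL N109509 (tt N113132 (iv1 F484126)) (tt N83920 F467304) (tt N75876 (iv2 D212738)) (tt N77174 F467302) (tt N121801 D225060) (tt N89453 (iv5 F467306)) (tt N113451 (iv6 F485550)) (tt N77429 F467303))
theorem Q109511 : ∀ i, i < 109511 → P i := stepQ 109510 Q109510 (allL N109510 (tt N101437 F467308) (tt N107551 F469539) (tt N121801 (iv2 F528399)) (tt N90938 F467307) (tt N75876 (iv4 D212739)) (tt N113392 (iv5 F485324)) (tt N121802 D225061) (tt N121798 (iv7 F528385)))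
theorem Q109512 : ∀ i, i < 109512 → P i := stepQ 109511 Q109511 (allL N109511 (tt N89456 F467315) (tt N89447 F467313) (tt N89453 F467309) (tt N75878 F467310) (tt N100316 F467312) (tt N75876 (iv5 D212740)) (tt N89719 F467314) (tt N89454 F467311))
theorem Q109513 : ∀ i, i < 109513 → P i := stepQ 109512 Q109512 (allL N109512 (tt N113450 (iv1 F485539)) (tt N113449 (iv0 F485538)) (tt N113451 (iv2 F485547)) (tt N75879 F467316) (tt N121802 (iv4 F528407)) (tt N88718 F467317) (tt N75876 (iv6 D212741)) (tt N113448 (iv7 F485535)))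
theorem Q109514 : ∀ i, i < 109514 → P i := stepQ 109513 Q109513 (allL N109513 (tt N75880 (iv1 F467322)) (tt N75877 (iv0 D212742)) (tt N99142 (iv2 F467321)) (tt N121421 (iv3 F526265)) (tt N90027 F467319) (tt N90739 F467318) (tt N106021 F467320) (tt N90026 F467323))
theorem Q109515 : ∀ i, i < 109515 → P i := stepQ 109514 Q109514 (allL N109514 (tt N121803 D225062) (tt N121423 (iv0 F526280)) (tt N99144 (iv2 F467326)) (tt N75880 (iv3 D212743)) (tt N110357 (iv4 F471211)) (tt N99095 F467324) (tt N90030 F467325) (tt N113339 (iv7 F485104)))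
theorem Q109516 : ∀ i, i < 109516 → P i := stepQ 109515 Q109515 (allL N109515 (tt N76599 F467330) (tt N76803 (iv0 F467331)) (tt N76801 (iv2 F467332)) (tt N75882 (iv3 D212744)) (tt N112331 (iv4 F480600)) (tt N99145 F467327) (tt N99210 F467328) (tt N76800 F467329))
theorem Q109517 : ∀ i, i < 109517 → P i := stepQ 109516 Q109516 (allL N109516 (tt N110808 F473250) (tt N110807 (iv0 F473248)) (tt N99210 F467333) (tt N75883 (iv3 D212745)) (tt N117141 (iv4 F503596)) (tt N99205 (iv5 F467334)) (tt N76801 (iv6 F467335)) (tt N117139 (iv7 F503589)))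
theorem Q109518 : ∀ i, i < 109518 → P i := stepQ 109517 Q109517 (allL N109517 (tt N90991 F467341) (tt N90989 F467340) (tt N99196 F467336) (tt N99205 F467337) (tt N75921 F467338) (tt N75883 (iv5 D212746)) (tt N99171 F467342) (tt N99202 F467339))
theorem Q109519 : ∀ i, i < 109519 → P i := stepQ 109518 Q109518 (allL N109518 (tt N110807 (iv1 F473249)) (tt N110808 F503590) (tt N117139 (iv2 F503586)) (tt N76801 F467343) (tt N116858 (iv4 F502204)) (tt N99211 (iv5 F467345)) (tt N75883 (iv6 D212747)) (tt N99210 F467344))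
theorem Q109520 : ∀ i, i < 109520 → P i := stepQ 109519 Q109519 (allL N109519 (tt N121804 D225063) (tt N75884 (iv0 D212748)) (tt N117004 (iv2 F502923)) (tt N121664 (iv3 F527618)) (tt N117371 (iv4 F504710)) (tt N98822 F467346) (tt N98823 (iv6 F467347)) (tt N118352 (iv7 F509861)))
theorem Q109521 : ∀ i, i < 109521 → P i := stepQ 109520 Q109520 (allL N109520 (tt N75884 (iv1 D212749)) (tt N121804 F528424) (tt N118352 (iv2 F509860)) (tt N98823 (iv3 F469346)) (tt N121805 D225064) (tt N98821 F469347) (tt N121664 (iv6 F527620)) (tt N117004 F502926))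
theorem Q109522 : ∀ i, i < 109522 → P i := stepQ 109521 Q109521 (allL N109521 (tt N117004 F502925) (tt N118352 (iv0 F509862)) (tt N75884 (iv2 D212750)) (tt N99189 F467348) (tt N81936 F467349) (tt N118170 (iv5 F508988)) (tt N89376 F467350) (tt N121804 (iv7 F528425)))
theorem Q109523 : ∀ i, i < 109523 → P i := stepQ 109522 Q109522 (allL N109522 (tt N118352 (iv1 F509863)) (tt N117004 (iv0 F502927)) (tt N121804 F528423) (tt N75886 F467351) (tt N81938 F467352) (tt N117483 (iv5 F505270)) (tt N121242 (iv6 F525322)) (tt N75884 (iv7 D212751)))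
theorem Q109524 : ∀ i, i < 109524 → P i := stepQ 109523 Q109523 (allL N109523 (tt N75932 (iv1 F467356)) (tt N75885 (iv0 D212752)) (tt N110645 (iv2 F472565)) (tt N76597 (iv3 F467357)) (tt N75910 F467354) (tt N75894 F467353) (tt N82083 F467355) (tt N76795 F467358))
theorem Q109525 : ∀ i, i < 109525 → P i := stepQ 109524 Q109524 (allL N109524 (tt N75885 (iv1 D212753)) (tt N75932 F467359) (tt N76795 (iv2 F467362)) (tt N110649 (iv3 F472579)) (tt N75901 F467361) (tt N75907 F467360) (tt N110818 (iv6 F473291)) (tt N110645 (iv7 F472571)))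
theorem Q109526 : ∀ i, i < 109526 → P i := stepQ 109525 Q109525 (allL N109525 (tt N109481 F467367) (tt N101132 F467368) (tt N109505 F467364) (tt N77884 F467369) (tt N75892 (iv4 D212755)) (tt N90934 F467366) (tt N121353 (iv6 F525927)) (tt N99140 F467365))
theorem Q109527 : ∀ i, i < 109527 → P i := stepQ 109526 Q109526 (allL N109526 (tt N101132 F467375) (tt N109481 F467376) (tt N99140 F467372) (tt N121806 D225065) (tt N75893 (iv4 D212756)) (tt N90933 F467373) (tt N117163 F503703) (tt N109505 F467374))
theorem Q109528 : ∀ i, i < 109528 → P i := stepQ 109527 Q109527 (allL N109527 (tt N117224 (iv1 F503987)) (tt N117223 F503983) (tt N99926 F467377) (tt N110799 (iv3 F473223)) (tt N75895 F467378) (tt N99273 F467379) (tt N75894 (iv6 D212757)) (tt N99928 F467380))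
theorem Q109529 : ∀ i, i < 109529 → P i := stepQ 109528 Q109528 (allL N109528 (tt N102994 F467384) (tt N117952 (iv0 F507761)) (tt N106884 F467381) (tt N75898 (iv3 D212758)) (tt N110286 (iv4 F470844)) (tt N103205 F467382) (tt N102990 (iv6 F467385)) (tt N86973 F467383))
theorem Q109530 : ∀ i, i < 109530 → P i := stepQ 109529 Q109529 (allL N109529 (tt N75902 F467390) (tt N103005 F467391) (tt N79934 F467386) (tt N102990 F467387) (tt N104221 F467388) (tt N109541 (iv5 F467445)) (tt N75898 (iv6 D212759)) (tt N103002 F467389))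
theorem Q109531 : ∀ i, i < 109531 → P i := stepQ 109530 Q109530 (allL N109530 (tt N111780 (iv1 F477940)) (tt N115496 (iv0 F495502)) (tt N103010 F467392) (tt N95643 F467393) (tt N103803 F467395) (tt N75902 (iv5 D212760)) (tt N120699 (iv6 F522217)) (tt N103006 F467394))
theorem Q109532 : ∀ i, i < 109532 → P i := stepQ 109531 Q109531 (allL N109531 (tt N101176 (iv1 F467399)) (tt N75904 (iv0 D212761)) (tt N111348 (iv2 F475940)) (tt N75978 F467397) (tt N78728 F467396) (tt N92571 F467398) (tt N111347 (iv6 F475937)) (tt N75934 F467400))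
theorem Q109533 : ∀ i, i < 109533 → P i := stepQ 109532 Q109532 (allL N109532 (tt N101175 F467405) (tt N101174 F467407) (tt N101177 F467401) (tt N75912 F467402) (tt N101168 F467406) (tt N75904 (iv5 D212762)) (tt N75905 F467403) (tt N98357 F467404))
theorem Q109534 : ∀ i, i < 109534 → P i := stepQ 109533 Q109533 (allL N109533 (tt N110811 (iv1 F473259)) (tt N110810 (iv0 F473258)) (tt N110813 (iv2 F473271)) (tt N75907 (iv3 D212763)) (tt N116105 (iv4 F498483)) (tt N110649 (iv5 F472580)) (tt N117228 (iv6 F504015)) (tt N110648 F472577))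
theorem Q109535 : ∀ i, i < 109535 → P i := stepQ 109534 Q109534 (allL N109534 (tt N97976 (iv1 F467412)) (tt N98454 F467411) (tt N98452 F467408) (tt N117232 (iv3 F504030)) (tt N106159 F467413) (tt N75908 (iv5 D212764)) (tt N75909 F467409) (tt N98453 F467410))
theorem Q109536 : ∀ i, i < 109536 → P i := stepQ 109535 Q109535 (allL N109535 (tt N96761 (iv1 F467418)) (tt N75922 (iv0 D212765)) (tt N108335 (iv2 F467417)) (tt N87942 F467416) (tt N80492 F467415) (tt N104930 F467414) (tt N75942 (iv6 F467420)) (tt N108334 F467419))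
theorem Q109537 : ∀ i, i < 109537 → P i := stepQ 109536 Q109536 (allL N109536 (tt N113691 (iv1 F486661)) (tt N81651 (iv0 F467426)) (tt N84267 F467422) (tt N75930 F467423) (tt N96260 F467424) (tt N108606 F467425) (tt N75928 (iv6 D212766)) (tt N113690 (iv7 F486651)))
theorem Q109538 : ∀ i, i < 109538 → P i := stepQ 109537 Q109537 (allL N109537 (tt N108486 F496999) (tt N103094 (iv0 F467432)) (tt N89257 F467427) (tt N90749 F467428) (tt N108537 F467430) (tt N115617 F495990) (tt N75931 (iv6 D212767)) (tt N108612 F467429))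
theorem Q109539 : ∀ i, i < 109539 → P i := stepQ 109538 Q109538 (allL N109538 (tt N90584 F467438) (tt N89227 (iv0 F467439)) (tt N90583 F467433) (tt N91271 F467434) (tt N99228 F467435) (tt N90583 F467436) (tt N75933 (iv6 D212768)) (tt N90582 F467437))
theorem Q109540 : ∀ i, i < 109540 → P i := stepQ 109539 Q109539 (allL N109539 (tt N103006 F467440) (tt N103010 F467441) (tt N111780 (iv2 F477937)) (tt N111318 (iv3 F475793)) (tt N120937 (iv4 F523574)) (tt N75941 (iv5 D212769)) (tt N111851 (iv6 F478308)) (tt N115496 (iv7 F495500)))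
theorem Q109541 : ∀ i, i < 109541 → P i := stepQ 109540 Q109540 (allL N109540 (tt N103010 F467443) (tt N103006 F467444) (tt N115496 (iv2 F495498)) (tt N87941 F467442) (tt N121038 (iv4 F524154)) (tt N75942 (iv5 D212770)) (tt N121807 D225066) (tt N111780 (iv7 F477939)))
theorem Q109542 : ∀ i, i < 109542 → P i := stepQ 109541 Q109541 (allL N109541 (tt N118956 F512965) (tt N75943 (iv0 D212771)) (tt N111770 (iv2 F477881)) (tt N111313 F475767) (tt N104813 (iv4 F467446)) (tt N109529 F467445) (tt N119341 (iv6 F515116)) (tt N115503 (iv7 F495529)))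
theorem Q109543 : ∀ i, i < 109543 → P i := stepQ 109542 Q109542 (allL N109542 (tt N75943 (iv1 D212772)) (tt N118956 (iv0 F512964)) (tt N115503 (iv2 F495527)) (tt N87416 (iv3 F467448)) (tt N120907 (iv4 F523398)) (tt N98125 F467447) (tt N118952 (iv6 F512941)) (tt N111770 (iv7 F477883)))
theorem Q109544 : ∀ i, i < 109544 → P i := stepQ 109543 Q109543 (allL N109543 (tt N115637 (iv1 F496083)) (tt N115663 (iv0 F496206)) (tt N120760 F522569) (tt N121808 D225067) (tt N75943 (iv4 D212773)) (tt N103617 F467449) (tt N115640 F496097) (tt N120761 (iv7 F522572)))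
theorem Q109545 : ∀ i, i < 109545 → P i := stepQ 109544 Q109544 (allL N109544 (tt N115503 F495531) (tt N111770 (iv0 F477884)) (tt N118956 (iv2 F512961)) (tt N115516 (iv3 F495595)) (tt N120761 (iv4 F522574)) (tt N75944 F467450) (tt N120930 F523546) (tt N75943 (iv7 D212774)))
theorem Q109546 : ∀ i, i < 109546 → P i := stepQ 109545 Q109545 (allL N109545 (tt N111492 F476589) (tt N80252 F467453) (tt N111490 F476583) (tt N75946 F467451) (tt N111460 (iv4 F476452)) (tt N75945 (iv5 D212775)) (tt N87858 F467452) (tt N111491 (iv7 F476584)))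
theorem Q109547 : ∀ i, i < 109547 → P i := stepQ 109546 Q109546 (allL N109546 (tt N88095 (iv1 F467455)) (tt N79954 F467456) (tt N110337 F471112) (tt N75947 F467454) (tt N115880 (iv4 F497379)) (tt N111491 (iv5 F476585)) (tt N113831 (iv6 F487337)) (tt N75945 (iv7 D212776)))
theorem Q109548 : ∀ i, i < 109548 → P i := stepQ 109547 Q109547 (allL N109547 (tt N121037 (iv1 F524152)) (tt N103940 (iv0 F478613)) (tt N115443 (iv2 F495220)) (tt N121809 D225068) (tt N75946 (iv4 D212777)) (tt N111912 (iv5 F478609)) (tt N87860 F467457) (tt N120758 (iv7 F522558)))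
theorem Q109549 : ∀ i, i < 109549 → P i := stepQ 109548 Q109548 (allL N109548 (tt N102799 F467458) (tt N91710 F467459) (tt N111844 (iv2 F478267)) (tt N121727 (iv3 F527986)) (tt N75948 (iv4 D212778)) (tt N112906 (iv5 F483221)) (tt N91714 (iv6 F467466)) (tt N111843 (iv7 F478263)))
theorem Q109550 : ∀ i, i < 109550 → P i := stepQ 109549 Q109549 (allL N109549 (tt N81071 F467463) (tt N86359 (iv0 F467464)) (tt N86368 F467460) (tt N100511 F467461) (tt N91714 F467465) (tt N118967 (iv5 F513020)) (tt N75948 (iv6 D212779)) (tt N86369 F467462))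
theorem Q109551 : ∀ i, i < 109551 → P i := stepQ 109550 Q109550 (allL N109550 (tt N79892 F467472) (tt N82033 (iv0 F467473)) (tt N86110 F467467) (tt N75952 (iv3 D212780)) (tt N109286 F467468) (tt N98504 F467469) (tt N80484 F467470) (tt N86111 F467471))
theorem Q109552 : ∀ i, i < 109552 → P i := stepQ 109551 Q109551 (allL N109551 (tt N113327 (iv1 F485047)) (tt N113326 (iv0 F485040)) (tt N111845 (iv2 F478274)) (tt N113859 (iv3 F487497)) (tt N75954 (iv4 D212781)) (tt N109327 F467474) (tt N83380 F467475) (tt N83291 F467476))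
theorem Q109553 : ∀ i, i < 109553 → P i := stepQ 109552 Q109552 (allL N109552 (tt N108389 F467481) (tt N108387 F467482) (tt N88840 F467477) (tt N77059 F467478) (tt N116451 (iv4 F500191)) (tt N75956 (iv5 D212782)) (tt N83495 F467479) (tt N77045 F467480))
theorem Q109554 : ∀ i, i < 109554 → P i := stepQ 109553 Q109553 (allL N109553 (tt N90203 F467488) (tt N90258 F467489) (tt N90256 F467483) (tt N75961 (iv3 D212783)) (tt N100794 F467484) (tt N82675 F467485) (tt N78823 F467486) (tt N90255 F467487))
theorem Q109555 : ∀ i, i < 109555 → P i := stepQ 109554 Q109554 (allL N109554 (tt N114082 (iv1 F488507)) (tt N88567 (iv0 F467493)) (tt N98183 (iv2 F467495)) (tt N75962 (iv3 D212784)) (tt N84737 F467490) (tt N89963 F467494) (tt N98166 F467491) (tt N84734 F467492))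
theorem Q109556 : ∀ i, i < 109556 → P i := stepQ 109555 Q109555 (allL N109555 (tt N100983 F467499) (tt N106495 F467500) (tt N108390 F467496) (tt N89963 F467497) (tt N120132 (iv4 F519229)) (tt N75962 (iv5 D212785)) (tt N116296 F499424) (tt N108428 F467498))
theorem Q109557 : ∀ i, i < 109557 → P i := stepQ 109556 Q109556 (allL N109556 (tt N81046 F467504) (tt N110273 F470773) (tt N110272 (iv2 F470765)) (tt N75964 (iv3 D212786)) (tt N108447 F467501) (tt N110147 F470174) (tt N84475 F467502) (tt N99891 F467503))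
theorem Q109558 : ∀ i, i < 109558 → P i := stepQ 109557 Q109557 (allL N109557 (tt N106495 F467507) (tt N100983 F467508) (tt N108428 F467505) (tt N110147 (iv3 F470177)) (tt N116816 (iv4 F501982)) (tt N75964 (iv5 D212787)) (tt N100968 F467509) (tt N108390 F467506))
theorem Q109559 : ∀ i, i < 109559 → P i := stepQ 109558 Q109558 (allL N109558 (tt N82931 (iv1 F467513)) (tt N75970 (iv0 D212788)) (tt N86312 (iv2 F467512)) (tt N98220 (iv3 F467515)) (tt N82897 F467511) (tt N80143 F467510) (tt N105625 (iv6 F467516)) (tt N86311 F467514))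
theorem Q109560 : ∀ i, i < 109560 → P i := stepQ 109559 Q109559 (allL N109559 (tt N89714 F467521) (tt N89658 (iv0 F467520)) (tt N89710 (iv2 F469953)) (tt N99779 F467518) (tt N113977 F488044) (tt N90070 F467519) (tt N75974 (iv6 D212789)) (tt N89711 (iv7 F469955)))
theorem Q109561 : ∀ i, i < 109561 → P i := stepQ 109560 Q109560 (allL N109560 (tt N110520 (iv1 F471965)) (tt N75983 (iv0 D212790)) (tt N109404 F467526) (tt N90036 (iv3 F467525)) (tt N108077 F467523) (tt N100013 F467522) (tt N89132 F467527) (tt N107654 (iv7 F467524)))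
theorem Q109562 : ∀ i, i < 109562 → P i := stepQ 109561 Q109561 (allL N109561 (tt N75983 (iv1 D212791)) (tt N110520 (iv0 F471964)) (tt N107654 F467532) (tt N113310 (iv3 F484956)) (tt N108063 F467530) (tt N99453 F467529) (tt N99511 (iv6 F467531)) (tt N109404 F467528))
theorem Q109563 : ∀ i, i < 109563 → P i := stepQ 109562 Q109562 (allL N109562 (tt N85179 F467537) (tt N109034 F467538) (tt N84783 F467533) (tt N90078 F467534) (tt N110516 (iv4 F471939)) (tt N75988 (iv5 D212792)) (tt N76557 F467535) (tt N90182 F467536))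
theorem Q109564 : ∀ i, i < 109564 → P i := stepQ 109563 Q109563 (allL N109563 (tt N109438 F467542) (tt N114445 F490208) (tt N100776 F467539) (tt N86012 F467540) (tt N120837 (iv4 F523001)) (tt N75992 (iv5 D212793)) (tt N78952 F467543) (tt N100775 F467541))
theorem Q109565 : ∀ i, i < 109565 → P i := stepQ 109564 Q109564 (allL N109564 (tt N92934 (iv1 F467548)) (tt N92936 (iv0 F467547)) (tt N100777 F467544) (tt N86781 F467545) (tt N111790 (iv4 F477988)) (tt N118098 (iv5 F508574)) (tt N75992 (iv6 D212794)) (tt N91179 F467546))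
theorem Q109566 : ∀ i, i < 109566 → P i := stepQ 109565 Q109565 (allL N109565 (tt N103027 F467554) (tt N107817 F467555) (tt N109395 F467549) (tt N107605 F467550) (tt N76001 (iv4 D212795)) (tt N107828 F467551) (tt N92803 F467552) (tt N108446 F467553))
theorem Q109567 : ∀ i, i < 109567 → P i := stepQ 109566 Q109566 (allL N109566 (tt N117926 (iv1 F507638)) (tt N98050 F467561) (tt N86097 F467556) (tt N98369 F467557) (tt N109168 F467558) (tt N76033 (iv5 D212796)) (tt N85862 F467559) (tt N98674 F467560))
theorem Q109568 : ∀ i, i < 109568 → P i := stepQ 109567 Q109567 (allL N109567 (tt N106717 F467564) (tt N103990 F467563) (tt N111232 (iv2 F475343)) (tt N115418 (iv3 F495097)) (tt N120267 (iv4 F519916)) (tt N76038 (iv5 D212797)) (tt N119356 (iv6 F515192)) (tt N97159 F467562))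
theorem Q109569 : ∀ i, i < 109569 → P i := stepQ 109568 Q109568 (allL N109568 (tt N110988 F474111) (tt N76041 (iv0 D212798)) (tt N77769 (iv2 F467569)) (tt N107660 F467567) (tt N100348 F467566) (tt N112133 (iv5 F479666)) (tt N102967 F467568) (tt N112476 (iv7 F481240)))
theorem Q109570 : ∀ i, i < 109570 → P i := stepQ 109569 Q109569 (allL N109569 (tt N108822 (iv1 F467575)) (tt N96843 F467574) (tt N76045 (iv2 D212799)) (tt N89519 F467570) (tt N100241 F467571) (tt N117456 (iv5 F505134)) (tt N94361 F467572) (tt N108823 F467573))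
theorem Q109571 : ∀ i, i < 109571 → P i := stepQ 109570 Q109570 (allL N109570 (tt N118579 (iv1 F510997)) (tt N121810 D225069) (tt N117456 (iv2 F505132)) (tt N76046 F467576) (tt N116650 (iv4 F501144)) (tt N76045 (iv5 D212800)) (tt N116649 (iv6 F501142)) (tt N100110 F467577))
theorem Q109572 : ∀ i, i < 109572 → P i := stepQ 109571 Q109571 (allL N109571 (tt N108762 F467580) (tt N116684 (iv0 F501295)) (tt N100109 F467578) (tt N116649 F501143) (tt N110129 (iv4 F470102)) (tt N94363 F467579) (tt N76046 (iv6 D212801)) (tt N121811 D225070))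
theorem Q109573 : ∀ i, i < 109573 → P i := stepQ 109572 Q109572 (allL N109572 (tt N108760 F467582) (tt N120159 (iv0 F519347)) (tt N118538 (iv2 F510848)) (tt N76048 F467581) (tt N121812 D225071) (tt N76047 (iv5 D212802)) (tt N120148 (iv6 F519302)) (tt N110458 (iv7 F471683)))
theorem Q109574 : ∀ i, i < 109574 → P i := stepQ 109573 Q109573 (allL N109573 (tt N91350 F472616) (tt N119251 (iv0 F514634)) (tt N113272 (iv2 F484810)) (tt N120148 (iv3 F519301)) (tt N110460 (iv4 F471692)) (tt N91391 F467583) (tt N76048 (iv6 D212803)) (tt N113289 (iv7 F484868)))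
theorem Q109575 : ∀ i, i < 109575 → P i := stepQ 109574 Q109574 (allL N109574 (tt N118537 F510846) (tt N76050 (iv0 D212804)) (tt N116640 (iv2 F501099)) (tt N77722 F467584) (tt N117546 (iv4 F505627)) (tt N110122 F470087) (tt N118032 (iv6 F508195)) (tt N118435 (iv7 F510340)))
theorem Q109576 : ∀ i, i < 109576 → P i := stepQ 109575 Q109575 (allL N109575 (tt N76050 (iv1 D212805)) (tt N118537 (iv0 F510845)) (tt N118435 (iv2 F510338)) (tt N116357 (iv3 F499698)) (tt N117547 F505631) (tt N110123 F510847) (tt N120442 (iv6 F520804)) (tt N116640 (iv7 F501101)))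
theorem Q109577 : ∀ i, i < 109577 → P i := stepQ 109576 Q109576 (allL N109576 (tt N116640 F501116) (tt N118435 (iv0 F510341)) (tt N76050 (iv2 D212806)) (tt N110457 (iv3 F471677)) (tt N93426 F467585) (tt N121813 D225072) (tt N118287 F509533) (tt N118537 (iv7 F510844)))
theorem Q109578 : ∀ i, i < 109578 → P i := stepQ 109577 Q109577 (allL N109577 (tt N121306 (iv1 F525668)) (tt N121617 (iv0 F527359)) (tt N121813 (iv2 F528470)) (tt N76051 F467586) (tt N121814 D225073) (tt N76050 (iv5 D212807)) (tt N110120 (iv6 F470083)) (tt N120116 (iv7 F519135)))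
theorem Q109579 : ∀ i, i < 109579 → P i := stepQ 109578 Q109578 (allL N109578 (tt N113288 (iv1 F484862)) (tt N113287 F484860) (tt N110460 (iv2 F471690)) (tt N110120 (iv3 F470082)) (tt N113272 (iv4 F484812)) (tt N89507 F467587) (tt N76051 (iv6 D212808)) (tt N113275 (iv7 F484819)))
theorem Q109580 : ∀ i, i < 109580 → P i := stepQ 109579 Q109579 (allL N109579 (tt N110576 F472209) (tt N100100 F467588) (tt N117450 (iv2 F505098)) (tt N109582 F467598) (tt N109584 (iv4 F467602)) (tt N76052 (iv5 D212809)) (tt N120151 F519322) (tt N117452 (iv7 F505116)))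
theorem Q109581 : ∀ i, i < 109581 → P i := stepQ 109580 Q109580 (allL N109580 (tt N117449 (iv1 F505097)) (tt N108831 F467592) (tt N76054 F467589) (tt N102741 F467590) (tt N113288 F484866) (tt N76053 (iv5 D212810)) (tt N102738 F467591) (tt N117835 (iv7 F507188)))
theorem Q109582 : ∀ i, i < 109582 → P i := stepQ 109581 Q109581 (allL N109581 (tt N117835 (iv1 F507190)) (tt N76054 (iv0 D212811)) (tt N117449 (iv2 F505091)) (tt N113284 (iv3 F484848)) (tt N100102 (iv4 F467594)) (tt N108819 F467593) (tt N108830 F467596) (tt N108831 (iv7 F467595)))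
theorem Q109583 : ∀ i, i < 109583 → P i := stepQ 109582 Q109582 (allL N109582 (tt N113275 F484820) (tt N110460 F471696) (tt N113288 F484864) (tt N109579 (iv3 F467598)) (tt N76054 (iv4 D212812)) (tt N89938 F467597) (tt N119723 (iv6 F517104)) (tt N113287 F484861))
theorem Q109584 : ∀ i, i < 109584 → P i := stepQ 109583 Q109583 (allL N109583 (tt N117833 F507183) (tt N117832 (iv0 F507179)) (tt N102738 F467599) (tt N76057 F467600) (tt N119723 (iv4 F517106)) (tt N102737 F467601) (tt N76054 (iv6 D212813)) (tt N121815 D225074))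
theorem Q109585 : ∀ i, i < 109585 → P i := stepQ 109584 Q109584 (allL N109584 (tt N116681 (iv1 F501285)) (tt N116387 (iv0 F499833)) (tt N116686 F501302) (tt N76056 (iv3 D212814)) (tt N109579 F467602) (tt N89518 F467603) (tt N120156 F519339) (tt N100108 F467604))
theorem Q109586 : ∀ i, i < 109586 → P i := stepQ 109585 Q109585 (allL N109585 (tt N121736 F528037) (tt N121816 D225075) (tt N100111 F467605) (tt N120156 (iv3 F519340)) (tt N76057 F467606) (tt N121567 (iv5 F527073)) (tt N76056 (iv6 D212815)) (tt N121817 D225076))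
theorem Q109587 : ∀ i, i < 109587 → P i := stepQ 109586 Q109586 (allL N109586 (tt N76057 (iv1 D212816)) (tt N118540 F510858) (tt N110086 (iv2 F469924)) (tt N110121 (iv3 F470085)) (tt N120141 (iv4 F519275)) (tt N110085 (iv5 F469923)) (tt N117454 (iv6 F505123)) (tt N118539 (iv7 F510853)))
theorem Q109588 : ∀ i, i < 109588 → P i := stepQ 109587 Q109587 (allL N109587 (tt N110086 (iv1 F469928)) (tt N118539 F510854) (tt N118540 (iv2 F510855)) (tt N121815 (iv3 F528477)) (tt N121817 (iv4 F528491)) (tt N110456 (iv5 F471676)) (tt N120143 (iv6 F519278)) (tt N76057 (iv7 D212817)))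
theorem Q109589 : ∀ i, i < 109589 → P i := stepQ 109588 Q109588 (allL N109588 (tt N81097 F467610) (tt N118794 (iv0 F512115)) (tt N107880 F467607) (tt N121619 (iv3 F527363)) (tt N76067 (iv4 D212818)) (tt N107726 F467608) (tt N121818 D225077) (tt N107773 F467609))
theorem Q109590 : ∀ i, i < 109590 → P i := stepQ 109589 Q109589 (allL N109589 (tt N96035 F467613) (tt N115059 (iv0 F493285)) (tt N109474 F467611) (tt N96271 F467612) (tt N121818 (iv4 F528497)) (tt N110387 (iv5 F471351)) (tt N76067 (iv6 D212819)) (tt N115061 (iv7 F493295)))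
theorem Q109591 : ∀ i, i < 109591 → P i := stepQ 109590 Q109590 (allL N109590 (tt N90046 F467618) (tt N107727 F467619) (tt N107882 F467614) (tt N99028 F467615) (tt N76070 (iv4 D212820)) (tt N111535 (iv5 F476795)) (tt N107074 F467616) (tt N107881 F467617))
theorem Q109592 : ∀ i, i < 109592 → P i := stepQ 109591 Q109591 (allL N109591 (tt N96175 F467623) (tt N117107 F503429) (tt N93713 F467620) (tt N116989 (iv3 F502850)) (tt N76072 (iv4 D212821)) (tt N117070 (iv5 F503230)) (tt N93710 F467621) (tt N109479 F467622))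
theorem Q109593 : ∀ i, i < 109593 → P i := stepQ 109592 Q109592 (allL N109592 (tt N102948 F467628) (tt N102947 (iv0 F467629)) (tt N101692 F467624) (tt N87463 F467625) (tt N105265 F467626) (tt N113706 (iv5 F486742)) (tt N76077 (iv6 D212822)) (tt N92583 F467627))
theorem Q109594 : ∀ i, i < 109594 → P i := stepQ 109593 Q109593 (allL N109593 (tt N106378 F467634) (tt N104137 F467633) (tt N113307 (iv2 F484944)) (tt N76085 F467630) (tt N116302 (iv4 F499454)) (tt N76084 (iv5 D212823)) (tt N92285 F467631) (tt N90055 F467632))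
theorem Q109595 : ∀ i, i < 109595 → P i := stepQ 109594 Q109594 (allL N109594 (tt N102618 F467639) (tt N98695 F467640) (tt N90062 F467635) (tt N106126 F467636) (tt N76087 (iv4 D212824)) (tt N103745 F467637) (tt N119578 (iv6 F516353)) (tt N90064 F467638))
theorem Q109596 : ∀ i, i < 109596 → P i := stepQ 109595 Q109595 (allL N109595 (tt N121819 D225078) (tt N121258 (iv0 F525422)) (tt N90063 F467641) (tt N101041 F467642) (tt N119578 (iv4 F516352)) (tt N113963 F487985) (tt N76087 (iv6 D212825)) (tt N106252 F467643))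
theorem Q109597 : ∀ i, i < 109597 → P i := stepQ 109596 Q109596 (allL N109596 (tt N104710 F467649) (tt N118627 F511211) (tt N94641 F467644) (tt N76089 (iv3 D212826)) (tt N94655 F467645) (tt N98715 F467646) (tt N90041 F467647) (tt N109155 F467648))
theorem Q109598 : ∀ i, i < 109598 → P i := stepQ 109597 Q109597 (allL N109597 (tt N118658 F511388) (tt N120622 (iv0 F521812)) (tt N111188 (iv2 F475148)) (tt N76096 (iv3 D212827)) (tt N83109 F467650) (tt N98739 F467651) (tt N83096 F467652) (tt N120661 (iv7 F522024)))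
theorem Q109599 : ∀ i, i < 109599 → P i := stepQ 109598 Q109598 (allL N109598 (tt N92048 (iv1 F467658)) (tt N76113 (iv0 D212828)) (tt N81524 (iv2 F467657)) (tt N95845 F467655) (tt N102885 F467654) (tt N81515 F467653) (tt N81517 F467656) (tt N97527 F467659))
theorem Q109600 : ∀ i, i < 109600 → P i := stepQ 109599 Q109599 (allL N109599 (tt N105724 F467664) (tt N105723 F467665) (tt N105725 F467660) (tt N76118 F467661) (tt N110031 (iv4 F469641)) (tt N90398 F467662) (tt N76116 (iv6 D212829)) (tt N105722 F467663))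
theorem Q109601 : ∀ i, i < 109601 → P i := stepQ 109600 Q109600 (allL N109600 (tt N91410 F467671) (tt N111090 (iv0 F474612)) (tt N101669 F467666) (tt N80375 F467667) (tt N100684 F467668) (tt N77416 F467669) (tt N76120 (iv6 D212830)) (tt N103449 F467670))
theorem Q109602 : ∀ i, i < 109602 → P i := stepQ 109601 Q109601 (allL N109601 (tt N77547 F467677) (tt N77557 F467678) (tt N87464 F467672) (tt N104152 F467673) (tt N76138 (iv4 D212831)) (tt N107124 F467674) (tt N92575 F467675) (tt N87462 F467676))
theorem Q109603 : ∀ i, i < 109603 → P i := stepQ 109602 Q109602 (allL N109602 (tt N100269 (iv1 F467682)) (tt N76149 (iv0 D212832)) (tt N100268 (iv2 F467681)) (tt N89122 F467680) (tt N90195 F467679) (tt N110402 F471412) (tt N110403 (iv6 F471416)) (tt N100267 F467683))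
theorem Q109604 : ∀ i, i < 109604 → P i := stepQ 109603 Q109603 (allL N109603 (tt N90139 F467686) (tt N110542 (iv0 F472062)) (tt N117083 (iv2 F503287)) (tt N76150 F467684) (tt N89812 F467687) (tt N76149 (iv5 D212833)) (tt N121508 (iv6 F526757)) (tt N100270 F467685))
theorem Q109605 : ∀ i, i < 109605 → P i := stepQ 109604 Q109604 (allL N109604 (tt N90837 F467691) (tt N110373 F471291) (tt N100220 F467688) (tt N116747 (iv3 F501615)) (tt N76150 (iv4 D212834)) (tt N79000 F467689) (tt N113172 (iv6 F484318)) (tt N88391 F467690))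
theorem Q109606 : ∀ i, i < 109606 → P i := stepQ 109605 Q109605 (allL N109605 (tt N86258 F467696) (tt N86257 F467697) (tt N85890 F467692) (tt N86159 F467693) (tt N76155 (iv4 D212835)) (tt N85889 (iv5 F467698)) (tt N95791 F467694) (tt N86259 F467695))
theorem Q109607 : ∀ i, i < 109607 → P i := stepQ 109606 Q109606 (allL N109606 (tt N76825 F467703) (tt N76824 F467704) (tt N76159 F467699) (tt N76835 F467700) (tt N76158 (iv4 D212836)) (tt N119856 (iv5 F517720)) (tt N102701 F467701) (tt N76826 F467702))
theorem Q109608 : ∀ i, i < 109608 → P i := stepQ 109607 Q109607 (allL N109607 (tt N76159 (iv1 D212837)) (tt N76826 F467705) (tt N76824 F467709) (tt N106582 (iv3 F467708)) (tt N102713 F467707) (tt N110567 (iv5 F472174)) (tt N95800 F467710) (tt N76825 F467706))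
theorem Q109609 : ∀ i, i < 109609 → P i := stepQ 109608 Q109608 (allL N109608 (tt N100471 F467713) (tt N98905 F467714) (tt N119856 F517722) (tt N76603 F467711) (tt N110392 (iv4 F471367)) (tt N76159 (iv5 D212838)) (tt N110391 (iv6 F471366)) (tt N76827 F467712))
theorem Q109610 : ∀ i, i < 109610 → P i := stepQ 109609 Q109609 (allL N109609 (tt N108371 F467720) (tt N108362 F467721) (tt N107147 F467715) (tt N106262 F467716) (tt N108431 F467719) (tt N76162 (iv5 D212839)) (tt N106259 F467717) (tt N107144 F467718))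
theorem Q109611 : ∀ i, i < 109611 → P i := stepQ 109610 Q109610 (allL N109610 (tt N80047 F467727) (tt N112380 (iv0 F480823)) (tt N105712 F467722) (tt N76168 (iv3 D212840)) (tt N94981 F467723) (tt N100690 F467724) (tt N80076 F467725) (tt N109235 F467726))
theorem Q109612 : ∀ i, i < 109612 → P i := stepQ 109611 Q109611 (allL N109611 (tt N99513 F467732) (tt N88866 F467733) (tt N76174 F467728) (tt N88929 F467729) (tt N89653 F467730) (tt N76171 (iv5 D212841)) (tt N89652 F467734) (tt N107122 F467731))
theorem Q109613 : ∀ i, i < 109613 → P i := stepQ 109612 Q109612 (allL N109612 (tt N90748 F467740) (tt N89253 F467741) (tt N83207 F467735) (tt N76173 (iv3 D212842)) (tt N87260 F467736) (tt N88868 F467737) (tt N76199 F467738) (tt N90750 F467739))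
theorem Q109614 : ∀ i, i < 109614 → P i := stepQ 109613 Q109613 (allL N109613 (tt N107122 (iv1 F467744)) (tt N76174 (iv0 D212843)) (tt N99513 F467746) (tt N113094 (iv3 F483950)) (tt N77661 F467743) (tt N80395 F467742) (tt N113544 (iv6 F485960)) (tt N88866 (iv7 F467745)))
theorem Q109615 : ∀ i, i < 109615 → P i := stepQ 109614 Q109614 (allL N109614 (tt N76174 (iv1 D212844)) (tt N107122 F467747) (tt N88866 (iv2 F467751)) (tt N117346 (iv3 F504582)) (tt N79114 F467750) (tt N80396 F467749) (tt N81873 (iv6 F467752)) (tt N99513 F467748))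
theorem Q109616 : ∀ i, i < 109616 → P i := stepQ 109615 Q109615 (allL N109615 (tt N121411 F526212) (tt N121820 D225079) (tt N120774 (iv2 F522641)) (tt N78072 F467753) (tt N114146 (iv4 F488741)) (tt N78069 F467754) (tt N76176 (iv6 D212845)) (tt N111388 (iv7 F476126)))
theorem Q109617 : ∀ i, i < 109617 → P i := stepQ 109616 Q109616 (allL N109616 (tt N79043 F467759) (tt N85701 (iv0 F467760)) (tt N98244 F467755) (tt N76177 (iv3 D212846)) (tt N84793 F467756) (tt N86410 F467757) (tt N115720 (iv6 F496502)) (tt N98243 F467758))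
theorem Q109618 : ∀ i, i < 109618 → P i := stepQ 109617 Q109617 (allL N109617 (tt N106770 (iv1 F467764)) (tt N76180 (iv0 D212847)) (tt N77681 F467767) (tt N107034 (iv3 F467765)) (tt N76285 F467762) (tt N101109 F467761) (tt N107033 F467763) (tt N77682 F467766))
theorem Q109619 : ∀ i, i < 109619 → P i := stepQ 109618 Q109618 (allL N109618 (tt N76180 (iv1 D212848)) (tt N106770 F467768) (tt N77682 (iv2 F467772)) (tt N107502 F467774) (tt N76286 F467771) (tt N89120 F467770) (tt N92222 (iv6 F467773)) (tt N77681 F467769))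
theorem Q109620 : ∀ i, i < 109620 → P i := stepQ 109619 Q109619 (allL N109619 (tt N114594 (iv1 F490928)) (tt N114308 (iv0 F489520)) (tt N109716 (iv2 F468256)) (tt N82880 F467775) (tt N76280 F467776) (tt N113696 (iv5 F486684)) (tt N76182 (iv6 D212849)) (tt N109680 (iv7 F468072)))
theorem Q109621 : ∀ i, i < 109621 → P i := stepQ 109620 Q109620 (allL N109620 (tt N118943 F512888) (tt N89608 (iv0 F467781)) (tt N89066 F467777) (tt N76189 F467778) (tt N81135 F467779) (tt N88556 (iv5 F467782)) (tt N76187 (iv6 D212850)) (tt N88555 F467780))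
theorem Q109622 : ∀ i, i < 109622 → P i := stepQ 109621 Q109621 (allL N109621 (tt N78984 F467787) (tt N78991 (iv0 F467788)) (tt N90185 F467783) (tt N85502 F467784) (tt N85434 F467785) (tt N115178 (iv5 F493876)) (tt N76188 (iv6 D212851)) (tt N85515 F467786))
theorem Q109623 : ∀ i, i < 109623 → P i := stepQ 109622 Q109622 (allL N109622 (tt N112712 (iv1 F482312)) (tt N116758 (iv0 F501673)) (tt N118447 (iv2 F510408)) (tt N88556 F467789) (tt N88577 F467790) (tt N76189 (iv5 D212852)) (tt N115178 F493881) (tt N88554 F467791))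
theorem Q109624 : ∀ i, i < 109624 → P i := stepQ 109623 Q109623 (allL N109623 (tt N121136 F524715) (tt N110462 (iv0 F503525)) (tt N112644 (iv2 F481967)) (tt N76195 (iv3 D212853)) (tt N118463 F510507) (tt N88507 (iv5 F467794)) (tt N108947 F467792) (tt N109339 F467793))
theorem Q109625 : ∀ i, i < 109625 → P i := stepQ 109624 Q109624 (allL N109624 (tt N119947 (iv1 F518190)) (tt N96723 F467799) (tt N109337 F467795) (tt N88507 F467796) (tt N80735 F467798) (tt N76195 (iv5 D212854)) (tt N110223 F470509) (tt N96658 F467797))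
theorem Q109626 : ∀ i, i < 109626 → P i := stepQ 109625 Q109625 (allL N109625 (tt N98399 F467805) (tt N117514 F505451) (tt N99832 F467800) (tt N76198 F467801) (tt N82839 F467802) (tt N76197 (iv5 D212855)) (tt N99830 F467803) (tt N87823 F467804))
theorem Q109627 : ∀ i, i < 109627 → P i := stepQ 109626 Q109626 (allL N109626 (tt N101743 F467810) (tt N101106 (iv0 F467811)) (tt N83188 F467806) (tt N76200 (iv3 D212856)) (tt N79500 F467807) (tt N79494 F467808) (tt N121435 (iv6 F526356)) (tt N99422 F467809))
theorem Q109628 : ∀ i, i < 109628 → P i := stepQ 109627 Q109627 (allL N109627 (tt N96887 F467817) (tt N95373 F467818) (tt N107931 F467812) (tt N76205 F467813) (tt N96821 F467814) (tt N76203 (iv5 D212857)) (tt N100091 F467815) (tt N99460 F467816))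
theorem Q109629 : ∀ i, i < 109629 → P i := stepQ 109628 Q109628 (allL N109628 (tt N76207 (iv1 D212858)) (tt N101253 F467819) (tt N78137 (iv2 F467823)) (tt N101072 (iv3 F467824)) (tt N78135 F467822) (tt N77198 F467821) (tt N96655 F467825) (tt N101422 F467820))
theorem Q109630 : ∀ i, i < 109630 → P i := stepQ 109629 Q109629 (allL N109629 (tt N95197 F467830) (tt N95196 F467832) (tt N77131 F467826) (tt N85121 F467827) (tt N77042 F467828) (tt N95184 (iv5 F467831)) (tt N76209 (iv6 D212859)) (tt N85247 F467829))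
theorem Q109631 : ∀ i, i < 109631 → P i := stepQ 109630 Q109630 (allL N109630 (tt N94732 F467838) (tt N94731 F467839) (tt N77133 F467833) (tt N95150 F467834) (tt N81668 F467835) (tt N76210 (iv5 D212860)) (tt N95184 F467836) (tt N81724 F467837))
theorem Q109632 : ∀ i, i < 109632 → P i := stepQ 109631 Q109631 (allL N109631 (tt N91644 (iv1 F467844)) (tt N76212 (iv0 D212861)) (tt N85119 (iv2 F467843)) (tt N86248 F467842) (tt N86050 F467841) (tt N78801 F467840) (tt N115052 F493239) (tt N85117 F467845))
theorem Q109633 : ∀ i, i < 109633 → P i := stepQ 109632 Q109632 (allL N109632 (tt N85119 (iv1 F467851)) (tt N85117 F467850) (tt N76212 (iv2 D212862)) (tt N103176 F467846) (tt N77487 F467847) (tt N98298 F467848) (tt N121821 D225080) (tt N91644 F467849))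
theorem Q109634 : ∀ i, i < 109634 → P i := stepQ 109633 Q109633 (allL N109633 (tt N119083 F513701) (tt N116616 (iv0 F500990)) (tt N121821 (iv2 F528514)) (tt N76214 F467852) (tt N77489 F467853) (tt N115669 (iv5 F496228)) (tt N76212 (iv6 D212863)) (tt N112305 (iv7 F480460)))
theorem Q109635 : ∀ i, i < 109635 → P i := stepQ 109634 Q109634 (allL N109634 (tt N114558 F490772) (tt N106532 (iv0 F467857)) (tt N103178 F467854) (tt N98309 F467855) (tt N109347 F467856) (tt N115670 (iv5 F496233)) (tt N76213 (iv6 D212864)) (tt N114529 (iv7 F490619)))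
theorem Q109636 : ∀ i, i < 109636 → P i := stepQ 109635 Q109635 (allL N109635 (tt N106335 F467861) (tt N117475 (iv0 F505225)) (tt N120783 (iv2 F522684)) (tt N76218 (iv3 D212865)) (tt N101954 F467858) (tt N120168 (iv5 F519396)) (tt N90954 F467859) (tt N78811 F467860))
theorem Q109637 : ∀ i, i < 109637 → P i := stepQ 109636 Q109636 (allL N109636 (tt N100223 F467865) (tt N100221 F467866) (tt N102879 F467862) (tt N117159 F503687) (tt N76219 (iv4 D212866)) (tt N78762 F467864) (tt N121452 (iv6 F526456)) (tt N102882 F467863))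
theorem Q109638 : ∀ i, i < 109638 → P i := stepQ 109637 Q109637 (allL N109637 (tt N113169 F484308) (tt N121822 D225081) (tt N117374 (iv2 F504720)) (tt N83481 F467867) (tt N121452 (iv4 F526460)) (tt N121694 (iv5 F527791)) (tt N76219 (iv6 D212867)) (tt N120274 (iv7 F519961)))
theorem Q109639 : ∀ i, i < 109639 → P i := stepQ 109638 Q109638 (allL N109638 (tt N89132 F467871) (tt N89131 F467872) (tt N89838 F467868) (tt N76223 (iv3 D212868)) (tt N114482 (iv4 F490407)) (tt N86820 F467869) (tt N119510 (iv6 F515985)) (tt N90069 F467870))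
theorem Q109640 : ∀ i, i < 109640 → P i := stepQ 109639 Q109639 (allL N109639 (tt N105811 (iv1 F467875)) (tt N76225 (iv0 D212869)) (tt N106319 (iv2 F467876)) (tt N76232 (iv3 F467877)) (tt N104243 F467873) (tt N115711 (iv5 F496447)) (tt N98364 F467874) (tt N106313 F467878))
theorem Q109641 : ∀ i, i < 109641 → P i := stepQ 109640 Q109640 (allL N109640 (tt N76225 (iv1 D212870)) (tt N105811 F467881) (tt N106313 (iv2 F467884)) (tt N109714 (iv3 F468247)) (tt N105959 F467883) (tt N119268 (iv5 F514726)) (tt N121769 (iv6 F528208)) (tt N106319 F467882))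
theorem Q109642 : ∀ i, i < 109642 → P i := stepQ 109641 Q109641 (allL N109641 (tt N118357 F509895) (tt N114974 (iv0 F492858)) (tt N82908 F467885) (tt N76226 (iv3 D212871)) (tt N82639 (iv4 F467887)) (tt N105823 F467886) (tt N82638 F467888) (tt N119583 (iv7 F516381)))
theorem Q109643 : ∀ i, i < 109643 → P i := stepQ 109642 Q109642 (allL N109642 (tt N109216 F467892) (tt N100327 F467893) (tt N119594 (iv2 F516423)) (tt N107485 F467889) (tt N76226 (iv4 D212872)) (tt N107484 F467891) (tt N104141 F467894) (tt N105058 F467890))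
theorem Q109644 : ∀ i, i < 109644 → P i := stepQ 109643 Q109643 (allL N109643 (tt N121769 F528211) (tt N111759 (iv0 F477827)) (tt N119595 (iv2 F516429)) (tt N82638 F467895) (tt N104141 F467896) (tt N87640 F467897) (tt N76226 (iv6 D212873)) (tt N82912 F467898))
theorem Q109645 : ∀ i, i < 109645 → P i := stepQ 109644 Q109644 (allL N109644 (tt N113697 (iv1 F486689)) (tt N113693 (iv0 F486671)) (tt N85091 F467899) (tt N112834 (iv3 F482858)) (tt N76230 F467900) (tt N89470 F467901) (tt N76229 (iv6 D212874)) (tt N116764 (iv7 F501711)))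
theorem Q109646 : ∀ i, i < 109646 → P i := stepQ 109645 Q109645 (allL N109645 (tt N85093 (iv1 F467906)) (tt N85092 F467907) (tt N85095 F467902) (tt N76234 F467903) (tt N116764 (iv4 F501706)) (tt N86806 F467904) (tt N85102 F467905) (tt N76230 (iv7 D212875)))
theorem Q109647 : ∀ i, i < 109647 → P i := stepQ 109646 Q109646 (allL N109646 (tt N76231 (iv1 D212876)) (tt N118056 F508333) (tt N105608 (iv2 F467911)) (tt N114589 F490898) (tt N93132 F467909) (tt N96387 F467908) (tt N108168 (iv6 F467910)) (tt N118055 (iv7 F508326)))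
theorem Q109648 : ∀ i, i < 109648 → P i := stepQ 109647 Q109647 (allL N109647 (tt N105608 (iv1 F467916)) (tt N118055 F508327) (tt N118056 (iv2 F508328)) (tt N96710 F467912) (tt N76234 F467913) (tt N104516 F467914) (tt N108103 F467915) (tt N76231 (iv7 D212877)))
theorem Q109649 : ∀ i, i < 109649 → P i := stepQ 109648 Q109648 (allL N109648 (tt N101220 F467920) (tt N76236 (iv0 F467921)) (tt N114595 (iv2 F490929)) (tt N90715 F467917) (tt N76232 (iv4 D212878)) (tt N106143 F467919) (tt N97155 F467918) (tt N118053 (iv7 F508314)))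
theorem Q109650 : ∀ i, i < 109650 → P i := stepQ 109649 Q109649 (allL N109649 (tt N76415 F467925) (tt N95897 F467926) (tt N114073 (iv2 F488457)) (tt N115711 (iv3 F496445)) (tt N106146 F467924) (tt N76232 (iv5 D212879)) (tt N95892 F467922) (tt N93116 F467923))
theorem Q109651 : ∀ i, i < 109651 → P i := stepQ 109650 Q109650 (allL N109650 (tt N76236 F467928) (tt N101220 F467929) (tt N118053 (iv2 F508312)) (tt N85160 F467930) (tt N76233 (iv4 D212880)) (tt N106148 F467927) (tt N110934 (iv6 F473864)) (tt N114595 (iv7 F490932)))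
theorem Q109652 : ∀ i, i < 109652 → P i := stepQ 109651 Q109651 (allL N109651 (tt N98611 F467931) (tt N76243 (iv0 F467932)) (tt N118054 (iv2 F508317)) (tt N114764 (iv3 F491737)) (tt N110934 (iv4 F473863)) (tt N114763 F491734) (tt N76233 (iv6 D212881)) (tt N119576 (iv7 F516338)))
theorem Q109653 : ∀ i, i < 109653 → P i := stepQ 109652 Q109652 (allL N109652 (tt N117719 (iv1 F506609)) (tt N110483 (iv0 F471795)) (tt N76235 (iv2 D212882)) (tt N101270 F467933) (tt N101427 F467935) (tt N101270 F467934) (tt N101264 (iv6 F467936)) (tt N117720 (iv7 F506613)))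
theorem Q109654 : ∀ i, i < 109654 → P i := stepQ 109653 Q109653 (allL N109653 (tt N91449 F467939) (tt N114991 F492955) (tt N101427 F467937) (tt N92984 F467938) (tt N76235 (iv4 D212883)) (tt N110430 (iv5 F471547)) (tt N101415 (iv6 F467940)) (tt N114466 (iv7 F490325)))
theorem Q109655 : ∀ i, i < 109655 → P i := stepQ 109654 Q109654 (allL N109654 (tt N101261 (iv1 F467951)) (tt N101260 (iv0 F467947)) (tt N101264 F467941) (tt N76236 F467942) (tt N101415 F467943) (tt N101797 F467944) (tt N76235 (iv6 D212884)) (tt N101262 F467950))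
theorem Q109656 : ∀ i, i < 109656 → P i := stepQ 109655 Q109655 (allL N109655 (tt N106152 F467958) (tt N106153 F467959) (tt N101796 F467955) (tt N101797 F467956) (tt N120984 (iv4 F523860)) (tt N76236 (iv5 D212885)) (tt N101796 F467957) (tt N121823 D225082))
theorem Q109657 : ∀ i, i < 109657 → P i := stepQ 109656 Q109656 (allL N109656 (tt N118053 (iv1 F508316)) (tt N114595 (iv0 F490933)) (tt N101220 F467960) (tt N101262 F467961) (tt N92989 F467962) (tt N121823 (iv5 F528531)) (tt N117718 (iv6 F506600)) (tt N76236 (iv7 D212886)))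
theorem Q109658 : ∀ i, i < 109658 → P i := stepQ 109657 Q109657 (allL N109657 (tt N110934 (iv1 F473862)) (tt N110935 (iv0 F473868)) (tt N113116 (iv2 F484038)) (tt N96472 F467963) (tt N103045 F467964) (tt N118364 (iv5 F509938)) (tt N76237 (iv6 D212887)) (tt N107902 F467965))
theorem Q109659 : ∀ i, i < 109659 → P i := stepQ 109658 Q109658 (allL N109658 (tt N85565 (iv1 F467969)) (tt N85562 (iv0 F467968)) (tt N113083 (iv2 F483899)) (tt N76243 F467966) (tt N83912 F467967) (tt N114985 (iv5 F492914)) (tt N76240 (iv6 D212888)) (tt N113702 (iv7 F486715)))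
theorem Q109660 : ∀ i, i < 109660 → P i := stepQ 109659 Q109659 (allL N109659 (tt N119146 (iv1 F514032)) (tt N119147 (iv0 F514037)) (tt N119575 (iv2 F516331)) (tt N105145 F467970) (tt N76242 (iv4 D212889)) (tt N96628 F467972) (tt N121824 D225083) (tt N109424 F467971))
theorem Q109661 : ∀ i, i < 109661 → P i := stepQ 109660 Q109660 (allL N109660 (tt N98676 F467976) (tt N98673 F467977) (tt N109425 F467973) (tt N119629 (iv3 F516599)) (tt N121824 (iv4 F528536)) (tt N98606 F467974) (tt N76242 (iv6 D212890)) (tt N78948 F467975))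
theorem Q109662 : ∀ i, i < 109662 → P i := stepQ 109661 Q109661 (allL N109661 (tt N76243 (iv1 D212891)) (tt N98611 F467978) (tt N119576 (iv2 F516343)) (tt N111759 (iv3 F477825)) (tt N110935 (iv4 F473866)) (tt N98664 (iv5 F467980)) (tt N104925 (iv6 F467979)) (tt N118054 (iv7 F508319)))
theorem Q109663 : ∀ i, i < 109663 → P i := stepQ 109662 Q109662 (allL N109662 (tt N78264 F467986) (tt N108630 F467987) (tt N88113 F467982) (tt N88156 F467983) (tt N115899 (iv4 F497478)) (tt N76248 (iv5 D212892)) (tt N88087 F467984) (tt N108283 F467985))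
theorem Q109664 : ∀ i, i < 109664 → P i := stepQ 109663 Q109663 (allL N109663 (tt N107531 F467990) (tt N107533 F467991) (tt N120096 (iv2 F519019)) (tt N77934 F467988) (tt N83063 (iv4 F467992)) (tt N76255 (iv5 D212893)) (tt N77934 F467993) (tt N83541 F467989))
theorem Q109665 : ∀ i, i < 109665 → P i := stepQ 109664 Q109664 (allL N109664 (tt N99049 F467999) (tt N94924 (iv0 F468000)) (tt N99730 F467994) (tt N77935 F467995) (tt N76256 F467996) (tt N77935 F467997) (tt N76255 (iv6 D212894)) (tt N99147 F467998))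
theorem Q109666 : ∀ i, i < 109666 → P i := stepQ 109665 Q109665 (allL N109665 (tt N103103 F468006) (tt N100781 (iv0 F468007)) (tt N99739 F468001) (tt N85368 F468002) (tt N76376 F468003) (tt N109077 F468004) (tt N76258 (iv6 D212895)) (tt N109076 F468005))
theorem Q109667 : ∀ i, i < 109667 → P i := stepQ 109666 Q109666 (allL N109666 (tt N101473 F468013) (tt N84825 F468014) (tt N94002 F468008) (tt N98600 F468009) (tt N76460 F468010) (tt N76261 (iv5 D212896)) (tt N98598 F468011) (tt N94003 F468012))
theorem Q109668 : ∀ i, i < 109668 → P i := stepQ 109667 Q109667 (allL N109667 (tt N110242 F470598) (tt N77396 F468019) (tt N101094 F468015) (tt N101162 F468016) (tt N77548 F468018) (tt N76262 (iv5 D212897)) (tt N81368 F468017) (tt N110347 (iv7 F471157)))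
theorem Q109669 : ∀ i, i < 109669 → P i := stepQ 109668 Q109668 (allL N109668 (tt N110152 (iv1 F470197)) (tt N105269 (iv0 F468023)) (tt N100061 F468020) (tt N76269 F468021) (tt N121825 D225084) (tt N76267 (iv5 D212898)) (tt N100037 F468022) (tt N113487 (iv7 F485729)))
theorem Q109670 : ∀ i, i < 109670 → P i := stepQ 109669 Q109669 (allL N109669 (tt N111836 (iv1 F478224)) (tt N111087 (iv0 F474596)) (tt N97101 F468024) (tt N76268 (iv3 D212899)) (tt N81328 F468025) (tt N94305 (iv5 F468028)) (tt N81327 (iv6 F468027)) (tt N96973 F468026))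
theorem Q109671 : ∀ i, i < 109671 → P i := stepQ 109670 Q109670 (allL N109670 (tt N105238 F468032) (tt N119626 F516586) (tt N98594 F468029) (tt N94305 F468030) (tt N121332 (iv4 F525818)) (tt N76268 (iv5 D212900)) (tt N121333 (iv6 F525825)) (tt N100951 F468031))
theorem Q109672 : ∀ i, i < 109672 → P i := stepQ 109671 Q109671 (allL N109671 (tt N78111 (iv1 F468040)) (tt N99835 (iv0 F468039)) (tt N98595 F468034) (tt N81327 F468035) (tt N76344 F468036) (tt N78098 F468038) (tt N76268 (iv6 D212901)) (tt N107116 F468037))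
theorem Q109673 : ∀ i, i < 109673 → P i := stepQ 109672 Q109672 (allL N109672 (tt N100956 (iv1 F468043)) (tt N76269 (iv0 D212902)) (tt N100953 (iv2 F468041)) (tt N119305 (iv3 F514944)) (tt N121826 D225085) (tt N119304 (iv5 F514942)) (tt N114056 F516729) (tt N100954 F468042))
theorem Q109674 : ∀ i, i < 109674 → P i := stepQ 109673 Q109673 (allL N109673 (tt N113605 (iv1 F486272)) (tt N113964 F487996) (tt N100955 F468044) (tt N113815 F487253) (tt N76269 (iv4 D212903)) (tt N85044 F468046) (tt N100950 F468045) (tt N110141 (iv7 F470151)))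
theorem Q109675 : ∀ i, i < 109675 → P i := stepQ 109674 Q109674 (allL N109674 (tt N100954 (iv1 F468049)) (tt N100953 F468050) (tt N100956 F468047) (tt N113487 (iv3 F485727)) (tt N110141 (iv4 F470150)) (tt N76270 F468048) (tt N110140 F470148) (tt N76269 (iv7 D212904)))
theorem Q109676 : ∀ i, i < 109676 → P i := stepQ 109675 Q109675 (allL N109675 (tt N121686 (iv1 F527744)) (tt N121691 (iv0 F527774)) (tt N109706 (iv2 F468214)) (tt N84309 F468051) (tt N84311 F468052) (tt N76271 (iv5 D212905)) (tt N121496 (iv6 F526691)) (tt N109708 (iv7 F468226)))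
theorem Q109677 : ∀ i, i < 109677 → P i := stepQ 109676 Q109676 (allL N109676 (tt N119475 (iv1 F515812)) (tt N109374 F468053) (tt N109677 (iv2 F468055)) (tt N115338 (iv3 F494666)) (tt N76272 (iv4 D212906)) (tt N111326 (iv5 F475836)) (tt N100159 F468054) (tt N114338 (iv7 F489688)))
theorem Q109678 : ∀ i, i < 109678 → P i := stepQ 109677 Q109677 (allL N109677 (tt N109380 (iv1 F468059)) (tt N105884 (iv0 F468058)) (tt N109676 F468055) (tt N105797 F468056) (tt N100159 F468057) (tt N114429 (iv5 F490111)) (tt N76272 (iv6 D212907)) (tt N109678 (iv7 F468061)))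
theorem Q109679 : ∀ i, i < 109679 → P i := stepQ 109678 Q109678 (allL N109678 (tt N109374 F468063) (tt N119475 (iv0 F515810)) (tt N114338 (iv2 F489685)) (tt N85027 F468060) (tt N76275 (iv4 D212908)) (tt N85026 F468062) (tt N113122 (iv6 F484072)) (tt N109677 F468061))
theorem Q109680 : ∀ i, i < 109680 → P i := stepQ 109679 Q109679 (allL N109679 (tt N109076 F468068) (tt N99739 (iv0 F468070)) (tt N103103 F468064) (tt N100017 F468065) (tt N108414 F468069) (tt N76276 (iv5 D212909)) (tt N85816 F468066) (tt N100781 F468067))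
theorem Q109681 : ∀ i, i < 109681 → P i := stepQ 109680 Q109680 (allL N109680 (tt N109082 F468073) (tt N85313 (iv0 F468074)) (tt N120164 (iv2 F519371)) (tt N88457 F468071) (tt N109683 (iv4 F468091)) (tt N111330 (iv5 F475852)) (tt N76277 (iv6 D212910)) (tt N109619 F468072))
theorem Q109682 : ∀ i, i < 109682 → P i := stepQ 109681 Q109681 (allL N109681 (tt N118445 (iv1 F510400)) (tt N76280 (iv0 D212911)) (tt N118444 F510392) (tt N83821 (iv3 F468078)) (tt N86064 F468075) (tt N83820 F468077) (tt N85313 F468076) (tt N109085 (iv7 F468089)))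
theorem Q109683 : ∀ i, i < 109683 → P i := stepQ 109682 Q109682 (allL N109682 (tt N76280 (iv1 D212912)) (tt N118445 F510399) (tt N109085 F468083) (tt N101047 F468084) (tt N86065 (iv4 F468081)) (tt N109752 F468447) (tt N109049 (iv6 F468082)) (tt N118444 (iv7 F510393)))
theorem Q109684 : ∀ i, i < 109684 → P i := stepQ 109683 Q109683 (allL N109683 (tt N109085 (iv1 F468185)) (tt N118444 F510394) (tt N118445 (iv2 F510395)) (tt N76427 F468090) (tt N109680 F468091) (tt N76426 F468092) (tt N109078 F468093) (tt N76280 (iv7 D212913)))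
theorem Q109685 : ∀ i, i < 109685 → P i := stepQ 109684 Q109684 (allL N109684 (tt N76346 (iv1 F468097)) (tt N99815 F468098) (tt N109078 F468094) (tt N117993 (iv3 F507963)) (tt N100163 F468095) (tt N105235 F468096) (tt N118445 (iv6 F510398)) (tt N76281 (iv7 D212914)))
theorem Q109686 : ∀ i, i < 109686 → P i := stepQ 109685 Q109685 (allL N109685 (tt N77674 (iv1 F468102)) (tt N76284 (iv0 D212915)) (tt N77672 (iv2 F468101)) (tt N78392 (iv3 F468104)) (tt N109373 F468100) (tt N91216 F468099) (tt N117727 (iv6 F506649)) (tt N77673 F468103))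
theorem Q109687 : ∀ i, i < 109687 → P i := stepQ 109686 Q109686 (allL N109686 (tt N117088 F503316) (tt N120385 (iv0 F520508)) (tt N83200 F468105) (tt N76289 F468106) (tt N111586 (iv4 F477025)) (tt N113967 (iv5 F488004)) (tt N76288 (iv6 D212916)) (tt N107991 F468107))
theorem Q109688 : ∀ i, i < 109688 → P i := stepQ 109687 Q109687 (allL N109687 (tt N78110 F468110) (tt N107474 F468111) (tt N77691 F468108) (tt N113967 (iv3 F488002)) (tt N121266 (iv4 F525465)) (tt N76289 (iv5 D212917)) (tt N113497 (iv6 F485778)) (tt N107992 F468109))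
theorem Q109689 : ∀ i, i < 109689 → P i := stepQ 109688 Q109688 (allL N109688 (tt N89516 F468116) (tt N89514 F468117) (tt N94323 F468112) (tt N91348 F468113) (tt N76294 (iv4 D212918)) (tt N113287 (iv5 F484858)) (tt N92290 F468114) (tt N89938 F468115))
theorem Q109690 : ∀ i, i < 109690 → P i := stepQ 109689 Q109689 (allL N109689 (tt N84258 F468123) (tt N105115 (iv0 F468124)) (tt N78685 F468118) (tt N77562 F468119) (tt N76303 F468120) (tt N88784 F468121) (tt N76301 (iv6 D212919)) (tt N108329 F468122))
theorem Q109691 : ∀ i, i < 109691 → P i := stepQ 109690 Q109690 (allL N109690 (tt N82033 F468129) (tt N79892 F468130) (tt N86111 F468125) (tt N113712 (iv3 F486779)) (tt N109257 F468126) (tt N86145 F468127) (tt N76306 (iv6 D212920)) (tt N86110 F468128))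
theorem Q109692 : ∀ i, i < 109692 → P i := stepQ 109691 Q109691 (allL N109691 (tt N121827 D225086) (tt N86510 (iv0 F468133)) (tt N121828 D225087) (tt N76308 (iv3 D212921)) (tt N76323 F468131) (tt N117432 F505004) (tt N117429 (iv6 F504992)) (tt N86493 F468132))
theorem Q109693 : ∀ i, i < 109693 → P i := stepQ 109692 Q109692 (allL N109692 (tt N114366 (iv1 F489825)) (tt N118100 (iv0 F508591)) (tt N86500 F468134) (tt N117432 (iv3 F505001)) (tt N86815 F468135) (tt N76308 (iv5 D212922)) (tt N106707 (iv6 F468137)) (tt N86494 F468136))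
theorem Q109694 : ∀ i, i < 109694 → P i := stepQ 109693 Q109693 (allL N109693 (tt N118429 (iv1 F510306)) (tt N105092 (iv0 F468142)) (tt N80849 F468138) (tt N78680 F468139) (tt N78707 F468140) (tt N115796 (iv5 F496935)) (tt N76309 (iv6 D212923)) (tt N81354 F468141))
theorem Q109695 : ∀ i, i < 109695 → P i := stepQ 109694 Q109694 (allL N109694 (tt N76394 (iv1 F468147)) (tt N76316 (iv0 D212924)) (tt N76392 (iv2 F468146)) (tt N82033 F468144) (tt N119304 (iv4 F514937)) (tt N76345 F468143) (tt N82741 F468145) (tt N76361 F468148))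
theorem Q109696 : ∀ i, i < 109696 → P i := stepQ 109695 Q109695 (allL N109695 (tt N76403 (iv1 F468153)) (tt N76319 (iv0 D212925)) (tt N76401 (iv2 F468152)) (tt N87160 (iv3 F468155)) (tt N97273 F468150) (tt N99561 F468149) (tt N87159 F468151) (tt N76402 F468154))
theorem Q109697 : ∀ i, i < 109697 → P i := stepQ 109696 Q109696 (allL N109696 (tt N92981 (iv1 F468160)) (tt N76323 (iv0 D212926)) (tt N92983 (iv2 F468159)) (tt N101049 F468157) (tt N115162 (iv4 F493798)) (tt N101048 F468156) (tt N91045 F468158) (tt N92978 F468161))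
theorem Q109698 : ∀ i, i < 109698 → P i := stepQ 109697 Q109697 (allL N109697 (tt N92983 (iv1 F468166)) (tt N92978 F468165) (tt N76323 (iv2 D212927)) (tt N76432 F468162) (tt N121828 (iv4 F528561)) (tt N114942 (iv5 F492669)) (tt N108267 F468163) (tt N92981 F468164))
theorem Q109699 : ∀ i, i < 109699 → P i := stepQ 109698 Q109698 (allL N109698 (tt N76336 (iv1 F468170)) (tt N76324 (iv0 D212928)) (tt N76434 (iv2 F468169)) (tt N115721 (iv3 F496508)) (tt N76330 F468168) (tt N76325 F468167) (tt N109377 (iv6 F468172)) (tt N76435 F468171))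
theorem Q109700 : ∀ i, i < 109700 → P i := stepQ 109699 Q109699 (allL N109699 (tt N83446 F468176) (tt N89958 F468177) (tt N76465 F468173) (tt N76871 F468174) (tt N116746 (iv4 F501614)) (tt N76327 (iv5 D212929)) (tt N116707 (iv6 F501419)) (tt N101252 F468175))
theorem Q109701 : ∀ i, i < 109701 → P i := stepQ 109700 Q109700 (allL N109700 (tt N86891 F468183) (tt N113695 F486680) (tt N88808 F468178) (tt N76328 (iv3 D212930)) (tt N104227 F468179) (tt N109072 F468180) (tt N83722 F468181) (tt N76454 F468182))
theorem Q109702 : ∀ i, i < 109702 → P i := stepQ 109701 Q109701 (allL N109701 (tt N76476 (iv1 F468188)) (tt N76329 (iv0 D212931)) (tt N76474 (iv2 F468187)) (tt N87648 (iv3 F468190)) (tt N84447 F468186) (tt N115479 (iv5 F495394)) (tt N119686 (iv6 F516914)) (tt N76475 F468189))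
theorem Q109703 : ∀ i, i < 109703 → P i := stepQ 109702 Q109702 (allL N109702 (tt N114936 F492634) (tt N119986 (iv0 F518401)) (tt N76477 F468191) (tt N84071 F468192) (tt N109377 F468193) (tt N90126 F468194) (tt N76330 (iv6 D212932)) (tt N114739 (iv7 F491601)))
theorem Q109704 : ∀ i, i < 109704 → P i := stepQ 109703 Q109703 (allL N109703 (tt N88496 (iv1 F468200)) (tt N109328 (iv0 F468199)) (tt N100645 F468195) (tt N89664 F468196) (tt N112114 (iv4 F479550)) (tt N90821 F468198) (tt N76333 (iv6 D212933)) (tt N109329 F468197))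
theorem Q109705 : ∀ i, i < 109705 → P i := stepQ 109704 Q109704 (allL N109704 (tt N81194 F468204) (tt N81427 F468205) (tt N106376 F468201) (tt N82633 F468202) (tt N106375 (iv4 F468206)) (tt N76334 (iv5 D212934)) (tt N117194 (iv6 F503852)) (tt N82875 F468203))
theorem Q109706 : ∀ i, i < 109706 → P i := stepQ 109705 Q109705 (allL N109705 (tt N85634 F468212) (tt N89847 F468213) (tt N89846 F468207) (tt N100494 F468208) (tt N106368 (iv4 F468211)) (tt N76338 (iv5 D212935)) (tt N77309 F468209) (tt N89845 F468210))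
theorem Q109707 : ∀ i, i < 109707 → P i := stepQ 109706 Q109706 (allL N109706 (tt N109734 (iv1 F468344)) (tt N121829 D225088) (tt N109675 F468214) (tt N108385 F468215) (tt N113983 (iv4 F488057)) (tt N76339 (iv5 D212936)) (tt N121338 (iv6 F525850)) (tt N108423 F468216))
theorem Q109708 : ∀ i, i < 109708 → P i := stepQ 109707 Q109707 (allL N109707 (tt N78990 (iv1 F468223)) (tt N98735 (iv0 F468222)) (tt N105292 F468217) (tt N82166 F468218) (tt N100160 F468219) (tt N82165 F468221) (tt N76339 (iv6 D212937)) (tt N108062 F468220))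
theorem Q109709 : ∀ i, i < 109709 → P i := stepQ 109708 Q109708 (allL N109708 (tt N121829 (iv1 F528567)) (tt N109734 (iv0 F468343)) (tt N108423 F468224) (tt N85517 F468225) (tt N85526 F468227) (tt N76340 (iv5 D212938)) (tt N114485 (iv6 F490426)) (tt N109675 F468226))
theorem Q109710 : ∀ i, i < 109710 → P i := stepQ 109709 Q109709 (allL N109709 (tt N76341 (iv1 D212939)) (tt N113602 F486253) (tt N120170 (iv2 F519412)) (tt N84295 (iv3 F468228)) (tt N84297 F468229) (tt N111124 (iv5 F474796)) (tt N121439 (iv6 F526383)) (tt N120169 F519406))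
theorem Q109711 : ∀ i, i < 109711 → P i := stepQ 109710 Q109710 (allL N109710 (tt N121826 (iv1 F528552)) (tt N116159 (iv0 F498800)) (tt N120171 (iv2 F519413)) (tt N119981 (iv3 F518370)) (tt N76341 (iv4 D212940)) (tt N121331 (iv5 F525815)) (tt N117246 F504099) (tt N121334 (iv7 F525831)))
theorem Q109712 : ∀ i, i < 109712 → P i := stepQ 109711 Q109711 (allL N109711 (tt N120170 (iv1 F519407)) (tt N120169 F519403) (tt N113602 (iv2 F486249)) (tt N77336 F468230) (tt N121334 (iv4 F525829)) (tt N76342 F468231) (tt N82618 F468232) (tt N76341 (iv7 D212941)))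
theorem Q109713 : ∀ i, i < 109713 → P i := stepQ 109712 Q109712 (allL N109712 (tt N114429 (iv1 F490114)) (tt N114428 (iv0 F490107)) (tt N84950 F468233) (tt N84996 F468234) (tt N114385 F489905) (tt N76346 (iv5 D212942)) (tt N84948 F468235) (tt N109079 F468236))
theorem Q109714 : ∀ i, i < 109714 → P i := stepQ 109713 Q109713 (allL N109713 (tt N98653 F468240) (tt N76348 (iv0 D212943)) (tt N98651 F468241) (tt N92967 (iv3 F468239)) (tt N85313 F468237) (tt N115222 (iv5 F494089)) (tt N86064 F468238) (tt N98652 F468242))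
theorem Q109715 : ∀ i, i < 109715 → P i := stepQ 109714 Q109714 (allL N109714 (tt N76348 (iv1 D212944)) (tt N98653 F468243) (tt N98652 (iv2 F468248)) (tt N109640 F468247) (tt N109082 (iv4 F468245)) (tt N109749 (iv5 F468432)) (tt N109081 F468246) (tt N98651 F468244))
theorem Q109716 : ∀ i, i < 109716 → P i := stepQ 109715 Q109715 (allL N109715 (tt N98652 (iv1 F468254)) (tt N98651 F468255) (tt N98653 F468249) (tt N86042 F468250) (tt N86066 F468251) (tt N93997 F468252) (tt N105912 F468253) (tt N76348 (iv7 D212945)))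
theorem Q109717 : ∀ i, i < 109717 → P i := stepQ 109716 Q109716 (allL N109716 (tt N85313 F468258) (tt N109082 (iv0 F468259)) (tt N109619 F468256) (tt N115037 (iv3 F493152)) (tt N94141 F468257) (tt N113768 (iv5 F487032)) (tt N76350 (iv6 D212946)) (tt N120164 (iv7 F519375)))
theorem Q109718 : ∀ i, i < 109718 → P i := stepQ 109717 Q109717 (allL N109717 (tt N86111 F468265) (tt N86110 (iv0 F468266)) (tt N79892 F468260) (tt N76361 F468261) (tt N81454 F468262) (tt N85874 F468263) (tt N76358 (iv6 D212947)) (tt N82033 F468264))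
theorem Q109719 : ∀ i, i < 109719 → P i := stepQ 109718 Q109718 (allL N109718 (tt N81354 F468270) (tt N80849 (iv0 F468271)) (tt N118429 (iv2 F510301)) (tt N76359 (iv3 D212948)) (tt N81349 F468267) (tt N105085 F468268) (tt N100813 F468272) (tt N105092 F468269))
theorem Q109720 : ∀ i, i < 109720 → P i := stepQ 109719 Q109719 (allL N109719 (tt N76376 F468277) (tt N120074 F518912) (tt N100520 F468273) (tt N100813 F468274) (tt N76361 F468275) (tt N100954 F468276) (tt N76359 (iv6 D212949)) (tt N119304 (iv7 F514939)))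
theorem Q109721 : ∀ i, i < 109721 → P i := stepQ 109720 Q109720 (allL N109720 (tt N76360 (iv1 D212950)) (tt N76363 F468278) (tt N86844 F468283) (tt N110980 (iv3 F474060)) (tt N76453 (iv4 F468281)) (tt N98540 F468280) (tt N76452 (iv6 F468282)) (tt N86845 F468279))
theorem Q109722 : ∀ i, i < 109722 → P i := stepQ 109721 Q109721 (allL N109721 (tt N111281 (iv1 F475614)) (tt N85817 (iv0 F468287)) (tt N105094 F468284) (tt N111233 (iv3 F475348)) (tt N76364 F468285) (tt N107053 F468286) (tt N76362 (iv6 D212951)) (tt N114253 (iv7 F489240)))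
theorem Q109723 : ∀ i, i < 109723 → P i := stepQ 109722 Q109722 (allL N109722 (tt N85141 F468290) (tt N100784 F468291) (tt N95890 F468288) (tt N118999 (iv3 F513200)) (tt N76365 (iv4 D212952)) (tt N105423 F468289) (tt N93992 F468292) (tt N111266 (iv7 F475526)))
theorem Q109724 : ∀ i, i < 109724 → P i := stepQ 109723 Q109723 (allL N109723 (tt N117414 (iv1 F504924)) (tt N86842 (iv0 F468297)) (tt N95891 F468293) (tt N86650 F468294) (tt N93992 F468295) (tt N76417 F468296) (tt N76365 (iv6 D212953)) (tt N114075 (iv7 F488468)))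
theorem Q109725 : ∀ i, i < 109725 → P i := stepQ 109724 Q109724 (allL N109724 (tt N109755 (iv1 F468468)) (tt N76366 (iv0 D212954)) (tt N98359 (iv2 F468300)) (tt N83710 F468301) (tt N79089 F468298) (tt N121076 (iv5 F524387)) (tt N87583 F468299) (tt N83751 F468302))
theorem Q109726 : ∀ i, i < 109726 → P i := stepQ 109725 Q109725 (allL N109725 (tt N115226 (iv1 F494116)) (tt N115221 (iv0 F494084)) (tt N111330 (iv2 F475850)) (tt N76366 (iv3 D212955)) (tt N109752 F468446) (tt N120164 (iv5 F519374)) (tt N100754 F468303) (tt N113768 (iv7 F487033)))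
theorem Q109727 : ∀ i, i < 109727 → P i := stepQ 109726 Q109726 (allL N109726 (tt N105415 (iv1 F468306)) (tt N104972 (iv0 F468305)) (tt N111268 (iv2 F475536)) (tt N120164 (iv3 F519372)) (tt N105475 F468304) (tt N76366 (iv5 D212956)) (tt N115056 F493266) (tt N115037 (iv7 F493157)))
theorem Q109728 : ∀ i, i < 109728 → P i := stepQ 109727 Q109727 (allL N109727 (tt N105525 (iv1 F468311)) (tt N101801 F468312) (tt N110319 (iv2 F471021)) (tt N89975 F468307) (tt N108392 F468308) (tt N76371 F468309) (tt N106998 F468310) (tt N76370 (iv7 D212957)))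
theorem Q109729 : ∀ i, i < 109729 → P i := stepQ 109728 Q109728 (allL N109728 (tt N76375 (iv1 D212958)) (tt N107185 F468313) (tt N116151 (iv2 F498762)) (tt N84390 (iv3 F468317)) (tt N76386 F468316) (tt N88414 F468315) (tt N83836 (iv6 F468318)) (tt N90857 F468314))
theorem Q109730 : ∀ i, i < 109730 → P i := stepQ 109729 Q109729 (allL N109729 (tt N120074 (iv1 F518913)) (tt N76376 (iv0 D212959)) (tt N119304 (iv2 F514936)) (tt N114254 (iv3 F489242)) (tt N76392 F468320) (tt N100953 F468319) (tt N114253 (iv6 F489237)) (tt N100520 (iv7 F468321)))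
theorem Q109731 : ∀ i, i < 109731 → P i := stepQ 109730 Q109730 (allL N109730 (tt N100520 (iv1 F468325)) (tt N119304 (iv0 F514940)) (tt N120074 (iv2 F518907)) (tt N104328 F468322) (tt N109076 F468323) (tt N119654 (iv5 F516737)) (tt N107185 F468324) (tt N76376 (iv7 D212960)))
theorem Q109732 : ∀ i, i < 109732 → P i := stepQ 109731 Q109731 (allL N109731 (tt N118421 F510266) (tt N105846 (iv0 F468330)) (tt N108778 F468326) (tt N119509 (iv3 F515978)) (tt N109385 F468327) (tt N99805 F468328) (tt N76384 (iv6 D212961)) (tt N109055 F468329))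
theorem Q109733 : ∀ i, i < 109733 → P i := stepQ 109732 Q109732 (allL N109732 (tt N76387 (iv1 D212962)) (tt N100771 F468331) (tt N118098 (iv2 F508577)) (tt N76398 (iv3 F468334)) (tt N103465 F468333) (tt N100777 F468332) (tt N103464 (iv6 F468335)) (tt N118046 (iv7 F508273)))
theorem Q109734 : ∀ i, i < 109734 → P i := stepQ 109733 Q109733 (allL N109733 (tt N120577 (iv1 F521549)) (tt N120579 (iv0 F521563)) (tt N104356 F468336) (tt N93087 F468337) (tt N76387 (iv4 D212963)) (tt N118072 F508421) (tt N92963 F468338) (tt N93083 F468339))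
theorem Q109735 : ∀ i, i < 109735 → P i := stepQ 109734 Q109734 (allL N109734 (tt N109708 F468343) (tt N109706 F468344) (tt N121686 (iv2 F527739)) (tt N90735 F468340) (tt N108422 F468342) (tt N76389 (iv5 D212964)) (tt N90733 F468341) (tt N121691 (iv7 F527773)))
theorem Q109736 : ∀ i, i < 109736 → P i := stepQ 109735 Q109735 (allL N109735 (tt N76397 (iv1 D212965)) (tt N83974 F468345) (tt N113589 (iv2 F486176)) (tt N98282 F468348) (tt N87647 F468346) (tt N117345 (iv5 F504576)) (tt N91214 (iv6 F468347)) (tt N110977 (iv7 F474044)))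
theorem Q109737 : ∀ i, i < 109737 → P i := stepQ 109736 Q109736 (allL N109736 (tt N113589 F486182) (tt N110977 (iv0 F474045)) (tt N83974 F468349) (tt N98736 F468350) (tt N104210 F468351) (tt N83962 F468352) (tt N86000 F468353) (tt N76397 (iv7 D212966)))
theorem Q109738 : ∀ i, i < 109738 → P i := stepQ 109737 Q109737 (allL N109737 (tt N105839 F468359) (tt N105835 F468360) (tt N86534 F468354) (tt N103464 F468355) (tt N76400 F468356) (tt N97049 F468357) (tt N76398 (iv6 D212967)) (tt N86532 F468358))
theorem Q109739 : ∀ i, i < 109739 → P i := stepQ 109738 Q109738 (allL N109738 (tt N76469 F468365) (tt N87647 (iv0 F468366)) (tt N87159 F468361) (tt N76475 F468362) (tt N108792 F468363) (tt N86778 F468364) (tt N76401 (iv6 D212968)) (tt N87648 F468367))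
theorem Q109740 : ∀ i, i < 109740 → P i := stepQ 109739 Q109739 (allL N109739 (tt N79088 F468373) (tt N79086 F468374) (tt N109384 F468368) (tt N99751 F468369) (tt N76404 F468370) (tt N99750 F468371) (tt N76403 (iv6 D212969)) (tt N76437 F468372))
theorem Q109741 : ∀ i, i < 109741 → P i := stepQ 109740 Q109740 (allL N109740 (tt N91195 (iv1 F468380)) (tt N83708 (iv0 F468379)) (tt N91197 F468375) (tt N78540 F468376) (tt N76406 F468377) (tt N112267 (iv5 F480284)) (tt N76405 (iv6 D212970)) (tt N78535 F468378))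
theorem Q109742 : ∀ i, i < 109742 → P i := stepQ 109741 Q109741 (allL N109741 (tt N100141 (iv1 F468386)) (tt N86419 F468387) (tt N88947 F468381) (tt N76414 F468382) (tt N78535 F468383) (tt N83759 F468384) (tt N78534 F468385) (tt N76406 (iv7 D212971)))
theorem Q109743 : ∀ i, i < 109743 → P i := stepQ 109742 Q109742 (allL N109742 (tt N76408 (iv1 D212972)) (tt N93993 F468389) (tt N92961 (iv2 F468394)) (tt N97964 F468393) (tt N114075 (iv4 F488466)) (tt N102424 F468391) (tt N105846 (iv6 F468392)) (tt N93992 F468390))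
theorem Q109744 : ∀ i, i < 109744 → P i := stepQ 109743 Q109743 (allL N109743 (tt N92961 (iv1 F468399)) (tt N93992 F468400) (tt N93993 F468395) (tt N83675 F468396) (tt N115478 (iv4 F495391)) (tt N83674 F468397) (tt N93997 F468398) (tt N76408 (iv7 D212973)))
theorem Q109745 : ∀ i, i < 109745 → P i := stepQ 109744 Q109744 (allL N109744 (tt N95891 F468404) (tt N114075 (iv0 F488469)) (tt N86842 F468401) (tt N118097 (iv3 F508567)) (tt N93137 F468402) (tt N86839 F468403) (tt N76409 (iv6 D212974)) (tt N117414 (iv7 F504922)))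
theorem Q109746 : ∀ i, i < 109746 → P i := stepQ 109745 Q109745 (allL N109745 (tt N76455 F468408) (tt N85408 F468409) (tt N85144 F468405) (tt N86910 F468406) (tt N76413 (iv4 D212975)) (tt N111327 (iv5 F475840)) (tt N100785 F468410) (tt N78281 F468407))
theorem Q109747 : ∀ i, i < 109747 → P i := stepQ 109746 Q109746 (allL N109746 (tt N111266 (iv1 F475529)) (tt N95890 (iv0 F468416)) (tt N85141 F468411) (tt N86603 F468412) (tt N100785 F468413) (tt N85126 F468414) (tt N76413 (iv6 D212976)) (tt N100784 F468415))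
theorem Q109748 : ∀ i, i < 109748 → P i := stepQ 109747 Q109747 (allL N109747 (tt N87144 (iv1 F468422)) (tt N87538 F468423) (tt N87540 F468417) (tt N76425 F468418) (tt N88331 F468419) (tt N102937 F468420) (tt N95877 F468421) (tt N76420 (iv7 D212977)))
theorem Q109749 : ∀ i, i < 109749 → P i := stepQ 109748 Q109748 (allL N109748 (tt N86540 (iv1 F468428)) (tt N86539 F468429) (tt N86541 F468424) (tt N97175 F468425) (tt N109378 F468426) (tt N110525 (iv5 F471984)) (tt N76424 (iv6 D212978)) (tt N86531 F468427))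
theorem Q109750 : ∀ i, i < 109750 → P i := stepQ 109749 Q109749 (allL N109749 (tt N86541 F468434) (tt N86531 (iv0 F468435)) (tt N86539 F468430) (tt N119268 (iv3 F514724)) (tt N91218 F468431) (tt N109714 F468432) (tt N76438 (iv6 D212979)) (tt N86540 F468433))
theorem Q109751 : ∀ i, i < 109751 → P i := stepQ 109750 Q109750 (allL N109750 (tt N115472 F495355) (tt N76453 (iv0 D212980)) (tt N100662 (iv2 F468440)) (tt N86893 F468438) (tt N79086 F468437) (tt N105415 F468436) (tt N86891 F468439) (tt N115049 (iv7 F493223)))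
theorem Q109752 : ∀ i, i < 109752 → P i := stepQ 109751 Q109751 (allL N109751 (tt N115049 (iv1 F493225)) (tt N100662 (iv0 F468445)) (tt N115472 (iv2 F495350)) (tt N105014 F468441) (tt N86845 F468442) (tt N109364 F468443) (tt N108791 F468444) (tt N76453 (iv7 D212981)))
theorem Q109753 : ∀ i, i < 109753 → P i := stepQ 109752 Q109752 (allL N109752 (tt N76454 (iv1 D212982)) (tt N88808 F468451) (tt N86891 F468448) (tt N100661 F468449) (tt N109725 (iv4 F468446)) (tt N109682 (iv5 F468447)) (tt N100662 F468450) (tt N113695 (iv7 F486678)))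
theorem Q109754 : ∀ i, i < 109754 → P i := stepQ 109753 Q109753 (allL N109753 (tt N113695 (iv1 F486679)) (tt N86891 F468455) (tt N76454 (iv2 D212983)) (tt N87596 F468452) (tt N110526 (iv4 F471990)) (tt N109073 F468453) (tt N117736 (iv6 F506705)) (tt N88808 F468454))
theorem Q109755 : ∀ i, i < 109755 → P i := stepQ 109754 Q109754 (allL N109754 (tt N85144 (iv1 F468461)) (tt N78281 F468462) (tt N85408 F468456) (tt N88811 F468457) (tt N76458 F468458) (tt N88896 F468459) (tt N83948 F468460) (tt N76455 (iv7 D212984)))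
theorem Q109756 : ∀ i, i < 109756 → P i := stepQ 109755 Q109755 (allL N109755 (tt N104979 F468467) (tt N109724 F468468) (tt N88813 F468463) (tt N115769 (iv3 F496770)) (tt N78962 F468464) (tt N89618 F468465) (tt N76457 (iv6 D212985)) (tt N78961 F468466))
theorem Q109757 : ∀ i, i < 109757 → P i := stepQ 109756 Q109756 (allL N109756 (tt N86321 F468473) (tt N86324 F468474) (tt N86323 F468469) (tt N120106 (iv3 F519075)) (tt N98598 F468470) (tt N89168 F468471) (tt N76460 (iv6 D212986)) (tt N86322 F468472))
theorem Q109758 : ∀ i, i < 109758 → P i := stepQ 109757 Q109757 (allL N109757 (tt N114485 (iv1 F490427)) (tt N114487 (iv0 F490435)) (tt N116707 (iv2 F501416)) (tt N90451 F468475) (tt N116721 (iv4 F501496)) (tt N76462 (iv5 D212987)) (tt N76465 F468476) (tt N114738 (iv7 F491595)))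
theorem Q109759 : ∀ i, i < 109759 → P i := stepQ 109758 Q109758 (allL N109758 (tt N105714 F468479) (tt N88858 (iv0 F468480)) (tt N104203 F468477) (tt N76464 (iv3 D212988)) (tt N116300 (iv4 F499441)) (tt N112942 (iv5 F483327)) (tt N77249 F468478) (tt N110320 (iv7 F471030)))
theorem Q109760 : ∀ i, i < 109760 → P i := stepQ 109759 Q109759 (allL N109759 (tt N101252 (iv1 F468486)) (tt N76465 (iv0 D212989)) (tt N83446 F468484) (tt N100934 F468482) (tt N83443 (iv4 F468485)) (tt N80437 F468481) (tt N121528 (iv6 F526869)) (tt N89958 (iv7 F468483)))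
theorem Q109761 : ∀ i, i < 109761 → P i := stepQ 109760 Q109760 (allL N109760 (tt N76465 (iv1 D212990)) (tt N101252 F468487) (tt N89958 F468491) (tt N82617 (iv3 F468490)) (tt N82624 F468492) (tt N80435 F468489) (tt N121830 D225089) (tt N83446 F468488))
theorem Q109762 : ∀ i, i < 109762 → P i := stepQ 109761 Q109761 (allL N109761 (tt N100958 F468493) (tt N100961 F468494) (tt N116746 (iv2 F501613)) (tt N120090 (iv3 F518991)) (tt N76465 (iv4 D212991)) (tt N120084 (iv5 F518966)) (tt N116721 F501498) (tt N121831 D225090))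
theorem Q109763 : ∀ i, i < 109763 → P i := stepQ 109762 Q109762 (allL N109762 (tt N89958 (iv1 F468498)) (tt N83446 F468499) (tt N101252 F468495) (tt N89202 F468496) (tt N121831 (iv4 F528580)) (tt N76466 F468497) (tt N88836 F471038) (tt N76465 (iv7 D212992)))
theorem Q109764 : ∀ i, i < 109764 → P i := stepQ 109763 Q109763 (allL N109763 (tt N87694 F468503) (tt N116695 (iv0 F501349)) (tt N79110 F468500) (tt N81397 F468501) (tt N113167 (iv4 F484299)) (tt N76467 (iv5 D212993)) (tt N77256 F468502) (tt N117218 (iv7 F503955)))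
theorem Q109765 : ∀ i, i < 109765 → P i := stepQ 109764 Q109764 (allL N109764 (tt N115180 (iv1 F493895)) (tt N93113 F468506) (tt N97260 F468504) (tt N115731 (iv3 F496562)) (tt N114366 (iv4 F489823)) (tt N76470 (iv5 D212994)) (tt N120270 (iv6 F519937)) (tt N88818 F468505))
theorem Q109766 : ∀ i, i < 109766 → P i := stepQ 109765 Q109765 (allL N109765 (tt N112403 (iv1 F480954)) (tt N112402 F480951) (tt N97261 F468507) (tt N88432 F468508) (tt N76471 F468509) (tt N79652 F468511) (tt N76470 (iv6 D212995)) (tt N78515 F468510))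
theorem Q109767 : ∀ i, i < 109767 → P i := stepQ 109766 Q109766 (allL N109766 (tt N76477 (iv1 D212996)) (tt N114739 F491602) (tt N119986 (iv2 F518397)) (tt N118626 (iv3 F511207)) (tt N85201 F468512) (tt N107955 (iv5 F468513)) (tt N117063 (iv6 F503190)) (tt N114936 F492635))
theorem Q109768 : ∀ i, i < 109768 → P i := stepQ 109767 Q109767 (allL N109767 (tt N96697 F468518) (tt N96700 F468517) (tt N90126 F468514) (tt N89319 F468515) (tt N112871 (iv4 F483067)) (tt N76477 (iv5 D212997)) (tt N76479 F468516) (tt N107265 (iv7 F468519)))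
theorem Q109769 : ∀ i, i < 109769 → P i := stepQ 109768 Q109768 (allL N109768 (tt N119986 F518402) (tt N114936 (iv0 F492633)) (tt N114739 (iv2 F491598)) (tt N99360 F468520) (tt N99995 F468521) (tt N107265 F468522) (tt N114332 F489658) (tt N76477 (iv7 D212998)))
theorem Q109770 : ∀ i, i < 109770 → P i := stepQ 109769 Q109769 (allL N109769 (tt N110045 F469711) (tt N107571 (iv0 F468528)) (tt N104861 F468523) (tt N78323 F468524) (tt N104240 F468525) (tt N99625 F468526) (tt N76480 (iv6 D212999)) (tt N99624 F468527))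
theorem Q109771 : ∀ i, i < 109771 → P i := stepQ 109770 Q109770 (allL N109770 (tt N105475 F468534) (tt N86296 F468535) (tt N94146 F468529) (tt N94486 F468530) (tt N85139 F468531) (tt N94484 F468532) (tt N76485 (iv6 D213000)) (tt N85563 F468533))
theorem Q109772 : ∀ i, i < 109772 → P i := stepQ 109771 Q109771 (allL N109771 (tt N89668 F468537) (tt N109473 (iv0 F468538)) (tt N120255 (iv2 F519839)) (tt N76488 (iv3 D213001)) (tt N114961 (iv4 F492778)) (tt N89349 F468536) (tt N114953 (iv6 F492740)) (tt N110090 F469943))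
theorem Q109773 : ∀ i, i < 109773 → P i := stepQ 109772 Q109772 (allL N109772 (tt N109329 (iv1 F468544)) (tt N100645 (iv0 F468543)) (tt N88496 F468545) (tt N76491 (iv3 D213002)) (tt N88494 F468539) (tt N77424 F468540) (tt N82824 F468541) (tt N109328 F468542))
theorem Q109774 : ∀ i, i < 109774 → P i := stepQ 109773 Q109773 (allL N109773 (tt N91059 (iv1 F468549)) (tt N76493 (iv0 D213003)) (tt N116713 (iv2 F501446)) (tt N120012 (iv3 F518555)) (tt N85133 F468547) (tt N89186 F468546) (tt N85132 (iv6 F468548)) (tt N116712 (iv7 F501442)))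
theorem Q109775 : ∀ i, i < 109775 → P i := stepQ 109774 Q109774 (allL N109774 (tt N116712 (iv1 F501445)) (tt N116713 (iv0 F501450)) (tt N91059 F468550) (tt N111845 (iv3 F478275)) (tt N111324 (iv4 F475829)) (tt N89269 F468551) (tt N100209 F468552) (tt N76493 (iv7 D213004)))
theorem Q109776 : ∀ i, i < 109776 → P i := stepQ 109775 Q109775 (allL N109775 (tt N100221 F468558) (tt N100223 F468559) (tt N102882 F468553) (tt N100635 F468554) (tt N78828 F468555) (tt N76496 (iv5 D213005)) (tt N76497 F468556) (tt N102879 F468557))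
theorem Q109777 : ∀ i, i < 109777 → P i := stepQ 109776 Q109776 (allL N109776 (tt N89454 F468564) (tt N89453 (iv0 F468565)) (tt N89456 F468560) (tt N76501 F468561) (tt N110987 (iv4 F474101)) (tt N109499 F468563) (tt N76499 (iv6 D213006)) (tt N89447 F468562))
theorem Q109778 : ∀ i, i < 109778 → P i := stepQ 109777 Q109777 (allL N109777 (tt N112738 (iv1 F482452)) (tt N100836 F468569) (tt N105622 F468566) (tt N101414 F468570) (tt N76500 (iv4 D213007)) (tt N105611 F468567) (tt N114989 (iv6 F492944)) (tt N105627 F468568))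
theorem Q109779 : ∀ i, i < 109779 → P i := stepQ 109778 Q109778 (allL N109778 (tt N110487 F471810) (tt N110488 F471813) (tt N105735 F468571) (tt N116333 (iv3 F499603)) (tt N114989 F492942) (tt N116528 (iv5 F500619)) (tt N76500 (iv6 D213008)) (tt N120186 F519496))
theorem Q109780 : ∀ i, i < 109780 → P i := stepQ 109779 Q109779 (allL N109779 (tt N89007 (iv1 F468578)) (tt N76501 (iv0 D213009)) (tt N89398 (iv2 F468574)) (tt N88496 F468575) (tt N76525 F468573) (tt N88611 F468572) (tt N80699 F468576) (tt N105728 F468577))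
theorem Q109781 : ∀ i, i < 109781 → P i := stepQ 109780 Q109780 (allL N109780 (tt N91137 F468581) (tt N112513 (iv0 F481450)) (tt N105736 F468579) (tt N109499 F468580) (tt N110236 F470562) (tt N76501 (iv5 D213010)) (tt N116528 F500621) (tt N116188 (iv7 F498920)))
theorem Q109782 : ∀ i, i < 109782 → P i := stepQ 109781 Q109781 (allL N109781 (tt N105728 (iv1 F468585)) (tt N89398 F468586) (tt N89007 F468582) (tt N89447 F468583) (tt N111088 (iv4 F474600)) (tt N116188 (iv5 F498918)) (tt N89004 F468584) (tt N76501 (iv7 D213011)))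
theorem Q109783 : ∀ i, i < 109783 → P i := stepQ 109782 Q109782 (allL N109782 (tt N121179 (iv1 F524975)) (tt N100561 F468591) (tt N88909 F468587) (tt N96394 F468588) (tt N76503 (iv4 D213012)) (tt N104782 F468590) (tt N110441 F471611) (tt N105609 F468589))
theorem Q109784 : ∀ i, i < 109784 → P i := stepQ 109783 Q109783 (allL N109783 (tt N114692 F491387) (tt N88953 (iv0 F468593)) (tt N86399 F468592) (tt N114686 (iv3 F491364)) (tt N110441 (iv4 F471612)) (tt N121832 D225091) (tt N76503 (iv6 D213013)) (tt N114693 (iv7 F491389)))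
theorem Q109785 : ∀ i, i < 109785 → P i := stepQ 109784 Q109784 (allL N109784 (tt N100561 F468597) (tt N121179 (iv0 F524974)) (tt N105609 F468594) (tt N121129 F524668) (tt N76504 (iv4 D213014)) (tt N105607 F468595) (tt N121782 (iv6 F528282)) (tt N88909 F468596))
theorem Q109786 : ∀ i, i < 109786 → P i := stepQ 109785 Q109785 (allL N109785 (tt N119113 (iv1 F513855)) (tt N119115 (iv0 F513865)) (tt N105737 F468598) (tt N83922 F468599) (tt N121782 (iv4 F528281)) (tt N76669 F468600) (tt N76504 (iv6 D213015)) (tt N114695 (iv7 F491396)))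
theorem Q109787 : ∀ i, i < 109787 → P i := stepQ 109786 Q109786 (allL N109786 (tt N105633 (iv1 F468604)) (tt N76505 (iv0 D213016)) (tt N100853 (iv2 F468603)) (tt N107162 (iv3 F468606)) (tt N90435 F468602) (tt N105695 F468601) (tt N114556 (iv6 F490761)) (tt N105632 F468605))
theorem Q109788 : ∀ i, i < 109788 → P i := stepQ 109787 Q109787 (allL N109787 (tt N85882 (iv1 F468613)) (tt N86142 (iv0 F468612)) (tt N86141 F468607) (tt N76505 (iv3 D213017)) (tt N76509 F468608) (tt N105615 F468609) (tt N98189 F468610) (tt N86140 F468611))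
theorem Q109789 : ∀ i, i < 109789 → P i := stepQ 109788 Q109788 (allL N109788 (tt N114538 (iv1 F490664)) (tt N114537 F490661) (tt N114294 (iv2 F489439)) (tt N82249 F468614) (tt N112770 (iv4 F482580)) (tt N76507 (iv5 D213018)) (tt N82245 F468615) (tt N114530 (iv7 F490623)))
theorem Q109790 : ∀ i, i < 109790 → P i := stepQ 109789 Q109789 (allL N109789 (tt N114531 F490633) (tt N76508 (iv0 D213019)) (tt N91071 (iv2 F468619)) (tt N119113 (iv3 F513852)) (tt N109375 F468617) (tt N107404 F468616) (tt N91050 F468618) (tt N114539 (iv7 F490674)))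
theorem Q109791 : ∀ i, i < 109791 → P i := stepQ 109790 Q109790 (allL N109790 (tt N98490 (iv1 F468625)) (tt N98493 (iv0 F468624)) (tt N109087 F468620) (tt N88959 F468621) (tt N109050 F468622) (tt N117516 (iv5 F505463)) (tt N76512 (iv6 D213020)) (tt N76513 F468623))
theorem Q109792 : ∀ i, i < 109792 → P i := stepQ 109791 Q109791 (allL N109791 (tt N104861 F468630) (tt N99624 (iv0 F468631)) (tt N107571 F468626) (tt N76517 F468627) (tt N108728 F468628) (tt N109348 F468629) (tt N76515 (iv6 D213021)) (tt N110045 (iv7 F469709)))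
theorem Q109793 : ∀ i, i < 109793 → P i := stepQ 109792 Q109792 (allL N109792 (tt N101404 F468636) (tt N116147 (iv0 F498745)) (tt N101395 F468632) (tt N101265 F468633) (tt N76523 (iv4 D213022)) (tt N95263 F468634) (tt N107774 (iv6 F468637)) (tt N105630 F468635))
theorem Q109794 : ∀ i, i < 109794 → P i := stepQ 109793 Q109793 (allL N109793 (tt N110552 (iv1 F472106)) (tt N110557 (iv0 F472133)) (tt N105726 F468638) (tt N110203 (iv3 F470414)) (tt N107774 F468639) (tt N113418 (iv5 F485398)) (tt N76523 (iv6 D213023)) (tt N120775 (iv7 F522648)))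
theorem Q109795 : ∀ i, i < 109795 → P i := stepQ 109794 Q109794 (allL N109794 (tt N101741 F468644) (tt N101468 F468645) (tt N91725 F468640) (tt N88867 F468641) (tt N86291 F468642) (tt N76528 (iv5 D213024)) (tt N113839 (iv6 F487378)) (tt N86289 F468643))
theorem Q109796 : ∀ i, i < 109796 → P i := stepQ 109795 Q109795 (allL N109795 (tt N120778 F522659) (tt N120011 (iv0 F518551)) (tt N105721 F468646) (tt N108368 F468647) (tt N119186 F514258) (tt N95946 F468648) (tt N76531 (iv6 D213025)) (tt N120013 (iv7 F518562)))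
theorem Q109797 : ∀ i, i < 109797 → P i := stepQ 109796 Q109796 (allL N109796 (tt N84137 (iv1 F468654)) (tt N76538 (iv0 D213026)) (tt N84134 (iv2 F468653)) (tt N80288 F468651) (tt N96760 F468650) (tt N80049 F468649) (tt N81433 F468652) (tt N84135 F468655))
theorem Q109798 : ∀ i, i < 109798 → P i := stepQ 109797 Q109797 (allL N109797 (tt N79914 (iv1 F468662)) (tt N80857 (iv0 F468661)) (tt N80868 F468656) (tt N81290 F468657) (tt N76620 F468658) (tt N83232 F468659) (tt N76540 (iv6 D213027)) (tt N80867 F468660))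
theorem Q109799 : ∀ i, i < 109799 → P i := stepQ 109798 Q109798 (allL N109798 (tt N117958 (iv1 F507790)) (tt N109189 F468665) (tt N103552 F468663) (tt N120982 (iv3 F523847)) (tt N76544 (iv4 D213028)) (tt N111853 (iv5 F478315)) (tt N102455 F468664) (tt N116243 (iv7 F499199)))
theorem Q109800 : ∀ i, i < 109800 → P i := stepQ 109799 Q109799 (allL N109799 (tt N76545 (iv1 D213029)) (tt N99746 F468666) (tt N80874 F468672) (tt N100774 (iv3 F468670)) (tt N80857 F468668) (tt N108807 F468669) (tt N96490 (iv6 F468671)) (tt N80869 F468667))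
theorem Q109801 : ∀ i, i < 109801 → P i := stepQ 109800 Q109800 (allL N109800 (tt N76555 (iv1 F468677)) (tt N76552 (iv0 D213030)) (tt N109406 (iv2 F468676)) (tt N96102 (iv3 F468679)) (tt N77652 F468674) (tt N77644 F468673) (tt N106324 F468675) (tt N109407 F468678))
theorem Q109802 : ∀ i, i < 109802 → P i := stepQ 109801 Q109801 (allL N109801 (tt N107908 F468685) (tt N108444 F468686) (tt N82895 F468680) (tt N76555 F468681) (tt N82637 F468682) (tt N76553 (iv5 D213031)) (tt N82636 F468683) (tt N103106 F468684))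
theorem Q109803 : ∀ i, i < 109803 → P i := stepQ 109802 Q109802 (allL N109802 (tt N98371 F468689) (tt N98369 F468690) (tt N119602 (iv2 F516464)) (tt N99591 F468687) (tt N121833 D225092) (tt N76556 (iv5 D213032)) (tt N112910 (iv6 F483242)) (tt N104065 F468688))
theorem Q109804 : ∀ i, i < 109804 → P i := stepQ 109803 Q109803 (allL N109803 (tt N99763 (iv1 F468694)) (tt N76559 (iv0 D213033)) (tt N85359 (iv2 F468693)) (tt N108786 (iv3 F468696)) (tt N76625 F468692) (tt N92604 F468691) (tt N85350 F468697) (tt N104200 F468695))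
theorem Q109805 : ∀ i, i < 109805 → P i := stepQ 109804 Q109804 (allL N109804 (tt N101811 F468701) (tt N101810 F468702) (tt N96767 F468698) (tt N118217 (iv3 F509210)) (tt N76562 (iv4 D213034)) (tt N107233 F468699) (tt N82430 F468700) (tt N111756 (iv7 F477811)))
theorem Q109806 : ∀ i, i < 109806 → P i := stepQ 109805 Q109805 (allL N109805 (tt N82127 F468708) (tt N79857 F468709) (tt N78197 F468703) (tt N84670 F468704) (tt N76566 (iv4 D213035)) (tt N82113 F468705) (tt N83583 F468706) (tt N84667 F468707))
theorem Q109807 : ∀ i, i < 109807 → P i := stepQ 109806 Q109806 (allL N109806 (tt N109280 F468713) (tt N96403 F468714) (tt N76652 F468710) (tt N107897 F468711) (tt N76567 (iv4 D213036)) (tt N114756 (iv5 F491694)) (tt N112126 (iv6 F479626)) (tt N96489 F468712))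
theorem Q109808 : ∀ i, i < 109808 → P i := stepQ 109807 Q109807 (allL N109807 (tt N121833 (iv1 F528593)) (tt N119873 (iv0 F517813)) (tt N76660 F468715) (tt N89772 F468716) (tt N76568 (iv4 D213037)) (tt N88971 F468719) (tt N89053 F468717) (tt N76663 F468718))
theorem Q109809 : ∀ i, i < 109809 → P i := stepQ 109808 Q109808 (allL N109808 (tt N119873 (iv1 F517814)) (tt N121833 (iv0 F528592)) (tt N76663 F468720) (tt N88984 F468724) (tt N76571 (iv4 D213038)) (tt N88977 F468723) (tt N89794 F468721) (tt N76660 F468722))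
theorem Q109810 : ∀ i, i < 109810 → P i := stepQ 109809 Q109809 (allL N109809 (tt N98374 F468727) (tt N119170 (iv0 F514172)) (tt N76671 F468725) (tt N89760 (iv3 F468728)) (tt N76573 (iv4 D213039)) (tt N114695 F491397) (tt N121207 (iv6 F525136)) (tt N76669 F468726))
theorem Q109811 : ∀ i, i < 109811 → P i := stepQ 109810 Q109810 (allL N109810 (tt N91540 F468734) (tt N94455 (iv0 F468735)) (tt N76687 F468729) (tt N98380 F468730) (tt N78001 F468731) (tt N97941 F468732) (tt N76576 (iv6 D213040)) (tt N77998 F468733))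
theorem Q109812 : ∀ i, i < 109812 → P i := stepQ 109811 Q109811 (allL N109811 (tt N98377 F468740) (tt N98435 F468741) (tt N76689 F468736) (tt N106580 F468737) (tt N76611 F468738) (tt N76577 (iv5 D213041)) (tt N110765 (iv6 F473071)) (tt N76683 F468739))
theorem Q109813 : ∀ i, i < 109813 → P i := stepQ 109812 Q109812 (allL N109812 (tt N109871 (iv1 F469015)) (tt N109869 (iv0 F469005)) (tt N76697 F468742) (tt N113517 (iv3 F485873)) (tt N76607 F468744) (tt N76578 (iv5 D213042)) (tt N119919 (iv6 F518039)) (tt N76704 F468743))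
theorem Q109814 : ∀ i, i < 109814 → P i := stepQ 109813 Q109813 (allL N109813 (tt N89816 (iv1 F468748)) (tt N89815 F468749) (tt N76698 F468745) (tt N121253 F525390) (tt N76579 F468746) (tt N116225 (iv5 F499119)) (tt N76578 (iv6 D213043)) (tt N89814 F468747))
theorem Q109815 : ∀ i, i < 109815 → P i := stepQ 109814 Q109814 (allL N109814 (tt N76700 (iv1 F468753)) (tt N76699 F468754) (tt N76701 F468750) (tt N113125 (iv3 F484088)) (tt N89814 F468751) (tt N114305 (iv5 F489502)) (tt N76708 F468752) (tt N76579 (iv7 D213044)))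
theorem Q109816 : ∀ i, i < 109816 → P i := stepQ 109815 Q109815 (allL N109815 (tt N109869 (iv1 F469006)) (tt N109871 (iv0 F469014)) (tt N76704 F468755) (tt N84741 F468756) (tt N76605 F468757) (tt N76580 (iv5 D213045)) (tt N84740 F468758) (tt N76697 F468759))
theorem Q109817 : ∀ i, i < 109817 → P i := stepQ 109816 Q109816 (allL N109816 (tt N116893 (iv1 F502385)) (tt N116892 (iv0 F502384)) (tt N116895 (iv2 F502395)) (tt N76581 (iv3 D213046)) (tt N100216 F468760) (tt N117395 (iv5 F504815)) (tt N88870 F468761) (tt N76711 F468762))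
theorem Q109818 : ∀ i, i < 109818 → P i := stepQ 109817 Q109817 (allL N109817 (tt N97815 F468766) (tt N81944 F468767) (tt N76709 F468763) (tt N117395 F504816) (tt N76603 F468765) (tt N76581 (iv5 D213047)) (tt N110353 (iv6 F471198)) (tt N76712 F468764))
theorem Q109819 : ∀ i, i < 109819 → P i := stepQ 109818 Q109818 (allL N109818 (tt N81944 F468772) (tt N97815 F468773) (tt N76712 F468768) (tt N116104 (iv3 F498475)) (tt N76602 F468769) (tt N76582 (iv5 D213048)) (tt N83043 F468770) (tt N76709 F468771))
theorem Q109820 : ∀ i, i < 109820 → P i := stepQ 109819 Q109819 (allL N109819 (tt N101431 F468778) (tt N95015 F468777) (tt N107328 F468774) (tt N76584 F468775) (tt N119824 (iv4 F517558)) (tt N76583 (iv5 D213049)) (tt N118671 (iv6 F511452)) (tt N76856 F468776))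
theorem Q109821 : ∀ i, i < 109821 → P i := stepQ 109820 Q109820 (allL N109820 (tt N110568 (iv1 F472180)) (tt N110498 F471855) (tt N76718 F468779) (tt N118671 F511456) (tt N76861 F468780) (tt N110552 (iv5 F472105)) (tt N76584 (iv6 D213050)) (tt N120232 (iv7 F519728)))
theorem Q109822 : ∀ i, i < 109822 → P i := stepQ 109821 Q109821 (allL N109821 (tt N103614 F468786) (tt N117102 (iv0 F503401)) (tt N101706 F468781) (tt N76588 F468782) (tt N101719 F468785) (tt N76587 (iv5 D213051)) (tt N101687 F468783) (tt N76753 F468784))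
theorem Q109823 : ∀ i, i < 109823 → P i := stepQ 109822 Q109822 (allL N109822 (tt N99596 F468792) (tt N99595 F468793) (tt N76788 F468787) (tt N98790 F468788) (tt N105639 F468789) (tt N76593 (iv5 D213052)) (tt N98787 F468790) (tt N76779 F468791))
theorem Q109824 : ∀ i, i < 109824 → P i := stepQ 109823 Q109823 (allL N109823 (tt N98823 F468798) (tt N116957 (iv0 F502699)) (tt N90913 F468794) (tt N76599 F468795) (tt N105663 F468796) (tt N76598 (iv5 D213053)) (tt N121382 (iv6 F526056)) (tt N89376 F468797))
theorem Q109825 : ∀ i, i < 109825 → P i := stepQ 109824 Q109824 (allL N109824 (tt N121383 F526064) (tt N106292 (iv0 F468802)) (tt N76802 F468799) (tt N121382 (iv3 F526053)) (tt N105638 F468800) (tt N76614 F468801) (tt N76599 (iv6 D213054)) (tt N121384 (iv7 F526068)))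
theorem Q109826 : ∀ i, i < 109826 → P i := stepQ 109825 Q109825 (allL N109825 (tt N109942 (iv1 F469327)) (tt N109943 (iv0 F469330)) (tt N119799 (iv2 F517469)) (tt N76602 F468803) (tt N121834 D225093) (tt N76601 (iv5 D213055)) (tt N121709 (iv6 F527887)) (tt N76836 F468804))
theorem Q109827 : ∀ i, i < 109827 → P i := stepQ 109826 Q109826 (allL N109826 (tt N120384 (iv1 F520502)) (tt N81907 (iv0 F471199)) (tt N76837 F468805) (tt N110391 F471365) (tt N110353 (iv4 F471197)) (tt N98890 F468806) (tt N76603 (iv6 D213056)) (tt N119943 (iv7 F518161)))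
theorem Q109828 : ∀ i, i < 109828 → P i := stepQ 109827 Q109827 (allL N109827 (tt N76849 (iv1 F468809)) (tt N76604 (iv0 D213057)) (tt N76848 (iv2 F468810)) (tt N116669 (iv3 F501227)) (tt N108764 F468808) (tt N106340 F468807) (tt N116673 (iv6 F501249)) (tt N76847 (iv7 F468811)))
theorem Q109829 : ∀ i, i < 109829 → P i := stepQ 109828 Q109828 (allL N109828 (tt N76604 (iv1 D213058)) (tt N76849 F468812) (tt N76847 F468816) (tt N90191 (iv3 F468815)) (tt N108765 (iv4 F468814)) (tt N110768 F473092) (tt N110646 (iv6 F473093)) (tt N76848 F468813))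
theorem Q109830 : ∀ i, i < 109830 → P i := stepQ 109829 Q109829 (allL N109829 (tt N121835 D225094) (tt N121836 D225095) (tt N110827 (iv2 F473326)) (tt N76605 F468817) (tt N117219 (iv4 F503961)) (tt N76604 (iv5 D213059)) (tt N107537 F468818) (tt N76850 F468819))
theorem Q109831 : ∀ i, i < 109831 → P i := stepQ 109830 Q109830 (allL N109830 (tt N77910 (iv1 F468825)) (tt N77912 (iv0 F468824)) (tt N76845 F468820) (tt N107537 F468821) (tt N84740 F468822) (tt N103789 F468823) (tt N76605 (iv6 D213060)) (tt N83327 F468826))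
theorem Q109832 : ∀ i, i < 109832 → P i := stepQ 109831 Q109831 (allL N109831 (tt N117458 (iv1 F505145)) (tt N119905 (iv0 F517961)) (tt N117489 (iv2 F505302)) (tt N76607 F468827) (tt N117439 (iv4 F505035)) (tt N76606 (iv5 D213061)) (tt N112619 (iv6 F481867)) (tt N76840 F468828))
theorem Q109833 : ∀ i, i < 109833 → P i := stepQ 109832 Q109832 (allL N109832 (tt N117493 F505320) (tt N110555 (iv0 F472123)) (tt N117490 F505309) (tt N76608 (iv3 D213062)) (tt N103157 F468829) (tt N113407 F485358) (tt N98828 F468830) (tt N117491 (iv7 F505312)))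
theorem Q109834 : ∀ i, i < 109834 → P i := stepQ 109833 Q109833 (allL N109833 (tt N110751 (iv1 F473011)) (tt N100453 (iv0 F468831)) (tt N119821 (iv2 F517541)) (tt N113407 F485359) (tt N117376 (iv4 F504731)) (tt N76608 (iv5 D213063)) (tt N117375 F504729) (tt N119726 (iv7 F517123)))
theorem Q109835 : ∀ i, i < 109835 → P i := stepQ 109834 Q109834 (allL N109834 (tt N90010 F468834) (tt N116669 F501231) (tt N107787 (iv2 F468835)) (tt N76609 (iv3 D213064)) (tt N99313 F468832) (tt N121837 D225096) (tt N99312 F468833) (tt N116668 (iv7 F501225)))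
theorem Q109836 : ∀ i, i < 109836 → P i := stepQ 109835 Q109835 (allL N109835 (tt N100453 (iv1 F468839)) (tt N110751 (iv0 F473012)) (tt N119726 (iv2 F517121)) (tt N121837 (iv3 F528614)) (tt N106295 F468836) (tt N76609 (iv5 D213065)) (tt N101355 F468837) (tt N119821 (iv7 F517542)))
theorem Q109837 : ∀ i, i < 109837 → P i := stepQ 109836 Q109836 (allL N109836 (tt N107423 (iv1 F469554)) (tt N121631 F527438) (tt N107669 F468840) (tt N76614 F468841) (tt N110012 (iv4 F469549)) (tt N121382 (iv5 F526055)) (tt N76610 (iv6 D213066)) (tt N121484 (iv7 F526632)))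
theorem Q109838 : ∀ i, i < 109838 → P i := stepQ 109837 Q109837 (allL N109837 (tt N91268 F468843) (tt N106651 F468844) (tt N117494 (iv2 F505326)) (tt N76612 (iv3 D213067)) (tt N117435 (iv4 F505015)) (tt N110985 (iv5 F474088)) (tt N121838 D225097) (tt N76852 F468842))
theorem Q109839 : ∀ i, i < 109839 → P i := stepQ 109838 Q109838 (allL N109838 (tt N83409 F518007) (tt N121839 D225098) (tt N76855 F468845) (tt N121838 (iv3 F528619)) (tt N120202 (iv4 F519565)) (tt N121539 (iv5 F526926)) (tt N76612 (iv6 D213068)) (tt N121840 D225099))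
theorem Q109840 : ∀ i, i < 109840 → P i := stepQ 109839 Q109839 (allL N109839 (tt N76860 (iv1 F468848)) (tt N76614 (iv0 D213069)) (tt N76858 F472835) (tt N121369 (iv3 F525998)) (tt N116193 (iv4 F498943)) (tt N117228 (iv5 F504014)) (tt N110821 (iv6 F473300)) (tt N76859 F472836))
theorem Q109841 : ∀ i, i < 109841 → P i := stepQ 109840 Q109840 (allL N109840 (tt N76859 (iv1 F468849)) (tt N76858 F468850) (tt N76860 F468846) (tt N121484 (iv3 F526630)) (tt N106603 F468847) (tt N121384 (iv5 F526066)) (tt N110556 (iv6 F472128)) (tt N76614 (iv7 D213070)))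
theorem Q109842 : ∀ i, i < 109842 → P i := stepQ 109841 Q109841 (allL N109841 (tt N91206 F468856) (tt N91204 (iv0 F468857)) (tt N109246 F468851) (tt N79942 F468852) (tt N100652 F468853) (tt N92993 F468854) (tt N76615 (iv6 D213071)) (tt N109243 F468855))
theorem Q109843 : ∀ i, i < 109843 → P i := stepQ 109842 Q109842 (allL N109842 (tt N102683 F468862) (tt N102682 F468863) (tt N102684 F468858) (tt N79625 F468859) (tt N118487 (iv4 F510636)) (tt N76618 (iv5 D213072)) (tt N80793 F468860) (tt N102679 F468861))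
theorem Q109844 : ∀ i, i < 109844 → P i := stepQ 109843 Q109843 (allL N109843 (tt N118020 (iv1 F508124)) (tt N114418 F490059) (tt N92660 F468864) (tt N111911 (iv3 F478603)) (tt N76619 (iv4 D213073)) (tt N117679 (iv5 F506376)) (tt N102576 F468865) (tt N118019 (iv7 F508121)))
theorem Q109845 : ∀ i, i < 109845 → P i := stepQ 109844 Q109844 (allL N109844 (tt N77652 F468871) (tt N77649 F468872) (tt N109124 F468866) (tt N95989 F468867) (tt N76623 (iv4 D213074)) (tt N92582 F468870) (tt N104957 F468868) (tt N98584 F468869))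
theorem Q109846 : ∀ i, i < 109846 → P i := stepQ 109845 Q109845 (allL N109845 (tt N77649 F468877) (tt N77652 F468878) (tt N98584 F468873) (tt N109312 (iv3 F468879)) (tt N76624 (iv4 D213075)) (tt N99762 F468874) (tt N107091 F468875) (tt N109124 F468876))
theorem Q109847 : ∀ i, i < 109847 → P i := stepQ 109846 Q109846 (allL N109846 (tt N76628 (iv1 D213076)) (tt N105675 F468880) (tt N106392 F468885) (tt N104009 (iv3 F468883)) (tt N104976 (iv4 F468884)) (tt N83799 F468882) (tt N114336 (iv6 F489680)) (tt N104973 F468881))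
theorem Q109848 : ∀ i, i < 109848 → P i := stepQ 109847 Q109847 (allL N109847 (tt N100663 F468889) (tt N104976 F468890) (tt N104975 F468886) (tt N116883 (iv3 F502334)) (tt N98257 F468887) (tt N116449 (iv5 F500178)) (tt N76629 (iv6 D213077)) (tt N104974 F468888))
theorem Q109849 : ∀ i, i < 109849 → P i := stepQ 109848 Q109848 (allL N109848 (tt N81532 F468895) (tt N95837 F468896) (tt N97422 F468891) (tt N81767 F468892) (tt N76646 (iv4 D213078)) (tt N97445 F468894) (tt N81760 F468893) (tt N116220 (iv7 F499090)))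
theorem Q109850 : ∀ i, i < 109850 → P i := stepQ 109849 Q109849 (allL N109849 (tt N76649 (iv1 D213079)) (tt N119689 (iv0 F516933)) (tt N85361 F468901) (tt N80887 (iv3 F468899)) (tt N76661 F468898) (tt N90478 F468902) (tt N80861 (iv6 F468900)) (tt N80878 F468897))
theorem Q109851 : ∀ i, i < 109851 → P i := stepQ 109850 Q109850 (allL N109850 (tt N85803 F468906) (tt N98078 F468907) (tt N98076 F468903) (tt N102693 F468904) (tt N121552 (iv4 F527000)) (tt N76649 (iv5 D213080)) (tt N118456 (iv6 F510467)) (tt N98075 F468905))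
theorem Q109852 : ∀ i, i < 109852 → P i := stepQ 109851 Q109851 (allL N109851 (tt N85361 (iv1 F468912)) (tt N80878 F468913) (tt N119689 (iv2 F516928)) (tt N118457 (iv3 F510473)) (tt N86476 F468909) (tt N98075 F468910) (tt N98773 F468911) (tt N76649 (iv7 D213081)))
theorem Q109853 : ∀ i, i < 109853 → P i := stepQ 109852 Q109852 (allL N109852 (tt N98773 (iv1 F468917)) (tt N76650 (iv0 D213082)) (tt N117673 (iv2 F506341)) (tt N82030 (iv3 F468919)) (tt N76665 F468915) (tt N91860 F468914) (tt N86112 F468916) (tt N82034 F468918))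
theorem Q109854 : ∀ i, i < 109854 → P i := stepQ 109853 Q109853 (allL N109853 (tt N81446 F468926) (tt N94056 F468925) (tt N79913 F468920) (tt N102949 F468921) (tt N100763 F468922) (tt N76651 (iv5 D213083)) (tt N79907 F468923) (tt N80875 F468924))
theorem Q109855 : ∀ i, i < 109855 → P i := stepQ 109854 Q109854 (allL N109854 (tt N96489 (iv1 F468931)) (tt N76652 (iv0 D213084)) (tt N109280 (iv2 F468929)) (tt N96307 F468928) (tt N95844 F468927) (tt N96388 (iv5 F468932)) (tt N111813 (iv6 F478107)) (tt N96403 F468930))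
theorem Q109856 : ∀ i, i < 109856 → P i := stepQ 109855 Q109855 (allL N109855 (tt N96403 (iv1 F468936)) (tt N109280 F468937) (tt N96489 F468933) (tt N95931 F468934) (tt N76653 F468935) (tt N110553 F472111) (tt N110554 (iv6 F472116)) (tt N76652 (iv7 D213085)))
theorem Q109857 : ∀ i, i < 109857 → P i := stepQ 109856 Q109856 (allL N109856 (tt N109324 F468941) (tt N80762 (iv0 F468943)) (tt N79283 F468938) (tt N76657 F468939) (tt N85787 F468940) (tt N79445 F468942) (tt N76656 (iv6 D213086)) (tt N109325 (iv7 F468944)))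
theorem Q109858 : ∀ i, i < 109858 → P i := stepQ 109857 Q109857 (allL N109857 (tt N119116 (iv1 F513871)) (tt N83242 F468949) (tt N85617 F468945) (tt N95241 F468946) (tt N76658 (iv4 D213087)) (tt N95240 F468948) (tt N96599 F468950) (tt N95945 F468947))
theorem Q109859 : ∀ i, i < 109859 → P i := stepQ 109858 Q109858 (allL N109858 (tt N109080 (iv1 F486718)) (tt N120449 (iv0 F520842)) (tt N113117 F484046) (tt N115044 (iv3 F493192)) (tt N96599 F468951) (tt N100332 F468952) (tt N76658 (iv6 D213088)) (tt N104174 F468953))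
theorem Q109860 : ∀ i, i < 109860 → P i := stepQ 109859 Q109859 (allL N109859 (tt N76663 (iv1 F468956)) (tt N76660 (iv0 D213089)) (tt N121833 (iv2 F528587)) (tt N107997 (iv3 F468957)) (tt N119602 (iv4 F516466)) (tt N96509 F468954) (tt N121298 (iv6 F525618)) (tt N119873 F517815))
theorem Q109861 : ∀ i, i < 109861 → P i := stepQ 109860 Q109860 (allL N109860 (tt N76660 (iv1 D213090)) (tt N76663 F468958) (tt N119873 (iv2 F517809)) (tt N113250 (iv3 F484708)) (tt N104065 F468959) (tt N96511 (iv5 F468961)) (tt N104067 (iv6 F468960)) (tt N121833 (iv7 F528591)))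
theorem Q109862 : ∀ i, i < 109862 → P i := stepQ 109861 Q109861 (allL N109861 (tt N105799 F468968) (tt N104959 (iv0 F468969)) (tt N109185 F468963) (tt N109079 F468964) (tt N103707 F468965) (tt N76664 (iv5 D213091)) (tt N76666 F468966) (tt N84996 F468967))
theorem Q109863 : ∀ i, i < 109863 → P i := stepQ 109862 Q109862 (allL N109862 (tt N116243 F499201) (tt N103552 F468975) (tt N117958 (iv2 F507786)) (tt N116244 (iv3 F508133)) (tt N76666 (iv4 D213092)) (tt N105860 F468974) (tt N103707 F468972) (tt N109189 F468973))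
theorem Q109864 : ∀ i, i < 109864 → P i := stepQ 109863 Q109863 (allL N109863 (tt N76669 (iv1 D213093)) (tt N76671 F468980) (tt N98374 F468983) (tt N120544 F521365) (tt N79988 (iv4 F468981)) (tt N88976 (iv5 F468982)) (tt N76695 F468984) (tt N119170 (iv7 F514171)))
theorem Q109865 : ∀ i, i < 109865 → P i := stepQ 109864 Q109864 (allL N109864 (tt N119115 (iv1 F513866)) (tt N119113 (iv0 F513854)) (tt N114695 (iv2 F491394)) (tt N121164 F524885) (tt N96388 F468986) (tt N76671 (iv5 D213094)) (tt N114693 F491392) (tt N105737 F468985))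
theorem Q109866 : ∀ i, i < 109866 → P i := stepQ 109865 Q109865 (allL N109865 (tt N120199 (iv1 F519552)) (tt N120200 (iv0 F519556)) (tt N119599 (iv2 F516454)) (tt N107489 F468987) (tt N108806 F468988) (tt N121566 (iv5 F527065)) (tt N76674 (iv6 D213095)) (tt N108805 F468989))
theorem Q109867 : ∀ i, i < 109867 → P i := stepQ 109866 Q109866 (allL N109866 (tt N88974 F468992) (tt N119131 (iv0 F513956)) (tt N110553 (iv2 F472108)) (tt N86069 F468990) (tt N76675 (iv4 D213096)) (tt N96489 F468991) (tt N86068 (iv6 F468993)) (tt N114756 (iv7 F491696)))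
theorem Q109868 : ∀ i, i < 109868 → P i := stepQ 109867 Q109867 (allL N109867 (tt N120775 (iv1 F522649)) (tt N105726 (iv0 F468997)) (tt N110552 (iv2 F472103)) (tt N86067 F468994) (tt N86068 F468995) (tt N76718 F468996) (tt N76675 (iv6 D213097)) (tt N110557 (iv7 F472132)))
theorem Q109869 : ∀ i, i < 109869 → P i := stepQ 109868 Q109868 (allL N109868 (tt N101025 (iv1 F469000)) (tt N76679 (iv0 D213098)) (tt N89741 (iv2 F468999)) (tt N118444 (iv3 F510390)) (tt N89735 F468998) (tt N115389 (iv5 F494945)) (tt N114928 (iv6 F492584)) (tt N101047 F469001))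
theorem Q109870 : ∀ i, i < 109870 → P i := stepQ 109869 Q109869 (allL N109869 (tt N109812 F469005) (tt N109815 F469006) (tt N98443 F469002) (tt N112514 (iv3 F481451)) (tt N76829 F469004) (tt N76680 (iv5 D213099)) (tt N112513 (iv6 F481448)) (tt N98448 F469003))
theorem Q109871 : ∀ i, i < 109871 → P i := stepQ 109870 Q109870 (allL N109870 (tt N121841 D225100) (tt N107975 (iv0 F484681)) (tt N91162 F469007) (tt N76681 (iv3 D213100)) (tt N118008 (iv4 F508060)) (tt N84743 (iv5 F469009)) (tt N114883 (iv6 F492331)) (tt N98442 F469008))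
theorem Q109872 : ∀ i, i < 109872 → P i := stepQ 109871 Q109871 (allL N109871 (tt N109815 F469014) (tt N109812 F469015) (tt N98448 F469010) (tt N84743 F469011) (tt N76830 F469012) (tt N76681 (iv5 D213101)) (tt N84742 (iv6 F469016)) (tt N98443 F469013))
theorem Q109873 : ∀ i, i < 109873 → P i := stepQ 109872 Q109872 (allL N109872 (tt N89794 F469019) (tt N89790 (iv0 F469020)) (tt N89792 F469017) (tt N114883 (iv3 F492330)) (tt N97974 F469018) (tt N114882 (iv5 F492325)) (tt N76681 (iv6 D213102)) (tt N89793 (iv7 F469021)))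
theorem Q109874 : ∀ i, i < 109874 → P i := stepQ 109873 Q109873 (allL N109873 (tt N107947 (iv1 F469024)) (tt N76682 (iv0 D213103)) (tt N89727 (iv2 F469023)) (tt N107979 F469027) (tt N91611 F469022) (tt N112112 (iv5 F479539)) (tt N89043 (iv6 F469026)) (tt N89800 F469025))
theorem Q109875 : ∀ i, i < 109875 → P i := stepQ 109874 Q109874 (allL N109874 (tt N89727 (iv1 F469031)) (tt N89800 F469030) (tt N76682 (iv2 D213104)) (tt N110982 (iv3 F474075)) (tt N93895 F469028) (tt N106583 (iv5 F469032)) (tt N85331 (iv6 F469033)) (tt N107947 F469029))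
theorem Q109876 : ∀ i, i < 109876 → P i := stepQ 109875 Q109875 (allL N109875 (tt N89810 F469038) (tt N89808 F469039) (tt N106583 F469034) (tt N76683 F469035) (tt N106575 F469037) (tt N76682 (iv5 D213105)) (tt N112582 (iv6 F481720)) (tt N106580 F469036))
theorem Q109877 : ∀ i, i < 109877 → P i := stepQ 109876 Q109876 (allL N109876 (tt N84437 F469043) (tt N85332 (iv0 F469044)) (tt N85331 F469040) (tt N76684 F469041) (tt N114526 (iv4 F490604)) (tt N117391 (iv5 F504794)) (tt N76682 (iv6 D213106)) (tt N85330 F469042))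
theorem Q109878 : ∀ i, i < 109878 → P i := stepQ 109877 Q109877 (allL N109877 (tt N76689 (iv1 F469047)) (tt N76683 (iv0 D213107)) (tt N98435 (iv2 F469048)) (tt N100272 F469050) (tt N92591 F469046) (tt N76694 F469045) (tt N100271 (iv6 F469051)) (tt N98377 (iv7 F469049)))
theorem Q109879 : ∀ i, i < 109879 → P i := stepQ 109878 Q109878 (allL N109878 (tt N76683 (iv1 D213108)) (tt N76689 F469052) (tt N98377 (iv2 F469056)) (tt N121842 D225101) (tt N99970 F469055) (tt N76695 F469054) (tt N121843 D225102) (tt N98435 F469053))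
theorem Q109880 : ∀ i, i < 109880 → P i := stepQ 109879 Q109879 (allL N109879 (tt N121844 D225103) (tt N116192 (iv0 F498940)) (tt N120202 (iv2 F519563)) (tt N112582 F481721) (tt N76855 F469057) (tt N117390 (iv5 F504788)) (tt N76683 (iv6 D213109)) (tt N121845 D225104))
theorem Q109881 : ∀ i, i < 109881 → P i := stepQ 109880 Q109880 (allL N109880 (tt N115051 (iv1 F493235)) (tt N76684 (iv0 D213110)) (tt N89791 (iv2 F469060)) (tt N107999 (iv3 F469061)) (tt N98347 F469058) (tt N121555 (iv5 F527022)) (tt N88699 F469059) (tt N98427 (iv7 F469062)))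
theorem Q109882 : ∀ i, i < 109882 → P i := stepQ 109881 Q109881 (allL N109881 (tt N76684 (iv1 D213111)) (tt N115051 (iv0 F493234)) (tt N98427 (iv2 F469065)) (tt N121299 (iv3 F525622)) (tt N98348 F469064) (tt N121569 (iv5 F527083)) (tt N120803 (iv6 F522810)) (tt N89791 F469063))
theorem Q109883 : ∀ i, i < 109883 → P i := stepQ 109882 Q109882 (allL N109882 (tt N121846 D225105) (tt N121467 F526539) (tt N120201 (iv2 F519558)) (tt N117391 (iv3 F504793)) (tt N121557 (iv4 F527032)) (tt N76684 (iv5 D213112)) (tt N117390 F504790) (tt N121575 (iv7 F527111)))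
theorem Q109884 : ∀ i, i < 109884 → P i := stepQ 109883 Q109883 (allL N109883 (tt N98427 (iv1 F469069)) (tt N89791 F469070) (tt N115051 (iv2 F493230)) (tt N85330 F469066) (tt N76686 F469067) (tt N121575 (iv5 F527110)) (tt N107946 F469068) (tt N76684 (iv7 D213113)))
theorem Q109885 : ∀ i, i < 109885 → P i := stepQ 109884 Q109884 (allL N109884 (tt N85316 (iv1 F469073)) (tt N114928 F492586) (tt N114929 (iv2 F492587)) (tt N103044 F469071) (tt N101920 F469072) (tt N120203 (iv5 F519572)) (tt N76685 (iv6 D213114)) (tt N114795 (iv7 F491912)))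
theorem Q109886 : ∀ i, i < 109886 → P i := stepQ 109885 Q109885 (allL N109885 (tt N121284 (iv1 F525559)) (tt N89870 F469075) (tt N114633 (iv2 F491108)) (tt N76689 F469074) (tt N116625 (iv4 F501036)) (tt N76688 (iv5 D213115)) (tt N121847 D225106) (tt N114631 (iv7 F491097)))
theorem Q109887 : ∀ i, i < 109887 → P i := stepQ 109886 Q109886 (allL N109886 (tt N116519 F500585) (tt N116533 F500649) (tt N110765 (iv2 F473069)) (tt N121847 (iv3 F528673)) (tt N76853 F469076) (tt N119871 (iv5 F517800)) (tt N76689 (iv6 D213116)) (tt N116532 (iv7 F500642)))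
theorem Q109888 : ∀ i, i < 109888 → P i := stepQ 109887 Q109887 (allL N109887 (tt N78451 F469083) (tt N85259 (iv0 F469082)) (tt N80577 F469077) (tt N89817 F469078) (tt N76693 F469079) (tt N78425 F469081) (tt N76692 (iv6 D213117)) (tt N80580 F469080))
theorem Q109889 : ∀ i, i < 109889 → P i := stepQ 109888 Q109888 (allL N109888 (tt N113257 (iv1 F484735)) (tt N89695 F484731) (tt N113256 F484729) (tt N76695 (iv3 D213118)) (tt N114830 (iv4 F492099)) (tt N121842 (iv5 F528641)) (tt N120544 (iv6 F521366)) (tt N98434 F469084))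
theorem Q109890 : ∀ i, i < 109890 → P i := stepQ 109889 Q109889 (allL N109889 (tt N116097 F499222) (tt N112346 (iv0 F480681)) (tt N119919 (iv2 F518038)) (tt N91133 F469085) (tt N76851 F469086) (tt N113800 (iv5 F487159)) (tt N76697 (iv6 D213119)) (tt N91128 F469087))
theorem Q109891 : ∀ i, i < 109891 → P i := stepQ 109890 Q109890 (allL N109890 (tt N76698 (iv1 D213120)) (tt N89814 F469088) (tt N89815 (iv2 F469090)) (tt N85470 (iv3 F469091)) (tt N87640 (iv4 F469092)) (tt N119519 (iv5 F516026)) (tt N120955 (iv6 F523684)) (tt N89816 F469089))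
theorem Q109892 : ∀ i, i < 109892 → P i := stepQ 109891 Q109891 (allL N109891 (tt N104140 F469097) (tt N120450 F520850) (tt N119572 (iv2 F516318)) (tt N114585 (iv3 F490876)) (tt N121228 (iv4 F525249)) (tt N76699 (iv5 D213122)) (tt N100319 F469096) (tt N120448 (iv7 F520836)))
theorem Q109893 : ∀ i, i < 109893 → P i := stepQ 109892 Q109892 (allL N109892 (tt N76712 (iv1 F469100)) (tt N76709 (iv0 D213123)) (tt N97815 (iv2 F469101)) (tt N81949 F469103) (tt N76844 F469099) (tt N97795 F469098) (tt N101299 F469104) (tt N81944 (iv7 F469102)))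
theorem Q109894 : ∀ i, i < 109894 → P i := stepQ 109893 Q109893 (allL N109893 (tt N76709 (iv1 D213124)) (tt N76712 F469105) (tt N81944 F469110) (tt N77164 (iv3 F469109)) (tt N76843 F469108) (tt N78297 F469107) (tt N77146 F469111) (tt N97815 F469106))
theorem Q109895 : ∀ i, i < 109895 → P i := stepQ 109894 Q109894 (allL N109894 (tt N116895 (iv1 F502399)) (tt N76711 (iv0 D213125)) (tt N116892 F502382) (tt N114403 F489979) (tt N85840 F469112) (tt N120237 (iv5 F519750)) (tt N107487 (iv6 F469113)) (tt N116893 (iv7 F502386)))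
theorem Q109896 : ∀ i, i < 109896 → P i := stepQ 109895 Q109895 (allL N109895 (tt N116714 F501456) (tt N117396 F504821) (tt N116894 (iv2 F502391)) (tt N76712 F469114) (tt N117393 (iv4 F504805)) (tt N76711 (iv5 D213126)) (tt N83325 (iv6 F469115)) (tt N117395 F504817))
theorem Q109897 : ∀ i, i < 109897 → P i := stepQ 109896 Q109896 (allL N109896 (tt N83397 F469119) (tt N77433 (iv0 F469121)) (tt N76716 F469116) (tt N107328 F469117) (tt N77382 F469120) (tt N76715 (iv5 D213127)) (tt N110343 F471132) (tt N83454 F469118))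
theorem Q109898 : ∀ i, i < 109898 → P i := stepQ 109897 Q109897 (allL N109897 (tt N110240 F470586) (tt N110344 F471141) (tt N110343 (iv2 F471133)) (tt N76718 F469122) (tt N83459 F469123) (tt N86067 F469124) (tt N76716 (iv6 D213128)) (tt N110342 F471136))
theorem Q109899 : ∀ i, i < 109899 → P i := stepQ 109898 Q109898 (allL N109898 (tt N90336 (iv1 F469130)) (tt N90338 (iv0 F469129)) (tt N107285 F469125) (tt N76719 F469126) (tt N94609 F469127) (tt N101917 F469128) (tt N76717 (iv6 D213129)) (tt N114758 (iv7 F491707)))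
theorem Q109900 : ∀ i, i < 109900 → P i := stepQ 109899 Q109899 (allL N109899 (tt N120232 (iv1 F519727)) (tt N76718 (iv0 D213130)) (tt N110568 (iv2 F472177)) (tt N120208 (iv3 F519599)) (tt N110562 (iv4 F472155)) (tt N109359 F471314) (tt N110224 F470514) (tt N110498 (iv7 F471852)))
theorem Q109901 : ∀ i, i < 109901 → P i := stepQ 109900 Q109900 (allL N109900 (tt N110498 F471854) (tt N110568 (iv0 F472179)) (tt N120232 (iv2 F519731)) (tt N110342 (iv3 F471138)) (tt N110556 F472129) (tt N110557 (iv5 F472131)) (tt N106603 F469131) (tt N76718 (iv7 D213131)))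
theorem Q109902 : ∀ i, i < 109902 → P i := stepQ 109901 Q109901 (allL N109901 (tt N111185 F475135) (tt N111182 (iv0 F475119)) (tt N109379 F469132) (tt N76720 (iv3 D213132)) (tt N121134 (iv4 F524699)) (tt N86724 (iv5 F469133)) (tt N120397 (iv6 F520568)) (tt N111184 (iv7 F475126)))
theorem Q109903 : ∀ i, i < 109903 → P i := stepQ 109902 Q109902 (allL N109902 (tt N113622 (iv1 F486344)) (tt N113618 (iv0 F486329)) (tt N113621 F486339) (tt N86724 F469134) (tt N108636 F469137) (tt N76720 (iv5 D213133)) (tt N104831 F469135) (tt N104838 F469136))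
theorem Q109904 : ∀ i, i < 109904 → P i := stepQ 109903 Q109903 (allL N109903 (tt N100747 (iv1 F469140)) (tt N76724 (iv0 D213134)) (tt N78440 (iv2 F469139)) (tt N92881 F469143) (tt N76746 F469138) (tt N110863 (iv5 F473499)) (tt N78438 (iv6 F469142)) (tt N100744 F469141))
theorem Q109905 : ∀ i, i < 109905 → P i := stepQ 109904 Q109904 (allL N109904 (tt N92871 F469149) (tt N95113 F469150) (tt N78184 F469144) (tt N77937 F469145) (tt N96034 F469146) (tt N76724 (iv5 D213135)) (tt N92907 F469147) (tt N107245 F469148))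
theorem Q109906 : ∀ i, i < 109906 → P i := stepQ 109905 Q109905 (allL N109905 (tt N110997 (iv1 F474158)) (tt N110513 (iv0 F471929)) (tt N111804 (iv2 F478055)) (tt N94240 F469151) (tt N76736 (iv4 D213136)) (tt N108048 F469154) (tt N94239 F469152) (tt N92553 F469153))
theorem Q109907 : ∀ i, i < 109907 → P i := stepQ 109906 Q109906 (allL N109906 (tt N90474 F469157) (tt N90473 F469158) (tt N90477 F469155) (tt N108050 F469159) (tt N76738 (iv4 D213137)) (tt N116445 (iv5 F500155)) (tt N121848 D225107) (tt N90464 F469156))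
theorem Q109908 : ∀ i, i < 109908 → P i := stepQ 109907 Q109907 (allL N109907 (tt N111285 (iv1 F475633)) (tt N114876 (iv0 F492290)) (tt N90478 F469160) (tt N94086 F469161) (tt N121848 (iv4 F528679)) (tt N85361 F469162) (tt N76738 (iv6 D213138)) (tt N118432 (iv7 F510323)))
theorem Q109909 : ∀ i, i < 109909 → P i := stepQ 109908 Q109908 (allL N109908 (tt N76739 (iv1 D213139)) (tt N90471 F469163) (tt N100499 F469166) (tt N95776 (iv3 F469165)) (tt N76748 F469164) (tt N116198 (iv5 F498965)) (tt N110711 (iv6 F472858)) (tt N110509 (iv7 F471907)))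
theorem Q109910 : ∀ i, i < 109910 → P i := stepQ 109909 Q109909 (allL N109909 (tt N118746 F511866) (tt N121849 D225108) (tt N118284 (iv2 F509510)) (tt N76739 (iv3 D213140)) (tt N117669 (iv4 F506323)) (tt N106962 F469167) (tt N92504 F469168) (tt N121850 D225109))
theorem Q109911 : ∀ i, i < 109911 → P i := stepQ 109910 Q109910 (allL N109910 (tt N100499 (iv1 F469172)) (tt N110509 (iv0 F471909)) (tt N90471 F469169) (tt N121850 (iv3 F528691)) (tt N76740 F469170) (tt N102744 F469171) (tt N117881 (iv6 F507407)) (tt N76739 (iv7 D213141)))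
theorem Q109912 : ∀ i, i < 109912 → P i := stepQ 109911 Q109911 (allL N109911 (tt N81813 F469177) (tt N121851 D225110) (tt N90472 F469173) (tt N79552 F469174) (tt N117881 (iv4 F507405)) (tt N79550 F469175) (tt N76740 (iv6 D213142)) (tt N103144 F469176))
theorem Q109913 : ∀ i, i < 109913 → P i := stepQ 109912 Q109912 (allL N109912 (tt N81565 F469183) (tt N100720 F469184) (tt N81030 F469178) (tt N101957 F469179) (tt N76745 (iv4 D213143)) (tt N104785 F469182) (tt N81029 F469180) (tt N100723 F469181))
theorem Q109914 : ∀ i, i < 109914 → P i := stepQ 109913 Q109913 (allL N109913 (tt N117102 (iv1 F503402)) (tt N103614 F469188) (tt N76753 F469185) (tt N80692 F469186) (tt N119645 (iv4 F516682)) (tt N76752 (iv5 D213144)) (tt N77340 F469189) (tt N101706 F469187))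
theorem Q109915 : ∀ i, i < 109915 → P i := stepQ 109914 Q109914 (allL N109914 (tt N76753 (iv1 D213145)) (tt N101706 F469190) (tt N103614 F469194) (tt N88916 (iv3 F469191)) (tt N92845 F469195) (tt N88913 (iv5 F469192)) (tt N103612 (iv6 F469193)) (tt N117102 (iv7 F503399)))
theorem Q109916 : ∀ i, i < 109916 → P i := stepQ 109915 Q109915 (allL N109915 (tt N103326 F469200) (tt N120970 (iv0 F523779)) (tt N119645 (iv2 F516681)) (tt N88725 F469196) (tt N76753 (iv4 D213146)) (tt N103445 F469199) (tt N101718 F469197) (tt N101719 F469198))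
theorem Q109917 : ∀ i, i < 109917 → P i := stepQ 109916 Q109916 (allL N109916 (tt N76767 (iv1 D213147)) (tt N111097 (iv0 F474651)) (tt N96997 F469205) (tt N76768 (iv3 F469203)) (tt N111912 (iv4 F478608)) (tt N104220 F469202) (tt N96967 (iv6 F469204)) (tt N80285 F469201))
theorem Q109918 : ∀ i, i < 109918 → P i := stepQ 109917 Q109917 (allL N109917 (tt N103565 F469207) (tt N103617 F469208) (tt N111098 (iv2 F474654)) (tt N121026 F524086) (tt N76767 (iv4 D213148)) (tt N115636 (iv5 F496078)) (tt N103751 F469206) (tt N111099 (iv7 F474657)))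
theorem Q109919 : ∀ i, i < 109919 → P i := stepQ 109918 Q109918 (allL N109918 (tt N88719 F469212) (tt N88713 F470791) (tt N88717 F469209) (tt N76770 (iv3 D213149)) (tt N121026 F524087) (tt N113448 F485536) (tt N106496 F469210) (tt N88718 F469211))
theorem Q109920 : ∀ i, i < 109920 → P i := stepQ 109919 Q109919 (allL N109919 (tt N106017 F469217) (tt N106598 F469218) (tt N99146 F469213) (tt N90925 F469214) (tt N83476 F469215) (tt N76774 (iv5 D213150)) (tt N83475 F469219) (tt N99213 F469216))
theorem Q109921 : ∀ i, i < 109921 → P i := stepQ 109920 Q109920 (allL N109920 (tt N94924 F469225) (tt N99049 (iv0 F469226)) (tt N99147 F469220) (tt N90926 F469221) (tt N76775 F469222) (tt N96824 F469223) (tt N76774 (iv6 D213151)) (tt N99730 F469224))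
theorem Q109922 : ∀ i, i < 109922 → P i := stepQ 109921 Q109921 (allL N109921 (tt N90914 F469231) (tt N99095 (iv0 F469232)) (tt N99122 F469227) (tt N76776 (iv3 D213152)) (tt N95946 F469228) (tt N121353 (iv5 F525926)) (tt N99044 F469229) (tt N99593 F469230))
theorem Q109923 : ∀ i, i < 109923 → P i := stepQ 109922 Q109922 (allL N109922 (tt N99135 F469237) (tt N99134 F469238) (tt N99137 F469233) (tt N76779 F469234) (tt N99870 F469235) (tt N76778 (iv5 D213153)) (tt N113339 (iv6 F485103)) (tt N98790 F469236))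
theorem Q109924 : ∀ i, i < 109924 → P i := stepQ 109923 Q109923 (allL N109923 (tt N76788 (iv1 F469241)) (tt N76779 (iv0 D213154)) (tt N99595 (iv2 F469242)) (tt N121803 (iv3 F528415)) (tt N105329 F469240) (tt N76790 F469239) (tt N99135 (iv6 F469243)) (tt N99596 (iv7 F469244)))
theorem Q109925 : ∀ i, i < 109925 → P i := stepQ 109924 Q109924 (allL N109924 (tt N76779 (iv1 D213155)) (tt N76788 F469245) (tt N99596 (iv2 F469249)) (tt N99128 F469250) (tt N106015 F469248) (tt N76791 F469247) (tt N120236 (iv6 F519748)) (tt N99595 F469246))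
theorem Q109926 : ∀ i, i < 109926 → P i := stepQ 109925 Q109925 (allL N109925 (tt N115780 F496836) (tt N92845 F469256) (tt N104368 F469251) (tt N82390 F469252) (tt N76781 (iv4 D213156)) (tt N93069 F469255) (tt N104568 F469253) (tt N102374 F469254))
theorem Q109927 : ∀ i, i < 109927 → P i := stepQ 109926 Q109926 (allL N109926 (tt N81041 F469261) (tt N81047 F469262) (tt N81045 F469257) (tt N76786 F469258) (tt N105175 (iv4 F469263)) (tt N76782 (iv5 D213157)) (tt N104569 F469259) (tt N81044 F469260))
theorem Q109928 : ∀ i, i < 109928 → P i := stepQ 109927 Q109927 (allL N109927 (tt N99065 (iv1 F469268)) (tt N76787 (iv0 D213158)) (tt N98791 (iv2 F469267)) (tt N90933 F469264) (tt N81987 F469265) (tt N121806 (iv5 F528434)) (tt N81908 F469266) (tt N99120 F469269))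
theorem Q109929 : ∀ i, i < 109929 → P i := stepQ 109928 Q109928 (allL N109928 (tt N121421 (iv1 F526269)) (tt N90031 (iv0 F469274)) (tt N99121 F469270) (tt N76788 F469271) (tt N121852 D225111) (tt N76787 (iv5 D213159)) (tt N99115 F469272) (tt N90939 F469273))
theorem Q109930 : ∀ i, i < 109930 → P i := stepQ 109929 Q109929 (allL N109929 (tt N110670 F472694) (tt N110668 (iv0 F472688)) (tt N98787 F469275) (tt N99115 F469276) (tt N113205 (iv4 F484472)) (tt N98785 F469277) (tt N76788 (iv6 D213160)) (tt N113444 (iv7 F485522)))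
theorem Q109931 : ∀ i, i < 109931 → P i := stepQ 109930 Q109930 (allL N109930 (tt N112676 F482127) (tt N121422 (iv0 F526275)) (tt N121424 (iv2 F526284)) (tt N76790 (iv3 D213161)) (tt N107146 F469278) (tt N121803 (iv5 F528413)) (tt N120529 (iv6 F521282)) (tt N116944 F502629))
theorem Q109932 : ∀ i, i < 109932 → P i := stepQ 109931 Q109931 (allL N109931 (tt N76866 (iv1 F469284)) (tt N76865 (iv0 F469283)) (tt N99035 F469279) (tt N120529 F521280) (tt N107145 F469280) (tt N95799 F469281) (tt N76790 (iv6 D213162)) (tt N76822 F469282))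
theorem Q109933 : ∀ i, i < 109933 → P i := stepQ 109932 Q109932 (allL N109932 (tt N76792 (iv1 D213163)) (tt N82079 F469285) (tt N107627 (iv2 F469288)) (tt N110679 (iv3 F472733)) (tt N107625 F469287) (tt N121853 D225112) (tt N98930 (iv6 F469289)) (tt N107622 F469286))
theorem Q109934 : ∀ i, i < 109934 → P i := stepQ 109933 Q109933 (allL N109933 (tt N100467 F469292) (tt N119853 (iv0 F517707)) (tt N118776 (iv2 F512004)) (tt N109207 F469290) (tt N107668 (iv4 F469293)) (tt N76792 (iv5 D213164)) (tt N107667 F469291) (tt N119948 (iv7 F518193)))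
theorem Q109935 : ∀ i, i < 109935 → P i := stepQ 109934 Q109934 (allL N109934 (tt N119877 (iv1 F517835)) (tt N110675 (iv0 F472719)) (tt N119889 (iv2 F517881)) (tt N76794 F469294) (tt N113436 (iv4 F485488)) (tt N76793 (iv5 D213165)) (tt N113435 F485487) (tt N119888 F517876))
theorem Q109936 : ∀ i, i < 109936 → P i := stepQ 109935 Q109935 (allL N109935 (tt N119878 F517839) (tt N120019 (iv0 F518592)) (tt N120386 (iv2 F520510)) (tt N113435 F485486) (tt N121113 (iv4 F524574)) (tt N112676 (iv5 F482126)) (tt N76794 (iv6 D213166)) (tt N121375 (iv7 F526021)))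
theorem Q109937 : ∀ i, i < 109937 → P i := stepQ 109936 Q109936 (allL N109936 (tt N121384 (iv1 F526069)) (tt N76802 (iv0 D213167)) (tt N121383 (iv2 F526062)) (tt N98975 F469295) (tt N117206 (iv4 F503904)) (tt N98974 (iv5 F469296)) (tt N121854 D225113) (tt N106292 (iv7 F469297)))
theorem Q109938 : ∀ i, i < 109938 → P i := stepQ 109937 Q109937 (allL N109937 (tt N76802 (iv1 D213168)) (tt N121384 F526070) (tt N106292 F469299) (tt N121854 (iv3 F528715)) (tt N106293 F469300) (tt N121855 D225114) (tt N98975 (iv6 F469298)) (tt N121383 (iv7 F526058)))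
theorem Q109939 : ∀ i, i < 109939 → P i := stepQ 109938 Q109938 (allL N109938 (tt N107615 (iv1 F469303)) (tt N76807 (iv0 D213169)) (tt N107612 F469305) (tt N77664 F469301) (tt N113544 F485962) (tt N120083 (iv5 F518960)) (tt N77661 F469302) (tt N107613 (iv7 F469304)))
theorem Q109940 : ∀ i, i < 109940 → P i := stepQ 109939 Q109939 (allL N109939 (tt N76807 (iv1 D213170)) (tt N107615 F469306) (tt N107613 F469310) (tt N89841 (iv3 F469308)) (tt N88864 F469311) (tt N91154 F469312) (tt N88863 (iv6 F469309)) (tt N107612 F469307))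
theorem Q109941 : ∀ i, i < 109941 → P i := stepQ 109940 Q109940 (allL N109940 (tt N91256 (iv1 F469318)) (tt N91260 (iv0 F469317)) (tt N77951 F469313) (tt N76810 (iv3 D213171)) (tt N91632 F469316) (tt N121856 D225115) (tt N99087 F469314) (tt N106659 F469315))
theorem Q109942 : ∀ i, i < 109942 → P i := stepQ 109941 Q109941 (allL N109941 (tt N105384 (iv1 F469325)) (tt N81990 (iv0 F469324)) (tt N94604 F469319) (tt N91366 F469320) (tt N76810 (iv4 D213172)) (tt N96632 F469323) (tt N99117 F469321) (tt N95001 F469322))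
theorem Q109943 : ∀ i, i < 109943 → P i := stepQ 109942 Q109942 (allL N109942 (tt N109974 (iv1 F469438)) (tt N109825 F469327) (tt N98969 F469326) (tt N121856 (iv3 F528728)) (tt N121513 (iv4 F526788)) (tt N76810 (iv5 D213173)) (tt N110686 (iv6 F472761)) (tt N109975 (iv7 F469441)))
theorem Q109944 : ∀ i, i < 109944 → P i := stepQ 109943 Q109943 (allL N109943 (tt N109825 F469330) (tt N109974 (iv0 F469437)) (tt N109975 F469440) (tt N77949 F469328) (tt N121857 D225116) (tt N76811 (iv5 D213174)) (tt N121858 D225117) (tt N98969 F469329))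
theorem Q109945 : ∀ i, i < 109945 → P i := stepQ 109944 Q109944 (allL N109944 (tt N106670 F469332) (tt N119800 (iv0 F517479)) (tt N76813 F469331) (tt N110562 (iv3 F472154)) (tt N121859 D225118) (tt N76812 (iv5 D213175)) (tt N113322 (iv6 F485018)) (tt N119801 (iv7 F517482)))
theorem Q109946 : ∀ i, i < 109946 → P i := stepQ 109945 Q109945 (allL N109945 (tt N77926 F469337) (tt N81908 F469338) (tt N76814 F469333) (tt N110563 (iv3 F472160)) (tt N100915 F469334) (tt N81917 (iv5 F469336)) (tt N76812 (iv6 D213176)) (tt N101442 F469335))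
theorem Q109947 : ∀ i, i < 109947 → P i := stepQ 109946 Q109946 (allL N109946 (tt N119801 (iv1 F517481)) (tt N76813 (iv0 D213177)) (tt N106670 (iv2 F469339)) (tt N119798 (iv3 F517463)) (tt N121860 D225119) (tt N76834 F469340) (tt N119803 (iv6 F517488)) (tt N119800 (iv7 F517478)))
theorem Q109948 : ∀ i, i < 109948 → P i := stepQ 109947 Q109947 (allL N109947 (tt N121861 D225120) (tt N106347 (iv0 F516527)) (tt N121859 (iv2 F528747)) (tt N119615 (iv3 F516526)) (tt N76813 (iv4 D213178)) (tt N121485 (iv5 F526637)) (tt N90936 F469344) (tt N120196 (iv7 F519534)))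
theorem Q109949 : ∀ i, i < 109949 → P i := stepQ 109948 Q109948 (allL N109948 (tt N91121 F469345) (tt N121862 D225121) (tt N113322 (iv2 F485017)) (tt N76815 F469341) (tt N90936 (iv4 F469343)) (tt N89312 F469342) (tt N76813 (iv6 D213179)) (tt N113390 (iv7 F485316)))
theorem Q109950 : ∀ i, i < 109950 → P i := stepQ 109949 Q109949 (allL N109949 (tt N76814 (iv1 D213180)) (tt N101442 F469348) (tt N81908 (iv2 F469354)) (tt N77819 (iv3 F469352)) (tt N78141 F469351) (tt N81843 F469350) (tt N98791 F469353) (tt N77926 F469349))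
theorem Q109951 : ∀ i, i < 109951 → P i := stepQ 109950 Q109950 (allL N109950 (tt N81908 (iv1 F469360)) (tt N77926 F469361) (tt N101442 F469355) (tt N76819 F469356) (tt N82544 F469357) (tt N81916 F469358) (tt N77921 F469359) (tt N76814 (iv7 D213181)))
theorem Q109952 : ∀ i, i < 109952 → P i := stepQ 109951 Q109951 (allL N109951 (tt N120103 (iv1 F519062)) (tt N76815 (iv0 D213182)) (tt N120101 F519048) (tt N105304 F469362) (tt N113209 (iv4 F484490)) (tt N121115 (iv5 F524584)) (tt N112523 (iv6 F481495)) (tt N120102 (iv7 F519053)))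
theorem Q109953 : ∀ i, i < 109953 → P i := stepQ 109952 Q109952 (allL N109952 (tt N76815 (iv1 D213183)) (tt N120103 F519061) (tt N120102 F519057) (tt N119111 (iv3 F513844)) (tt N121863 D225122) (tt N119777 (iv5 F517366)) (tt N110696 (iv6 F472795)) (tt N120101 F519050))
theorem Q109954 : ∀ i, i < 109954 → P i := stepQ 109953 Q109953 (allL N109953 (tt N121118 F524601) (tt N119752 (iv0 F517241)) (tt N120098 (iv2 F519029)) (tt N89312 F469363) (tt N89897 (iv4 F469365)) (tt N76815 (iv5 D213184)) (tt N76818 F469364) (tt N113389 (iv7 F485312)))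
theorem Q109955 : ∀ i, i < 109955 → P i := stepQ 109954 Q109954 (allL N109954 (tt N120102 (iv1 F519052)) (tt N120101 (iv0 F519051)) (tt N120103 (iv2 F519058)) (tt N113390 (iv3 F485315)) (tt N83415 F484418) (tt N113389 F485314) (tt N113425 (iv6 F485440)) (tt N76815 (iv7 D213185)))
theorem Q109956 : ∀ i, i < 109956 → P i := stepQ 109955 Q109955 (allL N109955 (tt N77818 F469368) (tt N110727 F472923) (tt N110726 F472917) (tt N76816 (iv3 D213186)) (tt N117520 (iv4 F505486)) (tt N81903 (iv5 F469369)) (tt N99043 F469366) (tt N99126 F469367))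
theorem Q109957 : ∀ i, i < 109957 → P i := stepQ 109956 Q109956 (allL N109956 (tt N107566 F469372) (tt N101453 (iv0 F469373)) (tt N119771 F517343) (tt N81903 F469370) (tt N117443 (iv4 F505054)) (tt N76816 (iv5 D213187)) (tt N77927 F469371) (tt N119772 (iv7 F517346)))
theorem Q109958 : ∀ i, i < 109958 → P i := stepQ 109957 Q109957 (allL N109957 (tt N101453 F469374) (tt N107566 F469375) (tt N119772 F517349) (tt N112689 (iv3 F482187)) (tt N121864 D225123) (tt N76817 (iv5 D213188)) (tt N121865 D225124) (tt N119771 F517344))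
theorem Q109959 : ∀ i, i < 109959 → P i := stepQ 109958 Q109958 (allL N109958 (tt N78208 (iv1 F469377)) (tt N76818 (iv0 D213189)) (tt N120097 F519026) (tt N117242 (iv3 F504081)) (tt N117245 (iv4 F504090)) (tt N98930 F469376) (tt N121866 D225125) (tt N119834 (iv7 F517604)))
theorem Q109960 : ∀ i, i < 109960 → P i := stepQ 109959 Q109959 (allL N109959 (tt N76818 (iv1 D213190)) (tt N78208 F469378) (tt N119834 (iv2 F517601)) (tt N100481 (iv3 F473074)) (tt N121867 D225126) (tt N98929 F469379) (tt N116531 (iv6 F500637)) (tt N120097 (iv7 F519028)))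
theorem Q109961 : ∀ i, i < 109961 → P i := stepQ 109960 Q109960 (allL N109960 (tt N83054 F469383) (tt N83430 F469384) (tt N83428 F469380) (tt N89890 F469381) (tt N76818 (iv4 D213191)) (tt N113494 F485760) (tt N89897 F469382) (tt N83429 (iv7 F469385)))
theorem Q109962 : ∀ i, i < 109962 → P i := stepQ 109961 Q109961 (allL N109961 (tt N119834 (iv1 F517606)) (tt N120097 F519027) (tt N78208 F469387) (tt N81916 F469388) (tt N83429 F469389) (tt N76819 F469390) (tt N116623 (iv6 F501027)) (tt N76818 (iv7 D213192)))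
theorem Q109963 : ∀ i, i < 109963 → P i := stepQ 109962 Q109962 (allL N109962 (tt N112610 F481835) (tt N77839 (iv0 F469394)) (tt N77932 F469391) (tt N76820 (iv3 D213193)) (tt N89297 F469392) (tt N121868 D225127) (tt N89296 F469393) (tt N112611 (iv7 F481840)))
theorem Q109964 : ∀ i, i < 109964 → P i := stepQ 109963 Q109963 (allL N109963 (tt N107533 F469396) (tt N107531 F469397) (tt N83541 F469395) (tt N121868 (iv3 F528803)) (tt N83551 (iv4 F469398)) (tt N76820 (iv5 D213194)) (tt N121869 D225128) (tt N120096 (iv7 F519022)))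
theorem Q109965 : ∀ i, i < 109965 → P i := stepQ 109964 Q109964 (allL N109964 (tt N100948 F469405) (tt N99285 (iv0 F469404)) (tt N106779 F469400) (tt N76822 F469401) (tt N106778 F469402) (tt N99037 F469403) (tt N76821 (iv6 D213195)) (tt N120529 (iv7 F521278)))
theorem Q109966 : ∀ i, i < 109966 → P i := stepQ 109965 Q109965 (allL N109965 (tt N117486 F505290) (tt N116619 (iv0 F501006)) (tt N119767 (iv2 F517314)) (tt N76825 (iv3 D213196)) (tt N90312 F469406) (tt N112618 (iv5 F481863)) (tt N90311 F469407) (tt N106582 F469408))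
theorem Q109967 : ∀ i, i < 109967 → P i := stepQ 109966 Q109966 (allL N109966 (tt N98905 F469410) (tt N100471 F469411) (tt N76827 F469409) (tt N119799 (iv3 F517470)) (tt N113418 (iv4 F485399)) (tt N76826 (iv5 D213197)) (tt N120336 (iv6 F520244)) (tt N119856 (iv7 F517724)))
theorem Q109968 : ∀ i, i < 109968 → P i := stepQ 109967 Q109967 (allL N109967 (tt N76827 (iv1 D213198)) (tt N119856 F517723) (tt N100471 (iv2 F469414)) (tt N121117 (iv3 F524591)) (tt N116529 (iv4 F500625)) (tt N77754 F469413) (tt N121116 (iv6 F524590)) (tt N98905 F469412))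
theorem Q109969 : ∀ i, i < 109969 → P i := stepQ 109968 Q109968 (allL N109968 (tt N83045 F469415) (tt N113417 (iv0 F485395)) (tt N113418 F485401) (tt N117393 (iv3 F504804)) (tt N76827 (iv4 D213199)) (tt N105726 (iv5 F469417)) (tt N77144 (iv6 F469416)) (tt N110392 (iv7 F471368)))
theorem Q109970 : ∀ i, i < 109970 → P i := stepQ 109969 Q109969 (allL N109969 (tt N116189 (iv1 F498925)) (tt N98921 (iv0 F469421)) (tt N120336 (iv2 F520243)) (tt N76831 F469418) (tt N77144 F469419) (tt N105323 F469420) (tt N76827 (iv6 D213200)) (tt N119942 (iv7 F518155)))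
theorem Q109971 : ∀ i, i < 109971 → P i := stepQ 109970 Q109970 (allL N109970 (tt N107560 F469424) (tt N116516 (iv0 F500568)) (tt N116936 (iv2 F502585)) (tt N76829 (iv3 D213201)) (tt N121778 (iv4 F528263)) (tt N99967 F469422) (tt N120725 (iv6 F522372)) (tt N100464 F469423))
theorem Q109972 : ∀ i, i < 109972 → P i := stepQ 109971 Q109971 (allL N109971 (tt N120336 (iv1 F520248)) (tt N119942 (iv0 F518157)) (tt N98921 F469425) (tt N120725 (iv3 F522370)) (tt N112513 (iv4 F481447)) (tt N77899 F469426) (tt N76829 (iv6 D213202)) (tt N116189 (iv7 F498923)))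
theorem Q109973 : ∀ i, i < 109973 → P i := stepQ 109972 Q109972 (allL N109972 (tt N113410 (iv1 F485367)) (tt N101455 (iv0 F469430)) (tt N110728 (iv2 F472925)) (tt N76830 (iv3 D213203)) (tt N81885 F469427) (tt N99968 F469428) (tt N81884 (iv6 F469431)) (tt N100470 F469429))
theorem Q109974 : ∀ i, i < 109974 → P i := stepQ 109973 Q109973 (allL N109973 (tt N121870 D225129) (tt N121871 D225130) (tt N100466 F469432) (tt N81884 F469433) (tt N84742 F469434) (tt N119789 (iv5 F517425)) (tt N76830 (iv6 D213204)) (tt N91120 (iv7 F469435)))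
theorem Q109975 : ∀ i, i < 109975 → P i := stepQ 109974 Q109974 (allL N109974 (tt N109943 F469437) (tt N109942 F469438) (tt N76836 F469436) (tt N119856 F517725) (tt N121872 D225131) (tt N76835 (iv5 D213205)) (tt N121873 D225132) (tt N119799 (iv7 F517471)))
theorem Q109976 : ∀ i, i < 109976 → P i := stepQ 109975 Q109975 (allL N109975 (tt N119799 (iv1 F517474)) (tt N76836 (iv0 D213206)) (tt N109943 (iv2 F469440)) (tt N119804 (iv3 F517489)) (tt N117022 (iv4 F503005)) (tt N100283 F469439) (tt N112554 (iv6 F481632)) (tt N109942 F469441))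
theorem Q109977 : ∀ i, i < 109977 → P i := stepQ 109976 Q109976 (allL N109976 (tt N121874 D225133) (tt N121365 (iv0 F525983)) (tt N121872 (iv2 F528827)) (tt N121278 (iv3 F525529)) (tt N76836 (iv4 D213207)) (tt N121627 (iv5 F527417)) (tt N99125 F469445) (tt N121834 (iv7 F528597)))
theorem Q109978 : ∀ i, i < 109978 → P i := stepQ 109977 Q109977 (allL N109977 (tt N121398 (iv1 F526135)) (tt N119794 (iv0 F517449)) (tt N121873 (iv2 F528834)) (tt N76837 F469442) (tt N99125 (iv4 F469444)) (tt N106471 F469443) (tt N76836 (iv6 D213208)) (tt N121875 D225134))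
theorem Q109979 : ∀ i, i < 109979 → P i := stepQ 109978 Q109978 (allL N109978 (tt N76837 (iv1 D213210)) (tt N119943 (iv0 F518164)) (tt N81907 (iv2 F472396)) (tt N77925 F469448) (tt N107017 (iv4 F469446)) (tt N77924 (iv5 F469447)) (tt N121362 F525970) (tt N120384 (iv7 F520501)))
theorem Q109980 : ∀ i, i < 109980 → P i := stepQ 109979 Q109979 (allL N109979 (tt N81907 (iv1 F471200)) (tt N120384 F520503) (tt N119943 (iv2 F518159)) (tt N121875 (iv3 F528846)) (tt N83324 F469449) (tt N98889 F469450) (tt N83323 F469451) (tt N76837 (iv7 D213211)))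
theorem Q109981 : ∀ i, i < 109981 → P i := stepQ 109980 Q109980 (allL N109980 (tt N119905 (iv1 F517962)) (tt N117458 (iv0 F505144)) (tt N76840 F469452) (tt N110827 (iv3 F473327)) (tt N117440 (iv4 F505038)) (tt N76839 (iv5 D213212)) (tt N121386 (iv6 F526081)) (tt N117489 (iv7 F505305)))
theorem Q109982 : ∀ i, i < 109982 → P i := stepQ 109981 Q109981 (allL N109981 (tt N117489 (iv1 F505307)) (tt N76840 (iv0 D213213)) (tt N119905 (iv2 F517957)) (tt N98880 (iv3 F469454)) (tt N109982 F469457) (tt N98875 F469453) (tt N98878 (iv6 F469455)) (tt N117458 (iv7 F505143)))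
theorem Q109983 : ∀ i, i < 109983 → P i := stepQ 109982 Q109982 (allL N109982 (tt N76840 (iv1 D213214)) (tt N117489 (iv0 F505306)) (tt N117458 (iv2 F505141)) (tt N113393 (iv3 F485327)) (tt N109981 (iv4 F469457)) (tt N91580 F469458) (tt N113392 F485325) (tt N119905 (iv7 F517959)))
theorem Q109984 : ∀ i, i < 109984 → P i := stepQ 109983 Q109983 (allL N109983 (tt N98966 (iv1 F469459)) (tt N121856 (iv0 F528732)) (tt N117440 (iv2 F505037)) (tt N113515 (iv3 F485866)) (tt N76840 (iv4 D213215)) (tt N91466 F469456) (tt N113514 F485862) (tt N117439 (iv7 F505034)))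
theorem Q109985 : ∀ i, i < 109985 → P i := stepQ 109984 Q109984 (allL N109984 (tt N120339 F520267) (tt N110753 (iv0 F473020)) (tt N121386 F526082) (tt N76845 F469460) (tt N113514 (iv4 F485859)) (tt N119872 (iv5 F517805)) (tt N76840 (iv6 D213216)) (tt N119939 (iv7 F518139)))
theorem Q109986 : ∀ i, i < 109986 → P i := stepQ 109985 Q109985 (allL N109985 (tt N119726 (iv1 F517125)) (tt N119821 (iv0 F517543)) (tt N110751 (iv2 F473008)) (tt N76843 (iv3 D213217)) (tt N107331 F469461) (tt N99966 F469462) (tt N107330 (iv6 F469464)) (tt N100453 F469463))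
theorem Q109987 : ∀ i, i < 109987 → P i := stepQ 109986 Q109986 (allL N109986 (tt N120338 (iv1 F520256)) (tt N120337 F520252) (tt N81943 F469465) (tt N107330 F469466) (tt N77146 F469467) (tt N78025 F469468) (tt N76843 (iv6 D213218)) (tt N77145 F469469))
theorem Q109988 : ∀ i, i < 109988 → P i := stepQ 109987 Q109987 (allL N109987 (tt N117385 (iv1 F504773)) (tt N117383 (iv0 F504766)) (tt N100455 F469470) (tt N110749 (iv3 F473002)) (tt N101299 F469471) (tt N121876 D225135) (tt N76844 (iv6 D213219)) (tt N101298 F469472))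
theorem Q109989 : ∀ i, i < 109989 → P i := stepQ 109988 Q109988 (allL N109988 (tt N116668 (iv1 F501230)) (tt N107787 (iv0 F469475)) (tt N90010 F469473) (tt N76847 (iv3 D213220)) (tt N90009 F469474) (tt N121877 D225136) (tt N110806 (iv6 F473245)) (tt N116669 (iv7 F501229)))
theorem Q109990 : ∀ i, i < 109990 → P i := stepQ 109989 Q109989 (allL N109989 (tt N107553 F469478) (tt N76854 F469480) (tt N110768 (iv2 F473098)) (tt N121877 (iv3 F528857)) (tt N106341 F469477) (tt N76847 (iv5 D213221)) (tt N121371 F526006) (tt N106340 F469476))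
theorem Q109991 : ∀ i, i < 109991 → P i := stepQ 109990 Q109990 (allL N109990 (tt N76854 F469526) (tt N107553 F469483) (tt N106340 F469481) (tt N116664 (iv3 F501202)) (tt N106321 F469482) (tt N76848 (iv5 D213222)) (tt N116664 (iv6 F501203)) (tt N110768 (iv7 F473090)))
theorem Q109992 : ∀ i, i < 109992 → P i := stepQ 109991 Q109991 (allL N109991 (tt N110828 F473334) (tt N99275 (iv0 F469486)) (tt N116673 (iv2 F501247)) (tt N99258 F469484) (tt N119725 (iv4 F517116)) (tt N99258 (iv5 F469485)) (tt N76848 (iv6 D213223)) (tt N110809 (iv7 F473252)))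
theorem Q109993 : ∀ i, i < 109993 → P i := stepQ 109992 Q109992 (allL N109992 (tt N121836 (iv1 F528607)) (tt N121835 F528604) (tt N76850 F469487) (tt N117489 (iv3 F505303)) (tt N120187 F519500) (tt N76849 (iv5 D213224)) (tt N107533 F469488) (tt N110827 (iv7 F473328)))
theorem Q109994 : ∀ i, i < 109994 → P i := stepQ 109993 Q109993 (allL N109993 (tt N110827 (iv1 F473329)) (tt N76850 (iv0 D213225)) (tt N121836 F528612) (tt N121878 D225137) (tt N106641 F469489) (tt N77969 (iv5 F469490)) (tt N121879 D225138) (tt N121835 F528606))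
theorem Q109995 : ∀ i, i < 109995 → P i := stepQ 109994 Q109994 (allL N109994 (tt N76850 (iv1 D213226)) (tt N110827 F473330) (tt N121835 F528605) (tt N114636 F491129) (tt N119781 (iv4 F517383)) (tt N77970 (iv5 F469491)) (tt N121880 D225139) (tt N121836 (iv7 F528608)))
theorem Q109996 : ∀ i, i < 109996 → P i := stepQ 109995 Q109995 (allL N109995 (tt N120096 (iv1 F519024)) (tt N83541 (iv0 F469496)) (tt N107533 F469492) (tt N76851 F469493) (tt N117215 (iv4 F503941)) (tt N107524 F469494) (tt N76850 (iv6 D213227)) (tt N107531 (iv7 F469495)))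
theorem Q109997 : ∀ i, i < 109997 → P i := stepQ 109996 Q109996 (allL N109996 (tt N119920 (iv1 F518048)) (tt N76851 (iv0 D213228)) (tt N101356 (iv2 F469499)) (tt N119712 F517046) (tt N105667 F469500) (tt N110776 F473147) (tt N101465 F469501) (tt N119918 (iv7 F518032)))
theorem Q109998 : ∀ i, i < 109998 → P i := stepQ 109997 Q109997 (allL N109997 (tt N76851 (iv1 D213229)) (tt N119920 F518047) (tt N119918 F518036) (tt N101346 (iv3 F469497)) (tt N110354 (iv4 F471191)) (tt N110775 (iv5 F473143)) (tt N121326 (iv6 F525776)) (tt N101356 F469498))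
theorem Q109999 : ∀ i, i < 109999 → P i := stepQ 109998 Q109998 (allL N109998 (tt N119918 (iv1 F518031)) (tt N101356 (iv0 F469506)) (tt N119920 (iv2 F518043)) (tt N107531 F469502) (tt N91128 F469503) (tt N107530 F469504) (tt N83327 F469505) (tt N76851 (iv7 D213230)))
theorem Q110000 : ∀ i, i < 110000 → P i := stepQ 109999 Q109999 (allL N109999 (tt N106651 (iv1 F469509)) (tt N91268 F469508) (tt N76852 (iv2 D213231)) (tt N107553 F469507) (tt N117438 (iv4 F505030)) (tt N110619 (iv5 F472432)) (tt N107552 (iv6 F469510)) (tt N117494 (iv7 F505322)))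
theorem Q110001 : ∀ i, i < 110001 → P i := stepQ 110000 Q110000 (allL N110000 (tt N98957 F469512) (tt N98964 F469513) (tt N117438 (iv2 F505028)) (tt N116625 (iv3 F501035)) (tt N76852 (iv4 D213232)) (tt N91462 F469511) (tt N121881 D225140) (tt N117435 (iv7 F505014)))
theorem Q110002 : ∀ i, i < 110002 → P i := stepQ 110001 Q110001 (allL N110001 (tt N119710 (iv1 F517038)) (tt N119711 (iv0 F517043)) (tt N107552 F469514) (tt N76853 F469515) (tt N121881 (iv4 F528879)) (tt N110618 (iv5 F472426)) (tt N76852 (iv6 D213233)) (tt N119924 (iv7 F518068)))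
theorem Q110003 : ∀ i, i < 110003 → P i := stepQ 110002 Q110002 (allL N110002 (tt N76853 (iv1 D213234)) (tt N107550 F469516) (tt N81928 (iv2 F469521)) (tt N121588 F527191) (tt N96272 F469518) (tt N107544 (iv5 F469517)) (tt N121882 D225141) (tt N110764 F473065))
theorem Q110004 : ∀ i, i < 110004 → P i := stepQ 110003 Q110003 (allL N110003 (tt N81928 (iv1 F473067)) (tt N110764 F473063) (tt N107550 F469523) (tt N119924 (iv3 F518065)) (tt N116532 (iv4 F500639)) (tt N110758 (iv5 F473042)) (tt N121840 (iv6 F528630)) (tt N76853 (iv7 D213235)))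
theorem Q110005 : ∀ i, i < 110005 → P i := stepQ 110004 Q110004 (allL N110004 (tt N110768 (iv1 F473089)) (tt N106340 F469525) (tt N76854 (iv2 D213237)) (tt N117494 F505325) (tt N101438 F469527) (tt N110625 (iv5 F472476)) (tt N101437 (iv6 F469528)) (tt N107553 F469524))
theorem Q110006 : ∀ i, i < 110006 → P i := stepQ 110005 Q110005 (allL N110005 (tt N121387 (iv1 F526088)) (tt N100242 F469532) (tt N101438 F469529) (tt N106575 F469530) (tt N76854 (iv4 D213238)) (tt N100250 (iv5 F469533)) (tt N101163 (iv6 F469534)) (tt N106578 F469531))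
theorem Q110007 : ∀ i, i < 110007 → P i := stepQ 110006 Q110006 (allL N110006 (tt N121798 (iv1 F528388)) (tt N121801 (iv0 F528403)) (tt N101437 F469535) (tt N76855 F469536) (tt N101163 F469537) (tt N121883 D225142) (tt N76854 (iv6 D213239)) (tt N107551 F469538))
theorem Q110008 : ∀ i, i < 110008 → P i := stepQ 110007 Q110007 (allL N110007 (tt N121840 (iv1 F528632)) (tt N76855 (iv0 D213240)) (tt N83409 (iv2 F473087)) (tt N119927 (iv3 F518074)) (tt N83417 F473088) (tt N121884 D225143) (tt N119916 F518024) (tt N121839 (iv7 F528624)))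
theorem Q110009 : ∀ i, i < 110009 → P i := stepQ 110008 Q110008 (allL N110008 (tt N76855 (iv1 D213241)) (tt N121840 F528631) (tt N121839 F528626) (tt N81890 F473084) (tt N83048 F473085) (tt N121879 (iv5 F528869)) (tt N110356 (iv6 F473083)) (tt N83409 (iv7 F473086)))
theorem Q110010 : ∀ i, i < 110010 → P i := stepQ 110009 Q110009 (allL N110009 (tt N121543 F526953) (tt N113355 (iv0 F485157)) (tt N121539 (iv2 F526925)) (tt N121883 (iv3 F528889)) (tt N118775 (iv4 F512001)) (tt N76855 (iv5 D213242)) (tt N120211 (iv6 F519618)) (tt N118774 (iv7 F511998)))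
theorem Q110011 : ∀ i, i < 110011 → P i := stepQ 110010 Q110010 (allL N110010 (tt N121839 (iv1 F528623)) (tt N83409 (iv0 F481631)) (tt N121840 (iv2 F528628)) (tt N107551 F469540) (tt N121845 (iv4 F528660)) (tt N118774 F511997) (tt N107550 F469541) (tt N76855 (iv7 D213243)))
theorem Q110012 : ∀ i, i < 110012 → P i := stepQ 110011 Q110011 (allL N110011 (tt N76856 (iv1 D213244)) (tt N107328 F469547) (tt N101431 (iv2 F469545)) (tt N115045 (iv3 F493198)) (tt N121586 (iv4 F527173)) (tt N95022 F469543) (tt N83399 (iv6 F469546)) (tt N95015 F469542))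
theorem Q110013 : ∀ i, i < 110013 → P i := stepQ 110012 Q110012 (allL N110012 (tt N95015 (iv1 F469553)) (tt N101431 F469552) (tt N76856 (iv2 D213245)) (tt N83454 F469548) (tt N109836 F469549) (tt N107286 F469550) (tt N101445 (iv6 F469555)) (tt N107328 F469551))
theorem Q110014 : ∀ i, i < 110014 → P i := stepQ 110013 Q110013 (allL N110013 (tt N100907 (iv1 F469560)) (tt N90874 F469561) (tt N101445 F469556) (tt N76857 F469557) (tt N98980 F469558) (tt N110637 (iv5 F472535)) (tt N76856 (iv6 D213246)) (tt N101444 (iv7 F469559)))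
theorem Q110015 : ∀ i, i < 110015 → P i := stepQ 110014 Q110014 (allL N110014 (tt N106603 (iv1 F469569)) (tt N76857 (iv0 D213247)) (tt N106020 (iv2 F469565)) (tt N106609 F469566) (tt N120235 (iv4 F519742)) (tt N106019 F469567) (tt N100903 F469564) (tt N106602 F469568))
theorem Q110016 : ∀ i, i < 110016 → P i := stepQ 110015 Q110015 (allL N110015 (tt N106602 (iv1 F469573)) (tt N106020 F469574) (tt N106603 F469570) (tt N101444 F469571) (tt N76860 F469572) (tt N119826 (iv5 F517570)) (tt N120232 F519730) (tt N76857 (iv7 D213248)))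
theorem Q110017 : ∀ i, i < 110017 → P i := stepQ 110016 Q110016 (allL N110016 (tt N116534 (iv1 F500651)) (tt N100271 (iv0 F469576)) (tt N116193 (iv2 F498941)) (tt N121282 (iv3 F525542)) (tt N76858 (iv4 D213251)) (tt N100261 (iv5 F472838)) (tt N112040 (iv6 F479208)) (tt N116520 (iv7 F500591)))
theorem Q110018 : ∀ i, i < 110018 → P i := stepQ 110017 Q110017 (allL N110017 (tt N110356 (iv1 F472599)) (tt N110820 F473296) (tt N110821 (iv2 F473297)) (tt N119740 (iv3 F517184)) (tt N112040 (iv4 F479210)) (tt N110651 F472597) (tt N76858 (iv6 D213253)) (tt N110650 (iv7 F472598)))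
theorem Q110019 : ∀ i, i < 110019 → P i := stepQ 110018 Q110018 (allL N110018 (tt N121371 (iv1 F526003)) (tt N121370 F526001) (tt N110746 (iv2 F472988)) (tt N76859 (iv3 D213255)) (tt N109392 F469578) (tt N117225 (iv5 F503996)) (tt N107540 F469579) (tt N121369 (iv7 F525999)))
theorem Q110020 : ∀ i, i < 110020 → P i := stepQ 110019 Q110019 (allL N110019 (tt N77985 (iv1 F469583)) (tt N119742 (iv0 F517196)) (tt N110556 (iv2 F472124)) (tt N91268 F469580) (tt N120232 (iv4 F519729)) (tt N91267 F469581) (tt N76860 (iv6 D213256)) (tt N76861 F469582))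
theorem Q110021 : ∀ i, i < 110021 → P i := stepQ 110020 Q110020 (allL N110020 (tt N76861 (iv1 D213257)) (tt N110556 (iv0 F472126)) (tt N77985 (iv2 F469585)) (tt N110793 (iv3 F473204)) (tt N114263 (iv4 F489293)) (tt N77977 F469584) (tt N110789 (iv6 F473184)) (tt N119742 (iv7 F517195)))
theorem Q110022 : ∀ i, i < 110022 → P i := stepQ 110021 Q110021 (allL N110021 (tt N116673 F501251) (tt N110809 (iv0 F473253)) (tt N99275 F469586) (tt N76863 (iv3 D213258)) (tt N110586 (iv4 F472251)) (tt N99155 F469587) (tt N121533 (iv6 F526898)) (tt N110828 F473333))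
theorem Q110023 : ∀ i, i < 110023 → P i := stepQ 110022 Q110022 (allL N110022 (tt N99066 F469592) (tt N82106 F469593) (tt N112681 (iv2 F482147)) (tt N78220 F469588) (tt N79588 F469591) (tt N76865 (iv5 D213259)) (tt N98777 F469589) (tt N99609 F469590))
theorem Q110024 : ∀ i, i < 110024 → P i := stepQ 110023 Q110023 (allL N110023 (tt N82106 F469597) (tt N99066 F469598) (tt N99609 F469594) (tt N106677 F469595) (tt N82214 F469596) (tt N76866 (iv5 D213260)) (tt N99081 F469599) (tt N112681 (iv7 F482143)))
theorem Q110025 : ∀ i, i < 110025 → P i := stepQ 110024 Q110024 (allL N110024 (tt N117596 (iv1 F505906)) (tt N91568 (iv0 F469604)) (tt N95157 F469600) (tt N76867 (iv3 D213261)) (tt N90327 F469601) (tt N85254 F469605) (tt N81723 F469602) (tt N76972 F469603))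
theorem Q110026 : ∀ i, i < 110026 → P i := stepQ 110025 Q110025 (allL N110025 (tt N77095 F469612) (tt N77094 F469613) (tt N77098 F469607) (tt N85254 F469608) (tt N77078 F469609) (tt N76867 (iv5 D213262)) (tt N94729 F469610) (tt N76973 F469611))
theorem Q110027 : ∀ i, i < 110027 → P i := stepQ 110026 Q110026 (allL N110026 (tt N82685 F469619) (tt N82684 F469620) (tt N76872 F469615) (tt N119605 (iv3 F516473)) (tt N76868 (iv4 D213263)) (tt N85608 F469616) (tt N82677 F469617) (tt N77082 F469618))
theorem Q110028 : ∀ i, i < 110028 → P i := stepQ 110027 Q110027 (allL N110027 (tt N77082 F469625) (tt N76872 F469626) (tt N82685 F469621) (tt N90124 F469622) (tt N77061 F469623) (tt N89317 F469624) (tt N76870 (iv6 D213264)) (tt N82684 (iv7 F469627)))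
theorem Q110029 : ∀ i, i < 110029 → P i := stepQ 110028 Q110028 (allL N110028 (tt N118005 (iv1 F508039)) (tt N118004 F508036) (tt N113330 (iv2 F485061)) (tt N116707 (iv3 F501417)) (tt N113026 (iv4 F483603)) (tt N86739 F469628) (tt N76871 (iv6 D213265)) (tt N114750 (iv7 F491660)))
theorem Q110030 : ∀ i, i < 110030 → P i := stepQ 110029 Q110029 (allL N110029 (tt N76872 (iv1 D213266)) (tt N77082 F469629) (tt N82684 (iv2 F469633)) (tt N88835 (iv3 F469634)) (tt N77062 F469631) (tt N101256 (iv5 F469632)) (tt N114750 (iv6 F491659)) (tt N82685 F469630))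
theorem Q110031 : ∀ i, i < 110031 → P i := stepQ 110030 Q110030 (allL N110030 (tt N80507 F469638) (tt N101391 F469639) (tt N101389 (iv2 F469640)) (tt N76872 (iv3 D213267)) (tt N80512 F469635) (tt N99381 F469636) (tt N114003 (iv6 F488150)) (tt N82683 F469637))
theorem Q110032 : ∀ i, i < 110032 → P i := stepQ 110031 Q110031 (allL N110031 (tt N110263 (iv1 F470710)) (tt N110265 (iv0 F470724)) (tt N116143 F498716) (tt N76876 (iv3 D213268)) (tt N109599 F469641) (tt N92161 F469642) (tt N76923 F469643) (tt N83101 F469644))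
theorem Q110033 : ∀ i, i < 110033 → P i := stepQ 110032 Q110032 (allL N110032 (tt N105035 F469650) (tt N115512 (iv0 F495574)) (tt N90674 F469645) (tt N76882 (iv3 D213269)) (tt N99512 F469646) (tt N96872 F469647) (tt N107241 F469648) (tt N96871 F469649))
theorem Q110034 : ∀ i, i < 110034 → P i := stepQ 110033 Q110033 (allL N110033 (tt N94649 F469651) (tt N120009 F518542) (tt N118720 F511742) (tt N110943 (iv3 F473894)) (tt N114808 F491981) (tt N115887 (iv5 F497422)) (tt N76885 (iv6 D213270)) (tt N117591 (iv7 F505878)))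
theorem Q110035 : ∀ i, i < 110035 → P i := stepQ 110034 Q110034 (allL N110034 (tt N107513 F469654) (tt N115112 (iv0 F493541)) (tt N116407 (iv2 F499936)) (tt N76887 (iv3 D213271)) (tt N98677 F469655) (tt N100130 F469652) (tt N121039 F524163) (tt N103173 F469653))
theorem Q110036 : ∀ i, i < 110036 → P i := stepQ 110035 Q110035 (allL N110035 (tt N117716 (iv1 F506594)) (tt N101247 (iv0 F469658)) (tt N103166 F469656) (tt N121039 F524162) (tt N108884 F469657) (tt N115889 (iv5 F497430)) (tt N76887 (iv6 D213272)) (tt N115935 (iv7 F497669)))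
theorem Q110037 : ∀ i, i < 110037 → P i := stepQ 110036 Q110036 (allL N110036 (tt N112531 F481537) (tt N110635 (iv0 F472528)) (tt N110766 (iv2 F473075)) (tt N85337 F469659) (tt N76890 (iv4 D213273)) (tt N121885 D225144) (tt N94982 F469660) (tt N89493 F469661))
theorem Q110038 : ∀ i, i < 110038 → P i := stepQ 110037 Q110037 (allL N110037 (tt N110635 F472529) (tt N112531 F481538) (tt N89493 F469662) (tt N110624 F472472) (tt N76891 (iv4 D213274)) (tt N121886 D225145) (tt N97012 (iv6 F469663)) (tt N110766 (iv7 F473076)))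
theorem Q110039 : ∀ i, i < 110039 → P i := stepQ 110038 Q110038 (allL N110038 (tt N99112 (iv1 F469668)) (tt N93633 (iv0 F469667)) (tt N89500 F469664) (tt N117789 (iv3 F506979)) (tt N97012 F469665) (tt N117886 (iv5 F507434)) (tt N76891 (iv6 D213275)) (tt N94980 F469666))
theorem Q110040 : ∀ i, i < 110040 → P i := stepQ 110039 Q110039 (allL N110039 (tt N99338 F469671) (tt N86116 (iv0 F469673)) (tt N76893 F469669) (tt N77529 F469670) (tt N119035 (iv4 F513403)) (tt N76892 (iv5 D213276)) (tt N105028 F469672) (tt N114943 (iv7 F492681)))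
theorem Q110041 : ∀ i, i < 110041 → P i := stepQ 110040 Q110040 (allL N110040 (tt N76893 (iv1 D213277)) (tt N114943 F492680) (tt N86116 F469679) (tt N115038 (iv3 F493158)) (tt N105231 F469677) (tt N90009 F469676) (tt N105230 (iv6 F469678)) (tt N99338 F469675))
theorem Q110042 : ∀ i, i < 110042 → P i := stepQ 110041 Q110041 (allL N110041 (tt N77540 (iv1 F469685)) (tt N76894 (iv0 D213278)) (tt N77538 (iv2 F469683)) (tt N89320 F469681) (tt N120163 (iv4 F519365)) (tt N77101 F469680) (tt N77104 F469682) (tt N77539 F469684))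
theorem Q110043 : ∀ i, i < 110043 → P i := stepQ 110042 Q110042 (allL N110042 (tt N77539 (iv1 F469689)) (tt N77538 F469690) (tt N77540 F469686) (tt N105029 F469687) (tt N110216 (iv4 F470472)) (tt N112022 (iv5 F479116)) (tt N94864 F469688) (tt N76894 (iv7 D213279)))
theorem Q110044 : ∀ i, i < 110044 → P i := stepQ 110043 Q110043 (allL N110043 (tt N101233 (iv1 F469697)) (tt N103124 (iv0 F469696)) (tt N96303 F469691) (tt N105683 F469692) (tt N96302 F469693) (tt N77324 F469694) (tt N76899 (iv6 D213280)) (tt N103123 F469695))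
theorem Q110045 : ∀ i, i < 110045 → P i := stepQ 110044 Q110044 (allL N110044 (tt N81236 (iv1 F469702)) (tt N76909 (iv0 D213281)) (tt N91332 (iv2 F469701)) (tt N77568 (iv3 F469704)) (tt N84638 F469699) (tt N102966 F469698) (tt N90772 F469700) (tt N101819 F469703))
theorem Q110046 : ∀ i, i < 110046 → P i := stepQ 110045 Q110045 (allL N110045 (tt N78726 F469710) (tt N109769 (iv0 F469711)) (tt N80441 F469705) (tt N77695 F469706) (tt N95824 F469707) (tt N77693 F469708) (tt N76912 (iv6 D213282)) (tt N109791 F469709))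
theorem Q110047 : ∀ i, i < 110047 → P i := stepQ 110046 Q110046 (allL N110046 (tt N76916 (iv1 D213283)) (tt N90267 F469712) (tt N90243 F469717) (tt N106610 (iv3 F469715)) (tt N111424 (iv4 F476295)) (tt N90168 F469714) (tt N106019 (iv6 F469716)) (tt N90167 F469713))
theorem Q110048 : ∀ i, i < 110048 → P i := stepQ 110047 Q110047 (allL N110047 (tt N111377 (iv1 F476084)) (tt N111376 (iv0 F476078)) (tt N101651 F469718) (tt N118273 (iv3 F509461)) (tt N76916 (iv4 D213284)) (tt N94970 F469719) (tt N120005 (iv6 F518511)) (tt N90268 F469720))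
theorem Q110049 : ∀ i, i < 110049 → P i := stepQ 110048 Q110048 (allL N110048 (tt N78343 (iv1 F469726)) (tt N76919 (iv0 D213285)) (tt N78340 (iv2 F469723)) (tt N112737 (iv3 F482441)) (tt N93731 F469724) (tt N90309 F469721) (tt N106750 F469722) (tt N78341 F469725))
theorem Q110050 : ∀ i, i < 110050 → P i := stepQ 110049 Q110049 (allL N110049 (tt N78341 (iv1 F469731)) (tt N78340 F469732) (tt N78343 F469727) (tt N106176 F469728) (tt N110949 (iv4 F473923)) (tt N76920 F469729) (tt N86746 F469730) (tt N76919 (iv7 D213286)))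
theorem Q110051 : ∀ i, i < 110051 → P i := stepQ 110050 Q110050 (allL N110050 (tt N95166 (iv1 F469737)) (tt N77468 (iv0 F469736)) (tt N107682 F469733) (tt N76921 (iv3 D213287)) (tt N118273 (iv4 F509460)) (tt N107681 F469734) (tt N119062 F513579) (tt N90270 F469735))
theorem Q110052 : ∀ i, i < 110052 → P i := stepQ 110051 Q110051 (allL N110051 (tt N88540 F469741) (tt N77072 F469742) (tt N88542 F469738) (tt N116555 (iv3 F500742)) (tt N117627 (iv4 F506073)) (tt N76924 (iv5 D213288)) (tt N99787 F469739) (tt N83169 F469740))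
theorem Q110053 : ∀ i, i < 110053 → P i := stepQ 110052 Q110052 (allL N110052 (tt N99586 F469747) (tt N96920 F469748) (tt N99858 F469743) (tt N76930 F469744) (tt N118481 (iv4 F510603)) (tt N76925 (iv5 D213289)) (tt N76927 F469745) (tt N99879 F469746))
theorem Q110054 : ∀ i, i < 110054 → P i := stepQ 110053 Q110053 (allL N110053 (tt N116802 (iv1 F501916)) (tt N120467 (iv0 F520934)) (tt N108774 F469749) (tt N108697 F469750) (tt N76927 (iv4 D213290)) (tt N110509 (iv5 F471908)) (tt N118481 (iv6 F510604)) (tt N116198 (iv7 F498966)))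
theorem Q110055 : ∀ i, i < 110055 → P i := stepQ 110054 Q110054 (allL N110054 (tt N84477 F469755) (tt N84468 (iv0 F469756)) (tt N84474 F469751) (tt N99997 F469752) (tt N108441 F469753) (tt N110061 (iv5 F469791)) (tt N76928 (iv6 D213291)) (tt N84475 F469754))
theorem Q110056 : ∀ i, i < 110056 → P i := stepQ 110055 Q110055 (allL N110055 (tt N110273 (iv1 F470774)) (tt N81046 (iv0 F469760)) (tt N99891 F469757) (tt N98183 F469758) (tt N109281 F469759) (tt N110146 (iv5 F470168)) (tt N76929 (iv6 D213292)) (tt N110272 (iv7 F470763)))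
theorem Q110057 : ∀ i, i < 110057 → P i := stepQ 110056 Q110056 (allL N110056 (tt N106476 (iv1 F469767)) (tt N102670 (iv0 F469766)) (tt N95505 F469761) (tt N106473 F469762) (tt N107781 F469763) (tt N82902 F469764) (tt N76931 (iv6 D213293)) (tt N106477 F469765))
theorem Q110058 : ∀ i, i < 110058 → P i := stepQ 110057 Q110057 (allL N110057 (tt N94151 F469775) (tt N76946 F469776) (tt N106364 F469771) (tt N76933 (iv3 D213294)) (tt N106362 F469772) (tt N81193 F469773) (tt N119608 (iv6 F516488)) (tt N82870 F469774))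
theorem Q110059 : ∀ i, i < 110059 → P i := stepQ 110058 Q110058 (allL N110058 (tt N112283 (iv1 F480348)) (tt N113061 F483795) (tt N76952 F469777) (tt N77043 F469778) (tt N89610 F469781) (tt N76937 (iv5 D213295)) (tt N88565 F469779) (tt N88823 F469780))
theorem Q110060 : ∀ i, i < 110060 → P i := stepQ 110059 Q110059 (allL N110059 (tt N106929 F469785) (tt N106390 F469786) (tt N78355 F469782) (tt N116378 (iv3 F499788)) (tt N106221 F469783) (tt N76941 (iv5 D213296)) (tt N106220 (iv6 F469787)) (tt N106822 F469784))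
theorem Q110061 : ∀ i, i < 110061 → P i := stepQ 110060 Q110060 (allL N110060 (tt N76952 (iv1 D213297)) (tt N88823 F469788) (tt N113061 F483794) (tt N116552 (iv3 F500728)) (tt N116135 (iv4 F498665)) (tt N103907 (iv5 F469789)) (tt N121521 (iv6 F526835)) (tt N112283 (iv7 F480346)))
theorem Q110062 : ∀ i, i < 110062 → P i := stepQ 110061 Q110061 (allL N110061 (tt N76958 (iv1 D213298)) (tt N113370 F485222) (tt N113371 (iv2 F485223)) (tt N116695 (iv3 F501345)) (tt N77368 F469792) (tt N110054 F469791) (tt N110395 (iv6 F471381)) (tt N86930 F469790))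
theorem Q110063 : ∀ i, i < 110063 → P i := stepQ 110062 Q110062 (allL N110062 (tt N113016 F483571) (tt N86386 (iv0 F469795)) (tt N77052 F469793) (tt N113476 (iv3 F485664)) (tt N110149 (iv4 F470183)) (tt N76960 (iv5 D213299)) (tt N110148 (iv6 F470180)) (tt N77055 F469794))
theorem Q110064 : ∀ i, i < 110064 → P i := stepQ 110063 Q110063 (allL N110063 (tt N101820 (iv1 F469801)) (tt N112703 F482254) (tt N77053 F469796) (tt N109138 F469797) (tt N78715 F469798) (tt N77264 F469800) (tt N76960 (iv6 D213300)) (tt N109191 F469799))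
theorem Q110065 : ∀ i, i < 110065 → P i := stepQ 110064 Q110064 (allL N110064 (tt N86386 (iv1 F469805)) (tt N113016 (iv0 F483570)) (tt N77055 F469802) (tt N120075 (iv3 F518918)) (tt N113498 (iv4 F485786)) (tt N76961 (iv5 D213301)) (tt N98225 F469803) (tt N77052 F469804))
theorem Q110066 : ∀ i, i < 110066 → P i := stepQ 110065 Q110065 (allL N110065 (tt N77059 (iv1 F469809)) (tt N76962 (iv0 D213302)) (tt N77056 (iv2 F469810)) (tt N112997 (iv3 F483485)) (tt N81074 F469807) (tt N110273 (iv5 F470771)) (tt N82655 F469808) (tt N77057 (iv7 F469811)))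
theorem Q110067 : ∀ i, i < 110067 → P i := stepQ 110066 Q110066 (allL N110066 (tt N76962 (iv1 D213303)) (tt N77059 F469812) (tt N77057 (iv2 F469815)) (tt N99961 (iv3 F469816)) (tt N110173 (iv4 F470279)) (tt N81046 F469814) (tt N113974 F488034) (tt N77056 F469813))
theorem Q110068 : ∀ i, i < 110068 → P i := stepQ 110067 Q110067 (allL N110067 (tt N82653 (iv1 F469821)) (tt N107388 F469820) (tt N77058 F469817) (tt N113895 (iv3 F487675)) (tt N76962 (iv4 D213304)) (tt N81066 F469819) (tt N76969 F469818) (tt N112995 (iv7 F483476)))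
theorem Q110069 : ∀ i, i < 110069 → P i := stepQ 110068 Q110068 (allL N110068 (tt N106854 F469826) (tt N113749 (iv0 F486950)) (tt N88539 F469822) (tt N76964 F469823) (tt N105272 F469824) (tt N76963 (iv5 D213305)) (tt N121887 D225146) (tt N77066 F469825))
theorem Q110070 : ∀ i, i < 110070 → P i := stepQ 110069 Q110069 (allL N110069 (tt N76964 (iv1 D213306)) (tt N76966 F469827) (tt N77062 (iv2 F469831)) (tt N116139 F498690) (tt N82684 F469830) (tt N80524 F469829) (tt N118006 (iv6 F508048)) (tt N77061 F469828))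
theorem Q110071 : ∀ i, i < 110071 → P i := stepQ 110070 Q110070 (allL N110070 (tt N82738 F469835) (tt N82737 F469836) (tt N77063 F469832) (tt N105990 F469837) (tt N76964 (iv4 D213307)) (tt N91674 F469834) (tt N82728 (iv6 F469838)) (tt N77068 F469833))
theorem Q110072 : ∀ i, i < 110072 → P i := stepQ 110071 Q110071 (allL N110071 (tt N113007 (iv1 F483539)) (tt N83504 (iv0 F469843)) (tt N77064 F469839) (tt N121887 (iv3 F528911)) (tt N82728 F469840) (tt N86023 F469841) (tt N76964 (iv6 D213308)) (tt N82724 F469842))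
theorem Q110073 : ∀ i, i < 110073 → P i := stepQ 110072 Q110072 (allL N110072 (tt N83169 F469847) (tt N88542 (iv0 F469849)) (tt N88540 F469844) (tt N76967 (iv3 D213309)) (tt N106952 (iv4 F469848)) (tt N78369 F469845) (tt N112754 (iv6 F482499)) (tt N77072 F469846))
theorem Q110074 : ∀ i, i < 110074 → P i := stepQ 110073 Q110073 (allL N110073 (tt N120721 (iv1 F522347)) (tt N113506 (iv0 F485822)) (tt N77071 F469850) (tt N112754 (iv3 F482498)) (tt N107083 F469851) (tt N106934 F469852) (tt N76967 (iv6 D213310)) (tt N120125 (iv7 F519186)))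
theorem Q110075 : ∀ i, i < 110075 → P i := stepQ 110074 Q110074 (allL N110074 (tt N76969 (iv1 D213311)) (tt N77079 F469853) (tt N77076 (iv2 F469856)) (tt N107380 F469858) (tt N77276 F469855) (tt N116513 (iv5 F500550)) (tt N77333 (iv6 F469857)) (tt N77075 F469854))
theorem Q110076 : ∀ i, i < 110076 → P i := stepQ 110075 Q110075 (allL N110075 (tt N113947 F487910) (tt N113944 (iv0 F487904)) (tt N114655 (iv2 F491223)) (tt N76969 (iv3 D213312)) (tt N113896 (iv4 F487681)) (tt N91694 F469860) (tt N113895 F487679) (tt N113070 (iv7 F483837)))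
theorem Q110077 : ∀ i, i < 110077 → P i := stepQ 110076 Q110076 (allL N110076 (tt N91575 F469864) (tt N91574 F469866) (tt N81476 (iv2 F469865)) (tt N76970 (iv3 D213313)) (tt N77687 F469861) (tt N120398 (iv5 F520575)) (tt N81109 F469862) (tt N77090 F469863))
theorem Q110078 : ∀ i, i < 110078 → P i := stepQ 110077 Q110077 (allL N110077 (tt N95157 (iv1 F469868)) (tt N76972 (iv0 D213314)) (tt N91568 (iv2 F469869)) (tt N110944 (iv3 F473897)) (tt N107768 F469867) (tt N121598 (iv5 F527247)) (tt N107766 (iv6 F469870)) (tt N117596 (iv7 F505907)))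
theorem Q110079 : ∀ i, i < 110079 → P i := stepQ 110078 Q110078 (allL N110078 (tt N76972 (iv1 D213315)) (tt N95157 F469871) (tt N117596 (iv2 F505911)) (tt N91477 (iv3 F469873)) (tt N107149 (iv4 F469874)) (tt N111040 (iv5 F474386)) (tt N107148 (iv6 F469875)) (tt N91568 F469872))
theorem Q110080 : ∀ i, i < 110080 → P i := stepQ 110079 Q110079 (allL N110079 (tt N76973 (iv1 D213316)) (tt N77098 F469876) (tt N77095 (iv2 F469881)) (tt N118332 (iv3 F509751)) (tt N91674 F469879) (tt N101790 F469878) (tt N105989 (iv6 F469880)) (tt N77094 F469877))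
theorem Q110081 : ∀ i, i < 110081 → P i := stepQ 110080 Q110080 (allL N110080 (tt N83148 F469886) (tt N112201 (iv0 F480034)) (tt N91611 F469882) (tt N76975 F469883) (tt N89727 F469887) (tt N76974 (iv5 D213317)) (tt N89726 F469884) (tt N77115 F469885))
theorem Q110082 : ∀ i, i < 110082 → P i := stepQ 110081 Q110081 (allL N110081 (tt N102814 F469890) (tt N102812 (iv0 F469891)) (tt N102811 (iv2 F469893)) (tt N76982 (iv3 D213318)) (tt N77481 F469888) (tt N92507 F469892) (tt N76984 F469889) (tt N92506 F469894))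
theorem Q110083 : ∀ i, i < 110083 → P i := stepQ 110082 Q110082 (allL N110082 (tt N100070 F469897) (tt N100078 F469898) (tt N77008 F469895) (tt N92507 F469896) (tt N106334 F469902) (tt N76982 (iv5 D213319)) (tt N106332 (iv6 F469899)) (tt N92503 (iv7 F469900)))
theorem Q110084 : ∀ i, i < 110084 → P i := stepQ 110083 Q110083 (allL N110083 (tt N77006 (iv1 F469909)) (tt N77005 F469910) (tt N77009 F469904) (tt N92506 F469905) (tt N76983 F469906) (tt N92503 F469907) (tt N108695 F469908) (tt N76982 (iv7 D213320)))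
theorem Q110085 : ∀ i, i < 110085 → P i := stepQ 110084 Q110084 (allL N110084 (tt N76984 (iv1 D213321)) (tt N108758 (iv0 F469916)) (tt N92291 F469914) (tt N92360 F469915) (tt N90001 (iv4 F469912)) (tt N120159 (iv5 F519345)) (tt N92289 (iv6 F469913)) (tt N108759 F469911))
theorem Q110086 : ∀ i, i < 110086 → P i := stepQ 110085 Q110085 (allL N110085 (tt N108759 (iv1 F469922)) (tt N92291 F469921) (tt N76984 (iv2 D213322)) (tt N77014 F469917) (tt N77479 F469918) (tt N109586 F469923) (tt N102811 F469919) (tt N108758 F469920))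
theorem Q110087 : ∀ i, i < 110087 → P i := stepQ 110086 Q110086 (allL N110086 (tt N94315 F469927) (tt N109587 F469928) (tt N109586 F469924) (tt N76985 F469925) (tt N121888 D225147) (tt N76984 (iv5 D213323)) (tt N117469 (iv6 F505193)) (tt N108769 F469926))
theorem Q110088 : ∀ i, i < 110088 → P i := stepQ 110087 Q110087 (allL N110087 (tt N121749 (iv1 F528094)) (tt N100107 (iv0 F469932)) (tt N77019 F469929) (tt N117469 F505192) (tt N108767 F469930) (tt N106332 F469931) (tt N76985 (iv6 D213324)) (tt N119250 (iv7 F514627)))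
theorem Q110089 : ∀ i, i < 110089 → P i := stepQ 110088 Q110088 (allL N110088 (tt N114393 (iv1 F489941)) (tt N112942 (iv0 F483328)) (tt N76991 F469933) (tt N83230 F469934) (tt N88585 F469935) (tt N76987 (iv5 D213325)) (tt N88805 F469936) (tt N88830 F469937))
theorem Q110090 : ∀ i, i < 110090 → P i := stepQ 110089 Q110089 (allL N110089 (tt N111290 (iv1 F475659)) (tt N111296 (iv0 F475684)) (tt N88805 F469938) (tt N76992 F469939) (tt N114683 (iv4 F491351)) (tt N76988 (iv5 D213326)) (tt N76991 F469940) (tt N114734 (iv7 F491580)))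
theorem Q110091 : ∀ i, i < 110091 → P i := stepQ 110090 Q110090 (allL N110090 (tt N116728 F501530) (tt N116717 (iv0 F501473)) (tt N116716 (iv2 F501463)) (tt N109067 F469941) (tt N104145 F469942) (tt N112322 (iv5 F480546)) (tt N76989 (iv6 D213327)) (tt N109771 (iv7 F469943)))
theorem Q110092 : ∀ i, i < 110092 → P i := stepQ 110091 Q110091 (allL N110091 (tt N112888 (iv1 F483145)) (tt N112887 F483153) (tt N112889 (iv2 F483149)) (tt N111947 (iv3 F478817)) (tt N83690 F469945) (tt N76990 (iv5 D213328)) (tt N121889 D225148) (tt N83689 F469944))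
theorem Q110093 : ∀ i, i < 110093 → P i := stepQ 110092 Q110092 (allL N110092 (tt N88830 (iv1 F469947)) (tt N76991 (iv0 D213329)) (tt N114393 (iv2 F489937)) (tt N110321 (iv3 F471034)) (tt N83498 F469946) (tt N110320 (iv5 F471031)) (tt N110534 (iv6 F472032)) (tt N112942 (iv7 F483326)))
theorem Q110094 : ∀ i, i < 110094 → P i := stepQ 110093 Q110093 (allL N110093 (tt N76991 (iv1 D213330)) (tt N88830 F469948) (tt N112942 (iv2 F483324)) (tt N104204 (iv3 F469950)) (tt N84286 F469949) (tt N104203 F469951) (tt N106554 F469952) (tt N114393 (iv7 F489939)))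
theorem Q110095 : ∀ i, i < 110095 → P i := stepQ 110094 Q110094 (allL N110094 (tt N112998 F483494) (tt N89388 F469960) (tt N88585 F469956) (tt N88825 F469957) (tt N76991 (iv4 D213331)) (tt N82613 F469959) (tt N114683 F491353) (tt N88583 F469958))
theorem Q110096 : ∀ i, i < 110096 → P i := stepQ 110095 Q110095 (allL N110095 (tt N76994 (iv1 D213332)) (tt N76995 F469961) (tt N100064 (iv2 F469964)) (tt N112888 F483147) (tt N120124 (iv4 F519180)) (tt N82319 F469963) (tt N106204 (iv6 F469965)) (tt N100063 F469962))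
theorem Q110097 : ∀ i, i < 110097 → P i := stepQ 110096 Q110096 (allL N110096 (tt N82268 F469968) (tt N113990 F488093) (tt N100065 F469966) (tt N121269 F525487) (tt N76994 (iv4 D213333)) (tt N121684 (iv5 F527728)) (tt N107375 F469972) (tt N100074 F469967))
theorem Q110098 : ∀ i, i < 110098 → P i := stepQ 110097 Q110097 (allL N110097 (tt N106213 F469970) (tt N120086 (iv0 F518977)) (tt N100066 F469969) (tt N116132 (iv3 F498650)) (tt N107375 (iv4 F469971)) (tt N116858 (iv5 F502205)) (tt N76994 (iv6 D213334)) (tt N121414 (iv7 F526230)))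
theorem Q110099 : ∀ i, i < 110099 → P i := stepQ 110098 Q110098 (allL N110098 (tt N113990 F488092) (tt N82268 F469978) (tt N100074 F469973) (tt N108437 F469974) (tt N76995 (iv4 D213335)) (tt N108436 F469977) (tt N100937 F469975) (tt N100065 F469976))
theorem Q110100 : ∀ i, i < 110100 → P i := stepQ 110099 Q110099 (allL N110099 (tt N100060 F469981) (tt N100036 F469982) (tt N100056 F469979) (tt N106552 F469983) (tt N76997 (iv4 D213336)) (tt N106550 (iv5 F469984)) (tt N88103 (iv6 F469985)) (tt N100057 F469980))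
theorem Q110101 : ∀ i, i < 110101 → P i := stepQ 110100 Q110100 (allL N110100 (tt N113552 F486001) (tt N113554 (iv0 F486007)) (tt N112804 (iv2 F482687)) (tt N116134 (iv3 F498660)) (tt N88103 F469987) (tt N116170 (iv5 F498847)) (tt N76997 (iv6 D213337)) (tt N106560 F469988))
theorem Q110102 : ∀ i, i < 110102 → P i := stepQ 110101 Q110101 (allL N110101 (tt N100036 F469993) (tt N100060 F469994) (tt N100057 F469989) (tt N107570 F469990) (tt N76998 (iv4 D213338)) (tt N107569 (iv5 F469995)) (tt N106509 F469991) (tt N100056 F469992))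
theorem Q110103 : ∀ i, i < 110103 → P i := stepQ 110102 Q110102 (allL N110102 (tt N120126 (iv1 F519196)) (tt N106092 (iv0 F470000)) (tt N106076 F469996) (tt N89291 F469997) (tt N92503 F469999) (tt N76999 (iv5 D213339)) (tt N89290 F469998) (tt N106334 (iv7 F470001)))
theorem Q110104 : ∀ i, i < 110104 → P i := stepQ 110103 Q110103 (allL N110103 (tt N116163 (iv1 F498823)) (tt N106504 (iv0 F470004)) (tt N116162 F498815) (tt N113062 (iv3 F483799)) (tt N77000 F470002) (tt N106334 F470003) (tt N113009 F483542) (tt N76999 (iv7 D213340)))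
theorem Q110105 : ∀ i, i < 110105 → P i := stepQ 110104 Q110104 (allL N110104 (tt N99937 (iv1 F470008)) (tt N99940 (iv0 F470007)) (tt N116823 F502016) (tt N79123 F470005) (tt N113009 (iv4 F483541)) (tt N79119 F470006) (tt N77000 (iv6 D213341)) (tt N114735 (iv7 F491588)))
theorem Q110106 : ∀ i, i < 110106 → P i := stepQ 110105 Q110105 (allL N110105 (tt N118486 (iv1 F510632)) (tt N102808 (iv0 F470012)) (tt N108707 (iv2 F470014)) (tt N77005 (iv3 D213342)) (tt N90703 F470009) (tt N101854 F470013) (tt N108727 F470010) (tt N100081 F470011))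
theorem Q110107 : ∀ i, i < 110107 → P i := stepQ 110106 Q110106 (allL N110106 (tt N120136 (iv1 F519257)) (tt N118275 (iv0 F509472)) (tt N100079 F470015) (tt N101854 F470016) (tt N107569 F470019) (tt N77005 (iv5 D213343)) (tt N101853 F470017) (tt N100082 F470018))
theorem Q110108 : ∀ i, i < 110108 → P i := stepQ 110107 Q110107 (allL N110107 (tt N118275 F509473) (tt N120136 (iv0 F519256)) (tt N100082 F470020) (tt N94267 F470021) (tt N106550 F470022) (tt N77006 (iv5 D213344)) (tt N94264 F470023) (tt N100079 F470024))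
theorem Q110109 : ∀ i, i < 110109 → P i := stepQ 110108 Q110108 (allL N110108 (tt N95171 F470036) (tt N77007 (iv0 D213345)) (tt N108715 (iv2 F470033)) (tt N94381 (iv3 F470035)) (tt N118166 (iv4 F508960)) (tt N94378 F470034) (tt N110657 (iv6 F472622)) (tt N118788 (iv7 F512077)))
theorem Q110110 : ∀ i, i < 110110 → P i := stepQ 110109 Q110109 (allL N110109 (tt N77007 (iv1 D213346)) (tt N95171 F470029) (tt N118788 (iv2 F512073)) (tt N108691 F470031) (tt N111028 (iv4 F474333)) (tt N108690 (iv5 F470030)) (tt N111030 (iv6 F474344)) (tt N108715 F470032))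
theorem Q110111 : ∀ i, i < 110111 → P i := stepQ 110110 Q110110 (allL N110110 (tt N108715 (iv1 F470037)) (tt N118788 (iv0 F512078)) (tt N77007 (iv2 D213347)) (tt N102811 F470025) (tt N77091 F470026) (tt N118282 (iv5 F509502)) (tt N77014 F470027) (tt N95171 (iv7 F470028)))
theorem Q110112 : ∀ i, i < 110112 → P i := stepQ 110111 Q110111 (allL N110111 (tt N118281 (iv1 F509494)) (tt N107865 F470040) (tt N118282 (iv2 F509499)) (tt N77008 F470038) (tt N108178 F470039) (tt N77007 (iv5 D213348)) (tt N106451 (iv6 F470041)) (tt N118279 (iv7 F509486)))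
theorem Q110113 : ∀ i, i < 110113 → P i := stepQ 110112 Q110112 (allL N110112 (tt N118788 (iv1 F512079)) (tt N108715 (iv0 F470046)) (tt N95171 F470042) (tt N77009 F470043) (tt N77093 F470044) (tt N118279 (iv5 F509485)) (tt N94735 (iv6 F470045)) (tt N77007 (iv7 D213349)))
theorem Q110114 : ∀ i, i < 110114 → P i := stepQ 110113 Q110113 (allL N110113 (tt N77008 (iv1 D213350)) (tt N92503 F470047) (tt N100078 (iv2 F470050)) (tt N116652 (iv3 F501153)) (tt N121684 (iv4 F527727)) (tt N82322 F470049) (tt N120394 (iv6 F520551)) (tt N100070 F470048))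
theorem Q110115 : ∀ i, i < 110115 → P i := stepQ 110114 Q110114 (allL N110114 (tt N106092 F470053) (tt N120126 (iv0 F519195)) (tt N106334 F470051) (tt N121890 D225149) (tt N77008 (iv4 D213351)) (tt N116162 (iv5 F498812)) (tt N106320 F470052) (tt N106076 F470054))
theorem Q110116 : ∀ i, i < 110116 → P i := stepQ 110115 Q110115 (allL N110115 (tt N100078 (iv1 F470059)) (tt N100070 F470060) (tt N92503 F470055) (tt N118279 (iv3 F509484)) (tt N106076 F470056) (tt N77009 F470057) (tt N92502 F470058) (tt N77008 (iv7 D213352)))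
theorem Q110117 : ∀ i, i < 110117 → P i := stepQ 110116 Q110116 (allL N110116 (tt N100119 (iv1 F470067)) (tt N100117 (iv0 F470066)) (tt N108695 F470061) (tt N94735 F470062) (tt N77010 F470063) (tt N94400 F470064) (tt N77009 (iv6 D213353)) (tt N77020 F470065))
theorem Q110118 : ∀ i, i < 110118 → P i := stepQ 110117 Q110117 (allL N110117 (tt N94454 F470071) (tt N94462 F470072) (tt N94460 F470068) (tt N107871 F470069) (tt N77011 (iv4 D213354)) (tt N119310 (iv5 F514966)) (tt N94406 F470073) (tt N94459 F470070))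
theorem Q110119 : ∀ i, i < 110119 → P i := stepQ 110118 Q110118 (allL N110118 (tt N107937 F470079) (tt N107276 (iv0 F470080)) (tt N107252 F470074) (tt N77107 F470075) (tt N94406 F470076) (tt N100249 F470077) (tt N77011 (iv6 D213355)) (tt N101780 F470078))
theorem Q110120 : ∀ i, i < 110120 → P i := stepQ 110119 Q110119 (allL N110119 (tt N121813 (iv1 F528474)) (tt N120116 (iv0 F519136)) (tt N121617 (iv2 F527355)) (tt N106455 F470081) (tt N121891 D225150) (tt N77012 (iv5 D213356)) (tt N121310 F525690) (tt N121306 (iv7 F525667)))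
theorem Q110121 : ∀ i, i < 110121 → P i := stepQ 110120 Q110120 (allL N110120 (tt N120116 (iv1 F519137)) (tt N121813 (iv0 F528473)) (tt N121306 (iv2 F525665)) (tt N109578 F470082) (tt N121892 D225151) (tt N77013 (iv5 D213357)) (tt N109577 F470083) (tt N121617 (iv7 F527358)))
theorem Q110122 : ∀ i, i < 110122 → P i := stepQ 110121 Q110121 (allL N110121 (tt N121893 D225152) (tt N121894 D225153) (tt N77015 F470084) (tt N109586 F470085) (tt N121895 D225154) (tt N77014 (iv5 D213358)) (tt N121896 D225155) (tt N120613 (iv7 F521759)))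
theorem Q110123 : ∀ i, i < 110123 → P i := stepQ 110122 Q110122 (allL N110122 (tt N120613 (iv1 F521761)) (tt N77015 (iv0 D213359)) (tt N121893 (iv2 F528944)) (tt N95331 F470086) (tt N121897 D225156) (tt N109574 (iv5 F470087)) (tt N121893 F528943) (tt N121894 (iv7 F528947)))
theorem Q110124 : ∀ i, i < 110124 → P i := stepQ 110123 Q110123 (allL N110123 (tt N77015 (iv1 D213360)) (tt N120613 (iv0 F521760)) (tt N121894 F528950) (tt N121898 D225157) (tt N121899 D225158) (tt N109575 (iv5 F510847)) (tt N121900 D225159) (tt N121893 F528945))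
theorem Q110125 : ∀ i, i < 110125 → P i := stepQ 110124 Q110124 (allL N110124 (tt N121901 D225160) (tt N121738 (iv0 F528046)) (tt N121895 (iv2 F528951)) (tt N121902 D225161) (tt N77015 (iv4 D213361)) (tt N117261 F504159) (tt N121903 D225162) (tt N121902 F528975))
theorem Q110126 : ∀ i, i < 110126 → P i := stepQ 110125 Q110125 (allL N110125 (tt N110207 (iv1 F470439)) (tt N95328 (iv0 F505739)) (tt N121896 (iv2 F528954)) (tt N77019 F470088) (tt N121903 (iv4 F528977)) (tt N106451 F470089) (tt N77015 (iv6 D213362)) (tt N121904 D225163))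
theorem Q110127 : ∀ i, i < 110127 → P i := stepQ 110126 Q110126 (allL N110126 (tt N121894 (iv1 F528946)) (tt N121893 F528941) (tt N120613 (iv2 F521756)) (tt N77018 F470090) (tt N121902 (iv4 F528974)) (tt N77016 F470091) (tt N110207 (iv6 F470438)) (tt N77015 (iv7 D213363)))
theorem Q110128 : ∀ i, i < 110128 → P i := stepQ 110127 Q110127 (allL N110127 (tt N95174 (iv1 F470098)) (tt N95173 (iv0 F470097)) (tt N95175 F470092) (tt N77020 F470093) (tt N77123 F470094) (tt N107157 F470096) (tt N77016 (iv6 D213364)) (tt N94735 F470095))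
theorem Q110129 : ∀ i, i < 110129 → P i := stepQ 110128 Q110128 (allL N110128 (tt N116650 (iv1 F501147)) (tt N120733 F522416) (tt N120734 (iv2 F522417)) (tt N77017 (iv3 D213365)) (tt N117832 (iv4 F507178)) (tt N94320 F470099) (tt N121905 D225164) (tt N94319 F470100))
theorem Q110130 : ∀ i, i < 110130 → P i := stepQ 110129 Q110129 (allL N110129 (tt N121906 D225165) (tt N121888 (iv0 F528921)) (tt N100094 F470101) (tt N121905 (iv3 F528986)) (tt N109571 F470102) (tt N121907 D225166) (tt N77017 (iv6 D213366)) (tt N121908 D225167))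
theorem Q110131 : ∀ i, i < 110131 → P i := stepQ 110130 Q110130 (allL N110130 (tt N118575 (iv1 F510979)) (tt N118573 (iv0 F510971)) (tt N108767 F470103) (tt N110207 (iv3 F470437)) (tt N77019 F470104) (tt N108766 F470105) (tt N77018 (iv6 D213367)) (tt N119722 (iv7 F517101)))
theorem Q110132 : ∀ i, i < 110132 → P i := stepQ 110131 Q110131 (allL N110131 (tt N100107 (iv1 F470107)) (tt N121749 F528093) (tt N119250 (iv2 F514624)) (tt N121904 (iv3 F528980)) (tt N119722 (iv4 F517099)) (tt N106336 F470106) (tt N119722 (iv6 F517100)) (tt N77019 (iv7 D213369)))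
theorem Q110133 : ∀ i, i < 110133 → P i := stepQ 110132 Q110132 (allL N110132 (tt N79487 F470110) (tt N112114 (iv0 F479553)) (tt N112116 (iv2 F479568)) (tt N78558 F470108) (tt N84161 F470109) (tt N103131 F470111) (tt N77025 (iv6 D213370)) (tt N112115 F479561))
theorem Q110134 : ∀ i, i < 110134 → P i := stepQ 110133 Q110133 (allL N110133 (tt N82361 F470115) (tt N82363 F470116) (tt N101878 F470112) (tt N80556 F470113) (tt N77026 (iv4 D213371)) (tt N89531 F470114) (tt N115784 (iv6 F496855)) (tt N112137 (iv7 F479690)))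
theorem Q110135 : ∀ i, i < 110135 → P i := stepQ 110134 Q110134 (allL N110134 (tt N90383 F470121) (tt N88013 F470122) (tt N90381 F470117) (tt N108219 F470118) (tt N88008 F470119) (tt N77032 (iv5 D213372)) (tt N119052 (iv6 F513513)) (tt N90382 F470120))
theorem Q110136 : ∀ i, i < 110136 → P i := stepQ 110135 Q110135 (allL N110135 (tt N116853 F502179) (tt N116848 (iv0 F502159)) (tt N94992 F470127) (tt N77033 (iv3 D213373)) (tt N106909 F470123) (tt N94904 F470124) (tt N94697 F470125) (tt N101604 F470126))
theorem Q110137 : ∀ i, i < 110137 → P i := stepQ 110136 Q110136 (allL N110136 (tt N95055 F470131) (tt N118248 (iv0 F509359)) (tt N103083 F470128) (tt N119158 (iv3 F514099)) (tt N77116 F470129) (tt N91542 F470130) (tt N77038 (iv6 D213374)) (tt N110196 (iv7 F470381)))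
theorem Q110138 : ∀ i, i < 110138 → P i := stepQ 110137 Q110137 (allL N110137 (tt N107838 F470136) (tt N107823 F470137) (tt N107837 F470132) (tt N115028 (iv3 F493108)) (tt N89981 F470133) (tt N81093 (iv5 F470135)) (tt N77039 (iv6 D213375)) (tt N107810 F470134))
theorem Q110139 : ∀ i, i < 110139 → P i := stepQ 110138 Q110138 (allL N110138 (tt N95198 (iv1 F470138)) (tt N77042 (iv0 D213376)) (tt N110448 F471633) (tt N94916 (iv3 F470139)) (tt N119163 (iv4 F514136)) (tt N121909 D225168) (tt N96718 F470140) (tt N110449 (iv7 F471632)))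
theorem Q110140 : ∀ i, i < 110140 → P i := stepQ 110139 Q110139 (allL N110139 (tt N77042 (iv1 D213377)) (tt N95198 F470141) (tt N110449 (iv2 F471634)) (tt N114923 F492558) (tt N117530 (iv4 F505542)) (tt N116037 (iv5 F498177)) (tt N117522 (iv6 F505498)) (tt N110448 F471635))
theorem Q110141 : ∀ i, i < 110141 → P i := stepQ 110140 Q110140 (allL N110140 (tt N88588 F470145) (tt N88587 F470146) (tt N88589 F470142) (tt N83483 F470147) (tt N77046 (iv4 D213378)) (tt N84226 F470143) (tt N109674 (iv6 F470148)) (tt N88582 F470144))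
theorem Q110142 : ∀ i, i < 110142 → P i := stepQ 110141 Q110141 (allL N110141 (tt N84297 F470152) (tt N105236 (iv0 F470153)) (tt N112786 (iv2 F482620)) (tt N88562 F470149) (tt N109674 F470150) (tt N114439 (iv5 F490173)) (tt N77046 (iv6 D213379)) (tt N109673 F470151))
theorem Q110143 : ∀ i, i < 110143 → P i := stepQ 110142 Q110142 (allL N110142 (tt N88585 F470157) (tt N88583 F470158) (tt N89388 F470154) (tt N83510 F470155) (tt N77048 (iv4 D213380)) (tt N83509 F470156) (tt N121910 D225169) (tt N112998 (iv7 F483492)))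
theorem Q110144 : ∀ i, i < 110144 → P i := stepQ 110143 Q110143 (allL N110143 (tt N113984 F488063) (tt N121911 D225170) (tt N116726 (iv2 F501517)) (tt N88564 F470159) (tt N121910 (iv4 F529012)) (tt N120526 (iv5 F521260)) (tt N77048 (iv6 D213381)) (tt N121526 (iv7 F526858)))
theorem Q110145 : ∀ i, i < 110145 → P i := stepQ 110144 Q110144 (allL N110144 (tt N116938 (iv1 F502600)) (tt N113959 (iv0 F487968)) (tt N86468 (iv2 F470164)) (tt N77049 (iv3 D213382)) (tt N77077 F470160) (tt N78995 F470161) (tt N108409 F470162) (tt N86473 F470163))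
theorem Q110146 : ∀ i, i < 110146 → P i := stepQ 110145 Q110145 (allL N110145 (tt N120073 (iv1 F518906)) (tt N120077 F518925) (tt N113488 (iv2 F485732)) (tt N77052 F470165) (tt N88551 (iv4 F470167)) (tt N77050 (iv5 D213383)) (tt N88550 F470166) (tt N120075 (iv7 F518919)))
theorem Q110147 : ∀ i, i < 110147 → P i := stepQ 110146 Q110146 (allL N110146 (tt N77055 (iv1 F470169)) (tt N77052 (iv0 D213384)) (tt N113016 (iv2 F483565)) (tt N84162 (iv3 F470170)) (tt N86387 F470171) (tt N110055 F470168) (tt N112900 F483203) (tt N86386 F470172))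
theorem Q110148 : ∀ i, i < 110148 → P i := stepQ 110147 Q110147 (allL N110147 (tt N77052 (iv1 D213385)) (tt N77055 F470173) (tt N86386 F470176) (tt N109557 F470177) (tt N82670 F470178) (tt N109556 (iv5 F470174)) (tt N82669 (iv6 F470175)) (tt N113016 (iv7 F483569)))
theorem Q110149 : ∀ i, i < 110149 → P i := stepQ 110148 Q110148 (allL N110148 (tt N112168 (iv1 F479863)) (tt N82719 F470179) (tt N110149 (iv2 F470181)) (tt N116657 (iv3 F501170)) (tt N77052 (iv4 D213386)) (tt N110294 (iv5 F470895)) (tt N110062 F470180) (tt N113498 (iv7 F485784)))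
theorem Q110150 : ∀ i, i < 110150 → P i := stepQ 110149 Q110149 (allL N110149 (tt N113004 F483522) (tt N83507 (iv0 F470184)) (tt N110148 F470181) (tt N88550 F470182) (tt N110062 F470183) (tt N112166 (iv5 F479854)) (tt N77052 (iv6 D213387)) (tt N110150 (iv7 F470186)))
theorem Q110151 : ∀ i, i < 110151 → P i := stepQ 110150 Q110150 (allL N110150 (tt N82719 (iv1 F470189)) (tt N112168 (iv0 F479862)) (tt N113498 (iv2 F485788)) (tt N107440 F470185) (tt N77055 (iv4 D213388)) (tt N107438 F470187) (tt N103037 (iv6 F470188)) (tt N110149 F470186))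
theorem Q110152 : ∀ i, i < 110152 → P i := stepQ 110151 Q110151 (allL N110151 (tt N113026 F483607) (tt N118006 (iv0 F508050)) (tt N98225 F470190) (tt N121795 (iv3 F528362)) (tt N103037 F470191) (tt N92771 F470192) (tt N77055 (iv6 D213389)) (tt N92829 (iv7 F470193)))
theorem Q110153 : ∀ i, i < 110153 → P i := stepQ 110152 Q110152 (allL N110152 (tt N112996 (iv1 F483483)) (tt N109668 F470197) (tt N99958 (iv2 F470195)) (tt N77056 (iv3 D213390)) (tt N113010 (iv4 F483544)) (tt N99826 (iv5 F470196)) (tt N110172 (iv6 F470274)) (tt N99961 F470194))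
theorem Q110154 : ∀ i, i < 110154 → P i := stepQ 110153 Q110153 (allL N110153 (tt N110272 (iv1 F470762)) (tt N99891 (iv0 F470201)) (tt N110273 (iv2 F470768)) (tt N99826 F470198) (tt N81047 F470199) (tt N77056 (iv5 D213391)) (tt N110275 (iv6 F470783)) (tt N81046 F470200))
theorem Q110155 : ∀ i, i < 110155 → P i := stepQ 110154 Q110154 (allL N110154 (tt N99787 F470204) (tt N88557 (iv0 F470205)) (tt N84227 F470202) (tt N77057 (iv3 D213392)) (tt N84222 F470203) (tt N110271 (iv5 F470760)) (tt N120695 (iv6 F522198)) (tt N112997 (iv7 F483487)))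
theorem Q110156 : ∀ i, i < 110156 → P i := stepQ 110155 Q110155 (allL N110155 (tt N113508 F485831) (tt N86026 (iv0 F470208)) (tt N113974 (iv2 F488035)) (tt N120695 (iv3 F522197)) (tt N106506 F470206) (tt N83001 F470207) (tt N77057 (iv6 D213393)) (tt N110168 (iv7 F470267)))
theorem Q110157 : ∀ i, i < 110157 → P i := stepQ 110156 Q110156 (allL N110156 (tt N121688 (iv1 F527756)) (tt N121689 (iv0 F527762)) (tt N121342 (iv2 F525863)) (tt N77058 (iv3 D213394)) (tt N108409 F470209) (tt N119016 (iv5 F513300)) (tt N77077 F470210) (tt N121339 (iv7 F525853)))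
theorem Q110158 : ∀ i, i < 110158 → P i := stepQ 110157 Q110157 (allL N110157 (tt N107388 (iv1 F470214)) (tt N82653 F470215) (tt N112995 (iv2 F483472)) (tt N121339 (iv3 F525852)) (tt N77059 F470211) (tt N81065 F470212) (tt N82689 F470213) (tt N77058 (iv7 D213395)))
theorem Q110159 : ∀ i, i < 110159 → P i := stepQ 110158 Q110158 (allL N110158 (tt N113059 (iv1 F483785)) (tt N113060 (iv0 F483791)) (tt N116140 (iv2 F498696)) (tt N77061 (iv3 D213396)) (tt N89611 (iv4 F470224)) (tt N101760 F470216) (tt N113027 (iv6 F483608)) (tt N116139 (iv7 F498691)))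
theorem Q110160 : ∀ i, i < 110160 → P i := stepQ 110159 Q110159 (allL N110159 (tt N98225 F470218) (tt N92829 F470219) (tt N118006 (iv2 F508046)) (tt N116305 (iv3 F499463)) (tt N114750 (iv4 F491661)) (tt N82874 F470217) (tt N77062 (iv6 D213397)) (tt N113026 (iv7 F483605)))
theorem Q110161 : ∀ i, i < 110161 → P i := stepQ 110160 Q110160 (allL N110160 (tt N77063 (iv1 D213398)) (tt N77068 F470220) (tt N82737 (iv2 F470223)) (tt N113937 (iv3 F487875)) (tt N83290 F470222) (tt N113239 (iv5 F484662)) (tt N114831 (iv6 F492102)) (tt N82738 F470221))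
theorem Q110162 : ∀ i, i < 110162 → P i := stepQ 110161 Q110161 (allL N110161 (tt N91673 F470229) (tt N91672 F470230) (tt N91674 F470225) (tt N105674 F470226) (tt N77095 F470227) (tt N77063 (iv5 D213399)) (tt N91677 (iv6 F470231)) (tt N82739 F470228))
theorem Q110163 : ∀ i, i < 110163 → P i := stepQ 110162 Q110162 (allL N110162 (tt N82726 (iv1 F470237)) (tt N82725 (iv0 F470236)) (tt N82728 F470232) (tt N116163 (iv3 F498819)) (tt N77064 F470233) (tt N106499 F470234) (tt N77063 (iv6 D213400)) (tt N82626 F470235))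
theorem Q110164 : ∀ i, i < 110164 → P i := stepQ 110163 Q110163 (allL N110163 (tt N82724 (iv1 F470243)) (tt N77064 (iv0 D213401)) (tt N113007 (iv2 F483534)) (tt N83694 (iv3 F470241)) (tt N82676 F470240) (tt N87840 F470239) (tt N113004 (iv6 F483521)) (tt N83504 (iv7 F470242)))
theorem Q110165 : ∀ i, i < 110165 → P i := stepQ 110164 Q110164 (allL N110164 (tt N83504 (iv1 F470249)) (tt N113007 F483538) (tt N82724 F470244) (tt N106953 F470245) (tt N82626 F470246) (tt N86024 F470247) (tt N82625 F470248) (tt N77064 (iv7 D213402)))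
theorem Q110166 : ∀ i, i < 110166 → P i := stepQ 110165 Q110165 (allL N110165 (tt N88539 (iv1 F470252)) (tt N77066 (iv0 D213403)) (tt N113749 (iv2 F486946)) (tt N116324 (iv3 F499560)) (tt N106855 F470251) (tt N109494 F470250) (tt N121912 D225171) (tt N106854 F470253))
theorem Q110167 : ∀ i, i < 110167 → P i := stepQ 110166 Q110166 (allL N110166 (tt N113540 (iv1 F485942)) (tt N113541 (iv0 F485945)) (tt N120095 (iv2 F519012)) (tt N77069 F470254) (tt N105269 F470255) (tt N83054 F470256) (tt N77066 (iv6 D213404)) (tt N82723 (iv7 F470257)))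
theorem Q110168 : ∀ i, i < 110168 → P i := stepQ 110167 Q110167 (allL N110167 (tt N117179 (iv1 F503784)) (tt N117176 (iv0 F503768)) (tt N106500 F470261) (tt N77070 (iv3 D213405)) (tt N101913 F470258) (tt N105804 F470259) (tt N106401 (iv6 F470262)) (tt N106505 F470260))
theorem Q110169 : ∀ i, i < 110169 → P i := stepQ 110168 Q110168 (allL N110168 (tt N114970 (iv1 F492833)) (tt N84304 (iv0 F470268)) (tt N107083 F470263) (tt N106401 F470264) (tt N77071 F470265) (tt N87838 F470266) (tt N77070 (iv6 D213406)) (tt N110155 F470267))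
theorem Q110170 : ∀ i, i < 110170 → P i := stepQ 110169 Q110169 (allL N110169 (tt N120125 F519188) (tt N77071 (iv0 D213407)) (tt N120721 (iv2 F522342)) (tt N86028 F470269) (tt N113994 (iv4 F488101)) (tt N106940 F470271) (tt N86026 F470270) (tt N113506 (iv7 F485821)))
theorem Q110171 : ∀ i, i < 110171 → P i := stepQ 110170 Q110170 (allL N110170 (tt N77071 (iv1 D213408)) (tt N120125 (iv0 F519187)) (tt N113506 (iv2 F485819)) (tt N121911 F529020) (tt N117267 (iv4 F504191)) (tt N113017 (iv5 F483577)) (tt N113071 (iv6 F483841)) (tt N120721 (iv7 F522345)))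
theorem Q110172 : ∀ i, i < 110172 → P i := stepQ 110171 Q110171 (allL N110171 (tt N121913 D225172) (tt N121480 (iv0 F526610)) (tt N116161 (iv2 F498807)) (tt N77074 F470272) (tt N120127 (iv4 F519199)) (tt N112161 (iv5 F479824)) (tt N77072 (iv6 D213409)) (tt N116654 (iv7 F501160)))
theorem Q110173 : ∀ i, i < 110173 → P i := stepQ 110172 Q110172 (allL N110172 (tt N106398 F470276) (tt N106396 (iv0 F470277)) (tt N120094 (iv2 F519008)) (tt N77073 (iv3 D213410)) (tt N121324 (iv4 F525766)) (tt N101479 F470273) (tt N110152 F470274) (tt N107089 F470275))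
theorem Q110174 : ∀ i, i < 110174 → P i := stepQ 110173 Q110173 (allL N110173 (tt N77335 (iv1 F470281)) (tt N82706 F470282) (tt N83449 F470278) (tt N116654 (iv3 F501159)) (tt N110066 F470279) (tt N83203 F470280) (tt N120125 (iv6 F519185)) (tt N77074 (iv7 D213411)))
theorem Q110175 : ∀ i, i < 110175 → P i := stepQ 110174 Q110174 (allL N110174 (tt N119598 F516453) (tt N119590 F519550) (tt N119607 F516484) (tt N77076 (iv3 D213412)) (tt N118622 (iv4 F511197)) (tt N120199 (iv5 F519549)) (tt N120279 F519995) (tt N116978 (iv7 F502793)))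
theorem Q110176 : ∀ i, i < 110176 → P i := stepQ 110175 Q110175 (allL N110175 (tt N121914 D225173) (tt N77077 (iv0 D213413)) (tt N106216 (iv2 F470287)) (tt N121693 (iv3 F527783)) (tt N83506 F470283) (tt N116926 (iv5 F502534)) (tt N110531 (iv6 F472020)) (tt N113005 (iv7 F483525)))
theorem Q110177 : ∀ i, i < 110177 → P i := stepQ 110176 Q110176 (allL N110176 (tt N77077 (iv1 D213414)) (tt N121914 F529038) (tt N113005 (iv2 F483523)) (tt N90723 (iv3 F470285)) (tt N84429 F470284) (tt N120409 F520632) (tt N120169 F519405) (tt N106216 F470286))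
theorem Q110178 : ∀ i, i < 110178 → P i := stepQ 110177 Q110177 (allL N110177 (tt N106216 (iv1 F483529)) (tt N113005 (iv0 F483526)) (tt N77077 (iv2 D213415)) (tt N114655 (iv3 F491224)) (tt N86468 F470288) (tt N114654 F491221) (tt N121342 (iv6 F525865)) (tt N121914 (iv7 F529039)))
theorem Q110179 : ∀ i, i < 110179 → P i := stepQ 110178 Q110178 (allL N110178 (tt N78975 F470290) (tt N88838 (iv0 F470291)) (tt N114654 (iv2 F491217)) (tt N77078 F470289) (tt N89847 (iv4 F470293)) (tt N77077 (iv5 D213416)) (tt N108365 F470292) (tt N89844 F470294))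
theorem Q110180 : ∀ i, i < 110180 → P i := stepQ 110179 Q110179 (allL N110179 (tt N113005 F483528) (tt N106216 (iv0 F470298)) (tt N121914 F529037) (tt N77079 F470295) (tt N86473 F470296) (tt N89844 F470297) (tt N112901 (iv6 F483207)) (tt N77077 (iv7 D213417)))
theorem Q110181 : ∀ i, i < 110181 → P i := stepQ 110180 Q110180 (allL N110180 (tt N116328 (iv1 F499581)) (tt N120325 F520199) (tt N120249 (iv2 F519807)) (tt N121551 (iv3 F526993)) (tt N77080 (iv4 D213418)) (tt N92389 F470299) (tt N121915 D225174) (tt N120322 (iv7 F520190)))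
theorem Q110182 : ∀ i, i < 110182 → P i := stepQ 110181 Q110181 (allL N110181 (tt N113413 F485379) (tt N113416 (iv0 F485389)) (tt N120250 (iv2 F519812)) (tt N77083 F470300) (tt N121915 (iv4 F529041)) (tt N83048 F470301) (tt N77080 (iv6 D213419)) (tt N82673 (iv7 F470302)))
theorem Q110183 : ∀ i, i < 110183 → P i := stepQ 110182 Q110182 (allL N110182 (tt N121264 (iv1 F525459)) (tt N118588 (iv0 F511029)) (tt N115050 (iv2 F493226)) (tt N77082 (iv3 D213420)) (tt N121551 (iv4 F526996)) (tt N85607 F470303) (tt N82622 F470304) (tt N119605 (iv7 F516476)))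
theorem Q110184 : ∀ i, i < 110184 → P i := stepQ 110183 Q110183 (allL N110183 (tt N110905 (iv1 F473718)) (tt N110197 (iv0 F470389)) (tt N91567 F470305) (tt N77087 F470306) (tt N108980 F470308) (tt N77086 (iv5 D213421)) (tt N112006 (iv6 F479045)) (tt N91564 F470307))
theorem Q110185 : ∀ i, i < 110185 → P i := stepQ 110184 Q110184 (allL N110184 (tt N77088 (iv1 D213422)) (tt N90901 (iv0 F470313)) (tt N90285 (iv2 F470311)) (tt N110945 (iv3 F473901)) (tt N90171 F470310) (tt N116785 (iv5 F501823)) (tt N77110 (iv6 F470312)) (tt N90170 F470309))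
theorem Q110186 : ∀ i, i < 110186 → P i := stepQ 110185 Q110185 (allL N110185 (tt N90170 (iv1 F470318)) (tt N90285 F470317) (tt N77088 (iv2 D213423)) (tt N81476 F470314) (tt N81480 F470315) (tt N121608 (iv5 F527310)) (tt N111556 (iv6 F476906)) (tt N90901 F470316))
theorem Q110187 : ∀ i, i < 110187 → P i := stepQ 110186 Q110186 (allL N110186 (tt N77090 (iv1 D213424)) (tt N81476 F470319) (tt N91575 (iv2 F470322)) (tt N93383 F470325) (tt N100420 F470321) (tt N95212 (iv5 F470324)) (tt N81726 (iv6 F470323)) (tt N91574 F470320))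
theorem Q110188 : ∀ i, i < 110188 → P i := stepQ 110187 Q110187 (allL N110187 (tt N85150 F470328) (tt N95212 (iv0 F470329)) (tt N112374 (iv2 F480786)) (tt N77095 (iv3 D213425)) (tt N85306 F470326) (tt N108324 F470327) (tt N94496 F470330) (tt N114797 (iv7 F491925)))
theorem Q110189 : ∀ i, i < 110189 → P i := stepQ 110188 Q110188 (allL N110188 (tt N106391 F470336) (tt N90120 (iv0 F470337)) (tt N105989 F470331) (tt N94496 F470332) (tt N91677 F470333) (tt N90332 F470334) (tt N77095 (iv6 D213426)) (tt N85616 F470335))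
theorem Q110190 : ∀ i, i < 110190 → P i := stepQ 110189 Q110189 (allL N110189 (tt N101223 F470349) (tt N101250 F470350) (tt N85246 F470345) (tt N114656 (iv3 F491225)) (tt N77097 F470346) (tt N83397 F470347) (tt N77096 (iv6 D213427)) (tt N95191 F470348))
theorem Q110191 : ∀ i, i < 110191 → P i := stepQ 110190 Q110190 (allL N110190 (tt N84856 (iv1 F470354)) (tt N77097 (iv0 D213428)) (tt N84841 (iv2 F470353)) (tt N85309 F470351) (tt N113465 (iv4 F485608)) (tt N116782 (iv5 F501803)) (tt N101258 F470352) (tt N85245 F470355))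
theorem Q110192 : ∀ i, i < 110192 → P i := stepQ 110191 Q110191 (allL N110191 (tt N118407 (iv1 F510183)) (tt N96052 F470360) (tt N91598 F470356) (tt N77104 F470357) (tt N94869 (iv4 F470361)) (tt N77100 (iv5 D213429)) (tt N89320 F470358) (tt N94865 F470359))
theorem Q110193 : ∀ i, i < 110193 → P i := stepQ 110192 Q110192 (allL N110192 (tt N94863 F470364) (tt N77101 (iv0 D213430)) (tt N120163 F519368) (tt N117305 (iv3 F504378)) (tt N77538 (iv4 F470363)) (tt N120455 (iv5 F520878)) (tt N93747 F470362) (tt N119162 (iv7 F514127)))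
theorem Q110194 : ∀ i, i < 110194 → P i := stepQ 110193 Q110193 (allL N110193 (tt N119162 F514129) (tt N120163 F519369) (tt N94863 F470365) (tt N89321 F470366) (tt N96396 F470367) (tt N77539 F470368) (tt N94690 F470369) (tt N77101 (iv7 D213431)))
theorem Q110195 : ∀ i, i < 110195 → P i := stepQ 110194 Q110194 (allL N110194 (tt N119012 F513278) (tt N120780 (iv0 F522671)) (tt N121818 (iv2 F528495)) (tt N77102 (iv3 D213432)) (tt N109474 F470370) (tt N119187 (iv5 F514261)) (tt N107880 F470371) (tt N108317 F470372))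
theorem Q110196 : ∀ i, i < 110196 → P i := stepQ 110195 Q110195 (allL N110195 (tt N101324 F470375) (tt N101332 F470377) (tt N119165 F514147) (tt N77103 (iv3 D213433)) (tt N99126 F470373) (tt N101334 (iv5 F470376)) (tt N93784 F470374) (tt N117520 (iv7 F505488)))
theorem Q110197 : ∀ i, i < 110197 → P i := stepQ 110196 Q110196 (allL N110196 (tt N108917 F470382) (tt N107567 F470383) (tt N108318 F470378) (tt N101334 F470379) (tt N101773 F470384) (tt N77103 (iv5 D213434)) (tt N101266 F470380) (tt N110136 F470381))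
theorem Q110198 : ∀ i, i < 110198 → P i := stepQ 110197 Q110197 (allL N110197 (tt N110183 F470389) (tt N117495 (iv0 F505331)) (tt N93747 F470385) (tt N93352 F470386) (tt N77104 (iv4 D213435)) (tt N91553 F470388) (tt N120163 (iv6 F519367)) (tt N93349 F470387))
theorem Q110199 : ∀ i, i < 110199 → P i := stepQ 110198 Q110198 (allL N110198 (tt N77108 (iv1 F470393)) (tt N77106 (iv0 D213436)) (tt N101851 (iv2 F470392)) (tt N101938 (iv3 F470395)) (tt N91536 F470390) (tt N119427 (iv5 F515558)) (tt N78180 F470391) (tt N102945 F470394))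
theorem Q110200 : ∀ i, i < 110200 → P i := stepQ 110199 Q110199 (allL N110199 (tt N115052 (iv1 F493236)) (tt N94537 (iv0 F470398)) (tt N115053 (iv2 F493242)) (tt N77108 (iv3 D213437)) (tt N81981 F470396) (tt N114932 (iv5 F492611)) (tt N108158 F470397) (tt N114931 F492607))
theorem Q110201 : ∀ i, i < 110201 → P i := stepQ 110200 Q110200 (allL N110200 (tt N91577 F470403) (tt N91546 F470404) (tt N108327 F470399) (tt N114932 (iv3 F492609)) (tt N91562 F470400) (tt N77108 (iv5 D213438)) (tt N101253 F470401) (tt N93749 F470402))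
theorem Q110202 : ∀ i, i < 110202 → P i := stepQ 110201 Q110201 (allL N110201 (tt N119073 (iv1 F513637)) (tt N93559 (iv0 F470408)) (tt N77112 F470405) (tt N91611 F470406) (tt N90439 (iv4 F470409)) (tt N77111 (iv5 D213439)) (tt N90438 F470407) (tt N118380 (iv7 F510040)))
theorem Q110203 : ∀ i, i < 110203 → P i := stepQ 110202 Q110202 (allL N110202 (tt N77112 (iv1 D213440)) (tt N118380 (iv0 F510043)) (tt N93559 (iv2 F470411)) (tt N114796 (iv3 F491920)) (tt N106481 F470410) (tt N116874 (iv5 F502297)) (tt N106480 (iv6 F470412)) (tt N119073 (iv7 F513638)))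
theorem Q110204 : ∀ i, i < 110204 → P i := stepQ 110203 Q110203 (allL N110203 (tt N85594 F470416) (tt N106270 (iv0 F470417)) (tt N90439 F470413) (tt N109793 F470414) (tt N77112 (iv4 D213441)) (tt N90830 F470418) (tt N90430 F470415) (tt N119074 (iv7 F513644)))
theorem Q110205 : ∀ i, i < 110205 → P i := stepQ 110204 Q110204 (allL N110204 (tt N112201 (iv1 F480035)) (tt N83148 F470423) (tt N77115 F470419) (tt N118380 (iv3 F510038)) (tt N89800 F470422) (tt N77114 (iv5 D213442)) (tt N85252 F470420) (tt N91611 F470421))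
theorem Q110206 : ∀ i, i < 110206 → P i := stepQ 110205 Q110205 (allL N110205 (tt N91576 (iv1 F470429)) (tt N77116 (iv0 D213443)) (tt N91578 (iv2 F470428)) (tt N95206 F470426) (tt N91546 F470425) (tt N91480 F470424) (tt N95203 F470427) (tt N91479 F470430))
theorem Q110207 : ∀ i, i < 110207 → P i := stepQ 110206 Q110206 (allL N110206 (tt N93504 F470435) (tt N93503 F470436) (tt N93506 F470431) (tt N98925 F470432) (tt N77117 (iv4 D213444)) (tt N120229 (iv5 F519712)) (tt N99016 F470433) (tt N93498 F470434))
theorem Q110208 : ∀ i, i < 110208 → P i := stepQ 110207 Q110207 (allL N110207 (tt N117911 (iv1 F507556)) (tt N110125 F470439) (tt N118856 (iv2 F512424)) (tt N110130 F470437) (tt N121916 D225175) (tt N77118 (iv5 D213445)) (tt N110126 F470438) (tt N118851 (iv7 F512414)))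
theorem Q110209 : ∀ i, i < 110209 → P i := stepQ 110208 Q110208 (allL N110208 (tt N100627 (iv1 F470445)) (tt N80530 (iv0 F470444)) (tt N77121 F470440) (tt N84777 F470441) (tt N77119 (iv4 D213446)) (tt N117263 (iv5 F504170)) (tt N84794 F470442) (tt N85534 F470443))
theorem Q110210 : ∀ i, i < 110210 → P i := stepQ 110209 Q110209 (allL N110209 (tt N96515 F470447) (tt N115341 F494685) (tt N114455 (iv2 F490257)) (tt N77121 (iv3 D213447)) (tt N77128 F470446) (tt N121917 D225176) (tt N110496 F471845) (tt N110443 (iv7 F471618)))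
theorem Q110211 : ∀ i, i < 110211 → P i := stepQ 110210 Q110210 (allL N110210 (tt N105552 F470448) (tt N117262 (iv0 F504165)) (tt N117263 (iv2 F504168)) (tt N121917 (iv3 F529048)) (tt N121918 D225177) (tt N77121 (iv5 D213448)) (tt N117265 (iv6 F504180)) (tt N116122 F498590))
theorem Q110212 : ∀ i, i < 110212 → P i := stepQ 110211 Q110211 (allL N110211 (tt N80530 (iv1 F470452)) (tt N100627 F470453) (tt N85534 F470449) (tt N110443 (iv3 F471616)) (tt N77122 F470450) (tt N116122 (iv5 F498588)) (tt N85532 F470451) (tt N77121 (iv7 D213449)))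
theorem Q110213 : ∀ i, i < 110213 → P i := stepQ 110212 Q110212 (allL N110212 (tt N110502 (iv1 F471873)) (tt N93555 F470456) (tt N77124 (iv2 D213450)) (tt N91612 F470454) (tt N121180 (iv4 F524978)) (tt N101950 F470455) (tt N118683 (iv6 F511529)) (tt N110503 (iv7 F471877)))
theorem Q110214 : ∀ i, i < 110214 → P i := stepQ 110213 Q110213 (allL N110213 (tt N84866 F470459) (tt N113254 (iv0 F484722)) (tt N121180 (iv2 F524976)) (tt N109359 F470457) (tt N77124 (iv4 D213451)) (tt N120208 (iv5 F519601)) (tt N99898 F470458) (tt N110497 (iv7 F471848)))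
theorem Q110215 : ∀ i, i < 110215 → P i := stepQ 110214 Q110214 (allL N110214 (tt N77127 (iv1 D213452)) (tt N101424 F470460) (tt N82278 (iv2 F470462)) (tt N100630 F470465) (tt N119428 (iv4 F515564)) (tt N101415 (iv5 F470463)) (tt N96466 F470464) (tt N101423 F470461))
theorem Q110216 : ∀ i, i < 110216 → P i := stepQ 110215 Q110215 (allL N110215 (tt N96396 F470469) (tt N110435 (iv0 F471583)) (tt N101425 F470466) (tt N96704 F470467) (tt N101423 (iv4 F470470)) (tt N77127 (iv5 D213453)) (tt N102996 F470468) (tt N119428 (iv7 F515566)))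
theorem Q110217 : ∀ i, i < 110217 → P i := stepQ 110216 Q110216 (allL N110216 (tt N82278 (iv1 F470474)) (tt N101423 F470475) (tt N101424 F470471) (tt N115048 F493216) (tt N110042 F470472) (tt N119428 (iv5 F515565)) (tt N103179 F470473) (tt N77127 (iv7 D213454)))
theorem Q110218 : ∀ i, i < 110218 → P i := stepQ 110217 Q110217 (allL N110217 (tt N98197 (iv1 F470476)) (tt N77128 (iv0 D213455)) (tt N110442 (iv2 F471606)) (tt N96390 F471613) (tt N114693 (iv4 F491388)) (tt N109349 F471607) (tt N96388 (iv6 F471614)) (tt N110441 F471608))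
theorem Q110219 : ∀ i, i < 110219 → P i := stepQ 110218 Q110218 (allL N110218 (tt N77128 (iv1 D213456)) (tt N98197 F470477) (tt N110441 F471605) (tt N110547 (iv3 F472081)) (tt N86399 (iv4 F470479)) (tt N109350 F470478) (tt N88909 F470480) (tt N110442 (iv7 F471603)))
theorem Q110220 : ∀ i, i < 110220 → P i := stepQ 110219 Q110219 (allL N110219 (tt N90386 F470486) (tt N103088 F470485) (tt N85243 F470481) (tt N89631 (iv3 F470487)) (tt N77129 (iv4 D213457)) (tt N109355 F470484) (tt N96314 F470482) (tt N85244 F470483))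
theorem Q110221 : ∀ i, i < 110221 → P i := stepQ 110220 Q110220 (allL N110220 (tt N85247 (iv1 F470490)) (tt N77131 (iv0 D213458)) (tt N95197 (iv2 F470492)) (tt N85509 F470489) (tt N103089 (iv4 F470491)) (tt N102017 F470488) (tt N110845 (iv6 F474374)) (tt N95196 (iv7 F470493)))
theorem Q110222 : ∀ i, i < 110222 → P i := stepQ 110221 Q110221 (allL N110221 (tt N77131 (iv1 D213459)) (tt N85247 F470494) (tt N95196 (iv2 F470499)) (tt N78456 (iv3 F470496)) (tt N103090 F470497) (tt N78455 F470498) (tt N117496 (iv6 F505337)) (tt N95197 F470495))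
theorem Q110223 : ∀ i, i < 110223 → P i := stepQ 110222 Q110222 (allL N110222 (tt N110947 F473917) (tt N111424 (iv0 F476297)) (tt N112128 (iv2 F479632)) (tt N77132 (iv3 D213460)) (tt N100949 F470500) (tt N81763 F470501) (tt N118415 F510231) (tt N81665 F470502))
theorem Q110224 : ∀ i, i < 110224 → P i := stepQ 110223 Q110223 (allL N110223 (tt N81724 (iv1 F470507)) (tt N77133 (iv0 D213461)) (tt N94732 (iv2 F470506)) (tt N96168 F470505) (tt N80227 F470504) (tt N80351 F470503) (tt N109624 (iv6 F470509)) (tt N94731 F470508))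
theorem Q110225 : ∀ i, i < 110225 → P i := stepQ 110224 Q110224 (allL N110224 (tt N119101 (iv1 F513797)) (tt N83051 (iv0 F470513)) (tt N101294 F470510) (tt N100424 F470511) (tt N121919 D225178) (tt N77136 (iv5 D213462)) (tt N109899 (iv6 F470514)) (tt N101296 F470512))
theorem Q110226 : ∀ i, i < 110226 → P i := stepQ 110225 Q110225 (allL N110225 (tt N98457 F470519) (tt N110419 F471488) (tt N101295 F470515) (tt N94093 F470516) (tt N77137 (iv4 D213463)) (tt N94088 (iv5 F470520)) (tt N109254 F470517) (tt N94087 F470518))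
theorem Q110227 : ∀ i, i < 110227 → P i := stepQ 110226 Q110226 (allL N110226 (tt N83051 F470523) (tt N119101 (iv0 F513796)) (tt N101296 F470521) (tt N111343 (iv3 F475912)) (tt N121920 D225179) (tt N77137 (iv5 D213464)) (tt N113441 F485508) (tt N101294 F470522))
theorem Q110228 : ∀ i, i < 110228 → P i := stepQ 110227 Q110227 (allL N110227 (tt N101299 F470530) (tt N77138 (iv0 D213465)) (tt N101297 F470528) (tt N99868 (iv3 F470525)) (tt N121871 (iv4 F528823)) (tt N99866 F470524) (tt N83330 F470527) (tt N99865 (iv7 F470526)))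
theorem Q110229 : ∀ i, i < 110229 → P i := stepQ 110228 Q110228 (allL N110228 (tt N77138 (iv1 D213466)) (tt N101299 F470531) (tt N99865 F470534) (tt N99911 F470535) (tt N121870 (iv4 F528815)) (tt N99864 (iv5 F470533)) (tt N121238 (iv6 F525307)) (tt N101297 F470532))
theorem Q110230 : ∀ i, i < 110230 → P i := stepQ 110229 Q110229 (allL N110229 (tt N117383 (iv1 F504767)) (tt N117385 (iv0 F504772)) (tt N101298 F470536) (tt N105310 F470537) (tt N77138 (iv4 D213467)) (tt N121119 (iv5 F524602)) (tt N77145 F470538) (tt N100455 (iv7 F470539)))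
theorem Q110231 : ∀ i, i < 110231 → P i := stepQ 110230 Q110230 (allL N110230 (tt N99865 (iv1 F470545)) (tt N101297 F470546) (tt N101299 F470540) (tt N77154 F470541) (tt N100455 F470542) (tt N77139 F470543) (tt N97815 F470544) (tt N77138 (iv7 D213468)))
theorem Q110232 : ∀ i, i < 110232 → P i := stepQ 110231 Q110231 (allL N110231 (tt N116191 (iv1 F498937)) (tt N116190 (iv0 F498930)) (tt N120335 (iv2 F520236)) (tt N121921 D225180) (tt N77140 (iv4 D213469)) (tt N77901 (iv5 F470548)) (tt N121236 (iv6 F525298)) (tt N77900 F470547))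
theorem Q110233 : ∀ i, i < 110233 → P i := stepQ 110232 Q110232 (allL N110232 (tt N112552 (iv1 F481628)) (tt N112322 (iv0 F480548)) (tt N101750 F470549) (tt N77142 F470550) (tt N83227 F470552) (tt N77141 (iv5 D213470)) (tt N83227 F470551) (tt N113779 (iv7 F487067)))
theorem Q110234 : ∀ i, i < 110234 → P i := stepQ 110233 Q110233 (allL N110233 (tt N116190 (iv1 F498931)) (tt N116191 (iv0 F498936)) (tt N77900 F470553) (tt N77814 F470554) (tt N77142 (iv4 D213471)) (tt N77813 (iv5 F470556)) (tt N77814 F470555) (tt N120335 (iv7 F520240)))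
theorem Q110235 : ∀ i, i < 110235 → P i := stepQ 110234 Q110234 (allL N110234 (tt N98921 F470557) (tt N116189 (iv0 F498924)) (tt N119942 (iv2 F518153)) (tt N121922 D225181) (tt N77143 (iv4 D213472)) (tt N119852 (iv5 F517702)) (tt N110388 (iv6 F471356)) (tt N120336 (iv7 F520245)))
theorem Q110236 : ∀ i, i < 110236 → P i := stepQ 110235 Q110235 (allL N110235 (tt N81943 (iv1 F470558)) (tt N77145 (iv0 D213473)) (tt N120337 F520253) (tt N107548 F470560) (tt N116383 (iv4 F499815)) (tt N120958 (iv5 F523702)) (tt N101463 (iv6 F470559)) (tt N120338 (iv7 F520257)))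
theorem Q110237 : ∀ i, i < 110237 → P i := stepQ 110236 Q110236 (allL N110236 (tt N77145 (iv1 D213474)) (tt N81943 F470561) (tt N120338 (iv2 F520261)) (tt N119820 (iv3 F517536)) (tt N109780 (iv4 F470562)) (tt N99268 F470563) (tt N99269 (iv6 F470564)) (tt N120337 F520254))
theorem Q110238 : ∀ i, i < 110238 → P i := stepQ 110237 Q110237 (allL N110237 (tt N101459 F470568) (tt N119090 (iv0 F513740)) (tt N107333 F470570) (tt N77145 (iv3 D213475)) (tt N77163 F470565) (tt N94984 (iv5 F470569)) (tt N105310 F470566) (tt N107330 F470567))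
theorem Q110239 : ∀ i, i < 110239 → P i := stepQ 110238 Q110238 (allL N110238 (tt N78027 (iv1 F470575)) (tt N77853 (iv0 F470574)) (tt N78024 F470571) (tt N94984 F470572) (tt N110652 (iv4 F472600)) (tt N77145 (iv5 D213476)) (tt N119914 (iv6 F518015)) (tt N78025 F470573))
theorem Q110240 : ∀ i, i < 110240 → P i := stepQ 110239 Q110239 (allL N110239 (tt N83432 F470580) (tt N83056 F470581) (tt N77351 F470576) (tt N81392 F470577) (tt N77147 (iv4 D213477)) (tt N98035 F470579) (tt N114826 (iv6 F492083)) (tt N77359 F470578))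
theorem Q110241 : ∀ i, i < 110241 → P i := stepQ 110240 Q110240 (allL N110240 (tt N83459 F470585) (tt N109897 (iv0 F470586)) (tt N77352 F470582) (tt N103069 F470583) (tt N114826 (iv4 F492085)) (tt N83382 F470584) (tt N77147 (iv6 D213478)) (tt N113442 (iv7 F485513)))
theorem Q110242 : ∀ i, i < 110242 → P i := stepQ 110241 Q110241 (allL N110241 (tt N83056 F470591) (tt N83432 F470593) (tt N77359 F470587) (tt N90631 (iv3 F470592)) (tt N77150 (iv4 D213479)) (tt N103415 F470588) (tt N88415 F470589) (tt N77351 F470590))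
theorem Q110243 : ∀ i, i < 110243 → P i := stepQ 110242 Q110242 (allL N110242 (tt N110372 (iv1 F471282)) (tt N109667 (iv0 F470598)) (tt N110248 (iv2 F470626)) (tt N77151 (iv3 D213480)) (tt N90605 F470594) (tt N109066 F470595) (tt N83354 F470596) (tt N77364 F470597))
theorem Q110244 : ∀ i, i < 110244 → P i := stepQ 110243 Q110243 (allL N110243 (tt N83489 F470602) (tt N83488 F470603) (tt N77365 F470599) (tt N117392 (iv3 F504799)) (tt N77152 (iv4 D213481)) (tt N87043 F470601) (tt N83494 (iv6 F470604)) (tt N77362 F470600))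
theorem Q110245 : ∀ i, i < 110245 → P i := stepQ 110244 Q110244 (allL N110244 (tt N110355 F471207) (tt N109321 (iv0 F470610)) (tt N77367 F470605) (tt N90684 F470606) (tt N83494 F470607) (tt N90308 F470608) (tt N77152 (iv6 D213482)) (tt N83355 F470609))
theorem Q110246 : ∀ i, i < 110246 → P i := stepQ 110245 Q110245 (allL N110245 (tt N110348 (iv1 F471160)) (tt N88397 F470614) (tt N100765 F470611) (tt N84217 (iv3 F470615)) (tt N77155 (iv4 D213483)) (tt N100758 F470612) (tt N111150 F474941) (tt N77387 F470613))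
theorem Q110247 : ∀ i, i < 110247 → P i := stepQ 110246 Q110246 (allL N110246 (tt N90861 F470619) (tt N84373 (iv0 F470620)) (tt N90849 F470616) (tt N77156 (iv3 D213484)) (tt N84217 F470617) (tt N119982 (iv5 F518379)) (tt N121923 D225182) (tt N77388 F470618))
theorem Q110248 : ∀ i, i < 110248 → P i := stepQ 110247 Q110247 (allL N110247 (tt N83451 F470624) (tt N83450 (iv0 F470625)) (tt N77381 F470621) (tt N121923 (iv3 F529083)) (tt N77157 F470622) (tt N114634 (iv5 F491115)) (tt N77156 (iv6 D213485)) (tt N82705 F470623))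
theorem Q110249 : ∀ i, i < 110249 → P i := stepQ 110248 Q110248 (allL N110248 (tt N110347 (iv1 F471159)) (tt N101094 F470630) (tt N110242 F470626) (tt N90611 F470631) (tt N77158 (iv4 D213486)) (tt N100767 F470627) (tt N90818 F470628) (tt N77396 F470629))
theorem Q110250 : ∀ i, i < 110250 → P i := stepQ 110249 Q110249 (allL N110249 (tt N121508 (iv1 F526761)) (tt N120365 (iv0 F520394)) (tt N110349 (iv2 F471165)) (tt N77159 (iv3 D213487)) (tt N90611 F470632) (tt N112123 (iv5 F479605)) (tt N90819 F470633) (tt N77398 F470634))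
theorem Q110251 : ∀ i, i < 110251 → P i := stepQ 110250 Q110250 (allL N110250 (tt N121924 D225183) (tt N100256 (iv0 F471293)) (tt N113381 (iv2 F485278)) (tt N77162 (iv3 D213488)) (tt N113380 (iv4 F485277)) (tt N115120 (iv5 F493586)) (tt N110373 (iv6 F471290)) (tt N77402 F470635))
theorem Q110252 : ∀ i, i < 110252 → P i := stepQ 110251 Q110251 (allL N110251 (tt N81896 F470641) (tt N81895 F470640) (tt N77458 F470636) (tt N80880 F470637) (tt N85999 F470638) (tt N77171 (iv5 D213489)) (tt N113490 (iv6 F485742)) (tt N77256 F470639))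
theorem Q110253 : ∀ i, i < 110253 → P i := stepQ 110252 Q110252 (allL N110252 (tt N77182 (iv1 D213490)) (tt N77422 F470642) (tt N77424 F470645) (tt N88611 F470646) (tt N112583 (iv4 F481725)) (tt N88496 (iv5 F470644)) (tt N112992 F483466) (tt N77425 F470643))
theorem Q110254 : ∀ i, i < 110254 → P i := stepQ 110253 Q110253 (allL N110253 (tt N78623 (iv1 F470653)) (tt N77185 (iv0 D213491)) (tt N98302 (iv2 F470652)) (tt N82208 F470650) (tt N79897 F470649) (tt N82204 F470648) (tt N109285 F470651) (tt N82202 F470654))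
theorem Q110255 : ∀ i, i < 110255 → P i := stepQ 110254 Q110254 (allL N110254 (tt N110938 (iv1 F473880)) (tt N96016 F470656) (tt N110928 (iv2 F473830)) (tt N120773 F522638) (tt N77186 (iv4 D213492)) (tt N114567 (iv5 F490804)) (tt N94414 F470655) (tt N110937 (iv7 F473875)))
theorem Q110256 : ∀ i, i < 110256 → P i := stepQ 110255 Q110255 (allL N110255 (tt N77324 (iv1 F470662)) (tt N103113 F470663) (tt N101861 F470657) (tt N81108 F470658) (tt N101745 F470659) (tt N77190 F470660) (tt N81064 F470661) (tt N77189 (iv7 D213493)))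
theorem Q110257 : ∀ i, i < 110257 → P i := stepQ 110256 Q110256 (allL N110256 (tt N96187 F470667) (tt N107129 F470668) (tt N107119 F470664) (tt N77194 (iv3 D213494)) (tt N120773 (iv4 F522637)) (tt N118336 (iv5 F509774)) (tt N78101 F470665) (tt N107128 F470666))
theorem Q110258 : ∀ i, i < 110258 → P i := stepQ 110257 Q110257 (allL N110257 (tt N108450 F470672) (tt N113094 F483954) (tt N103116 F470669) (tt N118336 (iv3 F509772)) (tt N103040 F470670) (tt N77194 (iv5 D213495)) (tt N112908 (iv6 F483234)) (tt N103038 F470671))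
theorem Q110259 : ∀ i, i < 110259 → P i := stepQ 110258 Q110258 (allL N110258 (tt N85166 F470677) (tt N85164 (iv0 F470678)) (tt N85312 (iv2 F470679)) (tt N77198 (iv3 D213496)) (tt N84845 F470673) (tt N101072 F470674) (tt N85363 F470675) (tt N84842 F470676))
theorem Q110260 : ∀ i, i < 110260 → P i := stepQ 110259 Q110259 (allL N110259 (tt N101066 F470684) (tt N101397 F470685) (tt N101398 F470680) (tt N105403 F470686) (tt N77201 (iv4 D213497)) (tt N103896 F470683) (tt N98104 F470681) (tt N101399 F470682))
theorem Q110261 : ∀ i, i < 110261 → P i := stepQ 110260 Q110260 (allL N110260 (tt N77216 (iv1 F470692)) (tt N77204 (iv0 D213498)) (tt N77213 (iv2 F470689)) (tt N88638 (iv3 F470693)) (tt N85982 F470688) (tt N103938 F470687) (tt N98577 F470690) (tt N77214 F470691))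
theorem Q110262 : ∀ i, i < 110262 → P i := stepQ 110261 Q110261 (allL N110261 (tt N77214 (iv1 F470698)) (tt N77213 F470699) (tt N77216 F470694) (tt N83964 F470695) (tt N85036 F470696) (tt N77205 F470697) (tt N107993 F470700) (tt N77204 (iv7 D213499)))
theorem Q110263 : ∀ i, i < 110263 → P i := stepQ 110262 Q110262 (allL N110262 (tt N98468 F470703) (tt N98470 (iv0 F470704)) (tt N111233 (iv2 F475347)) (tt N109113 F470701) (tt N98088 F470702) (tt N114713 (iv5 F491483)) (tt N77207 (iv6 D213500)) (tt N121925 D225184))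
theorem Q110264 : ∀ i, i < 110264 → P i := stepQ 110263 Q110263 (allL N110263 (tt N89665 F470711) (tt N110031 F470710) (tt N103938 F470705) (tt N100960 F470706) (tt N78616 F470709) (tt N77213 (iv5 D213501)) (tt N109328 F470707) (tt N88502 F470708))
theorem Q110265 : ∀ i, i < 110265 → P i := stepQ 110264 Q110264 (allL N110264 (tt N80851 F470716) (tt N88636 F470718) (tt N88637 F470712) (tt N77214 (iv3 D213502)) (tt N104477 F470713) (tt N89400 (iv5 F470717)) (tt N85040 F470714) (tt N88638 F470715))
theorem Q110266 : ∀ i, i < 110266 → P i := stepQ 110265 Q110265 (allL N110265 (tt N110031 F470724) (tt N89665 F470725) (tt N88502 F470720) (tt N89400 F470721) (tt N78615 F470723) (tt N77214 (iv5 D213503)) (tt N82825 F470726) (tt N103938 F470722))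
theorem Q110267 : ∀ i, i < 110267 → P i := stepQ 110266 Q110266 (allL N110266 (tt N114474 F490370) (tt N105924 F470729) (tt N114543 F490695) (tt N97988 F470727) (tt N118159 (iv4 F508924)) (tt N77215 (iv5 D213504)) (tt N84250 F470728) (tt N114301 (iv7 F489481)))
theorem Q110268 : ∀ i, i < 110268 → P i := stepQ 110267 Q110267 (allL N110267 (tt N82910 F470733) (tt N82909 F470734) (tt N82911 F470730) (tt N99448 F470731) (tt N119583 (iv4 F516383)) (tt N77218 (iv5 D213505)) (tt N82916 F470735) (tt N82639 F470732))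
theorem Q110269 : ∀ i, i < 110269 → P i := stepQ 110268 Q110268 (allL N110268 (tt N77226 F470741) (tt N109123 F470742) (tt N109294 F470736) (tt N99449 F470737) (tt N108678 F470738) (tt N83126 F470739) (tt N77218 (iv6 D213506)) (tt N83125 F470740))
theorem Q110270 : ∀ i, i < 110270 → P i := stepQ 110269 Q110269 (allL N110269 (tt N77220 (iv1 D213507)) (tt N109293 F470743) (tt N107647 F470747) (tt N91176 (iv3 F470746)) (tt N84789 F470748) (tt N91173 F470745) (tt N83558 (iv6 F470749)) (tt N109295 F470744))
theorem Q110271 : ∀ i, i < 110271 → P i := stepQ 110270 Q110270 (allL N110270 (tt N117998 (iv1 F508002)) (tt N97548 F470754) (tt N109059 F470750) (tt N111189 (iv3 F475152)) (tt N77220 (iv4 D213508)) (tt N99807 F470753) (tt N107922 F470751) (tt N109058 F470752))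
theorem Q110272 : ∀ i, i < 110272 → P i := stepQ 110271 Q110271 (allL N110271 (tt N99791 F470759) (tt N99839 (iv0 F470761)) (tt N105265 F470755) (tt N77224 F470756) (tt N101692 F470757) (tt N110154 F470760) (tt N77221 (iv6 D213509)) (tt N109097 F470758))
theorem Q110273 : ∀ i, i < 110273 → P i := stepQ 110272 Q110272 (allL N110272 (tt N77224 (iv1 D213510)) (tt N110153 F470762) (tt N109556 F470765) (tt N84488 F470766) (tt N112071 (iv4 F479350)) (tt N86386 F470767) (tt N84487 (iv6 F470764)) (tt N110055 F470763))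
theorem Q110274 : ∀ i, i < 110274 → P i := stepQ 110273 Q110273 (allL N110273 (tt N109556 (iv1 F470773)) (tt N110055 F470774) (tt N110153 F470768) (tt N109097 F470769) (tt N109268 F470770) (tt N110065 F470771) (tt N109123 F470772) (tt N77224 (iv7 D213511)))
theorem Q110275 : ∀ i, i < 110275 → P i := stepQ 110274 Q110274 (allL N110274 (tt N103121 F470778) (tt N103118 F470779) (tt N109312 F470775) (tt N95990 F470776) (tt N117589 (iv4 F505866)) (tt N77226 (iv5 D213512)) (tt N83136 F470777) (tt N121257 (iv7 F525413)))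
theorem Q110276 : ∀ i, i < 110276 → P i := stepQ 110275 Q110275 (allL N110275 (tt N109294 (iv1 F470784)) (tt N83125 F470785) (tt N109123 F470780) (tt N104153 F470781) (tt N109267 F470782) (tt N121257 (iv5 F525411)) (tt N110153 F470783) (tt N77226 (iv7 D213513)))
theorem Q110277 : ∀ i, i < 110277 → P i := stepQ 110276 Q110276 (allL N110276 (tt N88713 F470788) (tt N88719 F470789) (tt N88718 F470786) (tt N77230 F470787) (tt N120911 (iv4 F523419)) (tt N113451 (iv5 F485549)) (tt N77227 (iv6 D213514)) (tt N88717 (iv7 F470790)))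
theorem Q110278 : ∀ i, i < 110278 → P i := stepQ 110277 Q110277 (allL N110277 (tt N77342 F470797) (tt N120740 (iv0 F522452)) (tt N98589 F470792) (tt N77231 (iv3 D213515)) (tt N104566 F470793) (tt N86946 F470794) (tt N82566 (iv6 F470796)) (tt N104568 F470795))
theorem Q110279 : ∀ i, i < 110279 → P i := stepQ 110278 Q110278 (allL N110278 (tt N104286 F470801) (tt N102405 (iv0 F470802)) (tt N110313 (iv2 F470990)) (tt N82566 F470798) (tt N77232 F470799) (tt N82565 F470800) (tt N77231 (iv6 D213516)) (tt N112491 (iv7 F481329)))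
theorem Q110280 : ∀ i, i < 110280 → P i := stepQ 110279 Q110279 (allL N110279 (tt N86946 F470808) (tt N92243 F470809) (tt N86929 F470803) (tt N102900 F470804) (tt N77299 F470805) (tt N102893 F470806) (tt N77233 (iv6 D213517)) (tt N86927 F470807))
theorem Q110281 : ∀ i, i < 110281 → P i := stepQ 110280 Q110280 (allL N110280 (tt N102381 F470813) (tt N113333 (iv0 F485081)) (tt N98410 F470810) (tt N104369 F470811) (tt N77244 F470812) (tt N77234 (iv5 D213518)) (tt N115798 (iv6 F496945)) (tt N120399 (iv7 F520582)))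
theorem Q110282 : ∀ i, i < 110282 → P i := stepQ 110281 Q110281 (allL N110281 (tt N102236 (iv1 F470819)) (tt N77235 (iv0 D213519)) (tt N98021 (iv2 F470817)) (tt N119416 (iv3 F515504)) (tt N92662 F470815) (tt N102382 F470814) (tt N92241 F470816) (tt N97601 F470818))
theorem Q110283 : ∀ i, i < 110283 → P i := stepQ 110282 Q110282 (allL N110282 (tt N98021 F470824) (tt N97601 F470825) (tt N77235 (iv2 D213520)) (tt N114432 (iv3 F490129)) (tt N97916 F470820) (tt N97673 F470821) (tt N93978 F470822) (tt N102236 (iv7 F470823)))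
theorem Q110284 : ∀ i, i < 110284 → P i := stepQ 110283 Q110283 (allL N110283 (tt N97601 (iv1 F470832)) (tt N98021 F470833) (tt N102236 F470827) (tt N77237 F470828) (tt N97936 F470829) (tt N98013 F470830) (tt N102013 F470831) (tt N77235 (iv7 D213521)))
theorem Q110285 : ∀ i, i < 110285 → P i := stepQ 110284 Q110284 (allL N110284 (tt N87049 (iv1 F470836)) (tt N77238 (iv0 D213522)) (tt N108035 (iv2 F470837)) (tt N121926 D225185) (tt N116289 (iv4 F499383)) (tt N83194 F470834) (tt N87039 F470835) (tt N113144 (iv7 F484175)))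
theorem Q110286 : ∀ i, i < 110286 → P i := stepQ 110285 Q110285 (allL N110285 (tt N77238 (iv1 D213523)) (tt N87049 F470838) (tt N113144 (iv2 F484178)) (tt N103590 F470842) (tt N120621 (iv4 F521804)) (tt N83193 F470840) (tt N103589 (iv6 F470841)) (tt N108035 F470839))
theorem Q110287 : ∀ i, i < 110287 → P i := stepQ 110286 Q110286 (allL N110286 (tt N90768 F470847) (tt N90776 (iv0 F470848)) (tt N85771 F470843) (tt N77240 (iv3 D213524)) (tt N109528 F470844) (tt N84923 F470849) (tt N85766 F470845) (tt N92642 F470846))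
theorem Q110288 : ∀ i, i < 110288 → P i := stepQ 110287 Q110287 (allL N110287 (tt N92805 F470853) (tt N92807 F470854) (tt N92814 F470850) (tt N84923 F470851) (tt N113146 (iv4 F484184)) (tt N77240 (iv5 D213525)) (tt N84920 F470855) (tt N92813 F470852))
theorem Q110289 : ∀ i, i < 110289 → P i := stepQ 110288 Q110288 (allL N110288 (tt N83234 F470861) (tt N100898 F470862) (tt N100654 F470856) (tt N77245 (iv3 D213526)) (tt N94073 F470857) (tt N77298 F470858) (tt N83306 F470859) (tt N100893 F470860))
theorem Q110290 : ∀ i, i < 110290 → P i := stepQ 110289 Q110289 (allL N110289 (tt N90437 F470867) (tt N101091 F470868) (tt N89161 F470863) (tt N100612 F470864) (tt N90055 F470866) (tt N77247 (iv5 D213527)) (tt N86776 F470865) (tt N116302 (iv7 F499452)))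
theorem Q110291 : ∀ i, i < 110291 → P i := stepQ 110290 Q110290 (allL N110290 (tt N77252 (iv1 F470874)) (tt N77248 (iv0 D213528)) (tt N77249 (iv2 F470873)) (tt N89163 F470871) (tt N77314 F470870) (tt N108408 F470869) (tt N104203 F470872) (tt N77250 F470875))
theorem Q110292 : ∀ i, i < 110292 → P i := stepQ 110291 Q110291 (allL N110291 (tt N98357 F470881) (tt N101177 F470882) (tt N101175 F470876) (tt N80481 F470877) (tt N77259 (iv4 D213529)) (tt N80478 F470878) (tt N80479 F470879) (tt N101174 F470880))
theorem Q110293 : ∀ i, i < 110293 → P i := stepQ 110292 Q110292 (allL N110292 (tt N88415 F470887) (tt N88416 F470888) (tt N83311 F470883) (tt N120060 (iv3 F518832)) (tt N83432 F470884) (tt N77262 (iv5 D213530)) (tt N77380 F470885) (tt N82740 F470886))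
theorem Q110294 : ∀ i, i < 110294 → P i := stepQ 110293 Q110293 (allL N110293 (tt N78010 F470893) (tt N96258 F470894) (tt N109222 F470889) (tt N77264 (iv3 D213531)) (tt N94221 F470890) (tt N109138 F470891) (tt N121478 (iv6 F526597)) (tt N109192 F470892))
theorem Q110295 : ∀ i, i < 110295 → P i := stepQ 110294 Q110294 (allL N110294 (tt N83318 (iv1 F470897)) (tt N102760 (iv0 F470896)) (tt N112166 (iv2 F479850)) (tt N121478 (iv3 F526596)) (tt N110422 (iv4 F471504)) (tt N110148 F470895) (tt N77264 (iv6 D213532)) (tt N112165 (iv7 F479847)))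
theorem Q110296 : ∀ i, i < 110296 → P i := stepQ 110295 Q110295 (allL N110295 (tt N108713 F470901) (tt N108689 F470902) (tt N108711 F470898) (tt N111530 (iv3 F476766)) (tt N77269 (iv4 D213533)) (tt N108251 F470899) (tt N118503 (iv6 F510719)) (tt N108712 F470900))
theorem Q110297 : ∀ i, i < 110297 → P i := stepQ 110296 Q110296 (allL N110296 (tt N119896 F517914) (tt N119100 (iv0 F513790)) (tt N107100 F470903) (tt N77271 F470904) (tt N118503 (iv4 F510717)) (tt N90975 F470905) (tt N77269 (iv6 D213534)) (tt N116655 (iv7 F501165)))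
theorem Q110298 : ∀ i, i < 110298 → P i := stepQ 110297 Q110297 (allL N110297 (tt N79605 F470909) (tt N112170 F479876) (tt N112163 (iv2 F479836)) (tt N79585 F470906) (tt N77271 F470907) (tt N101671 F470908) (tt N77270 (iv6 D213535)) (tt N112162 (iv7 F479833)))
theorem Q110299 : ∀ i, i < 110299 → P i := stepQ 110298 Q110298 (allL N110298 (tt N77271 (iv1 D213536)) (tt N107963 F470910) (tt N79569 (iv2 F470913)) (tt N117084 F503297) (tt N79567 F470912) (tt N117103 (iv5 F503404)) (tt N82185 (iv6 F470914)) (tt N107962 F470911))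
theorem Q110300 : ∀ i, i < 110300 → P i := stepQ 110299 Q110299 (allL N110299 (tt N91747 F470918) (tt N88032 (iv0 F470919)) (tt N91745 F470915) (tt N90975 F470916) (tt N118409 (iv4 F510191)) (tt N77271 (iv5 D213537)) (tt N77272 F470917) (tt N91746 (iv7 F470920)))
theorem Q110301 : ∀ i, i < 110301 → P i := stepQ 110300 Q110300 (allL N110300 (tt N79569 (iv1 F470924)) (tt N107962 F470925) (tt N107963 F470921) (tt N116655 (iv3 F501164)) (tt N112162 (iv4 F479831)) (tt N91746 F470922) (tt N83203 F470923) (tt N77271 (iv7 D213538)))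
theorem Q110302 : ∀ i, i < 110302 → P i := stepQ 110301 Q110301 (allL N110301 (tt N113292 (iv1 F484884)) (tt N77274 (iv0 D213539)) (tt N113155 (iv2 F484238)) (tt N106088 (iv3 F470929)) (tt N97408 F470927) (tt N87833 F470926) (tt N83316 F470928) (tt N106085 (iv7 F470930)))
theorem Q110303 : ∀ i, i < 110303 → P i := stepQ 110302 Q110302 (allL N110302 (tt N77274 (iv1 D213540)) (tt N113292 F484883) (tt N106085 F470933) (tt N107065 (iv3 F470932)) (tt N111748 F477775) (tt N87834 F470931) (tt N91718 (iv6 F470934)) (tt N113155 (iv7 F484240)))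
theorem Q110304 : ∀ i, i < 110304 → P i := stepQ 110303 Q110303 (allL N110303 (tt N110763 (iv1 F473059)) (tt N116573 (iv0 F500798)) (tt N99238 F470935) (tt N100399 F470936) (tt N77277 (iv4 D213541)) (tt N99219 F470937) (tt N110755 (iv6 F473025)) (tt N99237 F470938))
theorem Q110305 : ∀ i, i < 110305 → P i := stepQ 110304 Q110304 (allL N110304 (tt N77290 (iv1 F470943)) (tt N77289 F470944) (tt N77291 F470939) (tt N78958 F470940) (tt N111799 (iv4 F478029)) (tt N87661 F470941) (tt N83865 F470942) (tt N77286 (iv7 D213542)))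
theorem Q110306 : ∀ i, i < 110306 → P i := stepQ 110305 Q110305 (allL N110305 (tt N90682 F470948) (tt N84216 (iv0 F470949)) (tt N99939 F470945) (tt N84174 F470946) (tt N115771 (iv4 F496784)) (tt N84173 F470947) (tt N77289 (iv6 D213543)) (tt N117338 (iv7 F504531)))
theorem Q110307 : ∀ i, i < 110307 → P i := stepQ 110306 Q110306 (allL N110306 (tt N99862 (iv1 F470955)) (tt N77292 (iv0 D213544)) (tt N99451 (iv2 F470953)) (tt N99856 F470951) (tt N108253 F470950) (tt N119156 (iv5 F514089)) (tt N105217 F470952) (tt N99888 F470954))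
theorem Q110308 : ∀ i, i < 110308 → P i := stepQ 110307 Q110307 (allL N110307 (tt N121077 (iv1 F524398)) (tt N107656 F470960) (tt N100560 F470956) (tt N77293 F470957) (tt N96609 F470959) (tt N77292 (iv5 D213545)) (tt N100559 F470958) (tt N115347 (iv7 F494712)))
theorem Q110309 : ∀ i, i < 110309 → P i := stepQ 110308 Q110308 (allL N110308 (tt N99888 (iv1 F470965)) (tt N99451 F470966) (tt N99862 F470961) (tt N77294 F470962) (tt N99634 F470963) (tt N115347 (iv5 F494711)) (tt N99820 F470964) (tt N77292 (iv7 D213546)))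
theorem Q110310 : ∀ i, i < 110310 → P i := stepQ 110309 Q110309 (allL N110309 (tt N77296 (iv1 D213547)) (tt N105176 F470967) (tt N105175 F470972) (tt N84216 (iv3 F470970)) (tt N81045 F470969) (tt N113003 (iv5 F483514)) (tt N77363 (iv6 F470971)) (tt N105174 F470968))
theorem Q110311 : ∀ i, i < 110311 → P i := stepQ 110310 Q110310 (allL N110310 (tt N105175 (iv1 F470978)) (tt N105174 F470979) (tt N105176 F470973) (tt N100810 F470974) (tt N88642 F470975) (tt N101227 F470976) (tt N85664 F470977) (tt N77296 (iv7 D213548)))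
theorem Q110312 : ∀ i, i < 110312 → P i := stepQ 110311 Q110311 (allL N110311 (tt N85665 (iv1 F470984)) (tt N84123 F470985) (tt N85664 F470980) (tt N94921 F470981) (tt N112379 (iv4 F480816)) (tt N101239 F470982) (tt N105176 F470983) (tt N77297 (iv7 D213549)))
theorem Q110313 : ∀ i, i < 110313 → P i := stepQ 110312 Q110312 (allL N110312 (tt N113036 F483661) (tt N121177 F524961) (tt N105315 F470986) (tt N77299 F470987) (tt N120879 (iv4 F523245)) (tt N83307 F470988) (tt N77298 (iv6 D213550)) (tt N86926 F470989))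
theorem Q110314 : ∀ i, i < 110314 → P i := stepQ 110313 Q110313 (allL N110313 (tt N105472 (iv1 F470995)) (tt N90414 (iv0 F470994)) (tt N110278 F470990) (tt N104907 F470991) (tt N86023 F470992) (tt N81764 F470993) (tt N77302 (iv6 D213551)) (tt N112818 (iv7 F482768)))
theorem Q110315 : ∀ i, i < 110315 → P i := stepQ 110314 Q110314 (allL N110314 (tt N102411 (iv1 F470997)) (tt N77303 (iv0 D213552)) (tt N120812 (iv2 F522862)) (tt N97908 (iv3 F470998)) (tt N97910 F470996) (tt N120970 (iv5 F523777)) (tt N119644 (iv6 F516677)) (tt N119431 (iv7 F515586)))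
theorem Q110316 : ∀ i, i < 110316 → P i := stepQ 110315 Q110315 (allL N110315 (tt N77303 (iv1 D213553)) (tt N102411 F470999) (tt N119431 (iv2 F515583)) (tt N97571 F471003) (tt N102364 F471001) (tt N103326 F471000) (tt N97553 (iv6 F471002)) (tt N120812 (iv7 F522857)))
theorem Q110317 : ∀ i, i < 110317 → P i := stepQ 110316 Q110316 (allL N110316 (tt N113050 F483732) (tt N120606 (iv0 F521721)) (tt N106890 F471004) (tt N97696 F471005) (tt N77306 F471006) (tt N102201 F471007) (tt N77305 (iv6 D213554)) (tt N102416 F471008))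
theorem Q110318 : ∀ i, i < 110318 → P i := stepQ 110317 Q110317 (allL N110317 (tt N109066 (iv1 F471014)) (tt N84212 (iv0 F471013)) (tt N99916 F471009) (tt N96292 F471010) (tt N100787 F471011) (tt N110348 (iv5 F471162)) (tt N77311 (iv6 D213555)) (tt N83840 F471012))
theorem Q110319 : ∀ i, i < 110319 → P i := stepQ 110318 Q110318 (allL N110318 (tt N89637 F471018) (tt N107114 F471019) (tt N105641 F471015) (tt N112389 (iv3 F480876)) (tt N77312 (iv4 D213556)) (tt N99417 F471016) (tt N77319 F471017) (tt N108360 F471020))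
theorem Q110320 : ∀ i, i < 110320 → P i := stepQ 110319 Q110319 (allL N110319 (tt N82165 (iv1 F471026)) (tt N107111 F471027) (tt N109727 F471021) (tt N77325 F471022) (tt N108360 F471023) (tt N77313 F471024) (tt N107023 F471025) (tt N77312 (iv7 D213557)))
theorem Q110321 : ∀ i, i < 110321 → P i := stepQ 110320 Q110320 (allL N110320 (tt N112538 F481572) (tt N101779 (iv0 F471032)) (tt N116300 (iv2 F499439)) (tt N77316 F471028) (tt N104203 F471029) (tt N110092 F471031) (tt N77314 (iv6 D213558)) (tt N109758 F471030))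
theorem Q110322 : ∀ i, i < 110322 → P i := stepQ 110321 Q110321 (allL N110321 (tt N89962 F471036) (tt N82611 F471037) (tt N89959 F471033) (tt N110092 F471034) (tt N113374 (iv4 F485236)) (tt N77316 (iv5 D213559)) (tt N121688 (iv6 F527753)) (tt N89960 F471035))
theorem Q110323 : ∀ i, i < 110323 → P i := stepQ 110322 Q110322 (allL N110322 (tt N107929 F471044) (tt N116729 (iv0 F501535)) (tt N108438 F471040) (tt N96297 F471041) (tt N106062 F471042) (tt N107277 F471043) (tt N77317 (iv6 D213560)) (tt N119951 (iv7 F518211)))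
theorem Q110324 : ∀ i, i < 110324 → P i := stepQ 110323 Q110323 (allL N110323 (tt N77319 (iv1 D213561)) (tt N82188 F471045) (tt N101108 (iv2 F471049)) (tt N90908 F471051) (tt N80590 F471048) (tt N107460 F471047) (tt N89118 (iv6 F471050)) (tt N101107 F471046))
theorem Q110325 : ∀ i, i < 110325 → P i := stepQ 110324 Q110324 (allL N110324 (tt N99866 F471056) (tt N99864 (iv0 F471057)) (tt N96269 F471052) (tt N77322 F471053) (tt N82074 F471054) (tt N110340 (iv5 F471123)) (tt N77321 (iv6 D213562)) (tt N84122 F471055))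
theorem Q110326 : ∀ i, i < 110326 → P i := stepQ 110325 Q110325 (allL N110325 (tt N81065 F471063) (tt N81066 (iv0 F471064)) (tt N94067 F471058) (tt N105134 F471059) (tt N82171 F471060) (tt N86384 F471061) (tt N77323 (iv6 D213563)) (tt N107383 F471062))
theorem Q110327 : ∀ i, i < 110327 → P i := stepQ 110326 Q110326 (allL N110326 (tt N77331 (iv1 F471066)) (tt N77329 (iv0 D213564)) (tt N110992 (iv2 F474126)) (tt N113936 F487871) (tt N113004 (iv4 F483519)) (tt N105174 F471065) (tt N82676 (iv6 F471067)) (tt N113003 (iv7 F483515)))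
theorem Q110328 : ∀ i, i < 110328 → P i := stepQ 110327 Q110327 (allL N110327 (tt N77329 (iv1 D213565)) (tt N77331 F471068) (tt N113003 (iv2 F483512)) (tt N121829 F528570) (tt N83507 F471071) (tt N105175 F471069) (tt N82671 (iv6 F471070)) (tt N110992 (iv7 F474128)))
theorem Q110329 : ∀ i, i < 110329 → P i := stepQ 110328 Q110328 (allL N110328 (tt N86387 F471075) (tt N82670 F471076) (tt N86384 F471072) (tt N94068 F471077) (tt N77329 (iv4 D213566)) (tt N94067 F471074) (tt N77329 (iv6 F471078)) (tt N86385 F471073))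
theorem Q110330 : ∀ i, i < 110330 → P i := stepQ 110329 Q110329 (allL N110329 (tt N118570 (iv1 F510956)) (tt N108378 F471080) (tt N118571 (iv2 F510961)) (tt N77331 F471079) (tt N110715 (iv4 F472874)) (tt N77330 (iv5 D213567)) (tt N121927 D225186) (tt N110714 F472872))
theorem Q110331 : ∀ i, i < 110331 → P i := stepQ 110330 Q110330 (allL N110330 (tt N82670 F471084) (tt N86387 F471085) (tt N86385 F471081) (tt N121928 D225187) (tt N77331 (iv4 D213568)) (tt N107383 F471082) (tt N118004 (iv6 F508035)) (tt N86384 F471083))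
theorem Q110332 : ∀ i, i < 110332 → P i := stepQ 110331 Q110331 (allL N110331 (tt N114750 F491662) (tt N113330 (iv0 F485065)) (tt N118005 (iv2 F508044)) (tt N121927 (iv3 F529110)) (tt N118004 (iv4 F508034)) (tt N114973 (iv5 F492849)) (tt N77331 (iv6 D213569)) (tt N118004 F508038))
theorem Q110333 : ∀ i, i < 110333 → P i := stepQ 110332 Q110332 (allL N110332 (tt N82935 F471088) (tt N85553 F471089) (tt N85555 F471086) (tt N121796 (iv3 F528369)) (tt N114974 (iv4 F492855)) (tt N77332 (iv5 D213570)) (tt N114973 (iv6 F492852)) (tt N85554 F471087))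
theorem Q110334 : ∀ i, i < 110334 → P i := stepQ 110333 Q110333 (allL N110333 (tt N101292 F471091) (tt N113365 F485195) (tt N120253 (iv2 F519827)) (tt N77334 (iv3 D213571)) (tt N97109 (iv4 F471092)) (tt N97094 F471090) (tt N121080 (iv6 F524413)) (tt N120279 (iv7 F519992)))
theorem Q110335 : ∀ i, i < 110335 → P i := stepQ 110334 Q110334 (allL N110334 (tt N104407 F471097) (tt N102819 (iv0 F471098)) (tt N102847 F471093) (tt N83652 F471094) (tt N104377 F471095) (tt N111685 (iv5 F477471)) (tt N77338 (iv6 D213572)) (tt N104397 F471096))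
theorem Q110336 : ∀ i, i < 110336 → P i := stepQ 110335 Q110335 (allL N110335 (tt N120740 F522453) (tt N77342 (iv0 D213573)) (tt N104568 (iv2 F471103)) (tt N92244 F471101) (tt N104565 F471100) (tt N92243 F471099) (tt N104368 F471102) (tt N98589 F471104))
theorem Q110337 : ∀ i, i < 110337 → P i := stepQ 110336 Q110336 (allL N110336 (tt N85605 F471109) (tt N85602 F471110) (tt N77347 F471105) (tt N99765 F471106) (tt N106806 F471107) (tt N113884 (iv5 F487622)) (tt N77345 (iv6 D213574)) (tt N109134 F471108))
theorem Q110338 : ∀ i, i < 110338 → P i := stepQ 110337 Q110337 (allL N110337 (tt N98129 (iv1 F471113)) (tt N77346 (iv0 D213575)) (tt N109546 (iv2 F471112)) (tt N113887 (iv3 F487638)) (tt N100971 F471111) (tt N111883 (iv5 F478482)) (tt N113887 (iv6 F487640)) (tt N84031 F471114))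
theorem Q110339 : ∀ i, i < 110339 → P i := stepQ 110338 Q110338 (allL N110338 (tt N114016 F488208) (tt N113716 (iv0 F486800)) (tt N111781 (iv2 F477941)) (tt N106811 F471115) (tt N111904 (iv4 F478561)) (tt N77346 (iv5 D213576)) (tt N106810 F471116) (tt N114014 (iv7 F488203)))
theorem Q110340 : ∀ i, i < 110340 → P i := stepQ 110339 Q110339 (allL N110339 (tt N111761 F477840) (tt N77348 (iv0 D213577)) (tt N95475 (iv2 F471121)) (tt N102697 F471118) (tt N87201 F471117) (tt N102692 F471119) (tt N102695 F471120) (tt N95477 F471122))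
theorem Q110341 : ∀ i, i < 110341 → P i := stepQ 110340 Q110340 (allL N110340 (tt N101296 (iv1 F471127)) (tt N101294 (iv0 F471126)) (tt N119101 (iv2 F513792)) (tt N77350 (iv3 D213578)) (tt N112595 (iv4 F481757)) (tt N110324 F471123) (tt N83395 F471124) (tt N83051 F471125))
theorem Q110342 : ∀ i, i < 110342 → P i := stepQ 110341 Q110341 (allL N110341 (tt N121929 D225188) (tt N110418 (iv0 F471483)) (tt N114826 (iv2 F492081)) (tt N121160 (iv3 F524855)) (tt N77352 F471128) (tt N83557 F471129) (tt N77351 (iv6 D213579)) (tt N114827 (iv7 F492091)))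
theorem Q110343 : ∀ i, i < 110343 → P i := stepQ 110342 Q110342 (allL N110342 (tt N113442 F485515) (tt N77352 (iv0 D213580)) (tt N83459 (iv2 F471137)) (tt N109900 F471138) (tt N110343 (iv4 F471130)) (tt N110378 F471306) (tt N77382 F471134) (tt N109897 (iv7 F471136)))
theorem Q110344 : ∀ i, i < 110344 → P i := stepQ 110343 Q110343 (allL N110343 (tt N77352 (iv1 D213581)) (tt N113442 (iv0 F485514)) (tt N109897 F471133) (tt N118642 (iv3 F511299)) (tt N110342 F471130) (tt N85145 (iv5 F471131)) (tt N109896 (iv6 F471132)) (tt N83459 F471135))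
theorem Q110345 : ∀ i, i < 110345 → P i := stepQ 110344 Q110344 (allL N110344 (tt N109897 (iv1 F471141)) (tt N83459 F471142) (tt N113442 (iv2 F485510)) (tt N114323 (iv3 F489603)) (tt N114827 (iv4 F492089)) (tt N83381 F471139) (tt N83308 F471140) (tt N77352 (iv7 D213582)))
theorem Q110346 : ∀ i, i < 110346 → P i := stepQ 110345 Q110345 (allL N110345 (tt N85553 F471147) (tt N82935 F471148) (tt N85554 F471143) (tt N96238 F471144) (tt N118357 (iv4 F509890)) (tt N77353 (iv5 D213583)) (tt N103102 F471145) (tt N85555 F471146))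
theorem Q110347 : ∀ i, i < 110347 → P i := stepQ 110346 Q110346 (allL N110346 (tt N109059 F471152) (tt N109058 F471153) (tt N97548 F471149) (tt N89622 F471154) (tt N77354 (iv4 D213584)) (tt N97536 F471150) (tt N89621 F471151) (tt N117998 (iv7 F508000)))
theorem Q110348 : ∀ i, i < 110348 → P i := stepQ 110347 Q110347 (allL N110347 (tt N77364 F471158) (tt N110248 F471159) (tt N110372 F471286) (tt N109209 F471155) (tt N81836 F471156) (tt N77356 (iv5 D213585)) (tt N116787 (iv6 F501832)) (tt N109667 F471157))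
theorem Q110349 : ∀ i, i < 110349 → P i := stepQ 110348 Q110348 (allL N110348 (tt N77357 (iv1 D213586)) (tt N110245 F471160) (tt N110365 F471252) (tt N89354 F471164) (tt N81838 F471163) (tt N110317 F471162) (tt N110412 F471454) (tt N83035 F471161))
theorem Q110350 : ∀ i, i < 110350 → P i := stepQ 110349 Q110349 (allL N110349 (tt N110375 (iv1 F471299)) (tt N110374 F471295) (tt N110249 F471165) (tt N107183 F471166) (tt N77361 (iv4 D213587)) (tt N107182 F471167) (tt N113378 (iv6 F485262)) (tt N110376 (iv7 F471298)))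
theorem Q110351 : ∀ i, i < 110351 → P i := stepQ 110350 Q110350 (allL N110350 (tt N77362 (iv1 D213588)) (tt N77365 F471168) (tt N83489 F471173) (tt N121930 D225189) (tt N101739 F471170) (tt N107059 F471171) (tt N77392 (iv6 F471172)) (tt N83488 F471169))
theorem Q110352 : ∀ i, i < 110352 → P i := stepQ 110351 Q110351 (allL N110351 (tt N81396 F471177) (tt N81399 F471178) (tt N90606 (iv2 F471179)) (tt N77365 (iv3 D213589)) (tt N81375 F471174) (tt N92236 F471175) (tt N90838 F471180) (tt N83487 F471176))
theorem Q110353 : ∀ i, i < 110353 → P i := stepQ 110352 Q110352 (allL N110352 (tt N83493 F471186) (tt N83492 (iv0 F471187)) (tt N83494 F471181) (tt N90838 F471182) (tt N77367 F471183) (tt N83133 F471184) (tt N77365 (iv6 D213590)) (tt N83065 F471185))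
theorem Q110354 : ∀ i, i < 110354 → P i := stepQ 110353 Q110353 (allL N110353 (tt N77369 (iv1 D213591)) (tt N105312 F471188) (tt N106593 (iv2 F471196)) (tt N121931 D225190) (tt N109826 F471197) (tt N121177 (iv5 F524957)) (tt N109817 F471198) (tt N113190 (iv7 F484398)))
theorem Q110355 : ∀ i, i < 110355 → P i := stepQ 110354 Q110354 (allL N110354 (tt N106593 (iv1 F471194)) (tt N113190 (iv0 F484399)) (tt N105312 F471189) (tt N77371 F471190) (tt N109997 F471191) (tt N105211 F471192) (tt N106518 (iv6 F471195)) (tt N77369 (iv7 D213592)))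
theorem Q110356 : ∀ i, i < 110356 → P i := stepQ 110355 Q110355 (allL N110355 (tt N83350 F471206) (tt N110244 (iv0 F471207)) (tt N90390 F471201) (tt N106518 F471202) (tt N77372 F471203) (tt N90230 F471204) (tt N77371 (iv6 D213593)) (tt N77410 F471205))
theorem Q110357 : ∀ i, i < 110357 → P i := stepQ 110356 Q110356 (allL N110356 (tt N78026 F471210) (tt N110017 F472599) (tt N120468 (iv2 F520936)) (tt N107334 F471208) (tt N77376 (iv4 D213594)) (tt N110767 (iv5 F473081)) (tt N110008 F473083) (tt N83305 F471209))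
theorem Q110358 : ∀ i, i < 110358 → P i := stepQ 110357 Q110357 (allL N110357 (tt N107195 F471215) (tt N119977 (iv0 F518355)) (tt N109497 (iv2 F471216)) (tt N77379 (iv3 D213595)) (tt N109514 F471211) (tt N107191 F471212) (tt N82731 F471213) (tt N83309 F471214))
theorem Q110359 : ∀ i, i < 110359 → P i := stepQ 110358 Q110358 (allL N110358 (tt N121847 F528676) (tt N89897 (iv0 F471218)) (tt N120092 (iv2 F518997)) (tt N77380 (iv3 D213596)) (tt N121543 (iv4 F526950)) (tt N116599 (iv5 F500922)) (tt N120060 F518836) (tt N83312 F471217))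
theorem Q110360 : ∀ i, i < 110360 → P i := stepQ 110359 Q110359 (allL N110359 (tt N82705 (iv1 F471221)) (tt N77381 (iv0 D213597)) (tt N83451 (iv2 F471222)) (tt N121226 (iv3 F525237)) (tt N83472 F471220) (tt N91731 F471219) (tt N121929 (iv6 F529121)) (tt N83450 (iv7 F471223)))
theorem Q110361 : ∀ i, i < 110361 → P i := stepQ 110360 Q110360 (allL N110360 (tt N77381 (iv1 D213598)) (tt N82705 F471224) (tt N83450 (iv2 F471228)) (tt N89870 F471229) (tt N83471 F471227) (tt N85240 F471226) (tt N83471 (iv6 F471230)) (tt N83451 F471225))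
theorem Q110362 : ∀ i, i < 110362 → P i := stepQ 110361 Q110361 (allL N110361 (tt N77518 F471235) (tt N106282 F471236) (tt N83458 F471231) (tt N106290 F471232) (tt N89588 F471234) (tt N77382 (iv5 D213599)) (tt N86749 F471237) (tt N83455 F471233))
theorem Q110363 : ∀ i, i < 110363 → P i := stepQ 110362 Q110362 (allL N110362 (tt N106282 F471242) (tt N77518 F471243) (tt N83455 F471238) (tt N120213 (iv3 F519628)) (tt N89587 F471239) (tt N77383 (iv5 D213600)) (tt N106275 F471240) (tt N83458 F471241))
theorem Q110364 : ∀ i, i < 110364 → P i := stepQ 110363 Q110363 (allL N110363 (tt N90142 F471245) (tt N113317 (iv0 F484996)) (tt N112319 (iv2 F480528)) (tt N120222 (iv3 F519676)) (tt N117399 (iv4 F504835)) (tt N106373 F471244) (tt N77384 (iv6 D213601)) (tt N116787 (iv7 F501833)))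
theorem Q110365 : ∀ i, i < 110365 → P i := stepQ 110364 Q110364 (allL N110364 (tt N83469 F480533) (tt N113427 F485456) (tt N112323 (iv2 F480551)) (tt N120463 (iv3 F520912)) (tt N107415 F471246) (tt N116814 (iv5 F501977)) (tt N77386 (iv6 D213602)) (tt N113183 (iv7 F484360)))
theorem Q110366 : ∀ i, i < 110366 → P i := stepQ 110365 Q110365 (allL N110365 (tt N77387 (iv1 D213603)) (tt N100765 F471247) (tt N110348 (iv2 F471252)) (tt N99917 (iv3 F471251)) (tt N101501 F471250) (tt N99916 F471249) (tt N113177 (iv6 F484338)) (tt N88397 F471248))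
theorem Q110367 : ∀ i, i < 110367 → P i := stepQ 110366 Q110366 (allL N110366 (tt N77388 (iv1 D213604)) (tt N90849 (iv0 F471257)) (tt N90861 (iv2 F471255)) (tt N116519 (iv3 F500581)) (tt N84374 F471254) (tt N116624 (iv5 F501032)) (tt N83466 (iv6 F471256)) (tt N84373 F471253))
theorem Q110368 : ∀ i, i < 110368 → P i := stepQ 110367 Q110367 (allL N110367 (tt N84373 (iv1 F471263)) (tt N90861 F471262) (tt N77388 (iv2 D213605)) (tt N83315 F471258) (tt N84218 F471259) (tt N119984 (iv5 F518389)) (tt N83059 F471260) (tt N90849 F471261))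
theorem Q110369 : ∀ i, i < 110369 → P i := stepQ 110368 Q110368 (allL N110368 (tt N105656 F471268) (tt N92152 (iv0 F471269)) (tt N91151 F471264) (tt N77389 (iv3 D213606)) (tt N77393 F471265) (tt N91082 F471266) (tt N88420 F471267) (tt N117133 (iv7 F503560)))
theorem Q110370 : ∀ i, i < 110370 → P i := stepQ 110369 Q110369 (allL N110369 (tt N117167 F503719) (tt N109502 (iv0 F471275)) (tt N106643 F471274) (tt N77391 (iv3 D213607)) (tt N109507 F471270) (tt N106795 F471271) (tt N99362 (iv6 F471273)) (tt N107062 F471272))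
theorem Q110371 : ∀ i, i < 110371 → P i := stepQ 110370 Q110370 (allL N110370 (tt N106947 F471280) (tt N83347 (iv0 F471281)) (tt N110401 (iv2 F471406)) (tt N99362 F471276) (tt N83492 F471277) (tt N99361 F471278) (tt N77391 (iv6 D213608)) (tt N102674 F471279))
theorem Q110372 : ∀ i, i < 110372 → P i := stepQ 110371 Q110371 (allL N110371 (tt N121932 D225191) (tt N117405 (iv0 F504869)) (tt N121933 D225192) (tt N77392 (iv3 D213609)) (tt N121884 (iv4 F528898)) (tt N121518 (iv5 F526817)) (tt N121930 (iv6 F529129)) (tt N110400 (iv7 F471405)))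
theorem Q110373 : ∀ i, i < 110373 → P i := stepQ 110372 Q110372 (allL N110372 (tt N77396 (iv1 D213610)) (tt N110242 F471282) (tt N110347 (iv2 F471286)) (tt N120079 F518937) (tt N101095 F471285) (tt N100764 F471284) (tt N116923 (iv6 F502515)) (tt N101094 F471283))
theorem Q110374 : ∀ i, i < 110374 → P i := stepQ 110373 Q110373 (allL N110373 (tt N109604 (iv1 F471291)) (tt N83029 F471292) (tt N111146 (iv2 F474920)) (tt N77401 F471287) (tt N100255 F471288) (tt N100209 F471289) (tt N110250 F471290) (tt N77397 (iv7 D213611)))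
theorem Q110375 : ∀ i, i < 110375 → P i := stepQ 110374 Q110374 (allL N110374 (tt N110349 (iv1 F471295)) (tt N77398 (iv0 D213612)) (tt N120365 (iv2 F520391)) (tt N113170 (iv3 F484310)) (tt N81397 F471294) (tt N119983 (iv5 F518382)) (tt N81396 (iv6 F471296)) (tt N121508 (iv7 F526758)))
theorem Q110376 : ∀ i, i < 110376 → P i := stepQ 110375 Q110375 (allL N110375 (tt N77398 (iv1 D213613)) (tt N110349 F471299) (tt N121508 (iv2 F526755)) (tt N121934 D225193) (tt N114019 (iv4 F488224)) (tt N117082 (iv5 F503284)) (tt N117083 (iv6 F503289)) (tt N120365 (iv7 F520393)))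
theorem Q110377 : ∀ i, i < 110377 → P i := stepQ 110376 Q110376 (allL N110376 (tt N120365 (iv1 F520395)) (tt N121508 (iv0 F526760)) (tt N77398 (iv2 D213614)) (tt N117397 (iv3 F504823)) (tt N90612 F471297) (tt N117241 (iv5 F504068)) (tt N117158 (iv6 F503682)) (tt N110349 F471298))
theorem Q110378 : ∀ i, i < 110378 → P i := stepQ 110377 Q110377 (allL N110377 (tt N121935 D225194) (tt N115433 (iv0 F495173)) (tt N117158 (iv2 F503679)) (tt N77399 F471300) (tt N90790 F471301) (tt N114900 (iv5 F492423)) (tt N77398 (iv6 D213615)) (tt N83555 (iv7 F471302)))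
theorem Q110379 : ∀ i, i < 110379 → P i := stepQ 110378 Q110378 (allL N110378 (tt N77400 (iv1 D213616)) (tt N83380 F471303) (tt N89856 F471307) (tt N110557 (iv3 F472130)) (tt N85851 F471305) (tt N110342 (iv5 F471306)) (tt N114760 (iv6 F491716)) (tt N86067 F471304))
theorem Q110380 : ∀ i, i < 110380 → P i := stepQ 110379 Q110379 (allL N110379 (tt N89856 (iv1 F471312)) (tt N86067 F471313) (tt N83380 F471308) (tt N100209 F471309) (tt N84785 F471310) (tt N77401 F471311) (tt N111845 (iv6 F478277)) (tt N77400 (iv7 D213617)))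
theorem Q110381 : ∀ i, i < 110381 → P i := stepQ 110380 Q110380 (allL N110380 (tt N113381 F485284) (tt N77402 (iv0 D213618)) (tt N100256 (iv2 F471317)) (tt N107617 (iv3 F471318)) (tt N121822 (iv4 F528524)) (tt N107616 F471315) (tt N100182 F471316) (tt N121924 (iv7 F529095)))
theorem Q110382 : ∀ i, i < 110382 → P i := stepQ 110381 Q110381 (allL N110381 (tt N77402 (iv1 D213619)) (tt N113381 (iv0 F485283)) (tt N121924 F529093) (tt N121936 D225195) (tt N113169 (iv4 F484307)) (tt N107025 (iv5 F471321)) (tt N107027 (iv6 F471320)) (tt N100256 F471319))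
theorem Q110383 : ∀ i, i < 110383 → P i := stepQ 110382 Q110382 (allL N110382 (tt N100256 F471325) (tt N121924 F529094) (tt N77402 (iv2 D213620)) (tt N83486 F471322) (tt N83354 F471323) (tt N116413 (iv5 F499974)) (tt N90605 F471324) (tt N113381 (iv7 F485281)))
theorem Q110384 : ∀ i, i < 110384 → P i := stepQ 110383 Q110383 (allL N110383 (tt N77403 (iv1 D213621)) (tt N83486 (iv0 F471332)) (tt N85480 F471330) (tt N106032 F471331) (tt N85462 F471327) (tt N106755 (iv5 F471328)) (tt N89260 (iv6 F471329)) (tt N89892 F471326))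
theorem Q110385 : ∀ i, i < 110385 → P i := stepQ 110384 Q110384 (allL N110384 (tt N89892 (iv1 F471338)) (tt N85480 F471337) (tt N77403 (iv2 D213622)) (tt N113381 (iv3 F485279)) (tt N83064 F471333) (tt N86250 F471334) (tt N85485 F471335) (tt N83486 F471336))
theorem Q110386 : ∀ i, i < 110386 → P i := stepQ 110385 Q110385 (allL N110385 (tt N77405 (iv1 F471344)) (tt N77404 (iv0 D213623)) (tt N77408 (iv2 F471340)) (tt N95006 F471341) (tt N110760 (iv4 F473049)) (tt N95005 F471342) (tt N106601 F471339) (tt N77406 F471343))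
theorem Q110387 : ∀ i, i < 110387 → P i := stepQ 110386 Q110386 (allL N110386 (tt N77408 (iv1 F471349)) (tt N77406 (iv0 F471348)) (tt N77404 (iv2 D213624)) (tt N107213 (iv3 F471350)) (tt N121937 D225196) (tt N107212 F471345) (tt N100904 F471346) (tt N77405 (iv7 F471347)))
theorem Q110388 : ∀ i, i < 110388 → P i := stepQ 110387 Q110387 (allL N110387 (tt N106032 F471355) (tt N106599 (iv0 F471354)) (tt N106637 (iv2 F471353)) (tt N77404 (iv3 D213625)) (tt N119878 (iv4 F517837)) (tt N109589 F471351) (tt N90614 F471352) (tt N106636 F493297))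
theorem Q110389 : ∀ i, i < 110389 → P i := stepQ 110388 Q110388 (allL N110388 (tt N121938 D225197) (tt N121939 D225198) (tt N121937 (iv2 F529169)) (tt N119880 (iv3 F517846)) (tt N77404 (iv4 D213626)) (tt N120530 (iv5 F521285)) (tt N110234 F471356) (tt N121940 D225199))
theorem Q110390 : ∀ i, i < 110390 → P i := stepQ 110389 Q110389 (allL N110389 (tt N77406 (iv1 F471358)) (tt N77408 F471359) (tt N77405 F471357) (tt N106636 (iv3 F493298)) (tt N121940 (iv4 F529192)) (tt N119019 (iv5 F513317)) (tt N113191 (iv6 F484404)) (tt N77404 (iv7 D213627)))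
theorem Q110391 : ∀ i, i < 110391 → P i := stepQ 110390 Q110390 (allL N110390 (tt N107618 (iv1 F471364)) (tt N107617 (iv0 F471363)) (tt N107210 (iv2 F471362)) (tt N77405 (iv3 D213628)) (tt N121931 (iv4 F529134)) (tt N99550 F471360) (tt N121941 D225200) (tt N107213 F471361))
theorem Q110392 : ∀ i, i < 110392 → P i := stepQ 110391 Q110391 (allL N110391 (tt N121939 (iv1 F529183)) (tt N121938 (iv0 F529182)) (tt N121940 (iv2 F529190)) (tt N109826 (iv3 F471365)) (tt N77405 (iv4 D213629)) (tt N119747 (iv5 F517217)) (tt N109608 F471366) (tt N121937 (iv7 F529172)))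
theorem Q110393 : ∀ i, i < 110393 → P i := stepQ 110392 Q110392 (allL N110392 (tt N83379 (iv1 F471369)) (tt N113189 (iv0 F484395)) (tt N113191 F484403) (tt N121941 (iv3 F529198)) (tt N109608 F471367) (tt N121185 (iv5 F525011)) (tt N77405 (iv6 D213630)) (tt N109968 F471368))
theorem Q110394 : ∀ i, i < 110394 → P i := stepQ 110393 Q110393 (allL N110393 (tt N77407 (iv1 D213631)) (tt N95005 F471370) (tt N107332 (iv2 F471374)) (tt N99443 (iv3 F471372)) (tt N121550 (iv4 F526986)) (tt N113420 (iv5 F485416)) (tt N105135 F471373) (tt N99440 F471371))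
theorem Q110395 : ∀ i, i < 110395 → P i := stepQ 110394 Q110394 (allL N110394 (tt N106025 F471379) (tt N106617 (iv0 F500086)) (tt N106601 F471375) (tt N77410 F471376) (tt N119813 (iv4 F517513)) (tt N90387 F471377) (tt N77408 (iv6 D213632)) (tt N106518 F471378))
theorem Q110396 : ∀ i, i < 110396 → P i := stepQ 110395 Q110395 (allL N110395 (tt N102674 F471384) (tt N110401 (iv0 F471409)) (tt N106947 F471380) (tt N89580 (iv3 F471385)) (tt N77411 (iv4 D213633)) (tt N89579 F471383) (tt N110061 F471381) (tt N83347 F471382))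
theorem Q110397 : ∀ i, i < 110397 → P i := stepQ 110396 Q110396 (allL N110396 (tt N94109 (iv1 F471391)) (tt N77416 (iv0 D213634)) (tt N82213 (iv2 F471389)) (tt N112088 (iv3 F479438)) (tt N91361 F471387) (tt N109335 F471386) (tt N82210 F471388) (tt N102649 F471390))
theorem Q110398 : ∀ i, i < 110398 → P i := stepQ 110397 Q110397 (allL N110397 (tt N102649 (iv1 F471397)) (tt N82213 F471398) (tt N94109 F471392) (tt N89203 F471393) (tt N89208 F471394) (tt N103449 F471395) (tt N103134 F471396) (tt N77416 (iv7 D213635)))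
theorem Q110399 : ∀ i, i < 110399 → P i := stepQ 110398 Q110398 (allL N110398 (tt N121800 (iv1 F528394)) (tt N101447 F471400) (tt N120953 (iv2 F523667)) (tt N121942 D225201) (tt N77418 (iv4 D213636)) (tt N121943 D225202) (tt N116948 F502653) (tt N120542 (iv7 F521354)))
theorem Q110400 : ∀ i, i < 110400 → P i := stepQ 110399 Q110399 (allL N110399 (tt N113517 F485875) (tt N89802 (iv0 F471403)) (tt N113516 F485871) (tt N77420 F471401) (tt N116948 (iv4 F502651)) (tt N78302 F471402) (tt N77418 (iv6 D213637)) (tt N85358 (iv7 F471404)))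
theorem Q110401 : ∀ i, i < 110401 → P i := stepQ 110400 Q110400 (allL N110400 (tt N113530 (iv1 F504868)) (tt N116600 (iv0 F500925)) (tt N121373 (iv2 F526012)) (tt N77419 (iv3 D213638)) (tt N121942 (iv4 F529203)) (tt N113344 (iv5 F485116)) (tt N121285 F525565) (tt N110371 F471405))
theorem Q110402 : ∀ i, i < 110402 → P i := stepQ 110401 Q110401 (allL N110401 (tt N110395 F471409) (tt N90886 (iv0 F471410)) (tt N110370 F471406) (tt N121285 (iv3 F525561)) (tt N77420 F471407) (tt N91739 F471408) (tt N77419 (iv6 D213639)) (tt N113376 (iv7 F485248)))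
theorem Q110403 : ∀ i, i < 110403 → P i := stepQ 110402 Q110402 (allL N110402 (tt N113473 (iv1 F485649)) (tt N78832 F471413) (tt N77427 F471411) (tt N116430 (iv3 F500064)) (tt N113426 (iv4 F485447)) (tt N109602 (iv5 F471412)) (tt N77422 (iv6 D213640)) (tt N113471 (iv7 F485640)))
theorem Q110404 : ∀ i, i < 110404 → P i := stepQ 110403 Q110403 (allL N110403 (tt N81819 F471418) (tt N81825 F471419) (tt N77428 F471414) (tt N88847 F471415) (tt N111929 (iv4 F478713)) (tt N77423 (iv5 D213641)) (tt N109602 F471416) (tt N81824 F471417))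
theorem Q110405 : ∀ i, i < 110405 → P i := stepQ 110404 Q110404 (allL N110404 (tt N89890 F471422) (tt N112582 (iv0 F481722)) (tt N112583 (iv2 F481723)) (tt N83439 F471420) (tt N77424 (iv4 D213642)) (tt N116567 (iv5 F500769)) (tt N113207 (iv6 F484484)) (tt N83435 F471421))
theorem Q110406 : ∀ i, i < 110406 → P i := stepQ 110405 Q110405 (allL N110405 (tt N88612 F471425) (tt N88606 F471427) (tt N88610 F471423) (tt N77425 (iv3 D213644)) (tt N110695 (iv4 F472791)) (tt N105728 (iv5 F471426)) (tt N112340 (iv6 F480649)) (tt N88611 F471424))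
theorem Q110407 : ∀ i, i < 110407 → P i := stepQ 110406 Q110406 (allL N110406 (tt N100645 (iv1 F471433)) (tt N109329 (iv0 F471434)) (tt N109328 F471428) (tt N105728 F471429) (tt N88499 F471432) (tt N77425 (iv5 D213645)) (tt N103938 F471430) (tt N88496 F471431))
theorem Q110408 : ∀ i, i < 110408 → P i := stepQ 110407 Q110407 (allL N110407 (tt N113183 (iv1 F485455)) (tt N112323 (iv0 F480554)) (tt N83469 F471435) (tt N77426 (iv3 D213646)) (tt N77432 F471436) (tt N117221 (iv5 F503973)) (tt N114791 F491887) (tt N113427 (iv7 F485454)))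
theorem Q110409 : ∀ i, i < 110409 → P i := stepQ 110408 Q110408 (allL N110408 (tt N90137 F471438) (tt N90135 F471439) (tt N113426 (iv2 F485445)) (tt N114791 (iv3 F491882)) (tt N77427 F471437) (tt N114790 F491879) (tt N77426 (iv6 D213647)) (tt N113472 (iv7 F485647)))
theorem Q110410 : ∀ i, i < 110410 → P i := stepQ 110409 Q110409 (allL N110409 (tt N77427 (iv1 D213648)) (tt N113471 F485641) (tt N78832 (iv2 F471441)) (tt N119610 (iv3 F516497)) (tt N89808 (iv4 F471442)) (tt N78831 F471440) (tt N119609 (iv6 F516494)) (tt N113473 (iv7 F485650)))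
theorem Q110411 : ∀ i, i < 110411 → P i := stepQ 110410 Q110410 (allL N110410 (tt N77428 (iv1 D213649)) (tt N81824 F471443) (tt N81825 (iv2 F471447)) (tt N105720 (iv3 F471448)) (tt N81795 F471446) (tt N105719 F471445) (tt N119617 (iv6 F516538)) (tt N81819 F471444))
theorem Q110412 : ∀ i, i < 110412 → P i := stepQ 110411 Q110411 (allL N110411 (tt N107551 F474084) (tt N101437 F471451) (tt N121798 (iv2 F528382)) (tt N107554 F471449) (tt N77429 (iv4 D213650)) (tt N121944 D225203) (tt N107536 F471450) (tt N121801 (iv7 F528402)))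
theorem Q110413 : ∀ i, i < 110413 → P i := stepQ 110412 Q110412 (allL N110412 (tt N77432 (iv1 D213651)) (tt N90842 F471459) (tt N113177 (iv2 F484335)) (tt N96294 F471455) (tt N112516 (iv4 F481459)) (tt N96287 (iv5 F471453)) (tt N110348 (iv6 F471454)) (tt N88394 F471452))
theorem Q110414 : ∀ i, i < 110414 → P i := stepQ 110413 Q110413 (allL N110413 (tt N88394 (iv1 F484342)) (tt N113177 F484341) (tt N77432 (iv2 D213652)) (tt N83467 F471456) (tt N83469 F471457) (tt N116857 (iv5 F502202)) (tt N113269 (iv6 F484800)) (tt N90842 F471458))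
theorem Q110415 : ∀ i, i < 110415 → P i := stepQ 110414 Q110414 (allL N110414 (tt N111204 (iv1 F484591)) (tt N100243 (iv0 F471462)) (tt N113269 (iv2 F484797)) (tt N77433 F471460) (tt N114791 (iv4 F491884)) (tt N84854 F471463) (tt N77432 (iv6 D213653)) (tt N89843 F471461))
theorem Q110416 : ∀ i, i < 110416 → P i := stepQ 110415 Q110415 (allL N110415 (tt N101250 F471469) (tt N101223 F471470) (tt N95191 F471464) (tt N84854 F471465) (tt N84856 F471466) (tt N77433 (iv5 D213654)) (tt N95182 F471467) (tt N85246 F471468))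
theorem Q110417 : ∀ i, i < 110417 → P i := stepQ 110416 Q110416 (allL N110416 (tt N106339 F471473) (tt N106338 F471475) (tt N106341 F471471) (tt N77434 (iv3 D213655)) (tt N110768 F473091) (tt N106322 (iv5 F471474)) (tt N121945 D225204) (tt N106321 F471472))
theorem Q110418 : ∀ i, i < 110418 → P i := stepQ 110417 Q110417 (allL N110417 (tt N89579 F471480) (tt N105976 F471481) (tt N105977 F471476) (tt N106322 F471477) (tt N109355 F471478) (tt N77434 (iv5 D213656)) (tt N91743 F471482) (tt N105974 F471479))
theorem Q110419 : ∀ i, i < 110419 → P i := stepQ 110418 Q110418 (allL N110418 (tt N110341 F471483) (tt N113550 (iv0 F485993)) (tt N113475 (iv2 F485660)) (tt N121945 (iv3 F529222)) (tt N113464 (iv4 F485604)) (tt N114578 (iv5 F490850)) (tt N77434 (iv6 D213657)) (tt N113464 (iv7 F485606)))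
theorem Q110420 : ∀ i, i < 110420 → P i := stepQ 110419 Q110419 (allL N110419 (tt N110225 (iv1 F471488)) (tt N77439 (iv0 D213658)) (tt N102703 (iv2 F471487)) (tt N85804 F471486) (tt N85827 F471485) (tt N98946 F471484) (tt N111760 (iv6 F477831)) (tt N85802 F471489))
theorem Q110421 : ∀ i, i < 110421 → P i := stepQ 110420 Q110420 (allL N110420 (tt N96280 (iv1 F471496)) (tt N96277 (iv0 F471495)) (tt N101824 F471490) (tt N92872 F471491) (tt N91422 F471492) (tt N103124 F471493) (tt N77443 (iv6 D213659)) (tt N86366 F471494))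
theorem Q110422 : ∀ i, i < 110422 → P i := stepQ 110421 Q110421 (allL N110421 (tt N120552 (iv1 F521414)) (tt N107796 (iv0 F471501)) (tt N120205 (iv2 F519582)) (tt N91932 F471497) (tt N77448 (iv4 D213660)) (tt N91931 F471500) (tt N82050 F471498) (tt N107696 F471499))
theorem Q110423 : ∀ i, i < 110423 → P i := stepQ 110422 Q110422 (allL N110422 (tt N77449 (iv1 D213661)) (tt N81054 F471502) (tt N81064 F471507) (tt N101862 (iv3 F471505)) (tt N110294 F471504) (tt N111922 (iv5 F478668)) (tt N101861 (iv6 F471506)) (tt N81063 F471503))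
theorem Q110424 : ∀ i, i < 110424 → P i := stepQ 110423 Q110423 (allL N110423 (tt N83624 F471511) (tt N111988 (iv0 F478975)) (tt N84938 F471508) (tt N101013 F471509) (tt N84934 F471510) (tt N77452 (iv5 D213662)) (tt N105528 (iv6 F471512)) (tt N113583 (iv7 F486144)))
theorem Q110425 : ∀ i, i < 110425 → P i := stepQ 110424 Q110424 (allL N110424 (tt N86004 F471519) (tt N84949 F471518) (tt N77454 F471513) (tt N90234 F471514) (tt N83621 F471515) (tt N77453 (iv5 D213663)) (tt N105064 F471516) (tt N85997 F471517))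
theorem Q110426 : ∀ i, i < 110426 → P i := stepQ 110425 Q110425 (allL N110425 (tt N77454 (iv1 D213664)) (tt N85997 F471520) (tt N84949 F471524) (tt N101015 F471525) (tt N84948 F471522) (tt N104145 (iv5 F471523)) (tt N114385 (iv6 F489903)) (tt N86004 F471521))
theorem Q110427 : ∀ i, i < 110427 → P i := stepQ 110426 Q110426 (allL N110426 (tt N90825 (iv1 F471529)) (tt N113166 F484295) (tt N85999 F471526) (tt N113173 (iv3 F484321)) (tt N77458 (iv4 D213665)) (tt N83619 F471527) (tt N121946 D225205) (tt N81897 F471528))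
theorem Q110428 : ∀ i, i < 110428 → P i := stepQ 110427 Q110427 (allL N110427 (tt N113492 F485751) (tt N89700 (iv0 F471532)) (tt N113490 F485744) (tt N81844 F471530) (tt N121946 (iv4 F529229)) (tt N107420 F471531) (tt N77458 (iv6 D213666)) (tt N113491 (iv7 F485745)))
theorem Q110429 : ∀ i, i < 110429 → P i := stepQ 110428 Q110428 (allL N110428 (tt N89664 F471537) (tt N88997 (iv0 F471539)) (tt N81914 F471533) (tt N81406 F471534) (tt N89669 F471538) (tt N77459 (iv5 D213667)) (tt N89669 F471535) (tt N89406 F471536))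
theorem Q110430 : ∀ i, i < 110430 → P i := stepQ 110429 Q110429 (allL N110429 (tt N89063 F471544) (tt N113165 (iv0 F484290)) (tt N88395 F471540) (tt N110769 (iv3 F473105)) (tt N77460 (iv4 D213668)) (tt N86779 F471543) (tt N99919 F471541) (tt N81913 F471542))
theorem Q110431 : ∀ i, i < 110431 → P i := stepQ 110430 Q110430 (allL N110430 (tt N85914 F471550) (tt N86159 (iv0 F471551)) (tt N86160 F471545) (tt N77465 (iv3 D213669)) (tt N90230 F471546) (tt N109653 F471547) (tt N106515 F471548) (tt N86161 F471549))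
theorem Q110432 : ∀ i, i < 110432 → P i := stepQ 110431 Q110431 (allL N110431 (tt N86036 F471556) (tt N86034 F471557) (tt N85097 F471552) (tt N96415 F471553) (tt N84795 F471554) (tt N77466 (iv5 D213670)) (tt N117477 (iv6 F505232)) (tt N85085 F471555))
theorem Q110433 : ∀ i, i < 110433 → P i := stepQ 110432 Q110432 (allL N110432 (tt N107682 F471562) (tt N90270 (iv0 F471563)) (tt N77468 F471558) (tt N108993 F471559) (tt N95167 F471560) (tt N85892 F471561) (tt N77467 (iv6 D213671)) (tt N95166 (iv7 F471564)))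
theorem Q110434 : ∀ i, i < 110434 → P i := stepQ 110433 Q110433 (allL N110433 (tt N77468 (iv1 D213672)) (tt N95166 F471565) (tt N90270 F471570) (tt N93369 F471571) (tt N101658 (iv4 F471568)) (tt N93368 F471567) (tt N101519 (iv6 F471569)) (tt N107682 F471566))
theorem Q110435 : ∀ i, i < 110435 → P i := stepQ 110434 Q110434 (allL N110434 (tt N90270 (iv1 F471577)) (tt N107682 F471578) (tt N95166 F471572) (tt N77473 F471573) (tt N81723 F471574) (tt N86166 F471575) (tt N90327 F471576) (tt N77468 (iv7 D213673)))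
theorem Q110436 : ∀ i, i < 110436 → P i := stepQ 110435 Q110435 (allL N110435 (tt N110215 F471583) (tt N112766 (iv0 F482558)) (tt N100121 F471579) (tt N85886 F471580) (tt N100132 F471581) (tt N101420 F471582) (tt N77469 (iv6 D213674)) (tt N118719 (iv7 F511734)))
theorem Q110437 : ∀ i, i < 110437 → P i := stepQ 110436 Q110436 (allL N110436 (tt N85892 F471590) (tt N86166 (iv0 F471591)) (tt N86165 F471586) (tt N77471 (iv3 D213675)) (tt N89019 F471587) (tt N90253 F471588) (tt N117668 F506318) (tt N86164 F471589))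
theorem Q110438 : ∀ i, i < 110438 → P i := stepQ 110437 Q110437 (allL N110437 (tt N116839 (iv1 F502111)) (tt N89560 (iv0 F471593)) (tt N116842 (iv2 F502129)) (tt N91388 F471592) (tt N77477 (iv4 D213676)) (tt N121947 D225206) (tt N118321 (iv6 F509691)) (tt N116841 F502124))
theorem Q110439 : ∀ i, i < 110439 → P i := stepQ 110438 Q110438 (allL N110438 (tt N98295 (iv1 F471707)) (tt N109352 F471708) (tt N110465 F471710) (tt N118443 (iv3 F510382)) (tt N121948 D225207) (tt N77477 (iv5 D213677)) (tt N118441 (iv6 F510371)) (tt N110464 F471706))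
theorem Q110440 : ∀ i, i < 110440 → P i := stepQ 110439 Q110439 (allL N110439 (tt N109352 (iv1 F471712)) (tt N98295 (iv0 F471594)) (tt N110464 F471704) (tt N110551 F472100) (tt N115078 (iv4 F493376)) (tt N77478 (iv5 D213678)) (tt N115077 F493374) (tt N110465 (iv7 F471709)))
theorem Q110441 : ∀ i, i < 110441 → P i := stepQ 110440 Q110440 (allL N110440 (tt N121606 F527301) (tt N90765 (iv0 F471598)) (tt N77481 F471595) (tt N90326 F471596) (tt N102811 F471597) (tt N115675 (iv5 F496256)) (tt N77479 (iv6 D213679)) (tt N118285 (iv7 F509518)))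
theorem Q110442 : ∀ i, i < 110442 → P i := stepQ 110441 Q110441 (allL N110441 (tt N85081 (iv1 F471599)) (tt N77480 (iv0 D213680)) (tt N110218 (iv2 F471605)) (tt N105444 (iv3 F471610)) (tt N109783 F471612) (tt N77499 F471609) (tt N109782 (iv6 F471611)) (tt N110217 (iv7 F471608)))
theorem Q110443 : ∀ i, i < 110443 → P i := stepQ 110442 Q110442 (allL N110442 (tt N77480 (iv1 D213681)) (tt N85081 F471600) (tt N110217 F471606) (tt N85887 F471602) (tt N85444 (iv4 F471601)) (tt N77500 (iv5 F471604)) (tt N119143 (iv6 F514015)) (tt N110218 F471603))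
theorem Q110444 : ∀ i, i < 110444 → P i := stepQ 110443 Q110443 (allL N110443 (tt N89657 F471619) (tt N114729 (iv0 F491566)) (tt N86738 F471615) (tt N110211 F471616) (tt N77480 (iv4 D213682)) (tt N112957 (iv5 F483381)) (tt N86736 F471617) (tt N110209 F471618))
theorem Q110445 : ∀ i, i < 110445 → P i := stepQ 110444 Q110444 (allL N110444 (tt N118285 (iv1 F509519)) (tt N77481 (iv0 D213683)) (tt N121606 (iv2 F527296)) (tt N90767 F471620) (tt N117859 F507314) (tt N121651 (iv5 F527545)) (tt N117509 F505420) (tt N90765 (iv7 F471621)))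
theorem Q110446 : ∀ i, i < 110446 → P i := stepQ 110445 Q110445 (allL N110445 (tt N77481 (iv1 D213684)) (tt N118285 (iv0 F509520)) (tt N90765 F473397) (tt N117598 F505924) (tt N112801 (iv4 F482676)) (tt N121652 (iv5 F527551)) (tt N110839 (iv6 F473396)) (tt N121606 (iv7 F527299)))
theorem Q110447 : ∀ i, i < 110447 → P i := stepQ 110446 Q110446 (allL N110446 (tt N121949 D225208) (tt N121950 D225209) (tt N115675 (iv2 F496255)) (tt N77484 F471622) (tt N115870 (iv4 F497326)) (tt N77481 (iv5 D213685)) (tt N116363 (iv6 F499725)) (tt N108163 (iv7 F471623)))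
theorem Q110448 : ∀ i, i < 110448 → P i := stepQ 110447 Q110447 (allL N110447 (tt N90765 (iv1 F471628)) (tt N121606 (iv0 F527300)) (tt N118285 (iv2 F509515)) (tt N77485 F471624) (tt N92506 F471625) (tt N108163 F471626) (tt N108698 F471627) (tt N77481 (iv7 D213686)))
theorem Q110449 : ∀ i, i < 110449 → P i := stepQ 110448 Q110448 (allL N110448 (tt N86163 (iv1 F471629)) (tt N77482 (iv0 D213687)) (tt N110138 (iv2 F471633)) (tt N86167 F471636) (tt N112007 (iv4 F479047)) (tt N113572 (iv5 F486078)) (tt N117579 (iv6 F505819)) (tt N110139 (iv7 F471635)))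
theorem Q110450 : ∀ i, i < 110450 → P i := stepQ 110449 Q110449 (allL N110449 (tt N77482 (iv1 D213688)) (tt N86163 F471630) (tt N110139 F471634) (tt N117592 (iv3 F505881)) (tt N112006 (iv4 F479043)) (tt N113571 (iv5 F486077)) (tt N108980 (iv6 F471631)) (tt N110138 F471632))
theorem Q110451 : ∀ i, i < 110451 → P i := stepQ 110450 Q110450 (allL N110450 (tt N91778 F471649) (tt N91774 (iv0 F471650)) (tt N108165 F471645) (tt N116363 (iv3 F499723)) (tt N87327 F471646) (tt N77482 (iv5 D213689)) (tt N77484 F471647) (tt N87324 F471648))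
theorem Q110452 : ∀ i, i < 110452 → P i := stepQ 110451 Q110451 (allL N110451 (tt N86264 F471655) (tt N85915 (iv0 F471656)) (tt N86261 F471651) (tt N77483 (iv3 D213690)) (tt N89024 F471652) (tt N115587 (iv5 F495875)) (tt N101159 F471653) (tt N86262 F471654))
theorem Q110453 : ∀ i, i < 110453 → P i := stepQ 110452 Q110452 (allL N110452 (tt N115828 (iv1 F497120)) (tt N115827 F497112) (tt N77489 F471657) (tt N91511 F471658) (tt N121821 (iv4 F528516)) (tt N91510 F471659) (tt N77487 (iv6 D213691)) (tt N115829 (iv7 F497124)))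
theorem Q110454 : ∀ i, i < 110454 → P i := stepQ 110453 Q110453 (allL N110453 (tt N115829 (iv1 F497125)) (tt N77489 (iv0 D213692)) (tt N115828 (iv2 F497118)) (tt N90254 F471660) (tt N93816 (iv4 F471662)) (tt N112233 F480163) (tt N90253 F471661) (tt N115827 (iv7 F497115)))
theorem Q110455 : ∀ i, i < 110455 → P i := stepQ 110454 Q110454 (allL N110454 (tt N77489 (iv1 D213693)) (tt N115829 F497126) (tt N115827 (iv2 F497114)) (tt N94995 F471664) (tt N116589 (iv4 F500877)) (tt N96722 (iv5 F471663)) (tt N112298 (iv6 F480428)) (tt N115828 (iv7 F497116)))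
theorem Q110456 : ∀ i, i < 110456 → P i := stepQ 110455 Q110455 (allL N110455 (tt N95719 (iv1 F471670)) (tt N96669 F471671) (tt N96670 F471665) (tt N96356 F471666) (tt N96538 F471667) (tt N92055 F471668) (tt N101340 F471669) (tt N77490 (iv7 D213694)))
theorem Q110457 : ∀ i, i < 110457 → P i := stepQ 110456 Q110456 (allL N110456 (tt N77496 (iv1 D213695)) (tt N94314 (iv0 F471675)) (tt N94316 F471674) (tt N120730 (iv3 F522397)) (tt N89528 (iv4 F471673)) (tt N109587 F471676) (tt N119173 (iv6 F514186)) (tt N94313 F471672))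
theorem Q110458 : ∀ i, i < 110458 → P i := stepQ 110457 Q110457 (allL N110457 (tt N94313 (iv1 F471681)) (tt N94316 F471680) (tt N77496 (iv2 D213696)) (tt N109576 F471677) (tt N77501 F471678) (tt N121307 (iv5 F525671)) (tt N117783 (iv6 F506952)) (tt N94314 F471679))
theorem Q110459 : ∀ i, i < 110459 → P i := stepQ 110458 Q110458 (allL N110458 (tt N117775 (iv1 F506905)) (tt N121734 (iv0 F528029)) (tt N121307 (iv2 F525669)) (tt N77497 F471682) (tt N118581 (iv4 F511001)) (tt N77496 (iv5 D213697)) (tt N106447 (iv6 F471684)) (tt N109572 F471683))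
theorem Q110460 : ∀ i, i < 110460 → P i := stepQ 110459 Q110459 (allL N110459 (tt N106961 (iv1 F471689)) (tt N117782 (iv0 F506948)) (tt N117783 F506951) (tt N77498 F471685) (tt N77503 F471686) (tt N102678 F471687) (tt N77496 (iv6 D213698)) (tt N108337 F471688))
theorem Q110461 : ∀ i, i < 110461 → P i := stepQ 110460 Q110460 (allL N110460 (tt N109582 (iv1 F471696)) (tt N118546 (iv0 F510889)) (tt N109578 F471690) (tt N106447 F471691) (tt N109573 F471692) (tt N83183 F471693) (tt N77497 (iv6 D213699)) (tt N83182 (iv7 F471695)))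
theorem Q110462 : ∀ i, i < 110462 → P i := stepQ 110461 Q110461 (allL N110461 (tt N116385 F499825) (tt N116646 F501128) (tt N116644 F501117) (tt N77725 F471697) (tt N77500 (iv4 D213700)) (tt N120152 (iv5 F519326)) (tt N118586 (iv6 F511021)) (tt N116645 (iv7 F501119)))
theorem Q110463 : ∀ i, i < 110463 → P i := stepQ 110462 Q110462 (allL N110462 (tt N109623 F503525) (tt N120551 (iv0 F521408)) (tt N121786 F528309) (tt N116698 (iv3 F501366)) (tt N118586 (iv4 F511020)) (tt N120550 (iv5 F521402)) (tt N77500 (iv6 D213701)) (tt N118583 (iv7 F511007)))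
theorem Q110464 : ∀ i, i < 110464 → P i := stepQ 110463 Q110463 (allL N110463 (tt N118306 (iv1 F509620)) (tt N92318 (iv0 F471701)) (tt N77503 F471698) (tt N93769 F471699) (tt N117783 (iv4 F506950)) (tt N106764 F471702) (tt N77501 (iv6 D213702)) (tt N106763 F471700))
theorem Q110465 : ∀ i, i < 110465 → P i := stepQ 110464 Q110464 (allL N110464 (tt N114975 (iv1 F492864)) (tt N77502 (iv0 D213703)) (tt N110439 (iv2 F471704)) (tt N107793 (iv3 F471705)) (tt N121951 D225210) (tt N107792 F471703) (tt N105562 F490907) (tt N110438 (iv7 F471706)))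
theorem Q110466 : ∀ i, i < 110466 → P i := stepQ 110465 Q110465 (allL N110465 (tt N77502 (iv1 D213704)) (tt N114975 F492863) (tt N110438 (iv2 F471710)) (tt N114988 F492937) (tt N121952 D225211) (tt N109342 (iv5 F471711)) (tt N121953 D225212) (tt N110439 F471709))
theorem Q110467 : ∀ i, i < 110467 → P i := stepQ 110466 Q110466 (allL N110466 (tt N105560 F471714) (tt N121145 F524771) (tt N119581 (iv2 F516369)) (tt N105551 F471713) (tt N77502 (iv4 D213705)) (tt N121954 D225213) (tt N121182 F524992) (tt N121138 (iv7 F524723)))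
theorem Q110468 : ∀ i, i < 110468 → P i := stepQ 110467 Q110467 (allL N110467 (tt N118193 F509074) (tt N116337 (iv0 F499619)) (tt N115010 (iv2 F493041)) (tt N77504 F471715) (tt N121182 (iv4 F524987)) (tt N93860 F471716) (tt N77502 (iv6 D213706)) (tt N121955 D225214))
theorem Q110469 : ∀ i, i < 110469 → P i := stepQ 110468 Q110468 (allL N110468 (tt N92318 (iv1 F471722)) (tt N118306 (iv0 F509619)) (tt N106763 F471717) (tt N77507 F471718) (tt N108337 F471719) (tt N106046 F471720) (tt N80408 F471721) (tt N77503 (iv7 D213707)))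
theorem Q110470 : ∀ i, i < 110470 → P i := stepQ 110469 Q110469 (allL N110469 (tt N101340 (iv1 F471726)) (tt N77504 (iv0 D213708)) (tt N101342 (iv2 F471723)) (tt N114467 (iv3 F490329)) (tt N117716 (iv4 F506591)) (tt N91599 F488678) (tt N114466 F490328) (tt N101341 F471724))
theorem Q110471 : ∀ i, i < 110471 → P i := stepQ 110470 Q110470 (allL N110470 (tt N99620 (iv1 F471731)) (tt N108976 (iv0 F471730)) (tt N108974 F471727) (tt N93860 F471728) (tt N114192 (iv4 F488928)) (tt N77504 (iv5 D213709)) (tt N77506 F471729) (tt N108973 F471737))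
theorem Q110472 : ∀ i, i < 110472 → P i := stepQ 110471 Q110471 (allL N110471 (tt N101341 (iv1 F471734)) (tt N101342 F471735) (tt N101340 F471732) (tt N121955 (iv3 F529277)) (tt N116020 (iv4 F498095)) (tt N108973 (iv5 F471736)) (tt N96670 F471733) (tt N77504 (iv7 D213710)))
theorem Q110473 : ∀ i, i < 110473 → P i := stepQ 110472 Q110472 (allL N110472 (tt N99472 F471742) (tt N99471 F471743) (tt N99473 F471738) (tt N81130 F471739) (tt N85672 F471740) (tt N77505 (iv5 D213711)) (tt N81128 (iv6 F471744)) (tt N85670 F471741))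
theorem Q110474 : ∀ i, i < 110474 → P i := stepQ 110473 Q110473 (allL N110473 (tt N99470 (iv1 F471750)) (tt N77506 (iv0 D213712)) (tt N108834 (iv2 F471747)) (tt N97405 (iv3 F471748)) (tt N97121 F471746) (tt N101774 F471745) (tt N97120 (iv6 F471749)) (tt N117558 (iv7 F505691)))
theorem Q110475 : ∀ i, i < 110475 → P i := stepQ 110474 Q110474 (allL N110474 (tt N77506 (iv1 D213713)) (tt N99470 F471751) (tt N117558 (iv2 F505687)) (tt N97028 (iv3 F471755)) (tt N99217 F471754) (tt N99637 F471753) (tt N97025 F471756) (tt N108834 F471752))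
theorem Q110476 : ∀ i, i < 110476 → P i := stepQ 110475 Q110475 (allL N110475 (tt N117558 (iv1 F505693)) (tt N108834 (iv0 F471762)) (tt N99470 F471757) (tt N106046 F471758) (tt N95303 F471759) (tt N77507 F471760) (tt N106057 F471761) (tt N77506 (iv7 D213714)))
theorem Q110477 : ∀ i, i < 110477 → P i := stepQ 110476 Q110476 (allL N110476 (tt N108928 F471766) (tt N110896 (iv0 F473661)) (tt N116696 (iv2 F501351)) (tt N94540 F471763) (tt N86092 F471764) (tt N112658 (iv5 F482042)) (tt N77510 (iv6 D213715)) (tt N94536 F471765))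
theorem Q110478 : ∀ i, i < 110478 → P i := stepQ 110477 Q110477 (allL N110477 (tt N108935 (iv1 F471770)) (tt N93618 (iv0 F471769)) (tt N77514 F471767) (tt N116977 (iv3 F502788)) (tt N114571 (iv4 F490815)) (tt N118367 (iv5 F509959)) (tt N77512 (iv6 D213716)) (tt N108934 F471768))
theorem Q110479 : ∀ i, i < 110479 → P i := stepQ 110478 Q110478 (allL N110478 (tt N111176 F475096) (tt N121604 (iv0 F527287)) (tt N114580 (iv2 F490857)) (tt N90081 F471771) (tt N77513 (iv4 D213717)) (tt N86094 F471772) (tt N119135 (iv6 F513978)) (tt N114579 (iv7 F490855)))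
theorem Q110480 : ∀ i, i < 110480 → P i := stepQ 110479 Q110479 (allL N110479 (tt N108934 (iv1 F471775)) (tt N77514 (iv0 D213718)) (tt N108935 (iv2 F471774)) (tt N118160 (iv3 F508930)) (tt N108482 F471777) (tt N118199 (iv5 F509106)) (tt N108481 F471773) (tt N93618 F471776))
theorem Q110481 : ∀ i, i < 110481 → P i := stepQ 110480 Q110480 (allL N110480 (tt N103087 F471780) (tt N103085 F471781) (tt N77519 F471778) (tt N114908 F492473) (tt N103052 F471779) (tt N77517 (iv5 D213719)) (tt N118248 (iv6 F509357)) (tt N115007 (iv7 F493029)))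
theorem Q110482 : ∀ i, i < 110482 → P i := stepQ 110481 Q110481 (allL N110481 (tt N115007 (iv1 F493031)) (tt N77519 (iv0 D213720)) (tt N103087 (iv2 F471783)) (tt N114992 F492959) (tt N116782 (iv4 F501804)) (tt N90385 F471782) (tt N120412 F520646) (tt N103085 (iv7 F471784)))
theorem Q110483 : ∀ i, i < 110483 → P i := stepQ 110482 Q110482 (allL N110482 (tt N77519 (iv1 D213721)) (tt N115007 F493030) (tt N103085 (iv2 F471789)) (tt N85329 (iv3 F471787)) (tt N85250 F471788) (tt N90384 F471786) (tt N117551 (iv6 F505651)) (tt N103087 F471785))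
theorem Q110484 : ∀ i, i < 110484 → P i := stepQ 110483 Q110483 (allL N110483 (tt N109652 F471795) (tt N92128 F471796) (tt N103052 F471790) (tt N94660 F471791) (tt N77519 (iv4 D213722)) (tt N83266 F471794) (tt N95058 F471792) (tt N94716 F471793))
theorem Q110485 : ∀ i, i < 110485 → P i := stepQ 110484 Q110484 (allL N110484 (tt N96536 (iv1 F471799)) (tt N77520 (iv0 D213723)) (tt N117551 (iv2 F505646)) (tt N119171 (iv3 F514178)) (tt N120781 (iv4 F522672)) (tt N91660 F471798) (tt N103085 F471797) (tt N117553 (iv7 F505660)))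
theorem Q110486 : ∀ i, i < 110486 → P i := stepQ 110485 Q110485 (allL N110485 (tt N77520 (iv1 D213724)) (tt N96536 F471800) (tt N117553 (iv2 F505658)) (tt N96550 (iv3 F471801)) (tt N120782 (iv4 F522680)) (tt N91664 (iv5 F471802)) (tt N120413 F520651) (tt N117551 (iv7 F505648)))
theorem Q110487 : ∀ i, i < 110487 → P i := stepQ 110486 Q110486 (allL N110486 (tt N77527 (iv1 F471806)) (tt N77523 (iv0 D213725)) (tt N103082 (iv2 F471805)) (tt N96545 F471804) (tt N121185 (iv4 F525010)) (tt N103081 F471803) (tt N120431 (iv6 F520748)) (tt N119159 (iv7 F514109)))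
theorem Q110488 : ∀ i, i < 110488 → P i := stepQ 110487 Q110487 (allL N110487 (tt N121191 (iv1 F525052)) (tt N109778 (iv0 F471810)) (tt N100244 F471807) (tt N89090 F471808) (tt N77523 (iv4 D213726)) (tt N121843 (iv5 F528649)) (tt N88976 F471809) (tt N121190 (iv7 F525041)))
theorem Q110489 : ∀ i, i < 110489 → P i := stepQ 110488 Q110488 (allL N110488 (tt N109778 (iv1 F471813)) (tt N121191 F525051) (tt N121190 (iv2 F525045)) (tt N92587 F471811) (tt N77527 (iv4 D213727)) (tt N121956 D225215) (tt N117309 (iv6 F504395)) (tt N100244 F471812))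
theorem Q110490 : ∀ i, i < 110490 → P i := stepQ 110489 Q110489 (allL N110489 (tt N119171 (iv1 F514174)) (tt N119154 (iv0 F514079)) (tt N119172 (iv2 F514180)) (tt N86225 F471814) (tt N117309 (iv4 F504394)) (tt N106526 (iv5 F471816)) (tt N77527 (iv6 D213728)) (tt N96571 F471815))
theorem Q110491 : ∀ i, i < 110491 → P i := stepQ 110490 Q110490 (allL N110490 (tt N120006 (iv1 F518515)) (tt N118986 (iv0 F513132)) (tt N118137 (iv2 F508802)) (tt N118157 (iv3 F508915)) (tt N106176 F471817) (tt N77528 (iv5 D213729)) (tt N106526 F471818) (tt N120005 (iv7 F518512)))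
theorem Q110492 : ∀ i, i < 110492 → P i := stepQ 110491 Q110491 (allL N110491 (tt N85861 F471821) (tt N114746 (iv0 F491639)) (tt N77532 F471819) (tt N120176 (iv3 F519442)) (tt N77529 (iv4 D213730)) (tt N100475 F471820) (tt N105388 (iv6 F471822)) (tt N114749 (iv7 F491651)))
theorem Q110493 : ∀ i, i < 110493 → P i := stepQ 110492 Q110492 (allL N110492 (tt N101381 (iv1 F471828)) (tt N101060 (iv0 F471827)) (tt N77533 F471823) (tt N105028 F471824) (tt N105388 F471825) (tt N118655 (iv5 F511373)) (tt N77529 (iv6 D213731)) (tt N101380 F471826))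
theorem Q110494 : ∀ i, i < 110494 → P i := stepQ 110493 Q110493 (allL N110493 (tt N85844 F471832) (tt N114262 F489289) (tt N100222 F471829) (tt N89097 F471830) (tt N77530 (iv4 D213732)) (tt N116529 (iv5 F500626)) (tt N114692 F491385) (tt N88955 F471831))
theorem Q110495 : ∀ i, i < 110495 → P i := stepQ 110494 Q110494 (allL N110494 (tt N114262 (iv1 F489288)) (tt N85844 F471836) (tt N88955 F471833) (tt N98193 F471834) (tt N77531 (iv4 D213733)) (tt N116518 (iv5 F500577)) (tt N83763 F471837) (tt N100222 F471835))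
theorem Q110496 : ∀ i, i < 110496 → P i := stepQ 110495 Q110495 (allL N110495 (tt N114727 (iv1 F491556)) (tt N114747 (iv0 F491644)) (tt N88954 F471838) (tt N98194 F471839) (tt N83763 F471840) (tt N119191 (iv5 F514280)) (tt N77531 (iv6 D213734)) (tt N88952 F471841))
theorem Q110497 : ∀ i, i < 110497 → P i := stepQ 110496 Q110496 (allL N110496 (tt N114749 (iv1 F491650)) (tt N77532 (iv0 D213735)) (tt N85861 (iv2 F471843)) (tt N94657 F471844) (tt N85889 F471842) (tt N113417 F485396) (tt N110209 (iv6 F471845)) (tt N114746 (iv7 F491638)))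
theorem Q110498 : ∀ i, i < 110498 → P i := stepQ 110497 Q110497 (allL N110497 (tt N114322 F489601) (tt N113318 (iv0 F485001)) (tt N105698 F471849) (tt N77532 (iv3 D213736)) (tt N77536 F471846) (tt N121235 (iv5 F525293)) (tt N105509 F471847) (tt N110213 F471848))
theorem Q110499 : ∀ i, i < 110499 → P i := stepQ 110498 Q110498 (allL N110498 (tt N109820 (iv1 F471855)) (tt N109900 (iv0 F471854)) (tt N100475 F471850) (tt N121235 (iv3 F525291)) (tt N100472 F471853) (tt N77532 (iv5 D213737)) (tt N105556 F471851) (tt N109899 F471852))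
theorem Q110500 : ∀ i, i < 110500 → P i := stepQ 110499 Q110499 (allL N110499 (tt N101060 (iv1 F471860)) (tt N101381 F471861) (tt N101380 F471856) (tt N77540 F471857) (tt N105389 F471858) (tt N118657 (iv5 F511381)) (tt N105044 F471859) (tt N77533 (iv7 D213738)))
theorem Q110501 : ∀ i, i < 110501 → P i := stepQ 110500 Q110500 (allL N110500 (tt N85876 (iv1 F471866)) (tt N86055 F471865) (tt N77534 (iv2 D213739)) (tt N77535 F471862) (tt N114442 (iv4 F490190)) (tt N90014 F471863) (tt N77534 (iv6 F471867)) (tt N86137 F471864))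
theorem Q110502 : ∀ i, i < 110502 → P i := stepQ 110501 Q110501 (allL N110501 (tt N114577 (iv1 F490847)) (tt N114312 (iv0 F489542)) (tt N114442 (iv2 F490187)) (tt N111186 (iv3 F475138)) (tt N77534 (iv4 D213740)) (tt N79030 F471868) (tt N114442 (iv6 F490189)) (tt N114583 F490868))
theorem Q110503 : ∀ i, i < 110503 → P i := stepQ 110502 Q110502 (allL N110502 (tt N77536 (iv1 D213741)) (tt N110212 F471873) (tt N93898 (iv2 F471870)) (tt N83140 F471872) (tt N113081 (iv4 F483889)) (tt N93897 (iv5 F471871)) (tt N113080 F483886) (tt N89828 F471869))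
theorem Q110504 : ∀ i, i < 110504 → P i := stepQ 110503 Q110503 (allL N110503 (tt N89828 (iv1 F471879)) (tt N93898 F471878) (tt N77536 (iv2 D213742)) (tt N89809 F471874) (tt N105698 F471875) (tt N120569 (iv5 F521500)) (tt N105697 F471876) (tt N110212 F471877))
theorem Q110505 : ∀ i, i < 110505 → P i := stepQ 110504 Q110504 (allL N110504 (tt N112915 F483267) (tt N106904 (iv0 F471886)) (tt N86779 F471882) (tt N83830 F471883) (tt N85744 F471884) (tt N88395 F471885) (tt N77565 (iv6 D213743)) (tt N113162 (iv7 F484270)))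
theorem Q110506 : ∀ i, i < 110506 → P i := stepQ 110505 Q110505 (allL N110505 (tt N108384 F471889) (tt N80102 F471890) (tt N108417 F471887) (tt N114735 (iv3 F491585)) (tt N112736 (iv4 F482438)) (tt N77567 (iv5 D213744)) (tt N114734 F491583) (tt N79123 F471888))
theorem Q110507 : ∀ i, i < 110507 → P i := stepQ 110506 Q110506 (allL N110506 (tt N100373 F471893) (tt N100371 F471894) (tt N111704 (iv2 F477579)) (tt N90775 F471891) (tt N77568 (iv4 D213745)) (tt N82500 F471892) (tt N90773 (iv6 F471895)) (tt N111855 (iv7 F478322)))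
theorem Q110508 : ∀ i, i < 110508 → P i := stepQ 110507 Q110507 (allL N110507 (tt N103952 F471900) (tt N112366 (iv0 F480766)) (tt N112039 (iv2 F479203)) (tt N90772 F471896) (tt N90773 F471897) (tt N81684 F471898) (tt N77568 (iv6 D213746)) (tt N91334 F471899))
theorem Q110509 : ∀ i, i < 110509 → P i := stepQ 110508 Q110508 (allL N110508 (tt N100371 F471902) (tt N100373 (iv0 F471903)) (tt N111855 (iv2 F478319)) (tt N115429 (iv3 F495147)) (tt N77569 (iv4 D213747)) (tt N100802 F471901) (tt N118425 (iv6 F510282)) (tt N111704 (iv7 F477581)))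
theorem Q110510 : ∀ i, i < 110510 → P i := stepQ 110509 Q110509 (allL N110509 (tt N109910 F471909) (tt N80000 F471910) (tt N79382 F471904) (tt N93697 F471905) (tt N77579 (iv4 D213748)) (tt N110053 F471908) (tt N93695 F471906) (tt N109908 F471907))
theorem Q110511 : ∀ i, i < 110511 → P i := stepQ 110510 Q110510 (allL N110510 (tt N79489 F471916) (tt N79379 (iv0 F471917)) (tt N80705 F471911) (tt N79385 F471912) (tt N103109 F471913) (tt N81060 F471914) (tt N77587 (iv6 D213749)) (tt N79400 F471915))
theorem Q110512 : ∀ i, i < 110512 → P i := stepQ 110511 Q110511 (allL N110511 (tt N110915 (iv1 F473768)) (tt N110914 (iv0 F473764)) (tt N112816 (iv2 F482752)) (tt N114237 (iv3 F489153)) (tt N82125 F471918) (tt N77590 (iv5 D213750)) (tt N114236 (iv6 F489151)) (tt N118953 (iv7 F512948)))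
theorem Q110513 : ∀ i, i < 110513 → P i := stepQ 110512 Q110512 (allL N110512 (tt N80826 (iv1 F471924)) (tt N77595 (iv0 D213751)) (tt N101694 (iv2 F471923)) (tt N80534 F471921) (tt N87700 F471920) (tt N95780 F471919) (tt N80838 F471922) (tt N80629 F471925))
theorem Q110514 : ∀ i, i < 110514 → P i := stepQ 110513 Q110513 (allL N110513 (tt N109905 F471929) (tt N108038 F471930) (tt N113276 (iv2 F484821)) (tt N95099 F471926) (tt N77604 (iv4 D213752)) (tt N120150 (iv5 F519315)) (tt N77776 F471927) (tt N107879 F471928))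
theorem Q110515 : ∀ i, i < 110515 → P i := stepQ 110514 Q110514 (allL N110514 (tt N99137 F471933) (tt N98790 F471934) (tt N99134 F471931) (tt N110668 (iv3 F472687)) (tt N77632 (iv4 D213753)) (tt N110666 F472679) (tt N121957 D225216) (tt N99135 F471932))
theorem Q110516 : ∀ i, i < 110516 → P i := stepQ 110515 Q110515 (allL N110515 (tt N106606 F471936) (tt N114776 F491796) (tt N120208 (iv2 F519598)) (tt N121635 (iv3 F527460)) (tt N121957 (iv4 F529291)) (tt N121180 (iv5 F524979)) (tt N77632 (iv6 D213754)) (tt N106592 F471935))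
theorem Q110517 : ∀ i, i < 110517 → P i := stepQ 110516 Q110516 (allL N110516 (tt N85352 (iv1 F471942)) (tt N85354 (iv0 F471941)) (tt N77664 F471937) (tt N89842 F471938) (tt N109562 F471939) (tt N121778 (iv5 F528264)) (tt N77637 (iv6 D213755)) (tt N101359 F471940))
theorem Q110518 : ∀ i, i < 110518 → P i := stepQ 110517 Q110517 (allL N110517 (tt N109467 F471948) (tt N109469 F471949) (tt N103180 F471943) (tt N103143 F471944) (tt N77640 (iv4 D213756)) (tt N77654 F471945) (tt N109466 F471946) (tt N101313 F471947))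
theorem Q110519 : ∀ i, i < 110519 → P i := stepQ 110518 Q110518 (allL N110518 (tt N111339 (iv1 F475897)) (tt N77651 (iv0 D213757)) (tt N89799 (iv2 F471953)) (tt N79393 F471952) (tt N113887 (iv4 F487639)) (tt N89055 F471951) (tt N100971 (iv6 F471955)) (tt N79390 F471954))
theorem Q110520 : ∀ i, i < 110520 → P i := stepQ 110519 Q110519 (allL N110519 (tt N95999 F471960) (tt N114012 (iv0 F488196)) (tt N115555 (iv2 F495763)) (tt N77652 F471956) (tt N96101 F471959) (tt N77651 (iv5 D213758)) (tt N106323 F471957) (tt N107315 F471958))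
theorem Q110521 : ∀ i, i < 110521 → P i := stepQ 110520 Q110520 (allL N110520 (tt N109561 F471964) (tt N109560 F471965) (tt N77661 F471961) (tt N111287 (iv3 F475645)) (tt N99513 F471962) (tt N77660 (iv5 D213759)) (tt N107612 (iv6 F471966)) (tt N79114 F471963))
theorem Q110522 : ∀ i, i < 110522 → P i := stepQ 110521 Q110521 (allL N110521 (tt N112623 F481882) (tt N116949 (iv0 F502658)) (tt N121778 (iv2 F528261)) (tt N120083 (iv3 F518958)) (tt N116936 (iv4 F502586)) (tt N77664 (iv5 D213760)) (tt N77665 F471967) (tt N120954 (iv7 F523675)))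
theorem Q110523 : ∀ i, i < 110523 → P i := stepQ 110522 Q110522 (allL N110522 (tt N119783 F517398) (tt N119859 (iv0 F517742)) (tt N120725 (iv2 F522369)) (tt N121350 (iv3 F525909)) (tt N77665 (iv4 D213761)) (tt N119792 (iv5 F517440)) (tt N116936 F502588) (tt N119791 F517436))
theorem Q110524 : ∀ i, i < 110524 → P i := stepQ 110523 Q110523 (allL N110523 (tt N107482 F471973) (tt N95995 F471974) (tt N107483 F471968) (tt N103118 F471969) (tt N80397 F471970) (tt N77669 (iv5 D213762)) (tt N105426 F471971) (tt N99414 F471972))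
theorem Q110525 : ∀ i, i < 110525 → P i := stepQ 110524 Q110524 (allL N110524 (tt N109063 (iv1 F471980)) (tt N77671 (iv0 D213763)) (tt N109064 (iv2 F471978)) (tt N121219 (iv3 F525199)) (tt N109365 F471976) (tt N104011 F471975) (tt N98596 F471977) (tt N99813 F471979))
theorem Q110526 : ∀ i, i < 110526 → P i := stepQ 110525 Q110525 (allL N110525 (tt N99813 (iv1 F471986)) (tt N109064 F471987) (tt N109063 F471981) (tt N98043 F471982) (tt N77674 F471983) (tt N109748 F471984) (tt N98038 F471985) (tt N77671 (iv7 D213764)))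
theorem Q110527 : ∀ i, i < 110527 → P i := stepQ 110526 Q110526 (allL N110526 (tt N91212 F471993) (tt N91218 F471994) (tt N91217 F471988) (tt N86607 F471989) (tt N109753 F471990) (tt N77673 (iv5 D213765)) (tt N104192 F471991) (tt N91216 F471992))
theorem Q110528 : ∀ i, i < 110528 → P i := stepQ 110527 Q110527 (allL N110527 (tt N91058 (iv1 F472001)) (tt N77679 (iv0 D213766)) (tt N91057 (iv2 F471998)) (tt N88631 F471999) (tt N101098 F471996) (tt N82187 F471995) (tt N88629 F471997) (tt N90985 F472000))
theorem Q110529 : ∀ i, i < 110529 → P i := stepQ 110528 Q110528 (allL N110528 (tt N90985 (iv1 F472007)) (tt N91057 F472008) (tt N91058 F472002) (tt N91747 F472003) (tt N89074 F472004) (tt N77680 F472005) (tt N91062 F472006) (tt N77679 (iv7 D213767)))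
theorem Q110530 : ∀ i, i < 110530 → P i := stepQ 110529 Q110529 (allL N110529 (tt N107137 F472012) (tt N90496 (iv0 F472013)) (tt N107501 F472009) (tt N77681 (iv3 D213768)) (tt N120160 (iv4 F519349)) (tt N106538 F472010) (tt N120396 F520564) (tt N107502 F472011))
theorem Q110531 : ∀ i, i < 110531 → P i := stepQ 110530 Q110530 (allL N110530 (tt N107992 (iv1 F472019)) (tt N77691 (iv0 D213769)) (tt N78110 (iv2 F472017)) (tt N114046 (iv3 F488339)) (tt N106489 F472015) (tt N78106 F472014) (tt N106495 F472016) (tt N107474 F472018))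
theorem Q110532 : ∀ i, i < 110532 → P i := stepQ 110531 Q110531 (allL N110531 (tt N121420 (iv1 F526263)) (tt N121580 (iv0 F527142)) (tt N121266 F525470) (tt N121958 D225217) (tt N77691 (iv4 D213770)) (tt N107055 F472021) (tt N110175 F472020) (tt N121131 (iv7 F524678)))
theorem Q110533 : ∀ i, i < 110533 → P i := stepQ 110532 Q110532 (allL N110532 (tt N107474 (iv1 F472024)) (tt N78110 F472025) (tt N107992 F472022) (tt N112168 (iv3 F479859)) (tt N121131 (iv4 F524679)) (tt N77692 F472023) (tt N113964 (iv6 F487993)) (tt N77691 (iv7 D213771)))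
theorem Q110534 : ∀ i, i < 110534 → P i := stepQ 110533 Q110533 (allL N110533 (tt N99433 F472029) (tt N107646 F472030) (tt N107644 F472026) (tt N107375 F472027) (tt N121527 (iv4 F526862)) (tt N77694 (iv5 D213772)) (tt N121269 F525488) (tt N107643 F472028))
theorem Q110535 : ∀ i, i < 110535 → P i := stepQ 110534 Q110534 (allL N110534 (tt N107646 F472034) (tt N99433 F472035) (tt N107643 F472031) (tt N121688 (iv3 F527752)) (tt N113495 (iv4 F485764)) (tt N77697 (iv5 D213773)) (tt N110092 F472032) (tt N107644 F472033))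
theorem Q110536 : ∀ i, i < 110536 → P i := stepQ 110535 Q110535 (allL N110535 (tt N79374 F472041) (tt N103065 F472042) (tt N109412 F472036) (tt N104241 F472037) (tt N77702 (iv4 D213774)) (tt N109282 F472040) (tt N103939 F472038) (tt N103933 F472039))
theorem Q110537 : ∀ i, i < 110537 → P i := stepQ 110536 Q110536 (allL N110536 (tt N112097 (iv1 F479478)) (tt N110543 F472066) (tt N111563 (iv2 F476936)) (tt N103182 F472043) (tt N77704 (iv4 D213775)) (tt N113985 (iv5 F488065)) (tt N106390 F472044) (tt N111908 (iv7 F478587)))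
theorem Q110538 : ∀ i, i < 110538 → P i := stepQ 110537 Q110537 (allL N110537 (tt N107626 F472047) (tt N121853 (iv0 F528712)) (tt N120217 (iv2 F519650)) (tt N119750 (iv3 F517231)) (tt N120470 (iv4 F520949)) (tt N77705 (iv5 D213776)) (tt N98955 F472045) (tt N98977 F472046))
theorem Q110539 : ∀ i, i < 110539 → P i := stepQ 110538 Q110538 (allL N110538 (tt N117508 F505413) (tt N90668 (iv0 F472051)) (tt N96847 F472048) (tt N77709 F472049) (tt N100093 F472050) (tt N115964 (iv5 F497797)) (tt N77708 (iv6 D213777)) (tt N117582 (iv7 F505832)))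
theorem Q110540 : ∀ i, i < 110540 → P i := stepQ 110539 Q110539 (allL N110539 (tt N87225 (iv1 F472057)) (tt N77713 (iv0 D213778)) (tt N87231 (iv2 F472056)) (tt N112383 (iv3 F480841)) (tt N90637 F472054) (tt N87805 F472053) (tt N87315 F472055) (tt N87230 F472058))
theorem Q110541 : ∀ i, i < 110541 → P i := stepQ 110540 Q110540 (allL N110540 (tt N117077 (iv1 F503259)) (tt N118519 (iv0 F510788)) (tt N118434 (iv2 F510334)) (tt N116639 (iv3 F501094)) (tt N77720 F472059) (tt N82687 (iv5 F472060)) (tt N77719 (iv6 D213779)) (tt N113367 (iv7 F485204)))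
theorem Q110542 : ∀ i, i < 110542 → P i := stepQ 110541 Q110541 (allL N110541 (tt N110711 (iv1 F472860)) (tt N110575 (iv0 F472771)) (tt N118433 (iv2 F510328)) (tt N118586 (iv3 F511019)) (tt N114876 (iv4 F492287)) (tt N113732 F486885) (tt N77725 (iv6 D213780)) (tt N118470 (iv7 F510544)))
theorem Q110543 : ∀ i, i < 110543 → P i := stepQ 110542 Q110542 (allL N110542 (tt N109603 F472062) (tt N112347 F480686) (tt N111198 (iv2 F475190)) (tt N90886 F472061) (tt N112329 (iv4 F480588)) (tt N77734 (iv5 D213781)) (tt N90885 (iv6 F472063)) (tt N111200 (iv7 F475200)))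
theorem Q110544 : ∀ i, i < 110544 → P i := stepQ 110543 Q110543 (allL N110543 (tt N110536 (iv1 F472066)) (tt N80829 (iv0 F472065)) (tt N111199 (iv2 F475194)) (tt N113014 (iv3 F483557)) (tt N77735 F472064) (tt N113013 F483554) (tt N77734 (iv6 D213782)) (tt N112667 (iv7 F482090)))
theorem Q110545 : ∀ i, i < 110545 → P i := stepQ 110544 Q110544 (allL N110544 (tt N112114 F479554) (tt N79487 F472069) (tt N112115 F479559) (tt N77744 F472067) (tt N112024 (iv4 F479126)) (tt N77735 (iv5 D213783)) (tt N105724 F472068) (tt N112116 (iv7 F479563)))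
theorem Q110546 : ∀ i, i < 110546 → P i := stepQ 110545 Q110545 (allL N110545 (tt N85891 F472073) (tt N85889 F472074) (tt N85887 F472070) (tt N91368 F472071) (tt N109198 F472075) (tt N77736 (iv5 D213784)) (tt N109197 (iv6 F472076)) (tt N85888 F472072))
theorem Q110547 : ∀ i, i < 110547 → P i := stepQ 110546 Q110546 (allL N110546 (tt N116826 F502033) (tt N117600 (iv0 F505936)) (tt N116698 (iv2 F501365)) (tt N91369 F472077) (tt N91377 F472078) (tt N117667 (iv5 F506308)) (tt N77736 (iv6 D213785)) (tt N105439 F472079))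
theorem Q110548 : ∀ i, i < 110548 → P i := stepQ 110547 Q110547 (allL N110547 (tt N85889 F472083) (tt N85891 F472084) (tt N85888 F472080) (tt N110218 F472081) (tt N84759 F472085) (tt N77737 (iv5 D213786)) (tt N105511 (iv6 F472086)) (tt N85887 F472082))
theorem Q110549 : ∀ i, i < 110549 → P i := stepQ 110548 Q110548 (allL N110548 (tt N114466 F490327) (tt N101427 F472090) (tt N91449 F472087) (tt N77739 F472088) (tt N95227 F472089) (tt N77738 (iv5 D213787)) (tt N95226 F472091) (tt N114991 (iv7 F492954)))
theorem Q110550 : ∀ i, i < 110550 → P i := stepQ 110549 Q110549 (allL N110549 (tt N90254 F472096) (tt N118830 (iv0 F512302)) (tt N107752 F472092) (tt N77740 F472093) (tt N113014 (iv4 F483558)) (tt N107747 F472094) (tt N77738 (iv6 D213788)) (tt N107750 F472095))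
theorem Q110551 : ∀ i, i < 110551 → P i := stepQ 110550 Q110550 (allL N110550 (tt N77745 (iv1 F472097)) (tt N77739 (iv0 D213789)) (tt N114988 F492936) (tt N117441 (iv3 F505040)) (tt N120186 (iv4 F519494)) (tt N114921 (iv5 F492543)) (tt N118193 (iv6 F509073)) (tt N114989 (iv7 F492940)))
theorem Q110552 : ∀ i, i < 110552 → P i := stepQ 110551 Q110551 (allL N110551 (tt N77739 (iv1 D213790)) (tt N77745 F472098) (tt N114989 (iv2 F492943)) (tt N110439 (iv3 F472100)) (tt N105735 F472102) (tt N102721 F472099) (tt N105622 (iv6 F472101)) (tt N114988 F492938))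
theorem Q110553 : ∀ i, i < 110553 → P i := stepQ 110552 Q110552 (allL N110552 (tt N121185 (iv1 F525014)) (tt N109793 F472106) (tt N109867 F472103) (tt N95230 F472104) (tt N77739 (iv4 D213791)) (tt N109820 F472105) (tt N95228 F472107) (tt N121184 (iv7 F525002)))
theorem Q110554 : ∀ i, i < 110554 → P i := stepQ 110553 Q110553 (allL N110553 (tt N96379 F472113) (tt N116374 F499770) (tt N109866 F472108) (tt N95226 F472109) (tt N95228 F472110) (tt N109855 (iv5 F472111)) (tt N77739 (iv6 D213792)) (tt N96653 F472112))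
theorem Q110555 : ∀ i, i < 110555 → P i := stepQ 110554 Q110554 (allL N110554 (tt N80171 F472119) (tt N79823 F472118) (tt N112665 (iv2 F482073)) (tt N107747 F472114) (tt N94929 F472115) (tt N77740 (iv5 D213793)) (tt N109855 F472116) (tt N101737 F472117))
theorem Q110556 : ∀ i, i < 110556 → P i := stepQ 110555 Q110555 (allL N110555 (tt N109832 F472123) (tt N119285 F514831) (tt N91468 F472120) (tt N77742 (iv3 D213794)) (tt N91488 F472121) (tt N121170 (iv5 F524918)) (tt N120207 (iv6 F519595)) (tt N93554 F472122))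
theorem Q110557 : ∀ i, i < 110557 → P i := stepQ 110556 Q110556 (allL N110556 (tt N110020 F472126) (tt N107666 F472127) (tt N110019 F472124) (tt N121170 F524921) (tt N109900 (iv4 F472129)) (tt N77742 (iv5 D213795)) (tt N109840 F472128) (tt N100445 F472125))
theorem Q110558 : ∀ i, i < 110558 → P i := stepQ 110557 Q110557 (allL N110557 (tt N109793 F472133) (tt N121185 F525013) (tt N121184 (iv2 F525007)) (tt N110378 F472130) (tt N77745 (iv4 D213796)) (tt N109900 F472131) (tt N121142 (iv6 F524748)) (tt N109867 F472132))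
theorem Q110559 : ∀ i, i < 110559 → P i := stepQ 110558 Q110558 (allL N110558 (tt N121953 F529272) (tt N118190 (iv0 F509063)) (tt N108873 F472134) (tt N91443 F472135) (tt N121142 (iv4 F524747)) (tt N108865 (iv5 F472136)) (tt N77745 (iv6 D213797)) (tt N108870 F472137))
theorem Q110560 : ∀ i, i < 110560 → P i := stepQ 110559 Q110559 (allL N110559 (tt N112668 F482098) (tt N77746 (iv0 D213798)) (tt N102852 (iv2 F472140)) (tt N118306 (iv3 F509616)) (tt N102785 F472139) (tt N96160 F472138) (tt N117599 F505930) (tt N118305 (iv7 F509611)))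
theorem Q110561 : ∀ i, i < 110561 → P i := stepQ 110560 Q110560 (allL N110560 (tt N103346 (iv1 F472146)) (tt N93954 F472145) (tt N103345 F472141) (tt N91446 F472142) (tt N109260 F472144) (tt N77746 (iv5 D213799)) (tt N108865 F472143) (tt N103344 F472151))
theorem Q110562 : ∀ i, i < 110562 → P i := stepQ 110561 Q110561 (allL N110561 (tt N118305 (iv1 F509612)) (tt N102852 (iv0 F472152)) (tt N112668 (iv2 F482093)) (tt N91447 F472147) (tt N77748 F472148) (tt N103344 (iv5 F472150)) (tt N81279 F472149) (tt N77746 (iv7 D213800)))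
theorem Q110563 : ∀ i, i < 110563 → P i := stepQ 110562 Q110562 (allL N110562 (tt N100474 F472157) (tt N100473 F472158) (tt N77755 F472153) (tt N109944 F472154) (tt N109899 F472155) (tt N77749 (iv5 D213801)) (tt N121919 (iv6 F529057)) (tt N100472 F472156))
theorem Q110564 : ∀ i, i < 110564 → P i := stepQ 110563 Q110563 (allL N110563 (tt N110918 (iv1 F473784)) (tt N106684 (iv0 F472162)) (tt N77756 F472159) (tt N109945 F472160) (tt N77750 F472161) (tt N112580 (iv5 F481709)) (tt N77749 (iv6 D213802)) (tt N110917 (iv7 F473780)))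
theorem Q110565 : ∀ i, i < 110565 → P i := stepQ 110564 Q110564 (allL N110564 (tt N99269 F472165) (tt N119898 F517925) (tt N100513 F472163) (tt N117458 (iv3 F505142)) (tt N113417 (iv4 F485393)) (tt N77752 (iv5 D213803)) (tt N113404 (iv6 F485345)) (tt N98880 F472164))
theorem Q110566 : ∀ i, i < 110566 → P i := stepQ 110565 Q110565 (allL N110565 (tt N117437 F505026) (tt N116622 (iv0 F501022)) (tt N121227 F525244) (tt N77754 (iv3 D213804)) (tt N111208 (iv4 F475226)) (tt N121117 (iv5 F524593)) (tt N119858 (iv6 F517734)) (tt N98903 F472166))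
theorem Q110567 : ∀ i, i < 110567 → P i := stepQ 110566 Q110566 (allL N110566 (tt N100472 (iv1 F472168)) (tt N77755 (iv0 D213805)) (tt N100474 (iv2 F472169)) (tt N98934 (iv3 F472170)) (tt N121956 (iv4 F529284)) (tt N98932 F472167) (tt N121355 F525941) (tt N100473 (iv7 F472171)))
theorem Q110568 : ∀ i, i < 110568 → P i := stepQ 110567 Q110567 (allL N110567 (tt N77755 (iv1 D213806)) (tt N100472 F472172) (tt N100473 F472176) (tt N120493 (iv3 F521069)) (tt N121843 (iv4 F528648)) (tt N109607 F472174) (tt N99970 (iv6 F472175)) (tt N100474 F472173))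
theorem Q110569 : ∀ i, i < 110569 → P i := stepQ 110568 Q110568 (allL N110568 (tt N109900 F472179) (tt N109820 F472180) (tt N109899 F472177) (tt N121583 (iv3 F527155)) (tt N77755 (iv4 D213807)) (tt N114749 (iv5 F491652)) (tt N101294 F472181) (tt N100475 F472178))
theorem Q110570 : ∀ i, i < 110570 → P i := stepQ 110569 Q110569 (allL N110569 (tt N121959 D225218) (tt N90853 (iv0 F472184)) (tt N121919 (iv2 F529055)) (tt N99971 F472182) (tt N101294 F472183) (tt N121960 D225219) (tt N77755 (iv6 D213808)) (tt N121920 (iv7 F529066)))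
theorem Q110571 : ∀ i, i < 110571 → P i := stepQ 110570 Q110570 (allL N110570 (tt N110917 (iv1 F473782)) (tt N77756 (iv0 D213809)) (tt N110918 F473787) (tt N77946 (iv3 F472188)) (tt N94086 F472186) (tt N98952 F472185) (tt N119692 (iv6 F516949)) (tt N106684 (iv7 F472187)))
theorem Q110572 : ∀ i, i < 110572 → P i := stepQ 110571 Q110571 (allL N110571 (tt N118234 (iv1 F509286)) (tt N118233 (iv0 F509280)) (tt N112580 (iv2 F481708)) (tt N99965 F472189) (tt N121961 D225220) (tt N77756 (iv5 D213810)) (tt N121960 (iv6 F529312)) (tt N110919 (iv7 F473791)))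
theorem Q110573 : ∀ i, i < 110573 → P i := stepQ 110572 Q110572 (allL N110572 (tt N111544 (iv1 F476843)) (tt N104773 (iv0 F472193)) (tt N81094 (iv2 F472191)) (tt N77757 (iv3 D213811)) (tt N112296 (iv4 F480416)) (tt N80762 F472190) (tt N80764 (iv6 F472192)) (tt N111545 (iv7 F476847)))
theorem Q110574 : ∀ i, i < 110574 → P i := stepQ 110573 Q110573 (allL N110573 (tt N110618 F472428) (tt N110622 F472445) (tt N110621 F472441) (tt N101311 F472447) (tt N77757 (iv4 D213812)) (tt N99247 F472194) (tt N110825 F473317) (tt N110620 F472438))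
theorem Q110575 : ∀ i, i < 110575 → P i := stepQ 110574 Q110574 (allL N110574 (tt N79418 F472199) (tt N79387 (iv0 F472200)) (tt N79413 F472195) (tt N80764 F472196) (tt N110825 (iv4 F473315)) (tt N79383 F472197) (tt N77757 (iv6 D213813)) (tt N79405 F472198))
theorem Q110576 : ∀ i, i < 110576 → P i := stepQ 110575 Q110575 (allL N110575 (tt N110541 F472771) (tt N94200 F475636) (tt N94307 F472201) (tt N94358 F472202) (tt N77759 (iv4 D213814)) (tt N116940 (iv5 F502606)) (tt N108042 F472203) (tt N109416 F472204))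
theorem Q110577 : ∀ i, i < 110577 → P i := stepQ 110576 Q110576 (allL N110576 (tt N92368 F472208) (tt N109579 (iv0 F472209)) (tt N108821 F472205) (tt N77764 F472206) (tt N113286 (iv4 F484855)) (tt N108820 F472207) (tt N77762 (iv6 D213815)) (tt N120147 (iv7 F519298)))
theorem Q110578 : ∀ i, i < 110578 → P i := stepQ 110577 Q110577 (allL N110577 (tt N108818 F472213) (tt N77764 (iv0 D213816)) (tt N120145 F519285) (tt N100101 (iv3 F472212)) (tt N121749 (iv4 F528090)) (tt N94318 F472211) (tt N100100 F472210) (tt N120146 (iv7 F519288)))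
theorem Q110579 : ∀ i, i < 110579 → P i := stepQ 110578 Q110578 (allL N110578 (tt N77764 (iv1 D213817)) (tt N108818 F472214) (tt N120146 (iv2 F519293)) (tt N100048 (iv3 F472216)) (tt N100107 F472215) (tt N94317 (iv5 F472217)) (tt N100047 (iv6 F472218)) (tt N120145 F519286))
theorem Q110580 : ∀ i, i < 110580 → P i := stepQ 110579 Q110579 (allL N110579 (tt N120146 (iv1 F519287)) (tt N120145 F519284) (tt N108818 F472219) (tt N120147 (iv3 F519295)) (tt N100114 F472220) (tt N108817 F472221) (tt N120123 (iv6 F519176)) (tt N77764 (iv7 D213818)))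
theorem Q110581 : ∀ i, i < 110581 → P i := stepQ 110580 Q110580 (allL N110580 (tt N88624 F472224) (tt N120150 (iv0 F519317)) (tt N90476 (iv2 F472225)) (tt N77765 (iv3 D213819)) (tt N100582 F472222) (tt N90464 (iv5 F472226)) (tt N92478 F472223) (tt N116445 (iv7 F500156)))
theorem Q110582 : ∀ i, i < 110582 → P i := stepQ 110581 Q110581 (allL N110581 (tt N94377 F472230) (tt N108041 F472231) (tt N108049 F472227) (tt N90464 F472228) (tt N119260 (iv4 F514680)) (tt N77765 (iv5 D213820)) (tt N119693 (iv6 F516955)) (tt N108050 F472229))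
theorem Q110583 : ∀ i, i < 110583 → P i := stepQ 110582 Q110582 (allL N110582 (tt N113281 F501213) (tt N117778 (iv0 F506923)) (tt N121765 (iv2 F528182)) (tt N77766 (iv3 D213821)) (tt N107502 F472232) (tt N121429 (iv5 F526319)) (tt N107589 F472233) (tt N120160 (iv7 F519351)))
theorem Q110584 : ∀ i, i < 110584 → P i := stepQ 110583 Q110583 (allL N110583 (tt N108041 F472237) (tt N94377 F472238) (tt N108050 F472234) (tt N121429 (iv3 F526317)) (tt N106689 F472236) (tt N77766 (iv5 D213822)) (tt N94296 F472239) (tt N108049 F472235))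
theorem Q110585 : ∀ i, i < 110585 → P i := stepQ 110584 Q110584 (allL N110584 (tt N108434 (iv1 F472246)) (tt N97328 F472247) (tt N78034 F472241) (tt N95579 F472242) (tt N77854 F472243) (tt N77768 F472244) (tt N107574 F472245) (tt N77767 (iv7 D213823)))
theorem Q110586 : ∀ i, i < 110586 → P i := stepQ 110585 Q110585 (allL N110585 (tt N117917 F507590) (tt N108306 F472250) (tt N117901 (iv2 F507503)) (tt N107352 F472248) (tt N119716 (iv4 F517064)) (tt N77770 (iv5 D213824)) (tt N107348 F472249) (tt N119933 (iv7 F518111)))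
theorem Q110587 : ∀ i, i < 110587 → P i := stepQ 110586 Q110586 (allL N110586 (tt N119775 (iv1 F517359)) (tt N118494 F511056) (tt N119938 (iv2 F518133)) (tt N77773 (iv3 D213825)) (tt N110021 F472251) (tt N121962 D225221) (tt N107599 F472252) (tt N119097 F513779))
theorem Q110588 : ∀ i, i < 110588 → P i := stepQ 110587 Q110587 (allL N110587 (tt N108306 F472253) (tt N117917 F507591) (tt N119933 (iv2 F518107)) (tt N121962 (iv3 F529323)) (tt N110781 (iv4 F473165)) (tt N77773 (iv5 D213826)) (tt N94340 F472254) (tt N117901 (iv7 F507506)))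
theorem Q110589 : ∀ i, i < 110589 → P i := stepQ 110588 Q110588 (allL N110588 (tt N91409 (iv1 F472260)) (tt N95802 (iv0 F472259)) (tt N112194 (iv2 F479997)) (tt N77778 (iv3 D213827)) (tt N95084 F472258) (tt N100700 F472255) (tt N79445 F472256) (tt N97407 F472257))
theorem Q110590 : ∀ i, i < 110590 → P i := stepQ 110589 Q110589 (allL N110589 (tt N118322 (iv1 F509699)) (tt N118323 (iv0 F509706)) (tt N111601 (iv2 F477112)) (tt N95085 F472261) (tt N77778 (iv4 D213828)) (tt N121611 (iv5 F527326)) (tt N120723 (iv6 F522358)) (tt N111438 (iv7 F476366)))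
theorem Q110591 : ∀ i, i < 110591 → P i := stepQ 110590 Q110590 (allL N110590 (tt N77780 (iv1 D213829)) (tt N99501 F472262) (tt N108832 F472267) (tt N121963 D225222) (tt N109348 F472265) (tt N95319 F472264) (tt N95320 (iv6 F472266)) (tt N108047 F472263))
theorem Q110592 : ∀ i, i < 110592 → P i := stepQ 110591 Q110591 (allL N110591 (tt N81683 (iv1 F472274)) (tt N81691 (iv0 F472273)) (tt N81690 (iv2 F472272)) (tt N77781 (iv3 D213830)) (tt N108249 F472271) (tt N80455 F472268) (tt N94470 F472269) (tt N81689 F472270))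
theorem Q110593 : ∀ i, i < 110593 → P i := stepQ 110592 Q110592 (allL N110592 (tt N80407 F472279) (tt N100033 F472280) (tt N108052 F472275) (tt N92399 F472281) (tt N77781 (iv4 D213831)) (tt N106123 F472276) (tt N94471 F472277) (tt N106122 F472278))
theorem Q110594 : ∀ i, i < 110594 → P i := stepQ 110593 Q110593 (allL N110593 (tt N94136 F472292) (tt N101161 (iv0 F472293)) (tt N103160 F472294) (tt N77782 (iv3 D213832)) (tt N107941 F472288) (tt N89448 F472289) (tt N107924 F472290) (tt N103159 F472291))
theorem Q110595 : ∀ i, i < 110595 → P i := stepQ 110594 Q110594 (allL N110594 (tt N95269 F472299) (tt N119208 (iv0 F514368)) (tt N95152 F472295) (tt N91943 F472296) (tt N118028 (iv4 F508171)) (tt N86852 (iv5 F472298)) (tt N77791 (iv6 D213833)) (tt N106097 F472297))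
theorem Q110596 : ∀ i, i < 110596 → P i := stepQ 110595 Q110595 (allL N110595 (tt N80541 (iv1 F472304)) (tt N78422 (iv0 F472303)) (tt N77794 F472300) (tt N97675 F472301) (tt N85257 F472302) (tt N121964 D225223) (tt N77792 (iv6 D213834)) (tt N80540 (iv7 F472305)))
theorem Q110597 : ∀ i, i < 110597 → P i := stepQ 110596 Q110596 (allL N110596 (tt N105255 (iv1 F472309)) (tt N113909 F487738) (tt N113911 (iv2 F487742)) (tt N77795 F472306) (tt N91016 F472307) (tt N115631 (iv5 F496057)) (tt N77793 (iv6 D213835)) (tt N90650 F472308))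
theorem Q110598 : ∀ i, i < 110598 → P i := stepQ 110597 Q110597 (allL N110597 (tt N111445 (iv1 F476402)) (tt N121965 D225224) (tt N121964 (iv2 F529336)) (tt N77796 F472310) (tt N114984 (iv4 F492911)) (tt N77794 (iv5 D213836)) (tt N115631 (iv6 F496058)) (tt N115032 (iv7 F493125)))
theorem Q110599 : ∀ i, i < 110599 → P i := stepQ 110598 Q110598 (allL N110598 (tt N78422 (iv1 F472315)) (tt N80541 F472316) (tt N80540 F472311) (tt N77797 F472312) (tt N94745 F472313) (tt N115032 (iv5 F493126)) (tt N95154 F472314) (tt N77794 (iv7 D213837)))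
theorem Q110600 : ∀ i, i < 110600 → P i := stepQ 110599 Q110599 (allL N110599 (tt N95419 F472319) (tt N95413 F472320) (tt N102327 F472317) (tt N88005 F472321) (tt N77796 (iv4 D213838)) (tt N115772 (iv5 F496791)) (tt N115604 (iv6 F495958)) (tt N88002 F472318))
theorem Q110601 : ∀ i, i < 110601 → P i := stepQ 110600 Q110600 (allL N110600 (tt N78371 F472326) (tt N78374 F472327) (tt N111721 (iv2 F477655)) (tt N77803 (iv3 D213839)) (tt N94085 F472322) (tt N88181 F472323) (tt N94084 F472324) (tt N87357 F472325))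
theorem Q110602 : ∀ i, i < 110602 → P i := stepQ 110601 Q110601 (allL N110601 (tt N106808 (iv1 F472334)) (tt N91012 F472333) (tt N77805 (iv2 D213840)) (tt N91557 F472328) (tt N109134 F472329) (tt N96740 F472330) (tt N105289 F472331) (tt N106806 F472332))
theorem Q110603 : ∀ i, i < 110603 → P i := stepQ 110602 Q110602 (allL N110602 (tt N77806 (iv1 D213841)) (tt N91549 F472335) (tt N87500 F472341) (tt N102868 (iv3 F472339)) (tt N78372 F472338) (tt N87499 F472337) (tt N78371 (iv6 F472340)) (tt N81505 F472336))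
theorem Q110604 : ∀ i, i < 110604 → P i := stepQ 110603 Q110603 (allL N110603 (tt N77807 (iv1 D213842)) (tt N77873 F472342) (tt N77871 F472347) (tt N97209 (iv3 F472346)) (tt N94973 F472345) (tt N106167 F472344) (tt N100435 F472348) (tt N77872 F472343))
theorem Q110605 : ∀ i, i < 110605 → P i := stepQ 110604 Q110604 (allL N110604 (tt N77880 (iv1 F472356)) (tt N77812 (iv0 D213843)) (tt N77877 (iv2 F472350)) (tt N114028 F488270) (tt N94265 (iv4 F472357)) (tt N117295 (iv5 F504330)) (tt N98922 F472349) (tt N77878 (iv7 F472351)))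
theorem Q110606 : ∀ i, i < 110606 → P i := stepQ 110605 Q110605 (allL N110605 (tt N77812 (iv1 D213844)) (tt N77880 F472352) (tt N77878 (iv2 F472354)) (tt N100409 F472355) (tt N94266 F472361) (tt N119694 (iv5 F516958)) (tt N118989 (iv6 F513148)) (tt N77877 F472353))
theorem Q110607 : ∀ i, i < 110607 → P i := stepQ 110606 Q110606 (allL N110606 (tt N77878 (iv1 F472366)) (tt N77877 F472367) (tt N77880 F472362) (tt N106915 F472363) (tt N118172 (iv4 F508999)) (tt N106926 F472364) (tt N77901 F472365) (tt N77812 (iv7 D213845)))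
theorem Q110608 : ∀ i, i < 110608 → P i := stepQ 110607 Q110607 (allL N110607 (tt N77901 (iv1 F472370)) (tt N77813 (iv0 D213846)) (tt N77898 (iv2 F472369)) (tt N118235 (iv3 F509288)) (tt N94241 F472368) (tt N116189 (iv5 F498922)) (tt N98915 (iv6 F472372)) (tt N77899 F472371))
theorem Q110609 : ∀ i, i < 110609 → P i := stepQ 110608 Q110608 (allL N110608 (tt N90344 F472377) (tt N112674 (iv0 F482115)) (tt N121205 F525124) (tt N77815 (iv3 D213847)) (tt N105816 F472373) (tt N83328 F472374) (tt N98862 F472375) (tt N77911 F472376))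
theorem Q110610 : ∀ i, i < 110610 → P i := stepQ 110609 Q110609 (allL N110609 (tt N99110 F472382) (tt N78054 F472383) (tt N77939 F472378) (tt N110920 (iv3 F473795)) (tt N101661 F472379) (tt N101621 F472380) (tt N77816 (iv6 D213848)) (tt N93630 F472381))
theorem Q110611 : ∀ i, i < 110611 → P i := stepQ 110610 Q110610 (allL N110610 (tt N110727 (iv1 F472924)) (tt N77818 (iv0 D213849)) (tt N99126 (iv2 F472384)) (tt N110924 (iv3 F473818)) (tt N119165 (iv4 F514145)) (tt N120366 (iv5 F520398)) (tt N99114 F472385) (tt N110726 (iv7 F472914)))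
theorem Q110612 : ∀ i, i < 110612 → P i := stepQ 110611 Q110611 (allL N110611 (tt N110726 (iv1 F472913)) (tt N99126 (iv0 F472390)) (tt N110727 (iv2 F472918)) (tt N77822 F472386) (tt N93410 F472387) (tt N101349 F472388) (tt N77944 F472389) (tt N77818 (iv7 D213850)))
theorem Q110613 : ∀ i, i < 110613 → P i := stepQ 110612 Q110612 (allL N110612 (tt N83534 F472394) (tt N83537 F472395) (tt N77925 F472391) (tt N81843 F472392) (tt N113173 (iv4 F484322)) (tt N77819 (iv5 D213851)) (tt N121966 D225225) (tt N77927 F472393))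
theorem Q110614 : ∀ i, i < 110614 → P i := stepQ 110613 Q110613 (allL N110613 (tt N97207 (iv1 F472883)) (tt N112683 F482162) (tt N112682 (iv2 F482153)) (tt N77820 (iv3 D213852)) (tt N94450 F472397) (tt N120384 (iv5 F520500)) (tt N121967 D225226) (tt N77924 F472398))
theorem Q110615 : ∀ i, i < 110615 → P i := stepQ 110614 Q110614 (allL N110614 (tt N83537 F472404) (tt N83534 F472405) (tt N77927 F472401) (tt N120384 (iv3 F520498)) (tt N88383 F472403) (tt N77820 (iv5 D213853)) (tt N119771 (iv6 F517341)) (tt N77925 F472402))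
theorem Q110616 : ∀ i, i < 110616 → P i := stepQ 110615 Q110615 (allL N110615 (tt N96857 F472409) (tt N78053 (iv0 F472411)) (tt N77928 F472406) (tt N121967 (iv3 F529353)) (tt N94449 F472407) (tt N98779 F472410) (tt N77820 (iv6 D213854)) (tt N96891 F472408))
theorem Q110617 : ∀ i, i < 110617 → P i := stepQ 110616 Q110616 (allL N110616 (tt N77839 F472415) (tt N112610 (iv0 F481833)) (tt N112611 F481838) (tt N77823 (iv3 D213855)) (tt N90922 F472412) (tt N106924 (iv5 F472416)) (tt N108457 F472413) (tt N77932 F472414))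
theorem Q110618 : ∀ i, i < 110618 → P i := stepQ 110617 Q110617 (allL N110617 (tt N83540 F472421) (tt N83539 F472422) (tt N77934 F472417) (tt N106924 F472418) (tt N83061 F472419) (tt N77823 (iv5 D213856)) (tt N120096 (iv6 F519021)) (tt N77933 F472420))
theorem Q110619 : ∀ i, i < 110619 → P i := stepQ 110618 Q110618 (allL N110618 (tt N99188 F472427) (tt N110573 (iv0 F472428)) (tt N77828 F472423) (tt N77963 F472424) (tt N94082 F472425) (tt N110001 F472426) (tt N77826 (iv6 D213857)) (tt N119743 (iv7 F517202)))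
theorem Q110620 : ∀ i, i < 110620 → P i := stepQ 110619 Q110619 (allL N110619 (tt N91580 F472433) (tt N98875 (iv0 F472434)) (tt N97237 F472429) (tt N77829 F472430) (tt N91255 F472431) (tt N109999 F472432) (tt N77827 (iv6 D213858)) (tt N117457 (iv7 F505139)))
theorem Q110621 : ∀ i, i < 110621 → P i := stepQ 110620 Q110620 (allL N110620 (tt N119743 F517204) (tt N77828 (iv0 D213859)) (tt N99188 (iv2 F472436)) (tt N112647 (iv3 F481981)) (tt N82218 F472435) (tt N119713 (iv5 F517051)) (tt N98806 (iv6 F472437)) (tt N110573 (iv7 F472438)))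
theorem Q110622 : ∀ i, i < 110622 → P i := stepQ 110621 Q110621 (allL N110621 (tt N77828 (iv1 D213860)) (tt N119743 (iv0 F517203)) (tt N110573 (iv2 F472441)) (tt N110776 F473144) (tt N82219 F472440) (tt N119712 (iv5 F517044)) (tt N111534 (iv6 F476789)) (tt N99188 F472439))
theorem Q110623 : ∀ i, i < 110623 → P i := stepQ 110622 Q110622 (allL N110622 (tt N110573 (iv1 F472445)) (tt N99188 F472446) (tt N119743 (iv2 F517199)) (tt N77830 F472442) (tt N94088 F472443) (tt N119737 (iv5 F517174)) (tt N77986 F472444) (tt N77828 (iv7 D213861)))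
theorem Q110624 : ∀ i, i < 110624 → P i := stepQ 110623 Q110623 (allL N110623 (tt N77972 F472461) (tt N77829 (iv0 D213862)) (tt N77969 (iv2 F472467)) (tt N110626 (iv3 F472481)) (tt N106463 F472460) (tt N121836 (iv5 F528609)) (tt N121968 D225227) (tt N77970 (iv7 F472464)))
theorem Q110625 : ∀ i, i < 110625 → P i := stepQ 110624 Q110624 (allL N110624 (tt N77829 (iv1 D213863)) (tt N77972 F472469) (tt N77970 F472473) (tt N110037 (iv3 F472472)) (tt N106464 (iv4 F472471)) (tt N121835 (iv5 F528601)) (tt N119287 (iv6 F514845)) (tt N77969 F472470))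
theorem Q110626 : ∀ i, i < 110626 → P i := stepQ 110625 Q110625 (allL N110625 (tt N77970 (iv1 F472478)) (tt N77969 F472479) (tt N77972 F472474) (tt N117457 (iv3 F505136)) (tt N102747 F472475) (tt N110004 F472476) (tt N77990 F472477) (tt N77829 (iv7 D213864)))
theorem Q110627 : ∀ i, i < 110627 → P i := stepQ 110626 Q110626 (allL N110626 (tt N86375 (iv1 F472484)) (tt N77831 (iv0 D213865)) (tt N85337 (iv2 F472482)) (tt N110623 F472481) (tt N85334 F472480) (tt N116948 (iv5 F502650)) (tt N121540 F526932) (tt N89487 F472483))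
theorem Q110628 : ∀ i, i < 110628 → P i := stepQ 110627 Q110627 (allL N110627 (tt N89487 (iv1 F472489)) (tt N85337 F472490) (tt N86375 F472485) (tt N77833 F472486) (tt N86374 F472487) (tt N116672 (iv5 F501242)) (tt N77967 F472488) (tt N77831 (iv7 D213866)))
theorem Q110629 : ∀ i, i < 110629 → P i := stepQ 110628 Q110628 (allL N110628 (tt N77832 (iv1 D213867)) (tt N77990 F472491) (tt N77988 (iv2 F472493)) (tt N110757 F473037) (tt N106681 (iv4 F472494)) (tt N120342 (iv5 F520281)) (tt N99267 (iv6 F473321)) (tt N77987 F472492))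
theorem Q110630 : ∀ i, i < 110630 → P i := stepQ 110629 Q110629 (allL N110629 (tt N77988 (iv1 F472499)) (tt N77987 F472500) (tt N77990 F472496) (tt N100450 F472497) (tt N118466 (iv4 F510520)) (tt N121589 (iv5 F527194)) (tt N77972 F472498) (tt N77832 (iv7 D213868)))
theorem Q110631 : ∀ i, i < 110631 → P i := stepQ 110630 Q110630 (allL N110630 (tt N93408 F472504) (tt N77974 (iv0 F472505)) (tt N96528 F472501) (tt N77835 (iv3 D213869)) (tt N96321 F472502) (tt N93459 F472506) (tt N112648 (iv6 F481988)) (tt N77841 F472503))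
theorem Q110632 : ∀ i, i < 110632 → P i := stepQ 110631 Q110631 (allL N110631 (tt N77968 F472511) (tt N82086 F472512) (tt N77838 F472507) (tt N93459 F472508) (tt N78133 F472509) (tt N77835 (iv5 D213870)) (tt N116626 (iv6 F501039)) (tt N77843 F472510))
theorem Q110633 : ∀ i, i < 110633 → P i := stepQ 110632 Q110632 (allL N110632 (tt N77932 F481815) (tt N112611 F481839) (tt N77839 F472513) (tt N112648 (iv3 F481985)) (tt N117000 F502905) (tt N112603 (iv5 F481793)) (tt N77835 (iv6 D213871)) (tt N112610 (iv7 F481832)))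
theorem Q110634 : ∀ i, i < 110634 → P i := stepQ 110633 Q110633 (allL N110633 (tt N78345 F472518) (tt N82580 (iv0 F472519)) (tt N106226 F472514) (tt N77837 (iv3 D213872)) (tt N106298 F472515) (tt N96715 F472516) (tt N86750 (iv6 F472520)) (tt N106275 F472517))
theorem Q110635 : ∀ i, i < 110635 → P i := stepQ 110634 Q110634 (allL N110634 (tt N116956 F502696) (tt N106239 (iv0 F472524)) (tt N117000 (iv2 F502908)) (tt N86750 F472521) (tt N77839 F472522) (tt N95218 F472523) (tt N77837 (iv6 D213873)) (tt N112612 (iv7 F481842)))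
theorem Q110636 : ∀ i, i < 110636 → P i := stepQ 110635 Q110635 (allL N110635 (tt N110036 F472528) (tt N110037 (iv0 F472529)) (tt N116626 F501040) (tt N100452 F472525) (tt N105384 F472526) (tt N112613 (iv5 F481846)) (tt N77838 (iv6 D213874)) (tt N81939 F472527))
theorem Q110637 : ∀ i, i < 110637 → P i := stepQ 110636 Q110636 (allL N110636 (tt N114798 (iv1 F491932)) (tt N99167 (iv0 F472532)) (tt N118216 (iv2 F509204)) (tt N77844 F472530) (tt N103162 F472531) (tt N120181 (iv5 F519469)) (tt N77841 (iv6 D213875)) (tt N120003 (iv7 F518499)))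
theorem Q110638 : ∀ i, i < 110638 → P i := stepQ 110637 Q110637 (allL N110637 (tt N111208 F475228) (tt N111360 (iv0 F476005)) (tt N120213 (iv2 F519627)) (tt N106225 F472533) (tt N77844 F472534) (tt N110013 F472535) (tt N77842 (iv6 D213876)) (tt N120212 (iv7 F519624)))
theorem Q110639 : ∀ i, i < 110639 → P i := stepQ 110638 Q110638 (allL N110638 (tt N94973 F472539) (tt N94694 F472540) (tt N77848 F472536) (tt N89470 F472537) (tt N77845 (iv4 D213877)) (tt N112834 (iv5 F482859)) (tt N89469 (iv6 F472541)) (tt N94972 F472538))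
theorem Q110640 : ∀ i, i < 110640 → P i := stepQ 110639 Q110639 (allL N110639 (tt N119301 (iv1 F514923)) (tt N119300 (iv0 F514916)) (tt N77849 F472542) (tt N78004 F472543) (tt N89469 F472544) (tt N97026 F472545) (tt N77845 (iv6 D213878)) (tt N116832 (iv7 F502067)))
theorem Q110641 : ∀ i, i < 110641 → P i := stepQ 110640 Q110640 (allL N110640 (tt N116851 F502171) (tt N121969 D225228) (tt N118600 (iv2 F511097)) (tt N90215 F472546) (tt N90217 F472547) (tt N121970 D225229) (tt N77846 (iv6 D213879)) (tt N90342 F472548))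
theorem Q110642 : ∀ i, i < 110642 → P i := stepQ 110641 Q110641 (allL N110641 (tt N93380 F472549) (tt N93377 (iv0 F472551)) (tt N112673 (iv2 F482108)) (tt N77847 (iv3 D213880)) (tt N95282 F472550) (tt N112673 (iv5 F482110)) (tt N119289 (iv6 F514853)) (tt N118599 (iv7 F511094)))
theorem Q110643 : ∀ i, i < 110643 → P i := stepQ 110642 Q110642 (allL N110642 (tt N101761 F472555) (tt N80587 F472556) (tt N112834 (iv2 F482857)) (tt N94619 F472552) (tt N96711 F472553) (tt N77848 (iv5 D213881)) (tt N105356 F472557) (tt N108172 F472554))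
theorem Q110644 : ∀ i, i < 110644 → P i := stepQ 110643 Q110643 (allL N110643 (tt N108982 F472561) (tt N116830 F502055) (tt N89469 F472558) (tt N105434 F472559) (tt N77849 F472560) (tt N119234 (iv5 F514521)) (tt N77848 (iv6 D213882)) (tt N116831 (iv7 F502059)))
theorem Q110645 : ∀ i, i < 110645 → P i := stepQ 110644 Q110644 (allL N110644 (tt N119300 (iv1 F514917)) (tt N119301 (iv0 F514922)) (tt N116832 (iv2 F502065)) (tt N77856 F472563) (tt N116831 F502063) (tt N97029 F472564) (tt N118036 (iv6 F508216)) (tt N77849 (iv7 D213883)))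
theorem Q110646 : ∀ i, i < 110646 → P i := stepQ 110645 Q110645 (allL N110645 (tt N91456 F472569) (tt N109488 (iv0 F472570)) (tt N109523 F472565) (tt N77852 F472566) (tt N103973 F472567) (tt N109489 F472568) (tt N77851 (iv6 D213884)) (tt N109524 F472571))
theorem Q110647 : ∀ i, i < 110647 → P i := stepQ 110646 Q110646 (allL N110646 (tt N78021 (iv1 F472582)) (tt N77852 (iv0 D213885)) (tt N78018 (iv2 F473094)) (tt N116946 (iv3 F502638)) (tt N118171 (iv4 F508991)) (tt N119911 (iv5 F517994)) (tt N109828 F473093) (tt N78019 (iv7 F473096)))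
theorem Q110648 : ∀ i, i < 110648 → P i := stepQ 110647 Q110647 (allL N110647 (tt N77852 (iv1 D213886)) (tt N78021 F472572) (tt N78019 F473097) (tt N121969 F529369) (tt N117849 F507259) (tt N119910 (iv5 F517987)) (tt N117852 (iv6 F507271)) (tt N78018 F473095))
theorem Q110649 : ∀ i, i < 110649 → P i := stepQ 110648 Q110648 (allL N110648 (tt N121971 D225230) (tt N106627 F473277) (tt N78020 F472573) (tt N109489 F472574) (tt N88407 F472576) (tt N77852 (iv5 D213887)) (tt N88406 F472575) (tt N109533 (iv7 F472577)))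
theorem Q110650 : ∀ i, i < 110650 → P i := stepQ 110649 Q110649 (allL N110649 (tt N78019 (iv1 F472583)) (tt N78018 F472587) (tt N78021 F472578) (tt N109524 F472579) (tt N118460 (iv4 F510493)) (tt N109533 F472580) (tt N78027 F472581) (tt N77852 (iv7 D213888)))
theorem Q110651 : ∀ i, i < 110651 → P i := stepQ 110650 Q110650 (allL N110650 (tt N83305 F472591) (tt N120468 (iv0 F520939)) (tt N78026 F472588) (tt N112672 (iv3 F482105)) (tt N88606 F472590) (tt N77853 (iv5 D213889)) (tt N83387 F472589) (tt N110017 F472598))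
theorem Q110652 : ∀ i, i < 110652 → P i := stepQ 110651 Q110651 (allL N110651 (tt N78025 (iv1 F472595)) (tt N78024 F472596) (tt N78027 F472592) (tt N98877 F472593) (tt N118459 (iv4 F510486)) (tt N110017 (iv5 F472597)) (tt N78021 F472594) (tt N77853 (iv7 D213890)))
theorem Q110653 : ∀ i, i < 110653 → P i := stepQ 110652 Q110652 (allL N110652 (tt N94382 (iv1 F472604)) (tt N77859 (iv0 D213891)) (tt N94379 (iv2 F472603)) (tt N106968 F472602) (tt N110238 F472600) (tt N106967 F472601) (tt N119720 (iv6 F517088)) (tt N94380 F472605))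
theorem Q110654 : ∀ i, i < 110654 → P i := stepQ 110653 Q110653 (allL N110653 (tt N112368 (iv1 F480770)) (tt N120727 (iv0 F522385)) (tt N94381 F472606) (tt N77888 F472607) (tt N100514 F472610) (tt N77859 (iv5 D213892)) (tt N77860 F472608) (tt N103111 F472609))
theorem Q110655 : ∀ i, i < 110655 → P i := stepQ 110654 Q110654 (allL N110654 (tt N101853 (iv1 F472615)) (tt N110822 (iv0 F473305)) (tt N96924 F472611) (tt N77861 (iv3 D213893)) (tt N101910 F472614) (tt N94331 F472612) (tt N96923 F472613) (tt N112799 (iv7 F482667)))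
theorem Q110656 : ∀ i, i < 110656 → P i := stepQ 110655 Q110655 (allL N110655 (tt N118791 (iv1 F512096)) (tt N116537 (iv0 F500666)) (tt N77864 F472617) (tt N93392 F472618) (tt N107716 F472619) (tt N118291 (iv5 F509551)) (tt N77863 (iv6 D213894)) (tt N107844 (iv7 F472620)))
theorem Q110657 : ∀ i, i < 110657 → P i := stepQ 110656 Q110656 (allL N110656 (tt N107844 (iv1 F472629)) (tt N77864 (iv0 D213895)) (tt N118791 (iv2 F512090)) (tt N116473 (iv3 F500320)) (tt N117269 (iv4 F504202)) (tt N121972 D225231) (tt N95326 (iv6 F504208)) (tt N116537 (iv7 F500665)))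
theorem Q110658 : ∀ i, i < 110658 → P i := stepQ 110657 Q110657 (allL N110657 (tt N102312 F472624) (tt N118175 (iv0 F509014)) (tt N118291 (iv2 F509553)) (tt N77865 F472621) (tt N108889 F472623) (tt N77864 (iv5 D213896)) (tt N110108 F472622) (tt N118290 F509550))
theorem Q110659 : ∀ i, i < 110659 → P i := stepQ 110658 Q110658 (allL N110658 (tt N116537 F500667) (tt N118791 F512095) (tt N107844 F472625) (tt N77866 F472626) (tt N107715 F472627) (tt N118290 (iv5 F509546)) (tt N108690 F472628) (tt N77864 (iv7 D213897)))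
theorem Q110660 : ∀ i, i < 110660 → P i := stepQ 110659 Q110659 (allL N110659 (tt N92455 (iv1 F472633)) (tt N92452 F472634) (tt N102876 F472630) (tt N118290 (iv3 F509548)) (tt N79451 F472631) (tt N77866 F472632) (tt N82326 F472635) (tt N77865 (iv7 D213898)))
theorem Q110661 : ∀ i, i < 110661 → P i := stepQ 110660 Q110660 (allL N110660 (tt N77875 F472640) (tt N106676 F472641) (tt N106166 F472636) (tt N77867 (iv3 D213899)) (tt N104461 F472637) (tt N77872 F472638) (tt N121349 (iv6 F525904)) (tt N106167 F472639))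
theorem Q110662 : ∀ i, i < 110662 → P i := stepQ 110661 Q110661 (allL N110661 (tt N106676 F472646) (tt N77875 F472647) (tt N106167 F472642) (tt N82100 F472643) (tt N101614 F472644) (tt N77871 (iv5 D213900)) (tt N101613 (iv6 F472648)) (tt N106166 F472645))
theorem Q110663 : ∀ i, i < 110663 → P i := stepQ 110662 Q110662 (allL N110662 (tt N97033 (iv1 F472653)) (tt N77874 (iv0 D213901)) (tt N98900 (iv2 F472654)) (tt N96898 F472650) (tt N108982 F472651) (tt N96897 F472649) (tt N93490 F472652) (tt N99039 (iv7 F472655)))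
theorem Q110664 : ∀ i, i < 110664 → P i := stepQ 110663 Q110663 (allL N110663 (tt N77874 (iv1 D213902)) (tt N97033 F472656) (tt N99039 F472659) (tt N103216 (iv3 F472658)) (tt N116830 (iv4 F502053)) (tt N121601 (iv5 F527268)) (tt N98959 F472660) (tt N98900 F472657))
theorem Q110665 : ∀ i, i < 110665 → P i := stepQ 110664 Q110664 (allL N110664 (tt N77876 (iv1 D213903)) (tt N97214 F472661) (tt N97213 F472666) (tt N99016 (iv3 F472665)) (tt N78032 F472663) (tt N100402 F472664) (tt N98925 F472667) (tt N97212 F472662))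
theorem Q110666 : ∀ i, i < 110666 → P i := stepQ 110665 Q110665 (allL N110665 (tt N97213 (iv1 F472673)) (tt N97212 F472674) (tt N97214 F472668) (tt N96305 F472669) (tt N108046 F472670) (tt N98945 F472671) (tt N103213 F472672) (tt N77876 (iv7 D213904)))
theorem Q110667 : ∀ i, i < 110667 → P i := stepQ 110666 Q110666 (allL N110666 (tt N100364 (iv1 F472681)) (tt N100366 (iv0 F472680)) (tt N100410 (iv2 F472678)) (tt N77877 (iv3 D213905)) (tt N100358 F472677) (tt N110514 (iv5 F472679)) (tt N98932 F472675) (tt N100409 F472676))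
theorem Q110668 : ∀ i, i < 110668 → P i := stepQ 110667 Q110667 (allL N110667 (tt N94268 F472685) (tt N94189 (iv0 F472686)) (tt N94265 F472682) (tt N120727 (iv3 F522382)) (tt N77877 (iv4 D213906)) (tt N116633 (iv5 F501075)) (tt N98933 F472683) (tt N94266 F472684))
theorem Q110669 : ∀ i, i < 110669 → P i := stepQ 110668 Q110668 (allL N110668 (tt N109929 F472688) (tt N83427 F472689) (tt N117295 (iv2 F504329)) (tt N110514 F472687) (tt N117140 (iv4 F503591)) (tt N77877 (iv5 D213907)) (tt N121290 F525587) (tt N119694 (iv7 F516962)))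
theorem Q110670 : ∀ i, i < 110670 → P i := stepQ 110669 Q110669 (allL N110669 (tt N94189 F472692) (tt N94268 (iv0 F472693)) (tt N94266 F472690) (tt N116425 (iv3 F500035)) (tt N77878 (iv4 D213908)) (tt N116653 (iv5 F501157)) (tt N121973 D225232) (tt N94265 F472691))
theorem Q110671 : ∀ i, i < 110671 → P i := stepQ 110670 Q110670 (allL N110670 (tt N83427 F485493) (tt N109929 (iv0 F472694)) (tt N119694 F516960) (tt N116504 F500494) (tt N113438 F485492) (tt N77878 (iv5 D213909)) (tt N119881 (iv6 F517849)) (tt N117295 (iv7 F504331)))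
theorem Q110672 : ∀ i, i < 110672 → P i := stepQ 110671 Q110671 (allL N110671 (tt N107558 (iv1 F472697)) (tt N118601 (iv0 F511106)) (tt N118989 (iv2 F513147)) (tt N79162 F472695) (tt N121973 (iv4 F529392)) (tt N119941 (iv5 F518150)) (tt N77878 (iv6 D213910)) (tt N98938 F472696))
theorem Q110673 : ∀ i, i < 110673 → P i := stepQ 110672 Q110672 (allL N110672 (tt N106926 (iv1 F472703)) (tt N77879 (iv0 D213911)) (tt N100417 (iv2 F472702)) (tt N99132 F472700) (tt N99934 (iv4 F472706)) (tt N98786 (iv5 F472705)) (tt N99132 F472701) (tt N99933 F472704))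
theorem Q110674 : ∀ i, i < 110674 → P i := stepQ 110673 Q110673 (allL N110673 (tt N77882 (iv1 D213912)) (tt N106910 (iv0 F472711)) (tt N106909 (iv2 F472712)) (tt N100364 (iv3 F472708)) (tt N94992 (iv4 F472709)) (tt N121974 D225233) (tt N94991 (iv6 F472710)) (tt N100435 F472707))
theorem Q110675 : ∀ i, i < 110675 → P i := stepQ 110674 Q110674 (allL N110674 (tt N100435 (iv1 F472716)) (tt N106909 F472715) (tt N77882 (iv2 D213913)) (tt N106913 F472713) (tt N116017 (iv4 F498078)) (tt N116859 (iv5 F502208)) (tt N119835 (iv6 F517610)) (tt N106910 F472714))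
theorem Q110676 : ∀ i, i < 110676 → P i := stepQ 110675 Q110675 (allL N110675 (tt N109934 F472719) (tt N121974 (iv0 F529402)) (tt N121806 (iv2 F528432)) (tt N77885 (iv3 D213914)) (tt N121709 (iv4 F527885)) (tt N98791 F472717) (tt N121834 (iv6 F528596)) (tt N99138 F472718))
theorem Q110677 : ∀ i, i < 110677 → P i := stepQ 110676 Q110676 (allL N110676 (tt N109508 F472721) (tt N121975 D225234) (tt N99141 F472720) (tt N121834 (iv3 F528595)) (tt N116104 (iv4 F498476)) (tt N121966 (iv5 F529349)) (tt N77885 (iv6 D213915)) (tt N121278 (iv7 F525531)))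
theorem Q110678 : ∀ i, i < 110678 → P i := stepQ 110677 Q110677 (allL N110677 (tt N108691 (iv1 F472725)) (tt N77888 (iv0 D213916)) (tt N102809 (iv2 F472724)) (tt N118486 (iv3 F510627)) (tt N107136 F472723) (tt N92429 F472722) (tt N121491 (iv6 F526664)) (tt N108716 F472726))
theorem Q110679 : ∀ i, i < 110679 → P i := stepQ 110678 Q110678 (allL N110678 (tt N119840 (iv1 F517636)) (tt N116150 (iv0 F498760)) (tt N82102 F472727) (tt N77890 F472728) (tt N90178 F472729) (tt N99581 F472730) (tt N77889 (iv6 D213917)) (tt N99027 F472731))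
theorem Q110680 : ∀ i, i < 110680 → P i := stepQ 110679 Q110679 (allL N110679 (tt N77897 (iv1 F472739)) (tt N77893 (iv0 D213918)) (tt N77894 (iv2 F472736)) (tt N109932 F472733) (tt N108910 F472732) (tt N121976 D225235) (tt N99011 (iv6 F472738)) (tt N77895 F472735))
theorem Q110681 : ∀ i, i < 110681 → P i := stepQ 110680 Q110680 (allL N110680 (tt N121977 D225236) (tt N121978 D225237) (tt N77896 F472740) (tt N77900 F472741) (tt N116859 (iv4 F502207)) (tt N77893 (iv5 D213919)) (tt N77896 F472742) (tt N121921 (iv7 F529072)))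
theorem Q110682 : ∀ i, i < 110682 → P i := stepQ 110681 Q110681 (allL N110681 (tt N77895 (iv1 F472747)) (tt N77894 F472748) (tt N77897 F472743) (tt N77901 F472744) (tt N93552 F472745) (tt N121921 (iv5 F529071)) (tt N106915 F472746) (tt N77893 (iv7 D213920)))
theorem Q110683 : ∀ i, i < 110683 → P i := stepQ 110682 Q110682 (allL N110682 (tt N119862 (iv1 F517751)) (tt N112669 (iv0 F517308)) (tt N119863 (iv2 F517756)) (tt N77894 (iv3 D213921)) (tt N119964 F518289) (tt N119811 (iv5 F517510)) (tt N119866 (iv6 F517771)) (tt N99003 F472749))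
theorem Q110684 : ∀ i, i < 110684 → P i := stepQ 110683 Q110683 (allL N110683 (tt N108909 (iv1 F472754)) (tt N108908 (iv0 F472753)) (tt N108910 F472750) (tt N117617 (iv3 F506021)) (tt N77894 (iv4 D213922)) (tt N79217 F472752) (tt N120426 (iv6 F520720)) (tt N99004 F472751))
theorem Q110685 : ∀ i, i < 110685 → P i := stepQ 110684 Q110684 (allL N110684 (tt N121922 F529081) (tt N121709 (iv0 F527889)) (tt N121976 (iv2 F529411)) (tt N119811 (iv3 F517508)) (tt N121979 D225238) (tt N77894 (iv5 D213923)) (tt N112556 (iv6 F481640)) (tt N99005 F472755))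
theorem Q110686 : ∀ i, i < 110686 → P i := stepQ 110685 Q110685 (allL N110685 (tt N99009 (iv1 F472758)) (tt N98870 F472759) (tt N99011 F472756) (tt N119866 (iv3 F517768)) (tt N120426 (iv4 F520719)) (tt N112557 F481639) (tt N77894 (iv6 D213924)) (tt N93496 F472757))
theorem Q110687 : ∀ i, i < 110687 → P i := stepQ 110686 Q110686 (allL N110686 (tt N121709 F527890) (tt N121922 (iv0 F529080)) (tt N99005 F472760) (tt N119818 F517528) (tt N117021 (iv4 F503004)) (tt N77895 (iv5 D213925)) (tt N109942 F472761) (tt N121976 (iv7 F529414)))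
theorem Q110688 : ∀ i, i < 110688 → P i := stepQ 110687 Q110687 (allL N110687 (tt N121921 F529074) (tt N77896 (iv0 D213926)) (tt N121977 F529420) (tt N121390 F526101) (tt N121664 (iv4 F527619)) (tt N121124 F524639) (tt N121805 (iv6 F528428)) (tt N121978 (iv7 F529423)))
theorem Q110689 : ∀ i, i < 110689 → P i := stepQ 110688 Q110688 (allL N110688 (tt N77896 (iv1 D213927)) (tt N121921 (iv0 F529073)) (tt N121978 (iv2 F529426)) (tt N120100 (iv3 F519041)) (tt N117003 (iv4 F502921)) (tt N120099 (iv5 F519037)) (tt N112549 F502922) (tt N121977 F529421))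
theorem Q110690 : ∀ i, i < 110690 → P i := stepQ 110689 Q110689 (allL N110689 (tt N121978 (iv1 F529422)) (tt N121977 F529419) (tt N121921 (iv2 F529069)) (tt N77907 F472762) (tt N106911 F472763) (tt N77897 F472764) (tt N121356 (iv6 F525944)) (tt N77896 (iv7 D213928)))
theorem Q110691 : ∀ i, i < 110691 → P i := stepQ 110690 Q110690 (allL N110690 (tt N116544 (iv1 F500695)) (tt N121349 F525906) (tt N117024 (iv2 F503013)) (tt N77898 (iv3 D213929)) (tt N117017 F502991) (tt N91122 F472777) (tt N119787 (iv6 F517416)) (tt N98918 F472765))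
theorem Q110692 : ∀ i, i < 110692 → P i := stepQ 110691 Q110691 (allL N110691 (tt N94244 (iv1 F472772)) (tt N94185 (iv0 F472769)) (tt N94241 F472766) (tt N108239 (iv3 F472770)) (tt N77898 (iv4 D213930)) (tt N108042 F472768) (tt N121572 F527101) (tt N94242 F472767))
theorem Q110693 : ∀ i, i < 110693 → P i := stepQ 110692 Q110692 (allL N110692 (tt N119942 (iv1 F518158)) (tt N120336 (iv0 F520247)) (tt N116189 (iv2 F498921)) (tt N91122 (iv3 F472775)) (tt N91137 F472774) (tt N77898 (iv5 D213931)) (tt N91120 (iv6 F472776)) (tt N98921 F472773))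
theorem Q110694 : ∀ i, i < 110694 → P i := stepQ 110693 Q110693 (allL N110693 (tt N98871 (iv1 F472781)) (tt N98913 F472782) (tt N98915 F472778) (tt N119787 (iv3 F517414)) (tt N121572 (iv4 F527096)) (tt N106673 F472780) (tt N77898 (iv6 D213932)) (tt N98776 F472779))
theorem Q110695 : ∀ i, i < 110695 → P i := stepQ 110694 Q110694 (allL N110694 (tt N94185 F472788) (tt N94244 (iv0 F472789)) (tt N94242 F472783) (tt N93696 F472784) (tt N77899 (iv4 D213933)) (tt N93695 F472787) (tt N98774 F472785) (tt N94241 F472786))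
theorem Q110696 : ∀ i, i < 110696 → P i := stepQ 110695 Q110695 (allL N110695 (tt N120335 (iv1 F520242)) (tt N77900 (iv0 D213934)) (tt N116190 (iv2 F498926)) (tt N81924 (iv3 F472792)) (tt N110405 F472791) (tt N99077 F472790) (tt N81922 F472793) (tt N116191 (iv7 F498935)))
theorem Q110697 : ∀ i, i < 110697 → P i := stepQ 110696 Q110696 (allL N110696 (tt N77900 (iv1 D213935)) (tt N120335 (iv0 F520241)) (tt N116191 (iv2 F498933)) (tt N116535 (iv3 F500653)) (tt N112515 (iv4 F481456)) (tt N106663 (iv5 F472794)) (tt N109952 F472795) (tt N116190 (iv7 F498929)))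
theorem Q110698 : ∀ i, i < 110698 → P i := stepQ 110697 Q110697 (allL N110697 (tt N94988 (iv1 F472800)) (tt N77902 (iv0 D213936)) (tt N94991 (iv2 F472799)) (tt N99343 F472798) (tt N94697 F472797) (tt N95014 F472796) (tt N106909 (iv6 F472802)) (tt N94696 F472801))
theorem Q110699 : ∀ i, i < 110699 → P i := stepQ 110698 Q110698 (allL N110698 (tt N94991 (iv1 F472806)) (tt N94696 F472805) (tt N77902 (iv2 D213937)) (tt N121707 (iv3 F527872)) (tt N107164 F472803) (tt N107341 (iv5 F472807)) (tt N112524 (iv6 F481500)) (tt N94988 F472804))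
theorem Q110700 : ∀ i, i < 110700 → P i := stepQ 110699 Q110699 (allL N110699 (tt N101451 (iv1 F472814)) (tt N107202 F472813) (tt N107341 F472808) (tt N77903 F472809) (tt N95004 F472812) (tt N77902 (iv5 D213938)) (tt N105660 F472810) (tt N98904 F472811))
theorem Q110701 : ∀ i, i < 110701 → P i := stepQ 110700 Q110700 (allL N110700 (tt N113415 F485385) (tt N113412 F485386) (tt N116523 (iv2 F500599)) (tt N105660 F472815) (tt N116517 (iv4 F500571)) (tt N110721 (iv5 F472898)) (tt N77903 (iv6 D213939)) (tt N121116 (iv7 F524586)))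
theorem Q110702 : ∀ i, i < 110702 → P i := stepQ 110701 Q110701 (allL N110701 (tt N100483 F472819) (tt N100286 (iv0 F472818)) (tt N100481 F472816) (tt N118228 (iv3 F509251)) (tt N116519 (iv4 F500582)) (tt N99091 F472817) (tt N77905 (iv6 D213940)) (tt N100482 (iv7 F472820)))
theorem Q110703 : ∀ i, i < 110703 → P i := stepQ 110702 Q110702 (allL N110702 (tt N121459 (iv1 F526491)) (tt N121458 F526488) (tt N121460 (iv2 F526496)) (tt N77906 (iv3 D213941)) (tt N116103 (iv4 F498469)) (tt N106660 F472821) (tt N121980 D225239) (tt N116531 (iv7 F500638)))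
theorem Q110704 : ∀ i, i < 110704 → P i := stepQ 110703 Q110703 (allL N110703 (tt N121919 (iv1 F529061)) (tt N121920 (iv0 F529067)) (tt N90853 F472822) (tt N121980 (iv3 F529432)) (tt N90852 F472823) (tt N98968 F472824) (tt N77906 (iv6 D213942)) (tt N121959 (iv7 F529308)))
theorem Q110705 : ∀ i, i < 110705 → P i := stepQ 110704 Q110704 (allL N110704 (tt N83050 F472829) (tt N83383 F472830) (tt N83386 F472825) (tt N106672 F472826) (tt N89336 F472827) (tt N77908 (iv5 D213943)) (tt N106671 F472831) (tt N83387 F472828))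
theorem Q110706 : ∀ i, i < 110706 → P i := stepQ 110705 Q110705 (allL N110705 (tt N98877 (iv1 F472843)) (tt N98876 F472842) (tt N77909 (iv2 D213944)) (tt N121205 (iv3 F525122)) (tt N78132 F472839) (tt N121585 (iv5 F527167)) (tt N99960 F472840) (tt N98873 F472841))
theorem Q110707 : ∀ i, i < 110707 → P i := stepQ 110706 Q110706 (allL N110706 (tt N119923 (iv1 F518063)) (tt N119820 (iv0 F517539)) (tt N121585 F527169) (tt N77910 F472844) (tt N117252 (iv4 F504124)) (tt N77909 (iv5 D213945)) (tt N121944 (iv6 F529219)) (tt N98878 F472845))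
theorem Q110708 : ∀ i, i < 110708 → P i := stepQ 110707 Q110707 (allL N110707 (tt N113403 (iv1 F485348)) (tt N113402 F485343) (tt N83329 F472846) (tt N121944 (iv3 F529217)) (tt N83319 F472847) (tt N107554 F472848) (tt N77910 (iv6 D213946)) (tt N113404 (iv7 F485346)))
theorem Q110709 : ∀ i, i < 110709 → P i := stepQ 110708 Q110708 (allL N110708 (tt N77911 (iv1 D213947)) (tt N121205 F525125) (tt N90344 F482118) (tt N119290 F514861) (tt N90341 (iv4 F482119)) (tt N112590 (iv5 F482120)) (tt N90340 (iv6 F482121)) (tt N112674 F482117))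
theorem Q110710 : ∀ i, i < 110710 → P i := stepQ 110709 Q110709 (allL N110709 (tt N112674 F482116) (tt N90344 F472852) (tt N77911 (iv2 D213948)) (tt N98873 F472849) (tt N105815 F472850) (tt N121981 D225240) (tt N93489 F472851) (tt N121205 (iv7 F525126)))
theorem Q110711 : ∀ i, i < 110711 → P i := stepQ 110710 Q110710 (allL N110710 (tt N117375 (iv1 F504727)) (tt N117373 (iv0 F504718)) (tt N121981 (iv2 F529438)) (tt N77912 F472853) (tt N83046 (iv4 F472855)) (tt N77911 (iv5 D213949)) (tt N113408 (iv6 F485363)) (tt N83328 F472854))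
theorem Q110712 : ∀ i, i < 110712 → P i := stepQ 110711 Q110711 (allL N110711 (tt N94200 F475635) (tt N110541 F472860) (tt N109416 F472856) (tt N77913 (iv3 D213950)) (tt N106222 F472857) (tt N121982 D225241) (tt N109908 F472858) (tt N94307 F472859))
theorem Q110713 : ∀ i, i < 110713 → P i := stepQ 110712 Q110712 (allL N110712 (tt N107556 F472863) (tt N117805 (iv0 F507059)) (tt N94309 F472861) (tt N121982 (iv3 F529446)) (tt N120067 (iv4 F518866)) (tt N77913 (iv5 D213951)) (tt N121983 D225242) (tt N94308 F472862))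
theorem Q110714 : ∀ i, i < 110714 → P i := stepQ 110713 Q110713 (allL N110713 (tt N77914 (iv1 D213952)) (tt N94345 F472864) (tt N94343 (iv2 F472867)) (tt N112925 (iv3 F483290)) (tt N97100 (iv4 F472868)) (tt N92340 F472866) (tt N118527 (iv6 F510806)) (tt N92339 F472865))
theorem Q110715 : ∀ i, i < 110715 → P i := stepQ 110714 Q110714 (allL N110714 (tt N117817 (iv1 F507106)) (tt N118532 (iv0 F510824)) (tt N94344 F472869) (tt N101224 (iv3 F472871)) (tt N77914 (iv4 D213953)) (tt N97093 F472870) (tt N115129 (iv6 F493632)) (tt N110329 (iv7 F472872)))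
theorem Q110716 : ∀ i, i < 110716 → P i := stepQ 110715 Q110715 (allL N110715 (tt N94343 (iv1 F472876)) (tt N92339 F472877) (tt N94345 F472873) (tt N121396 (iv3 F526122)) (tt N110329 F472874) (tt N77915 F472875) (tt N121984 D225243) (tt N77914 (iv7 D213954)))
theorem Q110717 : ∀ i, i < 110717 → P i := stepQ 110716 Q110716 (allL N110716 (tt N112682 (iv1 F482154)) (tt N77924 (iv0 D213955)) (tt N112683 (iv2 F482158)) (tt N121397 F526129) (tt N91261 F482157) (tt N119748 (iv5 F517219)) (tt N91260 (iv6 F482156)) (tt N97207 F482155))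
theorem Q110718 : ∀ i, i < 110718 → P i := stepQ 110717 Q110717 (allL N110717 (tt N112683 (iv1 F482163)) (tt N97207 (iv0 F472882)) (tt N77924 (iv2 D213956)) (tt N81908 F472878) (tt N97233 F472879) (tt N81907 F472880) (tt N90933 F472881) (tt N112682 (iv7 F482148)))
theorem Q110719 : ∀ i, i < 110719 → P i := stepQ 110718 Q110718 (allL N110718 (tt N117404 F504861) (tt N121985 D225244) (tt N121966 (iv2 F529346)) (tt N121362 F525969) (tt N113174 (iv4 F484327)) (tt N99141 F472884) (tt N77925 (iv6 D213957)) (tt N121865 (iv7 F528788)))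
theorem Q110720 : ∀ i, i < 110720 → P i := stepQ 110719 Q110719 (allL N110719 (tt N99034 F472890) (tt N99015 (iv0 F472891)) (tt N99031 F472885) (tt N77928 F472886) (tt N81988 F472887) (tt N99043 F472888) (tt N77926 (iv6 D213958)) (tt N99032 F472889))
theorem Q110721 : ∀ i, i < 110721 → P i := stepQ 110720 Q110720 (allL N110720 (tt N90872 F472895) (tt N89084 F472896) (tt N88392 F472892) (tt N81913 F472893) (tt N77929 (iv4 D213959)) (tt N102083 F472894) (tt N121464 (iv6 F526518)) (tt N110769 (iv7 F473108)))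
theorem Q110722 : ∀ i, i < 110722 → P i := stepQ 110721 Q110721 (allL N110721 (tt N120098 F519033) (tt N113389 (iv0 F485313)) (tt N119752 (iv2 F517237)) (tt N81919 F472897) (tt N121464 (iv4 F526520)) (tt N110700 F472898) (tt N77929 (iv6 D213960)) (tt N121118 (iv7 F524600)))
theorem Q110723 : ∀ i, i < 110723 → P i := stepQ 110722 Q110722 (allL N110722 (tt N121980 F529437) (tt N121866 (iv0 F528795)) (tt N113748 (iv2 F486941)) (tt N121391 (iv3 F526103)) (tt N82955 F472899) (tt N106675 F472900) (tt N77931 (iv6 D213961)) (tt N121389 (iv7 F526094)))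
theorem Q110724 : ∀ i, i < 110724 → P i := stepQ 110723 Q110723 (allL N110723 (tt N101460 F472904) (tt N120421 (iv0 F520693)) (tt N121868 (iv2 F528802)) (tt N77933 F472901) (tt N106925 F472903) (tt N77932 (iv5 D213963)) (tt N121986 D225245) (tt N106924 F472902))
theorem Q110725 : ∀ i, i < 110725 → P i := stepQ 110724 Q110724 (allL N110724 (tt N121987 D225246) (tt N121988 D225247) (tt N83542 F472905) (tt N121986 (iv3 F529467)) (tt N83531 F472906) (tt N99149 F472907) (tt N77933 (iv6 D213964)) (tt N121869 (iv7 F528811)))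
theorem Q110726 : ∀ i, i < 110726 → P i := stepQ 110725 Q110725 (allL N110725 (tt N118231 (iv1 F509272)) (tt N118230 (iv0 F509265)) (tt N77943 F472909) (tt N106665 F472910) (tt N101301 F472912) (tt N77940 (iv5 D213965)) (tt N101300 F472911) (tt N118644 (iv7 F511308)))
theorem Q110727 : ∀ i, i < 110727 → P i := stepQ 110726 Q110726 (allL N110726 (tt N77941 (iv1 D213966)) (tt N110611 F472913) (tt N109955 (iv2 F472917)) (tt N82111 (iv3 F472916)) (tt N120427 (iv4 F520725)) (tt N100974 F472915) (tt N119262 (iv6 F514691)) (tt N110610 F472914))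
theorem Q110728 : ∀ i, i < 110728 → P i := stepQ 110727 Q110727 (allL N110727 (tt N109955 (iv1 F472923)) (tt N110610 F472924) (tt N110611 F472918) (tt N77948 F472919) (tt N96716 F472920) (tt N101303 F472921) (tt N100468 F472922) (tt N77941 (iv7 D213967)))
theorem Q110729 : ∀ i, i < 110729 → P i := stepQ 110728 Q110728 (allL N110728 (tt N120229 (iv1 F519710)) (tt N93505 F472926) (tt N109972 F472925) (tt N120219 (iv3 F519663)) (tt N112518 (iv4 F481469)) (tt N77942 (iv5 D213968)) (tt N112517 F481466) (tt N120228 (iv7 F519707)))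
theorem Q110730 : ∀ i, i < 110730 → P i := stepQ 110729 Q110729 (allL N110729 (tt N120531 F521293) (tt N119687 F516922) (tt N120099 (iv2 F519034)) (tt N120220 (iv3 F519668)) (tt N111381 (iv4 F476097)) (tt N121978 (iv5 F529424)) (tt N77942 (iv6 D213969)) (tt N121124 (iv7 F524638)))
theorem Q110731 : ∀ i, i < 110731 → P i := stepQ 110730 Q110730 (allL N110730 (tt N118644 (iv1 F511310)) (tt N77943 (iv0 D213970)) (tt N118231 (iv2 F509268)) (tt N116942 (iv3 F502617)) (tt N112616 F502615) (tt N116941 F502613) (tt N112615 (iv6 F502614)) (tt N118230 (iv7 F509264)))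
theorem Q110732 : ∀ i, i < 110732 → P i := stepQ 110731 Q110731 (allL N110731 (tt N118230 (iv1 F509266)) (tt N118231 (iv0 F509271)) (tt N118644 (iv2 F511306)) (tt N77954 F472927) (tt N94658 F472928) (tt N77944 F472929) (tt N105533 F472930) (tt N77943 (iv7 D213971)))
theorem Q110733 : ∀ i, i < 110733 → P i := stepQ 110732 Q110732 (allL N110732 (tt N94298 (iv1 F472945)) (tt N94194 (iv0 F472933)) (tt N94295 F472931) (tt N94289 (iv3 F472934)) (tt N77945 (iv4 D213972)) (tt N121989 D225248) (tt N117290 (iv6 F504311)) (tt N94296 F472932))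
theorem Q110734 : ∀ i, i < 110734 → P i := stepQ 110733 Q110733 (allL N110733 (tt N113514 F485863) (tt N119762 (iv0 F517291)) (tt N106685 F472935) (tt N117292 (iv3 F504319)) (tt N98971 (iv4 F472939)) (tt N77945 (iv5 D213973)) (tt N98970 F472936) (tt N106688 F472937))
theorem Q110735 : ∀ i, i < 110735 → P i := stepQ 110734 Q110734 (allL N110734 (tt N94194 F472942) (tt N94298 F472944) (tt N94296 F472940) (tt N121848 (iv3 F528678)) (tt N77946 (iv4 D213974)) (tt N121990 D225249) (tt N108050 (iv6 F472943)) (tt N94295 F472941))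
theorem Q110736 : ∀ i, i < 110736 → P i := stepQ 110735 Q110735 (allL N110735 (tt N119762 (iv1 F517292)) (tt N113514 F485864) (tt N106688 F472946) (tt N98952 F472947) (tt N121991 D225250) (tt N77946 (iv5 D213975)) (tt N98952 (iv6 F472949)) (tt N106685 F472948))
theorem Q110737 : ∀ i, i < 110737 → P i := stepQ 110736 Q110736 (allL N110736 (tt N119261 (iv1 F514687)) (tt N110833 F473359) (tt N106689 F472950) (tt N119692 (iv3 F516948)) (tt N108050 F472951) (tt N119692 (iv5 F516946)) (tt N77946 (iv6 D213976)) (tt N119260 (iv7 F514684)))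
theorem Q110738 : ∀ i, i < 110738 → P i := stepQ 110737 Q110737 (allL N110737 (tt N106674 (iv1 F472959)) (tt N77947 (iv0 D213977)) (tt N98914 (iv2 F472953)) (tt N121992 D225251) (tt N121993 D225252) (tt N98776 F472952) (tt N119853 (iv6 F517706)) (tt N106673 (iv7 F472954)))
theorem Q110739 : ∀ i, i < 110739 → P i := stepQ 110738 Q110738 (allL N110738 (tt N77947 (iv1 D213978)) (tt N106674 F472955) (tt N106673 F472958) (tt N118234 (iv3 F509283)) (tt N119786 (iv4 F517411)) (tt N98915 (iv5 F472957)) (tt N119785 F517409) (tt N98914 F472956))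
theorem Q110740 : ∀ i, i < 110740 → P i := stepQ 110739 Q110739 (allL N110739 (tt N121514 F526796) (tt N121994 D225253) (tt N106672 F472960) (tt N109213 F472961) (tt N77947 (iv4 D213979)) (tt N119867 F517777) (tt N77953 F472962) (tt N121542 (iv7 F526946)))
theorem Q110741 : ∀ i, i < 110741 → P i := stepQ 110740 Q110740 (allL N110740 (tt N106673 (iv1 F472966)) (tt N98914 F472967) (tt N106674 F472963) (tt N101303 F472964) (tt N121542 (iv4 F526943)) (tt N77948 F472965) (tt N121097 (iv6 F524497)) (tt N77947 (iv7 D213980)))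
theorem Q110742 : ∀ i, i < 110742 → P i := stepQ 110741 Q110741 (allL N110741 (tt N119819 (iv1 F517534)) (tt N119375 (iv0 F515291)) (tt N98967 F472968) (tt N121995 D225254) (tt N77949 (iv4 D213981)) (tt N106026 F472970) (tt N98953 (iv6 F472971)) (tt N98970 F472969))
theorem Q110743 : ∀ i, i < 110743 → P i := stepQ 110742 Q110742 (allL N110742 (tt N119714 (iv1 F517058)) (tt N117254 (iv0 F504130)) (tt N98968 F472972) (tt N121858 (iv3 F528741)) (tt N98953 F472973) (tt N90853 F472974) (tt N77949 (iv6 D213982)) (tt N119929 (iv7 F518087)))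
theorem Q110744 : ∀ i, i < 110744 → P i := stepQ 110743 Q110743 (allL N110743 (tt N117440 (iv1 F505039)) (tt N117439 (iv0 F505036)) (tt N121856 (iv2 F528727)) (tt N77952 F472975) (tt N98966 F472978) (tt N77951 (iv5 D213983)) (tt N107626 F472976) (tt N98966 F472977))
theorem Q110745 : ∀ i, i < 110745 → P i := stepQ 110744 Q110744 (allL N110744 (tt N119375 (iv1 F515292)) (tt N119819 (iv0 F517533)) (tt N98970 F472979) (tt N98967 F472980) (tt N77952 (iv4 D213984)) (tt N106023 F472981) (tt N106685 (iv6 F472983)) (tt N98967 F472982))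
theorem Q110746 : ∀ i, i < 110746 → P i := stepQ 110745 Q110745 (allL N110745 (tt N121996 D225255) (tt N121548 (iv0 F526978)) (tt N98971 F472984) (tt N107626 F472985) (tt N106685 F472986) (tt N99090 F472987) (tt N77952 (iv6 D213985)) (tt N121991 (iv7 F529499)))
theorem Q110747 : ∀ i, i < 110747 → P i := stepQ 110746 Q110746 (allL N110746 (tt N121997 D225256) (tt N121998 D225257) (tt N110018 F472988) (tt N77953 (iv3 D213986)) (tt N109212 F472989) (tt N106632 F472990) (tt N109213 F472991) (tt N106631 F472992))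
theorem Q110748 : ∀ i, i < 110748 → P i := stepQ 110747 Q110747 (allL N110747 (tt N119790 F517429) (tt N121999 D225258) (tt N106675 F472993) (tt N105533 F472994) (tt N106634 F472995) (tt N113748 (iv5 F486944)) (tt N77954 (iv6 D213987)) (tt N121097 (iv7 F524498)))
theorem Q110749 : ∀ i, i < 110749 → P i := stepQ 110748 Q110748 (allL N110748 (tt N98976 F472999) (tt N93514 F473000) (tt N98972 F472996) (tt N112621 (iv3 F481869)) (tt N77955 (iv4 D213988)) (tt N106028 F472998) (tt N119713 F517053) (tt N98973 F472997))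
theorem Q110750 : ∀ i, i < 110750 → P i := stepQ 110749 Q110749 (allL N110749 (tt N118238 F509308) (tt N119797 F517461) (tt N106657 F473001) (tt N109987 F473002) (tt N119713 (iv4 F517055)) (tt N122000 D225259) (tt N77955 (iv6 D213989)) (tt N119795 F517452))
theorem Q110751 : ∀ i, i < 110751 → P i := stepQ 110750 Q110750 (allL N110750 (tt N83387 F473006) (tt N83386 F473007) (tt N83050 F473003) (tt N110984 (iv3 F474086)) (tt N83049 F473004) (tt N77956 (iv5 D213990)) (tt N122000 (iv6 F529557)) (tt N83383 F473005))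
theorem Q110752 : ∀ i, i < 110752 → P i := stepQ 110751 Q110751 (allL N110751 (tt N109835 F473012) (tt N109833 F473011) (tt N109985 F473008) (tt N77958 F473009) (tt N118765 (iv4 F511961)) (tt N77957 (iv5 D213991)) (tt N118757 (iv6 F511918)) (tt N106655 F473010))
theorem Q110753 : ∀ i, i < 110753 → P i := stepQ 110752 Q110752 (allL N110752 (tt N93514 F473016) (tt N98976 F473017) (tt N98973 F473013) (tt N121354 (iv3 F525931)) (tt N77958 (iv4 D213992)) (tt N106027 F473014) (tt N110780 (iv6 F473152)) (tt N98972 F473015))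
theorem Q110754 : ∀ i, i < 110754 → P i := stepQ 110753 Q110753 (allL N110753 (tt N109984 F473020) (tt N121541 (iv0 F526941)) (tt N106658 F473018) (tt N118757 (iv3 F511916)) (tt N110780 F473153) (tt N99097 F473019) (tt N77958 (iv6 D213993)) (tt N121488 (iv7 F526647)))
theorem Q110755 : ∀ i, i < 110755 → P i := stepQ 110754 Q110754 (allL N110754 (tt N121620 (iv1 F527370)) (tt N120527 (iv0 F521269)) (tt N112316 (iv2 F480510)) (tt N109224 F473021) (tt N77960 F473022) (tt N117081 F503280) (tt N77959 (iv6 D213994)) (tt N99154 F473023))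
theorem Q110756 : ∀ i, i < 110756 → P i := stepQ 110755 Q110755 (allL N110755 (tt N98800 (iv1 F473027)) (tt N77960 (iv0 D213995)) (tt N78041 (iv2 F473026)) (tt N99175 (iv3 F473029)) (tt N106769 F473024) (tt N110828 (iv5 F473332)) (tt N110303 F473025) (tt N99155 F473028))
theorem Q110757 : ∀ i, i < 110757 → P i := stepQ 110756 Q110756 (allL N110756 (tt N77967 F473034) (tt N77963 (iv0 D213996)) (tt N77964 F473033) (tt N100916 (iv3 F473031)) (tt N112686 (iv4 F482177)) (tt N101434 F473030) (tt N98803 (iv6 F485888)) (tt N77965 (iv7 F473032)))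
theorem Q110758 : ∀ i, i < 110758 → P i := stepQ 110757 Q110757 (allL N110757 (tt N77963 (iv1 D213997)) (tt N77967 F473035) (tt N77965 F473039) (tt N110628 (iv3 F473037)) (tt N112687 (iv4 F482181)) (tt N101465 (iv5 F473038)) (tt N119922 F518055) (tt N77964 F473036))
theorem Q110759 : ∀ i, i < 110759 → P i := stepQ 110758 Q110758 (allL N110758 (tt N77965 (iv1 F473044)) (tt N77964 F473045) (tt N77967 F473040) (tt N119743 (iv3 F517200)) (tt N83394 F473041) (tt N110003 F473042) (tt N86375 F473043) (tt N77963 (iv7 D213998)))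
theorem Q110760 : ∀ i, i < 110760 → P i := stepQ 110759 Q110759 (allL N110759 (tt N89492 F482164) (tt N110923 (iv0 F473813)) (tt N112686 F482178) (tt N122001 D225260) (tt N77964 (iv4 D213999)) (tt N120477 (iv5 F520978)) (tt N122002 D225261) (tt N112687 (iv7 F482180)))
theorem Q110761 : ∀ i, i < 110761 → P i := stepQ 110760 Q110760 (allL N110760 (tt N101464 F473048) (tt N101463 F473050) (tt N101434 F473046) (tt N110780 (iv3 F473151)) (tt N110385 F473049) (tt N77964 (iv5 D214000)) (tt N121354 (iv6 F525933)) (tt N101465 F473047))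
theorem Q110762 : ∀ i, i < 110762 → P i := stepQ 110761 Q110761 (allL N110761 (tt N98801 F473051) (tt N98805 (iv0 F473052)) (tt N98803 F485890) (tt N99209 (iv3 F473162)) (tt N122002 (iv4 F529569)) (tt N122003 D225262) (tt N77964 (iv6 D214001)) (tt N98802 (iv7 F485891)))
theorem Q110763 : ∀ i, i < 110763 → P i := stepQ 110762 Q110762 (allL N110762 (tt N110923 F473809) (tt N89492 (iv0 F473055)) (tt N112687 F482182) (tt N89009 F473053) (tt N77965 (iv4 D214002)) (tt N120476 (iv5 F520975)) (tt N89006 (iv6 F473054)) (tt N112686 F482179))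
theorem Q110764 : ∀ i, i < 110764 → P i := stepQ 110763 Q110763 (allL N110763 (tt N101117 F473058) (tt N110303 F473059) (tt N119922 (iv2 F518056)) (tt N101466 F473056) (tt N89006 F473057) (tt N119936 (iv5 F518122)) (tt N77965 (iv6 D214003)) (tt N89428 (iv7 F473060)))
theorem Q110765 : ∀ i, i < 110765 → P i := stepQ 110764 Q110764 (allL N110764 (tt N110003 (iv1 F473063)) (tt N77966 (iv0 D214004)) (tt N83390 (iv2 F473064)) (tt N110782 (iv3 F485411)) (tt N83385 F473066) (tt N99103 F473062) (tt N83383 F473061) (tt N110002 (iv7 F473065)))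
theorem Q110766 : ∀ i, i < 110766 → P i := stepQ 110765 Q110765 (allL N110765 (tt N89345 F473073) (tt N112688 (iv0 F482185)) (tt N109886 F473069) (tt N89351 F473070) (tt N77966 (iv4 D214005)) (tt N107294 F473072) (tt N109811 F473071) (tt N116416 (iv7 F499989)))
theorem Q110767 : ∀ i, i < 110767 → P i := stepQ 110766 Q110766 (allL N110766 (tt N81939 F473078) (tt N116626 F501041) (tt N110036 F473075) (tt N77969 (iv3 D214006)) (tt N96444 F473077) (tt N121878 (iv5 F528863)) (tt N96447 (iv6 F473079)) (tt N110037 F473076))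
theorem Q110768 : ∀ i, i < 110768 → P i := stepQ 110767 Q110767 (allL N110767 (tt N120958 F523705) (tt N99268 (iv0 F473082)) (tt N121968 (iv2 F529359)) (tt N96447 F473080) (tt N118574 (iv4 F510974)) (tt N110356 F473081) (tt N77969 (iv6 D214007)) (tt N113335 (iv7 F485089)))
theorem Q110769 : ∀ i, i < 110769 → P i := stepQ 110768 Q110768 (allL N110768 (tt N77971 (iv1 D214008)) (tt N110004 F473089) (tt N109989 F473098) (tt N116945 (iv3 F502632)) (tt N110416 (iv4 F473091)) (tt N109828 (iv5 F473092)) (tt N121997 (iv6 F529538)) (tt N109990 F473090))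
theorem Q110770 : ∀ i, i < 110770 → P i := stepQ 110769 Q110769 (allL N110769 (tt N83272 (iv1 F473107)) (tt N77973 (iv0 D214009)) (tt N83033 (iv2 F473106)) (tt N110429 F473105) (tt N93494 F473104) (tt N87366 F473103) (tt N89353 (iv6 F473109)) (tt N110720 F473108))
theorem Q110771 : ∀ i, i < 110771 → P i := stepQ 110770 Q110770 (allL N110770 (tt N88080 F473114) (tt N88201 F473115) (tt N94061 F473110) (tt N79242 F473111) (tt N87735 F473113) (tt N77978 (iv5 D214010)) (tt N118955 (iv6 F512957)) (tt N94060 F473112))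
theorem Q110772 : ∀ i, i < 110772 → P i := stepQ 110771 Q110771 (allL N110771 (tt N91357 F473119) (tt N94570 (iv0 F473120)) (tt N82584 F473116) (tt N77979 (iv3 D214011)) (tt N94293 F473117) (tt N99608 F473121) (tt N121851 F528702) (tt N94080 F473118))
theorem Q110773 : ∀ i, i < 110773 → P i := stepQ 110772 Q110772 (allL N110772 (tt N88201 F473125) (tt N88080 F473126) (tt N94060 F473122) (tt N99608 F473123) (tt N87734 F473127) (tt N77979 (iv5 D214012)) (tt N96564 F473128) (tt N94061 F473124))
theorem Q110774 : ∀ i, i < 110774 → P i := stepQ 110773 Q110773 (allL N110773 (tt N94110 F473133) (tt N102774 (iv0 F473134)) (tt N81801 F473129) (tt N121851 F528701) (tt N99580 F473130) (tt N80979 F473131) (tt N77979 (iv6 D214013)) (tt N99180 F473132))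
theorem Q110775 : ∀ i, i < 110775 → P i := stepQ 110774 Q110774 (allL N110774 (tt N100668 F473139) (tt N102695 F473140) (tt N87359 F473135) (tt N85801 F473136) (tt N87351 F473137) (tt N117465 (iv5 F505171)) (tt N77980 (iv6 D214014)) (tt N87355 F473138))
theorem Q110776 : ∀ i, i < 110776 → P i := stepQ 110775 Q110775 (allL N110775 (tt N110790 (iv1 F473188)) (tt N77984 (iv0 D214015)) (tt N110787 F473173) (tt N101343 F473142) (tt N91602 F473141) (tt N109997 F473143) (tt N116507 (iv6 F500514)) (tt N110788 (iv7 F473177)))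
theorem Q110777 : ∀ i, i < 110777 → P i := stepQ 110776 Q110776 (allL N110776 (tt N77984 (iv1 D214016)) (tt N110790 F473187) (tt N110788 (iv2 F473180)) (tt N110621 (iv3 F473144)) (tt N117326 (iv4 F504473)) (tt N109996 (iv5 F473147)) (tt N121531 (iv6 F526886)) (tt N110787 F473175))
theorem Q110778 : ∀ i, i < 110778 → P i := stepQ 110777 Q110777 (allL N110777 (tt N113336 F485094) (tt N119916 (iv0 F518023)) (tt N110789 (iv2 F473182)) (tt N77989 F473145) (tt N122004 D225263) (tt N77984 (iv5 D214017)) (tt N77985 F473146) (tt N122005 D225264))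
theorem Q110779 : ∀ i, i < 110779 → P i := stepQ 110778 Q110778 (allL N110778 (tt N110788 (iv1 F473176)) (tt N110787 F473181) (tt N110790 (iv2 F473185)) (tt N77990 F473148) (tt N97235 F473149) (tt N122005 (iv5 F529591)) (tt N117457 F505140) (tt N77984 (iv7 D214018)))
theorem Q110780 : ∀ i, i < 110780 → P i := stepQ 110779 Q110779 (allL N110779 (tt N121843 (iv1 F528652)) (tt N121956 (iv0 F529287)) (tt N114263 (iv2 F489291)) (tt N121776 (iv3 F528251)) (tt N77985 (iv4 D214019)) (tt N114262 (iv5 F489290)) (tt N122004 (iv6 F529583)) (tt N121590 (iv7 F527199)))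
theorem Q110781 : ∀ i, i < 110781 → P i := stepQ 110780 Q110780 (allL N110780 (tt N120341 F520279) (tt N120340 F520270) (tt N81945 F473150) (tt N110760 F473151) (tt N110753 (iv4 F473153)) (tt N77987 (iv5 D214020)) (tt N110752 F473152) (tt N120342 (iv7 F520283)))
theorem Q110782 : ∀ i, i < 110782 → P i := stepQ 110781 Q110781 (allL N110781 (tt N98840 (iv1 F473166)) (tt N98841 (iv0 F473167)) (tt N99267 F473320) (tt N120343 (iv3 F520287)) (tt N110587 F473165) (tt N110825 (iv5 F473314)) (tt N77988 (iv6 D214022)) (tt N99266 (iv7 F473319)))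
theorem Q110783 : ∀ i, i < 110783 → P i := stepQ 110782 Q110782 (allL N110782 (tt N121589 (iv1 F527196)) (tt N77989 (iv0 D214023)) (tt N81931 F485410) (tt N110764 F485411) (tt N121514 (iv4 F526792)) (tt N119870 (iv5 F517795)) (tt N113419 F485412) (tt N121588 (iv7 F527186)))
theorem Q110784 : ∀ i, i < 110784 → P i := stepQ 110783 Q110783 (allL N110783 (tt N77989 (iv1 D214024)) (tt N121589 F527195) (tt N121588 (iv2 F527190)) (tt N81849 F485413) (tt N121994 (iv4 F529519)) (tt N119914 (iv5 F518011)) (tt N121119 (iv6 F524603)) (tt N81931 F485414))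
theorem Q110785 : ∀ i, i < 110785 → P i := stepQ 110784 Q110784 (allL N110784 (tt N119764 F517302) (tt N121390 (iv0 F526100)) (tt N121587 (iv2 F527180)) (tt N121458 (iv3 F526489)) (tt N77989 (iv4 D214025)) (tt N119862 F517754) (tt N77991 F473168) (tt N122006 D225265))
theorem Q110786 : ∀ i, i < 110786 → P i := stepQ 110785 Q110785 (allL N110785 (tt N121588 (iv1 F527185)) (tt N81931 F481777) (tt N121589 (iv2 F527192)) (tt N122005 (iv3 F529589)) (tt N122006 (iv4 F529594)) (tt N77990 F473169) (tt N120466 (iv6 F520926)) (tt N77989 (iv7 D214026)))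
theorem Q110787 : ∀ i, i < 110787 → P i := stepQ 110786 Q110786 (allL N110786 (tt N122007 D225266) (tt N121388 F526091) (tt N122008 D225267) (tt N77991 (iv3 D214027)) (tt N121776 (iv4 F528252)) (tt N109508 F473170) (tt N121458 F526490) (tt N121592 (iv7 F527213)))
theorem Q110788 : ∀ i, i < 110788 → P i := stepQ 110787 Q110787 (allL N110787 (tt N110778 (iv1 F473181)) (tt N77996 (iv0 D214028)) (tt N110775 (iv2 F473173)) (tt N99188 F473171) (tt N90990 F473172) (tt N119918 (iv5 F518033)) (tt N90989 (iv6 F473174)) (tt N110776 (iv7 F473175)))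
theorem Q110789 : ∀ i, i < 110789 → P i := stepQ 110788 Q110788 (allL N110788 (tt N77996 (iv1 D214029)) (tt N110778 F473176) (tt N110776 F473180) (tt N101357 (iv3 F473179)) (tt N117485 (iv4 F505280)) (tt N101356 F473178) (tt N119936 (iv6 F518124)) (tt N110775 F473177))
theorem Q110790 : ∀ i, i < 110790 → P i := stepQ 110789 Q110789 (allL N110789 (tt N122009 D225268) (tt N113432 (iv0 F485470)) (tt N110777 F473182) (tt N78000 F473183) (tt N117142 (iv4 F503600)) (tt N77996 (iv5 D214030)) (tt N110020 F473184) (tt N121537 (iv7 F526920)))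
theorem Q110791 : ∀ i, i < 110791 → P i := stepQ 110790 Q110790 (allL N110790 (tt N110776 (iv1 F473187)) (tt N110775 F473188) (tt N110778 F473185) (tt N78001 F473186) (tt N117436 (iv4 F505019)) (tt N121537 (iv5 F526919)) (tt N110985 (iv6 F474089)) (tt N77996 (iv7 D214031)))
theorem Q110792 : ∀ i, i < 110792 → P i := stepQ 110791 Q110791 (allL N110791 (tt N78156 F473194) (tt N100091 (iv0 F473195)) (tt N94453 F473189) (tt N77998 F473190) (tt N82172 F473191) (tt N108796 F473192) (tt N77997 (iv6 D214032)) (tt N98380 F473193))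
theorem Q110793 : ∀ i, i < 110793 → P i := stepQ 110792 Q110792 (allL N110792 (tt N80467 F473202) (tt N99737 F473200) (tt N94456 F473196) (tt N108796 F473197) (tt N105241 F473201) (tt N77998 (iv5 D214033)) (tt N99924 F473198) (tt N97941 F473199))
theorem Q110794 : ∀ i, i < 110794 → P i := stepQ 110793 Q110793 (allL N110793 (tt N89543 F473206) (tt N116945 (iv0 F502635)) (tt N107663 F473203) (tt N110020 F473204) (tt N114628 (iv4 F491085)) (tt N77999 (iv5 D214034)) (tt N78000 F473205) (tt N115122 (iv7 F493598)))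
theorem Q110795 : ∀ i, i < 110795 → P i := stepQ 110794 Q110794 (allL N110794 (tt N122010 D225269) (tt N120463 F520915) (tt N113428 F485458) (tt N117138 F503584) (tt N78000 (iv4 D214035)) (tt N120076 (iv5 F518921)) (tt N114628 F491086) (tt N121538 (iv7 F526923)))
theorem Q110796 : ∀ i, i < 110796 → P i := stepQ 110795 Q110795 (allL N110795 (tt N78003 (iv1 D214036)) (tt N78013 F473207) (tt N78009 F473212) (tt N103954 (iv3 F473211)) (tt N82101 F473210) (tt N109223 F473209) (tt N121520 (iv6 F526830)) (tt N78008 F473208))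
theorem Q110797 : ∀ i, i < 110797 → P i := stepQ 110796 Q110796 (allL N110796 (tt N115119 F493583) (tt N107146 (iv0 F473216)) (tt N105063 F473213) (tt N83284 F473214) (tt N78006 F473215) (tt N121183 (iv5 F524996)) (tt N78005 (iv6 D214037)) (tt N115062 (iv7 F493301)))
theorem Q110798 : ∀ i, i < 110798 → P i := stepQ 110797 Q110797 (allL N110797 (tt N106908 (iv1 F473218)) (tt N78006 (iv0 D214038)) (tt N116946 (iv2 F502637)) (tt N116851 (iv3 F502169)) (tt N89023 F473217) (tt N119704 (iv5 F517007)) (tt N89022 (iv6 F473219)) (tt N118478 (iv7 F510587)))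
theorem Q110799 : ∀ i, i < 110799 → P i := stepQ 110798 Q110798 (allL N110798 (tt N78006 (iv1 D214039)) (tt N106908 F473220) (tt N118478 F510591) (tt N78019 F473221) (tt N122011 D225270) (tt N119703 (iv5 F517001)) (tt N119930 (iv6 F518091)) (tt N116946 F502642))
theorem Q110800 : ∀ i, i < 110800 → P i := stepQ 110799 Q110799 (allL N110799 (tt N121453 (iv1 F526466)) (tt N122003 (iv0 F529579)) (tt N108244 F473222) (tt N109527 F473223) (tt N106599 (iv4 F473226)) (tt N78006 (iv5 D214040)) (tt N106598 F473224) (tt N106635 F473225))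
theorem Q110801 : ∀ i, i < 110801 → P i := stepQ 110800 Q110800 (allL N110800 (tt N121994 (iv1 F529516)) (tt N121514 (iv0 F526795)) (tt N121542 (iv2 F526942)) (tt N83387 F473227) (tt N106674 F473229) (tt N78007 (iv5 D214041)) (tt N112672 (iv6 F482106)) (tt N106672 F473228))
theorem Q110802 : ∀ i, i < 110802 → P i := stepQ 110801 Q110801 (allL N110801 (tt N89023 F473230) (tt N122011 (iv0 F529628)) (tt N116710 (iv2 F501427)) (tt N113297 (iv3 F484904)) (tt N112671 (iv4 F482104)) (tt N116339 F499624) (tt N78008 (iv6 D214042)) (tt N117189 (iv7 F503831)))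
theorem Q110803 : ∀ i, i < 110803 → P i := stepQ 110802 Q110802 (allL N110802 (tt N121637 F527472) (tt N119167 (iv0 F514158)) (tt N121520 (iv2 F526828)) (tt N110862 (iv3 F473494)) (tt N112669 (iv4 F482099)) (tt N118525 F510800) (tt N78009 (iv6 D214043)) (tt N119972 (iv7 F518331)))
theorem Q110804 : ∀ i, i < 110804 → P i := stepQ 110803 Q110803 (allL N110803 (tt N88640 (iv1 F473235)) (tt N78012 (iv0 D214044)) (tt N89423 (iv2 F473233)) (tt N78654 F473232) (tt N119840 (iv4 F517638)) (tt N89003 F473231) (tt N119166 F514153) (tt N89331 F473234))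
theorem Q110805 : ∀ i, i < 110805 → P i := stepQ 110804 Q110804 (allL N110804 (tt N89331 (iv1 F473240)) (tt N89423 F473241) (tt N88640 F473236) (tt N89471 F473237) (tt N78015 F473238) (tt N80840 F473239) (tt N119695 (iv6 F516966)) (tt N78012 (iv7 D214045)))
theorem Q110806 : ∀ i, i < 110806 → P i := stepQ 110805 Q110805 (allL N110805 (tt N119937 (iv1 F518127)) (tt N119936 F518125) (tt N116935 (iv2 F502578)) (tt N99049 F473242) (tt N96886 F473244) (tt N78014 (iv5 D214046)) (tt N119940 (iv6 F518145)) (tt N107518 F473243))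
theorem Q110807 : ∀ i, i < 110807 → P i := stepQ 110806 Q110806 (allL N110806 (tt N90342 F485496) (tt N118600 (iv0 F511101)) (tt N116851 (iv2 F502168)) (tt N78018 (iv3 D214047)) (tt N116848 (iv4 F502157)) (tt N122012 D225271) (tt N109988 F473245) (tt N121969 (iv7 F529367)))
theorem Q110808 : ∀ i, i < 110808 → P i := stepQ 110807 Q110807 (allL N110807 (tt N109516 F473248) (tt N109518 F473249) (tt N119911 F517996) (tt N122012 (iv3 F529630)) (tt N83424 F473247) (tt N78018 (iv5 D214049)) (tt N121281 F525539) (tt N119910 F517991))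
theorem Q110809 : ∀ i, i < 110809 → P i := stepQ 110808 Q110808 (allL N110808 (tt N109518 (iv1 F503590)) (tt N109516 (iv0 F473250)) (tt N119910 F517990) (tt N119703 (iv3 F517002)) (tt N83425 F473251) (tt N78019 (iv5 D214050)) (tt N119703 (iv6 F517004)) (tt N119911 (iv7 F517993)))
theorem Q110810 : ∀ i, i < 110810 → P i := stepQ 110809 Q110809 (allL N110809 (tt N110021 F473253) (tt N110829 F473339) (tt N117852 (iv2 F507270)) (tt N119930 (iv3 F518090)) (tt N117846 (iv4 F507240)) (tt N119930 (iv5 F518088)) (tt N78019 (iv6 D214051)) (tt N109991 F473252))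
theorem Q110811 : ∀ i, i < 110811 → P i := stepQ 110810 Q110810 (allL N110810 (tt N109533 F473258) (tt N78020 (iv0 D214052)) (tt N121971 F529380) (tt N122013 D225272) (tt N83480 F473257) (tt N99208 F473255) (tt N99185 F473254) (tt N106627 F473264))
theorem Q110812 : ∀ i, i < 110812 → P i := stepQ 110811 Q110811 (allL N110811 (tt N78020 (iv1 D214053)) (tt N109533 F473259) (tt N106627 F473262) (tt N122003 (iv3 F529575)) (tt N83481 F473263) (tt N99209 (iv5 F473261)) (tt N106027 (iv6 F473260)) (tt N121971 (iv7 F529382)))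
theorem Q110813 : ∀ i, i < 110813 → P i := stepQ 110812 Q110812 (allL N110812 (tt N106624 (iv1 F473269)) (tt N106024 F473268) (tt N88407 F473265) (tt N89893 F473266) (tt N78020 (iv4 D214054)) (tt N113861 (iv5 F487509)) (tt N88403 F473267) (tt N106623 (iv7 F473270)))
theorem Q110814 : ∀ i, i < 110814 → P i := stepQ 110813 Q110813 (allL N110813 (tt N106627 F473276) (tt N121971 F529381) (tt N109533 F473271) (tt N106017 F473272) (tt N106623 F473273) (tt N78021 F473274) (tt N106029 (iv6 F473275)) (tt N78020 (iv7 D214055)))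
theorem Q110815 : ∀ i, i < 110815 → P i := stepQ 110814 Q110814 (allL N110814 (tt N119917 F518029) (tt N119288 (iv0 F514849)) (tt N78023 F473278) (tt N98876 F473279) (tt N103974 F473280) (tt N121096 (iv5 F524493)) (tt N78022 (iv6 D214056)) (tt N108555 F473281))
theorem Q110816 : ∀ i, i < 110816 → P i := stepQ 110815 Q110815 (allL N110815 (tt N108555 (iv1 F473292)) (tt N78023 (iv0 D214057)) (tt N119917 (iv2 F518025)) (tt N119292 (iv3 F514866)) (tt N116471 (iv4 F500307)) (tt N122014 D225273) (tt N119913 (iv6 F518009)) (tt N119288 F514851))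
theorem Q110817 : ∀ i, i < 110817 → P i := stepQ 110816 Q110816 (allL N110816 (tt N78023 (iv1 D214058)) (tt N108555 F473282) (tt N119288 (iv2 F514846)) (tt N102665 F473284) (tt N116470 (iv4 F500296)) (tt N121880 (iv5 F528874)) (tt N102664 (iv6 F473283)) (tt N119917 (iv7 F518028)))
theorem Q110818 : ∀ i, i < 110818 → P i := stepQ 110817 Q110817 (allL N110817 (tt N121532 (iv1 F526893)) (tt N121535 F526911) (tt N121096 (iv2 F524491)) (tt N78026 F473285) (tt N88614 F473287) (tt N78023 (iv5 D214059)) (tt N89347 F473286) (tt N121534 (iv7 F526907)))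
theorem Q110819 : ∀ i, i < 110819 → P i := stepQ 110818 Q110818 (allL N110818 (tt N119288 F514850) (tt N119917 F518030) (tt N108555 F473288) (tt N78027 F473289) (tt N108544 F473290) (tt N121534 (iv5 F526902)) (tt N109524 F473291) (tt N78023 (iv7 D214060)))
theorem Q110820 : ∀ i, i < 110820 → P i := stepQ 110819 Q110819 (allL N110819 (tt N107532 F517081) (tt N119915 F518018) (tt N119914 (iv2 F518014)) (tt N107544 F473293) (tt N118596 (iv4 F511077)) (tt N121588 F527188) (tt N78024 (iv6 D214061)) (tt N119870 (iv7 F517796)))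
theorem Q110821 : ∀ i, i < 110821 → P i := stepQ 110820 Q110820 (allL N110820 (tt N110017 (iv1 F473296)) (tt N78026 (iv0 D214062)) (tt N83305 (iv2 F473295)) (tt N121994 F529520) (tt N83304 F473294) (tt N119934 (iv5 F518114)) (tt N122009 (iv6 F529613)) (tt N120468 (iv7 F520938)))
theorem Q110822 : ∀ i, i < 110822 → P i := stepQ 110821 Q110821 (allL N110821 (tt N120468 (iv1 F520940)) (tt N83305 (iv0 F473301)) (tt N110017 F473297) (tt N121534 (iv3 F526904)) (tt N88612 F473298) (tt N78027 F473299) (tt N109839 F473300) (tt N78026 (iv7 D214063)))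
theorem Q110823 : ∀ i, i < 110823 → P i := stepQ 110822 Q110822 (allL N110822 (tt N110654 F473305) (tt N119265 F514710) (tt N82310 F473302) (tt N78028 (iv3 D214064)) (tt N116449 (iv4 F500177)) (tt N96925 F473303) (tt N89366 F473304) (tt N117889 (iv7 F507454)))
theorem Q110824 : ∀ i, i < 110824 → P i := stepQ 110823 Q110823 (allL N110823 (tt N107360 F473308) (tt N116426 (iv0 F500044)) (tt N78031 F473306) (tt N116829 (iv3 F502049)) (tt N89012 F473307) (tt N118847 (iv5 F512395)) (tt N78030 (iv6 D214065)) (tt N89472 (iv7 F473309)))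
theorem Q110825 : ∀ i, i < 110825 → P i := stepQ 110824 Q110824 (allL N110824 (tt N116426 (iv1 F500045)) (tt N107360 (iv0 F473313)) (tt N89472 F473310) (tt N78033 F473311) (tt N89471 F473312) (tt N117858 F507307) (tt N118475 (iv6 F510574)) (tt N78031 (iv7 D214066)))
theorem Q110826 : ∀ i, i < 110826 → P i := stepQ 110825 Q110825 (allL N110825 (tt N78037 (iv1 F473316)) (tt N78035 (iv0 D214067)) (tt N111534 (iv2 F476788)) (tt N120422 (iv3 F520694)) (tt N110574 F473315) (tt N110781 F473314) (tt N110573 (iv6 F473317)) (tt N99186 F473318))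
theorem Q110827 : ∀ i, i < 110827 → P i := stepQ 110826 Q110826 (allL N110826 (tt N78035 (iv1 D214068)) (tt N78037 F473322) (tt N99186 (iv2 F473324)) (tt N119937 F518130) (tt N100309 F473323) (tt N119716 (iv5 F517063)) (tt N98807 (iv6 F473325)) (tt N111534 (iv7 F476790)))
theorem Q110828 : ∀ i, i < 110828 → P i := stepQ 110827 Q110827 (allL N110827 (tt N109994 (iv1 F473330)) (tt N109993 F473329) (tt N109829 F473326) (tt N109980 F473327) (tt N120184 (iv4 F519484)) (tt N78038 (iv5 D214069)) (tt N119736 (iv6 F517170)) (tt N109992 F473328))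
theorem Q110829 : ∀ i, i < 110829 → P i := stepQ 110828 Q110828 (allL N110828 (tt N117852 F507274) (tt N109991 (iv0 F473334)) (tt N110829 (iv2 F473335)) (tt N100446 F473331) (tt N119097 (iv4 F513778)) (tt N110755 F473332) (tt N78040 (iv6 D214070)) (tt N110021 (iv7 F473333)))
theorem Q110830 : ∀ i, i < 110830 → P i := stepQ 110829 Q110829 (allL N110829 (tt N110809 (iv1 F473339)) (tt N116673 (iv0 F501250)) (tt N110828 F473335) (tt N78042 F473336) (tt N117820 (iv4 F507119)) (tt N78041 (iv5 D214071)) (tt N94390 F473337) (tt N99275 F473338))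
theorem Q110831 : ∀ i, i < 110831 → P i := stepQ 110830 Q110830 (allL N110830 (tt N107522 F473343) (tt N107529 F473344) (tt N99279 F473340) (tt N120958 (iv3 F523700)) (tt N95403 F473341) (tt N107548 F473342) (tt N78047 (iv6 D214072)) (tt N107527 F502584))
theorem Q110832 : ∀ i, i < 110832 → P i := stepQ 110831 Q110831 (allL N110831 (tt N78049 (iv1 D214073)) (tt N98842 F473345) (tt N99280 F473349) (tt N101627 (iv3 F473348)) (tt N99063 F473347) (tt N110834 (iv5 F473361)) (tt N117151 (iv6 F503647)) (tt N99281 F473346))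
theorem Q110833 : ∀ i, i < 110833 → P i := stepQ 110832 Q110832 (allL N110832 (tt N120529 (iv1 F521277)) (tt N106779 F473353) (tt N100948 F473350) (tt N78052 F473351) (tt N116665 (iv4 F501207)) (tt N78051 (iv5 D214074)) (tt N107561 F473354) (tt N99285 F473352))
theorem Q110834 : ∀ i, i < 110834 → P i := stepQ 110833 Q110833 (allL N110833 (tt N110736 (iv1 F473359)) (tt N100403 (iv0 F473358)) (tt N119784 (iv2 F517399)) (tt N78053 F473355) (tt N117917 (iv4 F507588)) (tt N99731 F473356) (tt N78051 (iv6 D214075)) (tt N96892 F473357))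
theorem Q110835 : ∀ i, i < 110835 → P i := stepQ 110834 Q110834 (allL N110834 (tt N90583 F473364) (tt N90582 F473365) (tt N89227 F473360) (tt N89234 F473366) (tt N78052 (iv4 D214076)) (tt N110831 F473361) (tt N99216 F473362) (tt N90584 F473363))
theorem Q110836 : ∀ i, i < 110836 → P i := stepQ 110835 Q110835 (allL N110835 (tt N78066 F473372) (tt N101770 (iv0 F473373)) (tt N89764 F473367) (tt N78057 (iv3 D214077)) (tt N78228 F473368) (tt N89050 F473369) (tt N107689 F473370) (tt N89761 F473371))
theorem Q110837 : ∀ i, i < 110837 → P i := stepQ 110836 Q110836 (allL N110836 (tt N94593 F473377) (tt N111130 (iv0 F474837)) (tt N118630 F511228) (tt N78061 (iv3 D214078)) (tt N82151 F473374) (tt N105445 F473375) (tt N113219 F484543) (tt N107158 F473376))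
theorem Q110838 : ∀ i, i < 110838 → P i := stepQ 110837 Q110837 (allL N110837 (tt N94258 F473381) (tt N78064 (iv0 F473382)) (tt N94366 F473384) (tt N78062 (iv3 D214079)) (tt N82311 F473378) (tt N82258 F473379) (tt N107807 (iv6 F473383)) (tt N94369 F473380))
theorem Q110839 : ∀ i, i < 110839 → P i := stepQ 110838 Q110838 (allL N110838 (tt N94599 F473389) (tt N99316 (iv0 F473390)) (tt N99317 F473385) (tt N107807 F473386) (tt N117186 (iv4 F503816)) (tt N94811 F473387) (tt N78062 (iv6 D214080)) (tt N99318 F473388))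
theorem Q110840 : ∀ i, i < 110840 → P i := stepQ 110839 Q110839 (allL N110839 (tt N78064 (iv1 D214081)) (tt N94258 (iv0 F473395)) (tt N94369 (iv2 F473394)) (tt N118630 (iv3 F511226)) (tt N82312 F473393) (tt N82257 F473392) (tt N110445 F473396) (tt N94366 F473391))
theorem Q110841 : ∀ i, i < 110841 → P i := stepQ 110840 Q110840 (allL N110840 (tt N94366 (iv1 F473403)) (tt N94369 F473402) (tt N78064 (iv2 D214082)) (tt N101770 F473398) (tt N94182 F473399) (tt N109495 F473400) (tt N96134 (iv6 F473404)) (tt N94258 F473401))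
theorem Q110842 : ∀ i, i < 110842 → P i := stepQ 110841 Q110841 (allL N110841 (tt N93661 F473410) (tt N96132 (iv0 F473411)) (tt N96134 F473405) (tt N78065 F473406) (tt N94260 F473407) (tt N93654 F473408) (tt N78064 (iv6 D214083)) (tt N96111 F473409))
theorem Q110843 : ∀ i, i < 110843 → P i := stepQ 110842 Q110842 (allL N110842 (tt N101776 (iv1 F473415)) (tt N78065 (iv0 D214084)) (tt N99637 (iv2 F473414)) (tt N97714 F473417) (tt N78086 F473412) (tt N117558 (iv5 F505690)) (tt N109345 F473413) (tt N101774 F473416))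
theorem Q110844 : ∀ i, i < 110844 → P i := stepQ 110843 Q110843 (allL N110843 (tt N89761 (iv1 F473422)) (tt N89764 F473421) (tt N78066 (iv2 D214085)) (tt N94258 F473418) (tt N111531 (iv4 F476776)) (tt N116402 (iv5 F499906)) (tt N107838 F473419) (tt N101770 F473420))
theorem Q110845 : ∀ i, i < 110845 → P i := stepQ 110844 Q110844 (allL N110844 (tt N118815 F512223) (tt N118406 (iv0 F510175)) (tt N78069 F473423) (tt N114546 (iv3 F490707)) (tt N117506 F505401) (tt N120774 (iv5 F522644)) (tt N78067 (iv6 D214086)) (tt N119213 (iv7 F514397)))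
theorem Q110846 : ∀ i, i < 110846 → P i := stepQ 110845 Q110845 (allL N110845 (tt N119213 F514399) (tt N78069 (iv0 D214087)) (tt N118815 (iv2 F512218)) (tt N106256 (iv3 F474375)) (tt N118407 (iv4 F510179)) (tt N115608 F496224) (tt N110220 F474374) (tt N118406 F510177))
theorem Q110847 : ∀ i, i < 110847 → P i := stepQ 110846 Q110846 (allL N110846 (tt N78069 (iv1 D214088)) (tt N119213 (iv0 F514398)) (tt N118406 (iv2 F510172)) (tt N95248 F473426) (tt N96052 F473424) (tt N115611 (iv5 F495974)) (tt N91569 (iv6 F473425)) (tt N118815 (iv7 F512222)))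
theorem Q110848 : ∀ i, i < 110848 → P i := stepQ 110847 Q110847 (allL N110847 (tt N118406 (iv1 F510176)) (tt N118815 F512224) (tt N119213 (iv2 F514394)) (tt N78073 F473427) (tt N117580 (iv4 F505822)) (tt N111388 (iv5 F476125)) (tt N95232 F473428) (tt N78069 (iv7 D214089)))
theorem Q110849 : ∀ i, i < 110849 → P i := stepQ 110848 Q110848 (allL N110848 (tt N97823 F473433) (tt N94767 (iv0 F473432)) (tt N95251 F473429) (tt N78071 (iv3 D214090)) (tt N105821 F473430) (tt N118386 (iv5 F510076)) (tt N93390 F473431) (tt N118631 (iv7 F511234)))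
theorem Q110850 : ∀ i, i < 110850 → P i := stepQ 110849 Q110849 (allL N110849 (tt N95456 F473438) (tt N81179 F473439) (tt N95497 (iv2 F473440)) (tt N78076 (iv3 D214091)) (tt N95662 F473434) (tt N94546 F473435) (tt N101589 F473436) (tt N95496 F473437))
theorem Q110851 : ∀ i, i < 110851 → P i := stepQ 110850 Q110850 (allL N110850 (tt N107768 (iv1 F473444)) (tt N107149 F473443) (tt N78077 (iv2 D214092)) (tt N118632 (iv3 F511237)) (tt N89797 F473441) (tt N115524 (iv5 F495628)) (tt N89083 F473442) (tt N117039 (iv7 F503088)))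
theorem Q110852 : ∀ i, i < 110852 → P i := stepQ 110851 Q110851 (allL N110851 (tt N117044 F503107) (tt N118158 F508921) (tt N115524 (iv2 F495626)) (tt N78078 F473445) (tt N115434 (iv4 F495178)) (tt N78077 (iv5 D214093)) (tt N119195 (iv6 F514305)) (tt N115556 (iv7 F495770)))
theorem Q110853 : ∀ i, i < 110853 → P i := stepQ 110852 Q110852 (allL N110852 (tt N105156 F497636) (tt N116127 (iv0 F498620)) (tt N78079 (iv2 D214094)) (tt N117039 (iv3 F503084)) (tt N116142 (iv4 F498710)) (tt N115929 (iv5 F497635)) (tt N102267 F473446) (tt N118632 (iv7 F511241)))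
theorem Q110854 : ∀ i, i < 110854 → P i := stepQ 110853 Q110853 (allL N110853 (tt N121594 (iv1 F527225)) (tt N105366 F473448) (tt N115929 (iv2 F497631)) (tt N78080 F473447) (tt N110976 (iv4 F474037)) (tt N78079 (iv5 D214095)) (tt N115926 F497620) (tt N118154 (iv7 F508898)))
theorem Q110855 : ∀ i, i < 110855 → P i := stepQ 110854 Q110854 (allL N110854 (tt N117049 (iv1 F503122)) (tt N108206 (iv0 F490591)) (tt N118153 (iv2 F508890)) (tt N115926 (iv3 F497616)) (tt N115577 F495843) (tt N117031 (iv5 F503052)) (tt N78080 (iv6 D214096)) (tt N115922 F497614))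
theorem Q110856 : ∀ i, i < 110856 → P i := stepQ 110855 Q110855 (allL N110855 (tt N78083 (iv1 D214097)) (tt N107923 F473449) (tt N95567 F473454) (tt N108810 (iv3 F473453)) (tt N95566 F473452) (tt N80461 F473451) (tt N99345 (iv6 F473455)) (tt N102967 F473450))
theorem Q110857 : ∀ i, i < 110857 → P i := stepQ 110856 Q110856 (allL N110856 (tt N105105 (iv1 F473460)) (tt N106990 (iv0 F473461)) (tt N105120 F473456) (tt N78091 (iv3 D214098)) (tt N98710 F473459) (tt N110927 (iv5 F473828)) (tt N108350 F473457) (tt N104265 F473458))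
theorem Q110858 : ∀ i, i < 110858 → P i := stepQ 110857 Q110857 (allL N110857 (tt N84262 F473465) (tt N104273 F473466) (tt N93100 F473462) (tt N117966 (iv3 F507825)) (tt N78091 (iv4 D214099)) (tt N118118 (iv5 F508700)) (tt N97400 F473463) (tt N104266 F473464))
theorem Q110859 : ∀ i, i < 110859 → P i := stepQ 110858 Q110858 (allL N110858 (tt N78121 F473468) (tt N99375 (iv0 F473469)) (tt N99378 F473467) (tt N115072 (iv3 F493343)) (tt N120028 (iv4 F518643)) (tt N116703 (iv5 F501391)) (tt N78095 (iv6 D214100)) (tt N99379 (iv7 F473470)))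
theorem Q110860 : ∀ i, i < 110860 → P i := stepQ 110859 Q110859 (allL N110859 (tt N108360 F473476) (tt N105641 (iv0 F473477)) (tt N89637 F473473) (tt N83886 F473474) (tt N78097 (iv4 D214101)) (tt N85373 F473478) (tt N83885 F473479) (tt N107114 F473475))
theorem Q110861 : ∀ i, i < 110861 → P i := stepQ 110860 Q110860 (allL N110860 (tt N99835 F473484) (tt N78111 F473483) (tt N107116 F473480) (tt N118016 (iv3 F508102)) (tt N78992 F473482) (tt N78097 (iv5 D214102)) (tt N105098 F473485) (tt N98595 F473481))
theorem Q110862 : ∀ i, i < 110862 → P i := stepQ 110861 Q110861 (allL N110861 (tt N107127 F473489) (tt N90023 F473491) (tt N89636 F473486) (tt N89253 F473487) (tt N83885 F473488) (tt N94159 F473490) (tt N78097 (iv6 D214103)) (tt N84406 (iv7 F473492)))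
theorem Q110863 : ∀ i, i < 110863 → P i := stepQ 110862 Q110862 (allL N110862 (tt N78115 (iv1 F473531)) (tt N99392 (iv0 F473495)) (tt N99393 F473493) (tt N110802 F473494) (tt N121198 (iv4 F525086)) (tt N121333 (iv5 F525824)) (tt N78098 (iv6 D214104)) (tt N99394 (iv7 F473496)))
theorem Q110864 : ∀ i, i < 110864 → P i := stepQ 110863 Q110863 (allL N110863 (tt N94421 F473501) (tt N95289 F473502) (tt N107118 F473497) (tt N94414 F473498) (tt N78101 (iv4 D214105)) (tt N109903 F473499) (tt N120773 F522640) (tt N107120 F473500))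
theorem Q110865 : ∀ i, i < 110865 → P i := stepQ 110864 Q110864 (allL N110864 (tt N119210 (iv1 F514381)) (tt N118910 (iv0 F512703)) (tt N121062 (iv2 F524304)) (tt N78104 F473503) (tt N112693 (iv4 F482198)) (tt N92566 (iv5 F473504)) (tt N78103 (iv6 D214106)) (tt N121435 (iv7 F526359)))
theorem Q110866 : ∀ i, i < 110866 → P i := stepQ 110865 Q110865 (allL N110865 (tt N108390 F473510) (tt N108428 F473511) (tt N106495 F473505) (tt N78114 F473506) (tt N106486 F473509) (tt N78108 (iv5 D214107)) (tt N78110 F473507) (tt N100983 F473508))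
theorem Q110867 : ∀ i, i < 110867 → P i := stepQ 110866 Q110866 (allL N110866 (tt N107116 (iv1 F473520)) (tt N98595 F473519) (tt N78111 (iv2 D214108)) (tt N82135 F473514) (tt N108794 F473515) (tt N78166 F473516) (tt N78965 F473517) (tt N99835 F473518))
theorem Q110868 : ∀ i, i < 110868 → P i := stepQ 110867 Q110867 (allL N110867 (tt N111914 F478621) (tt N120300 F520103) (tt N100982 F473521) (tt N122015 D225274) (tt N78114 (iv4 D214109)) (tt N82695 F473524) (tt N78119 F473522) (tt N100984 F473523))
theorem Q110869 : ∀ i, i < 110869 → P i := stepQ 110868 Q110868 (allL N110868 (tt N99392 (iv1 F473527)) (tt N78115 (iv0 D214110)) (tt N99394 (iv2 F473529)) (tt N90752 F473525) (tt N84407 F473526) (tt N121270 (iv5 F525494)) (tt N84406 (iv6 F473530)) (tt N99393 F473528))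
theorem Q110870 : ∀ i, i < 110870 → P i := stepQ 110869 Q110869 (allL N110869 (tt N99394 (iv1 F473537)) (tt N99393 F473536) (tt N78115 (iv2 D214111)) (tt N107432 F473532) (tt N106207 F473533) (tt N122016 D225275) (tt N107400 F473534) (tt N99392 F473535))
theorem Q110871 : ∀ i, i < 110871 → P i := stepQ 110870 Q110870 (allL N110870 (tt N108411 F473540) (tt N100967 (iv0 F500716)) (tt N122016 (iv2 F529652)) (tt N78116 F473538) (tt N116297 (iv4 F499426)) (tt N78115 (iv5 D214112)) (tt N122017 D225276) (tt N99395 F473539))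
theorem Q110872 : ∀ i, i < 110872 → P i := stepQ 110871 Q110871 (allL N110871 (tt N107447 F473544) (tt N100880 F473545) (tt N105248 F473541) (tt N120247 (iv3 F519798)) (tt N78116 (iv4 D214113)) (tt N104332 F473542) (tt N122018 D225277) (tt N99397 F473543))
theorem Q110873 : ∀ i, i < 110873 → P i := stepQ 110872 Q110872 (allL N110872 (tt N91125 F473548) (tt N112773 (iv0 F482592)) (tt N107449 F473546) (tt N122017 (iv3 F529658)) (tt N122018 (iv4 F529665)) (tt N81926 F473547) (tt N78116 (iv6 D214114)) (tt N116181 (iv7 F498892)))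
theorem Q110874 : ∀ i, i < 110874 → P i := stepQ 110873 Q110873 (allL N110873 (tt N119967 (iv1 F518308)) (tt N118431 (iv0 F510320)) (tt N108021 F473549) (tt N120371 (iv3 F520424)) (tt N78117 (iv4 D214115)) (tt N100869 F473550) (tt N111962 (iv6 F478870)) (tt N116551 (iv7 F500723)))
theorem Q110875 : ∀ i, i < 110875 → P i := stepQ 110874 Q110874 (allL N110874 (tt N83565 (iv1 F473555)) (tt N107440 (iv0 F473554)) (tt N113499 (iv2 F485789)) (tt N78118 (iv3 D214116)) (tt N113995 (iv4 F488112)) (tt N108020 F473551) (tt N82713 F473552) (tt N108019 F473553))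
theorem Q110876 : ∀ i, i < 110876 → P i := stepQ 110875 Q110875 (allL N110875 (tt N118431 (iv1 F510321)) (tt N119967 (iv0 F518307)) (tt N116551 (iv2 F500721)) (tt N100993 F473558) (tt N78118 (iv4 D214117)) (tt N100992 F473556) (tt N112954 F483370) (tt N108021 F473557))
theorem Q110877 : ∀ i, i < 110877 → P i := stepQ 110876 Q110876 (allL N110876 (tt N107394 (iv1 F473563)) (tt N78119 (iv0 D214118)) (tt N108033 (iv2 F473562)) (tt N120294 (iv3 F520078)) (tt N105138 F473560) (tt N100900 F473559) (tt N105187 F473561) (tt N119099 (iv7 F513781)))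
theorem Q110878 : ∀ i, i < 110878 → P i := stepQ 110877 Q110877 (allL N110877 (tt N78119 (iv1 D214119)) (tt N107394 F473564) (tt N119099 F513783) (tt N121106 (iv3 F524541)) (tt N105139 F473566) (tt N111963 (iv5 F478873)) (tt N113997 (iv6 F488121)) (tt N108033 F473565))
theorem Q110879 : ∀ i, i < 110879 → P i := stepQ 110878 Q110878 (allL N110878 (tt N105075 F473569) (tt N105197 F473571) (tt N105194 F473567) (tt N78119 (iv3 D214120)) (tt N104331 F473568) (tt N78119 (iv5 F473570)) (tt N122015 (iv6 F529648)) (tt N105193 F473572))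
theorem Q110880 : ∀ i, i < 110880 → P i := stepQ 110879 Q110879 (allL N110879 (tt N119099 (iv1 F513780)) (tt N108033 (iv0 F473577)) (tt N107394 F473573) (tt N105193 F473574) (tt N78120 F473575) (tt N105193 F473576) (tt N122019 D225278) (tt N78119 (iv7 D214121)))
theorem Q110881 : ∀ i, i < 110881 → P i := stepQ 110880 Q110880 (allL N110880 (tt N82249 F473582) (tt N82289 (iv0 F473583)) (tt N82287 F473578) (tt N89690 F473579) (tt N122019 (iv4 F529670)) (tt N89689 F473580) (tt N78120 (iv6 D214122)) (tt N82286 F473581))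
theorem Q110882 : ∀ i, i < 110882 → P i := stepQ 110881 Q110881 (allL N110881 (tt N99375 (iv1 F473586)) (tt N78121 (iv0 D214123)) (tt N99379 (iv2 F473585)) (tt N108848 F473584) (tt N116806 (iv4 F501938)) (tt N116167 (iv5 F498835)) (tt N107134 (iv6 F473588)) (tt N99378 F473587))
theorem Q110883 : ∀ i, i < 110883 → P i := stepQ 110882 Q110882 (allL N110882 (tt N99379 (iv1 F473594)) (tt N99378 F473593) (tt N78121 (iv2 D214124)) (tt N107364 F473589) (tt N90753 F473590) (tt N122020 D225279) (tt N107321 F473591) (tt N99375 F473592))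
theorem Q110884 : ∀ i, i < 110884 → P i := stepQ 110883 Q110883 (allL N110883 (tt N121345 (iv1 F525882)) (tt N113896 (iv0 F487682)) (tt N122020 (iv2 F529673)) (tt N78122 F473597) (tt N116768 (iv4 F501725)) (tt N78121 (iv5 D214125)) (tt N122021 D225280) (tt N99380 F473598))
theorem Q110885 : ∀ i, i < 110885 → P i := stepQ 110884 Q110884 (allL N110884 (tt N88489 F473602) (tt N100874 F473603) (tt N105196 F473599) (tt N121625 (iv3 F527405)) (tt N78122 (iv4 D214126)) (tt N105075 F473600) (tt N120317 (iv6 F520166)) (tt N99388 F473601))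
theorem Q110886 : ∀ i, i < 110886 → P i := stepQ 110885 Q110885 (allL N110885 (tt N82696 F473606) (tt N117265 F504183) (tt N107392 F473604) (tt N122021 (iv3 F529681)) (tt N120317 (iv4 F520167)) (tt N83400 F473605) (tt N78122 (iv6 D214127)) (tt N117264 (iv7 F504173)))
theorem Q110887 : ∀ i, i < 110887 → P i := stepQ 110886 Q110886 (allL N110886 (tt N108848 F473609) (tt N108846 (iv0 F487976)) (tt N122022 D225281) (tt N78130 (iv3 D214128)) (tt N118390 (iv4 F510093)) (tt N89527 F473616) (tt N106789 F473607) (tt N99430 F473608))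
theorem Q110888 : ∀ i, i < 110888 → P i := stepQ 110887 Q110887 (allL N110887 (tt N107644 F473613) (tt N107643 F473614) (tt N107646 F473610) (tt N89527 (iv3 F473615)) (tt N89538 F473612) (tt N78130 (iv5 D214129)) (tt N100958 (iv6 F473617)) (tt N99433 F473611))
theorem Q110889 : ∀ i, i < 110889 → P i := stepQ 110888 Q110888 (allL N110888 (tt N95195 F473620) (tt N95193 F473621) (tt N78138 F473618) (tt N118633 (iv3 F511245)) (tt N96655 F473619) (tt N111037 (iv5 F474372)) (tt N78135 (iv6 D214130)) (tt N120586 (iv7 F521604)))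
theorem Q110890 : ∀ i, i < 110890 → P i := stepQ 110889 Q110889 (allL N110889 (tt N96644 F473626) (tt N96656 F473627) (tt N96655 F473622) (tt N105565 F473623) (tt N78138 F473624) (tt N121646 (iv5 F527519)) (tt N78137 (iv6 D214131)) (tt N96654 F473625))
theorem Q110891 : ∀ i, i < 110891 → P i := stepQ 110890 Q110890 (allL N110890 (tt N120586 (iv1 F521606)) (tt N78138 (iv0 D214132)) (tt N95195 (iv2 F473630)) (tt N85498 F473629) (tt N120414 (iv4 F520653)) (tt N95183 F473628) (tt N95225 (iv6 F473632)) (tt N95193 (iv7 F473631)))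
theorem Q110892 : ∀ i, i < 110892 → P i := stepQ 110891 Q110891 (allL N110891 (tt N78138 (iv1 D214133)) (tt N120586 (iv0 F521605)) (tt N95193 (iv2 F473638)) (tt N82418 F473636) (tt N96329 F473637) (tt N82440 F473634) (tt N96328 (iv6 F473635)) (tt N95195 F473633))
theorem Q110893 : ∀ i, i < 110893 → P i := stepQ 110892 Q110892 (allL N110892 (tt N78142 (iv1 D214134)) (tt N81986 F473639) (tt N91369 F473643) (tt N121786 (iv3 F528308)) (tt N91363 (iv4 F473641)) (tt N81971 (iv5 F473642)) (tt N91362 F473644) (tt N105437 F473640))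
theorem Q110894 : ∀ i, i < 110894 → P i := stepQ 110893 Q110893 (allL N110893 (tt N112655 (iv1 F482024)) (tt N115784 (iv0 F496857)) (tt N111838 (iv2 F478231)) (tt N78147 F473645) (tt N81992 F473648) (tt N78146 (iv5 D214135)) (tt N96336 F473646) (tt N101679 F473647))
theorem Q110895 : ∀ i, i < 110895 → P i := stepQ 110894 Q110894 (allL N110894 (tt N94624 (iv1 F473651)) (tt N94633 F473650) (tt N78148 (iv2 D214136)) (tt N118636 (iv3 F511264)) (tt N120206 (iv4 F519588)) (tt N118793 (iv5 F512106)) (tt N111909 (iv6 F478597)) (tt N94632 F473649))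
theorem Q110896 : ∀ i, i < 110896 → P i := stepQ 110895 Q110895 (allL N110895 (tt N82047 F473655) (tt N79417 (iv0 F473656)) (tt N111909 F478595) (tt N78149 F473652) (tt N81274 F473653) (tt N118794 (iv5 F512113)) (tt N78148 (iv6 D214137)) (tt N107887 F473654))
theorem Q110897 : ∀ i, i < 110897 → P i := stepQ 110896 Q110896 (allL N110896 (tt N110476 F473661) (tt N97146 (iv0 F473662)) (tt N115351 (iv2 F494731)) (tt N78157 (iv3 D214138)) (tt N91371 F473658) (tt N118200 (iv5 F509113)) (tt N108229 F473659) (tt N109340 F473660))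
theorem Q110898 : ∀ i, i < 110898 → P i := stepQ 110897 Q110897 (allL N110897 (tt N94611 F473666) (tt N94616 (iv0 F473668)) (tt N94614 F473663) (tt N78158 (iv3 D214139)) (tt N90296 F473664) (tt N118786 (iv5 F512063)) (tt N118410 F510202) (tt N90293 F473665))
theorem Q110899 : ∀ i, i < 110899 → P i := stepQ 110898 Q110898 (allL N110898 (tt N107590 F473678) (tt N107592 F473679) (tt N119308 (iv2 F514958)) (tt N94309 F473676) (tt N119600 (iv4 F516460)) (tt N78160 (iv5 D214140)) (tt N117807 (iv6 F507068)) (tt N107215 F473677))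
theorem Q110900 : ∀ i, i < 110900 → P i := stepQ 110899 Q110899 (allL N110899 (tt N106485 F473683) (tt N94546 F473684) (tt N94878 F473680) (tt N115965 (iv3 F497800)) (tt N78162 (iv4 D214141)) (tt N111694 (iv5 F477530)) (tt N82860 F473681) (tt N106274 F473682))
theorem Q110901 : ∀ i, i < 110901 → P i := stepQ 110900 Q110900 (allL N110900 (tt N107187 (iv1 F473691)) (tt N96200 (iv0 F473689)) (tt N107175 F473685) (tt N90860 F473686) (tt N116478 (iv4 F500345)) (tt N90858 F473687) (tt N78164 (iv6 D214142)) (tt N107186 F473688))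
theorem Q110902 : ∀ i, i < 110902 → P i := stepQ 110901 Q110901 (allL N110901 (tt N96198 F473697) (tt N107192 (iv0 F473696)) (tt N95919 F473692) (tt N83310 F473693) (tt N118026 (iv4 F508160)) (tt N83309 F473694) (tt N78168 (iv6 D214143)) (tt N107191 F473695))
theorem Q110903 : ∀ i, i < 110903 → P i := stepQ 110902 Q110902 (allL N110902 (tt N112354 (iv1 F480717)) (tt N107956 (iv0 F473702)) (tt N117084 (iv2 F503298)) (tt N78170 F473698) (tt N90570 F473699) (tt N90481 F473700) (tt N78169 (iv6 D214144)) (tt N99508 F473701))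
theorem Q110904 : ∀ i, i < 110904 → P i := stepQ 110903 Q110903 (allL N110903 (tt N94068 F473706) (tt N99386 F473707) (tt N105139 F473703) (tt N113950 (iv3 F487926)) (tt N119099 (iv4 F513782)) (tt N78172 (iv5 D214145)) (tt N82681 F473704) (tt N105138 F473705))
theorem Q110905 : ∀ i, i < 110905 → P i := stepQ 110904 Q110904 (allL N110904 (tt N95061 F473712) (tt N116994 F502876) (tt N95281 F473708) (tt N101495 F473709) (tt N103918 F473710) (tt N118712 (iv5 F511691)) (tt N78185 (iv6 D214146)) (tt N101527 F473711))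
theorem Q110906 : ∀ i, i < 110906 → P i := stepQ 110905 Q110905 (allL N110905 (tt N117495 (iv1 F505332)) (tt N110183 F473718) (tt N93349 F473714) (tt N116491 (iv3 F500420)) (tt N78187 (iv4 D214147)) (tt N90671 F473715) (tt N93348 F473716) (tt N93747 F473717))
theorem Q110907 : ∀ i, i < 110907 → P i := stepQ 110906 Q110906 (allL N110906 (tt N109491 F473723) (tt N96874 (iv0 F473724)) (tt N84355 F473719) (tt N78188 (iv3 D214148)) (tt N78189 F473720) (tt N90666 F473721) (tt N115422 (iv6 F495117)) (tt N87796 F473722))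
theorem Q110908 : ∀ i, i < 110908 → P i := stepQ 110907 Q110907 (allL N110907 (tt N87470 (iv1 F473732)) (tt N100310 F473731) (tt N78189 (iv2 D214149)) (tt N84353 F473726) (tt N84355 F473727) (tt N80309 F473728) (tt N103599 F473729) (tt N100792 F473730))
theorem Q110909 : ∀ i, i < 110909 → P i := stepQ 110908 Q110908 (allL N110908 (tt N97158 F473736) (tt N119354 F515186) (tt N103985 F473733) (tt N78191 F473734) (tt N115215 (iv4 F494057)) (tt N78190 (iv5 D214150)) (tt N115180 (iv6 F493892)) (tt N106706 F473735))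
theorem Q110910 : ∀ i, i < 110910 → P i := stepQ 110909 Q110909 (allL N110909 (tt N111726 (iv1 F477690)) (tt N78261 F473740) (tt N82176 F473737) (tt N96901 F473741) (tt N78191 (iv4 D214151)) (tt N91994 F473738) (tt N87095 F473742) (tt N107228 F473739))
theorem Q110911 : ∀ i, i < 110911 → P i := stepQ 110910 Q110910 (allL N110910 (tt N119269 (iv1 F514736)) (tt N119346 (iv0 F515140)) (tt N82177 F473743) (tt N115180 (iv3 F493890)) (tt N87095 F473744) (tt N99565 F473745) (tt N78191 (iv6 D214152)) (tt N115361 (iv7 F494798)))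
theorem Q110912 : ∀ i, i < 110912 → P i := stepQ 110911 Q110911 (allL N110911 (tt N89254 F473750) (tt N90747 F473751) (tt N90746 F473746) (tt N78193 F473747) (tt N86486 F473749) (tt N78192 (iv5 D214153)) (tt N86485 F473752) (tt N90745 F473748))
theorem Q110913 : ∀ i, i < 110913 → P i := stepQ 110912 Q110912 (allL N110912 (tt N112713 (iv1 F482318)) (tt N111143 F474912) (tt N95632 F473753) (tt N119001 (iv3 F513211)) (tt N78193 (iv4 D214154)) (tt N95630 F473754) (tt N119000 (iv6 F513209)) (tt N107230 F473755))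
theorem Q110914 : ∀ i, i < 110914 → P i := stepQ 110913 Q110913 (allL N110913 (tt N114247 F489203) (tt N87097 (iv0 F473760)) (tt N107232 F473756) (tt N86485 F473757) (tt N119000 (iv4 F513205)) (tt N99574 F473758) (tt N78193 (iv6 D214155)) (tt N97263 F473759))
theorem Q110915 : ∀ i, i < 110915 → P i := stepQ 110914 Q110914 (allL N110914 (tt N110511 F473764) (tt N112696 (iv0 F482216)) (tt N107235 F473761) (tt N113620 (iv3 F486333)) (tt N78195 (iv4 D214156)) (tt N111756 (iv5 F477807)) (tt N86877 F473762) (tt N107233 F473763))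
theorem Q110916 : ∀ i, i < 110916 → P i := stepQ 110915 Q110915 (allL N110915 (tt N112696 (iv1 F482217)) (tt N110511 F473768) (tt N107233 F473765) (tt N95736 F473769) (tt N78196 (iv4 D214157)) (tt N96767 F473767) (tt N118933 F512825) (tt N107235 F473766))
theorem Q110917 : ∀ i, i < 110917 → P i := stepQ 110916 Q110916 (allL N110916 (tt N88311 (iv1 F473776)) (tt N87612 (iv0 F473775)) (tt N83583 F473770) (tt N91996 F473771) (tt N78198 F473772) (tt N91993 F473773) (tt N78197 (iv6 D214158)) (tt N88309 F473774))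
theorem Q110918 : ∀ i, i < 110918 → P i := stepQ 110917 Q110917 (allL N110917 (tt N99131 F473781) (tt N110570 F473782) (tt N78204 F473777) (tt N101442 F473778) (tt N82196 F473779) (tt N101441 (iv5 F473783)) (tt N78203 (iv6 D214159)) (tt N110563 F473780))
theorem Q110919 : ∀ i, i < 110919 → P i := stepQ 110918 Q110918 (allL N110918 (tt N78204 (iv1 D214160)) (tt N110563 F473784) (tt N110570 (iv2 F473787)) (tt N121276 (iv3 F525517)) (tt N100405 F473786) (tt N118236 (iv5 F509293)) (tt N100404 (iv6 F473788)) (tt N99131 F473785))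
theorem Q110920 : ∀ i, i < 110920 → P i := stepQ 110919 Q110919 (allL N110919 (tt N98947 F473792) (tt N98950 F473793) (tt N101441 F473789) (tt N78208 F473790) (tt N121838 (iv4 F528620)) (tt N78204 (iv5 D214161)) (tt N117435 (iv6 F505013)) (tt N110571 F473791))
theorem Q110921 : ∀ i, i < 110921 → P i := stepQ 110920 Q110920 (allL N110920 (tt N119847 F517679) (tt N101622 (iv0 F473799)) (tt N82108 F473794) (tt N110609 F473795) (tt N96211 F473796) (tt N98784 F473797) (tt N78205 (iv6 D214162)) (tt N106678 F473798))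
theorem Q110922 : ∀ i, i < 110922 → P i := stepQ 110921 Q110921 (allL N110921 (tt N100477 F473801) (tt N122023 D225282) (tt N116623 (iv2 F501025)) (tt N117435 (iv3 F505012)) (tt N114631 (iv4 F491098)) (tt N78207 (iv5 D214163)) (tt N78208 F473800) (tt N116625 (iv7 F501037)))
theorem Q110923 : ∀ i, i < 110923 → P i := stepQ 110922 Q110922 (allL N110922 (tt N83430 F473804) (tt N83054 F473805) (tt N83429 F473802) (tt N120202 (iv3 F519564)) (tt N78208 (iv4 D214164)) (tt N113493 (iv5 F485752)) (tt N114631 F491101) (tt N83428 F473803))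
theorem Q110924 : ∀ i, i < 110924 → P i := stepQ 110923 Q110923 (allL N110923 (tt N110759 F473813) (tt N110762 (iv0 F473809)) (tt N82109 F473806) (tt N107175 F473807) (tt N78210 F473808) (tt N116533 (iv5 F500647)) (tt N78209 (iv6 D214165)) (tt N114615 (iv7 F491028)))
theorem Q110925 : ∀ i, i < 110925 → P i := stepQ 110924 Q110924 (allL N110924 (tt N82112 (iv1 F473819)) (tt N78210 (iv0 D214166)) (tt N82110 (iv2 F473816)) (tt N110610 F473818) (tt N119019 (iv4 F513315)) (tt N121938 (iv5 F529176)) (tt N117278 F504251) (tt N82111 (iv7 F473817)))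
theorem Q110926 : ∀ i, i < 110926 → P i := stepQ 110925 Q110925 (allL N110925 (tt N78210 (iv1 D214167)) (tt N82112 F473810) (tt N82111 F473814) (tt N99963 (iv3 F473812)) (tt N107212 (iv4 F473811)) (tt N121939 (iv5 F529185)) (tt N116934 (iv6 F502575)) (tt N82110 F473815))
theorem Q110927 : ∀ i, i < 110927 → P i := stepQ 110926 Q110926 (allL N110926 (tt N82111 (iv1 F473822)) (tt N82110 F473823) (tt N82112 F473820) (tt N117284 (iv3 F504279)) (tt N114615 (iv4 F491026)) (tt N113425 F485443) (tt N100462 F473821) (tt N78210 (iv7 D214168)))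
theorem Q110928 : ∀ i, i < 110928 → P i := stepQ 110927 Q110927 (allL N110927 (tt N105092 F473829) (tt N118429 (iv0 F510305)) (tt N81354 F473824) (tt N104325 F473825) (tt N78217 F473826) (tt N110856 F473828) (tt N78216 (iv6 D214169)) (tt N80849 F473827))
theorem Q110929 : ∀ i, i < 110929 → P i := stepQ 110928 Q110928 (allL N110928 (tt N78239 F473834) (tt N116144 (iv0 F498724)) (tt N110254 F473830) (tt N95071 F473831) (tt N90397 F473832) (tt N112824 (iv5 F482804)) (tt N78224 (iv6 D214170)) (tt N108891 F473833))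
theorem Q110930 : ∀ i, i < 110930 → P i := stepQ 110929 Q110929 (allL N110929 (tt N97406 (iv1 F473837)) (tt N97409 F473838) (tt N78226 F473835) (tt N118348 (iv3 F509837)) (tt N112295 (iv4 F480409)) (tt N116612 (iv5 F500966)) (tt N78225 (iv6 D214171)) (tt N108924 F473836))
theorem Q110931 : ∀ i, i < 110931 → P i := stepQ 110930 Q110930 (allL N110930 (tt N108924 (iv1 F473843)) (tt N78226 (iv0 D214172)) (tt N97406 (iv2 F473842)) (tt N106087 F473840) (tt N95790 F473841) (tt N107949 F473839) (tt N118219 (iv6 F509219)) (tt N97409 F473844))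
theorem Q110932 : ∀ i, i < 110932 → P i := stepQ 110931 Q110931 (allL N110931 (tt N93405 F473848) (tt N93532 (iv0 F473849)) (tt N93533 F473845) (tt N108908 F473846) (tt N107689 F473847) (tt N122024 D225283) (tt N78228 (iv6 D214173)) (tt N93534 (iv7 F473850)))
theorem Q110933 : ∀ i, i < 110933 → P i := stepQ 110932 Q110932 (allL N110932 (tt N122025 D225284) (tt N117005 (iv0 F502929)) (tt N106918 (iv2 F473855)) (tt N78232 (iv3 D214174)) (tt N106916 F473851) (tt N95691 F473852) (tt N93892 F473853) (tt N95690 F473854))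
theorem Q110934 : ∀ i, i < 110934 → P i := stepQ 110933 Q110933 (allL N110933 (tt N101256 F473860) (tt N89317 F473861) (tt N91691 F473856) (tt N121745 (iv3 F528069)) (tt N78234 (iv4 D214175)) (tt N90259 F473859) (tt N89327 F473857) (tt N101255 F473858))
theorem Q110935 : ∀ i, i < 110935 → P i := stepQ 110934 Q110934 (allL N110934 (tt N120767 F522605) (tt N109657 F473862) (tt N119037 (iv2 F513415)) (tt N111019 (iv3 F474285)) (tt N109651 F473863) (tt N78235 (iv5 D214176)) (tt N109650 F473864) (tt N112013 (iv7 F479077)))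
theorem Q110936 : ∀ i, i < 110936 → P i := stepQ 110935 Q110935 (allL N110935 (tt N109657 F473868) (tt N120767 (iv0 F522604)) (tt N112013 (iv2 F479075)) (tt N89731 F473865) (tt N109661 F473866) (tt N78236 (iv5 D214177)) (tt N89730 F473867) (tt N119037 (iv7 F513417)))
theorem Q110937 : ∀ i, i < 110937 → P i := stepQ 110936 Q110936 (allL N110936 (tt N94849 (iv1 F495205)) (tt N118225 F509236) (tt N112632 (iv2 F481915)) (tt N94539 F473869) (tt N94998 F473870) (tt N94536 F473871) (tt N78236 (iv6 D214178)) (tt N112658 (iv7 F482044)))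
theorem Q110938 : ∀ i, i < 110938 → P i := stepQ 110937 Q110937 (allL N110937 (tt N116144 (iv1 F498725)) (tt N78239 (iv0 D214179)) (tt N108891 (iv2 F473873)) (tt N121408 F526194) (tt N79450 F473872) (tt N119057 (iv5 F513542)) (tt N79449 F473874) (tt N110254 F473875))
theorem Q110939 : ∀ i, i < 110939 → P i := stepQ 110938 Q110938 (allL N110938 (tt N108891 (iv1 F473881)) (tt N110254 F473880) (tt N78239 (iv2 D214180)) (tt N89797 F473876) (tt N81475 F473877) (tt N85305 F473878) (tt N90150 F473879) (tt N116144 (iv7 F498723)))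
theorem Q110940 : ∀ i, i < 110940 → P i := stepQ 110939 Q110939 (allL N110939 (tt N78240 (iv1 D214181)) (tt N89797 F473884) (tt N116961 (iv2 F502721)) (tt N122025 (iv3 F529707)) (tt N116967 (iv4 F502746)) (tt N119058 (iv5 F513551)) (tt N93534 F502951) (tt N117008 (iv7 F502948)))
theorem Q110941 : ∀ i, i < 110941 → P i := stepQ 110940 Q110940 (allL N110940 (tt N117008 (iv1 F502949)) (tt N116961 (iv0 F502719)) (tt N78240 (iv2 D214182)) (tt N116144 F498726) (tt N117039 (iv4 F503083)) (tt N89798 F473882) (tt N120537 F521329) (tt N89797 F473883))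
theorem Q110942 : ∀ i, i < 110942 → P i := stepQ 110941 Q110941 (allL N110941 (tt N108903 F473887) (tt N120388 (iv0 F520527)) (tt N120537 (iv2 F521330)) (tt N78241 F473885) (tt N116680 (iv4 F501276)) (tt N112012 (iv5 F479071)) (tt N78240 (iv6 D214183)) (tt N93565 F473886))
theorem Q110943 : ∀ i, i < 110943 → P i := stepQ 110942 Q110942 (allL N110942 (tt N108799 (iv1 F473892)) (tt N99742 (iv0 F473891)) (tt N100288 F473893) (tt N78242 (iv3 D214184)) (tt N121745 (iv4 F528068)) (tt N91555 F473888) (tt N98237 F473889) (tt N100287 F473890))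
theorem Q110944 : ∀ i, i < 110944 → P i := stepQ 110943 Q110943 (allL N110943 (tt N117735 (iv1 F506700)) (tt N105822 (iv0 F475236)) (tt N119038 (iv2 F513422)) (tt N110033 F473894) (tt N111209 (iv4 F475231)) (tt N108733 F473895) (tt N78243 (iv6 D214185)) (tt N119477 (iv7 F515819)))
theorem Q110945 : ∀ i, i < 110945 → P i := stepQ 110944 Q110944 (allL N110944 (tt N106783 (iv1 F473899)) (tt N78244 (iv0 D214186)) (tt N108849 (iv2 F473898)) (tt N110077 F473897) (tt N106776 F473896) (tt N118330 (iv5 F509737)) (tt N108842 F473900) (tt N115073 (iv7 F493349)))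
theorem Q110946 : ∀ i, i < 110946 → P i := stepQ 110945 Q110945 (allL N110945 (tt N108849 (iv1 F473906)) (tt N115073 (iv0 F493350)) (tt N78244 (iv2 D214187)) (tt N110184 F473901) (tt N90050 F473902) (tt N96151 F473903) (tt N90049 F473904) (tt N106783 F473905))
theorem Q110947 : ∀ i, i < 110947 → P i := stepQ 110946 Q110946 (allL N110946 (tt N117268 (iv1 F504200)) (tt N95864 F473910) (tt N116931 (iv2 F502556)) (tt N78247 F473907) (tt N103777 F473909) (tt N78246 (iv5 D214188)) (tt N104617 (iv6 F473911)) (tt N93720 F473908))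
theorem Q110948 : ∀ i, i < 110948 → P i := stepQ 110947 Q110947 (allL N110947 (tt N108871 (iv1 F473918)) (tt N110222 (iv0 F473917)) (tt N106781 F473912) (tt N78248 F473913) (tt N80544 F473914) (tt N79229 F473915) (tt N78246 (iv6 D214189)) (tt N93899 F473916))
theorem Q110949 : ∀ i, i < 110949 → P i := stepQ 110948 Q110948 (allL N110948 (tt N106762 F473922) (tt N119053 (iv0 F513521)) (tt N118173 (iv2 F509003)) (tt N78251 F473919) (tt N101772 F473920) (tt N122026 D225285) (tt N78250 (iv6 D214190)) (tt N108983 F473921))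
theorem Q110950 : ∀ i, i < 110950 → P i := stepQ 110949 Q110949 (allL N110949 (tt N109283 F473925) (tt N109284 F473926) (tt N110993 (iv2 F474131)) (tt N122026 (iv3 F529713)) (tt N110049 F473923) (tt N78251 (iv5 D214191)) (tt N115348 (iv6 F494716)) (tt N108985 F473924))
theorem Q110951 : ∀ i, i < 110951 → P i := stepQ 110950 Q110950 (allL N110950 (tt N112851 (iv1 F482966)) (tt N112852 (iv0 F482970)) (tt N78262 F473927) (tt N82819 F473928) (tt N78669 F473929) (tt N101581 F473931) (tt N78259 (iv6 D214192)) (tt N81625 F473930))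
theorem Q110952 : ∀ i, i < 110952 → P i := stepQ 110951 Q110951 (allL N110951 (tt N108283 F473936) (tt N88113 F473937) (tt N78264 F473932) (tt N84610 F473933) (tt N101582 (iv4 F473938)) (tt N78260 (iv5 D214193)) (tt N101581 F473934) (tt N108630 F473935))
theorem Q110953 : ∀ i, i < 110953 → P i := stepQ 110952 Q110952 (allL N110952 (tt N78262 (iv1 D214194)) (tt N81625 F473939) (tt N112852 (iv2 F482968)) (tt N121698 (iv3 F527813)) (tt N111139 (iv4 F474884)) (tt N115993 (iv5 F497947)) (tt N95294 (iv6 F473940)) (tt N112851 (iv7 F482963)))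
theorem Q110954 : ∀ i, i < 110954 → P i := stepQ 110953 Q110953 (allL N110953 (tt N120557 (iv1 F521446)) (tt N120558 (iv0 F521450)) (tt N101581 F473941) (tt N78266 F473942) (tt N79210 F473944) (tt N78262 (iv5 D214195)) (tt N78264 F473943) (tt N101583 (iv7 F473945)))
theorem Q110955 : ∀ i, i < 110955 → P i := stepQ 110954 Q110954 (allL N110954 (tt N112852 (iv1 F482971)) (tt N112851 (iv0 F482965)) (tt N81625 F473946) (tt N78267 F473947) (tt N78667 F473948) (tt N101583 F473949) (tt N112727 F482387) (tt N78262 (iv7 D214196)))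
theorem Q110956 : ∀ i, i < 110956 → P i := stepQ 110955 Q110955 (allL N110955 (tt N108631 F473954) (tt N108622 F473955) (tt N108633 F473950) (tt N88006 F473951) (tt N87441 F473952) (tt N78263 (iv5 D214197)) (tt N115998 F497974) (tt N99697 F473953))
theorem Q110957 : ∀ i, i < 110957 → P i := stepQ 110956 Q110956 (allL N110956 (tt N108630 (iv1 F473962)) (tt N78264 (iv0 D214198)) (tt N108283 (iv2 F473959)) (tt N79305 F473957) (tt N87304 F473958) (tt N108264 F473956) (tt N79303 (iv6 F473961)) (tt N88113 F473960))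
theorem Q110958 : ∀ i, i < 110958 → P i := stepQ 110957 Q110957 (allL N110957 (tt N88113 (iv1 F473966)) (tt N108283 F473967) (tt N108630 F473963) (tt N78273 F473964) (tt N121093 (iv4 F524482)) (tt N78265 F473965) (tt N121043 (iv6 F524189)) (tt N78264 (iv7 D214199)))
theorem Q110959 : ∀ i, i < 110959 → P i := stepQ 110958 Q110958 (allL N110958 (tt N116034 (iv1 F498161)) (tt N78266 (iv0 D214200)) (tt N119335 F515086) (tt N95432 (iv3 F473969)) (tt N79634 (iv4 F473971)) (tt N108276 F473968) (tt N117463 F505165) (tt N95430 (iv7 F473970)))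
theorem Q110960 : ∀ i, i < 110960 → P i := stepQ 110959 Q110959 (allL N110959 (tt N78266 (iv1 D214201)) (tt N116034 (iv0 F498160)) (tt N95430 F473973) (tt N122027 D225286) (tt N111485 (iv4 F476562)) (tt N108783 (iv5 F473972)) (tt N114183 (iv6 F488879)) (tt N119335 (iv7 F515088)))
theorem Q110961 : ∀ i, i < 110961 → P i := stepQ 110960 Q110960 (allL N110960 (tt N115849 F497224) (tt N114868 (iv0 F492248)) (tt N115847 F497214) (tt N87306 (iv3 F473975)) (tt N78266 (iv4 D214202)) (tt N111053 (iv5 F474433)) (tt N78272 F473974) (tt N115848 (iv7 F497216)))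
theorem Q110962 : ∀ i, i < 110962 → P i := stepQ 110961 Q110961 (allL N110961 (tt N95430 (iv1 F473978)) (tt N119335 F515087) (tt N116034 (iv2 F498156)) (tt N101583 F473976) (tt N115848 (iv4 F497219)) (tt N78267 F473977) (tt N115644 (iv6 F496114)) (tt N78266 (iv7 D214203)))
theorem Q110963 : ∀ i, i < 110963 → P i := stepQ 110962 Q110962 (allL N110962 (tt N99675 (iv1 F473981)) (tt N78268 (iv0 D214204)) (tt N91329 (iv2 F473980)) (tt N90771 F473979) (tt N120739 (iv4 F522446)) (tt N115634 F496069) (tt N90762 (iv6 F473983)) (tt N99676 F473982))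
theorem Q110964 : ∀ i, i < 110964 → P i := stepQ 110963 Q110963 (allL N110963 (tt N91329 (iv1 F473988)) (tt N99676 F473987) (tt N78268 (iv2 D214205)) (tt N90753 F473984) (tt N118497 (iv4 F510687)) (tt N122028 D225287) (tt N96810 F473985) (tt N99675 F473986))
theorem Q110965 : ∀ i, i < 110965 → P i := stepQ 110964 Q110964 (allL N110964 (tt N114106 F488584) (tt N87219 (iv0 F473991)) (tt N122028 (iv2 F529725)) (tt N78269 F473989) (tt N122029 D225288) (tt N78268 (iv5 D214206)) (tt N122030 D225289) (tt N99677 F473990))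
theorem Q110966 : ∀ i, i < 110966 → P i := stepQ 110965 Q110965 (allL N110965 (tt N88074 F473995) (tt N84576 F473996) (tt N88073 F473992) (tt N112234 (iv3 F480165)) (tt N78269 (iv4 D214207)) (tt N91298 F473993) (tt N84598 F473997) (tt N88072 F473994))
theorem Q110967 : ∀ i, i < 110967 → P i := stepQ 110966 Q110966 (allL N110966 (tt N87419 F474001) (tt N87959 F474002) (tt N87956 F473998) (tt N122030 (iv3 F529740)) (tt N84598 F473999) (tt N108600 F474000) (tt N78269 (iv6 D214208)) (tt N87955 (iv7 F474003)))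
theorem Q110968 : ∀ i, i < 110968 → P i := stepQ 110967 Q110967 (allL N110967 (tt N104904 F474007) (tt N84547 F474008) (tt N104902 F474004) (tt N111899 F478556) (tt N78270 (iv4 D214209)) (tt N91822 F474005) (tt N118396 (iv6 F510127)) (tt N104903 F474006))
theorem Q110969 : ∀ i, i < 110969 → P i := stepQ 110968 Q110968 (allL N110968 (tt N114126 (iv1 F488665)) (tt N115654 (iv0 F496169)) (tt N115655 (iv2 F496170)) (tt N96803 F474009) (tt N118396 (iv4 F510126)) (tt N96802 F474010) (tt N78270 (iv6 D214210)) (tt N111304 (iv7 F475729)))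
theorem Q110970 : ∀ i, i < 110970 → P i := stepQ 110969 Q110969 (allL N110969 (tt N108613 F501935) (tt N90754 (iv0 F474011)) (tt N115632 (iv2 F496060)) (tt N78271 (iv3 D214211)) (tt N117593 (iv4 F505890)) (tt N116805 (iv5 F501933)) (tt N111306 F475741) (tt N119336 (iv7 F515092)))
theorem Q110971 : ∀ i, i < 110971 → P i := stepQ 110970 Q110970 (allL N110970 (tt N108160 F474015) (tt N87281 F474017) (tt N81183 F474012) (tt N78272 (iv3 D214212)) (tt N103078 F474013) (tt N87014 (iv5 F474016)) (tt N87306 F474014) (tt N111571 (iv7 F476973)))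
theorem Q110972 : ∀ i, i < 110972 → P i := stepQ 110971 Q110971 (allL N110971 (tt N86978 F474022) (tt N103377 F474023) (tt N83769 F474018) (tt N87014 F474019) (tt N103255 F474020) (tt N78272 (iv5 D214213)) (tt N112077 (iv6 F479385)) (tt N103376 F474021))
theorem Q110973 : ∀ i, i < 110973 → P i := stepQ 110972 Q110972 (allL N110972 (tt N115843 (iv1 F497191)) (tt N119337 F515099) (tt N81181 F474024) (tt N111571 (iv3 F476971)) (tt N78273 F474025) (tt N103376 F474026) (tt N121705 F527862) (tt N78272 (iv7 D214214)))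
theorem Q110974 : ∀ i, i < 110974 → P i := stepQ 110973 Q110973 (allL N110973 (tt N114870 (iv1 F492259)) (tt N111292 F475668) (tt N108571 F474027) (tt N121043 (iv3 F524187)) (tt N121705 (iv4 F527861)) (tt N113576 (iv5 F486103)) (tt N78273 (iv6 D214215)) (tt N115644 (iv7 F496117)))
theorem Q110975 : ∀ i, i < 110975 → P i := stepQ 110974 Q110974 (allL N110974 (tt N96224 F474030) (tt N96221 F474031) (tt N103982 F474028) (tt N78275 F474029) (tt N111742 (iv4 F477754)) (tt N78274 (iv5 D214216)) (tt N111107 (iv6 F474705)) (tt N112692 (iv7 F482193)))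
theorem Q110976 : ∀ i, i < 110976 → P i := stepQ 110975 Q110975 (allL N110975 (tt N119960 (iv1 F518271)) (tt N119959 (iv0 F518265)) (tt N120779 (iv2 F522660)) (tt N78278 (iv3 D214217)) (tt N107468 F474032) (tt N112251 (iv5 F480227)) (tt N108738 F474033) (tt N99720 F474034))
theorem Q110977 : ∀ i, i < 110977 → P i := stepQ 110976 Q110976 (allL N110976 (tt N108754 F474038) (tt N108753 F474039) (tt N108756 F474035) (tt N112251 F480228) (tt N110853 F474037) (tt N78278 (iv5 D214218)) (tt N122031 D225290) (tt N99723 F474036))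
theorem Q110978 : ∀ i, i < 110978 → P i := stepQ 110977 Q110977 (allL N110977 (tt N109736 F474045) (tt N98003 (iv0 F474046)) (tt N94008 F474040) (tt N97256 F474041) (tt N92589 F474042) (tt N91083 F474043) (tt N78284 (iv6 D214219)) (tt N109735 F474044))
theorem Q110979 : ∀ i, i < 110979 → P i := stepQ 110978 Q110978 (allL N110978 (tt N104937 F474051) (tt N104918 F474052) (tt N97253 F474047) (tt N78285 (iv3 D214220)) (tt N113769 (iv4 F487036)) (tt N96227 F474048) (tt N85754 F474049) (tt N94007 F474050))
theorem Q110980 : ∀ i, i < 110980 → P i := stepQ 110979 Q110979 (allL N110979 (tt N78292 (iv1 D214221)) (tt N85297 F474053) (tt N98699 (iv2 F474057)) (tt N83743 (iv3 F474058)) (tt N102356 F474056) (tt N78805 F474055) (tt N118057 (iv6 F508338)) (tt N93125 F474054))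
theorem Q110981 : ∀ i, i < 110981 → P i := stepQ 110980 Q110980 (allL N110980 (tt N100656 F474064) (tt N100657 F474065) (tt N108807 F474059) (tt N109720 F474060) (tt N78294 (iv4 D214222)) (tt N80874 F474061) (tt N104188 F474062) (tt N98358 F474063))
theorem Q110982 : ∀ i, i < 110982 → P i := stepQ 110981 Q110981 (allL N110981 (tt N89734 F474069) (tt N89329 F474070) (tt N80872 F474066) (tt N78299 F474067) (tt N112030 (iv4 F479155)) (tt N78298 (iv5 D214223)) (tt N120056 (iv6 F518808)) (tt N80865 F474068))
theorem Q110983 : ∀ i, i < 110983 → P i := stepQ 110982 Q110982 (allL N110982 (tt N78302 (iv1 D214224)) (tt N85350 F474071) (tt N85355 (iv2 F474076)) (tt N109874 F474075) (tt N85179 F474073) (tt N113447 (iv5 F485531)) (tt N106393 (iv6 F474074)) (tt N85356 F474072))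
theorem Q110984 : ∀ i, i < 110984 → P i := stepQ 110983 Q110983 (allL N110983 (tt N101436 F474081) (tt N101435 F474082) (tt N82541 F474077) (tt N84048 F474078) (tt N107551 (iv4 F474083)) (tt N78303 (iv5 D214225)) (tt N89084 F474079) (tt N101163 F474080))
theorem Q110985 : ∀ i, i < 110985 → P i := stepQ 110984 Q110984 (allL N110984 (tt N119739 (iv1 F517182)) (tt N119740 (iv0 F517188)) (tt N100458 F474085) (tt N110750 F474086) (tt N112559 (iv4 F481644)) (tt N78305 (iv5 D214226)) (tt N121876 (iv6 F528853)) (tt N113419 (iv7 F485408)))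
theorem Q110986 : ∀ i, i < 110986 → P i := stepQ 110985 Q110985 (allL N110985 (tt N98875 F474091) (tt N91580 F474092) (tt N117457 F505137) (tt N78306 (iv3 D214227)) (tt N91258 F474087) (tt N109837 F474088) (tt N110790 F474089) (tt N97237 F474090))
theorem Q110987 : ∀ i, i < 110987 → P i := stepQ 110986 Q110986 (allL N110986 (tt N100131 F474097) (tt N87298 F474098) (tt N103168 F474093) (tt N114199 (iv3 F488952)) (tt N78311 (iv4 D214228)) (tt N87422 F474094) (tt N107926 F474095) (tt N103167 F474096))
theorem Q110988 : ∀ i, i < 110988 → P i := stepQ 110987 Q110987 (allL N110987 (tt N107624 F474103) (tt N107631 F474104) (tt N107630 F474099) (tt N107899 F474100) (tt N109776 F474101) (tt N112479 (iv5 F481257)) (tt N78316 (iv6 D214229)) (tt N107629 F474102))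
theorem Q110989 : ∀ i, i < 110989 → P i := stepQ 110988 Q110988 (allL N110988 (tt N100118 F474109) (tt N109568 (iv0 F474111)) (tt N89169 F474105) (tt N78319 F474106) (tt N89231 F474110) (tt N78318 (iv5 D214230)) (tt N80382 F474107) (tt N98381 F474108))
theorem Q110990 : ∀ i, i < 110990 → P i := stepQ 110989 Q110989 (allL N110989 (tt N94600 F474116) (tt N93264 (iv0 F474117)) (tt N93368 F474112) (tt N78320 (iv3 D214231)) (tt N90986 F474113) (tt N90270 F474114) (tt N111828 (iv6 F478183)) (tt N107681 F474115))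
theorem Q110991 : ∀ i, i < 110991 → P i := stepQ 110990 Q110990 (allL N110990 (tt N107302 F474123) (tt N96495 F474124) (tt N99398 F474118) (tt N83192 F474119) (tt N92343 F474120) (tt N78325 (iv5 D214232)) (tt N78326 F474121) (tt N83184 F474122))
theorem Q110992 : ∀ i, i < 110992 → P i := stepQ 110991 Q110991 (allL N110991 (tt N88578 (iv1 F483457)) (tt N116572 F500796) (tt N113943 (iv2 F487895)) (tt N78329 (iv3 D214233)) (tt N113611 (iv4 F486301)) (tt N117588 (iv5 F505860)) (tt N120402 (iv6 F520596)) (tt N82657 F474125))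
theorem Q110993 : ∀ i, i < 110993 → P i := stepQ 110992 Q110992 (allL N110992 (tt N101225 F474129) (tt N101224 F474130) (tt N110326 F474126) (tt N121686 (iv3 F527740)) (tt N112168 (iv4 F479861)) (tt N78339 (iv5 D214234)) (tt N84334 F474127) (tt N110327 F474128))
theorem Q110994 : ∀ i, i < 110994 → P i := stepQ 110993 Q110993 (allL N110993 (tt N120071 (iv1 F518895)) (tt N108297 (iv0 F474136)) (tt N110949 F474131) (tt N101515 F474132) (tt N78343 F474133) (tt N94435 F474134) (tt N101514 (iv6 F474135)) (tt N78342 (iv7 D214235)))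
theorem Q110995 : ∀ i, i < 110995 → P i := stepQ 110994 Q110994 (allL N110994 (tt N90273 F474141) (tt N90272 F474142) (tt N86746 F474137) (tt N111362 (iv3 F476013)) (tt N101514 F474138) (tt N86733 F474139) (tt N78343 (iv6 D214236)) (tt N78352 F474140))
theorem Q110996 : ∀ i, i < 110996 → P i := stepQ 110995 Q110995 (allL N110995 (tt N120495 (iv1 F521082)) (tt N118134 (iv0 F508786)) (tt N90271 F474143) (tt N81974 F474144) (tt N78352 F474145) (tt N100640 F474146) (tt N78351 (iv6 D214237)) (tt N101514 F474147))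
theorem Q110997 : ∀ i, i < 110997 → P i := stepQ 110996 Q110996 (allL N110996 (tt N86746 (iv1 F474149)) (tt N78352 (iv0 D214238)) (tt N90272 (iv2 F474148)) (tt N89217 (iv3 F474151)) (tt N118713 (iv4 F511698)) (tt N114759 F491713) (tt N89250 (iv6 F474152)) (tt N90273 F474150))
theorem Q110998 : ∀ i, i < 110998 → P i := stepQ 110997 Q110997 (allL N110997 (tt N108038 F474157) (tt N109905 F474158) (tt N107879 F474153) (tt N101190 F474154) (tt N78364 (iv4 D214239)) (tt N88624 F474156) (tt N106431 F474155) (tt N113276 (iv7 F484825)))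
theorem Q110999 : ∀ i, i < 110999 → P i := stepQ 110998 Q110998 (allL N110998 (tt N100932 F474163) (tt N89167 F474164) (tt N101439 F474159) (tt N81823 F474160) (tt N117072 (iv4 F503241)) (tt N78366 (iv5 D214240)) (tt N100250 F474161) (tt N89901 F474162))
theorem Q111000 : ∀ i, i < 111000 → P i := stepQ 110999 Q110999 (allL N110999 (tt N88623 F474168) (tt N88622 F474169) (tt N88625 F474165) (tt N105741 F474166) (tt N120150 (iv4 F519314)) (tt N78367 (iv5 D214241)) (tt N117796 F507020) (tt N88618 F474167))
theorem Q111001 : ∀ i, i < 111001 → P i := stepQ 111000 Q111000 (allL N111000 (tt N106076 F474173) (tt N106334 F474174) (tt N106092 F474170) (tt N106934 F474171) (tt N92494 F474172) (tt N112754 (iv5 F482501)) (tt N78368 (iv6 D214242)) (tt N120126 (iv7 F519194)))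
theorem Q111002 : ∀ i, i < 111002 → P i := stepQ 111001 Q111001 (allL N111001 (tt N78374 (iv1 F474179)) (tt N78371 (iv0 D214243)) (tt N87357 (iv2 F474178)) (tt N90686 F474177) (tt N99793 F474176) (tt N88182 F474175) (tt N87350 F474180) (tt N111721 (iv7 F477658)))
theorem Q111003 : ∀ i, i < 111003 → P i := stepQ 111002 Q111002 (allL N111002 (tt N97831 (iv1 F474185)) (tt N92126 (iv0 F474184)) (tt N97829 F474181) (tt N114525 F490600) (tt N78383 F474182) (tt N122032 D225291) (tt N78382 (iv6 D214244)) (tt N93896 F474183))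
theorem Q111004 : ∀ i, i < 111004 → P i := stepQ 111003 Q111003 (allL N111003 (tt N78384 (iv1 D214245)) (tt N85220 F474186) (tt N85221 F474192) (tt N101473 (iv3 F474190)) (tt N94764 F474189) (tt N94023 F474188) (tt N94763 (iv6 F474191)) (tt N85217 F474187))
theorem Q111005 : ∀ i, i < 111005 → P i := stepQ 111004 Q111004 (allL N111004 (tt N118096 F508565) (tt N111166 F475041) (tt N98336 F474193) (tt N85262 F474194) (tt N122033 D225292) (tt N78388 (iv5 D214246)) (tt N114990 (iv6 F492947)) (tt N98337 F474195))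
theorem Q111006 : ∀ i, i < 111006 → P i := stepQ 111005 Q111005 (allL N111005 (tt N86608 F474201) (tt N86603 F474202) (tt N86606 F474196) (tt N91216 F474197) (tt N103224 F474198) (tt N78392 (iv5 D214247)) (tt N108780 F474199) (tt N86607 F474200))
theorem Q111007 : ∀ i, i < 111007 → P i := stepQ 111006 Q111006 (allL N111006 (tt N94763 F474208) (tt N84819 (iv0 F474209)) (tt N94772 F474203) (tt N105828 F474204) (tt N108657 F474205) (tt N105820 F474206) (tt N78393 (iv6 D214248)) (tt N94771 F474207))
theorem Q111008 : ∀ i, i < 111008 → P i := stepQ 111007 Q111007 (allL N111007 (tt N102490 F474215) (tt N102489 F474216) (tt N102491 F474210) (tt N82650 F474211) (tt N78397 (iv4 D214249)) (tt N102572 F474212) (tt N102574 F474213) (tt N102488 F474214))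
theorem Q111009 : ∀ i, i < 111009 → P i := stepQ 111008 Q111008 (allL N111008 (tt N96651 F474222) (tt N96650 (iv0 F474223)) (tt N96652 F474217) (tt N78398 (iv3 D214250)) (tt N96648 F474218) (tt N93211 F474219) (tt N97596 F474220) (tt N86960 F474221))
theorem Q111010 : ∀ i, i < 111010 → P i := stepQ 111009 Q111009 (allL N111009 (tt N111679 F477446) (tt N111651 (iv0 F477311)) (tt N111675 (iv2 F477422)) (tt N91518 F474227) (tt N117636 (iv4 F506130)) (tt N78407 (iv5 D214251)) (tt N118083 (iv6 F508479)) (tt N111680 (iv7 F477448)))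
theorem Q111011 : ∀ i, i < 111011 → P i := stepQ 111010 Q111010 (allL N111010 (tt N78412 (iv1 D214252)) (tt N78419 F474228) (tt N88706 (iv2 F474232)) (tt N103466 (iv3 F474234)) (tt N83993 F474231) (tt N82393 F474230) (tt N88728 (iv6 F474233)) (tt N83990 F474229))
theorem Q111012 : ∀ i, i < 111012 → P i := stepQ 111011 Q111011 (allL N111011 (tt N80730 F474240) (tt N93621 F474241) (tt N81734 F474235) (tt N103432 F474236) (tt N81776 F474237) (tt N78413 (iv5 D214253)) (tt N103431 F474238) (tt N93620 F474239))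
theorem Q111013 : ∀ i, i < 111013 → P i := stepQ 111012 Q111012 (allL N111012 (tt N78545 F474247) (tt N80742 (iv0 F474248)) (tt N78417 F474242) (tt N78590 F474243) (tt N101874 F474244) (tt N80841 F474245) (tt N78415 (iv6 D214254)) (tt N88506 F474246))
theorem Q111014 : ∀ i, i < 111014 → P i := stepQ 111013 Q111013 (allL N111013 (tt N82499 F474252) (tt N82488 F474253) (tt N101893 F474249) (tt N96657 F474250) (tt N120515 (iv4 F521199)) (tt N78416 (iv5 D214255)) (tt N121645 (iv6 F527514)) (tt N101891 F474251))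
theorem Q111015 : ∀ i, i < 111015 → P i := stepQ 111014 Q111014 (allL N111014 (tt N101868 F474258) (tt N101866 F474259) (tt N101874 F474254) (tt N96658 F474255) (tt N78417 F474256) (tt N109339 (iv5 F474260)) (tt N78416 (iv6 D214256)) (tt N88507 F474257))
theorem Q111016 : ∀ i, i < 111016 → P i := stepQ 111015 Q111015 (allL N111015 (tt N111841 (iv1 F478254)) (tt N80094 (iv0 F474266)) (tt N97531 F474261) (tt N78420 F474262) (tt N96658 F474263) (tt N92049 F474264) (tt N78418 (iv6 D214257)) (tt N80735 F474265))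
theorem Q111017 : ∀ i, i < 111017 → P i := stepQ 111016 Q111016 (allL N111016 (tt N111890 (iv1 F478524)) (tt N81021 (iv0 F474271)) (tt N79317 F474267) (tt N95627 F474270) (tt N78424 (iv4 D214258)) (tt N122034 D225293) (tt N87063 F474268) (tt N80576 F474269))
theorem Q111018 : ∀ i, i < 111018 → P i := stepQ 111017 Q111017 (allL N111017 (tt N81954 F474276) (tt N93815 (iv0 F474277)) (tt N80578 F474272) (tt N101678 F474273) (tt N106715 F474274) (tt N116846 (iv5 F502147)) (tt N78425 (iv6 D214259)) (tt N101663 F474275))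
theorem Q111019 : ∀ i, i < 111019 → P i := stepQ 111018 Q111018 (allL N111018 (tt N80584 F474283) (tt N80583 (iv0 F474284)) (tt N78427 F474278) (tt N86303 F474279) (tt N88459 F474282) (tt N78426 (iv5 D214260)) (tt N94824 F474280) (tt N80582 F474281))
theorem Q111020 : ∀ i, i < 111020 → P i := stepQ 111019 Q111019 (allL N111019 (tt N80582 (iv1 F474287)) (tt N78427 (iv0 D214261)) (tt N80584 (iv2 F474288)) (tt N110934 F474285) (tt N114309 (iv4 F489525)) (tt N82402 (iv5 F474289)) (tt N85160 F474286) (tt N80583 F474290))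
theorem Q111021 : ∀ i, i < 111021 → P i := stepQ 111020 Q111020 (allL N111020 (tt N78427 (iv1 D214262)) (tt N80582 F474291) (tt N80583 F474294) (tt N111043 (iv3 F474400)) (tt N113694 (iv4 F486674)) (tt N82403 (iv5 F474293)) (tt N113693 F486672) (tt N80584 F474292))
theorem Q111022 : ∀ i, i < 111022 → P i := stepQ 111021 Q111021 (allL N111021 (tt N112826 F482816) (tt N111710 (iv0 F477606)) (tt N91185 (iv2 F474298)) (tt N78428 (iv3 D214263)) (tt N79844 F474295) (tt N121444 (iv5 F526411)) (tt N101955 F474296) (tt N91188 F474297))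
theorem Q111023 : ∀ i, i < 111023 → P i := stepQ 111022 Q111022 (allL N111022 (tt N115439 F495209) (tt N95926 (iv0 F474300)) (tt N118911 (iv2 F512709)) (tt N78429 (iv3 D214264)) (tt N111633 F477231) (tt N85256 F474301) (tt N101541 F474299) (tt N111998 (iv7 F479015)))
theorem Q111024 : ∀ i, i < 111024 → P i := stepQ 111023 Q111023 (allL N111023 (tt N80564 F474306) (tt N89325 F474307) (tt N91682 F474302) (tt N85256 F474303) (tt N91733 F474304) (tt N78429 (iv5 D214265)) (tt N118693 F511575) (tt N91683 F474305))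
theorem Q111025 : ∀ i, i < 111025 → P i := stepQ 111024 Q111024 (allL N111024 (tt N94718 F474312) (tt N94717 F474314) (tt N94720 F474308) (tt N78433 (iv3 D214266)) (tt N102173 F474309) (tt N83268 (iv5 F474313)) (tt N95050 F474310) (tt N94714 F474311))
theorem Q111026 : ∀ i, i < 111026 → P i := stepQ 111025 Q111025 (allL N111025 (tt N79813 F474319) (tt N85510 F474320) (tt N84865 F474315) (tt N83268 F474316) (tt N84862 F474317) (tt N78433 (iv5 D214267)) (tt N83267 F474321) (tt N85500 F474318))
theorem Q111027 : ∀ i, i < 111027 → P i := stepQ 111026 Q111026 (allL N111026 (tt N102063 (iv1 F474325)) (tt N102064 F474324) (tt N78436 (iv2 D214268)) (tt N111539 (iv3 F476811)) (tt N82572 F474322) (tt N112020 (iv5 F479105)) (tt N102044 F474323) (tt N111522 (iv7 F476714)))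
theorem Q111028 : ∀ i, i < 111028 → P i := stepQ 111027 Q111027 (allL N111027 (tt N95260 F474328) (tt N105631 F474329) (tt N114728 (iv2 F491557)) (tt N78441 F474326) (tt N82857 F474327) (tt N121407 (iv5 F526183)) (tt N78439 (iv6 D214269)) (tt N115106 (iv7 F493505)))
theorem Q111029 : ∀ i, i < 111029 → P i := stepQ 111028 Q111028 (allL N111028 (tt N95074 F474334) (tt N94705 F474335) (tt N95071 F474330) (tt N121407 (iv3 F526185)) (tt N110109 F474333) (tt N78441 (iv5 D214270)) (tt N78444 F474331) (tt N95072 F474332))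
theorem Q111030 : ∀ i, i < 111030 → P i := stepQ 111029 Q111029 (allL N111029 (tt N93463 F474340) (tt N94890 (iv0 F474341)) (tt N119036 (iv2 F513408)) (tt N78443 (iv3 D214271)) (tt N100730 F474336) (tt N93449 F474337) (tt N101649 F474338) (tt N100752 F474339))
theorem Q111031 : ∀ i, i < 111031 → P i := stepQ 111030 Q111030 (allL N111030 (tt N118023 (iv1 F508147)) (tt N94257 F474346) (tt N112825 (iv2 F482806)) (tt N94222 F474343) (tt N78444 (iv4 D214272)) (tt N112806 (iv5 F482696)) (tt N110109 F474344) (tt N100753 F474345))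
theorem Q111032 : ∀ i, i < 111032 → P i := stepQ 111031 Q111031 (allL N111031 (tt N111444 (iv1 F476398)) (tt N78446 (iv0 D214273)) (tt N111443 F476394) (tt N91954 F474347) (tt N115439 (iv4 F495208)) (tt N111983 (iv5 F478960)) (tt N91952 F474348) (tt N111442 (iv7 F476388)))
theorem Q111033 : ∀ i, i < 111033 → P i := stepQ 111032 Q111032 (allL N111032 (tt N111443 (iv1 F476393)) (tt N111442 F476385) (tt N78446 (iv2 D214274)) (tt N85714 F474349) (tt N78450 F474350) (tt N121965 (iv5 F529343)) (tt N78497 F474351) (tt N111444 (iv7 F476397)))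
theorem Q111034 : ∀ i, i < 111034 → P i := stepQ 111033 Q111033 (allL N111033 (tt N121964 (iv1 F529341)) (tt N115032 F493127) (tt N121965 (iv2 F529345)) (tt N78447 F474352) (tt N120347 (iv4 F520309)) (tt N78446 (iv5 D214275)) (tt N114852 (iv6 F492180)) (tt N111445 (iv7 F476401)))
theorem Q111035 : ∀ i, i < 111035 → P i := stepQ 111034 Q111034 (allL N111034 (tt N80580 (iv1 F474358)) (tt N80577 (iv0 F474356)) (tt N78451 F474353) (tt N82860 F474354) (tt N84837 F474357) (tt N78450 (iv5 D214276)) (tt N115965 (iv6 F497802)) (tt N85259 F474355))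
theorem Q111036 : ∀ i, i < 111036 → P i := stepQ 111035 Q111035 (allL N111035 (tt N108167 F474363) (tt N78463 (iv0 F474365)) (tt N108168 F474359) (tt N82868 F474360) (tt N82922 F474362) (tt N78452 (iv5 D214277)) (tt N105608 F474364) (tt N82867 F474361))
theorem Q111037 : ∀ i, i < 111037 → P i := stepQ 111036 Q111036 (allL N111036 (tt N91185 (iv1 F474367)) (tt N91188 (iv0 F474366)) (tt N111710 (iv2 F477604)) (tt N78453 (iv3 D214278)) (tt N111076 F474544) (tt N121137 (iv5 F524718)) (tt N112638 (iv6 F481946)) (tt N112826 (iv7 F482813)))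
theorem Q111038 : ∀ i, i < 111038 → P i := stepQ 111037 Q111037 (allL N111037 (tt N78455 (iv1 D214279)) (tt N102017 (iv0 F474373)) (tt N96482 F474371) (tt N115439 (iv3 F495207)) (tt N102055 F474369) (tt N110888 F474372) (tt N107819 (iv6 F474370)) (tt N102016 F474368))
theorem Q111039 : ∀ i, i < 111039 → P i := stepQ 111038 Q111038 (allL N111038 (tt N102016 (iv1 F474380)) (tt N96482 F474379) (tt N78455 (iv2 D214280)) (tt N111709 F477602) (tt N79358 F474376) (tt N95196 F474377) (tt N117534 (iv6 F505568)) (tt N102017 F474378))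
theorem Q111040 : ∀ i, i < 111040 → P i := stepQ 111039 Q111039 (allL N111039 (tt N103274 F474382) (tt N103275 (iv0 F474383)) (tt N117534 (iv2 F505566)) (tt N78457 F474381) (tt N112869 (iv4 F483053)) (tt N117497 (iv5 F505341)) (tt N78455 (iv6 D214281)) (tt N112130 (iv7 F479649)))
theorem Q111041 : ∀ i, i < 111041 → P i := stepQ 111040 Q111040 (allL N111040 (tt N107698 F474387) (tt N107705 F474388) (tt N107703 F474384) (tt N117496 (iv3 F505334)) (tt N95999 F474385) (tt N110078 F474386) (tt N78456 (iv6 D214282)) (tt N107702 (iv7 F474389)))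
theorem Q111042 : ∀ i, i < 111042 → P i := stepQ 111041 Q111041 (allL N111041 (tt N116346 (iv1 F499652)) (tt N85699 F474394) (tt N85509 F474390) (tt N78459 F474391) (tt N84863 F474393) (tt N78458 (iv5 D214283)) (tt N118825 (iv6 F512275)) (tt N85506 F474392))
theorem Q111043 : ∀ i, i < 111043 → P i := stepQ 111042 Q111042 (allL N111042 (tt N82521 F474397) (tt N82518 F474398) (tt N112015 F479088) (tt N119037 (iv3 F513416)) (tt N89732 F474396) (tt N78467 (iv5 D214284)) (tt N114506 F490508) (tt N89731 F474395))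
theorem Q111044 : ∀ i, i < 111044 → P i := stepQ 111043 Q111043 (allL N111043 (tt N82518 F474403) (tt N82521 F474404) (tt N89731 F474399) (tt N111020 F474400) (tt N89045 F474402) (tt N78468 (iv5 D214285)) (tt N89044 F474401) (tt N112015 (iv7 F479086)))
theorem Q111045 : ∀ i, i < 111045 → P i := stepQ 111044 Q111044 (allL N111044 (tt N93723 F474405) (tt N93791 (iv0 F487777)) (tt N112837 (iv2 F482875)) (tt N112760 F482526) (tt N113916 F487776) (tt N117008 (iv5 F502946)) (tt N78469 (iv6 D214286)) (tt N119058 (iv7 F513550)))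
theorem Q111046 : ∀ i, i < 111046 → P i := stepQ 111045 Q111045 (allL N111045 (tt N116928 (iv1 F502546)) (tt N80567 (iv0 F474407)) (tt N115131 (iv2 F493636)) (tt N78476 F474406) (tt N122035 D225294) (tt N78475 (iv5 D214287)) (tt N118660 (iv6 F511398)) (tt N112836 (iv7 F482872)))
theorem Q111047 : ∀ i, i < 111047 → P i := stepQ 111046 Q111046 (allL N111046 (tt N116918 (iv1 F502494)) (tt N89754 (iv0 F474408)) (tt N112835 (iv2 F482864)) (tt N118660 (iv3 F511397)) (tt N115751 (iv4 F496663)) (tt N121672 (iv5 F527656)) (tt N78476 (iv6 D214288)) (tt N116916 (iv7 F502482)))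
theorem Q111048 : ∀ i, i < 111048 → P i := stepQ 111047 Q111047 (allL N111047 (tt N93465 (iv1 F474412)) (tt N78477 (iv0 D214289)) (tt N94883 (iv2 F474411)) (tt N100740 (iv3 F474414)) (tt N80076 F474409) (tt N112276 (iv5 F480312)) (tt N94981 F474410) (tt N94823 F474413))
theorem Q111049 : ∀ i, i < 111049 → P i := stepQ 111048 Q111048 (allL N111048 (tt N120346 (iv1 F520308)) (tt N120345 (iv0 F520300)) (tt N94884 F474415) (tt N111400 (iv3 F476188)) (tt N120507 (iv4 F521153)) (tt N78477 (iv5 D214290)) (tt N121672 (iv6 F527657)) (tt N120511 (iv7 F521176)))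
theorem Q111050 : ∀ i, i < 111050 → P i := stepQ 111049 Q111049 (allL N111049 (tt N95153 (iv1 F474420)) (tt N78484 (iv0 D214291)) (tt N95154 (iv2 F474419)) (tt N102398 F474418) (tt N95150 F474417) (tt N90548 F474416) (tt N80540 (iv6 F474422)) (tt N90664 F474421))
theorem Q111051 : ∀ i, i < 111051 → P i := stepQ 111050 Q111050 (allL N111050 (tt N95154 (iv1 F474428)) (tt N90664 F474427) (tt N78484 (iv2 D214292)) (tt N78651 F474423) (tt N93815 F474424) (tt N117173 (iv5 F503749)) (tt N78487 F474425) (tt N95153 F474426))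
theorem Q111052 : ∀ i, i < 111052 → P i := stepQ 111051 Q111051 (allL N111051 (tt N122036 D225295) (tt N115950 (iv0 F497741)) (tt N111447 (iv2 F476407)) (tt N111823 (iv3 F478153)) (tt N85722 F474429) (tt N111745 (iv5 F477763)) (tt N78488 (iv6 D214293)) (tt N122037 D225296))
theorem Q111053 : ∀ i, i < 111053 → P i := stepQ 111052 Q111052 (allL N111052 (tt N122038 D225297) (tt N122039 D225298) (tt N80543 F474430) (tt N103834 F474431) (tt N111456 (iv4 F476438)) (tt N81152 F474432) (tt N78490 (iv6 D214294)) (tt N121044 (iv7 F524197)))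
theorem Q111054 : ∀ i, i < 111054 → P i := stepQ 111053 Q111053 (allL N111053 (tt N111875 F478447) (tt N106724 (iv0 F474436)) (tt N111934 (iv2 F478744)) (tt N78491 (iv3 D214295)) (tt N86956 F474435) (tt N110960 F474433) (tt N112149 (iv6 F479752)) (tt N91985 F474434))
theorem Q111055 : ∀ i, i < 111055 → P i := stepQ 111054 Q111054 (allL N111054 (tt N111888 (iv1 F478508)) (tt N111887 F478505) (tt N78493 F474437) (tt N95622 F474438) (tt N101543 F474439) (tt N78492 (iv5 D214296)) (tt N115886 (iv6 F497416)) (tt N87294 F474440))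
theorem Q111056 : ∀ i, i < 111056 → P i := stepQ 111055 Q111055 (allL N111055 (tt N87294 (iv1 F474443)) (tt N78493 (iv0 D214297)) (tt N111888 F478512) (tt N121702 (iv3 F527840)) (tt N101577 F474441) (tt N79637 F474442) (tt N87325 (iv6 F474444)) (tt N111887 F478507))
theorem Q111057 : ∀ i, i < 111057 → P i := stepQ 111056 Q111056 (allL N111056 (tt N78493 (iv1 D214298)) (tt N87294 F474446) (tt N111887 F478506) (tt N120508 (iv3 F521157)) (tt N101567 F474448) (tt N79638 F474447) (tt N101566 (iv6 F474449)) (tt N111888 (iv7 F478509)))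
theorem Q111058 : ∀ i, i < 111058 → P i := stepQ 111057 Q111057 (allL N111057 (tt N111885 (iv1 F478497)) (tt N78494 (iv0 D214299)) (tt N88040 (iv2 F474452)) (tt N114193 (iv3 F488931)) (tt N88034 (iv4 F474453)) (tt N90531 F474450) (tt N88035 F474451) (tt N111884 (iv7 F478486)))
theorem Q111059 : ∀ i, i < 111059 → P i := stepQ 111058 Q111058 (allL N111058 (tt N78494 (iv1 D214300)) (tt N111885 F478496) (tt N111884 F478489) (tt N121699 (iv3 F527820)) (tt N88041 F474455) (tt N107326 (iv5 F474458)) (tt N114191 (iv6 F488921)) (tt N88040 F474454))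
theorem Q111060 : ∀ i, i < 111060 → P i := stepQ 111059 Q111059 (allL N111059 (tt N111884 (iv1 F478485)) (tt N88040 (iv0 F474462)) (tt N111885 (iv2 F478491)) (tt N87291 F474459) (tt N111492 (iv4 F476587)) (tt N91654 F474460) (tt N87289 F474461) (tt N78494 (iv7 D214301)))
theorem Q111061 : ∀ i, i < 111061 → P i := stepQ 111060 Q111060 (allL N111060 (tt N106818 (iv1 F474469)) (tt N106817 (iv0 F474470)) (tt N96773 F474463) (tt N78495 (iv3 D214302)) (tt N82380 F474467) (tt N88296 F474464) (tt N91822 F474465) (tt N106815 F474466))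
theorem Q111062 : ∀ i, i < 111062 → P i := stepQ 111061 Q111061 (allL N111061 (tt N118131 (iv1 F508766)) (tt N101541 (iv0 F474472)) (tt N96786 F474471) (tt N118740 (iv3 F511828)) (tt N78495 (iv4 D214303)) (tt N122040 D225299) (tt N112242 (iv6 F480193)) (tt N111712 (iv7 F477615)))
theorem Q111063 : ∀ i, i < 111063 → P i := stepQ 111062 Q111062 (allL N111062 (tt N78514 F474477) (tt N88821 F474478) (tt N88819 F474473) (tt N112701 (iv3 F482240)) (tt N86838 F474476) (tt N78499 (iv5 D214304)) (tt N93157 F474474) (tt N88820 F474475))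
theorem Q111064 : ∀ i, i < 111064 → P i := stepQ 111063 Q111063 (allL N111063 (tt N111355 F475982) (tt N111357 F475992) (tt N106711 F474480) (tt N78502 (iv3 D214305)) (tt N96361 F474484) (tt N88369 F474481) (tt N106702 F474482) (tt N78508 F474483))
theorem Q111065 : ∀ i, i < 111065 → P i := stepQ 111064 Q111064 (allL N111064 (tt N82475 (iv1 F474490)) (tt N78754 F474491) (tt N82474 F474485) (tt N78507 F474486) (tt N79353 F474487) (tt N84674 F474488) (tt N83522 F474489) (tt N78503 (iv7 D214306)))
theorem Q111066 : ∀ i, i < 111066 → P i := stepQ 111065 Q111065 (allL N111065 (tt N97675 F474496) (tt N95659 (iv0 F474497)) (tt N97678 F474492) (tt N78504 (iv3 D214307)) (tt N111863 (iv4 F478372)) (tt N104993 F474493) (tt N106094 F474494) (tt N91890 F474495))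
theorem Q111067 : ∀ i, i < 111067 → P i := stepQ 111066 Q111066 (allL N111066 (tt N111357 (iv1 F475991)) (tt N111355 (iv0 F475980)) (tt N78508 (iv2 D214308)) (tt N82474 F474498) (tt N96360 (iv4 F474502)) (tt N88360 F474499) (tt N87016 F474500) (tt N106711 F474501))
theorem Q111068 : ∀ i, i < 111068 → P i := stepQ 111067 Q111067 (allL N111067 (tt N96363 F474508) (tt N96355 F474507) (tt N96360 F474503) (tt N101894 F474504) (tt N78508 (iv4 D214309)) (tt N121639 (iv5 F527481)) (tt N88371 F474505) (tt N96361 F474506))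
theorem Q111069 : ∀ i, i < 111069 → P i := stepQ 111068 Q111068 (allL N111068 (tt N86632 F474510) (tt N86637 (iv0 F474730)) (tt N119353 (iv2 F515174)) (tt N78511 (iv3 D214310)) (tt N119452 (iv4 F515697)) (tt N111113 (iv5 F474726)) (tt N115364 F494818) (tt N112408 (iv7 F480979)))
theorem Q111070 : ∀ i, i < 111070 → P i := stepQ 111069 Q111069 (allL N111069 (tt N88820 (iv1 F474516)) (tt N88819 F474515) (tt N78514 (iv2 D214311)) (tt N103971 F474511) (tt N93170 F474512) (tt N78527 F474513) (tt N88433 (iv6 F474517)) (tt N88821 F474514))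
theorem Q111071 : ∀ i, i < 111071 → P i := stepQ 111070 Q111070 (allL N111070 (tt N88431 F474523) (tt N81637 F474524) (tt N88433 F474518) (tt N78515 F474519) (tt N86415 F474520) (tt N79647 F474521) (tt N78514 (iv6 D214312)) (tt N88432 F474522))
theorem Q111072 : ∀ i, i < 111072 → P i := stepQ 111071 Q111071 (allL N111071 (tt N95873 (iv1 F474529)) (tt N84045 (iv0 F474528)) (tt N115368 F494842) (tt N87740 F474525) (tt N89879 F474526) (tt N96758 F474527) (tt N78518 (iv6 D214313)) (tt N115367 F494838))
theorem Q111073 : ∀ i, i < 111073 → P i := stepQ 111072 Q111072 (allL N111072 (tt N97511 F474533) (tt N115409 (iv0 F495050)) (tt N103461 F474530) (tt N82392 F474531) (tt N78521 (iv4 D214314)) (tt N88705 (iv5 F474534)) (tt N97491 F474532) (tt N111751 (iv7 F477787)))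
theorem Q111074 : ∀ i, i < 111074 → P i := stepQ 111073 Q111073 (allL N111073 (tt N115409 F495051) (tt N97511 F474538) (tt N111751 (iv2 F477785)) (tt N82377 F474535) (tt N78522 (iv4 D214315)) (tt N115834 (iv5 F497143)) (tt N103370 F474536) (tt N103461 F474537))
theorem Q111075 : ∀ i, i < 111075 → P i := stepQ 111074 Q111074 (allL N111074 (tt N120271 (iv1 F519939)) (tt N112391 (iv0 F480889)) (tt N112401 (iv2 F480945)) (tt N120987 (iv3 F523876)) (tt N78525 (iv4 D214316)) (tt N100729 F474539) (tt N118100 (iv6 F508589)) (tt N120268 (iv7 F519922)))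
theorem Q111076 : ∀ i, i < 111076 → P i := stepQ 111075 Q111075 (allL N111075 (tt N111113 F474729) (tt N112406 (iv0 F480973)) (tt N111689 (iv2 F477497)) (tt N78526 (iv3 D214317)) (tt N100740 F474540) (tt N87651 F474541) (tt N91515 F474542) (tt N111690 (iv7 F477504)))
theorem Q111077 : ∀ i, i < 111077 → P i := stepQ 111076 Q111076 (allL N111076 (tt N78528 (iv1 D214318)) (tt N96763 (iv0 F474545)) (tt N96762 (iv2 F474546)) (tt N111689 (iv3 F477498)) (tt N111036 (iv4 F474544)) (tt N115460 (iv5 F495298)) (tt N96827 F474547) (tt N96751 F474543))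
theorem Q111078 : ∀ i, i < 111078 → P i := stepQ 111077 Q111077 (allL N111077 (tt N96751 (iv1 F474555)) (tt N96762 F474554) (tt N78528 (iv2 D214319)) (tt N82430 F474551) (tt N82431 F474552) (tt N112700 (iv5 F482238)) (tt N118217 (iv6 F509211)) (tt N96763 F474553))
theorem Q111079 : ∀ i, i < 111079 → P i := stepQ 111078 Q111078 (allL N111078 (tt N83708 (iv1 F474559)) (tt N91195 (iv0 F474560)) (tt N78535 F474556) (tt N111867 (iv3 F478396)) (tt N88947 F474557) (tt N112256 (iv5 F480244)) (tt N78531 (iv6 D214320)) (tt N91197 F474558))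
theorem Q111080 : ∀ i, i < 111080 → P i := stepQ 111079 Q111079 (allL N111079 (tt N87654 F474566) (tt N115460 F495299) (tt N108549 F474561) (tt N78532 (iv3 D214321)) (tt N108543 F474562) (tt N96880 F474563) (tt N108246 F474564) (tt N96769 F474565))
theorem Q111081 : ∀ i, i < 111081 → P i := stepQ 111080 Q111080 (allL N111080 (tt N83788 F474571) (tt N97180 F474572) (tt N93904 F474567) (tt N83749 F474573) (tt N78533 (iv4 D214322)) (tt N86712 F474568) (tt N105779 F474569) (tt N96771 F474570))
theorem Q111082 : ∀ i, i < 111082 → P i := stepQ 111081 Q111081 (allL N111081 (tt N91197 (iv1 F474576)) (tt N78535 (iv0 D214323)) (tt N83708 (iv2 F474575)) (tt N115456 F495279) (tt N83707 F474574) (tt N118960 (iv5 F512984)) (tt N116079 F498352) (tt N91195 F474577))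
theorem Q111083 : ∀ i, i < 111083 → P i := stepQ 111082 Q111082 (allL N111082 (tt N104931 F474580) (tt N115482 (iv0 F495416)) (tt N118107 (iv2 F508634)) (tt N78538 (iv3 D214324)) (tt N104088 F474578) (tt N121072 (iv5 F524369)) (tt N118105 (iv6 F508626)) (tt N97250 F474579))
theorem Q111084 : ∀ i, i < 111084 → P i := stepQ 111083 Q111083 (allL N111083 (tt N121071 (iv1 F524366)) (tt N118729 (iv0 F511779)) (tt N101557 F474582) (tt N121072 F524370) (tt N101556 F474583) (tt N78538 (iv5 D214325)) (tt N122041 D225300) (tt N112414 (iv7 F481003)))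
theorem Q111085 : ∀ i, i < 111085 → P i := stepQ 111084 Q111084 (allL N111084 (tt N85464 (iv1 F474587)) (tt N118111 F508663) (tt N112413 (iv2 F480995)) (tt N118105 (iv3 F508620)) (tt N81452 F474584) (tt N81036 F474586) (tt N78538 (iv6 D214326)) (tt N97267 F474585))
theorem Q111086 : ∀ i, i < 111086 → P i := stepQ 111085 Q111085 (allL N111085 (tt N87653 F474589) (tt N115462 (iv0 F495306)) (tt N118109 (iv2 F508645)) (tt N78539 (iv3 D214327)) (tt N117994 (iv4 F507971)) (tt N111397 F476171) (tt N97264 F474588) (tt N112412 (iv7 F480992)))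
theorem Q111087 : ∀ i, i < 111087 → P i := stepQ 111086 Q111086 (allL N111086 (tt N118729 (iv1 F511780)) (tt N121071 (iv0 F524365)) (tt N112414 (iv2 F481001)) (tt N111397 (iv3 F476168)) (tt N79136 F474590) (tt N78539 (iv5 D214328)) (tt N115561 F495792) (tt N101557 F474591))
theorem Q111088 : ∀ i, i < 111088 → P i := stepQ 111087 Q111087 (allL N111087 (tt N109669 F474596) (tt N95834 (iv0 F474597)) (tt N99786 F474592) (tt N84346 F474593) (tt N95841 F474594) (tt N116566 (iv5 F500764)) (tt N78544 (iv6 D214329)) (tt N84342 F474595))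
theorem Q111089 : ∀ i, i < 111089 → P i := stepQ 111088 Q111088 (allL N111088 (tt N104261 (iv1 F474603)) (tt N78569 F474604) (tt N104262 F474598) (tt N108757 F474599) (tt N109781 F474600) (tt N80641 F474601) (tt N90172 F474602) (tt N78546 (iv7 D214330)))
theorem Q111090 : ∀ i, i < 111090 → P i := stepQ 111089 Q111089 (allL N111089 (tt N100678 F474609) (tt N82454 F474610) (tt N78633 F474605) (tt N100666 F474606) (tt N119118 (iv4 F513876)) (tt N78550 (iv5 D214331)) (tt N78551 F474607) (tt N100677 F474608))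
theorem Q111091 : ∀ i, i < 111091 → P i := stepQ 111090 Q111090 (allL N111090 (tt N109600 F474612) (tt N81782 (iv0 F474613)) (tt N112381 (iv2 F480826)) (tt N79511 F474611) (tt N111595 (iv4 F477075)) (tt N112386 (iv5 F480858)) (tt N78559 (iv6 D214332)) (tt N115121 (iv7 F493594)))
theorem Q111092 : ∀ i, i < 111092 → P i := stepQ 111091 Q111091 (allL N111091 (tt N109229 (iv1 F474619)) (tt N109230 F474620) (tt N101725 F474614) (tt N78567 F474615) (tt N100795 F474616) (tt N79272 F474617) (tt N78562 (iv6 D214333)) (tt N109332 F474618))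
theorem Q111093 : ∀ i, i < 111093 → P i := stepQ 111092 Q111092 (allL N111092 (tt N79598 F474626) (tt N80672 (iv0 F474627)) (tt N80673 F474621) (tt N109332 F474622) (tt N83986 F474623) (tt N79275 F474624) (tt N78564 (iv6 D214334)) (tt N78567 F474625))
theorem Q111094 : ∀ i, i < 111094 → P i := stepQ 111093 Q111093 (allL N111093 (tt N105716 F474630) (tt N120550 (iv0 F521401)) (tt N81978 F474628) (tt N107741 F474631) (tt N78568 (iv4 D214335)) (tt N119946 (iv5 F518181)) (tt N112287 (iv6 F480367)) (tt N80745 F474629))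
theorem Q111095 : ∀ i, i < 111095 → P i := stepQ 111094 Q111094 (allL N111094 (tt N97079 F474634) (tt N79550 (iv0 F474635)) (tt N112288 (iv2 F480372)) (tt N78571 F474632) (tt N112287 (iv4 F480371)) (tt N112369 (iv5 F480772)) (tt N78568 (iv6 D214336)) (tt N94927 F474633))
theorem Q111096 : ∀ i, i < 111096 → P i := stepQ 111095 Q111095 (allL N111095 (tt N82549 F474640) (tt N82550 (iv0 F474641)) (tt N82548 F474636) (tt N78570 (iv3 D214337)) (tt N107741 F474637) (tt N102339 F474638) (tt N111925 (iv6 F478688)) (tt N80748 F474639))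
theorem Q111097 : ∀ i, i < 111097 → P i := stepQ 111096 Q111096 (allL N111096 (tt N97619 F474646) (tt N97702 (iv0 F474647)) (tt N80526 F474642) (tt N111925 (iv3 F478687)) (tt N78571 F474643) (tt N81216 F474644) (tt N78570 (iv6 D214338)) (tt N81215 F474645))
theorem Q111098 : ∀ i, i < 111098 → P i := stepQ 111097 Q111097 (allL N111097 (tt N109916 F474651) (tt N108838 F474652) (tt N78598 F474648) (tt N103625 F474649) (tt N120844 (iv4 F523039)) (tt N78592 (iv5 D214339)) (tt N104114 F474653) (tt N78597 F474650))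
theorem Q111099 : ∀ i, i < 111099 → P i := stepQ 111098 Q111098 (allL N111098 (tt N104223 F474656) (tt N111911 (iv0 F478606)) (tt N109917 F474654) (tt N118081 (iv3 F508465)) (tt N78597 (iv4 D214340)) (tt N116000 (iv5 F497985)) (tt N104587 F474655) (tt N120844 (iv7 F523043)))
theorem Q111100 : ∀ i, i < 111100 → P i := stepQ 111099 Q111099 (allL N111099 (tt N111911 (iv1 F478607)) (tt N104223 F474658) (tt N120844 F523041) (tt N116249 (iv3 F499208)) (tt N78598 (iv4 D214341)) (tt N116025 (iv5 F498111)) (tt N104652 (iv6 F474659)) (tt N109917 F474657))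
theorem Q111101 : ∀ i, i < 111101 → P i := stepQ 111100 Q111100 (allL N111100 (tt N104116 F474664) (tt N103525 (iv0 F474665)) (tt N104114 F474660) (tt N79915 F474661) (tt N104652 F474662) (tt N119373 (iv5 F515276)) (tt N78598 (iv6 D214342)) (tt N104115 F474663))
theorem Q111102 : ∀ i, i < 111102 → P i := stepQ 111101 Q111101 (allL N111101 (tt N83630 (iv1 F474671)) (tt N102288 F474672) (tt N103821 F474666) (tt N103911 F474667) (tt N102510 F474668) (tt N101029 F474669) (tt N80279 F474670) (tt N78602 (iv7 D214343)))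
theorem Q111103 : ∀ i, i < 111103 → P i := stepQ 111102 Q111102 (allL N111102 (tt N84715 F474677) (tt N98188 F474678) (tt N99936 F474673) (tt N117338 (iv3 F504529)) (tt N78613 (iv4 D214344)) (tt N84159 F474674) (tt N109403 F474675) (tt N84174 F474676))
theorem Q111104 : ∀ i, i < 111104 → P i := stepQ 111103 Q111103 (allL N111103 (tt N78614 (iv1 D214345)) (tt N103937 F474679) (tt N101203 F474685) (tt N89107 (iv3 F474683)) (tt N91337 F474682) (tt N90402 F474681) (tt N89930 (iv6 F474684)) (tt N88483 F474680))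
theorem Q111105 : ∀ i, i < 111105 → P i := stepQ 111104 Q111104 (allL N111104 (tt N102280 F474690) (tt N91852 (iv0 F474692)) (tt N100675 F474686) (tt N78633 F474687) (tt N80060 F474691) (tt N78626 (iv5 D214346)) (tt N78629 F474688) (tt N102275 F474689))
theorem Q111106 : ∀ i, i < 111106 → P i := stepQ 111105 Q111105 (allL N111105 (tt N82454 (iv1 F474698)) (tt N100678 F474699) (tt N100677 F474693) (tt N102275 F474694) (tt N100921 F474695) (tt N78634 F474696) (tt N102274 F474697) (tt N78633 (iv7 D214347)))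
theorem Q111107 : ∀ i, i < 111107 → P i := stepQ 111106 Q111106 (allL N111106 (tt N116032 (iv1 F498148)) (tt N90544 (iv0 F474702)) (tt N111581 (iv2 F477003)) (tt N104878 F474700) (tt N113291 (iv4 F484877)) (tt N112145 (iv5 F479732)) (tt N78642 (iv6 D214348)) (tt N104875 F474701))
theorem Q111108 : ∀ i, i < 111108 → P i := stepQ 111107 Q111107 (allL N111107 (tt N95558 F474707) (tt N95634 F474708) (tt N79870 F474703) (tt N95554 F474704) (tt N115288 (iv4 F494397)) (tt N78645 (iv5 D214349)) (tt N110974 F474705) (tt N79872 F474706))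
theorem Q111109 : ∀ i, i < 111109 → P i := stepQ 111108 Q111108 (allL N111108 (tt N117669 F506325) (tt N118416 (iv0 F510236)) (tt N119320 (iv2 F514997)) (tt N78647 F474709) (tt N121730 (iv4 F528007)) (tt N78646 (iv5 D214350)) (tt N119319 (iv6 F514996)) (tt N106104 F474710))
theorem Q111110 : ∀ i, i < 111110 → P i := stepQ 111109 Q111109 (allL N111109 (tt N97293 F474715) (tt N89943 (iv0 F474716)) (tt N94440 F474711) (tt N119319 (iv3 F514990)) (tt N89929 F474712) (tt N80247 F474713) (tt N78647 (iv6 D214351)) (tt N91092 F474714))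
theorem Q111111 : ∀ i, i < 111111 → P i := stepQ 111110 Q111110 (allL N111110 (tt N122042 D225301) (tt N112119 (iv0 F479579)) (tt N117648 (iv2 F506204)) (tt N111521 (iv3 F476705)) (tt N119936 (iv4 F518123)) (tt N78649 (iv5 D214352)) (tt N117485 (iv6 F505281)) (tt N90992 F474717))
theorem Q111112 : ∀ i, i < 111112 → P i := stepQ 111111 Q111111 (allL N111111 (tt N112119 (iv1 F479580)) (tt N122042 F529805) (tt N90992 F474718) (tt N91318 F474719) (tt N119937 (iv4 F518129)) (tt N78650 (iv5 D214353)) (tt N89302 F474720) (tt N117648 (iv7 F506206)))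
theorem Q111113 : ∀ i, i < 111113 → P i := stepQ 111112 Q111112 (allL N111112 (tt N106719 F474724) (tt N79874 (iv0 F474725)) (tt N111652 (iv2 F477313)) (tt N78655 (iv3 D214354)) (tt N82568 F474723) (tt N84678 F474721) (tt N111629 (iv6 F477218)) (tt N81571 F474722))
theorem Q111114 : ∀ i, i < 111114 → P i := stepQ 111113 Q111113 (allL N111113 (tt N115436 F495193) (tt N111075 (iv0 F474729)) (tt N122043 D225302) (tt N78656 (iv3 D214355)) (tt N118131 (iv4 F508768)) (tt N111068 F474726) (tt N81035 F474727) (tt N81575 F474728))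
theorem Q111115 : ∀ i, i < 111115 → P i := stepQ 111114 Q111114 (allL N111114 (tt N112840 F482897) (tt N117643 F506178) (tt N81586 F474731) (tt N82506 F474732) (tt N78659 (iv4 D214356)) (tt N118811 (iv5 F512196)) (tt N119430 (iv6 F515579)) (tt N81590 F474733))
theorem Q111116 : ∀ i, i < 111116 → P i := stepQ 111115 Q111115 (allL N111115 (tt N91951 F474738) (tt N91960 F474737) (tt N91959 F474734) (tt N78664 F474735) (tt N117710 (iv4 F506558)) (tt N78663 (iv5 D214357)) (tt N115377 (iv6 F494890)) (tt N91958 F474736))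
theorem Q111117 : ∀ i, i < 111117 → P i := stepQ 111116 Q111116 (allL N111116 (tt N87606 F474743) (tt N96775 F474744) (tt N87571 F474739) (tt N78667 F474740) (tt N97195 F474745) (tt N78665 (iv5 D214358)) (tt N87147 F474741) (tt N81617 F474742))
theorem Q111118 : ∀ i, i < 111118 → P i := stepQ 111117 Q111117 (allL N111117 (tt N97294 (iv1 F474751)) (tt N87111 (iv0 F474750)) (tt N81626 F474746) (tt N87147 F474747) (tt N112727 (iv4 F482383)) (tt N90741 F474748) (tt N78667 (iv6 D214359)) (tt N87572 F474749))
theorem Q111119 : ∀ i, i < 111119 → P i := stepQ 111118 Q111118 (allL N111118 (tt N81636 F474755) (tt N81635 F474756) (tt N78674 F474752) (tt N106699 F474758) (tt N78671 (iv4 D214360)) (tt N79211 F474753) (tt N106696 (iv6 F474757)) (tt N81629 F474754))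
theorem Q111120 : ∀ i, i < 111120 → P i := stepQ 111119 Q111119 (allL N111119 (tt N114244 (iv1 F489187)) (tt N87522 (iv0 F474768)) (tt N78675 F474763) (tt N91250 F474764) (tt N106696 F474765) (tt N98883 F474766) (tt N78671 (iv6 D214361)) (tt N87105 F474767))
theorem Q111121 : ∀ i, i < 111121 → P i := stepQ 111120 Q111120 (allL N111120 (tt N112699 F482235) (tt N122044 D225303) (tt N81632 F474769) (tt N111665 F477380) (tt N81594 F474770) (tt N114102 (iv5 F488568)) (tt N78673 (iv6 D214362)) (tt N115378 (iv7 F494898)))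
theorem Q111122 : ∀ i, i < 111122 → P i := stepQ 111121 Q111121 (allL N111121 (tt N81629 (iv1 F474773)) (tt N78674 (iv0 D214363)) (tt N81636 (iv2 F474775)) (tt N88264 (iv3 F474774)) (tt N79875 F474771) (tt N101905 F474772) (tt N115729 (iv6 F496552)) (tt N81635 (iv7 F474776)))
theorem Q111123 : ∀ i, i < 111123 → P i := stepQ 111122 Q111122 (allL N111122 (tt N78674 (iv1 D214364)) (tt N81629 F474777) (tt N81635 F474781) (tt N96766 (iv3 F474779)) (tt N79880 (iv4 F474780)) (tt N101900 F474782) (tt N96764 (iv6 F474783)) (tt N81636 F474778))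
theorem Q111124 : ∀ i, i < 111124 → P i := stepQ 111123 Q111123 (allL N111123 (tt N101586 (iv1 F474790)) (tt N101585 F474788) (tt N79211 F474784) (tt N88434 F474785) (tt N79208 F474786) (tt N78674 (iv5 D214365)) (tt N117587 (iv6 F505856)) (tt N81638 F474787))
theorem Q111125 : ∀ i, i < 111125 → P i := stepQ 111124 Q111124 (allL N111124 (tt N108396 F474795) (tt N108413 (iv0 F474797)) (tt N108383 F474791) (tt N78683 F474792) (tt N100781 F474793) (tt N109709 F474796) (tt N78682 (iv6 D214366)) (tt N108414 F474794))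
theorem Q111126 : ∀ i, i < 111126 → P i := stepQ 111125 Q111125 (allL N111125 (tt N79099 (iv1 F474804)) (tt N99818 F474803) (tt N78684 (iv2 D214367)) (tt N78957 F474798) (tt N79127 F474799) (tt N105209 F474800) (tt N100014 F474801) (tt N99817 F474802))
theorem Q111127 : ∀ i, i < 111127 → P i := stepQ 111126 Q111126 (allL N111126 (tt N105117 F474810) (tt N95136 F474811) (tt N103775 F474805) (tt N82752 F474806) (tt N103771 F474807) (tt N82750 F474808) (tt N78686 (iv6 D214368)) (tt N88780 F474809))
theorem Q111128 : ∀ i, i < 111128 → P i := stepQ 111127 Q111127 (allL N111127 (tt N109227 F474816) (tt N109254 F474817) (tt N94054 F474812) (tt N81445 F474818) (tt N78696 (iv4 D214369)) (tt N94053 F474813) (tt N81341 F474814) (tt N109253 F474815))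
theorem Q111129 : ∀ i, i < 111129 → P i := stepQ 111128 Q111128 (allL N111128 (tt N104321 (iv1 F474822)) (tt N78698 (iv0 D214370)) (tt N105085 (iv2 F474821)) (tt N85968 F474820) (tt N103832 F474819) (tt N118429 (iv5 F510303)) (tt N85967 (iv6 F474824)) (tt N105091 F474823))
theorem Q111130 : ∀ i, i < 111130 → P i := stepQ 111129 Q111129 (allL N111129 (tt N105284 (iv1 F474832)) (tt N106080 (iv0 F474829)) (tt N105250 F474825) (tt N107015 F474826) (tt N103535 F474827) (tt N121777 (iv5 F528257)) (tt N78700 (iv6 D214371)) (tt N106081 F474828))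
theorem Q111131 : ∀ i, i < 111131 → P i := stepQ 111130 Q111130 (allL N111130 (tt N110836 F474837) (tt N118425 (iv0 F510283)) (tt N94498 F474833) (tt N90333 F474834) (tt N78720 (iv4 D214372)) (tt N105127 F474836) (tt N109478 F474835) (tt N118650 (iv7 F511345)))
theorem Q111132 : ∀ i, i < 111132 → P i := stepQ 111131 Q111131 (allL N111131 (tt N105404 F474844) (tt N105578 (iv0 F474843)) (tt N105583 F474838) (tt N78733 (iv3 D214373)) (tt N105497 F474842) (tt N106165 F474839) (tt N107443 F474840) (tt N105584 F474841))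
theorem Q111133 : ∀ i, i < 111133 → P i := stepQ 111132 Q111132 (allL N111132 (tt N101407 F474850) (tt N101069 F474851) (tt N101405 F474845) (tt N101401 F474846) (tt N78733 (iv4 D214374)) (tt N93347 F474847) (tt N96431 F474848) (tt N93346 F474849))
theorem Q111134 : ∀ i, i < 111134 → P i := stepQ 111133 Q111133 (allL N111133 (tt N101665 F474856) (tt N96163 F474853) (tt N112294 (iv2 F480403)) (tt N78736 F474852) (tt N81142 F474854) (tt N78735 (iv5 D214375)) (tt N96724 F474855) (tt N111374 (iv7 F476069)))
theorem Q111135 : ∀ i, i < 111135 → P i := stepQ 111134 Q111134 (allL N111134 (tt N101639 F474861) (tt N101637 F474862) (tt N98830 F474857) (tt N99192 F474858) (tt N78736 (iv4 D214376)) (tt N98810 F474859) (tt N96725 F474860) (tt N111366 (iv7 F476035)))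
theorem Q111136 : ∀ i, i < 111136 → P i := stepQ 111135 Q111135 (allL N111135 (tt N112286 (iv1 F480364)) (tt N96834 F474865) (tt N119257 (iv2 F514663)) (tt N94452 F474863) (tt N121967 (iv4 F529354)) (tt N78746 (iv5 D214377)) (tt N94450 F474866) (tt N106883 F474864))
theorem Q111137 : ∀ i, i < 111137 → P i := stepQ 111136 Q111136 (allL N111136 (tt N96834 F474870) (tt N112286 (iv0 F480363)) (tt N106883 F474867) (tt N108931 F474868) (tt N122045 D225304) (tt N78747 (iv5 D214378)) (tt N106882 F474869) (tt N119257 (iv7 F514665)))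
theorem Q111138 : ∀ i, i < 111138 → P i := stepQ 111137 Q111137 (allL N111137 (tt N89425 F474874) (tt N89006 F474875) (tt N89427 F474871) (tt N101097 F474872) (tt N108459 F474876) (tt N78749 (iv5 D214379)) (tt N122046 D225305) (tt N89426 F474873))
theorem Q111139 : ∀ i, i < 111139 → P i := stepQ 111138 Q111138 (allL N111138 (tt N79880 F474880) (tt N79875 F474881) (tt N82473 F474877) (tt N115725 (iv3 F496530)) (tt N108586 F474882) (tt N78753 (iv5 D214380)) (tt N87106 F474878) (tt N82472 F474879))
theorem Q111140 : ∀ i, i < 111140 → P i := stepQ 111139 Q111139 (allL N111139 (tt N78760 (iv1 F474886)) (tt N78755 (iv0 D214381)) (tt N82479 (iv2 F474885)) (tt N112700 (iv3 F482237)) (tt N110952 F474884) (tt N82430 F474883) (tt N118832 (iv6 F512312)) (tt N82478 F474887))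
theorem Q111141 : ∀ i, i < 111141 → P i := stepQ 111140 Q111140 (allL N111140 (tt N95738 F474892) (tt N85715 F474893) (tt N82497 F474888) (tt N88259 F474889) (tt N78755 (iv4 D214382)) (tt N101586 F474891) (tt N112731 (iv6 F482407)) (tt N82480 F474890))
theorem Q111142 : ∀ i, i < 111142 → P i := stepQ 111141 Q111141 (allL N111141 (tt N81798 F474897) (tt N81806 F474898) (tt N81804 F474894) (tt N112146 (iv3 F479736)) (tt N78759 F474895) (tt N111421 (iv5 F476276)) (tt N78758 (iv6 D214383)) (tt N81803 F474896))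
theorem Q111143 : ∀ i, i < 111143 → P i := stepQ 111142 Q111142 (allL N111142 (tt N85715 F474903) (tt N95738 F474904) (tt N82480 F474899) (tt N104834 F474900) (tt N78760 (iv4 D214384)) (tt N101585 F474901) (tt N82175 F474905) (tt N82497 F474902))
theorem Q111144 : ∀ i, i < 111144 → P i := stepQ 111143 Q111143 (allL N111143 (tt N110912 (iv1 F474912)) (tt N96916 (iv0 F474911)) (tt N82481 F474906) (tt N103979 F474907) (tt N82175 F474908) (tt N101810 F474909) (tt N78760 (iv6 D214385)) (tt N103977 F474910))
theorem Q111145 : ∀ i, i < 111145 → P i := stepQ 111144 Q111144 (allL N111144 (tt N106312 (iv1 F483881)) (tt N121320 F525749) (tt N117166 (iv2 F503709)) (tt N78762 (iv3 D214386)) (tt N114278 (iv4 F489351)) (tt N117159 (iv5 F503686)) (tt N118452 (iv6 F510444)) (tt N94467 F474913))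
theorem Q111146 : ∀ i, i < 111146 → P i := stepQ 111145 Q111145 (allL N111145 (tt N85600 (iv1 F474918)) (tt N84909 (iv0 F474919)) (tt N85598 F474914) (tt N78765 (iv3 D214387)) (tt N114741 (iv4 F491606)) (tt N85485 (iv5 F474917)) (tt N90456 F474915) (tt N84074 F474916))
theorem Q111147 : ∀ i, i < 111147 → P i := stepQ 111146 Q111146 (allL N111146 (tt N100220 F474924) (tt N88391 F474925) (tt N110373 F474920) (tt N85485 F474921) (tt N78824 F474922) (tt N78765 (iv5 D214388)) (tt N113381 (iv6 F485280)) (tt N90837 F474923))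
theorem Q111148 : ∀ i, i < 111148 → P i := stepQ 111147 Q111147 (allL N111147 (tt N100613 (iv1 F474928)) (tt N109221 F474927) (tt N78766 (iv2 D214389)) (tt N120174 (iv3 F519432)) (tt N78796 F474926) (tt N121790 (iv5 F528330)) (tt N119622 (iv6 F516566)) (tt N119678 (iv7 F516870)))
theorem Q111149 : ∀ i, i < 111149 → P i := stepQ 111148 Q111148 (allL N111148 (tt N121791 (iv1 F528342)) (tt N109212 (iv0 F474930)) (tt N121790 F528333) (tt N78767 F474929) (tt N119774 (iv4 F517356)) (tt N78766 (iv5 D214390)) (tt N119773 F517355) (tt N119680 (iv7 F516881)))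
theorem Q111150 : ∀ i, i < 111150 → P i := stepQ 111149 Q111149 (allL N111149 (tt N78833 (iv1 F474933)) (tt N78767 (iv0 D214391)) (tt N103070 (iv2 F474934)) (tt N113442 (iv3 F485511)) (tt N78821 F474932) (tt N78814 F474931) (tt N88401 (iv6 F474935)) (tt N103069 (iv7 F474936)))
theorem Q111151 : ∀ i, i < 111151 → P i := stepQ 111150 Q111150 (allL N111150 (tt N78767 (iv1 D214392)) (tt N78833 F474937) (tt N103069 F474942) (tt N113921 (iv3 F487795)) (tt N78816 F474940) (tt N78819 F474939) (tt N110245 (iv6 F474941)) (tt N103070 F474938))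
theorem Q111152 : ∀ i, i < 111152 → P i := stepQ 111151 Q111151 (allL N111151 (tt N98644 (iv1 F474947)) (tt N78768 (iv0 D214393)) (tt N98643 (iv2 F474948)) (tt N83091 F474945) (tt N96695 F474943) (tt N85939 F474944) (tt N98643 F474946) (tt N90102 (iv7 F474949)))
theorem Q111153 : ∀ i, i < 111153 → P i := stepQ 111152 Q111152 (allL N111152 (tt N78768 (iv1 D214394)) (tt N98644 F474950) (tt N90102 F474954) (tt N104668 (iv3 F474953)) (tt N115758 (iv4 F496701)) (tt N98631 F474952) (tt N122047 D225306) (tt N98643 F474951))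
theorem Q111154 : ∀ i, i < 111154 → P i := stepQ 111153 Q111153 (allL N111153 (tt N98633 (iv1 F474960)) (tt N97924 F474961) (tt N98635 F474955) (tt N103693 F474956) (tt N78772 F474957) (tt N102529 F474958) (tt N98647 F474959) (tt N78769 (iv7 D214395)))
theorem Q111155 : ∀ i, i < 111155 → P i := stepQ 111154 Q111154 (allL N111154 (tt N92188 F474965) (tt N92189 (iv0 F474966)) (tt N98041 F474962) (tt N85201 F474963) (tt N121002 (iv4 F523957)) (tt N117350 (iv5 F504608)) (tt N78771 (iv6 D214396)) (tt N98040 F474964))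
theorem Q111156 : ∀ i, i < 111156 → P i := stepQ 111155 Q111155 (allL N111155 (tt N103737 (iv1 F474972)) (tt N121772 (iv0 F528231)) (tt N98044 F474967) (tt N78774 F474968) (tt N92189 F474969) (tt N103691 F474970) (tt N78773 (iv6 D214397)) (tt N98042 (iv7 F474971)))
theorem Q111157 : ∀ i, i < 111157 → P i := stepQ 111156 Q111156 (allL N111156 (tt N98646 (iv1 F474978)) (tt N98645 F474979) (tt N98647 F474973) (tt N98042 F474974) (tt N78777 F474975) (tt N97684 F474976) (tt N98635 F474977) (tt N78774 (iv7 D214398)))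
theorem Q111158 : ∀ i, i < 111158 → P i := stepQ 111157 Q111157 (allL N111157 (tt N79988 F474985) (tt N98375 (iv0 F474986)) (tt N98373 F474980) (tt N78776 (iv3 D214399)) (tt N106249 F474981) (tt N98400 F474982) (tt N98419 F474983) (tt N98372 F474984))
theorem Q111159 : ∀ i, i < 111159 → P i := stepQ 111158 Q111158 (allL N111158 (tt N86101 F474991) (tt N86100 (iv0 F474992)) (tt N85867 F474987) (tt N78778 (iv3 D214400)) (tt N78780 F474988) (tt N87622 F474989) (tt N106153 F474993) (tt N86044 F474990))
theorem Q111160 : ∀ i, i < 111160 → P i := stepQ 111159 Q111159 (allL N111159 (tt N85161 F474998) (tt N119194 (iv0 F514302)) (tt N86038 F474994) (tt N106153 F474995) (tt N78779 F474996) (tt N93337 F474997) (tt N78778 (iv6 D214401)) (tt N122048 D225307))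
theorem Q111161 : ∀ i, i < 111161 → P i := stepQ 111160 Q111160 (allL N111160 (tt N86040 (iv1 F475003)) (tt N86039 F475004) (tt N86042 F474999) (tt N78784 F475000) (tt N122048 (iv4 F529844)) (tt N86511 F475001) (tt N86048 F475002) (tt N78779 (iv7 D214402)))
theorem Q111162 : ∀ i, i < 111162 → P i := stepQ 111161 Q111161 (allL N111161 (tt N78780 (iv1 D214403)) (tt N86098 F475011) (tt N98665 (iv2 F475012)) (tt N104528 F475013) (tt N117461 (iv4 F505153)) (tt N111168 (iv5 F475051)) (tt N104525 (iv6 F475014)) (tt N98666 (iv7 F475015)))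
theorem Q111163 : ∀ i, i < 111163 → P i := stepQ 111162 Q111162 (allL N111162 (tt N98666 (iv1 F475017)) (tt N98665 F475010) (tt N78780 (iv2 D214404)) (tt N85864 F475005) (tt N85867 F475006) (tt N85875 F475007) (tt N104490 F475008) (tt N86098 F475009))
theorem Q111164 : ∀ i, i < 111164 → P i := stepQ 111163 Q111163 (allL N111163 (tt N98658 F475023) (tt N78781 (iv0 D214405)) (tt N98655 F475022) (tt N104513 (iv3 F475021)) (tt N78863 F475019) (tt N103258 F475018) (tt N104512 F475020) (tt N98656 (iv7 F475024)))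
theorem Q111165 : ∀ i, i < 111165 → P i := stepQ 111164 Q111164 (allL N111164 (tt N78781 (iv1 D214406)) (tt N98658 F475025) (tt N98656 (iv2 F475029)) (tt N104453 (iv3 F475030)) (tt N78864 F475027) (tt N103260 F475028) (tt N122049 D225308) (tt N98655 F475026))
theorem Q111166 : ∀ i, i < 111166 → P i := stepQ 111165 Q111165 (allL N111165 (tt N98656 (iv1 F475036)) (tt N98655 F475037) (tt N98658 F475031) (tt N104494 F475032) (tt N78784 F475033) (tt N104492 F475034) (tt N98671 F475035) (tt N78781 (iv7 D214407)))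
theorem Q111167 : ∀ i, i < 111167 → P i := stepQ 111166 Q111166 (allL N111166 (tt N111004 (iv1 F475041)) (tt N98047 (iv0 F475040)) (tt N98664 F475038) (tt N83826 F475039) (tt N116370 (iv4 F499752)) (tt N119576 F516341) (tt N78783 (iv6 D214408)) (tt N114763 (iv7 F491732)))
theorem Q111168 : ∀ i, i < 111168 → P i := stepQ 111167 Q111167 (allL N111167 (tt N85864 (iv1 F475045)) (tt N78785 (iv0 D214409)) (tt N85289 F475048) (tt N103728 F475044) (tt N84846 F475043) (tt N103727 F475042) (tt N98669 (iv6 F475046)) (tt N85287 (iv7 F475047)))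
theorem Q111169 : ∀ i, i < 111169 → P i := stepQ 111168 Q111168 (allL N111168 (tt N78785 (iv1 D214410)) (tt N85864 F475049) (tt N85287 (iv2 F475053)) (tt N120888 (iv3 F523302)) (tt N84847 F475052) (tt N111161 F475051) (tt N119559 (iv6 F516247)) (tt N85289 F475050))
theorem Q111170 : ∀ i, i < 111170 → P i := stepQ 111169 Q111169 (allL N111169 (tt N98671 (iv1 F475056)) (tt N78786 (iv0 D214411)) (tt N98668 (iv2 F475057)) (tt N104622 (iv3 F475060)) (tt N78868 F475055) (tt N104620 F475054) (tt N103025 (iv6 F475058)) (tt N98669 (iv7 F475059)))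
theorem Q111171 : ∀ i, i < 111171 → P i := stepQ 111170 Q111170 (allL N111170 (tt N78786 (iv1 D214412)) (tt N98671 F475061) (tt N98669 F475065) (tt N120893 (iv3 F523327)) (tt N78869 F475063) (tt N121824 (iv5 F528537)) (tt N85289 (iv6 F475064)) (tt N98668 F475062))
theorem Q111172 : ∀ i, i < 111172 → P i := stepQ 111171 Q111171 (allL N111171 (tt N109425 F475070) (tt N78948 (iv0 F475071)) (tt N98673 F475066) (tt N85022 F475067) (tt N103491 F475069) (tt N78787 (iv5 D214413)) (tt N114445 (iv6 F490207)) (tt N98676 F475068))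
theorem Q111173 : ∀ i, i < 111173 → P i := stepQ 111172 Q111172 (allL N111172 (tt N97974 F475076) (tt N98451 F475077) (tt N98450 F475072) (tt N78788 (iv3 D214414)) (tt N90080 (iv4 F475075)) (tt N114444 (iv5 F490201)) (tt N86093 F475073) (tt N98449 F475074))
theorem Q111174 : ∀ i, i < 111174 → P i := stepQ 111173 Q111173 (allL N111173 (tt N78793 F475082) (tt N98681 F475083) (tt N98675 F475078) (tt N90082 F475079) (tt N78788 (iv4 D214415)) (tt N120817 (iv5 F522891)) (tt N86094 F475080) (tt N98672 F475081))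
theorem Q111175 : ∀ i, i < 111175 → P i := stepQ 111174 Q111174 (allL N111174 (tt N90073 F475087) (tt N109175 (iv0 F475086)) (tt N109173 (iv2 F475085)) (tt N78794 (iv3 D214416)) (tt N114668 (iv4 F491291)) (tt N114550 (iv5 F490729)) (tt N92283 F475084) (tt N109172 (iv7 F499237)))
theorem Q111176 : ∀ i, i < 111176 → P i := stepQ 111175 Q111175 (allL N111175 (tt N106138 (iv1 F475093)) (tt N79032 (iv0 F475092)) (tt N106139 F475088) (tt N114550 (iv3 F490727)) (tt N105979 F475091) (tt N78794 (iv5 D214417)) (tt N105208 F475089) (tt N92255 F475090))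
theorem Q111177 : ∀ i, i < 111177 → P i := stepQ 111176 Q111176 (allL N111176 (tt N115006 (iv1 F493026)) (tt N110478 (iv0 F475096)) (tt N115387 (iv2 F494933)) (tt N78795 (iv3 D214418)) (tt N117441 (iv4 F505043)) (tt N103406 F475094) (tt N103407 F475095) (tt N117471 (iv7 F505199)))
theorem Q111178 : ∀ i, i < 111178 → P i := stepQ 111177 Q111177 (allL N111177 (tt N116335 (iv1 F499610)) (tt N116334 (iv0 F499609)) (tt N116336 (iv2 F499613)) (tt N120186 (iv3 F519495)) (tt N78795 (iv4 D214419)) (tt N83543 (iv5 F475098)) (tt N106140 F475097) (tt N116333 F499606))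
theorem Q111179 : ∀ i, i < 111179 → P i := stepQ 111178 Q111178 (allL N111178 (tt N86108 F475109) (tt N86035 F475110) (tt N114569 (iv2 F490807)) (tt N78797 (iv3 D214420)) (tt N119190 (iv4 F514275)) (tt N114967 (iv5 F492814)) (tt N113878 F487588) (tt N98048 F475099))
theorem Q111180 : ∀ i, i < 111180 → P i := stepQ 111179 Q111179 (allL N111179 (tt N111228 (iv1 F475325)) (tt N78877 (iv0 F475107)) (tt N98046 F475100) (tt N119211 (iv3 F514384)) (tt N78797 (iv4 D214421)) (tt N117978 (iv5 F507890)) (tt N119586 (iv6 F516398)) (tt N98049 F475101))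
theorem Q111181 : ∀ i, i < 111181 → P i := stepQ 111180 Q111180 (allL N111180 (tt N97920 F475108) (tt N92134 F475106) (tt N97918 F475102) (tt N114967 (iv3 F492812)) (tt N102013 F475105) (tt N78797 (iv5 D214422)) (tt N97936 F475103) (tt N97914 F475104))
theorem Q111182 : ∀ i, i < 111182 → P i := stepQ 111181 Q111181 (allL N111181 (tt N78877 F475113) (tt N111228 F475324) (tt N98049 F475111) (tt N119561 F516261) (tt N78798 (iv4 D214423)) (tt N117971 (iv5 F507856)) (tt N119561 F516262) (tt N98046 F475112))
theorem Q111183 : ∀ i, i < 111183 → P i := stepQ 111182 Q111182 (allL N111182 (tt N109901 F475119) (tt N115331 (iv0 F494634)) (tt N78802 F475114) (tt N91723 F475115) (tt N85120 F475116) (tt N86789 F475117) (tt N78800 (iv6 D214424)) (tt N100303 F475118))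
theorem Q111184 : ∀ i, i < 111184 → P i := stepQ 111183 Q111183 (allL N111183 (tt N82276 F475123) (tt N100630 F482536) (tt N85120 F475120) (tt N113241 (iv3 F484669)) (tt N78802 F475121) (tt N96693 (iv5 F475124)) (tt N78801 (iv6 D214425)) (tt N100629 F475122))
theorem Q111185 : ∀ i, i < 111185 → P i := stepQ 111184 Q111184 (allL N111184 (tt N78802 (iv1 D214426)) (tt N100303 F475125) (tt N115331 (iv2 F494628)) (tt N100441 F475129) (tt N114472 F490355) (tt N85321 (iv5 F475127)) (tt N89881 (iv6 F475128)) (tt N109901 F475126))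
theorem Q111186 : ∀ i, i < 111186 → P i := stepQ 111185 Q111185 (allL N111185 (tt N115331 (iv1 F494633)) (tt N109901 (iv0 F475135)) (tt N100303 F475130) (tt N78807 F475131) (tt N100629 F475132) (tt N92998 F475133) (tt N98704 F475134) (tt N78802 (iv7 D214427)))
theorem Q111187 : ∀ i, i < 111187 → P i := stepQ 111186 Q111186 (allL N111186 (tt N98705 (iv1 F475139)) (tt N78803 (iv0 D214428)) (tt N90088 (iv2 F475141)) (tt N110501 F475138) (tt N90157 F475137) (tt N90037 F475136) (tt N90155 (iv6 F475140)) (tt N90095 (iv7 F475142)))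
theorem Q111188 : ∀ i, i < 111188 → P i := stepQ 111187 Q111187 (allL N111187 (tt N78803 (iv1 D214429)) (tt N98705 F475143) (tt N90095 (iv2 F475147)) (tt N90159 (iv3 F475146)) (tt N112001 (iv4 F479021)) (tt N90039 F475145) (tt N112000 F479022) (tt N90088 F475144))
theorem Q111189 : ∀ i, i < 111189 → P i := stepQ 111188 Q111188 (allL N111188 (tt N120681 (iv1 F522116)) (tt N118164 (iv0 F508951)) (tt N109597 F475148) (tt N78804 F475149) (tt N113241 (iv4 F484670)) (tt N102507 (iv5 F475150)) (tt N78803 (iv6 D214430)) (tt N117762 (iv7 F506848)))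
theorem Q111190 : ∀ i, i < 111190 → P i := stepQ 111189 Q111189 (allL N111189 (tt N92789 F475153) (tt N92792 (iv0 F475154)) (tt N98702 F475151) (tt N110270 F475152) (tt N119529 (iv4 F516080)) (tt N117722 (iv5 F506624)) (tt N78806 (iv6 D214431)) (tt N117721 (iv7 F506621)))
theorem Q111191 : ∀ i, i < 111191 → P i := stepQ 111190 Q111190 (allL N111190 (tt N82930 F475160) (tt N113122 (iv0 F484073)) (tt N92593 F475155) (tt N85279 F475156) (tt N86062 F475157) (tt N86309 F475158) (tt N78808 (iv6 D214432)) (tt N85275 F475159))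
theorem Q111192 : ∀ i, i < 111192 → P i := stepQ 111191 Q111191 (allL N111191 (tt N104201 (iv1 F475164)) (tt N121076 F524391) (tt N78815 F475161) (tt N83288 F475162) (tt N113856 (iv4 F487481)) (tt N87505 F475163) (tt N78810 (iv6 D214433)) (tt N116125 (iv7 F498606)))
theorem Q111193 : ∀ i, i < 111193 → P i := stepQ 111192 Q111192 (allL N111192 (tt N120783 F522690) (tt N78811 (iv0 D214434)) (tt N117475 (iv2 F505221)) (tt N106320 F475165) (tt N117543 (iv4 F505617)) (tt N119782 (iv5 F517389)) (tt N121890 (iv6 F528932)) (tt N106335 (iv7 F475166)))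
theorem Q111194 : ∀ i, i < 111194 → P i := stepQ 111193 Q111193 (allL N111193 (tt N78811 (iv1 D214435)) (tt N120783 (iv0 F522689)) (tt N106335 (iv2 F475170)) (tt N89293 (iv3 F475167)) (tt N91640 (iv4 F475168)) (tt N122050 D225309) (tt N89292 F475169) (tt N117475 (iv7 F505224)))
theorem Q111195 : ∀ i, i < 111195 → P i := stepQ 111194 Q111194 (allL N111194 (tt N117475 F505226) (tt N106335 F475174) (tt N78811 (iv2 D214436)) (tt N78831 F475171) (tt N101950 F475172) (tt N119610 (iv5 F516499)) (tt N101945 F475173) (tt N120783 (iv7 F522688)))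
theorem Q111196 : ∀ i, i < 111196 → P i := stepQ 111195 Q111195 (allL N111195 (tt N114938 F492647) (tt N117063 F503191) (tt N113856 (iv2 F487480)) (tt N96487 F475175) (tt N78815 F475176) (tt N96486 F475177) (tt N78814 (iv6 D214437)) (tt N105479 F475178))
theorem Q111197 : ∀ i, i < 111197 → P i := stepQ 111196 Q111196 (allL N111196 (tt N78827 (iv1 D214438)) (tt N98986 F475179) (tt N105987 (iv2 F475184)) (tt N89578 (iv3 F475181)) (tt N119755 F517255) (tt N81941 F475183) (tt N90920 (iv6 F475182)) (tt N105985 F475180))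
theorem Q111198 : ∀ i, i < 111198 → P i := stepQ 111197 Q111197 (allL N111197 (tt N105301 F475188) (tt N106645 (iv0 F475189)) (tt N106295 F475185) (tt N78828 F475186) (tt N119726 (iv4 F517124)) (tt N78827 (iv5 D214439)) (tt N100973 F475187) (tt N117376 (iv7 F504732)))
theorem Q111199 : ∀ i, i < 111199 → P i := stepQ 111198 Q111198 (allL N111198 (tt N117083 (iv1 F503292)) (tt N100270 F475193) (tt N110542 F475190) (tt N113299 (iv3 F484911)) (tt N90140 F475192) (tt N78829 (iv5 D214440)) (tt N115756 (iv6 F496692)) (tt N90139 F475191))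
theorem Q111200 : ∀ i, i < 111200 → P i := stepQ 111199 Q111199 (allL N111199 (tt N111563 (iv1 F476938)) (tt N111908 (iv0 F478589)) (tt N110543 F475194) (tt N113300 (iv3 F484913)) (tt N81068 F475195) (tt N122051 D225310) (tt N78829 (iv6 D214441)) (tt N112097 (iv7 F479479)))
theorem Q111201 : ∀ i, i < 111201 → P i := stepQ 111200 Q111200 (allL N111200 (tt N100270 F475201) (tt N117083 (iv0 F503291)) (tt N90139 F475196) (tt N106947 F475197) (tt N84739 F475198) (tt N78830 (iv5 D214442)) (tt N84491 F475199) (tt N110542 F475200))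
theorem Q111202 : ∀ i, i < 111202 → P i := stepQ 111201 Q111201 (allL N111201 (tt N106583 F475205) (tt N106580 F475206) (tt N89808 F475202) (tt N121519 (iv3 F526822)) (tt N78832 (iv4 D214443)) (tt N89058 F475204) (tt N114264 F489297) (tt N89810 F475203))
theorem Q111203 : ∀ i, i < 111203 → P i := stepQ 111202 Q111202 (allL N111202 (tt N114720 (iv1 F491520)) (tt N112993 (iv0 F483470)) (tt N119609 (iv2 F516492)) (tt N78834 F475207) (tt N114264 F489296) (tt N89145 F475208) (tt N78832 (iv6 D214444)) (tt N117209 (iv7 F503921)))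
theorem Q111204 : ∀ i, i < 111204 → P i := stepQ 111203 Q111203 (allL N111203 (tt N121583 (iv1 F527159)) (tt N121352 F525923) (tt N121576 (iv2 F527115)) (tt N78833 (iv3 D214445)) (tt N121519 (iv4 F526823)) (tt N107986 F475209) (tt N121577 (iv6 F527123)) (tt N120175 (iv7 F519439)))
theorem Q111205 : ∀ i, i < 111205 → P i := stepQ 111204 Q111204 (allL N111204 (tt N114791 (iv1 F491886)) (tt N110414 F484591) (tt N116788 (iv2 F501841)) (tt N121577 (iv3 F527121)) (tt N78834 F475210) (tt N107272 (iv5 F475212)) (tt N78833 (iv6 D214446)) (tt N107271 F475211))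
theorem Q111206 : ∀ i, i < 111206 → P i := stepQ 111205 Q111205 (allL N111205 (tt N119592 (iv1 F516418)) (tt N78834 (iv0 D214447)) (tt N107406 (iv2 F475215)) (tt N106343 (iv3 F475216)) (tt N120194 (iv4 F519528)) (tt N107396 F475214) (tt N107399 F475213) (tt N120194 (iv7 F519526)))
theorem Q111207 : ∀ i, i < 111207 → P i := stepQ 111206 Q111206 (allL N111206 (tt N78834 (iv1 D214448)) (tt N119592 (iv0 F516417)) (tt N120194 F519529) (tt N107424 (iv3 F475219)) (tt N107406 (iv4 F475220)) (tt N107407 F475218) (tt N107416 F475221) (tt N107406 F475217))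
theorem Q111208 : ∀ i, i < 111208 → P i := stepQ 111207 Q111207 (allL N111207 (tt N120194 (iv1 F519525)) (tt N107406 (iv0 F475225)) (tt N119592 (iv2 F516412)) (tt N117209 (iv3 F503919)) (tt N107271 F475222) (tt N89146 F475223) (tt N107274 F475224) (tt N78834 (iv7 D214449)))
theorem Q111209 : ∀ i, i < 111209 → P i := stepQ 111208 Q111208 (allL N111208 (tt N113466 F485616) (tt N110637 (iv0 F475228)) (tt N122052 D225311) (tt N78838 (iv3 D214450)) (tt N110565 F475226) (tt N113388 F485309) (tt N101646 F475227) (tt N119754 (iv7 F517253)))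
theorem Q111210 : ∀ i, i < 111210 → P i := stepQ 111209 Q111209 (allL N111209 (tt N92124 F475234) (tt N92121 F475235) (tt N97817 F475229) (tt N105885 F475230) (tt N110943 F475231) (tt N97880 F475232) (tt N78842 (iv6 D214451)) (tt N97818 F475233))
theorem Q111211 : ∀ i, i < 111211 → P i := stepQ 111210 Q111210 (allL N111210 (tt N112662 (iv1 F482066)) (tt N112660 (iv0 F482052)) (tt N112661 F482055) (tt N78845 F475237) (tt N122053 D225312) (tt N78844 (iv5 D214452)) (tt N86184 F475238) (tt N112378 (iv7 F480813)))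
theorem Q111212 : ∀ i, i < 111212 → P i := stepQ 111211 Q111211 (allL N111211 (tt N109447 F475241) (tt N119656 (iv0 F516749)) (tt N98562 F475239) (tt N120870 (iv3 F523187)) (tt N78850 F475240) (tt N103492 (iv5 F475242)) (tt N78849 (iv6 D214453)) (tt N120868 (iv7 F523178)))
theorem Q111213 : ∀ i, i < 111213 → P i := stepQ 111212 Q111212 (allL N111212 (tt N78850 (iv1 D214454)) (tt N98564 F475243) (tt N98563 (iv2 F475247)) (tt N92121 (iv3 F475248)) (tt N119624 (iv4 F516577)) (tt N79054 F475245) (tt N97890 (iv6 F475246)) (tt N97820 F475244))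
theorem Q111214 : ∀ i, i < 111214 → P i := stepQ 111213 Q111213 (allL N111213 (tt N107913 F475253) (tt N99841 (iv0 F475255)) (tt N108358 F475249) (tt N92245 F475250) (tt N78853 F475251) (tt N106861 F475252) (tt N78851 (iv6 D214455)) (tt N106988 (iv7 F475254)))
theorem Q111215 : ∀ i, i < 111215 → P i := stepQ 111214 Q111214 (allL N111214 (tt N95237 F475257) (tt N114546 F490709) (tt N114563 (iv2 F490786)) (tt N122054 D225313) (tt N78852 (iv4 D214456)) (tt N115552 (iv5 F495743)) (tt N114300 (iv6 F489476)) (tt N98557 F475256))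
theorem Q111216 : ∀ i, i < 111216 → P i := stepQ 111215 Q111215 (allL N111215 (tt N119043 F513462) (tt N118659 (iv0 F511395)) (tt N120869 (iv2 F523181)) (tt N78854 (iv3 D214457)) (tt N122054 (iv4 F529882)) (tt N103596 F475258) (tt N122055 D225314) (tt N98561 F475259))
theorem Q111217 : ∀ i, i < 111217 → P i := stepQ 111216 Q111216 (allL N111216 (tt N116899 F502420) (tt N103191 (iv0 F475262)) (tt N98587 F475260) (tt N122055 (iv3 F529887)) (tt N78855 F475261) (tt N121753 (iv5 F528115)) (tt N78854 (iv6 D214458)) (tt N119571 (iv7 F516315)))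
theorem Q111218 : ∀ i, i < 111218 → P i := stepQ 111217 Q111217 (allL N111217 (tt N85191 F475266) (tt N85188 (iv0 F475267)) (tt N85363 F475263) (tt N119660 (iv3 F516771)) (tt N78857 (iv4 D214459)) (tt N115652 (iv5 F496156)) (tt N85312 F475264) (tt N84850 F475265))
theorem Q111219 : ∀ i, i < 111219 → P i := stepQ 111218 Q111218 (allL N111218 (tt N78859 (iv1 D214460)) (tt N103521 F475268) (tt N114371 (iv2 F489846)) (tt N106157 (iv3 F475270)) (tt N90291 F475269) (tt N113577 (iv5 F486108)) (tt N106156 F475271) (tt N114408 (iv7 F490001)))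
theorem Q111220 : ∀ i, i < 111220 → P i := stepQ 111219 Q111219 (allL N111219 (tt N98238 F475274) (tt N98240 F475275) (tt N82921 F475272) (tt N113114 F484036) (tt N122049 (iv4 F529851)) (tt N82920 F475273) (tt N78864 (iv6 D214461)) (tt N112912 (iv7 F483252)))
theorem Q111221 : ∀ i, i < 111221 → P i := stepQ 111220 Q111220 (allL N111220 (tt N95212 F475279) (tt N85150 (iv0 F475280)) (tt N114797 (iv2 F491921)) (tt N96159 F475276) (tt N78867 F475277) (tt N96157 F475278) (tt N78866 (iv6 D214462)) (tt N112374 (iv7 F480788)))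
theorem Q111222 : ∀ i, i < 111222 → P i := stepQ 111221 Q111221 (allL N111221 (tt N104956 F475285) (tt N78899 (iv0 F475286)) (tt N104955 F475281) (tt N92844 F475282) (tt N119524 (iv4 F516056)) (tt N78868 (iv5 D214463)) (tt N92843 F475283) (tt N84919 F475284))
theorem Q111223 : ∀ i, i < 111223 → P i := stepQ 111222 Q111222 (allL N111222 (tt N103034 F475289) (tt N117993 F507967) (tt N115042 (iv2 F493180)) (tt N78869 (iv3 D214464)) (tt N117602 (iv4 F505949)) (tt N120754 (iv5 F522536)) (tt N85288 F475287) (tt N107921 F475288))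
theorem Q111224 : ∀ i, i < 111224 → P i := stepQ 111223 Q111223 (allL N111223 (tt N78899 F475293) (tt N104956 (iv0 F475294)) (tt N84919 F475290) (tt N120754 (iv3 F522534)) (tt N114447 (iv4 F490215)) (tt N78869 (iv5 D214465)) (tt N78903 F475291) (tt N104955 F475292))
theorem Q111225 : ∀ i, i < 111225 → P i := stepQ 111224 Q111224 (allL N111224 (tt N78872 (iv1 F475298)) (tt N78871 (iv0 D214466)) (tt N78875 (iv2 F475297)) (tt N111225 (iv3 F475302)) (tt N85308 F475300) (tt N92866 F475295) (tt N103523 F475296) (tt N78873 F475299))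
theorem Q111226 : ∀ i, i < 111226 → P i := stepQ 111225 Q111225 (allL N111225 (tt N90108 F475305) (tt N92865 F475307) (tt N78874 F475301) (tt N111224 F475302) (tt N109117 (iv4 F475306)) (tt N78873 (iv5 D214467)) (tt N97945 F475303) (tt N92866 F475304))
theorem Q111227 : ∀ i, i < 111227 → P i := stepQ 111226 Q111226 (allL N111226 (tt N92866 (iv1 F475309)) (tt N78874 (iv0 D214468)) (tt N90108 (iv2 F475310)) (tt N119613 (iv3 F516520)) (tt N120058 (iv4 F518818)) (tt N90107 F475308) (tt N122056 D225315) (tt N92865 (iv7 F475311)))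
theorem Q111228 : ∀ i, i < 111228 → P i := stepQ 111227 Q111227 (allL N111227 (tt N78874 (iv1 D214469)) (tt N92866 F475312) (tt N92865 F475316) (tt N90114 (iv3 F475314)) (tt N105458 F475317) (tt N90109 F475318) (tt N105457 (iv6 F475315)) (tt N90108 F475313))
theorem Q111229 : ∀ i, i < 111229 → P i := stepQ 111228 Q111228 (allL N111228 (tt N111181 (iv1 F475324)) (tt N111179 F475325) (tt N104616 F475319) (tt N97944 F475320) (tt N92787 F475321) (tt N97943 F475322) (tt N92834 F475323) (tt N78876 (iv7 D214470)))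
theorem Q111230 : ∀ i, i < 111230 → P i := stepQ 111229 Q111229 (allL N111229 (tt N96795 F475330) (tt N96735 (iv0 F475331)) (tt N111724 (iv2 F477673)) (tt N78883 (iv3 D214471)) (tt N96862 F475326) (tt N95737 F475327) (tt N101818 F475328) (tt N97270 F475329))
theorem Q111231 : ∀ i, i < 111231 → P i := stepQ 111230 Q111230 (allL N111230 (tt N85904 F475336) (tt N86219 F475337) (tt N86109 F475332) (tt N109347 F475333) (tt N78885 (iv4 D214472)) (tt N120023 (iv5 F518612)) (tt N86036 F475334) (tt N86107 F475335))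
theorem Q111232 : ∀ i, i < 111232 → P i := stepQ 111231 Q111231 (allL N111231 (tt N86973 F475341) (tt N106884 F475342) (tt N102994 F475338) (tt N115771 F496786) (tt N80031 F475339) (tt N90369 F475340) (tt N78889 (iv6 D214473)) (tt N117952 (iv7 F507760)))
theorem Q111233 : ∀ i, i < 111233 → P i := stepQ 111232 Q111232 (allL N111232 (tt N104932 F475346) (tt N115499 (iv0 F495509)) (tt N109567 F475343) (tt N80472 F475344) (tt N116073 (iv4 F498325)) (tt N78890 (iv5 D214474)) (tt N116074 (iv6 F498328)) (tt N97282 F475345))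
theorem Q111234 : ∀ i, i < 111234 → P i := stepQ 111233 Q111233 (allL N111233 (tt N117365 F504687) (tt N119546 (iv0 F516176)) (tt N110262 F475347) (tt N109721 F475348) (tt N78896 F475349) (tt N121438 (iv5 F526376)) (tt N78895 (iv6 D214475)) (tt N119618 (iv7 F516547)))
theorem Q111235 : ∀ i, i < 111235 → P i := stepQ 111234 Q111234 (allL N111234 (tt N92199 (iv1 F475353)) (tt N79918 F475354) (tt N112375 (iv2 F480791)) (tt N78898 F475350) (tt N119618 (iv4 F516543)) (tt N81449 F475351) (tt N84717 F475352) (tt N78896 (iv7 D214476)))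
theorem Q111236 : ∀ i, i < 111236 → P i := stepQ 111235 Q111235 (allL N111235 (tt N84919 (iv1 F475359)) (tt N104955 F475360) (tt N104956 F475355) (tt N84953 F475356) (tt N120817 (iv4 F522890)) (tt N98564 F475357) (tt N98231 F475358) (tt N78899 (iv7 D214477)))
theorem Q111237 : ∀ i, i < 111237 → P i := stepQ 111236 Q111236 (allL N111236 (tt N119524 F516060) (tt N114447 (iv0 F490217)) (tt N104620 F475361) (tt N120636 (iv3 F521882)) (tt N78948 F475362) (tt N98668 (iv5 F475363)) (tt N78900 (iv6 D214478)) (tt N121824 (iv7 F528538)))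
theorem Q111238 : ∀ i, i < 111238 → P i := stepQ 111237 Q111237 (allL N111237 (tt N109446 F475368) (tt N109445 (iv0 F475369)) (tt N111244 (iv2 F475402)) (tt N104613 F475364) (tt N78902 F475365) (tt N103459 F475366) (tt N78901 (iv6 D214479)) (tt N78910 F475367))
theorem Q111239 : ∀ i, i < 111239 → P i := stepQ 111238 Q111238 (allL N111238 (tt N117931 (iv1 F507661)) (tt N92702 F475372) (tt N104637 F475370) (tt N104743 F475371) (tt N119425 (iv4 F515544)) (tt N78905 (iv5 D214480)) (tt N120584 (iv6 F521591)) (tt N117930 (iv7 F507657)))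
theorem Q111240 : ∀ i, i < 111240 → P i := stepQ 111239 Q111239 (allL N111239 (tt N104498 F475376) (tt N104497 (iv0 F475378)) (tt N104499 F475373) (tt N104744 F475374) (tt N120583 (iv4 F521583)) (tt N83668 F475377) (tt N78905 (iv6 D214481)) (tt N104496 F475375))
theorem Q111241 : ∀ i, i < 111241 → P i := stepQ 111240 Q111240 (allL N111240 (tt N98066 F475382) (tt N98065 F475383) (tt N78907 F475379) (tt N103696 F475380) (tt N119280 (iv4 F514796)) (tt N78906 (iv5 D214482)) (tt N116240 (iv6 F499187)) (tt N98067 F475381))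
theorem Q111242 : ∀ i, i < 111242 → P i := stepQ 111241 Q111241 (allL N111241 (tt N98067 (iv1 F475387)) (tt N78907 (iv0 D214483)) (tt N98066 (iv2 F475388)) (tt N103642 F475386) (tt N93107 F475385) (tt N92612 F475384) (tt N103292 (iv6 F475389)) (tt N98065 (iv7 F475390)))
theorem Q111243 : ∀ i, i < 111243 → P i := stepQ 111242 Q111242 (allL N111242 (tt N78907 (iv1 D214484)) (tt N98067 F475391) (tt N98065 F475396) (tt N102548 (iv3 F475394)) (tt N93106 F475397) (tt N92613 F475393) (tt N103486 (iv6 F475395)) (tt N98066 F475392))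
theorem Q111244 : ∀ i, i < 111244 → P i := stepQ 111243 Q111243 (allL N111243 (tt N120605 (iv1 F521717)) (tt N103478 F475401) (tt N119280 (iv2 F514794)) (tt N93172 F475398) (tt N78907 (iv4 D214485)) (tt N102163 F475400) (tt N120807 (iv6 F522834)) (tt N98060 F475399))
theorem Q111245 : ∀ i, i < 111245 → P i := stepQ 111244 Q111244 (allL N111244 (tt N111245 (iv1 F475407)) (tt N103544 (iv0 F475406)) (tt N111237 F475402) (tt N116239 (iv3 F499180)) (tt N93196 F475403) (tt N103472 F475404) (tt N98064 F475405) (tt N78909 (iv7 D214486)))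
theorem Q111246 : ∀ i, i < 111246 → P i := stepQ 111245 Q111245 (allL N111245 (tt N78910 (iv1 D214487)) (tt N111244 F475407) (tt N109446 (iv2 F475410)) (tt N119203 (iv3 F514339)) (tt N78953 F475409) (tt N115836 (iv5 F497150)) (tt N120838 (iv6 F523009)) (tt N109445 F475408))
theorem Q111247 : ∀ i, i < 111247 → P i := stepQ 111246 Q111246 (allL N111246 (tt N120584 (iv1 F521594)) (tt N119424 (iv0 F515540)) (tt N105759 F475411) (tt N109449 F475412) (tt N93210 F475413) (tt N78910 (iv5 D214488)) (tt N93209 F475414) (tt N103459 F475415))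
theorem Q111248 : ∀ i, i < 111248 → P i := stepQ 111247 Q111247 (allL N111247 (tt N92976 F475419) (tt N118102 F508604) (tt N105328 F475416) (tt N115310 (iv3 F494512)) (tt N105877 F475418) (tt N78911 (iv5 D214489)) (tt N92012 F475417) (tt N117957 (iv7 F507784)))
theorem Q111249 : ∀ i, i < 111249 → P i := stepQ 111248 Q111248 (allL N111248 (tt N78912 (iv1 D214490)) (tt N83676 F475420) (tt N102846 F475424) (tt N97952 F475425) (tt N82501 (iv4 F475422)) (tt N117416 (iv5 F504932)) (tt N83670 (iv6 F475423)) (tt N104757 F475421))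
theorem Q111250 : ∀ i, i < 111250 → P i := stepQ 111249 Q111249 (allL N111249 (tt N78913 (iv1 D214491)) (tt N103558 F475426) (tt N102841 (iv2 F475430)) (tt N121008 F523990) (tt N102840 F475429) (tt N109427 F475428) (tt N104682 (iv6 F475431)) (tt N109433 F475427))
theorem Q111251 : ∀ i, i < 111251 → P i := stepQ 111250 Q111250 (allL N111250 (tt N119625 F516584) (tt N98602 F475436) (tt N109430 F475432) (tt N104696 F475433) (tt N97820 F475435) (tt N78914 (iv5 D214492)) (tt N97924 F475434) (tt N119624 (iv7 F516575)))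
theorem Q111252 : ∀ i, i < 111252 → P i := stepQ 111251 Q111251 (allL N111251 (tt N109429 (iv1 F475441)) (tt N106141 F475442) (tt N109431 F475437) (tt N103556 F475438) (tt N78916 F475439) (tt N119624 (iv5 F516576)) (tt N103555 F475440) (tt N78914 (iv7 D214493)))
theorem Q111253 : ∀ i, i < 111253 → P i := stepQ 111252 Q111252 (allL N111252 (tt N83669 F475447) (tt N94022 (iv0 F475448)) (tt N105849 F475443) (tt N97983 F475444) (tt N103873 F475445) (tt N118052 (iv5 F508308)) (tt N78915 (iv6 D214494)) (tt N97917 F475446))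
theorem Q111254 : ∀ i, i < 111254 → P i := stepQ 111253 Q111253 (allL N111253 (tt N78917 (iv1 D214495)) (tt N103713 F475449) (tt N109426 F475453) (tt N97798 F475454) (tt N113821 (iv4 F487287)) (tt N109433 F475451) (tt N97796 (iv6 F475452)) (tt N109427 F475450))
theorem Q111255 : ∀ i, i < 111255 → P i := stepQ 111254 Q111254 (allL N111254 (tt N102935 (iv1 F475460)) (tt N109434 F475461) (tt N103555 F475455) (tt N103781 F475456) (tt N78921 F475457) (tt N103866 F475458) (tt N109431 F475459) (tt N78918 (iv7 D214496)))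
theorem Q111256 : ∀ i, i < 111256 → P i := stepQ 111255 Q111255 (allL N111255 (tt N84397 (iv1 F475468)) (tt N84470 (iv0 F475467)) (tt N87255 F475462) (tt N101099 F475463) (tt N78925 F475464) (tt N83956 F475465) (tt N78923 (iv6 D214497)) (tt N87253 F475466))
theorem Q111257 : ∀ i, i < 111257 → P i := stepQ 111256 Q111256 (allL N111256 (tt N98460 F475474) (tt N98461 (iv0 F475475)) (tt N98467 F475469) (tt N78941 F475470) (tt N105338 F475471) (tt N81412 F475472) (tt N78939 (iv6 D214498)) (tt N81465 F475473))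
theorem Q111258 : ∀ i, i < 111258 → P i := stepQ 111257 Q111257 (allL N111257 (tt N99745 F475481) (tt N101498 (iv0 F475482)) (tt N80471 F475476) (tt N105339 F475477) (tt N78941 F475478) (tt N80436 F475479) (tt N78940 (iv6 D214499)) (tt N94168 F475480))
theorem Q111259 : ∀ i, i < 111259 → P i := stepQ 111258 Q111258 (allL N111258 (tt N92619 (iv1 F475487)) (tt N79976 (iv0 F475486)) (tt N92616 F475483) (tt N120627 (iv3 F521831)) (tt N78946 F475484) (tt N117037 (iv5 F503079)) (tt N78945 (iv6 D214500)) (tt N92617 F475485))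
theorem Q111260 : ∀ i, i < 111260 → P i := stepQ 111259 Q111259 (allL N111259 (tt N104949 F475491) (tt N86002 (iv0 F475492)) (tt N104968 F475488) (tt N78948 F475489) (tt N121128 (iv4 F524659)) (tt N98597 F475490) (tt N78947 (iv6 D214501)) (tt N119629 (iv7 F516601)))
theorem Q111261 : ∀ i, i < 111261 → P i := stepQ 111260 Q111260 (allL N111260 (tt N103667 F475497) (tt N102501 (iv0 F475498)) (tt N105750 F475493) (tt N78950 (iv3 D214502)) (tt N103478 F475494) (tt N92630 F475495) (tt N103477 F475499) (tt N105751 F475496))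
theorem Q111262 : ∀ i, i < 111262 → P i := stepQ 111261 Q111261 (allL N111261 (tt N109178 F475505) (tt N114359 (iv0 F489794)) (tt N103810 F475500) (tt N103477 F475501) (tt N105799 F475502) (tt N103804 F475503) (tt N78950 (iv6 D214503)) (tt N103814 F475504))
theorem Q111263 : ∀ i, i < 111263 → P i := stepQ 111262 Q111262 (allL N111262 (tt N115375 (iv1 F494882)) (tt N92962 (iv0 F475509)) (tt N103464 F475506) (tt N114863 (iv3 F492229)) (tt N103284 F475508) (tt N78952 (iv5 D214504)) (tt N118098 F508576) (tt N103467 F475507))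
theorem Q111264 : ∀ i, i < 111264 → P i := stepQ 111263 Q111263 (allL N111263 (tt N78956 F475513) (tt N97051 (iv0 F475514)) (tt N97050 F475510) (tt N78953 (iv3 D214505)) (tt N116319 (iv4 F499532)) (tt N86532 F475511) (tt N117345 F504578) (tt N97049 F475512))
theorem Q111265 : ∀ i, i < 111265 → P i := stepQ 111264 Q111264 (allL N111264 (tt N121130 F524676) (tt N116315 (iv0 F499518)) (tt N92142 F475515) (tt N91791 F475516) (tt N78955 F475517) (tt N116159 (iv5 F498798)) (tt N78954 (iv6 D214506)) (tt N105331 F475518))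
theorem Q111266 : ∀ i, i < 111266 → P i := stepQ 111265 Q111265 (allL N111265 (tt N84197 F475523) (tt N86475 (iv0 F475524)) (tt N100010 F475519) (tt N100014 F475520) (tt N85815 F475521) (tt N111288 (iv5 F475650)) (tt N78957 (iv6 D214507)) (tt N108416 F475522))
theorem Q111267 : ∀ i, i < 111267 → P i := stepQ 111266 Q111266 (allL N111266 (tt N79091 F475528) (tt N109746 F475529) (tt N94019 F475525) (tt N115695 (iv3 F496360)) (tt N78960 (iv4 D214508)) (tt N100227 F475527) (tt N121201 (iv6 F525110)) (tt N109722 F475526))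
theorem Q111268 : ∀ i, i < 111268 → P i := stepQ 111267 Q111267 (allL N111267 (tt N86818 F475533) (tt N109013 (iv0 F475534)) (tt N94020 F475530) (tt N81655 F475531) (tt N121201 (iv4 F525108)) (tt N98539 F475532) (tt N78960 (iv6 D214509)) (tt N84464 (iv7 F475535)))
theorem Q111269 : ∀ i, i < 111269 → P i := stepQ 111268 Q111268 (allL N111268 (tt N104139 F475541) (tt N86207 F475542) (tt N109726 F475536) (tt N82881 F475537) (tt N85560 F475540) (tt N78961 (iv5 D214510)) (tt N100234 F475538) (tt N89618 F475539))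
theorem Q111270 : ∀ i, i < 111270 → P i := stepQ 111269 Q111269 (allL N111269 (tt N89790 F475548) (tt N89794 (iv0 F475549)) (tt N89793 F475543) (tt N78966 F475544) (tt N98451 F475547) (tt N78963 (iv5 D214511)) (tt N89739 F475545) (tt N89792 F475546))
theorem Q111271 : ∀ i, i < 111271 → P i := stepQ 111270 Q111270 (allL N111270 (tt N107053 F475554) (tt N122057 D225316) (tt N78971 F475550) (tt N95914 F475551) (tt N101076 (iv4 F475555)) (tt N78964 (iv5 D214512)) (tt N82073 F475552) (tt N78972 F475553))
theorem Q111272 : ∀ i, i < 111272 → P i := stepQ 111271 Q111271 (allL N111271 (tt N122057 (iv1 F529898)) (tt N107053 F475560) (tt N78972 F475556) (tt N95982 F475557) (tt N114685 (iv4 F491361)) (tt N78965 (iv5 D214513)) (tt N95909 F475558) (tt N78971 F475559))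
theorem Q111273 : ∀ i, i < 111273 → P i := stepQ 111272 Q111272 (allL N111272 (tt N78976 F475567) (tt N78966 (iv0 D214514)) (tt N78973 (iv2 F475563)) (tt N89037 (iv3 F475564)) (tt N108000 (iv4 F475565)) (tt N84712 F475561) (tt N89035 F475562) (tt N78974 (iv7 F475566)))
theorem Q111274 : ∀ i, i < 111274 → P i := stepQ 111273 Q111273 (allL N111273 (tt N78966 (iv1 D214515)) (tt N78976 F475568) (tt N78974 F475571) (tt N113231 (iv3 F484613)) (tt N107996 (iv4 F475572)) (tt N100193 (iv5 F475570)) (tt N107995 (iv6 F475573)) (tt N78973 F475569))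
theorem Q111275 : ∀ i, i < 111275 → P i := stepQ 111274 Q111274 (allL N111274 (tt N89844 F475578) (tt N114654 (iv0 F491220)) (tt N78975 F475574) (tt N105680 F475575) (tt N78966 (iv4 D214516)) (tt N88839 F475576) (tt N101096 F475577) (tt N88838 F475579))
theorem Q111276 : ∀ i, i < 111276 → P i := stepQ 111275 Q111275 (allL N111275 (tt N78974 (iv1 F475585)) (tt N78973 F475586) (tt N78976 F475580) (tt N89792 F475581) (tt N88838 F475582) (tt N78967 F475583) (tt N98447 F475584) (tt N78966 (iv7 D214517)))
theorem Q111277 : ∀ i, i < 111277 → P i := stepQ 111276 Q111276 (allL N111276 (tt N85515 F475593) (tt N90185 F475592) (tt N78984 F475588) (tt N89940 F475589) (tt N78969 (iv4 D214518)) (tt N116290 (iv5 F499391)) (tt N84886 F475590) (tt N78991 F475591))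
theorem Q111278 : ∀ i, i < 111278 → P i := stepQ 111277 Q111277 (allL N111277 (tt N78972 (iv1 F475596)) (tt N78971 (iv0 D214519)) (tt N107053 (iv2 F475597)) (tt N116780 (iv3 F501794)) (tt N121195 (iv4 F525067)) (tt N105094 F475594) (tt N105095 F475595) (tt N122057 (iv7 F529899)))
theorem Q111279 : ∀ i, i < 111279 → P i := stepQ 111278 Q111278 (allL N111278 (tt N78971 (iv1 D214520)) (tt N78972 F475598) (tt N122057 (iv2 F529904)) (tt N119545 F516548) (tt N122058 D225317) (tt N114253 (iv5 F489235)) (tt N122059 D225318) (tt N107053 F475599))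
theorem Q111280 : ∀ i, i < 111280 → P i := stepQ 111279 Q111279 (allL N111279 (tt N107049 F475604) (tt N122059 (iv0 F529916)) (tt N101076 F475600) (tt N101474 F475601) (tt N78971 (iv4 D214521)) (tt N88570 F475603) (tt N101075 F475602) (tt N114685 (iv7 F491363)))
theorem Q111281 : ∀ i, i < 111281 → P i := stepQ 111280 Q111280 (allL N111280 (tt N122059 F529917) (tt N107049 (iv0 F475609)) (tt N114685 (iv2 F491360)) (tt N95724 F475605) (tt N78972 (iv4 D214522)) (tt N88833 F475606) (tt N95723 F475607) (tt N101076 F475608))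
theorem Q111282 : ∀ i, i < 111282 → P i := stepQ 111281 Q111281 (allL N111281 (tt N113029 (iv1 F483618)) (tt N109721 F475614) (tt N84712 F475611) (tt N113230 (iv3 F484607)) (tt N84710 F475612) (tt N78973 (iv5 D214523)) (tt N112314 F480504) (tt N100193 F475613))
theorem Q111283 : ∀ i, i < 111283 → P i := stepQ 111282 Q111282 (allL N111282 (tt N88838 (iv1 F475617)) (tt N78975 (iv0 D214524)) (tt N89844 (iv2 F475616)) (tt N91695 F475618) (tt N85634 F475615) (tt N121914 (iv5 F529033)) (tt N85633 F475619) (tt N114654 (iv7 F491219)))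
theorem Q111284 : ∀ i, i < 111284 → P i := stepQ 111283 Q111283 (allL N111283 (tt N107639 F475622) (tt N99431 (iv0 F475623)) (tt N107636 F475620) (tt N78975 (iv3 D214525)) (tt N119549 (iv4 F516188)) (tt N121340 (iv5 F525859)) (tt N117771 F506887) (tt N107637 F475621))
theorem Q111285 : ∀ i, i < 111285 → P i := stepQ 111284 Q111284 (allL N111284 (tt N88836 (iv1 F475627)) (tt N88835 (iv0 F475628)) (tt N88839 F475624) (tt N121340 (iv3 F525857)) (tt N83495 F475625) (tt N78975 (iv5 D214526)) (tt N116451 (iv6 F500193)) (tt N83960 F475626))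
theorem Q111286 : ∀ i, i < 111286 → P i := stepQ 111285 Q111285 (allL N111285 (tt N112044 F479233) (tt N109907 F475633) (tt N98074 F475629) (tt N82182 F475630) (tt N94200 (iv4 F475634)) (tt N78979 (iv5 D214527)) (tt N82181 F475631) (tt N94095 F475632))
theorem Q111287 : ∀ i, i < 111287 → P i := stepQ 111286 Q111286 (allL N111286 (tt N86016 (iv1 F475642)) (tt N78980 (iv0 D214528)) (tt N83335 (iv2 F475641)) (tt N79007 F475639) (tt N82765 F475638) (tt N79995 F475637) (tt N82764 F475640) (tt N83333 F475643))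
theorem Q111288 : ∀ i, i < 111288 → P i := stepQ 111287 Q111287 (allL N111287 (tt N89847 F475648) (tt N85634 (iv0 F475649)) (tt N89845 F475644) (tt N110520 F475645) (tt N106381 F475647) (tt N78981 (iv5 D214529)) (tt N114316 F489560) (tt N89846 F475646))
theorem Q111289 : ∀ i, i < 111289 → P i := stepQ 111288 Q111288 (allL N111288 (tt N78989 (iv1 F475652)) (tt N78982 (iv0 D214530)) (tt N116925 (iv2 F502525)) (tt N88874 (iv3 F475653)) (tt N120382 (iv4 F520488)) (tt N111265 F475650) (tt N88872 F475651) (tt N120404 (iv7 F520608)))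
theorem Q111290 : ∀ i, i < 111290 → P i := stepQ 111289 Q111289 (allL N111289 (tt N121195 F525072) (tt N122058 (iv0 F529909)) (tt N101251 F475654) (tt N89110 (iv3 F475657)) (tt N78982 (iv4 D214531)) (tt N88836 F475656) (tt N89109 F475655) (tt N120405 (iv7 F520613)))
theorem Q111291 : ∀ i, i < 111291 → P i := stepQ 111290 Q111290 (allL N111290 (tt N113363 (iv1 F485187)) (tt N110089 F475659) (tt N116290 F499395) (tt N82615 F475658) (tt N88835 F475660) (tt N78984 (iv5 D214532)) (tt N116723 (iv6 F501506)) (tt N113168 (iv7 F484303)))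
theorem Q111292 : ∀ i, i < 111292 → P i := stepQ 111291 Q111291 (allL N111291 (tt N84039 F475664) (tt N113887 F487641) (tt N87358 F475661) (tt N78986 (iv3 D214533)) (tt N78988 F475662) (tt N122060 D225319) (tt N112467 (iv6 F481208)) (tt N87400 F475663))
theorem Q111293 : ∀ i, i < 111293 → P i := stepQ 111292 Q111292 (allL N111292 (tt N110973 (iv1 F475668)) (tt N88224 F475667) (tt N87402 F475665) (tt N122060 (iv3 F529919)) (tt N115866 (iv4 F497309)) (tt N78986 (iv5 D214534)) (tt N121722 (iv6 F527954)) (tt N87401 F475666))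
theorem Q111294 : ∀ i, i < 111294 → P i := stepQ 111293 Q111293 (allL N111293 (tt N102868 F475672) (tt N87504 F475673) (tt N87403 F475669) (tt N112467 (iv3 F481205)) (tt N78987 F475670) (tt N112465 (iv5 F481200)) (tt N78986 (iv6 D214535)) (tt N102867 F475671))
theorem Q111295 : ∀ i, i < 111295 → P i := stepQ 111294 Q111294 (allL N111294 (tt N109094 (iv1 F475677)) (tt N96229 (iv0 F475678)) (tt N113885 (iv2 F487627)) (tt N78990 F475674) (tt N112467 (iv4 F481206)) (tt N86239 F475675) (tt N78988 (iv6 D214536)) (tt N90685 F475676))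
theorem Q111296 : ∀ i, i < 111296 → P i := stepQ 111295 Q111295 (allL N111295 (tt N122058 (iv1 F529910)) (tt N121195 (iv0 F525071)) (tt N120405 (iv2 F520609)) (tt N101256 F475679) (tt N78989 (iv4 D214537)) (tt N88835 F475682) (tt N107265 F475680) (tt N101251 F475681))
theorem Q111297 : ∀ i, i < 111297 → P i := stepQ 111296 Q111296 (allL N111296 (tt N110089 F475684) (tt N113363 F485186) (tt N113168 (iv2 F484301)) (tt N116121 F498584) (tt N88836 F475683) (tt N78991 (iv5 D214538)) (tt N121831 (iv6 F528582)) (tt N116290 (iv7 F499397)))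
theorem Q111298 : ∀ i, i < 111298 → P i := stepQ 111297 Q111297 (allL N111297 (tt N105322 F475690) (tt N112941 (iv0 F483321)) (tt N86477 F475685) (tt N78997 F475686) (tt N83899 F475687) (tt N85021 F475688) (tt N78994 (iv6 D214539)) (tt N88963 F475689))
theorem Q111299 : ∀ i, i < 111299 → P i := stepQ 111298 Q111298 (allL N111298 (tt N108416 F475695) (tt N100010 F475696) (tt N84197 F475691) (tt N84123 F475697) (tt N78996 (iv4 D214540)) (tt N85634 F475694) (tt N83838 F475692) (tt N86475 F475693))
theorem Q111300 : ∀ i, i < 111300 → P i := stepQ 111299 Q111299 (allL N111299 (tt N113959 (iv1 F487969)) (tt N116938 (iv0 F502599)) (tt N86473 F475698) (tt N115974 (iv3 F497855)) (tt N121914 (iv4 F529034)) (tt N78998 (iv5 D214541)) (tt N121325 (iv6 F525772)) (tt N86468 F475699))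
theorem Q111301 : ∀ i, i < 111301 → P i := stepQ 111300 Q111300 (allL N111300 (tt N100010 F475704) (tt N108416 F475705) (tt N86475 F475700) (tt N84202 (iv3 F475706)) (tt N78999 (iv4 D214542)) (tt N89847 F475703) (tt N99973 F475701) (tt N84197 F475702))
theorem Q111302 : ∀ i, i < 111302 → P i := stepQ 111301 Q111301 (allL N111301 (tt N84041 F475711) (tt N84175 F475712) (tt N87375 F475707) (tt N79009 F475708) (tt N87271 (iv4 F475713)) (tt N79008 (iv5 D214543)) (tt N79470 F475709) (tt N87413 F475710))
theorem Q111303 : ∀ i, i < 111303 → P i := stepQ 111302 Q111302 (allL N111302 (tt N108524 F475719) (tt N108519 (iv0 F475720)) (tt N87415 F475715) (tt N79470 F475716) (tt N94439 F475717) (tt N79469 F475718) (tt N79009 (iv6 D214544)) (tt N112238 (iv7 F480178)))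
theorem Q111304 : ∀ i, i < 111304 → P i := stepQ 111303 Q111303 (allL N111303 (tt N79010 (iv1 D214545)) (tt N79015 F475721) (tt N84525 (iv2 F475724)) (tt N91767 (iv3 F475725)) (tt N111771 (iv4 F477890)) (tt N91169 F475723) (tt N120046 (iv6 F518739)) (tt N87410 F475722))
theorem Q111305 : ∀ i, i < 111305 → P i := stepQ 111304 Q111304 (allL N111304 (tt N104993 F475730) (tt N117615 (iv0 F506013)) (tt N87411 F475726) (tt N87367 F475727) (tt N114139 (iv4 F488712)) (tt N91300 F475728) (tt N79010 (iv6 D214546)) (tt N110968 F475729))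
theorem Q111306 : ∀ i, i < 111306 → P i := stepQ 111305 Q111305 (allL N111305 (tt N79013 (iv1 D214547)) (tt N86542 F475731) (tt N86408 (iv2 F475734)) (tt N112914 (iv3 F483258)) (tt N84105 F475732) (tt N108835 F475733) (tt N84103 (iv6 F475735)) (tt N115058 (iv7 F493277)))
theorem Q111307 : ∀ i, i < 111307 → P i := stepQ 111306 Q111306 (allL N111306 (tt N90645 F475739) (tt N90644 F475740) (tt N87368 F475736) (tt N79015 F475737) (tt N114314 (iv4 F489546)) (tt N79014 (iv5 D214548)) (tt N110969 (iv6 F475741)) (tt N87408 F475738))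
theorem Q111308 : ∀ i, i < 111308 → P i := stepQ 111307 Q111307 (allL N111307 (tt N115851 (iv1 F497232)) (tt N115850 F497228) (tt N114867 (iv2 F492240)) (tt N79018 F475742) (tt N122061 D225320) (tt N79017 (iv5 D214549)) (tt N105344 F475746) (tt N87182 F475743))
theorem Q111309 : ∀ i, i < 111309 → P i := stepQ 111308 Q111308 (allL N111308 (tt N87875 (iv1 F475747)) (tt N112383 (iv0 F480844)) (tt N112395 (iv2 F480913)) (tt N79019 F475744) (tt N112395 (iv4 F480911)) (tt N86983 F475745) (tt N79017 (iv6 D214550)) (tt N112394 (iv7 F480908)))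
theorem Q111310 : ∀ i, i < 111310 → P i := stepQ 111309 Q111309 (allL N111309 (tt N111467 (iv1 F476475)) (tt N79325 (iv0 F475751)) (tt N87181 F475748) (tt N105344 F475749) (tt N115844 (iv4 F497194)) (tt N79626 F475750) (tt N79018 (iv6 D214551)) (tt N111468 (iv7 F476480)))
theorem Q111311 : ∀ i, i < 111311 → P i := stepQ 111310 Q111310 (allL N111310 (tt N114089 (iv1 F488542)) (tt N87859 F488814) (tt N115441 F495215) (tt N79021 (iv3 D214552)) (tt N115445 (iv4 F495228)) (tt N91909 F475752) (tt N120944 (iv6 F523616)) (tt N87185 F475753))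
theorem Q111312 : ∀ i, i < 111312 → P i := stepQ 111311 Q111311 (allL N111311 (tt N87394 F475759) (tt N84517 F475760) (tt N87186 F475754) (tt N104896 F475755) (tt N94447 F475756) (tt N87724 F475757) (tt N79022 (iv6 D214553)) (tt N87393 F475758))
theorem Q111313 : ∀ i, i < 111313 → P i := stepQ 111312 Q111312 (allL N111312 (tt N115874 (iv1 F497339)) (tt N115873 F497336) (tt N87178 F475761) (tt N84606 F475762) (tt N79024 F475763) (tt N115651 (iv5 F496151)) (tt N79023 (iv6 D214554)) (tt N84601 F475764))
theorem Q111314 : ∀ i, i < 111314 → P i := stepQ 111313 Q111313 (allL N111313 (tt N87179 (iv1 F475774)) (tt N79024 (iv0 D214555)) (tt N87176 (iv2 F475766)) (tt N109541 (iv3 F475767)) (tt N115648 (iv4 F496130)) (tt N102990 F475765) (tt N119328 (iv6 F515043)) (tt N87177 (iv7 F475768)))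
theorem Q111315 : ∀ i, i < 111315 → P i := stepQ 111314 Q111314 (allL N111314 (tt N79024 (iv1 D214556)) (tt N87179 F475769) (tt N87177 (iv2 F475773)) (tt N79946 (iv3 F475772)) (tt N115649 (iv4 F496138)) (tt N79945 F475771) (tt N111639 F477262) (tt N87176 F475770))
theorem Q111316 : ∀ i, i < 111316 → P i := stepQ 111315 Q111315 (allL N111315 (tt N87177 (iv1 F475779)) (tt N87176 F475780) (tt N87179 F475775) (tt N111889 F478523) (tt N84601 F475776) (tt N79038 F475777) (tt N84600 F475778) (tt N79024 (iv7 D214557)))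
theorem Q111317 : ∀ i, i < 111317 → P i := stepQ 111316 Q111316 (allL N111316 (tt N86087 (iv1 F475783)) (tt N79030 (iv0 D214558)) (tt N111322 (iv2 F475813)) (tt N106139 F475782) (tt N85938 F475781) (tt N117471 (iv5 F505200)) (tt N118002 (iv6 F508023)) (tt N103406 F475784))
theorem Q111318 : ∀ i, i < 111318 → P i := stepQ 111317 Q111317 (allL N111317 (tt N94137 F475790) (tt N104051 (iv0 F475791)) (tt N86135 F475785) (tt N86531 F475786) (tt N88295 F475787) (tt N86130 F475788) (tt N79035 (iv6 D214559)) (tt N97175 F475789))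
theorem Q111319 : ∀ i, i < 111319 → P i := stepQ 111318 Q111318 (allL N111318 (tt N114221 (iv1 F489063)) (tt N108568 F475795) (tt N87171 F475792) (tt N109539 F475793) (tt N115864 (iv4 F497297)) (tt N79037 (iv5 D214560)) (tt N114205 F488979) (tt N87174 F475794))
theorem Q111320 : ∀ i, i < 111320 → P i := stepQ 111319 Q111319 (allL N111319 (tt N80031 F475801) (tt N98474 (iv0 F475802)) (tt N86479 F475796) (tt N84196 F475797) (tt N84198 F475798) (tt N85054 F475799) (tt N79039 (iv6 D214561)) (tt N100203 F475800))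
theorem Q111321 : ∀ i, i < 111321 → P i := stepQ 111320 Q111320 (allL N111320 (tt N105325 F475808) (tt N112914 (iv0 F483261)) (tt N86472 F475803) (tt N79042 F475804) (tt N83901 F475805) (tt N83241 F475806) (tt N79040 (iv6 D214562)) (tt N88700 F475807))
theorem Q111322 : ∀ i, i < 111322 → P i := stepQ 111321 Q111321 (allL N111321 (tt N115135 (iv1 F493656)) (tt N85442 (iv0 F475812)) (tt N112748 (iv2 F482485)) (tt N79045 (iv3 D214563)) (tt N79050 F475809) (tt N112976 (iv5 F483417)) (tt N109202 F475810) (tt N85709 F475811))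
theorem Q111323 : ∀ i, i < 111323 → P i := stepQ 111322 Q111322 (allL N111322 (tt N90094 F475816) (tt N85049 F475817) (tt N111316 F475813) (tt N85234 F475814) (tt N79046 (iv4 D214564)) (tt N121604 (iv5 F527284)) (tt N117949 (iv6 F507745)) (tt N86890 F475815))
theorem Q111324 : ∀ i, i < 111324 → P i := stepQ 111323 Q111323 (allL N111323 (tt N92725 F475822) (tt N92743 (iv0 F475824)) (tt N92123 F475818) (tt N79055 (iv3 D214565)) (tt N103924 F475823) (tt N86741 F475819) (tt N103928 F475820) (tt N92741 F475821))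
theorem Q111325 : ∀ i, i < 111325 → P i := stepQ 111324 Q111324 (allL N111324 (tt N114423 (iv1 F490082)) (tt N114626 (iv0 F491077)) (tt N100232 F475825) (tt N100166 F475826) (tt N109774 F475829) (tt N79059 (iv5 D214566)) (tt N79060 F475827) (tt N105795 F475828))
theorem Q111326 : ∀ i, i < 111326 → P i := stepQ 111325 Q111325 (allL N111325 (tt N98520 F475834) (tt N98519 (iv0 F475835)) (tt N98521 F475830) (tt N79067 (iv3 D214567)) (tt N109193 F475831) (tt N114486 (iv5 F490430)) (tt N98757 F475832) (tt N98514 F475833))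
theorem Q111327 : ∀ i, i < 111327 → P i := stepQ 111326 Q111326 (allL N111326 (tt N109079 F475837) (tt N84950 (iv0 F475838)) (tt N114429 (iv2 F490108)) (tt N119540 (iv3 F516142)) (tt N114438 (iv4 F490166)) (tt N109676 F475836) (tt N79079 (iv6 D214568)) (tt N114428 F490105))
theorem Q111328 : ∀ i, i < 111328 → P i := stepQ 111327 Q111327 (allL N111327 (tt N113781 F487082) (tt N113685 (iv0 F486623)) (tt N114499 (iv2 F490477)) (tt N97871 F475839) (tt N114667 (iv4 F491286)) (tt N109745 F475840) (tt N79081 (iv6 D214569)) (tt N79085 F475841))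
theorem Q111329 : ∀ i, i < 111329 → P i := stepQ 111328 Q111328 (allL N111328 (tt N114499 (iv1 F490483)) (tt N79085 (iv0 D214570)) (tt N113685 (iv2 F486619)) (tt N102880 F475844) (tt N85837 F475843) (tt N86535 F475842) (tt N109367 F475845) (tt N113781 (iv7 F487083)))
theorem Q111330 : ∀ i, i < 111330 → P i := stepQ 111329 Q111329 (allL N111329 (tt N79085 (iv1 D214571)) (tt N114499 (iv0 F490482)) (tt N113781 (iv2 F487077)) (tt N87649 F475849) (tt N82983 F475847) (tt N83723 F475846) (tt N82982 (iv6 F475848)) (tt N113685 (iv7 F486621)))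
theorem Q111331 : ∀ i, i < 111331 → P i := stepQ 111330 Q111330 (allL N111330 (tt N109378 F475853) (tt N86538 (iv0 F475854)) (tt N109725 F475850) (tt N115768 (iv3 F496763)) (tt N86891 F475851) (tt N109680 F475852) (tt N79086 (iv6 D214572)) (tt N113696 (iv7 F486683)))
theorem Q111332 : ∀ i, i < 111332 → P i := stepQ 111331 Q111331 (allL N111331 (tt N86684 F475859) (tt N98756 (iv0 F475860)) (tt N105775 F475855) (tt N104209 F475856) (tt N105906 F475857) (tt N105766 F475858) (tt N79090 (iv6 D214573)) (tt N105773 (iv7 F475861)))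
theorem Q111333 : ∀ i, i < 111333 → P i := stepQ 111332 Q111332 (allL N111332 (tt N90802 F475865) (tt N113218 (iv0 F484539)) (tt N89097 F475862) (tt N79098 (iv3 D214574)) (tt N85385 F475863) (tt N121935 (iv5 F529156)) (tt N114535 (iv6 F490654)) (tt N89099 F475864))
theorem Q111334 : ∀ i, i < 111334 → P i := stepQ 111333 Q111333 (allL N111333 (tt N102882 F475869) (tt N102879 F475870) (tt N100223 F475866) (tt N121935 (iv3 F529158)) (tt N100182 F475868) (tt N79098 (iv5 D214575)) (tt N121822 F528526) (tt N100221 F475867))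
theorem Q111335 : ∀ i, i < 111335 → P i := stepQ 111334 Q111334 (allL N111334 (tt N79101 (iv1 D214576)) (tt N89125 F475876) (tt N100250 F475873) (tt N101446 F475874) (tt N117830 (iv4 F507167)) (tt N101438 F475875) (tt N101439 (iv6 F475872)) (tt N100251 F475871))
theorem Q111336 : ∀ i, i < 111336 → P i := stepQ 111335 Q111335 (allL N111335 (tt N100251 (iv1 F475882)) (tt N100250 F475881) (tt N79101 (iv2 D214577)) (tt N89127 F475877) (tt N100106 F475878) (tt N119779 F517376) (tt N102856 F475879) (tt N89125 F475880))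
theorem Q111337 : ∀ i, i < 111337 → P i := stepQ 111336 Q111336 (allL N111336 (tt N106584 F475885) (tt N120184 (iv0 F519486)) (tt N119779 (iv2 F517372)) (tt N79102 F475883) (tt N119769 F517328) (tt N79101 (iv5 D214578)) (tt N121148 (iv6 F524786)) (tt N100252 F475884))
theorem Q111338 : ∀ i, i < 111338 → P i := stepQ 111337 Q111337 (allL N111337 (tt N102879 F475889) (tt N102882 F475890) (tt N100221 F475886) (tt N116518 (iv3 F500575)) (tt N79102 (iv4 D214579)) (tt N98193 F475887) (tt N88389 F475891) (tt N100223 F475888))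
theorem Q111339 : ∀ i, i < 111339 → P i := stepQ 111338 Q111338 (allL N111338 (tt N113369 (iv1 F485216)) (tt N83339 (iv0 F475896)) (tt N100260 F475892) (tt N121148 (iv3 F524785)) (tt N88389 F475893) (tt N107028 F475894) (tt N79102 (iv6 D214580)) (tt N107027 F475895))
theorem Q111340 : ∀ i, i < 111340 → P i := stepQ 111339 Q111339 (allL N111339 (tt N79107 (iv1 D214581)) (tt N110518 F475897) (tt N87206 F475903) (tt N103808 (iv3 F475901)) (tt N87205 F475900) (tt N89836 F475899) (tt N96262 (iv6 F475902)) (tt N87262 F475898))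
theorem Q111341 : ∀ i, i < 111341 → P i := stepQ 111340 Q111340 (allL N111340 (tt N117218 (iv1 F503954)) (tt N79110 (iv0 D214582)) (tt N87694 (iv2 F475907)) (tt N86930 F475905) (tt N115407 (iv4 F495038)) (tt N107179 F475904) (tt N86931 F475906) (tt N116695 (iv7 F501348)))
theorem Q111342 : ∀ i, i < 111342 → P i := stepQ 111341 Q111341 (allL N111341 (tt N120085 F518973) (tt N113357 (iv0 F485163)) (tt N113167 (iv2 F484297)) (tt N117443 (iv3 F505053)) (tt N79110 (iv4 D214583)) (tt N121831 (iv5 F528581)) (tt N81897 F475908) (tt N120084 (iv7 F518965)))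
theorem Q111343 : ∀ i, i < 111343 → P i := stepQ 111342 Q111342 (allL N111342 (tt N116695 F501350) (tt N87694 (iv0 F475911)) (tt N117218 (iv2 F503958)) (tt N81906 F475909) (tt N120084 (iv4 F518967)) (tt N79111 F475910) (tt N113491 F485747) (tt N79110 (iv7 D214584)))
theorem Q111344 : ∀ i, i < 111344 → P i := stepQ 111343 Q111343 (allL N111343 (tt N99919 F475913) (tt N99917 F475914) (tt N113455 (iv2 F485570)) (tt N110226 F475912) (tt N117244 (iv4 F504088)) (tt N79112 (iv5 D214585)) (tt N121200 (iv6 F525102)) (tt N113454 (iv7 F485565)))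
theorem Q111345 : ∀ i, i < 111345 → P i := stepQ 111344 Q111344 (allL N111344 (tt N91153 F475920) (tt N91152 (iv0 F475921)) (tt N88421 F475915) (tt N101010 F475916) (tt N81878 F475917) (tt N79115 (iv5 D214586)) (tt N79116 F475918) (tt N89641 F475919))
theorem Q111346 : ∀ i, i < 111346 → P i := stepQ 111345 Q111345 (allL N111345 (tt N86931 F475924) (tt N113373 F485241) (tt N88422 F475922) (tt N81883 (iv3 F475925)) (tt N79116 (iv4 D214587)) (tt N112896 (iv5 F483182)) (tt N81878 F475923) (tt N113372 (iv7 F485230)))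
theorem Q111347 : ∀ i, i < 111347 → P i := stepQ 111346 Q111346 (allL N111346 (tt N88197 (iv1 F475932)) (tt N79126 (iv0 D214588)) (tt N109490 (iv2 F475930)) (tt N103097 F475928) (tt N99848 F475927) (tt N88194 F475926) (tt N103096 F475929) (tt N101133 F475931))
theorem Q111348 : ∀ i, i < 111348 → P i := stepQ 111347 Q111347 (allL N111347 (tt N101133 (iv1 F475938)) (tt N109490 F475939) (tt N88197 F475933) (tt N79128 F475934) (tt N100153 F475935) (tt N105276 F475936) (tt N109531 F475937) (tt N79126 (iv7 D214589)))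
theorem Q111349 : ∀ i, i < 111349 → P i := stepQ 111348 Q111348 (allL N111348 (tt N109226 (iv1 F475945)) (tt N103097 F475946) (tt N109531 F475940) (tt N79131 F475941) (tt N82327 F475942) (tt N105278 F475943) (tt N88197 F475944) (tt N79129 (iv7 D214590)))
theorem Q111350 : ∀ i, i < 111350 → P i := stepQ 111349 Q111349 (allL N111349 (tt N79132 (iv1 D214591)) (tt N96338 F475947) (tt N79237 F475951) (tt N101895 (iv3 F475952)) (tt N80575 (iv4 F475949)) (tt N120498 (iv5 F521095)) (tt N96376 (iv6 F475950)) (tt N96377 F475948))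
theorem Q111351 : ∀ i, i < 111351 → P i := stepQ 111350 Q111350 (allL N111350 (tt N80114 F475956) (tt N101518 F475957) (tt N101516 F475953) (tt N101874 F475954) (tt N111837 (iv4 F478225)) (tt N112643 (iv5 F481962)) (tt N79134 (iv6 D214592)) (tt N101517 F475955))
theorem Q111352 : ∀ i, i < 111352 → P i := stepQ 111351 Q111351 (allL N111351 (tt N100551 F475961) (tt N100550 F475962) (tt N79136 F475958) (tt N100546 F475959) (tt N112414 (iv4 F481002)) (tt N79135 (iv5 D214593)) (tt N112050 (iv6 F479262)) (tt N101556 F475960))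
theorem Q111353 : ∀ i, i < 111353 → P i := stepQ 111352 Q111352 (allL N111352 (tt N115562 F495796) (tt N122062 D225321) (tt N112050 (iv2 F479261)) (tt N79137 F475963) (tt N115561 F495791) (tt N96363 F475964) (tt N79136 (iv6 D214594)) (tt N96362 (iv7 F475965)))
theorem Q111354 : ∀ i, i < 111354 → P i := stepQ 111353 Q111353 (allL N111353 (tt N90249 F475970) (tt N100590 F475971) (tt N100558 F475966) (tt N88830 F475967) (tt N118530 (iv4 F510817)) (tt N79138 (iv5 D214595)) (tt N101027 F475968) (tt N83230 F475969))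
theorem Q111355 : ∀ i, i < 111355 → P i := stepQ 111354 Q111354 (allL N111354 (tt N101560 F475983) (tt N93826 (iv0 F475976)) (tt N94762 F475972) (tt N79146 (iv3 D214596)) (tt N82438 F475975) (tt N118222 (iv5 F509227)) (tt N93435 F475973) (tt N100918 F475974))
theorem Q111356 : ∀ i, i < 111356 → P i := stepQ 111355 Q111355 (allL N111355 (tt N111066 F475980) (tt N111063 (iv0 F475982)) (tt N100922 F475977) (tt N96913 F475981) (tt N79146 (iv4 D214597)) (tt N115285 (iv5 F494381)) (tt N96912 F475978) (tt N100919 F475979))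
theorem Q111357 : ∀ i, i < 111357 → P i := stepQ 111356 Q111356 (allL N111356 (tt N111696 (iv1 F477546)) (tt N79798 (iv0 F475986)) (tt N100923 F475984) (tt N118222 F509228) (tt N122063 D225322) (tt N79146 (iv5 D214598)) (tt N122064 D225323) (tt N100920 F475985))
theorem Q111358 : ∀ i, i < 111358 → P i := stepQ 111357 Q111357 (allL N111357 (tt N111063 (iv1 F475992)) (tt N111066 F475991) (tt N100919 F475987) (tt N80060 F475988) (tt N79147 (iv4 D214599)) (tt N115279 (iv5 F494350)) (tt N79299 F475989) (tt N100922 F475990))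
theorem Q111359 : ∀ i, i < 111359 → P i := stepQ 111358 Q111358 (allL N111358 (tt N79798 F475995) (tt N111696 F477547) (tt N100920 F475993) (tt N118728 F511775) (tt N122065 D225324) (tt N79147 (iv5 D214600)) (tt N118728 F511776) (tt N100923 F475994))
theorem Q111360 : ∀ i, i < 111360 → P i := stepQ 111359 Q111359 (allL N111359 (tt N96292 F475999) (tt N99918 (iv0 F476001)) (tt N84720 F475996) (tt N79151 F475997) (tt N111944 (iv4 F478797)) (tt N101306 F476000) (tt N79149 (iv6 D214601)) (tt N109409 F475998))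
theorem Q111361 : ∀ i, i < 111361 → P i := stepQ 111360 Q111360 (allL N111360 (tt N110637 F476005) (tt N113466 (iv0 F485615)) (tt N119754 (iv2 F517249)) (tt N100240 F476002) (tt N106664 F476003) (tt N101308 F476004) (tt N79150 (iv6 D214602)) (tt N122052 (iv7 F529872)))
theorem Q111362 : ∀ i, i < 111362 → P i := stepQ 111361 Q111361 (allL N111361 (tt N98824 (iv1 F476011)) (tt N79154 (iv0 D214603)) (tt N99157 (iv2 F476010)) (tt N82092 F476008) (tt N100946 F476007) (tt N98813 F476006) (tt N99051 F476009) (tt N82087 F476012))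
theorem Q111363 : ∀ i, i < 111363 → P i := stepQ 111362 Q111362 (allL N111362 (tt N105147 F476016) (tt N117025 (iv0 F503025)) (tt N119733 (iv2 F517153)) (tt N110994 F476013) (tt N119729 (iv4 F517139)) (tt N100608 F476014) (tt N79155 (iv6 D214604)) (tt N79165 F476015))
theorem Q111364 : ∀ i, i < 111364 → P i := stepQ 111363 Q111363 (allL N111363 (tt N116198 (iv1 F498967)) (tt N108774 F476018) (tt N116802 (iv2 F501914)) (tt N121973 (iv3 F529391)) (tt N79161 (iv4 D214605)) (tt N90466 F476017) (tt N116425 (iv6 F500036)) (tt N120467 (iv7 F520933)))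
theorem Q111365 : ∀ i, i < 111365 → P i := stepQ 111364 Q111364 (allL N111364 (tt N101623 F476021) (tt N101628 F476022) (tt N95693 F476019) (tt N119941 F518152) (tt N79176 F476020) (tt N79162 (iv5 D214606)) (tt N106920 F476023) (tt N112002 (iv7 F479026)))
theorem Q111366 : ∀ i, i < 111366 → P i := stepQ 111365 Q111365 (allL N111365 (tt N101628 F476027) (tt N101623 F476028) (tt N112002 (iv2 F479023)) (tt N81722 F476024) (tt N79174 F476025) (tt N79163 (iv5 D214607)) (tt N93504 F476029) (tt N95693 F476026))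
theorem Q111367 : ∀ i, i < 111367 → P i := stepQ 111366 Q111366 (allL N111366 (tt N79183 (iv1 F476034)) (tt N79164 (iv0 D214608)) (tt N93646 (iv2 F476033)) (tt N98793 F476032) (tt N79172 F476031) (tt N79167 F476030) (tt N92896 (iv6 F476036)) (tt N111134 F476035))
theorem Q111368 : ∀ i, i < 111368 → P i := stepQ 111367 Q111367 (allL N111367 (tt N120422 F520698) (tt N121603 (iv0 F527282)) (tt N120533 (iv2 F521300)) (tt N119708 (iv3 F517026)) (tt N112630 F481912) (tt N119301 F514924) (tt N79164 (iv6 D214609)) (tt N121610 (iv7 F527322)))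
theorem Q111369 : ∀ i, i < 111369 → P i := stepQ 111368 Q111368 (allL N111368 (tt N119733 (iv1 F517158)) (tt N79165 (iv0 D214610)) (tt N117025 (iv2 F503018)) (tt N121346 (iv3 F525884)) (tt N119787 (iv4 F517415)) (tt N105547 F478845) (tt N117017 F502989) (tt N105147 (iv7 F478846)))
theorem Q111370 : ∀ i, i < 111370 → P i := stepQ 111369 Q111369 (allL N111369 (tt N79169 (iv1 D214611)) (tt N107244 (iv0 F476041)) (tt N111933 (iv2 F478737)) (tt N107888 F476039) (tt N108957 F476037) (tt N91613 F476040) (tt N87905 (iv6 F476038)) (tt N117690 (iv7 F506438)))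
theorem Q111371 : ∀ i, i < 111371 → P i := stepQ 111370 Q111370 (allL N111370 (tt N117690 F506441) (tt N111933 F478743) (tt N79169 (iv2 D214612)) (tt N81233 F476042) (tt N102338 F476043) (tt N108301 (iv5 F476046)) (tt N81228 F476044) (tt N107244 F476045))
theorem Q111372 : ∀ i, i < 111372 → P i := stepQ 111371 Q111371 (allL N111371 (tt N96173 (iv1 F476053)) (tt N108300 (iv0 F476052)) (tt N108301 F476047) (tt N79170 F476048) (tt N96070 F476049) (tt N79169 (iv5 D214613)) (tt N93407 F476050) (tt N93642 F476051))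
theorem Q111373 : ∀ i, i < 111373 → P i := stepQ 111372 Q111372 (allL N111372 (tt N79171 (iv1 D214614)) (tt N81233 (iv0 F476058)) (tt N81728 (iv2 F476055)) (tt N112126 F479624) (tt N111588 (iv4 F477035)) (tt N81727 (iv5 F476056)) (tt N107897 (iv6 F476057)) (tt N101158 F476054))
theorem Q111374 : ∀ i, i < 111374 → P i := stepQ 111373 Q111373 (allL N111373 (tt N101158 (iv1 F476064)) (tt N81728 F476063) (tt N79171 (iv2 D214615)) (tt N107244 F476059) (tt N79520 F476060) (tt N108299 F476065) (tt N81221 F476061) (tt N81233 F476062))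
theorem Q111375 : ∀ i, i < 111375 → P i := stepQ 111374 Q111374 (allL N111374 (tt N81260 F476070) (tt N118360 (iv0 F509911)) (tt N108299 F476066) (tt N79172 F476067) (tt N112089 (iv4 F479445)) (tt N79171 (iv5 D214616)) (tt N92895 F476068) (tt N111133 F476069))
theorem Q111376 : ∀ i, i < 111376 → P i := stepQ 111375 Q111375 (allL N111375 (tt N117005 (iv1 F502932)) (tt N122025 F529710) (tt N95690 F476071) (tt N121244 (iv3 F525333)) (tt N106920 F476072) (tt N95673 F476073) (tt N79176 (iv6 D214617)) (tt N106918 (iv7 F476074)))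
theorem Q111377 : ∀ i, i < 111377 → P i := stepQ 111376 Q111376 (allL N111376 (tt N110047 F476078) (tt N96505 F476079) (tt N116982 F502814) (tt N94712 F476075) (tt N105741 F476077) (tt N79177 (iv5 D214618)) (tt N117557 (iv6 F505683)) (tt N94704 F476076))
theorem Q111378 : ∀ i, i < 111378 → P i := stepQ 111377 Q111377 (allL N111377 (tt N96505 F476083) (tt N110047 F476084) (tt N94704 F476080) (tt N95049 F476081) (tt N83916 F476082) (tt N79178 (iv5 D214619)) (tt N84990 (iv6 F476085)) (tt N116982 (iv7 F502816)))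
theorem Q111379 : ∀ i, i < 111379 → P i := stepQ 111378 Q111378 (allL N111378 (tt N118344 F509815) (tt N117544 (iv0 F505622)) (tt N116971 (iv2 F502767)) (tt N79184 F476086) (tt N106827 F476087) (tt N79212 F476088) (tt N79180 (iv6 D214620)) (tt N122066 D225325))
theorem Q111380 : ∀ i, i < 111380 → P i := stepQ 111379 Q111379 (allL N111379 (tt N119727 F517130) (tt N112195 F480013) (tt N119731 (iv2 F517149)) (tt N120214 (iv3 F519635)) (tt N79184 F476089) (tt N122067 D225326) (tt N79183 (iv6 D214621)) (tt N119730 F517145))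
theorem Q111381 : ∀ i, i < 111381 → P i := stepQ 111380 Q111380 (allL N111380 (tt N120523 (iv1 F521245)) (tt N79184 (iv0 D214622)) (tt N112217 (iv2 F480095)) (tt N87298 (iv3 F476092)) (tt N118301 (iv4 F509593)) (tt N87297 F476091) (tt N105154 F476090) (tt N103165 F476093))
theorem Q111382 : ∀ i, i < 111382 → P i := stepQ 111381 Q111381 (allL N111381 (tt N79184 (iv1 D214623)) (tt N120523 F521244) (tt N103165 F476095) (tt N88122 F476096) (tt N110729 F476097) (tt N88121 (iv5 F476098)) (tt N103163 (iv6 F476094)) (tt N112217 (iv7 F480098)))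
theorem Q111383 : ∀ i, i < 111383 → P i := stepQ 111382 Q111382 (allL N111382 (tt N103165 (iv1 F476100)) (tt N112217 F480099) (tt N120523 (iv2 F521240)) (tt N122066 (iv3 F529957)) (tt N119730 (iv4 F517144)) (tt N79218 F476099) (tt N120538 (iv6 F521333)) (tt N79184 (iv7 D214624)))
theorem Q111384 : ∀ i, i < 111384 → P i := stepQ 111383 Q111383 (allL N111383 (tt N111701 (iv1 F477573)) (tt N82487 (iv0 F476104)) (tt N111476 (iv2 F476522)) (tt N79185 (iv3 D214625)) (tt N79251 F476103) (tt N111489 (iv5 F476579)) (tt N91188 F476101) (tt N101537 F476102))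
theorem Q111385 : ∀ i, i < 111385 → P i := stepQ 111384 Q111384 (allL N111384 (tt N111712 F477616) (tt N96786 (iv0 F476106)) (tt N118131 (iv2 F508771)) (tt N79186 (iv3 D214626)) (tt N122043 (iv4 F529810)) (tt N119128 (iv5 F513938)) (tt N112704 (iv6 F482262)) (tt N101541 F476105))
theorem Q111386 : ∀ i, i < 111386 → P i := stepQ 111385 Q111385 (allL N111385 (tt N87988 F476112) (tt N100542 F476111) (tt N79188 F476107) (tt N101549 F476108) (tt N84532 F476109) (tt N79187 (iv5 D214627)) (tt N122068 D225327) (tt N101544 F476110))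
theorem Q111387 : ∀ i, i < 111387 → P i := stepQ 111386 Q111386 (allL N111386 (tt N102088 (iv1 F476118)) (tt N102085 (iv0 F476117)) (tt N79189 F476113) (tt N96969 F476114) (tt N94838 F476115) (tt N96640 F476116) (tt N79187 (iv6 D214628)) (tt N112810 (iv7 F482720)))
theorem Q111388 : ∀ i, i < 111388 → P i := stepQ 111387 Q111387 (allL N111387 (tt N79188 (iv1 D214629)) (tt N101544 F476119) (tt N100542 (iv2 F476123)) (tt N118808 (iv3 F512180)) (tt N87991 F476122) (tt N79192 F476121) (tt N115590 (iv6 F495896)) (tt N87988 F476120))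
theorem Q111389 : ∀ i, i < 111389 → P i := stepQ 111388 Q111388 (allL N111388 (tt N121330 (iv1 F525808)) (tt N121647 (iv0 F527526)) (tt N122068 (iv2 F529967)) (tt N79190 F476124) (tt N114145 F488740) (tt N110847 F476125) (tt N79188 (iv6 D214630)) (tt N109615 F476126))
theorem Q111390 : ∀ i, i < 111390 → P i := stepQ 111389 Q111389 (allL N111389 (tt N101895 (iv1 F476131)) (tt N79232 (iv0 F476130)) (tt N101894 F476127) (tt N79191 (iv3 D214631)) (tt N80244 F476129) (tt N111481 (iv5 F476545)) (tt N117658 (iv6 F506254)) (tt N100540 F476128))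
theorem Q111391 : ∀ i, i < 111391 → P i := stepQ 111390 Q111390 (allL N111390 (tt N101513 F476136) (tt N100640 (iv0 F476137)) (tt N100545 F476132) (tt N117658 (iv3 F506252)) (tt N102352 F476133) (tt N91742 F476134) (tt N79191 (iv6 D214632)) (tt N101512 F476135))
theorem Q111392 : ∀ i, i < 111392 → P i := stepQ 111391 Q111391 (allL N111391 (tt N100548 F476141) (tt N100547 F476142) (tt N79194 F476138) (tt N101556 F476139) (tt N114227 (iv4 F489093)) (tt N79193 (iv5 D214633)) (tt N115599 (iv6 F495930)) (tt N100546 F476140))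
theorem Q111393 : ∀ i, i < 111393 → P i := stepQ 111392 Q111392 (allL N111392 (tt N96652 F476145) (tt N86960 (iv0 F476146)) (tt N96650 F476143) (tt N115416 (iv3 F495086)) (tt N79196 (iv4 D214634)) (tt N118316 (iv5 F509667)) (tt N111848 (iv6 F478294)) (tt N96651 F476144))
theorem Q111394 : ∀ i, i < 111394 → P i := stepQ 111393 Q111393 (allL N111393 (tt N79213 F476152) (tt N90364 (iv0 F476153)) (tt N101559 F476147) (tt N108892 F476148) (tt N87426 F476151) (tt N79197 (iv5 D214635)) (tt N87425 F476149) (tt N101561 F476150))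
theorem Q111395 : ∀ i, i < 111395 → P i := stepQ 111394 Q111394 (allL N111394 (tt N101565 F476157) (tt N101564 (iv0 F476158)) (tt N79199 F476154) (tt N101571 F476155) (tt N115910 (iv4 F497545)) (tt N79198 (iv5 D214636)) (tt N115908 (iv6 F497537)) (tt N101562 F476156))
theorem Q111396 : ∀ i, i < 111396 → P i := stepQ 111395 Q111395 (allL N111395 (tt N101562 (iv1 F476161)) (tt N79199 (iv0 D214637)) (tt N101565 (iv2 F476162)) (tt N103439 F476160) (tt N115475 (iv4 F495372)) (tt N79800 F476159) (tt N115888 (iv6 F497426)) (tt N101564 (iv7 F476163)))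
theorem Q111397 : ∀ i, i < 111397 → P i := stepQ 111396 Q111396 (allL N111396 (tt N79199 (iv1 D214638)) (tt N101562 F476164) (tt N101564 (iv2 F476167)) (tt N118224 (iv3 F509230)) (tt N115477 (iv4 F495381)) (tt N79801 F476166) (tt N115933 (iv6 F497655)) (tt N101565 F476165))
theorem Q111398 : ∀ i, i < 111398 → P i := stepQ 111397 Q111397 (allL N111397 (tt N119222 (iv1 F514450)) (tt N115937 F497680) (tt N115910 (iv2 F497544)) (tt N111086 F476168) (tt N79199 (iv4 D214639)) (tt N111085 (iv5 F476171)) (tt N87326 F476169) (tt N101566 F476170))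
theorem Q111399 : ∀ i, i < 111399 → P i := stepQ 111398 Q111398 (allL N111398 (tt N101591 F476176) (tt N79215 (iv0 F476177)) (tt N94896 F476172) (tt N112095 (iv3 F479469)) (tt N87229 F476175) (tt N79201 (iv5 D214640)) (tt N87228 F476173) (tt N101570 F476174))
theorem Q111400 : ∀ i, i < 111400 → P i := stepQ 111399 Q111399 (allL N111399 (tt N101573 F476182) (tt N101572 (iv0 F476183)) (tt N79203 F476178) (tt N101562 F476179) (tt N111452 (iv4 F476426)) (tt N79202 (iv5 D214641)) (tt N79206 F476180) (tt N101571 F476181))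
theorem Q111401 : ∀ i, i < 111401 → P i := stepQ 111400 Q111400 (allL N111400 (tt N101571 (iv1 F476186)) (tt N79203 (iv0 D214642)) (tt N101573 (iv2 F476185)) (tt N111048 F476188) (tt N111893 (iv4 F478538)) (tt N79804 F476184) (tt N115958 (iv6 F497771)) (tt N101572 F476187))
theorem Q111402 : ∀ i, i < 111402 → P i := stepQ 111401 Q111401 (allL N111401 (tt N111488 (iv1 F476576)) (tt N80246 (iv0 F476193)) (tt N111452 (iv2 F476423)) (tt N91776 F476189) (tt N79203 (iv4 D214643)) (tt N79300 (iv5 F476192)) (tt N91773 F476190) (tt N101574 F476191))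
theorem Q111403 : ∀ i, i < 111403 → P i := stepQ 111402 Q111402 (allL N111402 (tt N118717 (iv1 F511723)) (tt N103439 F476198) (tt N101567 F476194) (tt N79206 F476195) (tt N111887 (iv4 F478504)) (tt N79205 (iv5 D214644)) (tt N101562 F476196) (tt N101577 F476197))
theorem Q111404 : ∀ i, i < 111404 → P i := stepQ 111403 Q111403 (allL N111403 (tt N119193 (iv1 F514290)) (tt N88115 F476202) (tt N91773 F476199) (tt N115657 F496181) (tt N79206 (iv4 D214645)) (tt N81631 F476200) (tt N111452 (iv6 F476424)) (tt N101578 F476201))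
theorem Q111405 : ∀ i, i < 111405 → P i := stepQ 111404 Q111404 (allL N111404 (tt N119050 (iv1 F513500)) (tt N121675 (iv0 F527674)) (tt N79212 F476203) (tt N118361 (iv3 F509914)) (tt N117587 F505858) (tt N116971 (iv5 F502770)) (tt N79208 (iv6 D214646)) (tt N122069 D225328))
theorem Q111406 : ∀ i, i < 111406 → P i := stepQ 111405 Q111405 (allL N111405 (tt N120558 (iv1 F521451)) (tt N120557 (iv0 F521445)) (tt N101583 F476204) (tt N83609 (iv3 F476207)) (tt N79209 (iv4 D214647)) (tt N81625 F476205) (tt N115659 (iv6 F496185)) (tt N101581 F476206))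
theorem Q111407 : ∀ i, i < 111407 → P i := stepQ 111406 Q111406 (allL N111406 (tt N115955 (iv1 F497761)) (tt N95481 (iv0 F477534)) (tt N101584 F476208) (tt N94676 F476209) (tt N115659 F496187) (tt N94675 F476210) (tt N79209 (iv6 D214648)) (tt N118662 (iv7 F511406)))
theorem Q111408 : ∀ i, i < 111408 → P i := stepQ 111407 Q111407 (allL N111407 (tt N94873 (iv1 F476216)) (tt N84530 (iv0 F476217)) (tt N94874 F476211) (tt N79210 (iv3 D214649)) (tt N87306 F476212) (tt N94860 F476213) (tt N103078 F476214) (tt N94859 F476215))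
theorem Q111409 : ∀ i, i < 111409 → P i := stepQ 111408 Q111408 (allL N111408 (tt N81638 (iv1 F476220)) (tt N79211 (iv0 D214650)) (tt N101586 (iv2 F476221)) (tt N118843 (iv3 F512374)) (tt N82488 F476219) (tt N82497 F476218) (tt N95479 (iv6 F476223)) (tt N101585 (iv7 F476222)))
theorem Q111410 : ∀ i, i < 111410 → P i := stepQ 111409 Q111409 (allL N111409 (tt N79211 (iv1 D214651)) (tt N81638 F476224) (tt N101585 (iv2 F476228)) (tt N115624 (iv3 F496023)) (tt N82499 F476227) (tt N82480 F476226) (tt N108750 (iv6 F476229)) (tt N101586 F476225))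
theorem Q111411 : ∀ i, i < 111411 → P i := stepQ 111410 Q111410 (allL N111410 (tt N115964 F497798) (tt N113683 (iv0 F495437)) (tt N117587 (iv2 F505854)) (tt N106700 F476230) (tt N79212 F476231) (tt N95386 F476232) (tt N79211 (iv6 D214652)) (tt N118935 (iv7 F512834)))
theorem Q111412 : ∀ i, i < 111412 → P i := stepQ 111411 Q111411 (allL N111411 (tt N122069 (iv1 F529979)) (tt N79212 (iv0 D214653)) (tt N119050 (iv2 F513497)) (tt N112274 (iv3 F488606)) (tt N114115 F488605) (tt N119048 (iv5 F513488)) (tt N112220 F488608) (tt N121675 (iv7 F527673)))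
theorem Q111413 : ∀ i, i < 111413 → P i := stepQ 111412 Q111412 (allL N111412 (tt N79212 (iv1 D214654)) (tt N122069 F529978) (tt N121675 (iv2 F527670)) (tt N114198 F496012) (tt N97343 (iv4 F476233)) (tt N119051 (iv5 F513506)) (tt N122070 D225329) (tt N119050 F513502))
theorem Q111414 : ∀ i, i < 111414 → P i := stepQ 111413 Q111413 (allL N111413 (tt N121675 F527675) (tt N119050 F513503) (tt N122069 (iv2 F529974)) (tt N79218 F476234) (tt N118935 (iv4 F512837)) (tt N122066 (iv5 F529959)) (tt N101590 F476235) (tt N79212 (iv7 D214655)))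
theorem Q111415 : ∀ i, i < 111415 → P i := stepQ 111414 Q111414 (allL N111414 (tt N101561 (iv1 F476241)) (tt N101559 F476239) (tt N79213 (iv2 D214656)) (tt N101591 F476236) (tt N91765 F476240) (tt N100743 F476237) (tt N119338 (iv6 F515104)) (tt N90364 F476238))
theorem Q111416 : ∀ i, i < 111416 → P i := stepQ 111415 Q111415 (allL N111415 (tt N91764 F476245) (tt N87286 (iv0 F476246)) (tt N91765 F476242) (tt N81188 F476243) (tt N79213 (iv4 D214657)) (tt N113596 (iv5 F486219)) (tt N91441 F476247) (tt N87303 F476244))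
theorem Q111417 : ∀ i, i < 111417 → P i := stepQ 111416 Q111416 (allL N111416 (tt N101248 F476252) (tt N114806 (iv0 F491967)) (tt N119338 (iv2 F515102)) (tt N79214 F476248) (tt N91441 F476249) (tt N99524 (iv5 F476251)) (tt N79213 (iv6 D214658)) (tt N90358 F476250))
theorem Q111418 : ∀ i, i < 111418 → P i := stepQ 111417 Q111417 (allL N111417 (tt N94896 (iv1 F476258)) (tt N101570 F476257) (tt N79215 (iv2 D214659)) (tt N90364 F476253) (tt N111453 (iv4 F476428)) (tt N94886 F476254) (tt N90362 F476255) (tt N101591 F476256))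
theorem Q111419 : ∀ i, i < 111419 → P i := stepQ 111418 Q111418 (allL N111418 (tt N88107 (iv1 F476263)) (tt N79303 (iv0 F476262)) (tt N111453 F476429) (tt N88028 F476259) (tt N79215 (iv4 D214660)) (tt N79311 (iv5 F476261)) (tt N121674 (iv6 F527667)) (tt N101592 F476260))
theorem Q111420 : ∀ i, i < 111420 → P i := stepQ 111419 Q111419 (allL N111419 (tt N108182 F476269) (tt N79433 F476268) (tt N108185 F476264) (tt N112308 F480471) (tt N79216 (iv4 D214661)) (tt N107156 F476267) (tt N95255 F476265) (tt N108184 F476266))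
theorem Q111421 : ∀ i, i < 111421 → P i := stepQ 111420 Q111420 (allL N111420 (tt N96586 (iv1 F476274)) (tt N96583 (iv0 F476273)) (tt N105262 F476270) (tt N115704 (iv3 F496412)) (tt N94906 F476271) (tt N105083 (iv5 F476272)) (tt N79217 (iv6 D214662)) (tt N97764 (iv7 F476275)))
theorem Q111422 : ∀ i, i < 111422 → P i := stepQ 111421 Q111421 (allL N111421 (tt N81216 (iv1 F476280)) (tt N79221 (iv0 D214663)) (tt N81213 (iv2 F476279)) (tt N117513 (iv3 F505440)) (tt N109289 F476277) (tt N111141 F476276) (tt N90422 F476278) (tt N81214 F476281))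
theorem Q111423 : ∀ i, i < 111423 → P i := stepQ 111422 Q111422 (allL N111422 (tt N118816 F512231) (tt N101892 F476285) (tt N79227 F476282) (tt N93846 F476286) (tt N79225 (iv4 D214664)) (tt N93899 F476284) (tt N112838 (iv6 F482881)) (tt N79229 F476283))
theorem Q111424 : ∀ i, i < 111424 → P i := stepQ 111423 Q111423 (allL N111423 (tt N96174 F476289) (tt N96171 F476291) (tt N106784 F476287) (tt N79227 (iv3 D214665)) (tt N95585 F476288) (tt N106056 (iv5 F476290)) (tt N117643 (iv6 F506176)) (tt N106782 F476292))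
theorem Q111425 : ∀ i, i < 111425 → P i := stepQ 111424 Q111424 (allL N111424 (tt N110222 F476297) (tt N108871 (iv0 F476299)) (tt N93899 F476293) (tt N106056 F476294) (tt N110046 F476295) (tt N79227 (iv5 D214666)) (tt N93897 F476298) (tt N106781 F476296))
theorem Q111426 : ∀ i, i < 111426 → P i := stepQ 111425 Q111425 (allL N111425 (tt N101892 (iv1 F476305)) (tt N118816 (iv0 F512230)) (tt N79229 F476300) (tt N106782 F476301) (tt N79228 F476302) (tt N106781 F476303) (tt N102836 F476304) (tt N79227 (iv7 D214667)))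
theorem Q111427 : ∀ i, i < 111427 → P i := stepQ 111426 Q111426 (allL N111426 (tt N82488 F476311) (tt N82499 F476312) (tt N101891 F476306) (tt N101551 F476307) (tt N108585 F476310) (tt N79231 (iv5 D214668)) (tt N108591 F476308) (tt N101893 F476309))
theorem Q111428 : ∀ i, i < 111428 → P i := stepQ 111427 Q111427 (allL N111427 (tt N79232 (iv1 D214669)) (tt N101895 F476318) (tt N100540 F476316) (tt N96361 (iv3 F476315)) (tt N80243 (iv4 F476314)) (tt N115989 (iv5 F497929)) (tt N96171 F476317) (tt N101894 F476313))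
theorem Q111429 : ∀ i, i < 111429 → P i := stepQ 111428 Q111428 (allL N111428 (tt N101894 (iv1 F476324)) (tt N100540 F476323) (tt N79232 (iv2 D214670)) (tt N96377 F476319) (tt N95627 F476320) (tt N122071 D225330) (tt N95626 F476321) (tt N101895 F476322))
theorem Q111430 : ∀ i, i < 111430 → P i := stepQ 111429 Q111429 (allL N111429 (tt N111878 (iv1 F478462)) (tt N122072 D225331) (tt N122071 (iv2 F529985)) (tt N79233 F476325) (tt N95651 F476327) (tt N79232 (iv5 D214671)) (tt N113762 F487005) (tt N101896 F476326))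
theorem Q111431 : ∀ i, i < 111431 → P i := stepQ 111430 Q111430 (allL N111430 (tt N79238 (iv1 F476329)) (tt N79233 (iv0 D214672)) (tt N101899 (iv2 F476330)) (tt N96661 F477570) (tt N115976 (iv4 F497869)) (tt N79819 F476328) (tt N115975 F497866) (tt N101898 (iv7 F476331)))
theorem Q111432 : ∀ i, i < 111432 → P i := stepQ 111431 Q111431 (allL N111431 (tt N79233 (iv1 D214673)) (tt N79238 F476332) (tt N101898 (iv2 F476335)) (tt N100551 (iv3 F476336)) (tt N115993 (iv4 F497946)) (tt N79820 F476334) (tt N118861 (iv6 F512450)) (tt N101899 F476333))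
theorem Q111433 : ∀ i, i < 111433 → P i := stepQ 111432 Q111432 (allL N111432 (tt N87243 F476341) (tt N79809 F476342) (tt N101905 F476337) (tt N95652 F476338) (tt N79233 (iv4 D214674)) (tt N81636 F476340) (tt N116373 (iv6 F499764)) (tt N101900 F476339))
theorem Q111434 : ∀ i, i < 111434 → P i := stepQ 111433 Q111433 (allL N111433 (tt N118364 F509941) (tt N120281 (iv0 F520007)) (tt N80575 F476343) (tt N79235 (iv3 D214675)) (tt N79237 F476344) (tt N96063 F476345) (tt N93831 F476346) (tt N96380 F476347))
theorem Q111435 : ∀ i, i < 111435 → P i := stepQ 111434 Q111434 (allL N111434 (tt N94907 F476350) (tt N93401 F476351) (tt N120498 (iv2 F521098)) (tt N79238 F476348) (tt N120784 (iv4 F522695)) (tt N79237 (iv5 D214676)) (tt N120498 F521097) (tt N96383 F476349))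
theorem Q111436 : ∀ i, i < 111436 → P i := stepQ 111435 Q111435 (allL N111435 (tt N79809 F476355) (tt N87243 F476356) (tt N101900 F476352) (tt N122073 D225332) (tt N79238 (iv4 D214677)) (tt N81635 F476353) (tt N118885 (iv6 F512583)) (tt N101905 F476354))
theorem Q111437 : ∀ i, i < 111437 → P i := stepQ 111436 Q111436 (allL N111436 (tt N122072 (iv1 F529992)) (tt N111878 F478463) (tt N101896 F476357) (tt N120498 F521096) (tt N118885 (iv4 F512582)) (tt N101895 (iv5 F476358)) (tt N79238 (iv6 D214678)) (tt N122071 (iv7 F529989)))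
theorem Q111438 : ∀ i, i < 111438 → P i := stepQ 111437 Q111437 (allL N111437 (tt N91977 F476363) (tt N119430 (iv0 F515581)) (tt N101897 F476359) (tt N96376 F476360) (tt N118940 (iv4 F512865)) (tt N79239 (iv5 D214679)) (tt N101895 F476361) (tt N96371 F476362))
theorem Q111439 : ∀ i, i < 111439 → P i := stepQ 111438 Q111438 (allL N111438 (tt N117905 (iv1 F507525)) (tt N112510 (iv0 F481430)) (tt N101903 F476364) (tt N95174 F476367) (tt N79240 (iv4 D214680)) (tt N118746 (iv5 F511864)) (tt N92545 F476365) (tt N110589 F476366))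
theorem Q111440 : ∀ i, i < 111440 → P i := stepQ 111439 Q111439 (allL N111439 (tt N112387 (iv1 F480865)) (tt N112389 (iv0 F480879)) (tt N81487 F476368) (tt N90902 F476369) (tt N79243 (iv4 D214681)) (tt N113089 (iv5 F483930)) (tt N79245 F476370) (tt N112361 (iv7 F480744)))
theorem Q111441 : ∀ i, i < 111441 → P i := stepQ 111440 Q111440 (allL N111440 (tt N80637 (iv1 F476376)) (tt N80640 (iv0 F476375)) (tt N102728 F476371) (tt N79244 (iv3 D214682)) (tt N118597 (iv4 F511082)) (tt N104810 F476372) (tt N94096 F476373) (tt N81477 F476374))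
theorem Q111442 : ∀ i, i < 111442 → P i := stepQ 111441 Q111441 (allL N111441 (tt N80140 F476382) (tt N80135 F476383) (tt N81486 F476378) (tt N84381 F476379) (tt N80126 F476380) (tt N79245 (iv5 D214683)) (tt N83164 F476384) (tt N81481 F476381))
theorem Q111443 : ∀ i, i < 111443 → P i := stepQ 111442 Q111442 (allL N111442 (tt N111032 (iv1 F476385)) (tt N79247 (iv0 D214684)) (tt N92330 F476387) (tt N114809 (iv3 F491985)) (tt N119015 (iv4 F513293)) (tt N112236 (iv5 F480169)) (tt N92329 (iv6 F476386)) (tt N111031 F476388))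
theorem Q111444 : ∀ i, i < 111444 → P i := stepQ 111443 Q111443 (allL N111443 (tt N79247 (iv1 D214685)) (tt N111032 F476393) (tt N111031 (iv2 F476394)) (tt N91293 (iv3 F476390)) (tt N95450 (iv4 F476391)) (tt N112237 (iv5 F480175)) (tt N89888 F476392) (tt N92330 F476389))
theorem Q111445 : ∀ i, i < 111445 → P i := stepQ 111444 Q111444 (allL N111444 (tt N92330 (iv1 F476399)) (tt N111031 F476398) (tt N79247 (iv2 D214686)) (tt N80073 F476395) (tt N82404 F476396) (tt N122074 D225333) (tt N112428 F481052) (tt N111032 F476397))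
theorem Q111446 : ∀ i, i < 111446 → P i := stepQ 111445 Q111445 (allL N111445 (tt N111981 F479255) (tt N110597 F476402) (tt N122074 (iv2 F530004)) (tt N79248 F476400) (tt N122075 D225334) (tt N79247 (iv5 D214687)) (tt N112459 (iv6 F481184)) (tt N111033 F476401))
theorem Q111447 : ∀ i, i < 111447 → P i := stepQ 111446 Q111446 (allL N111446 (tt N86872 F476406) (tt N112430 F481065) (tt N112428 (iv2 F481053)) (tt N79249 F476403) (tt N82406 F476404) (tt N112460 (iv5 F481188)) (tt N79247 (iv6 D214688)) (tt N79840 F476405))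
theorem Q111448 : ∀ i, i < 111448 → P i := stepQ 111447 Q111447 (allL N111447 (tt N111646 F481222) (tt N111647 (iv0 F477294)) (tt N111051 F476407) (tt N112459 (iv3 F481183)) (tt N85751 F476408) (tt N112458 F481182) (tt N79248 (iv6 D214689)) (tt N122076 D225335))
theorem Q111449 : ∀ i, i < 111449 → P i := stepQ 111448 Q111448 (allL N111448 (tt N79866 F476411) (tt N79865 F476412) (tt N79868 F476409) (tt N112460 (iv3 F481186)) (tt N111743 (iv4 F477756)) (tt N79249 (iv5 D214690)) (tt N112458 (iv6 F481180)) (tt N79841 F476410))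
theorem Q111450 : ∀ i, i < 111450 → P i := stepQ 111449 Q111449 (allL N111449 (tt N82487 F476414) (tt N111701 F477574) (tt N101537 F476413) (tt N118131 F508769) (tt N79250 (iv4 D214691)) (tt N120561 (iv5 F521460)) (tt N101956 (iv6 F476415)) (tt N111476 (iv7 F476523)))
theorem Q111451 : ∀ i, i < 111451 → P i := stepQ 111450 Q111450 (allL N111450 (tt N118942 F512881) (tt N79861 (iv0 F476420)) (tt N101959 F476416) (tt N93163 F476417) (tt N101956 F476418) (tt N115698 F496380) (tt N79250 (iv6 D214692)) (tt N91186 F476419))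
theorem Q111452 : ∀ i, i < 111452 → P i := stepQ 111451 Q111451 (allL N111451 (tt N91300 F476422) (tt N114809 F491987) (tt N114226 (iv2 F489085)) (tt N79251 (iv3 D214693)) (tt N118698 (iv4 F511605)) (tt N119444 (iv5 F515654)) (tt N91187 F476421) (tt N111477 (iv7 F476525)))
theorem Q111453 : ∀ i, i < 111453 → P i := stepQ 111452 Q111452 (allL N111452 (tt N79314 F476425) (tt N111877 (iv0 F478457)) (tt N111401 F476423) (tt N119444 F515655) (tt N111399 F476426) (tt N79251 (iv5 D214694)) (tt N111403 F476424) (tt N111478 (iv7 F476528)))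
theorem Q111454 : ∀ i, i < 111454 → P i := stepQ 111453 Q111453 (allL N111453 (tt N79253 (iv1 D214695)) (tt N111479 F476535) (tt N111418 (iv2 F476429)) (tt N117615 (iv3 F506009)) (tt N111417 F476428) (tt N80244 F476427) (tt N117034 (iv6 F503065)) (tt N111480 (iv7 F476537)))
theorem Q111455 : ∀ i, i < 111455 → P i := stepQ 111454 Q111454 (allL N111454 (tt N122077 D225336) (tt N111702 (iv0 F477577)) (tt N115989 (iv2 F497927)) (tt N100542 F476430) (tt N79253 (iv4 D214696)) (tt N100540 F476432) (tt N108851 F476431) (tt N111481 (iv7 F476544)))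
theorem Q111456 : ∀ i, i < 111456 → P i := stepQ 111455 Q111455 (allL N111455 (tt N79254 (iv1 D214697)) (tt N111487 F476573) (tt N111486 F476567) (tt N84503 (iv3 F476435)) (tt N111483 F476554) (tt N89946 F476434) (tt N122078 D225337) (tt N89945 F476433))
theorem Q111457 : ∀ i, i < 111457 → P i := stepQ 111456 Q111456 (allL N111456 (tt N119244 (iv1 F514592)) (tt N121068 (iv0 F524344)) (tt N81155 F476436) (tt N91894 F476437) (tt N111052 F476438) (tt N81015 F476439) (tt N79258 (iv6 D214698)) (tt N117676 (iv7 F506363)))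
theorem Q111458 : ∀ i, i < 111458 → P i := stepQ 111457 Q111457 (allL N111457 (tt N111484 (iv1 F476558)) (tt N95435 F476443) (tt N79261 F476440) (tt N111877 (iv3 F478455)) (tt N104049 F476441) (tt N79260 (iv5 D214699)) (tt N97129 F476442) (tt N111787 (iv7 F477973)))
theorem Q111459 : ∀ i, i < 111459 → P i := stepQ 111458 Q111458 (allL N111458 (tt N111787 (iv1 F477975)) (tt N79261 (iv0 D214700)) (tt N111484 (iv2 F476556)) (tt N95313 F476445) (tt N115509 (iv4 F495555)) (tt N79631 F476444) (tt N108593 F476446) (tt N95435 (iv7 F476448)))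
theorem Q111460 : ∀ i, i < 111460 → P i := stepQ 111459 Q111459 (allL N111459 (tt N79261 (iv1 D214701)) (tt N111787 F477974) (tt N95435 (iv2 F476450)) (tt N102978 (iv3 F476451)) (tt N111622 (iv4 F477189)) (tt N79632 F476449) (tt N111621 F477187) (tt N111484 (iv7 F476557)))
theorem Q111461 : ∀ i, i < 111461 → P i := stepQ 111460 Q111460 (allL N111460 (tt N111882 (iv1 F478479)) (tt N79262 (iv0 D214702)) (tt N111880 F478469) (tt N122079 D225338) (tt N109545 F476452) (tt N90599 F476453) (tt N115595 F495919) (tt N111881 F478468))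
theorem Q111462 : ∀ i, i < 111462 → P i := stepQ 111461 Q111461 (allL N111461 (tt N79262 (iv1 D214703)) (tt N111882 F478478) (tt N111881 (iv2 F478472)) (tt N112091 (iv3 F479453)) (tt N111883 F478484) (tt N99688 F476454) (tt N112090 (iv6 F479450)) (tt N111880 F478471))
theorem Q111463 : ∀ i, i < 111463 → P i := stepQ 111462 Q111462 (allL N111462 (tt N111881 (iv1 F478466)) (tt N111880 F478473) (tt N111882 (iv2 F478474)) (tt N97127 F476455) (tt N88039 F476456) (tt N97126 F476457) (tt N111785 (iv6 F477958)) (tt N79262 (iv7 D214704)))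
theorem Q111464 : ∀ i, i < 111464 → P i := stepQ 111463 Q111463 (allL N111463 (tt N102351 F476461) (tt N111863 (iv0 F478375)) (tt N92689 F476458) (tt N119377 (iv3 F515301)) (tt N79265 (iv4 D214705)) (tt N93191 F476460) (tt N92687 F476459) (tt N111873 (iv7 F478432)))
theorem Q111465 : ∀ i, i < 111465 → P i := stepQ 111464 Q111464 (allL N111464 (tt N111640 (iv1 F477268)) (tt N79629 (iv0 F476464)) (tt N111639 (iv2 F477263)) (tt N118888 F512593) (tt N104988 F476463) (tt N79265 (iv5 D214706)) (tt N87177 F476462) (tt N111638 F477259))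
theorem Q111466 : ∀ i, i < 111466 → P i := stepQ 111465 Q111465 (allL N111465 (tt N111934 (iv1 F478746)) (tt N91985 (iv0 F476468)) (tt N106724 F476465) (tt N79266 (iv3 D214707)) (tt N108777 F476466) (tt N119324 (iv5 F515022)) (tt N106691 F476467) (tt N111875 (iv7 F478446)))
theorem Q111467 : ∀ i, i < 111467 → P i := stepQ 111466 Q111466 (allL N111466 (tt N79629 F476470) (tt N111640 F477269) (tt N111638 F477258) (tt N119324 (iv3 F515020)) (tt N104990 F476469) (tt N79266 (iv5 D214708)) (tt N119323 (iv6 F515014)) (tt N111639 (iv7 F477260)))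
theorem Q111468 : ∀ i, i < 111468 → P i := stepQ 111467 Q111467 (allL N111467 (tt N104899 F476476) (tt N111309 F476475) (tt N79268 F476471) (tt N79322 F476472) (tt N94436 F476473) (tt N79267 (iv5 D214709)) (tt N84615 F476474) (tt N111504 (iv7 F476637)))
theorem Q111469 : ∀ i, i < 111469 → P i := stepQ 111468 Q111468 (allL N111468 (tt N111504 (iv1 F476638)) (tt N79268 (iv0 D214710)) (tt N104899 (iv2 F476479)) (tt N114844 (iv3 F492149)) (tt N104991 F476640) (tt N100713 F476477) (tt N97251 F476478) (tt N111309 F476480))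
theorem Q111470 : ∀ i, i < 111470 → P i := stepQ 111469 Q111469 (allL N111469 (tt N79329 (iv1 F476489)) (tt N79269 (iv0 D214711)) (tt N79327 (iv2 F476482)) (tt N112249 (iv3 F480219)) (tt N122038 (iv4 F529779)) (tt N91515 F476481) (tt N117616 (iv6 F506017)) (tt N79328 (iv7 F476483)))
theorem Q111471 : ∀ i, i < 111471 → P i := stepQ 111470 Q111470 (allL N111470 (tt N79269 (iv1 D214712)) (tt N79329 F476484) (tt N79328 F476488) (tt N115627 (iv3 F496039)) (tt N122039 (iv4 F529786)) (tt N91514 (iv5 F476487)) (tt N88037 (iv6 F476486)) (tt N79327 F476485))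
theorem Q111472 : ∀ i, i < 111472 → P i := stepQ 111471 Q111471 (allL N111471 (tt N79328 (iv1 F476494)) (tt N79327 F476495) (tt N79329 F476490) (tt N108528 F476491) (tt N80269 F476492) (tt N91870 F476493) (tt N111507 (iv6 F476645)) (tt N79269 (iv7 D214713)))
theorem Q111473 : ∀ i, i < 111473 → P i := stepQ 111472 Q111472 (allL N111472 (tt N100679 F476500) (tt N100704 (iv0 F476501)) (tt N100700 F476496) (tt N102256 F476497) (tt N95036 F476498) (tt N112194 (iv5 F479998)) (tt N79282 (iv6 D214714)) (tt N100703 F476499))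
theorem Q111474 : ∀ i, i < 111474 → P i := stepQ 111473 Q111473 (allL N111473 (tt N88664 (iv1 F476507)) (tt N88644 F476508) (tt N109274 F476502) (tt N94108 F476503) (tt N80884 F476504) (tt N95787 F476505) (tt N109325 F476506) (tt N79284 (iv7 D214715)))
theorem Q111475 : ∀ i, i < 111475 → P i := stepQ 111474 Q111474 (allL N111474 (tt N93833 F476513) (tt N93837 (iv0 F476514)) (tt N94756 F476509) (tt N79287 (iv3 D214716)) (tt N94748 F476510) (tt N94756 F476511) (tt N93436 F476512) (tt N118362 (iv7 F509927)))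
theorem Q111476 : ∀ i, i < 111476 → P i := stepQ 111475 Q111475 (allL N111475 (tt N106095 F476521) (tt N106094 F476519) (tt N95598 F476515) (tt N79293 F476516) (tt N81746 F476520) (tt N79292 (iv5 D214717)) (tt N80656 F476517) (tt N106093 F476518))
theorem Q111477 : ∀ i, i < 111477 → P i := stepQ 111476 Q111476 (allL N111476 (tt N79821 F476524) (tt N112854 F482981) (tt N111383 F476522) (tt N112407 (iv3 F480975)) (tt N79300 (iv4 D214718)) (tt N122072 (iv5 F529994)) (tt N111719 (iv6 F477647)) (tt N111449 F476523))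
theorem Q111478 : ∀ i, i < 111478 → P i := stepQ 111477 Q111477 (allL N111477 (tt N96802 F476526) (tt N91954 F489091) (tt N112404 (iv2 F480962)) (tt N79301 (iv3 D214719)) (tt N120501 (iv4 F521114)) (tt N121724 (iv5 F527967)) (tt N115694 F496358) (tt N111451 F476525))
theorem Q111479 : ∀ i, i < 111479 → P i := stepQ 111478 Q111478 (allL N111478 (tt N80246 F476529) (tt N111488 (iv0 F476577)) (tt N101574 F476527) (tt N121724 (iv3 F527965)) (tt N101571 F476530) (tt N79301 (iv5 D214720)) (tt N121723 F527962) (tt N111452 F476528))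
theorem Q111480 : ∀ i, i < 111480 → P i := stepQ 111479 Q111479 (allL N111479 (tt N111453 (iv1 F476535)) (tt N101592 F476534) (tt N79303 F476531) (tt N111625 (iv3 F477203)) (tt N120560 (iv4 F521456)) (tt N79302 (iv5 D214721)) (tt N108283 F476532) (tt N88107 F476533))
theorem Q111481 : ∀ i, i < 111481 → P i := stepQ 111480 Q111480 (allL N111480 (tt N79303 (iv1 D214722)) (tt N88107 F476536) (tt N101592 F476541) (tt N115654 (iv3 F496168)) (tt N101591 F476539) (tt N79312 F476538) (tt N95606 (iv6 F476540)) (tt N111453 F476537))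
theorem Q111482 : ∀ i, i < 111482 → P i := stepQ 111481 Q111481 (allL N111481 (tt N122080 D225339) (tt N112855 (iv0 F482985)) (tt N120560 (iv2 F521455)) (tt N87305 F476542) (tt N79303 (iv4 D214723)) (tt N111389 F476545) (tt N87304 F476543) (tt N111454 F476544))
theorem Q111483 : ∀ i, i < 111483 → P i := stepQ 111482 Q111482 (allL N111482 (tt N91507 (iv1 F476549)) (tt N79304 (iv0 D214724)) (tt N102082 (iv2 F476548)) (tt N87080 F476547) (tt N107686 F476546) (tt N112695 (iv5 F482211)) (tt N111579 F476995) (tt N87078 F476550))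
theorem Q111484 : ∀ i, i < 111484 → P i := stepQ 111483 Q111483 (allL N111483 (tt N79305 (iv1 D214725)) (tt N90756 F476551) (tt N90758 (iv2 F476555)) (tt N115616 (iv3 F495984)) (tt N111455 (iv4 F476554)) (tt N89259 F476553) (tt N122081 D225340) (tt N89258 F476552))
theorem Q111485 : ∀ i, i < 111485 → P i := stepQ 111484 Q111484 (allL N111484 (tt N80251 F476559) (tt N111457 F476558) (tt N111458 F476556) (tt N111514 F476668) (tt N120945 (iv4 F523622)) (tt N79306 (iv5 D214726)) (tt N115643 (iv6 F496110)) (tt N111459 F476557))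
theorem Q111486 : ∀ i, i < 111486 → P i := stepQ 111485 Q111485 (allL N111485 (tt N104044 F476564) (tt N111626 F477210) (tt N79308 F476560) (tt N88107 F476561) (tt N110959 F476562) (tt N79307 (iv5 D214727)) (tt N84596 F476563) (tt N111625 (iv7 F477204)))
theorem Q111487 : ∀ i, i < 111487 → P i := stepQ 111486 Q111486 (allL N111486 (tt N79310 (iv1 D214728)) (tt N88108 F476565) (tt N111455 (iv2 F476567)) (tt N114706 (iv3 F491441)) (tt N90758 (iv4 F476568)) (tt N114330 (iv5 F489643)) (tt N122082 D225341) (tt N90757 F476566))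
theorem Q111488 : ∀ i, i < 111488 → P i := stepQ 111487 Q111487 (allL N111487 (tt N111455 (iv1 F476573)) (tt N90757 F476574) (tt N88108 F476569) (tt N84594 F476570) (tt N111503 (iv4 F476630)) (tt N82830 F476571) (tt N90756 F476572) (tt N79310 (iv7 D214729)))
theorem Q111489 : ∀ i, i < 111489 → P i := stepQ 111488 Q111488 (allL N111488 (tt N111478 F476577) (tt N111401 F476576) (tt N79314 F476575) (tt N111787 (iv3 F477970)) (tt N122072 (iv4 F529995)) (tt N79313 (iv5 D214730)) (tt N111786 F477968) (tt N111877 (iv7 F478456)))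
theorem Q111490 : ∀ i, i < 111490 → P i := stepQ 111489 Q111489 (allL N111489 (tt N122071 (iv1 F529991)) (tt N101896 F476580) (tt N122072 (iv2 F529997)) (tt N100547 F476578) (tt N79314 (iv4 D214731)) (tt N111383 F476579) (tt N115983 (iv6 F497901)) (tt N111878 (iv7 F478460)))
theorem Q111491 : ∀ i, i < 111491 → P i := stepQ 111490 Q111490 (allL N111490 (tt N111785 (iv1 F477962)) (tt N79315 (iv0 D214732)) (tt N109545 (iv2 F476583)) (tt N113886 (iv3 F487634)) (tt N111880 (iv4 F478470)) (tt N84031 F476581) (tt N84032 F476582) (tt N111883 (iv7 F478481)))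
theorem Q111492 : ∀ i, i < 111492 → P i := stepQ 111491 Q111491 (allL N111491 (tt N79315 (iv1 D214733)) (tt N111785 F477961) (tt N111883 F478483) (tt N102976 (iv3 F476586)) (tt N111881 (iv4 F478467)) (tt N109546 F476585) (tt N122083 D225342) (tt N109545 F476584))
theorem Q111493 : ∀ i, i < 111493 → P i := stepQ 111492 Q111492 (allL N111492 (tt N111883 (iv1 F478480)) (tt N109545 (iv0 F476589)) (tt N111785 F477960) (tt N115971 (iv3 F497836)) (tt N111059 F476587) (tt N84215 F476588) (tt N111882 (iv6 F478477)) (tt N79315 (iv7 D214734)))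
theorem Q111494 : ∀ i, i < 111494 → P i := stepQ 111493 Q111493 (allL N111493 (tt N79317 (iv1 D214735)) (tt N80576 F476590) (tt N81021 F476593) (tt N111934 (iv3 F478745)) (tt N96627 (iv4 F476591)) (tt N112094 (iv5 F479465)) (tt N80788 (iv6 F476592)) (tt N111890 (iv7 F478525)))
theorem Q111495 : ∀ i, i < 111495 → P i := stepQ 111494 Q111494 (allL N111494 (tt N120508 F521161) (tt N122084 D225343) (tt N122034 (iv2 F529761)) (tt N79318 F476594) (tt N119558 (iv4 F516242)) (tt N79317 (iv5 D214736)) (tt N87215 F476595) (tt N111891 (iv7 F478530)))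
theorem Q111496 : ∀ i, i < 111496 → P i := stepQ 111495 Q111495 (allL N111495 (tt N100722 F476598) (tt N115548 F495725) (tt N111894 (iv2 F478540)) (tt N108749 (iv3 F476599)) (tt N79318 (iv4 D214737)) (tt N84680 F476597) (tt N87216 F476596) (tt N111892 (iv7 F478533)))
theorem Q111497 : ∀ i, i < 111497 → P i := stepQ 111496 Q111496 (allL N111496 (tt N95586 (iv1 F476604)) (tt N95647 F476603) (tt N79319 (iv2 D214738)) (tt N80576 F476600) (tt N101895 F476601) (tt N118731 (iv5 F511790)) (tt N118940 (iv6 F512868)) (tt N95627 F476602))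
theorem Q111498 : ∀ i, i < 111498 → P i := stepQ 111497 Q111497 (allL N111497 (tt N118885 (iv1 F512584)) (tt N95651 (iv0 F476607)) (tt N118731 (iv2 F511788)) (tt N79320 F476605) (tt N101572 F476606) (tt N79319 (iv5 D214739)) (tt N118936 (iv6 F512840)) (tt N111893 (iv7 F478537)))
theorem Q111499 : ∀ i, i < 111499 → P i := stepQ 111498 Q111498 (allL N111498 (tt N115548 F495724) (tt N100722 F476609) (tt N111892 (iv2 F478531)) (tt N121071 (iv3 F524361)) (tt N79320 (iv4 D214740)) (tt N84681 F476608) (tt N84578 (iv6 F476610)) (tt N111894 (iv7 F478543)))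
theorem Q111500 : ∀ i, i < 111500 → P i := stepQ 111499 Q111499 (allL N111499 (tt N114193 (iv1 F488935)) (tt N84518 (iv0 F476614)) (tt N91661 F476611) (tt N118936 (iv3 F512838)) (tt N84578 F476612) (tt N91497 (iv5 F476615)) (tt N79320 (iv6 D214741)) (tt N87214 F476613))
theorem Q111501 : ∀ i, i < 111501 → P i := stepQ 111500 Q111500 (allL N111500 (tt N79506 F476618) (tt N108932 F476619) (tt N91662 F476616) (tt N118867 F512490) (tt N117552 (iv4 F505654)) (tt N79321 (iv5 D214742)) (tt N91497 F476617) (tt N112502 (iv7 F481389)))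
theorem Q111502 : ∀ i, i < 111502 → P i := stepQ 111501 Q111501 (allL N111501 (tt N112273 (iv1 F480306)) (tt N112094 F479467) (tt N112272 F480299) (tt N79323 (iv3 D214743)) (tt N122085 D225344) (tt N100718 F476620) (tt N115547 (iv6 F495722)) (tt N84184 F476621))
theorem Q111503 : ∀ i, i < 111503 → P i := stepQ 111502 Q111502 (allL N111502 (tt N79324 (iv1 D214744)) (tt N87994 F476622) (tt N90728 (iv2 F476626)) (tt N87498 (iv3 F476627)) (tt N87301 F476625) (tt N89247 F476624) (tt N120941 (iv6 F523598)) (tt N89246 F476623))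
theorem Q111504 : ∀ i, i < 111504 → P i := stepQ 111503 Q111503 (allL N111503 (tt N90728 (iv1 F476633)) (tt N89246 F476634) (tt N87994 F476628) (tt N95410 F476629) (tt N111487 F476630) (tt N95396 F476631) (tt N84571 F476632) (tt N79324 (iv7 D214745)))
theorem Q111505 : ∀ i, i < 111505 → P i := stepQ 111504 Q111504 (allL N111504 (tt N87181 (iv1 F476639)) (tt N111468 F476638) (tt N79325 (iv2 D214746)) (tt N80264 F476635) (tt N114136 (iv4 F488697)) (tt N80242 F476636) (tt N114135 F488695) (tt N111467 F476637))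
theorem Q111506 : ∀ i, i < 111506 → P i := stepQ 111505 Q111505 (allL N111505 (tt N80269 (iv1 F476646)) (tt N79326 (iv0 D214747)) (tt N80267 F492218) (tt N114160 F492219) (tt N119244 (iv4 F514590)) (tt N114159 F492220) (tt N114861 (iv6 F492217)) (tt N80268 F492221))
theorem Q111507 : ∀ i, i < 111507 → P i := stepQ 111506 Q111506 (allL N111506 (tt N79326 (iv1 D214748)) (tt N80269 F476641) (tt N80268 F492222) (tt N118899 (iv3 F512648)) (tt N121068 (iv4 F524340)) (tt N122086 D225345) (tt N117576 (iv6 F505803)) (tt N80267 F492223))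
theorem Q111508 : ∀ i, i < 111508 → P i := stepQ 111507 Q111507 (allL N111507 (tt N80268 (iv1 F476647)) (tt N80267 F476648) (tt N80269 F476642) (tt N84619 F476643) (tt N79329 F476644) (tt N112271 (iv5 F480295)) (tt N111471 F476645) (tt N79326 (iv7 D214749)))
theorem Q111509 : ∀ i, i < 111509 → P i := stepQ 111508 Q111508 (allL N111508 (tt N112257 F480248) (tt N95427 (iv0 F495295)) (tt N115629 (iv2 F496046)) (tt N79327 (iv3 D214750)) (tt N115626 (iv4 F496035)) (tt N96827 F476649) (tt N115459 F495294) (tt N115627 (iv7 F496037)))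
theorem Q111510 : ∀ i, i < 111510 → P i := stepQ 111509 Q111509 (allL N111509 (tt N121044 F524199) (tt N80543 F476650) (tt N122038 F529782) (tt N115645 (iv3 F496118)) (tt N79327 (iv4 D214751)) (tt N122087 D225346) (tt N114838 F492126) (tt N122039 (iv7 F529785)))
theorem Q111511 : ∀ i, i < 111511 → P i := stepQ 111510 Q111510 (allL N111510 (tt N115578 F495847) (tt N114149 (iv0 F495291)) (tt N117616 (iv2 F506015)) (tt N115459 (iv3 F495292)) (tt N114838 (iv4 F492127)) (tt N115458 F495290) (tt N79327 (iv6 D214752)) (tt N117665 (iv7 F506299)))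
theorem Q111512 : ∀ i, i < 111512 → P i := stepQ 111511 Q111511 (allL N111511 (tt N80543 F476651) (tt N121044 (iv0 F524198)) (tt N122039 (iv2 F529790)) (tt N121653 (iv3 F527556)) (tt N79328 (iv4 D214753)) (tt N122088 D225347) (tt N115565 (iv6 F495799)) (tt N122038 F529783))
theorem Q111513 : ∀ i, i < 111513 → P i := stepQ 111512 Q111512 (allL N111512 (tt N79424 F476657) (tt N91395 F476658) (tt N91396 F476652) (tt N106439 F476653) (tt N91279 F476654) (tt N79339 (iv5 D214754)) (tt N91405 F476655) (tt N90201 F476656))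
theorem Q111514 : ∀ i, i < 111514 → P i := stepQ 111513 Q111513 (allL N111513 (tt N79348 (iv1 F476660)) (tt N79344 (iv0 D214755)) (tt N102978 F476662) (tt N95314 (iv3 F476661)) (tt N120269 (iv4 F519928)) (tt N79654 F476659) (tt N114811 (iv6 F491997)) (tt N91916 F476663))
theorem Q111515 : ∀ i, i < 111515 → P i := stepQ 111514 Q111514 (allL N111514 (tt N79344 (iv1 D214756)) (tt N79348 F476664) (tt N91916 (iv2 F476667)) (tt N111484 (iv3 F476668)) (tt N115968 (iv4 F497821)) (tt N79655 F476666) (tt N87390 (iv6 F476669)) (tt N102978 F476665))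
theorem Q111516 : ∀ i, i < 111516 → P i := stepQ 111515 Q111515 (allL N111515 (tt N114811 (iv1 F492000)) (tt N79646 F476674) (tt N88315 F476670) (tt N115475 (iv3 F495370)) (tt N79344 (iv4 D214757)) (tt N83590 F476673) (tt N87218 F476671) (tt N88316 F476672))
theorem Q111517 : ∀ i, i < 111517 → P i := stepQ 111516 Q111516 (allL N111516 (tt N95104 F476679) (tt N102286 (iv0 F476680)) (tt N80063 F476675) (tt N79345 (iv3 D214758)) (tt N79347 F476676) (tt N104117 F476677) (tt N81003 F476681) (tt N94032 F476678))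
theorem Q111518 : ∀ i, i < 111518 → P i := stepQ 111517 Q111517 (allL N111517 (tt N81207 F476687) (tt N99611 (iv0 F476688)) (tt N100707 F476682) (tt N81003 F476683) (tt N79346 F476684) (tt N104264 F476685) (tt N79345 (iv6 D214759)) (tt N100706 F476686))
theorem Q111519 : ∀ i, i < 111519 → P i := stepQ 111518 Q111518 (allL N111518 (tt N114832 (iv1 F492108)) (tt N80075 F476692) (tt N114835 F492122) (tt N79348 F476689) (tt N106415 F476691) (tt N79347 (iv5 D214760)) (tt N122089 D225348) (tt N102972 F476690))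
theorem Q111520 : ∀ i, i < 111520 → P i := stepQ 111519 Q111519 (allL N111519 (tt N79646 F476696) (tt N114811 (iv0 F491999)) (tt N88316 F476693) (tt N122090 D225349) (tt N79348 (iv4 D214761)) (tt N83591 F476694) (tt N84519 (iv6 F476697)) (tt N88315 F476695))
theorem Q111521 : ∀ i, i < 111521 → P i := stepQ 111520 Q111520 (allL N111520 (tt N108530 F476701) (tt N84496 (iv0 F476702)) (tt N91600 F476698) (tt N122089 (iv3 F530089)) (tt N84519 F476699) (tt N91482 (iv5 F476703)) (tt N79348 (iv6 D214762)) (tt N87383 F476700))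
theorem Q111522 : ∀ i, i < 111522 → P i := stepQ 111521 Q111521 (allL N111521 (tt N102323 (iv1 F476709)) (tt N95336 F476708) (tt N91601 F476704) (tt N111110 F476705) (tt N122091 D225350) (tt N79349 (iv5 D214763)) (tt N91482 F476706) (tt N91551 F476707))
theorem Q111523 : ∀ i, i < 111523 → P i := stepQ 111522 Q111522 (allL N111522 (tt N96010 (iv1 F476716)) (tt N96468 F476715) (tt N79357 (iv2 D214764)) (tt N91183 F476710) (tt N79360 F476711) (tt N101798 F476712) (tt N101799 F476713) (tt N111026 F476714))
theorem Q111524 : ∀ i, i < 111524 → P i := stepQ 111523 Q111523 (allL N111523 (tt N88280 F476721) (tt N88279 F476722) (tt N79361 F476717) (tt N88301 F476718) (tt N88317 (iv4 F476723)) (tt N79360 (iv5 D214765)) (tt N79718 F476719) (tt N88281 F476720))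
theorem Q111525 : ∀ i, i < 111525 → P i := stepQ 111524 Q111524 (allL N111524 (tt N88281 (iv1 F476730)) (tt N79361 (iv0 D214766)) (tt N88280 (iv2 F476731)) (tt N112508 (iv3 F481421)) (tt N112409 (iv4 F480981)) (tt N80211 F476728) (tt N88323 F476729) (tt N88279 (iv7 F476732)))
theorem Q111526 : ∀ i, i < 111526 → P i := stepQ 111525 Q111525 (allL N111525 (tt N79361 (iv1 D214767)) (tt N88281 F476733) (tt N88279 F476738) (tt N88324 (iv3 F476735)) (tt N115909 (iv4 F497541)) (tt N80212 (iv5 F476736)) (tt N85688 (iv6 F476737)) (tt N88280 F476734))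
theorem Q111527 : ∀ i, i < 111527 → P i := stepQ 111526 Q111526 (allL N111526 (tt N116012 (iv1 F498043)) (tt N85694 F476743) (tt N88317 F476739) (tt N84689 F476740) (tt N79361 (iv4 D214768)) (tt N113569 (iv5 F486072)) (tt N83591 F476741) (tt N88269 F476742))
theorem Q111528 : ∀ i, i < 111528 → P i := stepQ 111527 Q111527 (allL N111527 (tt N88304 (iv1 F476749)) (tt N88303 F476750) (tt N88306 F476744) (tt N79716 F476745) (tt N84692 F476746) (tt N79715 F476747) (tt N88286 F476748) (tt N79362 (iv7 D214769)))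
theorem Q111529 : ∀ i, i < 111529 → P i := stepQ 111528 Q111528 (allL N111528 (tt N91848 F476756) (tt N97621 F476757) (tt N80932 F476751) (tt N95372 F476752) (tt N79370 (iv4 D214770)) (tt N80931 F476755) (tt N91282 F476753) (tt N90678 F476754))
theorem Q111530 : ∀ i, i < 111530 → P i := stepQ 111529 Q111529 (allL N111529 (tt N108040 F476763) (tt N108044 F476764) (tt N93695 F476758) (tt N82307 F476759) (tt N79378 (iv4 D214771)) (tt N94242 F476762) (tt N79382 F476760) (tt N108042 F476761))
theorem Q111531 : ∀ i, i < 111531 → P i := stepQ 111530 Q111530 (allL N111530 (tt N90477 F476768) (tt N90464 F476769) (tt N90473 F476765) (tt N110295 F476766) (tt N79381 (iv4 D214772)) (tt N120960 (iv5 F523715)) (tt N111603 (iv6 F477119)) (tt N90474 F476767))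
theorem Q111532 : ∀ i, i < 111532 → P i := stepQ 111531 Q111531 (allL N111531 (tt N107148 F476774) (tt N107151 F476775) (tt N94431 F476770) (tt N92868 F476771) (tt N110843 F476776) (tt N79396 (iv5 D214773)) (tt N93602 F476772) (tt N93394 F476773))
theorem Q111533 : ∀ i, i < 111533 → P i := stepQ 111532 Q111532 (allL N111532 (tt N108938 F476780) (tt N93959 F476781) (tt N108939 F476777) (tt N89072 F476778) (tt N79401 (iv4 D214774)) (tt N117107 (iv5 F503427)) (tt N116126 (iv6 F498612)) (tt N89972 F476779))
theorem Q111534 : ∀ i, i < 111534 → P i := stepQ 111533 Q111533 (allL N111533 (tt N93959 F476786) (tt N108938 F476787) (tt N89972 F476782) (tt N116980 (iv3 F502802)) (tt N79409 (iv4 D214775)) (tt N96175 F476785) (tt N109417 F476783) (tt N108939 F476784))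
theorem Q111535 : ∀ i, i < 111535 → P i := stepQ 111534 Q111534 (allL N111534 (tt N100401 F476792) (tt N100399 F476793) (tt N110825 F476788) (tt N121531 (iv3 F526885)) (tt N79413 (iv4 D214776)) (tt N99267 F476791) (tt N110621 F476789) (tt N110826 F476790))
theorem Q111536 : ∀ i, i < 111536 → P i := stepQ 111535 Q111535 (allL N111535 (tt N111909 (iv1 F478592)) (tt N107887 F476798) (tt N79417 F476794) (tt N116584 (iv3 F500849)) (tt N79416 (iv4 D214777)) (tt N109590 F476795) (tt N94645 F476796) (tt N82047 F476797))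
theorem Q111537 : ∀ i, i < 111537 → P i := stepQ 111536 Q111536 (allL N111536 (tt N79417 (iv1 D214778)) (tt N82047 F476799) (tt N107887 (iv2 F476802)) (tt N81098 (iv3 F476803)) (tt N81239 F476801) (tt N81097 F476800) (tt N107672 F476804) (tt N111909 (iv7 F478593)))
theorem Q111538 : ∀ i, i < 111538 → P i := stepQ 111537 Q111537 (allL N111537 (tt N112588 F481736) (tt N119858 F517735) (tt N101624 F476805) (tt N119846 (iv3 F517670)) (tt N79421 F476806) (tt N120417 (iv5 F520670)) (tt N79420 (iv6 D214779)) (tt N119857 (iv7 F517730)))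
theorem Q111539 : ∀ i, i < 111539 → P i := stepQ 111538 Q111538 (allL N111538 (tt N95693 F476810) (tt N112002 (iv0 F479027)) (tt N101628 F476807) (tt N118601 (iv3 F511103)) (tt N79422 (iv4 D214780)) (tt N101116 F476808) (tt N118136 (iv6 F508798)) (tt N101623 F476809))
theorem Q111540 : ∀ i, i < 111540 → P i := stepQ 111539 Q111539 (allL N111539 (tt N91182 (iv1 F476816)) (tt N82431 F476815) (tt N79429 (iv2 D214781)) (tt N111026 F476811) (tt N79845 F476812) (tt N118799 (iv5 F512136)) (tt N94948 F476813) (tt N91183 F476814))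
theorem Q111541 : ∀ i, i < 111541 → P i := stepQ 111540 Q111540 (allL N111540 (tt N108175 F476821) (tt N79430 (iv0 D214782)) (tt N88133 (iv2 F476820)) (tt N115668 (iv3 F496220)) (tt N79816 F476818) (tt N107866 F476817) (tt N88146 F476819) (tt N118152 (iv7 F508887)))
theorem Q111542 : ∀ i, i < 111542 → P i := stepQ 111541 Q111541 (allL N111541 (tt N79430 (iv1 D214783)) (tt N108175 F476822) (tt N118152 (iv2 F508884)) (tt N88135 F476827) (tt N79817 F476825) (tt N103177 F476824) (tt N105363 (iv6 F476826)) (tt N88133 F476823))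
theorem Q111543 : ∀ i, i < 111543 → P i := stepQ 111542 Q111542 (allL N111542 (tt N118152 (iv1 F508889)) (tt N88133 (iv0 F476833)) (tt N108175 F476828) (tt N108196 F476829) (tt N107845 F476830) (tt N102313 F476831) (tt N107845 F476832) (tt N79430 (iv7 D214784)))
theorem Q111544 : ∀ i, i < 111544 → P i := stepQ 111543 Q111543 (allL N111543 (tt N105717 F476837) (tt N80274 F476838) (tt N79833 F476834) (tt N117408 (iv3 F504885)) (tt N79431 (iv4 D214785)) (tt N113078 (iv5 F483873)) (tt N109238 F476835) (tt N79830 F476836))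
theorem Q111545 : ∀ i, i < 111545 → P i := stepQ 111544 Q111544 (allL N111544 (tt N112180 (iv1 F479926)) (tt N110572 F476843) (tt N79441 F476839) (tt N82195 F476840) (tt N118025 (iv4 F508155)) (tt N79435 (iv5 D214786)) (tt N82193 F476841) (tt N79443 F476842))
theorem Q111546 : ∀ i, i < 111546 → P i := stepQ 111545 Q111545 (allL N111545 (tt N79443 (iv1 F476846)) (tt N79441 (iv0 D214787)) (tt N112180 (iv2 F479922)) (tt N82218 (iv3 F476848)) (tt N119232 (iv4 F514506)) (tt N80912 F476844) (tt N100419 F476845) (tt N110572 F476847))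
theorem Q111547 : ∀ i, i < 111547 → P i := stepQ 111546 Q111546 (allL N111546 (tt N96027 F476850) (tt N118029 (iv0 F508181)) (tt N118030 (iv2 F508182)) (tt N120381 (iv3 F520482)) (tt N79443 (iv4 D214788)) (tt N120380 (iv5 F520477)) (tt N103185 F476849) (tt N118025 (iv7 F508157)))
theorem Q111548 : ∀ i, i < 111548 → P i := stepQ 111547 Q111547 (allL N111547 (tt N93516 F476856) (tt N93520 (iv0 F476857)) (tt N93518 F476851) (tt N108914 F476852) (tt N79444 (iv4 D214789)) (tt N86076 F476855) (tt N97409 F476853) (tt N93517 F476854))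
theorem Q111549 : ∀ i, i < 111549 → P i := stepQ 111548 Q111548 (allL N111548 (tt N93520 F476862) (tt N93516 F476863) (tt N93517 F476858) (tt N95086 (iv3 F476864)) (tt N79445 (iv4 D214790)) (tt N96428 F476859) (tt N95084 F476860) (tt N93518 F476861))
theorem Q111550 : ∀ i, i < 111550 → P i := stepQ 111549 Q111549 (allL N111549 (tt N97018 (iv1 F476872)) (tt N79446 (iv0 D214791)) (tt N108977 (iv2 F476867)) (tt N108865 F476868) (tt N81146 F476865) (tt N91443 F476869) (tt N91446 F476866) (tt N108868 F476870))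
theorem Q111551 : ∀ i, i < 111551 → P i := stepQ 111550 Q111550 (allL N111550 (tt N108974 F476876) (tt N108973 F476877) (tt N108976 F476873) (tt N79446 (iv3 D214792)) (tt N103127 F476874) (tt N117579 (iv5 F505815)) (tt N79456 F476875) (tt N99620 F476878))
theorem Q111552 : ∀ i, i < 111552 → P i := stepQ 111551 Q111551 (allL N111551 (tt N119123 F513911) (tt N119207 F514361) (tt N112192 (iv2 F479985)) (tt N117579 (iv3 F505818)) (tt N114948 (iv4 F492712)) (tt N79446 (iv5 D214793)) (tt N86167 (iv6 F476879)) (tt N119206 (iv7 F514356)))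
theorem Q111553 : ∀ i, i < 111553 → P i := stepQ 111552 Q111552 (allL N111552 (tt N108868 (iv1 F476884)) (tt N108977 F476885) (tt N97018 F476880) (tt N99620 F476881) (tt N79447 F476882) (tt N119206 (iv5 F514353)) (tt N96112 F476883) (tt N79446 (iv7 D214794)))
theorem Q111554 : ∀ i, i < 111554 → P i := stepQ 111553 Q111553 (allL N111553 (tt N81133 F476890) (tt N81134 F476891) (tt N108890 F476886) (tt N88071 F476887) (tt N79472 F476889) (tt N79449 (iv5 D214795)) (tt N87246 (iv6 F476892)) (tt N108888 F476888))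
theorem Q111555 : ∀ i, i < 111555 → P i := stepQ 111554 Q111554 (allL N111554 (tt N121676 (iv1 F527681)) (tt N93915 (iv0 F476897)) (tt N100750 F476893) (tt N79452 (iv3 D214796)) (tt N118290 (iv4 F509547)) (tt N79815 (iv5 F476896)) (tt N100742 F476894) (tt N108889 F476895))
theorem Q111556 : ∀ i, i < 111556 → P i := stepQ 111555 Q111555 (allL N111555 (tt N81134 F476903) (tt N81133 F476904) (tt N108888 F476898) (tt N79815 F476899) (tt N79471 F476900) (tt N79452 (iv5 D214797)) (tt N79814 F476901) (tt N108890 F476902))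
theorem Q111557 : ∀ i, i < 111557 → P i := stepQ 111556 Q111556 (allL N111556 (tt N93873 F476908) (tt N93877 (iv0 F476909)) (tt N93875 F476905) (tt N79454 (iv3 D214798)) (tt N112370 (iv4 F480777)) (tt N122092 D225351) (tt N110185 F476906) (tt N93874 F476907))
theorem Q111558 : ∀ i, i < 111558 → P i := stepQ 111557 Q111557 (allL N111557 (tt N81122 F476911) (tt N81129 F476912) (tt N112188 (iv2 F479962)) (tt N122092 (iv3 F530108)) (tt N79470 F476910) (tt N79454 (iv5 D214799)) (tt N87271 F476913) (tt N112189 (iv7 F479970)))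
theorem Q111559 : ∀ i, i < 111559 → P i := stepQ 111558 Q111558 (allL N111558 (tt N81129 F476916) (tt N81122 F476917) (tt N112189 (iv2 F479968)) (tt N87293 F476914) (tt N79466 F476915) (tt N79455 (iv5 D214800)) (tt N119128 (iv6 F513936)) (tt N112188 (iv7 F479964)))
theorem Q111560 : ∀ i, i < 111560 → P i := stepQ 111559 Q111559 (allL N111559 (tt N79456 (iv1 D214801)) (tt N97008 F476923) (tt N108967 (iv2 F476919)) (tt N108841 (iv3 F476920)) (tt N115592 (iv4 F495910)) (tt N119223 (iv5 F514454)) (tt N117535 (iv6 F505576)) (tt N108847 F476918))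
theorem Q111561 : ∀ i, i < 111561 → P i := stepQ 111560 Q111560 (allL N111560 (tt N108847 (iv1 F476929)) (tt N108967 F476928) (tt N79456 (iv2 D214802)) (tt N97016 F476924) (tt N103138 F476925) (tt N114201 (iv5 F488961)) (tt N108976 F476926) (tt N97008 F476927))
theorem Q111562 : ∀ i, i < 111562 → P i := stepQ 111561 Q111561 (allL N111561 (tt N115590 F495897) (tt N87996 (iv0 F476933)) (tt N114201 (iv2 F488959)) (tt N79457 F476930) (tt N87342 F476932) (tt N79456 (iv5 D214803)) (tt N113572 (iv6 F486079)) (tt N108968 F476931))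
theorem Q111563 : ∀ i, i < 111563 → P i := stepQ 111562 Q111562 (allL N111562 (tt N118737 F511815) (tt N118736 F511810) (tt N112191 (iv2 F479980)) (tt N113572 F486080) (tt N112094 (iv4 F479464)) (tt N86167 F476934) (tt N79457 (iv6 D214804)) (tt N118738 (iv7 F511820)))
theorem Q111564 : ∀ i, i < 111564 → P i := stepQ 111563 Q111563 (allL N111563 (tt N112667 (iv1 F482092)) (tt N111199 F476938) (tt N110536 F476936) (tt N117332 F504497) (tt N79460 (iv4 D214805)) (tt N114971 (iv5 F492836)) (tt N81204 F476939) (tt N80829 F476937))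
theorem Q111565 : ∀ i, i < 111565 → P i := stepQ 111564 Q111564 (allL N111564 (tt N81799 F476945) (tt N81808 (iv0 F476946)) (tt N79517 F476940) (tt N79462 F476941) (tt N81204 F476942) (tt N79515 F476943) (tt N79460 (iv6 D214806)) (tt N81423 F476944))
theorem Q111566 : ∀ i, i < 111566 → P i := stepQ 111565 Q111565 (allL N111565 (tt N84624 F476950) (tt N114142 F488730) (tt N114141 F488723) (tt N79464 F476947) (tt N87963 F476949) (tt N79463 (iv5 D214807)) (tt N115625 (iv6 F496026)) (tt N91191 F476948))
theorem Q111567 : ∀ i, i < 111567 → P i := stepQ 111566 Q111566 (allL N111566 (tt N121107 (iv1 F524550)) (tt N122093 D225352) (tt N113659 (iv2 F486519)) (tt N115625 (iv3 F496025)) (tt N81258 F476951) (tt N101235 F476952) (tt N79464 (iv6 D214808)) (tt N115628 (iv7 F496043)))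
theorem Q111568 : ∀ i, i < 111568 → P i := stepQ 111567 Q111567 (allL N111567 (tt N84495 F476958) (tt N87250 F476957) (tt N87248 F476953) (tt N79466 F476954) (tt N87292 F476956) (tt N79465 (iv5 D214809)) (tt N95621 (iv6 F476959)) (tt N87249 F476955))
theorem Q111569 : ∀ i, i < 111569 → P i := stepQ 111568 Q111568 (allL N111568 (tt N122065 (iv1 F529955)) (tt N122063 (iv0 F529941)) (tt N112239 (iv2 F480182)) (tt N95621 F476960) (tt N119128 (iv4 F513934)) (tt N111737 (iv5 F477734)) (tt N79466 (iv6 D214810)) (tt N121058 (iv7 F524282)))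
theorem Q111570 : ∀ i, i < 111570 → P i := stepQ 111569 Q111569 (allL N111569 (tt N97483 (iv1 F476966)) (tt N95603 F476965) (tt N79469 (iv2 D214811)) (tt N91504 F476961) (tt N97118 F476962) (tt N87415 F476963) (tt N81551 F476964) (tt N117639 (iv7 F506149)))
theorem Q111571 : ∀ i, i < 111571 → P i := stepQ 111570 Q111570 (allL N111570 (tt N115966 (iv1 F497805)) (tt N115906 (iv0 F497525)) (tt N112229 (iv2 F480152)) (tt N79809 F476967) (tt N79814 F476968) (tt N115144 (iv5 F493696)) (tt N79471 (iv6 D214812)) (tt N87269 F476969))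
theorem Q111572 : ∀ i, i < 111572 → P i := stepQ 111571 Q111571 (allL N111571 (tt N87966 F476974) (tt N112249 (iv0 F480223)) (tt N79475 F476970) (tt N110972 F476971) (tt N108236 F476972) (tt N79474 (iv5 D214813)) (tt N122094 D225353) (tt N110970 F476973))
theorem Q111573 : ∀ i, i < 111573 → P i := stepQ 111572 Q111572 (allL N111572 (tt N111902 F478565) (tt N114088 (iv0 F488539)) (tt N122094 (iv2 F530121)) (tt N79478 F476975) (tt N118724 (iv4 F511756)) (tt N80266 F476976) (tt N79475 (iv6 D214814)) (tt N114210 (iv7 F489009)))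
theorem Q111574 : ∀ i, i < 111574 → P i := stepQ 111573 Q111573 (allL N111573 (tt N115589 F495888) (tt N115988 (iv0 F497926)) (tt N108965 F476977) (tt N102314 F476978) (tt N79478 F476979) (tt N102310 F476980) (tt N79477 (iv6 D214815)) (tt N118725 (iv7 F511762)))
theorem Q111575 : ∀ i, i < 111575 → P i := stepQ 111574 Q111574 (allL N111574 (tt N112271 (iv1 F480298)) (tt N79478 (iv0 D214816)) (tt N112269 (iv2 F495892)) (tt N118924 (iv3 F512774)) (tt N120522 (iv4 F521235)) (tt N115953 (iv5 F497751)) (tt N117114 (iv6 F503471)) (tt N112270 (iv7 F495893)))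
theorem Q111576 : ∀ i, i < 111576 → P i := stepQ 111575 Q111575 (allL N111575 (tt N79478 (iv1 D214817)) (tt N112271 F480297) (tt N112270 F495890) (tt N111896 (iv3 F495889)) (tt N118361 (iv4 F509917)) (tt N115607 (iv5 F495963)) (tt N120518 (iv6 F521216)) (tt N112269 F495891))
theorem Q111577 : ∀ i, i < 111577 → P i := stepQ 111576 Q111576 (allL N111576 (tt N112270 (iv1 F480290)) (tt N112269 F480296) (tt N112271 (iv2 F480294)) (tt N114210 (iv3 F489007)) (tt N118725 (iv4 F511760)) (tt N80269 F476981) (tt N112273 (iv6 F480304)) (tt N79478 (iv7 D214818)))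
theorem Q111578 : ∀ i, i < 111578 → P i := stepQ 111577 Q111577 (allL N111577 (tt N93607 (iv1 F476988)) (tt N93622 F476987) (tt N79485 (iv2 D214819)) (tt N79505 F476982) (tt N93614 F476983) (tt N93617 F476984) (tt N97847 F476985) (tt N95032 F476986))
theorem Q111579 : ∀ i, i < 111579 → P i := stepQ 111578 Q111578 (allL N111578 (tt N91651 F476991) (tt N117112 F503461) (tt N79508 F476989) (tt N108933 F476990) (tt N116397 (iv4 F499876)) (tt N112093 (iv5 F479462)) (tt N79486 (iv6 D214820)) (tt N116456 (iv7 F500223)))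
theorem Q111580 : ∀ i, i < 111580 → P i := stepQ 111579 Q111579 (allL N111579 (tt N103962 (iv1 F476993)) (tt N79499 (iv0 D214821)) (tt N102137 (iv2 F476994)) (tt N91936 F476992) (tt N112292 (iv4 F480394)) (tt N121254 (iv5 F525393)) (tt N111482 (iv6 F476995)) (tt N91933 (iv7 F476996)))
theorem Q111581 : ∀ i, i < 111581 → P i := stepQ 111580 Q111580 (allL N111580 (tt N79499 (iv1 D214822)) (tt N103962 F476997) (tt N91933 F477002) (tt N102138 (iv3 F476999)) (tt N118941 (iv4 F512872)) (tt N108950 (iv5 F477000)) (tt N91190 (iv6 F477001)) (tt N102137 F476998))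
theorem Q111582 : ∀ i, i < 111582 → P i := stepQ 111581 Q111581 (allL N111581 (tt N117108 (iv1 F503437)) (tt N116453 (iv0 F500207)) (tt N111106 F477003) (tt N95547 F477004) (tt N121435 (iv4 F526354)) (tt N95546 F477005) (tt N79500 (iv6 D214823)) (tt N112693 (iv7 F482199)))
theorem Q111583 : ∀ i, i < 111583 → P i := stepQ 111582 Q111582 (allL N111582 (tt N81794 F477010) (tt N85624 (iv0 F477012)) (tt N93938 F477006) (tt N95534 F477007) (tt N93931 F477011) (tt N79504 (iv5 D214824)) (tt N101926 F477008) (tt N93934 F477009))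
theorem Q111584 : ∀ i, i < 111584 → P i := stepQ 111583 Q111583 (allL N111583 (tt N112502 (iv1 F481392)) (tt N91662 F477016) (tt N79506 F477013) (tt N93617 F477014) (tt N116615 (iv4 F500982)) (tt N79505 (iv5 D214825)) (tt N91638 F477017) (tt N108932 F477015))
theorem Q111585 : ∀ i, i < 111585 → P i := stepQ 111584 Q111584 (allL N111584 (tt N109307 F477019) (tt N122091 (iv0 F530105)) (tt N116615 F500986) (tt N118331 F509747) (tt N79506 (iv4 D214826)) (tt N90301 F477018) (tt N112301 F480440) (tt N119084 (iv7 F513705)))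
theorem Q111586 : ∀ i, i < 111586 → P i := stepQ 111585 Q111585 (allL N111585 (tt N87999 F477022) (tt N91639 (iv0 F477023)) (tt N91638 F477020) (tt N79508 F477021) (tt N112301 (iv4 F480439)) (tt N112250 (iv5 F480226)) (tt N79506 (iv6 D214827)) (tt N91637 (iv7 F477024)))
theorem Q111587 : ∀ i, i < 111587 → P i := stepQ 111586 Q111586 (allL N111586 (tt N116456 F500224) (tt N79508 (iv0 D214828)) (tt N91651 (iv2 F477027)) (tt N100126 (iv3 F477028)) (tt N109686 F477025) (tt N115540 (iv5 F495700)) (tt N89921 F477026) (tt N117112 (iv7 F503462)))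
theorem Q111588 : ∀ i, i < 111588 → P i := stepQ 111587 Q111587 (allL N111587 (tt N79508 (iv1 D214829)) (tt N116456 F500225) (tt N117112 F503460) (tt N103147 (iv3 F477030)) (tt N113296 (iv4 F484896)) (tt N115547 (iv5 F495721)) (tt N117157 (iv6 F503675)) (tt N91651 F477029))
theorem Q111589 : ∀ i, i < 111589 → P i := stepQ 111588 Q111588 (allL N111588 (tt N80973 F477034) (tt N80783 (iv0 F477036)) (tt N81001 (iv2 F477037)) (tt N79510 (iv3 D214830)) (tt N111372 F477035) (tt N101667 F477031) (tt N79787 F477032) (tt N81002 F477033))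
theorem Q111590 : ∀ i, i < 111590 → P i := stepQ 111589 Q111589 (allL N111589 (tt N80820 F477043) (tt N80842 (iv0 F477044)) (tt N80844 F477038) (tt N79525 F477039) (tt N99235 F477040) (tt N80634 F477041) (tt N79522 (iv6 D214831)) (tt N80633 F477042))
theorem Q111591 : ∀ i, i < 111591 → P i := stepQ 111590 Q111590 (allL N111590 (tt N79523 (iv1 D214832)) (tt N79526 F477045) (tt N95337 F477051) (tt N102324 (iv3 F477047)) (tt N80365 (iv4 F477048)) (tt N102323 (iv5 F477050)) (tt N80364 (iv6 F477049)) (tt N95335 F477046))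
theorem Q111592 : ∀ i, i < 111592 → P i := stepQ 111591 Q111591 (allL N111591 (tt N81761 (iv1 F477055)) (tt N79536 (iv0 D214833)) (tt N91818 (iv2 F477054)) (tt N112290 (iv3 F480385)) (tt N91811 F477053) (tt N81746 F477052) (tt N91810 F477056) (tt N112151 (iv7 F479765)))
theorem Q111593 : ∀ i, i < 111593 → P i := stepQ 111592 Q111592 (allL N111592 (tt N108959 F477061) (tt N111926 F478696) (tt N111925 F478689) (tt N79541 F477057) (tt N80984 F477058) (tt N79540 (iv5 D214834)) (tt N82548 F477059) (tt N107743 F477060))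
theorem Q111594 : ∀ i, i < 111594 → P i := stepQ 111593 Q111593 (allL N111593 (tt N79544 (iv1 D214835)) (tt N93613 F477062) (tt N95031 (iv2 F477067)) (tt N117699 (iv3 F506490)) (tt N101611 F477065) (tt N79571 F477064) (tt N103922 (iv6 F477066)) (tt N95030 F477063))
theorem Q111595 : ∀ i, i < 111595 → P i := stepQ 111594 Q111594 (allL N111594 (tt N95812 F477073) (tt N115779 (iv0 F496828)) (tt N95029 F477068) (tt N79547 F477069) (tt N102047 F477070) (tt N79545 (iv5 D214836)) (tt N95026 F477071) (tt N102293 F477072))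
theorem Q111596 : ∀ i, i < 111596 → P i := stepQ 111595 Q111595 (allL N111595 (tt N79554 (iv1 F477078)) (tt N79551 (iv0 D214837)) (tt N81672 (iv2 F477077)) (tt N81757 F477076) (tt N111090 F477075) (tt N81671 F477074) (tt N97538 (iv6 F477080)) (tt N97423 F477079))
theorem Q111597 : ∀ i, i < 111597 → P i := stepQ 111596 Q111596 (allL N111596 (tt N81732 F477086) (tt N103432 F477087) (tt N100799 F477081) (tt N97605 F477082) (tt N96452 F477083) (tt N79554 (iv5 D214838)) (tt N82346 F477084) (tt N96450 F477085))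
theorem Q111598 : ∀ i, i < 111598 → P i := stepQ 111597 Q111597 (allL N111597 (tt N100021 F477092) (tt N109269 (iv0 F477093)) (tt N109292 F477088) (tt N117695 (iv3 F506464)) (tt N91412 F477089) (tt N102333 F477090) (tt N79560 (iv6 D214839)) (tt N109311 F477091))
theorem Q111599 : ∀ i, i < 111599 → P i := stepQ 111598 Q111598 (allL N111598 (tt N117446 F505077) (tt N99282 (iv0 F477099)) (tt N91618 F477094) (tt N97322 F477095) (tt N79578 (iv4 D214840)) (tt N91491 F477096) (tt N108944 F477097) (tt N91621 F477098))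
theorem Q111600 : ∀ i, i < 111600 → P i := stepQ 111599 Q111599 (allL N111599 (tt N116459 (iv1 F500244)) (tt N108480 F477105) (tt N91650 F477100) (tt N99571 F477101) (tt N93820 F477102) (tt N79579 (iv5 D214841)) (tt N91494 F477103) (tt N96080 F477104))
theorem Q111601 : ∀ i, i < 111601 → P i := stepQ 111600 Q111600 (allL N111600 (tt N119430 F515582) (tt N91977 (iv0 F477110)) (tt N96371 F477106) (tt N79580 (iv3 D214842)) (tt N95625 F477107) (tt N79580 F477111) (tt N95624 F477108) (tt N101897 F477109))
theorem Q111602 : ∀ i, i < 111602 → P i := stepQ 111601 Q111601 (allL N111601 (tt N112510 (iv1 F481431)) (tt N117905 (iv0 F507526)) (tt N110589 F477112) (tt N122095 D225354) (tt N79581 (iv4 D214843)) (tt N121849 (iv5 F528686)) (tt N112937 F483311) (tt N101903 F477113))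
theorem Q111603 : ∀ i, i < 111603 → P i := stepQ 111602 Q111602 (allL N111602 (tt N79584 (iv1 D214844)) (tt N107736 F477114) (tt N81770 (iv2 F477118)) (tt N118209 (iv3 F509158)) (tt N103962 F477117) (tt N94958 F477116) (tt N118207 (iv6 F509146)) (tt N107737 F477115))
theorem Q111604 : ∀ i, i < 111604 → P i := stepQ 111603 Q111603 (allL N111603 (tt N106962 F477122) (tt N118324 F509711) (tt N112496 (iv2 F481354)) (tt N118503 (iv3 F510718)) (tt N79585 (iv4 D214845)) (tt N92487 F477121) (tt N111530 F477119) (tt N92486 F477120))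
theorem Q111605 : ∀ i, i < 111605 → P i := stepQ 111604 Q111604 (allL N111604 (tt N92320 (iv1 F477126)) (tt N79587 (iv0 D214846)) (tt N117881 (iv2 F507404)) (tt N94229 (iv3 F477127)) (tt N90472 F477123) (tt N94227 F477124) (tt N90471 F477125) (tt N117784 (iv7 F506956)))
theorem Q111606 : ∀ i, i < 111606 → P i := stepQ 111605 Q111605 (allL N111605 (tt N118529 F510813) (tt N108704 F477129) (tt N118476 (iv2 F510577)) (tt N99271 F477128) (tt N118865 (iv4 F512475)) (tt N79587 (iv5 D214847)) (tt N118847 F512397) (tt N117856 F507296))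
theorem Q111607 : ∀ i, i < 111607 → P i := stepQ 111606 Q111606 (allL N111606 (tt N81024 F477133) (tt N80787 (iv0 F477134)) (tt N81023 (iv2 F477135)) (tt N79591 (iv3 D214848)) (tt N112504 (iv4 F481399)) (tt N106722 F477130) (tt N96914 F477131) (tt N81022 F477132))
theorem Q111608 : ∀ i, i < 111608 → P i := stepQ 111607 Q111607 (allL N111607 (tt N79601 (iv1 D214849)) (tt N79606 F477136) (tt N108126 (iv2 F477138)) (tt N117862 (iv3 F507329)) (tt N81283 F477137) (tt N117864 (iv5 F507337)) (tt N81282 (iv6 F477139)) (tt N118987 (iv7 F513137)))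
theorem Q111609 : ∀ i, i < 111609 → P i := stepQ 111608 Q111608 (allL N111608 (tt N103114 F477141) (tt N79611 F477143) (tt N101890 F477140) (tt N117473 (iv3 F505210)) (tt N83205 F477142) (tt N79603 (iv5 D214850)) (tt N118988 (iv6 F513142)) (tt N116951 (iv7 F502662)))
theorem Q111610 : ∀ i, i < 111610 → P i := stepQ 111609 Q111609 (allL N111609 (tt N79612 (iv1 F477146)) (tt N79609 (iv0 D214851)) (tt N118458 (iv2 F510478)) (tt N107798 F477145) (tt N92067 F477144) (tt N120002 (iv5 F518491)) (tt N107796 (iv6 F477147)) (tt N117129 (iv7 F503535)))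
theorem Q111611 : ∀ i, i < 111611 → P i := stepQ 111610 Q111610 (allL N111610 (tt N79609 (iv1 D214852)) (tt N79612 F477148) (tt N117129 (iv2 F503538)) (tt N121729 F528002) (tt N95771 F477149) (tt N118480 (iv5 F510599)) (tt N119080 F513683) (tt N118458 (iv7 F510481)))
theorem Q111612 : ∀ i, i < 111612 → P i := stepQ 111611 Q111611 (allL N111611 (tt N116604 F500936) (tt N116381 F500937) (tt N107678 F477150) (tt N118409 (iv3 F510190)) (tt N117867 (iv4 F507348)) (tt N118408 (iv5 F510188)) (tt N79616 (iv6 D214853)) (tt N116603 (iv7 F503277)))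
theorem Q111613 : ∀ i, i < 111613 → P i := stepQ 111612 Q111612 (allL N111612 (tt N118137 F508806) (tt N120005 (iv0 F518513)) (tt N118986 (iv2 F513129)) (tt N112708 (iv3 F482284)) (tt N112675 (iv4 F482123)) (tt N79617 (iv5 D214854)) (tt N118408 (iv6 F510185)) (tt N120006 (iv7 F518516)))
theorem Q111614 : ∀ i, i < 111614 → P i := stepQ 111613 Q111613 (allL N111613 (tt N119080 (iv1 F513678)) (tt N93658 (iv0 F477155)) (tt N118985 (iv2 F513123)) (tt N94594 F477151) (tt N79619 (iv4 D214855)) (tt N93649 F477152) (tt N94593 F477153) (tt N95863 F477154))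
theorem Q111615 : ∀ i, i < 111615 → P i := stepQ 111614 Q111614 (allL N111614 (tt N108705 (iv1 F477162)) (tt N108700 (iv0 F477161)) (tt N79622 F477156) (tt N102807 F477157) (tt N79621 (iv4 D214856)) (tt N92441 F477160) (tt N102806 F477158) (tt N108703 F477159))
theorem Q111616 : ∀ i, i < 111616 → P i := stepQ 111615 Q111615 (allL N111615 (tt N108703 (iv1 F477164)) (tt N79622 (iv0 D214857)) (tt N108705 (iv2 F477163)) (tt N92404 (iv3 F506937)) (tt N118456 (iv4 F510471)) (tt N118529 (iv5 F510812)) (tt N121552 (iv6 F527002)) (tt N108700 F477165))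
theorem Q111617 : ∀ i, i < 111617 → P i := stepQ 111616 Q111616 (allL N111616 (tt N112802 F482684) (tt N102816 (iv0 F477170)) (tt N102806 F477166) (tt N100042 F477167) (tt N79623 F477168) (tt N119854 (iv5 F517711)) (tt N79622 (iv6 D214858)) (tt N100040 F477169))
theorem Q111618 : ∀ i, i < 111618 → P i := stepQ 111617 Q111617 (allL N111617 (tt N79623 (iv1 D214859)) (tt N94066 F477171) (tt N100514 F477177) (tt N81107 (iv3 F477173)) (tt N94381 (iv4 F477174)) (tt N100902 (iv5 F477175)) (tt N81106 (iv6 F477176)) (tt N100515 F477172))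
theorem Q111619 : ∀ i, i < 111619 → P i := stepQ 111618 Q111618 (allL N111618 (tt N120501 F521119) (tt N112868 (iv0 F483049)) (tt N117445 (iv2 F505065)) (tt N105337 F477178) (tt N79626 (iv4 D214860)) (tt N104352 F477180) (tt N86984 F477179) (tt N120265 (iv7 F519904)))
theorem Q111620 : ∀ i, i < 111620 → P i := stepQ 111619 Q111619 (allL N111619 (tt N115408 F495047) (tt N112399 (iv0 F480938)) (tt N111818 (iv2 F478139)) (tt N79627 (iv3 D214861)) (tt N102884 F477181) (tt N115849 (iv5 F497222)) (tt N102883 F477182) (tt N91812 F477183))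
theorem Q111621 : ∀ i, i < 111621 → P i := stepQ 111620 Q111620 (allL N111620 (tt N111639 (iv1 F477264)) (tt N111638 F477257) (tt N79629 F477184) (tt N79645 F477185) (tt N115719 (iv4 F496495)) (tt N79628 (iv5 D214862)) (tt N115967 (iv6 F497815)) (tt N111640 (iv7 F477267)))
theorem Q111622 : ∀ i, i < 111622 → P i := stepQ 111621 Q111621 (allL N111621 (tt N118394 (iv1 F510118)) (tt N118395 (iv0 F510123)) (tt N115719 (iv2 F496493)) (tt N100721 F477186) (tt N79629 (iv4 D214863)) (tt N114252 (iv5 F489232)) (tt N111459 (iv6 F477187)) (tt N111636 (iv7 F477245)))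
theorem Q111623 : ∀ i, i < 111623 → P i := stepQ 111622 Q111622 (allL N111622 (tt N104888 F477191) (tt N87184 (iv0 F477192)) (tt N115967 (iv2 F497812)) (tt N79630 F477188) (tt N111459 F477189) (tt N105923 F477190) (tt N79629 (iv6 D214864)) (tt N120945 (iv7 F523620)))
theorem Q111624 : ∀ i, i < 111624 → P i := stepQ 111623 Q111623 (allL N111623 (tt N79652 (iv1 F477196)) (tt N79630 (iv0 D214865)) (tt N79650 (iv2 F477193)) (tt N87327 F477194) (tt N122036 (iv4 F529770)) (tt N116081 (iv5 F498362)) (tt N114190 (iv6 F488917)) (tt N79651 F477195))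
theorem Q111625 : ∀ i, i < 111625 → P i := stepQ 111624 Q111624 (allL N111624 (tt N79651 (iv1 F477200)) (tt N79650 F477201) (tt N79652 F477197) (tt N120945 (iv3 F523625)) (tt N100727 F477198) (tt N97261 F477199) (tt N111645 (iv6 F477285)) (tt N79630 (iv7 D214866)))
theorem Q111626 : ∀ i, i < 111626 → P i := stepQ 111625 Q111625 (allL N111625 (tt N84556 F477205) (tt N95663 F477206) (tt N79634 F477202) (tt N111479 F477203) (tt N119335 (iv4 F515085)) (tt N79633 (iv5 D214867)) (tt N114224 F489076) (tt N111485 F477204))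
theorem Q111627 : ∀ i, i < 111627 → P i := stepQ 111626 Q111626 (allL N111626 (tt N111485 (iv1 F477210)) (tt N79634 (iv0 D214868)) (tt N84556 (iv2 F477209)) (tt N95623 (iv3 F477212)) (tt N104892 F477208) (tt N80248 F477207) (tt N122096 D225355) (tt N95663 F477211))
theorem Q111628 : ∀ i, i < 111628 → P i := stepQ 111627 Q111627 (allL N111627 (tt N114225 (iv1 F489083)) (tt N114179 (iv0 F488864)) (tt N114224 F489079) (tt N79635 F477213) (tt N117463 (iv4 F505163)) (tt N119238 (iv5 F514549)) (tt N79634 (iv6 D214869)) (tt N114182 (iv7 F488876)))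
theorem Q111629 : ∀ i, i < 111629 → P i := stepQ 111628 Q111628 (allL N111628 (tt N122097 D225356) (tt N121419 (iv0 F526256)) (tt N90534 F477214) (tt N119238 (iv3 F514547)) (tt N89199 F477217) (tt N79635 (iv5 D214870)) (tt N79636 F477215) (tt N90535 F477216))
theorem Q111630 : ∀ i, i < 111630 → P i := stepQ 111629 Q111629 (allL N111629 (tt N91812 (iv1 F477220)) (tt N111818 (iv0 F478143)) (tt N115408 (iv2 F495043)) (tt N79637 (iv3 D214871)) (tt N87775 F477219) (tt N121702 (iv5 F527842)) (tt N111112 F477218) (tt N112399 (iv7 F480936)))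
theorem Q111631 : ∀ i, i < 111631 → P i := stepQ 111630 Q111630 (allL N111630 (tt N84553 F477222) (tt N85712 F477223) (tt N111718 (iv2 F477639)) (tt N106817 F477224) (tt N79637 (iv4 D214872)) (tt N114824 (iv5 F492071)) (tt N84652 F477221) (tt N111722 (iv7 F477667)))
theorem Q111632 : ∀ i, i < 111632 → P i := stepQ 111631 Q111631 (allL N111631 (tt N112822 F482795) (tt N79641 (iv0 F477225)) (tt N112155 (iv2 F479785)) (tt N79638 (iv3 D214873)) (tt N114561 (iv4 F490780)) (tt N120508 (iv5 F521159)) (tt N112080 (iv6 F479404)) (tt N112400 (iv7 F480941)))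
theorem Q111633 : ∀ i, i < 111633 → P i := stepQ 111632 Q111632 (allL N111632 (tt N91828 F477229) (tt N111746 F477770) (tt N93141 F477226) (tt N112080 F479401) (tt N92006 F477227) (tt N93136 F477230) (tt N79638 (iv6 D214874)) (tt N93149 F477228))
theorem Q111634 : ∀ i, i < 111634 → P i := stepQ 111633 Q111633 (allL N111633 (tt N79641 (iv1 D214875)) (tt N112822 (iv0 F482794)) (tt N112400 F480944) (tt N115408 (iv3 F495044)) (tt N111022 (iv4 F477231)) (tt N122084 (iv5 F530062)) (tt N112406 (iv6 F480971)) (tt N112155 F479788))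
theorem Q111635 : ∀ i, i < 111635 → P i := stepQ 111634 Q111634 (allL N111634 (tt N118894 (iv1 F512618)) (tt N95491 (iv0 F477236)) (tt N118864 (iv2 F512467)) (tt N79643 F477232) (tt N101570 F477235) (tt N79642 (iv5 D214876)) (tt N108290 F477233) (tt N87229 F477234))
theorem Q111636 : ∀ i, i < 111636 → P i := stepQ 111635 Q111635 (allL N111635 (tt N88315 F477240) (tt N88316 F477241) (tt N79646 F477237) (tt N87885 (iv3 F477242)) (tt N79645 (iv4 D214877)) (tt N79696 F477238) (tt N87391 F477239) (tt N114811 (iv7 F491998)))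
theorem Q111637 : ∀ i, i < 111637 → P i := stepQ 111636 Q111636 (allL N111636 (tt N105001 F477247) (tt N104997 F477248) (tt N115466 (iv2 F495322)) (tt N79646 (iv3 D214878)) (tt N79648 F477243) (tt N97320 (iv5 F477246)) (tt N91917 F477244) (tt N111621 F477245))
theorem Q111638 : ∀ i, i < 111638 → P i := stepQ 111637 Q111637 (allL N111637 (tt N84554 F477254) (tt N88211 F477255) (tt N79696 F477249) (tt N97320 F477250) (tt N79693 F477253) (tt N79646 (iv5 D214879)) (tt N97318 F477251) (tt N84703 F477252))
theorem Q111639 : ∀ i, i < 111639 → P i := stepQ 111638 Q111638 (allL N111638 (tt N111620 (iv1 F477257)) (tt N79648 (iv0 D214880)) (tt N111466 (iv2 F477258)) (tt N118958 (iv3 F512971)) (tt N118982 (iv4 F513107)) (tt N80240 F477256) (tt N122098 D225357) (tt N111464 (iv7 F477259)))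
theorem Q111640 : ∀ i, i < 111640 → P i := stepQ 111639 Q111639 (allL N111639 (tt N79648 (iv1 D214881)) (tt N111620 F477264) (tt N111464 F477263) (tt N111776 (iv3 F477917)) (tt N118981 (iv4 F513105)) (tt N80241 F477261) (tt N111314 (iv6 F477262)) (tt N111466 F477260))
theorem Q111641 : ∀ i, i < 111641 → P i := stepQ 111640 Q111640 (allL N111640 (tt N111466 (iv1 F477269)) (tt N111464 F477268) (tt N79648 (iv2 D214882)) (tt N100719 F477265) (tt N115466 (iv4 F495324)) (tt N100715 F477266) (tt N108564 (iv6 F477270)) (tt N111620 F477267))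
theorem Q111642 : ∀ i, i < 111642 → P i := stepQ 111641 Q111641 (allL N111641 (tt N108567 F477274) (tt N99646 (iv0 F477275)) (tt N108564 F477271) (tt N79649 F477272) (tt N91917 F477273) (tt N120791 (iv5 F522737)) (tt N79648 (iv6 D214883)) (tt N108565 (iv7 F477276)))
theorem Q111643 : ∀ i, i < 111643 → P i := stepQ 111642 Q111642 (allL N111642 (tt N100727 (iv1 F477286)) (tt N79649 (iv0 D214884)) (tt N100724 F477289) (tt N115609 (iv3 F495971)) (tt N114839 (iv4 F492129)) (tt N113559 (iv5 F486031)) (tt N115607 (iv6 F495967)) (tt N100725 F477288))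
theorem Q111644 : ∀ i, i < 111644 → P i := stepQ 111643 Q111643 (allL N111643 (tt N79649 (iv1 D214885)) (tt N100727 F477277) (tt N100725 F477281) (tt N115454 (iv3 F495273)) (tt N114840 (iv4 F492137)) (tt N106872 (iv5 F477280)) (tt N114155 F488783) (tt N100724 (iv7 F477290)))
theorem Q111645 : ∀ i, i < 111645 → P i := stepQ 111644 Q111644 (allL N111644 (tt N122099 D225358) (tt N115458 (iv0 F495288)) (tt N100726 F477278) (tt N120791 (iv3 F522735)) (tt N115253 F494223) (tt N79649 (iv5 D214886)) (tt N100717 F477279) (tt N119351 (iv7 F515166)))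
theorem Q111646 : ∀ i, i < 111646 → P i := stepQ 111645 Q111645 (allL N111645 (tt N100725 (iv1 F477287)) (tt N100724 F477291) (tt N100727 F477282) (tt N108565 F477283) (tt N79652 F477284) (tt N119351 (iv5 F515165)) (tt N111624 F477285) (tt N79649 (iv7 D214887)))
theorem Q111647 : ∀ i, i < 111647 → P i := stepQ 111646 Q111646 (allL N111646 (tt N122037 (iv1 F529778)) (tt N111447 (iv0 F481222)) (tt N122036 F529772) (tt N118394 (iv3 F510113)) (tt N79650 (iv4 D214888)) (tt N118393 F510111) (tt N116027 (iv6 F498122)) (tt N115950 F497742))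
theorem Q111648 : ∀ i, i < 111648 → P i := stepQ 111647 Q111647 (allL N111647 (tt N111447 F477294) (tt N122037 F529777) (tt N115950 (iv2 F497737)) (tt N108275 (iv3 F477295)) (tt N79651 (iv4 D214889)) (tt N108274 F477293) (tt N87322 F477292) (tt N122036 (iv7 F529773)))
theorem Q111649 : ∀ i, i < 111649 → P i := stepQ 111648 Q111648 (allL N111648 (tt N106732 F477298) (tt N118426 (iv0 F510290)) (tt N118427 F510295) (tt N79662 F477296) (tt N118035 (iv4 F508209)) (tt N79658 (iv5 D214890)) (tt N97080 F477297) (tt N112707 (iv7 F482280)))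
theorem Q111650 : ∀ i, i < 111650 → P i := stepQ 111649 Q111649 (allL N111649 (tt N80185 (iv1 F477303)) (tt N96965 F477304) (tt N97067 F477299) (tt N79663 F477300) (tt N81343 F477301) (tt N112707 (iv5 F482278)) (tt N80161 F477302) (tt N79658 (iv7 D214891)))
theorem Q111651 : ∀ i, i < 111651 → P i := stepQ 111650 Q111650 (allL N111650 (tt N115942 (iv1 F497695)) (tt N100674 F477307) (tt N114834 (iv2 F492113)) (tt N79660 F477305) (tt N120857 (iv4 F523113)) (tt N79659 (iv5 D214892)) (tt N114177 (iv6 F488854)) (tt N84505 F477306))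
theorem Q111652 : ∀ i, i < 111652 → P i := stepQ 111651 Q111651 (allL N111651 (tt N111009 F477311) (tt N79747 (iv0 F477312)) (tt N111864 (iv2 F478377)) (tt N103367 F477308) (tt N95194 F477309) (tt N104286 F477310) (tt N79667 (iv6 D214893)) (tt N116222 (iv7 F499103)))
theorem Q111653 : ∀ i, i < 111653 → P i := stepQ 111652 Q111652 (allL N111652 (tt N85725 F477314) (tt N103460 F477315) (tt N111112 F477313) (tt N112406 (iv3 F480970)) (tt N79676 (iv4 D214894)) (tt N114238 (iv5 F489158)) (tt N115408 (iv6 F495045)) (tt N111749 (iv7 F477777)))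
theorem Q111654 : ∀ i, i < 111654 → P i := stepQ 111653 Q111653 (allL N111653 (tt N88284 (iv1 F477321)) (tt N88283 F477322) (tt N88286 F477316) (tt N93084 F477317) (tt N84695 F477318) (tt N94791 F477319) (tt N88306 F477320) (tt N79680 (iv7 D214895)))
theorem Q111655 : ∀ i, i < 111655 → P i := stepQ 111654 Q111654 (allL N111654 (tt N88373 F477326) (tt N88372 F477327) (tt N79683 F477323) (tt N88353 F477324) (tt N121049 (iv4 F524228)) (tt N79682 (iv5 D214896)) (tt N122100 D225359) (tt N88374 F477325))
theorem Q111656 : ∀ i, i < 111656 → P i := stepQ 111655 Q111655 (allL N111655 (tt N115203 F494002) (tt N122101 D225360) (tt N121049 (iv2 F524226)) (tt N82606 F477328) (tt N79683 (iv4 D214897)) (tt N115314 (iv5 F494540)) (tt N122102 D225361) (tt N88365 F477329))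
theorem Q111657 : ∀ i, i < 111657 → P i := stepQ 111656 Q111656 (allL N111656 (tt N93023 F477332) (tt N93023 (iv0 F477333)) (tt N122100 (iv2 F530162)) (tt N79684 F477330) (tt N122102 (iv4 F530178)) (tt N97455 F477331) (tt N79683 (iv6 D214898)) (tt N122100 (iv7 F530166)))
theorem Q111658 : ∀ i, i < 111658 → P i := stepQ 111657 Q111657 (allL N111657 (tt N88354 (iv1 F477338)) (tt N79684 (iv0 D214899)) (tt N88288 (iv2 F477336)) (tt N117950 (iv3 F507748)) (tt N84693 F477334) (tt N118906 (iv5 F512682)) (tt N117549 (iv6 F505637)) (tt N88289 (iv7 F477337)))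
theorem Q111659 : ∀ i, i < 111659 → P i := stepQ 111658 Q111658 (allL N111658 (tt N79684 (iv1 D214900)) (tt N88354 F477339) (tt N88289 F477343) (tt N119008 (iv3 F513255)) (tt N84694 F477341) (tt N119461 (iv5 F515739)) (tt N104399 (iv6 F477342)) (tt N88288 F477340))
theorem Q111660 : ∀ i, i < 111660 → P i := stepQ 111659 Q111659 (allL N111659 (tt N88289 (iv1 F477348)) (tt N88288 F477349) (tt N88354 F477344) (tt N122100 (iv3 F530163)) (tt N82610 F477345) (tt N102217 F477346) (tt N88353 F477347) (tt N79684 (iv7 D214901)))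
theorem Q111661 : ∀ i, i < 111661 → P i := stepQ 111660 Q111660 (allL N111660 (tt N88353 (iv1 F477353)) (tt N79685 (iv0 D214902)) (tt N88307 (iv2 F477354)) (tt N117622 (iv3 F506047)) (tt N84690 F477351) (tt N80216 F477350) (tt N79749 F477352) (tt N88308 (iv7 F477355)))
theorem Q111662 : ∀ i, i < 111662 → P i := stepQ 111661 Q111661 (allL N111661 (tt N79685 (iv1 D214903)) (tt N88353 F477356) (tt N88308 (iv2 F477361)) (tt N119434 (iv3 F515603)) (tt N84691 F477359) (tt N80217 F477358) (tt N88212 (iv6 F477360)) (tt N88307 F477357))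
theorem Q111663 : ∀ i, i < 111663 → P i := stepQ 111662 Q111662 (allL N111662 (tt N88243 F477365) (tt N119008 F513258) (tt N104316 F477362) (tt N102221 F477363) (tt N103200 F477364) (tt N102200 F477366) (tt N79688 (iv6 D214904)) (tt N119006 (iv7 F513246)))
theorem Q111664 : ∀ i, i < 111664 → P i := stepQ 111663 Q111663 (allL N111663 (tt N102240 F477369) (tt N117997 (iv0 F507994)) (tt N114810 (iv2 F491988)) (tt N102222 F477367) (tt N102229 F477370) (tt N79689 (iv5 D214905)) (tt N102200 F477368) (tt N120580 (iv7 F521569)))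
theorem Q111665 : ∀ i, i < 111665 → P i := stepQ 111664 Q111664 (allL N111664 (tt N112411 (iv1 F480987)) (tt N112410 F480985) (tt N104426 F477371) (tt N91197 F477372) (tt N79695 (iv4 D214906)) (tt N88051 F477373) (tt N88052 F477374) (tt N111867 (iv7 F478399)))
theorem Q111666 : ∀ i, i < 111666 → P i := stepQ 111665 Q111665 (allL N111665 (tt N84703 (iv1 F477378)) (tt N79696 (iv0 D214907)) (tt N84554 (iv2 F477377)) (tt N111120 (iv3 F477380)) (tt N79749 F477376) (tt N84507 F477375) (tt N84690 F477381) (tt N88211 F477379))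
theorem Q111667 : ∀ i, i < 111667 → P i := stepQ 111666 Q111666 (allL N111666 (tt N119451 (iv1 F515689)) (tt N119450 F515688) (tt N119453 (iv2 F515703)) (tt N83575 F477382) (tt N79698 (iv4 D214908)) (tt N118101 (iv5 F508595)) (tt N116086 F498392) (tt N88326 F477383))
theorem Q111668 : ∀ i, i < 111668 → P i := stepQ 111667 Q111667 (allL N111667 (tt N115321 F494579) (tt N115320 F494575) (tt N112508 (iv2 F481420)) (tt N79699 F477384) (tt N116086 (iv4 F498390)) (tt N97639 F477385) (tt N79698 (iv6 D214909)) (tt N104342 F477386))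
theorem Q111669 : ∀ i, i < 111669 → P i := stepQ 111668 Q111668 (allL N111668 (tt N88214 (iv1 F477392)) (tt N88320 F477393) (tt N88327 F477387) (tt N85688 F477388) (tt N82601 F477389) (tt N105471 F477390) (tt N88324 F477391) (tt N79701 (iv7 D214910)))
theorem Q111670 : ∀ i, i < 111670 → P i := stepQ 111669 Q111669 (allL N111669 (tt N104338 F477398) (tt N104346 (iv0 F477399)) (tt N93180 F477394) (tt N79702 (iv3 D214911)) (tt N120966 (iv4 F523753)) (tt N84262 F477395) (tt N93180 F477396) (tt N88249 F477397))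
theorem Q111671 : ∀ i, i < 111671 → P i := stepQ 111670 Q111670 (allL N111670 (tt N93201 F477405) (tt N93205 F477406) (tt N88256 F477400) (tt N100786 F477401) (tt N79704 (iv4 D214912)) (tt N88200 F477402) (tt N79707 F477403) (tt N88199 F477404))
theorem Q111672 : ∀ i, i < 111672 → P i := stepQ 111671 Q111671 (allL N111671 (tt N115410 F495058) (tt N112867 (iv0 F483046)) (tt N79708 (iv2 D214913)) (tt N118208 (iv3 F509151)) (tt N103963 F477407) (tt N119491 (iv5 F515879)) (tt N103451 F477408) (tt N119490 (iv7 F515873)))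
theorem Q111673 : ∀ i, i < 111673 → P i := stepQ 111672 Q111672 (allL N111672 (tt N79710 (iv1 D214914)) (tt N118208 (iv0 F509154)) (tt N112318 (iv2 F480521)) (tt N105168 (iv3 F477410)) (tt N112130 (iv4 F479647)) (tt N93063 F477409) (tt N87777 F477411) (tt N112869 (iv7 F483055)))
theorem Q111674 : ∀ i, i < 111674 → P i := stepQ 111673 Q111673 (allL N111673 (tt N112869 F483057) (tt N112318 (iv0 F480526)) (tt N79710 (iv2 D214915)) (tt N119490 (iv3 F515870)) (tt N96009 F477412) (tt N102410 F477413) (tt N81673 F477414) (tt N118208 (iv7 F509153)))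
theorem Q111675 : ∀ i, i < 111675 → P i := stepQ 111674 Q111674 (allL N111674 (tt N88251 F477420) (tt N93179 (iv0 F477421)) (tt N102218 F477415) (tt N88286 F477416) (tt N88245 F477417) (tt N102214 F477418) (tt N79716 (iv6 D214916)) (tt N88282 F477419))
theorem Q111676 : ∀ i, i < 111676 → P i := stepQ 111675 Q111675 (allL N111675 (tt N116222 F499105) (tt N111864 (iv0 F478381)) (tt N111009 F477422) (tt N79730 (iv3 D214917)) (tt N100825 F477423) (tt N92021 F477424) (tt N93074 F477425) (tt N79747 F477426))
theorem Q111677 : ∀ i, i < 111677 → P i := stepQ 111676 Q111676 (allL N111676 (tt N102066 F477430) (tt N102065 (iv0 F477431)) (tt N102068 F477427) (tt N83602 F477428) (tt N114239 (iv4 F489165)) (tt N102055 F477429) (tt N79736 (iv6 D214918)) (tt N102054 F477432))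
theorem Q111678 : ∀ i, i < 111678 → P i := stepQ 111677 Q111677 (allL N111677 (tt N112393 (iv1 F480903)) (tt N79745 (iv0 D214919)) (tt N103375 (iv2 F477434)) (tt N118781 (iv3 F512030)) (tt N91804 F477433) (tt N120583 (iv5 F521584)) (tt N106726 F477435) (tt N111862 (iv7 F478369)))
theorem Q111679 : ∀ i, i < 111679 → P i := stepQ 111678 Q111678 (allL N111678 (tt N103373 F477441) (tt N91817 F477442) (tt N103372 F477436) (tt N79746 F477437) (tt N102497 F477440) (tt N79745 (iv5 D214920)) (tt N103384 F477438) (tt N93228 F477439))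
theorem Q111680 : ∀ i, i < 111680 → P i := stepQ 111679 Q111679 (allL N111679 (tt N79747 (iv1 D214921)) (tt N111009 (iv0 F477446)) (tt N116222 (iv2 F499100)) (tt N102413 (iv3 F477443)) (tt N117026 (iv4 F503029)) (tt N102405 (iv5 F477444)) (tt N102406 (iv6 F477445)) (tt N111864 (iv7 F478380)))
theorem Q111681 : ∀ i, i < 111681 → P i := stepQ 111680 Q111680 (allL N111680 (tt N111864 F478382) (tt N116222 (iv0 F499104)) (tt N79747 (iv2 D214922)) (tt N112393 (iv3 F480898)) (tt N111995 (iv4 F479007)) (tt N92022 F477447) (tt N111832 (iv6 F478203)) (tt N111009 F477448))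
theorem Q111682 : ∀ i, i < 111682 → P i := stepQ 111681 Q111681 (allL N111681 (tt N86859 F477452) (tt N102354 F477453) (tt N102355 F477449) (tt N79749 F477450) (tt N104415 F477454) (tt N79748 (iv5 D214923)) (tt N117622 (iv6 F506049)) (tt N102350 F477451))
theorem Q111683 : ∀ i, i < 111683 → P i := stepQ 111682 Q111682 (allL N111682 (tt N100737 F477460) (tt N102413 F477461) (tt N79757 F477455) (tt N105869 F477456) (tt N79751 (iv4 D214924)) (tt N105868 F477459) (tt N100800 F477457) (tt N79754 F477458))
theorem Q111684 : ∀ i, i < 111684 → P i := stepQ 111683 Q111683 (allL N111683 (tt N97551 F477465) (tt N92020 F477466) (tt N116221 F499096) (tt N103368 F477462) (tt N97555 F477463) (tt N79754 (iv5 D214925)) (tt N113051 (iv6 F483735)) (tt N105868 F477464))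
theorem Q111685 : ∀ i, i < 111685 → P i := stepQ 111684 Q111684 (allL N111684 (tt N114213 (iv1 F489025)) (tt N114211 (iv0 F489016)) (tt N84558 F477467) (tt N95661 F477468) (tt N91923 F477469) (tt N114146 (iv5 F488742)) (tt N79771 (iv6 D214926)) (tt N84546 F477470))
theorem Q111686 : ∀ i, i < 111686 → P i := stepQ 111685 Q111685 (allL N111685 (tt N80082 (iv1 F477475)) (tt N79785 (iv0 D214927)) (tt N80071 (iv2 F477474)) (tt N96977 (iv3 F477477)) (tt N80065 F477472) (tt N110334 F477471) (tt N96975 F477473) (tt N80081 F477476))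
theorem Q111687 : ∀ i, i < 111687 → P i := stepQ 111686 Q111686 (allL N111686 (tt N80071 (iv1 F477484)) (tt N80081 F477483) (tt N79785 (iv2 D214928)) (tt N80077 F477478) (tt N104795 F477479) (tt N104595 F477480) (tt N80970 F477481) (tt N80082 F477482))
theorem Q111688 : ∀ i, i < 111688 → P i := stepQ 111687 Q111687 (allL N111687 (tt N79789 (iv1 D214929)) (tt N102021 F477485) (tt N97082 F477489) (tt N79791 (iv3 F477487)) (tt N112657 (iv4 F482036)) (tt N119379 (iv5 F515316)) (tt N80164 (iv6 F477488)) (tt N79873 F477486))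
theorem Q111689 : ∀ i, i < 111689 → P i := stepQ 111688 Q111688 (allL N111688 (tt N94925 F477495) (tt N94926 F477496) (tt N107738 F477490) (tt N94669 F477491) (tt N79793 (iv4 D214930)) (tt N94768 F477492) (tt N80171 F477493) (tt N79827 F477494))
theorem Q111690 : ∀ i, i < 111690 → P i := stepQ 111689 Q111689 (allL N111689 (tt N122043 (iv1 F529814)) (tt N81575 (iv0 F477501)) (tt N111075 F477497) (tt N111076 F477498) (tt N79795 (iv4 D214931)) (tt N88367 F477500) (tt N91843 F477499) (tt N115436 (iv7 F495191)))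
theorem Q111691 : ∀ i, i < 111691 → P i := stepQ 111690 Q111690 (allL N111690 (tt N81575 (iv1 F477506)) (tt N122043 F529815) (tt N115436 (iv2 F495188)) (tt N81562 F477502) (tt N79796 (iv4 D214932)) (tt N88368 F477505) (tt N87798 F477503) (tt N111075 F477504))
theorem Q111692 : ∀ i, i < 111692 → P i := stepQ 111691 Q111691 (allL N111691 (tt N100923 (iv1 F477511)) (tt N100920 F477510) (tt N79798 F477507) (tt N79807 F477508) (tt N88067 F477509) (tt N79797 (iv5 D214933)) (tt N88066 (iv6 F477512)) (tt N111696 (iv7 F477545)))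
theorem Q111693 : ∀ i, i < 111693 → P i := stepQ 111692 Q111692 (allL N111692 (tt N79818 (iv1 F477517)) (tt N79799 (iv0 D214934)) (tt N79816 (iv2 F477516)) (tt N88101 (iv3 F477519)) (tt N88133 F477513) (tt N105362 F477514) (tt N88121 F477515) (tt N79817 F477518))
theorem Q111694 : ∀ i, i < 111694 → P i := stepQ 111693 Q111693 (allL N111693 (tt N101905 F477524) (tt N101900 F477525) (tt N79809 F477520) (tt N86775 F477521) (tt N79807 (iv4 D214935)) (tt N79853 F477523) (tt N87392 (iv6 F477526)) (tt N87243 F477522))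
theorem Q111695 : ∀ i, i < 111695 → P i := stepQ 111694 Q111694 (allL N111694 (tt N95358 (iv1 F477533)) (tt N95500 (iv0 F477532)) (tt N79810 F477527) (tt N88066 F477528) (tt N87392 F477529) (tt N110899 F477530) (tt N79807 (iv6 D214936)) (tt N108205 F477531))
theorem Q111696 : ∀ i, i < 111696 → P i := stepQ 111695 Q111695 (allL N111695 (tt N95500 (iv1 F477540)) (tt N95358 F477541) (tt N108205 F477535) (tt N79818 F477536) (tt N95390 F477537) (tt N107843 F477538) (tt N88120 F477539) (tt N79810 (iv7 D214937)))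
theorem Q111697 : ∀ i, i < 111697 → P i := stepQ 111696 Q111696 (allL N111696 (tt N111358 (iv1 F477547)) (tt N111356 F477546) (tt N79814 (iv2 D214938)) (tt N96575 F477542) (tt N112229 (iv4 F480154)) (tt N100741 F477543) (tt N108888 F477544) (tt N111691 F477545))
theorem Q111698 : ∀ i, i < 111698 → P i := stepQ 111697 Q111697 (allL N111697 (tt N115934 (iv1 F497659)) (tt N115933 F497656) (tt N115889 (iv2 F497428)) (tt N79816 (iv3 D214939)) (tt N87300 (iv4 F477550)) (tt N103166 F477548) (tt N87299 (iv6 F477551)) (tt N87335 F477549))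
theorem Q111699 : ∀ i, i < 111699 → P i := stepQ 111698 Q111698 (allL N111698 (tt N118674 F511474) (tt N108203 (iv0 F477557)) (tt N88121 F477552) (tt N87299 F477553) (tt N88146 F477554) (tt N103165 F477555) (tt N79816 (iv6 D214940)) (tt N87297 F477556))
theorem Q111700 : ∀ i, i < 111700 → P i := stepQ 111699 Q111699 (allL N111699 (tt N115958 F497773) (tt N108202 (iv0 F477562)) (tt N115932 (iv2 F497650)) (tt N79817 (iv3 D214941)) (tt N88102 F477558) (tt N105358 F477559) (tt N105360 F477560) (tt N88101 F477561))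
theorem Q111701 : ∀ i, i < 111701 → P i := stepQ 111700 Q111700 (allL N111700 (tt N97760 F477567) (tt N94905 (iv0 F477568)) (tt N97762 F477563) (tt N79819 (iv3 D214942)) (tt N86942 F477564) (tt N96661 (iv5 F477569)) (tt N96044 F477565) (tt N97761 F477566))
theorem Q111702 : ∀ i, i < 111702 → P i := stepQ 111701 Q111701 (allL N111701 (tt N111449 (iv1 F477574)) (tt N111383 F477573) (tt N79821 (iv2 D214943)) (tt N93400 F477571) (tt N115789 (iv4 F496888)) (tt N122080 (iv5 F530038)) (tt N91509 F477572) (tt N112854 (iv7 F482979)))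
theorem Q111703 : ∀ i, i < 111703 → P i := stepQ 111702 Q111702 (allL N111702 (tt N111454 F477577) (tt N120560 (iv0 F521459)) (tt N122080 F530042) (tt N79822 F477575) (tt N95422 F477576) (tt N79821 (iv5 D214944)) (tt N122103 D225362) (tt N112855 (iv7 F482983)))
theorem Q111704 : ∀ i, i < 111704 → P i := stepQ 111703 Q111703 (allL N111703 (tt N87304 F477578) (tt N115899 F497482) (tt N112860 (iv2 F483004)) (tt N122103 (iv3 F530184)) (tt N120053 (iv4 F518787)) (tt N113220 (iv5 F484546)) (tt N79822 (iv6 D214945)) (tt N115898 (iv7 F497473)))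
theorem Q111705 : ∀ i, i < 111705 → P i := stepQ 111704 Q111704 (allL N111704 (tt N82051 F477584) (tt N82050 F477583) (tt N110506 F477579) (tt N107808 F477580) (tt N100375 F477582) (tt N79823 (iv5 D214946)) (tt N113220 F484548) (tt N110508 F477581))
theorem Q111706 : ∀ i, i < 111706 → P i := stepQ 111705 Q111705 (allL N111705 (tt N106731 F477589) (tt N112388 (iv0 F480873)) (tt N116458 (iv2 F500231)) (tt N79828 F477585) (tt N99860 F477586) (tt N79824 (iv5 D214947)) (tt N107103 F477587) (tt N99896 F477588))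
theorem Q111707 : ∀ i, i < 111707 → P i := stepQ 111706 Q111706 (allL N111706 (tt N108194 F477591) (tt N100556 (iv0 F477592)) (tt N119198 F514318) (tt N79826 F477590) (tt N122104 D225363) (tt N79825 (iv5 D214948)) (tt N119517 (iv6 F516021)) (tt N112859 (iv7 F483001)))
theorem Q111708 : ∀ i, i < 111708 → P i := stepQ 111707 Q111707 (allL N111707 (tt N122105 D225364) (tt N121409 (iv0 F526202)) (tt N112856 (iv2 F482987)) (tt N119517 (iv3 F516020)) (tt N115517 (iv4 F495603)) (tt N122106 D225365) (tt N79826 (iv6 D214949)) (tt N118917 (iv7 F512733)))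
theorem Q111709 : ∀ i, i < 111709 → P i := stepQ 111708 Q111708 (allL N111708 (tt N114475 F490375) (tt N95176 F477597) (tt N103738 F477593) (tt N93354 F477594) (tt N103658 F477596) (tt N79827 (iv5 D214950)) (tt N122106 (iv6 F530202)) (tt N94768 F477595))
theorem Q111710 : ∀ i, i < 111710 → P i := stepQ 111709 Q111709 (allL N111709 (tt N79833 (iv1 F477600)) (tt N79830 (iv0 D214951)) (tt N80274 (iv2 F477599)) (tt N111038 (iv3 F477602)) (tt N80282 F477598) (tt N114320 (iv5 F489583)) (tt N93475 (iv6 F477603)) (tt N105717 F477601))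
theorem Q111711 : ∀ i, i < 111711 → P i := stepQ 111710 Q111710 (allL N111710 (tt N111021 F477606) (tt N111719 (iv0 F477649)) (tt N111036 F477604) (tt N79830 (iv3 D214952)) (tt N96762 F477605) (tt N113077 (iv5 F483869)) (tt N117666 F506304) (tt N117408 (iv7 F504888)))
theorem Q111712 : ∀ i, i < 111712 → P i := stepQ 111711 Q111711 (allL N111711 (tt N80745 F477609) (tt N81978 (iv0 F477611)) (tt N105716 F477607) (tt N117666 (iv3 F506301)) (tt N79831 F477608) (tt N118583 (iv5 F511006)) (tt N79830 (iv6 D214953)) (tt N120550 (iv7 F521400)))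
theorem Q111713 : ∀ i, i < 111713 → P i := stepQ 111712 Q111712 (allL N111712 (tt N112407 F480977) (tt N111384 (iv0 F477616)) (tt N93254 F477612) (tt N97760 F477613) (tt N79837 (iv4 D214954)) (tt N122107 D225366) (tt N93253 F477614) (tt N111061 F477615))
theorem Q111714 : ∀ i, i < 111714 → P i := stepQ 111713 Q111713 (allL N111713 (tt N112430 (iv1 F481066)) (tt N86872 (iv0 F477621)) (tt N79840 F477617) (tt N79852 F477618) (tt N101964 F477619) (tt N98304 F477620) (tt N79839 (iv6 D214955)) (tt N112428 (iv7 F481048)))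
theorem Q111715 : ∀ i, i < 111715 → P i := stepQ 111714 Q111714 (allL N111714 (tt N112428 (iv1 F481047)) (tt N79840 (iv0 D214956)) (tt N112430 (iv2 F481060)) (tt N108961 F477623) (tt N120571 (iv4 F521512)) (tt N86873 F477622) (tt N108960 (iv6 F477624)) (tt N86872 F477625))
theorem Q111716 : ∀ i, i < 111716 → P i := stepQ 111715 Q111715 (allL N111715 (tt N79868 (iv1 F477628)) (tt N79841 (iv0 D214957)) (tt N79865 (iv2 F477627)) (tt N104050 (iv3 F477630)) (tt N120271 (iv4 F519941)) (tt N96900 F477626) (tt N104048 F477631) (tt N79866 F477629))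
theorem Q111717 : ∀ i, i < 111717 → P i := stepQ 111716 Q111716 (allL N111716 (tt N115145 (iv1 F493704)) (tt N112390 (iv0 F480885)) (tt N79867 F477632) (tt N118114 (iv3 F508679)) (tt N79841 (iv4 D214958)) (tt N111744 (iv5 F477762)) (tt N86526 F477633) (tt N111743 (iv7 F477757)))
theorem Q111718 : ∀ i, i < 111718 → P i := stepQ 111717 Q111717 (allL N111717 (tt N95634 F477637) (tt N95558 F477638) (tt N79872 F477634) (tt N92801 F477635) (tt N115280 (iv4 F494354)) (tt N79842 (iv5 D214959)) (tt N115279 F494351) (tt N79870 F477636))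
theorem Q111719 : ∀ i, i < 111719 → P i := stepQ 111718 Q111718 (allL N111718 (tt N79849 (iv1 F477644)) (tt N87457 (iv0 F477645)) (tt N111630 F477639) (tt N79843 (iv3 D214960)) (tt N81561 F477643) (tt N104415 F477640) (tt N81576 F477641) (tt N91184 F477642))
theorem Q111720 : ∀ i, i < 111720 → P i := stepQ 111719 Q111719 (allL N111719 (tt N111710 F477649) (tt N112826 (iv0 F482815)) (tt N91188 F477646) (tt N118911 F512708) (tt N79843 (iv4 D214961)) (tt N122108 D225367) (tt N111476 F477647) (tt N91185 F477648))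
theorem Q111721 : ∀ i, i < 111721 → P i := stepQ 111720 Q111720 (allL N111720 (tt N79861 F477654) (tt N118942 (iv0 F512880)) (tt N91186 F477650) (tt N103339 F477651) (tt N101955 F477652) (tt N115697 (iv5 F496369)) (tt N79844 (iv6 D214962)) (tt N101959 F477653))
theorem Q111722 : ∀ i, i < 111722 → P i := stepQ 111721 Q111721 (allL N111721 (tt N109020 F477661) (tt N84269 F477660) (tt N110600 F477655) (tt N79847 F477656) (tt N100150 F477659) (tt N79846 (iv5 D214963)) (tt N91317 F477657) (tt N111001 F477658))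
theorem Q111723 : ∀ i, i < 111723 → P i := stepQ 111722 Q111722 (allL N111722 (tt N87457 (iv1 F477666)) (tt N79849 (iv0 D214964)) (tt N91184 (iv2 F477665)) (tt N119236 (iv3 F514534)) (tt N81560 F477663) (tt N85698 F477662) (tt N93164 F477664) (tt N111630 F477667))
theorem Q111724 : ∀ i, i < 111724 → P i := stepQ 111723 Q111723 (allL N111723 (tt N79854 (iv1 D214965)) (tt N96959 F477668) (tt N115452 (iv2 F495260)) (tt N85685 (iv3 F477671)) (tt N84698 F477670) (tt N115452 (iv5 F495263)) (tt N87867 (iv6 F477672)) (tt N85682 F477669))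
theorem Q111725 : ∀ i, i < 111725 → P i := stepQ 111724 Q111724 (allL N111724 (tt N95299 F477677) (tt N95455 F477678) (tt N111229 F477673) (tt N79859 F477674) (tt N95554 F477675) (tt N79854 (iv5 D214966)) (tt N79857 F477676) (tt N118980 (iv7 F513098)))
theorem Q111726 : ∀ i, i < 111726 → P i := stepQ 111725 Q111725 (allL N111725 (tt N115452 (iv1 F495266)) (tt N85682 (iv0 F477683)) (tt N96959 F477679) (tt N79860 F477680) (tt N87625 F477681) (tt N118980 (iv5 F513097)) (tt N87624 F477682) (tt N79854 (iv7 D214967)))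
theorem Q111727 : ∀ i, i < 111727 → P i := stepQ 111726 Q111726 (allL N111726 (tt N101822 F477689) (tt N110909 F477690) (tt N93154 F477684) (tt N88237 F477685) (tt N82121 F477686) (tt N79855 (iv5 D214968)) (tt N88205 F477687) (tt N104410 F477688))
theorem Q111728 : ∀ i, i < 111728 → P i := stepQ 111727 Q111727 (allL N111727 (tt N85691 F477694) (tt N112422 (iv0 F481027)) (tt N88260 F477691) (tt N79858 (iv3 D214969)) (tt N100524 F477692) (tt N115473 (iv5 F495359)) (tt N83582 (iv6 F477695)) (tt N86810 F477693))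
theorem Q111729 : ∀ i, i < 111729 → P i := stepQ 111728 Q111728 (allL N111728 (tt N86814 F477699) (tt N86813 F477700) (tt N86808 F477696) (tt N115473 (iv3 F495357)) (tt N86509 F477697) (tt N79858 (iv5 D214970)) (tt N115262 (iv6 F494261)) (tt N86811 F477698))
theorem Q111730 : ∀ i, i < 111730 → P i := stepQ 111729 Q111729 (allL N111729 (tt N112434 F481092) (tt N87877 (iv0 F477706)) (tt N86809 F477701) (tt N83582 F477702) (tt N88816 F477703) (tt N82886 F477704) (tt N79858 (iv6 D214971)) (tt N88079 (iv7 F477705)))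
theorem Q111731 : ∀ i, i < 111731 → P i := stepQ 111730 Q111730 (allL N111730 (tt N86524 (iv1 F477713)) (tt N79859 (iv0 D214972)) (tt N86815 (iv2 F477709)) (tt N99574 F477710) (tt N86500 F477711) (tt N86485 F477707) (tt N99573 F477708) (tt N86816 F477712))
theorem Q111732 : ∀ i, i < 111732 → P i := stepQ 111731 Q111731 (allL N111731 (tt N86523 F477717) (tt N86522 F477718) (tt N86526 F477714) (tt N115288 (iv3 F494396)) (tt N79859 (iv4 D214973)) (tt N86429 F477715) (tt N79867 F477716) (tt N86428 F477719))
theorem Q111733 : ∀ i, i < 111733 → P i := stepQ 111732 Q111732 (allL N111732 (tt N86816 (iv1 F477723)) (tt N86815 F477724) (tt N86524 F477720) (tt N118980 (iv3 F513096)) (tt N86428 F477721) (tt N79860 F477722) (tt N115282 (iv6 F494364)) (tt N79859 (iv7 D214974)))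
theorem Q111734 : ∀ i, i < 111734 → P i := stepQ 111733 Q111733 (allL N111733 (tt N118934 (iv1 F512831)) (tt N118954 (iv0 F512953)) (tt N115209 (iv2 F494028)) (tt N114600 (iv3 F490953)) (tt N79862 (iv4 D214975)) (tt N111739 (iv5 F477745)) (tt N115207 F494019) (tt N120272 (iv7 F519949)))
theorem Q111735 : ∀ i, i < 111735 → P i := stepQ 111734 Q111734 (allL N111734 (tt N118954 (iv1 F512954)) (tt N118934 (iv0 F512830)) (tt N120272 (iv2 F519945)) (tt N115186 F493923) (tt N79864 (iv4 D214976)) (tt N111736 (iv5 F477731)) (tt N86880 F477725) (tt N115209 (iv7 F494032)))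
theorem Q111736 : ∀ i, i < 111736 → P i := stepQ 111735 Q111735 (allL N111735 (tt N115698 (iv1 F496376)) (tt N115697 (iv0 F496375)) (tt N115699 (iv2 F496383)) (tt N79865 (iv3 D214977)) (tt N104838 (iv4 F477728)) (tt N108280 F477726) (tt N104837 F477729) (tt N108636 F477727))
theorem Q111737 : ∀ i, i < 111737 → P i := stepQ 111736 Q111736 (allL N111736 (tt N120268 (iv1 F519925)) (tt N112401 (iv0 F480947)) (tt N120271 (iv2 F519943)) (tt N86612 F477730) (tt N79865 (iv4 D214978)) (tt N111734 F477731) (tt N122109 D225368) (tt N112391 (iv7 F480888)))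
theorem Q111738 : ∀ i, i < 111738 → P i := stepQ 111737 Q111737 (allL N111737 (tt N97313 F477736) (tt N115165 F494189) (tt N104048 F477732) (tt N104837 F477733) (tt N122109 (iv4 F530222)) (tt N111568 F477734) (tt N79865 (iv6 D214979)) (tt N104835 F477735))
theorem Q111739 : ∀ i, i < 111739 → P i := stepQ 111738 Q111738 (allL N111738 (tt N97317 F477742) (tt N84701 (iv0 F477743)) (tt N88295 F477737) (tt N79866 (iv3 D214980)) (tt N86135 (iv4 F477740)) (tt N96793 F477738) (tt N83713 F477741) (tt N104050 F477739))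
theorem Q111740 : ∀ i, i < 111740 → P i := stepQ 111739 Q111739 (allL N111739 (tt N112401 (iv1 F480948)) (tt N120268 (iv0 F519924)) (tt N112391 (iv2 F480887)) (tt N86151 F477744) (tt N79866 (iv4 D214981)) (tt N111733 F477745) (tt N86432 (iv6 F477746)) (tt N120271 (iv7 F519940)))
theorem Q111741 : ∀ i, i < 111741 → P i := stepQ 111740 Q111740 (allL N111740 (tt N87872 F477751) (tt N112059 F479299) (tt N108635 F477747) (tt N83713 F477748) (tt N86432 F477749) (tt N83712 F477750) (tt N79866 (iv6 D214982)) (tt N86572 F477752))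
theorem Q111742 : ∀ i, i < 111742 → P i := stepQ 111741 Q111741 (allL N111741 (tt N79867 (iv1 D214983)) (tt N111743 (iv0 F477759)) (tt N112390 (iv2 F480881)) (tt N115181 (iv3 F493897)) (tt N96957 F477753) (tt N111747 (iv5 F477772)) (tt N112878 (iv6 F483105)) (tt N115145 (iv7 F493703)))
theorem Q111743 : ∀ i, i < 111743 → P i := stepQ 111742 Q111742 (allL N111742 (tt N86624 F477755) (tt N115265 (iv0 F494279)) (tt N115292 (iv2 F494418)) (tt N79867 (iv3 D214984)) (tt N110974 F477754) (tt N115252 (iv5 F494218)) (tt N115288 F494399) (tt N115289 (iv7 F494403)))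
theorem Q111744 : ∀ i, i < 111744 → P i := stepQ 111743 Q111743 (allL N111743 (tt N111741 F477759) (tt N86427 F477758) (tt N111744 (iv2 F477760)) (tt N115252 (iv3 F494216)) (tt N111448 F477756) (tt N79867 (iv5 D214985)) (tt N115219 (iv6 F494072)) (tt N111716 F477757))
theorem Q111745 : ∀ i, i < 111745 → P i := stepQ 111744 Q111744 (allL N111744 (tt N112390 (iv1 F480886)) (tt N115145 F493705) (tt N111743 F477760) (tt N115289 (iv3 F494401)) (tt N79868 F477761) (tt N111716 F477762) (tt N115220 (iv6 F494075)) (tt N79867 (iv7 D214986)))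
theorem Q111746 : ∀ i, i < 111746 → P i := stepQ 111745 Q111745 (allL N111745 (tt N113670 F486558) (tt N112053 (iv0 F479270)) (tt N112458 F481181) (tt N112441 F481128) (tt N115220 (iv4 F494077)) (tt N111051 F477763) (tt N79868 (iv6 D214987)) (tt N115282 (iv7 F494365)))
theorem Q111747 : ∀ i, i < 111747 → P i := stepQ 111746 Q111746 (allL N111746 (tt N111632 (iv1 F477770)) (tt N81574 F477769) (tt N79869 (iv2 D214988)) (tt N95347 F477764) (tt N91937 F477765) (tt N92802 F477766) (tt N91847 F477767) (tt N91937 F477768))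
theorem Q111748 : ∀ i, i < 111748 → P i := stepQ 111747 Q111747 (allL N111747 (tt N115258 F494245) (tt N115287 F494393) (tt N115288 (iv2 F494395)) (tt N86488 F477771) (tt N79870 (iv4 D214989)) (tt N111741 F477772) (tt N115292 (iv6 F494422)) (tt N115280 F494356))
theorem Q111749 : ∀ i, i < 111749 → P i := stepQ 111748 Q111748 (allL N111748 (tt N116827 F502040) (tt N119378 (iv0 F515312)) (tt N118988 (iv2 F513140)) (tt N79876 F477773) (tt N110302 (iv4 F477775)) (tt N79873 (iv5 D214990)) (tt N101890 F477774) (tt N119379 (iv7 F515318)))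
theorem Q111750 : ∀ i, i < 111750 → P i := stepQ 111749 Q111749 (allL N111749 (tt N79874 (iv1 D214991)) (tt N106719 F477776) (tt N81571 (iv2 F477779)) (tt N122043 (iv3 F529809)) (tt N82567 F477778) (tt N112849 (iv5 F482952)) (tt N119330 (iv6 F515055)) (tt N111652 F477777))
theorem Q111751 : ∀ i, i < 111751 → P i := stepQ 111750 Q111750 (allL N111750 (tt N97198 F477783) (tt N100524 F477784) (tt N103992 F477780) (tt N106717 F477781) (tt N115729 (iv4 F496551)) (tt N108972 F477782) (tt N79875 (iv6 D214992)) (tt N119345 (iv7 F515133)))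
theorem Q111752 : ∀ i, i < 111752 → P i := stepQ 111751 Q111751 (allL N111751 (tt N103340 F477788) (tt N115776 (iv0 F496811)) (tt N111073 F477785) (tt N79877 (iv3 D214993)) (tt N79879 F477786) (tt N116236 (iv5 F499169)) (tt N104271 (iv6 F477789)) (tt N111072 F477787))
theorem Q111753 : ∀ i, i < 111753 → P i := stepQ 111752 Q111752 (allL N111752 (tt N88680 F477794) (tt N88682 F477796) (tt N101734 F477790) (tt N104271 F477791) (tt N79878 F477792) (tt N97701 (iv5 F477795)) (tt N79877 (iv6 D214994)) (tt N101733 F477793))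
theorem Q111754 : ∀ i, i < 111754 → P i := stepQ 111753 Q111753 (allL N111753 (tt N81166 F477801) (tt N80814 (iv0 F477802)) (tt N81165 F477797) (tt N79881 F477798) (tt N104271 F477799) (tt N119337 (iv5 F515095)) (tt N79879 (iv6 D214995)) (tt N81164 F477800))
theorem Q111755 : ∀ i, i < 111755 → P i := stepQ 111754 Q111754 (allL N111754 (tt N86877 F477804) (tt N112420 (iv0 F481022)) (tt N112423 F481033) (tt N115717 (iv3 F496482)) (tt N96764 F477803) (tt N121073 (iv5 F524371)) (tt N79880 (iv6 D214996)) (tt N112424 (iv7 F481031)))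
theorem Q111756 : ∀ i, i < 111756 → P i := stepQ 111755 Q111755 (allL N111755 (tt N95492 (iv1 F477806)) (tt N118902 F512662) (tt N114842 (iv2 F492140)) (tt N119337 (iv3 F515097)) (tt N105941 F477805) (tt N79881 (iv5 D214997)) (tt N121073 (iv6 F524372)) (tt N119235 (iv7 F514529)))
theorem Q111757 : ∀ i, i < 111757 → P i := stepQ 111756 Q111756 (allL N111756 (tt N79887 (iv1 F477810)) (tt N79884 (iv0 D214998)) (tt N95417 (iv2 F477809)) (tt N101961 F477813) (tt N81219 F477808) (tt N110914 F477807) (tt N95414 (iv6 F477812)) (tt N109804 F477811))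
theorem Q111758 : ∀ i, i < 111758 → P i := stepQ 111757 Q111757 (allL N111757 (tt N103341 F477817) (tt N100716 (iv0 F477818)) (tt N103234 (iv2 F477819)) (tt N79887 (iv3 D214999)) (tt N103232 F477814) (tt N102863 F477815) (tt N112850 (iv6 F482957)) (tt N103334 F477816))
theorem Q111759 : ∀ i, i < 111759 → P i := stepQ 111758 Q111758 (allL N111758 (tt N79902 (iv1 D215000)) (tt N94128 F477820) (tt N104921 F477824) (tt N119267 (iv3 F514718)) (tt N100660 F477822) (tt N116515 (iv5 F500563)) (tt N108808 (iv6 F477823)) (tt N104033 F477821))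
theorem Q111760 : ∀ i, i < 111760 → P i := stepQ 111759 Q111759 (allL N111759 (tt N109643 F477827) (tt N113112 (iv0 F484024)) (tt N113110 F484016) (tt N109661 F477825) (tt N89717 F477826) (tt N119611 (iv5 F516506)) (tt N79903 (iv6 D215001)) (tt N113111 (iv7 F484017)))
theorem Q111761 : ∀ i, i < 111761 → P i := stepQ 111760 Q111760 (allL N111760 (tt N81292 (iv1 F477832)) (tt N81331 F477833) (tt N81330 F477828) (tt N79910 F477829) (tt N114882 (iv4 F492324)) (tt N85072 F477830) (tt N110419 F477831) (tt N79906 (iv7 D215002)))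
theorem Q111762 : ∀ i, i < 111762 → P i := stepQ 111761 Q111761 (allL N111761 (tt N80035 F477839) (tt N110339 (iv0 F477840)) (tt N88096 F477834) (tt N79908 (iv3 D215003)) (tt N79957 F477835) (tt N104756 F477836) (tt N80862 F477837) (tt N79912 F477838))
theorem Q111763 : ∀ i, i < 111763 → P i := stepQ 111762 Q111762 (allL N111762 (tt N80646 F477844) (tt N81413 F477845) (tt N81473 F477841) (tt N112718 (iv3 F482332)) (tt N117310 (iv4 F504398)) (tt N79917 (iv5 D215004)) (tt N82224 F477842) (tt N81472 F477843))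
theorem Q111764 : ∀ i, i < 111764 → P i := stepQ 111763 Q111763 (allL N111763 (tt N115483 F495423) (tt N98412 F477850) (tt N97184 F477846) (tt N86811 F477847) (tt N79926 (iv4 D215005)) (tt N86810 F477849) (tt N79928 F477848) (tt N115473 (iv7 F495360)))
theorem Q111765 : ∀ i, i < 111765 → P i := stepQ 111764 Q111764 (allL N111764 (tt N97185 (iv1 F477855)) (tt N92992 F477856) (tt N97186 F477851) (tt N86722 F477852) (tt N115473 (iv4 F495358)) (tt N79927 F477853) (tt N86719 F477854) (tt N79926 (iv7 D215006)))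
theorem Q111766 : ∀ i, i < 111766 → P i := stepQ 111765 Q111765 (allL N111765 (tt N84268 F477860) (tt N115451 F495258) (tt N121070 (iv2 F524353)) (tt N79928 (iv3 D215007)) (tt N115183 (iv4 F493906)) (tt N105253 F477857) (tt N86811 F477858) (tt N97182 F477859))
theorem Q111767 : ∀ i, i < 111767 → P i := stepQ 111766 Q111766 (allL N111766 (tt N87940 F477864) (tt N87941 F477865) (tt N91374 F477861) (tt N87965 F477862) (tt N87410 F477863) (tt N79932 (iv5 D215008)) (tt N115594 (iv6 F495914)) (tt N111771 (iv7 F477888)))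
theorem Q111768 : ∀ i, i < 111768 → P i := stepQ 111767 Q111767 (allL N111767 (tt N106884 F477869) (tt N86973 (iv0 F477871)) (tt N117952 (iv2 F507756)) (tt N87001 F477866) (tt N98474 F477867) (tt N90374 F477870) (tt N79932 (iv6 D215009)) (tt N102994 F477868))
theorem Q111769 : ∀ i, i < 111769 → P i := stepQ 111768 Q111768 (allL N111768 (tt N84204 F477874) (tt N87064 F477875) (tt N114011 (iv2 F488192)) (tt N79933 (iv3 D215010)) (tt N84201 F477872) (tt N112279 (iv5 F480325)) (tt N86988 F477873) (tt N114010 F488186))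
theorem Q111770 : ∀ i, i < 111770 → P i := stepQ 111769 Q111769 (allL N111769 (tt N87941 F477878) (tt N87940 F477879) (tt N111771 F477891) (tt N112279 F480327) (tt N84525 F477876) (tt N79933 (iv5 D215011)) (tt N108513 (iv6 F477880)) (tt N91374 F477877))
theorem Q111771 : ∀ i, i < 111771 → P i := stepQ 111770 Q111770 (allL N111770 (tt N109544 F477884) (tt N104225 F477885) (tt N109541 F477881) (tt N79935 F477882) (tt N121037 (iv4 F524149)) (tt N79934 (iv5 D215012)) (tt N119321 (iv6 F515004)) (tt N109542 F477883))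
theorem Q111772 : ∀ i, i < 111772 → P i := stepQ 111771 Q111771 (allL N111771 (tt N79939 (iv1 D215013)) (tt N79951 F477887) (tt N111769 (iv2 F477891)) (tt N87278 F477892) (tt N111303 F477890) (tt N98123 F477889) (tt N120042 (iv6 F518713)) (tt N111766 F477888))
theorem Q111773 : ∀ i, i < 111773 → P i := stepQ 111772 Q111772 (allL N111772 (tt N102958 (iv1 F477894)) (tt N79940 (iv0 D215014)) (tt N100648 (iv2 F477895)) (tt N118806 (iv3 F512170)) (tt N97254 F477893) (tt N115759 (iv5 F496704)) (tt N117407 (iv6 F504880)) (tt N92643 (iv7 F477896)))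
theorem Q111774 : ∀ i, i < 111774 → P i := stepQ 111773 Q111773 (allL N111773 (tt N79940 (iv1 D215015)) (tt N102958 F477897) (tt N92643 F477902) (tt N87194 (iv3 F477901)) (tt N92224 F477899) (tt N98272 F477900) (tt N79969 F477903) (tt N100648 F477898))
theorem Q111775 : ∀ i, i < 111775 → P i := stepQ 111774 Q111774 (allL N111774 (tt N79959 F477909) (tt N104939 F477910) (tt N88240 F477904) (tt N91312 F477905) (tt N79942 (iv4 D215016)) (tt N88239 F477906) (tt N79973 F477907) (tt N95452 F477908))
theorem Q111776 : ∀ i, i < 111776 → P i := stepQ 111775 Q111775 (allL N111775 (tt N102990 (iv1 F477915)) (tt N79945 (iv0 D215017)) (tt N102965 (iv2 F477914)) (tt N84211 F477912) (tt N84485 F477911) (tt N115493 (iv5 F495479)) (tt N79962 F477913) (tt N84207 F477916))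
theorem Q111777 : ∀ i, i < 111777 → P i := stepQ 111776 Q111776 (allL N111776 (tt N122110 D225369) (tt N121702 (iv0 F527843)) (tt N115658 (iv2 F496182)) (tt N111639 F477917) (tt N87184 F477918) (tt N111875 (iv5 F478444)) (tt N79946 (iv6 D215018)) (tt N119324 (iv7 F515023)))
theorem Q111778 : ∀ i, i < 111778 → P i := stepQ 111777 Q111777 (allL N111777 (tt N79947 (iv1 D215019)) (tt N93130 F477919) (tt N98158 F477923) (tt N109242 (iv3 F477924)) (tt N120577 (iv4 F521547)) (tt N92658 (iv5 F477921)) (tt N92932 (iv6 F477922)) (tt N92657 F477920))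
theorem Q111779 : ∀ i, i < 111779 → P i := stepQ 111778 Q111778 (allL N111778 (tt N102221 F477928) (tt N102220 F477929) (tt N117950 (iv2 F507747)) (tt N88243 F477925) (tt N79947 (iv4 D215020)) (tt N118084 (iv5 F508482)) (tt N79948 F477926) (tt N94011 F477927))
theorem Q111780 : ∀ i, i < 111780 → P i := stepQ 111779 Q111779 (allL N111779 (tt N93002 F477934) (tt N93003 F477935) (tt N97690 F477930) (tt N88242 F477931) (tt N98063 F477933) (tt N79948 (iv5 D215021)) (tt N98060 F477936) (tt N97689 F477932))
theorem Q111781 : ∀ i, i < 111781 → P i := stepQ 111780 Q111780 (allL N111780 (tt N120766 (iv1 F522598)) (tt N109530 F477940) (tt N109539 F477937) (tt N79951 F477938) (tt N120908 (iv4 F523401)) (tt N79950 (iv5 D215022)) (tt N119235 (iv6 F514528)) (tt N109540 F477939))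
theorem Q111782 : ∀ i, i < 111782 → P i := stepQ 111781 Q111781 (allL N111781 (tt N119361 (iv1 F515215)) (tt N84363 F477943) (tt N110338 F477941) (tt N79955 F477942) (tt N117576 (iv4 F505799)) (tt N79954 (iv5 D215023)) (tt N121068 (iv6 F524342)) (tt N119553 (iv7 F516210)))
theorem Q111783 : ∀ i, i < 111783 → P i := stepQ 111782 Q111782 (allL N111782 (tt N79955 (iv1 D215024)) (tt N79958 F477944) (tt N91919 (iv2 F477950)) (tt N84631 (iv3 F477948)) (tt N87180 F477947) (tt N87494 F477946) (tt N84636 F477949) (tt N87493 F477945))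
theorem Q111784 : ∀ i, i < 111784 → P i := stepQ 111783 Q111783 (allL N111783 (tt N121043 (iv1 F524192)) (tt N115659 (iv0 F496186)) (tt N88097 F477951) (tt N79958 F477952) (tt N122105 (iv4 F530195)) (tt N79957 (iv5 D215025)) (tt N114272 (iv6 F489326)) (tt N88094 F477953))
theorem Q111785 : ∀ i, i < 111785 → P i := stepQ 111784 Q111784 (allL N111784 (tt N93903 F477956) (tt N114136 (iv0 F488700)) (tt N114139 F488715) (tt N114272 (iv3 F489325)) (tt N87411 F477954) (tt N104934 F477955) (tt N79958 (iv6 D215026)) (tt N114140 (iv7 F488717)))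
theorem Q111786 : ∀ i, i < 111786 → P i := stepQ 111785 Q111785 (allL N111785 (tt N111491 (iv1 F477961)) (tt N111490 F477962) (tt N111492 (iv2 F477960)) (tt N79960 (iv3 D215027)) (tt N111885 (iv4 F478493)) (tt N100770 F477957) (tt N111462 F477958) (tt N80252 F477959))
theorem Q111787 : ∀ i, i < 111787 → P i := stepQ 111786 Q111786 (allL N111786 (tt N88083 F477966) (tt N88102 (iv0 F477967)) (tt N88100 F477963) (tt N79961 (iv3 D215028)) (tt N122111 D225370) (tt N88176 F477964) (tt N111488 (iv6 F477968)) (tt N88099 F477965))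
theorem Q111788 : ∀ i, i < 111788 → P i := stepQ 111787 Q111787 (allL N111787 (tt N111459 (iv1 F477974)) (tt N111458 F477975) (tt N80251 F477969) (tt N111488 F477970) (tt N87414 F477971) (tt N80250 F477972) (tt N79961 (iv6 D215029)) (tt N111457 F477973))
theorem Q111789 : ∀ i, i < 111789 → P i := stepQ 111788 Q111788 (allL N111788 (tt N106880 (iv1 F477981)) (tt N79963 (iv0 D215030)) (tt N115759 F496708) (tt N86992 (iv3 F477978)) (tt N98273 F477977) (tt N100648 F477976) (tt N104196 (iv6 F477979)) (tt N98272 (iv7 F477980)))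
theorem Q111790 : ∀ i, i < 111790 → P i := stepQ 111789 Q111789 (allL N111789 (tt N98272 (iv1 F477985)) (tt N115759 F496709) (tt N106880 F477982) (tt N119004 F513234) (tt N98068 F477983) (tt N79964 F477984) (tt N119350 F515162) (tt N79963 (iv7 D215031)))
theorem Q111791 : ∀ i, i < 111791 → P i := stepQ 111790 Q111790 (allL N111790 (tt N108971 F477989) (tt N87172 (iv0 F477990)) (tt N92645 F477986) (tt N89917 F477987) (tt N109564 F477988) (tt N115761 (iv5 F496717)) (tt N79970 (iv6 D215032)) (tt N117407 (iv7 F504881)))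
theorem Q111792 : ∀ i, i < 111792 → P i := stepQ 111791 Q111791 (allL N111791 (tt N90767 F477994) (tt N90759 F477995) (tt N90763 F477991) (tt N90349 F477992) (tt N79971 (iv4 D215033)) (tt N108197 (iv5 F477997)) (tt N87707 F477993) (tt N90764 F477996))
theorem Q111793 : ∀ i, i < 111793 → P i := stepQ 111792 Q111792 (allL N111792 (tt N92647 (iv1 F478003)) (tt N92646 F478004) (tt N92648 F477998) (tt N103994 F477999) (tt N90764 F478000) (tt N79972 F478001) (tt N103997 F478002) (tt N79971 (iv7 D215034)))
theorem Q111794 : ∀ i, i < 111794 → P i := stepQ 111793 Q111793 (allL N111793 (tt N122112 D225371) (tt N114361 F489801) (tt N92652 F478005) (tt N121024 (iv3 F524077)) (tt N79974 (iv4 D215035)) (tt N122113 D225372) (tt N119276 (iv6 F514774)) (tt N92654 F478006))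
theorem Q111795 : ∀ i, i < 111795 → P i := stepQ 111794 Q111794 (allL N111794 (tt N114361 F489800) (tt N122112 F530243) (tt N92654 F478007) (tt N95808 F478008) (tt N79975 (iv4 D215036)) (tt N122114 D225373) (tt N95807 F478009) (tt N92652 F478010))
theorem Q111796 : ∀ i, i < 111796 → P i := stepQ 111795 Q111795 (allL N111795 (tt N118075 (iv1 F508437)) (tt N103395 (iv0 F478013)) (tt N120800 (iv2 F522784)) (tt N79976 (iv3 D215037)) (tt N98013 F478011) (tt N122115 D225374) (tt N92611 F478012) (tt N120753 (iv7 F522530)))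
theorem Q111797 : ∀ i, i < 111797 → P i := stepQ 111796 Q111796 (allL N111796 (tt N117043 F503100) (tt N117045 (iv0 F503109)) (tt N92618 F478014) (tt N122115 (iv3 F530260)) (tt N108110 F478016) (tt N79976 (iv5 D215038)) (tt N92618 F478015) (tt N108198 (iv7 F478017)))
theorem Q111798 : ∀ i, i < 111798 → P i := stepQ 111797 Q111797 (allL N111797 (tt N92617 (iv1 F478021)) (tt N92616 F478022) (tt N92619 F478018) (tt N120753 (iv3 F522528)) (tt N79977 F478019) (tt N108198 F478020) (tt N119148 F514045) (tt N79976 (iv7 D215039)))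
theorem Q111799 : ∀ i, i < 111799 → P i := stepQ 111798 Q111798 (allL N111798 (tt N115451 F495259) (tt N84268 F478026) (tt N97182 F478023) (tt N79980 F478024) (tt N115152 (iv4 F493744)) (tt N79979 (iv5 D215040)) (tt N88153 F478025) (tt N121070 (iv7 F524357)))
theorem Q111800 : ∀ i, i < 111800 → P i := stepQ 111799 Q111799 (allL N111799 (tt N87862 (iv1 F478030)) (tt N104326 F478031) (tt N105253 F478027) (tt N79981 F478028) (tt N110304 F478029) (tt N121070 (iv5 F524356)) (tt N111809 (iv6 F478086)) (tt N79979 (iv7 D215041)))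
theorem Q111801 : ∀ i, i < 111801 → P i := stepQ 111800 Q111800 (allL N111800 (tt N88218 (iv1 F478038)) (tt N79980 (iv0 D215042)) (tt N87895 (iv2 F478035)) (tt N88232 F478036) (tt N98157 F478033) (tt N95452 F478032) (tt N95454 F478034) (tt N88239 F478037))
theorem Q111802 : ∀ i, i < 111802 → P i := stepQ 111801 Q111801 (allL N111801 (tt N88239 (iv1 F478042)) (tt N87895 F478043) (tt N88218 F478039) (tt N121070 (iv3 F524354)) (tt N79983 F478040) (tt N79981 F478041) (tt N115263 (iv6 F494269)) (tt N79980 (iv7 D215043)))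
theorem Q111803 : ∀ i, i < 111803 → P i := stepQ 111802 Q111802 (allL N111802 (tt N104065 F478048) (tt N119602 (iv0 F516468)) (tt N98371 F478044) (tt N98674 F478045) (tt N113308 (iv4 F484950)) (tt N79987 (iv5 D215044)) (tt N98449 F478046) (tt N98369 F478047))
theorem Q111804 : ∀ i, i < 111804 → P i := stepQ 111803 Q111803 (allL N111803 (tt N98373 (iv1 F478053)) (tt N98372 F478054) (tt N98375 F478049) (tt N99604 F478050) (tt N119170 (iv4 F514169)) (tt N79989 F478051) (tt N98439 F478052) (tt N79988 (iv7 D215045)))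
theorem Q111805 : ∀ i, i < 111805 → P i := stepQ 111804 Q111804 (allL N111804 (tt N107879 F478058) (tt N113276 (iv0 F484826)) (tt N109905 F478055) (tt N94234 F478059) (tt N79998 (iv4 D215046)) (tt N106958 F478056) (tt N94232 (iv6 F478060)) (tt N108038 F478057))
theorem Q111806 : ∀ i, i < 111806 → P i := stepQ 111805 Q111805 (allL N111805 (tt N109141 F478066) (tt N82147 F478067) (tt N94057 F478061) (tt N81489 F478062) (tt N94232 F478063) (tt N100489 F478064) (tt N79998 (iv6 D215047)) (tt N106187 F478065))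
theorem Q111807 : ∀ i, i < 111807 → P i := stepQ 111806 Q111806 (allL N111806 (tt N122116 D225375) (tt N121962 (iv0 F529326)) (tt N108948 (iv2 F478070)) (tt N80000 (iv3 D215048)) (tt N108945 F478068) (tt N117872 (iv5 F507369)) (tt N106973 F478069) (tt N117073 (iv7 F503248)))
theorem Q111808 : ∀ i, i < 111808 → P i := stepQ 111807 Q111807 (allL N111807 (tt N91326 F478075) (tt N102770 F478076) (tt N102644 F478071) (tt N80824 F478072) (tt N107672 F478077) (tt N80021 (iv5 D215049)) (tt N81239 F478073) (tt N102800 F478074))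
theorem Q111809 : ∀ i, i < 111809 → P i := stepQ 111808 Q111808 (allL N111808 (tt N114548 (iv1 F490722)) (tt N113932 (iv0 F487853)) (tt N115369 (iv2 F494844)) (tt N80028 F478078) (tt N104917 (iv4 F478081)) (tt N80026 (iv5 D215050)) (tt N87395 F478079) (tt N102864 F478080))
theorem Q111810 : ∀ i, i < 111810 → P i := stepQ 111809 Q111809 (allL N111809 (tt N84401 (iv1 F478087)) (tt N83888 F478088) (tt N84241 F478082) (tt N80029 F478083) (tt N83865 F478084) (tt N102864 F478085) (tt N111799 F478086) (tt N80026 (iv7 D215051)))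
theorem Q111811 : ∀ i, i < 111811 → P i := stepQ 111810 Q111810 (allL N111810 (tt N101015 F478093) (tt N101014 F478094) (tt N100819 F478089) (tt N90392 F478090) (tt N116889 (iv4 F502365)) (tt N80037 (iv5 D215052)) (tt N106999 F478091) (tt N90403 F478092))
theorem Q111812 : ∀ i, i < 111812 → P i := stepQ 111811 Q111811 (allL N111811 (tt N80038 (iv1 D215053)) (tt N97846 F478095) (tt N101712 F478100) (tt N87730 (iv3 F478098)) (tt N111928 (iv4 F478705)) (tt N102364 F478097) (tt N80066 (iv6 F478099)) (tt N101713 F478096))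
theorem Q111813 : ∀ i, i < 111813 → P i := stepQ 111812 Q111812 (allL N111812 (tt N112380 F480824) (tt N80047 (iv0 F478106)) (tt N109235 F478101) (tt N80044 (iv3 D215054)) (tt N94820 F478105) (tt N100691 F478102) (tt N80991 F478103) (tt N105712 F478104))
theorem Q111814 : ∀ i, i < 111814 → P i := stepQ 111813 Q111813 (allL N111813 (tt N81978 F478109) (tt N80745 F478110) (tt N120550 (iv2 F521397)) (tt N81971 F478111) (tt N80044 (iv4 D215055)) (tt N121786 (iv5 F528306)) (tt N109854 F478107) (tt N105716 F478108))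
theorem Q111815 : ∀ i, i < 111815 → P i := stepQ 111814 Q111814 (allL N111814 (tt N80049 (iv1 F478115)) (tt N80048 (iv0 D215056)) (tt N80161 (iv2 F478114)) (tt N97068 (iv3 F478117)) (tt N81294 F478113) (tt N96566 F478112) (tt N97067 F478118) (tt N96565 F478116))
theorem Q111816 : ∀ i, i < 111816 → P i := stepQ 111815 Q111815 (allL N111815 (tt N103412 F478124) (tt N119219 (iv0 F514435)) (tt N92691 F478119) (tt N80050 (iv3 D215057)) (tt N87902 F478120) (tt N103471 F478121) (tt N92681 F478122) (tt N87781 F478123))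
theorem Q111817 : ∀ i, i < 111817 → P i := stepQ 111816 Q111816 (allL N111816 (tt N92118 F478129) (tt N80156 (iv0 F478131)) (tt N97047 F478125) (tt N97772 F478126) (tt N96975 F478127) (tt N98008 F478130) (tt N80065 (iv6 D215058)) (tt N97837 F478128))
theorem Q111818 : ∀ i, i < 111818 → P i := stepQ 111817 Q111817 (allL N111817 (tt N92051 F478137) (tt N92014 (iv0 F478138)) (tt N97518 F478132) (tt N80066 (iv3 D215059)) (tt N87731 F478133) (tt N92670 F478134) (tt N87730 F478135) (tt N97048 F478136))
theorem Q111819 : ∀ i, i < 111819 → P i := stepQ 111818 Q111818 (allL N111818 (tt N111629 F478143) (tt N115775 (iv0 F496805)) (tt N111619 F478139) (tt N80072 (iv3 D215060)) (tt N97048 F478140) (tt N120947 (iv5 F523632)) (tt N95375 F478141) (tt N87731 F478142))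
theorem Q111820 : ∀ i, i < 111820 → P i := stepQ 111819 Q111819 (allL N111819 (tt N120996 (iv1 F523926)) (tt N95425 F478144) (tt N114844 (iv2 F492148)) (tt N120947 F523637) (tt N121016 (iv4 F524031)) (tt N80072 (iv5 D215061)) (tt N121715 F527924) (tt N114843 (iv7 F492146)))
theorem Q111821 : ∀ i, i < 111821 → P i := stepQ 111820 Q111820 (allL N111820 (tt N114835 (iv1 F492119)) (tt N102972 F478146) (tt N80075 F478145) (tt N122074 (iv3 F530005)) (tt N116907 (iv4 F502444)) (tt N80073 (iv5 D215062)) (tt N122117 D225376) (tt N114832 (iv7 F492106)))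
theorem Q111822 : ∀ i, i < 111822 → P i := stepQ 111821 Q111821 (allL N111821 (tt N80075 (iv1 D215063)) (tt N114832 (iv0 F492107)) (tt N102972 F478149) (tt N87429 (iv3 F478148)) (tt N106423 F478151) (tt N102969 F478147) (tt N87428 F478150) (tt N114835 (iv7 F492120)))
theorem Q111823 : ∀ i, i < 111823 → P i := stepQ 111822 Q111822 (allL N111822 (tt N106405 F484650) (tt N106408 F478152) (tt N116907 (iv2 F502443)) (tt N114836 (iv3 F492123)) (tt N80075 (iv4 D215064)) (tt N113236 F484649) (tt N120934 F523562) (tt N114836 (iv7 F492124)))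
theorem Q111824 : ∀ i, i < 111824 → P i := stepQ 111823 Q111823 (allL N111823 (tt N122090 F530099) (tt N115707 (iv0 F496428)) (tt N122117 (iv2 F530272)) (tt N111051 F478153) (tt N120934 (iv4 F523561)) (tt N112441 F481129) (tt N80075 (iv6 D215065)) (tt N122118 D225377))
theorem Q111825 : ∀ i, i < 111825 → P i := stepQ 111824 Q111824 (allL N111824 (tt N80952 F478159) (tt N80955 (iv0 F478160)) (tt N90522 F478154) (tt N80080 F478155) (tt N85956 F478156) (tt N80722 F478157) (tt N80078 (iv6 D215066)) (tt N80721 F478158))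
theorem Q111826 : ∀ i, i < 111826 → P i := stepQ 111825 Q111825 (allL N111825 (tt N104131 F478166) (tt N103141 F478167) (tt N80083 F478161) (tt N104077 F478162) (tt N87788 F478163) (tt N80082 (iv5 D215067)) (tt N102830 F478164) (tt N104595 F478165))
theorem Q111827 : ∀ i, i < 111827 → P i := stepQ 111826 Q111826 (allL N111826 (tt N104595 (iv1 F478171)) (tt N80083 (iv0 D215068)) (tt N104131 (iv2 F478170)) (tt N97403 (iv3 F478173)) (tt N104597 F478169) (tt N97399 F478168) (tt N117697 F506482) (tt N103141 F478172))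
theorem Q111828 : ∀ i, i < 111828 → P i := stepQ 111827 Q111827 (allL N111827 (tt N89191 F478178) (tt N107570 F478179) (tt N90733 F478174) (tt N84334 F478175) (tt N108384 F478177) (tt N80087 (iv5 D215069)) (tt N121686 (iv6 F527741)) (tt N108418 F478176))
theorem Q111829 : ∀ i, i < 111829 → P i := stepQ 111828 Q111828 (allL N111828 (tt N89603 F478185) (tt N89029 (iv0 F478186)) (tt N82360 F478180) (tt N80089 (iv3 D215070)) (tt N85341 F478181) (tt N82359 F478182) (tt N110989 F478183) (tt N88505 F478184))
theorem Q111830 : ∀ i, i < 111830 → P i := stepQ 111829 Q111829 (allL N111829 (tt N116977 F502792) (tt N80090 (iv0 D215071)) (tt N112656 (iv2 F482032)) (tt N117637 (iv3 F506137)) (tt N117603 (iv4 F505951)) (tt N117636 (iv5 F506135)) (tt N93939 F478187) (tt N120278 (iv7 F519988)))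
theorem Q111831 : ∀ i, i < 111831 → P i := stepQ 111830 Q111830 (allL N111830 (tt N90365 F478193) (tt N96953 F478191) (tt N102895 F478188) (tt N80091 F478189) (tt N102050 F478192) (tt N80090 (iv5 D215072)) (tt N111871 (iv6 F478422)) (tt N102046 F478190))
theorem Q111832 : ∀ i, i < 111832 → P i := stepQ 111831 Q111831 (allL N111831 (tt N80094 (iv1 D215073)) (tt N111841 (iv0 F478253)) (tt N80735 F478199) (tt N109334 (iv3 F478197)) (tt N109337 F478196) (tt N97429 F478195) (tt N81733 (iv6 F478198)) (tt N97531 F478194))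
theorem Q111833 : ∀ i, i < 111833 → P i := stepQ 111832 Q111832 (allL N111832 (tt N97531 (iv1 F478205)) (tt N80735 F478204) (tt N80094 (iv2 D215074)) (tt N97118 F478200) (tt N107915 F478201) (tt N100801 F478202) (tt N111680 F478203) (tt N111841 (iv7 F478252)))
theorem Q111834 : ∀ i, i < 111834 → P i := stepQ 111833 Q111833 (allL N111833 (tt N111848 (iv1 F478292)) (tt N82021 F478209) (tt N111850 (iv2 F478307)) (tt N86937 F478207) (tt N119947 (iv4 F518186)) (tt N80096 (iv5 D215075)) (tt N103252 F478208) (tt N111849 F478301))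
theorem Q111835 : ∀ i, i < 111835 → P i := stepQ 111834 Q111834 (allL N111834 (tt N107570 F478214) (tt N89191 F478215) (tt N108418 F478210) (tt N84290 F478211) (tt N80102 (iv4 D215076)) (tt N105020 F478212) (tt N122119 D225378) (tt N90733 F478213))
theorem Q111836 : ∀ i, i < 111836 → P i := stepQ 111835 Q111835 (allL N111835 (tt N119991 F518429) (tt N120360 (iv0 F520372)) (tt N108419 F478216) (tt N109408 F478217) (tt N122119 (iv4 F530282)) (tt N109405 F478218) (tt N80102 (iv6 D215077)) (tt N116318 (iv7 F499529)))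
theorem Q111837 : ∀ i, i < 111837 → P i := stepQ 111836 Q111836 (allL N111836 (tt N95834 F478223) (tt N109669 F478224) (tt N84342 F478219) (tt N99768 F478220) (tt N80106 (iv4 D215078)) (tt N116569 (iv5 F500780)) (tt N84338 F478221) (tt N99786 F478222))
theorem Q111838 : ∀ i, i < 111838 → P i := stepQ 111837 Q111837 (allL N111837 (tt N82005 F478229) (tt N87802 (iv0 F478230)) (tt N115057 (iv2 F493268)) (tt N80107 (iv3 D215079)) (tt N111350 F478225) (tt N80198 F478226) (tt N82454 F478227) (tt N100705 F478228))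
theorem Q111839 : ∀ i, i < 111839 → P i := stepQ 111838 Q111838 (allL N111838 (tt N112626 F481897) (tt N119582 (iv0 F516378)) (tt N110893 F478231) (tt N101524 F478234) (tt N80112 (iv4 D215080)) (tt N94538 F478233) (tt N101569 F478232) (tt N112649 (iv7 F481993)))
theorem Q111840 : ∀ i, i < 111840 → P i := stepQ 111839 Q111839 (allL N111839 (tt N101517 F478239) (tt N101516 F478240) (tt N80114 F478235) (tt N101513 F478236) (tt N80113 (iv4 D215081)) (tt N121607 (iv5 F527304)) (tt N103427 F478237) (tt N101518 F478238))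
theorem Q111841 : ∀ i, i < 111841 → P i := stepQ 111840 Q111840 (allL N111840 (tt N80119 (iv1 D215082)) (tt N80122 F478241) (tt N80737 F478246) (tt N97531 F478247) (tt N109229 F478244) (tt N97526 F478243) (tt N97440 (iv6 F478245)) (tt N109334 F478242))
theorem Q111842 : ∀ i, i < 111842 → P i := stepQ 111841 Q111841 (allL N111841 (tt N111831 F478253) (tt N111015 F478254) (tt N86932 F478248) (tt N95821 F478249) (tt N101522 F478250) (tt N80122 (iv5 D215083)) (tt N93065 F478251) (tt N111832 F478252))
theorem Q111843 : ∀ i, i < 111843 → P i := stepQ 111842 Q111842 (allL N111842 (tt N87101 F478259) (tt N113934 (iv0 F487861)) (tt N81557 F478255) (tt N86389 F478256) (tt N83164 F478257) (tt N90683 F478258) (tt N80126 (iv6 D215084)) (tt N113064 (iv7 F483812)))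
theorem Q111844 : ∀ i, i < 111844 → P i := stepQ 111843 Q111843 (allL N111843 (tt N83185 F478265) (tt N109315 F478266) (tt N95974 F478260) (tt N108720 F478261) (tt N80131 (iv4 D215085)) (tt N82896 F478264) (tt N95972 F478262) (tt N109548 F478263))
theorem Q111845 : ∀ i, i < 111845 → P i := stepQ 111844 Q111844 (allL N111844 (tt N109315 F478272) (tt N83185 F478273) (tt N109548 F478267) (tt N95979 F478268) (tt N80132 (iv4 D215086)) (tt N82897 F478269) (tt N83193 F478270) (tt N95974 F478271))
theorem Q111846 : ∀ i, i < 111846 → P i := stepQ 111845 Q111845 (allL N111845 (tt N103102 F478279) (tt N103107 F478280) (tt N109551 F478274) (tt N109774 F478275) (tt N103039 F478276) (tt N80133 (iv5 D215087)) (tt N110379 F478277) (tt N88458 F478278))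
theorem Q111847 : ∀ i, i < 111847 → P i := stepQ 111846 Q111846 (allL N111846 (tt N117101 F503395) (tt N80136 (iv0 D215088)) (tt N103189 (iv2 F478282)) (tt N117302 (iv3 F504364)) (tt N81472 F478281) (tt N119547 (iv5 F516177)) (tt N103187 F478283) (tt N117310 (iv7 F504400)))
theorem Q111848 : ∀ i, i < 111848 → P i := stepQ 111847 Q111847 (allL N111847 (tt N101330 F478287) (tt N118448 (iv0 F510420)) (tt N87639 F478284) (tt N85414 F478285) (tt N121438 (iv4 F526375)) (tt N80136 (iv5 D215089)) (tt N85411 F478286) (tt N121784 (iv7 F528297)))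
theorem Q111849 : ∀ i, i < 111849 → P i := stepQ 111848 Q111848 (allL N111848 (tt N97747 F478293) (tt N111833 F478292) (tt N80155 F478288) (tt N86985 F478289) (tt N108238 F478290) (tt N80154 (iv5 D215090)) (tt N111392 F478294) (tt N97663 F478291))
theorem Q111850 : ∀ i, i < 111850 → P i := stepQ 111849 Q111849 (allL N111849 (tt N97663 (iv1 F478299)) (tt N80155 (iv0 D215091)) (tt N97747 (iv2 F478300)) (tt N91948 F478297) (tt N107818 F478296) (tt N100795 F478295) (tt N97650 F478298) (tt N111833 (iv7 F478301)))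
theorem Q111851 : ∀ i, i < 111851 → P i := stepQ 111850 Q111850 (allL N111850 (tt N80155 (iv1 D215092)) (tt N97663 F478302) (tt N111833 F478307) (tt N94448 (iv3 F478306)) (tt N107568 F478305) (tt N100796 F478304) (tt N118439 (iv6 F510362)) (tt N97747 F478303))
theorem Q111852 : ∀ i, i < 111852 → P i := stepQ 111851 Q111851 (allL N111851 (tt N118902 F512661) (tt N95492 (iv0 F482004)) (tt N119235 (iv2 F514525)) (tt N114205 F488978) (tt N105940 F478309) (tt N80165 (iv5 D215093)) (tt N109539 F478308) (tt N114842 (iv7 F492142)))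
theorem Q111853 : ∀ i, i < 111853 → P i := stepQ 111852 Q111852 (allL N111852 (tt N91894 F478313) (tt N81151 F478314) (tt N84589 F478310) (tt N84629 F478311) (tt N120701 (iv4 F522231)) (tt N80168 (iv5 D215094)) (tt N88125 F478312) (tt N114101 (iv7 F488562)))
theorem Q111854 : ∀ i, i < 111854 → P i := stepQ 111853 Q111853 (allL N111853 (tt N105858 F478316) (tt N105856 F478317) (tt N117654 (iv2 F506237)) (tt N118612 (iv3 F511155)) (tt N80169 (iv4 D215095)) (tt N109798 F478315) (tt N122120 D225379) (tt N117651 (iv7 F506222)))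
theorem Q111855 : ∀ i, i < 111855 → P i := stepQ 111854 Q111854 (allL N111854 (tt N122121 D225380) (tt N115638 (iv0 F496086)) (tt N117655 (iv2 F506242)) (tt N81159 F478318) (tt N122120 (iv4 F530288)) (tt N117123 (iv5 F503507)) (tt N80169 (iv6 D215096)) (tt N117122 F503503))
theorem Q111856 : ∀ i, i < 111856 → P i := stepQ 111855 Q111855 (allL N111855 (tt N82050 F478324) (tt N82051 F478323) (tt N110508 F478319) (tt N99317 F478320) (tt N100376 F478321) (tt N80171 (iv5 D215097)) (tt N107158 F478325) (tt N110506 F478322))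
theorem Q111857 : ∀ i, i < 111857 → P i := stepQ 111856 Q111856 (allL N111856 (tt N80950 F478331) (tt N80949 F478332) (tt N80951 F478326) (tt N95537 F478327) (tt N80175 (iv4 D215098)) (tt N96156 F478328) (tt N81778 F478329) (tt N80944 F478330))
theorem Q111858 : ∀ i, i < 111858 → P i := stepQ 111857 Q111857 (allL N111857 (tt N120550 (iv1 F521403)) (tt N105716 (iv0 F478337)) (tt N80745 F478333) (tt N80180 (iv3 D215099)) (tt N80184 F478334) (tt N119945 (iv5 F518175)) (tt N94925 F478335) (tt N81978 F478336))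
theorem Q111859 : ∀ i, i < 111859 → P i := stepQ 111858 Q111858 (allL N111858 (tt N87796 F478342) (tt N84355 (iv0 F478343)) (tt N109491 F478338) (tt N80201 (iv3 D215100)) (tt N100395 F478339) (tt N89370 F478340) (tt N95883 (iv6 F478344)) (tt N96874 F478341))
theorem Q111860 : ∀ i, i < 111860 → P i := stepQ 111859 Q111859 (allL N111859 (tt N87737 (iv1 F478351)) (tt N87733 (iv0 F478350)) (tt N87734 F478345) (tt N95883 F478346) (tt N94060 F478347) (tt N100528 F478348) (tt N80201 (iv6 D215101)) (tt N87735 F478349))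
theorem Q111861 : ∀ i, i < 111861 → P i := stepQ 111860 Q111860 (allL N111860 (tt N92080 (iv1 F478357)) (tt N92079 (iv0 F478358)) (tt N81745 F478352) (tt N80204 (iv3 D215102)) (tt N95184 F478356) (tt N88349 F478353) (tt N81668 F478354) (tt N92076 F478355))
theorem Q111862 : ∀ i, i < 111862 → P i := stepQ 111861 Q111861 (allL N111861 (tt N97678 (iv1 F478364)) (tt N91890 F478362) (tt N95659 F478359) (tt N80540 F478363) (tt N80204 (iv4 D215103)) (tt N122122 D225381) (tt N102398 F478360) (tt N97675 F478361))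
theorem Q111863 : ∀ i, i < 111863 → P i := stepQ 111862 Q111862 (allL N111862 (tt N91518 F478370) (tt N81552 (iv0 F478371)) (tt N104909 F478365) (tt N103923 F478366) (tt N87722 F478367) (tt N104908 F478368) (tt N80208 (iv6 D215104)) (tt N111677 F478369))
theorem Q111864 : ∀ i, i < 111864 → P i := stepQ 111863 Q111863 (allL N111863 (tt N111463 F478375) (tt N102133 (iv0 F478376)) (tt N117968 (iv2 F507840)) (tt N80209 (iv3 D215105)) (tt N111065 F478372) (tt N104355 F478373) (tt N117702 (iv6 F506512)) (tt N104354 F478374))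
theorem Q111865 : ∀ i, i < 111865 → P i := stepQ 111864 Q111864 (allL N111864 (tt N111675 F478381) (tt N111680 (iv0 F478382)) (tt N111651 F478377) (tt N97638 F478378) (tt N112813 (iv4 F482735)) (tt N105472 F478379) (tt N80212 (iv6 D215106)) (tt N111679 F478380))
theorem Q111866 : ∀ i, i < 111866 → P i := stepQ 111865 Q111865 (allL N111865 (tt N101511 F478387) (tt N82354 (iv0 F478388)) (tt N103428 F478383) (tt N102341 F478384) (tt N116994 (iv4 F502873)) (tt N102336 F478385) (tt N80217 (iv6 D215107)) (tt N102335 F478386))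
theorem Q111867 : ∀ i, i < 111867 → P i := stepQ 111866 Q111866 (allL N111866 (tt N92069 F478393) (tt N92093 (iv0 F478394)) (tt N92095 F478389) (tt N80222 F478390) (tt N82477 F478391) (tt N118780 (iv5 F512024)) (tt N80220 (iv6 D215108)) (tt N92085 F478392))
theorem Q111868 : ∀ i, i < 111868 → P i := stepQ 111867 Q111867 (allL N111867 (tt N104408 F478400) (tt N119433 (iv0 F515600)) (tt N81580 F478395) (tt N111078 F478396) (tt N80221 (iv4 D215109)) (tt N88058 F478397) (tt N81578 F478398) (tt N111664 F478399))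
theorem Q111869 : ∀ i, i < 111869 → P i := stepQ 111868 Q111868 (allL N111868 (tt N93216 F478404) (tt N115716 (iv0 F496480)) (tt N104406 F478401) (tt N80225 (iv3 D215110)) (tt N116071 (iv4 F498316)) (tt N82401 F478402) (tt N104403 (iv6 F478405)) (tt N104296 F478403))
theorem Q111870 : ∀ i, i < 111870 → P i := stepQ 111869 Q111869 (allL N111869 (tt N88212 F478409) (tt N88210 (iv0 F478411)) (tt N98766 F478406) (tt N104403 F478407) (tt N87745 F478408) (tt N88255 F478410) (tt N80225 (iv6 D215111)) (tt N98764 (iv7 F478412)))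
theorem Q111871 : ∀ i, i < 111871 → P i := stepQ 111870 Q111870 (allL N111870 (tt N88234 F478418) (tt N117549 (iv0 F505639)) (tt N104294 F478413) (tt N104400 F478414) (tt N97160 F478415) (tt N93202 F478417) (tt N80226 (iv6 D215112)) (tt N104393 F478416))
theorem Q111872 : ∀ i, i < 111872 → P i := stepQ 111871 Q111871 (allL N111871 (tt N81721 F478424) (tt N81720 F478425) (tt N93839 F478419) (tt N96452 F478420) (tt N80230 (iv4 D215113)) (tt N80355 F478421) (tt N111830 F478422) (tt N96448 F478423))
theorem Q111873 : ∀ i, i < 111873 → P i := stepQ 111872 Q111872 (allL N111872 (tt N101083 F478430) (tt N112487 F481307) (tt N80231 (iv2 D215114)) (tt N102182 F478426) (tt N96533 F478427) (tt N94841 F478428) (tt N96634 F478429) (tt N112488 (iv7 F481313)))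
theorem Q111874 : ∀ i, i < 111874 → P i := stepQ 111873 Q111873 (allL N111873 (tt N117968 (iv1 F507835)) (tt N104354 F478434) (tt N102133 F478431) (tt N112490 (iv3 F481322)) (tt N80240 (iv4 D215115)) (tt N87588 F478433) (tt N101990 F478435) (tt N111463 F478432))
theorem Q111875 : ∀ i, i < 111875 → P i := stepQ 111874 Q111874 (allL N111874 (tt N108936 F478440) (tt N80927 (iv0 F478442)) (tt N102132 F478436) (tt N96881 F478437) (tt N101990 F478438) (tt N108942 F478441) (tt N80240 (iv6 D215116)) (tt N102134 F478439))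
theorem Q111876 : ∀ i, i < 111876 → P i := stepQ 111875 Q111875 (allL N111875 (tt N115411 (iv1 F495064)) (tt N111053 (iv0 F478447)) (tt N115778 (iv2 F496819)) (tt N80241 (iv3 D215117)) (tt N102112 F478443) (tt N111776 F478444) (tt N87716 F478445) (tt N111465 F478446))
theorem Q111877 : ∀ i, i < 111877 → P i := stepQ 111876 Q111876 (allL N111876 (tt N95659 F478452) (tt N97675 (iv0 F478453)) (tt N91890 F478448) (tt N80244 (iv3 D215118)) (tt N102351 F478449) (tt N117615 (iv5 F506011)) (tt N91889 F478450) (tt N97678 F478451))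
theorem Q111878 : ∀ i, i < 111878 → P i := stepQ 111877 Q111877 (allL N111877 (tt N111452 F478457) (tt N101574 F478458) (tt N80246 F478454) (tt N111457 F478455) (tt N120561 (iv4 F521461)) (tt N80245 (iv5 D215119)) (tt N119241 (iv6 F514569)) (tt N111488 F478456))
theorem Q111879 : ∀ i, i < 111879 → P i := stepQ 111878 Q111878 (allL N111878 (tt N111436 (iv1 F478463)) (tt N111429 F478462) (tt N120561 (iv2 F521463)) (tt N101539 F478459) (tt N80246 (iv4 D215120)) (tt N101537 F478461) (tt N115665 (iv6 F496214)) (tt N111489 F478460))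
theorem Q111880 : ∀ i, i < 111880 → P i := stepQ 111879 Q111879 (allL N111879 (tt N119243 (iv1 F514585)) (tt N95355 (iv0 F478465)) (tt N119241 F514570) (tt N80247 F478464) (tt N115665 (iv4 F496212)) (tt N119319 (iv5 F514992)) (tt N80246 (iv6 D215121)) (tt N119242 (iv7 F514574)))
theorem Q111881 : ∀ i, i < 111881 → P i := stepQ 111880 Q111880 (allL N111880 (tt N111462 (iv1 F478473)) (tt N80247 (iv0 D215122)) (tt N111460 (iv2 F478469)) (tt N116462 (iv3 F500258)) (tt N111490 F478470) (tt N116460 (iv5 F500249)) (tt N113824 (iv6 F487303)) (tt N111461 (iv7 F478471)))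
theorem Q111882 : ∀ i, i < 111882 → P i := stepQ 111881 Q111881 (allL N111881 (tt N80247 (iv1 D215123)) (tt N111462 F478466) (tt N111461 F478472) (tt N117655 (iv3 F506243)) (tt N111491 F478467) (tt N117131 (iv5 F503548)) (tt N117653 F506234) (tt N111460 (iv7 F478468)))
theorem Q111883 : ∀ i, i < 111883 → P i := stepQ 111882 Q111882 (allL N111882 (tt N111461 (iv1 F478478)) (tt N111460 F478479) (tt N111462 F478474) (tt N119242 F514576) (tt N87289 F478475) (tt N91092 F478476) (tt N111492 F478477) (tt N80247 (iv7 D215124)))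
theorem Q111884 : ∀ i, i < 111884 → P i := stepQ 111883 Q111883 (allL N111883 (tt N80252 (iv1 D215125)) (tt N111492 F478480) (tt N111491 (iv2 F478483)) (tt N122123 D225382) (tt N111461 (iv4 F478484)) (tt N110337 F478482) (tt N122124 D225383) (tt N111490 F478481))
theorem Q111885 : ∀ i, i < 111885 → P i := stepQ 111884 Q111884 (allL N111884 (tt N80254 (iv1 D215126)) (tt N111059 F478485) (tt N111058 (iv2 F478489)) (tt N84603 F478488) (tt N111889 (iv4 F478520)) (tt N108736 (iv5 F478490)) (tt N84602 (iv6 F478487)) (tt N111057 F478486))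
theorem Q111886 : ∀ i, i < 111886 → P i := stepQ 111885 Q111885 (allL N111885 (tt N111058 (iv1 F478496)) (tt N111057 F478497) (tt N111059 F478491) (tt N107242 F478492) (tt N111785 F478493) (tt N107241 F478494) (tt N88039 F478495) (tt N80254 (iv7 D215127)))
theorem Q111887 : ∀ i, i < 111887 → P i := stepQ 111886 Q111886 (allL N111886 (tt N116576 (iv1 F500817)) (tt N112285 (iv0 F480360)) (tt N80935 F478498) (tt N80620 F478499) (tt N80255 (iv4 D215128)) (tt N80618 F478500) (tt N107182 F478501) (tt N80918 F478502))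
theorem Q111888 : ∀ i, i < 111888 → P i := stepQ 111887 Q111887 (allL N111887 (tt N111054 (iv1 F478505)) (tt N80257 (iv0 D215129)) (tt N111056 (iv2 F478506)) (tt N122125 D225384) (tt N111402 F478504) (tt N81560 F478503) (tt N118108 (iv6 F508642)) (tt N111055 (iv7 F478507)))
theorem Q111889 : ∀ i, i < 111889 → P i := stepQ 111888 Q111888 (allL N111888 (tt N80257 (iv1 D215130)) (tt N111054 F478508) (tt N111055 (iv2 F478512)) (tt N122126 D225385) (tt N96332 F478511) (tt N81561 F478510) (tt N88003 (iv6 F478513)) (tt N111056 F478509))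
theorem Q111890 : ∀ i, i < 111890 → P i := stepQ 111889 Q111889 (allL N111889 (tt N80258 (iv1 D215131)) (tt N88039 F478518) (tt N88041 (iv2 F478522)) (tt N111315 (iv3 F478523)) (tt N111884 F478520) (tt N87967 F478521) (tt N114187 (iv6 F488902)) (tt N88034 F478519))
theorem Q111891 : ∀ i, i < 111891 → P i := stepQ 111890 Q111890 (allL N111890 (tt N80259 (iv1 D215132)) (tt N111016 F478524) (tt N91871 F478528) (tt N115411 (iv3 F495060)) (tt N94743 (iv4 F478526)) (tt N113905 (iv5 F487712)) (tt N91870 (iv6 F478527)) (tt N111493 F478525))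
theorem Q111892 : ∀ i, i < 111892 → P i := stepQ 111891 Q111891 (allL N111891 (tt N122126 F530325) (tt N122041 (iv0 F529800)) (tt N112009 (iv2 F479054)) (tt N80260 F478529) (tt N115039 (iv4 F493167)) (tt N80259 (iv5 D215133)) (tt N112248 (iv6 F480214)) (tt N111494 F478530))
theorem Q111893 : ∀ i, i < 111893 → P i := stepQ 111892 Q111892 (allL N111892 (tt N115968 F497825) (tt N120269 (iv0 F519931)) (tt N111498 F478531) (tt N115395 (iv3 F494973)) (tt N80260 (iv4 D215134)) (tt N83578 F478534) (tt N84497 F478532) (tt N111495 F478533))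
theorem Q111894 : ∀ i, i < 111894 → P i := stepQ 111893 Q111893 (allL N111893 (tt N118959 (iv1 F512978)) (tt N95412 (iv0 F478539)) (tt N118951 (iv2 F512933)) (tt N80263 F478535) (tt N111400 F478538) (tt N80262 (iv5 D215135)) (tt N88055 F478536) (tt N111497 F478537))
theorem Q111895 : ∀ i, i < 111895 → P i := stepQ 111894 Q111894 (allL N111894 (tt N120269 F519932) (tt N115968 (iv0 F497824)) (tt N111495 F478540) (tt N120507 F521154) (tt N80263 (iv4 D215136)) (tt N83577 F478541) (tt N87385 F478542) (tt N111498 F478543))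
theorem Q111896 : ∀ i, i < 111896 → P i := stepQ 111895 Q111895 (allL N111895 (tt N114209 (iv1 F488999)) (tt N114208 F488989) (tt N80266 F478544) (tt N114135 (iv3 F488691)) (tt N84540 F478545) (tt N122094 (iv5 F530124)) (tt N80264 (iv6 D215137)) (tt N84537 F478546))
theorem Q111897 : ∀ i, i < 111897 → P i := stepQ 111896 Q111896 (allL N111896 (tt N84537 (iv1 F478548)) (tt N80266 (iv0 D215138)) (tt N114209 F489004) (tt N111575 F495889) (tt N91666 F478549) (tt N87336 F478547) (tt N115228 (iv6 F494126)) (tt N114208 F488993))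
theorem Q111898 : ∀ i, i < 111898 → P i := stepQ 111897 Q111897 (allL N111897 (tt N80266 (iv1 D215139)) (tt N84537 F478550) (tt N114208 F488991) (tt N122127 D225386) (tt N91665 F478551) (tt N87337 (iv5 F478552)) (tt N91921 F478553) (tt N114209 (iv7 F489000)))
theorem Q111899 : ∀ i, i < 111899 → P i := stepQ 111898 Q111898 (allL N111898 (tt N118882 (iv1 F512565)) (tt N118842 F512372) (tt N118898 F512641) (tt N80267 (iv3 D215141)) (tt N106101 F478557) (tt N115923 F497601) (tt N118897 F512635) (tt N118899 (iv7 F512644)))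
theorem Q111900 : ∀ i, i < 111900 → P i := stepQ 111899 Q111899 (allL N111899 (tt N117676 (iv1 F506365)) (tt N81155 (iv0 F478555)) (tt N119244 (iv2 F514586)) (tt N110967 (iv3 F478556)) (tt N80267 (iv4 D215142)) (tt N81160 F478558) (tt N122128 D225387) (tt N121068 (iv7 F524343)))
theorem Q111901 : ∀ i, i < 111901 → P i := stepQ 111900 Q111900 (allL N111900 (tt N115650 F496147) (tt N87275 (iv0 F480960)) (tt N114159 (iv2 F488796)) (tt N115923 (iv3 F497600)) (tt N122024 (iv4 F529703)) (tt N80267 (iv5 D215143)) (tt N120506 F521149) (tt N122086 (iv7 F530076)))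
theorem Q111902 : ∀ i, i < 111902 → P i := stepQ 111901 Q111901 (allL N111901 (tt N104036 F480959) (tt N120765 (iv0 F522591)) (tt N114861 (iv2 F492216)) (tt N118897 (iv3 F512636)) (tt N122128 (iv4 F530335)) (tt N112403 F480958) (tt N80267 (iv6 D215144)) (tt N114859 (iv7 F492209)))
theorem Q111903 : ∀ i, i < 111903 → P i := stepQ 111902 Q111902 (allL N111902 (tt N114129 (iv1 F488672)) (tt N111572 (iv0 F478565)) (tt N114162 (iv2 F488803)) (tt N80268 (iv3 D215146)) (tt N121411 (iv4 F526208)) (tt N84498 F478564) (tt N91439 (iv6 F478563)) (tt N114160 (iv7 F488799)))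
theorem Q111904 : ∀ i, i < 111904 → P i := stepQ 111903 Q111903 (allL N111903 (tt N87275 F478560) (tt N115650 (iv0 F496146)) (tt N122086 (iv2 F530072)) (tt N84498 (iv3 F478566)) (tt N122129 D225388) (tt N80268 (iv5 D215147)) (tt N115523 (iv6 F495623)) (tt N114159 (iv7 F488794)))
theorem Q111905 : ∀ i, i < 111905 → P i := stepQ 111904 Q111904 (allL N111904 (tt N117578 (iv1 F505814)) (tt N115896 (iv0 F497466)) (tt N117576 F505801) (tt N91439 F478562) (tt N110338 F478561) (tt N121700 (iv5 F527825)) (tt N80268 (iv6 D215148)) (tt N117577 (iv7 F505804)))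
theorem Q111906 : ∀ i, i < 111906 → P i := stepQ 111905 Q111905 (allL N111905 (tt N91776 F478571) (tt N112405 (iv0 F480969)) (tt N115664 (iv2 F496207)) (tt N80271 F478567) (tt N94871 F478568) (tt N80270 (iv5 D215149)) (tt N91382 F478569) (tt N88132 F478570))
theorem Q111907 : ∀ i, i < 111907 → P i := stepQ 111906 Q111906 (allL N111906 (tt N81002 F478577) (tt N81001 (iv0 F478578)) (tt N80973 F478572) (tt N97086 F478573) (tt N93462 F478574) (tt N81100 F478575) (tt N80277 (iv6 D215150)) (tt N80783 F478576))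
theorem Q111908 : ∀ i, i < 111908 → P i := stepQ 111907 Q111907 (allL N111907 (tt N80287 (iv1 D215151)) (tt N103323 F478579) (tt N112821 F482788) (tt N93232 (iv3 F478582)) (tt N96977 (iv4 F478581)) (tt N120977 (iv5 F523820)) (tt N96976 (iv6 F478583)) (tt N105876 F478580))
theorem Q111909 : ∀ i, i < 111909 → P i := stepQ 111908 Q111908 (allL N111908 (tt N111199 F478589) (tt N112667 (iv0 F482091)) (tt N80829 F478584) (tt N108427 F478585) (tt N80299 (iv4 D215152)) (tt N108426 F478588) (tt N80301 F478586) (tt N110536 F478587))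
theorem Q111910 : ∀ i, i < 111910 → P i := stepQ 111909 Q111909 (allL N111909 (tt N80307 (iv1 D215153)) (tt N111535 F478592) (tt N110895 (iv2 F478595)) (tt N108925 (iv3 F478596)) (tt N100387 F478594) (tt N112183 (iv5 F479942)) (tt N110894 F478597) (tt N111536 F478593))
theorem Q111911 : ∀ i, i < 111911 → P i := stepQ 111910 Q111910 (allL N111910 (tt N103546 F478600) (tt N103553 F478601) (tt N80312 F478598) (tt N121023 F524073) (tt N80308 (iv4 D215154)) (tt N121038 (iv5 F524153)) (tt N103528 F478599) (tt N120923 (iv7 F523498)))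
theorem Q111912 : ∀ i, i < 111912 → P i := stepQ 111911 Q111911 (allL N111911 (tt N111098 F478606) (tt N111099 F478607) (tt N103617 F478602) (tt N109843 F478603) (tt N80311 (iv4 D215155)) (tt N120760 (iv5 F522565)) (tt N102282 F478604) (tt N103565 F478605))
theorem Q111913 : ∀ i, i < 111913 → P i := stepQ 111912 Q111912 (allL N111912 (tt N120923 (iv1 F523497)) (tt N80312 (iv0 D215156)) (tt N103546 (iv2 F478610)) (tt N122130 D225389) (tt N109916 F478608) (tt N109547 F478609) (tt N102283 F478611) (tt N103553 F478612))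
theorem Q111914 : ∀ i, i < 111914 → P i := stepQ 111913 Q111913 (allL N111913 (tt N103770 F478615) (tt N103838 F478616) (tt N121038 F524155) (tt N103766 F478614) (tt N115496 (iv4 F495501)) (tt N80312 (iv5 D215157)) (tt N122131 D225390) (tt N120937 (iv7 F523573)))
theorem Q111915 : ∀ i, i < 111915 → P i := stepQ 111914 Q111914 (allL N111914 (tt N116183 (iv1 F498896)) (tt N110867 (iv0 F478621)) (tt N100861 F478617) (tt N80316 (iv3 D215158)) (tt N101277 F478618) (tt N89393 F478619) (tt N100885 (iv6 F478622)) (tt N100868 F478620))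
theorem Q111916 : ∀ i, i < 111916 → P i := stepQ 111915 Q111915 (allL N111915 (tt N100996 (iv1 F478628)) (tt N100995 (iv0 F478626)) (tt N100843 F478623) (tt N100885 F478624) (tt N80317 F478625) (tt N120248 (iv5 F519803)) (tt N80316 (iv6 D215159)) (tt N100997 (iv7 F478627)))
theorem Q111917 : ∀ i, i < 111917 → P i := stepQ 111916 Q111916 (allL N111916 (tt N100867 F478631) (tt N80317 (iv0 D215160)) (tt N100865 F478636) (tt N107376 (iv3 F478630)) (tt N107391 F478629) (tt N112547 (iv5 F481605)) (tt N114041 (iv6 F488324)) (tt N100866 F478635))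
theorem Q111918 : ∀ i, i < 111918 → P i := stepQ 111917 Q111917 (allL N111917 (tt N80317 (iv1 D215161)) (tt N100867 F478632) (tt N100866 F478634) (tt N122132 D225391) (tt N122133 D225392) (tt N112546 (iv5 F481599)) (tt N100981 (iv6 F478633)) (tt N100865 (iv7 F478637)))
theorem Q111919 : ∀ i, i < 111919 → P i := stepQ 111918 Q111918 (allL N111918 (tt N100866 (iv1 F478642)) (tt N100865 F478643) (tt N100867 F478638) (tt N116171 (iv3 F498853)) (tt N100997 F478639) (tt N81927 F478640) (tt N100870 F478641) (tt N80317 (iv7 D215162)))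
theorem Q111920 : ∀ i, i < 111920 → P i := stepQ 111919 Q111919 (allL N111919 (tt N101705 F478649) (tt N80330 (iv0 F478650)) (tt N101704 F478644) (tt N101832 F478645) (tt N109324 F478646) (tt N103805 F478647) (tt N80328 (iv6 D215163)) (tt N101703 F478648))
theorem Q111921 : ∀ i, i < 111921 → P i := stepQ 111920 Q111920 (allL N111920 (tt N109301 F478656) (tt N109299 (iv0 F478657)) (tt N109298 F478651) (tt N82451 F478652) (tt N80330 F478653) (tt N81147 F478654) (tt N80329 (iv6 D215164)) (tt N100024 F478655))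
theorem Q111922 : ∀ i, i < 111922 → P i := stepQ 111921 Q111921 (allL N111921 (tt N80330 (iv1 D215165)) (tt N101705 F478658) (tt N101703 F478664) (tt N84125 (iv3 F478662)) (tt N80762 F478660) (tt N103809 F478661) (tt N80761 (iv6 F478663)) (tt N101704 F478659))
theorem Q111923 : ∀ i, i < 111923 → P i := stepQ 111922 Q111922 (allL N111922 (tt N81070 F478670) (tt N81069 (iv0 F478671)) (tt N80337 F478665) (tt N100154 F478666) (tt N104803 F478667) (tt N110422 F478668) (tt N80336 (iv6 D215166)) (tt N105348 F478669))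
theorem Q111924 : ∀ i, i < 111924 → P i := stepQ 111923 Q111923 (allL N111923 (tt N104237 F478676) (tt N107275 (iv0 F478677)) (tt N104257 F478672) (tt N107629 F478673) (tt N108757 F478674) (tt N112477 (iv5 F481243)) (tt N80345 (iv6 D215167)) (tt N107899 F478675))
theorem Q111925 : ∀ i, i < 111925 → P i := stepQ 111924 Q111924 (allL N111924 (tt N80358 (iv1 D215168)) (tt N103451 F478678) (tt N103452 F478684) (tt N91957 (iv3 F478682)) (tt N91964 F478681) (tt N97608 F478680) (tt N91955 (iv6 F478683)) (tt N103283 F478679))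
theorem Q111926 : ∀ i, i < 111926 → P i := stepQ 111925 Q111925 (allL N111925 (tt N81762 (iv1 F478690)) (tt N80360 (iv0 D215169)) (tt N111592 (iv2 F478689)) (tt N111096 F478687) (tt N101128 F478685) (tt N103437 F478686) (tt N111095 F478688) (tt N103436 F478691))
theorem Q111927 : ∀ i, i < 111927 → P i := stepQ 111926 Q111926 (allL N111926 (tt N111592 (iv1 F478696)) (tt N103436 F478695) (tt N80360 (iv2 D215170)) (tt N103451 F478692) (tt N118209 (iv4 F509159)) (tt N96539 F478693) (tt N118208 (iv6 F509156)) (tt N81762 F478694))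
theorem Q111928 : ∀ i, i < 111928 → P i := stepQ 111927 Q111927 (allL N111927 (tt N80812 F478701) (tt N81171 F478702) (tt N81169 F478697) (tt N95483 F478703) (tt N80363 (iv4 D215171)) (tt N108160 F478698) (tt N81563 F478699) (tt N81170 F478700))
theorem Q111929 : ∀ i, i < 111929 → P i := stepQ 111928 Q111928 (allL N111928 (tt N81527 (iv1 F478710)) (tt N81526 F478709) (tt N80368 (iv2 D215172)) (tt N80527 F478704) (tt N111811 F478705) (tt N81518 F478706) (tt N85734 F478707) (tt N81517 F478708))
theorem Q111930 : ∀ i, i < 111930 → P i := stepQ 111929 Q111929 (allL N111929 (tt N89218 (iv1 F478716)) (tt N90555 F478717) (tt N90558 F478711) (tt N90196 F478712) (tt N110403 F478713) (tt N80378 F478714) (tt N90195 F478715) (tt N80377 (iv7 D215173)))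
theorem Q111931 : ∀ i, i < 111931 → P i := stepQ 111930 Q111930 (allL N111930 (tt N91270 (iv1 F478724)) (tt N91341 F478723) (tt N80379 (iv2 D215174)) (tt N100155 F478718) (tt N104804 F478719) (tt N90639 F478720) (tt N105345 F478721) (tt N91339 F478722))
theorem Q111932 : ∀ i, i < 111932 → P i := stepQ 111931 Q111931 (allL N111931 (tt N106122 F478729) (tt N108052 F478730) (tt N80407 F478725) (tt N118790 (iv3 F512084)) (tt N80403 (iv4 D215175)) (tt N108708 F478726) (tt N99555 F478727) (tt N100033 F478728))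
theorem Q111933 : ∀ i, i < 111933 → P i := stepQ 111932 Q111932 (allL N111932 (tt N101780 F478735) (tt N107252 (iv0 F478736)) (tt N107937 F478731) (tt N107216 F478732) (tt N92414 F478733) (tt N112723 (iv5 F482366)) (tt N80406 (iv6 D215176)) (tt N107276 F478734))
theorem Q111934 : ∀ i, i < 111934 → P i := stepQ 111933 Q111933 (allL N111933 (tt N111370 (iv1 F478743)) (tt N103434 (iv0 F478742)) (tt N111369 F478737) (tt N95597 F478738) (tt N97499 F478739) (tt N106057 F478740) (tt N80409 (iv6 D215177)) (tt N97497 F478741))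
theorem Q111935 : ∀ i, i < 111935 → P i := stepQ 111934 Q111934 (allL N111934 (tt N115778 F496825) (tt N111465 F478746) (tt N111053 F478744) (tt N111493 F478745) (tt N80419 (iv4 D215178)) (tt N115847 (iv5 F497211)) (tt N112078 F479393) (tt N115411 (iv7 F495062)))
theorem Q111936 : ∀ i, i < 111936 → P i := stepQ 111935 Q111935 (allL N111935 (tt N80428 F478751) (tt N108779 F478752) (tt N105932 F478747) (tt N103305 F478748) (tt N104158 (iv4 F478753)) (tt N80424 (iv5 D215179)) (tt N103304 F478749) (tt N97530 F478750))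
theorem Q111937 : ∀ i, i < 111937 → P i := stepQ 111936 Q111936 (allL N111936 (tt N113153 (iv1 F484230)) (tt N80426 (iv0 D215180)) (tt N113152 (iv2 F484222)) (tt N101884 F478756) (tt N85992 F478755) (tt N86942 F478754) (tt N85991 (iv6 F478757)) (tt N112820 (iv7 F482781)))
theorem Q111938 : ∀ i, i < 111938 → P i := stepQ 111937 Q111937 (allL N111937 (tt N97530 (iv1 F478762)) (tt N105932 F478761) (tt N80428 (iv2 D215181)) (tt N97055 F478758) (tt N115481 (iv4 F495409)) (tt N87778 F478759) (tt N103389 F478763) (tt N108779 F478760))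
theorem Q111939 : ∀ i, i < 111939 → P i := stepQ 111938 Q111938 (allL N111938 (tt N87658 (iv1 F478769)) (tt N115752 F496673) (tt N103389 F478764) (tt N80429 F478765) (tt N87649 F478766) (tt N84097 F478767) (tt N80428 (iv6 D215182)) (tt N103429 F478768))
theorem Q111940 : ∀ i, i < 111940 → P i := stepQ 111939 Q111939 (allL N111939 (tt N103437 (iv1 F478774)) (tt N80443 (iv0 D215183)) (tt N103435 (iv2 F478773)) (tt N81736 F478771) (tt N112142 (iv4 F479715)) (tt N81740 F478770) (tt N102894 F478772) (tt N102043 F478775))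
theorem Q111941 : ∀ i, i < 111941 → P i := stepQ 111940 Q111940 (allL N111940 (tt N103062 F478782) (tt N103061 F478781) (tt N103063 F478776) (tt N87925 F478777) (tt N106959 F478778) (tt N80452 (iv5 D215184)) (tt N87924 F478779) (tt N98354 F478780))
theorem Q111942 : ∀ i, i < 111942 → P i := stepQ 111941 Q111941 (allL N111941 (tt N83851 F478786) (tt N84223 (iv0 F478788)) (tt N84230 F478783) (tt N102948 F478784) (tt N87034 F478785) (tt N101273 F478787) (tt N80461 (iv6 D215185)) (tt N84231 (iv7 F478789)))
theorem Q111943 : ∀ i, i < 111943 → P i := stepQ 111942 Q111942 (allL N111942 (tt N117340 (iv1 F504547)) (tt N116089 F498408) (tt N115781 (iv2 F496837)) (tt N80469 F478790) (tt N119365 (iv4 F515235)) (tt N80468 (iv5 D215186)) (tt N119329 (iv6 F515049)) (tt N115770 (iv7 F496778)))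
theorem Q111944 : ∀ i, i < 111944 → P i := stepQ 111943 Q111943 (allL N111943 (tt N91649 F478792) (tt N91648 F478793) (tt N97281 F478791) (tt N119329 (iv3 F515046)) (tt N116041 (iv4 F498198)) (tt N115515 (iv5 F495591)) (tt N80469 (iv6 D215187)) (tt N116082 (iv7 F498368)))
theorem Q111945 : ∀ i, i < 111945 → P i := stepQ 111944 Q111944 (allL N111944 (tt N80479 (iv1 D215188)) (tt N92580 F478794) (tt N101695 F478800) (tt N102968 (iv3 F478798)) (tt N111359 F478797) (tt N87700 F478796) (tt N92578 (iv6 F478799)) (tt N87699 F478795))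
theorem Q111946 : ∀ i, i < 111946 → P i := stepQ 111945 Q111945 (allL N111945 (tt N108801 F478806) (tt N99814 F478807) (tt N80487 F478801) (tt N109038 F478802) (tt N83840 F478803) (tt N80486 (iv5 D215189)) (tt N83839 F478804) (tt N100787 F478805))
theorem Q111947 : ∀ i, i < 111947 → P i := stepQ 111946 Q111946 (allL N111946 (tt N84212 F478813) (tt N109066 F478814) (tt N83840 F478808) (tt N99910 F478809) (tt N80487 (iv4 D215190)) (tt N88397 F478810) (tt N83829 F478811) (tt N99916 F478812))
theorem Q111948 : ∀ i, i < 111948 → P i := stepQ 111947 Q111947 (allL N111947 (tt N80505 F478820) (tt N104205 F478821) (tt N100934 F478816) (tt N110091 F478817) (tt N91797 F478818) (tt N80502 (iv5 D215191)) (tt N114387 (iv6 F489909)) (tt N100935 F478819))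
theorem Q111949 : ∀ i, i < 111949 → P i := stepQ 111948 Q111948 (allL N111948 (tt N116179 F498882) (tt N120319 F520176) (tt N101390 F478822) (tt N120305 (iv3 F520122)) (tt N80507 F478823) (tt N122134 D225393) (tt N80506 (iv6 D215192)) (tt N122135 D225394))
theorem Q111950 : ∀ i, i < 111950 → P i := stepQ 111949 Q111949 (allL N111949 (tt N101391 (iv1 F478828)) (tt N80507 (iv0 D215193)) (tt N82683 (iv2 F478826)) (tt N115050 (iv3 F493227)) (tt N120320 (iv4 F520177)) (tt N99382 F478824) (tt N82679 F478825) (tt N101389 F478827))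
theorem Q111951 : ∀ i, i < 111951 → P i := stepQ 111950 Q111950 (allL N111950 (tt N101389 (iv1 F478832)) (tt N82683 F478833) (tt N101391 F478829) (tt N105679 F478830) (tt N122135 (iv4 F530368)) (tt N101065 F478831) (tt N120260 (iv6 F519870)) (tt N80507 (iv7 D215194)))
theorem Q111952 : ∀ i, i < 111952 → P i := stepQ 111951 Q111951 (allL N111951 (tt N88482 (iv1 F478839)) (tt N88479 F478838) (tt N80508 (iv2 D215195)) (tt N104205 F478834) (tt N89536 F478835) (tt N84050 F478836) (tt N122136 D225395) (tt N90510 F478837))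
theorem Q111953 : ∀ i, i < 111953 → P i := stepQ 111952 Q111952 (allL N111952 (tt N117065 (iv1 F503201)) (tt N122137 D225396) (tt N122136 (iv2 F530371)) (tt N80510 F478840) (tt N112779 F482611) (tt N111973 (iv5 F478922)) (tt N80508 (iv6 D215196)) (tt N122138 D225397))
theorem Q111954 : ∀ i, i < 111954 → P i := stepQ 111953 Q111953 (allL N111953 (tt N122139 D225398) (tt N122019 (iv0 F529672)) (tt N120259 (iv2 F519863)) (tt N112780 (iv3 F482612)) (tt N80510 F478841) (tt N122140 D225399) (tt N80509 (iv6 D215197)) (tt N122141 D225400))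
theorem Q111955 : ∀ i, i < 111955 → P i := stepQ 111954 Q111954 (allL N111954 (tt N80510 (iv1 D215198)) (tt N120260 F519871) (tt N107385 F478843) (tt N121954 (iv3 F529273)) (tt N112782 (iv4 F518310)) (tt N105551 F478844) (tt N99386 (iv6 F478842)) (tt N120252 (iv7 F519824)))
theorem Q111956 : ∀ i, i < 111956 → P i := stepQ 111955 Q111955 (allL N111955 (tt N107385 (iv1 F478849)) (tt N120252 (iv0 F519825)) (tt N120260 (iv2 F519867)) (tt N122138 (iv3 F530383)) (tt N122141 (iv4 F530398)) (tt N105485 F478847) (tt N101391 F478848) (tt N80510 (iv7 D215199)))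
theorem Q111957 : ∀ i, i < 111957 → P i := stepQ 111956 Q111956 (allL N111956 (tt N120974 F523804) (tt N121102 (iv0 F524521)) (tt N117377 (iv2 F504736)) (tt N80511 (iv3 D215200)) (tt N88593 F478853) (tt N101493 F478850) (tt N88592 (iv6 F478851)) (tt N112743 (iv7 F482469)))
theorem Q111958 : ∀ i, i < 111958 → P i := stepQ 111957 Q111957 (allL N111957 (tt N120320 (iv1 F520181)) (tt N80512 (iv0 F478857)) (tt N101490 F478854) (tt N88592 F478855) (tt N101079 F478856) (tt N118559 (iv5 F510928)) (tt N80511 (iv6 D215201)) (tt N120295 (iv7 F520083)))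
theorem Q111959 : ∀ i, i < 111959 → P i := stepQ 111958 Q111958 (allL N111958 (tt N80512 (iv1 D215202)) (tt N120320 F520182) (tt N120295 (iv2 F520081)) (tt N105189 (iv3 F478860)) (tt N101491 F478859) (tt N120331 (iv5 F520224)) (tt N112785 (iv6 F482619)) (tt N101490 F478858))
theorem Q111960 : ∀ i, i < 111960 → P i := stepQ 111959 Q111959 (allL N111959 (tt N101490 (iv1 F478862)) (tt N120295 (iv0 F520084)) (tt N80512 (iv2 D215203)) (tt N120332 (iv3 F520226)) (tt N101389 F478861) (tt N122142 D225401) (tt N122143 D225402) (tt N120320 (iv7 F520180)))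
theorem Q111961 : ∀ i, i < 111961 → P i := stepQ 111960 Q111960 (allL N111960 (tt N120370 F520421) (tt N121517 (iv0 F526813)) (tt N122142 (iv2 F530403)) (tt N80513 F478863) (tt N122144 D225403) (tt N80512 (iv5 D215204)) (tt N120312 (iv6 F520155)) (tt N100881 F478864))
theorem Q111962 : ∀ i, i < 111962 → P i := stepQ 111961 Q111961 (allL N111961 (tt N120369 F520416) (tt N121501 (iv0 F526722)) (tt N122143 (iv2 F530410)) (tt N80514 F478865) (tt N114003 (iv4 F488148)) (tt N121633 (iv5 F527447)) (tt N80512 (iv6 D215205)) (tt N114000 (iv7 F488137)))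
theorem Q111963 : ∀ i, i < 111963 → P i := stepQ 111962 Q111962 (allL N111962 (tt N120334 (iv1 F520235)) (tt N80514 (iv0 D215206)) (tt N105200 (iv2 F478868)) (tt N108463 F478869) (tt N104330 F478867) (tt N100874 F478866) (tt N110873 F478870) (tt N105199 F478871))
theorem Q111964 : ∀ i, i < 111964 → P i := stepQ 111963 Q111963 (allL N111963 (tt N105199 (iv1 F478874)) (tt N105200 F478875) (tt N120334 (iv2 F520231)) (tt N114000 (iv3 F488135)) (tt N80517 F478872) (tt N110877 F478873) (tt N113999 F488134) (tt N80514 (iv7 D215207)))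
theorem Q111965 : ∀ i, i < 111965 → P i := stepQ 111964 Q111964 (allL N111964 (tt N114390 F489927) (tt N114387 (iv0 F489910)) (tt N84433 F478876) (tt N80515 (iv3 D215208)) (tt N121020 (iv4 F524056)) (tt N103794 F478877) (tt N108031 F478878) (tt N105185 F478879))
theorem Q111966 : ∀ i, i < 111966 → P i := stepQ 111965 Q111965 (allL N111965 (tt N100992 F478884) (tt N100869 F478885) (tt N105187 F478880) (tt N120309 F520145) (tt N80515 (iv4 D215209)) (tt N107387 F478883) (tt N108033 F478881) (tt N105186 F478882))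
theorem Q111967 : ∀ i, i < 111967 → P i := stepQ 111966 Q111966 (allL N111966 (tt N100869 F478890) (tt N100992 F478891) (tt N105186 F478886) (tt N84415 F478887) (tt N80516 (iv4 D215210)) (tt N107389 F478888) (tt N113998 (iv6 F488127)) (tt N105187 F478889))
theorem Q111968 : ∀ i, i < 111968 → P i := stepQ 111967 Q111967 (allL N111967 (tt N116178 F498880) (tt N107445 (iv0 F478894)) (tt N121500 (iv2 F526713)) (tt N80520 (iv3 D215211)) (tt N101387 F478892) (tt N112788 (iv5 F482632)) (tt N105197 (iv6 F478895)) (tt N100879 F478893))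
theorem Q111969 : ∀ i, i < 111969 → P i := stepQ 111968 Q111968 (allL N111968 (tt N122015 F529650) (tt N122145 D225404) (tt N100882 F478896) (tt N105197 F478897) (tt N80521 F478898) (tt N107391 (iv5 F478900)) (tt N80520 (iv6 D215212)) (tt N105195 F478899))
theorem Q111970 : ∀ i, i < 111970 → P i := stepQ 111969 Q111969 (allL N111969 (tt N112797 (iv1 F482660)) (tt N80521 (iv0 D215213)) (tt N105192 (iv2 F478904)) (tt N101482 (iv3 F478905)) (tt N101493 F478901) (tt N90345 F478903) (tt N105074 F478902) (tt N112756 (iv7 F482506)))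
theorem Q111971 : ∀ i, i < 111971 → P i := stepQ 111970 Q111970 (allL N111970 (tt N80521 (iv1 D215214)) (tt N112797 F482659) (tt N112756 F482507) (tt N106573 (iv3 F478907)) (tt N112792 (iv4 F482643)) (tt N90346 (iv5 F478908)) (tt N121157 (iv6 F524840)) (tt N105192 F478906))
theorem Q111972 : ∀ i, i < 111972 → P i := stepQ 111971 Q111971 (allL N111971 (tt N101103 F478912) (tt N81205 (iv0 F478913)) (tt N112537 (iv2 F481561)) (tt N80524 (iv3 D215215)) (tt N90505 F478909) (tt N116139 (iv5 F498687)) (tt N81193 F478910) (tt N101760 F478911))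
theorem Q111973 : ∀ i, i < 111973 → P i := stepQ 111972 Q111972 (allL N111972 (tt N81215 (iv1 F478918)) (tt N80526 (iv0 D215216)) (tt N97619 (iv2 F478917)) (tt N102136 (iv3 F478920)) (tt N80731 F478915) (tt N80734 F478914) (tt N102135 F478916) (tt N97702 F478919))
theorem Q111974 : ∀ i, i < 111974 → P i := stepQ 111973 Q111973 (allL N111973 (tt N113255 F484727) (tt N84875 (iv0 F478923)) (tt N113837 (iv2 F487366)) (tt N80530 F478921) (tt N116422 (iv4 F500020)) (tt N111952 F478922) (tt N80528 (iv6 D215217)) (tt N116920 (iv7 F502500)))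
theorem Q111975 : ∀ i, i < 111975 → P i := stepQ 111974 Q111974 (allL N111974 (tt N94562 F478928) (tt N83134 (iv0 F478929)) (tt N100625 F478924) (tt N89805 F478925) (tt N80530 F478926) (tt N117564 (iv5 F505721)) (tt N80529 (iv6 D215218)) (tt N95679 F478927))
theorem Q111976 : ∀ i, i < 111976 → P i := stepQ 111975 Q111975 (allL N111975 (tt N80536 (iv1 D215219)) (tt N81148 F478930) (tt N81147 F478935) (tt N98463 F478936) (tt N108868 (iv4 F478933)) (tt N109298 F478932) (tt N101675 (iv6 F478934)) (tt N81146 F478931))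
theorem Q111977 : ∀ i, i < 111977 → P i := stepQ 111976 Q111976 (allL N111976 (tt N81015 (iv1 F478938)) (tt N80538 (iv0 D215220)) (tt N81154 (iv2 F478939)) (tt N91888 F478937) (tt N117675 F506357) (tt N112244 F480203) (tt N119208 (iv6 F514366)) (tt N81153 (iv7 F478940)))
theorem Q111978 : ∀ i, i < 111978 → P i := stepQ 111977 Q111977 (allL N111977 (tt N80538 (iv1 D215221)) (tt N81015 F478941) (tt N81153 F478944) (tt N95605 (iv3 F478943)) (tt N117674 (iv4 F506349)) (tt N112245 (iv5 F480206)) (tt N80651 F478945) (tt N81154 F478942))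
theorem Q111979 : ∀ i, i < 111979 → P i := stepQ 111978 Q111978 (allL N111978 (tt N121068 F524345) (tt N119244 (iv0 F514591)) (tt N117676 (iv2 F506361)) (tt N80539 F478946) (tt N111987 (iv4 F478969)) (tt N80538 (iv5 D215222)) (tt N111987 (iv6 F478971)) (tt N81155 F478947))
theorem Q111980 : ∀ i, i < 111980 → P i := stepQ 111979 Q111979 (allL N111979 (tt N116022 (iv1 F509921)) (tt N122146 D225405) (tt N81152 F478948) (tt N111987 (iv3 F478968)) (tt N118251 (iv4 F509377)) (tt N80543 F478949) (tt N80539 (iv6 D215223)) (tt N111986 (iv7 F478967)))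
theorem Q111981 : ∀ i, i < 111981 → P i := stepQ 111980 Q111980 (allL N111980 (tt N94744 F478955) (tt N94743 (iv0 F478956)) (tt N94745 F478950) (tt N95184 F478951) (tt N80540 (iv4 D215224)) (tt N85121 F478954) (tt N95150 F478952) (tt N85257 F478953))
theorem Q111982 : ∀ i, i < 111982 → P i := stepQ 111981 Q111981 (allL N111981 (tt N121965 (iv1 F529342)) (tt N111445 (iv0 F479255)) (tt N115032 (iv2 F493122)) (tt N122122 (iv3 F530298)) (tt N114924 (iv4 F492562)) (tt N80540 (iv5 D215225)) (tt N115065 (iv6 F493313)) (tt N121964 (iv7 F529340)))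
theorem Q111983 : ∀ i, i < 111983 → P i := stepQ 111982 Q111982 (allL N111982 (tt N112237 (iv1 F480173)) (tt N112236 F480170) (tt N80542 F478957) (tt N115942 F497698) (tt N115034 (iv4 F493136)) (tt N80541 (iv5 D215226)) (tt N112232 (iv6 F480160)) (tt N101724 F478958))
theorem Q111984 : ∀ i, i < 111984 → P i := stepQ 111983 Q111983 (allL N111983 (tt N101724 (iv1 F478961)) (tt N80542 (iv0 D215227)) (tt N112237 F480176) (tt N87411 F478959) (tt N122147 D225406) (tt N111031 F478960) (tt N87408 (iv6 F478962)) (tt N112236 F480172))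
theorem Q111985 : ∀ i, i < 111985 → P i := stepQ 111984 Q111984 (allL N111984 (tt N80542 (iv1 D215228)) (tt N101724 F478963) (tt N112236 F480171) (tt N92331 (iv3 F478965)) (tt N122148 D225407) (tt N92330 F478964) (tt N117198 F503874) (tt N112237 (iv7 F480174)))
theorem Q111986 : ∀ i, i < 111986 → P i := stepQ 111985 Q111985 (allL N111985 (tt N115559 F495788) (tt N122085 (iv0 F530070)) (tt N115034 (iv2 F493135)) (tt N112223 (iv3 F480124)) (tt N80542 (iv4 D215229)) (tt N114927 (iv5 F492577)) (tt N112222 F480123) (tt N112223 F480126))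
theorem Q111987 : ∀ i, i < 111987 → P i := stepQ 111986 Q111986 (allL N111986 (tt N112231 (iv1 F480157)) (tt N112230 F480161) (tt N112232 (iv2 F480158)) (tt N80543 F478966) (tt N112222 (iv4 F480120)) (tt N111987 (iv5 F478970)) (tt N80542 (iv6 D215230)) (tt N111979 F478967))
theorem Q111988 : ∀ i, i < 111988 → P i := stepQ 111987 Q111987 (allL N111987 (tt N122039 (iv1 F529784)) (tt N122038 F529781) (tt N121044 (iv2 F524193)) (tt N111979 F478968) (tt N111978 F478969) (tt N111986 F478970) (tt N111978 F478971) (tt N80543 (iv7 D215231)))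
theorem Q111989 : ∀ i, i < 111989 → P i := stepQ 111988 Q111988 (allL N111988 (tt N110423 F478975) (tt N85974 (iv0 F478976)) (tt N83662 F478972) (tt N80547 (iv3 D215232)) (tt N83661 F478973) (tt N112033 (iv5 F479177)) (tt N106014 F478974) (tt N113574 (iv7 F486089)))
theorem Q111990 : ∀ i, i < 111990 → P i := stepQ 111989 Q111989 (allL N111989 (tt N113705 (iv1 F486739)) (tt N87366 (iv0 F478982)) (tt N96849 F478977) (tt N80550 F478978) (tt N82946 F478979) (tt N90876 F478981) (tt N80549 (iv6 D215233)) (tt N96848 F478980))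
theorem Q111991 : ∀ i, i < 111991 → P i := stepQ 111990 Q111990 (allL N111990 (tt N80551 (iv1 D215234)) (tt N88504 F478983) (tt N101129 (iv2 F478987)) (tt N112139 (iv3 F479701)) (tt N81738 F478986) (tt N82341 F478985) (tt N97595 (iv6 F478988)) (tt N99326 F478984))
theorem Q111992 : ∀ i, i < 111992 → P i := stepQ 111991 Q111991 (allL N111991 (tt N91503 (iv1 F478993)) (tt N80552 (iv0 D215235)) (tt N96559 (iv2 F478992)) (tt N82363 F478991) (tt N87805 F478990) (tt N107769 F478989) (tt N96558 (iv6 F478994)) (tt N112862 (iv7 F483018)))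
theorem Q111993 : ∀ i, i < 111993 → P i := stepQ 111992 Q111992 (allL N111992 (tt N89530 F478998) (tt N94975 F478999) (tt N117637 (iv2 F506136)) (tt N80553 F478995) (tt N109000 F478997) (tt N80552 (iv5 D215236)) (tt N120614 (iv6 F521765)) (tt N108996 F478996))
theorem Q111994 : ∀ i, i < 111994 → P i := stepQ 111993 Q111993 (allL N111993 (tt N117636 F506134) (tt N80554 (iv0 D215237)) (tt N117027 (iv2 F503030)) (tt N99358 F479001) (tt N103421 F479000) (tt N94940 F479003) (tt N80571 F479002) (tt N117028 (iv7 F503039)))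
theorem Q111995 : ∀ i, i < 111995 → P i := stepQ 111994 Q111994 (allL N111994 (tt N80554 (iv1 D215238)) (tt N117636 (iv0 F506133)) (tt N117028 (iv2 F503036)) (tt N118198 (iv3 F509100)) (tt N119429 (iv4 F515571)) (tt N107771 F479004) (tt N96544 (iv6 F479005)) (tt N117027 (iv7 F503032)))
theorem Q111996 : ∀ i, i < 111996 → P i := stepQ 111995 Q111995 (allL N111995 (tt N117027 (iv1 F503033)) (tt N117028 (iv0 F503042)) (tt N80554 (iv2 D215239)) (tt N91503 F479006) (tt N111680 F479007) (tt N120278 (iv5 F519982)) (tt N107915 F479008) (tt N117636 (iv7 F506132)))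
theorem Q111997 : ∀ i, i < 111997 → P i := stepQ 111996 Q111996 (allL N111996 (tt N112211 F480078) (tt N101147 F479011) (tt N116702 (iv2 F501384)) (tt N93618 F479009) (tt N116616 (iv4 F500988)) (tt N80555 (iv5 D215240)) (tt N93616 F479010) (tt N118160 (iv7 F508932)))
theorem Q111998 : ∀ i, i < 111998 → P i := stepQ 111997 Q111997 (allL N111997 (tt N101147 F479013) (tt N112211 (iv0 F480076)) (tt N118160 (iv2 F508929)) (tt N89531 F479012) (tt N119083 (iv4 F513699)) (tt N80556 (iv5 D215241)) (tt N94543 F479014) (tt N116702 (iv7 F501387)))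
theorem Q111999 : ∀ i, i < 111999 → P i := stepQ 111998 Q111998 (allL N111998 (tt N119015 F513297) (tt N95450 (iv0 F479016)) (tt N114561 (iv2 F490777)) (tt N80559 (iv3 D215242)) (tt N112155 (iv4 F479786)) (tt N114299 (iv5 F489468)) (tt N112154 F479784) (tt N111022 F479015))
theorem Q112000 : ∀ i, i < 112000 → P i := stepQ 111999 Q111999 (allL N111999 (tt N115131 F493640) (tt N112836 (iv0 F482873)) (tt N80567 F479017) (tt N118391 (iv3 F510099)) (tt N116900 (iv4 F502422)) (tt N80566 (iv5 D215243)) (tt N116408 (iv6 F499945)) (tt N116928 (iv7 F502544)))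
theorem Q112001 : ∀ i, i < 112001 → P i := stepQ 112000 Q112000 (allL N112000 (tt N122055 F529890) (tt N107086 (iv0 F490053)) (tt N116900 (iv2 F502421)) (tt N116929 (iv3 F502547)) (tt N80567 (iv4 D215244)) (tt N122149 D225408) (tt N111187 (iv6 F479022)) (tt N116929 (iv7 F502549)))
theorem Q112002 : ∀ i, i < 112002 → P i := stepQ 112001 Q112001 (allL N112001 (tt N116922 F502513) (tt N94965 (iv0 F479020)) (tt N116408 (iv2 F499943)) (tt N80569 F479018) (tt N111187 F479021) (tt N106780 F479019) (tt N80567 (iv6 D215245)) (tt N116410 (iv7 F499959)))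
theorem Q112003 : ∀ i, i < 112003 → P i := stepQ 112002 Q112002 (allL N112002 (tt N111538 F479027) (tt N99292 F479028) (tt N111365 F479023) (tt N106779 F479024) (tt N80570 (iv4 D215246)) (tt N100947 F479025) (tt N116941 (iv6 F502609)) (tt N111364 F479026))
theorem Q112004 : ∀ i, i < 112004 → P i := stepQ 112003 Q112003 (allL N112003 (tt N81745 F479035) (tt N92076 F479034) (tt N92079 F479029) (tt N103422 F479030) (tt N80571 (iv4 D215247)) (tt N104390 F479033) (tt N103421 F479031) (tt N92080 F479032))
theorem Q112005 : ∀ i, i < 112005 → P i := stepQ 112004 Q112004 (allL N112004 (tt N96380 F479038) (tt N80575 F479039) (tt N118364 (iv2 F509935)) (tt N80572 (iv3 D215248)) (tt N93826 F479036) (tt N113116 (iv5 F484040)) (tt N93825 F479037) (tt N120281 (iv7 F520006)))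
theorem Q112006 : ∀ i, i < 112006 → P i := stepQ 112005 Q112005 (allL N112005 (tt N117530 F505545) (tt N119163 (iv0 F514134)) (tt N80574 F479040) (tt N116928 (iv3 F502542)) (tt N115919 (iv4 F497582)) (tt N80573 (iv5 D215249)) (tt N98247 F479041) (tt N118391 (iv7 F510102)))
theorem Q112007 : ∀ i, i < 112007 → P i := stepQ 112006 Q112006 (allL N112006 (tt N118391 F510104) (tt N80574 (iv0 D215250)) (tt N117530 (iv2 F505540)) (tt N91689 F479044) (tt N110449 F479043) (tt N102064 F479042) (tt N110183 F479045) (tt N119163 (iv7 F514133)))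
theorem Q112008 : ∀ i, i < 112008 → P i := stepQ 112007 Q112007 (allL N112007 (tt N80574 (iv1 D215251)) (tt N118391 (iv0 F510103)) (tt N119163 (iv2 F514130)) (tt N98239 (iv3 F479048)) (tt N110448 F479047) (tt N102063 F479046) (tt N94867 F479109) (tt N117530 F505546))
theorem Q112009 : ∀ i, i < 112009 → P i := stepQ 112008 Q112008 (allL N112008 (tt N80575 (iv1 D215252)) (tt N96380 F479049) (tt N120281 (iv2 F520003)) (tt N107905 (iv3 F479051)) (tt N101560 (iv4 F479050)) (tt N107902 (iv5 F479052)) (tt N107904 F479053) (tt N118364 (iv7 F509939)))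
theorem Q112010 : ∀ i, i < 112010 → P i := stepQ 112009 Q112009 (allL N112009 (tt N122084 (iv1 F530060)) (tt N120508 (iv0 F521160)) (tt N111891 F479054) (tt N118731 (iv3 F511789)) (tt N115012 (iv4 F493047)) (tt N80576 (iv5 D215253)) (tt N116854 (iv6 F502182)) (tt N122034 (iv7 F529765)))
theorem Q112011 : ∀ i, i < 112011 → P i := stepQ 112010 Q112010 (allL N112010 (tt N106716 (iv1 F479059)) (tt N106702 F479060) (tt N106715 F479055) (tt N118940 F512866) (tt N80578 F479056) (tt N90983 (iv5 F479058)) (tt N80576 (iv6 D215254)) (tt N90982 F479057))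
theorem Q112012 : ∀ i, i < 112012 → P i := stepQ 112011 Q112011 (allL N112011 (tt N101663 (iv1 F479067)) (tt N80578 (iv0 D215255)) (tt N81954 (iv2 F479064)) (tt N80947 F479062) (tt N95153 F479061) (tt N93467 F479063) (tt N81952 F479065) (tt N93815 F479066))
theorem Q112013 : ∀ i, i < 112013 → P i := stepQ 112012 Q112012 (allL N112012 (tt N93815 (iv1 F479073)) (tt N81954 F479074) (tt N101663 F479068) (tt N93832 F479069) (tt N90982 F479070) (tt N110941 F479071) (tt N96372 F479072) (tt N80578 (iv7 D215256)))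
theorem Q112014 : ∀ i, i < 112014 → P i := stepQ 112013 Q112013 (allL N112013 (tt N113116 (iv1 F484041)) (tt N107902 (iv0 F479078)) (tt N110935 F479075) (tt N80583 (iv3 D215257)) (tt N119576 (iv4 F516339)) (tt N96012 F479076) (tt N97145 (iv6 F479079)) (tt N110934 F479077))
theorem Q112015 : ∀ i, i < 112015 → P i := stepQ 112014 Q112014 (allL N112014 (tt N85091 F479082) (tt N116764 F501710) (tt N113693 (iv2 F486667)) (tt N97145 F479080) (tt N86892 F479081) (tt N97144 (iv5 F479083)) (tt N80583 (iv6 D215258)) (tt N113697 (iv7 F486688)))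
theorem Q112016 : ∀ i, i < 112016 → P i := stepQ 112015 Q112015 (allL N112015 (tt N82449 (iv1 F479089)) (tt N82450 (iv0 F479090)) (tt N111042 (iv2 F479088)) (tt N80584 (iv3 D215259)) (tt N105257 F479087) (tt N82427 F479084) (tt N90716 F479085) (tt N111043 F479086))
theorem Q112017 : ∀ i, i < 112017 → P i := stepQ 112016 Q112016 (allL N112016 (tt N88459 (iv1 F479094)) (tt N80585 (iv0 D215260)) (tt N85539 (iv2 F479093)) (tt N114513 (iv3 F490528)) (tt N118633 (iv4 F511246)) (tt N86086 F479091) (tt N85093 F479092) (tt N85168 F479095))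
theorem Q112018 : ∀ i, i < 112018 → P i := stepQ 112017 Q112017 (allL N112017 (tt N94957 F479099) (tt N112861 (iv0 F483012)) (tt N80586 (iv2 D215261)) (tt N101798 F479096) (tt N121087 (iv4 F524451)) (tt N91183 F479097) (tt N94623 F479098) (tt N118799 (iv7 F512140)))
theorem Q112019 : ∀ i, i < 112019 → P i := stepQ 112018 Q112018 (allL N112018 (tt N118800 F512144) (tt N120856 (iv0 F523110)) (tt N121087 (iv2 F524450)) (tt N120282 (iv3 F520009)) (tt N80586 (iv4 D215262)) (tt N122150 D225409) (tt N94630 F479100) (tt N120282 (iv7 F520010)))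
theorem Q112020 : ∀ i, i < 112020 → P i := stepQ 112019 Q112019 (allL N112019 (tt N108172 (iv1 F479104)) (tt N112834 (iv0 F482862)) (tt N101761 F479101) (tt N94631 F479102) (tt N118801 (iv4 F512146)) (tt N94627 F479103) (tt N118801 (iv6 F512147)) (tt N80587 (iv7 D215263)))
theorem Q112021 : ∀ i, i < 112021 → P i := stepQ 112020 Q112020 (allL N112020 (tt N118150 F508876) (tt N94842 F479107) (tt N80588 (iv2 D215264)) (tt N118799 F512141) (tt N119117 (iv4 F513874)) (tt N111026 F479105) (tt N101260 F479108) (tt N101798 F479106))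
theorem Q112022 : ∀ i, i < 112022 → P i := stepQ 112021 Q112021 (allL N112021 (tt N117618 F506028) (tt N117619 (iv0 F506033)) (tt N119117 F513875) (tt N101268 F479110) (tt N80588 (iv4 D215265)) (tt N122151 D225410) (tt N101263 (iv6 F479112)) (tt N101268 F479111))
theorem Q112023 : ∀ i, i < 112023 → P i := stepQ 112022 Q112022 (allL N112022 (tt N101264 (iv1 F479118)) (tt N101262 F479119) (tt N101260 F479113) (tt N80589 F479114) (tt N101263 F479115) (tt N110042 F479116) (tt N80588 (iv6 D215266)) (tt N101261 F479117))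
theorem Q112024 : ∀ i, i < 112024 → P i := stepQ 112023 Q112023 (allL N112023 (tt N118151 (iv1 F508883)) (tt N101406 (iv0 F479124)) (tt N118801 F512148) (tt N101261 F479120) (tt N101761 F479121) (tt N96478 F479122) (tt N101761 F479123) (tt N80589 (iv7 D215267)))
theorem Q112025 : ∀ i, i < 112025 → P i := stepQ 112024 Q112024 (allL N112024 (tt N89932 (iv1 F479130)) (tt N80598 (iv0 D215268)) (tt N89930 (iv2 F479129)) (tt N109475 F479127) (tt N110544 F479126) (tt N89889 F479125) (tt N101203 F479128) (tt N88480 F479131))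
theorem Q112026 : ∀ i, i < 112026 → P i := stepQ 112025 Q112025 (allL N112025 (tt N94959 (iv1 F479138)) (tt N96558 F479137) (tt N80601 (iv2 D215269)) (tt N96533 F479132) (tt N91978 F479133) (tt N80602 F479134) (tt N95711 F479135) (tt N96557 F479136))
theorem Q112027 : ∀ i, i < 112027 → P i := stepQ 112026 Q112026 (allL N112026 (tt N122152 D225411) (tt N122153 D225412) (tt N113306 (iv2 F484942)) (tt N117803 (iv3 F507049)) (tt N80604 (iv4 D215270)) (tt N117800 (iv5 F507037)) (tt N113362 (iv6 F485180)) (tt N120242 (iv7 F519770)))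
theorem Q112028 : ∀ i, i < 112028 → P i := stepQ 112027 Q112027 (allL N112027 (tt N104145 F479142) (tt N114953 (iv0 F492738)) (tt N90056 F479139) (tt N80607 F479140) (tt N89664 F479141) (tt N113574 (iv5 F486090)) (tt N80605 (iv6 D215271)) (tt N112033 (iv7 F479178)))
theorem Q112029 : ∀ i, i < 112029 → P i := stepQ 112028 Q112028 (allL N112028 (tt N101360 F479147) (tt N89129 F479148) (tt N88857 F479143) (tt N80608 (iv3 D215272)) (tt N89675 F479144) (tt N81869 F479145) (tt N116317 F499526) (tt N88854 F479146))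
theorem Q112030 : ∀ i, i < 112030 → P i := stepQ 112029 Q112029 (allL N112029 (tt N114904 (iv1 F492451)) (tt N120478 (iv0 F520987)) (tt N101037 F479149) (tt N98649 F479150) (tt N80609 (iv4 D215273)) (tt N104013 F479153) (tt N98372 F479151) (tt N101040 F479152))
theorem Q112031 : ∀ i, i < 112031 → P i := stepQ 112030 Q112030 (allL N112030 (tt N104176 (iv1 F479159)) (tt N80610 (iv0 D215274)) (tt N89874 (iv2 F479158)) (tt N109074 F479156) (tt N110981 F479155) (tt N99740 F479154) (tt N99742 F479157) (tt N109071 F479160))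
theorem Q112032 : ∀ i, i < 112032 → P i := stepQ 112031 Q112031 (allL N112031 (tt N89178 F479166) (tt N89172 (iv0 F479167)) (tt N89092 F479161) (tt N80613 F479162) (tt N87704 F479163) (tt N99978 F479164) (tt N80612 (iv6 D215275)) (tt N89176 F479165))
theorem Q112033 : ∀ i, i < 112033 → P i := stepQ 112032 Q112032 (allL N112032 (tt N96676 F479173) (tt N96709 (iv0 F479174)) (tt N89315 F479168) (tt N89098 F479169) (tt N99338 F479170) (tt N90880 F479171) (tt N80614 (iv6 D215276)) (tt N105231 F479172))
theorem Q112034 : ∀ i, i < 112034 → P i := stepQ 112033 Q112033 (allL N112033 (tt N114961 (iv1 F492780)) (tt N107648 (iv0 F479179)) (tt N113584 (iv2 F486150)) (tt N100898 F479175) (tt N80621 F479176) (tt N111988 F479177) (tt N80619 (iv6 D215277)) (tt N112027 F479178))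
theorem Q112035 : ∀ i, i < 112035 → P i := stepQ 112034 Q112034 (allL N112034 (tt N80622 (iv1 D215278)) (tt N96456 F479180) (tt N96467 (iv2 F479184)) (tt N115020 F493078) (tt N82137 F479183) (tt N83262 F479182) (tt N96952 (iv6 F479185)) (tt N83261 F479181))
theorem Q112036 : ∀ i, i < 112036 → P i := stepQ 112035 Q112035 (allL N112035 (tt N112954 (iv1 F483365)) (tt N100873 F479188) (tt N84328 F479186) (tt N122154 D225413) (tt N80624 (iv4 D215279)) (tt N101287 F479187) (tt N122155 D225414) (tt N112952 (iv7 F483359)))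
theorem Q112037 : ∀ i, i < 112037 → P i := stepQ 112036 Q112036 (allL N112036 (tt N120535 (iv1 F521316)) (tt N100058 (iv0 F479191)) (tt N84329 F479189) (tt N112928 (iv3 F483298)) (tt N122155 (iv4 F530469)) (tt N90341 F479190) (tt N80624 (iv6 D215280)) (tt N120445 (iv7 F520819)))
theorem Q112038 : ∀ i, i < 112038 → P i := stepQ 112037 Q112037 (allL N112037 (tt N89312 F479194) (tt N90873 F479195) (tt N81888 F479192) (tt N121866 (iv3 F528792)) (tt N80627 (iv4 D215281)) (tt N122156 D225415) (tt N117242 (iv6 F504076)) (tt N81887 F479193))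
theorem Q112039 : ∀ i, i < 112039 → P i := stepQ 112038 Q112038 (allL N112038 (tt N100805 F479201) (tt N109396 F479202) (tt N80843 F479196) (tt N91398 F479197) (tt N80633 (iv4 D215282)) (tt N91397 F479200) (tt N101813 F479198) (tt N99235 F479199))
theorem Q112040 : ∀ i, i < 112040 → P i := stepQ 112039 Q112039 (allL N112039 (tt N116142 (iv1 F498712)) (tt N94064 F479206) (tt N110507 F479203) (tt N80637 F479204) (tt N113220 (iv4 F484545)) (tt N80635 (iv5 D215283)) (tt N100375 F479205) (tt N112478 (iv7 F481253)))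
theorem Q112041 : ∀ i, i < 112041 → P i := stepQ 112040 Q112040 (allL N112040 (tt N88611 F479211) (tt N88610 F479212) (tt N88612 F479207) (tt N113132 (iv3 F484123)) (tt N110017 F479210) (tt N80636 (iv5 D215284)) (tt N110016 F479208) (tt N88606 F479209))
theorem Q112042 : ∀ i, i < 112042 → P i := stepQ 112041 Q112041 (allL N112041 (tt N100040 F479215) (tt N102806 F479216) (tt N112802 (iv2 F482678)) (tt N115685 (iv3 F496303)) (tt N80640 (iv4 D215285)) (tt N118459 (iv5 F510487)) (tt N101855 F479213) (tt N102816 F479214))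
theorem Q112043 : ∀ i, i < 112043 → P i := stepQ 112042 Q112042 (allL N112042 (tt N102800 F479221) (tt N102644 (iv0 F479222)) (tt N91326 F479217) (tt N80641 (iv3 D215286)) (tt N117599 (iv4 F505929)) (tt N108757 F479218) (tt N102785 F479219) (tt N102770 F479220))
theorem Q112044 : ∀ i, i < 112044 → P i := stepQ 112043 Q112043 (allL N112043 (tt N102724 F479228) (tt N99178 F479229) (tt N92312 F479223) (tt N91321 F479224) (tt N92310 F479225) (tt N103570 F479226) (tt N80642 (iv6 D215287)) (tt N92309 F479227))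
theorem Q112045 : ∀ i, i < 112045 → P i := stepQ 112044 Q112044 (allL N112044 (tt N114876 (iv1 F492291)) (tt N111285 (iv0 F479233)) (tt N118432 (iv2 F510327)) (tt N80646 F479230) (tt N121430 (iv4 F526325)) (tt N80878 F479231) (tt N80644 (iv6 D215288)) (tt N90478 F479232))
theorem Q112046 : ∀ i, i < 112046 → P i := stepQ 112045 Q112045 (allL N112045 (tt N95164 F479236) (tt N115427 (iv0 F495139)) (tt N95271 F479234) (tt N107818 F479235) (tt N80650 (iv4 D215289)) (tt N107697 (iv5 F479237)) (tt N95143 (iv6 F479238)) (tt N116090 (iv7 F498410)))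
theorem Q112047 : ∀ i, i < 112047 → P i := stepQ 112046 Q112046 (allL N112046 (tt N106097 F479243) (tt N95152 (iv0 F479244)) (tt N95269 F479239) (tt N91949 F479240) (tt N95143 F479241) (tt N81662 F479242) (tt N80650 (iv6 D215290)) (tt N119208 (iv7 F514367)))
theorem Q112048 : ∀ i, i < 112048 → P i := stepQ 112047 Q112047 (allL N112047 (tt N115427 (iv1 F495140)) (tt N95164 F479248) (tt N116090 F498413) (tt N95096 F479245) (tt N80651 (iv4 D215291)) (tt N99301 F479247) (tt N117674 (iv6 F506351)) (tt N95271 F479246))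
theorem Q112049 : ∀ i, i < 112049 → P i := stepQ 112048 Q112048 (allL N112048 (tt N80653 (iv1 D215292)) (tt N84193 F479249) (tt N87409 F479253) (tt N84511 (iv3 F479252)) (tt N87254 F479250) (tt N89888 F479251) (tt N84040 F479254) (tt N113150 (iv7 F484208)))
theorem Q112050 : ∀ i, i < 112050 → P i := stepQ 112049 Q112049 (allL N112049 (tt N87409 (iv1 F479260)) (tt N113150 (iv0 F484209)) (tt N84193 F479256) (tt N80655 F479257) (tt N84179 F479258) (tt N80654 F479259) (tt N113934 (iv6 F487859)) (tt N80653 (iv7 D215293)))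
theorem Q112051 : ∀ i, i < 112051 → P i := stepQ 112050 Q112050 (allL N112050 (tt N119129 (iv1 F513940)) (tt N119128 F513937) (tt N111352 F479261) (tt N119218 (iv3 F514425)) (tt N115966 (iv4 F497810)) (tt N80657 (iv5 D215294)) (tt N111351 F479262) (tt N119125 (iv7 F513921)))
theorem Q112052 : ∀ i, i < 112052 → P i := stepQ 112051 Q112051 (allL N112051 (tt N91234 F479265) (tt N91233 F479266) (tt N80661 F479263) (tt N115229 (iv3 F494127)) (tt N80658 (iv4 D215295)) (tt N115229 (iv5 F494129)) (tt N115299 F494460) (tt N91235 F479264))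
theorem Q112053 : ∀ i, i < 112053 → P i := stepQ 112052 Q112052 (allL N112052 (tt N116088 (iv1 F498402)) (tt N115246 F494201) (tt N91248 F479267) (tt N115231 (iv3 F494135)) (tt N80659 (iv4 D215296)) (tt N122157 D225416) (tt N115255 (iv6 F494233)) (tt N91245 F479268))
theorem Q112054 : ∀ i, i < 112054 → P i := stepQ 112053 Q112053 (allL N112053 (tt N111745 F479270) (tt N113664 F486539) (tt N91249 F479269) (tt N115718 (iv3 F496491)) (tt N115255 (iv4 F494231)) (tt N122128 (iv5 F530336)) (tt N80659 (iv6 D215297)) (tt N122158 D225417))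
theorem Q112055 : ∀ i, i < 112055 → P i := stepQ 112054 Q112054 (allL N112054 (tt N115246 F494200) (tt N116088 F498401) (tt N91245 F479271) (tt N115199 (iv3 F493983)) (tt N80660 (iv4 D215298)) (tt N122159 D225418) (tt N115198 F493982) (tt N91248 F479272))
theorem Q112056 : ∀ i, i < 112056 → P i := stepQ 112055 Q112055 (allL N112055 (tt N113688 F486643) (tt N115806 (iv0 F496990)) (tt N91246 F479273) (tt N87471 F479274) (tt N115198 (iv4 F493979)) (tt N84260 F479275) (tt N80660 (iv6 D215299)) (tt N97179 (iv7 F479276)))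
theorem Q112057 : ∀ i, i < 112057 → P i := stepQ 112056 Q112056 (allL N112056 (tt N91235 (iv1 F479279)) (tt N80661 (iv0 D215300)) (tt N91234 (iv2 F479280)) (tt N122160 D225419) (tt N88367 F479278) (tt N86447 F479277) (tt N115217 (iv6 F494067)) (tt N91233 (iv7 F479282)))
theorem Q112058 : ∀ i, i < 112058 → P i := stepQ 112057 Q112057 (allL N112057 (tt N80661 (iv1 D215301)) (tt N91235 F479286) (tt N91233 F479290) (tt N122161 D225420) (tt N88368 F479288) (tt N86448 (iv5 F479289)) (tt N120968 (iv6 F523764)) (tt N91234 F479287))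
theorem Q112059 : ∀ i, i < 112059 → P i := stepQ 112058 Q112058 (allL N112058 (tt N88362 F479293) (tt N88364 F479294) (tt N115299 (iv2 F494461)) (tt N83679 F479291) (tt N80662 F479292) (tt N115302 (iv5 F494472)) (tt N80661 (iv6 D215302)) (tt N115298 (iv7 F494457)))
theorem Q112060 : ∀ i, i < 112060 → P i := stepQ 112059 Q112059 (allL N112059 (tt N111740 (iv1 F479299)) (tt N87513 F479300) (tt N87100 F479295) (tt N80664 F479296) (tt N115298 (iv4 F494454)) (tt N80680 F479297) (tt N91251 F479298) (tt N80662 (iv7 D215303)))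
theorem Q112061 : ∀ i, i < 112061 → P i := stepQ 112060 Q112060 (allL N112060 (tt N97272 F479305) (tt N112362 (iv0 F480750)) (tt N81662 F479301) (tt N95296 F479302) (tt N97269 F479303) (tt N95269 F479304) (tt N80663 (iv6 D215304)) (tt N119233 (iv7 F514516)))
theorem Q112062 : ∀ i, i < 112062 → P i := stepQ 112061 Q112061 (allL N112061 (tt N87413 F479309) (tt N87375 F479310) (tt N84041 F479306) (tt N84032 F479307) (tt N114639 (iv4 F491141)) (tt N80674 (iv5 D215305)) (tt N113886 (iv6 F487635)) (tt N84175 F479308))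
theorem Q112063 : ∀ i, i < 112063 → P i := stepQ 112062 Q112062 (allL N112062 (tt N116168 (iv1 F498845)) (tt N112885 F483139) (tt N88441 F479311) (tt N80677 F479312) (tt N113556 (iv4 F486015)) (tt N80675 (iv5 D215306)) (tt N109398 F479313) (tt N115530 (iv7 F495658)))
theorem Q112064 : ∀ i, i < 112064 → P i := stepQ 112063 Q112063 (allL N112063 (tt N113066 (iv1 F483818)) (tt N113068 (iv0 F483826)) (tt N84036 F479314) (tt N121526 (iv3 F526855)) (tt N80677 (iv4 D215307)) (tt N90987 F479316) (tt N114621 (iv6 F491046)) (tt N88564 F479315))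
theorem Q112065 : ∀ i, i < 112065 → P i := stepQ 112064 Q112064 (allL N112064 (tt N103775 F479320) (tt N88780 F479321) (tt N95136 F479317) (tt N80684 F479318) (tt N103562 F479322) (tt N80683 (iv5 D215308)) (tt N122162 D225421) (tt N105117 F479319))
theorem Q112066 : ∀ i, i < 112066 → P i := stepQ 112065 Q112065 (allL N112065 (tt N85990 F479325) (tt N90624 (iv0 F479326)) (tt N105118 F479323) (tt N122162 (iv3 F530512)) (tt N85986 F479324) (tt N112324 (iv5 F480555)) (tt N80684 (iv6 D215309)) (tt N114381 (iv7 F489890)))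
theorem Q112067 : ∀ i, i < 112067 → P i := stepQ 112066 Q112066 (allL N112066 (tt N88075 F479330) (tt N88779 (iv0 F479331)) (tt N96484 F479327) (tt N80687 (iv3 D215310)) (tt N113033 (iv4 F483640)) (tt N87764 F479328) (tt N121078 (iv6 F524401)) (tt N105571 F479329))
theorem Q112068 : ∀ i, i < 112068 → P i := stepQ 112067 Q112067 (allL N112067 (tt N86654 F479334) (tt N119509 (iv0 F515982)) (tt N86616 F479332) (tt N87531 F479333) (tt N122161 (iv4 F530505)) (tt N80688 (iv5 D215311)) (tt N85169 F479335) (tt N115087 (iv7 F493423)))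
theorem Q112069 : ∀ i, i < 112069 → P i := stepQ 112068 Q112068 (allL N112068 (tt N83916 F479339) (tt N105741 F479340) (tt N100949 F479336) (tt N81819 F479337) (tt N112128 (iv4 F479634)) (tt N80697 (iv5 D215312)) (tt N119556 (iv6 F516231)) (tt N105720 F479338))
theorem Q112070 : ∀ i, i < 112070 → P i := stepQ 112069 Q112069 (allL N112069 (tt N88911 F479344) (tt N120555 (iv0 F521431)) (tt N89397 F479341) (tt N88495 F479342) (tt N122163 D225422) (tt N80699 (iv5 D215313)) (tt N122164 D225423) (tt N89399 F479343))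
theorem Q112071 : ∀ i, i < 112071 → P i := stepQ 112070 Q112070 (allL N112070 (tt N112395 (iv1 F480909)) (tt N112394 F480905) (tt N112383 (iv2 F480840)) (tt N96799 F479345) (tt N84593 F479346) (tt N80702 (iv5 D215314)) (tt N100347 F479347) (tt N87875 F479348))
theorem Q112072 : ∀ i, i < 112072 → P i := stepQ 112071 Q112071 (allL N112071 (tt N80754 F479354) (tt N116206 (iv0 F499013)) (tt N108447 F479349) (tt N80713 (iv3 D215315)) (tt N110272 F479350) (tt N104238 F479351) (tt N82743 F479352) (tt N109281 F479353))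
theorem Q112073 : ∀ i, i < 112073 → P i := stepQ 112072 Q112072 (allL N112072 (tt N97400 F479359) (tt N97389 F479360) (tt N97633 F479355) (tt N102855 F479356) (tt N88796 F479357) (tt N80749 (iv5 D215316)) (tt N88794 F479358) (tt N116208 (iv7 F499022)))
theorem Q112074 : ∀ i, i < 112074 → P i := stepQ 112073 Q112073 (allL N112073 (tt N97698 F479366) (tt N81238 F479367) (tt N82236 F479361) (tt N97058 F479362) (tt N91446 F479363) (tt N80750 (iv5 D215317)) (tt N81146 F479364) (tt N101683 F479365))
theorem Q112075 : ∀ i, i < 112075 → P i := stepQ 112074 Q112074 (allL N112074 (tt N100392 F479373) (tt N100527 (iv0 F479374)) (tt N81687 F479368) (tt N80758 (iv3 D215318)) (tt N81682 F479369) (tt N91334 F479370) (tt N82525 F479371) (tt N81684 F479372))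
theorem Q112076 : ∀ i, i < 112076 → P i := stepQ 112075 Q112075 (allL N112075 (tt N80783 (iv1 D215319)) (tt N80973 F479375) (tt N81002 (iv2 F479378)) (tt N112381 (iv3 F480827)) (tt N101686 F479377) (tt N117448 (iv5 F505087)) (tt N112380 F480825) (tt N81001 F479376))
theorem Q112077 : ∀ i, i < 112077 → P i := stepQ 112076 Q112076 (allL N112076 (tt N80787 (iv1 D215320)) (tt N81024 (iv0 F479382)) (tt N81022 (iv2 F479380)) (tt N112148 (iv3 F479747)) (tt N112489 (iv4 F481317)) (tt N117632 (iv5 F506103)) (tt N83715 (iv6 F479381)) (tt N81023 F479379))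
theorem Q112078 : ∀ i, i < 112078 → P i := stepQ 112077 Q112077 (allL N112077 (tt N81023 (iv1 F479388)) (tt N81022 F479387) (tt N80787 (iv2 D215321)) (tt N81018 F479383) (tt N81747 F479384) (tt N112149 (iv5 F479751)) (tt N110971 F479385) (tt N81024 F479386))
theorem Q112079 : ∀ i, i < 112079 → P i := stepQ 112078 Q112078 (allL N112078 (tt N82477 F479394) (tt N92091 (iv0 F479392)) (tt N112149 (iv2 F479748)) (tt N80788 F479389) (tt N102358 F479391) (tt N80787 (iv5 D215322)) (tt N111934 (iv6 F479393)) (tt N81025 F479390))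
theorem Q112080 : ∀ i, i < 112080 → P i := stepQ 112079 Q112079 (allL N112079 (tt N81037 (iv1 F479396)) (tt N80792 (iv0 D215323)) (tt N81035 (iv2 F479397)) (tt N119330 (iv3 F515053)) (tt N112704 (iv4 F482259)) (tt N97267 F479395) (tt N122043 (iv6 F529812)) (tt N81036 (iv7 F479398)))
theorem Q112081 : ∀ i, i < 112081 → P i := stepQ 112080 Q112080 (allL N112080 (tt N80792 (iv1 D215324)) (tt N81037 F479399) (tt N81036 (iv2 F479403)) (tt N111632 (iv3 F479401)) (tt N101958 (iv4 F479402)) (tt N112413 (iv5 F480999)) (tt N111631 F479404) (tt N81035 F479400))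
theorem Q112082 : ∀ i, i < 112082 → P i := stepQ 112081 Q112081 (allL N112081 (tt N121972 (iv1 F529388)) (tt N118790 (iv0 F512087)) (tt N107870 (iv2 F479409)) (tt N80795 (iv3 D215325)) (tt N80806 F479405) (tt N93690 F479406) (tt N107723 F479407) (tt N93689 F479408))
theorem Q112083 : ∀ i, i < 112083 → P i := stepQ 112082 Q112082 (allL N112082 (tt N80798 (iv1 D215326)) (tt N81099 F479410) (tt N81096 F479415) (tt N89081 (iv3 F479414)) (tt N80831 F479413) (tt N89080 F479412) (tt N119042 (iv6 F513453)) (tt N81095 F479411))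
theorem Q112084 : ∀ i, i < 112084 → P i := stepQ 112083 Q112083 (allL N112083 (tt N118488 F510647) (tt N98881 F479420) (tt N102665 F479416) (tt N93551 F479417) (tt N80800 (iv4 D215327)) (tt N116628 (iv5 F501045)) (tt N93549 F479418) (tt N81104 F479419))
theorem Q112085 : ∀ i, i < 112085 → P i := stepQ 112084 Q112084 (allL N112084 (tt N116589 (iv1 F500880)) (tt N93816 F482031) (tt N93672 F479421) (tt N80805 (iv3 D215328)) (tt N118751 (iv4 F511889)) (tt N122165 D225424) (tt N93671 F479422) (tt N81132 F479423))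
theorem Q112086 : ∀ i, i < 112086 → P i := stepQ 112085 Q112085 (allL N112085 (tt N108890 F479427) (tt N108888 F479428) (tt N81134 F479424) (tt N122165 (iv3 F530529)) (tt N80811 F479425) (tt N80805 (iv5 D215329)) (tt N115107 (iv6 F493511)) (tt N81133 F479426))
theorem Q112087 : ∀ i, i < 112087 → P i := stepQ 112086 Q112086 (allL N112086 (tt N80806 (iv1 D215330)) (tt N118678 (iv0 F511500)) (tt N118792 F512101) (tt N117569 (iv3 F505752)) (tt N93579 (iv4 F479430)) (tt N100749 F479429) (tt N93578 F479431) (tt N117567 (iv7 F505743)))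
theorem Q112088 : ∀ i, i < 112088 → P i := stepQ 112087 Q112087 (allL N112087 (tt N117567 F505745) (tt N118792 F512102) (tt N80806 (iv2 D215331)) (tt N81137 F479432) (tt N107870 F479433) (tt N108117 F479434) (tt N94943 F479435) (tt N118678 (iv7 F511499)))
theorem Q112089 : ∀ i, i < 112089 → P i := stepQ 112088 Q112088 (allL N112088 (tt N81100 (iv1 F479439)) (tt N80809 (iv0 D215332)) (tt N81142 (iv2 F479440)) (tt N110396 F479438) (tt N112294 (iv4 F480405)) (tt N100704 F479437) (tt N112724 (iv6 F482372)) (tt N81143 (iv7 F479441)))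
theorem Q112090 : ∀ i, i < 112090 → P i := stepQ 112089 Q112089 (allL N112089 (tt N80809 (iv1 D215333)) (tt N81100 F479442) (tt N81143 F479448) (tt N100680 (iv3 F479446)) (tt N111374 F479445) (tt N100679 F479444) (tt N92909 (iv6 F479447)) (tt N81142 F479443))
theorem Q112091 : ∀ i, i < 112091 → P i := stepQ 112090 Q112090 (allL N112090 (tt N112234 (iv1 F480166)) (tt N112235 (iv0 F480168)) (tt N117653 (iv2 F506231)) (tt N80811 F479449) (tt N122124 (iv4 F530311)) (tt N80810 (iv5 D215334)) (tt N111461 F479450) (tt N81162 F479451))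
theorem Q112092 : ∀ i, i < 112092 → P i := stepQ 112091 Q112091 (allL N112091 (tt N115065 (iv1 F493314)) (tt N90653 (iv0 F479455)) (tt N81159 F479452) (tt N111461 F479453) (tt N115107 (iv4 F493510)) (tt N95449 F479454) (tt N80811 (iv6 D215335)) (tt N116462 (iv7 F500260)))
theorem Q112093 : ∀ i, i < 112093 → P i := stepQ 112092 Q112092 (allL N112092 (tt N116854 (iv1 F502184)) (tt N90959 (iv0 F479460)) (tt N81168 F479456) (tt N115884 (iv3 F497402)) (tt N108102 F479457) (tt N90576 F479458) (tt N80813 (iv6 D215336)) (tt N90575 (iv7 F479459)))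
theorem Q112094 : ∀ i, i < 112094 → P i := stepQ 112093 Q112093 (allL N112093 (tt N115523 F495625) (tt N120052 (iv0 F518783)) (tt N81173 F479461) (tt N120031 F518661) (tt N112303 (iv4 F480451)) (tt N111578 F479462) (tt N80815 (iv6 D215337)) (tt N121703 (iv7 F527849)))
theorem Q112095 : ∀ i, i < 112095 → P i := stepQ 112094 Q112094 (allL N112094 (tt N111501 (iv1 F479467)) (tt N87267 (iv0 F479466)) (tt N81184 F479463) (tt N115847 F497215) (tt N111562 F479464) (tt N111493 F479465) (tt N80816 (iv6 D215338)) (tt N113905 (iv7 F487711)))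
theorem Q112096 : ∀ i, i < 112096 → P i := stepQ 112095 Q112095 (allL N112095 (tt N118704 F511640) (tt N118726 (iv0 F511768)) (tt N81186 F479468) (tt N111398 F479469) (tt N80818 F479470) (tt N96585 F479471) (tt N80817 (iv6 D215339)) (tt N118734 (iv7 F511803)))
theorem Q112097 : ∀ i, i < 112097 → P i := stepQ 112096 Q112096 (allL N112096 (tt N81188 (iv1 F479476)) (tt N81187 F479477) (tt N81189 F479472) (tt N87210 F479473) (tt N118734 (iv4 F511800)) (tt N81583 F479474) (tt N87207 F479475) (tt N80818 (iv7 D215340)))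
theorem Q112098 : ∀ i, i < 112098 → P i := stepQ 112097 Q112097 (allL N112097 (tt N80829 (iv1 D215341)) (tt N110536 F479478) (tt N112667 (iv2 F482087)) (tt N116484 (iv3 F500383)) (tt N103131 F479480) (tt N116821 (iv5 F502006)) (tt N116483 F500381) (tt N111199 F479479))
theorem Q112099 : ∀ i, i < 112099 → P i := stepQ 112098 Q112098 (allL N112098 (tt N117334 (iv1 F504511)) (tt N117329 (iv0 F504487)) (tt N117331 F504493) (tt N80829 (iv3 D215342)) (tt N80836 F479481) (tt N122166 D225425) (tt N90490 F479482) (tt N117332 (iv7 F504496)))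
theorem Q112100 : ∀ i, i < 112100 → P i := stepQ 112099 Q112099 (allL N112099 (tt N114972 (iv1 F492846)) (tt N84312 F479484) (tt N108426 F479483) (tt N122166 (iv3 F530535)) (tt N91145 F479485) (tt N80829 (iv5 D215343)) (tt N122167 D225426) (tt N114971 (iv7 F492835)))
theorem Q112101 : ∀ i, i < 112101 → P i := stepQ 112100 Q112100 (allL N112100 (tt N116989 F502853) (tt N118417 (iv0 F510241)) (tt N119082 (iv2 F513691)) (tt N80832 (iv3 D215344)) (tt N90490 F479490) (tt N108946 F479491) (tt N80836 F479492) (tt N119078 (iv7 F513670)))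
theorem Q112102 : ∀ i, i < 112102 → P i := stepQ 112101 Q112101 (allL N112101 (tt N81243 (iv1 F479496)) (tt N81242 F479497) (tt N81245 F479493) (tt N119078 (iv3 F513667)) (tt N80833 F479494) (tt N89484 F479495) (tt N118360 (iv6 F509909)) (tt N80832 (iv7 D215345)))
theorem Q112103 : ∀ i, i < 112103 → P i := stepQ 112102 Q112102 (allL N112102 (tt N119077 F513664) (tt N80836 (iv0 D215346)) (tt N119081 (iv2 F513690)) (tt N116875 (iv3 F502303)) (tt N116972 F502772) (tt N118937 (iv5 F512847)) (tt N116874 F502301) (tt N119079 (iv7 F513675)))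
theorem Q112104 : ∀ i, i < 112104 → P i := stepQ 112103 Q112103 (allL N112103 (tt N119081 (iv1 F513685)) (tt N119079 (iv0 F513676)) (tt N80836 (iv2 D215347)) (tt N81255 F479498) (tt N117331 (iv4 F504491)) (tt N115568 (iv5 F495808)) (tt N119082 (iv6 F513695)) (tt N119077 (iv7 F513665)))
theorem Q112105 : ∀ i, i < 112105 → P i := stepQ 112104 Q112104 (allL N112104 (tt N116365 (iv1 F499736)) (tt N93876 F497400) (tt N115568 (iv2 F495807)) (tt N80837 F479499) (tt N108592 F479501) (tt N80836 (iv5 D215348)) (tt N121649 (iv6 F527535)) (tt N108591 F479500))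
theorem Q112106 : ∀ i, i < 112106 → P i := stepQ 112105 Q112105 (allL N112105 (tt N121654 (iv1 F527560)) (tt N90329 F479503) (tt N81258 F479502) (tt N121649 (iv3 F527534)) (tt N113659 (iv4 F486521)) (tt N116958 (iv5 F502701)) (tt N80837 (iv6 D215349)) (tt N116996 (iv7 F502883)))
theorem Q112107 : ∀ i, i < 112107 → P i := stepQ 112106 Q112106 (allL N112106 (tt N99235 (iv1 F479508)) (tt N80843 (iv0 D215350)) (tt N100805 (iv2 F479506)) (tt N112117 (iv3 F479569)) (tt N100804 F479504) (tt N122042 (iv5 F529802)) (tt N100803 F479505) (tt N109396 F479507))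
theorem Q112108 : ∀ i, i < 112108 → P i := stepQ 112107 Q112107 (allL N112107 (tt N109396 (iv1 F479514)) (tt N100805 F479515) (tt N99235 F479509) (tt N100699 F479510) (tt N80844 F479511) (tt N99218 F479512) (tt N101668 F479513) (tt N80843 (iv7 D215351)))
theorem Q112109 : ∀ i, i < 112109 → P i := stepQ 112108 Q112108 (allL N112108 (tt N88636 (iv1 F479518)) (tt N80851 (iv0 D215352)) (tt N88638 (iv2 F479517)) (tt N120280 F519999) (tt N104476 F479516) (tt N116212 (iv5 F499041)) (tt N122168 D225427) (tt N88637 F479519))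
theorem Q112110 : ∀ i, i < 112110 → P i := stepQ 112109 Q112109 (allL N112109 (tt N81304 F479524) (tt N81306 (iv0 F479525)) (tt N116030 (iv2 F498134)) (tt N80860 (iv3 D215353)) (tt N87472 F479520) (tt N108730 F479521) (tt N95829 F479522) (tt N108729 F479523))
theorem Q112111 : ∀ i, i < 112111 → P i := stepQ 112110 Q112110 (allL N112110 (tt N89397 F479528) (tt N89399 F479529) (tt N120555 (iv2 F521427)) (tt N88919 F479526) (tt N118464 (iv4 F510514)) (tt N80873 (iv5 D215354)) (tt N114067 (iv6 F488420)) (tt N88911 F479527))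
theorem Q112112 : ∀ i, i < 112112 → P i := stepQ 112111 Q112111 (allL N112111 (tt N90606 F479534) (tt N83487 F479535) (tt N81399 F479530) (tt N88390 F479531) (tt N80880 (iv4 D215355)) (tt N90634 F479532) (tt N100270 (iv6 F479536)) (tt N81396 F479533))
theorem Q112113 : ∀ i, i < 112113 → P i := stepQ 112112 Q112112 (allL N112112 (tt N89813 F479540) (tt N84741 (iv0 F479541)) (tt N81400 F479537) (tt N113490 (iv3 F485741)) (tt N100270 F479538) (tt N109873 F479539) (tt N80880 (iv6 D215356)) (tt N89812 (iv7 F479542)))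
theorem Q112114 : ∀ i, i < 112114 → P i := stepQ 112113 Q112113 (allL N112113 (tt N103125 F479546) (tt N103126 (iv0 F479547)) (tt N81513 F479543) (tt N109324 F479544) (tt N101213 F479545) (tt N117147 (iv5 F503630)) (tt N80906 (iv6 D215357)) (tt N114807 (iv7 F491972)))
theorem Q112115 : ∀ i, i < 112115 → P i := stepQ 112114 Q112114 (allL N112114 (tt N110132 F479553) (tt N110544 (iv0 F479554)) (tt N103136 F479548) (tt N94568 F479549) (tt N109703 F479550) (tt N81541 F479551) (tt N80914 (iv6 D215358)) (tt N80919 F479552))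
theorem Q112116 : ∀ i, i < 112116 → P i := stepQ 112115 Q112115 (allL N112115 (tt N103136 (iv1 F479558)) (tt N80919 (iv0 D215359)) (tt N110544 (iv2 F479559)) (tt N81069 (iv3 F479560)) (tt N89930 F479556) (tt N81068 F479555) (tt N91337 F479557) (tt N110132 (iv7 F479561)))
theorem Q112117 : ∀ i, i < 112117 → P i := stepQ 112116 Q112116 (allL N112116 (tt N80919 (iv1 D215360)) (tt N103136 F479562) (tt N110132 F479568) (tt N82056 (iv3 F479566)) (tt N88480 F479564) (tt N82054 F479565) (tt N88478 (iv6 F479567)) (tt N110544 F479563))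
theorem Q112118 : ∀ i, i < 112118 → P i := stepQ 112117 Q112117 (allL N112117 (tt N95343 (iv1 F479573)) (tt N108960 F479572) (tt N80920 (iv2 D215361)) (tt N112106 F479569) (tt N93818 F479570) (tt N116464 (iv5 F500271)) (tt N81161 F479571) (tt N117152 (iv7 F503653)))
theorem Q112119 : ∀ i, i < 112119 → P i := stepQ 112118 Q112118 (allL N112118 (tt N116805 F501936) (tt N106112 (iv0 F479576)) (tt N116811 (iv2 F501966)) (tt N117106 F503424) (tt N120385 (iv4 F520506)) (tt N81163 F479574) (tt N80921 (iv6 D215362)) (tt N116461 (iv7 F500254)))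
theorem Q112120 : ∀ i, i < 112120 → P i := stepQ 112119 Q112119 (allL N112119 (tt N111110 F479579) (tt N111111 F479580) (tt N117151 (iv2 F503646)) (tt N80924 F479577) (tt N119848 (iv4 F517680)) (tt N80923 (iv5 D215363)) (tt N99280 F479578) (tt N117328 (iv7 F504480)))
theorem Q112121 : ∀ i, i < 112121 → P i := stepQ 112120 Q112120 (allL N112120 (tt N90714 F479586) (tt N99702 F479585) (tt N90784 F479581) (tt N80926 F479582) (tt N90908 F479584) (tt N80925 (iv5 D215364)) (tt N84271 (iv6 F479587)) (tt N106735 F479583))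
theorem Q112122 : ∀ i, i < 112122 → P i := stepQ 112121 Q112121 (allL N112121 (tt N80932 (iv1 D215365)) (tt N90678 F479588) (tt N97621 F479594) (tt N89210 (iv3 F479592)) (tt N103134 F479591) (tt N91849 F479590) (tt N89208 (iv6 F479593)) (tt N91848 F479589))
theorem Q112123 : ∀ i, i < 112123 → P i := stepQ 112122 Q112122 (allL N112122 (tt N97621 (iv1 F479600)) (tt N91848 F479601) (tt N90678 F479595) (tt N80937 F479596) (tt N107943 F479597) (tt N80933 F479598) (tt N87754 F479599) (tt N80932 (iv7 D215366)))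
theorem Q112124 : ∀ i, i < 112124 → P i := stepQ 112123 Q112123 (allL N112123 (tt N90860 F479606) (tt N116624 (iv0 F501034)) (tt N107182 F479602) (tt N83187 F479603) (tt N80936 F479604) (tt N110249 F479605) (tt N80935 (iv6 D215367)) (tt N109314 (iv7 F479607)))
theorem Q112125 : ∀ i, i < 112125 → P i := stepQ 112124 Q112124 (allL N112124 (tt N115512 F495575) (tt N105035 (iv0 F479612)) (tt N96871 F479608) (tt N87754 F479609) (tt N116480 (iv4 F500358)) (tt N87753 F479610) (tt N80937 (iv6 D215368)) (tt N90674 F479611))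
theorem Q112126 : ∀ i, i < 112126 → P i := stepQ 112125 Q112125 (allL N112125 (tt N89041 F479618) (tt N89735 F479619) (tt N89739 F479613) (tt N101741 F479614) (tt N98446 F479615) (tt N80941 (iv5 D215369)) (tt N89793 F479616) (tt N89740 F479617))
theorem Q112127 : ∀ i, i < 112127 → P i := stepQ 112126 Q112126 (allL N112126 (tt N80944 (iv1 D215370)) (tt N80951 F479620) (tt N80950 F479625) (tt N111372 (iv3 F479624)) (tt N100140 F479623) (tt N108871 F479622) (tt N109806 F479626) (tt N80949 F479621))
theorem Q112128 : ∀ i, i < 112128 → P i := stepQ 112127 Q112127 (allL N112127 (tt N89006 F479630) (tt N89425 F479631) (tt N89426 F479627) (tt N101742 F479628) (tt N121706 (iv4 F527866)) (tt N80946 (iv5 D215371)) (tt N121620 F527375) (tt N89427 F479629))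
theorem Q112129 : ∀ i, i < 112129 → P i := stepQ 112128 Q112128 (allL N112128 (tt N106781 F479637) (tt N93899 F479638) (tt N110222 F479632) (tt N101682 F479633) (tt N112068 F479634) (tt N80949 (iv5 D215372)) (tt N103344 F479635) (tt N108871 F479636))
theorem Q112130 : ∀ i, i < 112130 → P i := stepQ 112129 Q112129 (allL N112129 (tt N80959 (iv1 D215373)) (tt N81059 F479639) (tt N104239 F479645) (tt N81087 (iv3 F479643)) (tt N81069 F479642) (tt N109281 F479641) (tt N91340 (iv6 F479644)) (tt N104238 F479640))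
theorem Q112131 : ∀ i, i < 112131 → P i := stepQ 112130 Q112130 (allL N112130 (tt N103453 F479650) (tt N103455 F479651) (tt N96044 F479646) (tt N80971 (iv3 D215374)) (tt N111672 F479647) (tt N118829 (iv5 F512292)) (tt N97762 F479648) (tt N111039 F479649))
theorem Q112132 : ∀ i, i < 112132 → P i := stepQ 112131 Q112131 (allL N112131 (tt N119036 F513414) (tt N100752 (iv0 F479656)) (tt N94890 F479652) (tt N80972 (iv3 D215375)) (tt N101961 F479653) (tt N117011 (iv5 F502963)) (tt N94887 F479654) (tt N93463 F479655))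
theorem Q112133 : ∀ i, i < 112133 → P i := stepQ 112132 Q112132 (allL N112132 (tt N81226 F479661) (tt N81228 F479662) (tt N81225 F479657) (tt N80975 F479658) (tt N102089 F479660) (tt N80974 (iv5 D215376)) (tt N102088 F479663) (tt N81224 F479659))
theorem Q112134 : ∀ i, i < 112134 → P i := stepQ 112133 Q112133 (allL N112133 (tt N101170 F479669) (tt N81664 (iv0 F479670)) (tt N101180 F479664) (tt N80977 (iv3 D215377)) (tt N82959 F479665) (tt N109568 F479666) (tt N82957 F479667) (tt N81678 F479668))
theorem Q112135 : ∀ i, i < 112135 → P i := stepQ 112134 Q112134 (allL N112134 (tt N81786 F479675) (tt N81810 (iv0 F479676)) (tt N81797 F479671) (tt N80979 (iv3 D215378)) (tt N80980 F479672) (tt N121851 (iv5 F528699)) (tt N82066 F479673) (tt N81811 F479674))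
theorem Q112136 : ∀ i, i < 112136 → P i := stepQ 112135 Q112135 (allL N112135 (tt N112494 F481346) (tt N93844 (iv0 F479679)) (tt N118941 (iv2 F512874)) (tt N80981 F479677) (tt N91933 F479678) (tt N80980 (iv5 D215379)) (tt N91931 (iv6 F479680)) (tt N112292 (iv7 F480397)))
theorem Q112137 : ∀ i, i < 112137 → P i := stepQ 112136 Q112136 (allL N112136 (tt N82003 F479684) (tt N82006 F479685) (tt N112311 F480489) (tt N80982 F479681) (tt N82066 F479682) (tt N82050 F479683) (tt N80980 (iv6 D215380)) (tt N112312 (iv7 F480492)))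
theorem Q112138 : ∀ i, i < 112138 → P i := stepQ 112137 Q112137 (allL N112137 (tt N81011 F479691) (tt N82522 F479692) (tt N108674 F479686) (tt N101143 F479687) (tt N80983 (iv4 D215381)) (tt N89609 F479688) (tt N93455 F479689) (tt N110133 F479690))
theorem Q112139 : ∀ i, i < 112139 → P i := stepQ 112138 Q112138 (allL N112138 (tt N80984 (iv1 D215382)) (tt N97759 F479693) (tt N94813 F479699) (tt N81232 (iv3 F479697)) (tt N97769 F479695) (tt N81228 F479696) (tt N103455 (iv6 F479698)) (tt N81227 F479694))
theorem Q112140 : ∀ i, i < 112140 → P i := stepQ 112139 Q112139 (allL N112139 (tt N112233 F480164) (tt N96722 (iv0 F479703)) (tt N91975 F479700) (tt N111990 F479701) (tt N81026 F479702) (tt N112808 (iv5 F482706)) (tt N80985 (iv6 D215383)) (tt N117641 (iv7 F506164)))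
theorem Q112141 : ∀ i, i < 112141 → P i := stepQ 112140 Q112140 (allL N112140 (tt N81780 (iv1 F479708)) (tt N81778 F479707) (tt N80988 (iv2 D215384)) (tt N97759 F479704) (tt N94927 F479705) (tt N119430 (iv5 F515578)) (tt N94926 F479706) (tt N112287 (iv7 F480368)))
theorem Q112142 : ∀ i, i < 112142 → P i := stepQ 112141 Q112141 (allL N112141 (tt N101897 F479711) (tt N96371 (iv0 F479713)) (tt N119430 (iv2 F515576)) (tt N80989 F479709) (tt N81588 F479712) (tt N80988 (iv5 D215385)) (tt N81586 (iv6 F479714)) (tt N91977 F479710))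
theorem Q112143 : ∀ i, i < 112143 → P i := stepQ 112142 Q112142 (allL N112142 (tt N94815 F479718) (tt N94843 (iv0 F479719)) (tt N94845 (iv2 F479720)) (tt N80994 (iv3 D215386)) (tt N111939 F479715) (tt N96544 F479716) (tt N94855 F479721) (tt N94687 F479717))
theorem Q112144 : ∀ i, i < 112144 → P i := stepQ 112143 Q112143 (allL N112143 (tt N112632 F481919) (tt N112658 (iv0 F482045)) (tt N118225 (iv2 F509232)) (tt N94855 F479722) (tt N93840 F479723) (tt N118340 (iv5 F509794)) (tt N80994 (iv6 D215387)) (tt N94849 F479724))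
theorem Q112145 : ∀ i, i < 112145 → P i := stepQ 112144 Q112144 (allL N112144 (tt N115070 F493336) (tt N121450 (iv0 F526445)) (tt N112815 (iv2 F482746)) (tt N81969 F479725) (tt N96263 F479728) (tt N81011 (iv5 D215388)) (tt N81968 F479726) (tt N94985 F479727))
theorem Q112146 : ∀ i, i < 112146 → P i := stepQ 112145 Q112145 (allL N112145 (tt N95528 F479734) (tt N96349 (iv0 F479735)) (tt N95546 F479729) (tt N95559 F479730) (tt N96524 F479731) (tt N111106 F479732) (tt N81020 (iv6 D215389)) (tt N96603 F479733))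
theorem Q112147 : ∀ i, i < 112147 → P i := stepQ 112146 Q112146 (allL N112146 (tt N117699 (iv1 F506494)) (tt N117702 F506513) (tt N112489 (iv2 F481316)) (tt N111141 F479736) (tt N81022 (iv4 D215390)) (tt N117513 (iv5 F505442)) (tt N88467 F479737) (tt N112504 (iv7 F481401)))
theorem Q112148 : ∀ i, i < 112148 → P i := stepQ 112147 Q112147 (allL N112147 (tt N112149 (iv1 F479754)) (tt N81025 (iv0 D215391)) (tt N92091 (iv2 F479741)) (tt N82485 F479739) (tt N92085 F479738) (tt N112497 (iv5 F481360)) (tt N92084 F479740) (tt N82477 (iv7 F479742)))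
theorem Q112149 : ∀ i, i < 112149 → P i := stepQ 112148 Q112148 (allL N112148 (tt N81025 (iv1 D215392)) (tt N112149 F479753) (tt N82477 F479746) (tt N112076 F479747) (tt N92095 F479744) (tt N113624 (iv5 F486352)) (tt N82475 (iv6 F479745)) (tt N92091 F479743))
theorem Q112150 : ∀ i, i < 112150 → P i := stepQ 112149 Q112149 (allL N112149 (tt N112148 (iv1 F479753)) (tt N112147 F479754) (tt N112078 F479748) (tt N81028 F479749) (tt N82535 F479750) (tt N112077 F479751) (tt N111053 F479752) (tt N81027 (iv7 D215393)))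
theorem Q112151 : ∀ i, i < 112151 → P i := stepQ 112150 Q112150 (allL N112150 (tt N100720 (iv1 F479760)) (tt N81565 F479761) (tt N100723 F479755) (tt N81037 F479756) (tt N104788 F479757) (tt N104784 F479758) (tt N100693 F479759) (tt N81030 (iv7 D215394)))
theorem Q112152 : ∀ i, i < 112152 → P i := stepQ 112151 Q112151 (allL N112151 (tt N97843 F479766) (tt N100683 F479767) (tt N101986 F479762) (tt N102089 F479763) (tt N81032 (iv4 D215395)) (tt N101984 F479764) (tt N102087 (iv6 F479768)) (tt N111591 F479765))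
theorem Q112153 : ∀ i, i < 112153 → P i := stepQ 112152 Q112152 (allL N112152 (tt N87719 (iv1 F479774)) (tt N87718 F479775) (tt N87721 F479769) (tt N81033 F479770) (tt N102087 F479771) (tt N87710 F479772) (tt N81032 (iv6 D215396)) (tt N87709 F479773))
theorem Q112154 : ∀ i, i < 112154 → P i := stepQ 112153 Q112153 (allL N112153 (tt N107891 F479779) (tt N112293 (iv0 F480401)) (tt N112704 (iv2 F482257)) (tt N101956 F479776) (tt N81035 (iv4 D215397)) (tt N81456 F479778) (tt N118131 F508770) (tt N101958 F479777))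
theorem Q112155 : ∀ i, i < 112155 → P i := stepQ 112154 Q112154 (allL N112154 (tt N112293 F480402) (tt N107891 F479783) (tt N101958 F479780) (tt N82231 F479781) (tt N81036 (iv4 D215398)) (tt N82230 F479782) (tt N111998 (iv6 F479784)) (tt N112704 (iv7 F482260)))
theorem Q112156 : ∀ i, i < 112156 → P i := stepQ 112155 Q112155 (allL N112155 (tt N100718 F479789) (tt N91928 (iv0 F479787)) (tt N111631 F479785) (tt N115775 (iv3 F496802)) (tt N111998 F479786) (tt N122041 (iv5 F529799)) (tt N81036 (iv6 D215399)) (tt N111633 (iv7 F479788)))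
theorem Q112157 : ∀ i, i < 112157 → P i := stepQ 112156 Q112156 (allL N112156 (tt N91846 F479795) (tt N90546 (iv0 F479796)) (tt N93819 F479790) (tt N100693 F479791) (tt N93753 F479792) (tt N90710 F479793) (tt N81037 (iv6 D215400)) (tt N81038 F479794))
theorem Q112158 : ∀ i, i < 112158 → P i := stepQ 112157 Q112157 (allL N112157 (tt N93819 (iv1 F479800)) (tt N81038 (iv0 D215401)) (tt N90546 (iv2 F479801)) (tt N91849 F479799) (tt N107889 F479798) (tt N89210 F479797) (tt N95302 (iv6 F479802)) (tt N91846 (iv7 F479803)))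
theorem Q112159 : ∀ i, i < 112159 → P i := stepQ 112158 Q112158 (allL N112158 (tt N81038 (iv1 D215402)) (tt N93819 F479804) (tt N91846 F479809) (tt N97617 (iv3 F479808)) (tt N107888 F479807) (tt N90547 F479806) (tt N91845 F479810) (tt N90546 F479805))
theorem Q112160 : ∀ i, i < 112160 → P i := stepQ 112159 Q112159 (allL N112159 (tt N81306 (iv1 F479815)) (tt N81304 (iv0 F479814)) (tt N108729 F479811) (tt N81045 (iv3 D215403)) (tt N87473 F479812) (tt N108725 F479813) (tt N120912 (iv6 F523428)) (tt N116030 (iv7 F498140)))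
theorem Q112161 : ∀ i, i < 112161 → P i := stepQ 112160 Q112160 (allL N112160 (tt N86369 F479821) (tt N86368 (iv0 F479822)) (tt N81071 F479816) (tt N106824 F479817) (tt N86361 F479818) (tt N97420 F479819) (tt N81055 (iv6 D215404)) (tt N86359 F479820))
theorem Q112162 : ∀ i, i < 112162 → P i := stepQ 112161 Q112161 (allL N112161 (tt N89510 (iv1 F479828)) (tt N89526 (iv0 F479827)) (tt N89524 F479823) (tt N81056 (iv3 D215405)) (tt N117903 (iv4 F507516)) (tt N110171 F479824) (tt N89449 F479825) (tt N89523 F479826))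
theorem Q112163 : ∀ i, i < 112163 → P i := stepQ 112162 Q112162 (allL N112162 (tt N101834 F479834) (tt N106821 (iv0 F479835)) (tt N81076 F479829) (tt N81779 F479830) (tt N110300 F479831) (tt N81777 F479832) (tt N81057 (iv6 D215406)) (tt N110297 F479833))
theorem Q112164 : ∀ i, i < 112164 → P i := stepQ 112163 Q112163 (allL N112163 (tt N106821 F479841) (tt N101834 (iv0 F479842)) (tt N110297 F479836) (tt N81100 F479837) (tt N101747 F479838) (tt N97086 F479839) (tt N81061 (iv6 D215407)) (tt N81076 F479840))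
theorem Q112165 : ∀ i, i < 112165 → P i := stepQ 112164 Q112164 (allL N112164 (tt N81482 F479844) (tt N112735 F482434) (tt N112385 (iv2 F480850)) (tt N121685 (iv3 F527734)) (tt N81062 (iv4 D215408)) (tt N113986 (iv5 F488070)) (tt N121305 (iv6 F525662)) (tt N106728 F479843))
theorem Q112166 : ∀ i, i < 112166 → P i := stepQ 112165 Q112165 (allL N112165 (tt N99405 F479848) (tt N109317 F479849) (tt N107438 F479845) (tt N116689 (iv3 F501313)) (tt N81063 (iv4 D215409)) (tt N113498 (iv5 F485785)) (tt N83208 F479846) (tt N110294 F479847))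
theorem Q112167 : ∀ i, i < 112167 → P i := stepQ 112166 Q112166 (allL N112166 (tt N109317 F479855) (tt N99405 F479856) (tt N110294 F479850) (tt N107121 F479851) (tt N81064 (iv4 D215410)) (tt N110149 F479854) (tt N101745 F479852) (tt N107438 F479853))
theorem Q112168 : ∀ i, i < 112168 → P i := stepQ 112167 Q112167 (allL N112167 (tt N107641 F479857) (tt N107369 F479858) (tt N121337 F525847) (tt N81065 (iv3 D215411)) (tt N121685 (iv4 F527735)) (tt N121339 F525855) (tt N113430 F485464) (tt N119016 (iv7 F513301)))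
theorem Q112169 : ∀ i, i < 112169 → P i := stepQ 112168 Q112168 (allL N112168 (tt N110150 F479862) (tt N110148 F479863) (tt N113004 (iv2 F483518)) (tt N110532 F479859) (tt N110992 F479861) (tt N81072 (iv5 D215412)) (tt N113007 (iv6 F483537)) (tt N83507 F479860))
theorem Q112170 : ∀ i, i < 112170 → P i := stepQ 112169 Q112169 (allL N112169 (tt N107442 F479869) (tt N107431 (iv0 F479870)) (tt N88543 F479864) (tt N81074 F479865) (tt N88532 F479868) (tt N81073 (iv5 D215413)) (tt N100035 F479866) (tt N88545 F479867))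
theorem Q112171 : ∀ i, i < 112171 → P i := stepQ 112170 Q112170 (allL N112170 (tt N110297 (iv1 F479876)) (tt N81076 (iv0 D215414)) (tt N101834 (iv2 F479875)) (tt N106221 F479873) (tt N96282 F479872) (tt N91858 F479871) (tt N96280 F479874) (tt N106821 F479877))
theorem Q112172 : ∀ i, i < 112172 → P i := stepQ 112171 Q112171 (allL N112171 (tt N108986 F479880) (tt N107713 F479881) (tt N112297 F480420) (tt N108187 F479878) (tt N89988 F479879) (tt N81078 (iv5 D215415)) (tt N93817 (iv6 F479882)) (tt N112298 (iv7 F480423)))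
theorem Q112173 : ∀ i, i < 112173 → P i := stepQ 112172 Q112172 (allL N112172 (tt N91610 F479886) (tt N91487 (iv0 F479887)) (tt N91607 F479883) (tt N81085 (iv3 D215416)) (tt N91485 F479884) (tt N116825 (iv5 F502025)) (tt N97215 F479888) (tt N91608 F479885))
theorem Q112174 : ∀ i, i < 112174 → P i := stepQ 112173 Q112173 (allL N112173 (tt N107713 F479890) (tt N108986 F479891) (tt N112298 F480426) (tt N116825 F502027) (tt N89987 F479889) (tt N81085 (iv5 D215417)) (tt N115827 F497113) (tt N112297 F480421))
theorem Q112175 : ∀ i, i < 112175 → P i := stepQ 112174 Q112174 (allL N112174 (tt N108667 (iv1 F479897)) (tt N82146 (iv0 F479896)) (tt N93379 F479892) (tt N97215 F479893) (tt N81086 F479894) (tt N96607 (iv5 F479895)) (tt N81085 (iv6 D215418)) (tt N109252 F479898))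
theorem Q112176 : ∀ i, i < 112176 → P i := stepQ 112175 Q112175 (allL N112175 (tt N96177 F479900) (tt N107719 (iv0 F479901)) (tt N107790 (iv2 F479903)) (tt N81090 (iv3 D215419)) (tt N119903 (iv4 F517949)) (tt N97032 F479902) (tt N118038 (iv6 F508229)) (tt N107852 F479899))
theorem Q112177 : ∀ i, i < 112177 → P i := stepQ 112176 Q112176 (allL N112176 (tt N107823 F479908) (tt N107838 F479909) (tt N107810 F479904) (tt N97032 F479905) (tt N89984 F479906) (tt N81090 (iv5 D215420)) (tt N93531 (iv6 F479910)) (tt N107837 F479907))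
theorem Q112178 : ∀ i, i < 112178 → P i := stepQ 112177 Q112177 (allL N112177 (tt N108324 F479913) (tt N96157 (iv0 F479914)) (tt N90400 F479911) (tt N118038 (iv3 F508228)) (tt N81091 F479912) (tt N121168 (iv5 F524907)) (tt N81090 (iv6 D215421)) (tt N112373 (iv7 F480784)))
theorem Q112179 : ∀ i, i < 112179 → P i := stepQ 112178 Q112178 (allL N112178 (tt N116615 F500984) (tt N119084 (iv0 F513706)) (tt N122091 (iv2 F530100)) (tt N81093 (iv3 D215422)) (tt N91601 F479915) (tt N115028 (iv5 F493110)) (tt N91599 (iv6 F479917)) (tt N109307 F479916))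
theorem Q112180 : ∀ i, i < 112180 → P i := stepQ 112179 Q112179 (allL N112179 (tt N101940 F479920) (tt N102995 (iv0 F479921)) (tt N112296 (iv2 F480414)) (tt N91599 F479918) (tt N81094 F479919) (tt N114467 (iv5 F490331)) (tt N81093 (iv6 D215423)) (tt N122169 D225428))
theorem Q112181 : ∀ i, i < 112181 → P i := stepQ 112180 Q112180 (allL N112180 (tt N104773 (iv1 F479925)) (tt N111544 F479926) (tt N111545 F479922) (tt N117147 (iv3 F503628)) (tt N122169 (iv4 F530553)) (tt N109324 F479923) (tt N90401 F479924) (tt N81094 (iv7 D215424)))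
theorem Q112182 : ∀ i, i < 112182 → P i := stepQ 112181 Q112181 (allL N112181 (tt N89988 F479932) (tt N89987 F479933) (tt N89990 F479927) (tt N81095 (iv3 D215425)) (tt N81098 F479928) (tt N89082 F479929) (tt N93722 F479930) (tt N89081 F479931))
theorem Q112183 : ∀ i, i < 112183 → P i := stepQ 112182 Q112182 (allL N112182 (tt N107773 (iv1 F479939)) (tt N107880 (iv0 F479938)) (tt N81097 (iv2 D215426)) (tt N94943 F479934) (tt N101000 F479935) (tt N107887 F479936) (tt N81137 F479937) (tt N118794 (iv7 F512114)))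
theorem Q112184 : ∀ i, i < 112184 → P i := stepQ 112183 Q112183 (allL N112183 (tt N107880 (iv1 F479944)) (tt N107773 F479945) (tt N118794 (iv2 F512110)) (tt N81099 F479940) (tt N100028 F479941) (tt N111909 F479942) (tt N106799 F479943) (tt N81097 (iv7 D215427)))
theorem Q112185 : ∀ i, i < 112185 → P i := stepQ 112184 Q112184 (allL N112184 (tt N119792 (iv1 F517443)) (tt N118235 F509292) (tt N100423 F479946) (tt N94991 F479947) (tt N81102 (iv4 D215428)) (tt N107336 F479950) (tt N100364 F479948) (tt N94989 F479949))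
theorem Q112186 : ∀ i, i < 112186 → P i := stepQ 112185 Q112185 (allL N112185 (tt N118235 F509291) (tt N119792 F517442) (tt N94989 F479952) (tt N99342 F479953) (tt N81103 (iv4 D215429)) (tt N119751 (iv5 F517234)) (tt N97210 F479954) (tt N100423 F479955))
theorem Q112187 : ∀ i, i < 112187 → P i := stepQ 112186 Q112186 (allL N112186 (tt N119290 (iv1 F514858)) (tt N119289 (iv0 F514857)) (tt N119292 (iv2 F514865)) (tt N81104 (iv3 D215430)) (tt N81111 F479956) (tt N122170 D225429) (tt N119295 (iv6 F514890)) (tt N93551 F479957))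
theorem Q112188 : ∀ i, i < 112188 → P i := stepQ 112187 Q112187 (allL N112187 (tt N107539 F479959) (tt N107537 F479960) (tt N119928 (iv2 F518077)) (tt N122170 (iv3 F530559)) (tt N100431 F479958) (tt N81104 (iv5 D215431)) (tt N109500 (iv6 F479961)) (tt N116628 F501047))
theorem Q112189 : ∀ i, i < 112189 → P i := stepQ 112188 Q112188 (allL N112188 (tt N81250 F479966) (tt N81252 F479967) (tt N111557 F479962) (tt N87430 F479963) (tt N81157 F479965) (tt N81109 (iv5 D215432)) (tt N115553 (iv6 F495755)) (tt N111558 F479964))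
theorem Q112190 : ∀ i, i < 112190 → P i := stepQ 112189 Q112189 (allL N112189 (tt N81252 F479971) (tt N81250 F479972) (tt N111558 F479968) (tt N118384 (iv3 F510065)) (tt N81158 F479969) (tt N81110 (iv5 D215433)) (tt N122062 F529936) (tt N111557 F479970))
theorem Q112191 : ∀ i, i < 112191 → P i := stepQ 112190 Q112190 (allL N112190 (tt N100557 F479977) (tt N108186 (iv0 F479979)) (tt N101605 F479973) (tt N81112 F479974) (tt N94904 F479978) (tt N81111 (iv5 D215434)) (tt N94903 F479975) (tt N93553 F479976))
theorem Q112192 : ∀ i, i < 112192 → P i := stepQ 112191 Q112191 (allL N112191 (tt N122148 (iv1 F530441)) (tt N122147 (iv0 F530434)) (tt N111562 F479980) (tt N94903 F479981) (tt N81184 F479982) (tt N105232 (iv5 F479983)) (tt N81112 (iv6 D215435)) (tt N94901 F479984))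
theorem Q112193 : ∀ i, i < 112193 → P i := stepQ 112192 Q112192 (allL N112192 (tt N96606 F482349) (tt N121757 (iv0 F528138)) (tt N111551 F479985) (tt N95993 F479986) (tt N104766 F479989) (tt N81113 (iv5 D215436)) (tt N105232 F479987) (tt N96717 F479988))
theorem Q112194 : ∀ i, i < 112194 → P i := stepQ 112193 Q112193 (allL N112193 (tt N102679 F479994) (tt N102684 (iv0 F479995)) (tt N102683 F479990) (tt N81114 (iv3 D215437)) (tt N108969 (iv4 F479996)) (tt N84765 F479991) (tt N101863 F479992) (tt N102682 F479993))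
theorem Q112195 : ∀ i, i < 112195 → P i := stepQ 112194 Q112194 (allL N112194 (tt N101667 F479999) (tt N117448 (iv0 F505089)) (tt N110588 F479997) (tt N116951 (iv3 F502667)) (tt N118243 (iv4 F509331)) (tt N111472 F479998) (tt N81115 (iv6 D215438)) (tt N117473 (iv7 F505214)))
theorem Q112196 : ∀ i, i < 112196 → P i := stepQ 112195 Q112195 (allL N112195 (tt N111379 (iv1 F480013)) (tt N122171 D225430) (tt N122172 D225431) (tt N81119 (iv3 D215439)) (tt N81121 F480000) (tt N113406 (iv5 F485354)) (tt N100512 F480001) (tt N98859 F480002))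
theorem Q112197 : ∀ i, i < 112197 → P i := stepQ 112196 Q112196 (allL N112196 (tt N107541 (iv1 F480007)) (tt N107540 F480006) (tt N107543 F480003) (tt N113406 (iv3 F485353)) (tt N99949 F480004) (tt N81119 (iv5 D215440)) (tt N113405 (iv6 F485351)) (tt N98865 F480005))
theorem Q112198 : ∀ i, i < 112198 → P i := stepQ 112197 Q112197 (allL N112197 (tt N81121 (iv1 D215441)) (tt N99485 (iv0 F480012)) (tt N112304 F480454) (tt N107721 F480010) (tt N122173 D225432) (tt N108186 F480011) (tt N107719 (iv6 F480009)) (tt N101664 F480008))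
theorem Q112199 : ∀ i, i < 112199 → P i := stepQ 112198 Q112198 (allL N112198 (tt N101664 (iv1 F480018)) (tt N112304 F480455) (tt N81121 (iv2 D215442)) (tt N85657 F480014) (tt N122172 (iv4 F530571)) (tt N108180 (iv5 F480017)) (tt N85656 F480015) (tt N99485 F480016))
theorem Q112200 : ∀ i, i < 112200 → P i := stepQ 112199 Q112199 (allL N112199 (tt N108207 F480024) (tt N108196 F480023) (tt N108180 F480019) (tt N81122 F480020) (tt N117049 (iv4 F503119)) (tt N81121 (iv5 D215443)) (tt N108105 F480021) (tt N108115 F480022))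
theorem Q112201 : ∀ i, i < 112201 → P i := stepQ 112200 Q112200 (allL N112200 (tt N118824 F512272) (tt N108615 (iv0 F480028)) (tt N112303 (iv2 F480450)) (tt N108105 F480025) (tt N81173 F480026) (tt N108098 (iv5 F480029)) (tt N81122 (iv6 D215444)) (tt N108097 F480027))
theorem Q112202 : ∀ i, i < 112202 → P i := stepQ 112201 Q112201 (allL N112201 (tt N110080 F480034) (tt N110204 F480035) (tt N85635 F480030) (tt N85655 F480031) (tt N114656 (iv4 F491226)) (tt N81123 (iv5 D215445)) (tt N108098 F480032) (tt N93269 F480033))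
theorem Q112203 : ∀ i, i < 112203 → P i := stepQ 112202 Q112202 (allL N112202 (tt N85657 (iv1 F480037)) (tt N81128 (iv0 D215446)) (tt N112301 (iv2 F480442)) (tt N116616 (iv3 F500987)) (tt N91638 F480445) (tt N87318 F480036) (tt N116615 (iv6 F500985)) (tt N112300 (iv7 F480444)))
theorem Q112204 : ∀ i, i < 112204 → P i := stepQ 112203 Q112203 (allL N112203 (tt N81128 (iv1 D215447)) (tt N85657 F480043) (tt N112300 F480443) (tt N118308 F509630) (tt N91637 (iv4 F480038)) (tt N115900 (iv5 F497486)) (tt N117111 (iv6 F503452)) (tt N112301 F480441))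
theorem Q112205 : ∀ i, i < 112205 → P i := stepQ 112204 Q112204 (allL N112204 (tt N112301 (iv1 F480438)) (tt N112300 F480437) (tt N81128 (iv2 D215448)) (tt N99485 F480039) (tt N91584 F480040) (tt N108166 (iv5 F480044)) (tt N99473 F480041) (tt N85657 F480042))
theorem Q112206 : ∀ i, i < 112206 → P i := stepQ 112205 Q112205 (allL N112205 (tt N117532 (iv1 F505557)) (tt N119223 (iv0 F514456)) (tt N108166 F480045) (tt N81129 F480046) (tt N114789 (iv4 F491871)) (tt N81128 (iv5 D215449)) (tt N103075 F480047) (tt N112302 (iv7 F480448)))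
theorem Q112207 : ∀ i, i < 112207 → P i := stepQ 112206 Q112206 (allL N112206 (tt N86263 F480052) (tt N87331 F480053) (tt N108102 F480048) (tt N103075 F480049) (tt N81168 F480050) (tt N103074 F480051) (tt N81129 (iv6 D215450)) (tt N108094 F480054))
theorem Q112208 : ∀ i, i < 112208 → P i := stepQ 112207 Q112207 (allL N112207 (tt N112299 (iv1 F480435)) (tt N108296 (iv0 F480060)) (tt N93270 F480055) (tt N85670 F480056) (tt N81131 F480057) (tt N91445 F480058) (tt N85669 F480059) (tt N81130 (iv7 D215451)))
theorem Q112209 : ∀ i, i < 112209 → P i := stepQ 112208 Q112208 (allL N112208 (tt N93672 (iv1 F480063)) (tt N81132 (iv0 D215452)) (tt N93816 (iv2 F480065)) (tt N101601 (iv3 F480064)) (tt N115828 F497117) (tt N101598 F480062) (tt N93468 F480061) (tt N116589 (iv7 F500878)))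
theorem Q112210 : ∀ i, i < 112210 → P i := stepQ 112209 Q112209 (allL N112209 (tt N81132 (iv1 D215453)) (tt N93672 (iv0 F480068)) (tt N116589 (iv2 F500876)) (tt N122174 D225433) (tt N115827 (iv4 F497111)) (tt N118257 (iv5 F509395)) (tt N89987 (iv6 F480067)) (tt N93816 F480066))
theorem Q112211 : ∀ i, i < 112211 → P i := stepQ 112210 Q112210 (allL N112210 (tt N93816 F482030) (tt N116589 (iv0 F500879)) (tt N81132 (iv2 D215454)) (tt N93430 F480069) (tt N107226 (iv4 F480072)) (tt N118613 (iv5 F511162)) (tt N93429 F480070) (tt N93672 F480071))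
theorem Q112212 : ∀ i, i < 112212 → P i := stepQ 112211 Q112211 (allL N112211 (tt N111997 F480076) (tt N111996 (iv0 F480078)) (tt N107226 F480073) (tt N81246 F480074) (tt N81132 (iv4 D215455)) (tt N96499 (iv5 F480077)) (tt N107225 F480075) (tt N118751 (iv7 F511886)))
theorem Q112213 : ∀ i, i < 112213 → P i := stepQ 112212 Q112212 (allL N112212 (tt N122024 (iv1 F529705)) (tt N122129 (iv0 F530341)) (tt N118613 (iv2 F511161)) (tt N81133 F480079) (tt N113899 (iv4 F487691)) (tt N81132 (iv5 D215456)) (tt N113898 (iv6 F487689)) (tt N122165 (iv7 F530531)))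
theorem Q112214 : ∀ i, i < 112214 → P i := stepQ 112213 Q112213 (allL N112213 (tt N121641 F527494) (tt N121672 (iv0 F527658)) (tt N120541 (iv2 F521347)) (tt N113898 (iv3 F487686)) (tt N81163 F480080) (tt N114526 (iv5 F490607)) (tt N81133 (iv6 D215457)) (tt N121671 (iv7 F527649)))
theorem Q112215 : ∀ i, i < 112215 → P i := stepQ 112214 Q112214 (allL N112214 (tt N89571 (iv1 F492660)) (tt N116855 F502189) (tt N115107 (iv2 F493509)) (tt N90378 F480081) (tt N81159 F480082) (tt N114940 (iv5 F492658)) (tt N81134 (iv6 D215458)) (tt N115104 (iv7 F493498)))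
theorem Q112216 : ∀ i, i < 112216 → P i := stepQ 112215 Q112215 (allL N112215 (tt N81136 (iv1 F480087)) (tt N81135 (iv0 D215459)) (tt N81139 (iv2 F480083)) (tt N118678 (iv3 F511496)) (tt N106802 F480084) (tt N115533 (iv5 F495665)) (tt N106801 F480085) (tt N81137 F480086))
theorem Q112217 : ∀ i, i < 112217 → P i := stepQ 112216 Q112216 (allL N112216 (tt N81137 (iv1 F480093)) (tt N81139 F480094) (tt N81136 F480088) (tt N87979 F480089) (tt N88555 F480090) (tt N87978 F480091) (tt N93732 F480092) (tt N81135 (iv7 D215460)))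
theorem Q112218 : ∀ i, i < 112218 → P i := stepQ 112217 Q112217 (allL N112217 (tt N111382 (iv1 F480099)) (tt N101601 (iv0 F480100)) (tt N111380 F480095) (tt N81136 (iv3 D215461)) (tt N121124 (iv4 F524634)) (tt N108209 F480096) (tt N93302 F480097) (tt N111381 F480098))
theorem Q112219 : ∀ i, i < 112219 → P i := stepQ 112218 Q112218 (allL N112218 (tt N91768 F480105) (tt N115537 F495687) (tt N81138 F480101) (tt N108117 F480102) (tt N88060 F480103) (tt N81137 (iv5 D215462)) (tt N108116 F480104) (tt N115533 (iv7 F495666)))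
theorem Q112220 : ∀ i, i < 112220 → P i := stepQ 112219 Q112219 (allL N112219 (tt N115533 (iv1 F495668)) (tt N81138 (iv0 D215463)) (tt N91768 (iv2 F480109)) (tt N115566 (iv3 F495801)) (tt N91767 F480108) (tt N118390 (iv5 F510094)) (tt N122175 D225434) (tt N115537 (iv7 F495688)))
theorem Q112221 : ∀ i, i < 112221 → P i := stepQ 112220 Q112220 (allL N112220 (tt N81138 (iv1 D215464)) (tt N115533 (iv0 F495667)) (tt N115537 F495686) (tt N101599 (iv3 F480112)) (tt N84522 F480111) (tt N118389 (iv5 F510088)) (tt N111411 (iv6 F488608)) (tt N91768 F480110))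
theorem Q112222 : ∀ i, i < 112222 → P i := stepQ 112221 Q112221 (allL N112221 (tt N108222 F480118) (tt N108221 F480119) (tt N108116 F480113) (tt N81141 F480114) (tt N88064 F480115) (tt N107672 F480116) (tt N81138 (iv6 D215465)) (tt N108220 F480117))
theorem Q112223 : ∀ i, i < 112223 → P i := stepQ 112222 Q112222 (allL N112222 (tt N101598 F480122) (tt N118257 F509397) (tt N118188 (iv2 F509052)) (tt N81140 (iv3 D215466)) (tt N111986 F480120) (tt N81144 F480121) (tt N111985 (iv6 F480123)) (tt N118251 (iv7 F509376)))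
theorem Q112224 : ∀ i, i < 112224 → P i := stepQ 112223 Q112223 (allL N112223 (tt N119196 (iv1 F514312)) (tt N113904 (iv0 F487709)) (tt N120540 (iv2 F521341)) (tt N111985 F480124) (tt N81156 F480125) (tt N86171 (iv5 F480127)) (tt N81140 (iv6 D215467)) (tt N111985 (iv7 F480126)))
theorem Q112225 : ∀ i, i < 112225 → P i := stepQ 112224 Q112224 (allL N112224 (tt N108118 F480132) (tt N81141 (iv0 D215468)) (tt N108212 (iv2 F480130)) (tt N116690 (iv3 F501316)) (tt N121107 (iv4 F524549)) (tt N107768 F480128) (tt N101596 F480129) (tt N108213 (iv7 F480131)))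
theorem Q112226 : ∀ i, i < 112226 → P i := stepQ 112225 Q112225 (allL N112225 (tt N81141 (iv1 D215469)) (tt N108118 F480133) (tt N108213 F480136) (tt N115620 F496004) (tt N122093 (iv4 F530117)) (tt N107149 (iv5 F480135)) (tt N116766 (iv6 F501715)) (tt N108212 F480134))
theorem Q112227 : ∀ i, i < 112227 → P i := stepQ 112226 Q112226 (allL N112226 (tt N108213 (iv1 F480141)) (tt N108212 F480142) (tt N108118 F480137) (tt N108220 F480138) (tt N87207 F480139) (tt N93333 F480140) (tt N118734 (iv6 F511802)) (tt N81141 (iv7 D215470)))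
theorem Q112228 : ∀ i, i < 112228 → P i := stepQ 112227 Q112227 (allL N112227 (tt N100703 F480149) (tt N100700 F480148) (tt N100679 F480143) (tt N82468 F480144) (tt N95213 F480147) (tt N81143 (iv5 D215471)) (tt N100678 F480145) (tt N100704 F480146))
theorem Q112229 : ∀ i, i < 112229 → P i := stepQ 112228 Q112228 (allL N112228 (tt N104767 F492909) (tt N118245 (iv0 F509341)) (tt N118246 (iv2 F509342)) (tt N119164 F514141) (tt N86173 F480150) (tt N81145 (iv5 D215472)) (tt N86171 F480151) (tt N118241 (iv7 F509320)))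
theorem Q112230 : ∀ i, i < 112230 → P i := stepQ 112229 Q112229 (allL N112229 (tt N115561 (iv1 F495790)) (tt N115560 F495789) (tt N111570 F480152) (tt N86425 F480153) (tt N111696 F480154) (tt N86424 F480155) (tt N81149 (iv6 D215473)) (tt N88067 F480156))
theorem Q112231 : ∀ i, i < 112231 → P i := stepQ 112230 Q112230 (allL N112230 (tt N111986 (iv1 F480161)) (tt N81152 (iv0 D215474)) (tt N116022 (iv2 F498104)) (tt N115586 (iv3 F495872)) (tt N115589 (iv4 F495887)) (tt N115912 (iv5 F497554)) (tt N115585 F495871) (tt N122146 (iv7 F530424)))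
theorem Q112232 : ∀ i, i < 112232 → P i := stepQ 112231 Q112231 (allL N112231 (tt N81152 (iv1 D215475)) (tt N111986 F480157) (tt N122146 (iv2 F530428)) (tt N114183 (iv3 F488881)) (tt N115988 (iv4 F497925)) (tt N116027 F498124) (tt N122027 (iv6 F529722)) (tt N116022 (iv7 F498103)))
theorem Q112233 : ∀ i, i < 112233 → P i := stepQ 112232 Q112232 (allL N112232 (tt N122146 (iv1 F530423)) (tt N116022 (iv0 F509920)) (tt N111986 F480158) (tt N104678 F480159) (tt N118188 F509056) (tt N121044 (iv5 F524195)) (tt N111982 F480160) (tt N81152 (iv7 D215476)))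
theorem Q112234 : ∀ i, i < 112234 → P i := stepQ 112233 Q112233 (allL N112233 (tt N91866 F480162) (tt N112139 (iv0 F480164)) (tt N117674 F506353) (tt N116975 (iv3 F502779)) (tt N81153 (iv4 D215477)) (tt N110453 (iv5 F480163)) (tt N116090 F498412) (tt N117675 (iv7 F506356)))
theorem Q112235 : ∀ i, i < 112235 → P i := stepQ 112234 Q112234 (allL N112234 (tt N112243 F480200) (tt N112090 F480166) (tt N112245 F480207) (tt N110965 F480165) (tt N115953 (iv4 F497748)) (tt N81153 (iv5 D215478)) (tt N114184 (iv6 F488884)) (tt N112244 F480204))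
theorem Q112236 : ∀ i, i < 112236 → P i := stepQ 112235 Q112235 (allL N112235 (tt N112090 F480168) (tt N112243 (iv0 F480199)) (tt N112244 F480202) (tt N96816 F480167) (tt N115607 F495965) (tt N81154 (iv5 D215479)) (tt N114839 (iv6 F492130)) (tt N112245 (iv7 F480205)))
theorem Q112237 : ∀ i, i < 112237 → P i := stepQ 112236 Q112236 (allL N112236 (tt N111982 (iv1 F480170)) (tt N81156 (iv0 D215480)) (tt N111984 (iv2 F480171)) (tt N115655 (iv3 F496171)) (tt N118737 (iv4 F511812)) (tt N111442 F480169) (tt N119336 (iv6 F515091)) (tt N111983 (iv7 F480172)))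
theorem Q112238 : ∀ i, i < 112238 → P i := stepQ 112237 Q112237 (allL N112237 (tt N81156 (iv1 D215481)) (tt N111982 F480173) (tt N111983 (iv2 F480176)) (tt N114104 (iv3 F488574)) (tt N118736 (iv4 F511809)) (tt N111443 F480175) (tt N113832 (iv6 F487342)) (tt N111984 F480174))
theorem Q112239 : ∀ i, i < 112239 → P i := stepQ 112238 Q112238 (allL N112238 (tt N95353 F480179) (tt N113655 (iv0 F486507)) (tt N115551 (iv2 F495737)) (tt N81158 (iv3 D215482)) (tt N97129 (iv4 F480180)) (tt N101722 F480177) (tt N104049 F480181) (tt N111302 F480178))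
theorem Q112240 : ∀ i, i < 112240 → P i := stepQ 112239 Q112239 (allL N112239 (tt N120344 (iv1 F520294)) (tt N114852 (iv0 F492182)) (tt N111568 F480182) (tt N104049 F480183) (tt N122062 (iv4 F529934)) (tt N104048 F480184) (tt N81158 (iv6 D215483)) (tt N115656 (iv7 F496178)))
theorem Q112241 : ∀ i, i < 112241 → P i := stepQ 112240 Q112240 (allL N112240 (tt N116462 (iv1 F500262)) (tt N81159 (iv0 D215484)) (tt N115065 (iv2 F493312)) (tt N87377 (iv3 F480186)) (tt N87439 F480185) (tt N90654 (iv5 F480188)) (tt N115032 (iv6 F493124)) (tt N90653 (iv7 F480187)))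
theorem Q112242 : ∀ i, i < 112242 → P i := stepQ 112241 Q112241 (allL N112241 (tt N81159 (iv1 D215485)) (tt N116462 (iv0 F500261)) (tt N90653 F480190) (tt N115647 (iv3 F496126)) (tt N115066 (iv4 F493318)) (tt N86350 (iv5 F480189)) (tt N113910 (iv6 F487740)) (tt N115065 F493315))
theorem Q112243 : ∀ i, i < 112243 → P i := stepQ 112242 Q112242 (allL N112242 (tt N91510 F480196) (tt N107688 F480195) (tt N94993 F480191) (tt N107749 F480192) (tt N81160 (iv4 D215486)) (tt N116968 (iv5 F502752)) (tt N111061 F480193) (tt N107687 F480194))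
theorem Q112244 : ∀ i, i < 112244 → P i := stepQ 112243 Q112243 (allL N112243 (tt N112235 F480199) (tt N112234 (iv0 F480200)) (tt N81162 F480197) (tt N91991 F480198) (tt N122176 D225435) (tt N81161 (iv5 D215487)) (tt N115911 (iv6 F497552)) (tt N117653 (iv7 F506233)))
theorem Q112245 : ∀ i, i < 112245 → P i := stepQ 112244 Q112244 (allL N112244 (tt N117653 (iv1 F506236)) (tt N81162 (iv0 D215488)) (tt N112235 (iv2 F480202)) (tt N88072 F480201) (tt N114156 (iv4 F488785)) (tt N111976 (iv5 F480203)) (tt N114857 (iv6 F492199)) (tt N112234 (iv7 F480204)))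
theorem Q112246 : ∀ i, i < 112246 → P i := stepQ 112245 Q112245 (allL N112245 (tt N81162 (iv1 D215489)) (tt N117653 F506235) (tt N112234 (iv2 F480207)) (tt N88119 (iv3 F480208)) (tt N114157 (iv4 F488788)) (tt N111977 F480206) (tt N88116 F480209) (tt N112235 F480205))
theorem Q112247 : ∀ i, i < 112247 → P i := stepQ 112246 Q112246 (allL N112246 (tt N116027 (iv1 F498123)) (tt N115912 (iv0 F497555)) (tt N122176 (iv2 F530597)) (tt N113899 (iv3 F487690)) (tt N81162 (iv4 D215490)) (tt N113899 (iv5 F487692)) (tt N113825 F487312) (tt N122124 (iv7 F530312)))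
theorem Q112248 : ∀ i, i < 112248 → P i := stepQ 112247 Q112247 (allL N112247 (tt N114152 F488768) (tt N87322 (iv0 F487311)) (tt N115911 F497551) (tt N81163 F480211) (tt N113825 (iv4 F487309)) (tt N117106 (iv5 F503420)) (tt N81162 (iv6 D215491)) (tt N113824 F487306))
theorem Q112249 : ∀ i, i < 112249 → P i := stepQ 112248 Q112248 (allL N112248 (tt N90575 (iv1 F480215)) (tt N81168 (iv0 D215494)) (tt N116854 (iv2 F502180)) (tt N91661 (iv3 F480217)) (tt N89571 F480212) (tt N90960 F480213) (tt N111891 F480214) (tt N90959 F480216))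
theorem Q112250 : ∀ i, i < 112250 → P i := stepQ 112249 Q112249 (allL N112249 (tt N111571 F480223) (tt N81183 F480224) (tt N108160 F480218) (tt N111469 F480219) (tt N108138 F480220) (tt N81169 (iv5 D215495)) (tt N91764 F480221) (tt N87281 F480222))
theorem Q112251 : ∀ i, i < 112251 → P i := stepQ 112250 Q112250 (allL N112250 (tt N115938 F497683) (tt N118400 (iv0 F510151)) (tt N115913 (iv2 F497556)) (tt N81173 F480225) (tt N117050 (iv4 F503125)) (tt N111585 F480226) (tt N81172 (iv6 D215496)) (tt N117570 (iv7 F505760)))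
theorem Q112252 : ∀ i, i < 112252 → P i := stepQ 112251 Q112251 (allL N112251 (tt N121703 (iv1 F527851)) (tt N81173 (iv0 D215497)) (tt N115523 (iv2 F495622)) (tt N110976 (iv3 F480228)) (tt N121641 (iv4 F527490)) (tt N110975 F480227) (tt N122086 (iv6 F530075)) (tt N120052 (iv7 F518781)))
theorem Q112253 : ∀ i, i < 112253 → P i := stepQ 112252 Q112252 (allL N112252 (tt N81173 (iv1 D215498)) (tt N121703 (iv0 F527850)) (tt N120052 (iv2 F518778)) (tt N87385 F480230) (tt N121672 (iv4 F527655)) (tt N104885 (iv5 F480229)) (tt N120507 F521155) (tt N115523 (iv7 F495624)))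
theorem Q112254 : ∀ i, i < 112254 → P i := stepQ 112253 Q112253 (allL N112253 (tt N120052 F518784) (tt N115523 (iv0 F503476)) (tt N121703 (iv2 F527845)) (tt N117570 (iv3 F505758)) (tt N108097 F480231) (tt N90572 F480232) (tt N90575 F480233) (tt N81173 (iv7 D215499)))
theorem Q112255 : ∀ i, i < 112255 → P i := stepQ 112254 Q112254 (allL N112254 (tt N112652 (iv1 F482007)) (tt N112653 (iv0 F482011)) (tt N112659 (iv2 F482046)) (tt N81175 F480234) (tt N117680 (iv4 F506382)) (tt N81174 (iv5 D215500)) (tt N121711 F527902) (tt N95385 F480235))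
theorem Q112256 : ∀ i, i < 112256 → P i := stepQ 112255 Q112255 (allL N112255 (tt N95497 F480240) (tt N95496 F480241) (tt N81179 F480236) (tt N84183 F480237) (tt N81176 (iv4 D215501)) (tt N95514 F480238) (tt N116149 (iv6 F498754)) (tt N95456 F480239))
theorem Q112257 : ∀ i, i < 112257 → P i := stepQ 112256 Q112256 (allL N112256 (tt N86909 F480245) (tt N113672 (iv0 F486564)) (tt N81180 F480242) (tt N88058 F480243) (tt N116149 (iv4 F498755)) (tt N111078 F480244) (tt N81176 (iv6 D215502)) (tt N113681 (iv7 F486604)))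
theorem Q112258 : ∀ i, i < 112258 → P i := stepQ 112257 Q112257 (allL N112257 (tt N115878 (iv1 F497371)) (tt N111508 (iv0 F480248)) (tt N118905 (iv2 F512674)) (tt N81177 (iv3 D215503)) (tt N115877 (iv4 F497361)) (tt N95648 F480246) (tt N118882 (iv6 F512562)) (tt N95488 F480247))
theorem Q112259 : ∀ i, i < 112259 → P i := stepQ 112258 Q112258 (allL N112258 (tt N106814 F480252) (tt N118860 (iv0 F512447)) (tt N95493 F480249) (tt N122177 D225436) (tt N81177 (iv4 D215504)) (tt N106475 F480251) (tt N121652 F527553) (tt N95489 F480250))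
theorem Q112260 : ∀ i, i < 112260 → P i := stepQ 112259 Q112259 (allL N112259 (tt N122127 F530332) (tt N101588 (iv0 F480255)) (tt N95495 F480253) (tt N118882 F512566) (tt N121652 (iv4 F527555)) (tt N95424 F480254) (tt N81177 (iv6 D215505)) (tt N118895 (iv7 F512622)))
theorem Q112261 : ∀ i, i < 112261 → P i := stepQ 112260 Q112260 (allL N112260 (tt N114842 (iv1 F492144)) (tt N119235 (iv0 F514530)) (tt N118902 (iv2 F512658)) (tt N81178 (iv3 D215506)) (tt N117948 (iv4 F507742)) (tt N95590 F480256) (tt N118900 (iv6 F512653)) (tt N95492 F480257))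
theorem Q112262 : ∀ i, i < 112262 → P i := stepQ 112261 Q112261 (allL N112261 (tt N118860 (iv1 F512448)) (tt N106814 F480261) (tt N95489 F480258) (tt N118691 (iv3 F511563)) (tt N81178 (iv4 D215507)) (tt N106478 F480259) (tt N122077 (iv6 F530025)) (tt N95493 F480260))
theorem Q112263 : ∀ i, i < 112263 → P i := stepQ 112262 Q112262 (allL N112262 (tt N118864 F512473) (tt N87229 (iv0 F480264)) (tt N95491 F480262) (tt N118900 (iv3 F512649)) (tt N122077 (iv4 F530024)) (tt N95593 F480263) (tt N81178 (iv6 D215508)) (tt N118894 (iv7 F512617)))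
theorem Q112264 : ∀ i, i < 112264 → P i := stepQ 112263 Q112263 (allL N112263 (tt N81179 (iv1 D215509)) (tt N95456 F480265) (tt N95496 (iv2 F480269)) (tt N119338 (iv3 F515103)) (tt N95606 F480268) (tt N106485 F480267) (tt N101591 (iv6 F480270)) (tt N95497 F480266))
theorem Q112265 : ∀ i, i < 112265 → P i := stepQ 112264 Q112264 (allL N112264 (tt N94882 F480275) (tt N94676 (iv0 F480277)) (tt N94879 F480271) (tt N81179 (iv3 D215510)) (tt N81185 F480272) (tt N105361 F480273) (tt N96586 (iv6 F480276)) (tt N94880 F480274))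
theorem Q112266 : ∀ i, i < 112266 → P i := stepQ 112265 Q112265 (allL N112265 (tt N115704 (iv1 F496415)) (tt N122070 (iv0 F529984)) (tt N116149 (iv2 F498752)) (tt N96586 F480278) (tt N81180 F480279) (tt N113643 (iv5 F486463)) (tt N81179 (iv6 D215511)) (tt N116359 (iv7 F499704)))
theorem Q112267 : ∀ i, i < 112267 → P i := stepQ 112266 Q112266 (allL N112266 (tt N113681 (iv1 F486603)) (tt N81180 (iv0 D215512)) (tt N86909 (iv2 F480282)) (tt N115894 (iv3 F497456)) (tt N113650 (iv4 F486492)) (tt N86903 F480280) (tt N87227 F480281) (tt N113672 (iv7 F486561)))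
theorem Q112268 : ∀ i, i < 112268 → P i := stepQ 112267 Q112267 (allL N112267 (tt N113672 (iv1 F486563)) (tt N86909 (iv0 F480286)) (tt N113681 (iv2 F486607)) (tt N81189 F480283) (tt N116359 (iv4 F499703)) (tt N109740 F480284) (tt N95482 F480285) (tt N81180 (iv7 D215513)))
theorem Q112269 : ∀ i, i < 112269 → P i := stepQ 112268 Q112268 (allL N112268 (tt N115864 (iv1 F497300)) (tt N115846 (iv0 F497209)) (tt N121705 (iv2 F527863)) (tt N81182 F480287) (tt N108571 F480288) (tt N84542 F480289) (tt N81181 (iv6 D215514)) (tt N114207 (iv7 F488985)))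
theorem Q112270 : ∀ i, i < 112270 → P i := stepQ 112269 Q112269 (allL N112269 (tt N111576 (iv1 F480296)) (tt N81182 (iv0 D215515)) (tt N111574 F495892) (tt N114208 F488998) (tt N118257 (iv4 F509396)) (tt N114157 F488789) (tt N117585 (iv6 F505842)) (tt N111575 (iv7 F495891)))
theorem Q112271 : ∀ i, i < 112271 → P i := stepQ 112270 Q112270 (allL N112270 (tt N81182 (iv1 D215516)) (tt N111576 F480290) (tt N111575 (iv2 F495890)) (tt N101588 (iv3 F480291)) (tt N101598 (iv4 F480292)) (tt N114156 (iv5 F488786)) (tt N101587 F480293) (tt N111574 F495893))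
theorem Q112272 : ∀ i, i < 112272 → P i := stepQ 112271 Q112271 (allL N112271 (tt N111575 (iv1 F480297)) (tt N111574 F480298) (tt N111576 F480294) (tt N114207 (iv3 F488984)) (tt N116038 (iv4 F498178)) (tt N111507 F480295) (tt N113905 F487713) (tt N81182 (iv7 D215517)))
theorem Q112273 : ∀ i, i < 112273 → P i := stepQ 112272 Q112272 (allL N112272 (tt N113905 (iv1 F487710)) (tt N81184 (iv0 D215518)) (tt N111501 (iv2 F480299)) (tt N118864 (iv3 F512468)) (tt N119196 (iv4 F514307)) (tt N112822 (iv5 F482792)) (tt N121678 (iv6 F527692)) (tt N87267 F480300))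
theorem Q112274 : ∀ i, i < 112274 → P i := stepQ 112273 Q112273 (allL N112273 (tt N87267 (iv1 F480305)) (tt N111501 F480306) (tt N113905 (iv2 F487714)) (tt N87307 F480301) (tt N94901 F480302) (tt N91871 F480303) (tt N111576 F480304) (tt N81184 (iv7 D215519)))
theorem Q112275 : ∀ i, i < 112275 → P i := stepQ 112274 Q112274 (allL N112274 (tt N108117 (iv1 F480308)) (tt N81185 (iv0 D215520)) (tt N108217 (iv2 F480307)) (tt N111411 F488606) (tt N118695 (iv4 F511587)) (tt N118276 (iv5 F509477)) (tt N101599 (iv6 F480310)) (tt N108216 F480309))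
theorem Q112276 : ∀ i, i < 112276 → P i := stepQ 112275 Q112275 (allL N112275 (tt N118734 (iv1 F511804)) (tt N81186 (iv0 D215521)) (tt N118704 (iv2 F511634)) (tt N118220 (iv3 F509223)) (tt N113656 (iv4 F486509)) (tt N107733 F480311) (tt N113902 F487700) (tt N118726 (iv7 F511767)))
theorem Q112277 : ∀ i, i < 112277 → P i := stepQ 112276 Q112276 (allL N112276 (tt N81186 (iv1 D215522)) (tt N118734 F511805) (tt N118726 (iv2 F511763)) (tt N101596 (iv3 F480313)) (tt N113657 F486513) (tt N111047 F480312) (tt N116690 (iv6 F501317)) (tt N118704 (iv7 F511637)))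
theorem Q112278 : ∀ i, i < 112278 → P i := stepQ 112277 Q112277 (allL N112277 (tt N106700 (iv1 F480319)) (tt N117585 (iv0 F505844)) (tt N97138 F480314) (tt N91441 F480315) (tt N100555 F480316) (tt N90657 F480317) (tt N81188 (iv6 D215523)) (tt N91433 F480318))
theorem Q112279 : ∀ i, i < 112279 → P i := stepQ 112278 Q112278 (allL N112278 (tt N115954 (iv1 F497753)) (tt N115879 (iv0 F497375)) (tt N87207 F480320) (tt N95482 F480321) (tt N108118 F480322) (tt N87205 F480323) (tt N81189 (iv6 D215524)) (tt N81190 F480324))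
theorem Q112280 : ∀ i, i < 112280 → P i := stepQ 112279 Q112279 (allL N112279 (tt N87207 (iv1 F480326)) (tt N81190 (iv0 D215525)) (tt N115879 (iv2 F497372)) (tt N111769 (iv3 F480327)) (tt N112307 (iv4 F480466)) (tt N111768 F480325) (tt N120352 (iv6 F520332)) (tt N115954 (iv7 F497754)))
theorem Q112281 : ∀ i, i < 112281 → P i := stepQ 112280 Q112280 (allL N112280 (tt N81190 (iv1 D215526)) (tt N87207 F480328) (tt N115954 (iv2 F497758)) (tt N87279 F480329) (tt N112308 (iv4 F480470)) (tt N113913 (iv5 F487758)) (tt N115902 (iv6 F497497)) (tt N115879 (iv7 F497374)))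
theorem Q112282 : ∀ i, i < 112282 → P i := stepQ 112281 Q112281 (allL N112281 (tt N81191 (iv1 D215527)) (tt N105407 F480330) (tt N82976 F480336) (tt N88897 (iv3 F480333)) (tt N90407 (iv4 F480334)) (tt N89665 F480332) (tt N86288 (iv6 F480335)) (tt N105586 F480331))
theorem Q112283 : ∀ i, i < 112283 → P i := stepQ 112282 Q112282 (allL N112282 (tt N84072 F480342) (tt N84070 F480343) (tt N82275 F480337) (tt N94557 F480338) (tt N81199 (iv4 D215528)) (tt N88799 F480339) (tt N85402 F480340) (tt N85931 F480341))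
theorem Q112284 : ∀ i, i < 112284 → P i := stepQ 112283 Q112283 (allL N112283 (tt N82826 F480347) (tt N110058 F480348) (tt N100963 F480344) (tt N89402 F480345) (tt N116173 (iv4 F498864)) (tt N81205 (iv5 D215529)) (tt N114971 (iv6 F492839)) (tt N110060 F480346))
theorem Q112285 : ∀ i, i < 112285 → P i := stepQ 112284 Q112284 (allL N112284 (tt N81209 (iv1 F480353)) (tt N81206 (iv0 D215530)) (tt N81756 (iv2 F480352)) (tt N92685 F480351) (tt N90504 F480350) (tt N81755 F480349) (tt N118130 (iv6 F508761)) (tt N81753 F480354))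
theorem Q112286 : ∀ i, i < 112286 → P i := stepQ 112285 Q112285 (allL N112285 (tt N111886 F480360) (tt N91708 F480361) (tt N101742 F480355) (tt N101098 F480356) (tt N90592 F480359) (tt N81208 (iv5 D215531)) (tt N90489 F480357) (tt N101102 F480358))
theorem Q112287 : ∀ i, i < 112287 → P i := stepQ 112286 Q112286 (allL N112286 (tt N111136 F480363) (tt N111135 F480364) (tt N96886 F480362) (tt N117323 F504460) (tt N116935 (iv4 F502580)) (tt N81222 (iv5 D215532)) (tt N118834 (iv6 F512320)) (tt N119247 (iv7 F514608)))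
theorem Q112288 : ∀ i, i < 112288 → P i := stepQ 112287 Q112287 (allL N112287 (tt N101673 (iv1 F480370)) (tt N101672 F480369) (tt N81223 (iv2 D215533)) (tt N101128 F480365) (tt N111094 F480371) (tt N101127 F480366) (tt N111093 F480367) (tt N112140 F480368))
theorem Q112289 : ∀ i, i < 112289 → P i := stepQ 112288 Q112288 (allL N112288 (tt N100688 (iv1 F480377)) (tt N95768 F480376) (tt N111094 F480372) (tt N100341 F480373) (tt N81223 (iv4 D215534)) (tt N119376 (iv5 F515295)) (tt N96491 F480374) (tt N102788 F480375))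
theorem Q112290 : ∀ i, i < 112290 → P i := stepQ 112289 Q112289 (allL N112289 (tt N81228 (iv1 F480383)) (tt N81226 F480381) (tt N81224 (iv2 D215535)) (tt N118941 F512873) (tt N102120 F480382) (tt N101131 F480378) (tt N101507 F480379) (tt N81225 F480380))
theorem Q112291 : ∀ i, i < 112291 → P i := stepQ 112290 Q112290 (allL N112290 (tt N95817 F480388) (tt N97770 F480389) (tt N102120 F480384) (tt N111591 F480385) (tt N81224 (iv4 D215536)) (tt N97596 F480386) (tt N112534 (iv6 F481547)) (tt N102089 F480387))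
theorem Q112292 : ∀ i, i < 112292 → P i := stepQ 112291 Q112291 (allL N112291 (tt N93844 F480392) (tt N112494 (iv0 F481345)) (tt N112292 (iv2 F480393)) (tt N81225 (iv3 D215537)) (tt N102137 F480390) (tt N81812 F480391) (tt N118696 (iv6 F511595)) (tt N118941 (iv7 F512870)))
theorem Q112293 : ∀ i, i < 112293 → P i := stepQ 112292 Q112292 (allL N112292 (tt N112495 (iv1 F481353)) (tt N95583 (iv0 F480398)) (tt N112291 F480393) (tt N81229 (iv3 D215538)) (tt N111579 F480394) (tt N101902 F480395) (tt N107686 F480396) (tt N112135 F480397))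
theorem Q112294 : ∀ i, i < 112294 → P i := stepQ 112293 Q112293 (allL N112293 (tt N112153 F480401) (tt N112154 (iv0 F480402)) (tt N112429 (iv2 F481054)) (tt N103455 F480399) (tt N86872 F480400) (tt N112719 (iv5 F482338)) (tt N81232 (iv6 D215539)) (tt N120571 (iv7 F521514)))
theorem Q112295 : ∀ i, i < 112295 → P i := stepQ 112294 Q112294 (allL N112294 (tt N118360 (iv1 F509912)) (tt N81260 F480407) (tt N111133 F480403) (tt N108301 F480404) (tt N112088 F480405) (tt N81233 (iv5 D215540)) (tt N112719 F482343) (tt N108299 F480406))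
theorem Q112296 : ∀ i, i < 112296 → P i := stepQ 112295 Q112295 (allL N112295 (tt N101683 (iv1 F480412)) (tt N82236 F480413) (tt N97698 F480408) (tt N118426 (iv3 F510286)) (tt N110929 F480409) (tt N97695 F480410) (tt N81455 F480411) (tt N81238 (iv7 D215541)))
theorem Q112297 : ∀ i, i < 112297 → P i := stepQ 112296 Q112296 (allL N112296 (tt N112720 F482350) (tt N120572 F521521) (tt N112179 F480414) (tt N93409 F480415) (tt N110572 F480416) (tt N117477 (iv5 F505230)) (tt N81243 (iv6 D215542)) (tt N119232 (iv7 F514509)))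
theorem Q112298 : ∀ i, i < 112298 → P i := stepQ 112297 Q112297 (allL N112297 (tt N89484 (iv1 F480419)) (tt N81244 (iv0 D215543)) (tt N112171 (iv2 F480420)) (tt N116954 (iv3 F502680)) (tt N89463 F480418) (tt N89433 F480417) (tt N115029 (iv6 F493118)) (tt N112173 (iv7 F480421)))
theorem Q112299 : ∀ i, i < 112299 → P i := stepQ 112298 Q112298 (allL N112298 (tt N81244 (iv1 D215544)) (tt N89484 F480422) (tt N112173 (iv2 F480426)) (tt N97030 (iv3 F480427)) (tt N89441 F480425) (tt N89457 F480424) (tt N110454 F480428) (tt N112171 F480423))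
theorem Q112300 : ∀ i, i < 112300 → P i := stepQ 112299 Q112299 (allL N112299 (tt N81253 F480434) (tt N112207 F480435) (tt N97699 F480429) (tt N93649 F480430) (tt N81248 (iv4 D215545)) (tt N94594 F480431) (tt N81490 F480432) (tt N95862 F480433))
theorem Q112301 : ∀ i, i < 112301 → P i := stepQ 112300 Q112300 (allL N112300 (tt N112204 (iv1 F480437)) (tt N81249 (iv0 D215546)) (tt N112203 (iv2 F480443)) (tt N118807 (iv3 F512176)) (tt N115903 (iv4 F497501)) (tt N115590 (iv5 F495895)) (tt N108300 F480436) (tt N112202 F480444))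
theorem Q112302 : ∀ i, i < 112302 → P i := stepQ 112301 Q112301 (allL N112301 (tt N81249 (iv1 D215547)) (tt N112204 F480438) (tt N112202 F480442) (tt N115991 (iv3 F497937)) (tt N111585 F480439) (tt N87996 (iv5 F480446)) (tt N111584 (iv6 F480440)) (tt N112203 (iv7 F480441)))
theorem Q112303 : ∀ i, i < 112303 → P i := stepQ 112302 Q112302 (allL N112302 (tt N121656 (iv1 F527572)) (tt N115994 (iv0 F497953)) (tt N114799 (iv2 F491933)) (tt N81250 F480447) (tt N108623 (iv4 F480449)) (tt N81249 (iv5 D215548)) (tt N114793 (iv6 F491897)) (tt N112205 F480448))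
theorem Q112304 : ∀ i, i < 112304 → P i := stepQ 112303 Q112303 (allL N112303 (tt N121069 (iv1 F524352)) (tt N120503 (iv0 F521131)) (tt N112200 F480450) (tt N114793 (iv3 F491896)) (tt N112093 F480451) (tt N114792 (iv5 F491891)) (tt N81250 (iv6 D215549)) (tt N121638 (iv7 F527476)))
theorem Q112305 : ∀ i, i < 112305 → P i := stepQ 112304 Q112304 (allL N112304 (tt N112198 (iv1 F480455)) (tt N81251 (iv0 D215550)) (tt N112197 (iv2 F480454)) (tt N93234 F480453) (tt N119687 (iv4 F516918)) (tt N108855 F480452) (tt N118782 (iv6 F512036)) (tt N93845 F480456))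
theorem Q112306 : ∀ i, i < 112306 → P i := stepQ 112305 Q112305 (allL N112305 (tt N121600 F527264) (tt N118807 (iv0 F512179)) (tt N121612 (iv2 F527330)) (tt N81254 (iv3 D215551)) (tt N87904 F480457) (tt N87432 F480458) (tt N96115 F480459) (tt N109633 F480460))
theorem Q112307 : ∀ i, i < 112307 → P i := stepQ 112306 Q112306 (allL N112306 (tt N87971 (iv1 F480464)) (tt N81256 (iv0 D215552)) (tt N88231 (iv2 F480463)) (tt N118176 (iv3 F509016)) (tt N87420 F480462) (tt N99629 F480461) (tt N113571 (iv6 F486076)) (tt N99628 F480465))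
theorem Q112308 : ∀ i, i < 112308 → P i := stepQ 112307 Q112307 (allL N112307 (tt N116996 (iv1 F502884)) (tt N81258 (iv0 D215553)) (tt N121654 (iv2 F527566)) (tt N84526 F480467) (tt N112279 F480466) (tt N90223 (iv5 F480468)) (tt N122040 (iv6 F529793)) (tt N90329 (iv7 F480469)))
theorem Q112309 : ∀ i, i < 112309 → P i := stepQ 112308 Q112308 (allL N112308 (tt N81258 (iv1 D215554)) (tt N116996 (iv0 F502885)) (tt N90329 F480473) (tt N111419 (iv3 F480471)) (tt N112280 F480470) (tt N90328 (iv5 F480472)) (tt N116771 (iv6 F501738)) (tt N121654 (iv7 F527561)))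
theorem Q112310 : ∀ i, i < 112310 → P i := stepQ 112309 Q112309 (allL N112309 (tt N121851 (iv1 F528697)) (tt N81813 (iv0 F480478)) (tt N103144 F480474) (tt N81283 F480475) (tt N117784 (iv4 F506957)) (tt N97079 F480476) (tt N81273 (iv6 D215555)) (tt N90472 F480477))
theorem Q112311 : ∀ i, i < 112311 → P i := stepQ 112310 Q112310 (allL N112310 (tt N81278 (iv1 D215556)) (tt N102786 F480479) (tt N102785 F480484) (tt N91327 (iv3 F480483)) (tt N102852 F480482) (tt N106099 F480481) (tt N91326 F480485) (tt N102773 F480480))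
theorem Q112312 : ∀ i, i < 112312 → P i := stepQ 112311 Q112311 (allL N112311 (tt N101720 (iv1 F480488)) (tt N81281 (iv0 D215557)) (tt N112136 (iv2 F480489)) (tt N118814 (iv3 F512212)) (tt N100380 F480487) (tt N100371 F480486) (tt N101901 (iv6 F480490)) (tt N112654 (iv7 F482017)))
theorem Q112313 : ∀ i, i < 112313 → P i := stepQ 112312 Q112312 (allL N112312 (tt N81281 (iv1 D215558)) (tt N101720 F480491) (tt N112654 F482015) (tt N82511 (iv3 F480495)) (tt N100379 F480494) (tt N100373 F480493) (tt N82510 (iv6 F480496)) (tt N112136 F480492))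
theorem Q112314 : ∀ i, i < 112314 → P i := stepQ 112313 Q112313 (allL N112313 (tt N118647 (iv1 F511328)) (tt N113032 (iv0 F483637)) (tt N81322 F480497) (tt N82564 F480498) (tt N113881 (iv4 F487603)) (tt N104848 F480499) (tt N81287 (iv6 D215559)) (tt N114453 (iv7 F490247)))
theorem Q112315 : ∀ i, i < 112315 → P i := stepQ 112314 Q112314 (allL N112314 (tt N81324 (iv1 D215560)) (tt N83836 F480500) (tt N91023 F480505) (tt N83090 (iv3 F480503)) (tt N109016 F480502) (tt N83087 F480501) (tt N111281 (iv6 F480504)) (tt N114008 (iv7 F488176)))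
theorem Q112316 : ∀ i, i < 112316 → P i := stepQ 112315 Q112315 (allL N112315 (tt N118015 (iv1 F508094)) (tt N107123 (iv0 F480509)) (tt N118016 (iv2 F508101)) (tt N81325 (iv3 D215561)) (tt N96232 F480506) (tt N104864 F480507) (tt N91175 F480508) (tt N118014 (iv7 F508091)))
theorem Q112317 : ∀ i, i < 112317 → P i := stepQ 112316 Q112316 (allL N112316 (tt N107958 F480514) (tt N117087 (iv0 F503311)) (tt N110754 F480510) (tt N96193 F480511) (tt N82088 F480512) (tt N119067 (iv5 F513602)) (tt N81356 (iv6 D215562)) (tt N107944 F480513))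
theorem Q112318 : ∀ i, i < 112318 → P i := stepQ 112317 Q112317 (allL N112317 (tt N90851 F480519) (tt N90850 F480520) (tt N84377 F480516) (tt N90856 F480517) (tt N121959 (iv4 F529303)) (tt N81357 (iv5 D215563)) (tt N116533 (iv6 F500648)) (tt N90852 F480518))
theorem Q112319 : ∀ i, i < 112319 → P i := stepQ 112318 Q112318 (allL N112318 (tt N111673 F480526) (tt N105872 (iv0 F480527)) (tt N111672 F480521) (tt N81361 (iv3 D215564)) (tt N96044 F480522) (tt N102079 F480523) (tt N86942 F480524) (tt N103322 F480525))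
theorem Q112320 : ∀ i, i < 112320 → P i := stepQ 112319 Q112319 (allL N112319 (tt N116438 (iv1 F500114)) (tt N90884 (iv0 F480532)) (tt N110363 F480528) (tt N91154 F480529) (tt N91161 F480530) (tt N89841 F480531) (tt N81371 (iv6 D215565)) (tt N116923 (iv7 F502518)))
theorem Q112321 : ∀ i, i < 112321 → P i := stepQ 112320 Q112320 (allL N112320 (tt N101163 (iv1 F480538)) (tt N82541 (iv0 F480537)) (tt N101436 F480536) (tt N81372 (iv3 D215566)) (tt N121980 (iv4 F529433)) (tt N104147 F480534) (tt N116103 (iv6 F498470)) (tt N101435 F480535))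
theorem Q112322 : ∀ i, i < 112322 → P i := stepQ 112321 Q112321 (allL N112321 (tt N90855 F480542) (tt N90854 F480543) (tt N88414 F480539) (tt N90852 F480544) (tt N81372 (iv4 D215567)) (tt N116151 (iv5 F498765)) (tt N100276 F480540) (tt N90856 F480541))
theorem Q112323 : ∀ i, i < 112323 → P i := stepQ 112322 Q112322 (allL N112322 (tt N110232 F480548) (tt N106614 (iv0 F480549)) (tt N89643 (iv2 F480550)) (tt N81373 (iv3 D215568)) (tt N83877 F480545) (tt N110090 F480546) (tt N117213 (iv6 F503935)) (tt N89349 F480547))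
theorem Q112324 : ∀ i, i < 112324 → P i := stepQ 112323 Q112323 (allL N112323 (tt N110407 F480554) (tt N83398 (iv0 F480553)) (tt N110364 F480551) (tt N117213 (iv3 F503933)) (tt N90858 F480552) (tt N121830 (iv5 F528576)) (tt N81373 (iv6 D215569)) (tt N113474 (iv7 F485658)))
theorem Q112325 : ∀ i, i < 112325 → P i := stepQ 112324 Q112324 (allL N112324 (tt N81380 (iv1 F480557)) (tt N81376 (iv0 D215570)) (tt N89467 F480559) (tt N121545 (iv3 F526960)) (tt N89010 F480556) (tt N112065 F480555) (tt N85479 (iv6 F480558)) (tt N90607 F480560))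
theorem Q112326 : ∀ i, i < 112326 → P i := stepQ 112325 Q112325 (allL N112325 (tt N81376 (iv1 D215571)) (tt N81380 F480561) (tt N90607 (iv2 F480565)) (tt N105309 F480567) (tt N89468 F480564) (tt N105489 F480563) (tt N90833 (iv6 F480566)) (tt N89467 F480562))
theorem Q112327 : ∀ i, i < 112327 → P i := stepQ 112326 Q112326 (allL N112326 (tt N116807 (iv1 F501946)) (tt N107201 F480573) (tt N90610 F480568) (tt N106599 F480569) (tt N81377 F480570) (tt N107320 (iv5 F480572)) (tt N81376 (iv6 D215572)) (tt N106586 F480571))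
theorem Q112328 : ∀ i, i < 112328 → P i := stepQ 112327 Q112327 (allL N112327 (tt N81386 F480578) (tt N89889 F480579) (tt N89891 F480574) (tt N101163 F480575) (tt N112582 (iv4 F481719)) (tt N81378 (iv5 D215573)) (tt N106575 F480576) (tt N84048 F480577))
theorem Q112329 : ∀ i, i < 112329 → P i := stepQ 112328 Q112328 (allL N112328 (tt N90833 F480585) (tt N90808 (iv0 F480586)) (tt N90835 F480580) (tt N81381 F480581) (tt N85488 F480582) (tt N101369 F480583) (tt N81379 (iv6 D215574)) (tt N85487 F480584))
theorem Q112330 : ∀ i, i < 112330 → P i := stepQ 112329 Q112329 (allL N112329 (tt N90138 (iv1 F480592)) (tt N81381 (iv0 D215575)) (tt N90140 (iv2 F480590)) (tt N116438 (iv3 F500110)) (tt N110542 F480588) (tt N89112 F480587) (tt N90814 F480589) (tt N84739 F480591))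
theorem Q112331 : ∀ i, i < 112331 → P i := stepQ 112330 Q112330 (allL N112330 (tt N84739 (iv1 F480598)) (tt N90140 F480599) (tt N90138 F480593) (tt N85487 F480594) (tt N90788 F480595) (tt N91704 F480596) (tt N85489 F480597) (tt N81381 (iv7 D215576)))
theorem Q112332 : ∀ i, i < 112332 → P i := stepQ 112331 Q112331 (allL N112331 (tt N106015 F480603) (tt N105329 F480604) (tt N106589 (iv2 F480605)) (tt N81383 (iv3 D215577)) (tt N109515 F480600) (tt N106853 F480601) (tt N119912 (iv6 F517999)) (tt N90623 F480602))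
theorem Q112333 : ∀ i, i < 112333 → P i := stepQ 112332 Q112332 (allL N112332 (tt N122178 D225437) (tt N121163 (iv0 F524878)) (tt N90619 F480606) (tt N119912 (iv3 F517998)) (tt N81385 F480607) (tt N114383 (iv5 F489901)) (tt N81383 (iv6 D215578)) (tt N122179 D225438))
theorem Q112334 : ∀ i, i < 112334 → P i := stepQ 112333 Q112333 (allL N112333 (tt N87687 F480613) (tt N81385 (iv0 D215579)) (tt N83038 (iv2 F480611)) (tt N83420 F480608) (tt N83059 (iv4 F480612)) (tt N105167 F480609) (tt N84218 F480610) (tt N90620 (iv7 F480614)))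
theorem Q112335 : ∀ i, i < 112335 → P i := stepQ 112334 Q112334 (allL N112334 (tt N81385 (iv1 D215580)) (tt N87687 F480615) (tt N90620 F480619) (tt N83040 (iv3 F480621)) (tt N82703 F480620) (tt N103363 (iv5 F480618)) (tt N85482 (iv6 F480617)) (tt N83038 F480616))
theorem Q112336 : ∀ i, i < 112336 → P i := stepQ 112335 Q112335 (allL N112335 (tt N90620 (iv1 F480626)) (tt N83038 F480627) (tt N87687 F480622) (tt N106589 F480623) (tt N122179 (iv4 F530617)) (tt N84028 F480624) (tt N90626 F480625) (tt N81385 (iv7 D215581)))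
theorem Q112337 : ∀ i, i < 112337 → P i := stepQ 112336 Q112336 (allL N112336 (tt N84048 (iv1 F480632)) (tt N89891 F480631) (tt N81386 (iv2 D215582)) (tt N90025 F480628) (tt N90626 (iv4 F480633)) (tt N88480 F480629) (tt N122179 (iv6 F530619)) (tt N89889 F480630))
theorem Q112338 : ∀ i, i < 112338 → P i := stepQ 112337 Q112337 (allL N112337 (tt N90625 F480637) (tt N83396 F480638) (tt N90626 F480634) (tt N90619 F480635) (tt N81386 (iv4 D215583)) (tt N113893 (iv5 F487667)) (tt N87687 (iv6 F480639)) (tt N81388 F480636))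
theorem Q112339 : ∀ i, i < 112339 → P i := stepQ 112338 Q112338 (allL N112338 (tt N121163 (iv1 F524879)) (tt N122178 F530614) (tt N122179 (iv2 F530615)) (tt N81388 F480640) (tt N87687 F480641) (tt N113889 (iv5 F487648)) (tt N81386 (iv6 D215584)) (tt N90619 F480642))
theorem Q112340 : ∀ i, i < 112340 → P i := stepQ 112339 Q112339 (allL N112339 (tt N83059 F480647) (tt N82703 (iv0 F480646)) (tt N83058 F480643) (tt N113176 (iv3 F484332)) (tt N88613 F480644) (tt N113816 (iv5 F487257)) (tt N81389 (iv6 D215585)) (tt N83057 (iv7 F483462)))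
theorem Q112341 : ∀ i, i < 112341 → P i := stepQ 112340 Q112340 (allL N112340 (tt N122180 D225439) (tt N122004 (iv0 F529585)) (tt N113179 (iv2 F484350)) (tt N81390 (iv3 D215586)) (tt N81922 F480648) (tt N113799 F487156) (tt N110405 F480649) (tt N90627 F480650))
theorem Q112342 : ∀ i, i < 112342 → P i := stepQ 112341 Q112341 (allL N112341 (tt N81410 (iv1 F480654)) (tt N81391 (iv0 D215587)) (tt N90633 (iv2 F480653)) (tt N105099 (iv3 F480656)) (tt N81401 F480652) (tt N81396 F480651) (tt N107010 (iv6 F480657)) (tt N90634 F480655))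
theorem Q112343 : ∀ i, i < 112343 → P i := stepQ 112342 Q112342 (allL N112342 (tt N105087 F480663) (tt N85968 (iv0 F480664)) (tt N90635 F480658) (tt N103244 F480659) (tt N84970 F480660) (tt N84727 F480661) (tt N81391 (iv6 D215588)) (tt N91793 F480662))
theorem Q112344 : ∀ i, i < 112344 → P i := stepQ 112343 Q112343 (allL N112343 (tt N90800 (iv1 F480668)) (tt N90799 F480669) (tt N90601 F480665) (tt N114826 (iv3 F492082)) (tt N81393 F480666) (tt N113218 (iv5 F484538)) (tt N81392 (iv6 D215589)) (tt N88417 F480667))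
theorem Q112345 : ∀ i, i < 112345 → P i := stepQ 112344 Q112344 (allL N112344 (tt N89359 (iv1 F480676)) (tt N89358 (iv0 F480675)) (tt N88616 F480670) (tt N106338 F480671) (tt N89101 F480672) (tt N88634 F480673) (tt N81394 (iv6 D215590)) (tt N84376 F480674))
theorem Q112346 : ∀ i, i < 112346 → P i := stepQ 112345 Q112345 (allL N112345 (tt N113718 F486812) (tt N91141 F486813) (tt N114019 F488227) (tt N117218 (iv3 F503959)) (tt N121508 (iv4 F526759)) (tt N115880 (iv5 F497380)) (tt N89812 F480677) (tt N81397 (iv7 D215591)))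
theorem Q112347 : ∀ i, i < 112347 → P i := stepQ 112346 Q112346 (allL N112346 (tt N109889 F480681) (tt N116521 (iv0 F500596)) (tt N107017 F480678) (tt N81399 (iv3 D215592)) (tt N81907 F480679) (tt N107012 F480680) (tt N117276 (iv6 F504238)) (tt N117380 (iv7 F504748)))
theorem Q112348 : ∀ i, i < 112348 → P i := stepQ 112347 Q112347 (allL N112347 (tt N110542 (iv1 F480686)) (tt N90139 (iv0 F480685)) (tt N100270 F480682) (tt N117276 (iv3 F504237)) (tt N81400 F480683) (tt N100269 F480684) (tt N81399 (iv6 D215593)) (tt N117083 (iv7 F503290)))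
theorem Q112349 : ∀ i, i < 112349 → P i := stepQ 112348 Q112348 (allL N112348 (tt N84741 (iv1 F480690)) (tt N89813 F480691) (tt N89812 F480687) (tt N81912 F480688) (tt N117083 (iv4 F503288)) (tt N107418 F480689) (tt N114019 (iv6 F488226)) (tt N81400 (iv7 D215594)))
theorem Q112350 : ∀ i, i < 112350 → P i := stepQ 112349 Q112349 (allL N112349 (tt N85966 F480696) (tt N114055 F488382) (tt N114054 (iv2 F488376)) (tt N106535 F480692) (tt N107010 F480693) (tt N96624 F480694) (tt N81401 (iv6 D215595)) (tt N85960 F480695))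
theorem Q112351 : ∀ i, i < 112351 → P i := stepQ 112350 Q112350 (allL N112350 (tt N89291 F480700) (tt N91005 F480701) (tt N88628 F480697) (tt N120526 (iv3 F521258)) (tt N121419 (iv4 F526253)) (tt N88564 F480698) (tt N81415 (iv6 D215596)) (tt N90987 F480699))
theorem Q112352 : ∀ i, i < 112352 → P i := stepQ 112351 Q112351 (allL N112351 (tt N117100 (iv1 F503387)) (tt N107491 F480705) (tt N90483 F480702) (tt N116665 F501209) (tt N89234 F480704) (tt N81419 (iv5 D215597)) (tt N119210 (iv6 F514379)) (tt N90486 F480703))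
theorem Q112353 : ∀ i, i < 112353 → P i := stepQ 112352 Q112352 (allL N112352 (tt N107491 F480710) (tt N117100 (iv0 F503386)) (tt N90486 F480706) (tt N107411 F480707) (tt N89224 F480708) (tt N81421 (iv5 D215598)) (tt N107408 (iv6 F480711)) (tt N90483 F480709))
theorem Q112354 : ∀ i, i < 112354 → P i := stepQ 112353 Q112353 (allL N112353 (tt N116494 F500433) (tt N116490 (iv0 F500418)) (tt N116493 F500428) (tt N81422 (iv3 D215599)) (tt N119078 (iv4 F513668)) (tt N121620 (iv5 F527372)) (tt N113745 F486929) (tt N90490 F480712))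
theorem Q112355 : ∀ i, i < 112355 → P i := stepQ 112354 Q112354 (allL N112354 (tt N117079 (iv1 F503272)) (tt N110902 F480717) (tt N90489 F480713) (tt N121620 F527374) (tt N89228 F480714) (tt N81422 (iv5 D215600)) (tt N101742 F480715) (tt N90491 F480716))
theorem Q112356 : ∀ i, i < 112356 → P i := stepQ 112355 Q112355 (allL N112355 (tt N121140 (iv1 F524738)) (tt N81432 (iv0 D215601)) (tt N86332 (iv2 F480720)) (tt N105369 F480718) (tt N120545 (iv4 F521369)) (tt N107280 F480719) (tt N86330 (iv6 F480721)) (tt N118648 (iv7 F511333)))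
theorem Q112357 : ∀ i, i < 112357 → P i := stepQ 112356 Q112356 (allL N112356 (tt N81432 (iv1 D215602)) (tt N121140 F524739) (tt N118648 (iv2 F511329)) (tt N85402 (iv3 F480723)) (tt N120543 (iv4 F521360)) (tt N85400 (iv5 F480725)) (tt N94557 (iv6 F480724)) (tt N86332 F480722))
theorem Q112358 : ∀ i, i < 112358 → P i := stepQ 112357 Q112357 (allL N112357 (tt N112660 (iv1 F482053)) (tt N112662 F482065) (tt N112378 (iv2 F480810)) (tt N119544 (iv3 F516164)) (tt N118293 (iv4 F509564)) (tt N81439 (iv5 D215603)) (tt N104960 F480726) (tt N112661 (iv7 F482058)))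
theorem Q112359 : ∀ i, i < 112359 → P i := stepQ 112358 Q112358 (allL N112358 (tt N100292 F480730) (tt N98145 F480731) (tt N108789 F480727) (tt N92657 F480728) (tt N119395 (iv4 F515398)) (tt N81442 (iv5 D215604)) (tt N115223 F494095) (tt N109242 F480729))
theorem Q112360 : ∀ i, i < 112360 → P i := stepQ 112359 Q112359 (allL N112359 (tt N115317 (iv1 F494556)) (tt N86501 F480733) (tt N115319 (iv2 F494566)) (tt N119646 (iv3 F516687)) (tt N81443 (iv4 D215605)) (tt N119391 (iv5 F515387)) (tt N115314 (iv6 F494541)) (tt N86554 F480732))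
theorem Q112361 : ∀ i, i < 112361 → P i := stepQ 112360 Q112360 (allL N112360 (tt N86853 F480739) (tt N86855 (iv0 F480740)) (tt N92237 F480734) (tt N98541 F480735) (tt N81445 F480736) (tt N94014 F480737) (tt N81444 (iv6 D215606)) (tt N92235 F480738))
theorem Q112362 : ∀ i, i < 112362 → P i := stepQ 112361 Q112361 (allL N112361 (tt N106163 F480745) (tt N106161 F480746) (tt N82225 F480741) (tt N103347 F480742) (tt N81448 (iv4 D215607)) (tt N106375 F480743) (tt N112372 (iv6 F480780)) (tt N111439 F480744))
theorem Q112363 : ∀ i, i < 112363 → P i := stepQ 112362 Q112362 (allL N112362 (tt N112060 F480750) (tt N112473 F481224) (tt N112460 (iv2 F481185)) (tt N82127 F480747) (tt N81461 (iv4 D215608)) (tt N112428 F481051) (tt N83782 F480748) (tt N98304 F480749))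
theorem Q112364 : ∀ i, i < 112364 → P i := stepQ 112363 Q112363 (allL N112363 (tt N99979 F480755) (tt N84187 F480756) (tt N109403 F480751) (tt N99938 (iv3 F480757)) (tt N81465 (iv4 D215609)) (tt N101328 F480754) (tt N99936 F480752) (tt N105338 F480753))
theorem Q112365 : ∀ i, i < 112365 → P i := stepQ 112364 Q112364 (allL N112364 (tt N106729 F480759) (tt N121305 F525663) (tt N118929 (iv2 F512799)) (tt N121755 (iv3 F528120)) (tt N81468 (iv4 D215610)) (tt N101330 F480758) (tt N119302 (iv6 F514928)) (tt N119617 (iv7 F516539)))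
theorem Q112366 : ∀ i, i < 112366 → P i := stepQ 112365 Q112365 (allL N112365 (tt N121305 (iv1 F525664)) (tt N106729 F480762) (tt N119617 (iv2 F516535)) (tt N108681 F480760) (tt N81471 (iv4 D215611)) (tt N118448 (iv5 F510418)) (tt N81825 F480761) (tt N118929 (iv7 F512797)))
theorem Q112367 : ∀ i, i < 112367 → P i := stepQ 112366 Q112366 (allL N112366 (tt N110507 F480766) (tt N112478 (iv0 F481254)) (tt N94064 F480763) (tt N81475 (iv3 D215612)) (tt N118632 (iv4 F511238)) (tt N104797 F480764) (tt N102720 F480765) (tt N116142 (iv7 F498709)))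
theorem Q112368 : ∀ i, i < 112368 → P i := stepQ 112367 Q112367 (allL N112367 (tt N112765 (iv1 F482554)) (tt N114542 (iv0 F490691)) (tt N120398 (iv2 F520573)) (tt N121608 (iv3 F527308)) (tt N98558 F480767) (tt N81476 (iv5 D215613)) (tt N98557 F480768) (tt N114562 (iv7 F490785)))
theorem Q112369 : ∀ i, i < 112369 → P i := stepQ 112368 Q112368 (allL N112368 (tt N118598 F511090) (tt N110653 F480770) (tt N118492 (iv2 F510667)) (tt N89902 F480769) (tt N81477 (iv4 D215614)) (tt N122181 D225440) (tt N118323 F509707) (tt N118597 (iv7 F511081)))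
theorem Q112370 : ∀ i, i < 112370 → P i := stepQ 112369 Q112369 (allL N112369 (tt N118456 (iv1 F510470)) (tt N108702 (iv0 F480774)) (tt N119376 (iv2 F515293)) (tt N81478 F480771) (tt N118323 (iv4 F509703)) (tt N111094 F480772) (tt N81477 (iv6 D215615)) (tt N81822 F480773))
theorem Q112371 : ∀ i, i < 112371 → P i := stepQ 112370 Q112370 (allL N112370 (tt N117182 F503802) (tt N121321 F525753) (tt N90900 F480775) (tt N81482 F480776) (tt N111556 F480777) (tt N122182 D225441) (tt N81480 (iv6 D215616)) (tt N118383 (iv7 F510061)))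
theorem Q112372 : ∀ i, i < 112372 → P i := stepQ 112371 Q112371 (allL N112371 (tt N113013 (iv1 F483555)) (tt N116821 (iv0 F502007)) (tt N113063 (iv2 F483804)) (tt N122182 (iv3 F530637)) (tt N114050 (iv4 F488353)) (tt N81482 (iv5 D215617)) (tt N88824 F480778) (tt N117388 (iv7 F504781)))
theorem Q112373 : ∀ i, i < 112373 → P i := stepQ 112372 Q112372 (allL N112372 (tt N112385 (iv1 F480854)) (tt N106728 (iv0 F480781)) (tt N112735 (iv2 F482429)) (tt N118383 (iv3 F510059)) (tt N81485 F480779) (tt N117388 (iv5 F504780)) (tt N112361 F480780) (tt N81482 (iv7 D215618)))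
theorem Q112374 : ∀ i, i < 112374 → P i := stepQ 112373 Q112373 (allL N112373 (tt N102878 (iv1 F480783)) (tt N81490 (iv0 D215619)) (tt N117052 (iv2 F503132)) (tt N92899 (iv3 F480785)) (tt N100419 F480782) (tt N112765 F482553) (tt N119232 (iv6 F514508)) (tt N112177 F480784))
theorem Q112375 : ∀ i, i < 112375 → P i := stepQ 112374 Q112374 (allL N112374 (tt N89820 F480790) (tt N114469 (iv0 F490344)) (tt N110187 F480786) (tt N117268 (iv3 F504196)) (tt N89865 F480789) (tt N81490 (iv5 D215620)) (tt N94516 F480787) (tt N111220 F480788))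
theorem Q112376 : ∀ i, i < 112376 → P i := stepQ 112375 Q112375 (allL N112375 (tt N98116 F480795) (tt N98115 F480796) (tt N111234 F480791) (tt N104080 F480792) (tt N121925 (iv4 F529098)) (tt N81496 (iv5 D215621)) (tt N85811 F480793) (tt N98088 F480794))
theorem Q112377 : ∀ i, i < 112377 → P i := stepQ 112376 Q112376 (allL N112376 (tt N114807 F491975) (tt N81513 (iv0 F480801)) (tt N103125 F480797) (tt N81497 (iv3 D215622)) (tt N84472 F480798) (tt N99263 F480799) (tt N84471 F480802) (tt N103126 F480800))
theorem Q112378 : ∀ i, i < 112378 → P i := stepQ 112377 Q112377 (allL N112377 (tt N109285 F480808) (tt N86227 (iv0 F480809)) (tt N109286 F480803) (tt N84471 F480804) (tt N86110 F480805) (tt N87813 F480806) (tt N81497 (iv6 D215623)) (tt N109257 F480807))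
theorem Q112379 : ∀ i, i < 112379 → P i := stepQ 112378 Q112378 (allL N112378 (tt N82036 F480814) (tt N98190 F480815) (tt N112357 F480810) (tt N98134 F480811) (tt N120024 (iv4 F518618)) (tt N81507 (iv5 D215624)) (tt N104074 F480812) (tt N111210 F480813))
theorem Q112380 : ∀ i, i < 112380 → P i := stepQ 112379 Q112379 (allL N112379 (tt N103126 (iv1 F480817)) (tt N103125 F480818) (tt N114807 (iv2 F491969)) (tt N112733 (iv3 F482417)) (tt N110311 F480816) (tt N112732 (iv5 F482414)) (tt N116206 (iv6 F499011)) (tt N81513 (iv7 D215625)))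
theorem Q112381 : ∀ i, i < 112381 → P i := stepQ 112380 Q112380 (allL N112380 (tt N109610 F480823) (tt N111812 (iv0 F480824)) (tt N100336 F480819) (tt N81526 (iv3 D215626)) (tt N101156 F480820) (tt N88481 F480821) (tt N112075 (iv6 F480825)) (tt N101154 F480822))
theorem Q112382 : ∀ i, i < 112382 → P i := stepQ 112381 Q112381 (allL N112381 (tt N101669 F480831) (tt N103449 (iv0 F480832)) (tt N111090 F480826) (tt N112075 F480827) (tt N81672 F480828) (tt N91342 F480829) (tt N81526 (iv6 D215627)) (tt N91410 F480830))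
theorem Q112383 : ∀ i, i < 112383 → P i := stepQ 112382 Q112382 (allL N112382 (tt N91876 (iv1 F480839)) (tt N82342 F480838) (tt N81533 (iv2 D215628)) (tt N86981 F480833) (tt N97603 F480834) (tt N86981 F480835) (tt N94782 F480836) (tt N97489 F480837))
theorem Q112384 : ∀ i, i < 112384 → P i := stepQ 112383 Q112383 (allL N112383 (tt N111308 F480844) (tt N114151 (iv0 F488763)) (tt N112070 F480840) (tt N110539 F480841) (tt N81536 (iv4 D215629)) (tt N82369 F480842) (tt N114178 (iv6 F488857)) (tt N81555 F480843))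
theorem Q112385 : ∀ i, i < 112385 → P i := stepQ 112384 Q112384 (allL N112384 (tt N117099 (iv1 F503381)) (tt N106844 F480849) (tt N84285 F480845) (tt N90718 F480846) (tt N113892 (iv4 F487661)) (tt N81539 (iv5 D215630)) (tt N84034 F480847) (tt N105946 F480848))
theorem Q112386 : ∀ i, i < 112386 → P i := stepQ 112385 Q112385 (allL N112385 (tt N106492 F480853) (tt N112372 F480854) (tt N112164 F480850) (tt N106498 F480851) (tt N81540 (iv4 D215631)) (tt N114972 (iv5 F492843)) (tt N119552 (iv6 F516204)) (tt N97935 F480852))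
theorem Q112387 : ∀ i, i < 112387 → P i := stepQ 112386 Q112386 (allL N112386 (tt N90559 (iv1 F480861)) (tt N82469 (iv0 F480860)) (tt N91342 F480855) (tt N95760 F480856) (tt N91271 F480857) (tt N111090 F480858) (tt N81542 (iv6 D215632)) (tt N86367 F480859))
theorem Q112388 : ∀ i, i < 112388 → P i := stepQ 112387 Q112387 (allL N112387 (tt N82225 F480864) (tt N111439 F480865) (tt N106161 F480862) (tt N101907 F480866) (tt N81543 (iv4 D215633)) (tt N121223 (iv5 F525221)) (tt N98185 (iv6 F480867)) (tt N106163 F480863))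
theorem Q112389 : ∀ i, i < 112389 → P i := stepQ 112388 Q112388 (allL N112388 (tt N111705 F480873) (tt N99262 (iv0 F480874)) (tt N106162 F480868) (tt N95758 F480869) (tt N98185 F480870) (tt N96666 F480871) (tt N81543 (iv6 D215634)) (tt N90520 F480872))
theorem Q112390 : ∀ i, i < 112390 → P i := stepQ 112389 Q112389 (allL N112389 (tt N111439 F480879) (tt N82225 F480880) (tt N106163 F480875) (tt N110318 F480876) (tt N81544 (iv4 D215635)) (tt N117062 (iv5 F503184)) (tt N90521 F480877) (tt N106161 F480878))
theorem Q112391 : ∀ i, i < 112391 → P i := stepQ 112390 Q112390 (allL N112390 (tt N111716 F480885) (tt N111744 F480886) (tt N111741 F480881) (tt N86429 F480882) (tt N81546 (iv4 D215636)) (tt N115288 (iv5 F494398)) (tt N88364 F480883) (tt N86427 F480884))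
theorem Q112392 : ∀ i, i < 112392 → P i := stepQ 112391 Q112391 (allL N112391 (tt N111074 F480889) (tt N100729 F480890) (tt N111739 F480887) (tt N114517 F490555) (tt N81549 (iv4 D215637)) (tt N115209 (iv5 F494031)) (tt N112879 (iv6 F483115)) (tt N111736 F480888))
theorem Q112393 : ∀ i, i < 112393 → P i := stepQ 112392 Q112392 (allL N112392 (tt N91805 F480895) (tt N91808 F480896) (tt N87528 F480891) (tt N92072 F480892) (tt N81550 (iv4 D215638)) (tt N97849 F480894) (tt N81605 F480893) (tt N115763 (iv7 F496732)))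
theorem Q112394 : ∀ i, i < 112394 → P i := stepQ 112393 Q112393 (allL N112393 (tt N104909 F480902) (tt N111677 F480903) (tt N81552 F480897) (tt N111680 F480898) (tt N81551 (iv4 D215639)) (tt N102391 F480901) (tt N97118 F480899) (tt N91518 F480900))
theorem Q112395 : ∀ i, i < 112395 → P i := stepQ 112394 Q112394 (allL N112394 (tt N112070 (iv1 F480905)) (tt N81555 (iv0 D215640)) (tt N114151 (iv2 F488758)) (tt N84478 (iv3 F480906)) (tt N114151 (iv4 F488759)) (tt N95379 F480904) (tt N88342 (iv6 F480907)) (tt N111308 F480908))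
theorem Q112396 : ∀ i, i < 112396 → P i := stepQ 112395 Q112395 (allL N112395 (tt N81555 (iv1 D215641)) (tt N112070 F480909) (tt N111308 F480913) (tt N84644 (iv3 F480912)) (tt N111308 F480911) (tt N87729 F480910) (tt N85767 F480914) (tt N114151 (iv7 F488762)))
theorem Q112397 : ∀ i, i < 112397 → P i := stepQ 112396 Q112396 (allL N112396 (tt N107500 (iv1 F480919)) (tt N81558 (iv0 D215642)) (tt N88986 (iv2 F480920)) (tt N106901 F480917) (tt N84646 F480916) (tt N89181 F480915) (tt N108637 F480918) (tt N88104 (iv7 F480921)))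
theorem Q112398 : ∀ i, i < 112398 → P i := stepQ 112397 Q112397 (allL N112397 (tt N81558 (iv1 D215643)) (tt N107500 (iv0 F480928)) (tt N88104 F480926) (tt N83686 (iv3 F480925)) (tt N84647 F480923) (tt N89154 F480924) (tt N83684 F480927) (tt N88986 F480922))
theorem Q112399 : ∀ i, i < 112399 → P i := stepQ 112398 Q112398 (allL N112398 (tt N88986 (iv1 F480935)) (tt N88104 F480934) (tt N81558 (iv2 D215644)) (tt N84330 F480929) (tt N87933 F480930) (tt N108343 F480931) (tt N83823 F480932) (tt N107500 F480933))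
theorem Q112400 : ∀ i, i < 112400 → P i := stepQ 112399 Q112399 (allL N112399 (tt N111619 F480938) (tt N87731 (iv0 F480939)) (tt N115775 (iv2 F496801)) (tt N81560 (iv3 D215645)) (tt N86948 F480937) (tt N122125 (iv5 F530315)) (tt N118106 (iv6 F508633)) (tt N111629 F480936))
theorem Q112401 : ∀ i, i < 112401 → P i := stepQ 112400 Q112400 (allL N112400 (tt N91928 F480942) (tt N100718 (iv0 F480943)) (tt N111633 (iv2 F480944)) (tt N81561 (iv3 D215646)) (tt N118911 (iv4 F512707)) (tt N122126 (iv5 F530321)) (tt N81575 F480940) (tt N111631 F480941))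
theorem Q112402 : ∀ i, i < 112402 → P i := stepQ 112401 Q112401 (allL N112401 (tt N111736 F480947) (tt N111739 F480948) (tt N111074 F480945) (tt N120963 (iv3 F523735)) (tt N81566 (iv4 D215647)) (tt N120268 (iv5 F519923)) (tt N115188 F493934) (tt N100729 F480946))
theorem Q112403 : ∀ i, i < 112403 → P i := stepQ 112402 Q112402 (allL N112402 (tt N109765 (iv1 F480951)) (tt N81570 (iv0 D215648)) (tt N85753 (iv2 F480952)) (tt N120591 (iv3 F521626)) (tt N85739 F480949) (tt N120942 (iv5 F523603)) (tt N108734 F480950) (tt N85757 (iv7 F480953)))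
theorem Q112404 : ∀ i, i < 112404 → P i := stepQ 112403 Q112403 (allL N112403 (tt N81570 (iv1 D215649)) (tt N109765 F480954) (tt N85757 (iv2 F480961)) (tt N108740 (iv3 F480957)) (tt N85740 F480956) (tt N111901 (iv5 F480958)) (tt N113677 (iv6 F486589)) (tt N85753 F480955))
theorem Q112405 : ∀ i, i < 112405 → P i := stepQ 112404 Q112404 (allL N112404 (tt N114809 F491986) (tt N91300 (iv0 F480965)) (tt N111477 F480962) (tt N81572 (iv3 D215650)) (tt N103337 F480963) (tt N119443 (iv5 F515651)) (tt N103336 F480964) (tt N114226 (iv7 F489088)))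
theorem Q112406 : ∀ i, i < 112406 → P i := stepQ 112405 Q112405 (allL N112405 (tt N111905 F480969) (tt N87429 F480968) (tt N100549 F480966) (tt N119443 (iv3 F515653)) (tt N100546 F480967) (tt N81572 (iv5 D215651)) (tt N115708 (iv6 F496430)) (tt N114227 (iv7 F489094)))
theorem Q112407 : ∀ i, i < 112407 → P i := stepQ 112406 Q112406 (allL N112406 (tt N111075 F480973) (tt N115436 (iv0 F495192)) (tt N81575 (iv2 D215652)) (tt N111652 F480970) (tt N101541 (iv4 F480972)) (tt N115283 (iv5 F494367)) (tt N111633 F480971) (tt N122043 (iv7 F529813)))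
theorem Q112408 : ∀ i, i < 112408 → P i := stepQ 112407 Q112407 (allL N112407 (tt N96786 F480976) (tt N111712 (iv0 F480977)) (tt N101541 F480974) (tt N111476 F480975) (tt N81575 (iv4 D215653)) (tt N119129 (iv5 F513941)) (tt N118911 (iv6 F512710)) (tt N118131 (iv7 F508767)))
theorem Q112409 : ∀ i, i < 112409 → P i := stepQ 112408 Q112408 (allL N112408 (tt N115285 F494383) (tt N115279 (iv0 F494349)) (tt N115283 F494369) (tt N81577 F480978) (tt N115382 (iv4 F494915)) (tt N81575 (iv5 D215654)) (tt N121402 F526161) (tt N111068 F480979))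
theorem Q112410 : ∀ i, i < 112410 → P i := stepQ 112409 Q112409 (allL N112409 (tt N120591 (iv1 F521630)) (tt N113562 F486043) (tt N108511 F480980) (tt N121402 F526160) (tt N111524 F480981) (tt N88003 F480982) (tt N81577 (iv6 D215655)) (tt N115600 (iv7 F495936)))
theorem Q112411 : ∀ i, i < 112411 → P i := stepQ 112410 Q112410 (allL N112410 (tt N111664 (iv1 F480985)) (tt N81580 (iv0 D215656)) (tt N104408 (iv2 F480986)) (tt N120795 (iv3 F522761)) (tt N104401 F480983) (tt N120269 (iv5 F519929)) (tt N88346 F480984) (tt N119433 (iv7 F515599)))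
theorem Q112412 : ∀ i, i < 112412 → P i := stepQ 112411 Q112411 (allL N112411 (tt N81580 (iv1 D215657)) (tt N111664 F480987) (tt N119433 (iv2 F515595)) (tt N120270 (iv3 F519934)) (tt N104409 F480989) (tt N115968 (iv5 F497822)) (tt N115731 (iv6 F496567)) (tt N104408 F480988))
theorem Q112413 : ∀ i, i < 112413 → P i := stepQ 112412 Q112412 (allL N112412 (tt N115743 F496623) (tt N115489 (iv0 F495461)) (tt N93142 F480994) (tt N81581 (iv3 D215658)) (tt N92747 F480990) (tt N101566 F480991) (tt N93136 (iv6 F480993)) (tt N111085 F480992))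
theorem Q112414 : ∀ i, i < 112414 → P i := stepQ 112413 Q112413 (allL N112413 (tt N114707 (iv1 F491454)) (tt N94015 (iv0 F481000)) (tt N111084 F480995) (tt N93136 F480996) (tt N104214 F480997) (tt N112080 F480999) (tt N81581 (iv6 D215659)) (tt N93148 F480998))
theorem Q112415 : ∀ i, i < 112415 → P i := stepQ 112414 Q112414 (allL N112414 (tt N120507 (iv1 F521151)) (tt N120506 F521148) (tt N111086 F481001) (tt N119347 (iv3 F515143)) (tt N111351 F481002) (tt N81582 (iv5 D215660)) (tt N115966 F497808) (tt N111083 F481003))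
theorem Q112416 : ∀ i, i < 112416 → P i := stepQ 112415 Q112415 (allL N112415 (tt N104035 F481008) (tt N88348 (iv0 F481009)) (tt N104037 F481004) (tt N86423 F481005) (tt N83822 F481006) (tt N120765 (iv5 F522590)) (tt N81584 (iv6 D215661)) (tt N104034 F481007))
theorem Q112417 : ∀ i, i < 112417 → P i := stepQ 112416 Q112416 (allL N112416 (tt N81590 (iv1 F481012)) (tt N81586 (iv0 D215662)) (tt N112840 (iv2 F482891)) (tt N102833 F481011) (tt N95545 F481010) (tt N114549 (iv5 F490725)) (tt N95544 (iv6 F481013)) (tt N117643 (iv7 F506179)))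
theorem Q112418 : ∀ i, i < 112418 → P i := stepQ 112417 Q112417 (allL N112417 (tt N81586 (iv1 D215663)) (tt N81590 F481014) (tt N117643 F506177) (tt N82509 F481016) (tt N106804 (iv4 F481015)) (tt N118271 (iv5 F509452)) (tt N106784 F481017) (tt N112840 (iv7 F482895)))
theorem Q112419 : ∀ i, i < 112419 → P i := stepQ 112418 Q112418 (allL N112418 (tt N121605 (iv1 F527290)) (tt N121137 (iv0 F524719)) (tt N118811 (iv2 F512192)) (tt N116124 F498601) (tt N118800 (iv4 F512143)) (tt N81586 (iv5 D215664)) (tt N118688 (iv6 F511558)) (tt N117644 (iv7 F506182)))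
theorem Q112420 : ∀ i, i < 112420 → P i := stepQ 112419 Q112419 (allL N112419 (tt N87109 F494902) (tt N115745 (iv0 F496634)) (tt N113567 (iv2 F486063)) (tt N87141 F481019) (tt N81591 (iv4 D215665)) (tt N122183 D225442) (tt N114241 (iv6 F489171)) (tt N87554 F481018))
theorem Q112421 : ∀ i, i < 112421 → P i := stepQ 112420 Q112420 (allL N112420 (tt N111754 F481022) (tt N115380 F494911) (tt N81596 F481020) (tt N115457 F495286) (tt N81592 (iv4 D215666)) (tt N122184 D225443) (tt N97244 F481021) (tt N115379 (iv7 F494906)))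
theorem Q112422 : ∀ i, i < 112422 → P i := stepQ 112421 Q112421 (allL N112421 (tt N122044 (iv1 F529816)) (tt N112699 (iv0 F482234)) (tt N115378 (iv2 F494895)) (tt N87478 F481023) (tt N81595 (iv4 D215667)) (tt N115661 (iv5 F496194)) (tt N87476 (iv6 F481025)) (tt N81632 F481024))
theorem Q112423 : ∀ i, i < 112423 → P i := stepQ 112422 Q112422 (allL N112422 (tt N111727 F481027) (tt N114816 F492027) (tt N114814 (iv2 F492010)) (tt N113635 (iv3 F486408)) (tt N87476 F481026) (tt N97351 F481028) (tt N81595 (iv6 D215668)) (tt N114817 (iv7 F492034)))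
theorem Q112424 : ∀ i, i < 112424 → P i := stepQ 112423 Q112423 (allL N112423 (tt N115379 (iv1 F494908)) (tt N81596 (iv0 D215669)) (tt N111754 (iv2 F481033)) (tt N116076 (iv3 F498339)) (tt N112445 (iv4 F481138)) (tt N122185 D225444) (tt N85726 F481034) (tt N115380 (iv7 F494912)))
theorem Q112425 : ∀ i, i < 112425 → P i := stepQ 112424 Q112424 (allL N112424 (tt N81596 (iv1 D215670)) (tt N115379 (iv0 F494907)) (tt N115380 F494910) (tt N104931 F481030) (tt N96936 (iv4 F481029)) (tt N121807 (iv5 F528440)) (tt N104930 (iv6 F481032)) (tt N111754 F481031))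
theorem Q112426 : ∀ i, i < 112426 → P i := stepQ 112425 Q112425 (allL N112425 (tt N108551 F481036) (tt N120932 F523557) (tt N122184 (iv2 F530648)) (tt N91198 F481035) (tt N122186 D225445) (tt N81596 (iv5 D215671)) (tt N116055 F498260) (tt N115381 (iv7 F494914)))
theorem Q112427 : ∀ i, i < 112427 → P i := stepQ 112426 Q112426 (allL N112426 (tt N95633 (iv1 F481042)) (tt N95555 (iv0 F481041)) (tt N97244 F481037) (tt N91199 F481038) (tt N81597 F481039) (tt N116056 (iv5 F498263)) (tt N81596 (iv6 D215672)) (tt N97243 F481040))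
theorem Q112428 : ∀ i, i < 112428 → P i := stepQ 112427 Q112427 (allL N112427 (tt N102864 (iv1 F481046)) (tt N115369 F494848) (tt N114548 (iv2 F490716)) (tt N105291 F481043) (tt N91226 F481044) (tt N96186 F481045) (tt N81599 (iv6 D215673)) (tt N113932 (iv7 F487851)))
theorem Q112429 : ∀ i, i < 112429 → P i := stepQ 112428 Q112428 (allL N112428 (tt N81601 (iv1 D215674)) (tt N111714 F481047) (tt N111446 F481053) (tt N101808 (iv3 F481050)) (tt N92881 F481049) (tt N112362 (iv5 F481051)) (tt N111444 (iv6 F481052)) (tt N111713 F481048))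
theorem Q112430 : ∀ i, i < 112430 → P i := stepQ 112429 Q112429 (allL N112429 (tt N112704 (iv1 F482261)) (tt N101958 F481058) (tt N112293 F481054) (tt N96483 F481055) (tt N81601 (iv4 D215675)) (tt N96724 F481057) (tt N81603 F481056) (tt N107891 (iv7 F481059)))
theorem Q112431 : ∀ i, i < 112431 → P i := stepQ 112430 Q112430 (allL N112430 (tt N111446 (iv1 F481065)) (tt N111713 F481066) (tt N111714 F481060) (tt N96780 F481061) (tt N107891 F481062) (tt N81602 F481063) (tt N96820 F481064) (tt N81601 (iv7 D215676)))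
theorem Q112432 : ∀ i, i < 112432 → P i := stepQ 112431 Q112431 (allL N112431 (tt N87571 F481072) (tt N81617 (iv0 F481073)) (tt N96775 F481067) (tt N81609 (iv3 D215677)) (tt N86769 F481068) (tt N83778 F481069) (tt N86768 F481070) (tt N87606 F481071))
theorem Q112433 : ∀ i, i < 112433 → P i := stepQ 112432 Q112432 (allL N112432 (tt N87562 (iv1 F481079)) (tt N87565 F481080) (tt N87564 F481074) (tt N81614 F481075) (tt N106881 F481076) (tt N90713 F481077) (tt N92526 F481078) (tt N81610 (iv7 D215678)))
theorem Q112434 : ∀ i, i < 112434 → P i := stepQ 112433 Q112433 (allL N112433 (tt N87572 F481085) (tt N81626 (iv0 F481086)) (tt N97294 F481081) (tt N81611 (iv3 D215679)) (tt N100649 F481082) (tt N97206 F481083) (tt N115745 (iv6 F496632)) (tt N87111 F481084))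
theorem Q112435 : ∀ i, i < 112435 → P i := stepQ 112434 Q112434 (allL N112434 (tt N87395 F481091) (tt N111729 (iv0 F481092)) (tt N85458 F481087) (tt N89937 F481088) (tt N91222 F481089) (tt N84870 F481090) (tt N81612 (iv6 D215680)) (tt N85455 F481093))
theorem Q112436 : ∀ i, i < 112436 → P i := stepQ 112435 Q112435 (allL N112435 (tt N81617 (iv1 D215681)) (tt N87571 F481094) (tt N87606 (iv2 F481099)) (tt N96739 (iv3 F481097)) (tt N105908 (iv4 F481098)) (tt N96738 F481096) (tt N87155 F481100) (tt N96775 F481095))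
theorem Q112437 : ∀ i, i < 112437 → P i := stepQ 112436 Q112436 (allL N112436 (tt N82497 F481106) (tt N82480 F481107) (tt N85715 F481101) (tt N88363 F481102) (tt N81620 (iv4 D215682)) (tt N100745 F481103) (tt N88361 F481104) (tt N95738 F481105))
theorem Q112438 : ∀ i, i < 112438 → P i := stepQ 112437 Q112437 (allL N112437 (tt N120041 F518711) (tt N119352 (iv0 F515172)) (tt N115227 (iv2 F494117)) (tt N81629 (iv3 D215683)) (tt N115229 (iv4 F494128)) (tt N101587 F481110) (tt N115810 (iv6 F497012)) (tt N106699 F481111))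
theorem Q112439 : ∀ i, i < 112439 → P i := stepQ 112438 Q112438 (allL N112438 (tt N87650 F481114) (tt N87164 F481115) (tt N87534 F481112) (tt N104008 F481116) (tt N81630 (iv4 D215684)) (tt N120805 (iv5 F522820)) (tt N104006 (iv6 F481117)) (tt N87536 F481113))
theorem Q112440 : ∀ i, i < 112440 → P i := stepQ 112439 Q112439 (allL N112439 (tt N92010 F481122) (tt N114821 (iv0 F492055)) (tt N87535 F481118) (tt N81632 F481119) (tt N104006 F481120) (tt N114121 F488636) (tt N81630 (iv6 D215685)) (tt N87478 F481121))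
theorem Q112441 : ∀ i, i < 112441 → P i := stepQ 112440 Q112440 (allL N112440 (tt N108276 F481125) (tt N108783 F481126) (tt N119652 (iv2 F516726)) (tt N81631 (iv3 D215686)) (tt N104008 F481123) (tt N115657 (iv5 F496179)) (tt N104007 F481124) (tt N119651 (iv7 F516719)))
theorem Q112442 : ∀ i, i < 112442 → P i := stepQ 112441 Q112441 (allL N112441 (tt N115378 (iv1 F494899)) (tt N81632 (iv0 D215687)) (tt N112699 (iv2 F482230)) (tt N111745 (iv3 F481128)) (tt N112694 (iv4 F482203)) (tt N111823 (iv5 F481129)) (tt N101814 F481127) (tt N122044 (iv7 F529817)))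
theorem Q112443 : ∀ i, i < 112443 → P i := stepQ 112442 Q112442 (allL N112442 (tt N81632 (iv1 D215688)) (tt N115378 (iv0 F494900)) (tt N122044 (iv2 F529821)) (tt N81645 (iv3 F481130)) (tt N112701 (iv4 F482241)) (tt N122187 D225446) (tt N97270 (iv6 F481131)) (tt N112699 (iv7 F482233)))
theorem Q112444 : ∀ i, i < 112444 → P i := stepQ 112443 Q112443 (allL N112443 (tt N114096 F488552) (tt N122188 D225447) (tt N114102 (iv2 F488566)) (tt N114121 (iv3 F488638)) (tt N122189 D225448) (tt N81632 (iv5 D215689)) (tt N114101 (iv6 F488565)) (tt N115661 (iv7 F496195)))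
theorem Q112445 : ∀ i, i < 112445 → P i := stepQ 112444 Q112444 (allL N112444 (tt N115726 (iv1 F496539)) (tt N115724 (iv0 F496526)) (tt N88266 F481132) (tt N81635 (iv3 D215690)) (tt N84684 F481133) (tt N122073 (iv5 F530000)) (tt N82478 (iv6 F481135)) (tt N88264 F481134))
theorem Q112446 : ∀ i, i < 112446 → P i := stepQ 112445 Q112445 (allL N112445 (tt N112694 F482205) (tt N112701 F482244) (tt N96764 F481136) (tt N82478 F481137) (tt N112423 F481138) (tt N96763 (iv5 F481139)) (tt N81635 (iv6 D215691)) (tt N112700 (iv7 F482239)))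
theorem Q112447 : ∀ i, i < 112447 → P i := stepQ 112446 Q112446 (allL N112446 (tt N95886 F481142) (tt N115362 (iv0 F494805)) (tt N115729 F496554) (tt N95885 F481140) (tt N103992 F481141) (tt N117411 (iv5 F504901)) (tt N81636 (iv6 D215692)) (tt N115730 (iv7 F496556)))
theorem Q112448 : ∀ i, i < 112448 → P i := stepQ 112447 Q112447 (allL N112447 (tt N81637 (iv1 D215693)) (tt N88431 F481143) (tt N88432 (iv2 F481147)) (tt N120793 (iv3 F522748)) (tt N86409 F481145) (tt N87244 F481146) (tt N115484 (iv6 F495427)) (tt N88433 F481144))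
theorem Q112449 : ∀ i, i < 112449 → P i := stepQ 112448 Q112448 (allL N112448 (tt N115357 (iv1 F494774)) (tt N114222 (iv0 F489069)) (tt N115228 (iv2 F494122)) (tt N81638 F481148) (tt N116119 (iv4 F498572)) (tt N81637 (iv5 D215694)) (tt N114209 F489002) (tt N88434 F481149))
theorem Q112450 : ∀ i, i < 112450 → P i := stepQ 112449 Q112449 (allL N112449 (tt N83683 (iv1 F481155)) (tt N87635 (iv0 F481154)) (tt N87634 F481150) (tt N81639 F481151) (tt N81653 F481152) (tt N115937 (iv5 F497678)) (tt N81637 (iv6 D215695)) (tt N87633 F481153))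
theorem Q112451 : ∀ i, i < 112451 → P i := stepQ 112450 Q112450 (allL N112450 (tt N95495 F481158) (tt N118895 F512623) (tt N101588 F481156) (tt N114209 (iv3 F489003)) (tt N101580 F481157) (tt N115936 (iv5 F497670)) (tt N81638 (iv6 D215696)) (tt N122127 (iv7 F530329)))
theorem Q112452 : ∀ i, i < 112452 → P i := stepQ 112451 Q112451 (allL N112451 (tt N87104 (iv1 F481161)) (tt N81639 (iv0 D215697)) (tt N115392 (iv2 F494960)) (tt N112454 (iv3 F481166)) (tt N88338 F481159) (tt N115584 (iv5 F495867)) (tt N87934 F481160) (tt N112697 (iv7 F482221)))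
theorem Q112453 : ∀ i, i < 112453 → P i := stepQ 112452 Q112452 (allL N112452 (tt N81639 (iv1 D215698)) (tt N87104 F481162) (tt N112697 (iv2 F482219)) (tt N83790 (iv3 F481163)) (tt N113627 (iv4 F486370)) (tt N122190 D225449) (tt N101817 (iv6 F481164)) (tt N115392 (iv7 F494963)))
theorem Q112454 : ∀ i, i < 112454 → P i := stepQ 112453 Q112453 (allL N112453 (tt N118892 F512610) (tt N95653 (iv0 F495282)) (tt N115811 (iv2 F497017)) (tt N115937 (iv3 F497676)) (tt N115467 F495327) (tt N81639 (iv5 D215699)) (tt N115936 F497673) (tt N115808 (iv7 F497002)))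
theorem Q112455 : ∀ i, i < 112455 → P i := stepQ 112454 Q112454 (allL N112454 (tt N108543 F481168) (tt N108552 (iv0 F481169)) (tt N81642 F481165) (tt N112451 F481166) (tt N81641 (iv4 D215700)) (tt N122191 D225450) (tt N114231 F489118) (tt N108550 F481167))
theorem Q112456 : ∀ i, i < 112456 → P i := stepQ 112455 Q112455 (allL N112455 (tt N122192 D225451) (tt N121073 (iv0 F524373)) (tt N122191 (iv2 F530684)) (tt N86909 F481170) (tt N122193 D225452) (tt N81642 (iv5 D215701)) (tt N115850 F497230) (tt N113680 (iv7 F486602)))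
theorem Q112457 : ∀ i, i < 112457 → P i := stepQ 112456 Q112456 (allL N112456 (tt N112874 F483086) (tt N87170 (iv0 F481173)) (tt N114231 (iv2 F489112)) (tt N82947 F481171) (tt N81643 F481172) (tt N82818 (iv5 F481174)) (tt N81642 (iv6 D215702)) (tt N114232 (iv7 F489122)))
theorem Q112458 : ∀ i, i < 112458 → P i := stepQ 112457 Q112457 (allL N112457 (tt N84614 F481177) (tt N107236 (iv0 F481178)) (tt N115817 (iv2 F497049)) (tt N81646 F481175) (tt N115463 (iv4 F495310)) (tt N81643 (iv5 D215703)) (tt N91191 F481176) (tt N115630 (iv7 F496053)))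
theorem Q112459 : ∀ i, i < 112459 → P i := stepQ 112458 Q112458 (allL N112458 (tt N122158 (iv1 F530492)) (tt N91249 (iv0 F481179)) (tt N111745 (iv2 F481181)) (tt N81644 (iv3 D215704)) (tt N115219 (iv4 F494070)) (tt N111447 (iv5 F481182)) (tt N111448 F481180) (tt N113664 (iv7 F486538)))
theorem Q112460 : ∀ i, i < 112460 → P i := stepQ 112459 Q112459 (allL N112459 (tt N120504 (iv1 F521139)) (tt N120502 (iv0 F521124)) (tt N113663 (iv2 F486534)) (tt N111447 F481183) (tt N120346 (iv4 F520305)) (tt N81644 (iv5 D215705)) (tt N111445 F481184) (tt N113665 (iv7 F486542)))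
theorem Q112461 : ∀ i, i < 112461 → P i := stepQ 112460 Q112460 (allL N112460 (tt N81662 (iv1 F481190)) (tt N119233 (iv0 F514517)) (tt N112362 F481185) (tt N111448 F481186) (tt N86837 F481187) (tt N111446 F481188) (tt N81644 (iv6 D215706)) (tt N97272 F481189))
theorem Q112462 : ∀ i, i < 112462 → P i := stepQ 112461 Q112461 (allL N112461 (tt N120502 (iv1 F521125)) (tt N120504 (iv0 F521138)) (tt N113665 (iv2 F486541)) (tt N122187 (iv3 F530663)) (tt N120345 (iv4 F520298)) (tt N81645 (iv5 D215707)) (tt N120344 (iv6 F520295)) (tt N113663 (iv7 F486535)))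
theorem Q112463 : ∀ i, i < 112463 → P i := stepQ 112462 Q112462 (allL N112462 (tt N113658 F486518) (tt N81646 (iv0 D215708)) (tt N113656 F491446) (tt N122082 (iv3 F530052)) (tt N118704 (iv4 F511638)) (tt N108609 F481191) (tt N114706 (iv6 F491442)) (tt N113657 (iv7 F491447)))
theorem Q112464 : ∀ i, i < 112464 → P i := stepQ 112463 Q112463 (allL N112463 (tt N81646 (iv1 D215709)) (tt N113658 F486517) (tt N113657 (iv2 F491449)) (tt N122188 F530672) (tt N118726 (iv4 F511765)) (tt N108608 F481194) (tt N117150 (iv6 F503644)) (tt N113656 F491448))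
theorem Q112465 : ∀ i, i < 112465 → P i := stepQ 112464 Q112464 (allL N112464 (tt N113657 (iv1 F486512)) (tt N113656 F486511) (tt N113658 (iv2 F486514)) (tt N115630 (iv3 F496051)) (tt N101550 F481195) (tt N81647 F481196) (tt N115628 (iv6 F496042)) (tt N81646 (iv7 D215710)))
theorem Q112466 : ∀ i, i < 112466 → P i := stepQ 112465 Q112465 (allL N112465 (tt N87488 (iv1 F481201)) (tt N87117 F481202) (tt N87490 F481197) (tt N81652 F481198) (tt N103382 F481199) (tt N111293 F481200) (tt N113662 (iv6 F486532)) (tt N81648 (iv7 D215711)))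
theorem Q112467 : ∀ i, i < 112467 → P i := stepQ 112466 Q112466 (allL N112466 (tt N121725 (iv1 F527977)) (tt N81659 (iv0 F481204)) (tt N113689 (iv2 F486644)) (tt N115293 (iv3 F494426)) (tt N86827 F481203) (tt N122194 D225453) (tt N81650 (iv6 D215712)) (tt N119363 (iv7 F515228)))
theorem Q112468 : ∀ i, i < 112468 → P i := stepQ 112467 Q112467 (allL N112467 (tt N113690 (iv1 F486650)) (tt N84267 (iv0 F481209)) (tt N113691 (iv2 F486656)) (tt N111293 F481205) (tt N111294 F481206) (tt N81652 F481207) (tt N111291 F481208) (tt N81651 (iv7 D215713)))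
theorem Q112469 : ∀ i, i < 112469 → P i := stepQ 112468 Q112468 (allL N112468 (tt N105929 F481214) (tt N117418 (iv0 F504947)) (tt N84467 F481210) (tt N98539 F481211) (tt N114326 (iv4 F489622)) (tt N81655 (iv5 D215714)) (tt N85038 F481212) (tt N84465 F481213))
theorem Q112470 : ∀ i, i < 112470 → P i := stepQ 112469 Q112469 (allL N112469 (tt N86897 F481217) (tt N113700 F486703) (tt N113684 (iv2 F486613)) (tt N96940 F481215) (tt N81659 F481216) (tt N113638 F486434) (tt N81657 (iv6 D215715)) (tt N113698 F486694))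
theorem Q112471 : ∀ i, i < 112471 → P i := stepQ 112470 Q112470 (allL N112470 (tt N81659 (iv1 D215716)) (tt N121725 F527976) (tt N119363 (iv2 F515224)) (tt N87936 (iv3 F481219)) (tt N87546 (iv4 F481218)) (tt N122081 (iv5 F530048)) (tt N90747 (iv6 F481220)) (tt N113689 (iv7 F486647)))
theorem Q112472 : ∀ i, i < 112472 → P i := stepQ 112471 Q112471 (allL N112471 (tt N85751 F481221) (tt N114841 F492139) (tt N114840 (iv2 F492135)) (tt N115976 (iv3 F497868)) (tt N100725 (iv4 F492132)) (tt N81659 (iv5 D215717)) (tt N115802 F496975) (tt N114839 F492131))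
theorem Q112473 : ∀ i, i < 112473 → P i := stepQ 112472 Q112472 (allL N112472 (tt N119363 F515230) (tt N113689 (iv0 F486649)) (tt N121725 (iv2 F527971)) (tt N112852 F482973) (tt N113698 (iv4 F486691)) (tt N114839 (iv5 F492128)) (tt N119233 (iv6 F514515)) (tt N81659 (iv7 D215718)))
theorem Q112474 : ∀ i, i < 112474 → P i := stepQ 112473 Q112473 (allL N112473 (tt N112362 (iv1 F481224)) (tt N97272 F481225) (tt N119233 (iv2 F514512)) (tt N115692 F496346) (tt N97268 F481223) (tt N119208 (iv5 F514365)) (tt N121725 (iv6 F527975)) (tt N81662 (iv7 D215719)))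
theorem Q112475 : ∀ i, i < 112475 → P i := stepQ 112474 Q112474 (allL N112474 (tt N82354 F481230) (tt N101511 (iv0 F481231)) (tt N102335 F481226) (tt N119429 (iv3 F515570)) (tt N95061 F481227) (tt N102331 F481228) (tt N81669 (iv6 D215720)) (tt N103428 F481229))
theorem Q112476 : ∀ i, i < 112476 → P i := stepQ 112475 Q112475 (allL N112475 (tt N81675 (iv1 D215721)) (tt N81766 F481232) (tt N81765 F481236) (tt N91815 (iv3 F481234)) (tt N117036 (iv4 F503074)) (tt N112818 (iv5 F482767)) (tt N97524 (iv6 F481235)) (tt N81764 F481233))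
theorem Q112477 : ∀ i, i < 112477 → P i := stepQ 112476 Q112476 (allL N112476 (tt N98381 F481241) (tt N89169 F481242) (tt N100118 F481237) (tt N81680 F481238) (tt N118880 (iv4 F512550)) (tt N81678 (iv5 D215722)) (tt N108625 F481239) (tt N109568 F481240))
theorem Q112478 : ∀ i, i < 112478 → P i := stepQ 112477 Q112477 (allL N112477 (tt N81691 (iv1 F481248)) (tt N81683 (iv0 D215723)) (tt N81689 (iv2 F481247)) (tt N103160 F481245) (tt N96888 F481244) (tt N111923 F481243) (tt N96887 F481246) (tt N81690 F481249))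
theorem Q112479 : ∀ i, i < 112479 → P i := stepQ 112478 Q112478 (allL N112478 (tt N112366 F481254) (tt N103952 F481255) (tt N91334 F481250) (tt N100350 F481251) (tt N117598 (iv4 F505923)) (tt N81687 (iv5 D215724)) (tt N103949 F481252) (tt N112039 F481253))
theorem Q112480 : ∀ i, i < 112480 → P i := stepQ 112479 Q112479 (allL N112479 (tt N101161 F481260) (tt N94136 (iv0 F481262)) (tt N103159 F481256) (tt N81690 (iv3 D215725)) (tt N99241 F481261) (tt N110987 F481257) (tt N99240 F481258) (tt N103160 F481259))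
theorem Q112481 : ∀ i, i < 112481 → P i := stepQ 112480 Q112480 (allL N112480 (tt N96139 F481268) (tt N96138 F481269) (tt N96141 F481263) (tt N108210 F481264) (tt N81705 (iv4 D215726)) (tt N101773 F481265) (tt N101775 F481266) (tt N96136 F481267))
theorem Q112482 : ∀ i, i < 112482 → P i := stepQ 112481 Q112481 (allL N112481 (tt N99488 F481273) (tt N101339 (iv0 F481274)) (tt N120426 (iv2 F520718)) (tt N81708 (iv3 D215727)) (tt N99011 F481270) (tt N96000 F481275) (tt N108910 F481271) (tt N93884 F481272))
theorem Q112483 : ∀ i, i < 112483 → P i := stepQ 112482 Q112482 (allL N112482 (tt N96461 F481279) (tt N100133 F481280) (tt N108919 F481276) (tt N96000 F481277) (tt N117496 (iv4 F505335)) (tt N81708 (iv5 D215728)) (tt N103090 F481281) (tt N93886 F481278))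
theorem Q112484 : ∀ i, i < 112484 → P i := stepQ 112483 Q112483 (allL N112483 (tt N117478 (iv1 F505237)) (tt N117477 (iv0 F505236)) (tt N117479 (iv2 F505243)) (tt N81711 F481282) (tt N86047 F481283) (tt N81710 (iv5 D215729)) (tt N112833 (iv6 F482853)) (tt N86074 F481284))
theorem Q112485 : ∀ i, i < 112485 → P i := stepQ 112484 Q112484 (allL N112484 (tt N101181 F481290) (tt N103060 (iv0 F481291)) (tt N103011 F481285) (tt N81716 (iv3 D215730)) (tt N109494 F481286) (tt N107628 F481287) (tt N82531 F481288) (tt N94134 F481289))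
theorem Q112486 : ∀ i, i < 112486 → P i := stepQ 112485 Q112485 (allL N112485 (tt N97768 F481296) (tt N118706 F511652) (tt N81769 F481292) (tt N107737 F481293) (tt N81762 F481294) (tt N94843 F481295) (tt N81721 (iv6 D215731)) (tt N118209 (iv7 F509160)))
theorem Q112487 : ∀ i, i < 112487 → P i := stepQ 112486 Q112486 (allL N112486 (tt N118638 (iv1 F511282)) (tt N96170 F481302) (tt N81739 (iv2 D215732)) (tt N93424 F481297) (tt N108091 F481298) (tt N96409 F481299) (tt N93422 F481300) (tt N93703 F481301))
theorem Q112488 : ∀ i, i < 112488 → P i := stepQ 112487 Q112487 (allL N112487 (tt N111872 (iv1 F481307)) (tt N81740 (iv0 D215733)) (tt N102406 (iv2 F481306)) (tt N81798 F481305) (tt N101131 F481304) (tt N97694 F481303) (tt N116222 (iv6 F499102)) (tt N81815 F481308))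
theorem Q112489 : ∀ i, i < 112489 → P i := stepQ 112488 Q112488 (allL N112488 (tt N102406 (iv1 F481315)) (tt N81815 F481314) (tt N81740 (iv2 D215734)) (tt N99711 F481309) (tt N101563 F481310) (tt N103435 F481311) (tt N86954 F481312) (tt N111872 F481313))
theorem Q112490 : ∀ i, i < 112490 → P i := stepQ 112489 Q112489 (allL N112489 (tt N92094 F481321) (tt N118780 (iv0 F512027)) (tt N112146 F481316) (tt N81744 (iv3 D215735)) (tt N112076 F481317) (tt N102036 F481318) (tt N87908 F481319) (tt N97667 F481320))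
theorem Q112491 : ∀ i, i < 112491 → P i := stepQ 112490 Q112490 (allL N112490 (tt N81817 F481324) (tt N100735 (iv0 F481325)) (tt N118130 (iv2 F508759)) (tt N111873 F481322) (tt N100672 F481323) (tt N115716 (iv5 F496477)) (tt N81756 (iv6 D215736)) (tt N119377 (iv7 F515304)))
theorem Q112492 : ∀ i, i < 112492 → P i := stepQ 112491 Q112491 (allL N112491 (tt N90414 F481331) (tt N105472 F481330) (tt N112818 (iv2 F482765)) (tt N103577 F481326) (tt N86024 F481327) (tt N81765 (iv5 D215737)) (tt N86922 F481328) (tt N110278 F481329))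
theorem Q112493 : ∀ i, i < 112493 → P i := stepQ 112492 Q112492 (allL N112492 (tt N112870 F483064) (tt N95440 (iv0 F481335)) (tt N97419 F481332) (tt N116220 (iv3 F499088)) (tt N95931 F481333) (tt N119270 (iv5 F514737)) (tt N81766 (iv6 D215738)) (tt N81767 F481334))
theorem Q112494 : ∀ i, i < 112494 → P i := stepQ 112493 Q112493 (allL N112493 (tt N101461 F481340) (tt N101458 F481341) (tt N81929 F481336) (tt N119914 F518013) (tt N81774 (iv4 D215739)) (tt N81849 F481339) (tt N94984 F481337) (tt N81932 F481338))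
theorem Q112495 : ∀ i, i < 112495 → P i := stepQ 112494 Q112494 (allL N112494 (tt N112291 F481345) (tt N112135 (iv0 F481346)) (tt N95583 F481342) (tt N81778 (iv3 D215740)) (tt N95533 F481343) (tt N101672 F481347) (tt N95537 F481344) (tt N112495 (iv7 F481351)))
theorem Q112496 : ∀ i, i < 112496 → P i := stepQ 112495 Q112495 (allL N112495 (tt N118941 (iv1 F512869)) (tt N112292 F481353) (tt N93844 F481348) (tt N101672 F481349) (tt N95366 F481352) (tt N81778 (iv5 D215741)) (tt N101936 F481350) (tt N112494 F481351))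
theorem Q112497 : ∀ i, i < 112497 → P i := stepQ 112496 Q112496 (allL N112496 (tt N117907 (iv1 F507532)) (tt N117906 F507529) (tt N111603 F481354) (tt N107868 F481355) (tt N81781 (iv4 D215742)) (tt N93694 F481356) (tt N90473 F481357) (tt N93693 F481358))
theorem Q112498 : ∀ i, i < 112498 → P i := stepQ 112497 Q112497 (allL N112497 (tt N115415 F495084) (tt N83718 (iv0 F481362)) (tt N115417 F495093) (tt N81784 (iv3 D215743)) (tt N102136 F481359) (tt N112147 F481360) (tt N97039 F481361) (tt N112850 (iv7 F482958)))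
theorem Q112499 : ∀ i, i < 112499 → P i := stepQ 112498 Q112498 (allL N112498 (tt N81822 F481367) (tt N119376 (iv0 F515298)) (tt N118456 (iv2 F510465)) (tt N81787 F481363) (tt N108705 F481366) (tt N81786 (iv5 D215744)) (tt N98076 F481364) (tt N108702 F481365))
theorem Q112500 : ∀ i, i < 112500 → P i := stepQ 112499 Q112499 (allL N112499 (tt N82468 F481373) (tt N82467 F481374) (tt N82470 F481368) (tt N90560 F481369) (tt N81790 (iv4 D215745)) (tt N90559 F481372) (tt N102255 F481370) (tt N82465 F481371))
theorem Q112501 : ∀ i, i < 112501 → P i := stepQ 112500 Q112500 (allL N112500 (tt N93841 F481379) (tt N96452 F481380) (tt N96412 F481375) (tt N96504 F481376) (tt N81791 (iv4 D215746)) (tt N93443 F481377) (tt N118677 F511493) (tt N93743 F481378))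
theorem Q112502 : ∀ i, i < 112502 → P i := stepQ 112501 Q112501 (allL N112501 (tt N102089 F481385) (tt N102120 F481386) (tt N95817 F481381) (tt N100689 F481382) (tt N118677 (iv4 F511491)) (tt N97771 F481383) (tt N81791 (iv6 D215747)) (tt N97770 F481384))
theorem Q112503 : ∀ i, i < 112503 → P i := stepQ 112502 Q112502 (allL N112502 (tt N100696 F481391) (tt N111583 F481392) (tt N90672 F481387) (tt N117322 (iv3 F504457)) (tt N93746 F481390) (tt N81793 (iv5 D215748)) (tt N87797 F481388) (tt N111500 F481389))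
theorem Q112504 : ∀ i, i < 112504 → P i := stepQ 112503 Q112503 (allL N112503 (tt N90472 F481396) (tt N103144 (iv0 F481397)) (tt N121851 (iv2 F528703)) (tt N81799 F481393) (tt N117906 (iv4 F507527)) (tt N81797 (iv5 D215749)) (tt N82584 F481394) (tt N81813 F481395))
theorem Q112505 : ∀ i, i < 112505 → P i := stepQ 112504 Q112504 (allL N112504 (tt N118780 F512028) (tt N92094 (iv0 F481402)) (tt N97667 F481398) (tt N81803 (iv3 D215750)) (tt N111606 F481399) (tt N102033 F481400) (tt N117920 F507606) (tt N112146 F481401))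
theorem Q112506 : ∀ i, i < 112506 → P i := stepQ 112505 Q112505 (allL N112505 (tt N119376 F515299) (tt N81822 F481406) (tt N108702 F481403) (tt N95771 F481404) (tt N108700 F481407) (tt N81810 (iv5 D215751)) (tt N95752 F481405) (tt N118456 (iv7 F510468)))
theorem Q112507 : ∀ i, i < 112507 → P i := stepQ 112506 Q112506 (allL N112506 (tt N103144 F481411) (tt N90472 F481412) (tt N81813 F481408) (tt N99180 F481409) (tt N117907 (iv4 F507533)) (tt N81811 (iv5 D215752)) (tt N99178 F481410) (tt N121851 (iv7 F528698)))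
theorem Q112508 : ∀ i, i < 112508 → P i := stepQ 112507 Q112507 (allL N112507 (tt N94760 F481416) (tt N100676 (iv0 F481418)) (tt N82441 F481413) (tt N95183 F481414) (tt N81814 F481415) (tt N85498 (iv5 F481417)) (tt N81812 (iv6 D215753)) (tt N95192 F481419))
theorem Q112509 : ∀ i, i < 112509 → P i := stepQ 112508 Q112508 (allL N112508 (tt N120977 (iv1 F523818)) (tt N120976 F523815) (tt N111667 F481420) (tt N111524 F481421) (tt N122101 (iv4 F530172)) (tt N81817 (iv5 D215754)) (tt N97707 F481422) (tt N104288 F481423))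
theorem Q112510 : ∀ i, i < 112510 → P i := stepQ 112509 Q112509 (allL N112509 (tt N108702 F481427) (tt N118456 (iv0 F510469)) (tt N81822 (iv2 D215755)) (tt N99038 F481424) (tt N118322 (iv4 F509697)) (tt N102788 F481425) (tt N94097 F481426) (tt N119376 (iv7 F515297)))
theorem Q112511 : ∀ i, i < 112511 → P i := stepQ 112510 Q112510 (allL N112510 (tt N111438 F481430) (tt N111601 F481431) (tt N118322 (iv2 F509695)) (tt N117072 (iv3 F503240)) (tt N81822 (iv4 D215756)) (tt N91393 F481429) (tt N102729 F481428) (tt N118323 (iv7 F509704)))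
theorem Q112512 : ∀ i, i < 112512 → P i := stepQ 112511 Q112511 (allL N112511 (tt N82155 (iv1 F481438)) (tt N82154 F481437) (tt N81832 (iv2 D215757)) (tt N102764 F481432) (tt N104878 F481433) (tt N95667 F481434) (tt N102763 F481435) (tt N82153 F481436))
theorem Q112513 : ∀ i, i < 112513 → P i := stepQ 112512 Q112512 (allL N112512 (tt N90417 F481443) (tt N88802 F481444) (tt N107055 F481439) (tt N105184 F481440) (tt N81833 (iv4 D215758)) (tt N121266 (iv5 F525466)) (tt N107041 F481441) (tt N107054 F481442))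
theorem Q112514 : ∀ i, i < 112514 → P i := stepQ 112513 Q112513 (allL N112513 (tt N109780 F481450) (tt N116383 (iv0 F499813)) (tt N88609 F481445) (tt N81836 F481446) (tt N109971 F481447) (tt N81835 (iv5 D215759)) (tt N109869 F481448) (tt N88607 F481449))
theorem Q112515 : ∀ i, i < 112515 → P i := stepQ 112514 Q112514 (allL N112514 (tt N116440 (iv1 F500127)) (tt N113480 (iv0 F485687)) (tt N117400 (iv2 F504839)) (tt N109869 F481451) (tt N116787 (iv4 F501831)) (tt N89837 F481452) (tt N81836 (iv6 D215760)) (tt N117399 (iv7 F504837)))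
theorem Q112516 : ∀ i, i < 112516 → P i := stepQ 112515 Q112515 (allL N112515 (tt N88606 F481457) (tt N88612 (iv0 F481458)) (tt N88611 F481453) (tt N81838 (iv3 D215761)) (tt N110696 F481456) (tt N89398 F481454) (tt N121863 (iv6 F528775)) (tt N88610 F481455))
theorem Q112517 : ∀ i, i < 112517 → P i := stepQ 112516 Q112516 (allL N112516 (tt N107416 F481461) (tt N113443 F485518) (tt N113206 F484481) (tt N121863 (iv3 F528774)) (tt N110412 F481459) (tt N100962 F481460) (tt N81838 (iv6 D215762)) (tt N116101 (iv7 F498461)))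
theorem Q112518 : ∀ i, i < 112518 → P i := stepQ 112517 Q112517 (allL N112517 (tt N90879 F481464) (tt N90877 F481465) (tt N81884 F481462) (tt N121075 (iv3 F524380)) (tt N81840 (iv4 D215763)) (tt N121862 (iv5 F528769)) (tt N110728 (iv6 F481466)) (tt N81882 F481463))
theorem Q112519 : ∀ i, i < 112519 → P i := stepQ 112518 Q112518 (allL N112518 (tt N107190 F481471) (tt N81900 (iv0 F481472)) (tt N81885 F481467) (tt N89642 F481468) (tt N110728 F481469) (tt N84755 F481470) (tt N81840 (iv6 D215764)) (tt N105652 (iv7 F481473)))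
theorem Q112520 : ∀ i, i < 112520 → P i := stepQ 112519 Q112519 (allL N112519 (tt N90873 F481478) (tt N89312 F481479) (tt N81887 F481474) (tt N90853 F481475) (tt N81841 (iv4 D215765)) (tt N121858 (iv5 F528743)) (tt N107335 F481476) (tt N81888 F481477))
theorem Q112521 : ∀ i, i < 112521 → P i := stepQ 112520 Q112520 (allL N112520 (tt N81894 (iv1 F481485)) (tt N81842 (iv0 D215766)) (tt N81890 (iv2 F481484)) (tt N121593 F527218) (tt N83047 F481483) (tt N122195 D225454) (tt N107425 F481487) (tt N81891 F481486))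
theorem Q112522 : ∀ i, i < 112522 → P i := stepQ 112521 Q112521 (allL N112521 (tt N112622 F481874) (tt N112624 (iv0 F481886)) (tt N81909 F481488) (tt N121966 (iv3 F529347)) (tt N81844 F481489) (tt N121834 (iv5 F528598)) (tt N81843 (iv6 D215767)) (tt N121627 (iv7 F527419)))
theorem Q112523 : ∀ i, i < 112523 → P i := stepQ 112522 Q112522 (allL N112522 (tt N81912 (iv1 F481492)) (tt N81844 (iv0 D215768)) (tt N81910 (iv2 F481491)) (tt N116440 (iv3 F500122)) (tt N120459 (iv4 F520895)) (tt N116439 (iv5 F500121)) (tt N105657 F481490) (tt N81911 F481493))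
theorem Q112524 : ∀ i, i < 112524 → P i := stepQ 112523 Q112523 (allL N112523 (tt N100476 F481497) (tt N119748 F517223) (tt N119749 (iv2 F517225)) (tt N81846 (iv3 D215769)) (tt N90627 F481494) (tt N119744 (iv5 F517207)) (tt N109951 F481495) (tt N81922 F481496))
theorem Q112525 : ∀ i, i < 112525 → P i := stepQ 112524 Q112524 (allL N112524 (tt N93502 F481502) (tt N112567 (iv0 F481681)) (tt N81918 F481498) (tt N119744 (iv3 F517206)) (tt N81857 F481499) (tt N81846 (iv5 D215770)) (tt N110698 F481500) (tt N81923 F481501))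
theorem Q112526 : ∀ i, i < 112526 → P i := stepQ 112525 Q112525 (allL N112525 (tt N122196 D225455) (tt N121457 (iv0 F526483)) (tt N81924 F481503) (tt N99082 F481504) (tt N81848 F481505) (tt N99079 F481506) (tt N81847 (iv6 D215771)) (tt N113457 (iv7 F485580)))
theorem Q112527 : ∀ i, i < 112527 → P i := stepQ 112526 Q112526 (allL N112526 (tt N81927 (iv1 F481509)) (tt N81848 (iv0 D215772)) (tt N81925 (iv2 F481508)) (tt N107416 (iv3 F481511)) (tt N107426 F481512) (tt N116181 (iv5 F498889)) (tt N107424 F481507) (tt N81926 F481510))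
theorem Q112528 : ∀ i, i < 112528 → P i := stepQ 112527 Q112527 (allL N112527 (tt N101458 F481518) (tt N101461 F481519) (tt N81932 F481514) (tt N107517 F481515) (tt N81854 F481516) (tt N81850 (iv5 D215774)) (tt N107516 F481520) (tt N81929 F481517))
theorem Q112529 : ∀ i, i < 112529 → P i := stepQ 112528 Q112528 (allL N112528 (tt N101318 (iv1 F481522)) (tt N81851 (iv0 D215775)) (tt N83411 (iv2 F481523)) (tt N119711 (iv3 F517040)) (tt N83408 F481521) (tt N119295 (iv5 F514889)) (tt N81891 (iv6 F481524)) (tt N119102 (iv7 F513801)))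
theorem Q112530 : ∀ i, i < 112530 → P i := stepQ 112529 Q112529 (allL N112529 (tt N81851 (iv1 D215776)) (tt N101318 F481525) (tt N119102 (iv2 F513798)) (tt N113336 (iv3 F485091)) (tt N83414 F481527) (tt N93545 (iv5 F481529)) (tt N96210 (iv6 F481528)) (tt N83411 F481526))
theorem Q112531 : ∀ i, i < 112531 → P i := stepQ 112530 Q112530 (allL N112530 (tt N101311 F481533) (tt N101343 F481534) (tt N120435 F520772) (tt N81852 F481530) (tt N101324 F481532) (tt N81851 (iv5 D215777)) (tt N119897 F517919) (tt N81989 F481531))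
theorem Q112532 : ∀ i, i < 112532 → P i := stepQ 112531 Q112531 (allL N112531 (tt N110037 (iv1 F481538)) (tt N110036 (iv0 F481537)) (tt N81939 F481535) (tt N119897 F517918) (tt N81990 F481536) (tt N121172 (iv5 F524932)) (tt N81852 (iv6 D215778)) (tt N116626 (iv7 F501042)))
theorem Q112533 : ∀ i, i < 112533 → P i := stepQ 112532 Q112532 (allL N112532 (tt N117667 (iv1 F506306)) (tt N117666 F506302) (tt N87072 F481539) (tt N81858 (iv3 D215779)) (tt N87082 F481540) (tt N120902 (iv5 F523380)) (tt N118862 (iv6 F512459)) (tt N117410 (iv7 F504895)))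
theorem Q112534 : ∀ i, i < 112534 → P i := stepQ 112533 Q112533 (allL N112533 (tt N90271 F481544) (tt N101514 F481542) (tt N118134 (iv2 F508781)) (tt N120902 (iv3 F523378)) (tt N102670 F481541) (tt N81858 (iv5 D215780)) (tt N102669 F481543) (tt N120495 (iv7 F521080)))
theorem Q112535 : ∀ i, i < 112535 → P i := stepQ 112534 Q112534 (allL N112534 (tt N92061 F481550) (tt N92057 (iv0 F481551)) (tt N92058 F481545) (tt N91810 F481546) (tt N81859 (iv4 D215781)) (tt N103369 F481549) (tt N112290 F481547) (tt N92059 F481548))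
theorem Q112536 : ∀ i, i < 112536 → P i := stepQ 112535 Q112535 (allL N112535 (tt N101514 F481553) (tt N90271 (iv0 F481554)) (tt N120495 (iv2 F521076)) (tt N117235 (iv3 F504050)) (tt N106476 F481552) (tt N81859 (iv5 D215782)) (tt N90353 (iv6 F481555)) (tt N118134 (iv7 F508785)))
theorem Q112537 : ∀ i, i < 112537 → P i := stepQ 112536 Q112536 (allL N112536 (tt N90300 F481558) (tt N117601 F505942) (tt N81861 F481556) (tt N81980 F481557) (tt N90295 (iv4 F481559)) (tt N81860 (iv5 D215783)) (tt N93454 F481560) (tt N115350 (iv7 F494726)))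
theorem Q112538 : ∀ i, i < 112538 → P i := stepQ 112537 Q112537 (allL N112537 (tt N103907 F481565) (tt N103906 (iv0 F481566)) (tt N111971 F481561) (tt N81871 F481562) (tt N100691 F481563) (tt N116704 (iv5 F501399)) (tt N81868 (iv6 D215784)) (tt N105711 F481564))
theorem Q112539 : ∀ i, i < 112539 → P i := stepQ 112538 Q112538 (allL N112538 (tt N104203 F481571) (tt N110320 (iv0 F481572)) (tt N88858 F481567) (tt N90248 F481568) (tt N81871 F481569) (tt N113601 (iv5 F486245)) (tt N81869 (iv6 D215785)) (tt N105714 F481570))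
theorem Q112540 : ∀ i, i < 112540 → P i := stepQ 112539 Q112539 (allL N112539 (tt N82291 F481576) (tt N89405 (iv0 F481577)) (tt N88861 F481573) (tt N116704 (iv3 F501397)) (tt N83688 F481575) (tt N81871 (iv5 D215786)) (tt N114679 (iv6 F491332)) (tt N100864 F481574))
theorem Q112541 : ∀ i, i < 112541 → P i := stepQ 112540 Q112540 (allL N112540 (tt N107977 F484682) (tt N120262 (iv0 F519884)) (tt N88864 F481578) (tt N85852 F481579) (tt N107613 F481580) (tt N91156 F481581) (tt N81872 (iv6 D215787)) (tt N113544 (iv7 F485961)))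
theorem Q112542 : ∀ i, i < 112542 → P i := stepQ 112541 Q112541 (allL N112541 (tt N120283 (iv1 F520019)) (tt N94635 (iv0 F481586)) (tt N104455 F481582) (tt N81876 (iv3 D215788)) (tt N104452 F481583) (tt N101068 F481584) (tt N121040 (iv6 F524169)) (tt N100618 F481585))
theorem Q112543 : ∀ i, i < 112543 → P i := stepQ 112542 Q112542 (allL N112542 (tt N107133 (iv1 F481592)) (tt N96188 (iv0 F481591)) (tt N99530 F481587) (tt N121040 (iv3 F524166)) (tt N99503 F481588) (tt N101593 F481589) (tt N81876 (iv6 D215789)) (tt N99533 F481590))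
theorem Q112544 : ∀ i, i < 112544 → P i := stepQ 112543 Q112543 (allL N112543 (tt N122197 D225456) (tt N122198 D225457) (tt N101165 (iv2 F481594)) (tt N81882 (iv3 D215790)) (tt N101010 F481593) (tt N119790 (iv5 F517430)) (tt N119791 (iv6 F517432)) (tt N121075 (iv7 F524382)))
theorem Q112545 : ∀ i, i < 112545 → P i := stepQ 112544 Q112544 (allL N112544 (tt N113390 (iv1 F485318)) (tt N113322 (iv0 F485019)) (tt N91121 F481595) (tt N119790 (iv3 F517428)) (tt N90315 F481596) (tt N81882 (iv5 D215791)) (tt N119788 (iv6 F517422)) (tt N121862 (iv7 F528768)))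
theorem Q112546 : ∀ i, i < 112546 → P i := stepQ 112545 Q112545 (allL N112545 (tt N120417 F520672) (tt N121696 (iv0 F527803)) (tt N91122 F481597) (tt N119791 (iv3 F517431)) (tt N81883 F481598) (tt N117024 (iv5 F503016)) (tt N81882 (iv6 D215792)) (tt N121350 (iv7 F525912)))
theorem Q112547 : ∀ i, i < 112547 → P i := stepQ 112546 Q112546 (allL N112546 (tt N91126 (iv1 F481607)) (tt N81883 (iv0 D215793)) (tt N91123 (iv2 F481601)) (tt N117398 (iv3 F504829)) (tt N113350 (iv4 F485147)) (tt N111917 F481599) (tt N81904 F481600) (tt N91124 (iv7 F481602)))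
theorem Q112548 : ∀ i, i < 112548 → P i := stepQ 112547 Q112547 (allL N112547 (tt N81883 (iv1 D215794)) (tt N91126 F481603) (tt N91124 (iv2 F481606)) (tt N113215 (iv3 F484526)) (tt N113351 F485148) (tt N111916 F481605) (tt N119825 (iv6 F517565)) (tt N91123 F481604))
theorem Q112549 : ∀ i, i < 112549 → P i := stepQ 112548 Q112548 (allL N112548 (tt N91124 (iv1 F481610)) (tt N91123 F481611) (tt N91126 F481608) (tt N113372 F485233) (tt N121350 (iv4 F525910)) (tt N112773 (iv5 F482590)) (tt N105652 F481609) (tt N81883 (iv7 D215795)))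
theorem Q112550 : ∀ i, i < 112550 → P i := stepQ 112549 Q112549 (allL N112549 (tt N113322 (iv1 F485020)) (tt N113390 (iv0 F485317)) (tt N121862 F528772) (tt N119789 (iv3 F517424)) (tt N116547 (iv4 F500701)) (tt N81884 (iv5 D215796)) (tt N110688 (iv6 F502922)) (tt N91121 F481612))
theorem Q112551 : ∀ i, i < 112551 → P i := stepQ 112550 Q112550 (allL N112550 (tt N105652 (iv1 F481617)) (tt N81885 (iv0 D215797)) (tt N107190 (iv2 F481615)) (tt N90693 (iv3 F503692)) (tt N120475 (iv4 F520967)) (tt N99521 F481613) (tt N96199 F481614) (tt N81900 F481616))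
theorem Q112552 : ∀ i, i < 112552 → P i := stepQ 112551 Q112551 (allL N112551 (tt N81900 (iv1 F481623)) (tt N107190 F481624) (tt N105652 F481618) (tt N84746 F481619) (tt N100470 F481620) (tt N84758 F481621) (tt N91126 F481622) (tt N81885 (iv7 D215798)))
theorem Q112553 : ∀ i, i < 112553 → P i := stepQ 112552 Q112552 (allL N112552 (tt N106614 F481627) (tt N110232 F481628) (tt N89349 F481625) (tt N101436 F481629) (tt N81886 (iv4 D215799)) (tt N120255 (iv5 F519841)) (tt N113343 (iv6 F485114)) (tt N89643 F481626))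
theorem Q112554 : ∀ i, i < 112554 → P i := stepQ 112553 Q112553 (allL N112553 (tt N121389 F526096) (tt N113748 (iv0 F486945)) (tt N121980 (iv2 F529431)) (tt N81887 (iv3 D215800)) (tt N101436 F481630) (tt N122199 D225458) (tt N121460 F526500) (tt N121866 (iv7 F528794)))
theorem Q112555 : ∀ i, i < 112555 → P i := stepQ 112554 Q112554 (allL N112554 (tt N117258 (iv1 F504149)) (tt N117255 (iv0 F504134)) (tt N121858 (iv2 F528740)) (tt N122199 (iv3 F530730)) (tt N90343 F481633) (tt N81887 (iv5 D215801)) (tt N109975 F481632) (tt N122156 (iv7 F530477)))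
theorem Q112556 : ∀ i, i < 112556 → P i := stepQ 112555 Q112555 (allL N112555 (tt N121920 (iv1 F529068)) (tt N121919 (iv0 F529060)) (tt N121959 F529306) (tt N81888 (iv3 D215802)) (tt N84377 F481634) (tt N119929 (iv5 F518081)) (tt N100482 (iv6 F481636)) (tt N90853 F481635))
theorem Q112557 : ∀ i, i < 112557 → P i := stepQ 112556 Q112556 (allL N112556 (tt N117255 (iv1 F504135)) (tt N117258 (iv0 F504148)) (tt N122156 (iv2 F530474)) (tt N119929 (iv3 F518083)) (tt N116546 (iv4 F500697)) (tt N81888 (iv5 D215803)) (tt N110684 F481640) (tt N121858 (iv7 F528744)))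
theorem Q112558 : ∀ i, i < 112558 → P i := stepQ 112557 Q112557 (allL N112557 (tt N101347 F481641) (tt N101349 F481642) (tt N117242 (iv2 F504075)) (tt N100482 F481637) (tt N81889 F481638) (tt N110685 (iv5 F481639)) (tt N81888 (iv6 D215804)) (tt N118228 (iv7 F509254)))
theorem Q112559 : ∀ i, i < 112559 → P i := stepQ 112558 Q112558 (allL N112558 (tt N113399 (iv1 F485336)) (tt N113400 (iv0 F485337)) (tt N122195 (iv2 F530705)) (tt N121879 (iv3 F528867)) (tt N116543 (iv4 F500688)) (tt N81890 (iv5 D215805)) (tt N121878 (iv6 F528866)) (tt N83410 F481643))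
theorem Q112560 : ∀ i, i < 112560 → P i := stepQ 112559 Q112559 (allL N112559 (tt N120466 F520928) (tt N119823 (iv0 F517557)) (tt N119927 (iv2 F518073)) (tt N81891 (iv3 D215806)) (tt N110984 F481644) (tt N109500 (iv5 F481645)) (tt N119711 (iv6 F517041)) (tt N121593 (iv7 F527215)))
theorem Q112561 : ∀ i, i < 112561 → P i := stepQ 112560 Q112560 (allL N112560 (tt N113400 (iv1 F485339)) (tt N113399 (iv0 F485335)) (tt N83410 F481646) (tt N109500 F481647) (tt N109506 F481648) (tt N81891 (iv5 D215807)) (tt N122170 (iv6 F530561)) (tt N122195 (iv7 F530709)))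
theorem Q112562 : ∀ i, i < 112562 → P i := stepQ 112561 Q112561 (allL N112561 (tt N81892 (iv1 D215808)) (tt N105663 F481649) (tt N90882 (iv2 F481653)) (tt N121798 (iv3 F528383)) (tt N89301 (iv4 F481652)) (tt N90875 F481651) (tt N81934 (iv6 F481801)) (tt N90938 F481650))
theorem Q112563 : ∀ i, i < 112563 → P i := stepQ 112562 Q112562 (allL N112562 (tt N116850 (iv1 F502167)) (tt N121287 (iv0 F525576)) (tt N121172 (iv2 F524931)) (tt N106646 F481654) (tt N106649 F481655) (tt N81939 F481656) (tt N81893 (iv6 D215809)) (tt N112613 (iv7 F481847)))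
theorem Q112564 : ∀ i, i < 112564 → P i := stepQ 112563 Q112563 (allL N112563 (tt N89642 F481660) (tt N91157 F481661) (tt N91156 F481657) (tt N113546 (iv3 F485964)) (tt N83491 F481658) (tt N88864 F481659) (tt N81896 (iv6 D215810)) (tt N91155 F481662))
theorem Q112565 : ∀ i, i < 112565 → P i := stepQ 112564 Q112564 (allL N112564 (tt N85999 (iv1 F481665)) (tt N81897 (iv0 D215811)) (tt N113166 F484294) (tt N88404 F481664) (tt N91153 F481663) (tt N113703 (iv5 F486722)) (tt N106596 (iv6 F481667)) (tt N90825 F481666))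
theorem Q112566 : ∀ i, i < 112566 → P i := stepQ 112565 Q112565 (allL N112565 (tt N107410 F481671) (tt N107413 F481672) (tt N120193 (iv2 F519524)) (tt N81899 F481668) (tt N117398 (iv4 F504830)) (tt N96200 F481669) (tt N81898 (iv6 D215812)) (tt N107188 F481670))
theorem Q112567 : ∀ i, i < 112567 → P i := stepQ 112566 Q112566 (allL N112566 (tt N119772 (iv1 F517345)) (tt N119771 F517342) (tt N107566 F481673) (tt N81901 (iv3 D215813)) (tt N83550 F481674) (tt N107563 (iv5 F481676)) (tt N119859 (iv6 F517740)) (tt N101453 F481675))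
theorem Q112568 : ∀ i, i < 112568 → P i := stepQ 112567 Q112567 (allL N112567 (tt N112524 F481681) (tt N93493 F481682) (tt N101450 F481677) (tt N107563 F481678) (tt N81961 F481679) (tt N81901 (iv5 D215814)) (tt N107677 F481683) (tt N101454 F481680))
theorem Q112569 : ∀ i, i < 112569 → P i := stepQ 112568 Q112568 (allL N112568 (tt N98904 (iv1 F481687)) (tt N107341 (iv0 F481688)) (tt N101451 F481684) (tt N119859 (iv3 F517738)) (tt N96205 F481685) (tt N118754 (iv5 F511905)) (tt N81901 (iv6 D215815)) (tt N107202 (iv7 F481686)))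
theorem Q112570 : ∀ i, i < 112570 → P i := stepQ 112569 Q112569 (allL N112569 (tt N101352 (iv1 F481691)) (tt N101351 F481692) (tt N120366 (iv2 F520396)) (tt N119772 F517348) (tt N81906 F481689) (tt N99126 F481690) (tt N121627 (iv6 F527418)) (tt N81903 (iv7 D215816)))
theorem Q112571 : ∀ i, i < 112571 → P i := stepQ 112570 Q112570 (allL N112570 (tt N121360 (iv1 F525961)) (tt N121239 (iv0 F525313)) (tt N121362 (iv2 F525971)) (tt N81909 F481693) (tt N117276 (iv4 F504239)) (tt N117163 (iv5 F503704)) (tt N81907 (iv6 D215817)) (tt N121361 F525965))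
theorem Q112572 : ∀ i, i < 112572 → P i := stepQ 112571 Q112571 (allL N112571 (tt N121627 (iv1 F527421)) (tt N81909 (iv0 D215818)) (tt N112622 (iv2 F481875)) (tt N106348 (iv3 F481877)) (tt N101432 F481876) (tt N106347 F481878) (tt N121114 F524582) (tt N112624 (iv7 F481885)))
theorem Q112573 : ∀ i, i < 112573 → P i := stepQ 112572 Q112572 (allL N112572 (tt N81909 (iv1 D215819)) (tt N121627 (iv0 F527420)) (tt N112624 (iv2 F481883)) (tt N117404 (iv3 F504859)) (tt N90880 F481694) (tt N121861 (iv5 F528760)) (tt N90879 (iv6 F481695)) (tt N112622 (iv7 F481872)))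
theorem Q112574 : ∀ i, i < 112574 → P i := stepQ 112573 Q112573 (allL N112573 (tt N121365 F525984) (tt N121874 F528843) (tt N121834 (iv2 F528594)) (tt N117163 F503705) (tt N119799 (iv4 F517472)) (tt N81909 (iv5 D215820)) (tt N121806 (iv6 F528435)) (tt N121872 (iv7 F528830)))
theorem Q112575 : ∀ i, i < 112575 → P i := stepQ 112574 Q112574 (allL N112574 (tt N112624 (iv1 F481887)) (tt N112622 (iv0 F481873)) (tt N121627 (iv2 F527416)) (tt N121361 F525964) (tt N81912 F481696) (tt N121872 (iv5 F528829)) (tt N120366 (iv6 F520399)) (tt N81909 (iv7 D215821)))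
theorem Q112576 : ∀ i, i < 112576 → P i := stepQ 112575 Q112575 (allL N112575 (tt N120433 (iv1 F520762)) (tt N81946 F491071) (tt N120459 F520896) (tt N122200 D225459) (tt N81910 (iv4 D215822)) (tt N119802 (iv5 F517486)) (tt N121061 (iv6 F524300)) (tt N117259 F504154))
theorem Q112577 : ∀ i, i < 112577 → P i := stepQ 112576 Q112576 (allL N112576 (tt N117400 F504844) (tt N117399 (iv0 F504838)) (tt N113480 (iv2 F485685)) (tt N81911 (iv3 D215823)) (tt N116440 (iv4 F500125)) (tt N116091 (iv5 F498417)) (tt N91119 F481697) (tt N116440 (iv7 F500124)))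
theorem Q112578 : ∀ i, i < 112578 → P i := stepQ 112577 Q112577 (allL N112577 (tt N81946 F481699) (tt N120433 (iv0 F520761)) (tt N117259 (iv2 F504150)) (tt N120459 (iv3 F520900)) (tt N81911 (iv4 D215824)) (tt N121860 (iv5 F528756)) (tt N83365 F481698) (tt N120459 (iv7 F520898)))
theorem Q112579 : ∀ i, i < 112579 → P i := stepQ 112578 Q112578 (allL N112578 (tt N88395 (iv1 F481703)) (tt N81913 (iv0 D215825)) (tt N113165 (iv2 F484287)) (tt N88402 F481702) (tt N106614 F481701) (tt N85969 F481700) (tt N106018 (iv6 F481705)) (tt N89063 F481704))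
theorem Q112580 : ∀ i, i < 112580 → P i := stepQ 112579 Q112579 (allL N112579 (tt N120493 (iv1 F521068)) (tt N120494 (iv0 F521073)) (tt N101443 F481706) (tt N116623 (iv3 F501026)) (tt N100907 F481707) (tt N116622 F501024) (tt N81916 (iv6 D215826)) (tt N113391 (iv7 F485320)))
theorem Q112581 : ∀ i, i < 112581 → P i := stepQ 112580 Q112580 (allL N112580 (tt N98950 F481711) (tt N98947 (iv0 F481712)) (tt N110571 F481708) (tt N81917 (iv3 D215827)) (tt N122201 D225460) (tt N110563 F481709) (tt N113321 (iv6 F485016)) (tt N101441 F481710))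
theorem Q112582 : ∀ i, i < 112582 → P i := stepQ 112581 Q112581 (allL N112581 (tt N105661 (iv1 F481717)) (tt N81919 (iv0 D215828)) (tt N105166 (iv2 F481716)) (tt N113748 (iv3 F486942)) (tt N94918 F481714) (tt N105533 F481713) (tt N101349 F481715) (tt N118649 (iv7 F511338)))
theorem Q112583 : ∀ i, i < 112583 → P i := stepQ 112582 Q112582 (allL N112582 (tt N110404 F481722) (tt N81921 (iv0 D215829)) (tt N113446 (iv2 F485526)) (tt N109879 (iv3 F481721)) (tt N112327 F481719) (tt N91145 F481718) (tt N109875 F481720) (tt N113453 (iv7 F485555)))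
theorem Q112584 : ∀ i, i < 112584 → P i := stepQ 112583 Q112583 (allL N112583 (tt N113453 (iv1 F485554)) (tt N113446 (iv0 F485528)) (tt N110404 F481723) (tt N81927 F481724) (tt N110252 F481725) (tt N116171 (iv5 F498855)) (tt N88729 F481726) (tt N81921 (iv7 D215830)))
theorem Q112585 : ∀ i, i < 112585 → P i := stepQ 112584 Q112584 (allL N112584 (tt N119749 (iv1 F517230)) (tt N81922 (iv0 D215831)) (tt N119748 F517221) (tt N100483 (iv3 F482166)) (tt N113441 F485506) (tt N112683 F482165) (tt N121920 (iv6 F529065)) (tt N100476 (iv7 F482167)))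
theorem Q112586 : ∀ i, i < 112586 → P i := stepQ 112585 Q112585 (allL N112585 (tt N81922 (iv1 D215832)) (tt N119749 F517229) (tt N100476 F481730) (tt N119883 (iv3 F517857)) (tt N105556 (iv4 F481727)) (tt N97207 (iv5 F481729)) (tt N100472 (iv6 F481728)) (tt N119748 (iv7 F517222)))
theorem Q112587 : ∀ i, i < 112587 → P i := stepQ 112586 Q112586 (allL N112586 (tt N113457 (iv1 F485581)) (tt N81924 (iv0 D215833)) (tt N122196 F530715) (tt N121587 (iv3 F527181)) (tt N83399 (iv4 F484454)) (tt N116544 F500694) (tt N121586 (iv6 F527178)) (tt N121457 F526485))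
theorem Q112588 : ∀ i, i < 112588 → P i := stepQ 112587 Q112587 (allL N112587 (tt N81924 (iv1 D215834)) (tt N113457 F485582) (tt N121457 (iv2 F526480)) (tt N121459 F526493) (tt N83400 (iv4 F484455)) (tt N121349 (iv5 F525901)) (tt N94990 F484456) (tt N122196 (iv7 F530717)))
theorem Q112589 : ∀ i, i < 112589 → P i := stepQ 112588 Q112588 (allL N112588 (tt N108460 F481737) (tt N111537 (iv0 F481736)) (tt N99079 F481731) (tt N99077 F481732) (tt N101645 F481734) (tt N81924 (iv5 D215835)) (tt N90940 F481733) (tt N120528 (iv7 F521272)))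
theorem Q112590 : ∀ i, i < 112590 → P i := stepQ 112589 Q112589 (allL N112589 (tt N121457 F526484) (tt N122196 F530716) (tt N113457 (iv2 F485578)) (tt N116191 (iv3 F498934)) (tt N81927 F481738) (tt N120528 F521275) (tt N105661 F481739) (tt N81924 (iv7 D215836)))
theorem Q112591 : ∀ i, i < 112591 → P i := stepQ 112590 Q112590 (allL N112590 (tt N113197 F484434) (tt N81933 F481771) (tt N107426 F481740) (tt N122202 D225461) (tt N81925 (iv4 D215837)) (tt N110708 F482120) (tt N121631 (iv6 F527437)) (tt N113422 (iv7 F485429)))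
theorem Q112592 : ∀ i, i < 112592 → P i := stepQ 112591 Q112591 (allL N112591 (tt N112773 (iv1 F482593)) (tt N91125 (iv0 F481743)) (tt N116181 F498891) (tt N112977 F483420) (tt N121633 (iv4 F527446)) (tt N81925 (iv5 D215838)) (tt N107446 F481741) (tt N107449 F481742))
theorem Q112593 : ∀ i, i < 112593 → P i := stepQ 112592 Q112592 (allL N112592 (tt N113206 F484482) (tt N116101 (iv0 F498462)) (tt N113443 (iv2 F485516)) (tt N81926 (iv3 D215839)) (tt N107417 (iv4 F481746)) (tt N122017 (iv5 F529660)) (tt N107417 F481744) (tt N107416 F481745))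
theorem Q112594 : ∀ i, i < 112594 → P i := stepQ 112593 Q112593 (allL N112593 (tt N81933 F481770) (tt N113197 (iv0 F484432)) (tt N113422 (iv2 F485431)) (tt N107428 F481747) (tt N81926 (iv4 D215840)) (tt N105891 (iv5 F481750)) (tt N107428 F481748) (tt N107426 F481749))
theorem Q112595 : ∀ i, i < 112595 → P i := stepQ 112594 Q112594 (allL N112594 (tt N98867 (iv1 F481755)) (tt N107545 F481754) (tt N107544 F481751) (tt N81929 F481752) (tt N121476 (iv4 F526583)) (tt N81928 (iv5 D215841)) (tt N119868 (iv6 F517782)) (tt N107517 F481753))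
theorem Q112596 : ∀ i, i < 112596 → P i := stepQ 112595 Q112595 (allL N112595 (tt N122203 D225462) (tt N121591 (iv0 F527207)) (tt N121882 (iv2 F528882)) (tt N81930 F481756) (tt N110340 F481757) (tt N121176 (iv5 F524953)) (tt N81928 (iv6 D215842)) (tt N113198 (iv7 F484438)))
theorem Q112597 : ∀ i, i < 112597 → P i := stepQ 112596 Q112596 (allL N112596 (tt N81932 (iv1 F481760)) (tt N81929 (iv0 D215843)) (tt N101461 (iv2 F481761)) (tt N119294 F514883) (tt N81975 F481759) (tt N100637 F481758) (tt N118264 (iv6 F509431)) (tt N101458 (iv7 F481762)))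
theorem Q112598 : ∀ i, i < 112598 → P i := stepQ 112597 Q112597 (allL N112597 (tt N81929 (iv1 D215844)) (tt N81932 F481763) (tt N101458 (iv2 F481769)) (tt N98860 F481768) (tt N81974 F481766) (tt N100908 F481765) (tt N99614 (iv6 F481767)) (tt N101461 F481764))
theorem Q112599 : ∀ i, i < 112599 → P i := stepQ 112598 Q112598 (allL N112598 (tt N121542 F526948) (tt N106672 (iv0 F481773)) (tt N121514 (iv2 F526791)) (tt N120468 (iv3 F520937)) (tt N81931 (iv4 D215848)) (tt N121540 F526934) (tt N121943 (iv6 F529212)) (tt N121994 (iv7 F529517)))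
theorem Q112600 : ∀ i, i < 112600 → P i := stepQ 112599 Q112599 (allL N112599 (tt N119915 (iv1 F518019)) (tt N107532 (iv0 F481776)) (tt N119870 (iv2 F517792)) (tt N81932 F481774) (tt N98845 F481778) (tt N81931 (iv5 D215849)) (tt N98844 (iv6 F481775)) (tt N119914 (iv7 F518010)))
theorem Q112601 : ∀ i, i < 112601 → P i := stepQ 112600 Q112600 (allL N112600 (tt N119740 (iv1 F517189)) (tt N119739 (iv0 F517181)) (tt N113419 (iv2 F485405)) (tt N81933 F481781) (tt N121943 (iv4 F529211)) (tt N100459 F481782) (tt N81931 (iv6 D215850)) (tt N100458 (iv7 F481783)))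
theorem Q112602 : ∀ i, i < 112602 → P i := stepQ 112601 Q112601 (allL N112601 (tt N121385 (iv1 F526071)) (tt N101644 (iv0 F481787)) (tt N113423 (iv2 F485434)) (tt N100459 F481784) (tt N101625 (iv4 F481785)) (tt N81933 (iv5 D215851)) (tt N117281 (iv6 F504266)) (tt N100454 (iv7 F481786)))
theorem Q112603 : ∀ i, i < 112603 → P i := stepQ 112602 Q112602 (allL N112602 (tt N113422 (iv1 F485428)) (tt N107426 (iv0 F481836)) (tt N113197 (iv2 F484428)) (tt N100458 F481788) (tt N113201 (iv4 F484449)) (tt N100454 F481789) (tt N105662 F481790) (tt N81933 (iv7 D215852)))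
theorem Q112604 : ∀ i, i < 112604 → P i := stepQ 112603 Q112603 (allL N112603 (tt N81935 (iv1 F481795)) (tt N81934 (iv0 D215853)) (tt N81938 (iv2 F481791)) (tt N101318 F481792) (tt N121804 (iv4 F528421)) (tt N110632 F481793) (tt N122204 D225463) (tt N81936 F481794))
theorem Q112605 : ∀ i, i < 112605 → P i := stepQ 112604 Q112604 (allL N112604 (tt N81938 F481803) (tt N81936 (iv0 F481802)) (tt N81934 (iv2 D215854)) (tt N98869 F481797) (tt N99129 F481798) (tt N98862 F481799) (tt N90882 (iv6 F481800)) (tt N81935 (iv7 F481796)))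
theorem Q112606 : ∀ i, i < 112606 → P i := stepQ 112605 Q112605 (allL N112605 (tt N107535 (iv1 F481808)) (tt N107534 F481807) (tt N107536 F481804) (tt N81934 (iv3 D215855)) (tt N113202 (iv4 F484458)) (tt N99960 (iv5 F481805)) (tt N121798 (iv6 F528384)) (tt N107525 (iv7 F481806)))
theorem Q112607 : ∀ i, i < 112607 → P i := stepQ 112606 Q112606 (allL N112606 (tt N99128 (iv1 F481813)) (tt N99127 (iv0 F481814)) (tt N99129 F481809) (tt N113444 (iv3 F485520)) (tt N81934 (iv4 D215856)) (tt N99116 F481811) (tt N89301 F481810) (tt N99115 (iv7 F481812)))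
theorem Q112608 : ∀ i, i < 112608 → P i := stepQ 112607 Q112607 (allL N112607 (tt N98861 (iv1 F481821)) (tt N98860 (iv0 F481820)) (tt N98862 F481816) (tt N99960 F481817) (tt N101635 F481818) (tt N81934 (iv5 D215857)) (tt N121205 (iv6 F525123)) (tt N98858 F481819))
theorem Q112609 : ∀ i, i < 112609 → P i := stepQ 112608 Q112608 (allL N112608 (tt N81936 (iv1 F481826)) (tt N81938 F481827) (tt N81935 F481822) (tt N107525 F481823) (tt N99115 F481824) (tt N98858 F481825) (tt N121852 (iv6 F528707)) (tt N81934 (iv7 D215858)))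
theorem Q112610 : ∀ i, i < 112610 → P i := stepQ 112609 Q112609 (allL N112609 (tt N122202 F530747) (tt N121456 (iv0 F526479)) (tt N121852 (iv2 F528704)) (tt N98865 F481828) (tt N99121 F481829) (tt N98859 F481830) (tt N81935 (iv6 D215859)) (tt N113406 (iv7 F485355)))
theorem Q112611 : ∀ i, i < 112611 → P i := stepQ 112610 Q112610 (allL N112610 (tt N110616 F481833) (tt N109962 (iv0 F481835)) (tt N81937 F481831) (tt N120435 F520774) (tt N121153 (iv4 F524815)) (tt N81936 (iv5 D215860)) (tt N100451 F481834) (tt N110632 F481832))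
theorem Q112612 : ∀ i, i < 112612 → P i := stepQ 112611 Q112611 (allL N112611 (tt N110632 (iv1 F481839)) (tt N81937 (iv0 D215861)) (tt N110616 (iv2 F481838)) (tt N99962 F481837) (tt N116498 (iv4 F500455)) (tt N120472 (iv5 F520955)) (tt N117288 (iv6 F504302)) (tt N109962 F481840))
theorem Q112613 : ∀ i, i < 112613 → P i := stepQ 112612 Q112612 (allL N112612 (tt N121147 (iv1 F524782)) (tt N90313 (iv0 F481844)) (tt N121153 (iv2 F524813)) (tt N90294 F481841) (tt N81937 (iv4 D215862)) (tt N105466 F481843) (tt N113466 F485617) (tt N110634 F481842))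
theorem Q112614 : ∀ i, i < 112614 → P i := stepQ 112613 Q112613 (allL N112613 (tt N116670 (iv1 F501234)) (tt N121877 (iv0 F528860)) (tt N122204 (iv2 F530755)) (tt N81940 F481845) (tt N121242 (iv4 F525320)) (tt N110635 F481846) (tt N81938 (iv6 D215863)) (tt N112562 F481847))
theorem Q112615 : ∀ i, i < 112615 → P i := stepQ 112614 Q112614 (allL N112614 (tt N89646 (iv1 F481850)) (tt N116430 (iv0 F500068)) (tt N116837 (iv2 F502100)) (tt N81941 (iv3 D215864)) (tt N106613 F481849) (tt N89578 F481848) (tt N117210 (iv6 F503923)) (tt N116838 (iv7 F502103)))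
theorem Q112616 : ∀ i, i < 112616 → P i := stepQ 112615 Q112615 (allL N112615 (tt N113391 F485322) (tt N101443 (iv0 F481853)) (tt N120493 (iv2 F521063)) (tt N98937 F481852) (tt N81941 (iv4 D215865)) (tt N98935 F481851) (tt N110730 F502614) (tt N120494 (iv7 F521072)))
theorem Q112617 : ∀ i, i < 112617 → P i := stepQ 112616 Q112616 (allL N112616 (tt N105428 (iv1 F481858)) (tt N101319 (iv0 F481857)) (tt N105654 F481854) (tt N117210 F503924) (tt N110730 (iv4 F502615)) (tt N100634 F481855) (tt N81941 (iv6 D215866)) (tt N105653 F481856))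
theorem Q112618 : ∀ i, i < 112618 → P i := stepQ 112617 Q112617 (allL N112617 (tt N88616 (iv1 F481862)) (tt N84376 F481861) (tt N89358 (iv2 F492393)) (tt N81942 (iv3 D215867)) (tt N90799 (iv4 F481860)) (tt N91008 F481859) (tt N116406 (iv6 F499932)) (tt N89359 F492394))
theorem Q112619 : ∀ i, i < 112619 → P i := stepQ 112618 Q112618 (allL N112618 (tt N101443 F481865) (tt N113391 F485321) (tt N120494 (iv2 F521070)) (tt N100474 F481864) (tt N81942 (iv4 D215868)) (tt N109965 F481863) (tt N121629 (iv6 F527430)) (tt N120493 (iv7 F521065)))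
theorem Q112620 : ∀ i, i < 112620 → P i := stepQ 112619 Q112619 (allL N112619 (tt N120342 (iv1 F520284)) (tt N81945 (iv0 D215869)) (tt N120341 (iv2 F520277)) (tt N99224 (iv3 F481868)) (tt N119809 (iv4 F517503)) (tt N99221 F481866) (tt N109831 F481867) (tt N120340 F520272))
theorem Q112621 : ∀ i, i < 112621 → P i := stepQ 112620 Q112620 (allL N112620 (tt N81945 (iv1 D215870)) (tt N120342 F520285) (tt N120340 F520273) (tt N113524 (iv3 F505057)) (tt N119810 (iv4 F517507)) (tt N121533 (iv5 F526897)) (tt N121541 (iv6 F526938)) (tt N120341 (iv7 F520274)))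
theorem Q112622 : ∀ i, i < 112622 → P i := stepQ 112621 Q112621 (allL N112621 (tt N117259 F504152) (tt N120459 F520897) (tt N120433 (iv2 F520758)) (tt N110748 F481869) (tt N81949 F481870) (tt N121241 (iv5 F525318)) (tt N101312 F481871) (tt N81946 (iv7 D215872)))
theorem Q112623 : ∀ i, i < 112623 → P i := stepQ 112622 Q112622 (allL N112622 (tt N112574 F481873) (tt N112521 (iv0 F481874)) (tt N112571 F481875) (tt N113531 (iv3 F485910)) (tt N81947 (iv4 D215873)) (tt N121291 (iv5 F525592)) (tt N121121 (iv6 F524617)) (tt N112572 F481872))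
theorem Q112624 : ∀ i, i < 112624 → P i := stepQ 112623 Q112623 (allL N112623 (tt N120222 (iv1 F519679)) (tt N110521 (iv0 F481882)) (tt N114406 (iv2 F489992)) (tt N81948 (iv3 D215874)) (tt N107549 (iv4 F481881)) (tt N85934 F481879) (tt N83360 F481880) (tt N114623 (iv7 F491058)))
theorem Q112625 : ∀ i, i < 112625 → P i := stepQ 112624 Q112624 (allL N112624 (tt N112521 F481886) (tt N112574 F481887) (tt N112572 F481883) (tt N119375 (iv3 F515287)) (tt N81948 (iv4 D215875)) (tt N121293 (iv5 F525600)) (tt N83361 F481884) (tt N112571 F481885))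
theorem Q112626 : ∀ i, i < 112626 → P i := stepQ 112625 Q112625 (allL N112625 (tt N112634 (iv1 F481930)) (tt N107297 F481890) (tt N112636 F481940) (tt N108502 F481888) (tt N90000 F481889) (tt N81950 (iv5 D215876)) (tt N89999 F481891) (tt N112635 F481935))
theorem Q112627 : ∀ i, i < 112627 → P i := stepQ 112626 Q112626 (allL N112626 (tt N101679 F481895) (tt N111838 (iv0 F481897)) (tt N112655 (iv2 F482020)) (tt N81951 (iv3 D215877)) (tt N87018 F481892) (tt N99296 (iv5 F481894)) (tt N96527 F481893) (tt N115784 (iv7 F496856)))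
theorem Q112628 : ∀ i, i < 112628 → P i := stepQ 112627 Q112627 (allL N112627 (tt N107297 F481899) (tt N112634 (iv0 F481929)) (tt N112635 (iv2 F481936)) (tt N99296 F481898) (tt N116799 (iv4 F501903)) (tt N81951 (iv5 D215878)) (tt N116612 (iv6 F500968)) (tt N112636 (iv7 F481937)))
theorem Q112629 : ∀ i, i < 112629 → P i := stepQ 112628 Q112628 (allL N112628 (tt N115013 (iv1 F493048)) (tt N81953 (iv0 D215879)) (tt N115014 (iv2 F493054)) (tt N97146 F481902) (tt N89586 F481901) (tt N81965 F481900) (tt N97144 F481903) (tt N89584 (iv7 F481904)))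
theorem Q112630 : ∀ i, i < 112630 → P i := stepQ 112629 Q112629 (allL N112629 (tt N116586 (iv1 F500864)) (tt N81955 (iv0 D215880)) (tt N116585 (iv2 F500859)) (tt N82047 F481905) (tt N119837 (iv4 F517622)) (tt N95290 (iv5 F481907)) (tt N82058 F481906) (tt N116584 (iv7 F500855)))
theorem Q112631 : ∀ i, i < 112631 → P i := stepQ 112630 Q112630 (allL N112630 (tt N121619 (iv1 F527368)) (tt N108313 (iv0 F481911)) (tt N101662 F481908) (tt N89988 F481909) (tt N111367 (iv4 F481912)) (tt N81955 (iv5 D215881)) (tt N81956 F481910) (tt N116587 (iv7 F500868)))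
theorem Q112632 : ∀ i, i < 112632 → P i := stepQ 112631 Q112631 (allL N112631 (tt N117865 F510576) (tt N117800 (iv0 F507038)) (tt N118699 (iv2 F511609)) (tt N98845 F481913) (tt N81960 (iv4 D215882)) (tt N122163 (iv5 F530519)) (tt N98843 F481914) (tt N121431 (iv7 F526333)))
theorem Q112633 : ∀ i, i < 112633 → P i := stepQ 112632 Q112632 (allL N112632 (tt N118709 F511674) (tt N112143 (iv0 F481919)) (tt N110936 F481915) (tt N81965 (iv3 D215883)) (tt N101151 F481916) (tt N97146 F481917) (tt N96012 F481918) (tt N115438 (iv7 F495203)))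
theorem Q112634 : ∀ i, i < 112634 → P i := stepQ 112633 Q112633 (allL N112633 (tt N82025 F481923) (tt N82022 F481924) (tt N82023 (iv2 F481925)) (tt N81966 (iv3 D215884)) (tt N87813 F481920) (tt N114981 (iv5 F492894)) (tt N95778 F481921) (tt N82024 F481922))
theorem Q112635 : ∀ i, i < 112635 → P i := stepQ 112634 Q112634 (allL N112634 (tt N112627 F481929) (tt N112625 F481930) (tt N81968 F481926) (tt N96516 F481927) (tt N89898 F481928) (tt N81967 (iv5 D215885)) (tt N112815 (iv6 F482748)) (tt N116856 (iv7 F502196)))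
theorem Q112636 : ∀ i, i < 112636 → P i := stepQ 112635 Q112635 (allL N112635 (tt N116856 F502198) (tt N81968 (iv0 D215886)) (tt N112627 F481936) (tt N93736 F481933) (tt N90809 F481932) (tt N91925 F481931) (tt N93735 F481934) (tt N112625 (iv7 F481935)))
theorem Q112637 : ∀ i, i < 112637 → P i := stepQ 112636 Q112636 (allL N112636 (tt N81968 (iv1 D215887)) (tt N116856 (iv0 F502197)) (tt N112625 (iv2 F481940)) (tt N119944 F518171) (tt N106755 F481939) (tt N87800 F481938) (tt N89552 (iv6 F481941)) (tt N112627 F481937))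
theorem Q112638 : ∀ i, i < 112638 → P i := stepQ 112637 Q112637 (allL N112637 (tt N93483 F481944) (tt N118367 F509961) (tt N118366 (iv2 F509955)) (tt N94820 F481942) (tt N81971 (iv4 D215888)) (tt N120029 (iv5 F518649)) (tt N94818 F481943) (tt N118365 F509947))
theorem Q112639 : ∀ i, i < 112639 → P i := stepQ 112638 Q112638 (allL N112638 (tt N87072 F481948) (tt N117410 (iv0 F504896)) (tt N117666 F506303) (tt N81972 (iv3 D215889)) (tt N96827 F481947) (tt N105439 F481945) (tt N111036 F481946) (tt N117667 (iv7 F506307)))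
theorem Q112640 : ∀ i, i < 112640 → P i := stepQ 112639 Q112639 (allL N112639 (tt N118367 (iv1 F509962)) (tt N93483 (iv0 F481953)) (tt N118365 F509945) (tt N101145 F481950) (tt N81972 (iv4 D215890)) (tt N90376 F481952) (tt N93471 F481951) (tt N118366 (iv7 F509950)))
theorem Q112641 : ∀ i, i < 112641 → P i := stepQ 112640 Q112640 (allL N112640 (tt N101876 F481956) (tt N101880 F481957) (tt N119946 (iv2 F518178)) (tt N81979 F481954) (tt N118491 (iv4 F510662)) (tt N81978 (iv5 D215891)) (tt N91976 F481955) (tt N119945 (iv7 F518176)))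
theorem Q112642 : ∀ i, i < 112642 → P i := stepQ 112641 Q112641 (allL N112641 (tt N120023 (iv1 F518609)) (tt N118373 (iv0 F509997)) (tt N117521 (iv2 F505490)) (tt N93599 F481959) (tt N81979 (iv4 D215892)) (tt N115030 F493121) (tt N120612 (iv6 F521753)) (tt N93594 F481958))
theorem Q112643 : ∀ i, i < 112643 → P i := stepQ 112642 Q112642 (allL N112642 (tt N118255 (iv1 F509392)) (tt N116772 (iv0 F501746)) (tt N112808 (iv2 F482704)) (tt N91976 F481960) (tt N120612 (iv4 F521751)) (tt N91975 F481961) (tt N81979 (iv6 D215893)) (tt N117642 (iv7 F506169)))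
theorem Q112644 : ∀ i, i < 112644 → P i := stepQ 112643 Q112643 (allL N112643 (tt N81985 (iv1 F481964)) (tt N81980 (iv0 D215894)) (tt N81981 (iv2 F481963)) (tt N120551 (iv3 F521405)) (tt N115053 (iv4 F493244)) (tt N111350 F481962) (tt N90302 F481966) (tt N81982 F481965))
theorem Q112645 : ∀ i, i < 112645 → P i := stepQ 112644 Q112644 (allL N112644 (tt N118583 F511009) (tt N121786 F528310) (tt N109623 F481967) (tt N81982 (iv3 D215895)) (tt N119181 (iv4 F514228)) (tt N116146 F498740) (tt N116617 (iv6 F500992)) (tt N120551 (iv7 F521407)))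
theorem Q112646 : ∀ i, i < 112646 → P i := stepQ 112645 Q112645 (allL N112645 (tt N81983 (iv1 D215896)) (tt N93458 F481968) (tt N86105 F481972) (tt N119042 (iv3 F513450)) (tt N118636 (iv4 F511265)) (tt N85872 F481970) (tt N89081 (iv6 F481971)) (tt N93456 F481969))
theorem Q112647 : ∀ i, i < 112647 → P i := stepQ 112646 Q112646 (allL N112646 (tt N86105 (iv1 F481978)) (tt N93456 F481979) (tt N93458 F481973) (tt N101324 F481974) (tt N81985 F481975) (tt N101323 F481976) (tt N85111 F481977) (tt N81983 (iv7 D215897)))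
theorem Q112648 : ∀ i, i < 112648 → P i := stepQ 112647 Q112647 (allL N112647 (tt N120435 (iv1 F520768)) (tt N81989 (iv0 D215898)) (tt N101343 (iv2 F481983)) (tt N110620 F481981) (tt N96719 F481982) (tt N101312 F481980) (tt N118039 (iv6 F508234)) (tt N101311 F481984))
theorem Q112649 : ∀ i, i < 112649 → P i := stepQ 112648 Q112648 (allL N112648 (tt N101343 (iv1 F481990)) (tt N101311 F481989) (tt N81989 (iv2 D215899)) (tt N110632 F481985) (tt N101332 F481986) (tt N101318 F481987) (tt N110630 F481988) (tt N120435 (iv7 F520769)))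
theorem Q112650 : ∀ i, i < 112650 → P i := stepQ 112649 Q112649 (allL N112649 (tt N115784 (iv1 F496858)) (tt N112655 (iv0 F482023)) (tt N101679 F481991) (tt N118793 (iv3 F512105)) (tt N81993 (iv4 D215900)) (tt N118636 (iv5 F511266)) (tt N101676 F481992) (tt N111838 F481993))
theorem Q112651 : ∀ i, i < 112651 → P i := stepQ 112650 Q112650 (allL N112650 (tt N81998 (iv1 F481995)) (tt N81996 (iv0 D215901)) (tt N95590 F481997) (tt N118904 (iv3 F512668)) (tt N91969 F481994) (tt N118902 (iv5 F512660)) (tt N82482 (iv6 F481996)) (tt N117638 (iv7 F506145)))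
theorem Q112652 : ∀ i, i < 112652 → P i := stepQ 112651 Q112651 (allL N112651 (tt N81996 (iv1 D215902)) (tt N81998 F481998) (tt N117638 (iv2 F506143)) (tt N95494 (iv3 F482001)) (tt N91970 F482000) (tt N95492 F482002) (tt N95620 F482003) (tt N95590 F481999))
theorem Q112653 : ∀ i, i < 112653 → P i := stepQ 112652 Q112652 (allL N112652 (tt N118869 (iv1 F512499)) (tt N112254 F482007) (tt N108570 F482005) (tt N114110 F488592) (tt N105936 F482006) (tt N81996 (iv5 D215903)) (tt N121063 (iv6 F524312)) (tt N115511 F495566))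
theorem Q112654 : ∀ i, i < 112654 → P i := stepQ 112653 Q112653 (allL N112653 (tt N112254 F482011) (tt N118869 (iv0 F512498)) (tt N115511 (iv2 F495562)) (tt N87954 F482008) (tt N105938 F482009) (tt N81998 (iv5 D215904)) (tt N87952 (iv6 F482012)) (tt N108570 F482010))
theorem Q112655 : ∀ i, i < 112655 → P i := stepQ 112654 Q112654 (allL N112654 (tt N82006 (iv1 F482016)) (tt N82003 (iv0 D215905)) (tt N112312 (iv2 F482015)) (tt N95194 (iv3 F482018)) (tt N82065 F482014) (tt N82051 F482013) (tt N95192 F482019) (tt N112311 F482017))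
theorem Q112656 : ∀ i, i < 112656 → P i := stepQ 112655 Q112655 (allL N112655 (tt N112649 F482023) (tt N110893 F482024) (tt N112626 F482020) (tt N93434 F482021) (tt N82005 (iv4 D215906)) (tt N119054 (iv5 F513524)) (tt N93433 F482022) (tt N119582 (iv7 F516377)))
theorem Q112657 : ∀ i, i < 112657 → P i := stepQ 112656 Q112656 (allL N112656 (tt N100794 F482029) (tt N106938 (iv0 F482033)) (tt N111829 F482032) (tt N82010 (iv3 D215907)) (tt N106865 F482025) (tt N100825 F482026) (tt N108218 F482027) (tt N107098 F482028))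
theorem Q112658 : ∀ i, i < 112658 → P i := stepQ 112657 Q112657 (allL N112657 (tt N82435 F482039) (tt N101965 (iv0 F482040)) (tt N102091 F482034) (tt N96745 F482035) (tt N111687 F482036) (tt N101977 F482037) (tt N82020 (iv6 D215908)) (tt N85677 F482038))
theorem Q112659 : ∀ i, i < 112659 → P i := stepQ 112658 Q112658 (allL N112658 (tt N112143 F482045) (tt N118709 (iv0 F511673)) (tt N115438 (iv2 F495200)) (tt N82023 (iv3 D215909)) (tt N101150 F482041) (tt N110476 F482042) (tt N96419 F482043) (tt N110936 F482044))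
theorem Q112660 : ∀ i, i < 112660 → P i := stepQ 112659 Q112659 (allL N112659 (tt N108570 F482047) (tt N115511 F495568) (tt N112254 F482046) (tt N115603 (iv3 F495954)) (tt N117656 (iv4 F506246)) (tt N82027 (iv5 D215910)) (tt N108557 (iv6 F512325)) (tt N118869 (iv7 F512497)))
theorem Q112661 : ∀ i, i < 112661 → P i := stepQ 112660 Q112660 (allL N112660 (tt N111210 F482052) (tt N112357 F482053) (tt N82036 F482048) (tt N101315 F482049) (tt N101323 F482051) (tt N82031 (iv5 D215911)) (tt N114942 (iv6 F492668)) (tt N98190 F482050))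
theorem Q112662 : ∀ i, i < 112662 → P i := stepQ 112661 Q112661 (allL N112661 (tt N98190 (iv1 F482059)) (tt N82036 (iv0 D215912)) (tt N111210 (iv2 F482055)) (tt N100288 F482056) (tt N115030 (iv4 F493120)) (tt N98070 F482054) (tt N98195 F482057) (tt N112357 F482058))
theorem Q112663 : ∀ i, i < 112663 → P i := stepQ 112662 Q112662 (allL N112662 (tt N112357 (iv1 F482065)) (tt N111210 F482066) (tt N98190 F482060) (tt N109050 F482061) (tt N93457 F482062) (tt N82037 F482063) (tt N98112 F482064) (tt N82036 (iv7 D215913)))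
theorem Q112664 : ∀ i, i < 112664 → P i := stepQ 112663 Q112663 (allL N112663 (tt N96418 F482068) (tt N99008 F482070) (tt N118753 (iv2 F511897)) (tt N82044 (iv3 D215914)) (tt N82058 F482067) (tt N107202 (iv5 F482071)) (tt N119837 (iv6 F517624)) (tt N118754 (iv7 F511904)))
theorem Q112665 : ∀ i, i < 112665 → P i := stepQ 112664 Q112664 (allL N112664 (tt N119791 (iv1 F517435)) (tt N120725 (iv0 F522374)) (tt N119783 (iv2 F517393)) (tt N107202 F482072) (tt N120110 (iv4 F519099)) (tt N82044 (iv5 D215915)) (tt N119770 F517338) (tt N119859 (iv7 F517741)))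
theorem Q112666 : ∀ i, i < 112666 → P i := stepQ 112665 Q112665 (allL N112665 (tt N100802 F482078) (tt N82500 F482079) (tt N110554 F482073) (tt N89602 F482074) (tt N82064 F482077) (tt N82052 (iv5 D215916)) (tt N96489 F482075) (tt N101157 F482076))
theorem Q112667 : ∀ i, i < 112667 → P i := stepQ 112666 Q112666 (allL N112666 (tt N105025 F482085) (tt N109470 F482086) (tt N103099 F482080) (tt N109466 F482081) (tt N82053 (iv4 D215917)) (tt N82062 F482082) (tt N103143 F482083) (tt N100335 F482084))
theorem Q112668 : ∀ i, i < 112668 → P i := stepQ 112667 Q112667 (allL N112667 (tt N111908 F482091) (tt N111563 F482092) (tt N112097 F482087) (tt N91751 F482088) (tt N82054 (iv4 D215918)) (tt N113891 (iv5 F487657)) (tt N91749 F482089) (tt N110543 F482090))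
theorem Q112669 : ∀ i, i < 112669 → P i := stepQ 112668 Q112668 (allL N112668 (tt N93651 F482097) (tt N110559 (iv0 F482098)) (tt N110561 F482093) (tt N91750 F482094) (tt N82057 F482095) (tt N118415 (iv5 F510228)) (tt N82055 (iv6 D215919)) (tt N106945 F482096))
theorem Q112670 : ∀ i, i < 112670 → P i := stepQ 112669 Q112669 (allL N112669 (tt N110682 F517308) (tt N99090 (iv0 F482100)) (tt N112677 (iv2 F482128)) (tt N119765 F517305) (tt N110802 F482099) (tt N122205 D225464) (tt N82078 (iv6 D215920)) (tt N119831 (iv7 F517594)))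
theorem Q112671 : ∀ i, i < 112671 → P i := stepQ 112670 Q112670 (allL N112670 (tt N119853 (iv1 F517708)) (tt N100467 F482102) (tt N119948 (iv2 F518191)) (tt N107198 F482101) (tt N121883 (iv4 F528890)) (tt N82079 (iv5 D215921)) (tt N122205 (iv6 F530763)) (tt N118776 (iv7 F512006)))
theorem Q112672 : ∀ i, i < 112672 → P i := stepQ 112671 Q112671 (allL N112671 (tt N116944 F502628) (tt N121424 F526289) (tt N112676 (iv2 F482124)) (tt N90737 F482103) (tt N110801 F482104) (tt N120386 (iv5 F520512)) (tt N82081 (iv6 D215922)) (tt N121422 (iv7 F526274)))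
theorem Q112673 : ∀ i, i < 112673 → P i := stepQ 112672 Q112672 (allL N112672 (tt N113419 F485415) (tt N100458 F482107) (tt N119739 (iv2 F517179)) (tt N110650 F482105) (tt N121391 (iv4 F526104)) (tt N82082 (iv5 D215923)) (tt N110800 F482106) (tt N119740 (iv7 F517186)))
theorem Q112674 : ∀ i, i < 112674 → P i := stepQ 112673 Q112673 (allL N112673 (tt N95278 F482112) (tt N95274 (iv0 F482113)) (tt N110641 F482108) (tt N82084 (iv3 D215924)) (tt N94893 F482109) (tt N110641 F482110) (tt N118267 (iv6 F509442)) (tt N105892 F482111))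
theorem Q112675 : ∀ i, i < 112675 → P i := stepQ 112674 Q112674 (allL N112674 (tt N110608 F482115) (tt N110709 (iv0 F482116)) (tt N105891 F482114) (tt N118267 (iv3 F509441)) (tt N117018 (iv4 F502994)) (tt N113422 F485433) (tt N82084 (iv6 D215925)) (tt N110708 (iv7 F482117)))
theorem Q112676 : ∀ i, i < 112676 → P i := stepQ 112675 Q112675 (allL N112675 (tt N120802 (iv1 F522803)) (tt N119556 (iv0 F516234)) (tt N120016 (iv2 F518569)) (tt N91011 F482122) (tt N111612 F482123) (tt N82096 (iv5 D215926)) (tt N119067 (iv6 F513605)) (tt N117366 (iv7 F504689)))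
theorem Q112677 : ∀ i, i < 112677 → P i := stepQ 112676 Q112676 (allL N112676 (tt N106917 F501432) (tt N109930 (iv0 F482127)) (tt N112671 F482124) (tt N101613 F482125) (tt N116710 (iv4 F501428)) (tt N109935 F482126) (tt N82100 (iv6 D215927)) (tt N116542 (iv7 F500687)))
theorem Q112678 : ∀ i, i < 112678 → P i := stepQ 112677 Q112677 (allL N112677 (tt N119863 (iv1 F517760)) (tt N99003 (iv0 F482129)) (tt N112669 F482128) (tt N120940 (iv3 F523591)) (tt N121520 (iv4 F526829)) (tt N122006 (iv5 F529595)) (tt N82101 (iv6 D215928)) (tt N119862 (iv7 F517752)))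
theorem Q112679 : ∀ i, i < 112679 → P i := stepQ 112678 Q112678 (allL N112678 (tt N99027 (iv1 F482133)) (tt N82102 (iv0 D215929)) (tt N119840 (iv2 F517641)) (tt N106467 F482131) (tt N89423 F482130) (tt N119849 (iv5 F517685)) (tt N99002 F482132) (tt N116150 (iv7 F498759)))
theorem Q112680 : ∀ i, i < 112680 → P i := stepQ 112679 Q112679 (allL N112679 (tt N82102 (iv1 D215930)) (tt N99027 F482134) (tt N116150 (iv2 F498756)) (tt N99040 (iv3 F482136)) (tt N89331 F482135) (tt N122206 D225465) (tt N89332 F482137) (tt N119840 (iv7 F517637)))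
theorem Q112681 : ∀ i, i < 112681 → P i := stepQ 112680 Q112680 (allL N112680 (tt N82103 (iv1 D215931)) (tt N102776 F482138) (tt N119757 (iv2 F517263)) (tt N108393 (iv3 F482141)) (tt N107038 F482140) (tt N102701 F482139) (tt N119865 F517765) (tt N119753 (iv7 F517244)))
theorem Q112682 : ∀ i, i < 112682 → P i := stepQ 112681 Q112681 (allL N112681 (tt N82104 (iv1 D215932)) (tt N99580 F482142) (tt N110022 F482147) (tt N108130 (iv3 F482146)) (tt N100709 F482145) (tt N100449 F482144) (tt N119334 (iv6 F515080)) (tt N110023 F482143))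
theorem Q112683 : ∀ i, i < 112683 → P i := stepQ 112682 Q112682 (allL N112682 (tt N82107 (iv1 D215933)) (tt N110716 F482154) (tt N110613 F482153) (tt N101088 (iv3 F482149)) (tt N118616 (iv4 F511177)) (tt N101087 (iv5 F482152)) (tt N119838 (iv6 F517629)) (tt N110717 F482148))
theorem Q112684 : ∀ i, i < 112684 → P i := stepQ 112683 Q112683 (allL N112683 (tt N110613 (iv1 F482162)) (tt N110717 F482163) (tt N110716 F482158) (tt N82112 F482159) (tt N91463 F482160) (tt N112584 (iv5 F482165)) (tt N91462 F482161) (tt N82107 (iv7 D215934)))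
theorem Q112685 : ∀ i, i < 112685 → P i := stepQ 112684 Q112684 (allL N112684 (tt N106678 (iv1 F482170)) (tt N82108 (iv0 D215935)) (tt N119847 (iv2 F517675)) (tt N101116 F482169) (tt N107958 F482168) (tt N118601 (iv5 F511105)) (tt N116575 (iv6 F500807)) (tt N101622 (iv7 F482171)))
theorem Q112686 : ∀ i, i < 112686 → P i := stepQ 112685 Q112685 (allL N112685 (tt N82108 (iv1 D215936)) (tt N106678 F482172) (tt N101622 F482175) (tt N99064 (iv3 F482173)) (tt N117087 F503310) (tt N107558 (iv5 F482174)) (tt N122207 D225466) (tt N119847 (iv7 F517677)))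
theorem Q112687 : ∀ i, i < 112687 → P i := stepQ 112686 Q112686 (allL N112686 (tt N114615 (iv1 F491030)) (tt N82109 (iv0 D215937)) (tt N110759 (iv2 F482178)) (tt N86233 F482176) (tt N110756 F482177) (tt N117214 (iv5 F503939)) (tt N116582 (iv6 F500841)) (tt N110762 (iv7 F482179)))
theorem Q112688 : ∀ i, i < 112688 → P i := stepQ 112687 Q112687 (allL N112687 (tt N82109 (iv1 D215938)) (tt N114615 F491029) (tt N110762 (iv2 F482182)) (tt N116592 (iv3 F500891)) (tt N110757 F482181) (tt N122208 D225467) (tt N116382 (iv6 F499809)) (tt N110759 F482180))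
theorem Q112689 : ∀ i, i < 112689 → P i := stepQ 112688 Q112688 (allL N112688 (tt N110765 F482185) (tt N116532 F500643) (tt N116533 (iv2 F500645)) (tt N84373 F482183) (tt N100482 (iv4 F482186)) (tt N82109 (iv5 D215939)) (tt N84377 F482184) (tt N116519 (iv7 F500584)))
theorem Q112690 : ∀ i, i < 112690 → P i := stepQ 112689 Q112689 (allL N112689 (tt N121940 (iv1 F529196)) (tt N121937 (iv0 F529174)) (tt N121938 F529180) (tt N109957 F482187) (tt N120192 (iv4 F519519)) (tt N82110 (iv5 D215940)) (tt N120191 F519517) (tt N121939 (iv7 F529184)))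
theorem Q112691 : ∀ i, i < 112691 → P i := stepQ 112690 Q112690 (allL N112690 (tt N121937 (iv1 F529175)) (tt N121940 F529195) (tt N121939 (iv2 F529189)) (tt N100974 F482188) (tt N122209 D225468) (tt N82111 (iv5 D215941)) (tt N101087 (iv6 F482189)) (tt N121938 F529181))
theorem Q112692 : ∀ i, i < 112692 → P i := stepQ 112691 Q112691 (allL N112691 (tt N116577 (iv1 F500823)) (tt N116575 (iv0 F500810)) (tt N116934 (iv2 F502573)) (tt N119262 (iv3 F514690)) (tt N100846 F482190) (tt N119838 (iv5 F517628)) (tt N82111 (iv6 D215942)) (tt N116932 (iv7 F502562)))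
theorem Q112693 : ∀ i, i < 112693 → P i := stepQ 112692 Q112692 (allL N112692 (tt N97142 F482194) (tt N84658 F482195) (tt N104874 F482191) (tt N82116 F482192) (tt N115289 (iv4 F494402)) (tt N82115 (iv5 D215943)) (tt N115285 (iv6 F494382)) (tt N110974 F482193))
theorem Q112694 : ∀ i, i < 112694 → P i := stepQ 112693 Q112693 (allL N112693 (tt N90544 F482200) (tt N116032 (iv0 F498149)) (tt N104875 F482196) (tt N82117 F482197) (tt N110864 F482198) (tt N96912 (iv5 F482201)) (tt N82115 (iv6 D215944)) (tt N111581 F482199))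
theorem Q112695 : ∀ i, i < 112695 → P i := stepQ 112694 Q112694 (allL N112694 (tt N96936 (iv1 F482206)) (tt N112445 (iv0 F482205)) (tt N82128 F482202) (tt N115285 (iv3 F494379)) (tt N112441 F482203) (tt N96913 F482204) (tt N82116 (iv6 D215945)) (tt N115284 (iv7 F494377)))
theorem Q112696 : ∀ i, i < 112696 → P i := stepQ 112695 Q112695 (allL N112695 (tt N96095 F482212) (tt N94411 F482213) (tt N82131 F482207) (tt N91619 F482208) (tt N82118 (iv4 D215946)) (tt N111482 F482211) (tt N91616 F482209) (tt N82132 F482210))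
theorem Q112697 : ∀ i, i < 112697 → P i := stepQ 112696 Q112696 (allL N112696 (tt N110914 F482216) (tt N110915 F482217) (tt N118953 (iv2 F512945)) (tt N104889 F482214) (tt N82126 F482215) (tt N82119 (iv5 D215947)) (tt N104887 (iv6 F482218)) (tt N112816 (iv7 F482753)))
theorem Q112698 : ∀ i, i < 112698 → P i := stepQ 112697 Q112697 (allL N112697 (tt N87876 F482222) (tt N87870 F482223) (tt N112452 F482219) (tt N108550 F482220) (tt N114236 (iv4 F489146)) (tt N121733 (iv5 F528021)) (tt N82125 (iv6 D215948)) (tt N112451 F482221))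
theorem Q112699 : ∀ i, i < 112699 → P i := stepQ 112698 Q112698 (allL N112698 (tt N96909 F482228) (tt N96933 (iv0 F482229)) (tt N96931 F482224) (tt N82126 (iv3 D215949)) (tt N113674 (iv4 F486574)) (tt N82173 F482225) (tt N82948 F482226) (tt N96930 F482227))
theorem Q112700 : ∀ i, i < 112700 → P i := stepQ 112699 Q112699 (allL N112699 (tt N112421 F482234) (tt N111120 (iv0 F482235)) (tt N112441 F482230) (tt N83782 F482231) (tt N82128 F482232) (tt N122117 (iv5 F530274)) (tt N82127 (iv6 D215950)) (tt N112442 F482233))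
theorem Q112701 : ∀ i, i < 112701 → P i := stepQ 112700 Q112700 (allL N112700 (tt N115284 F494376) (tt N82128 (iv0 D215951)) (tt N96936 (iv2 F482236)) (tt N111139 F482237) (tt N115380 (iv4 F494909)) (tt N111077 F482238) (tt N119005 (iv6 F513237)) (tt N112445 F482239))
theorem Q112702 : ∀ i, i < 112702 → P i := stepQ 112701 Q112701 (allL N112701 (tt N112445 (iv1 F482244)) (tt N96936 F482245) (tt N115284 (iv2 F494372)) (tt N111062 F482240) (tt N112442 F482241) (tt N96934 F482242) (tt N95553 F482243) (tt N82128 (iv7 D215952)))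
theorem Q112703 : ∀ i, i < 112703 → P i := stepQ 112702 Q112702 (allL N112702 (tt N94832 F482249) (tt N99883 F482250) (tt N105281 F482246) (tt N112908 F483238) (tt N94751 F482248) (tt N82133 (iv5 D215953)) (tt N118336 (iv6 F509773)) (tt N105283 F482247))
theorem Q112704 : ∀ i, i < 112704 → P i := stepQ 112703 Q112703 (allL N112703 (tt N110063 (iv1 F482254)) (tt N82136 (iv0 D215954)) (tt N82186 (iv2 F482253)) (tt N118015 F508098) (tt N103124 F482252) (tt N82185 F482251) (tt N91752 (iv6 F482256)) (tt N103122 F482255))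
theorem Q112705 : ∀ i, i < 112705 → P i := stepQ 112704 Q112704 (allL N112704 (tt N120571 (iv1 F521516)) (tt N112429 F482261) (tt N112153 F482257) (tt N101860 F482258) (tt N112079 F482259) (tt N82146 (iv5 D215955)) (tt N111384 F482262) (tt N112154 F482260))
theorem Q112706 : ∀ i, i < 112706 → P i := stepQ 112705 Q112705 (allL N112705 (tt N94057 (iv1 F482268)) (tt N106187 F482267) (tt N82147 (iv2 D215956)) (tt N94052 F482263) (tt N94365 F482264) (tt N105346 F482265) (tt N102805 F482269) (tt N109141 F482266))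
theorem Q112707 : ∀ i, i < 112707 → P i := stepQ 112706 Q112706 (allL N112706 (tt N98073 F482275) (tt N102707 F482276) (tt N102805 F482270) (tt N82150 F482271) (tt N102817 F482272) (tt N100146 F482273) (tt N82147 (iv6 D215957)) (tt N102815 F482274))
theorem Q112708 : ∀ i, i < 112708 → P i := stepQ 112707 Q112707 (allL N112707 (tt N94055 F482281) (tt N104248 (iv0 F482282)) (tt N118424 (iv2 F510276)) (tt N82155 (iv3 D215958)) (tt N93658 F482277) (tt N111649 F482278) (tt N102694 F482279) (tt N111648 F482280))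
theorem Q112709 : ∀ i, i < 112709 → P i := stepQ 112708 Q112708 (allL N112708 (tt N99498 F482287) (tt N99499 F482288) (tt N93936 F482283) (tt N111612 F482284) (tt N95529 F482285) (tt N82156 (iv5 D215959)) (tt N93930 F482289) (tt N101928 F482286))
theorem Q112710 : ∀ i, i < 112710 → P i := stepQ 112709 Q112709 (allL N112709 (tt N89575 (iv1 F482294)) (tt N82161 (iv0 D215960)) (tt N96279 (iv2 F482293)) (tt N84244 F482292) (tt N105585 F482291) (tt N108355 F482290) (tt N116729 (iv6 F501533)) (tt N96285 F482295))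
theorem Q112711 : ∀ i, i < 112711 → P i := stepQ 112710 Q112710 (allL N112710 (tt N91060 F482301) (tt N109331 (iv0 F482300)) (tt N96287 F482296) (tt N82163 F482297) (tt N106229 F482298) (tt N113177 (iv5 F484337)) (tt N82161 (iv6 D215961)) (tt N89576 F482299))
theorem Q112712 : ∀ i, i < 112712 → P i := stepQ 112711 Q112711 (allL N112711 (tt N99442 F482305) (tt N107621 F482306) (tt N107620 F482302) (tt N113177 (iv3 F484336)) (tt N113456 (iv4 F485573)) (tt N82163 (iv5 D215962)) (tt N99917 F482303) (tt N107619 F482304))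
theorem Q112713 : ∀ i, i < 112713 → P i := stepQ 112712 Q112712 (allL N112712 (tt N108081 F482311) (tt N109622 F482312) (tt N107640 F482307) (tt N121338 (iv3 F525849)) (tt N108347 F482310) (tt N82167 (iv5 D215963)) (tt N108385 F482308) (tt N107642 F482309))
theorem Q112714 : ∀ i, i < 112714 → P i := stepQ 112713 Q112713 (allL N112713 (tt N96916 F482317) (tt N110912 F482318) (tt N103977 F482313) (tt N103218 F482314) (tt N82174 (iv4 D215964)) (tt N101811 F482315) (tt N97231 (iv6 F482319)) (tt N82481 F482316))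
theorem Q112715 : ∀ i, i < 112715 → P i := stepQ 112714 Q112714 (allL N112714 (tt N112730 (iv1 F482403)) (tt N100649 (iv0 F482324)) (tt N100528 F482320) (tt N97198 F482321) (tt N97231 F482322) (tt N87734 F482323) (tt N82174 (iv6 D215965)) (tt N112731 (iv7 F482408)))
theorem Q112716 : ∀ i, i < 112716 → P i := stepQ 112715 Q112715 (allL N112715 (tt N115361 (iv1 F494800)) (tt N82177 (iv0 D215966)) (tt N119269 (iv2 F514730)) (tt N118933 (iv3 F512827)) (tt N120788 (iv4 F522718)) (tt N95884 F482325) (tt N95736 F482326) (tt N119346 (iv7 F515139)))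
theorem Q112717 : ∀ i, i < 112717 → P i := stepQ 112716 Q112716 (allL N112716 (tt N82177 (iv1 D215967)) (tt N115361 (iv0 F494799)) (tt N119346 (iv2 F515135)) (tt N117411 (iv3 F504899)) (tt N109249 F482328) (tt N95885 F482327) (tt N115492 (iv6 F495475)) (tt N119269 (iv7 F514733)))
theorem Q112718 : ∀ i, i < 112718 → P i := stepQ 112717 Q112717 (allL N112717 (tt N119346 F515141) (tt N119269 (iv0 F514735)) (tt N115361 (iv2 F494794)) (tt N115486 (iv3 F495440)) (tt N87096 F482329) (tt N108259 F482330) (tt N115485 F495438) (tt N82177 (iv7 D215968)))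
theorem Q112719 : ∀ i, i < 112719 → P i := stepQ 112718 Q112718 (allL N112718 (tt N103014 F482336) (tt N103013 (iv0 F482337)) (tt N82180 F482331) (tt N111762 F482332) (tt N101940 F482333) (tt N109007 F482334) (tt N82178 (iv6 D215969)) (tt N103015 F482335))
theorem Q112720 : ∀ i, i < 112720 → P i := stepQ 112719 Q112719 (allL N112719 (tt N97361 (iv1 F482341)) (tt N82179 (iv0 D215970)) (tt N96724 (iv2 F482340)) (tt N91591 F482339) (tt N112724 (iv4 F482371)) (tt N112293 F482338) (tt N112294 (iv6 F482343)) (tt N101939 F482342))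
theorem Q112721 : ∀ i, i < 112721 → P i := stepQ 112720 Q112720 (allL N112720 (tt N122169 (iv1 F530557)) (tt N112296 (iv0 F482350)) (tt N101940 F482344) (tt N101851 F482345) (tt N82180 F482346) (tt N96606 F482347) (tt N82179 (iv6 D215971)) (tt N102995 F482348))
theorem Q112722 : ∀ i, i < 112722 → P i := stepQ 112721 Q112721 (allL N112721 (tt N103015 (iv1 F482354)) (tt N82180 (iv0 D215972)) (tt N103014 (iv2 F482353)) (tt N117466 (iv3 F505179)) (tt N118029 (iv4 F508177)) (tt N109301 F482351) (tt N101197 F482352) (tt N103013 F482355))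
theorem Q112723 : ∀ i, i < 112723 → P i := stepQ 112722 Q112722 (allL N112722 (tt N96303 F482361) (tt N103123 F482362) (tt N103124 F482356) (tt N82238 F482357) (tt N82186 (iv4 D215973)) (tt N101824 F482358) (tt N99577 F482359) (tt N101233 F482360))
theorem Q112724 : ∀ i, i < 112724 → P i := stepQ 112723 Q112723 (allL N112723 (tt N107252 F482368) (tt N101780 (iv0 F482369)) (tt N107276 F482363) (tt N82190 F482364) (tt N97329 F482365) (tt N111932 F482366) (tt N82189 (iv6 D215974)) (tt N107937 F482367))
theorem Q112725 : ∀ i, i < 112725 → P i := stepQ 112724 Q112724 (allL N112724 (tt N82199 (iv1 F482374)) (tt N82193 (iv0 D215975)) (tt N82204 (iv2 F482373)) (tt N82210 (iv3 F482376)) (tt N112719 F482371) (tt N98302 F482370) (tt N112088 F482372) (tt N82200 F482375))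
theorem Q112726 : ∀ i, i < 112726 → P i := stepQ 112725 Q112725 (allL N112725 (tt N93423 F482378) (tt N93421 (iv0 F482379)) (tt N118500 (iv2 F510702)) (tt N82194 (iv3 D215976)) (tt N96951 F482377) (tt N118500 (iv5 F510704)) (tt N121613 (iv6 F527338)) (tt N118032 (iv7 F508196)))
theorem Q112727 : ∀ i, i < 112727 → P i := stepQ 112726 Q112726 (allL N112726 (tt N118519 (iv1 F510789)) (tt N117077 (iv0 F503257)) (tt N113367 (iv2 F485201)) (tt N121613 (iv3 F527337)) (tt N82195 F482380) (tt N113346 (iv5 F485126)) (tt N82194 (iv6 D215977)) (tt N118434 (iv7 F510337)))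
theorem Q112728 : ∀ i, i < 112728 → P i := stepQ 112727 Q112727 (allL N112727 (tt N83814 F482385) (tt N88204 F482386) (tt N87889 F482381) (tt N88219 F482382) (tt N111117 F482383) (tt N82206 (iv5 D215978)) (tt N110954 (iv6 F482387)) (tt N88203 F482384))
theorem Q112729 : ∀ i, i < 112729 → P i := stepQ 112728 Q112728 (allL N112728 (tt N113919 F487789) (tt N88176 (iv0 F482392)) (tt N87890 F482388) (tt N88220 F482389) (tt N82207 F482390) (tt N115978 (iv5 F497879)) (tt N82206 (iv6 D215979)) (tt N104734 F482391))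
theorem Q112730 : ∀ i, i < 112730 → P i := stepQ 112729 Q112729 (allL N112729 (tt N102711 F482398) (tt N102642 F482399) (tt N102717 F482393) (tt N109128 F482394) (tt N82209 (iv4 D215980)) (tt N105121 F482397) (tt N104731 F482395) (tt N102716 F482396))
theorem Q112731 : ∀ i, i < 112731 → P i := stepQ 112730 Q112730 (allL N112730 (tt N104198 F482402) (tt N112714 F482403) (tt N82217 F482400) (tt N117340 (iv3 F504543)) (tt N87882 F482401) (tt N82215 (iv5 D215981)) (tt N87881 (iv6 F482404)) (tt N118913 (iv7 F512719)))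
theorem Q112732 : ∀ i, i < 112732 → P i := stepQ 112731 Q112731 (allL N112731 (tt N118913 (iv1 F512721)) (tt N82217 (iv0 D215982)) (tt N104198 (iv2 F482406)) (tt N116051 (iv3 F498237)) (tt N104197 F482405) (tt N115765 F496749) (tt N111140 F482407) (tt N112714 F482408))
theorem Q112733 : ∀ i, i < 112733 → P i := stepQ 112732 Q112732 (allL N112732 (tt N91436 (iv1 F482415)) (tt N91281 (iv0 F482413)) (tt N91381 F482409) (tt N82219 (iv3 D215983)) (tt N91273 (iv4 F482412)) (tt N112379 F482414) (tt N103133 F482410) (tt N91384 F482411))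
theorem Q112734 : ∀ i, i < 112734 → P i := stepQ 112733 Q112733 (allL N112733 (tt N97092 F482420) (tt N97064 (iv0 F482421)) (tt N97089 F482416) (tt N112379 F482417) (tt N113880 (iv4 F487596)) (tt N82219 (iv5 D215984)) (tt N100791 F482418) (tt N97090 F482419))
theorem Q112735 : ∀ i, i < 112735 → P i := stepQ 112734 Q112734 (allL N112734 (tt N94570 F482427) (tt N91357 (iv0 F482428)) (tt N94080 F482422) (tt N82223 (iv3 D215985)) (tt N94285 F482423) (tt N109140 F482424) (tt N102724 F482425) (tt N82584 F482426))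
theorem Q112736 : ∀ i, i < 112736 → P i := stepQ 112735 Q112735 (allL N112735 (tt N112164 (iv1 F482434)) (tt N97935 (iv0 F482433)) (tt N112372 F482429) (tt N82226 F482430) (tt N82229 F482431) (tt N122210 D225469) (tt N82225 (iv6 D215986)) (tt N106492 F482432))
theorem Q112737 : ∀ i, i < 112737 → P i := stepQ 112736 Q112736 (allL N112736 (tt N106864 F482439) (tt N120183 (iv0 F519480)) (tt N106491 F482435) (tt N122210 (iv3 F530796)) (tt N110505 F482438) (tt N82226 (iv5 D215987)) (tt N106380 F482436) (tt N106493 F482437))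
theorem Q112738 : ∀ i, i < 112738 → P i := stepQ 112737 Q112737 (allL N112737 (tt N99902 F482445) (tt N104970 F482446) (tt N108354 F482440) (tt N110048 F482441) (tt N82232 (iv4 D215988)) (tt N108330 F482442) (tt N99461 F482443) (tt N82575 F482444))
theorem Q112739 : ∀ i, i < 112739 → P i := stepQ 112738 Q112738 (allL N112738 (tt N88927 F482451) (tt N109777 F482452) (tt N82244 F482447) (tt N86082 F482448) (tt N82243 (iv4 D215989)) (tt N105605 F482449) (tt N114590 (iv6 F490902)) (tt N83286 F482450))
theorem Q112740 : ∀ i, i < 112740 → P i := stepQ 112739 Q112739 (allL N112739 (tt N104102 F482456) (tt N120297 F520091) (tt N82283 F482453) (tt N84982 F482454) (tt N122211 D225470) (tt N82247 (iv5 D215990)) (tt N117378 (iv6 F504741)) (tt N82285 F482455))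
theorem Q112741 : ∀ i, i < 112741 → P i := stepQ 112740 Q112740 (allL N112740 (tt N82289 (iv1 F482461)) (tt N82249 (iv0 D215991)) (tt N82286 (iv2 F482459)) (tt N114689 F491374) (tt N122139 (iv4 F530389)) (tt N105296 F482457) (tt N90948 F482458) (tt N82287 F482460))
theorem Q112742 : ∀ i, i < 112742 → P i := stepQ 112741 Q112741 (allL N112741 (tt N122212 D225471) (tt N121504 (iv0 F526735)) (tt N82288 F482462) (tt N112772 (iv3 F482586)) (tt N82249 (iv4 D215992)) (tt N121901 (iv5 F528970)) (tt N82251 F482463) (tt N122213 D225472))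
theorem Q112743 : ∀ i, i < 112743 → P i := stepQ 112742 Q112742 (allL N112742 (tt N82287 (iv1 F482466)) (tt N82286 F482467) (tt N82289 F482464) (tt N114530 (iv3 F490621)) (tt N122213 (iv4 F530812)) (tt N82250 F482465) (tt N116180 (iv6 F498884)) (tt N82249 (iv7 D215993)))
theorem Q112744 : ∀ i, i < 112744 → P i := stepQ 112743 Q112743 (allL N112743 (tt N120317 (iv1 F520168)) (tt N120318 (iv0 F520172)) (tt N122214 D225473) (tt N82251 (iv3 D215994)) (tt N112773 (iv4 F482589)) (tt N82295 F482468) (tt N112772 F482587) (tt N111956 F482469))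
theorem Q112745 : ∀ i, i < 112745 → P i := stepQ 112744 Q112744 (allL N112744 (tt N82254 (iv1 D215995)) (tt N82264 F482470) (tt N82262 F482474) (tt N88936 F482475) (tt N89829 (iv4 F482472)) (tt N113073 (iv5 F483852)) (tt N88934 (iv6 F482473)) (tt N82261 F482471))
theorem Q112746 : ∀ i, i < 112746 → P i := stepQ 112745 Q112745 (allL N112745 (tt N119566 (iv1 F516294)) (tt N116165 (iv0 F498830)) (tt N82263 F482476) (tt N114294 (iv3 F489440)) (tt N122215 D225474) (tt N82254 (iv5 D215996)) (tt N82255 F482477) (tt N114536 (iv7 F490657)))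
theorem Q112747 : ∀ i, i < 112747 → P i := stepQ 112746 Q112746 (allL N112746 (tt N100074 F482480) (tt N100065 F482481) (tt N82268 F482478) (tt N113991 (iv3 F488095)) (tt N82255 (iv4 D215997)) (tt N108241 F482479) (tt N122215 (iv6 F530826)) (tt N113990 F488091))
theorem Q112748 : ∀ i, i < 112748 → P i := stepQ 112747 Q112747 (allL N112747 (tt N105204 F482484) (tt N114298 F489465) (tt N105445 F482482) (tt N82257 (iv3 D215998)) (tt N94639 F482483) (tt N118630 (iv5 F511224)) (tt N121316 (iv6 F525721)) (tt N120548 (iv7 F521385)))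
theorem Q112749 : ∀ i, i < 112749 → P i := stepQ 112748 Q112748 (allL N112748 (tt N86401 F482487) (tt N114686 F491367) (tt N111321 F482485) (tt N82261 (iv3 D215999)) (tt N104690 (iv4 F482488)) (tt N122216 D225475) (tt N114268 (iv6 F489308)) (tt N88936 F482486))
theorem Q112750 : ∀ i, i < 112750 → P i := stepQ 112749 Q112749 (allL N112749 (tt N113503 (iv1 F485806)) (tt N113502 F485805) (tt N113504 (iv2 F485811)) (tt N122216 (iv3 F530829)) (tt N118013 (iv4 F508085)) (tt N82261 (iv5 D216000)) (tt N122217 D225476) (tt N113073 F483854))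
theorem Q112751 : ∀ i, i < 112751 → P i := stepQ 112750 Q112750 (allL N112750 (tt N114536 F490659) (tt N82263 (iv0 D216001)) (tt N119566 (iv2 F516290)) (tt N113501 (iv3 F485798)) (tt N112976 (iv4 F483416)) (tt N119565 F516289) (tt N112975 F483414) (tt N116165 (iv7 F498829)))
theorem Q112752 : ∀ i, i < 112752 → P i := stepQ 112751 Q112751 (allL N112751 (tt N82263 (iv1 D216002)) (tt N114536 (iv0 F490658)) (tt N116165 (iv2 F498827)) (tt N103037 (iv3 F482490)) (tt N116154 (iv4 F498777)) (tt N103036 F482489) (tt N107440 F482491) (tt N119566 (iv7 F516292)))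
theorem Q112753 : ∀ i, i < 112753 → P i := stepQ 112752 Q112752 (allL N112752 (tt N122218 D225477) (tt N116750 (iv0 F501630)) (tt N122215 (iv2 F530823)) (tt N117262 (iv3 F504161)) (tt N82263 (iv4 D216003)) (tt N99777 F482493) (tt N82268 F482492) (tt N121099 (iv7 F524510)))
theorem Q112754 : ∀ i, i < 112754 → P i := stepQ 112753 Q112753 (allL N112753 (tt N116165 F498832) (tt N119566 (iv0 F516293)) (tt N114536 (iv2 F490655)) (tt N82289 F482494) (tt N121099 (iv4 F524508)) (tt N82264 F482495) (tt N106400 F482496) (tt N82263 (iv7 D216004)))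
theorem Q112755 : ∀ i, i < 112755 → P i := stepQ 112754 Q112754 (allL N112754 (tt N120131 (iv1 F519228)) (tt N120130 (iv0 F519221)) (tt N100052 F482497) (tt N110073 F482498) (tt N82266 (iv4 D216005)) (tt N111000 F482501) (tt N110072 F482499) (tt N100050 F482500))
theorem Q112756 : ∀ i, i < 112756 → P i := stepQ 112755 Q112755 (allL N112755 (tt N120130 (iv1 F519222)) (tt N120131 (iv0 F519227)) (tt N100050 F482502) (tt N105817 F482503) (tt N82267 (iv4 D216006)) (tt N117321 (iv5 F504452)) (tt N113023 (iv6 F483602)) (tt N100052 F482504))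
theorem Q112757 : ∀ i, i < 112757 → P i := stepQ 112756 Q112756 (allL N112756 (tt N82304 (iv1 F482508)) (tt N107390 F482509) (tt N111970 (iv2 F482507)) (tt N82268 (iv3 D216007)) (tt N82295 F482505) (tt N117017 F502988) (tt N117262 (iv6 F504162)) (tt N111969 F482506))
theorem Q112758 : ∀ i, i < 112758 → P i := stepQ 112757 Q112757 (allL N112757 (tt N116442 F500139) (tt N120128 (iv0 F519210)) (tt N108241 F482510) (tt N117017 F502987) (tt N108239 F482511) (tt N82268 (iv5 D216008)) (tt N121346 (iv6 F525887)) (tt N117023 (iv7 F503010)))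
theorem Q112759 : ∀ i, i < 112759 → P i := stepQ 112758 Q112758 (allL N112758 (tt N85414 F482517) (tt N88880 (iv0 F482518)) (tt N82271 F482512) (tt N83934 F482513) (tt N89673 F482514) (tt N107409 F482515) (tt N82269 (iv6 D216009)) (tt N86333 F482516))
theorem Q112760 : ∀ i, i < 112760 → P i := stepQ 112759 Q112759 (allL N112759 (tt N82271 (iv1 D216010)) (tt N86333 F482519) (tt N88880 F482522) (tt N121784 (iv3 F528294)) (tt N121692 (iv4 F527777)) (tt N116479 (iv5 F500353)) (tt N88876 (iv6 F482521)) (tt N85414 F482520))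
theorem Q112761 : ∀ i, i < 112761 → P i := stepQ 112760 Q112760 (allL N112760 (tt N118355 (iv1 F509880)) (tt N82272 (iv0 D216011)) (tt N95133 (iv2 F482525)) (tt N111044 (iv3 F482526)) (tt N88447 F482523) (tt N118969 (iv5 F513032)) (tt N86398 F482524) (tt N118641 (iv7 F511295)))
theorem Q112762 : ∀ i, i < 112762 → P i := stepQ 112761 Q112761 (allL N112761 (tt N82272 (iv1 D216012)) (tt N118355 (iv0 F509881)) (tt N118641 (iv2 F511293)) (tt N117274 (iv3 F504229)) (tt N105517 (iv4 F482528)) (tt N117273 (iv5 F504226)) (tt N94651 (iv6 F482529)) (tt N95133 F482527))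
theorem Q112763 : ∀ i, i < 112763 → P i := stepQ 112762 Q112762 (allL N112762 (tt N100630 (iv1 F482533)) (tt N82276 (iv0 D216013)) (tt N100629 (iv2 F482532)) (tt N91728 F482531) (tt N100303 F482534) (tt N96692 F482530) (tt N112841 F482904) (tt N85120 F482535))
theorem Q112764 : ∀ i, i < 112764 → P i := stepQ 112763 Q112763 (allL N112763 (tt N100629 F482542) (tt N85120 F482540) (tt N82276 (iv2 D216014)) (tt N101423 F482537) (tt N85113 F482541) (tt N101073 F482538) (tt N122219 D225478) (tt N100630 F482539))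
theorem Q112765 : ∀ i, i < 112765 → P i := stepQ 112764 Q112764 (allL N112764 (tt N85115 F482547) (tt N84799 F482548) (tt N85113 F482543) (tt N100600 F482544) (tt N82276 (iv4 D216015)) (tt N85169 F482546) (tt N90408 F482549) (tt N85114 F482545))
theorem Q112766 : ∀ i, i < 112766 → P i := stepQ 112765 Q112765 (allL N112765 (tt N107834 F482552) (tt N112367 F482554) (tt N122219 (iv2 F530844)) (tt N82277 F482550) (tt N90408 F482551) (tt N112373 (iv5 F482553)) (tt N82276 (iv6 D216016)) (tt N121168 (iv7 F524908)))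
theorem Q112767 : ∀ i, i < 112767 → P i := stepQ 112766 Q112766 (allL N112766 (tt N110435 F482558) (tt N96396 (iv0 F482560)) (tt N119428 (iv2 F515562)) (tt N100561 F482555) (tt N82278 (iv4 D216017)) (tt N101424 (iv5 F482559)) (tt N96668 F482556) (tt N101425 F482557))
theorem Q112768 : ∀ i, i < 112768 → P i := stepQ 112767 Q112767 (allL N112767 (tt N95705 (iv1 F482564)) (tt N82279 (iv0 D216018)) (tt N95725 (iv2 F482563)) (tt N115030 (iv3 F493119)) (tt N101063 F482566) (tt N93599 F482561) (tt N94902 F482562) (tt N93598 F482565))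
theorem Q112769 : ∀ i, i < 112769 → P i := stepQ 112768 Q112768 (allL N112768 (tt N101934 F482571) (tt N101933 F482572) (tt N97575 F482567) (tt N96716 F482568) (tt N118552 (iv4 F510909)) (tt N82279 (iv5 D216019)) (tt N82280 F482569) (tt N95726 F482570))
theorem Q112770 : ∀ i, i < 112770 → P i := stepQ 112769 Q112769 (allL N112769 (tt N92500 F482576) (tt N106451 (iv0 F482577)) (tt N106454 F482573) (tt N106465 F482574) (tt N82280 (iv4 D216020)) (tt N121737 (iv5 F528040)) (tt N118552 (iv6 F510910)) (tt N106452 F482575))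
theorem Q112771 : ∀ i, i < 112771 → P i := stepQ 112770 Q112770 (allL N112770 (tt N113507 (iv1 F485827)) (tt N114681 F491343) (tt N89697 F482578) (tt N82283 F482579) (tt N109788 F482580) (tt N82281 (iv5 D216021)) (tt N83445 (iv6 F482582)) (tt N88834 F482581))
theorem Q112772 : ∀ i, i < 112772 → P i := stepQ 112771 Q112771 (allL N112771 (tt N82283 (iv1 D216022)) (tt N82285 F482583) (tt N120297 F520090) (tt N113502 F485804) (tt N122220 D225479) (tt N104103 F482585) (tt N120246 F519795) (tt N104102 F482584))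
theorem Q112773 : ∀ i, i < 112773 → P i := stepQ 112772 Q112772 (allL N112772 (tt N121105 F524540) (tt N112783 F504167) (tt N122211 (iv2 F530802)) (tt N112741 F482586) (tt N82283 (iv4 D216023)) (tt N122221 D225480) (tt N112743 (iv6 F482587)) (tt N120296 (iv7 F520088)))
theorem Q112774 : ∀ i, i < 112774 → P i := stepQ 112773 Q112773 (allL N112773 (tt N110872 F482592) (tt N112591 F482593) (tt N117378 (iv2 F504738)) (tt N83445 F482588) (tt N112743 F482589) (tt N112548 F482590) (tt N82283 (iv6 D216024)) (tt N88593 F482591))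
theorem Q112775 : ∀ i, i < 112775 → P i := stepQ 112774 Q112774 (allL N112774 (tt N113258 F484740) (tt N107730 (iv0 F482598)) (tt N83267 F482595) (tt N82284 (iv3 D216025)) (tt N84866 F482596) (tt N117557 (iv5 F505682)) (tt N84865 F482597) (tt N113259 (iv7 F484744)))
theorem Q112776 : ∀ i, i < 112776 → P i := stepQ 112775 Q112775 (allL N112775 (tt N107885 F482603) (tt N95100 F482602) (tt N91625 F482599) (tt N117557 (iv3 F505680)) (tt N118850 (iv4 F512409)) (tt N82284 (iv5 D216026)) (tt N94712 F482600) (tt N107884 F482601))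
theorem Q112777 : ∀ i, i < 112777 → P i := stepQ 112776 Q112776 (allL N112776 (tt N112783 F504166) (tt N121105 (iv0 F524539)) (tt N120296 (iv2 F520086)) (tt N121105 (iv3 F524537)) (tt N82285 (iv4 D216027)) (tt N122222 D225481) (tt N84979 F482604) (tt N122211 (iv7 F530803)))
theorem Q112778 : ∀ i, i < 112778 → P i := stepQ 112777 Q112777 (allL N112777 (tt N114680 (iv1 F491339)) (tt N114679 (iv0 F491334)) (tt N89686 (iv2 F482608)) (tt N82286 (iv3 D216028)) (tt N122223 D225482) (tt N85128 F482605) (tt N100983 F482606) (tt N89690 F482607))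
theorem Q112779 : ∀ i, i < 112779 → P i := stepQ 112778 Q112778 (allL N112778 (tt N122141 (iv1 F530402)) (tt N120259 (iv0 F519865)) (tt N122139 F530391) (tt N122224 D225483) (tt N82286 (iv4 D216029)) (tt N121903 (iv5 F528978)) (tt N100984 F482609) (tt N122019 (iv7 F529671)))
theorem Q112780 : ∀ i, i < 112780 → P i := stepQ 112779 Q112779 (allL N112779 (tt N86400 (iv1 F491804)) (tt N86402 F491805) (tt N114690 F491380) (tt N82287 (iv3 D216030)) (tt N111952 (iv4 F482611)) (tt N114777 (iv5 F491800)) (tt N107393 F482610) (tt N114689 (iv7 F491375)))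
theorem Q112781 : ∀ i, i < 112781 → P i := stepQ 112780 Q112780 (allL N112780 (tt N120259 (iv1 F519866)) (tt N122141 F530401) (tt N122019 (iv2 F529668)) (tt N111953 F482612) (tt N82287 (iv4 D216031)) (tt N122225 D225484) (tt N107394 F482613) (tt N122139 (iv7 F530392)))
theorem Q112782 : ∀ i, i < 112782 → P i := stepQ 112781 Q112781 (allL N112781 (tt N122213 (iv1 F530815)) (tt N82288 (iv0 D216032)) (tt N122212 F530807) (tt N121504 (iv3 F526732)) (tt N101281 F482614) (tt N122226 D225485) (tt N101280 F482615) (tt N121504 (iv7 F526734)))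
theorem Q112783 : ∀ i, i < 112783 → P i := stepQ 112782 Q112782 (allL N112782 (tt N82288 (iv1 D216033)) (tt N122213 F530814) (tt N121504 (iv2 F526731)) (tt N122227 D225486) (tt N111954 F518310) (tt N122228 D225487) (tt N119967 (iv6 F518309)) (tt N122212 (iv7 F530808)))
theorem Q112784 : ∀ i, i < 112784 → P i := stepQ 112783 Q112783 (allL N112783 (tt N112772 (iv1 F504167)) (tt N112776 (iv0 F504166)) (tt N122229 D225488) (tt N82288 (iv3 D216034)) (tt N117262 F504163) (tt N121891 (iv5 F528937)) (tt N82295 F482616) (tt N121100 (iv7 F524513)))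
theorem Q112785 : ∀ i, i < 112785 → P i := stepQ 112784 Q112784 (allL N112784 (tt N121902 F528976) (tt N121895 (iv0 F528953)) (tt N121901 F528972) (tt N121891 (iv3 F528936)) (tt N106453 F482617) (tt N82288 (iv5 D216035)) (tt N121901 F528973) (tt N121738 (iv7 F528044)))
theorem Q112786 : ∀ i, i < 112786 → P i := stepQ 112785 Q112785 (allL N112785 (tt N121504 (iv1 F526736)) (tt N122212 F530809) (tt N122213 (iv2 F530810)) (tt N121100 (iv3 F524511)) (tt N82289 F482618) (tt N121738 (iv5 F528045)) (tt N111958 F482619) (tt N82288 (iv7 D216036)))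
theorem Q112787 : ∀ i, i < 112787 → P i := stepQ 112786 Q112786 (allL N112786 (tt N113964 (iv1 F487995)) (tt N113605 (iv0 F486271)) (tt N110141 F482620) (tt N82293 F482621) (tt N100956 F482622) (tt N85043 F482623) (tt N82291 (iv6 D216037)) (tt N100955 F482624))
theorem Q112788 : ∀ i, i < 112788 → P i := stepQ 112787 Q112787 (allL N112787 (tt N105187 F482630) (tt N105186 F482631) (tt N100869 F482625) (tt N100994 F482626) (tt N82293 F482627) (tt N108021 F482628) (tt N82292 (iv6 D216038)) (tt N100992 F482629))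
theorem Q112789 : ∀ i, i < 112789 → P i := stepQ 112788 Q112788 (allL N112788 (tt N122230 D225489) (tt N120489 (iv0 F521041)) (tt N122231 D225490) (tt N82294 (iv3 D216039)) (tt N118297 (iv4 F509575)) (tt N111967 F482632) (tt N121502 (iv6 F526725)) (tt N100899 F482633))
theorem Q112790 : ∀ i, i < 112790 → P i := stepQ 112789 Q112789 (allL N112789 (tt N107391 F519204) (tt N122133 (iv0 F530362)) (tt N100889 F482634) (tt N121502 (iv3 F526724)) (tt N100581 F482635) (tt N121501 F526723) (tt N82294 (iv6 D216040)) (tt N122232 D225491))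
theorem Q112791 : ∀ i, i < 112791 → P i := stepQ 112790 Q112790 (allL N112790 (tt N120490 (iv1 F521048)) (tt N82295 (iv0 D216041)) (tt N100875 (iv2 F482640)) (tt N116551 F500726) (tt N100578 F482641) (tt N120289 (iv5 F520045)) (tt N88488 F482642) (tt N120371 (iv7 F520426)))
theorem Q112792 : ∀ i, i < 112792 → P i := stepQ 112791 Q112791 (allL N112791 (tt N82295 (iv1 D216042)) (tt N120490 F521049) (tt N120371 (iv2 F520423)) (tt N88486 (iv3 F482636)) (tt N100878 F482637) (tt N120290 (iv5 F520056)) (tt N88489 F482638) (tt N100875 (iv7 F482639)))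
theorem Q112793 : ∀ i, i < 112793 → P i := stepQ 112792 Q112792 (allL N112792 (tt N100875 (iv1 F482644)) (tt N120371 (iv0 F520428)) (tt N82295 (iv2 D216043)) (tt N122214 (iv3 F530816)) (tt N111970 F482643) (tt N122214 (iv5 F530818)) (tt N122229 (iv6 F530893)) (tt N120490 (iv7 F521047)))
theorem Q112794 : ∀ i, i < 112794 → P i := stepQ 112793 Q112793 (allL N112793 (tt N96395 (iv1 F482645)) (tt N82299 (iv0 D216044)) (tt N96394 (iv2 F482653)) (tt N114920 (iv3 F492536)) (tt N117768 (iv4 F506872)) (tt N118055 (iv5 F508322)) (tt N114573 (iv6 F490829)) (tt N96387 (iv7 F482654)))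
theorem Q112795 : ∀ i, i < 112795 → P i := stepQ 112794 Q112794 (allL N112794 (tt N82299 (iv1 D216045)) (tt N96395 F482646) (tt N96387 F482651) (tt N105609 (iv3 F482648)) (tt N104790 (iv4 F482649)) (tt N105608 F482647) (tt N95992 (iv6 F482650)) (tt N96394 F482652))
theorem Q112796 : ∀ i, i < 112796 → P i := stepQ 112795 Q112795 (allL N112795 (tt N116554 (iv1 F500740)) (tt N116565 F500760) (tt N116564 F500757) (tt N120314 (iv3 F520156)) (tt N82303 (iv4 D216046)) (tt N118462 (iv5 F510502)) (tt N122233 D225492) (tt N116563 F500754))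
theorem Q112797 : ∀ i, i < 112797 → P i := stepQ 112796 Q112796 (allL N112796 (tt N121229 (iv1 F525259)) (tt N117174 (iv0 F503758)) (tt N116973 (iv2 F502774)) (tt N82304 F482655) (tt N122233 (iv4 F530916)) (tt N106827 F482656) (tt N82303 (iv6 D216047)) (tt N121231 F525269))
theorem Q112798 : ∀ i, i < 112798 → P i := stepQ 112797 Q112797 (allL N112797 (tt N111970 (iv1 F482659)) (tt N111969 F482660) (tt N107390 F482657) (tt N121231 F525268) (tt N120316 (iv4 F520163)) (tt N119096 (iv5 F513772)) (tt N99387 F482658) (tt N82304 (iv7 D216048)))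
theorem Q112799 : ∀ i, i < 112799 → P i := stepQ 112798 Q112798 (allL N112798 (tt N108240 F482665) (tt N106503 F482666) (tt N82324 F482661) (tt N94242 F482662) (tt N117023 (iv4 F503007)) (tt N82307 (iv5 D216049)) (tt N92293 F482663) (tt N108239 F482664))
theorem Q112800 : ∀ i, i < 112800 → P i := stepQ 112799 Q112799 (allL N112799 (tt N82310 (iv1 D216050)) (tt N117889 (iv0 F507455)) (tt N119265 (iv2 F514705)) (tt N93391 (iv3 F482670)) (tt N94215 F482669) (tt N106461 F482668) (tt N120736 (iv6 F522429)) (tt N110654 F482667))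
theorem Q112801 : ∀ i, i < 112801 → P i := stepQ 112800 Q112800 (allL N112800 (tt N106968 F482673) (tt N106965 (iv0 F482674)) (tt N94367 F482671) (tt N117032 (iv3 F503057)) (tt N107807 F482672) (tt N115353 (iv5 F494745)) (tt N82311 (iv6 D216051)) (tt N116539 (iv7 F500676)))
theorem Q112802 : ∀ i, i < 112802 → P i := stepQ 112801 Q112801 (allL N112801 (tt N116685 F501298) (tt N92400 (iv0 F482677)) (tt N94370 F482675) (tt N112802 (iv3 F482679)) (tt N110445 F482676) (tt N117822 (iv5 F507126)) (tt N82312 (iv6 D216052)) (tt N118484 (iv7 F510621)))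
theorem Q112803 : ∀ i, i < 112803 → P i := stepQ 112802 Q112802 (allL N112802 (tt N94251 F482682) (tt N111616 (iv0 F482684)) (tt N112041 F482678) (tt N112801 F482679) (tt N100350 F482680) (tt N94244 F482683) (tt N82313 (iv6 D216053)) (tt N94243 F482681))
theorem Q112804 : ∀ i, i < 112804 → P i := stepQ 112803 Q112803 (allL N112803 (tt N118593 F511063) (tt N119952 (iv0 F518219)) (tt N118561 (iv2 F510933)) (tt N82316 F482685) (tt N119100 (iv4 F513787)) (tt N107099 F482686) (tt N82315 (iv6 D216054)) (tt N120607 (iv7 F521728)))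
theorem Q112805 : ∀ i, i < 112805 → P i := stepQ 112804 Q112804 (allL N112804 (tt N89527 (iv1 F482690)) (tt N113021 (iv0 F483595)) (tt N110100 F482687) (tt N89610 F482688) (tt N113597 (iv4 F486228)) (tt N89608 F482689) (tt N82320 (iv6 D216055)) (tt N115990 (iv7 F497933)))
theorem Q112806 : ∀ i, i < 112806 → P i := stepQ 112805 Q112805 (allL N112805 (tt N117290 (iv1 F504313)) (tt N119693 (iv0 F516957)) (tt N118846 (iv2 F512389)) (tt N82322 (iv3 D216056)) (tt N99211 F482691) (tt N116652 F501152) (tt N108082 F482692) (tt N99207 F482693))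
theorem Q112807 : ∀ i, i < 112807 → P i := stepQ 112806 Q112806 (allL N112806 (tt N94257 F482697) (tt N118023 (iv0 F508146)) (tt N100753 F482694) (tt N82326 (iv3 D216057)) (tt N100742 F482695) (tt N111030 F482696) (tt N118290 (iv6 F509549)) (tt N112825 (iv7 F482808)))
theorem Q112808 : ∀ i, i < 112808 → P i := stepQ 112807 Q112807 (allL N112807 (tt N107906 F482701) (tt N96727 F482702) (tt N96543 F482698) (tt N117028 (iv3 F503037)) (tt N82345 F482699) (tt N82340 (iv5 D216058)) (tt N96532 F482703) (tt N99358 F482700))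
theorem Q112809 : ∀ i, i < 112809 → P i := stepQ 112808 Q112808 (allL N112808 (tt N116968 F502753) (tt N107689 (iv0 F482709)) (tt N112642 F482704) (tt N82341 (iv3 D216059)) (tt N108966 F482705) (tt N112139 F482706) (tt N107815 F482707) (tt N99325 F482708))
theorem Q112810 : ∀ i, i < 112810 → P i := stepQ 112809 Q112809 (allL N112809 (tt N102104 F482714) (tt N102096 (iv0 F482715)) (tt N102103 F482710) (tt N82346 (iv3 D216060)) (tt N115245 (iv4 F494194)) (tt N82352 F482711) (tt N97605 F482712) (tt N86939 F482713))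
theorem Q112811 : ∀ i, i < 112811 → P i := stepQ 112810 Q112810 (allL N112810 (tt N94786 F482721) (tt N94784 (iv0 F482722)) (tt N94816 F482716) (tt N95835 F482717) (tt N82348 F482718) (tt N95239 F482719) (tt N82347 (iv6 D216061)) (tt N111386 F482720))
theorem Q112812 : ∀ i, i < 112812 → P i := stepQ 112811 Q112811 (allL N112811 (tt N100545 F482728) (tt N101512 (iv0 F482729)) (tt N100640 F482723) (tt N101518 F482724) (tt N82354 F482725) (tt N90271 F482726) (tt N82353 (iv6 D216062)) (tt N101513 F482727))
theorem Q112813 : ∀ i, i < 112813 → P i := stepQ 112812 Q112812 (allL N112812 (tt N96018 F482732) (tt N106460 F482733) (tt N96951 F482730) (tt N95918 F482731) (tt N118500 (iv4 F510703)) (tt N82356 (iv5 D216063)) (tt N120443 (iv6 F520810)) (tt N118031 (iv7 F508189)))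
theorem Q112814 : ∀ i, i < 112814 → P i := stepQ 112813 Q112813 (allL N112813 (tt N95277 F482738) (tt N116975 (iv0 F502781)) (tt N95194 F482734) (tt N82358 (iv3 D216064)) (tt N111864 F482735) (tt N107692 F482736) (tt N82440 F482737) (tt N117026 (iv7 F503028)))
theorem Q112815 : ∀ i, i < 112815 → P i := stepQ 112814 Q112814 (allL N112814 (tt N88505 (iv1 F482743)) (tt N82360 (iv0 D216065)) (tt N89603 (iv2 F482742)) (tt N106949 F482741) (tt N89032 F482740) (tt N101156 F482739) (tt N89592 (iv6 F482745)) (tt N89029 F482744))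
theorem Q112816 : ∀ i, i < 112816 → P i := stepQ 112815 Q112815 (allL N112815 (tt N107765 F482750) (tt N118702 (iv0 F511626)) (tt N112144 F482746) (tt N107769 F482747) (tt N107312 F482751) (tt N82363 (iv5 D216066)) (tt N112634 F482748) (tt N107307 F482749))
theorem Q112817 : ∀ i, i < 112817 → P i := stepQ 112816 Q112816 (allL N112816 (tt N107233 F482755) (tt N107235 F482756) (tt N110511 F482752) (tt N113628 (iv3 F486372)) (tt N101817 F482754) (tt N82371 (iv5 D216067)) (tt N113627 (iv6 F486366)) (tt N112696 F482753))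
theorem Q112818 : ∀ i, i < 112818 → P i := stepQ 112817 Q112817 (allL N112817 (tt N91461 (iv1 F482764)) (tt N91832 (iv0 F482763)) (tt N91807 F482757) (tt N85177 F482758) (tt N91807 F482759) (tt N87952 F482760) (tt N82374 (iv6 D216068)) (tt N91760 F482761))
theorem Q112819 : ∀ i, i < 112819 → P i := stepQ 112818 Q112818 (allL N112818 (tt N102405 F482769) (tt N104286 (iv0 F482770)) (tt N112491 F482765) (tt N104374 F482766) (tt N113012 (iv4 F483550)) (tt N112475 F482767) (tt N82389 (iv6 D216069)) (tt N110313 F482768))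
theorem Q112820 : ∀ i, i < 112820 → P i := stepQ 112819 Q112819 (allL N112819 (tt N82395 (iv1 D216070)) (tt N82400 F482771) (tt N82494 (iv2 F482775)) (tt N87910 (iv3 F482777)) (tt N88679 F482774) (tt N82492 F482773) (tt N91099 (iv6 F482776)) (tt N88677 F482772))
theorem Q112821 : ∀ i, i < 112821 → P i := stepQ 112820 Q112820 (allL N112820 (tt N92745 F482782) (tt N82999 F482784) (tt N98767 F482778) (tt N82400 F482779) (tt N98002 F482783) (tt N82399 (iv5 D216071)) (tt N88255 F482780) (tt N111936 F482781))
theorem Q112822 : ∀ i, i < 112822 → P i := stepQ 112821 Q112821 (allL N112821 (tt N82401 (iv1 D216072)) (tt N104780 F482785) (tt N111907 (iv2 F482788)) (tt N120265 (iv3 F519901)) (tt N83673 F482787) (tt N115321 (iv5 F494578)) (tt N95837 (iv6 F482789)) (tt N105337 F482786))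
theorem Q112823 : ∀ i, i < 112823 → P i := stepQ 112822 Q112822 (allL N112822 (tt N111633 F482794) (tt N111631 (iv0 F482795)) (tt N100718 F482790) (tt N95363 F482793) (tt N82402 (iv4 D216073)) (tt N112272 F482792) (tt N95361 (iv6 F482796)) (tt N91928 F482791))
theorem Q112824 : ∀ i, i < 112824 → P i := stepQ 112823 Q112823 (allL N112823 (tt N96308 (iv1 F482801)) (tt N82425 F482802) (tt N96422 F482797) (tt N96453 F482798) (tt N95361 F482799) (tt N114913 (iv5 F492499)) (tt N82402 (iv6 D216074)) (tt N96497 F482800))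
theorem Q112825 : ∀ i, i < 112825 → P i := stepQ 112824 Q112824 (allL N112824 (tt N96099 F482805) (tt N118043 (iv0 F508256)) (tt N114567 (iv2 F490802)) (tt N82407 F482803) (tt N114301 (iv4 F489480)) (tt N110928 F482804) (tt N82405 (iv6 D216075)) (tt N118159 (iv7 F508928)))
theorem Q112826 : ∀ i, i < 112826 → P i := stepQ 112825 Q112825 (allL N112825 (tt N93395 F482810) (tt N93393 F482811) (tt N111030 F482806) (tt N96256 F482807) (tt N82408 (iv4 D216076)) (tt N100753 F482809) (tt N118788 (iv6 F512076)) (tt N112806 F482808))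
theorem Q112827 : ∀ i, i < 112827 → P i := stepQ 112826 Q112826 (allL N112826 (tt N111719 F482815) (tt N111021 (iv0 F482816)) (tt N117408 F504886) (tt N82410 (iv3 D216077)) (tt N96751 F482814) (tt N121657 (iv5 F527580)) (tt N96750 F482812) (tt N111036 F482813))
theorem Q112828 : ∀ i, i < 112828 → P i := stepQ 112827 Q112827 (allL N112827 (tt N94767 F482820) (tt N97823 (iv0 F482821)) (tt N118631 (iv2 F511230)) (tt N82412 F482817) (tt N98338 F482818) (tt N120500 (iv5 F521109)) (tt N82411 (iv6 D216078)) (tt N95251 F482819))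
theorem Q112829 : ∀ i, i < 112829 → P i := stepQ 112828 Q112828 (allL N112828 (tt N95247 F482825) (tt N89762 F482826) (tt N95249 F482822) (tt N118815 (iv3 F512219)) (tt N89755 F482823) (tt N120503 (iv5 F521130)) (tt N82415 (iv6 D216079)) (tt N95248 F482824))
theorem Q112830 : ∀ i, i < 112830 → P i := stepQ 112829 Q112829 (allL N112829 (tt N88795 F482830) (tt N85403 F482831) (tt N82420 F482827) (tt N107253 (iv3 F482832)) (tt N82416 (iv4 D216080)) (tt N101886 F482828) (tt N85396 F482833) (tt N89106 F482829))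
theorem Q112831 : ∀ i, i < 112831 → P i := stepQ 112830 Q112830 (allL N112830 (tt N85249 F482838) (tt N114999 (iv0 F492990)) (tt N82421 F482834) (tt N83256 F482835) (tt N85396 F482836) (tt N119149 (iv5 F514048)) (tt N82416 (iv6 D216081)) (tt N90121 F482837))
theorem Q112832 : ∀ i, i < 112832 → P i := stepQ 112831 Q112831 (allL N112831 (tt N89732 F482844) (tt N89045 F482845) (tt N88710 F482839) (tt N85422 F482840) (tt N82419 (iv4 D216082)) (tt N83992 F482841) (tt N88981 F482842) (tt N88709 F482843))
theorem Q112833 : ∀ i, i < 112833 → P i := stepQ 112832 Q112832 (allL N112832 (tt N82421 (iv1 D216083)) (tt N90121 F482846) (tt N114999 (iv2 F492986)) (tt N105702 (iv3 F482849)) (tt N85376 F482848) (tt N113328 (iv5 F485050)) (tt N117594 (iv6 F505896)) (tt N85249 F482847))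
theorem Q112834 : ∀ i, i < 112834 → P i := stepQ 112833 Q112833 (allL N112833 (tt N96614 F482855) (tt N95716 F482856) (tt N96626 F482850) (tt N96346 F482851) (tt N91453 F482852) (tt N82422 (iv5 D216084)) (tt N112483 F482853) (tt N91450 F482854))
theorem Q112835 : ∀ i, i < 112835 → P i := stepQ 112834 Q112834 (allL N112834 (tt N112019 F482862) (tt N100832 F482863) (tt N110642 F482857) (tt N109644 F482858) (tt N82424 (iv4 D216085)) (tt N110638 F482859) (tt N93298 F482860) (tt N95068 F482861))
theorem Q112836 : ∀ i, i < 112836 → P i := stepQ 112835 Q112835 (allL N112835 (tt N116767 F501721) (tt N90127 (iv0 F482868)) (tt N111046 F482864) (tt N94650 F482865) (tt N90122 F482866) (tt N108204 F482867) (tt N82428 (iv6 D216086)) (tt N116765 (iv7 F501712)))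
theorem Q112837 : ∀ i, i < 112837 → P i := stepQ 112836 Q112836 (allL N112836 (tt N111999 F482873) (tt N90161 F482874) (tt N95132 F482869) (tt N82432 F482870) (tt N121774 (iv4 F528241)) (tt N82431 (iv5 D216087)) (tt N90322 F482871) (tt N111045 F482872))
theorem Q112838 : ∀ i, i < 112838 → P i := stepQ 112837 Q112837 (allL N112837 (tt N116786 F501830) (tt N96101 (iv0 F482879)) (tt N111044 F482875) (tt N90322 F482876) (tt N90148 F482877) (tt N90321 F482878) (tt N82432 (iv6 D216088)) (tt N118337 (iv7 F509780)))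
theorem Q112839 : ∀ i, i < 112839 → P i := stepQ 112838 Q112838 (allL N112838 (tt N82441 (iv1 F482886)) (tt N95192 (iv0 F482885)) (tt N100676 (iv2 F482884)) (tt N82437 (iv3 D216089)) (tt N100666 F482883) (tt N85699 F482880) (tt N111422 F482881) (tt N94760 F482882))
theorem Q112840 : ∀ i, i < 112840 → P i := stepQ 112839 Q112839 (allL N112839 (tt N93826 F482890) (tt N101560 F482889) (tt N100918 F482887) (tt N119118 (iv3 F513877)) (tt N82437 (iv4 D216090)) (tt N118221 (iv5 F509226)) (tt N118362 F509928) (tt N94762 F482888))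
theorem Q112841 : ∀ i, i < 112841 → P i := stepQ 112840 Q112840 (allL N112840 (tt N91868 F482896) (tt N111114 (iv0 F482897)) (tt N112416 F482891) (tt N82438 (iv3 D216091)) (tt N96913 F482892) (tt N98236 F482893) (tt N94753 F482894) (tt N112417 F482895))
theorem Q112842 : ∀ i, i < 112842 → P i := stepQ 112841 Q112841 (allL N112841 (tt N95236 F482902) (tt N94597 F482903) (tt N95208 F482898) (tt N94728 F482899) (tt N109369 F482900) (tt N82443 (iv5 D216092)) (tt N112762 (iv6 F482904)) (tt N95178 F482901))
theorem Q112843 : ∀ i, i < 112843 → P i := stepQ 112842 Q112842 (allL N112842 (tt N82445 (iv1 D216093)) (tt N95209 F482905) (tt N95188 (iv2 F482909)) (tt N118745 (iv3 F511856)) (tt N85302 F482908) (tt N101554 F482907) (tt N107811 (iv6 F482910)) (tt N95211 F482906))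
theorem Q112844 : ∀ i, i < 112844 → P i := stepQ 112843 Q112843 (allL N112843 (tt N82446 (iv1 D216094)) (tt N95231 F482911) (tt N92971 F482916) (tt N85397 (iv3 F482914)) (tt N100571 F482917) (tt N85397 F482913) (tt N94603 (iv6 F482915)) (tt N95199 F482912))
theorem Q112845 : ∀ i, i < 112845 → P i := stepQ 112844 Q112844 (allL N112844 (tt N99534 F482922) (tt N100566 F482923) (tt N95230 F482918) (tt N85145 F482919) (tt N82446 (iv4 D216095)) (tt N118642 (iv5 F511298)) (tt N82448 F482920) (tt N100620 F482921))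
theorem Q112846 : ∀ i, i < 112846 → P i := stepQ 112845 Q112845 (allL N112845 (tt N107308 F482929) (tt N107298 F482930) (tt N107306 F482924) (tt N96481 F482925) (tt N107281 F482926) (tt N90018 F482927) (tt N82449 (iv6 D216096)) (tt N107296 F482928))
theorem Q112847 : ∀ i, i < 112847 → P i := stepQ 112846 Q112846 (allL N112846 (tt N87784 (iv1 F482937)) (tt N87782 F482936) (tt N82455 (iv2 D216097)) (tt N100678 F482931) (tt N102337 F482932) (tt N104794 F482933) (tt N82468 F482934) (tt N100681 F482935))
theorem Q112848 : ∀ i, i < 112848 → P i := stepQ 112847 Q112847 (allL N112847 (tt N91342 F482942) (tt N86367 F482943) (tt N82469 F482938) (tt N89218 F482939) (tt N89220 F482944) (tt N82465 (iv5 D216098)) (tt N95793 F482940) (tt N90559 F482941))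
theorem Q112849 : ∀ i, i < 112849 → P i := stepQ 112848 Q112848 (allL N112848 (tt N108584 F482949) (tt N108583 F482950) (tt N108586 F482945) (tt N85750 F482946) (tt N82473 (iv4 D216099)) (tt N120515 (iv5 F521198)) (tt N88313 F482947) (tt N108576 F482948))
theorem Q112850 : ∀ i, i < 112850 → P i := stepQ 112849 Q112849 (allL N112849 (tt N82476 (iv1 D216100)) (tt N103970 F482951) (tt N82598 F482955) (tt N119353 (iv3 F515175)) (tt N82596 F482953) (tt N111749 F482952) (tt N97165 (iv6 F482954)) (tt N114238 (iv7 F489160)))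
theorem Q112851 : ∀ i, i < 112851 → P i := stepQ 112850 Q112850 (allL N112850 (tt N86986 F482959) (tt N96755 F482960) (tt N113624 (iv2 F486355)) (tt N82484 F482956) (tt N117701 (iv4 F506506)) (tt N82477 (iv5 D216101)) (tt N111757 F482957) (tt N112497 F482958))
theorem Q112852 : ∀ i, i < 112852 → P i := stepQ 112851 Q112851 (allL N112851 (tt N110954 F482965) (tt N110950 F482966) (tt N88267 F482961) (tt N108491 F482967) (tt N82478 (iv4 D216102)) (tt N88115 F482964) (tt N84684 F482962) (tt N110952 F482963))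
theorem Q112853 : ∀ i, i < 112853 → P i := stepQ 112852 Q112852 (allL N112852 (tt N110950 F482970) (tt N110954 F482971) (tt N110952 F482968) (tt N112472 (iv3 F482973)) (tt N82479 (iv4 D216103)) (tt N119193 (iv5 F514292)) (tt N96732 F482972) (tt N88267 F482969))
theorem Q112854 : ∀ i, i < 112854 → P i := stepQ 112853 Q112853 (allL N112853 (tt N118893 (iv1 F512615)) (tt N119273 (iv0 F514757)) (tt N118832 (iv2 F512311)) (tt N95884 F482974) (tt N96732 F482975) (tt N118933 (iv5 F512824)) (tt N82479 (iv6 D216104)) (tt N118833 (iv7 F512319)))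
theorem Q112855 : ∀ i, i < 112855 → P i := stepQ 112854 Q112854 (allL N112854 (tt N111476 (iv1 F482981)) (tt N101537 F482980) (tt N82487 (iv2 D216105)) (tt N101534 F482976) (tt N95363 F482977) (tt N122077 (iv5 F530023)) (tt N95362 F482978) (tt N111701 F482979))
theorem Q112856 : ∀ i, i < 112856 → P i := stepQ 112855 Q112855 (allL N112855 (tt N111481 F482985) (tt N115989 F497930) (tt N122077 F530026) (tt N82488 F482982) (tt N95491 F482984) (tt N82487 (iv5 D216106)) (tt N95489 (iv6 F482986)) (tt N111702 F482983))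
theorem Q112857 : ∀ i, i < 112857 → P i := stepQ 112856 Q112856 (allL N112856 (tt N115981 (iv1 F497895)) (tt N115980 (iv0 F497893)) (tt N111707 F482987) (tt N95489 F482988) (tt N95479 F482989) (tt N120896 (iv5 F523344)) (tt N82488 (iv6 D216107)) (tt N122177 (iv7 F530605)))
theorem Q112858 : ∀ i, i < 112858 → P i := stepQ 112857 Q112857 (allL N112857 (tt N82493 (iv1 D216108)) (tt N87908 F482990) (tt N108954 F482995) (tt N86956 (iv3 F482993)) (tt N91982 F482992) (tt N97752 F482996) (tt N93964 (iv6 F482994)) (tt N91981 F482991))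
theorem Q112859 : ∀ i, i < 112859 → P i := stepQ 112858 Q112858 (allL N112858 (tt N117737 (iv1 F506715)) (tt N119523 F516053) (tt N116131 (iv2 F498643)) (tt N82494 F482997) (tt N118129 (iv4 F508754)) (tt N82493 (iv5 D216109)) (tt N92704 F482998) (tt N116130 (iv7 F498638)))
theorem Q112860 : ∀ i, i < 112860 → P i := stepQ 112859 Q112859 (allL N112859 (tt N96590 F483002) (tt N100537 (iv0 F483003)) (tt N118177 (iv2 F509022)) (tt N82499 F482999) (tt N122234 D225493) (tt N82498 (iv5 D216110)) (tt N90774 F483000) (tt N111706 F483001))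
theorem Q112861 : ∀ i, i < 112861 → P i := stepQ 112860 Q112860 (allL N112860 (tt N115582 (iv1 F495866)) (tt N87995 (iv0 F483008)) (tt N111703 F483004) (tt N90774 F483005) (tt N108750 F483006) (tt N90773 F483007) (tt N82499 (iv6 D216111)) (tt N115581 F495862))
theorem Q112862 : ∀ i, i < 112862 → P i := stepQ 112861 Q112861 (allL N112861 (tt N112017 F483012) (tt N100833 F483014) (tt N95127 F483009) (tt N82521 F483010) (tt N121012 (iv4 F524007)) (tt N82520 (iv5 D216112)) (tt N93289 F483013) (tt N95116 F483011))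
theorem Q112863 : ∀ i, i < 112863 → P i := stepQ 112862 Q112862 (allL N112862 (tt N91834 (iv1 F483020)) (tt N91836 (iv0 F483019)) (tt N95128 F483015) (tt N82522 F483016) (tt N87008 F483017) (tt N117841 (iv5 F507220)) (tt N82520 (iv6 D216113)) (tt N111991 F483018))
theorem Q112864 : ∀ i, i < 112864 → P i := stepQ 112863 Q112863 (allL N112863 (tt N82541 (iv1 D216114)) (tt N101163 F483021) (tt N101435 F483025) (tt N89643 (iv3 F483024)) (tt N121866 (iv4 F528793)) (tt N100936 F483023) (tt N117245 (iv6 F504092)) (tt N101436 F483022))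
theorem Q112865 : ∀ i, i < 112865 → P i := stepQ 112864 Q112864 (allL N112864 (tt N121801 (iv1 F528404)) (tt N121798 (iv0 F528387)) (tt N107551 F483026) (tt N122201 (iv3 F530737)) (tt N82541 (iv4 D216115)) (tt N107668 F483029) (tt N98868 F483027) (tt N101437 F483028))
theorem Q112866 : ∀ i, i < 112866 → P i := stepQ 112865 Q112865 (allL N112865 (tt N100080 F483034) (tt N101852 F483035) (tt N108726 F483030) (tt N108722 F483031) (tt N82545 (iv4 D216116)) (tt N90667 F483032) (tt N119596 (iv6 F516437)) (tt N108724 F483033))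
theorem Q112867 : ∀ i, i < 112867 → P i := stepQ 112866 Q112866 (allL N112866 (tt N92845 F483041) (tt N115780 (iv0 F496835)) (tt N102374 F483036) (tt N93045 F483037) (tt N104601 F483038) (tt N92774 F483039) (tt N82562 (iv6 D216117)) (tt N104368 F483040))
theorem Q112868 : ∀ i, i < 112868 → P i := stepQ 112867 Q112867 (allL N112867 (tt N111671 F483046) (tt N105873 (iv0 F483047)) (tt N103335 F483042) (tt N103908 F483043) (tt N119330 (iv4 F515054)) (tt N103379 F483044) (tt N82567 (iv6 D216118)) (tt N103914 F483045))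
theorem Q112869 : ∀ i, i < 112869 → P i := stepQ 112868 Q112868 (allL N112868 (tt N111618 F483049) (tt N105874 (iv0 F483050)) (tt N118698 (iv2 F511604)) (tt N82568 (iv3 D216119)) (tt N114226 (iv4 F489086)) (tt N115372 (iv5 F494861)) (tt N115776 (iv6 F496809)) (tt N103337 F483048))
theorem Q112870 : ∀ i, i < 112870 → P i := stepQ 112869 Q112869 (allL N112869 (tt N105872 F483056) (tt N111673 (iv0 F483057)) (tt N103322 F483051) (tt N103915 F483052) (tt N111039 F483053) (tt N103365 F483054) (tt N82571 (iv6 D216120)) (tt N111672 F483055))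
theorem Q112871 : ∀ i, i < 112871 → P i := stepQ 112870 Q112870 (allL N112870 (tt N102020 F483062) (tt N112492 (iv0 F483064)) (tt N82573 F483058) (tt N96746 F483059) (tt N102044 F483060) (tt N102169 F483063) (tt N82572 (iv6 D216121)) (tt N106819 F483061))
theorem Q112872 : ∀ i, i < 112872 → P i := stepQ 112871 Q112871 (allL N112871 (tt N106358 F483070) (tt N89147 (iv0 F483071)) (tt N107263 F483065) (tt N85387 F483066) (tt N109767 F483067) (tt N91075 F483068) (tt N82579 (iv6 D216122)) (tt N90165 F483069))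
theorem Q112873 : ∀ i, i < 112873 → P i := stepQ 112872 Q112872 (allL N112872 (tt N106387 F483074) (tt N106386 (iv0 F483075)) (tt N107253 F483072) (tt N113313 (iv3 F484971)) (tt N115791 (iv4 F496903)) (tt N84096 F483073) (tt N82581 (iv6 D216123)) (tt N113312 (iv7 F484968)))
theorem Q112874 : ∀ i, i < 112874 → P i := stepQ 112873 Q112873 (allL N112873 (tt N92011 F483081) (tt N87830 F483082) (tt N84704 F483076) (tt N87674 F483077) (tt N82590 (iv4 D216124)) (tt N105571 F483078) (tt N89942 F483079) (tt N87764 F483080))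
theorem Q112875 : ∀ i, i < 112875 → P i := stepQ 112874 Q112874 (allL N112874 (tt N97238 F483085) (tt N112456 (iv0 F483086)) (tt N113630 (iv2 F486382)) (tt N82597 (iv3 D216125)) (tt N115813 (iv4 F497027)) (tt N84671 F483083) (tt N118893 (iv6 F512613)) (tt N87937 F483084))
theorem Q112876 : ∀ i, i < 112876 → P i := stepQ 112875 Q112875 (allL N112875 (tt N97168 F483089) (tt N97165 (iv0 F483090)) (tt N88336 F483087) (tt N118893 (iv3 F512612)) (tt N107234 F483088) (tt N113631 (iv5 F486387)) (tt N82597 (iv6 D216126)) (tt N115710 (iv7 F496441)))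
theorem Q112877 : ∀ i, i < 112877 → P i := stepQ 112876 Q112876 (allL N112876 (tt N86717 F483094) (tt N115490 F495466) (tt N88358 F483091) (tt N86448 F483095) (tt N82603 (iv4 D216127)) (tt N122161 (iv5 F530506)) (tt N86518 F483092) (tt N88033 F483093))
theorem Q112878 : ∀ i, i < 112878 → P i := stepQ 112877 Q112877 (allL N112877 (tt N86432 F483102) (tt N86577 F483103) (tt N82606 F483097) (tt N106710 F483098) (tt N82604 (iv4 D216128)) (tt N86556 F483101) (tt N103206 F483099) (tt N86576 F483100))
theorem Q112879 : ∀ i, i < 112879 → P i := stepQ 112878 Q112878 (allL N112878 (tt N115299 (iv1 F494458)) (tt N115298 F494455) (tt N88364 F483104) (tt N86638 F483108) (tt N82605 (iv4 D216129)) (tt N86636 F483107) (tt N111741 F483105) (tt N88362 F483106))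
theorem Q112880 : ∀ i, i < 112880 → P i := stepQ 112879 Q112879 (allL N112879 (tt N86576 (iv1 F483112)) (tt N82606 (iv0 D216130)) (tt N86432 (iv2 F483111)) (tt N86557 F483114) (tt N108635 F483110) (tt N86720 F483109) (tt N112391 F483115) (tt N86577 F483113))
theorem Q112881 : ∀ i, i < 112881 → P i := stepQ 112880 Q112880 (allL N112880 (tt N86557 (iv1 F483119)) (tt N86434 F483118) (tt N86556 F483116) (tt N115314 (iv3 F494538)) (tt N119509 (iv4 F515979)) (tt N82606 (iv5 D216131)) (tt N119646 (iv6 F516688)) (tt N86555 F483117))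
theorem Q112882 : ∀ i, i < 112882 → P i := stepQ 112881 Q112881 (allL N112881 (tt N106708 (iv1 F483125)) (tt N106707 (iv0 F483122)) (tt N103206 F483120) (tt N122102 (iv3 F530177)) (tt N82607 F483121) (tt N106746 F483123) (tt N82606 (iv6 D216132)) (tt N106701 F483124))
theorem Q112883 : ∀ i, i < 112883 → P i := stepQ 112882 Q112882 (allL N112882 (tt N100966 F483128) (tt N100964 F483129) (tt N89961 F483126) (tt N121830 (iv3 F528574)) (tt N82611 (iv4 D216133)) (tt N117213 (iv5 F503934)) (tt N82617 F483127) (tt N117246 (iv7 F504096)))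
theorem Q112884 : ∀ i, i < 112884 → P i := stepQ 112883 Q112883 (allL N112883 (tt N89388 F483134) (tt N112998 (iv0 F483493)) (tt N88583 F483130) (tt N83898 F483131) (tt N88830 F483132) (tt N82612 (iv5 D216134)) (tt N120182 (iv6 F519474)) (tt N88585 F483133))
theorem Q112885 : ∀ i, i < 112885 → P i := stepQ 112884 Q112884 (allL N112884 (tt N113977 F488045) (tt N117266 (iv0 F504188)) (tt N113600 (iv2 F486240)) (tt N116723 (iv3 F501504)) (tt N116305 (iv4 F499466)) (tt N84891 F483135) (tt N82615 (iv6 D216135)) (tt N114424 (iv7 F490084)))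
theorem Q112886 : ∀ i, i < 112886 → P i := stepQ 112885 Q112885 (allL N112885 (tt N112062 (iv1 F483139)) (tt N113995 (iv0 F488111)) (tt N116121 (iv2 F498585)) (tt N82616 (iv3 D216136)) (tt N88553 F483137) (tt N88384 F483136) (tt N120091 (iv6 F518994)) (tt N113599 (iv7 F486238)))
theorem Q112887 : ∀ i, i < 112887 → P i := stepQ 112886 Q112886 (allL N112886 (tt N112901 F483208) (tt N113987 (iv0 F488074)) (tt N113171 (iv2 F484315)) (tt N120091 (iv3 F518993)) (tt N116731 (iv4 F501546)) (tt N88388 F483140) (tt N82616 (iv6 D216137)) (tt N122235 D225494))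
theorem Q112888 : ∀ i, i < 112888 → P i := stepQ 112887 Q112887 (allL N112887 (tt N110091 (iv1 F483153)) (tt N82617 (iv0 D216138)) (tt N89713 (iv2 F483142)) (tt N105715 (iv3 F483143)) (tt N113731 (iv4 F486880)) (tt N105714 F483141) (tt N89658 (iv6 F483144)) (tt N113601 (iv7 F486244)))
theorem Q112889 : ∀ i, i < 112889 → P i := stepQ 112888 Q112888 (allL N112888 (tt N82617 (iv1 D216139)) (tt N110091 F483145) (tt N113601 F486247) (tt N110095 (iv3 F483147)) (tt N116095 (iv4 F498432)) (tt N88858 (iv5 F483148)) (tt N121263 (iv6 F525452)) (tt N89713 F483146))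
theorem Q112890 : ∀ i, i < 112890 → P i := stepQ 112889 Q112889 (allL N112889 (tt N113601 (iv1 F486243)) (tt N89713 (iv0 F483154)) (tt N110091 F483149) (tt N83446 F483150) (tt N82618 F483151) (tt N89659 F483152) (tt N121334 (iv6 F525830)) (tt N82617 (iv7 D216140)))
theorem Q112891 : ∀ i, i < 112891 → P i := stepQ 112890 Q112890 (allL N112890 (tt N108430 (iv1 F483158)) (tt N120486 (iv0 F521024)) (tt N121525 (iv2 F526850)) (tt N82619 (iv3 D216141)) (tt N121830 (iv4 F528575)) (tt N107973 F483155) (tt N82624 F483156) (tt N107972 F483157))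
theorem Q112892 : ∀ i, i < 112892 → P i := stepQ 112891 Q112891 (allL N112891 (tt N82664 F483162) (tt N82663 F483163) (tt N82622 F483159) (tt N82679 F483160) (tt N121764 (iv4 F528172)) (tt N82621 (iv5 D216142)) (tt N115050 (iv6 F493228)) (tt N82661 F483161))
theorem Q112893 : ∀ i, i < 112893 → P i := stepQ 112892 Q112892 (allL N112892 (tt N82661 (iv1 F483166)) (tt N82622 (iv0 D216143)) (tt N82664 (iv2 F483165)) (tt N113604 F486266) (tt N121982 (iv4 F529447)) (tt N82765 F483164) (tt N120329 F520217) (tt N82663 F483167))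
theorem Q112894 : ∀ i, i < 112894 → P i := stepQ 112893 Q112893 (allL N112893 (tt N114396 (iv1 F489955)) (tt N122236 D225495) (tt N121764 (iv2 F528171)) (tt N121915 (iv3 F529040)) (tt N82622 (iv4 D216144)) (tt N117922 (iv5 F507614)) (tt N121551 (iv6 F526994)) (tt N82665 F483168))
theorem Q112895 : ∀ i, i < 112895 → P i := stepQ 112894 Q112894 (allL N112894 (tt N121515 F526803) (tt N121303 (iv0 F525650)) (tt N122217 (iv2 F530835)) (tt N82623 (iv3 D216145)) (tt N116164 (iv4 F498824)) (tt N83067 F483169) (tt N113504 (iv6 F485814)) (tt N82699 F483170))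
theorem Q112896 : ∀ i, i < 112896 → P i := stepQ 112895 Q112895 (allL N112895 (tt N83443 (iv1 F483172)) (tt N82624 (iv0 D216146)) (tt N83445 (iv2 F483173)) (tt N88573 F483175) (tt N105022 F483171) (tt N115406 (iv5 F495031)) (tt N89697 (iv6 F483176)) (tt N83444 (iv7 F483174)))
theorem Q112897 : ∀ i, i < 112897 → P i := stepQ 112896 Q112896 (allL N112896 (tt N82624 (iv1 D216147)) (tt N83443 (iv0 F483183)) (tt N83444 F483180) (tt N88593 F483181) (tt N101077 F483178) (tt N111345 F483182) (tt N83959 (iv6 F483179)) (tt N83445 F483177))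
theorem Q112898 : ∀ i, i < 112898 → P i := stepQ 112897 Q112897 (allL N112897 (tt N83445 (iv1 F483189)) (tt N83444 F483188) (tt N82624 (iv2 D216148)) (tt N82702 F483184) (tt N89958 F483185) (tt N83433 F483186) (tt N121525 (iv6 F526854)) (tt N83443 F483187))
theorem Q112899 : ∀ i, i < 112899 → P i := stepQ 112898 Q112898 (allL N112898 (tt N113483 (iv1 F485706)) (tt N113485 (iv0 F485718)) (tt N120127 (iv2 F519197)) (tt N82625 (iv3 D216149)) (tt N116161 (iv4 F498808)) (tt N83055 F483190) (tt N106953 F483191) (tt N82736 F483192))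
theorem Q112900 : ∀ i, i < 112900 → P i := stepQ 112899 Q112899 (allL N112899 (tt N82728 (iv1 F483196)) (tt N82626 (iv0 D216150)) (tt N82725 (iv2 F483197)) (tt N116295 (iv3 F499421)) (tt N83499 F483194) (tt N106950 F483193) (tt N83346 F483195) (tt N82726 (iv7 F483198)))
theorem Q112901 : ∀ i, i < 112901 → P i := stepQ 112900 Q112900 (allL N112900 (tt N82626 (iv1 D216151)) (tt N82728 F483199) (tt N82726 (iv2 F483204)) (tt N113891 (iv3 F487655)) (tt N92029 F483202) (tt N91751 F483201) (tt N110146 (iv6 F483203)) (tt N82725 F483200))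
theorem Q112902 : ∀ i, i < 112902 → P i := stepQ 112901 Q112901 (allL N112901 (tt N122237 D225496) (tt N112886 (iv0 F483208)) (tt N117221 (iv2 F503972)) (tt N82627 (iv3 D216152)) (tt N113778 (iv4 F487060)) (tt N83469 F483206) (tt N110179 F483207) (tt N112965 (iv7 F483394)))
theorem Q112903 : ∀ i, i < 112903 → P i := stepQ 112902 Q112902 (allL N112902 (tt N82631 (iv1 D216153)) (tt N113755 (iv0 F486976)) (tt N113849 (iv2 F487438)) (tt N118748 (iv3 F511871)) (tt N113701 (iv4 F486710)) (tt N122238 D225497) (tt N118747 F511869) (tt N115332 (iv7 F494636)))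
theorem Q112904 : ∀ i, i < 112904 → P i := stepQ 112903 Q112903 (allL N112903 (tt N119532 F516101) (tt N122033 (iv0 F529760)) (tt N122239 D225498) (tt N82631 (iv3 D216154)) (tt N82643 F483209) (tt N122240 D225499) (tt N103719 F483210) (tt N113118 (iv7 F484049)))
theorem Q112905 : ∀ i, i < 112905 → P i := stepQ 112904 Q112904 (allL N112904 (tt N121035 F524141) (tt N122241 D225500) (tt N116153 (iv2 F498772)) (tt N122240 (iv3 F530954)) (tt N120757 (iv4 F522552)) (tt N82631 (iv5 D216155)) (tt N103838 F483211) (tt N115333 (iv7 F494640)))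
theorem Q112906 : ∀ i, i < 112906 → P i := stepQ 112905 Q112905 (allL N112905 (tt N82898 F483218) (tt N82637 (iv0 D216156)) (tt N82896 (iv2 F483215)) (tt N95978 (iv3 F483216)) (tt N86311 F483213) (tt N95974 F483212) (tt N98218 F483214) (tt N82897 (iv7 F483217)))
theorem Q112907 : ∀ i, i < 112907 → P i := stepQ 112906 Q112906 (allL N112906 (tt N82637 (iv1 D216157)) (tt N82898 F483219) (tt N82897 F483224) (tt N116344 F499640) (tt N86312 F483222) (tt N109548 F483221) (tt N105624 (iv6 F483223)) (tt N82896 F483220))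
theorem Q112908 : ∀ i, i < 112908 → P i := stepQ 112907 Q112907 (allL N112907 (tt N82897 (iv1 F483230)) (tt N82896 F483231) (tt N82898 F483225) (tt N99515 F483226) (tt N103106 F483227) (tt N91722 F483228) (tt N82904 F483229) (tt N82637 (iv7 D216158)))
theorem Q112909 : ∀ i, i < 112909 → P i := stepQ 112908 Q112908 (allL N112908 (tt N82911 (iv1 F483236)) (tt N82639 (iv0 D216159)) (tt N82909 (iv2 F483235)) (tt N112702 (iv3 F483238)) (tt N98227 F483233) (tt N108069 F483232) (tt N110257 F483234) (tt N82910 F483237))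
theorem Q112910 : ∀ i, i < 112910 → P i := stepQ 112909 Q112909 (allL N112909 (tt N121682 F527719) (tt N116375 (iv0 F499774)) (tt N114665 (iv2 F491272)) (tt N82642 F483239) (tt N115085 (iv4 F493410)) (tt N83117 F483240) (tt N82640 (iv6 D216160)) (tt N121683 (iv7 F527724)))
theorem Q112911 : ∀ i, i < 112911 → P i := stepQ 112910 Q112910 (allL N112910 (tt N114335 F489675) (tt N119611 (iv0 F516508)) (tt N120957 (iv2 F523693)) (tt N82641 (iv3 D216161)) (tt N115084 (iv4 F493406)) (tt N98331 F483241) (tt N109802 F483242) (tt N82907 F483243))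
theorem Q112912 : ∀ i, i < 112912 → P i := stepQ 112911 Q112911 (allL N112911 (tt N82915 (iv1 F483248)) (tt N82914 F483249) (tt N82916 F483244) (tt N121683 (iv3 F527720)) (tt N107919 F483245) (tt N83121 F483246) (tt N82911 F483247) (tt N82642 (iv7 D216162)))
theorem Q112913 : ∀ i, i < 112913 → P i := stepQ 112912 Q112912 (allL N112912 (tt N103048 (iv1 F483254)) (tt N103046 F483253) (tt N82643 (iv2 D216163)) (tt N82920 F483250) (tt N122239 (iv4 F530949)) (tt N113114 (iv5 F484031)) (tt N92999 F483251) (tt N111219 F483252))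
theorem Q112914 : ∀ i, i < 112914 → P i := stepQ 112913 Q112913 (allL N112913 (tt N113732 (iv1 F486884)) (tt N113734 (iv0 F486888)) (tt N113362 (iv2 F485178)) (tt N107581 F483256) (tt N82644 (iv4 D216164)) (tt N107577 F483255) (tt N113306 (iv6 F484943)) (tt N113364 (iv7 F485189)))
theorem Q112915 : ∀ i, i < 112915 → P i := stepQ 112914 Q112914 (allL N112914 (tt N111320 F483261) (tt N86821 (iv0 F483263)) (tt N86759 F483257) (tt N111305 F483258) (tt N82646 F483259) (tt N89330 F483262) (tt N82645 (iv6 D216165)) (tt N91678 F483260))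
theorem Q112916 : ∀ i, i < 112916 → P i := stepQ 112915 Q112915 (allL N112915 (tt N109042 F483266) (tt N110504 (iv0 F483267)) (tt N113703 (iv2 F486719)) (tt N82649 F483264) (tt N85785 F483265) (tt N113166 (iv5 F484292)) (tt N82647 (iv6 D216166)) (tt N113348 (iv7 F485135)))
theorem Q112917 : ∀ i, i < 112917 → P i := stepQ 112916 Q112916 (allL N112916 (tt N113795 (iv1 F487150)) (tt N109154 F483271) (tt N103551 F483268) (tt N120922 (iv3 F523490)) (tt N82648 (iv4 D216167)) (tt N102455 F483269) (tt N122242 D225501) (tt N103779 F483270))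
theorem Q112918 : ∀ i, i < 112918 → P i := stepQ 112917 Q112917 (allL N112917 (tt N86926 F483273) (tt N105315 (iv0 F483274)) (tt N113036 (iv2 F483658)) (tt N92227 F483272) (tt N122242 (iv4 F530966)) (tt N113190 (iv5 F484397)) (tt N82648 (iv6 D216168)) (tt N121177 (iv7 F524962)))
theorem Q112919 : ∀ i, i < 112919 → P i := stepQ 112918 Q112918 (allL N112918 (tt N116565 (iv1 F500761)) (tt N116554 (iv0 F500739)) (tt N116563 F500753) (tt N118622 (iv3 F511193)) (tt N82652 (iv4 D216169)) (tt N118463 (iv5 F510510)) (tt N121547 (iv6 F526969)) (tt N116564 (iv7 F500755)))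
theorem Q112920 : ∀ i, i < 112920 → P i := stepQ 112919 Q112919 (allL N112919 (tt N122243 D225502) (tt N107633 (iv0 F483277)) (tt N107386 F483275) (tt N82653 F483276) (tt N121547 (iv4 F526971)) (tt N113304 (iv5 F484931)) (tt N82652 (iv6 D216170)) (tt N115125 (iv7 F493611)))
theorem Q112921 : ∀ i, i < 112921 → P i := stepQ 112920 Q112920 (allL N112920 (tt N113943 (iv1 F487898)) (tt N82657 (iv0 D216171)) (tt N116572 (iv2 F500791)) (tt N120357 (iv3 F520351)) (tt N88569 F483278) (tt N122244 D225503) (tt N88568 (iv6 F483279)) (tt N88578 (iv7 F483280)))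
theorem Q112922 : ∀ i, i < 112922 → P i := stepQ 112921 Q112921 (allL N112921 (tt N82657 (iv1 D216172)) (tt N113943 (iv0 F487897)) (tt N88578 F483282) (tt N121467 (iv3 F526534)) (tt N83908 (iv4 F483281)) (tt N113097 (iv5 F483961)) (tt N83907 F483283) (tt N116572 (iv7 F500793)))
theorem Q112923 : ∀ i, i < 112923 → P i := stepQ 112922 Q112922 (allL N112922 (tt N116572 F500795) (tt N88578 (iv0 F483456)) (tt N82657 (iv2 D216173)) (tt N121525 (iv3 F526851)) (tt N113610 F486296) (tt N121300 (iv5 F525627)) (tt N82702 F483284) (tt N113943 (iv7 F487896)))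
theorem Q112924 : ∀ i, i < 112924 → P i := stepQ 112923 Q112923 (allL N112923 (tt N113245 F484688) (tt N121299 F525626) (tt N121300 F525630) (tt N82658 F483285) (tt N120010 (iv4 F518544)) (tt N82657 (iv5 D216174)) (tt N121841 F528638) (tt N117588 (iv7 F505862)))
theorem Q112925 : ∀ i, i < 112925 → P i := stepQ 112924 Q112924 (allL N112924 (tt N101764 F483289) (tt N113253 (iv0 F484719)) (tt N83452 F483286) (tt N121841 (iv3 F528634)) (tt N98249 F483287) (tt N82705 F483288) (tt N82658 (iv6 D216175)) (tt N114634 (iv7 F491114)))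
theorem Q112926 : ∀ i, i < 112926 → P i := stepQ 112925 Q112925 (allL N112925 (tt N113734 (iv1 F486889)) (tt N113732 (iv0 F486883)) (tt N113364 (iv2 F485188)) (tt N110713 F483290) (tt N82660 (iv4 D216176)) (tt N107586 F483291) (tt N94300 (iv6 F483292)) (tt N113362 (iv7 F485181)))
theorem Q112927 : ∀ i, i < 112927 → P i := stepQ 112926 Q112926 (allL N112926 (tt N120253 F519833) (tt N120279 (iv0 F519993)) (tt N113365 (iv2 F485190)) (tt N113862 (iv3 F487510)) (tt N94300 F483293) (tt N101293 F483294) (tt N82660 (iv6 D216177)) (tt N101292 F483295))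
theorem Q112928 : ∀ i, i < 112928 → P i := stepQ 112927 Q112927 (allL N112927 (tt N122236 (iv1 F530930)) (tt N114396 (iv0 F489954)) (tt N82665 F483296) (tt N122245 D225504) (tt N82661 (iv4 D216178)) (tt N120723 (iv5 F522357)) (tt N119312 (iv6 F514972)) (tt N121764 (iv7 F528174)))
theorem Q112929 : ∀ i, i < 112929 → P i := stepQ 112928 Q112928 (allL N112928 (tt N121271 (iv1 F525500)) (tt N117178 (iv0 F503778)) (tt N82666 F483297) (tt N112036 F483298) (tt N119312 F514970) (tt N116930 (iv5 F502552)) (tt N82661 (iv6 D216179)) (tt N121230 (iv7 F525263)))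
theorem Q112930 : ∀ i, i < 112930 → P i := stepQ 112929 Q112929 (allL N112929 (tt N107587 F483300) (tt N113729 (iv0 F486874)) (tt N116940 (iv2 F502604)) (tt N94308 F483301) (tt N82663 (iv4 D216180)) (tt N94307 F483299) (tt N122246 D225505) (tt N121982 (iv7 F529448)))
theorem Q112931 : ∀ i, i < 112931 → P i := stepQ 112930 Q112930 (allL N112930 (tt N105137 F485194) (tt N121928 (iv0 F529117)) (tt N116939 (iv2 F502601)) (tt N113960 (iv3 F487971)) (tt N122246 (iv4 F530990)) (tt N115117 (iv5 F493571)) (tt N82663 (iv6 D216181)) (tt N116157 (iv7 F498791)))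
theorem Q112932 : ∀ i, i < 112932 → P i := stepQ 112931 Q112931 (allL N112931 (tt N86468 (iv1 F483304)) (tt N86473 (iv0 F483303)) (tt N113959 (iv2 F487966)) (tt N82664 (iv3 D216182)) (tt N114056 (iv4 F488384)) (tt N83334 F483302) (tt N121826 (iv6 F528550)) (tt N116938 (iv7 F502598)))
theorem Q112933 : ∀ i, i < 112933 → P i := stepQ 112932 Q112932 (allL N112932 (tt N113729 (iv1 F486875)) (tt N107587 (iv0 F483306)) (tt N121982 (iv2 F529445)) (tt N119308 (iv3 F514959)) (tt N82664 (iv4 D216183)) (tt N109416 F483305) (tt N119307 (iv6 F514954)) (tt N116940 (iv7 F502605)))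
theorem Q112934 : ∀ i, i < 112934 → P i := stepQ 112933 Q112933 (allL N112933 (tt N117686 F506416) (tt N120330 F520223) (tt N120329 (iv2 F520218)) (tt N121826 (iv3 F528548)) (tt N119307 (iv4 F514955)) (tt N105070 F483307) (tt N82664 (iv6 D216184)) (tt N120328 F520213))
theorem Q112935 : ∀ i, i < 112935 → P i := stepQ 112934 Q112934 (allL N112934 (tt N121764 (iv1 F528175)) (tt N82665 (iv0 D216185)) (tt N122236 (iv2 F530935)) (tt N121432 (iv3 F526338)) (tt N84417 F483308) (tt N121430 (iv5 F526326)) (tt N118567 (iv6 F510950)) (tt N114396 (iv7 F489953)))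
theorem Q112936 : ∀ i, i < 112936 → P i := stepQ 112935 Q112935 (allL N112935 (tt N82665 (iv1 D216186)) (tt N121764 (iv0 F528176)) (tt N114396 (iv2 F489952)) (tt N121990 (iv3 F529490)) (tt N113020 (iv4 F483594)) (tt N121848 (iv5 F528682)) (tt N122247 D225506) (tt N122236 (iv7 F530931)))
theorem Q112937 : ∀ i, i < 112937 → P i := stepQ 112936 Q112936 (allL N112936 (tt N118569 F510955) (tt N121463 (iv0 F526515)) (tt N122248 D225507) (tt N82665 (iv3 D216187)) (tt N82673 F483309) (tt N117811 (iv5 F507084)) (tt N122249 D225508) (tt N121915 F529044))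
theorem Q112938 : ∀ i, i < 112938 → P i := stepQ 112937 Q112937 (allL N112937 (tt N98077 (iv1 F483312)) (tt N119759 F517278) (tt N120723 (iv2 F522355)) (tt N117811 (iv3 F507086)) (tt N109277 F483310) (tt N82665 (iv5 D216188)) (tt N111601 (iv6 F483311)) (tt N117922 (iv7 F507612)))
theorem Q112939 : ∀ i, i < 112939 → P i := stepQ 112938 Q112938 (allL N112938 (tt N119314 F514978) (tt N117803 (iv0 F507052)) (tt N119312 (iv2 F514971)) (tt N122249 (iv3 F531002)) (tt N82666 F483313) (tt N122250 D225509) (tt N82665 (iv6 D216189)) (tt N119313 (iv7 F514973)))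
theorem Q112940 : ∀ i, i < 112940 → P i := stepQ 112939 Q112939 (allL N112939 (tt N82666 (iv1 D216190)) (tt N121230 (iv0 F525264)) (tt N117178 (iv2 F503774)) (tt N108381 F483315) (tt N117875 F507383) (tt N108377 (iv5 F483314)) (tt N108378 F483316) (tt N121271 (iv7 F525499)))
theorem Q112941 : ∀ i, i < 112941 → P i := stepQ 112940 Q112940 (allL N112940 (tt N117178 F503777) (tt N121271 F525501) (tt N121230 (iv2 F525260)) (tt N82677 F483317) (tt N119313 F514975) (tt N116965 (iv5 F502735)) (tt N119605 (iv6 F516475)) (tt N82666 (iv7 D216191)))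
theorem Q112942 : ∀ i, i < 112942 → P i := stepQ 112941 Q112941 (allL N112941 (tt N111297 F483321) (tt N86835 F483322) (tt N115179 (iv2 F493888)) (tt N84732 F483323) (tt N82667 (iv4 D216192)) (tt N109132 F483320) (tt N89598 F483318) (tt N86765 F483319))
theorem Q112943 : ∀ i, i < 112943 → P i := stepQ 112942 Q112942 (allL N112942 (tt N110088 F483328) (tt N89661 F483329) (tt N110093 F483324) (tt N89960 F483325) (tt N82668 (iv4 D216193)) (tt N109758 F483327) (tt N121268 (iv6 F525479)) (tt N110092 F483326))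
theorem Q112944 : ∀ i, i < 112944 → P i := stepQ 112943 Q112943 (allL N112943 (tt N121338 (iv1 F525851)) (tt N121341 (iv0 F525862)) (tt N113955 (iv2 F487951)) (tt N82670 F483330) (tt N121268 F525482) (tt N83212 F483331) (tt N82668 (iv6 D216194)) (tt N121343 (iv7 F525869)))
theorem Q112945 : ∀ i, i < 112945 → P i := stepQ 112944 Q112944 (allL N112944 (tt N86385 (iv1 F483335)) (tt N86384 F483336) (tt N86387 F483332) (tt N121343 (iv3 F525867)) (tt N113016 (iv4 F483567)) (tt N83215 F483333) (tt N105177 F483334) (tt N82670 (iv7 D216195)))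
theorem Q112946 : ∀ i, i < 112946 → P i := stepQ 112945 Q112945 (allL N112945 (tt N121830 F528578) (tt N121524 F526849) (tt N117220 (iv2 F503968)) (tt N82671 (iv3 D216196)) (tt N121693 (iv4 F527784)) (tt N83354 F483337) (tt N121829 F528571) (tt N113006 (iv7 F483533)))
theorem Q112947 : ∀ i, i < 112947 → P i := stepQ 112946 Q112946 (allL N112946 (tt N120250 (iv1 F519816)) (tt N82673 (iv0 D216197)) (tt N113416 (iv2 F485387)) (tt N120134 (iv3 F519245)) (tt N122251 D225510) (tt N83330 F483338) (tt N118570 F510959) (tt N113413 (iv7 F485378)))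
theorem Q112948 : ∀ i, i < 112948 → P i := stepQ 112947 Q112947 (allL N112947 (tt N82673 (iv1 D216198)) (tt N120250 (iv0 F519815)) (tt N113413 (iv2 F485376)) (tt N100966 (iv3 F483339)) (tt N122252 D225511) (tt N83331 F485164) (tt N121271 (iv6 F525498)) (tt N113416 (iv7 F485388)))
theorem Q112949 : ∀ i, i < 112949 → P i := stepQ 112948 Q112948 (allL N112948 (tt N113416 F485390) (tt N113413 F485381) (tt N82673 (iv2 D216199)) (tt N114004 (iv3 F488152)) (tt N122248 (iv4 F531000)) (tt N83417 F483340) (tt N120330 (iv6 F520222)) (tt N120250 (iv7 F519817)))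
theorem Q112950 : ∀ i, i < 112950 → P i := stepQ 112949 Q112949 (allL N112949 (tt N120329 (iv1 F520214)) (tt N120328 (iv0 F520212)) (tt N120330 (iv2 F520219)) (tt N82674 F483341) (tt N122249 (iv4 F531003)) (tt N106849 F483342) (tt N82673 (iv6 D216200)) (tt N117686 (iv7 F506415)))
theorem Q112951 : ∀ i, i < 112951 → P i := stepQ 112950 Q112950 (allL N112950 (tt N90258 (iv1 F483349)) (tt N90203 (iv0 F483348)) (tt N90255 F483343) (tt N89199 F483344) (tt N106938 F483345) (tt N82676 (iv5 D216201)) (tt N89238 F483346) (tt N90256 F483347))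
theorem Q112952 : ∀ i, i < 112952 → P i := stepQ 112951 Q112951 (allL N112951 (tt N91127 F483355) (tt N100858 F483356) (tt N100993 F483350) (tt N100875 F483351) (tt N82678 (iv4 D216202)) (tt N100576 F483352) (tt N88595 F483353) (tt N88486 F483354))
theorem Q112953 : ∀ i, i < 112953 → P i := stepQ 112952 Q112952 (allL N112952 (tt N101288 F483360) (tt N89393 F483361) (tt N82682 F483357) (tt N122253 D225512) (tt N82679 (iv4 D216203)) (tt N100987 F483358) (tt N120320 (iv6 F520179)) (tt N112035 F483359))
theorem Q112954 : ∀ i, i < 112954 → P i := stepQ 112953 Q112953 (allL N112953 (tt N100856 F483362) (tt N100854 F483363) (tt N113997 (iv2 F488119)) (tt N100884 F483364) (tt N82681 (iv4 D216204)) (tt N120367 (iv5 F520403)) (tt N119099 F513784) (tt N113998 (iv7 F488128)))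
theorem Q112955 : ∀ i, i < 112955 → P i := stepQ 112954 Q112954 (allL N112954 (tt N82682 (iv1 D216205)) (tt N112035 F483365) (tt N89393 F483371) (tt N100862 (iv3 F483369)) (tt N84413 F483368) (tt N100861 F483367) (tt N110875 (iv6 F483370)) (tt N101288 F483366))
theorem Q112956 : ∀ i, i < 112956 → P i := stepQ 112955 Q112955 (allL N112955 (tt N83960 (iv1 F483377)) (tt N88839 (iv0 F483376)) (tt N88836 F483372) (tt N82685 (iv3 D216206)) (tt N113168 (iv4 F484304)) (tt N101251 F483373) (tt N101252 F483374) (tt N88835 F483375))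
theorem Q112957 : ∀ i, i < 112957 → P i := stepQ 112956 Q112956 (allL N112956 (tt N113366 (iv1 F485197)) (tt N83904 F483379) (tt N82687 F483378) (tt N122254 D225513) (tt N82686 (iv4 D216207)) (tt N118434 (iv5 F510335)) (tt N122255 D225514) (tt N113346 (iv7 F485127)))
theorem Q112958 : ∀ i, i < 112958 → P i := stepQ 112957 Q112957 (allL N112957 (tt N122256 D225515) (tt N121144 (iv0 F524763)) (tt N82688 F483380) (tt N116122 (iv3 F498587)) (tt N122255 (iv4 F531031)) (tt N110443 F483381) (tt N82686 (iv6 D216208)) (tt N121917 (iv7 F529050)))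
theorem Q112959 : ∀ i, i < 112959 → P i := stepQ 112958 Q112958 (allL N112958 (tt N113346 (iv1 F485129)) (tt N82687 (iv0 D216209)) (tt N113366 F485199) (tt N118514 (iv3 F510765)) (tt N83905 F483382) (tt N98077 F483383) (tt N94120 (iv6 F483384)) (tt N83904 (iv7 F483385)))
theorem Q112960 : ∀ i, i < 112960 → P i := stepQ 112959 Q112959 (allL N112959 (tt N82687 (iv1 D216210)) (tt N113346 (iv0 F485128)) (tt N83904 (iv2 F483387)) (tt N118523 F510803) (tt N83896 F483386) (tt N119759 (iv5 F517275)) (tt N116554 (iv6 F500738)) (tt N113366 (iv7 F485198)))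
theorem Q112961 : ∀ i, i < 112961 → P i := stepQ 112960 Q112960 (allL N112960 (tt N122257 D225516) (tt N117813 (iv0 F507090)) (tt N122258 D225517) (tt N82687 (iv3 D216211)) (tt N82690 F483388) (tt N116639 (iv5 F501098)) (tt N122259 D225518) (tt N113361 (iv7 F485176)))
theorem Q112962 : ∀ i, i < 112962 → P i := stepQ 112961 Q112961 (allL N112961 (tt N122260 D225519) (tt N122261 D225520) (tt N122255 (iv2 F531030)) (tt N122259 (iv3 F531041)) (tt N82688 F483389) (tt N120140 (iv5 F519272)) (tt N82687 (iv6 D216212)) (tt N122259 (iv7 F531044)))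
theorem Q112963 : ∀ i, i < 112963 → P i := stepQ 112962 Q112962 (allL N112962 (tt N121917 (iv1 F529052)) (tt N82688 (iv0 D216213)) (tt N122256 F531035) (tt N117175 (iv3 F503761)) (tt N122262 D225521) (tt N121145 (iv5 F524769)) (tt N117174 F503759) (tt N121144 F524765))
theorem Q112964 : ∀ i, i < 112964 → P i := stepQ 112963 Q112963 (allL N112963 (tt N82688 (iv1 D216214)) (tt N121917 (iv0 F529051)) (tt N121144 (iv2 F524760)) (tt N116744 (iv3 F501605)) (tt N122263 D225522) (tt N105560 F483390) (tt N121082 F524430) (tt N122256 (iv7 F531037)))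
theorem Q112965 : ∀ i, i < 112965 → P i := stepQ 112964 Q112964 (allL N112964 (tt N121144 (iv1 F524764)) (tt N122256 F531036) (tt N121917 (iv2 F529047)) (tt N82691 F483391) (tt N122259 (iv4 F531042)) (tt N114455 (iv5 F490259)) (tt N82690 F483392) (tt N82688 (iv7 D216215)))
theorem Q112966 : ∀ i, i < 112966 → P i := stepQ 112965 Q112965 (allL N112965 (tt N113171 F484343) (tt N122235 F530928) (tt N113987 (iv2 F488072)) (tt N82689 (iv3 D216216)) (tt N121340 (iv4 F525858)) (tt N83398 F483393) (tt N121339 (iv6 F525856)) (tt N112901 F483394))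
theorem Q112967 : ∀ i, i < 112967 → P i := stepQ 112966 Q112966 (allL N112966 (tt N113345 F485122) (tt N82690 (iv0 D216217)) (tt N113360 F485172) (tt N113980 (iv3 F498495)) (tt N122264 D225523) (tt N83415 F484402) (tt N122243 (iv6 F530972)) (tt N113359 F485169))
theorem Q112968 : ∀ i, i < 112968 → P i := stepQ 112967 Q112967 (allL N112967 (tt N82690 (iv1 D216218)) (tt N113345 F485123) (tt N113359 F485167) (tt N100961 (iv3 F483395)) (tt N122265 D225524) (tt N83416 F485124) (tt N119590 (iv6 F516408)) (tt N113360 (iv7 F485171)))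
theorem Q112969 : ∀ i, i < 112969 → P i := stepQ 112968 Q112968 (allL N112968 (tt N113360 (iv1 F485170)) (tt N113359 F485166) (tt N82690 (iv2 D216219)) (tt N117265 (iv3 F504178)) (tt N122258 (iv4 F531039)) (tt N83378 F483396) (tt N121917 (iv6 F529049)) (tt N113345 (iv7 F485121)))
theorem Q112970 : ∀ i, i < 112970 → P i := stepQ 112969 Q112969 (allL N112969 (tt N114424 (iv1 F490085)) (tt N113600 (iv0 F486242)) (tt N113977 (iv2 F488042)) (tt N82692 (iv3 D216220)) (tt N89710 (iv4 F483399)) (tt N89619 F483397) (tt N108424 F483398) (tt N117266 (iv7 F504187)))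
theorem Q112971 : ∀ i, i < 112971 → P i := stepQ 112970 Q112970 (allL N112970 (tt N117264 F504177) (tt N107392 (iv0 F483402)) (tt N82696 F483400) (tt N113345 (iv3 F485119)) (tt N120299 (iv4 F520097)) (tt N83353 F483401) (tt N82694 (iv6 D216221)) (tt N117265 (iv7 F504181)))
theorem Q112972 : ∀ i, i < 112972 → P i := stepQ 112971 Q112971 (allL N112971 (tt N122266 D225525) (tt N121106 (iv0 F524544)) (tt N120299 (iv2 F520096)) (tt N82695 (iv3 D216222)) (tt N82696 F483404) (tt N122015 (iv5 F529647)) (tt N82695 (iv6 F483405)) (tt N117260 (iv7 F504156)))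
theorem Q112973 : ∀ i, i < 112973 → P i := stepQ 112972 Q112972 (allL N112972 (tt N117265 (iv1 F504182)) (tt N82696 (iv0 D216223)) (tt N117264 F504176) (tt N122267 D225526) (tt N120318 (iv4 F520170)) (tt N83399 F483407) (tt N107382 F483406) (tt N107392 (iv7 F483408)))
theorem Q112974 : ∀ i, i < 112974 → P i := stepQ 112973 Q112973 (allL N112973 (tt N88551 (iv1 F483409)) (tt N82697 (iv0 D216224)) (tt N113494 (iv2 F485761)) (tt N122268 D225527) (tt N120069 (iv4 F518880)) (tt N83428 (iv5 F484495)) (tt N121913 (iv6 F529030)) (tt N113493 F485755))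
theorem Q112975 : ∀ i, i < 112975 → P i := stepQ 112974 Q112974 (allL N112974 (tt N113494 (iv1 F485757)) (tt N113493 F485753) (tt N82697 (iv2 D216225)) (tt N122217 (iv3 F530836)) (tt N120075 (iv4 F518915)) (tt N83551 F483410) (tt N122216 (iv6 F530831)) (tt N88551 F483411))
theorem Q112976 : ∀ i, i < 112976 → P i := stepQ 112975 Q112975 (allL N112975 (tt N120077 (iv1 F518926)) (tt N120073 (iv0 F518905)) (tt N120075 F518917) (tt N83512 F483412) (tt N82697 (iv4 D216226)) (tt N109190 F483413) (tt N112750 (iv6 F483414)) (tt N113488 (iv7 F485736)))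
theorem Q112977 : ∀ i, i < 112977 → P i := stepQ 112976 Q112976 (allL N112976 (tt N122269 D225528) (tt N114697 (iv0 F491403)) (tt N122216 (iv2 F530828)) (tt N82698 F483415) (tt N112750 F483416) (tt N111321 F483417) (tt N82697 (iv6 D216227)) (tt N88549 F483418))
theorem Q112978 : ∀ i, i < 112978 → P i := stepQ 112977 Q112977 (allL N112977 (tt N122217 F530840) (tt N82699 (iv0 D216228)) (tt N121303 (iv2 F525645)) (tt N112591 (iv3 F483420)) (tt N108031 (iv4 F483421)) (tt N83424 F483419) (tt N121020 (iv6 F524054)) (tt N121515 (iv7 F526801)))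
theorem Q112979 : ∀ i, i < 112979 → P i := stepQ 112978 Q112978 (allL N112978 (tt N82699 (iv1 D216229)) (tt N122217 (iv0 F530839)) (tt N121515 (iv2 F526797)) (tt N122270 D225529) (tt N116809 (iv4 F501952)) (tt N83425 F484477) (tt N116160 (iv6 F498803)) (tt N121303 (iv7 F525649)))
theorem Q112980 : ∀ i, i < 112980 → P i := stepQ 112979 Q112979 (allL N112979 (tt N121303 F525651) (tt N121515 (iv0 F526802)) (tt N82699 (iv2 D216230)) (tt N88551 F483422) (tt N116657 (iv4 F501173)) (tt N83473 F483423) (tt N83474 F483424) (tt N122217 (iv7 F530838)))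
theorem Q112981 : ∀ i, i < 112981 → P i := stepQ 112980 Q112980 (allL N112980 (tt N116659 F501181) (tt N113553 (iv0 F486004)) (tt N116657 F501172) (tt N83565 F483425) (tt N82699 (iv4 D216231)) (tt N107436 (iv5 F483427)) (tt N83484 F483426) (tt N116164 (iv7 F498825)))
theorem Q112982 : ∀ i, i < 112982 → P i := stepQ 112981 Q112981 (allL N112981 (tt N82701 (iv1 F483432)) (tt N82700 (iv0 D216232)) (tt N82704 (iv2 F483428)) (tt N83443 F483429) (tt N113949 (iv4 F487918)) (tt N83059 F483430) (tt N121523 (iv6 F526845)) (tt N82702 F483431))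
theorem Q112983 : ∀ i, i < 112983 → P i := stepQ 112982 Q112982 (allL N112982 (tt N82704 F483458) (tt N82702 F483459) (tt N82700 (iv2 D216233)) (tt N122271 D225530) (tt N114699 (iv4 F491406)) (tt N115755 (iv5 F496683)) (tt N113975 (iv6 F488038)) (tt N82701 (iv7 F483433)))
theorem Q112984 : ∀ i, i < 112984 → P i := stepQ 112983 Q112983 (allL N112983 (tt N122270 F531092) (tt N121510 (iv0 F526771)) (tt N116709 (iv2 F501424)) (tt N82700 (iv3 D216234)) (tt N116759 (iv4 F501676)) (tt N121822 (iv5 F528523)) (tt N114495 F490461) (tt N122272 D225531))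
theorem Q112985 : ∀ i, i < 112985 → P i := stepQ 112984 Q112984 (allL N112984 (tt N113813 (iv1 F487924)) (tt N113814 (iv0 F487923)) (tt N114699 (iv2 F491405)) (tt N121110 (iv3 F524560)) (tt N82700 (iv4 D216235)) (tt N114669 (iv5 F491296)) (tt N84981 F483437) (tt N116265 (iv7 F499274)))
theorem Q112986 : ∀ i, i < 112986 → P i := stepQ 112985 Q112985 (allL N112985 (tt N115756 (iv1 F496694)) (tt N83341 F483434) (tt N115755 F496686) (tt N121822 F528525) (tt N91131 (iv4 F483682)) (tt N82700 (iv5 D216236)) (tt N121935 (iv6 F529159)) (tt N115432 F495169))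
theorem Q112987 : ∀ i, i < 112987 → P i := stepQ 112986 Q112986 (allL N112986 (tt N85524 F483435) (tt N113505 (iv0 F485817)) (tt N113975 F488037) (tt N114495 (iv3 F490460)) (tt N84981 (iv4 F483436)) (tt N114535 (iv5 F490653)) (tt N82700 (iv6 D216237)) (tt N113067 (iv7 F483822)))
theorem Q112988 : ∀ i, i < 112988 → P i := stepQ 112987 Q112987 (allL N112987 (tt N82702 F483454) (tt N82704 F483455) (tt N82701 F483438) (tt N122272 (iv3 F531096)) (tt N116265 (iv4 F499271)) (tt N115432 (iv5 F495166)) (tt N88827 (iv6 F483442)) (tt N82700 (iv7 D216238)))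
theorem Q112989 : ∀ i, i < 112989 → P i := stepQ 112988 Q112988 (allL N112988 (tt N117390 F504791) (tt N122268 (iv0 F531079)) (tt N116525 (iv2 F500609)) (tt N82701 (iv3 D216239)) (tt N119108 F513833) (tt N116517 (iv5 F500572)) (tt N83903 (iv6 F483443)) (tt N122271 (iv7 F531093)))
theorem Q112990 : ∀ i, i < 112990 → P i := stepQ 112989 Q112989 (allL N112989 (tt N113814 F487249) (tt N113813 (iv0 F487244)) (tt N116265 F499272) (tt N122273 D225532) (tt N82701 (iv4 D216240)) (tt N91108 F483828) (tt N113068 (iv6 F483824)) (tt N114699 (iv7 F491408)))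
theorem Q112991 : ∀ i, i < 112991 → P i := stepQ 112990 Q112990 (allL N112990 (tt N83341 F483444) (tt N115756 F496693) (tt N115432 (iv2 F495164)) (tt N116517 (iv3 F500570)) (tt N91132 F483439) (tt N82701 (iv5 D216241)) (tt N83463 F483440) (tt N115755 (iv7 F496687)))
theorem Q112992 : ∀ i, i < 112992 → P i := stepQ 112991 Q112991 (allL N112991 (tt N83058 (iv1 F483452)) (tt N83057 (iv0 F483460)) (tt N82703 F483448) (tt N83433 F483449) (tt N90620 F483450) (tt N82702 (iv5 D216244)) (tt N122274 D225533) (tt N83059 F483451))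
theorem Q112993 : ∀ i, i < 112993 → P i := stepQ 112992 Q112992 (allL N112992 (tt N82703 (iv1 D216245)) (tt N83059 F483463) (tt N83057 F483467) (tt N116192 (iv3 F498938)) (tt N88729 F483465) (tt N116141 (iv5 F498702)) (tt N110252 (iv6 F483466)) (tt N83058 F483464))
theorem Q112994 : ∀ i, i < 112994 → P i := stepQ 112993 Q112993 (allL N112993 (tt N111202 F483470) (tt N121842 (iv0 F528643)) (tt N122274 (iv2 F531107)) (tt N82705 F483468) (tt N85482 F483469) (tt N121841 (iv5 F528633)) (tt N82703 (iv6 D216246)) (tt N121923 (iv7 F529086)))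
theorem Q112995 : ∀ i, i < 112995 → P i := stepQ 112994 Q112994 (allL N112994 (tt N121522 (iv1 F526837)) (tt N121521 (iv0 F526836)) (tt N121523 (iv2 F526842)) (tt N82706 F483471) (tt N113947 (iv4 F487907)) (tt N117195 (iv5 F503857)) (tt N82704 (iv6 D216247)) (tt N120402 (iv7 F520597)))
theorem Q112996 : ∀ i, i < 112996 → P i := stepQ 112995 Q112995 (allL N112995 (tt N86381 F483477) (tt N86383 (iv0 F483478)) (tt N110157 F483472) (tt N90512 F483473) (tt N82709 F483474) (tt N109319 F483475) (tt N82708 (iv6 D216248)) (tt N110067 F483476))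
theorem Q112997 : ∀ i, i < 112997 → P i := stepQ 112996 Q112996 (allL N112996 (tt N105269 F483482) (tt N110152 F483483) (tt N113487 (iv2 F485726)) (tt N100577 F483479) (tt N120065 (iv4 F518855)) (tt N99838 F483480) (tt N82710 (iv6 D216249)) (tt N100061 F483481))
theorem Q112998 : ∀ i, i < 112998 → P i := stepQ 112997 Q112997 (allL N112997 (tt N113924 (iv1 F487811)) (tt N113923 F487806) (tt N82715 F483484) (tt N110065 F483485) (tt N82711 (iv4 D216250)) (tt N109097 F483488) (tt N106505 F483486) (tt N110154 F483487))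
theorem Q112999 : ∀ i, i < 112999 → P i := stepQ 112998 Q112998 (allL N112998 (tt N112883 F483493) (tt N110094 (iv0 F483494)) (tt N100871 F483489) (tt N82714 (iv3 D216251)) (tt N89411 F483490) (tt N83482 F483491) (tt N121086 (iv6 F524446)) (tt N110142 F483492))
theorem Q113000 : ∀ i, i < 113000 → P i := stepQ 112999 Q112999 (allL N112999 (tt N117176 (iv1 F503769)) (tt N117179 (iv0 F503783)) (tt N106505 F483495) (tt N120094 (iv3 F519009)) (tt N82716 F483496) (tt N104957 F483497) (tt N82715 (iv6 D216252)) (tt N106500 (iv7 F483498)))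
theorem Q113001 : ∀ i, i < 113001 → P i := stepQ 113000 Q113000 (allL N113000 (tt N101913 (iv1 F483502)) (tt N82716 (iv0 D216253)) (tt N106294 (iv2 F483501)) (tt N114041 (iv3 F488323)) (tt N106215 F483500) (tt N98988 F483499) (tt N107376 (iv6 F483504)) (tt N106066 F483503))
theorem Q113002 : ∀ i, i < 113002 → P i := stepQ 113001 Q113001 (allL N113001 (tt N113966 (iv1 F487997)) (tt N113965 F488006) (tt N113967 (iv2 F488001)) (tt N82719 F483506) (tt N113609 (iv4 F486286)) (tt N83200 F483507) (tt N82717 (iv6 D216254)) (tt N113607 (iv7 F486280)))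
theorem Q113003 : ∀ i, i < 113003 → P i := stepQ 113002 Q113002 (allL N113002 (tt N84163 F483510) (tt N116822 F502011) (tt N90820 F483511) (tt N82718 (iv3 D216255)) (tt N113954 (iv4 F487948)) (tt N83348 F483508) (tt N113920 (iv6 F487791)) (tt N90732 F483509))
theorem Q113004 : ∀ i, i < 113004 → P i := stepQ 113003 Q113003 (allL N113003 (tt N101224 F483516) (tt N101225 F483517) (tt N110327 F483512) (tt N113920 (iv3 F487790)) (tt N82719 F483513) (tt N110309 F483514) (tt N82718 (iv6 D216256)) (tt N110326 F483515))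
theorem Q113005 : ∀ i, i < 113005 → P i := stepQ 113004 Q113004 (allL N113004 (tt N113498 (iv1 F485783)) (tt N110149 (iv0 F483522)) (tt N112168 F483518) (tt N113607 (iv3 F486277)) (tt N110326 F483519) (tt N83204 F483520) (tt N110163 F483521) (tt N82719 (iv7 D216257)))
theorem Q113006 : ∀ i, i < 113006 → P i := stepQ 113005 Q113005 (allL N113005 (tt N110177 F483526) (tt N110179 (iv0 F483528)) (tt N110176 F483523) (tt N108419 F483527) (tt N82720 (iv4 D216258)) (tt N122058 (iv5 F529907)) (tt N108415 F483524) (tt N110175 F483525))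
theorem Q113007 : ∀ i, i < 113007 → P i := stepQ 113006 Q113006 (allL N113006 (tt N121623 (iv1 F527396)) (tt N116814 (iv0 F501978)) (tt N122119 (iv2 F530280)) (tt N82721 (iv3 D216259)) (tt N108419 F483530) (tt N83349 F483531) (tt N108418 F483532) (tt N112945 F483533))
theorem Q113008 : ∀ i, i < 113008 → P i := stepQ 113007 Q113007 (allL N113007 (tt N110164 (iv1 F483538)) (tt N110071 F483539) (tt N110163 F483534) (tt N113964 (iv3 F487991)) (tt N84334 F483535) (tt N83002 F483536) (tt N112168 F483537) (tt N82722 (iv7 D216260)))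
theorem Q113009 : ∀ i, i < 113009 → P i := stepQ 113008 Q113008 (allL N113008 (tt N120095 (iv1 F519018)) (tt N82723 (iv0 D216261)) (tt N113541 (iv2 F485947)) (tt N119306 (iv3 F514950)) (tt N113862 (iv4 F487511)) (tt N113212 F485948) (tt N109098 F485949) (tt N113540 F485950))
theorem Q113010 : ∀ i, i < 113010 → P i := stepQ 113009 Q113009 (allL N113009 (tt N82723 (iv1 D216262)) (tt N120095 (iv0 F519017)) (tt N113540 (iv2 F485940)) (tt N91143 (iv3 F483543)) (tt N110104 F483541) (tt N91142 F483540) (tt N110103 (iv6 F483542)) (tt N113541 (iv7 F485943)))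
theorem Q113011 : ∀ i, i < 113011 → P i := stepQ 113010 Q113010 (allL N113010 (tt N113541 (iv1 F485944)) (tt N113540 (iv0 F485941)) (tt N82723 (iv2 D216263)) (tt N120127 (iv3 F519198)) (tt N110152 F483544) (tt N83430 F483545) (tt N121324 (iv6 F525764)) (tt N120095 (iv7 F519016)))
theorem Q113012 : ∀ i, i < 113012 → P i := stepQ 113011 Q113011 (allL N113011 (tt N113022 F483600) (tt N121262 (iv0 F525449)) (tt N121324 (iv2 F525762)) (tt N82724 F483546) (tt N120094 (iv4 F519010)) (tt N106979 (iv5 F485545)) (tt N82723 (iv6 D216264)) (tt N121887 (iv7 F528914)))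
theorem Q113013 : ∀ i, i < 113013 → P i := stepQ 113012 Q113012 (allL N113012 (tt N86025 F483552) (tt N86027 F483551) (tt N86024 F483547) (tt N106979 (iv3 F485544)) (tt N112818 F483550) (tt N82724 (iv5 D216265)) (tt N82995 F483548) (tt N86023 F483549))
theorem Q113014 : ∀ i, i < 113014 → P i := stepQ 113013 Q113013 (allL N113013 (tt N122210 (iv1 F530801)) (tt N112371 F483555) (tt N122051 (iv2 F529861)) (tt N82725 (iv3 D216266)) (tt N113893 (iv4 F487666)) (tt N110543 (iv5 F483554)) (tt N92030 F483553) (tt N113891 (iv7 F487658)))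
theorem Q113015 : ∀ i, i < 113015 → P i := stepQ 113014 Q113014 (allL N113014 (tt N106934 F483561) (tt N106865 (iv0 F483562)) (tt N106950 F483556) (tt N110543 F483557) (tt N110549 F483558) (tt N82725 (iv5 D216267)) (tt N105976 F483559) (tt N91751 F483560))
theorem Q113016 : ∀ i, i < 113016 → P i := stepQ 113015 Q113015 (allL N113015 (tt N113613 F486309) (tt N116297 F499427) (tt N116296 (iv2 F499425)) (tt N82726 (iv3 D216268)) (tt N121581 (iv4 F527145)) (tt N106948 F483563) (tt N108390 (iv6 F483564)) (tt N116295 F499423))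
theorem Q113017 : ∀ i, i < 113017 → P i := stepQ 113016 Q113016 (allL N113016 (tt N110064 F483570) (tt N110062 (iv0 F483571)) (tt N110146 F483565) (tt N108390 F483566) (tt N112944 F483567) (tt N99891 F483568) (tt N82726 (iv6 D216269)) (tt N110147 F483569))
theorem Q113018 : ∀ i, i < 113018 → P i := stepQ 113017 Q113017 (allL N113017 (tt N82727 (iv1 D216270)) (tt N106499 F483572) (tt N106498 (iv2 F483575)) (tt N114036 F488308) (tt N90353 F483574) (tt N110170 F483577) (tt N106476 (iv6 F483576)) (tt N102672 F483573))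
theorem Q113019 : ∀ i, i < 113019 → P i := stepQ 113018 Q113018 (allL N113018 (tt N82730 (iv1 D216271)) (tt N82990 (iv0 F483584)) (tt N82993 F483583) (tt N89635 (iv3 F483581)) (tt N88299 F483580) (tt N83466 F483579) (tt N82893 (iv6 F483582)) (tt N82994 F483578))
theorem Q113020 : ∀ i, i < 113020 → P i := stepQ 113019 Q113019 (allL N113019 (tt N82994 (iv1 F483591)) (tt N82993 F483590) (tt N82730 (iv2 D216272)) (tt N86232 F483585) (tt N84185 F483586) (tt N91148 F483587) (tt N89694 F483588) (tt N82990 F483589))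
theorem Q113021 : ∀ i, i < 113021 → P i := stepQ 113020 Q113020 (allL N113020 (tt N113725 (iv1 F486857)) (tt N113726 (iv0 F486861)) (tt N84977 F483592) (tt N82732 (iv3 D216273)) (tt N112935 F483594) (tt N84976 F483593) (tt N116254 (iv6 F499240)) (tt N113551 (iv7 F485996)))
theorem Q113022 : ∀ i, i < 113022 → P i := stepQ 113021 Q113021 (allL N113021 (tt N112804 F483595) (tt N106560 F483596) (tt N113554 (iv2 F486005)) (tt N121089 (iv3 F524459)) (tt N82732 (iv4 D216274)) (tt N119989 (iv5 F518418)) (tt N106202 F483597) (tt N113552 (iv7 F486000)))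
theorem Q113023 : ∀ i, i < 113023 → P i := stepQ 113022 Q113022 (allL N113022 (tt N116158 F498796) (tt N113011 (iv0 F483600)) (tt N113555 (iv2 F486011)) (tt N116254 (iv3 F499239)) (tt N106202 F483598) (tt N82966 F483599) (tt N82732 (iv6 D216275)) (tt N121109 (iv7 F524558)))
theorem Q113024 : ∀ i, i < 113024 → P i := stepQ 113023 Q113023 (allL N113023 (tt N121480 (iv1 F526611)) (tt N121913 F529031) (tt N116654 (iv2 F501158)) (tt N82733 (iv3 D216276)) (tt N82736 F483601) (tt N116634 F501080) (tt N112755 F483602) (tt N116161 (iv7 F498811)))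
theorem Q113025 : ∀ i, i < 113025 → P i := stepQ 113024 Q113024 (allL N113024 (tt N82736 (iv1 D216277)) (tt N120127 F519202) (tt N113483 (iv2 F485701)) (tt N120361 (iv3 F520375)) (tt N121495 (iv4 F526685)) (tt N113216 (iv5 F484530)) (tt N120077 (iv6 F518924)) (tt N113485 (iv7 F485717)))
theorem Q113026 : ∀ i, i < 113026 → P i := stepQ 113025 Q113025 (allL N113025 (tt N114061 F488398) (tt N113775 (iv0 F491341)) (tt N114059 F488395) (tt N82737 (iv3 D216278)) (tt N122237 (iv4 F530938)) (tt N120485 (iv5 F521015)) (tt N114680 F491340) (tt N114060 (iv7 F488394)))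
theorem Q113027 : ∀ i, i < 113027 → P i := stepQ 113026 Q113026 (allL N113026 (tt N103037 F483606) (tt N110151 (iv0 F483607)) (tt N114831 (iv2 F492100)) (tt N114680 (iv3 F491336)) (tt N110028 F483603) (tt N92803 F483604) (tt N82737 (iv6 D216279)) (tt N110159 F483605))
theorem Q113028 : ∀ i, i < 113028 → P i := stepQ 113027 Q113027 (allL N113027 (tt N116294 F499419) (tt N122275 D225534) (tt N113939 (iv2 F487880)) (tt N82738 (iv3 D216280)) (tt N113715 (iv4 F486796)) (tt N113238 (iv5 F484659)) (tt N110158 F483608) (tt N113937 (iv7 F487876)))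
theorem Q113029 : ∀ i, i < 113029 → P i := stepQ 113028 Q113028 (allL N113028 (tt N83311 (iv1 F483612)) (tt N82740 (iv0 D216281)) (tt N88416 (iv2 F483611)) (tt N90805 (iv3 F483614)) (tt N83308 F483610) (tt N91172 F483609) (tt N114827 (iv6 F492090)) (tt N88415 F483613))
theorem Q113030 : ∀ i, i < 113030 → P i := stepQ 113029 Q113029 (allL N113029 (tt N85817 F483617) (tt N111281 F483618) (tt N114253 F489238) (tt N109114 F483615) (tt N82741 (iv4 D216282)) (tt N122057 (iv5 F529900)) (tt N119304 (iv6 F514938)) (tt N105094 F483616))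
theorem Q113031 : ∀ i, i < 113031 → P i := stepQ 113030 Q113030 (allL N113030 (tt N83422 (iv1 F483625)) (tt N103112 F483624) (tt N82743 (iv2 D216283)) (tt N100008 F483619) (tt N84475 F483620) (tt N103128 F483621) (tt N108447 F483622) (tt N108441 F483623))
theorem Q113032 : ∀ i, i < 113032 → P i := stepQ 113031 Q113031 (allL N113031 (tt N85744 (iv1 F483632)) (tt N85743 F483631) (tt N82745 (iv2 D216284)) (tt N86830 F483626) (tt N86232 F483627) (tt N83661 F483628) (tt N85193 F483629) (tt N85742 F483630))
theorem Q113033 : ∀ i, i < 113033 → P i := stepQ 113032 Q113032 (allL N113032 (tt N112313 F483637) (tt N108254 (iv0 F483638)) (tt N94578 F483633) (tt N82746 (iv3 D216285)) (tt N120115 (iv4 F519129)) (tt N83630 F483634) (tt N94575 F483635) (tt N103888 F483636))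
theorem Q113034 : ∀ i, i < 113034 → P i := stepQ 113033 Q113033 (allL N113033 (tt N82954 (iv1 F483642)) (tt N82759 (iv0 D216286)) (tt N82968 (iv2 F483641)) (tt N103874 (iv3 F483644)) (tt N112066 F483640) (tt N102615 F483639) (tt N121441 (iv6 F526394)) (tt N82967 F483643))
theorem Q113035 : ∀ i, i < 113035 → P i := stepQ 113034 Q113034 (allL N113034 (tt N105610 F483651) (tt N105624 F483650) (tt N104387 F483645) (tt N105400 F483646) (tt N105482 F483649) (tt N82761 (iv5 D216287)) (tt N108070 F483647) (tt N104388 F483648))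
theorem Q113036 : ∀ i, i < 113036 → P i := stepQ 113035 Q113035 (allL N113035 (tt N105624 F483655) (tt N105610 F483656) (tt N104388 F483652) (tt N116138 (iv3 F498681)) (tt N85860 F483653) (tt N82762 (iv5 D216288)) (tt N85702 F483657) (tt N104387 F483654))
theorem Q113037 : ∀ i, i < 113037 → P i := stepQ 113036 Q113036 (allL N113036 (tt N105669 (iv1 F483662)) (tt N110312 (iv0 F483661)) (tt N112917 F483658) (tt N84085 F483659) (tt N120840 (iv4 F523019)) (tt N83324 F483660) (tt N82768 (iv6 D216289)) (tt N115403 (iv7 F495020)))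
theorem Q113038 : ∀ i, i < 113038 → P i := stepQ 113037 Q113037 (allL N113037 (tt N91210 F483666) (tt N88782 (iv0 F483667)) (tt N84082 F483663) (tt N82769 (iv3 D216290)) (tt N117345 (iv4 F504577)) (tt N82798 F483664) (tt N116319 F499534) (tt N106895 F483665))
theorem Q113039 : ∀ i, i < 113039 → P i := stepQ 113038 Q113038 (allL N113038 (tt N91789 F483672) (tt N106036 F483673) (tt N106038 F483668) (tt N82776 (iv3 D216291)) (tt N91786 F483669) (tt N107109 F483670) (tt N90609 F483674) (tt N97930 F483671))
theorem Q113040 : ∀ i, i < 113040 → P i := stepQ 113039 Q113039 (allL N113039 (tt N103363 F483680) (tt N105167 (iv0 F483681)) (tt N105350 F483675) (tt N90609 F483676) (tt N103317 F483677) (tt N90608 F483678) (tt N82776 (iv6 D216292)) (tt N106012 F483679))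
theorem Q113041 : ∀ i, i < 113041 → P i := stepQ 113040 Q113040 (allL N113040 (tt N119382 (iv1 F515336)) (tt N102201 F483686) (tt N102229 F483683) (tt N102199 F483684) (tt N114810 (iv4 F491992)) (tt N82782 (iv5 D216293)) (tt N102198 F483685) (tt N118785 (iv7 F512057)))
theorem Q113042 : ∀ i, i < 113042 → P i := stepQ 113041 Q113041 (allL N113041 (tt N102159 (iv1 F483696)) (tt N82784 (iv0 D216294)) (tt N102299 (iv2 F499390)) (tt N118908 F512693) (tt N115779 (iv4 F496830)) (tt N120621 (iv5 F521803)) (tt N119461 (iv6 F515740)) (tt N102300 F499389))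
theorem Q113043 : ∀ i, i < 113043 → P i := stepQ 113042 Q113042 (allL N113042 (tt N82784 (iv1 D216295)) (tt N102159 F483687) (tt N102300 F499387) (tt N97745 (iv3 F483689)) (tt N95812 F483688) (tt N116289 (iv5 F499384)) (tt N95811 (iv6 F483690)) (tt N102299 (iv7 F499388)))
theorem Q113044 : ∀ i, i < 113044 → P i := stepQ 113043 Q113043 (allL N113043 (tt N102300 (iv1 F483697)) (tt N102299 F483698) (tt N102159 F483691) (tt N102157 F483692) (tt N97437 F483693) (tt N82785 F483694) (tt N102156 F483695) (tt N82784 (iv7 D216296)))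
theorem Q113045 : ∀ i, i < 113045 → P i := stepQ 113044 Q113044 (allL N113044 (tt N104593 F483700) (tt N104657 F483701) (tt N108026 F483699) (tt N119463 F515751) (tt N82786 (iv4 D216297)) (tt N120716 (iv5 F522312)) (tt N120693 (iv6 F522190)) (tt N119931 (iv7 F518098)))
theorem Q113046 : ∀ i, i < 113046 → P i := stepQ 113045 Q113045 (allL N113045 (tt N97578 F483705) (tt N115833 (iv0 F497142)) (tt N103474 F483702) (tt N82787 (iv3 D216298)) (tt N119463 (iv4 F515750)) (tt N97475 F483703) (tt N103397 F483704) (tt N120590 (iv7 F521624)))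
theorem Q113047 : ∀ i, i < 113047 → P i := stepQ 113046 Q113046 (allL N113046 (tt N86817 F483710) (tt N83828 (iv0 F483711)) (tt N84086 F483706) (tt N82800 (iv3 D216299)) (tt N83973 F483707) (tt N89180 F483708) (tt N117726 (iv6 F506645)) (tt N105566 F483709))
theorem Q113048 : ∀ i, i < 113048 → P i := stepQ 113047 Q113047 (allL N113047 (tt N93016 F483716) (tt N104308 F483717) (tt N104307 F483712) (tt N93098 F483718) (tt N82804 (iv4 D216300)) (tt N93097 F483715) (tt N102408 F483713) (tt N93096 F483714))
theorem Q113049 : ∀ i, i < 113049 → P i := stepQ 113048 Q113048 (allL N113048 (tt N103469 (iv1 F483720)) (tt N103470 F483721) (tt N119467 (iv2 F515768)) (tt N82805 (iv3 D216301)) (tt N121006 (iv4 F523978)) (tt N115777 (iv5 F496814)) (tt N119491 (iv6 F515880)) (tt N97685 F483719))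
theorem Q113050 : ∀ i, i < 113050 → P i := stepQ 113049 Q113049 (allL N113049 (tt N104308 F483726) (tt N93016 F483727) (tt N93096 F483722) (tt N113801 (iv3 F487161)) (tt N82805 (iv4 D216302)) (tt N93094 F483725) (tt N93014 F483723) (tt N104307 F483724))
theorem Q113051 : ∀ i, i < 113051 → P i := stepQ 113050 Q113050 (allL N113050 (tt N105113 F483730) (tt N110316 (iv0 F483732)) (tt N116289 (iv2 F499381)) (tt N104659 F483728) (tt N108035 F483729) (tt N102300 F483731) (tt N82808 (iv6 D216303)) (tt N120621 (iv7 F521809)))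
theorem Q113052 : ∀ i, i < 113052 → P i := stepQ 113051 Q113051 (allL N113051 (tt N84021 F483738) (tt N82810 (iv0 D216304)) (tt N88777 F483739) (tt N103919 (iv3 F483736)) (tt N93077 F483734) (tt N103916 F483733) (tt N111683 F483735) (tt N88778 (iv7 F483737)))
theorem Q113053 : ∀ i, i < 113053 → P i := stepQ 113052 Q113052 (allL N113052 (tt N82810 (iv1 D216305)) (tt N84021 F483740) (tt N88778 F483745) (tt N102930 (iv3 F483744)) (tt N93071 F483742) (tt N107081 F483743) (tt N93067 F483746) (tt N88777 F483741))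
theorem Q113054 : ∀ i, i < 113054 → P i := stepQ 113053 Q113053 (allL N113053 (tt N88778 (iv1 F483752)) (tt N88777 F483753) (tt N84021 F483747) (tt N88776 F483748) (tt N92019 F483749) (tt N82811 F483750) (tt N104417 F483751) (tt N82810 (iv7 D216306)))
theorem Q113055 : ∀ i, i < 113055 → P i := stepQ 113054 Q113054 (allL N113054 (tt N105749 F483757) (tt N105748 F483759) (tt N102606 F483754) (tt N121194 (iv3 F525060)) (tt N82812 (iv4 D216307)) (tt N102602 F483756) (tt N120849 (iv6 F523069)) (tt N105747 F483755))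
theorem Q113056 : ∀ i, i < 113056 → P i := stepQ 113055 Q113055 (allL N113055 (tt N105222 F483765) (tt N105221 F483764) (tt N99162 F483760) (tt N82814 F483761) (tt N105888 F483762) (tt N82812 (iv5 D216308)) (tt N99158 F483763) (tt N114786 (iv7 F491854)))
theorem Q113057 : ∀ i, i < 113057 → P i := stepQ 113056 Q113056 (allL N113056 (tt N88723 (iv1 F483770)) (tt N83989 (iv0 F483769)) (tt N88722 F483766) (tt N82813 (iv3 D216309)) (tt N121194 (iv4 F525061)) (tt N88702 F483767) (tt N118093 (iv6 F508545)) (tt N88721 F483768))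
theorem Q113058 : ∀ i, i < 113058 → P i := stepQ 113057 Q113057 (allL N113057 (tt N92717 F483775) (tt N92942 (iv0 F483776)) (tt N92944 F483771) (tt N118093 (iv3 F508543)) (tt N82815 F483772) (tt N102155 F483773) (tt N82813 (iv6 D216310)) (tt N92941 F483774))
theorem Q113059 : ∀ i, i < 113059 → P i := stepQ 113058 Q113058 (allL N113058 (tt N116036 (iv1 F498168)) (tt N116035 F498164) (tt N83610 F483777) (tt N101581 F483778) (tt N121909 (iv4 F529006)) (tt N82819 (iv5 D216311)) (tt N84610 F483779) (tt N83609 F483780))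
theorem Q113060 : ∀ i, i < 113060 → P i := stepQ 113059 Q113059 (allL N113059 (tt N116704 (iv1 F501401)) (tt N110158 F483785) (tt N88495 F483781) (tt N100838 F483782) (tt N89537 F483784) (tt N82824 (iv5 D216312)) (tt N113208 (iv6 F484488)) (tt N88501 F483783))
theorem Q113061 : ∀ i, i < 113061 → P i := stepQ 113060 Q113060 (allL N113060 (tt N110158 F483791) (tt N116704 (iv0 F501400)) (tt N88501 F483786) (tt N89399 F483787) (tt N84419 F483788) (tt N82825 (iv5 D216313)) (tt N84418 F483789) (tt N88495 F483790))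
theorem Q113062 : ∀ i, i < 113062 → P i := stepQ 113061 Q113061 (allL N113061 (tt N110058 (iv1 F483795)) (tt N82826 (iv0 D216314)) (tt N110060 (iv2 F483794)) (tt N100841 (iv3 F483797)) (tt N107311 F483793) (tt N101103 F483792) (tt N122276 D225535) (tt N100963 F483796))
theorem Q113063 : ∀ i, i < 113063 → P i := stepQ 113062 Q113062 (allL N113062 (tt N84424 F483802) (tt N83700 F483801) (tt N84422 F483798) (tt N110103 F483799) (tt N82828 (iv4 D216315)) (tt N116201 (iv5 F498978)) (tt N91143 F483803) (tt N84423 F483800))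
theorem Q113064 : ∀ i, i < 113064 → P i := stepQ 113063 Q113063 (allL N113063 (tt N122051 (iv1 F529867)) (tt N113891 (iv0 F487659)) (tt N112371 F483804) (tt N106493 F483805) (tt N91143 F483806) (tt N106492 F483807) (tt N82828 (iv6 D216316)) (tt N122210 (iv7 F530799)))
theorem Q113065 : ∀ i, i < 113065 → P i := stepQ 113064 Q113064 (allL N113064 (tt N90783 F483813) (tt N90786 (iv0 F483814)) (tt N88109 F483808) (tt N84595 F483809) (tt N82832 F483810) (tt N106283 F483811) (tt N82830 (iv6 D216317)) (tt N111842 F483812))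
theorem Q113066 : ∀ i, i < 113066 → P i := stepQ 113065 Q113065 (allL N113065 (tt N113937 (iv1 F498699)) (tt N113939 (iv0 F498698)) (tt N116294 (iv2 F499415)) (tt N107594 F483815) (tt N117335 (iv4 F504517)) (tt N116732 (iv5 F501551)) (tt N82831 (iv6 D216318)) (tt N122275 (iv7 F531115)))
theorem Q113067 : ∀ i, i < 113067 → P i := stepQ 113066 Q113066 (allL N113066 (tt N89415 F483817) (tt N112063 F483818) (tt N113827 F487319) (tt N120130 (iv3 F519217)) (tt N82833 (iv4 D216319)) (tt N90727 F483816) (tt N85447 (iv6 F483819)) (tt N113828 (iv7 F487323)))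
theorem Q113068 : ∀ i, i < 113068 → P i := stepQ 113067 Q113067 (allL N113067 (tt N114745 (iv1 F491633)) (tt N84305 (iv0 F483823)) (tt N114398 (iv2 F489956)) (tt N89712 F483820) (tt N85447 F483821) (tt N115734 (iv5 F496577)) (tt N82833 (iv6 D216320)) (tt N112986 F483822))
theorem Q113069 : ∀ i, i < 113069 → P i := stepQ 113068 Q113068 (allL N113068 (tt N112063 F483826) (tt N89415 F483827) (tt N113828 F487326) (tt N122277 D225536) (tt N82834 (iv4 D216321)) (tt N90725 F483825) (tt N112989 F483824) (tt N113827 F487320))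
theorem Q113070 : ∀ i, i < 113070 → P i := stepQ 113069 Q113069 (allL N113069 (tt N106573 F483833) (tt N84318 (iv0 F483834)) (tt N106559 F483829) (tt N82835 (iv3 D216322)) (tt N82838 F483830) (tt N90509 F483831) (tt N116699 (iv6 F501371)) (tt N90508 F483832))
theorem Q113071 : ∀ i, i < 113071 → P i := stepQ 113070 Q113070 (allL N113070 (tt N122278 D225537) (tt N122279 D225538) (tt N117222 (iv2 F503976)) (tt N82836 (iv3 D216323)) (tt N116699 (iv4 F501373)) (tt N85393 F483835) (tt N82838 F483836) (tt N110075 F483837))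
theorem Q113072 : ∀ i, i < 113072 → P i := stepQ 113071 Q113071 (allL N113071 (tt N83516 F483840) (tt N82837 (iv0 D216324)) (tt N83514 (iv2 F483842)) (tt N116298 F499433) (tt N90895 F483839) (tt N103035 F483838) (tt N110170 F483841) (tt N83515 (iv7 F483843)))
theorem Q113073 : ∀ i, i < 113073 → P i := stepQ 113072 Q113072 (allL N113072 (tt N82837 (iv1 D216325)) (tt N83516 F483844) (tt N83515 (iv2 F483850)) (tt N84305 (iv3 F483848)) (tt N90894 F483847) (tt N98440 F483846) (tt N84304 (iv6 F483849)) (tt N83514 F483845))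
theorem Q113074 : ∀ i, i < 113074 → P i := stepQ 113073 Q113073 (allL N113073 (tt N106219 F483853) (tt N120950 (iv0 F523656)) (tt N83513 F483851) (tt N116154 (iv3 F498776)) (tt N121795 (iv4 F528365)) (tt N112744 F483852) (tt N82841 (iv6 D216326)) (tt N112749 (iv7 F483854)))
theorem Q113075 : ∀ i, i < 113075 → P i := stepQ 113074 Q113074 (allL N113074 (tt N113646 (iv1 F486478)) (tt N113743 F486913) (tt N84757 F483855) (tt N82847 F483856) (tt N85258 F483858) (tt N82846 (iv5 D216327)) (tt N116482 (iv6 F500370)) (tt N82858 F483857))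
theorem Q113076 : ∀ i, i < 113076 → P i := stepQ 113075 Q113075 (allL N113075 (tt N95978 F483862) (tt N105614 (iv0 F483863)) (tt N82857 F483859) (tt N116482 F500374) (tt N114728 (iv4 F491559)) (tt N90050 F483860) (tt N82847 (iv6 D216328)) (tt N105629 F483861))
theorem Q113077 : ∀ i, i < 113077 → P i := stepQ 113076 Q113076 (allL N113076 (tt N88985 F483867) (tt N83825 F483868) (tt N86273 F483864) (tt N82849 (iv3 D216329)) (tt N114762 (iv4 F491727)) (tt N84881 F483865) (tt N120078 (iv6 F518930)) (tt N82862 F483866))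
theorem Q113078 : ∀ i, i < 113078 → P i := stepQ 113077 Q113077 (allL N113077 (tt N118811 F512197) (tt N117644 (iv0 F506183)) (tt N121137 (iv2 F524716)) (tt N82851 (iv3 D216330)) (tt N116152 (iv4 F498769)) (tt N111710 F483869) (tt N109496 F483870) (tt N121605 (iv7 F527291)))
theorem Q113079 : ∀ i, i < 113079 → P i := stepQ 113078 Q113078 (allL N113078 (tt N82866 (iv1 F483875)) (tt N82865 F483876) (tt N82868 F483871) (tt N121605 F527293) (tt N82852 F483872) (tt N111543 F483873) (tt N105607 F483874) (tt N82851 (iv7 D216331)))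
theorem Q113080 : ∀ i, i < 113080 → P i := stepQ 113079 Q113079 (allL N113079 (tt N121320 (iv1 F525750)) (tt N106312 (iv0 F483880)) (tt N94467 F483877) (tt N100571 F483878) (tt N114462 (iv4 F490300)) (tt N109504 F483879) (tt N82853 (iv6 D216332)) (tt N117166 (iv7 F503711)))
theorem Q113081 : ∀ i, i < 113081 → P i := stepQ 113080 Q113080 (allL N113080 (tt N85509 F483884) (tt N85506 F483885) (tt N85699 F483882) (tt N113263 (iv3 F484767)) (tt N82855 (iv4 D216333)) (tt N100676 F483883) (tt N110502 (iv6 F483886)) (tt N116346 (iv7 F499650)))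
theorem Q113082 : ∀ i, i < 113082 → P i := stepQ 113081 Q113081 (allL N113081 (tt N105599 F483892) (tt N105636 (iv0 F483893)) (tt N85700 F483887) (tt N109201 F483888) (tt N110502 F483889) (tt N90688 F483890) (tt N82855 (iv6 D216334)) (tt N105637 F483891))
theorem Q113083 : ∀ i, i < 113083 → P i := stepQ 113082 Q113082 (allL N113082 (tt N105629 (iv1 F483896)) (tt N82857 (iv0 D216335)) (tt N95978 (iv2 F483895)) (tt N116343 F499636) (tt N118328 (iv4 F509728)) (tt N95971 F483894) (tt N95243 (iv6 F483898)) (tt N105614 F483897))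
theorem Q113084 : ∀ i, i < 113084 → P i := stepQ 113083 Q113083 (allL N113083 (tt N83826 F483901) (tt N84895 F483902) (tt N109658 F483899) (tt N86172 F483900) (tt N82862 (iv4 D216336)) (tt N86170 (iv5 F483903)) (tt N106542 F483904) (tt N114762 (iv7 F491726)))
theorem Q113085 : ∀ i, i < 113085 → P i := stepQ 113084 Q113084 (allL N113084 (tt N106359 F483909) (tt N120166 (iv0 F519388)) (tt N107405 F483905) (tt N82864 F483906) (tt N106542 F483907) (tt N107395 (iv5 F483908)) (tt N82862 (iv6 D216337)) (tt N120172 (iv7 F519422)))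
theorem Q113086 : ∀ i, i < 113086 → P i := stepQ 113085 Q113085 (allL N113085 (tt N105993 F483916) (tt N106426 F483915) (tt N83084 F483910) (tt N107395 F483911) (tt N103726 F483912) (tt N82864 (iv5 D216338)) (tt N83078 F483913) (tt N106425 F483914))
theorem Q113087 : ∀ i, i < 113087 → P i := stepQ 113086 Q113086 (allL N113086 (tt N98211 (iv1 F483920)) (tt N120768 F522612) (tt N108095 F483917) (tt N118813 (iv3 F512205)) (tt N86302 F483918) (tt N104651 F483919) (tt N82866 (iv6 D216339)) (tt N114774 (iv7 F491788)))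
theorem Q113088 : ∀ i, i < 113088 → P i := stepQ 113087 Q113087 (allL N113087 (tt N106301 F483925) (tt N106363 F483926) (tt N106351 F483921) (tt N101944 F483922) (tt N82870 (iv4 D216340)) (tt N101943 F483923) (tt N122280 D225539) (tt N106362 F483924))
theorem Q113089 : ∀ i, i < 113089 → P i := stepQ 113088 Q113088 (allL N113088 (tt N117348 F504598) (tt N120379 (iv0 F520473)) (tt N116303 (iv2 F499457)) (tt N82872 F483927) (tt N122280 (iv4 F531148)) (tt N101767 F483928) (tt N82870 (iv6 D216341)) (tt N121792 (iv7 F528347)))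
theorem Q113090 : ∀ i, i < 113090 → P i := stepQ 113089 Q113089 (allL N113089 (tt N106296 F483932) (tt N84053 F483933) (tt N106365 F483929) (tt N106371 F483934) (tt N82875 (iv4 D216342)) (tt N111439 F483930) (tt N83115 (iv6 F483935)) (tt N106375 F483931))
theorem Q113091 : ∀ i, i < 113091 → P i := stepQ 113090 Q113090 (allL N113090 (tt N114647 (iv1 F491187)) (tt N114646 (iv0 F491180)) (tt N116306 (iv2 F499469)) (tt N82877 F483936) (tt N83115 F483937) (tt N83555 (iv5 F483938)) (tt N82875 (iv6 D216343)) (tt N114900 (iv7 F492424)))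
theorem Q113092 : ∀ i, i < 113092 → P i := stepQ 113091 Q113091 (allL N113091 (tt N119002 (iv1 F513223)) (tt N101921 (iv0 F483943)) (tt N106372 F483939) (tt N82876 (iv3 D216344)) (tt N106371 F483940) (tt N87496 F483941) (tt N84780 F483942) (tt N113331 (iv7 F485069)))
theorem Q113093 : ∀ i, i < 113093 → P i := stepQ 113092 Q113092 (allL N113092 (tt N83554 (iv1 F483945)) (tt N82877 (iv0 D216345)) (tt N114899 F492419) (tt N116334 (iv3 F499607)) (tt N114310 (iv4 F489532)) (tt N113464 (iv5 F485605)) (tt N82915 F483944) (tt N114578 (iv7 F490849)))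
theorem Q113094 : ∀ i, i < 113094 → P i := stepQ 113093 Q113093 (allL N113093 (tt N82877 (iv1 D216346)) (tt N83554 F483946) (tt N114578 (iv2 F490848)) (tt N106312 (iv3 F483948)) (tt N86186 F483947) (tt N113475 (iv5 F485662)) (tt N106305 (iv6 F483949)) (tt N114899 (iv7 F492421)))
theorem Q113095 : ∀ i, i < 113095 → P i := stepQ 113094 Q113094 (allL N113094 (tt N110257 (iv1 F483954)) (tt N92822 F483955) (tt N114901 (iv2 F492428)) (tt N109613 F483950) (tt N84787 F483951) (tt N102799 F483952) (tt N83554 F483953) (tt N82879 (iv7 D216347)))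
theorem Q113096 : ∀ i, i < 113096 → P i := stepQ 113095 Q113095 (allL N113095 (tt N87479 F483958) (tt N87477 F483959) (tt N115769 (iv2 F496769)) (tt N113696 (iv3 F486681)) (tt N86991 F483956) (tt N82880 (iv5 D216348)) (tt N88429 F483957) (tt N115768 (iv7 F496765)))
theorem Q113097 : ∀ i, i < 113097 → P i := stepQ 113096 Q113096 (allL N113096 (tt N119608 F516491) (tt N116741 (iv0 F501589)) (tt N115734 (iv2 F496575)) (tt N113648 (iv3 F486483)) (tt N116423 (iv4 F500025)) (tt N114398 F489960) (tt N82889 (iv6 D216349)) (tt N116420 (iv7 F500011)))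
theorem Q113098 : ∀ i, i < 113098 → P i := stepQ 113097 Q113097 (allL N113097 (tt N115097 F493474) (tt N114939 (iv0 F492653)) (tt N114714 (iv2 F491486)) (tt N116781 (iv3 F501798)) (tt N82891 F483960) (tt N112921 F483961) (tt N82890 (iv6 D216350)) (tt N115098 (iv7 F493477)))
theorem Q113099 : ∀ i, i < 113099 → P i := stepQ 113098 Q113098 (allL N113098 (tt N116310 (iv1 F499491)) (tt N116309 F499488) (tt N116311 (iv2 F499498)) (tt N82898 F483962) (tt N115098 (iv4 F493475)) (tt N113298 (iv5 F484908)) (tt N115737 (iv6 F496590)) (tt N82891 (iv7 D216351)))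
theorem Q113100 : ∀ i, i < 113100 → P i := stepQ 113099 Q113099 (allL N113099 (tt N115739 (iv1 F496602)) (tt N82894 (iv0 D216352)) (tt N115738 (iv2 F496595)) (tt N84890 F483963) (tt N83251 F483964) (tt N116618 (iv5 F500998)) (tt N83250 F483965) (tt N100215 (iv7 F483966)))
theorem Q113101 : ∀ i, i < 113101 → P i := stepQ 113100 Q113100 (allL N113100 (tt N82900 (iv1 D216353)) (tt N105928 F483967) (tt N86748 (iv2 F483971)) (tt N117416 (iv3 F504931)) (tt N86734 F483970) (tt N97952 F483969) (tt N113329 (iv6 F485056)) (tt N86745 F483968))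
theorem Q113102 : ∀ i, i < 113102 → P i := stepQ 113101 Q113101 (allL N113101 (tt N106984 (iv1 F483977)) (tt N113760 F486997) (tt N106474 F483972) (tt N82902 (iv3 D216354)) (tt N103843 F483973) (tt N106473 F483974) (tt N103842 F483975) (tt N109200 F483976))
theorem Q113103 : ∀ i, i < 113103 → P i := stepQ 113102 Q113102 (allL N113102 (tt N116401 F499903) (tt N121768 (iv0 F528202)) (tt N106385 F483978) (tt N82905 (iv3 D216355)) (tt N82907 F483979) (tt N116223 (iv5 F499106)) (tt N99093 F483980) (tt N115084 (iv7 F493408)))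
theorem Q113104 : ∀ i, i < 113104 → P i := stepQ 113103 Q113103 (allL N113103 (tt N114078 (iv1 F488486)) (tt N85472 F483985) (tt N108376 F483981) (tt N116223 F499108) (tt N103900 F483984) (tt N82905 (iv5 D216356)) (tt N108375 F483982) (tt N103897 F483983))
theorem Q113105 : ∀ i, i < 113105 → P i := stepQ 113104 Q113104 (allL N113104 (tt N107322 (iv1 F483990)) (tt N82906 (iv0 D216357)) (tt N99376 (iv2 F483988)) (tt N118453 (iv3 F510446)) (tt N99374 F483987) (tt N108066 F483986) (tt N116468 F500289) (tt N107317 F483989))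
theorem Q113106 : ∀ i, i < 113106 → P i := stepQ 113105 Q113105 (allL N113105 (tt N107317 (iv1 F483995)) (tt N99376 F483996) (tt N107322 F483991) (tt N82911 F483992) (tt N107464 F483993) (tt N107652 F483994) (tt N121683 (iv6 F527723)) (tt N82906 (iv7 D216358)))
theorem Q113107 : ∀ i, i < 113107 → P i := stepQ 113106 Q113106 (allL N113106 (tt N120957 (iv1 F523698)) (tt N82907 (iv0 D216359)) (tt N119611 (iv2 F516503)) (tt N85565 F483997) (tt N101045 F483999) (tt N113110 (iv5 F484013)) (tt N101044 (iv6 F483998)) (tt N114335 (iv7 F489674)))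
theorem Q113108 : ∀ i, i < 113108 → P i := stepQ 113107 Q113107 (allL N113107 (tt N82907 (iv1 D216360)) (tt N120957 F523697) (tt N114335 (iv2 F489677)) (tt N118096 (iv3 F508560)) (tt N101922 (iv4 F484000)) (tt N113111 F484019) (tt N101921 (iv6 F484001)) (tt N119611 (iv7 F516507)))
theorem Q113109 : ∀ i, i < 113109 → P i := stepQ 113108 Q113108 (allL N113108 (tt N119583 (iv1 F516380)) (tt N82908 (iv0 D216361)) (tt N118357 (iv2 F509889)) (tt N96622 F484004) (tt N85554 F484003) (tt N97545 F484002) (tt N103108 F484005) (tt N114974 (iv7 F492857)))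
theorem Q113110 : ∀ i, i < 113110 → P i := stepQ 113109 Q113109 (allL N113109 (tt N98226 F484011) (tt N82917 F484012) (tt N98227 F484006) (tt N92787 F484007) (tt N82909 (iv4 D216362)) (tt N92768 F484008) (tt N92820 F484009) (tt N92770 F484010))
theorem Q113111 : ∀ i, i < 113111 → P i := stepQ 113110 Q113110 (allL N113110 (tt N119595 F516435) (tt N82912 (iv0 D216363)) (tt N111759 (iv2 F484016)) (tt N114765 (iv3 F491743)) (tt N106417 F484014) (tt N113106 F484013) (tt N98069 F484015) (tt N121769 (iv7 F528209)))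
theorem Q113112 : ∀ i, i < 113112 → P i := stepQ 113111 Q113111 (allL N113111 (tt N82912 (iv1 D216364)) (tt N119595 (iv0 F516434)) (tt N121769 (iv2 F528205)) (tt N118054 (iv3 F508318)) (tt N106314 (iv4 F484018)) (tt N113107 (iv5 F484019)) (tt N106313 (iv6 F484020)) (tt N111759 F484017))
theorem Q113113 : ∀ i, i < 113113 → P i := stepQ 113112 Q113112 (allL N113112 (tt N111759 F484024) (tt N121769 (iv0 F528210)) (tt N82912 (iv2 D216365)) (tt N120957 (iv3 F523694)) (tt N104142 F484021) (tt N98425 F484022) (tt N98426 F484023) (tt N119595 (iv7 F516433)))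
theorem Q113114 : ∀ i, i < 113114 → P i := stepQ 113113 Q113113 (allL N113113 (tt N109122 F484026) (tt N99761 (iv0 F484027)) (tt N109119 F484028) (tt N82915 (iv3 D216366)) (tt N120865 (iv4 F523157)) (tt N116778 (iv5 F501785)) (tt N116334 F499608) (tt N109120 F484025))
theorem Q113115 : ∀ i, i < 113115 → P i := stepQ 113114 Q113114 (allL N113114 (tt N82919 (iv1 F484034)) (tt N82918 (iv0 D216367)) (tt N82922 (iv2 F484033)) (tt N111219 (iv3 F484036)) (tt N108168 F484030) (tt N112912 F484031) (tt N93132 F484032) (tt N82920 F484035))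
theorem Q113116 : ∀ i, i < 113116 → P i := stepQ 113115 Q113115 (allL N113115 (tt N114752 (iv1 F491672)) (tt N86211 (iv0 F486351)) (tt N114574 (iv2 F490830)) (tt N82918 (iv3 D216368)) (tt N119124 (iv4 F513914)) (tt N114302 (iv5 F489486)) (tt N98192 F484037) (tt N114575 (iv7 F490837)))
theorem Q113117 : ∀ i, i < 113117 → P i := stepQ 113116 Q113116 (allL N113116 (tt N119037 (iv1 F513419)) (tt N112013 F484041) (tt N109657 F484038) (tt N95052 F484042) (tt N82918 (iv4 D216369)) (tt N112004 F484040) (tt N95051 F484039) (tt N120767 (iv7 F522603)))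
theorem Q113118 : ∀ i, i < 113118 → P i := stepQ 113117 Q113117 (allL N113117 (tt N114598 (iv1 F490944)) (tt N120377 (iv0 F520461)) (tt N109858 (iv2 F484046)) (tt N82919 (iv3 D216370)) (tt N114786 (iv4 F491852)) (tt N98585 F484043) (tt N98207 F484044) (tt N105888 F484045))
theorem Q113119 : ∀ i, i < 113119 → P i := stepQ 113118 Q113118 (allL N113118 (tt N119585 (iv1 F516396)) (tt N119586 (iv0 F516399)) (tt N122049 (iv2 F529849)) (tt N86727 F484047) (tt N82921 (iv4 D216371)) (tt N122281 D225540) (tt N98656 F484048) (tt N112903 F484049))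
theorem Q113120 : ∀ i, i < 113120 → P i := stepQ 113119 Q113119 (allL N113119 (tt N101397 F484054) (tt N101066 (iv0 F484055)) (tt N101399 F484050) (tt N82925 (iv3 D216372)) (tt N103905 F484051) (tt N86029 F484052) (tt N113976 (iv6 F488040)) (tt N101398 F484053))
theorem Q113121 : ∀ i, i < 113121 → P i := stepQ 113120 Q113120 (allL N113120 (tt N85540 F484059) (tt N105537 F484060) (tt N105541 F484056) (tt N105811 F484057) (tt N82926 (iv4 D216373)) (tt N118110 (iv5 F508655)) (tt N105809 F484061) (tt N105542 F484058))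
theorem Q113122 : ∀ i, i < 113122 → P i := stepQ 113121 Q113121 (allL N113121 (tt N106305 F484067) (tt N106300 (iv0 F484068)) (tt N106303 F484062) (tt N105580 F484063) (tt N105809 F484064) (tt N106942 F484065) (tt N82926 (iv6 D216374)) (tt N106304 F484066))
theorem Q113123 : ∀ i, i < 113123 → P i := stepQ 113122 Q113122 (allL N113122 (tt N111190 F484073) (tt N113125 F484091) (tt N84899 F484069) (tt N82927 (iv3 D216375)) (tt N82930 F484070) (tt N84892 F484071) (tt N109678 F484072) (tt N113126 (iv7 F484098)))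
theorem Q113124 : ∀ i, i < 113124 → P i := stepQ 113123 Q113123 (allL N113123 (tt N82928 (iv1 D216376)) (tt N85926 F484074) (tt N85925 (iv2 F484079)) (tt N118669 (iv3 F511441)) (tt N97982 (iv4 F484077)) (tt N107001 F484076) (tt N107002 (iv6 F484078)) (tt N85924 F484075))
theorem Q113125 : ∀ i, i < 113125 → P i := stepQ 113124 Q113124 (allL N113124 (tt N91419 F484085) (tt N106611 F484086) (tt N85913 F484080) (tt N88869 F484081) (tt N82929 (iv4 D216377)) (tt N89384 F484084) (tt N88600 F484082) (tt N85911 F484083))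
theorem Q113126 : ∀ i, i < 113126 → P i := stepQ 113125 Q113125 (allL N113125 (tt N113122 (iv1 F484091)) (tt N82930 (iv0 D216378)) (tt N85275 (iv2 F484090)) (tt N109814 F484088) (tt N100218 (iv4 F484092)) (tt N86308 F484087) (tt N85274 F484089) (tt N92593 F484093))
theorem Q113127 : ∀ i, i < 113127 → P i := stepQ 113126 Q113126 (allL N113126 (tt N85275 (iv1 F484100)) (tt N92593 F484099) (tt N82930 (iv2 D216379)) (tt N86310 F484094) (tt N84899 F484095) (tt N85543 F484096) (tt N100161 F484097) (tt N113122 F484098))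
theorem Q113128 : ∀ i, i < 113128 → P i := stepQ 113127 Q113127 (allL N113127 (tt N95646 F484105) (tt N87292 (iv0 F484106)) (tt N95644 F484101) (tt N104225 F484102) (tt N119245 (iv4 F514595)) (tt N82936 (iv5 D216380)) (tt N82937 F484103) (tt N95645 F484104))
theorem Q113129 : ∀ i, i < 113129 → P i := stepQ 113128 Q113128 (allL N113128 (tt N87212 F495120) (tt N115957 F497770) (tt N95478 F484107) (tt N95644 F484108) (tt N119246 (iv4 F514600)) (tt N82938 (iv5 D216381)) (tt N82939 F484109) (tt N95476 F484110))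
theorem Q113130 : ∀ i, i < 113130 → P i := stepQ 113129 Q113129 (allL N113129 (tt N115975 (iv1 F497865)) (tt N115977 (iv0 F497877)) (tt N115837 (iv2 F497152)) (tt N118937 (iv3 F512845)) (tt N82939 (iv4 D216382)) (tt N116875 (iv5 F502305)) (tt N119246 (iv6 F514601)) (tt N115961 (iv7 F497783)))
theorem Q113131 : ∀ i, i < 113131 → P i := stepQ 113130 Q113130 (allL N113130 (tt N106877 F484115) (tt N86989 (iv0 F484116)) (tt N106878 F484111) (tt N82949 (iv3 D216383)) (tt N122282 D225541) (tt N95469 F484112) (tt N95634 F484113) (tt N106868 F484114))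
theorem Q113132 : ∀ i, i < 113132 → P i := stepQ 113131 Q113131 (allL N113131 (tt N96985 F484119) (tt N96987 F484120) (tt N103883 (iv2 F484121)) (tt N82954 (iv3 D216384)) (tt N95828 F484117) (tt N120658 (iv5 F522005)) (tt N120926 (iv6 F523519)) (tt N103881 F484118))
theorem Q113133 : ∀ i, i < 113133 → P i := stepQ 113132 Q113132 (allL N113132 (tt N109484 (iv1 F484125)) (tt N109509 F484126) (tt N109498 F484122) (tt N112040 F484123) (tt N121389 (iv4 F526093)) (tt N82956 F484124) (tt N121282 (iv6 F525543)) (tt N82955 (iv7 D216385)))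
theorem Q113134 : ∀ i, i < 113134 → P i := stepQ 113133 Q113133 (allL N113133 (tt N116210 (iv1 F499035)) (tt N109187 F484129) (tt N113784 (iv2 F487095)) (tt N120684 (iv3 F522128)) (tt N82958 (iv4 D216386)) (tt N103732 F484128) (tt N109158 F501063) (tt N103773 F484127))
theorem Q113135 : ∀ i, i < 113135 → P i := stepQ 113134 Q113134 (allL N113134 (tt N119023 (iv1 F513339)) (tt N120824 (iv0 F522935)) (tt N113785 (iv2 F487098)) (tt N108349 F484130) (tt N109158 (iv4 F501062)) (tt N116606 (iv5 F500943)) (tt N82958 (iv6 D216387)) (tt N120829 (iv7 F522963)))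
theorem Q113136 : ∀ i, i < 113136 → P i := stepQ 113135 Q113135 (allL N113135 (tt N116226 F499123) (tt N121007 (iv0 F523985)) (tt N113789 (iv2 F487118)) (tt N103543 F484131) (tt N82963 F484132) (tt N103542 F484133) (tt N82962 (iv6 D216388)) (tt N120920 (iv7 F523481)))
theorem Q113137 : ∀ i, i < 113137 → P i := stepQ 113136 Q113136 (allL N113136 (tt N113791 (iv1 F487129)) (tt N82963 (iv0 D216389)) (tt N113790 F487121) (tt N104128 (iv3 F484136)) (tt N104550 F484134) (tt N105991 F484135) (tt N119023 (iv6 F513336)) (tt N106420 (iv7 F484137)))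
theorem Q113138 : ∀ i, i < 113138 → P i := stepQ 113137 Q113137 (allL N113137 (tt N82963 (iv1 D216390)) (tt N113791 F487128) (tt N106420 F484142) (tt N82985 (iv3 F484140)) (tt N104483 F484139) (tt N106418 F484138) (tt N104482 (iv6 F484141)) (tt N113790 (iv7 F487122)))
theorem Q113139 : ∀ i, i < 113139 → P i := stepQ 113138 Q113138 (allL N113138 (tt N106420 (iv1 F484143)) (tt N113790 F487123) (tt N113791 (iv2 F487124)) (tt N116225 (iv3 F499117)) (tt N120920 (iv4 F523479)) (tt N121253 (iv5 F525388)) (tt N116238 (iv6 F499176)) (tt N82963 (iv7 D216391)))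
theorem Q113140 : ∀ i, i < 113140 → P i := stepQ 113139 Q113139 (allL N113139 (tt N92267 F484148) (tt N103873 F484149) (tt N103791 F484144) (tt N82967 (iv3 D216392)) (tt N93197 F484145) (tt N120657 (iv5 F521995)) (tt N102496 F484146) (tt N103874 F484147))
theorem Q113141 : ∀ i, i < 113141 → P i := stepQ 113140 Q113140 (allL N113140 (tt N82969 (iv1 D216393)) (tt N104791 (iv0 F484153)) (tt N118129 F508755) (tt N102570 (iv3 F484152)) (tt N116131 (iv4 F498645)) (tt N102569 F484151) (tt N121771 (iv6 F528222)) (tt N104749 F484150))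
theorem Q113142 : ∀ i, i < 113142 → P i := stepQ 113141 Q113141 (allL N113141 (tt N104749 (iv1 F484159)) (tt N118129 F508756) (tt N82969 (iv2 D216394)) (tt N103883 F484154) (tt N83012 F484155) (tt N104465 F484156) (tt N98619 F484157) (tt N104791 F484158))
theorem Q113143 : ∀ i, i < 113143 → P i := stepQ 113142 Q113142 (allL N113142 (tt N85034 F484164) (tt N85065 (iv0 F484165)) (tt N92723 F484160) (tt N82972 (iv3 D216395)) (tt N85847 F484161) (tt N92758 F484162) (tt N92572 (iv6 F484166)) (tt N101757 F484163))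
theorem Q113144 : ∀ i, i < 113144 → P i := stepQ 113143 Q113143 (allL N113143 (tt N92944 F484172) (tt N92941 (iv0 F484173)) (tt N92942 F484167) (tt N92572 F484168) (tt N82973 F484169) (tt N92761 F484170) (tt N82972 (iv6 D216396)) (tt N92717 F484171))
theorem Q113145 : ∀ i, i < 113145 → P i := stepQ 113144 Q113144 (allL N113144 (tt N82973 (iv1 D216397)) (tt N87857 F484174) (tt N110285 F484178) (tt N120824 (iv3 F522932)) (tt N120606 (iv4 F521722)) (tt N91714 F484176) (tt N106943 (iv6 F484177)) (tt N110284 F484175))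
theorem Q113146 : ∀ i, i < 113146 → P i := stepQ 113145 Q113145 (allL N113145 (tt N120399 (iv1 F520584)) (tt N98410 F484182) (tt N102381 F484179) (tt N115401 F495011) (tt N92661 F484181) (tt N82975 (iv5 D216398)) (tt N104276 F484180) (tt N113333 (iv7 F485080)))
theorem Q113147 : ∀ i, i < 113147 → P i := stepQ 113146 Q113146 (allL N113146 (tt N98410 F484186) (tt N120399 (iv0 F520583)) (tt N113333 (iv2 F485078)) (tt N102384 F484183) (tt N110287 F484184) (tt N82977 (iv5 D216399)) (tt N114352 (iv6 F489772)) (tt N102381 F484185))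
theorem Q113148 : ∀ i, i < 113148 → P i := stepQ 113147 Q113147 (allL N113147 (tt N98572 F484190) (tt N92248 F484191) (tt N98571 F484187) (tt N120492 (iv3 F521058)) (tt N108322 F484189) (tt N82978 (iv5 D216400)) (tt N120491 (iv6 F521053)) (tt N98570 F484188))
theorem Q113149 : ∀ i, i < 113149 → P i := stepQ 113148 Q113148 (allL N113148 (tt N92248 F484197) (tt N98572 F484198) (tt N98570 F484192) (tt N87686 F484193) (tt N86022 F484194) (tt N82979 (iv5 D216401)) (tt N86021 F484195) (tt N98571 F484196))
theorem Q113150 : ∀ i, i < 113150 → P i := stepQ 113149 Q113149 (allL N113149 (tt N92939 F484203) (tt N92937 (iv0 F484204)) (tt N104094 F484199) (tt N104482 F484200) (tt N104910 F484201) (tt N120986 (iv5 F523868)) (tt N82985 (iv6 D216402)) (tt N106943 F484202))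
theorem Q113151 : ∀ i, i < 113151 → P i := stepQ 113150 Q113150 (allL N113150 (tt N112049 F484209) (tt N87873 F484210) (tt N88299 F484205) (tt N88276 F484211) (tt N82993 (iv4 D216403)) (tt N96747 F484206) (tt N88274 F484207) (tt N112048 F484208))
theorem Q113152 : ∀ i, i < 113152 → P i := stepQ 113151 Q113151 (allL N113151 (tt N94129 F484215) (tt N87583 F484216) (tt N94131 F484212) (tt N93145 F484213) (tt N117414 (iv4 F504920)) (tt N82998 (iv5 D216404)) (tt N94142 F484217) (tt N93137 F484214))
theorem Q113153 : ∀ i, i < 113153 → P i := stepQ 113152 Q113152 (allL N113152 (tt N82999 (iv1 D216405)) (tt N92745 (iv0 F484224)) (tt N111936 F484222) (tt N104377 (iv3 F484221)) (tt N83651 F484220) (tt N87777 F484219) (tt N83650 F484223) (tt N98767 F484218))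
theorem Q113154 : ∀ i, i < 113154 → P i := stepQ 113153 Q113153 (allL N113153 (tt N98767 (iv1 F484231)) (tt N111936 F484230) (tt N82999 (iv2 D216406)) (tt N102388 F484225) (tt N92748 F484226) (tt N86954 F484227) (tt N105925 F484228) (tt N92745 F484229))
theorem Q113155 : ∀ i, i < 113155 → P i := stepQ 113154 Q113154 (allL N113154 (tt N83006 (iv1 D216407)) (tt N102388 F484232) (tt N93073 F484237) (tt N119523 (iv3 F516049)) (tt N97825 F484235) (tt N87775 F484234) (tt N93072 (iv6 F484236)) (tt N97822 F484233))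
theorem Q113156 : ∀ i, i < 113156 → P i := stepQ 113155 Q113155 (allL N113155 (tt N101802 F484241) (tt N83189 F484242) (tt N110301 F484238) (tt N116278 (iv3 F499322)) (tt N119379 (iv4 F515315)) (tt N83008 (iv5 D216408)) (tt N107454 F484239) (tt N110302 F484240))
theorem Q113157 : ∀ i, i < 113157 → P i := stepQ 113156 Q113156 (allL N113156 (tt N93213 (iv1 F484247)) (tt N93208 F484248) (tt N92754 F484243) (tt N83011 (iv3 D216409)) (tt N113579 (iv4 F486117)) (tt N86960 F484244) (tt N92728 (iv6 F484246)) (tt N93211 F484245))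
theorem Q113158 : ∀ i, i < 113158 → P i := stepQ 113157 Q113157 (allL N113157 (tt N102230 F484253) (tt N102228 (iv0 F484254)) (tt N102145 F484249) (tt N92728 F484250) (tt N109143 F484251) (tt N102143 F484252) (tt N83011 (iv6 D216410)) (tt N92749 F484255))
theorem Q113159 : ∀ i, i < 113159 → P i := stepQ 113158 Q113158 (allL N113158 (tt N113160 (iv1 F484262)) (tt N113159 F484261) (tt N113161 (iv2 F484264)) (tt N84030 F484256) (tt N83014 F484257) (tt N90883 F484259) (tt N83013 (iv6 D216411)) (tt N84025 F484258))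
theorem Q113160 : ∀ i, i < 113160 → P i := stepQ 113159 Q113159 (allL N113159 (tt N113158 (iv1 F484261)) (tt N83014 (iv0 D216412)) (tt N113182 (iv2 F484354)) (tt N120111 (iv3 F519103)) (tt N116102 (iv4 F498465)) (tt N88398 F484260) (tt N120372 (iv6 F520431)) (tt N113186 (iv7 F484375)))
theorem Q113161 : ∀ i, i < 113161 → P i := stepQ 113160 Q113160 (allL N113160 (tt N83014 (iv1 D216413)) (tt N113158 F484262) (tt N113186 (iv2 F484372)) (tt N120374 (iv3 F520442)) (tt N116100 (iv4 F498456)) (tt N88399 F484263) (tt N113865 (iv6 F487527)) (tt N113182 (iv7 F484355)))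
theorem Q113162 : ∀ i, i < 113162 → P i := stepQ 113161 Q113161 (allL N113161 (tt N113186 (iv1 F484377)) (tt N113182 (iv0 F484359)) (tt N113158 F484264) (tt N83017 F484265) (tt N84025 F484266) (tt N113369 (iv5 F485213)) (tt N84024 F484267) (tt N83014 (iv7 D216414)))
theorem Q113163 : ∀ i, i < 113163 → P i := stepQ 113162 Q113162 (allL N113162 (tt N113348 (iv1 F485138)) (tt N113703 (iv0 F486724)) (tt N109042 (iv2 F484272)) (tt N83015 (iv3 D216415)) (tt N86543 F484271) (tt N83030 F484268) (tt N85912 F484269) (tt N110504 F484270))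
theorem Q113164 : ∀ i, i < 113164 → P i := stepQ 113163 Q113163 (allL N113163 (tt N84351 F484278) (tt N88597 F484279) (tt N88600 F484273) (tt N84001 F484274) (tt N83015 (iv4 D216416)) (tt N89343 F484277) (tt N85913 F484275) (tt N88520 F484276))
theorem Q113165 : ∀ i, i < 113165 → P i := stepQ 113164 Q113164 (allL N113164 (tt N92243 F484285) (tt N86946 F484286) (tt N86927 F484280) (tt N93222 F484281) (tt N83016 (iv4 D216417)) (tt N102888 F484282) (tt N97591 F484283) (tt N86929 F484284))
theorem Q113166 : ∀ i, i < 113166 → P i := stepQ 113165 Q113165 (allL N113165 (tt N110429 F484290) (tt N83030 F484291) (tt N112578 F484287) (tt N83041 F484288) (tt N113779 (iv4 F487065)) (tt N83018 (iv5 D216418)) (tt N116431 (iv6 F500072)) (tt N83227 F484289))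
theorem Q113167 : ∀ i, i < 113167 → P i := stepQ 113166 Q113166 (allL N113166 (tt N110426 (iv1 F484295)) (tt N83019 (iv0 D216419)) (tt N112564 (iv2 F484294)) (tt N83044 F484293) (tt N116114 (iv4 F498539)) (tt N112915 F484292) (tt N117747 (iv6 F506765)) (tt N83325 F484296))
theorem Q113168 : ∀ i, i < 113168 → P i := stepQ 113167 Q113167 (allL N113167 (tt N113414 (iv1 F501997)) (tt N99922 (iv0 F484300)) (tt N111341 F484297) (tt N83024 F484298) (tt N109763 F484299) (tt N120358 (iv5 F520356)) (tt N83019 (iv6 D216420)) (tt N122283 D225542))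
theorem Q113169 : ∀ i, i < 113169 → P i := stepQ 113168 Q113168 (allL N113168 (tt N88805 F484305) (tt N114734 (iv0 F491581)) (tt N111296 F484301) (tt N83025 F484302) (tt N112955 F484304) (tt N83020 (iv5 D216421)) (tt N120358 (iv6 F520358)) (tt N111290 F484303))
theorem Q113170 : ∀ i, i < 113170 → P i := stepQ 113169 Q113169 (allL N113169 (tt N117398 F504832) (tt N109637 (iv0 F484308)) (tt N116094 (iv2 F498428)) (tt N89340 F484306) (tt N110381 F484307) (tt N116177 (iv5 F498877)) (tt N83021 (iv6 D216422)) (tt N120180 (iv7 F519466)))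
theorem Q113171 : ∀ i, i < 113171 → P i := stepQ 113170 Q113170 (allL N113170 (tt N120193 (iv1 F519520)) (tt N107188 (iv0 F484314)) (tt N107413 F484309) (tt N110374 F484310) (tt N83024 F484311) (tt N107398 F484312) (tt N83023 (iv6 D216423)) (tt N107410 F484313))
theorem Q113172 : ∀ i, i < 113172 → P i := stepQ 113171 Q113171 (allL N113171 (tt N117221 F503975) (tt N112965 (iv0 F484343)) (tt N112886 F484315) (tt N120358 F520361) (tt N114060 (iv4 F488393)) (tt N83024 (iv5 D216424)) (tt N83025 F484316) (tt N122237 (iv7 F530943)))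
theorem Q113173 : ∀ i, i < 113173 → P i := stepQ 113172 Q113172 (allL N113172 (tt N113380 (iv1 F485275)) (tt N83354 (iv0 F484319)) (tt N113379 (iv2 F485269)) (tt N122283 (iv3 F531167)) (tt N107410 F484317) (tt N122237 (iv5 F530937)) (tt N109604 F484318) (tt N83024 (iv7 D216425)))
theorem Q113174 : ∀ i, i < 113174 → P i := stepQ 113173 Q113173 (allL N113173 (tt N83360 F484324) (tt N107547 F484325) (tt N83027 F484320) (tt N110426 F484321) (tt N110612 F484322) (tt N83026 (iv5 D216426)) (tt N121789 (iv6 F528326)) (tt N91288 F484323))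
theorem Q113175 : ∀ i, i < 113175 → P i := stepQ 113174 Q113174 (allL N113174 (tt N121781 (iv1 F528277)) (tt N120254 (iv0 F519838)) (tt N121789 (iv2 F528325)) (tt N83029 F484326) (tt N110718 F484327) (tt N109210 F484328) (tt N83027 (iv6 D216427)) (tt N120178 (iv7 F519454)))
theorem Q113176 : ∀ i, i < 113176 → P i := stepQ 113175 Q113175 (allL N113175 (tt N121433 F526348) (tt N88599 (iv0 F484331)) (tt N116100 (iv2 F498453)) (tt N85042 F484329) (tt N113186 (iv4 F484373)) (tt N83031 (iv5 D216428)) (tt N85041 F484330) (tt N116102 (iv7 F498467)))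
theorem Q113177 : ∀ i, i < 113177 → P i := stepQ 113176 Q113176 (allL N113176 (tt N113443 (iv1 F485517)) (tt N107416 (iv0 F484334)) (tt N116101 (iv2 F498459)) (tt N112339 F484332) (tt N83032 F484333) (tt N122284 D225543) (tt N83031 (iv6 D216429)) (tt N113206 (iv7 F484479)))
theorem Q113178 : ∀ i, i < 113178 → P i := stepQ 113177 Q113177 (allL N113177 (tt N110413 (iv1 F484341)) (tt N83402 (iv0 F484339)) (tt N110412 F484335) (tt N112711 F484336) (tt N113206 (iv4 F484480)) (tt N112710 F484337) (tt N110365 F484338) (tt N83032 (iv7 D216430)))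
theorem Q113179 : ∀ i, i < 113179 → P i := stepQ 113178 Q113178 (allL N113178 (tt N89356 F484347) (tt N89355 F484348) (tt N89353 F484344) (tt N83035 F484345) (tt N98894 F484346) (tt N113704 (iv5 F486729)) (tt N83033 (iv6 D216431)) (tt N89354 (iv7 F484349)))
theorem Q113180 : ∀ i, i < 113180 → P i := stepQ 113179 Q113179 (allL N113179 (tt N117143 (iv1 F503603)) (tt N117142 F503601) (tt N112340 F484350) (tt N83034 (iv3 D216432)) (tt N98891 F484351) (tt N122168 (iv5 F530547)) (tt N88610 F484352) (tt N116099 (iv7 F498451)))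
theorem Q113181 : ∀ i, i < 113181 → P i := stepQ 113180 Q113180 (allL N113180 (tt N88599 (iv1 F498441)) (tt N121433 (iv0 F526346)) (tt N116102 (iv2 F498463)) (tt N122168 (iv3 F530545)) (tt N113182 (iv4 F484356)) (tt N83034 (iv5 D216433)) (tt N120280 F520001) (tt N116100 (iv7 F498455)))
theorem Q113182 : ∀ i, i < 113182 → P i := stepQ 113181 Q113181 (allL N113181 (tt N116195 F498953) (tt N105164 (iv0 F484353)) (tt N116194 F498948) (tt N83036 (iv3 D216434)) (tt N116531 (iv4 F500636)) (tt N114391 F489931) (tt N121867 (iv6 F528798)) (tt N116103 (iv7 F498471)))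
theorem Q113183 : ∀ i, i < 113183 → P i := stepQ 113182 Q113182 (allL N113182 (tt N113161 F484359) (tt N84025 (iv0 F484357)) (tt N113159 F484354) (tt N114391 (iv3 F489930)) (tt N113180 F484356) (tt N83036 (iv5 D216435)) (tt N108346 (iv6 F484358)) (tt N113160 F484355))
theorem Q113184 : ∀ i, i < 113184 → P i := stepQ 113183 Q113183 (allL N113183 (tt N83398 F484361) (tt N110407 F485455) (tt N113474 F485656) (tt N121867 (iv3 F528797)) (tt N116530 (iv4 F500631)) (tt N121524 (iv5 F526847)) (tt N83036 (iv6 D216436)) (tt N110364 F484360))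
theorem Q113185 : ∀ i, i < 113185 → P i := stepQ 113184 Q113184 (allL N113184 (tt N121200 (iv1 F525105)) (tt N106591 (iv0 F484364)) (tt N113343 (iv2 F485113)) (tt N83037 (iv3 D216437)) (tt N89350 F484363) (tt N114954 (iv5 F492743)) (tt N89349 F484362) (tt N113342 (iv7 F485112)))
theorem Q113186 : ∀ i, i < 113186 → P i := stepQ 113185 Q113185 (allL N113185 (tt N83076 F484370) (tt N90910 F484371) (tt N100276 F484365) (tt N83465 F484366) (tt N83037 (iv4 D216438)) (tt N83837 F484369) (tt N88414 F484367) (tt N100277 F484368))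
theorem Q113187 : ∀ i, i < 113187 → P i := stepQ 113186 Q113186 (allL N113186 (tt N84025 F484376) (tt N113161 F484377) (tt N113160 F484372) (tt N114954 (iv3 F492741)) (tt N113175 F484373) (tt N83037 (iv5 D216439)) (tt N90411 F484374) (tt N113159 F484375))
theorem Q113188 : ∀ i, i < 113188 → P i := stepQ 113187 Q113187 (allL N113187 (tt N83039 (iv1 D216440)) (tt N107026 F484378) (tt N107028 F484384) (tt N106536 (iv3 F484382)) (tt N105099 F484381) (tt N100260 F484380) (tt N95527 (iv6 F484383)) (tt N107006 F484379))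
theorem Q113189 : ∀ i, i < 113189 → P i := stepQ 113188 Q113188 (allL N113188 (tt N107028 (iv1 F484390)) (tt N107006 F484391) (tt N107026 F484385) (tt N103363 F484386) (tt N88400 F484387) (tt N83040 F484388) (tt N103362 F484389) (tt N83039 (iv7 D216441)))
theorem Q113190 : ∀ i, i < 113190 → P i := stepQ 113189 Q113189 (allL N113189 (tt N110392 F484395) (tt N113418 F485402) (tt N83045 F484392) (tt N83359 F484393) (tt N98880 F484394) (tt N114746 (iv5 F491637)) (tt N83042 (iv6 D216442)) (tt N113417 (iv7 F485394)))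
theorem Q113191 : ∀ i, i < 113191 → P i := stepQ 113190 Q113190 (allL N113190 (tt N110354 F484399) (tt N105667 (iv0 F484400)) (tt N83324 F484396) (tt N117747 (iv3 F506764)) (tt N119943 (iv4 F518162)) (tt N112917 F484397) (tt N83044 (iv6 D216443)) (tt N110353 F484398))
theorem Q113192 : ∀ i, i < 113192 → P i := stepQ 113191 Q113191 (allL N113191 (tt N113417 (iv1 F485397)) (tt N83045 (iv0 D216444)) (tt N110392 (iv2 F484403)) (tt N116862 F502224) (tt N119856 (iv4 F517721)) (tt N120775 (iv5 F522646)) (tt N110389 F484404) (tt N113418 (iv7 F485403)))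
theorem Q113193 : ∀ i, i < 113193 → P i := stepQ 113192 Q113192 (allL N113192 (tt N83353 (iv1 F484406)) (tt N83046 (iv0 D216445)) (tt N83352 (iv2 F484405)) (tt N121536 (iv3 F526918)) (tt N121696 (iv4 F527801)) (tt N100890 (iv5 F484408)) (tt N120420 (iv6 F520686)) (tt N83351 F484407))
theorem Q113194 : ∀ i, i < 113194 → P i := stepQ 113193 Q113193 (allL N113193 (tt N83352 (iv1 F484413)) (tt N83351 F484412) (tt N83046 (iv2 D216446)) (tt N83378 F484409) (tt N121981 (iv4 F529443)) (tt N117265 (iv5 F504179)) (tt N101456 F484410) (tt N83353 F484411))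
theorem Q113195 : ∀ i, i < 113195 → P i := stepQ 113194 Q113194 (allL N113194 (tt N83048 (iv1 D216447)) (tt N83417 F484417) (tt N83415 F484415) (tt N117244 F504089) (tt N120103 (iv4 F519059)) (tt N113360 F485173) (tt N113420 (iv6 F485418)) (tt N83416 F484414))
theorem Q113196 : ∀ i, i < 113196 → P i := stepQ 113195 Q113195 (allL N113195 (tt N83416 (iv1 F484423)) (tt N83415 F484422) (tt N83048 (iv2 D216448)) (tt N83401 F484419) (tt N121839 (iv4 F528625)) (tt N120250 (iv5 F519814)) (tt N101440 F484420) (tt N83417 F484421))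
theorem Q113197 : ∀ i, i < 113197 → P i := stepQ 113196 Q113196 (allL N113196 (tt N101294 F484426) (tt N101296 (iv0 F484427)) (tt N83051 F484424) (tt N83408 F484425) (tt N122000 (iv4 F529556)) (tt N113880 (iv5 F487597)) (tt N83049 (iv6 D216449)) (tt N119101 (iv7 F513795)))
theorem Q113198 : ∀ i, i < 113198 → P i := stepQ 113197 Q113197 (allL N113197 (tt N112593 F484432) (tt N112590 (iv0 F484434)) (tt N112602 F484428) (tt N83050 (iv3 D216450)) (tt N83052 F484429) (tt N106656 F484430) (tt N105305 (iv6 F484433)) (tt N83388 F484431))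
theorem Q113199 : ∀ i, i < 113199 → P i := stepQ 113198 Q113198 (allL N113198 (tt N117238 (iv1 F504065)) (tt N117239 (iv0 F504066)) (tt N122000 (iv2 F529554)) (tt N105305 F484435) (tt N83051 F484436) (tt N106657 F484437) (tt N83050 (iv6 D216451)) (tt N112595 F484438))
theorem Q113200 : ∀ i, i < 113200 → P i := stepQ 113199 Q113199 (allL N113199 (tt N83401 (iv1 F484441)) (tt N83052 (iv0 D216452)) (tt N83400 (iv2 F484442)) (tt N122285 D225544) (tt N121457 (iv4 F526481)) (tt N107392 F484440) (tt N95016 F484439) (tt N83399 (iv7 F484443)))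
theorem Q113201 : ∀ i, i < 113201 → P i := stepQ 113200 Q113200 (allL N113200 (tt N83052 (iv1 D216453)) (tt N83401 (iv0 F484447)) (tt N83399 F484446) (tt N121163 (iv3 F524880)) (tt N122196 (iv4 F530713)) (tt N117264 (iv5 F504174)) (tt N101431 (iv6 F484445)) (tt N83400 F484444))
theorem Q113202 : ∀ i, i < 113202 → P i := stepQ 113201 Q113201 (allL N113201 (tt N83400 (iv1 F484453)) (tt N83399 F484452) (tt N83052 (iv2 D216454)) (tt N83417 F484448) (tt N112602 F484449) (tt N114004 (iv5 F488153)) (tt N105165 F484450) (tt N83401 F484451))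
theorem Q113203 : ∀ i, i < 113203 → P i := stepQ 113202 Q113202 (allL N113202 (tt N83429 (iv1 F484462)) (tt N83428 F484461) (tt N83054 (iv2 D216455)) (tt N83426 F484457) (tt N112605 F484458) (tt N120095 (iv5 F519014)) (tt N109484 F484459) (tt N83430 F484460))
theorem Q113204 : ∀ i, i < 113204 → P i := stepQ 113203 Q113203 (allL N113203 (tt N83426 (iv1 F484463)) (tt N83055 (iv0 D216456)) (tt N83425 F484467) (tt N107197 F484465) (tt N119910 (iv4 F517988)) (tt N121515 (iv5 F526800)) (tt N107195 (iv6 F484464)) (tt N83424 F484466))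
theorem Q113205 : ∀ i, i < 113205 → P i := stepQ 113204 Q113204 (allL N113204 (tt N83055 (iv1 D216457)) (tt N83426 F484470) (tt N83424 (iv2 F484469)) (tt N121506 (iv3 F526746)) (tt N119911 (iv4 F517995)) (tt N121303 (iv5 F525648)) (tt N121224 F525231) (tt N83425 F484468))
theorem Q113206 : ∀ i, i < 113206 → P i := stepQ 113205 Q113205 (allL N113205 (tt N83425 (iv1 F484476)) (tt N83424 F484475) (tt N83055 (iv2 D216458)) (tt N83430 F484471) (tt N109929 F484472) (tt N120127 (iv5 F519200)) (tt N105286 F484473) (tt N83426 F484474))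
theorem Q113207 : ∀ i, i < 113207 → P i := stepQ 113206 Q113206 (allL N113206 (tt N121506 (iv1 F526745)) (tt N112592 (iv0 F484482)) (tt N112516 (iv2 F484481)) (tt N83057 (iv3 D216459)) (tt N113177 F484480) (tt N120287 (iv5 F520038)) (tt N101501 F484478) (tt N113176 F484479))
theorem Q113208 : ∀ i, i < 113208 → P i := stepQ 113207 Q113207 (allL N113207 (tt N105597 (iv1 F484487)) (tt N120972 (iv0 F523790)) (tt N88729 F484483) (tt N113456 (iv3 F485572)) (tt N83057 (iv4 D216460)) (tt N84005 F484486) (tt N110404 F484484) (tt N88613 F484485))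
theorem Q113209 : ∀ i, i < 113209 → P i := stepQ 113208 Q113208 (allL N113208 (tt N116270 (iv1 F499289)) (tt N86388 F484489) (tt N116141 (iv2 F498700)) (tt N120287 (iv3 F520037)) (tt N113817 (iv4 F487261)) (tt N83057 (iv5 D216461)) (tt N113059 F484488) (tt N113816 F487259))
theorem Q113210 : ∀ i, i < 113210 → P i := stepQ 113209 Q113209 (allL N113209 (tt N121845 F528663) (tt N120202 (iv0 F519567)) (tt N121844 F528655) (tt N83058 (iv3 D216462)) (tt N109951 F484490) (tt N116271 (iv5 F499295)) (tt N90627 F484491) (tt N116192 (iv7 F498939)))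
theorem Q113211 : ∀ i, i < 113211 → P i := stepQ 113210 Q113210 (allL N113210 (tt N83550 (iv1 F484498)) (tt N83549 (iv0 F484496)) (tt N83063 F484492) (tt N83473 F484493) (tt N120096 (iv4 F519020)) (tt N88551 F484494) (tt N83061 (iv6 D216463)) (tt N83551 (iv7 F484497)))
theorem Q113212 : ∀ i, i < 113212 → P i := stepQ 113211 Q113211 (allL N113211 (tt N106082 F484502) (tt N121930 (iv0 F529131)) (tt N83538 F484499) (tt N116521 (iv3 F500593)) (tt N107559 F484500) (tt N88713 F484501) (tt N83062 (iv6 D216464)) (tt N122286 D225545))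
theorem Q113213 : ∀ i, i < 113213 → P i := stepQ 113212 Q113212 (allL N113212 (tt N83551 (iv1 F484505)) (tt N83063 (iv0 D216465)) (tt N83550 (iv2 F484504)) (tt N116524 (iv3 F500606)) (tt N107566 F484503) (tt N113008 (iv5 F485948)) (tt N121770 (iv6 F528215)) (tt N83549 F484506))
theorem Q113214 : ∀ i, i < 113214 → P i := stepQ 113213 Q113213 (allL N113213 (tt N91163 F484512) (tt N84743 (iv0 F484513)) (tt N90836 F484507) (tt N83065 F484508) (tt N85485 F484509) (tt N83129 F484510) (tt N83064 (iv6 D216466)) (tt N90838 F484511))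
theorem Q113215 : ∀ i, i < 113215 → P i := stepQ 113214 Q113214 (allL N113214 (tt N83065 (iv1 D216467)) (tt N83494 F484514) (tt N83493 (iv2 F484519)) (tt N100438 F484518) (tt N102674 F484516) (tt N113253 (iv5 F484718)) (tt N100436 (iv6 F484517)) (tt N83492 F484515))
theorem Q113216 : ∀ i, i < 113216 → P i := stepQ 113215 Q113215 (allL N113215 (tt N83473 (iv1 F484522)) (tt N83067 (iv0 D216468)) (tt N83481 F484524) (tt N112547 F484526) (tt N106627 F484521) (tt N107376 F484520) (tt N98987 (iv6 F484523)) (tt N83480 (iv7 F484525)))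
theorem Q113217 : ∀ i, i < 113217 → P i := stepQ 113216 Q113216 (allL N113216 (tt N83067 (iv1 D216469)) (tt N83473 (iv0 F484531)) (tt N83480 (iv2 F484528)) (tt N120274 (iv3 F519959)) (tt N121971 (iv4 F529377)) (tt N113024 F484530) (tt N99947 (iv6 F484529)) (tt N83481 F484527))
theorem Q113218 : ∀ i, i < 113218 → P i := stepQ 113217 Q113217 (allL N113217 (tt N83481 (iv1 F484536)) (tt N83480 F484535) (tt N83067 (iv2 D216470)) (tt N83551 F484532) (tt N106926 F484533) (tt N122217 (iv5 F530837)) (tt N117160 (iv6 F503696)) (tt N83473 F484534))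
theorem Q113219 : ∀ i, i < 113219 → P i := stepQ 113218 Q113218 (allL N113218 (tt N111332 F484539) (tt N114648 (iv0 F491192)) (tt N114888 (iv2 F492357)) (tt N85702 F484537) (tt N83071 (iv4 D216471)) (tt N112343 F484538) (tt N116138 (iv6 F498683)) (tt N113549 (iv7 F485986)))
theorem Q113220 : ∀ i, i < 113220 → P i := stepQ 113219 Q113219 (allL N113219 (tt N86260 (iv1 F484542)) (tt N83074 (iv0 D216472)) (tt N117598 (iv2 F505925)) (tt N90759 F484541) (tt N91334 F484540) (tt N115581 (iv5 F495860)) (tt N110836 (iv6 F484543)) (tt N90773 F484544))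
theorem Q113221 : ∀ i, i < 113221 → P i := stepQ 113220 Q113220 (allL N113220 (tt N83074 (iv1 D216473)) (tt N86260 (iv0 F484549)) (tt N90773 (iv2 F484547)) (tt N121606 (iv3 F527297)) (tt N112039 F484545) (tt N111703 F484546) (tt N111704 (iv6 F484548)) (tt N117598 (iv7 F505921)))
theorem Q113222 : ∀ i, i < 113222 → P i := stepQ 113221 Q113221 (allL N113221 (tt N117598 (iv1 F505920)) (tt N90773 F484554) (tt N83074 (iv2 D216474)) (tt N86264 F484550) (tt N102266 F484551) (tt N115674 (iv5 F496251)) (tt N102265 F484552) (tt N86260 F484553))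
theorem Q113223 : ∀ i, i < 113223 → P i := stepQ 113222 Q113222 (allL N113222 (tt N88393 F484560) (tt N88396 F484561) (tt N105100 F484555) (tt N105264 F484556) (tt N83076 (iv4 D216475)) (tt N105084 F484557) (tt N90854 F484558) (tt N100275 F484559))
theorem Q113224 : ∀ i, i < 113224 → P i := stepQ 113223 Q113223 (allL N113223 (tt N106374 F484566) (tt N106366 (iv0 F484568)) (tt N89137 F484562) (tt N83078 F484563) (tt N107396 F484567) (tt N83077 (iv5 D216476)) (tt N107395 F484564) (tt N83086 F484565))
theorem Q113225 : ∀ i, i < 113225 → P i := stepQ 113224 Q113224 (allL N113224 (tt N108786 F484572) (tt N106427 (iv0 F484573)) (tt N83089 F484569) (tt N89390 F484570) (tt N120867 (iv4 F523169)) (tt N105258 F484571) (tt N83079 (iv6 D216477)) (tt N120007 (iv7 F518526)))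
theorem Q113226 : ∀ i, i < 113226 → P i := stepQ 113225 Q113225 (allL N113225 (tt N89140 F484578) (tt N88377 (iv0 F484579)) (tt N89138 F484574) (tt N83080 (iv3 D216478)) (tt N89143 F484575) (tt N115060 (iv5 F493289)) (tt N89143 F484576) (tt N83093 F484577))
theorem Q113227 : ∀ i, i < 113227 → P i := stepQ 113226 Q113226 (allL N113226 (tt N83082 (iv1 D216479)) (tt N83088 F484580) (tt N89380 (iv2 F484583)) (tt N88945 (iv3 F484584)) (tt N120162 (iv4 F519360)) (tt N88944 F484582) (tt N119014 (iv6 F513288)) (tt N89379 F484581))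
theorem Q113228 : ∀ i, i < 113228 → P i := stepQ 113227 Q113227 (allL N113227 (tt N83093 F484590) (tt N89138 F484592) (tt N89140 F484585) (tt N83113 F484586) (tt N107272 F484589) (tt N83085 (iv5 D216480)) (tt N95910 F484587) (tt N88377 F484588))
theorem Q113229 : ∀ i, i < 113229 → P i := stepQ 113228 Q113228 (allL N113228 (tt N83086 (iv1 D216481)) (tt N89137 F484594) (tt N106374 (iv2 F484597)) (tt N83114 (iv3 F484598)) (tt N114316 (iv4 F489555)) (tt N88789 F484596) (tt N106381 F484599) (tt N106366 F484595))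
theorem Q113230 : ∀ i, i < 113230 → P i := stepQ 113229 Q113229 (allL N113229 (tt N89837 F484605) (tt N89839 F484604) (tt N107407 F484600) (tt N106397 F484601) (tt N83086 (iv4 D216482)) (tt N120194 (iv5 F519527)) (tt N106379 F484602) (tt N107396 F484603))
theorem Q113231 : ∀ i, i < 113231 → P i := stepQ 113230 Q113230 (allL N113230 (tt N104153 F484612) (tt N104151 F484611) (tt N105258 F484606) (tt N111281 F484607) (tt N88659 F484609) (tt N83089 (iv5 D216483)) (tt N83090 F484608) (tt N105274 F484610))
theorem Q113232 : ∀ i, i < 113232 → P i := stepQ 113231 Q113231 (allL N113231 (tt N106427 (iv1 F484617)) (tt N108786 F484618) (tt N120007 (iv2 F518522)) (tt N111273 F484613) (tt N104529 F484614) (tt N105274 F484615) (tt N106425 F484616) (tt N83089 (iv7 D216484)))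
theorem Q113233 : ∀ i, i < 113233 → P i := stepQ 113232 Q113232 (allL N113232 (tt N103656 F484624) (tt N103734 F484625) (tt N90101 F484619) (tt N85939 F484620) (tt N83139 F484623) (tt N83091 (iv5 D216485)) (tt N90105 F484621) (tt N90103 F484622))
theorem Q113234 : ∀ i, i < 113234 → P i := stepQ 113233 Q113233 (allL N113233 (tt N88379 F484629) (tt N89146 F484630) (tt N89144 F484626) (tt N104701 F484627) (tt N83093 (iv4 D216486)) (tt N122287 D225546) (tt N107048 (iv6 F484631)) (tt N89143 F484628))
theorem Q113235 : ∀ i, i < 113235 → P i := stepQ 113234 Q113234 (allL N113234 (tt N105095 F484637) (tt N107011 F484638) (tt N105260 F484632) (tt N83095 F484633) (tt N107048 F484634) (tt N105490 F484635) (tt N83093 (iv6 D216487)) (tt N107048 F484636))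
theorem Q113236 : ∀ i, i < 113236 → P i := stepQ 113235 Q113235 (allL N113235 (tt N103734 F484643) (tt N103656 F484644) (tt N90103 F484639) (tt N104702 F484640) (tt N83140 F484641) (tt N83094 (iv5 D216488)) (tt N122288 D225547) (tt N90101 F484642))
theorem Q113237 : ∀ i, i < 113237 → P i := stepQ 113236 Q113236 (allL N113236 (tt N105342 (iv1 F484651)) (tt N122289 D225548) (tt N90104 F484645) (tt N104703 F484646) (tt N83095 F484647) (tt N111822 (iv5 F484649)) (tt N83094 (iv6 D216489)) (tt N104703 F484648))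
theorem Q113238 : ∀ i, i < 113238 → P i := stepQ 113237 Q113237 (allL N113237 (tt N106413 (iv1 F484656)) (tt N105992 F484657) (tt N106299 F484652) (tt N84043 F484653) (tt N115088 (iv4 F493426)) (tt N97508 F484654) (tt N91676 F484655) (tt N83102 (iv7 D216490)))
theorem Q113239 : ∀ i, i < 113239 → P i := stepQ 113238 Q113238 (allL N113238 (tt N114714 F491489) (tt N115098 F493476) (tt N114939 (iv2 F492648)) (tt N83106 F484658) (tt N114711 (iv4 F491476)) (tt N113027 F484659) (tt N83104 (iv6 D216491)) (tt N115097 (iv7 F493473)))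
theorem Q113240 : ∀ i, i < 113240 → P i := stepQ 113239 Q113239 (allL N113239 (tt N101785 (iv1 F484664)) (tt N101784 F484665) (tt N101786 F484660) (tt N115097 (iv3 F493471)) (tt N107900 F484661) (tt N110160 F484662) (tt N101768 F484663) (tt N83106 (iv7 D216492)))
theorem Q113241 : ∀ i, i < 113241 → P i := stepQ 113240 Q113240 (allL N113240 (tt N120261 F519879) (tt N83109 (iv0 D216493)) (tt N120913 (iv2 F523432)) (tt N93718 (iv3 F484667)) (tt N103641 F484666) (tt N120453 (iv5 F520866)) (tt N93716 F484668) (tt N119564 (iv7 F516280)))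
theorem Q113242 : ∀ i, i < 113242 → P i := stepQ 113241 Q113241 (allL N113241 (tt N120913 (iv1 F523438)) (tt N119564 (iv0 F516281)) (tt N83109 (iv2 D216494)) (tt N111183 F484669) (tt N111188 F484670) (tt N105503 F484671) (tt N83141 F484672) (tt N120261 (iv7 F519877)))
theorem Q113243 : ∀ i, i < 113243 → P i := stepQ 113242 Q113242 (allL N113242 (tt N119564 F516282) (tt N120913 (iv0 F523437)) (tt N120261 (iv2 F519873)) (tt N83110 F484673) (tt N120661 (iv4 F522022)) (tt N105390 F484674) (tt N95176 F484675) (tt N83109 (iv7 D216495)))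
theorem Q113244 : ∀ i, i < 113244 → P i := stepQ 113243 Q113243 (allL N113243 (tt N99415 (iv1 F484684)) (tt N107479 (iv0 F484683)) (tt N107461 F484676) (tt N95910 F484677) (tt N107283 F484678) (tt N99389 F484679) (tt N83113 (iv6 D216496)) (tt N96696 F484680))
theorem Q113245 : ∀ i, i < 113245 → P i := stepQ 113244 Q113244 (allL N113244 (tt N114646 (iv1 F491181)) (tt N114647 (iv0 F491186)) (tt N114900 (iv2 F492427)) (tt N116308 (iv3 F499481)) (tt N83114 (iv4 D216497)) (tt N117158 (iv5 F503681)) (tt N117193 F503849) (tt N116306 (iv7 F499475)))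
theorem Q113246 : ∀ i, i < 113246 → P i := stepQ 113245 Q113245 (allL N113245 (tt N107465 F484687) (tt N112923 (iv0 F484688)) (tt N116732 (iv2 F501549)) (tt N106381 F484685) (tt N117193 (iv4 F503847)) (tt N116294 (iv5 F499418)) (tt N83114 (iv6 D216498)) (tt N106377 F484686))
theorem Q113247 : ∀ i, i < 113247 → P i := stepQ 113246 Q113246 (allL N113246 (tt N116718 (iv1 F501481)) (tt N83116 (iv0 D216499)) (tt N85390 (iv2 F484690)) (tt N109221 (iv3 F484692)) (tt N85389 F484689) (tt N122290 D225549) (tt N109220 F484693) (tt N106191 F484691))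
theorem Q113248 : ∀ i, i < 113248 → P i := stepQ 113247 Q113247 (allL N113247 (tt N119074 (iv1 F513646)) (tt N90439 (iv0 F484698)) (tt N85594 F484694) (tt N83116 (iv3 D216500)) (tt N83120 F484695) (tt N117206 (iv5 F503905)) (tt N85592 (iv6 F484697)) (tt N106270 F484696))
theorem Q113249 : ∀ i, i < 113249 → P i := stepQ 113248 Q113248 (allL N113248 (tt N84066 F484703) (tt N85577 (iv0 F484705)) (tt N84907 F484699) (tt N85592 F484700) (tt N83117 F484701) (tt N106237 F484704) (tt N83116 (iv6 D216501)) (tt N85578 F484702))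
theorem Q113250 : ∀ i, i < 113250 → P i := stepQ 113249 Q113249 (allL N113249 (tt N85579 (iv1 F484713)) (tt N83117 (iv0 D216502)) (tt N115085 (iv2 F493409)) (tt N106388 (iv3 F487472)) (tt N114665 (iv4 F491274)) (tt N121047 (iv5 F524216)) (tt N84067 F487471) (tt N116733 (iv7 F501553)))
theorem Q113251 : ∀ i, i < 113251 → P i := stepQ 113250 Q113250 (allL N113250 (tt N83117 (iv1 D216503)) (tt N85579 F484706) (tt N116733 (iv2 F501557)) (tt N109860 F484708) (tt N121683 (iv4 F527721)) (tt N119175 (iv5 F514199)) (tt N107464 (iv6 F484707)) (tt N115085 (iv7 F493411)))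
theorem Q113252 : ∀ i, i < 113252 → P i := stepQ 113251 Q113251 (allL N113251 (tt N116733 (iv1 F501552)) (tt N115085 F493413) (tt N85579 F484709) (tt N83121 F484710) (tt N85578 F484711) (tt N121683 (iv5 F527722)) (tt N98103 F484712) (tt N83117 (iv7 D216504)))
theorem Q113253 : ∀ i, i < 113253 → P i := stepQ 113252 Q113252 (allL N113252 (tt N114461 F490298) (tt N83120 (iv0 D216505)) (tt N114278 (iv2 F489350)) (tt N93297 F484714) (tt N117166 F503713) (tt N117556 (iv5 F505674)) (tt N95069 (iv6 F484715)) (tt N114462 (iv7 F490302)))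
theorem Q113254 : ∀ i, i < 113254 → P i := stepQ 113253 Q113253 (allL N113253 (tt N112924 F484719) (tt N107452 (iv0 F484720)) (tt N85357 F484716) (tt N119539 (iv3 F516135)) (tt N85245 F484717) (tt N113214 F484718) (tt N83124 (iv6 D216506)) (tt N113465 (iv7 F485612)))
theorem Q113255 : ∀ i, i < 113255 → P i := stepQ 113254 Q113254 (allL N113254 (tt N110213 F484722) (tt N105698 (iv0 F484724)) (tt N114322 (iv2 F489596)) (tt N83128 (iv3 D216507)) (tt N83130 F484721) (tt N116864 (iv5 F502236)) (tt N89706 (iv6 F484723)) (tt N113318 (iv7 F485000)))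
theorem Q113256 : ∀ i, i < 113256 → P i := stepQ 113255 Q113255 (allL N113255 (tt N114328 (iv1 F489633)) (tt N111973 (iv0 F484727)) (tt N114329 (iv2 F489635)) (tt N89706 F484725) (tt N83129 F484726) (tt N114700 F491418) (tt N83128 (iv6 D216508)) (tt N114325 (iv7 F489618)))
theorem Q113257 : ∀ i, i < 113257 → P i := stepQ 113256 Q113256 (allL N113256 (tt N114327 (iv1 F489631)) (tt N83129 (iv0 D216509)) (tt N109888 (iv2 F484729)) (tt N89146 F484728) (tt N116741 (iv4 F501587)) (tt N117209 (iv5 F503922)) (tt N122291 D225550) (tt N89145 F484730))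
theorem Q113258 : ∀ i, i < 113258 → P i := stepQ 113257 Q113257 (allL N113257 (tt N89145 (iv1 F484734)) (tt N109888 F484735) (tt N114327 (iv2 F489626)) (tt N83133 F484732) (tt N114325 (iv4 F489616)) (tt N90838 F484733) (tt N114324 F489613) (tt N83129 (iv7 D216510)))
theorem Q113259 : ∀ i, i < 113259 → P i := stepQ 113258 Q113258 (allL N113258 (tt N83130 (iv1 D216511)) (tt N112774 (iv0 F484740)) (tt N105634 F484739) (tt N84798 (iv3 F484738)) (tt N105599 (iv4 F484737)) (tt N117572 (iv5 F505772)) (tt N105598 F484741) (tt N85104 F484736))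
theorem Q113260 : ∀ i, i < 113260 → P i := stepQ 113259 Q113259 (allL N113259 (tt N85104 (iv1 F484746)) (tt N105634 F484745) (tt N83130 (iv2 D216512)) (tt N94562 F484742) (tt N114322 (iv4 F489598)) (tt N115757 (iv5 F496697)) (tt N85205 F484743) (tt N112774 F484744))
theorem Q113261 : ∀ i, i < 113261 → P i := stepQ 113260 Q113260 (allL N113260 (tt N83134 (iv1 D216513)) (tt N94562 F484747) (tt N95679 F484752) (tt N94965 (iv3 F484750)) (tt N100627 (iv4 F484749)) (tt N117565 (iv5 F505727)) (tt N94554 (iv6 F484751)) (tt N100625 F484748))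
theorem Q113262 : ∀ i, i < 113262 → P i := stepQ 113261 Q113261 (allL N113261 (tt N107093 F484757) (tt N107092 (iv0 F484758)) (tt N106090 F484753) (tt N83137 (iv3 D216514)) (tt N105805 F484759) (tt N106089 F484754) (tt N105804 F484755) (tt N107091 F484756))
theorem Q113263 : ∀ i, i < 113263 → P i := stepQ 113262 Q113262 (allL N113262 (tt N83142 (iv1 F484766)) (tt N83141 F484765) (tt N83139 (iv2 D216515)) (tt N89828 F484760) (tt N90101 F484761) (tt N90049 F484762) (tt N89826 F484763) (tt N83140 F484764))
theorem Q113264 : ∀ i, i < 113264 → P i := stepQ 113263 Q113263 (allL N113263 (tt N117409 F504892) (tt N114560 (iv0 F490774)) (tt N118271 (iv2 F509449)) (tt N113080 F484767) (tt N122288 (iv4 F531203)) (tt N117643 (iv5 F506173)) (tt N83140 (iv6 D216516)) (tt N114549 (iv7 F490724)))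
theorem Q113265 : ∀ i, i < 113265 → P i := stepQ 113264 Q113264 (allL N113264 (tt N96696 (iv1 F484773)) (tt N107461 (iv0 F484774)) (tt N99415 F484768) (tt N83144 (iv3 D216517)) (tt N101200 F484772) (tt N99507 F484769) (tt N106301 F484770) (tt N107479 F484771))
theorem Q113266 : ∀ i, i < 113266 → P i := stepQ 113265 Q113265 (allL N113265 (tt N95680 F484779) (tt N85639 F484780) (tt N94552 F484775) (tt N94828 F484776) (tt N83144 (iv4 D216518)) (tt N94827 F484778) (tt N94550 F484777) (tt N113320 (iv7 F485011)))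
theorem Q113267 : ∀ i, i < 113267 → P i := stepQ 113266 Q113266 (allL N113266 (tt N85639 F484784) (tt N95680 F484785) (tt N113320 (iv2 F485015)) (tt N94555 F484781) (tt N83145 (iv4 D216519)) (tt N94835 F484782) (tt N99524 F484786) (tt N94552 F484783))
theorem Q113268 : ∀ i, i < 113268 → P i := stepQ 113267 Q113267 (allL N113267 (tt N121257 F525416) (tt N109312 (iv0 F484792)) (tt N103121 F484787) (tt N99414 F484788) (tt N99524 F484789) (tt N101232 F484790) (tt N83145 (iv6 D216520)) (tt N103118 F484791))
theorem Q113269 : ∀ i, i < 113269 → P i := stepQ 113268 Q113268 (allL N113268 (tt N89850 F484795) (tt N90117 F484796) (tt N117137 F503579) (tt N83146 (iv3 D216521)) (tt N83148 F484793) (tt N113472 (iv5 F485646)) (tt N90020 F484794) (tt N114790 (iv7 F491877)))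
theorem Q113270 : ∀ i, i < 113270 → P i := stepQ 113269 Q113269 (allL N113269 (tt N116788 (iv1 F501836)) (tt N107271 F484799) (tt N110414 F484797) (tt N113472 (iv3 F485644)) (tt N89843 F484798) (tt N83146 (iv5 D216522)) (tt N110413 F484800) (tt N114791 (iv7 F491883)))
theorem Q113271 : ∀ i, i < 113271 → P i := stepQ 113270 Q113270 (allL N113270 (tt N116540 (iv1 F500677)) (tt N115685 (iv0 F496307)) (tt N90705 F484801) (tt N118791 (iv3 F512091)) (tt N83152 (iv4 D216523)) (tt N100033 F484802) (tt N83157 F484803) (tt N108708 F484804))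
theorem Q113272 : ∀ i, i < 113272 → P i := stepQ 113271 Q113271 (allL N113271 (tt N95329 F484807) (tt N95325 (iv0 F484808)) (tt N95326 F484809) (tt N83157 (iv3 D216524)) (tt N83162 F484805) (tt N121311 (iv5 F525693)) (tt N118791 (iv6 F512094)) (tt N95327 F484806))
theorem Q113273 : ∀ i, i < 113273 → P i := stepQ 113272 Q113272 (allL N113272 (tt N116649 (iv1 F501141)) (tt N116636 (iv0 F501088)) (tt N109573 F484810) (tt N121311 F525694) (tt N109578 F484812) (tt N83157 (iv5 D216525)) (tt N100032 F484811) (tt N117455 (iv7 F505131)))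
theorem Q113274 : ∀ i, i < 113274 → P i := stepQ 113273 Q113273 (allL N113273 (tt N90724 F484815) (tt N118401 F510157) (tt N115513 (iv2 F495576)) (tt N116806 (iv3 F501937)) (tt N108847 F484813) (tt N87998 F484814) (tt N83158 (iv6 D216526)) (tt N115592 (iv7 F495909)))
theorem Q113275 : ∀ i, i < 113275 → P i := stepQ 113274 Q113274 (allL N113274 (tt N89897 F485159) (tt N121847 (iv0 F528675)) (tt N83312 F484816) (tt N109497 F484817) (tt N113355 F485158) (tt N116358 (iv5 F499700)) (tt N83166 (iv6 D216527)) (tt N120092 (iv7 F519001)))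
theorem Q113276 : ∀ i, i < 113276 → P i := stepQ 113275 Q113275 (allL N113275 (tt N118546 (iv1 F510890)) (tt N109582 (iv0 F484820)) (tt N83182 F484818) (tt N121617 (iv3 F527356)) (tt N117455 (iv4 F505128)) (tt N83167 (iv5 D216528)) (tt N117455 (iv6 F505130)) (tt N109578 F484819))
theorem Q113277 : ∀ i, i < 113277 → P i := stepQ 113276 Q113276 (allL N113276 (tt N111804 F484826) (tt N92553 (iv0 F484827)) (tt N110513 F484821) (tt N83173 (iv3 D216529)) (tt N83190 F484822) (tt N108709 F484823) (tt N83181 F484824) (tt N110997 F484825))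
theorem Q113278 : ∀ i, i < 113278 → P i := stepQ 113277 Q113277 (allL N113277 (tt N119249 F514623) (tt N92492 (iv0 F484829)) (tt N116281 (iv2 F499338)) (tt N118576 (iv3 F510982)) (tt N83175 F484828) (tt N107791 F484830) (tt N83174 (iv6 D216530)) (tt N119843 (iv7 F517657)))
theorem Q113279 : ∀ i, i < 113279 → P i := stepQ 113278 Q113278 (allL N113278 (tt N107948 (iv1 F484834)) (tt N83175 (iv0 D216531)) (tt N116280 F499335) (tt N95970 (iv3 F484835)) (tt N108022 F484831) (tt N108034 F484832) (tt N108719 F484833) (tt N95965 F484836))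
theorem Q113280 : ∀ i, i < 113280 → P i := stepQ 113279 Q113279 (allL N113279 (tt N83175 (iv1 D216532)) (tt N107948 F484837) (tt N95965 F484840) (tt N83194 (iv3 F484839)) (tt N105047 F484838) (tt N121926 (iv5 F529105)) (tt N95963 F484841) (tt N116280 (iv7 F499337)))
theorem Q113281 : ∀ i, i < 113281 → P i := stepQ 113280 Q113280 (allL N113280 (tt N116686 (iv1 F501299)) (tt N100108 F484842) (tt N116387 (iv2 F499830)) (tt N119724 (iv3 F517110)) (tt N116061 (iv4 F498277)) (tt N83176 (iv5 D216533)) (tt N120122 (iv6 F519169)) (tt N116681 (iv7 F501282)))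
theorem Q113282 : ∀ i, i < 113282 → P i := stepQ 113281 Q113281 (allL N113281 (tt N117075 F503251) (tt N110582 (iv0 F501213)) (tt N108990 F484843) (tt N119725 (iv3 F517115)) (tt N83178 F484844) (tt N108989 (iv5 F484845)) (tt N83176 (iv6 D216534)) (tt N121632 (iv7 F527444)))
theorem Q113283 : ∀ i, i < 113283 → P i := stepQ 113282 Q113282 (allL N113282 (tt N83178 (iv1 D216535)) (tt N116390 F499849) (tt N116389 (iv2 F499843)) (tt N83206 (iv3 F484846)) (tt N122095 (iv4 F530129)) (tt N118946 (iv5 F512904)) (tt N113344 (iv6 F485117)) (tt N116388 F499838))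
theorem Q113284 : ∀ i, i < 113284 → P i := stepQ 113283 Q113283 (allL N113283 (tt N116389 (iv1 F499839)) (tt N116388 F499844) (tt N116390 (iv2 F499845)) (tt N116667 (iv3 F501222)) (tt N121632 (iv4 F527442)) (tt N117316 (iv5 F504433)) (tt N116682 (iv6 F501289)) (tt N83178 (iv7 D216536)))
theorem Q113285 : ∀ i, i < 113285 → P i := stepQ 113284 Q113284 (allL N113284 (tt N121898 (iv1 F528968)) (tt N119253 (iv0 F514645)) (tt N107496 F484847) (tt N109581 F484848) (tt N100100 F484850) (tt N83179 (iv5 D216537)) (tt N121749 (iv6 F528092)) (tt N108776 F484849))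
theorem Q113286 : ∀ i, i < 113286 → P i := stepQ 113285 Q113285 (allL N113285 (tt N117842 F507228) (tt N122095 (iv0 F530133)) (tt N107497 F484851) (tt N117825 F507148) (tt N90496 F484852) (tt N117899 (iv5 F507494)) (tt N83179 (iv6 D216538)) (tt N121491 (iv7 F526665)))
theorem Q113287 : ∀ i, i < 113287 → P i := stepQ 113286 Q113286 (allL N113286 (tt N119253 (iv1 F514646)) (tt N121898 (iv0 F528967)) (tt N108776 F484853) (tt N92369 F484854) (tt N110576 F484855) (tt N83180 (iv5 D216539)) (tt N95330 F484856) (tt N107496 F484857))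
theorem Q113288 : ∀ i, i < 113288 → P i := stepQ 113287 Q113287 (allL N113287 (tt N109578 (iv1 F484860)) (tt N83182 (iv0 D216540)) (tt N118546 (iv2 F510885)) (tt N117452 (iv3 F505113)) (tt N100092 F484859) (tt N109688 F484858) (tt N117775 (iv6 F506903)) (tt N109582 (iv7 F484861)))
theorem Q113289 : ∀ i, i < 113289 → P i := stepQ 113288 Q113288 (allL N113288 (tt N83182 (iv1 D216541)) (tt N109578 F484862) (tt N109582 (iv2 F484864)) (tt N92372 (iv3 F484865)) (tt N109580 (iv4 F484866)) (tt N102733 F484863) (tt N118578 F510994) (tt N118546 (iv7 F510888)))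
theorem Q113290 : ∀ i, i < 113290 → P i := stepQ 113289 Q113289 (allL N113289 (tt N116636 (iv1 F501089)) (tt N116649 (iv0 F501140)) (tt N117455 F505129) (tt N118579 (iv3 F510995)) (tt N83182 (iv4 D216542)) (tt N108710 F484867) (tt N83182 (iv6 F484869)) (tt N109573 F484868))
theorem Q113291 : ∀ i, i < 113291 → P i := stepQ 113290 Q113290 (allL N113290 (tt N99398 (iv1 F484874)) (tt N83184 (iv0 D216543)) (tt N96495 (iv2 F484873)) (tt N99102 F484872) (tt N108693 F484871) (tt N109046 F484870) (tt N122292 D225551) (tt N107302 F484875))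
theorem Q113292 : ∀ i, i < 113292 → P i := stepQ 113291 Q113291 (allL N113291 (tt N118910 (iv1 F512704)) (tt N119210 (iv0 F514380)) (tt N121435 F526357) (tt N83189 F484876) (tt N111106 F484877) (tt N108374 F484878) (tt N83188 (iv6 D216544)) (tt N121062 (iv7 F524308)))
theorem Q113293 : ∀ i, i < 113293 → P i := stepQ 113292 Q113292 (allL N113292 (tt N110302 (iv1 F484883)) (tt N110301 F484884) (tt N101802 F484879) (tt N121062 (iv3 F524305)) (tt N97373 F484880) (tt N87857 F484881) (tt N101746 F484882) (tt N83189 (iv7 D216545)))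
theorem Q113294 : ∀ i, i < 113294 → P i := stepQ 113293 Q113293 (allL N113293 (tt N107182 F484888) (tt N109314 F484890) (tt N116624 (iv2 F501029)) (tt N107186 F484885) (tt N116804 (iv4 F501925)) (tt N90861 F484886) (tt N83198 (iv6 D216546)) (tt N90860 F484887))
theorem Q113295 : ∀ i, i < 113295 → P i := stepQ 113294 Q113294 (allL N113294 (tt N107991 (iv1 F484898)) (tt N83200 (iv0 D216547)) (tt N117088 (iv2 F503312)) (tt N107957 (iv3 F484892)) (tt N116461 (iv4 F500253)) (tt N121522 (iv5 F526838)) (tt N107956 F484891) (tt N120385 (iv7 F520507)))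
theorem Q113296 : ∀ i, i < 113296 → P i := stepQ 113295 Q113295 (allL N113295 (tt N83200 (iv1 D216548)) (tt N107991 F484893) (tt N120385 (iv2 F520504)) (tt N114619 F500819) (tt N116811 (iv4 F501964)) (tt N121521 (iv5 F526833)) (tt N116576 (iv6 F500818)) (tt N117088 (iv7 F503314)))
theorem Q113297 : ∀ i, i < 113297 → P i := stepQ 113296 Q113296 (allL N113296 (tt N120385 (iv1 F520509)) (tt N117088 (iv0 F503315)) (tt N107991 F484894) (tt N83204 F484895) (tt N111587 F484896) (tt N113607 (iv5 F486279)) (tt N107989 F484897) (tt N83200 (iv7 D216549)))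
theorem Q113298 : ∀ i, i < 113298 → P i := stepQ 113297 Q113297 (allL N113297 (tt N83207 (iv1 D216550)) (tt N90750 F484899) (tt N89253 F484903) (tt N110801 F484904) (tt N89252 F484901) (tt N119956 (iv5 F518243)) (tt N104864 (iv6 F484902)) (tt N90748 F484900))
theorem Q113299 : ∀ i, i < 113299 → P i := stepQ 113298 Q113298 (allL N113298 (tt N89253 (iv1 F484909)) (tt N90748 F484910) (tt N90750 F484905) (tt N83209 F484906) (tt N89920 F484907) (tt N113098 F484908) (tt N117100 F503388) (tt N83207 (iv7 D216551)))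
theorem Q113300 : ∀ i, i < 113300 → P i := stepQ 113299 Q113299 (allL N113299 (tt N116694 (iv1 F501337)) (tt N116693 (iv0 F501333)) (tt N113375 F485243) (tt N111198 F484911) (tt N89580 F484912) (tt N83211 (iv5 D216552)) (tt N113373 (iv6 F485246)) (tt N115116 (iv7 F493567)))
theorem Q113301 : ∀ i, i < 113301 → P i := stepQ 113300 Q113300 (allL N113300 (tt N101620 F484915) (tt N117325 (iv0 F504470)) (tt N116395 (iv2 F499862)) (tt N111199 F484913) (tt N83212 F484914) (tt N120364 (iv5 F520387)) (tt N83211 (iv6 D216553)) (tt N116484 (iv7 F500386)))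
theorem Q113302 : ∀ i, i < 113302 → P i := stepQ 113301 Q113301 (allL N113301 (tt N116396 (iv1 F499873)) (tt N83212 (iv0 D216554)) (tt N108407 F484920) (tt N108058 F484916) (tt N108380 F484917) (tt N121581 (iv5 F527146)) (tt N108056 F484918) (tt N108405 (iv7 F484919)))
theorem Q113303 : ∀ i, i < 113303 → P i := stepQ 113302 Q113302 (allL N113302 (tt N83212 (iv1 D216555)) (tt N116396 F499872) (tt N108405 F484923) (tt N101184 F484924) (tt N108379 F484925) (tt N116815 (iv5 F501980)) (tt N101179 (iv6 F484922)) (tt N108407 F484921))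
theorem Q113304 : ∀ i, i < 113304 → P i := stepQ 113303 Q113303 (allL N113303 (tt N108405 (iv1 F484928)) (tt N108407 F484929) (tt N116396 (iv2 F499868)) (tt N83215 F484926) (tt N116484 (iv4 F500384)) (tt N121343 (iv5 F525870)) (tt N107000 F484927) (tt N83212 (iv7 D216556)))
theorem Q113305 : ∀ i, i < 113305 → P i := stepQ 113304 Q113304 (allL N113304 (tt N115117 F493572) (tt N108079 (iv0 F484934)) (tt N101118 F484930) (tt N83214 (iv3 D216557)) (tt N119735 (iv4 F517163)) (tt N112919 F484931) (tt N101018 F484932) (tt N86379 F484933))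
theorem Q113306 : ∀ i, i < 113306 → P i := stepQ 113305 Q113305 (allL N113305 (tt N90078 F484939) (tt N84780 F484940) (tt N83241 F484935) (tt N84812 F484941) (tt N83228 (iv4 D216558)) (tt N86472 F484936) (tt N100198 F484937) (tt N83247 F484938))
theorem Q113307 : ∀ i, i < 113307 → P i := stepQ 113306 Q113306 (allL N113306 (tt N116559 (iv1 F500747)) (tt N116561 (iv0 F500750)) (tt N112026 F484942) (tt N121553 (iv3 F527007)) (tt N83230 (iv4 D216559)) (tt N120553 (iv5 F521419)) (tt N112913 F484943) (tt N118530 (iv7 F510819)))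
theorem Q113308 : ∀ i, i < 113308 → P i := stepQ 113307 Q113307 (allL N113307 (tt N88865 F484948) (tt N88863 F484949) (tt N109593 F484944) (tt N83236 F484945) (tt N94144 F484946) (tt N83235 (iv5 D216560)) (tt N117772 (iv6 F506890)) (tt N101043 F484947))
theorem Q113309 : ∀ i, i < 113309 → P i := stepQ 113308 Q113308 (allL N113308 (tt N95945 (iv1 F484952)) (tt N85617 F484953) (tt N119116 (iv2 F513867)) (tt N114659 F491244) (tt N111802 F484950) (tt N114754 (iv5 F491680)) (tt N101033 F484951) (tt N83242 (iv7 D216561)))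
theorem Q113310 : ∀ i, i < 113310 → P i := stepQ 113309 Q113309 (allL N113309 (tt N114481 F490406) (tt N114062 (iv0 F488403)) (tt N114642 F491162) (tt N85132 F484954) (tt N83244 (iv4 D216562)) (tt N116725 (iv5 F501513)) (tt N120012 (iv6 F518556)) (tt N114641 F491155))
theorem Q113311 : ∀ i, i < 113311 → P i := stepQ 113310 Q113310 (allL N113310 (tt N101023 (iv1 F484957)) (tt N101035 F484958) (tt N101033 F484955) (tt N109561 F484956) (tt N119512 (iv4 F515993)) (tt N119996 (iv5 F518458)) (tt N119116 (iv6 F513873)) (tt N83248 (iv7 D216563)))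
theorem Q113312 : ∀ i, i < 113312 → P i := stepQ 113311 Q113311 (allL N113311 (tt N85415 (iv1 F484963)) (tt N85413 (iv0 F484964)) (tt N88871 F484959) (tt N83251 F484960) (tt N84887 F484961) (tt N116319 (iv5 F499531)) (tt N83249 (iv6 D216564)) (tt N88870 F484962))
theorem Q113313 : ∀ i, i < 113313 → P i := stepQ 113312 Q113312 (allL N113312 (tt N88884 F484969) (tt N116288 (iv0 F499379)) (tt N115791 (iv2 F496899)) (tt N83257 F484965) (tt N107253 F484966) (tt N88801 F484967) (tt N83254 (iv6 D216565)) (tt N112872 F484968))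
theorem Q113314 : ∀ i, i < 113314 → P i := stepQ 113313 Q113313 (allL N113313 (tt N95939 (iv1 F484974)) (tt N85619 F484975) (tt N101259 F484970) (tt N112872 F484971) (tt N107809 F484972) (tt N113332 (iv5 F485074)) (tt N85612 F484973) (tt N83257 (iv7 D216566)))
theorem Q113315 : ∀ i, i < 113315 → P i := stepQ 113314 Q113314 (allL N113314 (tt N105989 F484981) (tt N85616 (iv0 F484982)) (tt N90120 F484976) (tt N96712 F484977) (tt N83259 F484978) (tt N105383 F484979) (tt N83258 (iv6 D216567)) (tt N106391 F484980))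
theorem Q113316 : ∀ i, i < 113316 → P i := stepQ 113315 Q113315 (allL N113315 (tt N106148 F484986) (tt N106143 F484987) (tt N108905 F484983) (tt N83261 F484984) (tt N121051 (iv4 F524242)) (tt N83260 (iv5 D216568)) (tt N93525 F484985) (tt N115020 (iv7 F493076)))
theorem Q113317 : ∀ i, i < 113317 → P i := stepQ 113316 Q113316 (allL N113316 (tt N103030 (iv1 F484990)) (tt N96103 F484991) (tt N118339 F509790) (tt N83262 F484988) (tt N103029 F484989) (tt N115020 (iv5 F493077)) (tt N118212 (iv6 F509181)) (tt N83260 (iv7 D216569)))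
theorem Q113318 : ∀ i, i < 113318 → P i := stepQ 113317 Q113317 (allL N113317 (tt N110363 F484996) (tt N116923 F502517) (tt N90884 F484992) (tt N84739 F484993) (tt N90142 F484995) (tt N83264 (iv5 D216570)) (tt N84738 F484994) (tt N116438 (iv7 F500112)))
theorem Q113319 : ∀ i, i < 113319 → P i := stepQ 113318 Q113318 (allL N113318 (tt N110497 F485001) (tt N121180 F524981) (tt N84866 F484997) (tt N85461 F484998) (tt N83267 (iv4 D216571)) (tt N90029 (iv5 F485002)) (tt N84862 F484999) (tt N113254 F485000))
theorem Q113320 : ∀ i, i < 113320 → P i := stepQ 113319 Q113319 (allL N113319 (tt N96470 (iv1 F485008)) (tt N96469 F485009) (tt N94719 F485003) (tt N85500 F485004) (tt N91734 F485005) (tt N94714 F485006) (tt N98251 F485007) (tt N83268 (iv7 D216572)))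
theorem Q113321 : ∀ i, i < 113321 → P i := stepQ 113320 Q113320 (allL N113320 (tt N83269 (iv1 D216573)) (tt N97653 F485010) (tt N113266 F485015) (tt N99899 (iv3 F485014)) (tt N85631 F485013) (tt N97766 F485012) (tt N120009 (iv6 F518539)) (tt N113265 F485011))
theorem Q113322 : ∀ i, i < 113322 → P i := stepQ 113321 Q113321 (allL N113321 (tt N119789 (iv1 F517427)) (tt N119785 (iv0 F517408)) (tt N121960 (iv2 F529309)) (tt N83273 (iv3 D216574)) (tt N119737 (iv4 F517173)) (tt N121919 (iv5 F529059)) (tt N112580 F485016) (tt N117249 (iv7 F504114)))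
theorem Q113323 : ∀ i, i < 113323 → P i := stepQ 113322 Q113322 (allL N113322 (tt N112544 F485019) (tt N112549 F485020) (tt N109948 F485017) (tt N121919 (iv3 F529056)) (tt N116505 (iv4 F500503)) (tt N83273 (iv5 D216575)) (tt N109944 F485018) (tt N117250 (iv7 F504119)))
theorem Q113324 : ∀ i, i < 113324 → P i := stepQ 113323 Q113323 (allL N113323 (tt N106750 F485025) (tt N90339 F485026) (tt N106733 F485021) (tt N106006 F485022) (tt N121596 (iv4 F527235)) (tt N83279 (iv5 D216576)) (tt N106005 F485023) (tt N90388 F485024))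
theorem Q113325 : ∀ i, i < 113325 → P i := stepQ 113324 Q113324 (allL N113324 (tt N116838 (iv1 F502102)) (tt N116837 (iv0 F502098)) (tt N89646 F485027) (tt N113471 (iv3 F485637)) (tt N89994 F485029) (tt N83281 (iv5 D216577)) (tt N88419 F485028) (tt N116430 (iv7 F500066)))
theorem Q113326 : ∀ i, i < 113326 → P i := stepQ 113325 Q113325 (allL N113325 (tt N83282 (iv1 D216578)) (tt N85014 F485030) (tt N89638 F485034) (tt N107112 F485035) (tt N116437 (iv4 F500103)) (tt N109136 (iv5 F485032)) (tt N107111 (iv6 F485033)) (tt N89639 F485031))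
theorem Q113327 : ∀ i, i < 113327 → P i := stepQ 113326 Q113326 (allL N113326 (tt N109551 F485040) (tt N88458 F485041) (tt N103107 F485036) (tt N99528 F485037) (tt N85190 F485039) (tt N83283 (iv5 D216579)) (tt N118003 (iv6 F508028)) (tt N103102 F485038))
theorem Q113328 : ∀ i, i < 113328 → P i := stepQ 113327 Q113327 (allL N113327 (tt N88458 F485046) (tt N109551 F485047) (tt N103102 F485042) (tt N121183 F524998) (tt N103108 F485043) (tt N83284 (iv5 D216580)) (tt N85554 F485044) (tt N103107 F485045))
theorem Q113329 : ∀ i, i < 113329 → P i := stepQ 113328 Q113328 (allL N113328 (tt N85899 F485052) (tt N86206 (iv0 F485053)) (tt N86084 F485048) (tt N83286 (iv3 D216581)) (tt N83294 F485049) (tt N112832 F485050) (tt N113876 (iv6 F487579)) (tt N86082 F485051))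
theorem Q113330 : ∀ i, i < 113330 → P i := stepQ 113329 Q113329 (allL N113329 (tt N100599 F485058) (tt N98433 F485059) (tt N100600 F485054) (tt N91219 F485060) (tt N83287 (iv4 D216582)) (tt N87480 F485055) (tt N113100 F485056) (tt N100594 F485057))
theorem Q113331 : ∀ i, i < 113331 → P i := stepQ 113330 Q113330 (allL N113330 (tt N110331 F485065) (tt N115130 (iv0 F493634)) (tt N110028 F485061) (tt N85518 F485062) (tt N114831 (iv4 F492101)) (tt N83289 (iv5 D216583)) (tt N83290 F485063) (tt N92804 F485064))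
theorem Q113332 : ∀ i, i < 113332 → P i := stepQ 113331 Q113331 (allL N113331 (tt N114497 F490471) (tt N106193 (iv0 F485070)) (tt N98428 F485066) (tt N83293 (iv3 D216584)) (tt N120803 (iv4 F522806)) (tt N100518 F485067) (tt N98348 F485068) (tt N113091 F485069))
theorem Q113333 : ∀ i, i < 113333 → P i := stepQ 113332 Q113332 (allL N113332 (tt N91690 (iv1 F485076)) (tt N91686 F485077) (tt N94914 F485071) (tt N84096 F485072) (tt N84023 F485073) (tt N113313 F485074) (tt N106742 F485075) (tt N83299 (iv7 D216585)))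
theorem Q113334 : ∀ i, i < 113334 → P i := stepQ 113333 Q113333 (allL N113333 (tt N110280 F485081) (tt N108323 F485082) (tt N113146 F485078) (tt N119644 (iv3 F516675)) (tt N92814 F485079) (tt N83300 (iv5 D216586)) (tt N97908 F485083) (tt N113145 F485080))
theorem Q113335 : ∀ i, i < 113335 → P i := stepQ 113334 Q113334 (allL N113334 (tt N113441 (iv1 F485504)) (tt N105556 (iv0 F485087)) (tt N83307 F485084) (tt N105316 F485085) (tt N122009 (iv4 F529610)) (tt N105315 F485086) (tt N83304 (iv6 D216587)) (tt N113440 (iv7 F485500)))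
theorem Q113336 : ∀ i, i < 113336 → P i := stepQ 113335 Q113335 (allL N113335 (tt N119717 F517073) (tt N119935 F518121) (tt N119934 (iv2 F518117)) (tt N94979 F485088) (tt N122181 (iv4 F530631)) (tt N83305 (iv5 D216588)) (tt N99194 F485090) (tt N110767 F485089))
theorem Q113337 : ∀ i, i < 113337 → P i := stepQ 113336 Q113336 (allL N113336 (tt N121537 (iv1 F526922)) (tt N110777 (iv0 F485094)) (tt N122009 F529614) (tt N112529 F485091) (tt N83307 F485092) (tt N99222 F485093) (tt N83305 (iv6 D216589)) (tt N113432 (iv7 F485469)))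
theorem Q113338 : ∀ i, i < 113338 → P i := stepQ 113337 Q113337 (allL N113337 (tt N83307 (iv1 D216590)) (tt N113440 (iv0 F485501)) (tt N105556 F485097) (tt N117733 (iv3 F506686)) (tt N100476 F485095) (tt N105397 (iv5 F485096)) (tt N100475 F485098) (tt N113441 (iv7 F485505)))
theorem Q113339 : ∀ i, i < 113339 → P i := stepQ 113338 Q113338 (allL N113338 (tt N83309 (iv1 D216591)) (tt N109497 F485099) (tt N107195 (iv2 F485100)) (tt N121507 (iv3 F526749)) (tt N119703 (iv4 F517003)) (tt N119978 (iv5 F518360)) (tt N83425 F485101) (tt N119977 (iv7 F518356)))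
theorem Q113340 : ∀ i, i < 113340 → P i := stepQ 113339 Q113339 (allL N113339 (tt N119894 (iv1 F517899)) (tt N119881 (iv0 F517852)) (tt N117280 (iv2 F504258)) (tt N109483 F485102) (tt N83309 (iv4 D216592)) (tt N117279 F504257) (tt N109922 F485103) (tt N109514 F485104))
theorem Q113341 : ∀ i, i < 113341 → P i := stepQ 113340 Q113340 (allL N113340 (tt N120092 F519003) (tt N83312 (iv0 D216593)) (tt N89897 (iv2 F485106)) (tt N116532 (iv3 F500641)) (tt N120098 (iv4 F519030)) (tt N122293 D225552) (tt N83428 F485105) (tt N121847 (iv7 F528674)))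
theorem Q113342 : ∀ i, i < 113342 → P i := stepQ 113341 Q113341 (allL N113341 (tt N83312 (iv1 D216594)) (tt N120092 (iv0 F519002)) (tt N121847 (iv2 F528672)) (tt N89899 (iv3 F485108)) (tt N113389 (iv4 F485311)) (tt N119168 (iv5 F514161)) (tt N114633 (iv6 F491112)) (tt N89897 F485107))
theorem Q113343 : ∀ i, i < 113343 → P i := stepQ 113342 Q113342 (allL N113342 (tt N117733 F506689) (tt N117734 (iv0 F506694)) (tt N107184 F485109) (tt N88398 F485110) (tt N83313 (iv4 D216595)) (tt N120111 (iv5 F519104)) (tt N90865 F485111) (tt N113184 F485112))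
theorem Q113344 : ∀ i, i < 113344 → P i := stepQ 113343 Q113343 (allL N113343 (tt N117734 F506695) (tt N117733 (iv0 F506688)) (tt N113184 F485113) (tt N120464 (iv3 F520917)) (tt N83314 (iv4 D216596)) (tt N114962 F492785) (tt N112552 F485114) (tt N107184 F485115))
theorem Q113345 : ∀ i, i < 113345 → P i := stepQ 113344 Q113344 (allL N113344 (tt N122293 (iv1 F531239)) (tt N119168 (iv0 F514163)) (tt N119979 (iv2 F518364)) (tt N83317 (iv3 D216597)) (tt N117811 (iv4 F507085)) (tt N110400 F485116) (tt N113282 F485117) (tt N121518 (iv7 F526819)))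
theorem Q113346 : ∀ i, i < 113346 → P i := stepQ 113345 Q113345 (allL N113345 (tt N112967 (iv1 F485123)) (tt N112966 (iv0 F485122)) (tt N83332 F485118) (tt N112970 F485119) (tt N122294 D225553) (tt N83319 (iv5 D216598)) (tt N83320 F485120) (tt N112968 F485121))
theorem Q113347 : ∀ i, i < 113347 → P i := stepQ 113346 Q113346 (allL N113346 (tt N112959 F485128) (tt N112958 F485129) (tt N83338 F485125) (tt N122295 D225554) (tt N83320 (iv4 D216599)) (tt N112726 F485126) (tt N122294 (iv6 F531242)) (tt N112956 F485127))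
theorem Q113348 : ∀ i, i < 113348 → P i := stepQ 113347 Q113347 (allL N113347 (tt N99005 F485132) (tt N121976 (iv0 F529415)) (tt N121922 (iv2 F529075)) (tt N83323 (iv3 D216600)) (tt N99138 F485130) (tt N105326 F485131) (tt N121875 (iv6 F528849)) (tt N121709 (iv7 F527888)))
theorem Q113349 : ∀ i, i < 113349 → P i := stepQ 113348 Q113348 (allL N113348 (tt N86779 F485137) (tt N113162 F485138) (tt N106904 F485133) (tt N83326 F485134) (tt N89863 F485136) (tt N83325 (iv5 D216601)) (tt N114879 (iv6 F492303)) (tt N112915 F485135))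
theorem Q113350 : ∀ i, i < 113350 → P i := stepQ 113349 Q113349 (allL N113349 (tt N116628 F501046) (tt N119928 (iv0 F518079)) (tt N107539 F485143) (tt N83327 (iv3 D216602)) (tt N91129 F485139) (tt N98864 F485140) (tt N107531 F485141) (tt N107537 F485142))
theorem Q113351 : ∀ i, i < 113351 → P i := stepQ 113350 Q113350 (allL N113350 (tt N121981 (iv1 F529444)) (tt N83328 (iv0 D216603)) (tt N117373 (iv2 F504715)) (tt N101459 F485145) (tt N112546 F485147) (tt N101644 F485144) (tt N101354 (iv6 F485146)) (tt N117375 (iv7 F504726)))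
theorem Q113352 : ∀ i, i < 113352 → P i := stepQ 113351 Q113351 (allL N113351 (tt N83328 (iv1 D216604)) (tt N121981 (iv0 F529442)) (tt N117375 (iv2 F504724)) (tt N122296 D225555) (tt N112547 (iv4 F485148)) (tt N121385 (iv5 F526074)) (tt N119821 (iv6 F517545)) (tt N117373 (iv7 F504717)))
theorem Q113353 : ∀ i, i < 113353 → P i := stepQ 113352 Q113352 (allL N113352 (tt N117373 F504719) (tt N117375 F504728) (tt N83328 (iv2 D216605)) (tt N121585 (iv3 F527168)) (tt N83353 F485149) (tt N121205 (iv5 F525120)) (tt N90875 F485150) (tt N121981 (iv7 F529441)))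
theorem Q113354 : ∀ i, i < 113354 → P i := stepQ 113353 Q113353 (allL N113353 (tt N113404 (iv1 F485347)) (tt N83329 (iv0 D216606)) (tt N113403 F498561) (tt N120390 (iv3 F520536)) (tt N91139 F485151) (tt N120471 (iv5 F520953)) (tt N117383 (iv6 F504765)) (tt N113402 F498560))
theorem Q113355 : ∀ i, i < 113355 → P i := stepQ 113354 Q113354 (allL N113354 (tt N83329 (iv1 D216607)) (tt N113404 F485349) (tt N113402 F498559) (tt N98954 F485153) (tt N113539 (iv4 F485939)) (tt N122297 D225556) (tt N98974 (iv6 F485152)) (tt N113403 (iv7 F498562)))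
theorem Q113356 : ∀ i, i < 113356 → P i := stepQ 113355 Q113355 (allL N113355 (tt N110009 F485157) (tt N122298 D225557) (tt N107554 F485154) (tt N90882 F485155) (tt N113274 (iv4 F485158)) (tt N83329 (iv5 D216608)) (tt N98869 F485156) (tt N113405 (iv7 F485352)))
theorem Q113357 : ∀ i, i < 113357 → P i := stepQ 113356 Q113356 (allL N113356 (tt N121116 F524588) (tt N116523 (iv0 F500601)) (tt N113415 (iv2 F485383)) (tt N113396 (iv3 F500473)) (tt N83330 (iv4 D216609)) (tt N113395 F500474) (tt N121871 (iv6 F528826)) (tt N113412 (iv7 F485375)))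
theorem Q113358 : ∀ i, i < 113358 → P i := stepQ 113357 Q113357 (allL N113357 (tt N111341 F485163) (tt N122283 F531171) (tt N99922 F485160) (tt N83331 (iv3 D216610)) (tt N99911 (iv4 F485161)) (tt N100966 F485162) (tt N116433 (iv6 F500084)) (tt N113414 (iv7 F485382)))
theorem Q113359 : ∀ i, i < 113359 → P i := stepQ 113358 Q113358 (allL N113358 (tt N116523 (iv1 F500602)) (tt N121116 (iv0 F524587)) (tt N113412 (iv2 F485373)) (tt N121870 (iv3 F528816)) (tt N83331 (iv4 D216611)) (tt N122299 D225558) (tt N121360 (iv6 F525959)) (tt N113415 (iv7 F485384)))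
theorem Q113360 : ∀ i, i < 113360 → P i := stepQ 113359 Q113359 (allL N113359 (tt N112968 (iv1 F485166)) (tt N83332 (iv0 D216612)) (tt N112967 (iv2 F485167)) (tt N122300 D225559) (tt N121564 (iv4 F527060)) (tt N98456 F485165) (tt N98431 (iv6 F485168)) (tt N112966 (iv7 F485169)))
theorem Q113361 : ∀ i, i < 113361 → P i := stepQ 113360 Q113360 (allL N113360 (tt N83332 (iv1 D216613)) (tt N112968 F485170) (tt N112966 (iv2 F485172)) (tt N120288 (iv3 F520044)) (tt N122301 D225560) (tt N113194 (iv5 F485173)) (tt N121088 (iv6 F524454)) (tt N112967 F485171))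
theorem Q113362 : ∀ i, i < 113362 → P i := stepQ 113361 Q113361 (allL N113361 (tt N122302 D225561) (tt N122303 D225562) (tt N122294 (iv2 F531240)) (tt N83338 F485174) (tt N83332 (iv4 D216614)) (tt N96252 (iv5 F485177)) (tt N83338 F485175) (tt N112960 F485176))
theorem Q113363 : ∀ i, i < 113363 → P i := stepQ 113362 Q113362 (allL N113362 (tt N122304 D225563) (tt N116527 (iv0 F500616)) (tt N112913 F485178) (tt N92339 F485179) (tt N83336 (iv4 D216615)) (tt N92336 F485182) (tt N112026 F485180) (tt N112925 F485181))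
theorem Q113364 : ∀ i, i < 113364 → P i := stepQ 113363 Q113363 (allL N113363 (tt N111296 (iv1 F485186)) (tt N111290 F485187) (tt N114734 (iv2 F491578)) (tt N83337 (iv3 D216616)) (tt N114682 (iv4 F491345)) (tt N84709 F485183) (tt N108417 (iv6 F485185)) (tt N88805 F485184))
theorem Q113365 : ∀ i, i < 113365 → P i := stepQ 113364 Q113364 (allL N113364 (tt N116527 (iv1 F500617)) (tt N122304 F531301) (tt N112925 F485188) (tt N121472 F526568) (tt N83337 (iv4 D216617)) (tt N118487 (iv5 F510637)) (tt N118468 F510534) (tt N112913 F485189))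
theorem Q113366 : ∀ i, i < 113366 → P i := stepQ 113365 Q113365 (allL N113365 (tt N110333 (iv1 F485195)) (tt N101283 (iv0 F485196)) (tt N112926 F485190) (tt N108417 F485191) (tt N118468 (iv4 F510530)) (tt N101028 F485192) (tt N83337 (iv6 D216618)) (tt N101027 F485193))
theorem Q113367 : ∀ i, i < 113367 → P i := stepQ 113366 Q113366 (allL N113366 (tt N83338 (iv1 D216619)) (tt N112956 F485197) (tt N112958 (iv2 F485199)) (tt N122246 (iv3 F530989)) (tt N113728 (iv4 F486870)) (tt N114877 (iv5 F492293)) (tt N94308 F485200) (tt N112959 F485198))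
theorem Q113368 : ∀ i, i < 113368 → P i := stepQ 113367 Q113367 (allL N113367 (tt N121430 F526329) (tt N121848 (iv0 F528681)) (tt N112726 F485201) (tt N96252 F485202) (tt N101825 F485205) (tt N83338 (iv5 D216620)) (tt N96250 F485203) (tt N110540 F485204))
theorem Q113369 : ∀ i, i < 113369 → P i := stepQ 113368 Q113368 (allL N113368 (tt N83339 (iv1 D216621)) (tt N113369 F485215) (tt N107027 (iv2 F485209)) (tt N121766 (iv3 F528185)) (tt N88385 F485207) (tt N107006 F485208) (tt N121924 (iv6 F529092)) (tt N100260 F485206))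
theorem Q113370 : ∀ i, i < 113370 → P i := stepQ 113369 Q113369 (allL N113369 (tt N113368 (iv1 F485215)) (tt N111338 F485216) (tt N90883 F485210) (tt N83344 F485211) (tt N84738 F485212) (tt N113161 F485213) (tt N90142 F485214) (tt N83340 (iv7 D216622)))
theorem Q113371 : ∀ i, i < 113371 → P i := stepQ 113370 Q113370 (allL N113370 (tt N110061 (iv1 F485222)) (tt N83342 (iv0 D216623)) (tt N100436 (iv2 F485220)) (tt N114637 (iv3 F491131)) (tt N83488 F485218) (tt N91171 F485217) (tt N83493 F485219) (tt N101739 F485221))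
theorem Q113372 : ∀ i, i < 113372 → P i := stepQ 113371 Q113371 (allL N113371 (tt N101739 (iv1 F485228)) (tt N100436 F485229) (tt N110061 F485223) (tt N84491 F485224) (tt N83344 F485225) (tt N84474 F485226) (tt N106947 F485227) (tt N83342 (iv7 D216624)))
theorem Q113373 : ∀ i, i < 113373 → P i := stepQ 113372 Q113372 (allL N113372 (tt N83345 (iv1 D216625)) (tt N115407 F495042) (tt N115406 F495034) (tt N112548 (iv3 F485233)) (tt N99921 (iv4 F485231)) (tt N83445 F485232) (tt N116715 (iv6 F501460)) (tt N111345 F485230))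
theorem Q113374 : ∀ i, i < 113374 → P i := stepQ 113373 Q113373 (allL N113373 (tt N111345 (iv1 F485241)) (tt N115406 F495035) (tt N83345 (iv2 D216626)) (tt N115756 (iv3 F496690)) (tt N116695 (iv4 F501346)) (tt N100969 F485240) (tt N113299 F485246) (tt N115407 (iv7 F495040)))
theorem Q113375 : ∀ i, i < 113375 → P i := stepQ 113374 Q113374 (allL N113374 (tt N100950 F485237) (tt N100842 F485238) (tt N100969 (iv2 F485239)) (tt N83346 F485234) (tt N110321 F485236) (tt N83345 (iv5 D216627)) (tt N116295 (iv6 F499422)) (tt N100968 F485235))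
theorem Q113376 : ∀ i, i < 113376 → P i := stepQ 113375 Q113375 (allL N113375 (tt N116428 (iv1 F500056)) (tt N116434 (iv0 F500088)) (tt N113299 (iv2 F485243)) (tt N83347 F485242) (tt N115116 (iv4 F493568)) (tt N89026 F485245) (tt N83345 (iv6 D216628)) (tt N89580 (iv7 F485244)))
theorem Q113377 : ∀ i, i < 113377 → P i := stepQ 113376 Q113376 (allL N113376 (tt N83347 (iv1 D216629)) (tt N106947 F485247) (tt N102674 F485251) (tt N119781 F517385) (tt N83493 F485249) (tt N102673 F485252) (tt N83488 (iv6 F485250)) (tt N110401 F485248))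
theorem Q113378 : ∀ i, i < 113378 → P i := stepQ 113377 Q113377 (allL N113377 (tt N105977 F485258) (tt N105974 F485259) (tt N105976 F485253) (tt N89026 F485254) (tt N89028 F485257) (tt N83347 (iv5 D216630)) (tt N106950 F485255) (tt N89579 F485256))
theorem Q113379 : ∀ i, i < 113379 → P i := stepQ 113378 Q113378 (allL N113378 (tt N91138 F485264) (tt N84728 F485266) (tt N90819 F485260) (tt N91150 F485261) (tt N83348 (iv4 D216631)) (tt N109329 F485265) (tt N110349 F485262) (tt N90821 F485263))
theorem Q113380 : ∀ i, i < 113380 → P i := stepQ 113379 Q113379 (allL N113379 (tt N83349 (iv1 D216632)) (tt N90818 (iv0 F485271)) (tt N113172 F485269) (tt N121864 (iv3 F528780)) (tt N100265 F485270) (tt N122235 (iv5 F530926)) (tt N100220 (iv6 F485268)) (tt N88388 F485267))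
theorem Q113381 : ∀ i, i < 113381 → P i := stepQ 113380 Q113380 (allL N113380 (tt N88388 (iv1 F485276)) (tt N113172 F485275) (tt N83349 (iv2 D216633)) (tt N88408 F485272) (tt N110250 F485277) (tt N122119 (iv5 F530283)) (tt N100255 F485273) (tt N90818 F485274))
theorem Q113382 : ∀ i, i < 113382 → P i := stepQ 113381 Q113381 (allL N113381 (tt N110381 F485283) (tt N110380 (iv0 F485284)) (tt N110250 F485278) (tt N110384 F485279) (tt N83349 (iv4 D216634)) (tt N91060 (iv5 F485282)) (tt N111146 F485280) (tt N110382 F485281))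
theorem Q113383 : ∀ i, i < 113383 → P i := stepQ 113382 Q113382 (allL N113382 (tt N121864 (iv1 F528783)) (tt N117443 (iv0 F505055)) (tt N117381 (iv2 F504753)) (tt N83351 (iv3 D216635)) (tt N113524 F485899) (tt N120065 (iv5 F518856)) (tt N101350 F485285) (tt N121536 (iv7 F526915)))
theorem Q113384 : ∀ i, i < 113384 → P i := stepQ 113383 Q113383 (allL N113383 (tt N121350 (iv1 F525914)) (tt N91122 (iv0 F485288)) (tt N120417 (iv2 F520667)) (tt N119810 F517505) (tt N83351 (iv4 D216636)) (tt N101624 F485287) (tt N101351 F485286) (tt N121696 (iv7 F527802)))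
theorem Q113385 : ∀ i, i < 113385 → P i := stepQ 113384 Q113384 (allL N113384 (tt N100581 F485292) (tt N84331 (iv0 F485293)) (tt N100891 F485289) (tt N120065 (iv3 F518854)) (tt N120290 F520054) (tt N83351 (iv5 D216637)) (tt N101278 F485290) (tt N100890 F485291))
theorem Q113386 : ∀ i, i < 113386 → P i := stepQ 113385 Q113385 (allL N113385 (tt N89893 F485298) (tt N90812 F485299) (tt N90810 F485296) (tt N83352 (iv3 D216638)) (tt N88735 (iv4 F485295)) (tt N116269 (iv5 F499283)) (tt N106576 F485297) (tt N88734 F485294))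
theorem Q113387 : ∀ i, i < 113387 → P i := stepQ 113386 Q113386 (allL N113386 (tt N91122 F485301) (tt N121350 (iv0 F525913)) (tt N121696 (iv2 F527800)) (tt N121708 (iv3 F527879)) (tt N83352 (iv4 D216639)) (tt N119857 (iv5 F517726)) (tt N121377 (iv6 F526032)) (tt N120417 F520673))
theorem Q113388 : ∀ i, i < 113388 → P i := stepQ 113387 Q113387 (allL N113387 (tt N84331 F485304) (tt N100581 (iv0 F485305)) (tt N100890 F485302) (tt N116269 (iv3 F499288)) (tt N120289 (iv4 F520046)) (tt N83352 (iv5 D216640)) (tt N120535 (iv6 F521314)) (tt N100891 F485303))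
theorem Q113389 : ∀ i, i < 113389 → P i := stepQ 113388 Q113388 (allL N113388 (tt N107331 F485308) (tt N105314 (iv0 F485310)) (tt N120420 (iv2 F520684)) (tt N106576 F485306) (tt N121377 (iv4 F526031)) (tt N111208 (iv5 F485309)) (tt N83352 (iv6 D216641)) (tt N101353 F485307))
theorem Q113390 : ∀ i, i < 113390 → P i := stepQ 113389 Q113389 (allL N113389 (tt N110721 F485313) (tt N119111 (iv0 F513845)) (tt N122305 D225564) (tt N83356 (iv3 D216642)) (tt N113341 F485311) (tt N109954 (iv5 F485314)) (tt N120218 (iv6 F519659)) (tt N109953 F485312))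
theorem Q113391 : ∀ i, i < 113391 → P i := stepQ 113390 Q113390 (allL N113390 (tt N112549 F485317) (tt N112544 F485318) (tt N117250 (iv2 F504116)) (tt N109954 F485315) (tt N116504 (iv4 F500492)) (tt N83356 (iv5 D216643)) (tt N119882 (iv6 F517854)) (tt N109948 F485316))
theorem Q113392 : ∀ i, i < 113392 → P i := stepQ 113391 Q113391 (allL N113391 (tt N112618 (iv1 F485321)) (tt N112615 (iv0 F485322)) (tt N117251 (iv2 F504121)) (tt N120218 (iv3 F519657)) (tt N83357 F485319) (tt N119755 (iv5 F517259)) (tt N83356 (iv6 D216644)) (tt N112579 F485320))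
theorem Q113393 : ∀ i, i < 113393 → P i := stepQ 113392 Q113392 (allL N113392 (tt N119816 F517524) (tt N122306 D225565) (tt N122307 D225566) (tt N83358 (iv3 D216645)) (tt N98878 F485323) (tt N109510 F485324) (tt N109982 (iv6 F485325)) (tt N117252 (iv7 F504125)))
theorem Q113394 : ∀ i, i < 113394 → P i := stepQ 113393 Q113393 (allL N113393 (tt N120475 (iv1 F520971)) (tt N120263 (iv0 F519891)) (tt N83369 F485326) (tt N109982 F485327) (tt N83359 F485328) (tt N114798 (iv5 F491930)) (tt N83358 (iv6 D216646)) (tt N120004 (iv7 F518505)))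
theorem Q113395 : ∀ i, i < 113395 → P i := stepQ 113394 Q113394 (allL N113394 (tt N122156 (iv1 F530479)) (tt N121858 (iv0 F528745)) (tt N117258 (iv2 F504144)) (tt N117368 F504698) (tt N116501 (iv4 F500477)) (tt N83361 (iv5 D216647)) (tt N122308 D225567) (tt N117255 (iv7 F504132)))
theorem Q113396 : ∀ i, i < 113396 → P i := stepQ 113395 Q113395 (allL N113395 (tt N121173 F524938) (tt N122309 D225568) (tt N122310 D225569) (tt N83363 (iv3 D216648)) (tt N116600 F500926) (tt N113356 (iv5 F500474)) (tt N116602 (iv6 F500930)) (tt N117257 (iv7 F504142)))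
theorem Q113397 : ∀ i, i < 113397 → P i := stepQ 113396 Q113396 (allL N113396 (tt N121858 F528746) (tt N122156 (iv0 F530478)) (tt N117255 (iv2 F504131)) (tt N113356 F500473) (tt N116500 (iv4 F500471)) (tt N83363 (iv5 D216649)) (tt N117255 (iv6 F504136)) (tt N117258 (iv7 F504147)))
theorem Q113398 : ∀ i, i < 113398 → P i := stepQ 113397 Q113397 (allL N113397 (tt N105300 (iv1 F485331)) (tt N105299 (iv0 F485330)) (tt N117256 (iv2 F504137)) (tt N116602 (iv3 F500929)) (tt N83364 F485329) (tt N117256 (iv5 F504139)) (tt N83363 (iv6 D216650)) (tt N121121 (iv7 F524618)))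
theorem Q113399 : ∀ i, i < 113399 → P i := stepQ 113398 Q113398 (allL N113398 (tt N105668 (iv1 F485333)) (tt N105665 (iv0 F485334)) (tt N121061 (iv2 F524297)) (tt N83365 (iv3 D216651)) (tt N105657 F485332) (tt N121061 (iv5 F524299)) (tt N120459 F520899) (tt N116187 (iv7 F498914)))
theorem Q113400 : ∀ i, i < 113400 → P i := stepQ 113399 Q113399 (allL N113399 (tt N112560 F485335) (tt N112558 F485336) (tt N113434 F485481) (tt N121061 (iv3 F524298)) (tt N116497 (iv4 F500450)) (tt N83365 (iv5 D216652)) (tt N122200 (iv6 F530733)) (tt N113433 F485473))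
theorem Q113401 : ∀ i, i < 113401 → P i := stepQ 113400 Q113400 (allL N113400 (tt N112558 F485337) (tt N112560 F485339) (tt N113433 F485472) (tt N83366 (iv3 D216653)) (tt N113477 (iv4 F485669)) (tt N83366 (iv5 F485338)) (tt N113433 (iv6 F485475)) (tt N113434 (iv7 F485477)))
theorem Q113402 : ∀ i, i < 113402 → P i := stepQ 113401 Q113401 (allL N113401 (tt N105665 F485341) (tt N105668 (iv0 F485342)) (tt N116187 (iv2 F498911)) (tt N113433 F485476) (tt N91118 F485340) (tt N116187 (iv5 F498915)) (tt N83366 (iv6 D216654)) (tt N121061 (iv7 F524301)))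
theorem Q113403 : ∀ i, i < 113403 → P i := stepQ 113402 Q113402 (allL N113402 (tt N110707 (iv1 F485343)) (tt N83367 (iv0 D216655)) (tt N113354 (iv2 F498559)) (tt N121800 F528398) (tt N116117 F498558) (tt N122311 D225570) (tt N119814 (iv6 F517517)) (tt N113353 (iv7 F498560)))
theorem Q113404 : ∀ i, i < 113404 → P i := stepQ 113403 Q113403 (allL N113403 (tt N83367 (iv1 D216656)) (tt N110707 F485348) (tt N113353 (iv2 F498561)) (tt N119797 (iv3 F517458)) (tt N116524 (iv4 F500603)) (tt N122312 D225571) (tt N120216 F519649) (tt N113354 F498562))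
theorem Q113405 : ∀ i, i < 113405 → P i := stepQ 113404 Q113404 (allL N113404 (tt N113354 (iv1 F485349)) (tt N113353 F485347) (tt N83367 (iv2 D216657)) (tt N122307 (iv3 F531316)) (tt N83378 F485344) (tt N121543 (iv5 F526951)) (tt N110564 F485345) (tt N110707 F485346))
theorem Q113406 : ∀ i, i < 113406 → P i := stepQ 113405 Q113405 (allL N113405 (tt N118774 F511999) (tt N121539 (iv0 F526927)) (tt N121543 (iv2 F526949)) (tt N83368 F485350) (tt N120092 (iv4 F518999)) (tt N83367 (iv5 D216658)) (tt N112196 F485351) (tt N113355 F485352))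
theorem Q113407 : ∀ i, i < 113407 → P i := stepQ 113406 Q113406 (allL N113406 (tt N122313 D225572) (tt N119980 (iv0 F518368)) (tt N117296 (iv2 F504334)) (tt N112196 F485353) (tt N116865 F502242) (tt N112195 F485354) (tt N83368 (iv6 D216659)) (tt N112609 F485355))
theorem Q113408 : ∀ i, i < 113408 → P i := stepQ 113407 Q113407 (allL N113407 (tt N120004 (iv1 F518506)) (tt N83369 (iv0 D216660)) (tt N120475 (iv2 F520966)) (tt N109833 (iv3 F485359)) (tt N107190 F485356) (tt N109832 (iv5 F485358)) (tt N107189 (iv6 F485357)) (tt N120263 (iv7 F519889)))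
theorem Q113409 : ∀ i, i < 113409 → P i := stepQ 113408 Q113408 (allL N113408 (tt N120263 (iv1 F519892)) (tt N120475 F520970) (tt N120004 (iv2 F518502)) (tt N99168 F485360) (tt N83372 F485361) (tt N99167 F485362) (tt N110710 F485363) (tt N83369 (iv7 D216661)))
theorem Q113410 : ∀ i, i < 113410 → P i := stepQ 113409 Q113409 (allL N113409 (tt N120178 (iv1 F519455)) (tt N121789 (iv0 F528328)) (tt N121781 (iv2 F528273)) (tt N83370 (iv3 D216662)) (tt N121987 (iv4 F529471)) (tt N104704 F485364) (tt N119092 (iv6 F513750)) (tt N120254 (iv7 F519836)))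
theorem Q113411 : ∀ i, i < 113411 → P i := stepQ 113410 Q113410 (allL N113410 (tt N120228 (iv1 F519709)) (tt N109972 F485367) (tt N120229 (iv2 F519716)) (tt N93515 F485368) (tt N83370 (iv4 D216663)) (tt N93506 F485365) (tt N119093 (iv6 F513754)) (tt N93505 F485366))
theorem Q113412 : ∀ i, i < 113412 → P i := stepQ 113411 Q113411 (allL N113411 (tt N86319 F485372) (tt N113563 (iv0 F486045)) (tt N84058 F485369) (tt N83374 (iv3 D216664)) (tt N114828 (iv4 F492096)) (tt N83823 F485370) (tt N120105 F519072) (tt N88444 F485371))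
theorem Q113413 : ∀ i, i < 113413 → P i := stepQ 113412 Q113412 (allL N113412 (tt N110700 (iv1 F485386)) (tt N120230 F519721) (tt N113358 F485373) (tt N117258 (iv3 F504145)) (tt N83376 (iv4 D216665)) (tt N117257 F504143) (tt N106618 F485374) (tt N113356 F485375))
theorem Q113414 : ∀ i, i < 113414 → P i := stepQ 113413 Q113413 (allL N113413 (tt N112948 (iv1 F485381)) (tt N110181 (iv0 F485379)) (tt N112947 F485376) (tt N106213 F485377) (tt N122314 D225573) (tt N83376 (iv5 D216666)) (tt N106211 (iv6 F485380)) (tt N112946 F485378))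
theorem Q113415 : ∀ i, i < 113415 → P i := stepQ 113414 Q113414 (allL N113414 (tt N120084 (iv1 F518964)) (tt N113167 F501997) (tt N120085 (iv2 F518968)) (tt N83377 (iv3 D216667)) (tt N120080 (iv4 F518942)) (tt N116818 (iv5 F501995)) (tt N120080 (iv6 F518944)) (tt N113357 F485382))
theorem Q113416 : ∀ i, i < 113416 → P i := stepQ 113415 Q113415 (allL N113415 (tt N120230 (iv1 F519722)) (tt N110700 (iv0 F485385)) (tt N113356 F485383) (tt N117367 (iv3 F504694)) (tt N83377 (iv4 D216668)) (tt N122310 (iv5 F531337)) (tt N117367 F504696) (tt N113358 F485384))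
theorem Q113417 : ∀ i, i < 113417 → P i := stepQ 113416 Q113416 (allL N113416 (tt N110181 F485389) (tt N112948 (iv0 F485390)) (tt N112946 F485387) (tt N116818 (iv3 F501996)) (tt N118533 (iv4 F510827)) (tt N83377 (iv5 D216669)) (tt N118532 F510826) (tt N112947 F485388))
theorem Q113418 : ∀ i, i < 113418 → P i := stepQ 113417 Q113417 (allL N113417 (tt N109968 F485395) (tt N113191 F485397) (tt N83379 F485391) (tt N101456 F485392) (tt N110564 F485393) (tt N110496 (iv5 F485396)) (tt N83378 (iv6 D216670)) (tt N113189 F485394))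
theorem Q113419 : ∀ i, i < 113419 → P i := stepQ 113418 Q113418 (allL N113418 (tt N113189 (iv1 F485402)) (tt N83379 (iv0 D216671)) (tt N109968 (iv2 F485401)) (tt N90830 (iv3 F485404)) (tt N109966 F485399) (tt N109793 F485398) (tt N100905 F485400) (tt N113191 F485403))
theorem Q113420 : ∀ i, i < 113420 → P i := stepQ 113419 Q113419 (allL N113419 (tt N106634 F485409) (tt N112672 (iv0 F485415)) (tt N112600 F485405) (tt N83383 (iv3 D216672)) (tt N121593 (iv4 F527217)) (tt N99101 F485406) (tt N110782 (iv6 F485412)) (tt N110984 F485408))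
theorem Q113421 : ∀ i, i < 113421 → P i := stepQ 113420 Q113420 (allL N113420 (tt N83395 (iv1 F485419)) (tt N83385 (iv0 D216673)) (tt N83392 (iv2 F485420)) (tt N119993 (iv3 F518437)) (tt N100483 F485417) (tt N110393 F485416) (tt N113194 F485418) (tt N83393 (iv7 F485421)))
theorem Q113422 : ∀ i, i < 113422 → P i := stepQ 113421 Q113421 (allL N113421 (tt N83385 (iv1 D216674)) (tt N83395 F485422) (tt N83393 F485426) (tt N116108 F498506) (tt N100286 F485427) (tt N95934 F485424) (tt N97977 (iv6 F485425)) (tt N83392 F485423))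
theorem Q113423 : ∀ i, i < 113423 → P i := stepQ 113422 Q113422 (allL N113422 (tt N83388 (iv1 D216675)) (tt N112602 F485428) (tt N112593 F485431) (tt N122313 (iv3 F531356)) (tt N107197 (iv4 F485430)) (tt N112674 (iv5 F485433)) (tt N107196 F485432) (tt N112590 F485429))
theorem Q113424 : ∀ i, i < 113424 → P i := stepQ 113423 Q113423 (allL N113423 (tt N120215 (iv1 F519639)) (tt N120214 F519637) (tt N112601 F485434) (tt N83389 F485435) (tt N90943 (iv4 F485438)) (tt N83388 (iv5 D216676)) (tt N90942 F485436) (tt N106656 F485437))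
theorem Q113425 : ∀ i, i < 113425 → P i := stepQ 113424 Q113424 (allL N113424 (tt N116109 (iv1 F498514)) (tt N116106 (iv0 F498493)) (tt N116107 (iv2 F498503)) (tt N83392 (iv3 D216677)) (tt N119881 (iv4 F517850)) (tt N121246 (iv5 F525346)) (tt N113438 (iv6 F485491)) (tt N116108 (iv7 F498505)))
theorem Q113426 : ∀ i, i < 113426 → P i := stepQ 113425 Q113425 (allL N113425 (tt N100482 F485442) (tt N100481 (iv0 F485444)) (tt N100483 F485439) (tt N119882 (iv3 F517853)) (tt N83392 (iv4 D216678)) (tt N110926 (iv5 F485443)) (tt N109954 F485440) (tt N100286 F485441))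
theorem Q113427 : ∀ i, i < 113427 → P i := stepQ 113426 Q113426 (allL N113426 (tt N90796 F485449) (tt N114778 (iv0 F491811)) (tt N110408 F485445) (tt N83397 F485446) (tt N110402 F485447) (tt N114656 (iv5 F491227)) (tt N83396 (iv6 D216679)) (tt N90845 F485448))
theorem Q113428 : ∀ i, i < 113428 → P i := stepQ 113427 Q113427 (allL N113427 (tt N110364 (iv1 F485456)) (tt N113474 F485657) (tt N83398 (iv2 D216680)) (tt N90625 F485451) (tt N83402 F485452) (tt N113987 (iv5 F488073)) (tt N90842 F485453) (tt N110407 F485454))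
theorem Q113429 : ∀ i, i < 113429 → P i := stepQ 113428 Q113428 (allL N113428 (tt N121867 (iv1 F528801)) (tt N117245 (iv0 F504093)) (tt N110794 (iv2 F485458)) (tt N83399 (iv3 D216681)) (tt N107535 F485457) (tt N122267 (iv5 F531073)) (tt N115045 F493201) (tt N122285 (iv7 F531184)))
theorem Q113430 : ∀ i, i < 113430 → P i := stepQ 113429 Q113429 (allL N113429 (tt N122179 (iv1 F530621)) (tt N90619 (iv0 F485461)) (tt N122178 F530612) (tt N83400 (iv3 D216682)) (tt N105252 (iv4 F485460)) (tt N122021 (iv5 F529683)) (tt N90839 F485459) (tt N121163 (iv7 F524876)))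
theorem Q113431 : ∀ i, i < 113431 → P i := stepQ 113430 Q113430 (allL N113430 (tt N119992 F518435) (tt N118767 F511974) (tt N117234 (iv2 F504040)) (tt N83403 F485462) (tt N108395 (iv4 F485465)) (tt N83402 (iv5 D216683)) (tt N112167 (iv6 F485464)) (tt N109320 F485463))
theorem Q113432 : ∀ i, i < 113432 → P i := stepQ 113431 Q113431 (allL N113431 (tt N120471 F520954) (tt N122297 (iv0 F531260)) (tt N121884 (iv2 F528895)) (tt N83410 F485466) (tt N121933 (iv4 F529146)) (tt N83409 (iv5 D216685)) (tt N122014 (iv6 F529640)) (tt N121879 F528870))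
theorem Q113433 : ∀ i, i < 113433 → P i := stepQ 113432 Q113432 (allL N113432 (tt N110789 F485470) (tt N122005 F529593) (tt N119916 (iv2 F518020)) (tt N83411 F485467) (tt N83418 F485468) (tt N119913 (iv5 F518005)) (tt N83409 (iv6 D216686)) (tt N113336 F485469))
theorem Q113434 : ∀ i, i < 113434 → P i := stepQ 113433 Q113433 (allL N113433 (tt N122195 (iv1 F530711)) (tt N83410 (iv0 D216687)) (tt N113400 (iv2 F485472)) (tt N113401 (iv3 F485476)) (tt N90925 (iv4 F485474)) (tt N88605 F485471) (tt N113400 F485475) (tt N113399 (iv7 F485473)))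
theorem Q113435 : ∀ i, i < 113435 → P i := stepQ 113434 Q113434 (allL N113434 (tt N83410 (iv1 D216688)) (tt N122195 (iv0 F530710)) (tt N113399 (iv2 F485481)) (tt N90881 (iv3 F485479)) (tt N90919 F485480) (tt N90881 F485478) (tt N122315 D225574) (tt N113400 F485477))
theorem Q113436 : ∀ i, i < 113436 → P i := stepQ 113435 Q113435 (allL N113435 (tt N90931 F485484) (tt N90929 F485485) (tt N109506 F485482) (tt N109935 (iv3 F485486)) (tt N83410 (iv4 D216689)) (tt N101613 F485483) (tt N109934 (iv6 F485487)) (tt N116543 (iv7 F500689)))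
theorem Q113437 : ∀ i, i < 113437 → P i := stepQ 113436 Q113436 (allL N113436 (tt N121454 (iv1 F526470)) (tt N122296 (iv0 F531255)) (tt N122170 (iv2 F530558)) (tt N122014 (iv3 F529639)) (tt N109934 F485488) (tt N119292 F514870) (tt N83410 (iv6 D216690)) (tt N119291 (iv7 F514871)))
theorem Q113438 : ∀ i, i < 113438 → P i := stepQ 113437 Q113437 (allL N113437 (tt N119294 (iv1 F514879)) (tt N119293 (iv0 F514878)) (tt N119295 (iv2 F514886)) (tt N119913 F518006) (tt N93548 F485490) (tt N83411 (iv5 D216691)) (tt N119292 (iv6 F514868)) (tt N93545 F485489))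
theorem Q113439 : ∀ i, i < 113439 → P i := stepQ 113438 Q113438 (allL N113438 (tt N90622 F498498) (tt N119912 (iv0 F518001)) (tt N122316 D225575) (tt N83415 (iv3 D216692)) (tt N110670 (iv4 F485492)) (tt N113980 F498494) (tt N113424 F485491) (tt N119616 (iv7 F516532)))
theorem Q113440 : ∀ i, i < 113440 → P i := stepQ 113439 Q113439 (allL N113439 (tt N117212 (iv1 F503931)) (tt N117213 (iv0 F503937)) (tt N117243 F504085) (tt N83416 (iv3 D216693)) (tt N113454 (iv4 F485561)) (tt N100961 F485497) (tt N119591 F516411) (tt N117244 (iv7 F504087)))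
theorem Q113441 : ∀ i, i < 113441 → P i := stepQ 113440 Q113440 (allL N113440 (tt N113337 F485501) (tt N105212 (iv0 F485503)) (tt N83418 F485498) (tt N105165 F485499) (tt N119916 (iv4 F518022)) (tt N105669 (iv5 F485502)) (tt N83417 (iv6 D216694)) (tt N113334 F485500))
theorem Q113442 : ∀ i, i < 113442 → P i := stepQ 113441 Q113441 (allL N113441 (tt N83418 (iv1 D216695)) (tt N113334 F485504) (tt N105212 F485509) (tt N121200 (iv3 F525100)) (tt N112584 (iv4 F485506)) (tt N105068 (iv5 F485507)) (tt N110226 (iv6 F485508)) (tt N113337 F485505))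
theorem Q113443 : ∀ i, i < 113443 → P i := stepQ 113442 Q113442 (allL N113442 (tt N110343 F485514) (tt N110342 (iv0 F485515)) (tt N110344 F485510) (tt N111149 F485511) (tt N113550 (iv4 F485992)) (tt N84793 F485512) (tt N83419 (iv6 D216696)) (tt N110240 F485513))
theorem Q113444 : ∀ i, i < 113444 → P i := stepQ 113443 Q113443 (allL N113443 (tt N112516 (iv1 F485518)) (tt N113176 F485517) (tt N112592 F485516) (tt N83425 (iv3 D216697)) (tt N121507 (iv4 F526750)) (tt N122270 (iv5 F531088)) (tt N121507 (iv6 F526752)) (tt N121506 F526747))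
theorem Q113445 : ∀ i, i < 113445 → P i := stepQ 113444 Q113444 (allL N113444 (tt N117295 F504332) (tt N119694 F516961) (tt N83427 F485519) (tt N112606 F485520) (tt N83426 (iv4 D216698)) (tt N117289 F504307) (tt N109485 F485521) (tt N109929 F485522))
theorem Q113446 : ∀ i, i < 113446 → P i := stepQ 113445 Q113445 (allL N113445 (tt N116192 (iv1 F519568)) (tt N121844 (iv0 F528657)) (tt N121845 (iv2 F528658)) (tt N83428 (iv3 D216699)) (tt N121840 (iv4 F528629)) (tt N122268 (iv5 F531078)) (tt N116532 F500644) (tt N120202 (iv7 F519566)))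
theorem Q113447 : ∀ i, i < 113447 → P i := stepQ 113446 Q113446 (allL N113446 (tt N112583 F485528) (tt N83435 (iv0 F485529)) (tt N112582 F485526) (tt N83429 (iv3 D216700)) (tt N89891 F485523) (tt N88571 F485524) (tt N106583 (iv6 F485527)) (tt N89890 F485525))
theorem Q113448 : ∀ i, i < 113448 → P i := stepQ 113447 Q113447 (allL N113447 (tt N89870 F485532) (tt N121284 F525558) (tt N114631 (iv2 F491095)) (tt N106583 F485530) (tt N116623 (iv4 F501028)) (tt N110982 F485531) (tt N83429 (iv6 D216701)) (tt N114633 (iv7 F491109)))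
theorem Q113449 : ∀ i, i < 113449 → P i := stepQ 113448 Q113448 (allL N113448 (tt N121162 F524873) (tt N121777 (iv0 F528259)) (tt N83431 F485533) (tt N105286 F485534) (tt N121532 (iv4 F526892)) (tt N109918 (iv5 F485536)) (tt N83430 (iv6 D216702)) (tt N109512 F485535))
theorem Q113450 : ∀ i, i < 113450 → P i := stepQ 113449 Q113449 (allL N113449 (tt N109512 F485538) (tt N83431 (iv0 D216703)) (tt N121162 (iv2 F524868)) (tt N122004 (iv3 F529582)) (tt N121458 (iv4 F526487)) (tt N106081 F485537) (tt N121776 F528254) (tt N121777 (iv7 F528258)))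
theorem Q113451 : ∀ i, i < 113451 → P i := stepQ 113450 Q113450 (allL N113450 (tt N83431 (iv1 D216704)) (tt N109512 F485539) (tt N121777 (iv2 F528255)) (tt N105252 (iv3 F485540)) (tt N121459 F526492) (tt N105250 F485541) (tt N114024 (iv6 F488244)) (tt N121162 (iv7 F524871)))
theorem Q113452 : ∀ i, i < 113452 → P i := stepQ 113451 Q113451 (allL N113451 (tt N121777 F528260) (tt N121162 (iv0 F524872)) (tt N109512 F485547) (tt N83432 F485548) (tt N121535 (iv4 F526909)) (tt N110276 F485549) (tt N109509 F485550) (tt N83431 (iv7 D216705)))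
theorem Q113453 : ∀ i, i < 113453 → P i := stepQ 113452 Q113452 (allL N113452 (tt N121511 (iv1 F526777)) (tt N121519 F526826) (tt N83448 F485551) (tt N122274 (iv3 F531108)) (tt N114890 F492371) (tt N107981 F485553) (tt N83433 (iv6 D216706)) (tt N107980 F485552))
theorem Q113454 : ∀ i, i < 113454 → P i := stepQ 113453 Q113453 (allL N113453 (tt N83435 (iv1 D216707)) (tt N112583 F485554) (tt N89890 F485559) (tt N121845 (iv3 F528659)) (tt N84048 F485556) (tt N88572 F485557) (tt N89086 (iv6 F485558)) (tt N112582 F485555))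
theorem Q113455 : ∀ i, i < 113455 → P i := stepQ 113454 Q113454 (allL N113454 (tt N83441 (iv1 F485562)) (tt N83436 (iv0 D216708)) (tt N108075 F485564) (tt N101294 (iv3 F485563)) (tt N113439 F485561) (tt N99544 F485560) (tt N121583 (iv6 F527157)) (tt N111343 F485565))
theorem Q113456 : ∀ i, i < 113456 → P i := stepQ 113455 Q113455 (allL N113455 (tt N83436 (iv1 D216709)) (tt N83441 F485566) (tt N111343 F485570) (tt N100427 (iv3 F485569)) (tt N120359 (iv4 F520363)) (tt N100426 F485568) (tt N117734 (iv6 F506692)) (tt N108075 F485567))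
theorem Q113457 : ∀ i, i < 113457 → P i := stepQ 113456 Q113456 (allL N113456 (tt N90602 (iv1 F485576)) (tt N90631 F485577) (tt N83442 F485571) (tt N113207 F485572) (tt N112711 F485573) (tt N98565 F485574) (tt N83439 (iv6 D216710)) (tt N90630 F485575))
theorem Q113458 : ∀ i, i < 113458 → P i := stepQ 113457 Q113457 (allL N113457 (tt N112587 (iv1 F485582)) (tt N112586 F485581) (tt N112589 F485578) (tt N119860 (iv3 F517744)) (tt N83440 (iv4 D216711)) (tt N119858 (iv5 F517733)) (tt N105302 F485579) (tt N112525 F485580))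
theorem Q113459 : ∀ i, i < 113459 → P i := stepQ 113458 Q113458 (allL N113458 (tt N89355 F485586) (tt N89356 (iv0 F485587)) (tt N89354 F485583) (tt N83441 (iv3 D216712)) (tt N119860 (iv4 F517745)) (tt N101178 F485584) (tt N118773 F511993) (tt N89353 F485585))
theorem Q113460 : ∀ i, i < 113460 → P i := stepQ 113459 Q113459 (allL N113459 (tt N113783 (iv1 F487094)) (tt N91082 (iv0 F485593)) (tt N98565 F485588) (tt N101140 F485589) (tt N92225 F485590) (tt N83442 (iv5 D216713)) (tt N104104 F485591) (tt N101138 F485592))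
theorem Q113461 : ∀ i, i < 113461 → P i := stepQ 113460 Q113460 (allL N113460 (tt N121527 (iv1 F526859)) (tt N113495 (iv0 F485766)) (tt N121528 (iv2 F526865)) (tt N121334 (iv3 F525828)) (tt N83447 F485594) (tt N108345 F485595) (tt N83446 (iv6 D216714)) (tt N119981 (iv7 F518371)))
theorem Q113462 : ∀ i, i < 113462 → P i := stepQ 113461 Q113461 (allL N113461 (tt N107980 (iv1 F485597)) (tt N83448 (iv0 D216715)) (tt N121511 (iv2 F526772)) (tt N89810 (iv3 F485598)) (tt N120175 (iv4 F519440)) (tt N89699 F485596) (tt N116536 (iv6 F500659)) (tt N121519 (iv7 F526827)))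
theorem Q113463 : ∀ i, i < 113463 → P i := stepQ 113462 Q113462 (allL N113462 (tt N83448 (iv1 D216716)) (tt N107980 F485599) (tt N121519 F526825) (tt N108010 F485601) (tt N121576 (iv4 F527117)) (tt N89698 (iv5 F485600)) (tt N121169 (iv6 F524913)) (tt N121511 (iv7 F526775)))
theorem Q113464 : ∀ i, i < 113464 → P i := stepQ 113463 Q113463 (allL N113463 (tt N114631 (iv1 F491100)) (tt N114633 (iv0 F491110)) (tt N121284 (iv2 F525554)) (tt N83451 (iv3 D216717)) (tt N116945 (iv4 F502633)) (tt N89801 F485602) (tt N121775 F528249) (tt N89870 F485603))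
theorem Q113465 : ∀ i, i < 113465 → P i := stepQ 113464 Q113464 (allL N113464 (tt N114827 (iv1 F492093)) (tt N114826 (iv0 F492086)) (tt N121929 F529122) (tt N121775 F528248) (tt N110418 F485604) (tt N113092 F485605) (tt N83451 (iv6 D216718)) (tt N110418 F485606))
theorem Q113466 : ∀ i, i < 113466 → P i := stepQ 113465 Q113465 (allL N113465 (tt N114634 (iv1 F491113)) (tt N83452 (iv0 D216719)) (tt N101764 (iv2 F485610)) (tt N98683 F485611) (tt N110190 F485608) (tt N83492 F485607) (tt N91724 F485609) (tt N113253 F485612))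
theorem Q113467 : ∀ i, i < 113467 → P i := stepQ 113466 Q113466 (allL N113466 (tt N111360 F485615) (tt N111208 (iv0 F485616)) (tt N120212 (iv2 F519622)) (tt N83458 F485613) (tt N106654 F485614) (tt N83457 (iv5 D216720)) (tt N112612 (iv6 F485617)) (tt N120213 (iv7 F519631)))
theorem Q113468 : ∀ i, i < 113468 → P i := stepQ 113467 Q113467 (allL N113467 (tt N94658 F485620) (tt N101301 (iv0 F485621)) (tt N118643 F511304) (tt N83459 F485618) (tt N118270 (iv4 F509448)) (tt N100620 F485619) (tt N83457 (iv6 D216721)) (tt N118642 F511302))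
theorem Q113469 : ∀ i, i < 113469 → P i := stepQ 113468 Q113468 (allL N113468 (tt N91166 F485624) (tt N114717 (iv0 F491505)) (tt N107337 F485622) (tt N107459 (iv3 F485625)) (tt N83462 (iv4 D216722)) (tt N107300 F485623) (tt N90907 (iv6 F485626)) (tt N115431 (iv7 F495160)))
theorem Q113470 : ∀ i, i < 113470 → P i := stepQ 113469 Q113469 (allL N113469 (tt N117158 (iv1 F503685)) (tt N83555 (iv0 F485630)) (tt N115433 (iv2 F495170)) (tt N100221 F485627) (tt N90907 F485628) (tt N89099 F485629) (tt N83462 (iv6 D216723)) (tt N121935 (iv7 F529162)))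
theorem Q113471 : ∀ i, i < 113471 → P i := stepQ 113470 Q113470 (allL N113470 (tt N114717 (iv1 F491506)) (tt N91166 F485635) (tt N115431 (iv2 F495159)) (tt N95004 F485631) (tt N83463 (iv4 D216724)) (tt N95003 F485634) (tt N91132 F485632) (tt N107337 F485633))
theorem Q113472 : ∀ i, i < 113472 → P i := stepQ 113471 Q113471 (allL N113471 (tt N110409 (iv1 F485641)) (tt N100273 F485642) (tt N83468 F485636) (tt N113324 F485637) (tt N90845 F485638) (tt N100267 F485639) (tt N83464 (iv6 D216725)) (tt N110402 F485640))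
theorem Q113473 : ∀ i, i < 113473 → P i := stepQ 113472 Q113472 (allL N113472 (tt N114778 (iv1 F491812)) (tt N90796 (iv0 F485648)) (tt N90845 F485643) (tt N113269 F485644) (tt N83468 F485645) (tt N113268 F485646) (tt N83467 (iv6 D216726)) (tt N110408 F485647))
theorem Q113474 : ∀ i, i < 113474 → P i := stepQ 113473 Q113473 (allL N113473 (tt N83468 (iv1 D216727)) (tt N110402 F485649) (tt N100273 (iv2 F485652)) (tt N116534 F500652) (tt N116406 (iv4 F499931)) (tt N103187 F485651) (tt N90799 (iv6 F485653)) (tt N110409 F485650))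
theorem Q113475 : ∀ i, i < 113475 → P i := stepQ 113474 Q113474 (allL N113474 (tt N113427 (iv1 F485657)) (tt N83469 (iv0 D216728)) (tt N113183 (iv2 F485656)) (tt N90865 F485655) (tt N107414 F485654) (tt N121623 (iv5 F527393)) (tt N88398 (iv6 F485659)) (tt N112323 F485658))
theorem Q113476 : ∀ i, i < 113476 → P i := stepQ 113475 Q113475 (allL N113475 (tt N114826 (iv1 F492087)) (tt N114827 (iv0 F492092)) (tt N110418 F485660) (tt N106648 F485661) (tt N121929 (iv4 F529120)) (tt N113093 F485662) (tt N83472 (iv6 D216729)) (tt N121929 (iv7 F529124)))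
theorem Q113477 : ∀ i, i < 113477 → P i := stepQ 113476 Q113476 (allL N113476 (tt N84079 F485667) (tt N113500 F485796) (tt N83484 F485663) (tt N110062 F485664) (tt N83474 (iv4 D216730)) (tt N109453 F485665) (tt N116657 (iv6 F501171)) (tt N109452 F485666))
theorem Q113478 : ∀ i, i < 113478 → P i := stepQ 113477 Q113477 (allL N113477 (tt N90343 F485673) (tt N116546 (iv0 F500698)) (tt N90925 F485668) (tt N83475 (iv3 D216731)) (tt N113400 F485669) (tt N89295 F485670) (tt N90925 F485671) (tt N90919 F485672))
theorem Q113479 : ∀ i, i < 113479 → P i := stepQ 113478 Q113478 (allL N113478 (tt N88387 F485677) (tt N88390 F485678) (tt N107029 F485674) (tt N106083 F485675) (tt N83477 (iv4 D216732)) (tt N121433 (iv5 F526347)) (tt N122287 (iv6 F531197)) (tt N107030 F485676))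
theorem Q113480 : ∀ i, i < 113480 → P i := stepQ 113479 Q113479 (allL N113479 (tt N88520 F485682) (tt N88600 F485684) (tt N84351 F485679) (tt N83478 F485680) (tt N84351 F485683) (tt N83477 (iv5 D216733)) (tt N115060 (iv6 F493290)) (tt N88597 F485681))
theorem Q113481 : ∀ i, i < 113481 → P i := stepQ 113480 Q113480 (allL N113480 (tt N112514 F485687) (tt N91161 (iv0 F485688)) (tt N112576 F485685) (tt N83479 F485686) (tt N122287 (iv4 F531196)) (tt N89143 (iv5 F485689)) (tt N83477 (iv6 D216734)) (tt N122287 (iv7 F531198)))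
theorem Q113482 : ∀ i, i < 113482 → P i := stepQ 113481 Q113481 (allL N113481 (tt N83479 (iv1 D216735)) (tt N106342 F485690) (tt N100438 F485694) (tt N114625 (iv3 F491065)) (tt N121975 (iv4 F529406)) (tt N98685 F485692) (tt N100367 (iv6 F485693)) (tt N109482 F485691))
theorem Q113483 : ∀ i, i < 113483 → P i := stepQ 113482 Q113482 (allL N113482 (tt N100438 (iv1 F485699)) (tt N109482 F485700) (tt N106342 F485695) (tt N122287 (iv3 F531195)) (tt N106629 F485696) (tt N104701 F485697) (tt N106083 F485698) (tt N83479 (iv7 D216736)))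
theorem Q113484 : ∀ i, i < 113484 → P i := stepQ 113483 Q113483 (allL N113483 (tt N100051 F485705) (tt N112898 F485706) (tt N113024 F485701) (tt N100866 F485702) (tt N107377 F485704) (tt N83480 (iv5 D216737)) (tt N121103 (iv6 F524525)) (tt N107376 F485703))
theorem Q113485 : ∀ i, i < 113485 → P i := stepQ 113484 Q113484 (allL N113484 (tt N100367 F485712) (tt N100365 (iv0 F485713)) (tt N99947 F485707) (tt N100972 F485708) (tt N99185 F485709) (tt N99869 F485711) (tt N83480 (iv6 D216738)) (tt N99876 F485710))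
theorem Q113486 : ∀ i, i < 113486 → P i := stepQ 113485 Q113485 (allL N113485 (tt N112898 F485718) (tt N100051 (iv0 F485719)) (tt N107376 F485714) (tt N121694 (iv3 F527789)) (tt N107363 F485715) (tt N83481 (iv5 D216739)) (tt N106294 F485716) (tt N113024 F485717))
theorem Q113487 : ∀ i, i < 113487 → P i := stepQ 113486 Q113486 (allL N113486 (tt N99784 F485724) (tt N85517 F485725) (tt N99782 F485720) (tt N88561 F485721) (tt N83483 (iv4 D216740)) (tt N108421 F485722) (tt N122317 D225576) (tt N99783 F485723))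
theorem Q113488 : ∀ i, i < 113488 → P i := stepQ 113487 Q113487 (allL N113487 (tt N99961 F485730) (tt N99958 F485731) (tt N112996 F485726) (tt N109674 F485727) (tt N122317 (iv4 F531379)) (tt N109017 F485728) (tt N83483 (iv6 D216741)) (tt N109668 F485729))
theorem Q113489 : ∀ i, i < 113489 → P i := stepQ 113488 Q113488 (allL N113488 (tt N99874 F485737) (tt N121103 (iv0 F524527)) (tt N110145 F485732) (tt N83484 (iv3 D216742)) (tt N83496 F485733) (tt N100572 F485734) (tt N83565 F485735) (tt N112975 F485736))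
theorem Q113490 : ∀ i, i < 113490 → P i := stepQ 113489 Q113489 (allL N113489 (tt N122286 (iv1 F531193)) (tt N83538 (iv0 F485740)) (tt N106082 F485738) (tt N83488 (iv3 D216743)) (tt N121880 (iv4 F528873)) (tt N106080 F485739) (tt N119781 (iv6 F517387)) (tt N121930 (iv7 F529130)))
theorem Q113491 : ∀ i, i < 113491 → P i := stepQ 113490 Q113490 (allL N113490 (tt N113543 F485958) (tt N83491 (iv0 D216744)) (tt N110427 (iv2 F485744)) (tt N112112 F485741) (tt N114958 (iv4 F492760)) (tt N107979 F485743) (tt N110251 F485742) (tt N116743 (iv7 F501596)))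
theorem Q113492 : ∀ i, i < 113492 → P i := stepQ 113491 Q113491 (allL N113491 (tt N83491 (iv1 D216745)) (tt N113543 (iv0 F485957)) (tt N116743 (iv2 F501599)) (tt N108009 F485748) (tt N122318 D225577) (tt N107978 (iv5 F485746)) (tt N111342 (iv6 F485747)) (tt N110427 F485745))
theorem Q113493 : ∀ i, i < 113493 → P i := stepQ 113492 Q113492 (allL N113492 (tt N116743 (iv1 F501595)) (tt N110427 (iv0 F485751)) (tt N113543 (iv2 F485954)) (tt N83494 F485749) (tt N91155 F485750) (tt N114884 F492341) (tt N117392 (iv6 F504801)) (tt N83491 (iv7 D216746)))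
theorem Q113494 : ∀ i, i < 113494 → P i := stepQ 113493 Q113493 (allL N113493 (tt N112974 (iv1 F485753)) (tt N83496 (iv0 D216747)) (tt N99943 (iv2 F485754)) (tt N122319 D225578) (tt N99824 (iv4 F485756)) (tt N110922 F485752) (tt N117179 (iv6 F503780)) (tt N112973 (iv7 F485755)))
theorem Q113495 : ∀ i, i < 113495 → P i := stepQ 113494 Q113494 (allL N113494 (tt N83496 (iv1 D216748)) (tt N112974 F485757) (tt N112973 F485761) (tt N91146 F485762) (tt N99935 (iv4 F485759)) (tt N109960 (iv5 F485760)) (tt N122320 D225579) (tt N99943 F485758))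
theorem Q113496 : ∀ i, i < 113496 → P i := stepQ 113495 Q113495 (allL N113495 (tt N113460 F485766) (tt N107476 (iv0 F485767)) (tt N114394 (iv2 F489943)) (tt N83499 F485763) (tt N110534 F485764) (tt N87832 F485765) (tt N83498 (iv6 D216749)) (tt N117055 (iv7 F503152)))
theorem Q113497 : ∀ i, i < 113497 → P i := stepQ 113496 Q113496 (allL N113496 (tt N89910 F485773) (tt N89946 F485774) (tt N89885 F485769) (tt N88118 F485770) (tt N83500 (iv4 D216750)) (tt N88116 (iv5 F485775)) (tt N87053 F485771) (tt N89944 F485772))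
theorem Q113498 : ∀ i, i < 113498 → P i := stepQ 113497 Q113497 (allL N113497 (tt N83957 F485780) (tt N83698 F485781) (tt N83506 F485776) (tt N90736 F485777) (tt N106216 F485782) (tt N83505 (iv5 D216751)) (tt N109687 F485778) (tt N84429 F485779))
theorem Q113499 : ∀ i, i < 113499 → P i := stepQ 113498 Q113498 (allL N113498 (tt N83507 (iv1 D216752)) (tt N113004 F485783) (tt N110150 F485788) (tt N122321 D225580) (tt N110064 F485786) (tt N112165 F485785) (tt N92829 (iv6 F485787)) (tt N110148 F485784))
theorem Q113500 : ∀ i, i < 113500 → P i := stepQ 113499 Q113499 (allL N113499 (tt N88550 F485791) (tt N88548 F485792) (tt N110874 F485789) (tt N121910 (iv3 F529011)) (tt N115530 (iv4 F495659)) (tt N90048 F485790) (tt N83510 (iv6 D216753)) (tt N113556 (iv7 F486018)))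
theorem Q113501 : ∀ i, i < 113501 → P i := stepQ 113500 Q113500 (allL N113500 (tt N113476 (iv1 F485796)) (tt N83512 (iv0 D216754)) (tt N109098 (iv2 F485795)) (tt N114023 (iv3 F488240)) (tt N85516 F485794) (tt N99839 F485793) (tt N113541 F485946) (tt N109414 F485797))
theorem Q113502 : ∀ i, i < 113502 → P i := stepQ 113501 Q113501 (allL N113501 (tt N115137 F493668) (tt N121912 (iv0 F529027)) (tt N121795 (iv2 F528361)) (tt N112750 F485798) (tt N83513 F485799) (tt N109117 F485800) (tt N83512 (iv6 D216755)) (tt N122322 D225581))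
theorem Q113503 : ∀ i, i < 113503 → P i := stepQ 113502 Q113502 (allL N113502 (tt N112749 (iv1 F485805)) (tt N83513 (iv0 D216756)) (tt N106219 (iv2 F485803)) (tt N112771 (iv3 F485804)) (tt N120063 (iv4 F518849)) (tt N106483 F485801) (tt N105819 F485802) (tt N120950 (iv7 F523654)))
theorem Q113504 : ∀ i, i < 113504 → P i := stepQ 113503 Q113503 (allL N113503 (tt N83513 (iv1 D216757)) (tt N112749 F485806) (tt N120950 (iv2 F523651)) (tt N85137 F485810) (tt N120064 (iv4 F518852)) (tt N85136 (iv5 F485809)) (tt N105271 (iv6 F485808)) (tt N106219 F485807))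
theorem Q113505 : ∀ i, i < 113505 → P i := stepQ 113504 Q113504 (allL N113504 (tt N120950 (iv1 F523657)) (tt N106219 (iv0 F485815)) (tt N112749 F485811) (tt N83516 F485812) (tt N122322 (iv4 F531412)) (tt N98242 F485813) (tt N112894 F485814) (tt N83513 (iv7 D216758)))
theorem Q113506 : ∀ i, i < 113506 → P i := stepQ 113505 Q113505 (allL N113505 (tt N112986 F485817) (tt N114398 (iv0 F489959)) (tt N114745 (iv2 F491628)) (tt N83514 (iv3 D216759)) (tt N84308 (iv4 F485818)) (tt N118008 (iv5 F508061)) (tt N114972 (iv6 F492844)) (tt N84305 F485816))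
theorem Q113507 : ∀ i, i < 113507 → P i := stepQ 113506 Q113506 (allL N113506 (tt N110073 F485822) (tt N106506 (iv0 F485824)) (tt N110170 F485819) (tt N114972 (iv3 F492841)) (tt N105178 F485820) (tt N106498 F485823) (tt N83514 (iv6 D216760)) (tt N110169 F485821))
theorem Q113508 : ∀ i, i < 113508 → P i := stepQ 113507 Q113507 (allL N113507 (tt N85440 F485826) (tt N112770 F485827) (tt N114743 (iv2 F491616)) (tt N83515 (iv3 D216761)) (tt N116756 (iv4 F501658)) (tt N89685 F485825) (tt N105237 F485833) (tt N116298 (iv7 F499432)))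
theorem Q113509 : ∀ i, i < 113509 → P i := stepQ 113508 Q113508 (allL N113508 (tt N107083 F485830) (tt N110155 (iv0 F485831)) (tt N84304 F485828) (tt N105237 (iv3 F485832)) (tt N90357 F485829) (tt N114968 (iv5 F492817)) (tt N83515 (iv6 D216762)) (tt N114970 (iv7 F492831)))
theorem Q113510 : ∀ i, i < 113510 → P i := stepQ 113509 Q113509 (allL N113509 (tt N117646 F506196) (tt N87017 (iv0 F485838)) (tt N96605 (iv2 F485839)) (tt N83525 (iv3 D216763)) (tt N96353 F485834) (tt N86849 F485835) (tt N95528 F485836) (tt N91999 F485837))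
theorem Q113511 : ∀ i, i < 113511 → P i := stepQ 113510 Q113510 (allL N113510 (tt N91806 F485845) (tt N103400 (iv0 F485846)) (tt N103409 F485840) (tt N83526 (iv3 D216764)) (tt N103330 F485841) (tt N104196 F485842) (tt N95616 F485843) (tt N92004 F485844))
theorem Q113512 : ∀ i, i < 113512 → P i := stepQ 113511 Q113511 (allL N113511 (tt N83531 (iv1 D216766)) (tt N83546 F485847) (tt N83544 (iv2 F485849)) (tt N116528 (iv3 F500623)) (tt N121985 (iv4 F529463)) (tt N116333 (iv5 F499605)) (tt N109499 (iv6 F485848)) (tt N83543 F485850))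
theorem Q113513 : ∀ i, i < 113513 → P i := stepQ 113512 Q113512 (allL N113512 (tt N83544 (iv1 F485854)) (tt N83543 F485855) (tt N83546 F485852) (tt N117160 (iv3 F503694)) (tt N121869 (iv4 F528809)) (tt N114268 (iv5 F489310)) (tt N83551 F485853) (tt N83531 (iv7 D216767)))
theorem Q113514 : ∀ i, i < 113514 → P i := stepQ 113513 Q113513 (allL N113513 (tt N114828 (iv1 F492094)) (tt N114709 (iv0 F491463)) (tt N83548 F485856) (tt N122288 (iv3 F531202)) (tt N83532 (iv4 D216768)) (tt N122323 D225582) (tt N104702 F485857) (tt N88935 F485858))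
theorem Q113515 : ∀ i, i < 113515 → P i := stepQ 113514 Q113514 (allL N113514 (tt N110735 (iv1 F485864)) (tt N110733 (iv0 F485863)) (tt N120418 (iv2 F520674)) (tt N83534 (iv3 D216769)) (tt N109984 F485859) (tt N98871 F485860) (tt N109983 (iv6 F485862)) (tt N107557 F485861))
theorem Q113516 : ∀ i, i < 113516 → P i := stepQ 113515 Q113515 (allL N113515 (tt N100464 F485868) (tt N116936 (iv0 F502587)) (tt N107560 F485865) (tt N109983 F485866) (tt N83536 F485867) (tt N114613 (iv5 F491020)) (tt N83534 (iv6 D216770)) (tt N116516 (iv7 F500567)))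
theorem Q113517 : ∀ i, i < 113517 → P i := stepQ 113516 Q113516 (allL N113516 (tt N114635 (iv1 F491119)) (tt N83536 (iv0 D216771)) (tt N110399 (iv2 F485871)) (tt N109482 F485872) (tt N114616 (iv4 F491032)) (tt N104134 F485869) (tt N104135 F485870) (tt N114625 (iv7 F491067)))
theorem Q113518 : ∀ i, i < 113518 → P i := stepQ 113517 Q113517 (allL N113517 (tt N114625 (iv1 F491070)) (tt N110399 (iv0 F485875)) (tt N114635 (iv2 F491124)) (tt N109812 F485873) (tt N116516 (iv4 F500566)) (tt N106329 F485874) (tt N122286 (iv6 F531191)) (tt N83536 (iv7 D216772)))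
theorem Q113519 : ∀ i, i < 113519 → P i := stepQ 113518 Q113518 (allL N113518 (tt N119780 F517380) (tt N116522 F517381) (tt N107559 F485876) (tt N120417 (iv3 F520668)) (tt N83538 F485877) (tt N119846 (iv5 F517672)) (tt N83537 (iv6 D216773)) (tt N121708 (iv7 F527883)))
theorem Q113520 : ∀ i, i < 113520 → P i := stepQ 113519 Q113519 (allL N113519 (tt N83538 (iv1 D216774)) (tt N122286 F531192) (tt N121930 (iv2 F529126)) (tt N105285 F485880) (tt N122014 (iv4 F529642)) (tt N105284 (iv5 F485879)) (tt N121933 (iv6 F529148)) (tt N106082 F485878))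
theorem Q113521 : ∀ i, i < 113521 → P i := stepQ 113520 Q113520 (allL N113520 (tt N121930 F529132) (tt N106082 (iv0 F485883)) (tt N122286 (iv2 F531187)) (tt N88735 F485881) (tt N121708 (iv4 F527878)) (tt N88719 F485882) (tt N114635 F491123) (tt N83538 (iv7 D216775)))
theorem Q113522 : ∀ i, i < 113522 → P i := stepQ 113521 Q113521 (allL N113521 (tt N101465 (iv1 F485889)) (tt N101434 (iv0 F485887)) (tt N101464 F485884) (tt N83539 (iv3 D216776)) (tt N117214 (iv4 F503938)) (tt N98867 F485885) (tt N119898 (iv6 F517923)) (tt N101463 F485886))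
theorem Q113523 : ∀ i, i < 113523 → P i := stepQ 113522 Q113522 (allL N113522 (tt N114616 (iv1 F491034)) (tt N114636 (iv0 F491127)) (tt N107549 F485892) (tt N119898 F517927) (tt N114406 (iv4 F489995)) (tt N86364 F485893) (tt N83539 (iv6 D216777)) (tt N90193 (iv7 F485894)))
theorem Q113524 : ∀ i, i < 113524 → P i := stepQ 113523 Q113523 (allL N113523 (tt N121880 F528876) (tt N122014 (iv0 F529643)) (tt N107548 F485895) (tt N119923 (iv3 F518059)) (tt N117253 (iv4 F504127)) (tt N99279 F485896) (tt N83540 (iv6 D216778)) (tt N121584 (iv7 F527164)))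
theorem Q113525 : ∀ i, i < 113525 → P i := stepQ 113524 Q113524 (allL N113524 (tt N83541 (iv1 D216779)) (tt N120096 (iv0 F519023)) (tt N107531 (iv2 F485901)) (tt N112620 F505057) (tt N113382 (iv4 F485899)) (tt N107523 F485898) (tt N107539 F485900) (tt N107533 F485897))
theorem Q113526 : ∀ i, i < 113526 → P i := stepQ 113525 Q113525 (allL N113525 (tt N121988 (iv1 F529476)) (tt N121987 F529472) (tt N121869 (iv2 F528808)) (tt N83542 F485902) (tt N83546 F485903) (tt N106629 F485904) (tt N83541 (iv6 D216780)) (tt N83542 F485905))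
theorem Q113527 : ∀ i, i < 113527 → P i := stepQ 113526 Q113526 (allL N113526 (tt N121869 F528813) (tt N83542 (iv0 D216781)) (tt N121987 (iv2 F529474)) (tt N121855 (iv3 F528722)) (tt N121781 (iv4 F528278)) (tt N121854 F528719) (tt N122297 (iv6 F531258)) (tt N121988 (iv7 F529477)))
theorem Q113528 : ∀ i, i < 113528 → P i := stepQ 113527 Q113527 (allL N113527 (tt N83542 (iv1 D216782)) (tt N121869 (iv0 F528812)) (tt N121988 (iv2 F529481)) (tt N93514 (iv3 F485906)) (tt N120254 (iv4 F519837)) (tt N106287 (iv5 F485907)) (tt N120256 (iv6 F519847)) (tt N121987 (iv7 F529475)))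
theorem Q113529 : ∀ i, i < 113529 → P i := stepQ 113528 Q113528 (allL N113528 (tt N116529 (iv1 F500628)) (tt N116518 F500579) (tt N114261 (iv2 F489283)) (tt N83543 (iv3 D216783)) (tt N102667 F485908) (tt N120186 (iv5 F519493)) (tt N120477 (iv6 F520979)) (tt N116528 (iv7 F500618)))
theorem Q113530 : ∀ i, i < 113530 → P i := stepQ 113529 Q113529 (allL N113529 (tt N121865 F528789) (tt N121966 (iv0 F529350)) (tt N117404 (iv2 F504858)) (tt N102668 F485909) (tt N83543 (iv4 D216784)) (tt N121378 (iv5 F526037)) (tt N122299 (iv6 F531273)) (tt N121985 (iv7 F529461)))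
theorem Q113531 : ∀ i, i < 113531 → P i := stepQ 113530 Q113530 (allL N113530 (tt N121933 (iv1 F529150)) (tt N110400 F504868) (tt N117405 (iv2 F504863)) (tt N120477 F520981) (tt N122299 (iv4 F531271)) (tt N122001 (iv5 F529562)) (tt N83543 (iv6 D216785)) (tt N121932 (iv7 F529144)))
theorem Q113532 : ∀ i, i < 113532 → P i := stepQ 113531 Q113531 (allL N113531 (tt N121966 (iv1 F529351)) (tt N121865 F528790) (tt N121985 (iv2 F529465)) (tt N112622 F485910) (tt N83544 (iv4 D216786)) (tt N106345 F485911) (tt N122198 F530727) (tt N117404 (iv7 F504860)))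
theorem Q113533 : ∀ i, i < 113533 → P i := stepQ 113532 Q113532 (allL N113532 (tt N101738 (iv1 F485917)) (tt N104135 (iv0 F485916)) (tt N109499 F485912) (tt N89468 F485913) (tt N122198 (iv4 F530725)) (tt N89456 F485914) (tt N83544 (iv6 D216787)) (tt N89455 (iv7 F485915)))
theorem Q113534 : ∀ i, i < 113534 → P i := stepQ 113533 Q113533 (allL N113533 (tt N90041 F485924) (tt N109160 F485923) (tt N104702 F485918) (tt N98631 F485919) (tt N83545 (iv4 D216788)) (tt N104668 F485922) (tt N83548 F485920) (tt N104700 F485921))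
theorem Q113535 : ∀ i, i < 113535 → P i := stepQ 113534 Q113534 (allL N113534 (tt N88938 F485927) (tt N88937 F485928) (tt N83930 F485925) (tt N120748 (iv3 F522497)) (tt N83547 (iv4 D216789)) (tt N116059 (iv5 F498271)) (tt N120746 (iv6 F522487)) (tt N88932 F485926))
theorem Q113536 : ∀ i, i < 113536 → P i := stepQ 113535 Q113535 (allL N113535 (tt N88935 (iv1 F485930)) (tt N83548 (iv0 D216790)) (tt N114828 F492097) (tt N105342 (iv3 F485931)) (tt N84058 F485929) (tt N122324 D225583) (tt N120109 (iv6 F519092)) (tt N114709 (iv7 F491462)))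
theorem Q113537 : ∀ i, i < 113537 → P i := stepQ 113536 Q113536 (allL N113536 (tt N83548 (iv1 D216791)) (tt N88935 F485932) (tt N114709 (iv2 F491461)) (tt N122325 D225584) (tt N88444 (iv4 F485933)) (tt N120904 (iv5 F523384)) (tt N104573 (iv6 F485934)) (tt N114828 (iv7 F492095)))
theorem Q113538 : ∀ i, i < 113538 → P i := stepQ 113537 Q113537 (allL N113537 (tt N119569 (iv1 F516307)) (tt N98610 (iv0 F485938)) (tt N114576 (iv2 F490839)) (tt N83548 (iv3 D216792)) (tt N83560 F485935) (tt N122326 D225585) (tt N98631 F485936) (tt N98630 F485937))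
theorem Q113539 : ∀ i, i < 113539 → P i := stepQ 113538 Q113538 (allL N113538 (tt N121210 (iv1 F525152)) (tt N122238 (iv0 F530947)) (tt N122323 (iv2 F531417)) (tt N122326 (iv3 F531436)) (tt N115641 F496102) (tt N83548 (iv5 D216793)) (tt N121304 F525657) (tt N114829 (iv7 F492098)))
theorem Q113540 : ∀ i, i < 113540 → P i := stepQ 113539 Q113539 (allL N113539 (tt N116517 (iv1 F500608)) (tt N116526 F500612) (tt N116117 (iv2 F498555)) (tt N83549 (iv3 D216794)) (tt N113354 F485939) (tt N122327 D225586) (tt N119782 (iv6 F517390)) (tt N116524 (iv7 F500607)))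
theorem Q113541 : ∀ i, i < 113541 → P i := stepQ 113540 Q113540 (allL N113540 (tt N113010 F485941) (tt N110166 F485942) (tt N113009 F485940) (tt N122327 (iv3 F531441)) (tt N116823 (iv4 F502014)) (tt N83549 (iv5 D216795)) (tt N116162 (iv6 F498814)) (tt N113008 (iv7 F485950)))
theorem Q113542 : ∀ i, i < 113542 → P i := stepQ 113541 Q113541 (allL N113541 (tt N110166 F485945) (tt N113010 F485944) (tt N113008 F485947) (tt N116116 (iv3 F498551)) (tt N114735 (iv4 F491586)) (tt N83550 (iv5 D216796)) (tt N113500 (iv6 F485946)) (tt N113009 F485943))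
theorem Q113543 : ∀ i, i < 113543 → P i := stepQ 113542 Q113542 (allL N113542 (tt N114637 F491134) (tt N100431 (iv0 F485953)) (tt N121770 (iv2 F528212)) (tt N84369 F485951) (tt N119859 (iv4 F517739)) (tt N84367 F485952) (tt N83550 (iv6 D216797)) (tt N120110 (iv7 F519098)))
theorem Q113544 : ∀ i, i < 113544 → P i := stepQ 113543 Q113543 (allL N113543 (tt N113491 F485957) (tt N113490 (iv0 F485958)) (tt N113492 F485954) (tt N114259 F489274) (tt N83553 (iv4 D216798)) (tt N85838 F485956) (tt N117133 (iv6 F503559)) (tt N89700 F485955))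
theorem Q113545 : ∀ i, i < 113545 → P i := stepQ 113544 Q113544 (allL N113544 (tt N116307 (iv1 F499476)) (tt N107455 (iv0 F485963)) (tt N116308 (iv2 F499480)) (tt N83554 F485959) (tt N109938 (iv4 F485962)) (tt N83553 (iv5 D216799)) (tt N109613 F485960) (tt N112540 F485961))
theorem Q113546 : ∀ i, i < 113546 → P i := stepQ 113545 Q113545 (allL N113545 (tt N83555 (iv1 D216800)) (tt N117158 (iv0 F503684)) (tt N121935 F529160) (tt N116529 (iv3 F500624)) (tt N90909 (iv4 F485971)) (tt N89097 F485974) (tt N115755 (iv6 F496685)) (tt N115433 F495175))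
theorem Q113547 : ∀ i, i < 113547 → P i := stepQ 113546 Q113546 (allL N113546 (tt N115433 F495174) (tt N121935 F529161) (tt N83555 (iv2 D216801)) (tt N112563 F485964) (tt N90791 (iv4 F485965)) (tt N116306 (iv5 F499472)) (tt N90821 (iv6 F485966)) (tt N117158 (iv7 F503683)))
theorem Q113548 : ∀ i, i < 113548 → P i := stepQ 113547 Q113547 (allL N113547 (tt N89260 (iv1 F485973)) (tt N89261 F485972) (tt N90791 F485967) (tt N100255 F485968) (tt N83555 (iv4 D216802)) (tt N106278 F485970) (tt N88408 F485975) (tt N90790 F485969))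
theorem Q113549 : ∀ i, i < 113549 → P i := stepQ 113548 Q113548 (allL N113548 (tt N84728 (iv1 F485981)) (tt N91138 F485982) (tt N90821 F485976) (tt N83556 F485977) (tt N88408 F485978) (tt N100645 F485979) (tt N83555 (iv6 D216803)) (tt N90819 F485980))
theorem Q113550 : ∀ i, i < 113550 → P i := stepQ 113549 Q113549 (allL N113549 (tt N89099 F485987) (tt N89097 (iv0 F485988)) (tt N90802 F485983) (tt N83558 (iv3 D216804)) (tt N89677 F485984) (tt N88417 F485989) (tt N91176 F485985) (tt N113218 F485986))
theorem Q113551 : ∀ i, i < 113551 → P i := stepQ 113550 Q113550 (allL N113550 (tt N110418 F485993) (tt N121929 F529123) (tt N114827 (iv2 F492088)) (tt N88417 F485990) (tt N113442 F485992) (tt N83558 (iv5 D216805)) (tt N88416 F485991) (tt N114826 (iv7 F492084)))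
theorem Q113552 : ∀ i, i < 113552 → P i := stepQ 113551 Q113551 (allL N113551 (tt N83900 F485997) (tt N83898 F485998) (tt N84417 F485994) (tt N83563 F485995) (tt N122236 (iv4 F530933)) (tt N83561 (iv5 D216806)) (tt N122328 D225587) (tt N113020 F485996))
theorem Q113553 : ∀ i, i < 113553 → P i := stepQ 113552 Q113552 (allL N113552 (tt N115990 (iv1 F497936)) (tt N110100 (iv0 F486001)) (tt N89527 F485999) (tt N122243 (iv3 F530971)) (tt N83563 (iv4 D216807)) (tt N122022 (iv5 F529689)) (tt N113980 F498497) (tt N113021 F486000))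
theorem Q113554 : ∀ i, i < 113554 → P i := stepQ 113553 Q113553 (allL N113553 (tt N112980 F486004) (tt N122321 (iv0 F531408)) (tt N89525 F486002) (tt N122328 (iv3 F531447)) (tt N113980 (iv4 F498496)) (tt N89510 F486003) (tt N83563 (iv6 D216808)) (tt N122329 D225588))
theorem Q113555 : ∀ i, i < 113555 → P i := stepQ 113554 Q113554 (allL N113554 (tt N110100 F486007) (tt N115990 (iv0 F497935)) (tt N113021 F486005) (tt N99433 F486008) (tt N83564 (iv4 D216809)) (tt N99430 (iv5 F486009)) (tt N121019 (iv6 F524048)) (tt N89527 F486006))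
theorem Q113556 : ∀ i, i < 113556 → P i := stepQ 113555 Q113555 (allL N113555 (tt N121887 F528916) (tt N121324 (iv0 F525767)) (tt N113022 F486011) (tt N84014 F486012) (tt N121019 (iv4 F524050)) (tt N84009 F486013) (tt N83564 (iv6 D216810)) (tt N121262 (iv7 F525448)))
theorem Q113557 : ∀ i, i < 113557 → P i := stepQ 113556 Q113556 (allL N113556 (tt N107440 (iv1 F486017)) (tt N83565 (iv0 D216811)) (tt N108019 (iv2 F486016)) (tt N121344 (iv3 F525872)) (tt N112062 F486015) (tt N108016 F486014) (tt N120718 (iv6 F522327)) (tt N113499 F486018))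
theorem Q113558 : ∀ i, i < 113558 → P i := stepQ 113557 Q113557 (allL N113557 (tt N86579 F486022) (tt N85173 F486023) (tt N86581 F486019) (tt N118101 (iv3 F508594)) (tt N86438 F486020) (tt N83575 (iv5 D216812)) (tt N86561 (iv6 F486028)) (tt N86435 F486021))
theorem Q113559 : ∀ i, i < 113559 → P i := stepQ 113558 Q113558 (allL N113558 (tt N86690 (iv1 F486032)) (tt N115235 F494469) (tt N115233 F494146) (tt N116086 (iv3 F498391)) (tt N83576 F486029) (tt N115308 (iv5 F494502)) (tt N83575 (iv6 D216813)) (tt N115234 F494145))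
theorem Q113560 : ∀ i, i < 113560 → P i := stepQ 113559 Q113559 (allL N113559 (tt N83576 (iv1 D216814)) (tt N119325 F515030) (tt N115810 (iv2 F497010)) (tt N87634 (iv3 F486033)) (tt N115230 (iv4 F494132)) (tt N111642 F486031) (tt N115227 (iv6 F494119)) (tt N106695 F486030))
theorem Q113561 : ∀ i, i < 113561 → P i := stepQ 113560 Q113560 (allL N113560 (tt N115810 F497015) (tt N106695 (iv0 F486036)) (tt N119325 (iv2 F515025)) (tt N83579 F486034) (tt N115234 (iv4 F494144)) (tt N114149 (iv5 F488751)) (tt N96221 F486035) (tt N83576 (iv7 D216815)))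
theorem Q113562 : ∀ i, i < 113562 → P i := stepQ 113561 Q113561 (allL N113561 (tt N104983 F486039) (tt N103903 (iv0 F486040)) (tt N104985 F486037) (tt N83577 (iv3 D216816)) (tt N114863 (iv4 F492230)) (tt N120507 (iv5 F521152)) (tt N119577 F516350) (tt N104984 F486038))
theorem Q113563 : ∀ i, i < 113563 → P i := stepQ 113562 Q113562 (allL N113562 (tt N112409 (iv1 F486043)) (tt N115909 F497543) (tt N114239 (iv2 F489163)) (tt N115396 (iv3 F494978)) (tt N102068 F486041) (tt N122330 D225589) (tt N83578 (iv6 D216817)) (tt N102067 F486042))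
theorem Q113564 : ∀ i, i < 113564 → P i := stepQ 113563 Q113563 (allL N113563 (tt N113411 F486045) (tt N85467 F486046) (tt N84880 F486044) (tt N114498 (iv3 F490473)) (tt N88937 F486047) (tt N83580 (iv5 D216818)) (tt N109391 F486048) (tt N113843 (iv7 F487405)))
theorem Q113565 : ∀ i, i < 113565 → P i := stepQ 113564 Q113564 (allL N113564 (tt N115623 (iv1 F496020)) (tt N104038 F486053) (tt N88259 F486049) (tt N100525 F486050) (tt N83582 (iv4 D216819)) (tt N118903 (iv5 F512664)) (tt N100524 F486051) (tt N88082 F486052))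
theorem Q113566 : ∀ i, i < 113566 → P i := stepQ 113565 Q113565 (allL N113565 (tt N83583 (iv1 D216820)) (tt N88309 F486054) (tt N87612 F486058) (tt N115165 (iv3 F493807)) (tt N87609 F486056) (tt N120757 (iv5 F522553)) (tt N87863 (iv6 F486057)) (tt N88311 F486055))
theorem Q113567 : ∀ i, i < 113567 → P i := stepQ 113566 Q113566 (allL N113566 (tt N115642 (iv1 F496103)) (tt N115641 F496100) (tt N91993 F486059) (tt N88141 F486060) (tt N116369 (iv4 F499747)) (tt N83583 (iv5 D216821)) (tt N91990 F486061) (tt N88138 F486062))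
theorem Q113568 : ∀ i, i < 113568 → P i := stepQ 113567 Q113567 (allL N113567 (tt N87879 (iv1 F486067)) (tt N115461 F495302) (tt N112419 F486063) (tt N83591 (iv3 D216822)) (tt N83811 F486064) (tt N122090 (iv5 F530096)) (tt N84689 F486065) (tt N88314 F486066))
theorem Q113569 : ∀ i, i < 113569 → P i := stepQ 113568 Q113568 (allL N113568 (tt N114134 F488689) (tt N121783 F528291) (tt N84635 F486068) (tt N120049 F518759) (tt N102985 F486069) (tt N83599 (iv5 D216823)) (tt N84590 F486070) (tt N87497 F486071))
theorem Q113570 : ∀ i, i < 113570 → P i := stepQ 113569 Q113569 (allL N113569 (tt N83610 (iv1 F486073)) (tt N83609 (iv0 D216824)) (tt N116035 (iv2 F498167)) (tt N114243 (iv3 F489180)) (tt N122331 D225590) (tt N111526 F486072) (tt N114113 (iv6 F488599)) (tt N116036 (iv7 F498169)))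
theorem Q113571 : ∀ i, i < 113571 → P i := stepQ 113570 Q113570 (allL N113570 (tt N83609 (iv1 D216825)) (tt N83610 F486074) (tt N116036 (iv2 F498172)) (tt N114134 F492062) (tt N120408 (iv4 F520627)) (tt N114822 F492059) (tt N114118 (iv6 F492061)) (tt N116035 (iv7 F498166)))
theorem Q113572 : ∀ i, i < 113572 → P i := stepQ 113571 Q113571 (allL N113571 (tt N119220 (iv1 F514439)) (tt N119221 (iv0 F514443)) (tt N116037 (iv2 F498174)) (tt N94681 F486075) (tt N83609 (iv4 D216826)) (tt N110449 F486077) (tt N112306 F486076) (tt N121909 (iv7 F529008)))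
theorem Q113573 : ∀ i, i < 113573 → P i := stepQ 113572 Q113572 (allL N113572 (tt N119221 (iv1 F514444)) (tt N119220 (iv0 F514438)) (tt N121909 (iv2 F529004)) (tt N111562 (iv3 F486080)) (tt N83610 (iv4 D216827)) (tt N110448 F486078) (tt N111561 F486079) (tt N116037 (iv7 F498176)))
theorem Q113574 : ∀ i, i < 113574 → P i := stepQ 113573 Q113573 (allL N113573 (tt N93080 F486083) (tt N93207 (iv0 F486085)) (tt N93040 F486081) (tt N98569 F486084) (tt N83617 (iv4 D216828)) (tt N98568 F486086) (tt N117704 (iv6 F506525)) (tt N93206 F486082))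
theorem Q113575 : ∀ i, i < 113575 → P i := stepQ 113574 Q113574 (allL N113574 (tt N113583 (iv1 F486143)) (tt N84938 F486091) (tt N83624 F486087) (tt N90235 F486092) (tt N83623 (iv4 D216829)) (tt N112027 F486090) (tt N105838 F486088) (tt N111988 F486089))
theorem Q113576 : ∀ i, i < 113576 → P i := stepQ 113575 Q113575 (allL N113575 (tt N113585 (iv1 F486161)) (tt N83629 (iv0 D216830)) (tt N84914 (iv2 F486096)) (tt N93089 F486095) (tt N84912 F486094) (tt N103484 F486093) (tt N102422 F486097) (tt N84916 F486098))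
theorem Q113577 : ∀ i, i < 113577 → P i := stepQ 113576 Q113576 (allL N113576 (tt N88223 F486104) (tt N88222 F486105) (tt N88225 F486099) (tt N104734 F486100) (tt N83643 (iv4 D216831)) (tt N110973 F486103) (tt N94413 F486101) (tt N88220 F486102))
theorem Q113578 : ∀ i, i < 113578 → P i := stepQ 113577 Q113577 (allL N113577 (tt N104707 F486109) (tt N104636 F486110) (tt N84943 F486106) (tt N116217 (iv3 F499072)) (tt N83645 (iv4 D216832)) (tt N111218 F486108) (tt N116227 (iv6 F499127)) (tt N84993 F486107))
theorem Q113579 : ∀ i, i < 113579 → P i := stepQ 113578 Q113578 (allL N113578 (tt N92758 F486114) (tt N117683 (iv0 F506402)) (tt N114955 (iv2 F492746)) (tt N104402 F486111) (tt N114392 (iv4 F489934)) (tt N83650 (iv5 D216833)) (tt N93063 F486112) (tt N104395 F486113))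
theorem Q113580 : ∀ i, i < 113580 → P i := stepQ 113579 Q113579 (allL N113579 (tt N83651 (iv1 D216834)) (tt N98002 F486115) (tt N97947 F486121) (tt N97957 (iv3 F486118)) (tt N113156 F486117) (tt N93138 (iv5 F486119)) (tt N93139 (iv6 F486120)) (tt N98768 F486116))
theorem Q113581 : ∀ i, i < 113581 → P i := stepQ 113580 Q113580 (allL N113580 (tt N83703 F486127) (tt N88428 (iv0 F486128)) (tt N84446 F486122) (tt N83658 F486123) (tt N84988 F486124) (tt N109015 F486125) (tt N83656 (iv6 D216835)) (tt N88427 F486126))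
theorem Q113582 : ∀ i, i < 113582 → P i := stepQ 113581 Q113581 (allL N113581 (tt N102467 F486133) (tt N102496 F486134) (tt N85051 F486129) (tt N102600 (iv3 F486135)) (tt N83657 (iv4 D216836)) (tt N102596 F486130) (tt N102504 F486131) (tt N85050 F486132))
theorem Q113583 : ∀ i, i < 113583 → P i := stepQ 113582 Q113582 (allL N113582 (tt N103763 F486140) (tt N103782 F486141) (tt N102459 F486136) (tt N102437 F486137) (tt N103373 F486138) (tt N83660 (iv5 D216837)) (tt N109103 (iv6 F486142)) (tt N85058 F486139))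
theorem Q113584 : ∀ i, i < 113584 → P i := stepQ 113583 Q113583 (allL N113583 (tt N83662 (iv1 D216838)) (tt N113574 F486143) (tt N85974 F486148) (tt N104148 F486149) (tt N85971 F486145) (tt N86466 F486146) (tt N86467 (iv6 F486147)) (tt N110423 F486144))
theorem Q113585 : ∀ i, i < 113585 → P i := stepQ 113584 Q113584 (allL N113584 (tt N114953 (iv1 F492739)) (tt N104145 F486155) (tt N112033 F486150) (tt N90061 F486151) (tt N88997 F486152) (tt N83662 (iv5 D216839)) (tt N88996 F486153) (tt N90056 F486154))
theorem Q113586 : ∀ i, i < 113586 → P i := stepQ 113585 Q113585 (allL N113585 (tt N105758 F486160) (tt N113575 F486161) (tt N83668 F486156) (tt N102462 F486157) (tt N83667 (iv4 D216840)) (tt N104499 F486158) (tt N119009 (iv6 F513261)) (tt N103784 F486159))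
theorem Q113587 : ∀ i, i < 113587 → P i := stepQ 113586 Q113586 (allL N113586 (tt N104827 F486163) (tt N118101 (iv0 F508598)) (tt N115383 (iv2 F494918)) (tt N115308 F494500) (tt N83675 (iv4 D216841)) (tt N116086 (iv5 F498389)) (tt N121827 F528556) (tt N86505 F486162))
theorem Q113588 : ∀ i, i < 113588 → P i := stepQ 113587 Q113587 (allL N113587 (tt N86148 F486167) (tt N86144 (iv0 F486168)) (tt N86511 F486164) (tt N93997 F486165) (tt N121827 (iv4 F528554)) (tt N86042 (iv5 F486169)) (tt N83675 (iv6 D216842)) (tt N86041 F486166))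
theorem Q113589 : ∀ i, i < 113589 → P i := stepQ 113588 Q113588 (allL N113588 (tt N85866 F486174) (tt N86047 F486175) (tt N86048 F486170) (tt N105912 F486171) (tt N115046 (iv4 F493204)) (tt N83676 (iv5 D216843)) (tt N86042 F486172) (tt N85078 F486173))
theorem Q113590 : ∀ i, i < 113590 → P i := stepQ 113589 Q113589 (allL N113589 (tt N98003 (iv1 F486181)) (tt N109736 (iv0 F486182)) (tt N109735 F486176) (tt N83677 (iv3 D216844)) (tt N86662 F486179) (tt N91084 F486177) (tt N86661 (iv6 F486180)) (tt N94008 F486178))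
theorem Q113591 : ∀ i, i < 113591 → P i := stepQ 113590 Q113590 (allL N113590 (tt N104776 F486184) (tt N86686 F486185) (tt N115231 (iv2 F494134)) (tt N86664 F486183) (tt N83677 (iv4 D216845)) (tt N116070 (iv5 F498313)) (tt N86663 (iv6 F486186)) (tt N115232 (iv7 F494140)))
theorem Q113592 : ∀ i, i < 113592 → P i := stepQ 113591 Q113591 (allL N113591 (tt N87544 F486191) (tt N115191 (iv0 F493950)) (tt N85758 F486187) (tt N86661 F486188) (tt N86663 F486189) (tt N85740 F486192) (tt N83677 (iv6 D216846)) (tt N85754 F486190))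
theorem Q113593 : ∀ i, i < 113593 → P i := stepQ 113592 Q113592 (allL N113592 (tt N86686 F486195) (tt N104776 F486196) (tt N115232 (iv2 F494139)) (tt N91245 F486193) (tt N83678 (iv4 D216847)) (tt N116071 (iv5 F498315)) (tt N104938 F486194) (tt N115231 (iv7 F494137)))
theorem Q113594 : ∀ i, i < 113594 → P i := stepQ 113593 Q113593 (allL N113593 (tt N88816 F486200) (tt N104003 F486201) (tt N103899 F486197) (tt N115480 (iv3 F495401)) (tt N83682 (iv4 D216848)) (tt N103894 F486199) (tt N103895 (iv6 F486202)) (tt N87656 F486198))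
theorem Q113595 : ∀ i, i < 113595 → P i := stepQ 113594 Q113594 (allL N113594 (tt N104985 F486208) (tt N104984 F486209) (tt N103903 F486203) (tt N83683 F486204) (tt N103895 F486205) (tt N101552 F486206) (tt N83682 (iv6 D216849)) (tt N104983 F486207))
theorem Q113596 : ∀ i, i < 113596 → P i := stepQ 113595 Q113595 (allL N113595 (tt N87635 (iv1 F486215)) (tt N83683 (iv0 D216850)) (tt N87633 (iv2 F486212)) (tt N106695 F486213) (tt N87551 F486210) (tt N119222 (iv5 F514447)) (tt N96058 F486211) (tt N87634 F486214))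
theorem Q113597 : ∀ i, i < 113597 → P i := stepQ 113596 Q113596 (allL N113596 (tt N87634 (iv1 F486221)) (tt N87633 F486222) (tt N87635 F486216) (tt N104983 F486217) (tt N93168 F486218) (tt N111415 F486219) (tt N87657 F486220) (tt N83683 (iv7 D216851)))
theorem Q113598 : ∀ i, i < 113598 → P i := stepQ 113597 Q113597 (allL N113597 (tt N89941 F486226) (tt N107441 F486227) (tt N88103 F486223) (tt N83685 F486224) (tt N112804 F486228) (tt N83684 (iv5 D216852)) (tt N100056 (iv6 F486229)) (tt N88110 F486225))
theorem Q113599 : ∀ i, i < 113599 → P i := stepQ 113598 Q113598 (allL N113598 (tt N108418 F486235) (tt N90733 F486236) (tt N89191 F486230) (tt N100056 F486231) (tt N92600 F486232) (tt N89155 F486233) (tt N83685 (iv6 D216853)) (tt N107570 F486234))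
theorem Q113600 : ∀ i, i < 113600 → P i := stepQ 113599 Q113599 (allL N113599 (tt N115530 (iv1 F495660)) (tt N88441 (iv0 F486239)) (tt N116168 (iv2 F498841)) (tt N83688 (iv3 D216854)) (tt N116155 (iv4 F498780)) (tt N91766 F486237) (tt N122332 D225591) (tt N112885 F486238))
theorem Q113601 : ∀ i, i < 113601 → P i := stepQ 113600 Q113600 (allL N113600 (tt N112969 F486242) (tt N114742 F491614) (tt N112884 F486240) (tt N122332 (iv3 F531464)) (tt N114679 (iv4 F491333)) (tt N85123 F486241) (tt N83688 (iv6 D216855)) (tt N114957 (iv7 F492757)))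
theorem Q113602 : ∀ i, i < 113602 → P i := stepQ 113601 Q113601 (allL N113601 (tt N83689 (iv1 D216856)) (tt N112889 F486243) (tt N112888 (iv2 F486247)) (tt N100894 (iv3 F486248)) (tt N88588 F486246) (tt N112538 F486245) (tt N122333 D225592) (tt N112887 F486244))
theorem Q113603 : ∀ i, i < 113603 → P i := stepQ 113602 Q113602 (allL N113602 (tt N109709 (iv1 F486253)) (tt N108415 (iv0 F486254)) (tt N109711 F486249) (tt N83697 F486250) (tt N121889 (iv4 F528925)) (tt N83845 F486251) (tt N83690 (iv6 D216857)) (tt N100191 F486252))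
theorem Q113604 : ∀ i, i < 113604 → P i := stepQ 113603 Q113603 (allL N113603 (tt N84076 (iv1 F486257)) (tt N83691 (iv0 D216858)) (tt N84294 F486260) (tt N115178 (iv3 F493878)) (tt N88557 F486256) (tt N85502 F486255) (tt N88556 (iv6 F486258)) (tt N84293 F486259))
theorem Q113605 : ∀ i, i < 113605 → P i := stepQ 113604 Q113604 (allL N113604 (tt N83691 (iv1 D216859)) (tt N84076 F486261) (tt N84293 (iv2 F486265)) (tt N112892 (iv3 F486266)) (tt N99787 F486264) (tt N85497 F486263) (tt N117627 (iv6 F506074)) (tt N84294 F486262))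
theorem Q113606 : ∀ i, i < 113606 → P i := stepQ 113605 Q113605 (allL N113605 (tt N112786 F486271) (tt N109673 F486272) (tt N105236 F486267) (tt N83692 (iv3 D216860)) (tt N120169 (iv4 F519401)) (tt N83972 F486268) (tt N84429 F486269) (tt N84297 F486270))
theorem Q113607 : ∀ i, i < 113607 → P i := stepQ 113606 Q113606 (allL N113606 (tt N120439 F520793) (tt N106510 (iv0 F486275)) (tt N117188 (iv2 F503825)) (tt N83695 F486273) (tt N113936 (iv4 F487874)) (tt N85391 F486274) (tt N83693 (iv6 D216861)) (tt N120438 (iv7 F520785)))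
theorem Q113608 : ∀ i, i < 113608 → P i := stepQ 113607 Q113607 (allL N113607 (tt N114066 F488415) (tt N114068 (iv0 F488427)) (tt N84298 F486276) (tt N113004 F486277) (tt N83695 F486278) (tt N113296 F486279) (tt N83694 (iv6 D216862)) (tt N113001 F486280))
theorem Q113609 : ∀ i, i < 113609 → P i := stepQ 113608 Q113608 (allL N113608 (tt N84301 (iv1 F486284)) (tt N83695 (iv0 D216863)) (tt N84299 (iv2 F486282)) (tt N113777 F487059) (tt N116167 (iv4 F498837)) (tt N114772 (iv5 F491779)) (tt N85520 F486281) (tt N84300 F486283))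
theorem Q113610 : ∀ i, i < 113610 → P i := stepQ 113609 Q113609 (allL N113609 (tt N84300 (iv1 F486289)) (tt N84299 F486290) (tt N84301 F486285) (tt N120438 F520788) (tt N113001 F486286) (tt N85394 F486287) (tt N84292 F486288) (tt N83695 (iv7 D216864)))
theorem Q113611 : ∀ i, i < 113611 → P i := stepQ 113610 Q113610 (allL N113610 (tt N84158 (iv1 F486293)) (tt N83697 (iv0 D216865)) (tt N84173 (iv2 F486294)) (tt N99940 (iv3 F486295)) (tt N112922 (iv4 F486296)) (tt N99939 F486291) (tt N84321 F486292) (tt N84280 (iv7 F486297)))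
theorem Q113612 : ∀ i, i < 113612 → P i := stepQ 113611 Q113611 (allL N113611 (tt N83697 (iv1 D216866)) (tt N84158 F486298) (tt N84280 (iv2 F486302)) (tt N84159 (iv3 F486300)) (tt N110991 F486301) (tt N117338 (iv5 F504533)) (tt N122278 (iv6 F531135)) (tt N84173 F486299))
theorem Q113613 : ∀ i, i < 113613 → P i := stepQ 113612 Q113612 (allL N113612 (tt N121437 (iv1 F526372)) (tt N120357 (iv0 F520354)) (tt N88831 F486303) (tt N121021 (iv3 F524060)) (tt N83698 (iv4 D216867)) (tt N107996 F486305) (tt N119971 (iv6 F518325)) (tt N84430 F486304))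
theorem Q113614 : ∀ i, i < 113614 → P i := stepQ 113613 Q113613 (allL N113613 (tt N120364 F520389) (tt N113015 (iv0 F486309)) (tt N88832 F486306) (tt N83700 F486307) (tt N119971 (iv4 F518326)) (tt N84407 F486308) (tt N83698 (iv6 D216868)) (tt N116812 (iv7 F501969)))
theorem Q113615 : ∀ i, i < 113615 → P i := stepQ 113614 Q113614 (allL N113614 (tt N114387 F489911) (tt N114390 (iv0 F489926)) (tt N105185 F486310) (tt N83699 (iv3 D216869)) (tt N121021 (iv4 F524061)) (tt N91788 F486311) (tt N113951 (iv6 F487932)) (tt N84433 F486312))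
theorem Q113616 : ∀ i, i < 113616 → P i := stepQ 113615 Q113615 (allL N113615 (tt N116167 F498839) (tt N116703 (iv0 F501394)) (tt N84434 F486313) (tt N105138 F486314) (tt N83702 F486315) (tt N107950 F486316) (tt N83701 (iv6 D216870)) (tt N113950 (iv7 F487929)))
theorem Q113617 : ∀ i, i < 113617 → P i := stepQ 113616 Q113616 (allL N113616 (tt N84438 (iv1 F486320)) (tt N83702 (iv0 D216871)) (tt N84435 (iv2 F486318)) (tt N121568 (iv3 F527076)) (tt N113965 (iv4 F488418)) (tt N116404 (iv5 F499920)) (tt N85445 F486317) (tt N84436 F486319))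
theorem Q113618 : ∀ i, i < 113618 → P i := stepQ 113617 Q113617 (allL N113617 (tt N84436 (iv1 F486325)) (tt N84435 F486326) (tt N84438 F486321) (tt N101489 F486322) (tt N113950 (iv4 F487927)) (tt N85332 F486323) (tt N84424 F486324) (tt N83702 (iv7 D216872)))
theorem Q113619 : ∀ i, i < 113619 → P i := stepQ 113618 Q113618 (allL N113618 (tt N109902 F486329) (tt N105785 (iv0 F486330)) (tt N83709 F486327) (tt N83740 F486328) (tt N116079 (iv4 F498350)) (tt N114795 (iv5 F491911)) (tt N83707 (iv6 D216873)) (tt N120203 (iv7 F519573)))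
theorem Q113620 : ∀ i, i < 113620 → P i := stepQ 113619 Q113619 (allL N113619 (tt N113679 (iv1 F486599)) (tt N108749 F486332) (tt N118960 (iv2 F512981)) (tt N115381 (iv3 F494913)) (tt N120562 (iv4 F521465)) (tt N83708 (iv5 D216874)) (tt N118959 (iv6 F512980)) (tt N91198 F486331))
theorem Q113621 : ∀ i, i < 113621 → P i := stepQ 113620 Q113620 (allL N113620 (tt N116077 F498346) (tt N116080 F498358) (tt N116079 F498351) (tt N110914 F486333) (tt N83709 F486334) (tt N101961 F486335) (tt N83708 (iv6 D216875)) (tt N116078 F498349))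
theorem Q113622 : ∀ i, i < 113622 → P i := stepQ 113621 Q113621 (allL N113621 (tt N120203 F519575) (tt N83709 (iv0 D216876)) (tt N109902 (iv2 F486339)) (tt N115221 (iv3 F494081)) (tt N87512 F486336) (tt N100440 F486338) (tt N87511 F486337) (tt N105785 F486340))
theorem Q113623 : ∀ i, i < 113623 → P i := stepQ 113622 Q113622 (allL N113622 (tt N105785 (iv1 F486343)) (tt N109902 F486344) (tt N120203 (iv2 F519569)) (tt N83711 F486341) (tt N116078 (iv4 F498347)) (tt N114929 (iv5 F492590)) (tt N91202 F486342) (tt N83709 (iv7 D216877)))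
theorem Q113624 : ∀ i, i < 113624 → P i := stepQ 113623 Q113623 (allL N113623 (tt N96706 F486349) (tt N98191 F486350) (tt N83754 F486345) (tt N121076 (iv3 F524385)) (tt N101367 F486346) (tt N83710 (iv5 D216878)) (tt N96689 F486347) (tt N83752 F486348))
theorem Q113625 : ∀ i, i < 113625 → P i := stepQ 113624 Q113624 (allL N113624 (tt N83718 (iv1 D216879)) (tt N115415 (iv0 F495083)) (tt N112850 F486355) (tt N117632 F506104) (tt N97616 (iv4 F486353)) (tt N112148 F486352) (tt N103234 (iv6 F486354)) (tt N115417 (iv7 F495095)))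
theorem Q113626 : ∀ i, i < 113626 → P i := stepQ 113625 Q113625 (allL N113625 (tt N86433 F486359) (tt N86530 F486360) (tt N83723 F486356) (tt N119686 (iv3 F516912)) (tt N83720 (iv4 D216880)) (tt N113781 (iv5 F487080)) (tt N87648 F486357) (tt N86535 F486358))
theorem Q113627 : ∀ i, i < 113627 → P i := stepQ 113626 Q113626 (allL N113626 (tt N86415 F486363) (tt N86409 (iv0 F486364)) (tt N114946 (iv2 F492696)) (tt N83729 F486361) (tt N115354 (iv4 F494750)) (tt N83728 (iv5 D216881)) (tt N115476 (iv6 F495375)) (tt N83736 F486362))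
theorem Q113628 : ∀ i, i < 113628 → P i := stepQ 113627 Q113627 (allL N113627 (tt N87874 F486368) (tt N87868 F486369) (tt N114236 (iv2 F489145)) (tt N83731 F486365) (tt N112452 F486370) (tt N83730 (iv5 D216882)) (tt N112816 F486366) (tt N87620 F486367))
theorem Q113629 : ∀ i, i < 113629 → P i := stepQ 113628 Q113628 (allL N113628 (tt N97249 F486376) (tt N118105 F508624) (tt N86884 F486371) (tt N112816 F486372) (tt N86883 F486373) (tt N87726 F486374) (tt N83731 (iv6 D216883)) (tt N104889 F486375))
theorem Q113630 : ∀ i, i < 113630 → P i := stepQ 113629 Q113629 (allL N113629 (tt N86411 F486380) (tt N86417 F486381) (tt N108483 F486377) (tt N88261 F486378) (tt N83736 (iv4 D216884)) (tt N114214 (iv5 F489027)) (tt N93909 F486379) (tt N115354 (iv7 F494754)))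
theorem Q113631 : ∀ i, i < 113631 → P i := stepQ 113630 Q113630 (allL N113630 (tt N114232 (iv1 F489124)) (tt N114231 (iv0 F489115)) (tt N112874 F486382) (tt N83739 (iv3 D216885)) (tt N115456 (iv4 F495277)) (tt N86569 F486383) (tt N118978 (iv6 F513087)) (tt N87170 F486384))
theorem Q113632 : ∀ i, i < 113632 → P i := stepQ 113631 Q113631 (allL N113631 (tt N103224 F486388) (tt N103227 (iv0 F486389)) (tt N83742 F486385) (tt N118978 (iv3 F513086)) (tt N83740 F486386) (tt N112875 F486387) (tt N83739 (iv6 D216886)) (tt N119350 (iv7 F515161)))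
theorem Q113633 : ∀ i, i < 113633 → P i := stepQ 113632 Q113632 (allL N113632 (tt N83744 (iv1 F486394)) (tt N83743 F486395) (tt N83745 F486391) (tt N120203 (iv3 F519570)) (tt N119350 (iv4 F515157)) (tt N103044 F486392) (tt N98068 F486393) (tt N83740 (iv7 D216887)))
theorem Q113634 : ∀ i, i < 113634 → P i := stepQ 113633 Q113633 (allL N113633 (tt N103227 (iv1 F486400)) (tt N103224 F486401) (tt N119350 F515159) (tt N106881 F486396) (tt N83745 F486397) (tt N106881 F486398) (tt N106880 F486399) (tt N83742 (iv7 D216888)))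
theorem Q113635 : ∀ i, i < 113635 → P i := stepQ 113634 Q113634 (allL N113634 (tt N115263 (iv1 F494271)) (tt N88293 F486406) (tt N108641 F486402) (tt N85683 F486403) (tt N83743 (iv4 D216889)) (tt N97163 F486405) (tt N117625 (iv6 F506061)) (tt N85695 F486404))
theorem Q113636 : ∀ i, i < 113636 → P i := stepQ 113635 Q113635 (allL N113635 (tt N88293 F486412) (tt N115263 F494270) (tt N85695 F486407) (tt N112422 F486408) (tt N83744 (iv4 D216890)) (tt N97162 F486409) (tt N103957 F486410) (tt N108641 F486411))
theorem Q113637 : ∀ i, i < 113637 → P i := stepQ 113636 Q113636 (allL N113636 (tt N86704 F486416) (tt N113699 (iv0 F486697)) (tt N87587 F486413) (tt N86712 F486414) (tt N86716 F486417) (tt N83749 (iv5 D216891)) (tt N86687 F486415) (tt N114662 (iv7 F491264)))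
theorem Q113638 : ∀ i, i < 113638 → P i := stepQ 113637 Q113637 (allL N113637 (tt N86667 (iv1 F486422)) (tt N83750 (iv0 D216892)) (tt N86665 (iv2 F486423)) (tt N92932 F486420) (tt N86648 F486418) (tt N115390 (iv5 F494950)) (tt N109242 F486421) (tt N86666 (iv7 F486425)))
theorem Q113639 : ∀ i, i < 113639 → P i := stepQ 113638 Q113638 (allL N113638 (tt N83750 (iv1 D216893)) (tt N86667 F486429) (tt N86666 F486435) (tt N100298 (iv3 F486432)) (tt N86649 (iv4 F486431)) (tt N112469 (iv5 F486434)) (tt N104083 (iv6 F486433)) (tt N86665 F486430))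
theorem Q113640 : ∀ i, i < 113640 → P i := stepQ 113639 Q113639 (allL N113639 (tt N105905 F486440) (tt N105904 (iv0 F486442)) (tt N105906 F486436) (tt N83753 F486437) (tt N105775 F486438) (tt N91037 F486439) (tt N83751 (iv6 D216894)) (tt N105897 F486441))
theorem Q113641 : ∀ i, i < 113641 → P i := stepQ 113640 Q113640 (allL N113640 (tt N83754 (iv1 F486446)) (tt N83752 (iv0 D216895)) (tt N98191 (iv2 F486445)) (tt N100442 (iv3 F486448)) (tt N96400 F486444) (tt N104028 F486443) (tt N96672 (iv6 F486449)) (tt N96706 F486447))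
theorem Q113642 : ∀ i, i < 113642 → P i := stepQ 113641 Q113641 (allL N113641 (tt N104766 F486454) (tt N104074 (iv0 F486455)) (tt N104768 F486450) (tt N91036 F486451) (tt N118245 (iv4 F509338)) (tt N91035 F486452) (tt N83752 (iv6 D216896)) (tt N104760 F486453))
theorem Q113643 : ∀ i, i < 113643 → P i := stepQ 113642 Q113642 (allL N113642 (tt N96569 F486458) (tt N96574 F486459) (tt N88948 F486456) (tt N114998 (iv3 F492982)) (tt N83760 (iv4 D216897)) (tt N122334 D225593) (tt N114997 F492980) (tt N88514 F486457))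
theorem Q113644 : ∀ i, i < 113644 → P i := stepQ 113643 Q113643 (allL N113643 (tt N96574 F486464) (tt N96569 F486465) (tt N88514 F486460) (tt N96334 F486461) (tt N83761 (iv4 D216898)) (tt N112265 F486463) (tt N120451 (iv6 F520858)) (tt N88948 F486462))
theorem Q113645 : ∀ i, i < 113645 → P i := stepQ 113644 Q113644 (allL N113644 (tt N85529 F486468) (tt N88956 F486469) (tt N83765 F486466) (tt N118195 (iv3 F509083)) (tt N83762 (iv4 D216899)) (tt N115397 (iv5 F494984)) (tt N118194 (iv6 F509081)) (tt N88950 F486467))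
theorem Q113646 : ∀ i, i < 113646 → P i := stepQ 113645 Q113645 (allL N113645 (tt N119176 F514208) (tt N121132 (iv0 F524687)) (tt N83766 F486470) (tt N88933 F486471) (tt N118194 (iv4 F509076)) (tt N116391 (iv5 F499853)) (tt N83762 (iv6 D216900)) (tt N118378 (iv7 F510028)))
theorem Q113647 : ∀ i, i < 113647 → P i := stepQ 113646 Q113646 (allL N113646 (tt N83910 F486477) (tt N113074 F486478) (tt N84882 F486472) (tt N83763 (iv3 D216901)) (tt N86309 F486473) (tt N84749 F486474) (tt N98193 F486475) (tt N84888 F486476))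
theorem Q113648 : ∀ i, i < 113648 → P i := stepQ 113647 Q113647 (allL N113647 (tt N114747 (iv1 F491645)) (tt N114727 (iv0 F491555)) (tt N88952 F486479) (tt N105230 F486480) (tt N83764 (iv4 D216902)) (tt N115925 (iv5 F497610)) (tt N115038 (iv6 F493161)) (tt N88954 F486481))
theorem Q113649 : ∀ i, i < 113649 → P i := stepQ 113648 Q113648 (allL N113648 (tt N86399 F486484) (tt N114693 F491391) (tt N88953 F486482) (tt N113096 F486483) (tt N115038 (iv4 F493159)) (tt N122335 D225594) (tt N83764 (iv6 D216903)) (tt N114692 (iv7 F491383)))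
theorem Q113650 : ∀ i, i < 113650 → P i := stepQ 113649 Q113649 (allL N113649 (tt N88950 (iv1 F486487)) (tt N83765 (iv0 D216904)) (tt N85529 (iv2 F486486)) (tt N95198 (iv3 F486489)) (tt N85527 F486485) (tt N115598 (iv5 F495928)) (tt N114918 F492531) (tt N88956 F486488))
theorem Q113651 : ∀ i, i < 113651 → P i := stepQ 113650 Q113650 (allL N113650 (tt N121159 (iv1 F524853)) (tt N113877 (iv0 F487582)) (tt N115397 (iv2 F494983)) (tt N88957 F486490) (tt N112266 F486492) (tt N83765 (iv5 D216905)) (tt N115536 (iv6 F495678)) (tt N88957 F486491))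
theorem Q113652 : ∀ i, i < 113652 → P i := stepQ 113651 Q113651 (allL N113651 (tt N118377 (iv1 F510019)) (tt N118376 F510014) (tt N118194 (iv2 F509075)) (tt N88958 F486493) (tt N83766 F486494) (tt N118372 (iv5 F509991)) (tt N83765 (iv6 D216906)) (tt N118371 F509988))
theorem Q113653 : ∀ i, i < 113653 → P i := stepQ 113652 Q113652 (allL N113652 (tt N118378 (iv1 F510029)) (tt N83766 (iv0 D216907)) (tt N119176 (iv2 F514202)) (tt N91050 F486495) (tt N119114 (iv4 F513859)) (tt N91049 F486496) (tt N119113 (iv6 F513856)) (tt N121132 (iv7 F524686)))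
theorem Q113654 : ∀ i, i < 113654 → P i := stepQ 113653 Q113653 (allL N113653 (tt N83766 (iv1 D216908)) (tt N118378 (iv0 F510030)) (tt N121132 (iv2 F524682)) (tt N101375 (iv3 F486497)) (tt N101382 F486498) (tt N122336 D225595) (tt N101374 F486499) (tt N119176 (iv7 F514206)))
theorem Q113655 : ∀ i, i < 113655 → P i := stepQ 113654 Q113654 (allL N113654 (tt N121132 (iv1 F524688)) (tt N119176 (iv0 F514207)) (tt N118378 (iv2 F510025)) (tt N83768 F486500) (tt N118371 (iv4 F509987)) (tt N116394 (iv5 F499860)) (tt N88961 F486501) (tt N83766 (iv7 D216909)))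
theorem Q113656 : ∀ i, i < 113656 → P i := stepQ 113655 Q113655 (allL N113655 (tt N112238 F486507) (tt N87415 F486508) (tt N108524 F486502) (tt N87437 F486503) (tt N99668 F486504) (tt N83770 (iv5 D216910)) (tt N99682 F486505) (tt N108519 F486506))
theorem Q113657 : ∀ i, i < 113657 → P i := stepQ 113656 Q113656 (allL N113656 (tt N112464 (iv1 F486511)) (tt N83774 (iv0 D216911)) (tt N112462 (iv2 F491446)) (tt N114168 (iv3 F488827)) (tt N112275 F486509) (tt N115812 (iv5 F497023)) (tt N90645 F486510) (tt N112463 (iv7 F491448)))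
theorem Q113658 : ∀ i, i < 113658 → P i := stepQ 113657 Q113657 (allL N113657 (tt N83774 (iv1 D216912)) (tt N112464 F486512) (tt N112463 F491449) (tt N122337 D225596) (tt N112276 (iv4 F486513)) (tt N115376 (iv5 F494886)) (tt N122338 D225597) (tt N112462 F491447))
theorem Q113659 : ∀ i, i < 113659 → P i := stepQ 113658 Q113658 (allL N113658 (tt N112463 (iv1 F486517)) (tt N112462 (iv0 F486518)) (tt N112464 F486514) (tt N121722 (iv3 F527951)) (tt N100554 F486515) (tt N83784 F486516) (tt N122060 (iv6 F529921)) (tt N83774 (iv7 D216913)))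
theorem Q113660 : ∀ i, i < 113660 → P i := stepQ 113659 Q113659 (allL N113659 (tt N120756 (iv1 F522549)) (tt N114013 (iv0 F488202)) (tt N111566 F486519) (tt N87401 F486520) (tt N112105 F486521) (tt N87400 F486522) (tt N83775 (iv6 D216914)) (tt N122060 (iv7 F529922)))
theorem Q113661 : ∀ i, i < 113661 → P i := stepQ 113660 Q113660 (allL N113660 (tt N115464 (iv1 F495316)) (tt N83781 (iv0 D216915)) (tt N117682 (iv2 F506392)) (tt N113666 F486546) (tt N87492 F486523) (tt N108618 (iv5 F486526)) (tt N87491 (iv6 F486524)) (tt N108642 (iv7 F486525)))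
theorem Q113662 : ∀ i, i < 113662 → P i := stepQ 113661 Q113661 (allL N113661 (tt N83781 (iv1 D216916)) (tt N115464 F495315) (tt N108642 F486528) (tt N115686 F496314) (tt N119580 (iv4 F516364)) (tt N108619 F486529) (tt N97163 (iv6 F486527)) (tt N117682 (iv7 F506395)))
theorem Q113663 : ∀ i, i < 113663 → P i := stepQ 113662 Q113662 (allL N113662 (tt N108642 (iv1 F486533)) (tt N117682 F506397) (tt N115464 (iv2 F495312)) (tt N83784 F486530) (tt N104040 F486531) (tt N121722 (iv5 F527953)) (tt N112465 F486532) (tt N83781 (iv7 D216917)))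
theorem Q113664 : ∀ i, i < 113664 → P i := stepQ 113663 Q113663 (allL N113663 (tt N120241 (iv1 F519767)) (tt N108610 F486536) (tt N112459 F486534) (tt N122117 (iv3 F530273)) (tt N118727 F511772) (tt N83782 (iv5 D216918)) (tt N122074 (iv6 F530006)) (tt N112461 F486535))
theorem Q113665 : ∀ i, i < 113665 → P i := stepQ 113664 Q113664 (allL N113664 (tt N112053 (iv1 F486539)) (tt N113670 (iv0 F486557)) (tt N115282 (iv2 F494363)) (tt N83783 (iv3 D216919)) (tt N86525 (iv4 F486540)) (tt N122076 (iv5 F530019)) (tt N86524 F486537) (tt N112458 F486538))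
theorem Q113666 : ∀ i, i < 113666 → P i := stepQ 113665 Q113665 (allL N113665 (tt N108610 F486543) (tt N120241 (iv0 F519766)) (tt N112461 F486541) (tt N122076 (iv3 F530017)) (tt N118728 (iv4 F511774)) (tt N83783 (iv5 D216920)) (tt N122065 (iv6 F529952)) (tt N112459 F486542))
theorem Q113667 : ∀ i, i < 113667 → P i := stepQ 113666 Q113666 (allL N113666 (tt N83789 (iv1 F486545)) (tt N83787 (iv0 D216921)) (tt N114271 F489323) (tt N113660 (iv3 F486546)) (tt N86772 F486544) (tt N121723 (iv5 F527959)) (tt N115693 (iv6 F496350)) (tt N114270 F489319))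
theorem Q113668 : ∀ i, i < 113668 → P i := stepQ 113667 Q113667 (allL N113667 (tt N83787 (iv1 D216922)) (tt N83789 F486547) (tt N114270 F489316) (tt N114821 (iv3 F492053)) (tt N100519 F486548) (tt N119192 (iv5 F514287)) (tt N97352 (iv6 F486549)) (tt N114271 (iv7 F489321)))
theorem Q113669 : ∀ i, i < 113669 → P i := stepQ 113668 Q113668 (allL N113668 (tt N114252 F489234) (tt N87113 (iv0 F486552)) (tt N115718 F496492) (tt N83787 (iv3 D216923)) (tt N104936 F486550) (tt N114140 (iv5 F488718)) (tt N116068 (iv6 F498306)) (tt N104934 F486551))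
theorem Q113670 : ∀ i, i < 113670 → P i := stepQ 113669 Q113669 (allL N113669 (tt N115703 (iv1 F496411)) (tt N115705 F496419) (tt N115391 (iv2 F494956)) (tt N114140 F488719) (tt N113877 (iv4 F487581)) (tt N83787 (iv5 D216924)) (tt N95356 F486553) (tt N114272 (iv7 F489327)))
theorem Q113671 : ∀ i, i < 113671 → P i := stepQ 113670 Q113670 (allL N113670 (tt N113664 F486557) (tt N111745 (iv0 F486558)) (tt N122158 (iv2 F530487)) (tt N83789 (iv3 D216925)) (tt N85760 F486554) (tt N122339 D225598) (tt N97179 F486555) (tt N91249 F486556))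
theorem Q113672 : ∀ i, i < 113672 → P i := stepQ 113671 Q113671 (allL N113671 (tt N115705 (iv1 F496420)) (tt N115703 (iv0 F496410)) (tt N114272 (iv2 F489324)) (tt N122339 (iv3 F531508)) (tt N121159 (iv4 F524849)) (tt N83789 (iv5 D216926)) (tt N88097 F486559) (tt N115391 (iv7 F494958)))
theorem Q113673 : ∀ i, i < 113673 → P i := stepQ 113672 Q113672 (allL N113672 (tt N112256 F486564) (tt N112267 F486563) (tt N83797 F486560) (tt N122190 (iv3 F530678)) (tt N88957 F486562) (tt N83790 (iv5 D216927)) (tt N122340 D225599) (tt N112266 F486561))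
theorem Q113674 : ∀ i, i < 113674 → P i := stepQ 113673 Q113673 (allL N113673 (tt N83801 (iv1 F486571)) (tt N83791 (iv0 D216928)) (tt N83799 (iv2 F486568)) (tt N86456 F486569) (tt N97338 F486565) (tt N106392 F486566) (tt N97191 F486567) (tt N83800 F486570))
theorem Q113675 : ∀ i, i < 113675 → P i := stepQ 113674 Q113674 (allL N113674 (tt N83800 (iv1 F486577)) (tt N83799 F486578) (tt N83801 F486572) (tt N97196 F486573) (tt N112698 F486574) (tt N105964 F486575) (tt N97183 F486576) (tt N83791 (iv7 D216929)))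
theorem Q113676 : ∀ i, i < 113676 → P i := stepQ 113675 Q113675 (allL N113675 (tt N105773 (iv1 F486585)) (tt N105775 (iv0 F486584)) (tt N86684 F486579) (tt N83794 F486580) (tt N104996 F486581) (tt N91030 F486582) (tt N83792 (iv6 D216930)) (tt N98756 F486583))
theorem Q113677 : ∀ i, i < 113677 → P i := stepQ 113676 Q113676 (allL N113676 (tt N120514 (iv1 F521196)) (tt N120513 (iv0 F521189)) (tt N115393 (iv2 F494966)) (tt N104997 F486586) (tt N115340 (iv4 F494679)) (tt N83793 (iv5 D216931)) (tt N115997 (iv6 F497965)) (tt N108629 F486587))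
theorem Q113678 : ∀ i, i < 113678 → P i := stepQ 113677 Q113677 (allL N113677 (tt N103903 (iv1 F486591)) (tt N104983 F486592) (tt N104984 F486588) (tt N83795 (iv3 D216932)) (tt N114846 (iv4 F492159)) (tt N120506 (iv5 F521145)) (tt N112403 F486589) (tt N104985 F486590))
theorem Q113679 : ∀ i, i < 113679 → P i := stepQ 113678 Q113678 (allL N113678 (tt N87541 F486597) (tt N86407 F486596) (tt N114071 (iv2 F488440)) (tt N86000 F486598) (tt N83795 (iv4 D216933)) (tt N85831 F486595) (tt N98736 F486593) (tt N86533 F486594))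
theorem Q113680 : ∀ i, i < 113680 → P i := stepQ 113679 Q113679 (allL N113679 (tt N116373 (iv1 F499767)) (tt N113619 F486599) (tt N115395 (iv2 F494972)) (tt N120506 (iv3 F521147)) (tt N115925 (iv4 F497609)) (tt N83795 (iv5 D216934)) (tt N115923 F497602) (tt N115394 (iv7 F494970)))
theorem Q113681 : ∀ i, i < 113681 → P i := stepQ 113680 Q113680 (allL N113680 (tt N122185 (iv1 F530658)) (tt N121807 (iv0 F528442)) (tt N121712 (iv2 F527903)) (tt N83797 F486600) (tt N122341 D225600) (tt N83796 (iv5 D216935)) (tt N97234 F486601) (tt N112455 F486602))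
theorem Q113682 : ∀ i, i < 113682 → P i := stepQ 113681 Q113681 (allL N113681 (tt N83797 (iv1 D216936)) (tt N112266 F486603) (tt N112267 F486607) (tt N88051 (iv3 F486606)) (tt N122334 (iv4 F531479)) (tt N91197 F486605) (tt N88049 F486608) (tt N112256 F486604))
theorem Q113683 : ∀ i, i < 113683 → P i := stepQ 113682 Q113682 (allL N113682 (tt N113877 (iv1 F487583)) (tt N121159 (iv0 F524852)) (tt N88957 F486609) (tt N118388 (iv3 F510082)) (tt N83797 (iv4 D216937)) (tt N88950 F486610) (tt N118385 (iv6 F510071)) (tt N115397 (iv7 F494986)))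
theorem Q113684 : ∀ i, i < 113684 → P i := stepQ 113683 Q113683 (allL N113683 (tt N111410 F495437) (tt N117663 (iv0 F506287)) (tt N122340 (iv2 F531514)) (tt N97234 F486611) (tt N118385 (iv4 F510069)) (tt N97229 F486612) (tt N83797 (iv6 D216938)) (tt N115535 (iv7 F495676)))
theorem Q113685 : ∀ i, i < 113685 → P i := stepQ 113684 Q113684 (allL N113684 (tt N83822 (iv1 F486618)) (tt N104029 (iv0 F486617)) (tt N112469 F486613) (tt N87151 F486614) (tt N108646 F486615) (tt N86666 F486616) (tt N83805 (iv6 D216939)) (tt N115390 (iv7 F494955)))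
theorem Q113686 : ∀ i, i < 113686 → P i := stepQ 113685 Q113685 (allL N113685 (tt N111327 F486623) (tt N86588 F486624) (tt N111328 F486619) (tt N93983 F486620) (tt N107987 F486622) (tt N83809 (iv5 D216940)) (tt N117744 (iv6 F506751)) (tt N111329 F486621))
theorem Q113687 : ∀ i, i < 113687 → P i := stepQ 113686 Q113686 (allL N113686 (tt N88203 F486630) (tt N87889 F486631) (tt N83814 F486625) (tt N99707 F486626) (tt N97226 F486627) (tt N94084 F486628) (tt N83813 (iv6 D216941)) (tt N88204 F486629))
theorem Q113688 : ∀ i, i < 113688 → P i := stepQ 113687 Q113687 (allL N113687 (tt N87889 (iv1 F486637)) (tt N88203 F486638) (tt N88204 F486632) (tt N83818 F486633) (tt N97232 F486634) (tt N87361 F486635) (tt N87884 F486636) (tt N83814 (iv7 D216942)))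
theorem Q113689 : ∀ i, i < 113689 → P i := stepQ 113688 Q113688 (allL N113688 (tt N113930 (iv1 F487840)) (tt N112055 (iv0 F486643)) (tt N97310 F486639) (tt N83815 (iv3 D216943)) (tt N122342 D225601) (tt N104326 F486640) (tt N92211 F486641) (tt N105254 F486642))
theorem Q113690 : ∀ i, i < 113690 → P i := stepQ 113689 Q113689 (allL N113689 (tt N112472 F486649) (tt N108646 (iv0 F486648)) (tt N112466 F486644) (tt N87612 F486645) (tt N87614 F486646) (tt N122343 D225602) (tt N83816 (iv6 D216944)) (tt N112470 F486647))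
theorem Q113691 : ∀ i, i < 113691 → P i := stepQ 113690 Q113690 (allL N113690 (tt N83817 (iv1 D216945)) (tt N112467 F486650) (tt N96186 F486655) (tt N107596 (iv3 F486653)) (tt N96185 F486652) (tt N114548 (iv5 F490718)) (tt N106808 (iv6 F486654)) (tt N109536 F486651))
theorem Q113692 : ∀ i, i < 113692 → P i := stepQ 113691 Q113691 (allL N113691 (tt N96186 (iv1 F486660)) (tt N109536 F486661) (tt N112467 F486656) (tt N87361 F486657) (tt N113885 (iv4 F487629)) (tt N83818 F486658) (tt N87358 F486659) (tt N83817 (iv7 D216946)))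
theorem Q113693 : ∀ i, i < 113693 → P i := stepQ 113692 Q113692 (allL N113692 (tt N83819 (iv1 D216947)) (tt N83821 F486662) (tt N115388 (iv2 F494942)) (tt N105675 (iv3 F486665)) (tt N94496 F486664) (tt N117413 (iv5 F504913)) (tt N85306 F486666) (tt N86032 F486663))
theorem Q113694 : ∀ i, i < 113694 → P i := stepQ 113693 Q113693 (allL N113693 (tt N109644 F486671) (tt N114464 F490315) (tt N112014 F486667) (tt N89044 F486668) (tt N83819 (iv4 D216948)) (tt N94534 F486670) (tt N111020 (iv6 F486672)) (tt N89748 F486669))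
theorem Q113695 : ∀ i, i < 113695 → P i := stepQ 113694 Q113694 (allL N113694 (tt N115041 (iv1 F493178)) (tt N115040 (iv0 F493173)) (tt N109083 F486673) (tt N120449 (iv3 F520839)) (tt N111020 F486674) (tt N86211 F486675) (tt N83819 (iv6 D216949)) (tt N85319 F486676))
theorem Q113696 : ∀ i, i < 113696 → P i := stepQ 113695 Q113695 (allL N113695 (tt N109700 (iv1 F486680)) (tt N109753 F486679) (tt N83820 (iv2 D216950)) (tt N115389 (iv3 F494943)) (tt N113768 (iv4 F487031)) (tt N118444 (iv5 F510388)) (tt N87574 F486677) (tt N109752 F486678))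
theorem Q113697 : ∀ i, i < 113697 → P i := stepQ 113696 Q113696 (allL N113696 (tt N115221 F494086) (tt N115226 F494115) (tt N113768 (iv2 F487029)) (tt N113095 F486681) (tt N83820 (iv4 D216951)) (tt N109619 F486684) (tt N86659 F486682) (tt N111330 F486683))
theorem Q113698 : ∀ i, i < 113698 → P i := stepQ 113697 Q113697 (allL N113697 (tt N114464 (iv1 F490316)) (tt N109644 F486689) (tt N89748 F486685) (tt N118343 F509810) (tt N83821 (iv4 D216952)) (tt N86139 F486686) (tt N85314 F486687) (tt N112014 F486688))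
theorem Q113699 : ∀ i, i < 113699 → P i := stepQ 113698 Q113698 (allL N113698 (tt N104029 F486695) (tt N83822 (iv0 D216953)) (tt N115390 F494953) (tt N96768 F486692) (tt N112472 F486691) (tt N86665 F486690) (tt N109245 F486693) (tt N112469 (iv7 F486694)))
theorem Q113700 : ∀ i, i < 113700 → P i := stepQ 113699 Q113699 (allL N113699 (tt N113636 F486697) (tt N93189 (iv0 F486698)) (tt N115325 (iv2 F494596)) (tt N115478 F495388) (tt N115308 (iv4 F494499)) (tt N83822 (iv5 D216954)) (tt N85315 F486696) (tt N115172 (iv7 F493844)))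
theorem Q113701 : ∀ i, i < 113701 → P i := stepQ 113700 Q113700 (allL N113700 (tt N112469 (iv1 F486703)) (tt N115390 F494954) (tt N104029 F486699) (tt N87575 F486700) (tt N104034 F486701) (tt N115172 (iv5 F493843)) (tt N86209 F486702) (tt N83822 (iv7 D216955)))
theorem Q113702 : ∀ i, i < 113702 → P i := stepQ 113701 Q113701 (allL N113701 (tt N83824 (iv1 D216956)) (tt N88258 F486704) (tt N84064 F486708) (tt N85531 (iv3 F486707)) (tt N112902 F486710) (tt N84879 F486706) (tt N109217 F486709) (tt N88448 F486705))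
theorem Q113703 : ∀ i, i < 113703 → P i := stepQ 113702 Q113702 (allL N113702 (tt N84895 (iv1 F486714)) (tt N83826 (iv0 D216957)) (tt N114762 (iv2 F491730)) (tt N98322 (iv3 F486716)) (tt N86273 F486711) (tt N98518 F486712) (tt N98321 F486713) (tt N109658 F486715))
theorem Q113704 : ∀ i, i < 113704 → P i := stepQ 113703 Q113703 (allL N113703 (tt N113162 F486724) (tt N86779 (iv0 F486725)) (tt N112915 F486719) (tt N83852 F486720) (tt N83949 F486721) (tt N112564 F486722) (tt N83827 (iv6 D216958)) (tt N106904 F486723))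
theorem Q113705 : ∀ i, i < 113705 → P i := stepQ 113704 Q113704 (allL N113704 (tt N84720 F486731) (tt N109409 (iv0 F486732)) (tt N99918 F486726) (tt N83840 F486727) (tt N99760 F486728) (tt N113178 F486729) (tt N83834 (iv6 D216959)) (tt N96292 F486730))
theorem Q113706 : ∀ i, i < 113706 → P i := stepQ 113705 Q113705 (allL N113705 (tt N84192 (iv1 F486738)) (tt N111989 F486739) (tt N102083 F486733) (tt N83841 F486734) (tt N88276 F486735) (tt N88392 F486736) (tt N88275 F486737) (tt N83835 (iv7 D216960)))
theorem Q113707 : ∀ i, i < 113707 → P i := stepQ 113706 Q113706 (allL N113706 (tt N84231 F486745) (tt N84230 F486746) (tt N83851 F486740) (tt N99743 F486741) (tt N83847 (iv4 D216961)) (tt N109592 F486742) (tt N99867 F486743) (tt N84223 F486744))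
theorem Q113708 : ∀ i, i < 113708 → P i := stepQ 113707 Q113707 (allL N113707 (tt N99938 F486752) (tt N105330 (iv0 F486753)) (tt N84229 F486747) (tt N100013 F486748) (tt N99788 F486749) (tt N90036 F486750) (tt N83849 (iv6 D216962)) (tt N99890 F486751))
theorem Q113709 : ∀ i, i < 113709 → P i := stepQ 113708 Q113708 (allL N113708 (tt N88037 F486758) (tt N87970 F486759) (tt N84210 F486754) (tt N84637 F486755) (tt N115896 (iv4 F497464)) (tt N83855 (iv5 D216963)) (tt N89246 F486756) (tt N102984 F486757))
theorem Q113710 : ∀ i, i < 113710 → P i := stepQ 113709 Q113709 (allL N113709 (tt N99939 F486764) (tt N117338 (iv0 F504532)) (tt N84216 F486760) (tt N108413 F486761) (tt N84359 F486762) (tt N113935 (iv5 F487863)) (tt N83857 (iv6 D216964)) (tt N90682 F486763))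
theorem Q113711 : ∀ i, i < 113711 → P i := stepQ 113710 Q113710 (allL N113710 (tt N87375 F486768) (tt N87413 F486769) (tt N84175 F486765) (tt N84501 F486766) (tt N114640 (iv4 F491145)) (tt N83859 (iv5 D216965)) (tt N122344 D225603) (tt N84041 F486767))
theorem Q113712 : ∀ i, i < 113712 → P i := stepQ 113711 Q113711 (allL N113711 (tt N84189 F486775) (tt N84188 F486776) (tt N83863 F486770) (tt N98497 F486771) (tt N83860 (iv4 D216966)) (tt N84818 F486774) (tt N86602 F486772) (tt N84177 F486773))
theorem Q113713 : ∀ i, i < 113713 → P i := stepQ 113712 Q113712 (allL N113712 (tt N84177 (iv1 F486781)) (tt N83863 (iv0 D216967)) (tt N84189 (iv2 F486780)) (tt N109690 F486779) (tt N87033 F486778) (tt N85230 F486777) (tt N91253 (iv6 F486783)) (tt N84188 F486782))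
theorem Q113714 : ∀ i, i < 113714 → P i := stepQ 113713 Q113713 (allL N113713 (tt N97182 F486787) (tt N121070 (iv0 F524358)) (tt N84268 F486784) (tt N87865 F486785) (tt N118070 (iv4 F508411)) (tt N83871 (iv5 D216968)) (tt N89305 F486786) (tt N115451 (iv7 F495257)))
theorem Q113715 : ∀ i, i < 113715 → P i := stepQ 113714 Q113714 (allL N113714 (tt N113920 (iv1 F487793)) (tt N90735 (iv0 F486790)) (tt N84276 F486788) (tt N117519 (iv3 F505482)) (tt N115100 (iv4 F493483)) (tt N83872 (iv5 D216969)) (tt N114783 (iv6 F491834)) (tt N84278 F486789))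
theorem Q113716 : ∀ i, i < 113716 → P i := stepQ 113715 Q113715 (allL N113715 (tt N90735 F486794) (tt N113920 (iv0 F487792)) (tt N84278 F486791) (tt N90536 F486792) (tt N113027 F486796) (tt N83873 (iv5 D216970)) (tt N89611 (iv6 F486795)) (tt N84276 F486793))
theorem Q113717 : ∀ i, i < 113717 → P i := stepQ 113716 Q113716 (allL N113716 (tt N110338 F486800) (tt N119553 (iv0 F516212)) (tt N84363 F486797) (tt N102975 F486798) (tt N116810 (iv4 F501959)) (tt N83878 (iv5 D216971)) (tt N89258 F486799) (tt N119361 (iv7 F515213)))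
theorem Q113718 : ∀ i, i < 113718 → P i := stepQ 113717 Q113717 (allL N113717 (tt N84215 (iv1 F486805)) (tt N84213 F486806) (tt N84364 F486801) (tt N87094 F486802) (tt N83882 F486803) (tt N119361 (iv5 F515212)) (tt N84401 F486804) (tt N83878 (iv7 D216972)))
theorem Q113719 : ∀ i, i < 113719 → P i := stepQ 113718 Q113718 (allL N113718 (tt N100970 F486811) (tt N112345 (iv0 F486812)) (tt N84366 F486807) (tt N120110 (iv3 F519096)) (tt N107201 F486810) (tt N83879 (iv5 D216973)) (tt N91009 F486808) (tt N84369 F486809))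
theorem Q113720 : ∀ i, i < 113720 → P i := stepQ 113719 Q113719 (allL N113719 (tt N88523 F486817) (tt N109265 (iv0 F486818)) (tt N97091 F486814) (tt N83880 (iv3 D216974)) (tt N97064 F486815) (tt N91134 (iv5 F486819)) (tt N97066 F486821) (tt N84365 F486816))
theorem Q113721 : ∀ i, i < 113721 → P i := stepQ 113720 Q113720 (allL N113720 (tt N108388 F486827) (tt N84350 F486828) (tt N84370 F486823) (tt N97066 F486824) (tt N96872 F486825) (tt N117389 (iv5 F504784)) (tt N83880 (iv6 D216975)) (tt N91003 F486826))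
theorem Q113722 : ∀ i, i < 113722 → P i := stepQ 113721 Q113721 (allL N113721 (tt N83881 (iv1 D216976)) (tt N84374 F486829) (tt N84372 (iv2 F486832)) (tt N114026 (iv3 F488255)) (tt N113922 (iv4 F487801)) (tt N91027 F486831) (tt N120972 (iv6 F523788)) (tt N84371 F486830))
theorem Q113723 : ∀ i, i < 113723 → P i := stepQ 113722 Q113722 (allL N113722 (tt N84387 (iv1 F486838)) (tt N84386 F486839) (tt N84389 F486833) (tt N107114 F486834) (tt N89255 F486835) (tt N85376 F486836) (tt N84410 F486837) (tt N83886 (iv7 D216977)))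
theorem Q113724 : ∀ i, i < 113724 → P i := stepQ 113723 Q113723 (allL N113723 (tt N84360 (iv1 F486846)) (tt N84359 F486845) (tt N83887 (iv2 D216978)) (tt N84400 F486840) (tt N108388 F486841) (tt N89252 F486842) (tt N87089 F486843) (tt N84361 F486844))
theorem Q113725 : ∀ i, i < 113725 → P i := stepQ 113724 Q113724 (allL N113724 (tt N84409 (iv1 F486851)) (tt N84408 F486852) (tt N84410 F486847) (tt N120525 (iv3 F521252)) (tt N89259 F486848) (tt N84424 F486849) (tt N84389 F486850) (tt N83891 (iv7 D216979)))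
theorem Q113726 : ∀ i, i < 113726 → P i := stepQ 113725 Q113725 (allL N113725 (tt N84417 F486856) (tt N113020 F486857) (tt N83898 F486853) (tt N88824 F486854) (tt N121558 (iv4 F527037)) (tt N83894 (iv5 D216980)) (tt N122182 (iv6 F530638)) (tt N83900 F486855))
theorem Q113727 : ∀ i, i < 113727 → P i := stepQ 113726 Q113726 (allL N113726 (tt N113020 F486861) (tt N84417 F486862) (tt N83900 F486858) (tt N88585 F486859) (tt N121553 (iv4 F527010)) (tt N83895 (iv5 D216981)) (tt N121555 (iv6 F527020)) (tt N83898 F486860))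
theorem Q113728 : ∀ i, i < 113728 → P i := stepQ 113727 Q113727 (allL N113727 (tt N83905 (iv1 F486867)) (tt N83896 (iv0 D216982)) (tt N83902 (iv2 F486864)) (tt N88826 (iv3 F486866)) (tt N122304 (iv4 F531299)) (tt N84975 F486863) (tt N122335 (iv6 F531486)) (tt N83903 F486865))
theorem Q113729 : ∀ i, i < 113729 → P i := stepQ 113728 Q113728 (allL N113728 (tt N83903 (iv1 F486872)) (tt N83902 F486873) (tt N83905 F486868) (tt N88535 F486869) (tt N113366 F486870) (tt N83897 F486871) (tt N116569 F500782) (tt N83896 (iv7 D216983)))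
theorem Q113730 : ∀ i, i < 113730 → P i := stepQ 113729 Q113729 (allL N113729 (tt N112929 F486874) (tt N112932 F486875) (tt N121558 (iv2 F527035)) (tt N118530 (iv3 F510816)) (tt N83898 (iv4 D216984)) (tt N121552 (iv5 F526999)) (tt N118528 (iv6 F510809)) (tt N121553 (iv7 F527009)))
theorem Q113731 : ∀ i, i < 113731 → P i := stepQ 113730 Q113730 (allL N113730 (tt N122345 D225604) (tt N117333 (iv0 F504506)) (tt N122182 (iv2 F530636)) (tt N120182 (iv3 F519472)) (tt N118528 F510808) (tt N90900 F486876) (tt N83898 (iv6 D216985)) (tt N121322 (iv7 F525757)))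
theorem Q113732 : ∀ i, i < 113732 → P i := stepQ 113731 Q113731 (allL N113731 (tt N88589 (iv1 F486881)) (tt N88582 (iv0 F486882)) (tt N88587 F486877) (tt N83902 (iv3 D216986)) (tt N112887 F486880) (tt N84889 F486878) (tt N114494 (iv6 F490451)) (tt N88588 F486879))
theorem Q113733 : ∀ i, i < 113733 → P i := stepQ 113732 Q113732 (allL N113732 (tt N112925 F486883) (tt N112913 F486884) (tt N122304 F531300) (tt N121181 (iv3 F524984)) (tt N83902 (iv4 D216987)) (tt N110541 (iv5 F486885)) (tt N122346 D225605) (tt N116527 (iv7 F500615)))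
theorem Q113734 : ∀ i, i < 113734 → P i := stepQ 113733 Q113733 (allL N113733 (tt N122347 D225606) (tt N114698 (iv0 F491634)) (tt N122335 (iv2 F531484)) (tt N114494 F490453) (tt N122346 (iv4 F531552)) (tt N88953 F486886) (tt N83902 (iv6 D216988)) (tt N116708 (iv7 F501422)))
theorem Q113735 : ∀ i, i < 113735 → P i := stepQ 113734 Q113734 (allL N113734 (tt N112913 F486888) (tt N112925 F486889) (tt N116527 (iv2 F500614)) (tt N122348 D225607) (tt N83903 (iv4 D216989)) (tt N94200 F486887) (tt N119108 (iv6 F513832)) (tt N122304 (iv7 F531302)))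
theorem Q113736 : ∀ i, i < 113736 → P i := stepQ 113735 Q113735 (allL N113735 (tt N118516 F510772) (tt N118507 (iv0 F510744)) (tt N117828 (iv2 F507158)) (tt N83904 (iv3 D216990)) (tt N83906 F486890) (tt N106564 (iv5 F486892)) (tt N97106 F486891) (tt N118514 (iv7 F510763)))
theorem Q113737 : ∀ i, i < 113737 → P i := stepQ 113736 Q113736 (allL N113736 (tt N120723 (iv1 F522361)) (tt N117922 (iv0 F507613)) (tt N119759 (iv2 F517272)) (tt N106564 F486893) (tt N98078 F486896) (tt N83904 (iv5 D216991)) (tt N106563 F486894) (tt N98077 F486895))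
theorem Q113738 : ∀ i, i < 113738 → P i := stepQ 113737 Q113737 (allL N113737 (tt N116570 F500787) (tt N116571 F500790) (tt N116569 (iv2 F500783)) (tt N83908 F486897) (tt N94120 F486898) (tt N84342 F486899) (tt N83905 (iv6 D216992)) (tt N116566 (iv7 F500765)))
theorem Q113739 : ∀ i, i < 113739 → P i := stepQ 113738 Q113738 (allL N113738 (tt N116261 (iv1 F499264)) (tt N83906 (iv0 D216993)) (tt N122349 D225608) (tt N114699 F491409) (tt N122350 D225609) (tt N114436 F490159) (tt N114698 (iv6 F491412)) (tt N122273 (iv7 F531104)))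
theorem Q113740 : ∀ i, i < 113740 → P i := stepQ 113739 Q113739 (allL N113739 (tt N83906 (iv1 D216994)) (tt N116261 (iv0 F499263)) (tt N122273 (iv2 F531102)) (tt N106980 F486901) (tt N121470 (iv4 F526556)) (tt N106977 (iv5 F486900)) (tt N122351 D225610) (tt N122349 (iv7 F531566)))
theorem Q113741 : ∀ i, i < 113741 → P i := stepQ 113740 Q113740 (allL N113740 (tt N122349 (iv1 F531567)) (tt N122273 (iv0 F531105)) (tt N83906 (iv2 D216995)) (tt N88576 F486902) (tt N117828 (iv4 F507160)) (tt N114952 (iv5 F492731)) (tt N116570 (iv6 F500786)) (tt N116261 (iv7 F499262)))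
theorem Q113742 : ∀ i, i < 113742 → P i := stepQ 113741 Q113741 (allL N113741 (tt N122273 F531106) (tt N122349 F531569) (tt N116261 (iv2 F499260)) (tt N83907 F486903) (tt N118514 (iv4 F510767)) (tt N84944 F486904) (tt N121467 (iv6 F526535)) (tt N83906 (iv7 D216996)))
theorem Q113743 : ∀ i, i < 113743 → P i := stepQ 113742 Q113742 (allL N113742 (tt N88569 (iv1 F486907)) (tt N83908 (iv0 D216997)) (tt N88579 (iv2 F486906)) (tt N108389 (iv3 F486909)) (tt N117629 (iv4 F506082)) (tt N108388 F486905) (tt N113814 (iv6 F487247)) (tt N88580 F486908))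
theorem Q113744 : ∀ i, i < 113744 → P i := stepQ 113743 Q113743 (allL N113743 (tt N113074 (iv1 F486913)) (tt N83910 (iv0 D216998)) (tt N84888 (iv2 F486912)) (tt N87637 (iv3 F486915)) (tt N86308 F486911) (tt N84747 F486910) (tt N114293 F489435) (tt N84882 F486914))
theorem Q113745 : ∀ i, i < 113745 → P i := stepQ 113744 Q113744 (allL N113744 (tt N105720 F486921) (tt N100949 F486922) (tt N83916 F486916) (tt N88618 F486917) (tt N94704 F486920) (tt N83914 (iv5 D216999)) (tt N84985 F486918) (tt N105741 F486919))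
theorem Q113746 : ∀ i, i < 113746 → P i := stepQ 113745 Q113745 (allL N113745 (tt N91103 F486926) (tt N106317 F486927) (tt N96167 F486923) (tt N106929 F486924) (tt N96155 F486928) (tt N83915 (iv5 D217000)) (tt N112353 (iv6 F486929)) (tt N96164 F486925))
theorem Q113747 : ∀ i, i < 113747 → P i := stepQ 113746 Q113746 (allL N113746 (tt N100949 (iv1 F486934)) (tt N105720 F486935) (tt N105741 F486930) (tt N83919 F486931) (tt N116982 (iv4 F502812)) (tt N83917 F486932) (tt N90906 F486933) (tt N83916 (iv7 D217001)))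
theorem Q113748 : ∀ i, i < 113748 → P i := stepQ 113747 Q113747 (allL N113747 (tt N117113 (iv1 F503468)) (tt N114674 (iv0 F491313)) (tt N86343 F486936) (tt N107409 F486937) (tt N89226 F486938) (tt N83934 F486939) (tt N83918 (iv6 D217002)) (tt N86334 F486940))
theorem Q113749 : ∀ i, i < 113749 → P i := stepQ 113748 Q113748 (allL N113748 (tt N112553 F486945) (tt N120462 (iv0 F520909)) (tt N110722 F486941) (tt N112581 F486942) (tt N83920 (iv4 D217003)) (tt N110747 F486944) (tt N88990 F486943) (tt N121799 (iv7 F528393)))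
theorem Q113750 : ∀ i, i < 113750 → P i := stepQ 113749 Q113749 (allL N113749 (tt N110068 F486950) (tt N100049 F486951) (tt N110165 F486946) (tt N83925 F486947) (tt N105334 F486948) (tt N83924 (iv5 D217004)) (tt N114688 (iv6 F491371)) (tt N106558 F486949))
theorem Q113751 : ∀ i, i < 113751 → P i := stepQ 113750 Q113750 (allL N113750 (tt N88926 (iv1 F486956)) (tt N83926 (iv0 D217005)) (tt N88924 (iv2 F486960)) (tt N107977 (iv3 F486958)) (tt N85573 (iv4 F486961)) (tt N114264 (iv5 F489294)) (tt N83944 F486959) (tt N88925 (iv7 F486962)))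
theorem Q113752 : ∀ i, i < 113752 → P i := stepQ 113751 Q113751 (allL N113751 (tt N83926 (iv1 D217006)) (tt N88926 F486952) (tt N88925 (iv2 F486963)) (tt N118971 (iv3 F513045)) (tt N114761 (iv4 F491720)) (tt N114265 F489299) (tt N115081 (iv6 F493390)) (tt N88924 F486964))
theorem Q113753 : ∀ i, i < 113753 → P i := stepQ 113752 Q113752 (allL N113752 (tt N88925 (iv1 F486957)) (tt N88924 F486965) (tt N88926 F486953) (tt N121191 (iv3 F525047)) (tt N114399 (iv4 F489963)) (tt N84744 F486954) (tt N88931 F486955) (tt N83926 (iv7 D217007)))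
theorem Q113754 : ∀ i, i < 113754 → P i := stepQ 113753 Q113753 (allL N113753 (tt N116688 (iv1 F501310)) (tt N104618 (iv0 F486968)) (tt N120826 F522948) (tt N83928 F486966) (tt N103498 F486967) (tt N116380 (iv5 F499801)) (tt N83927 (iv6 D217008)) (tt N117753 (iv7 F506794)))
theorem Q113755 : ∀ i, i < 113755 → P i := stepQ 113754 Q113754 (allL N113754 (tt N88930 (iv1 F486972)) (tt N88929 F486973) (tt N88931 F486969) (tt N117753 (iv3 F506797)) (tt N115082 (iv4 F493396)) (tt N95958 F486970) (tt N88926 F486971) (tt N83928 (iv7 D217009)))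
theorem Q113756 : ∀ i, i < 113756 → P i := stepQ 113755 Q113755 (allL N113755 (tt N112902 F486976) (tt N106404 F486977) (tt N86727 F486974) (tt N120864 (iv3 F523153)) (tt N83929 (iv4 D217010)) (tt N122352 D225611) (tt N120862 F523145) (tt N88531 F486975))
theorem Q113757 : ∀ i, i < 113757 → P i := stepQ 113756 Q113756 (allL N113756 (tt N88932 (iv1 F486979)) (tt N83930 (iv0 D217011)) (tt N88938 (iv2 F486986)) (tt N107084 F486978) (tt N113843 (iv4 F487401)) (tt N116371 (iv5 F499755)) (tt N116749 (iv6 F501624)) (tt N88937 F486987))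
theorem Q113758 : ∀ i, i < 113758 → P i := stepQ 113757 Q113757 (allL N113757 (tt N83930 (iv1 D217012)) (tt N88932 F486980) (tt N88937 (iv2 F486982)) (tt N103191 (iv3 F486983)) (tt N84880 F486981) (tt N116372 (iv5 F499761)) (tt N103190 (iv6 F486984)) (tt N88938 (iv7 F486985)))
theorem Q113759 : ∀ i, i < 113759 → P i := stepQ 113758 Q113758 (allL N113758 (tt N121042 (iv1 F524185)) (tt N122353 D225612) (tt N116059 (iv2 F498270)) (tt N88939 F486988) (tt N116052 (iv4 F498244)) (tt N83930 (iv5 D217013)) (tt N120708 (iv6 F522260)) (tt N88939 F486989))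
theorem Q113760 : ∀ i, i < 113760 → P i := stepQ 113759 Q113759 (allL N113759 (tt N99982 F486992) (tt N104592 F486993) (tt N120746 (iv2 F522482)) (tt N88940 F486990) (tt N83931 F486991) (tt N103495 F486994) (tt N83930 (iv6 D217014)) (tt N120751 (iv7 F522520)))
theorem Q113761 : ∀ i, i < 113761 → P i := stepQ 113760 Q113760 (allL N113760 (tt N113101 (iv1 F486997)) (tt N109108 F486998) (tt N121221 (iv2 F525208)) (tt N83935 F486995) (tt N120751 (iv4 F522515)) (tt N116487 (iv5 F500398)) (tt N88943 F486996) (tt N83931 (iv7 D217015)))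
theorem Q113762 : ∀ i, i < 113762 → P i := stepQ 113761 Q113761 (allL N113761 (tt N86305 F487001) (tt N88972 F487002) (tt N83937 F486999) (tt N119137 (iv3 F513987)) (tt N83936 (iv4 D217016)) (tt N120562 (iv5 F521466)) (tt N118950 F512932) (tt N88970 F487000))
theorem Q113763 : ∀ i, i < 113763 → P i := stepQ 113762 Q113762 (allL N113762 (tt N116363 (iv1 F499728)) (tt N114748 (iv0 F491648)) (tt N120562 (iv2 F521464)) (tt N88973 F487003) (tt N118960 (iv4 F512983)) (tt N83937 (iv5 D217017)) (tt N111429 (iv6 F487005)) (tt N88973 F487004))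
theorem Q113764 : ∀ i, i < 113764 → P i := stepQ 113763 Q113763 (allL N113763 (tt N119133 (iv1 F513964)) (tt N116031 (iv0 F498144)) (tt N118950 (iv2 F512927)) (tt N88974 F487006) (tt N83938 F487007) (tt N96858 F487008) (tt N83937 (iv6 D217018)) (tt N118949 (iv7 F512924)))
theorem Q113765 : ∀ i, i < 113765 → P i := stepQ 113764 Q113764 (allL N113764 (tt N88966 F487011) (tt N88965 F487012) (tt N83941 F487009) (tt N119140 (iv3 F514004)) (tt N83940 (iv4 D217019)) (tt N116009 F498029) (tt N119139 F514002) (tt N88964 F487010))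
theorem Q113766 : ∀ i, i < 113766 → P i := stepQ 113765 Q113765 (allL N113765 (tt N83941 (iv1 D217020)) (tt N88964 F487013) (tt N88965 F487017) (tt N120993 (iv3 F523907)) (tt N85561 F487015) (tt N122353 (iv5 F531586)) (tt N103629 (iv6 F487016)) (tt N88966 F487014))
theorem Q113767 : ∀ i, i < 113767 → P i := stepQ 113766 Q113766 (allL N113766 (tt N116351 (iv1 F499671)) (tt N116353 (iv0 F499679)) (tt N116009 (iv2 F498027)) (tt N88967 F487018) (tt N87389 F487021) (tt N83941 (iv5 D217021)) (tt N87388 F487019) (tt N88967 F487020))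
theorem Q113768 : ∀ i, i < 113768 → P i := stepQ 113767 Q113767 (allL N113767 (tt N88906 F487026) (tt N89760 F487027) (tt N88980 F487022) (tt N107976 F487023) (tt N94741 F487024) (tt N83944 (iv5 D217022)) (tt N89058 F487028) (tt N88978 F487025))
theorem Q113769 : ∀ i, i < 113769 → P i := stepQ 113768 Q113768 (allL N113768 (tt N86538 F487034) (tt N109378 (iv0 F487035)) (tt N113696 F487029) (tt N88813 F487030) (tt N113695 F487031) (tt N109716 F487032) (tt N83951 (iv6 D217023)) (tt N109725 F487033))
theorem Q113770 : ∀ i, i < 113770 → P i := stepQ 113769 Q113769 (allL N113769 (tt N115208 (iv1 F494025)) (tt N98084 (iv0 F487039)) (tt N119349 (iv2 F515150)) (tt N83953 (iv3 D217024)) (tt N110978 F487036) (tt N97315 (iv5 F487038)) (tt N83954 F487037) (tt N118099 (iv7 F508582)))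
theorem Q113771 : ∀ i, i < 113771 → P i := stepQ 113770 Q113770 (allL N113770 (tt N86494 F487042) (tt N86500 F487043) (tt N114366 (iv2 F489822)) (tt N97315 F487040) (tt N97260 F487041) (tt N83953 (iv5 D217025)) (tt N114864 F492235) (tt N118100 (iv7 F508590)))
theorem Q113772 : ∀ i, i < 113772 → P i := stepQ 113771 Q113771 (allL N113771 (tt N114862 (iv1 F492227)) (tt N83954 (iv0 D217026)) (tt N115308 F494503) (tt N114848 F492170) (tt N115325 (iv4 F494597)) (tt N115233 F494149) (tt N118061 (iv6 F508361)) (tt N115307 F494495))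
theorem Q113773 : ∀ i, i < 113773 → P i := stepQ 113772 Q113772 (allL N113772 (tt N83954 (iv1 D217027)) (tt N114862 F492226) (tt N115307 F494494) (tt N86505 (iv3 F493781)) (tt N115172 (iv4 F493842)) (tt N115234 (iv5 F494142)) (tt N86503 F493783) (tt N115308 (iv7 F494498)))
theorem Q113774 : ∀ i, i < 113774 → P i := stepQ 113773 Q113773 (allL N113773 (tt N115308 (iv1 F494497)) (tt N115307 F494493) (tt N83954 (iv2 D217028)) (tt N114866 (iv3 F492238)) (tt N114845 F492157) (tt N115255 (iv5 F494232)) (tt N119349 (iv6 F515151)) (tt N114862 (iv7 F492225)))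
theorem Q113775 : ∀ i, i < 113775 → P i := stepQ 113774 Q113774 (allL N113774 (tt N120357 (iv1 F520355)) (tt N121437 (iv0 F526371)) (tt N84430 F487044) (tt N108004 F487047) (tt N83957 (iv4 D217029)) (tt N108000 F487045) (tt N121510 (iv6 F526768)) (tt N88831 F487046))
theorem Q113776 : ∀ i, i < 113776 → P i := stepQ 113775 Q113775 (allL N113775 (tt N113025 F491341) (tt N116731 (iv0 F501548)) (tt N84431 F487048) (tt N88591 F487049) (tt N121510 (iv4 F526769)) (tt N89683 F487050) (tt N83957 (iv6 D217030)) (tt N121516 (iv7 F526807)))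
theorem Q113777 : ∀ i, i < 113777 → P i := stepQ 113776 Q113776 (allL N113776 (tt N114683 (iv1 F491349)) (tt N114682 F491346) (tt N88570 F487051) (tt N101079 F487052) (tt N83959 (iv4 D217031)) (tt N101076 F487055) (tt N101077 F487053) (tt N88833 F487054))
theorem Q113778 : ∀ i, i < 113778 → P i := stepQ 113777 Q113777 (allL N113777 (tt N88839 (iv1 F487057)) (tt N83960 (iv0 D217032)) (tt N88835 (iv2 F487056)) (tt N113608 (iv3 F487059)) (tt N116290 (iv4 F499392)) (tt N120405 (iv5 F520611)) (tt N114738 (iv6 F491597)) (tt N88836 F487058))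
theorem Q113779 : ∀ i, i < 113779 → P i := stepQ 113778 Q113778 (allL N113778 (tt N121530 (iv1 F526882)) (tt N121263 (iv0 F525454)) (tt N121325 (iv2 F525769)) (tt N83960 (iv3 D217033)) (tt N112901 F487060) (tt N107637 F487061) (tt N86473 F487062) (tt N121340 (iv7 F525860)))
theorem Q113780 : ∀ i, i < 113780 → P i := stepQ 113779 Q113779 (allL N113779 (tt N89643 F487069) (tt N89349 F487068) (tt N106614 F487063) (tt N100903 F487064) (tt N113165 F487065) (tt N83963 (iv5 D217034)) (tt N106609 F487066) (tt N110232 F487067))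
theorem Q113781 : ∀ i, i < 113781 → P i := stepQ 113780 Q113780 (allL N113780 (tt N104217 F487074) (tt N104216 F487075) (tt N87577 F487070) (tt N105773 F487071) (tt N91213 F487072) (tt N83966 (iv5 D217035)) (tt N87576 (iv6 F487076)) (tt N104209 F487073))
theorem Q113782 : ∀ i, i < 113782 → P i := stepQ 113781 Q113781 (allL N113781 (tt N86588 F487081) (tt N111327 (iv0 F487082)) (tt N111329 F487077) (tt N98723 F487078) (tt N83967 F487079) (tt N113625 F487080) (tt N83966 (iv6 D217036)) (tt N111328 F487083))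
theorem Q113783 : ∀ i, i < 113783 → P i := stepQ 113782 Q113782 (allL N113782 (tt N83967 (iv1 D217037)) (tt N107987 F487084) (tt N88893 F487090) (tt N83992 (iv3 F487088)) (tt N97051 F487087) (tt N85422 F487086) (tt N94479 (iv6 F487089)) (tt N88707 F487085))
theorem Q113784 : ∀ i, i < 113784 → P i := stepQ 113783 Q113783 (allL N113783 (tt N88731 (iv1 F487093)) (tt N113459 F487094) (tt N114885 (iv2 F492342)) (tt N87043 F487091) (tt N117744 (iv4 F506750)) (tt N117392 (iv5 F504800)) (tt N107987 F487092) (tt N83969 (iv7 D217038)))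
theorem Q113785 : ∀ i, i < 113785 → P i := stepQ 113784 Q113784 (allL N113784 (tt N114409 F490007) (tt N120373 (iv0 F520439)) (tt N113133 F487095) (tt N97566 F487096) (tt N83976 (iv4 D217039)) (tt N120867 (iv5 F523170)) (tt N119493 (iv6 F515889)) (tt N88661 F487097))
theorem Q113786 : ∀ i, i < 113786 → P i := stepQ 113785 Q113785 (allL N113785 (tt N121926 F529109) (tt N108034 (iv0 F487101)) (tt N113134 F487098) (tt N83979 F487099) (tt N119493 (iv4 F515887)) (tt N89473 F487100) (tt N83976 (iv6 D217040)) (tt N115797 (iv7 F496942)))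
theorem Q113787 : ∀ i, i < 113787 → P i := stepQ 113786 Q113786 (allL N113786 (tt N117512 (iv1 F505438)) (tt N97903 (iv0 F487106)) (tt N97849 F487103) (tt N83980 (iv3 D217041)) (tt N120646 (iv4 F521938)) (tt N87528 F487104) (tt N115312 (iv6 F494526)) (tt N88652 F487105))
theorem Q113788 : ∀ i, i < 113788 → P i := stepQ 113787 Q113787 (allL N113787 (tt N105093 F487112) (tt N107045 (iv0 F487111)) (tt N107044 F487107) (tt N83984 F487108) (tt N105206 F487109) (tt N116401 (iv5 F499902)) (tt N83983 (iv6 D217042)) (tt N105256 F487110))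
theorem Q113789 : ∀ i, i < 113789 → P i := stepQ 113788 Q113788 (allL N113788 (tt N105761 F487117) (tt N120825 (iv0 F522942)) (tt N104536 F487113) (tt N83987 (iv3 D217043)) (tt N83989 F487114) (tt N104535 F487115) (tt N115836 (iv6 F497151)) (tt N88714 F487116))
theorem Q113790 : ∀ i, i < 113790 → P i := stepQ 113789 Q113789 (allL N113789 (tt N119495 F515903) (tt N122354 D225613) (tt N113135 F487118) (tt N115836 (iv3 F497149)) (tt N83988 F487119) (tt N119203 (iv5 F514341)) (tt N83987 (iv6 D217044)) (tt N122355 D225614))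
theorem Q113791 : ∀ i, i < 113791 → P i := stepQ 113790 Q113790 (allL N113790 (tt N113138 (iv1 F487123)) (tt N83988 (iv0 D217045)) (tt N113136 (iv2 F487121)) (tt N87039 F487120) (tt N119279 (iv4 F514790)) (tt N121228 (iv5 F525250)) (tt N121926 (iv6 F529106)) (tt N113137 F487122))
theorem Q113792 : ∀ i, i < 113792 → P i := stepQ 113791 Q113791 (allL N113791 (tt N113137 (iv1 F487128)) (tt N113136 F487129) (tt N113138 F487124) (tt N83993 F487125) (tt N122355 (iv4 F531600)) (tt N107092 F487126) (tt N88719 F487127) (tt N83988 (iv7 D217046)))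
theorem Q113793 : ∀ i, i < 113793 → P i := stepQ 113792 Q113792 (allL N113792 (tt N88722 (iv1 F487136)) (tt N88721 F487135) (tt N83989 (iv2 D217047)) (tt N88704 F487130) (tt N104536 F487131) (tt N92631 F487132) (tt N103462 F487133) (tt N88723 F487134))
theorem Q113794 : ∀ i, i < 113794 → P i := stepQ 113793 Q113793 (allL N113793 (tt N86917 F487141) (tt N88692 F487142) (tt N83999 F487137) (tt N104538 F487138) (tt N83995 (iv4 D217048)) (tt N102576 F487139) (tt N122356 D225615) (tt N88687 F487140))
theorem Q113795 : ∀ i, i < 113795 → P i := stepQ 113794 Q113794 (allL N113794 (tt N114380 F489882) (tt N122168 (iv0 F530549)) (tt N84000 F487143) (tt N88713 F487144) (tt N122356 (iv4 F531607)) (tt N116521 (iv5 F500594)) (tt N83995 (iv6 D217049)) (tt N122357 D225616))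
theorem Q113796 : ∀ i, i < 113796 → P i := stepQ 113795 Q113795 (allL N113795 (tt N103870 F487149) (tt N112916 F487150) (tt N88690 F487145) (tt N122354 F531595) (tt N83997 (iv4 D217050)) (tt N102921 F487146) (tt N104505 F487147) (tt N88689 F487148))
theorem Q113797 : ∀ i, i < 113797 → P i := stepQ 113796 Q113796 (allL N113796 (tt N120842 F523032) (tt N120969 (iv0 F523772)) (tt N120850 (iv2 F523073)) (tt N83999 (iv3 D217051)) (tt N84003 F487151) (tt N105755 F487152) (tt N120980 (iv6 F523841)) (tt N88693 F487153))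
theorem Q113798 : ∀ i, i < 113798 → P i := stepQ 113797 Q113797 (allL N113797 (tt N120818 F522899) (tt N120879 (iv0 F523248)) (tt N122356 (iv2 F531605)) (tt N120980 (iv3 F523839)) (tt N84000 F487154) (tt N122358 D225617) (tt N83999 (iv6 D217052)) (tt N121193 (iv7 F525056)))
theorem Q113799 : ∀ i, i < 113799 → P i := stepQ 113798 Q113798 (allL N113798 (tt N122357 (iv1 F531617)) (tt N84000 (iv0 D217053)) (tt N114380 (iv2 F489884)) (tt N116100 (iv3 F498454)) (tt N122359 D225618) (tt N116099 F498452) (tt N114379 F489885) (tt N122168 (iv7 F530548)))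
theorem Q113800 : ∀ i, i < 113800 → P i := stepQ 113799 Q113799 (allL N113799 (tt N84000 (iv1 D217054)) (tt N122357 F531616) (tt N122168 (iv2 F530544)) (tt N98577 (iv3 F487155)) (tt N120848 (iv4 F523065)) (tt N112340 (iv5 F487156)) (tt N88638 F487157) (tt N114380 (iv7 F489881)))
theorem Q113801 : ∀ i, i < 113801 → P i := stepQ 113800 Q113800 (allL N113800 (tt N122168 F530550) (tt N114380 (iv0 F489886)) (tt N122357 (iv2 F531611)) (tt N84007 F487158) (tt N121193 (iv4 F525055)) (tt N109889 F487159) (tt N88698 F487160) (tt N84000 (iv7 D217055)))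
theorem Q113802 : ∀ i, i < 113802 → P i := stepQ 113801 Q113801 (allL N113801 (tt N88704 (iv1 F487165)) (tt N84003 (iv0 D217056)) (tt N88703 (iv2 F487166)) (tt N113049 F487161) (tt N104495 (iv4 F487168)) (tt N88721 F487163) (tt N104493 F487164) (tt N88702 (iv7 F487169)))
theorem Q113803 : ∀ i, i < 113803 → P i := stepQ 113802 Q113802 (allL N113802 (tt N84003 (iv1 D217057)) (tt N88704 F487175) (tt N88702 F487174) (tt N92927 (iv3 F487172)) (tt N104534 (iv4 F487171)) (tt N88722 (iv5 F487173)) (tt N119410 F515473) (tt N88703 F487170))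
theorem Q113804 : ∀ i, i < 113804 → P i := stepQ 113803 Q113803 (allL N113803 (tt N88703 (iv1 F487181)) (tt N88702 F487180) (tt N84003 (iv2 D217058)) (tt N88723 F487176) (tt N120850 (iv4 F523075)) (tt N103263 F487177) (tt N103301 F487178) (tt N88704 F487179))
theorem Q113805 : ∀ i, i < 113805 → P i := stepQ 113804 Q113804 (allL N113804 (tt N88726 (iv1 F487187)) (tt N88725 F487188) (tt N88728 F487182) (tt N103303 F487183) (tt N84007 F487184) (tt N103302 F487185) (tt N88706 F487186) (tt N84004 (iv7 D217059)))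
theorem Q113806 : ∀ i, i < 113806 → P i := stepQ 113805 Q113805 (allL N113805 (tt N116510 (iv1 F500535)) (tt N103289 (iv0 F487193)) (tt N88730 F487189) (tt N85044 F487190) (tt N88727 F487191) (tt N113815 (iv5 F487252)) (tt N84005 (iv6 D217060)) (tt N88647 F487192))
theorem Q113807 : ∀ i, i < 113807 → P i := stepQ 113806 Q113806 (allL N113806 (tt N84008 (iv1 D217061)) (tt N87842 F487194) (tt N88758 (iv2 F487198)) (tt N107046 (iv3 F487199)) (tt N87349 F487197) (tt N104501 F487196) (tt N116443 (iv6 F500142)) (tt N88759 F487195))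
theorem Q113808 : ∀ i, i < 113808 → P i := stepQ 113807 Q113807 (allL N113807 (tt N120808 F522844) (tt N120881 (iv0 F523260)) (tt N104540 F487200) (tt N84008 (iv3 D217062)) (tt N84010 F487201) (tt N104634 F487202) (tt N104381 (iv6 F487204)) (tt N88760 F487203))
theorem Q113809 : ∀ i, i < 113809 → P i := stepQ 113808 Q113808 (allL N113808 (tt N103541 (iv1 F487209)) (tt N103534 (iv0 F487208)) (tt N103538 F487205) (tt N104381 F487206) (tt N84009 F487207) (tt N119665 F516801) (tt N84008 (iv6 D217063)) (tt N103539 (iv7 F487210)))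
theorem Q113810 : ∀ i, i < 113810 → P i := stepQ 113809 Q113809 (allL N113809 (tt N105266 (iv1 F487217)) (tt N84009 (iv0 D217064)) (tt N105268 (iv2 F487213)) (tt N87838 F487214) (tt N102601 F487215) (tt N106401 (iv5 F487218)) (tt N106089 F487212) (tt N102597 F487216))
theorem Q113811 : ∀ i, i < 113811 → P i := stepQ 113810 Q113810 (allL N113810 (tt N102597 (iv1 F487224)) (tt N105268 F487225) (tt N105266 F487220) (tt N84015 F487221) (tt N103539 F487222) (tt N121262 (iv5 F525446)) (tt N88765 F487223) (tt N84009 (iv7 D217065)))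
theorem Q113812 : ∀ i, i < 113812 → P i := stepQ 113811 Q113811 (allL N113811 (tt N84011 (iv1 D217066)) (tt N88750 F487226) (tt N88748 F487231) (tt N84969 (iv3 F487230)) (tt N84322 F487229) (tt N93048 F487228) (tt N98763 F487232) (tt N88747 F487227))
theorem Q113813 : ∀ i, i < 113813 → P i := stepQ 113812 Q113812 (allL N113812 (tt N88748 (iv1 F487239)) (tt N88747 F487240) (tt N88750 F487234) (tt N93219 F487235) (tt N84015 F487236) (tt N103488 F487237) (tt N88772 F487238) (tt N84011 (iv7 D217067)))
theorem Q113814 : ∀ i, i < 113814 → P i := stepQ 113813 Q113813 (allL N113813 (tt N112989 F487244) (tt N112984 F487924) (tt N88753 F487241) (tt N104333 F487242) (tt N122021 (iv4 F529682)) (tt N84012 (iv5 D217068)) (tt N116768 (iv6 F501724)) (tt N88754 F487243))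
theorem Q113815 : ∀ i, i < 113815 → P i := stepQ 113814 Q113814 (allL N113814 (tt N112984 F487923) (tt N112989 (iv0 F487249)) (tt N88754 F487245) (tt N105234 F487246) (tt N122360 D225619) (tt N84013 (iv5 D217069)) (tt N113742 F487247) (tt N88753 F487248))
theorem Q113816 : ∀ i, i < 113816 → P i := stepQ 113815 Q113815 (allL N113815 (tt N84014 (iv1 D217070)) (tt N88757 F487250) (tt N88755 F487254) (tt N109673 (iv3 F487253)) (tt N117216 (iv4 F503944)) (tt N113805 F487252) (tt N116567 (iv6 F500770)) (tt N88562 F487251))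
theorem Q113817 : ∀ i, i < 113817 → P i := stepQ 113816 Q113816 (allL N113816 (tt N113894 F487674) (tt N92030 F487258) (tt N88756 F487255) (tt N122284 (iv3 F531174)) (tt N84014 (iv4 D217071)) (tt N112339 F487257) (tt N84420 F487256) (tt N113208 (iv7 F487259)))
theorem Q113818 : ∀ i, i < 113818 → P i := stepQ 113817 Q113817 (allL N113817 (tt N88755 (iv1 F487264)) (tt N88562 F487265) (tt N88757 F487260) (tt N121262 (iv3 F525445)) (tt N113208 F487261) (tt N84015 F487262) (tt N89537 F487263) (tt N84014 (iv7 D217072)))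
theorem Q113819 : ∀ i, i < 113819 → P i := stepQ 113818 Q113818 (allL N113818 (tt N107036 (iv1 F487271)) (tt N107008 (iv0 F487270)) (tt N84018 F487266) (tt N87843 F487267) (tt N104657 F487268) (tt N89488 F487269) (tt N84016 (iv6 D217073)) (tt N107035 F487272))
theorem Q113820 : ∀ i, i < 113820 → P i := stepQ 113819 Q113819 (allL N113819 (tt N105756 F487275) (tt N118121 F508722) (tt N117947 (iv2 F507731)) (tt N84017 (iv3 D217074)) (tt N84019 F487273) (tt N117759 (iv5 F506832)) (tt N92696 (iv6 F487276)) (tt N88738 F487274))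
theorem Q113821 : ∀ i, i < 113821 → P i := stepQ 113820 Q113820 (allL N113820 (tt N108026 (iv1 F487282)) (tt N119931 (iv0 F518099)) (tt N104657 F487277) (tt N92696 F487278) (tt N84018 F487279) (tt N102779 F487280) (tt N84017 (iv6 D217075)) (tt N104593 (iv7 F487281)))
theorem Q113822 : ∀ i, i < 113822 → P i := stepQ 113821 Q113821 (allL N113821 (tt N84018 (iv1 D217076)) (tt N107035 F487285) (tt N107008 F487290) (tt N97998 (iv3 F487288)) (tt N111253 F487287) (tt N119899 (iv5 F517930)) (tt N96128 (iv6 F487289)) (tt N107036 F487286))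
theorem Q113823 : ∀ i, i < 113823 → P i := stepQ 113822 Q113822 (allL N113822 (tt N88745 (iv1 F487295)) (tt N84019 (iv0 D217077)) (tt N88744 (iv2 F487294)) (tt N102369 F487291) (tt N105762 F487292) (tt N103262 F487293) (tt N115764 (iv6 F496740)) (tt N88743 F487296))
theorem Q113824 : ∀ i, i < 113824 → P i := stepQ 113823 Q113823 (allL N113823 (tt N117362 (iv1 F504676)) (tt N104434 F487302) (tt N87684 F487297) (tt N101718 F487298) (tt N106556 F487301) (tt N84027 (iv5 D217078)) (tt N88725 F487299) (tt N101715 F487300))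
theorem Q113825 : ∀ i, i < 113825 → P i := stepQ 113824 Q113824 (allL N113824 (tt N88042 F487304) (tt N88006 F487305) (tt N115595 F495918) (tt N108614 F487307) (tt N84032 (iv4 D217079)) (tt N121419 (iv5 F526254)) (tt N111880 F487303) (tt N112247 (iv7 F487306)))
theorem Q113826 : ∀ i, i < 113826 → P i := stepQ 113825 Q113825 (allL N113825 (tt N114184 F488887) (tt N115802 F496971) (tt N114163 (iv2 F488805)) (tt N84175 F487308) (tt N112247 F487309) (tt N84033 F487310) (tt N112246 (iv6 F487312)) (tt N84032 (iv7 D217080)))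
theorem Q113827 : ∀ i, i < 113827 → P i := stepQ 113826 Q113826 (allL N113826 (tt N114703 (iv1 F491429)) (tt N84316 (iv0 F487315)) (tt N84303 F487313) (tt N114725 (iv3 F491546)) (tt N84306 F487314) (tt N114325 (iv5 F489617)) (tt N84035 (iv6 D217081)) (tt N114700 (iv7 F491414)))
theorem Q113828 : ∀ i, i < 113828 → P i := stepQ 113827 Q113827 (allL N113827 (tt N88564 (iv1 F487318)) (tt N84036 (iv0 D217082)) (tt N113066 (iv2 F487319)) (tt N122361 D225620) (tt N88826 F487317) (tt N84409 F487316) (tt N84980 F487321) (tt N113068 (iv7 F487320)))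
theorem Q113829 : ∀ i, i < 113829 → P i := stepQ 113828 Q113828 (allL N113828 (tt N84036 (iv1 D217083)) (tt N88564 F487322) (tt N113068 (iv2 F487326)) (tt N120124 F519181) (tt N88827 F487324) (tt N84408 F487325) (tt N116265 F499275) (tt N113066 F487323))
theorem Q113830 : ∀ i, i < 113830 → P i := stepQ 113829 Q113829 (allL N113829 (tt N91005 F487331) (tt N89291 F487332) (tt N90987 F487327) (tt N107291 F487328) (tt N122097 (iv4 F530143)) (tt N84036 (iv5 D217084)) (tt N89285 F487329) (tt N88628 F487330))
theorem Q113831 : ∀ i, i < 113831 → P i := stepQ 113830 Q113830 (allL N113830 (tt N115679 (iv1 F496280)) (tt N115676 (iv0 F496260)) (tt N113886 (iv2 F487633)) (tt N87084 F487333) (tt N117044 (iv4 F503104)) (tt N84039 (iv5 D217085)) (tt N84041 F487334) (tt N121673 (iv7 F527661)))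
theorem Q113832 : ∀ i, i < 113832 → P i := stepQ 113831 Q113831 (allL N113831 (tt N87358 (iv1 F487338)) (tt N87400 F487339) (tt N113887 (iv2 F487637)) (tt N87085 F487335) (tt N89799 F487336) (tt N121673 (iv5 F527660)) (tt N109546 F487337) (tt N84039 (iv7 D217086)))
theorem Q113833 : ∀ i, i < 113833 → P i := stepQ 113832 Q113832 (allL N113832 (tt N90644 F487344) (tt N90645 F487345) (tt N87408 F487340) (tt N84510 F487341) (tt N114638 (iv4 F491135)) (tt N84040 (iv5 D217087)) (tt N112237 F487342) (tt N87368 F487343))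
theorem Q113834 : ∀ i, i < 113834 → P i := stepQ 113833 Q113833 (allL N113833 (tt N84175 (iv1 F487348)) (tt N84041 (iv0 D217088)) (tt N87413 (iv2 F487347)) (tt N84514 (iv3 F487350)) (tt N87270 (iv4 F487351)) (tt N91914 F487346) (tt N121058 (iv6 F524281)) (tt N87375 F487349))
theorem Q113835 : ∀ i, i < 113835 → P i := stepQ 113834 Q113834 (allL N113834 (tt N88066 F487353) (tt N115549 (iv0 F495731)) (tt N114639 (iv2 F491138)) (tt N117046 (iv3 F503111)) (tt N84041 (iv4 D217089)) (tt N85184 F487352) (tt N117044 F503105) (tt N114640 (iv7 F491146)))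
theorem Q113836 : ∀ i, i < 113836 → P i := stepQ 113835 Q113835 (allL N113835 (tt N106365 F487359) (tt N106375 F487360) (tt N84053 F487354) (tt N91676 F487355) (tt N84042 (iv4 D217090)) (tt N97999 F487358) (tt N84043 F487356) (tt N106296 F487357))
theorem Q113837 : ∀ i, i < 113837 → P i := stepQ 113836 Q113836 (allL N113836 (tt N84045 (iv1 D217091)) (tt N95873 F487361) (tt N115367 F494837) (tt N108473 (iv3 F487363)) (tt N89876 (iv4 F487364)) (tt N96757 F487362) (tt N105034 (iv6 F487365)) (tt N115368 (iv7 F494840)))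
theorem Q113838 : ∀ i, i < 113838 → P i := stepQ 113837 Q113837 (allL N113837 (tt N114329 F489640) (tt N114325 (iv0 F489619)) (tt N111973 F487366) (tt N104689 F487367) (tt N99001 F487368) (tt N122136 (iv5 F530374)) (tt N84049 (iv6 D217092)) (tt N114328 (iv7 F489634)))
theorem Q113839 : ∀ i, i < 113839 → P i := stepQ 113838 Q113838 (allL N113838 (tt N115068 (iv1 F493331)) (tt N116813 (iv0 F501975)) (tt N99527 F487369) (tt N104514 F487370) (tt N104522 F487371) (tt N99526 F487372) (tt N84052 (iv6 D217093)) (tt N109220 F487373))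
theorem Q113840 : ∀ i, i < 113840 → P i := stepQ 113839 Q113839 (allL N113839 (tt N106375 (iv1 F487379)) (tt N106365 F487380) (tt N106296 F487374) (tt N105578 F487375) (tt N84054 F487376) (tt N106220 F487377) (tt N109794 F487378) (tt N84053 (iv7 D217094)))
theorem Q113841 : ∀ i, i < 113841 → P i := stepQ 113840 Q113840 (allL N113840 (tt N84059 (iv1 F487384)) (tt N84056 (iv0 D217095)) (tt N89100 (iv2 F487385)) (tt N89316 F487383) (tt N87638 F487382) (tt N96593 F487381) (tt N85384 (iv6 F487386)) (tt N105229 (iv7 F487387)))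
theorem Q113842 : ∀ i, i < 113842 → P i := stepQ 113841 Q113841 (allL N113841 (tt N84056 (iv1 D217096)) (tt N84059 F487388) (tt N105229 (iv2 F487392)) (tt N116313 F499507) (tt N87637 F487390) (tt N105488 F487391) (tt N117406 (iv6 F504873)) (tt N89100 F487389))
theorem Q113843 : ∀ i, i < 113843 → P i := stepQ 113842 Q113842 (allL N113842 (tt N101379 (iv1 F487398)) (tt N101371 (iv0 F487397)) (tt N101376 F487393) (tt N90122 F487394) (tt N84057 F487395) (tt N84281 F487396) (tt N84056 (iv6 D217097)) (tt N101377 (iv7 F487399)))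
theorem Q113844 : ∀ i, i < 113844 → P i := stepQ 113843 Q113843 (allL N113843 (tt N88444 (iv1 F487404)) (tt N84058 (iv0 D217098)) (tt N86319 (iv2 F487403)) (tt N89705 F487402) (tt N113756 F487401) (tt N84683 F487400) (tt N89703 (iv6 F487406)) (tt N113563 F487405))
theorem Q113845 : ∀ i, i < 113845 → P i := stepQ 113844 Q113844 (allL N113844 (tt N98114 F487411) (tt N98109 F487412) (tt N101329 F487407) (tt N105340 F487408) (tt N84060 F487409) (tt N105338 F487410) (tt N84059 (iv6 D217099)) (tt N101328 (iv7 F487413)))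
theorem Q113846 : ∀ i, i < 113846 → P i := stepQ 113845 Q113845 (allL N113845 (tt N84060 (iv1 D217100)) (tt N106240 F487414) (tt N86328 F487418) (tt N95502 F487419) (tt N119542 (iv4 F516155)) (tt N90557 F487416) (tt N106234 (iv6 F487417)) (tt N106484 F487415))
theorem Q113847 : ∀ i, i < 113847 → P i := stepQ 113846 Q113846 (allL N113846 (tt N86328 (iv1 F487423)) (tt N106484 F487424) (tt N106240 F487420) (tt N120104 (iv3 F519064)) (tt N101328 F487421) (tt N90500 F487422) (tt N114712 (iv6 F491479)) (tt N84060 (iv7 D217101)))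
theorem Q113848 : ∀ i, i < 113848 → P i := stepQ 113847 Q113847 (allL N113847 (tt N84062 (iv1 D217102)) (tt N84065 F487425) (tt N105227 F487430) (tt N104144 F487431) (tt N87251 F487427) (tt N105226 F487428) (tt N90701 (iv6 F487429)) (tt N103936 F487426))
theorem Q113849 : ∀ i, i < 113849 → P i := stepQ 113848 Q113848 (allL N113848 (tt N99775 (iv1 F487436)) (tt N84063 (iv0 D217103)) (tt N85601 (iv2 F487435)) (tt N108292 F487434) (tt N107462 F487433) (tt N96228 F487432) (tt N116813 (iv6 F501974)) (tt N109214 F487437))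
theorem Q113850 : ∀ i, i < 113850 → P i := stepQ 113849 Q113849 (allL N113849 (tt N88531 F487441) (tt N86727 F487442) (tt N112902 F487438) (tt N104519 F487439) (tt N84064 (iv4 D217104)) (tt N122362 D225621) (tt N122363 D225622) (tt N106404 F487440))
theorem Q113851 : ∀ i, i < 113851 → P i := stepQ 113850 Q113850 (allL N113850 (tt N107982 (iv1 F487447)) (tt N109215 (iv0 F487448)) (tt N109217 F487443) (tt N84066 F487444) (tt N122363 (iv4 F531648)) (tt N100327 F487445) (tt N84064 (iv6 D217105)) (tt N99776 F487446))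
theorem Q113852 : ∀ i, i < 113852 → P i := stepQ 113851 Q113851 (allL N113851 (tt N120432 F520757) (tt N89091 (iv0 F487453)) (tt N85400 F487449) (tt N90076 F487450) (tt N84066 F487451) (tt N118648 (iv5 F511332)) (tt N84065 (iv6 D217106)) (tt N107280 F487452))
theorem Q113853 : ∀ i, i < 113853 → P i := stepQ 113852 Q113852 (allL N113852 (tt N85400 F487457) (tt N107280 (iv0 F487458)) (tt N89091 F487454) (tt N100327 F487455) (tt N122364 D225623) (tt N84066 (iv5 D217107)) (tt N85382 F487456) (tt N120432 (iv7 F520755)))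
theorem Q113854 : ∀ i, i < 113854 → P i := stepQ 113853 Q113853 (allL N113853 (tt N84907 (iv1 F487463)) (tt N85578 F487464) (tt N85577 F487459) (tt N99776 F487460) (tt N107280 F487461) (tt N120432 (iv5 F520754)) (tt N99775 F487462) (tt N84066 (iv7 D217108)))
theorem Q113855 : ∀ i, i < 113855 → P i := stepQ 113854 Q113854 (allL N113854 (tt N85472 F487469) (tt N114078 (iv0 F488485)) (tt N103897 F487465) (tt N88783 F487466) (tt N103894 F487467) (tt N84067 (iv5 D217109)) (tt N103893 F487470) (tt N108376 F487468))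
theorem Q113856 : ∀ i, i < 113856 → P i := stepQ 113855 Q113855 (allL N113855 (tt N86348 F487478) (tt N84149 (iv0 F487479)) (tt N90448 F487473) (tt N100596 F487474) (tt N84071 F487475) (tt N84261 F487476) (tt N84070 (iv6 D217110)) (tt N85484 F487477))
theorem Q113857 : ∀ i, i < 113857 → P i := stepQ 113856 Q113856 (allL N113856 (tt N107002 F487485) (tt N121133 (iv0 F524694)) (tt N111195 F487480) (tt N84072 (iv3 D217111)) (tt N111191 F487481) (tt N103362 F487482) (tt N85481 F487483) (tt N90447 F487484))
theorem Q113858 : ∀ i, i < 113858 → P i := stepQ 113857 Q113857 (allL N113857 (tt N89409 F487489) (tt N89407 F487490) (tt N90452 F487486) (tt N84276 (iv3 F487491)) (tt N84073 (iv4 D217112)) (tt N84275 F487488) (tt N114737 (iv6 F491592)) (tt N90536 F487487))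
theorem Q113859 : ∀ i, i < 113859 → P i := stepQ 113858 Q113858 (allL N113858 (tt N84074 (iv1 D217113)) (tt N85598 F487492) (tt N85600 F487495) (tt N116718 (iv3 F501476)) (tt N114670 (iv4 F491301)) (tt N114719 (iv5 F491515)) (tt N85590 (iv6 F487494)) (tt N84909 F487493))
theorem Q113860 : ∀ i, i < 113860 → P i := stepQ 113859 Q113859 (allL N113859 (tt N85603 (iv1 F487501)) (tt N90455 F487502) (tt N90456 F487496) (tt N109551 F487497) (tt N90579 F487498) (tt N86336 F487499) (tt N85598 F487500) (tt N84075 (iv7 D217114)))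
theorem Q113861 : ∀ i, i < 113861 → P i := stepQ 113860 Q113860 (allL N113860 (tt N106205 (iv1 F487507)) (tt N106204 (iv0 F487506)) (tt N84296 F487503) (tt N117188 (iv3 F503826)) (tt N113988 (iv4 F488076)) (tt N90072 F487504) (tt N84076 (iv6 D217115)) (tt N104524 F487505))
theorem Q113862 : ∀ i, i < 113862 → P i := stepQ 113861 Q113861 (allL N113861 (tt N122300 (iv1 F531279)) (tt N116658 F501178) (tt N84310 F487508) (tt N116800 (iv3 F501909)) (tt N120066 (iv4 F518859)) (tt N110812 F487509) (tt N84078 (iv6 D217116)) (tt N121367 (iv7 F525991)))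
theorem Q113863 : ∀ i, i < 113863 → P i := stepQ 113862 Q113862 (allL N113862 (tt N99940 F487513) (tt N99937 F487514) (tt N114735 (iv2 F491584)) (tt N112926 F487510) (tt N113008 F487511) (tt N84221 F487512) (tt N84080 (iv6 D217117)) (tt N116823 (iv7 F502018)))
theorem Q113864 : ∀ i, i < 113864 → P i := stepQ 113863 Q113863 (allL N113863 (tt N107005 F487518) (tt N114667 (iv0 F491289)) (tt N116319 (iv2 F499535)) (tt N84084 F487515) (tt N97050 F487516) (tt N88871 F487517) (tt N84082 (iv6 D217118)) (tt N116320 (iv7 F499539)))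
theorem Q113865 : ∀ i, i < 113865 → P i := stepQ 113864 Q113864 (allL N113864 (tt N84083 (iv1 D217119)) (tt N114879 (iv0 F492306)) (tt N86822 F487524) (tt N108637 (iv3 F487521)) (tt N85200 F487520) (tt N90069 (iv5 F487522)) (tt N106901 F487523) (tt N86820 F487519))
theorem Q113866 : ∀ i, i < 113866 → P i := stepQ 113865 Q113865 (allL N113865 (tt N89159 (iv1 F487529)) (tt N84091 (iv0 D217120)) (tt N90411 (iv2 F487528)) (tt N101014 (iv3 F487531)) (tt N106996 F487526) (tt N104146 F487525) (tt N113160 F487527) (tt N90410 F487530))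
theorem Q113867 : ∀ i, i < 113867 → P i := stepQ 113866 Q113866 (allL N113866 (tt N87831 (iv1 F487536)) (tt N84096 (iv0 D217121)) (tt N107041 (iv2 F487535)) (tt N106588 F487534) (tt N88581 F487533) (tt N90145 F487532) (tt N107055 (iv6 F487538)) (tt N107042 F487537))
theorem Q113868 : ∀ i, i < 113868 → P i := stepQ 113867 Q113867 (allL N113867 (tt N114071 (iv1 F488445)) (tt N86533 F487542) (tt N86407 F487539) (tt N108808 F487540) (tt N87543 F487543) (tt N84103 (iv5 D217122)) (tt N119267 (iv6 F514719)) (tt N87541 F487541))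
theorem Q113869 : ∀ i, i < 113869 → P i := stepQ 113868 Q113868 (allL N113868 (tt N88954 F487544) (tt N88952 F487545) (tt N114747 (iv2 F491641)) (tt N117620 (iv3 F506035)) (tt N84104 (iv4 D217123)) (tt N122175 (iv5 F530593)) (tt N119177 (iv6 F514213)) (tt N114727 (iv7 F491554)))
theorem Q113870 : ∀ i, i < 113870 → P i := stepQ 113869 Q113869 (allL N113869 (tt N95948 F487547) (tt N105504 (iv0 F487548)) (tt N105513 F487546) (tt N114321 (iv3 F489588)) (tt N119177 (iv4 F514211)) (tt N115119 (iv5 F493582)) (tt N84104 (iv6 D217124)) (tt N105514 (iv7 F487549)))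
theorem Q113871 : ∀ i, i < 113871 → P i := stepQ 113870 Q113870 (allL N113870 (tt N89705 F487554) (tt N86320 F487555) (tt N88809 F487550) (tt N84107 F487551) (tt N85835 F487552) (tt N84106 (iv5 D217125)) (tt N119997 F518463) (tt N88806 F487553))
theorem Q113872 : ∀ i, i < 113872 → P i := stepQ 113871 Q113871 (allL N113871 (tt N106901 F487560) (tt N88988 (iv0 F487562)) (tt N88810 F487556) (tt N84108 F487557) (tt N84394 F487558) (tt N106068 F487561) (tt N84106 (iv6 D217126)) (tt N106900 F487559))
theorem Q113873 : ∀ i, i < 113873 → P i := stepQ 113872 Q113872 (allL N113872 (tt N88952 F487563) (tt N88954 F487564) (tt N114727 (iv2 F491552)) (tt N119182 F514236) (tt N84107 (iv4 D217127)) (tt N119466 (iv5 F515764)) (tt N120487 (iv6 F521028)) (tt N114747 (iv7 F491643)))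
theorem Q113874 : ∀ i, i < 113874 → P i := stepQ 113873 Q113873 (allL N113873 (tt N86744 F487567) (tt N106525 (iv0 F487568)) (tt N106255 F487565) (tt N119997 (iv3 F518465)) (tt N120487 (iv4 F521027)) (tt N106254 F487566) (tt N84107 (iv6 D217128)) (tt N122365 D225624))
theorem Q113875 : ∀ i, i < 113875 → P i := stepQ 113874 Q113874 (allL N113874 (tt N88948 F487571) (tt N88514 F487572) (tt N96574 F487569) (tt N120414 (iv3 F520654)) (tt N84109 (iv4 D217129)) (tt N120510 (iv5 F521170)) (tt N96529 (iv6 F487573)) (tt N96569 F487570))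
theorem Q113876 : ∀ i, i < 113876 → P i := stepQ 113875 Q113875 (allL N113875 (tt N119112 (iv1 F513850)) (tt N121796 F528373) (tt N96956 F487574) (tt N85499 F487575) (tt N96529 F487576) (tt N99888 F487577) (tt N84109 (iv6 D217130)) (tt N119156 (iv7 F514091)))
theorem Q113877 : ∀ i, i < 113877 → P i := stepQ 113876 Q113876 (allL N113876 (tt N96359 F487580) (tt N122366 D225625) (tt N115000 (iv2 F492992)) (tt N84111 (iv3 D217131)) (tt N84112 F487578) (tt N118737 (iv5 F511813)) (tt N113328 F487579) (tt N115089 (iv7 F493434)))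
theorem Q113878 : ∀ i, i < 113878 → P i := stepQ 113877 Q113877 (allL N113877 (tt N113650 F487582) (tt N113682 F487583) (tt N116364 F499731) (tt N118737 F511814) (tt N113669 F487581) (tt N84111 (iv5 D217132)) (tt N118860 (iv6 F512445)) (tt N115090 (iv7 F493435)))
theorem Q113879 : ∀ i, i < 113879 → P i := stepQ 113878 Q113878 (allL N113878 (tt N114513 F490532) (tt N84112 (iv0 D217133)) (tt N85260 (iv2 F487585)) (tt N98337 (iv3 F487586)) (tt N120452 (iv4 F520859)) (tt N84836 F487584) (tt N111178 (iv6 F487588)) (tt N85262 (iv7 F487587)))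
theorem Q113880 : ∀ i, i < 113880 → P i := stepQ 113879 Q113879 (allL N113879 (tt N84112 (iv1 D217134)) (tt N114513 (iv0 F490531)) (tt N85262 F487592) (tt N109036 F487593) (tt N119153 (iv4 F514072)) (tt N84837 (iv5 F487590)) (tt N91451 (iv6 F487591)) (tt N85260 F487589))
theorem Q113881 : ∀ i, i < 113881 → P i := stepQ 113880 Q113880 (allL N113880 (tt N99864 F487599) (tt N99866 F487600) (tt N84122 F487594) (tt N96275 F487595) (tt N112733 F487596) (tt N113196 F487597) (tt N84118 (iv6 D217135)) (tt N96269 F487598))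
theorem Q113882 : ∀ i, i < 113882 → P i := stepQ 113881 Q113881 (allL N113881 (tt N105218 F487606) (tt N105213 (iv0 F487607)) (tt N105216 F487601) (tt N84229 F487602) (tt N112313 F487603) (tt N90080 F487604) (tt N84120 (iv6 D217136)) (tt N105217 F487605))
theorem Q113883 : ∀ i, i < 113883 → P i := stepQ 113882 Q113882 (allL N113882 (tt N84122 (iv1 D217137)) (tt N96269 F487608) (tt N99866 F487613) (tt N99912 (iv3 F487611)) (tt N94932 F487610) (tt N101297 (iv5 F487612)) (tt N94935 F487614) (tt N99864 F487609))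
theorem Q113884 : ∀ i, i < 113884 → P i := stepQ 113883 Q113883 (allL N113883 (tt N117338 F504534) (tt N99939 (iv0 F487619)) (tt N90682 F487615) (tt N105174 F487616) (tt N84360 F487617) (tt N113936 (iv5 F487870)) (tt N84142 (iv6 D217138)) (tt N84216 F487618))
theorem Q113885 : ∀ i, i < 113885 → P i := stepQ 113884 Q113884 (allL N113884 (tt N84149 (iv1 D217139)) (tt N86348 F487620) (tt N85484 F487625) (tt N109387 (iv3 F487624)) (tt N90450 F487623) (tt N110336 F487622) (tt N84868 F487626) (tt N90448 F487621))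
theorem Q113886 : ∀ i, i < 113886 → P i := stepQ 113885 Q113885 (allL N113885 (tt N114781 F491826) (tt N84279 (iv0 F487632)) (tt N111294 F487627) (tt N96278 F487628) (tt N113691 F487629) (tt N84243 F487630) (tt N84152 (iv6 D217140)) (tt N84264 F487631))
theorem Q113887 : ∀ i, i < 113887 → P i := stepQ 113886 Q113886 (allL N113886 (tt N113910 (iv1 F487741)) (tt N115631 (iv0 F496059)) (tt N113830 F487633) (tt N111490 F487634) (tt N93334 F487636) (tt N84156 (iv5 D217141)) (tt N112061 F487635) (tt N122123 (iv7 F530307)))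
theorem Q113888 : ∀ i, i < 113888 → P i := stepQ 113887 Q113887 (allL N113887 (tt N111291 (iv1 F487641)) (tt N101235 F487642) (tt N113831 F487637) (tt N110337 F487638) (tt N110518 F487639) (tt N122123 (iv5 F530306)) (tt N110337 F487640) (tt N84156 (iv7 D217142)))
theorem Q113889 : ∀ i, i < 113889 → P i := stepQ 113888 Q113888 (allL N113888 (tt N117630 (iv1 F506087)) (tt N117629 F506083) (tt N116824 (iv2 F502020)) (tt N122278 (iv3 F531134)) (tt N84158 (iv4 D217143)) (tt N101377 F487643) (tt N84159 F487644) (tt N84281 F487645))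
theorem Q113890 : ∀ i, i < 113890 → P i := stepQ 113889 Q113889 (allL N113889 (tt N116269 (iv1 F499287)) (tt N116172 (iv0 F498861)) (tt N116132 (iv2 F498649)) (tt N84163 F487646) (tt N91803 F487647) (tt N112338 F487648) (tt N84160 (iv6 D217144)) (tt N91801 F487649))
theorem Q113891 : ∀ i, i < 113891 → P i := stepQ 113890 Q113890 (allL N113890 (tt N84162 (iv1 D217145)) (tt N84164 F487650) (tt N92838 (iv2 F487654)) (tt N118469 (iv3 F510536)) (tt N88919 F487653) (tt N92835 F487652) (tt N114068 (iv6 F488423)) (tt N88918 F487651))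
theorem Q113892 : ∀ i, i < 113892 → P i := stepQ 113891 Q113891 (allL N113891 (tt N113063 F487659) (tt N117388 (iv0 F504782)) (tt N116821 (iv2 F502003)) (tt N112900 F487655) (tt N84163 F487656) (tt N112667 F487657) (tt N84162 (iv6 D217146)) (tt N113013 F487658))
theorem Q113893 : ∀ i, i < 113893 → P i := stepQ 113892 Q113892 (allL N113892 (tt N116822 (iv1 F502012)) (tt N84163 (iv0 D217147)) (tt N90732 (iv2 F487663)) (tt N122119 (iv3 F530281)) (tt N112384 F487661) (tt N88408 F487660) (tt N84290 F487662) (tt N90820 F487664))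
theorem Q113894 : ∀ i, i < 113894 → P i := stepQ 113893 Q113893 (allL N113893 (tt N90820 (iv1 F487669)) (tt N90732 F487670) (tt N116822 (iv2 F502008)) (tt N91801 F487665) (tt N113013 F487666) (tt N112337 F487667) (tt N91800 F487668) (tt N84163 (iv7 D217148)))
theorem Q113895 : ∀ i, i < 113895 → P i := stepQ 113894 Q113894 (allL N113894 (tt N116141 F498705) (tt N113816 (iv0 F487674)) (tt N86388 F487671) (tt N116444 (iv3 F500147)) (tt N84165 F487672) (tt N87692 F487673) (tt N84164 (iv6 D217149)) (tt N116270 (iv7 F499290)))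
theorem Q113896 : ∀ i, i < 113896 → P i := stepQ 113895 Q113895 (allL N113895 (tt N84168 F487678) (tt N116293 (iv0 F499413)) (tt N116133 (iv2 F498653)) (tt N110067 F487675) (tt N84166 (iv4 D217150)) (tt N90022 F487677) (tt N110075 (iv6 F487679)) (tt N90512 F487676))
theorem Q113897 : ∀ i, i < 113897 → P i := stepQ 113896 Q113896 (allL N113896 (tt N110883 F487682) (tt N119955 (iv0 F518239)) (tt N116134 (iv2 F498659)) (tt N84168 F487680) (tt N110075 F487681) (tt N116397 (iv5 F499877)) (tt N84166 (iv6 D217151)) (tt N116699 (iv7 F501372)))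
theorem Q113898 : ∀ i, i < 113898 → P i := stepQ 113897 Q113897 (allL N113897 (tt N116293 (iv1 F499414)) (tt N84168 (iv0 D217152)) (tt N90512 (iv2 F487685)) (tt N121690 (iv3 F527764)) (tt N90501 F487683) (tt N117236 (iv5 F504054)) (tt N84313 F487684) (tt N116133 (iv7 F498655)))
theorem Q113899 : ∀ i, i < 113899 → P i := stepQ 113898 Q113898 (allL N113898 (tt N115549 (iv1 F495732)) (tt N88066 F487688) (tt N114640 (iv2 F491144)) (tt N112213 F487686) (tt N84175 (iv4 D217153)) (tt N85185 F487687) (tt N112212 F487689) (tt N114639 (iv7 F491140)))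
theorem Q113900 : ∀ i, i < 113900 → P i := stepQ 113899 Q113899 (allL N113899 (tt N122087 (iv1 F530083)) (tt N122088 (iv0 F530088)) (tt N122344 (iv2 F531541)) (tt N112246 F487690) (tt N112212 F487691) (tt N112246 F487692) (tt N84175 (iv6 D217154)) (tt N122367 D225626))
theorem Q113901 : ∀ i, i < 113901 → P i := stepQ 113900 Q113900 (allL N113900 (tt N115652 (iv1 F496159)) (tt N85362 F487695) (tt N101553 F487693) (tt N122068 (iv3 F529968)) (tt N84182 (iv4 D217155)) (tt N118819 (iv5 F512246)) (tt N101549 F487694) (tt N115541 (iv7 F495704)))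
theorem Q113902 : ∀ i, i < 113902 → P i := stepQ 113901 Q113901 (allL N113901 (tt N85186 (iv1 F487697)) (tt N84183 (iv0 D217156)) (tt N115543 F495715) (tt N116917 (iv3 F502486)) (tt N90644 F487696) (tt N116795 (iv5 F501879)) (tt N115074 F501325) (tt N115542 F495710))
theorem Q113903 : ∀ i, i < 113903 → P i := stepQ 113902 Q113902 (allL N113902 (tt N84183 (iv1 D217157)) (tt N85186 F487698) (tt N115542 F495709) (tt N119484 (iv3 F515850)) (tt N90645 F487699) (tt N119514 (iv5 F516007)) (tt N112275 (iv6 F487700)) (tt N115543 (iv7 F495712)))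
theorem Q113904 : ∀ i, i < 113904 → P i := stepQ 113903 Q113903 (allL N113903 (tt N85185 F487705) (tt N85184 (iv0 F487706)) (tt N85187 F487701) (tt N95514 F487702) (tt N84818 F487703) (tt N84183 (iv5 D217158)) (tt N85162 (iv6 F487707)) (tt N84816 F487704))
theorem Q113905 : ∀ i, i < 113905 → P i := stepQ 113904 Q113904 (allL N113904 (tt N112223 F487709) (tt N115034 (iv0 F493137)) (tt N115559 (iv2 F495784)) (tt N116149 (iv3 F498753)) (tt N84184 F487708) (tt N116148 F498751) (tt N84183 (iv6 D217159)) (tt N122085 (iv7 F530069)))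
theorem Q113906 : ∀ i, i < 113906 → P i := stepQ 113905 Q113905 (allL N113905 (tt N84184 (iv1 D217160)) (tt N112272 F487710) (tt N112273 F487714) (tt N122368 D225627) (tt N118738 (iv4 F511817)) (tt N111890 F487712) (tt N112271 (iv6 F487713)) (tt N112094 F487711))
theorem Q113907 : ∀ i, i < 113907 → P i := stepQ 113906 Q113906 (allL N113906 (tt N113927 (iv1 F487835)) (tt N85263 F487719) (tt N98308 F487715) (tt N98607 F487716) (tt N118819 (iv4 F512245)) (tt N84188 (iv5 D217161)) (tt N85108 F487717) (tt N85230 F487718))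
theorem Q113908 : ∀ i, i < 113908 → P i := stepQ 113907 Q113907 (allL N113907 (tt N85263 F487724) (tt N113927 (iv0 F487834)) (tt N85230 F487720) (tt N86317 F487721) (tt N94500 F487723) (tt N84189 (iv5 D217162)) (tt N84828 F487725) (tt N98308 F487722))
theorem Q113909 : ∀ i, i < 113909 → P i := stepQ 113908 Q113908 (allL N113908 (tt N87118 (iv1 F487732)) (tt N90769 F487731) (tt N84198 (iv2 D217163)) (tt N99576 F487726) (tt N86479 F487727) (tt N99575 F487728) (tt N86478 F487729) (tt N87452 F487730))
theorem Q113910 : ∀ i, i < 113910 → P i := stepQ 113909 Q113909 (allL N113909 (tt N110596 (iv1 F487738)) (tt N84199 (iv0 D217164)) (tt N84362 (iv2 F487736)) (tt N102970 F487734) (tt N84357 F487733) (tt N122093 (iv5 F530116)) (tt N84361 F487735) (tt N102973 F487737))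
theorem Q113911 : ∀ i, i < 113911 → P i := stepQ 113910 Q113910 (allL N113910 (tt N121673 (iv1 F527663)) (tt N113886 F487741) (tt N115679 (iv2 F496275)) (tt N87404 F487739) (tt N115678 (iv4 F496271)) (tt N84199 (iv5 D217165)) (tt N112241 F487740) (tt N115676 F496262))
theorem Q113912 : ∀ i, i < 113912 → P i := stepQ 113911 Q113911 (allL N113911 (tt N102973 (iv1 F487746)) (tt N84362 F487747) (tt N110596 F487742) (tt N86480 F487743) (tt N84202 F487744) (tt N115676 (iv5 F496259)) (tt N87451 F487745) (tt N84199 (iv7 D217166)))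
theorem Q113913 : ∀ i, i < 113913 → P i := stepQ 113912 Q113912 (allL N113912 (tt N99890 F487754) (tt N84229 (iv0 F487753)) (tt N99938 F487748) (tt N84200 (iv3 D217167)) (tt N102992 F487750) (tt N106247 (iv5 F487752)) (tt N99822 (iv6 F487751)) (tt N105330 F487749))
theorem Q113914 : ∀ i, i < 113914 → P i := stepQ 113913 Q113913 (allL N113913 (tt N87064 F487756) (tt N84204 (iv0 F487757)) (tt N114010 F488185) (tt N87074 F487755) (tt N84200 (iv4 D217168)) (tt N112280 F487758) (tt N102993 (iv6 F487759)) (tt N114011 (iv7 F488189)))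
theorem Q113915 : ∀ i, i < 113915 → P i := stepQ 113914 Q113914 (allL N113914 (tt N101236 F487763) (tt N90166 F487762) (tt N117172 F503747) (tt N106247 F487760) (tt N118337 (iv4 F509777)) (tt N84200 (iv5 D217169)) (tt N90123 F487764) (tt N90148 F487761))
theorem Q113916 : ∀ i, i < 113916 → P i := stepQ 113915 Q113915 (allL N113915 (tt N84216 F487768) (tt N90682 (iv0 F487770)) (tt N117338 (iv2 F504528)) (tt N99822 F487765) (tt N102993 F487766) (tt N84280 F487769) (tt N84200 (iv6 D217170)) (tt N99939 F487767))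
theorem Q113917 : ∀ i, i < 113917 → P i := stepQ 113916 Q113916 (allL N113916 (tt N90166 F487775) (tt N101236 F487774) (tt N90148 F487771) (tt N101329 F487772) (tt N111044 (iv4 F487776)) (tt N84201 (iv5 D217171)) (tt N87671 F487773) (tt N117172 (iv7 F503745)))
theorem Q113918 : ∀ i, i < 113918 → P i := stepQ 113917 Q113917 (allL N113917 (tt N84210 (iv1 D217172)) (tt N102984 F487778) (tt N87970 (iv2 F487782)) (tt N115571 (iv3 F495824)) (tt N99689 (iv4 F487781)) (tt N87968 F487780) (tt N117665 (iv6 F506297)) (tt N88037 F487779))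
theorem Q113919 : ∀ i, i < 113919 → P i := stepQ 113918 Q113918 (allL N113918 (tt N87970 (iv1 F487785)) (tt N88037 F487786) (tt N102984 F487783) (tt N115493 F495485) (tt N117578 (iv4 F505810)) (tt N84211 F487784) (tt N120943 (iv6 F523612)) (tt N84210 (iv7 D217173)))
theorem Q113920 : ∀ i, i < 113920 → P i := stepQ 113919 Q113919 (allL N113919 (tt N115821 (iv1 F497078)) (tt N112728 (iv0 F487789)) (tt N98475 F487787) (tt N84215 (iv3 D217174)) (tt N120912 (iv4 F523426)) (tt N115971 (iv5 F497837)) (tt N87473 F487788) (tt N115820 (iv7 F497068)))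
theorem Q113921 : ∀ i, i < 113921 → P i := stepQ 113920 Q113920 (allL N113920 (tt N113715 F487792) (tt N113714 F487793) (tt N113935 (iv2 F487866)) (tt N113003 F487790) (tt N120438 (iv4 F520787)) (tt N84216 (iv5 D217175)) (tt N113002 F487791) (tt N113936 (iv7 F487869)))
theorem Q113922 : ∀ i, i < 113922 → P i := stepQ 113921 Q113921 (allL N113921 (tt N90798 F487798) (tt N114346 (iv0 F489742)) (tt N85483 F487794) (tt N111150 F487795) (tt N121923 (iv4 F529084)) (tt N84868 F487796) (tt N84217 (iv6 D217176)) (tt N85482 F487797))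
theorem Q113923 : ∀ i, i < 113923 → P i := stepQ 113922 Q113922 (allL N113922 (tt N84219 (iv1 D217177)) (tt N89895 F487799) (tt N90839 F487803) (tt N122369 D225628) (tt N113721 F487801) (tt N107321 (iv5 F487802)) (tt N122178 (iv6 F530611)) (tt N90840 F487800))
theorem Q113924 : ∀ i, i < 113924 → P i := stepQ 113923 Q113923 (allL N113923 (tt N112997 (iv1 F487806)) (tt N84227 (iv0 D217178)) (tt N99787 F487809) (tt N88569 (iv3 F487807)) (tt N84293 F487805) (tt N89913 F487804) (tt N88542 (iv6 F487808)) (tt N88557 F487810))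
theorem Q113925 : ∀ i, i < 113925 → P i := stepQ 113924 Q113924 (allL N113924 (tt N84227 (iv1 D217179)) (tt N112997 F487811) (tt N88557 F487816) (tt N116569 F500781) (tt N84294 F487814) (tt N99768 F487813) (tt N88535 (iv6 F487815)) (tt N99787 F487812))
theorem Q113926 : ∀ i, i < 113926 → P i := stepQ 113925 Q113925 (allL N113925 (tt N105330 (iv1 F487822)) (tt N99938 F487823) (tt N99890 F487817) (tt N105217 F487818) (tt N99857 F487819) (tt N90084 F487820) (tt N99856 F487821) (tt N84229 (iv7 D217180)))
theorem Q113927 : ∀ i, i < 113927 → P i := stepQ 113926 Q113926 (allL N113926 (tt N102992 F487829) (tt N105339 (iv0 F487830)) (tt N88659 F487824) (tt N87699 F487825) (tt N105258 F487826) (tt N87697 F487827) (tt N84231 (iv6 D217181)) (tt N102968 F487828))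
theorem Q113928 : ∀ i, i < 113928 → P i := stepQ 113927 Q113927 (allL N113927 (tt N113907 F487834) (tt N113906 F487835) (tt N84250 F487831) (tt N98482 F487832) (tt N115550 (iv4 F495736)) (tt N84246 (iv5 D217182)) (tt N114543 (iv6 F490694)) (tt N98492 F487833))
theorem Q113929 : ∀ i, i < 113929 → P i := stepQ 113928 Q113928 (allL N113928 (tt N115770 (iv1 F496780)) (tt N115781 (iv0 F496841)) (tt N117340 (iv2 F504542)) (tt N87973 F487836) (tt N115267 (iv4 F494284)) (tt N84255 (iv5 D217183)) (tt N122099 (iv6 F530158)) (tt N116089 F498406))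
theorem Q113930 : ∀ i, i < 113930 → P i := stepQ 113929 Q113929 (allL N113929 (tt N115781 (iv1 F496842)) (tt N115770 (iv0 F496779)) (tt N116089 (iv2 F498403)) (tt N118913 (iv3 F512716)) (tt N117422 (iv4 F504965)) (tt N84256 (iv5 D217184)) (tt N116085 F498387) (tt N117340 (iv7 F504544)))
theorem Q113931 : ∀ i, i < 113931 → P i := stepQ 113930 Q113930 (allL N113930 (tt N115806 (iv1 F496991)) (tt N113688 F487840) (tt N97179 F487837) (tt N92990 F487838) (tt N120967 (iv4 F523758)) (tt N84259 (iv5 D217185)) (tt N122158 (iv6 F530490)) (tt N91246 F487839))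
theorem Q113932 : ∀ i, i < 113932 → P i := stepQ 113931 Q113931 (allL N113931 (tt N93100 (iv1 F487846)) (tt N104266 F487847) (tt N104273 F487841) (tt N88250 F487842) (tt N84263 F487843) (tt N88249 F487844) (tt N106063 F487845) (tt N84262 (iv7 D217186)))
theorem Q113933 : ∀ i, i < 113933 → P i := stepQ 113932 Q113932 (allL N113932 (tt N111808 F487853) (tt N86812 F487854) (tt N108606 F487848) (tt N84268 F487849) (tt N85229 F487852) (tt N84267 (iv5 D217187)) (tt N91093 F487850) (tt N112427 F487851))
theorem Q113934 : ∀ i, i < 113934 → P i := stepQ 113933 Q113933 (allL N113933 (tt N115782 (iv1 F496848)) (tt N115213 F494049) (tt N118070 (iv2 F508408)) (tt N115022 (iv3 F493081)) (tt N84268 (iv4 D217188)) (tt N115273 F494320) (tt N91095 F487855) (tt N120965 (iv7 F523748)))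
theorem Q113935 : ∀ i, i < 113935 → P i := stepQ 113934 Q113934 (allL N113934 (tt N111842 F487861) (tt N88109 F487862) (tt N90783 F487856) (tt N86235 F487857) (tt N87673 F487858) (tt N84271 (iv5 D217189)) (tt N112049 F487859) (tt N90786 F487860))
theorem Q113936 : ∀ i, i < 113936 → P i := stepQ 113935 Q113935 (allL N113935 (tt N84278 (iv1 F487864)) (tt N84276 (iv0 D217190)) (tt N113920 F487866) (tt N121691 (iv3 F527770)) (tt N121018 (iv4 F524041)) (tt N113709 F487863) (tt N90820 (iv6 F487865)) (tt N90735 F487867))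
theorem Q113937 : ∀ i, i < 113937 → P i := stepQ 113936 Q113936 (allL N113936 (tt N84276 (iv1 D217191)) (tt N84278 F487868) (tt N90735 F487873) (tt N110326 (iv3 F487871)) (tt N113606 F487874) (tt N113883 F487870) (tt N84291 (iv6 F487872)) (tt N113920 F487869))
theorem Q113938 : ∀ i, i < 113938 → P i := stepQ 113937 Q113937 (allL N113937 (tt N121301 (iv1 F525638)) (tt N113065 F498699) (tt N115100 (iv2 F493481)) (tt N110160 F487875) (tt N84276 (iv4 D217192)) (tt N115097 (iv5 F493472)) (tt N122370 D225629) (tt N113027 F487876))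
theorem Q113939 : ∀ i, i < 113939 → P i := stepQ 113938 Q113938 (allL N113938 (tt N85520 F487878) (tt N85518 (iv0 F487879)) (tt N114783 (iv2 F491833)) (tt N114737 (iv3 F491593)) (tt N122370 (iv4 F531693)) (tt N85573 F487877) (tt N84276 (iv6 D217193)) (tt N117064 (iv7 F503194)))
theorem Q113940 : ∀ i, i < 113940 → P i := stepQ 113939 Q113939 (allL N113939 (tt N113065 F498698) (tt N121301 (iv0 F525637)) (tt N113027 F487880) (tt N116731 (iv3 F501543)) (tt N84278 (iv4 D217194)) (tt N114939 (iv5 F492652)) (tt N116140 F498697) (tt N115100 (iv7 F493482)))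
theorem Q113941 : ∀ i, i < 113941 → P i := stepQ 113940 Q113940 (allL N113940 (tt N89613 F487883) (tt N84288 (iv0 F487884)) (tt N89611 F487881) (tt N88553 F487882) (tt N116140 (iv4 F498694)) (tt N121597 (iv5 F527240)) (tt N84278 (iv6 D217195)) (tt N89612 (iv7 F487885)))
theorem Q113942 : ∀ i, i < 113942 → P i := stepQ 113941 Q113941 (allL N113941 (tt N89077 F487891) (tt N89975 F487889) (tt N89974 F487886) (tt N108660 F487887) (tt N107150 F487890) (tt N84279 (iv5 D217196)) (tt N121597 (iv6 F527243)) (tt N86271 F487888))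
theorem Q113943 : ∀ i, i < 113943 → P i := stepQ 113942 Q113942 (allL N113942 (tt N114735 (iv1 F491590)) (tt N116823 F502017) (tt N99937 F487892) (tt N84280 (iv3 D217197)) (tt N122371 D225630) (tt N99822 F487893) (tt N122372 D225631) (tt N99940 F487894))
theorem Q113944 : ∀ i, i < 113944 → P i := stepQ 113943 Q113943 (allL N113943 (tt N112921 F487897) (tt N112920 F487898) (tt N110991 F487895) (tt N107472 F487900) (tt N84280 (iv4 D217198)) (tt N107465 (iv5 F487899)) (tt N107467 F487901) (tt N112922 F487896))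
theorem Q113945 : ∀ i, i < 113945 → P i := stepQ 113944 Q113944 (allL N113944 (tt N110075 F487904) (tt N117222 (iv0 F503979)) (tt N122278 F531137) (tt N122372 (iv3 F531705)) (tt N107467 F487902) (tt N90123 F487903) (tt N84280 (iv6 D217199)) (tt N122279 (iv7 F531140)))
theorem Q113946 : ∀ i, i < 113946 → P i := stepQ 113945 Q113945 (allL N113945 (tt N116824 F502024) (tt N84281 (iv0 D217200)) (tt N117629 (iv2 F506086)) (tt N119963 (iv3 F518283)) (tt N88579 F487905) (tt N119957 (iv5 F518250)) (tt N116268 (iv6 F499281)) (tt N117630 (iv7 F506088)))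
theorem Q113947 : ∀ i, i < 113947 → P i := stepQ 113946 Q113946 (allL N113946 (tt N84281 (iv1 D217201)) (tt N116824 F502023) (tt N117630 F506093) (tt N117180 (iv3 F503787)) (tt N88580 F487906) (tt N119954 (iv5 F518233)) (tt N119955 (iv6 F518237)) (tt N117629 (iv7 F506085)))
theorem Q113948 : ∀ i, i < 113948 → P i := stepQ 113947 Q113947 (allL N113947 (tt N117222 F503980) (tt N110075 (iv0 F487910)) (tt N122279 (iv2 F531145)) (tt N84281 (iv3 D217202)) (tt N112994 F487907) (tt N90122 F487908) (tt N84282 F487909) (tt N122278 F531138))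
theorem Q113949 : ∀ i, i < 113949 → P i := stepQ 113948 Q113948 (allL N113948 (tt N84282 (iv1 D217203)) (tt N84321 (iv0 F487915)) (tt N84319 (iv2 F487916)) (tt N105178 (iv3 F487913)) (tt N117217 (iv4 F503951)) (tt N105470 F487912) (tt N84307 F487914) (tt N84320 F487911))
theorem Q113950 : ∀ i, i < 113950 → P i := stepQ 113949 Q113949 (allL N113949 (tt N84320 (iv1 F487922)) (tt N84319 F487921) (tt N84282 (iv2 D217204)) (tt N105336 F487917) (tt N112981 F487918) (tt N88803 F487919) (tt N122279 F531144) (tt N84321 F487920))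
theorem Q113951 : ∀ i, i < 113951 → P i := stepQ 113950 Q113950 (allL N113950 (tt N113970 F488016) (tt N113968 (iv0 F488007)) (tt N89949 F487925) (tt N110903 F487926) (tt N113617 F487927) (tt N89912 F487928) (tt N84283 (iv6 D217205)) (tt N113615 F487929))
theorem Q113952 : ∀ i, i < 113952 → P i := stepQ 113951 Q113951 (allL N113951 (tt N88103 F487934) (tt N88110 (iv0 F487936)) (tt N107441 F487930) (tt N84284 (iv3 D217206)) (tt N107431 F487935) (tt N89942 F487931) (tt N113614 F487932) (tt N89941 F487933))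
theorem Q113953 : ∀ i, i < 113953 → P i := stepQ 113952 Q113952 (allL N113952 (tt N105946 (iv1 F487939)) (tt N84285 (iv0 D217207)) (tt N117099 (iv2 F503377)) (tt N120535 (iv3 F521312)) (tt N116171 (iv4 F498854)) (tt N106845 F487937) (tt N116269 (iv6 F499284)) (tt N106844 (iv7 F487938)))
theorem Q113954 : ∀ i, i < 113954 → P i := stepQ 113953 Q113953 (allL N113953 (tt N84285 (iv1 D217208)) (tt N105946 F487940) (tt N106844 F487945) (tt N100036 (iv3 F487943)) (tt N89408 F487942) (tt N106836 F487941) (tt N89407 (iv6 F487944)) (tt N117099 (iv7 F503379)))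
theorem Q113955 : ∀ i, i < 113955 → P i := stepQ 113954 Q113954 (allL N113954 (tt N106844 (iv1 F487950)) (tt N117099 (iv0 F503380)) (tt N105946 F487946) (tt N84292 F487947) (tt N113002 F487948) (tt N89242 F487949) (tt N120438 F520789) (tt N84285 (iv7 D217209)))
theorem Q113956 : ∀ i, i < 113956 → P i := stepQ 113955 Q113955 (allL N113955 (tt N121496 (iv1 F526695)) (tt N121579 (iv0 F527137)) (tt N112943 F487951) (tt N84288 F487952) (tt N106554 F487953) (tt N89027 F487954) (tt N84286 (iv6 D217210)) (tt N122373 D225632))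
theorem Q113957 : ∀ i, i < 113957 → P i := stepQ 113956 Q113956 (allL N113956 (tt N84288 (iv1 D217211)) (tt N89613 F487955) (tt N89612 (iv2 F487958)) (tt N113968 (iv3 F488008)) (tt N116139 (iv4 F498688)) (tt N86268 (iv5 F487957)) (tt N117064 F503196) (tt N89611 F487956))
theorem Q113958 : ∀ i, i < 113958 → P i := stepQ 113957 Q113957 (allL N113957 (tt N89612 (iv1 F487962)) (tt N89611 F487963) (tt N89613 F487959) (tt N122373 (iv3 F531712)) (tt N88479 F487960) (tt N89032 F487961) (tt N114395 (iv6 F489949)) (tt N84288 (iv7 D217212)))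
theorem Q113959 : ∀ i, i < 113959 → P i := stepQ 113958 Q113958 (allL N113958 (tt N88741 F487965) (tt N122374 D225633) (tt N121582 (iv2 F527150)) (tt N84289 (iv3 D217213)) (tt N118513 F510762) (tt N84957 F487964) (tt N116271 (iv6 F499296)) (tt N114045 (iv7 F488335)))
theorem Q113960 : ∀ i, i < 113960 → P i := stepQ 113959 Q113959 (allL N113959 (tt N110144 F487968) (tt N111299 F487969) (tt N112931 F487966) (tt N84293 (iv3 D217214)) (tt N120357 (iv4 F520352)) (tt N85515 F487967) (tt N120356 F520349) (tt N115178 (iv7 F493880)))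
theorem Q113961 : ∀ i, i < 113961 → P i := stepQ 113960 Q113960 (allL N113960 (tt N88553 F487975) (tt N88552 F487977) (tt N88556 F487970) (tt N112930 F487971) (tt N88535 F487972) (tt N89066 F487973) (tt N84294 (iv6 D217215)) (tt N88534 (iv7 F487974)))
theorem Q113962 : ∀ i, i < 113962 → P i := stepQ 113961 Q113961 (allL N113961 (tt N85451 F487981) (tt N113989 F488085) (tt N113988 F488078) (tt N121439 (iv3 F526381)) (tt N84296 F487978) (tt N95900 F487979) (tt N84295 (iv6 D217216)) (tt N106206 F487980))
theorem Q113963 : ∀ i, i < 113963 → P i := stepQ 113962 Q113962 (allL N113962 (tt N104524 (iv1 F487982)) (tt N84296 (iv0 D217217)) (tt N106205 (iv2 F487988)) (tt N116759 (iv3 F501675)) (tt N121110 (iv4 F524559)) (tt N116880 (iv5 F502318)) (tt N116755 (iv6 F501655)) (tt N106204 (iv7 F487989)))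
theorem Q113964 : ∀ i, i < 113964 → P i := stepQ 113963 Q113963 (allL N113963 (tt N84296 (iv1 D217218)) (tt N104524 F487983) (tt N106204 F487986) (tt N120375 (iv3 F520448)) (tt N106980 (iv4 F487990)) (tt N109595 (iv5 F487985)) (tt N100064 (iv6 F487984)) (tt N106205 F487987))
theorem Q113965 : ∀ i, i < 113965 → P i := stepQ 113964 Q113964 (allL N113964 (tt N109673 (iv1 F487996)) (tt N112786 F487995) (tt N84297 (iv2 D217219)) (tt N113007 F487991) (tt N120170 (iv4 F519409)) (tt N105233 F487992) (tt N110532 F487993) (tt N105236 F487994))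
theorem Q113966 : ∀ i, i < 113966 → P i := stepQ 113965 Q113965 (allL N113965 (tt N113001 (iv1 F488006)) (tt N84298 (iv0 D217220)) (tt N114066 (iv2 F488417)) (tt N122375 D225634) (tt N113616 F488418) (tt N117191 (iv5 F503838)) (tt N114696 (iv6 F491400)) (tt N114068 (iv7 F488424)))
theorem Q113967 : ∀ i, i < 113967 → P i := stepQ 113966 Q113966 (allL N113966 (tt N84298 (iv1 D217221)) (tt N113001 F487997) (tt N114068 (iv2 F488422)) (tt N106555 F487999) (tt N89757 F488000) (tt N117196 (iv5 F503862)) (tt N92838 (iv6 F487998)) (tt N114066 (iv7 F488413)))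
theorem Q113968 : ∀ i, i < 113968 → P i := stepQ 113967 Q113967 (allL N113967 (tt N114068 F488426) (tt N114066 F488416) (tt N113001 F488001) (tt N109687 F488002) (tt N84301 F488003) (tt N109686 F488004) (tt N90736 F488005) (tt N84298 (iv7 D217222)))
theorem Q113969 : ∀ i, i < 113969 → P i := stepQ 113968 Q113968 (allL N113968 (tt N113950 F488007) (tt N84434 (iv0 F488010)) (tt N116167 (iv2 F498834)) (tt N113956 F488008) (tt N84299 (iv4 D217223)) (tt N99379 (iv5 F488009)) (tt N122137 F530380) (tt N116703 (iv7 F501393)))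
theorem Q113970 : ∀ i, i < 113970 → P i := stepQ 113969 Q113969 (allL N113969 (tt N117064 (iv1 F503193)) (tt N114783 (iv0 F491836)) (tt N85520 F488011) (tt N92804 F488012) (tt N122137 (iv4 F530379)) (tt N84877 F488013) (tt N84299 (iv6 D217224)) (tt N85518 F488014))
theorem Q113971 : ∀ i, i < 113971 → P i := stepQ 113970 Q113970 (allL N113970 (tt N84434 (iv1 F488017)) (tt N113950 (iv0 F488016)) (tt N116703 (iv2 F501389)) (tt N116156 F498788) (tt N84300 (iv4 D217225)) (tt N99378 (iv5 F488015)) (tt N116452 (iv6 F500198)) (tt N116167 (iv7 F498836)))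
theorem Q113972 : ∀ i, i < 113972 → P i := stepQ 113971 Q113971 (allL N113971 (tt N90257 F488024) (tt N105180 (iv0 F488023)) (tt N90357 F488018) (tt N84302 (iv3 D217226)) (tt N84304 F488019) (tt N89250 F488020) (tt N90894 F488021) (tt N90355 F488022))
theorem Q113973 : ∀ i, i < 113973 → P i := stepQ 113972 Q113972 (allL N113972 (tt N114700 (iv1 F491413)) (tt N84303 (iv0 D217227)) (tt N114703 (iv2 F491425)) (tt N121157 (iv3 F524838)) (tt N84982 F488025) (tt N121156 (iv5 F524834)) (tt N106573 F488026) (tt N84316 (iv7 F488027)))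
theorem Q113974 : ∀ i, i < 113974 → P i := stepQ 113973 Q113973 (allL N113973 (tt N84316 (iv1 F488030)) (tt N114703 F491428) (tt N114700 F491416) (tt N84308 F488028) (tt N84307 F488029) (tt N114329 (iv5 F489638)) (tt N117217 (iv6 F503953)) (tt N84303 (iv7 D217228)))
theorem Q113975 : ∀ i, i < 113975 → P i := stepQ 113974 Q113974 (allL N113974 (tt N84304 (iv1 D217229)) (tt N114970 (iv0 F492832)) (tt N110155 F488035) (tt N103912 (iv3 F488033)) (tt N120125 (iv4 F519184)) (tt N87839 F488032) (tt N110066 (iv6 F488034)) (tt N107083 F488031))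
theorem Q113976 : ∀ i, i < 113976 → P i := stepQ 113975 Q113975 (allL N113975 (tt N84305 (iv1 D217230)) (tt N114745 F491632) (tt N112986 (iv2 F488037)) (tt N122376 D225635) (tt N85448 F488036) (tt N116420 (iv5 F500010)) (tt N112982 F488038) (tt N114398 (iv7 F489958)))
theorem Q113977 : ∀ i, i < 113977 → P i := stepQ 113976 Q113976 (allL N113976 (tt N121483 F526628) (tt N120457 (iv0 F520892)) (tt N114744 (iv2 F491623)) (tt N98440 F488039) (tt N98442 (iv4 F488041)) (tt N84305 (iv5 D217231)) (tt N113119 F488040) (tt N118008 (iv7 F508062)))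
theorem Q113978 : ∀ i, i < 113978 → P i := stepQ 113977 Q113977 (allL N113977 (tt N114957 (iv1 F492758)) (tt N112884 (iv0 F488045)) (tt N112969 F488042) (tt N84306 (iv3 D217232)) (tt N109559 (iv4 F488044)) (tt N115035 (iv5 F493142)) (tt N90731 F488043) (tt N114742 (iv7 F491612)))
theorem Q113979 : ∀ i, i < 113979 → P i := stepQ 113978 Q113978 (allL N113978 (tt N114761 (iv1 F491718)) (tt N85573 F488049) (tt N114741 (iv2 F491604)) (tt N115035 (iv3 F493139)) (tt N85598 F488048) (tt N84306 (iv5 D217233)) (tt N90579 F488046) (tt N86297 F488047))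
theorem Q113980 : ∀ i, i < 113980 → P i := stepQ 113979 Q113979 (allL N113979 (tt N121367 (iv1 F525993)) (tt N84310 (iv0 D217234)) (tt N122300 (iv2 F531274)) (tt N120286 (iv3 F520032)) (tt N116659 (iv4 F503593)) (tt N117140 F503592) (tt N106201 F488050) (tt N116658 F503594))
theorem Q113981 : ∀ i, i < 113981 → P i := stepQ 113980 Q113980 (allL N113980 (tt N84310 (iv1 D217235)) (tt N121367 (iv0 F525992)) (tt N116658 (iv2 F501174)) (tt N112966 F498495) (tt N113553 F498496) (tt N113438 (iv5 F498494)) (tt N113552 (iv6 F498497)) (tt N122300 (iv7 F531277)))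
theorem Q113982 : ∀ i, i < 113982 → P i := stepQ 113981 Q113981 (allL N113981 (tt N116658 (iv1 F501177)) (tt N122300 (iv0 F531278)) (tt N121367 (iv2 F525987)) (tt N84314 F488051) (tt N121494 (iv4 F526680)) (tt N116105 (iv5 F498484)) (tt N114733 (iv6 F491577)) (tt N84310 (iv7 D217236)))
theorem Q113983 : ∀ i, i < 113983 → P i := stepQ 113982 Q113982 (allL N113982 (tt N84311 (iv1 D217237)) (tt N105237 (iv0 F488056)) (tt N105239 F488054) (tt N88753 F488055) (tt N119626 (iv4 F516585)) (tt N88751 (iv5 F488053)) (tt N121621 (iv6 F527379)) (tt N105234 F488052))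
theorem Q113984 : ∀ i, i < 113984 → P i := stepQ 113983 Q113983 (allL N113983 (tt N105234 (iv1 F488061)) (tt N105239 F488060) (tt N84311 (iv2 D217238)) (tt N114970 (iv3 F492830)) (tt N109706 F488057) (tt N85045 F488058) (tt N122377 D225636) (tt N105237 F488059))
theorem Q113985 : ∀ i, i < 113985 → P i := stepQ 113984 Q113984 (allL N113984 (tt N121687 (iv1 F527750)) (tt N110143 (iv0 F488063)) (tt N122377 (iv2 F531731)) (tt N84312 F488062) (tt N121496 (iv4 F526693)) (tt N114035 (iv5 F488306)) (tt N84311 (iv6 D217239)) (tt N122378 D225637))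
theorem Q113986 : ∀ i, i < 113986 → P i := stepQ 113985 Q113985 (allL N113985 (tt N84312 (iv1 D217240)) (tt N114972 F492845) (tt N114971 F492838) (tt N100965 (iv3 F488067)) (tt N91146 F488066) (tt N110536 F488065) (tt N100963 (iv6 F488068)) (tt N108426 F488064))
theorem Q113987 : ∀ i, i < 113987 → P i := stepQ 113986 Q113986 (allL N113986 (tt N114971 (iv1 F492834)) (tt N108426 (iv0 F488071)) (tt N114972 (iv2 F492840)) (tt N122378 (iv3 F531739)) (tt N84314 F488069) (tt N112164 F488070) (tt N114745 (iv6 F491631)) (tt N84312 (iv7 D217241)))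
theorem Q113988 : ∀ i, i < 113988 → P i := stepQ 113987 Q113987 (allL N113987 (tt N112886 F488074) (tt N122237 F530942) (tt N112965 F488072) (tt N84313 (iv3 D217242)) (tt N121449 (iv4 F526436)) (tt N113427 F488073) (tt N121690 (iv6 F527765)) (tt N117221 (iv7 F503974)))
theorem Q113989 : ∀ i, i < 113989 → P i := stepQ 113988 Q113988 (allL N113988 (tt N105188 (iv1 F488079)) (tt N84317 (iv0 D217243)) (tt N113961 (iv2 F488078)) (tt N108422 F488077) (tt N113860 F488076) (tt N103537 F488075) (tt N101275 F488080) (tt N114704 (iv7 F491433)))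
theorem Q113990 : ∀ i, i < 113990 → P i := stepQ 113989 Q113989 (allL N113989 (tt N113961 (iv1 F488085)) (tt N114704 F491432) (tt N84317 (iv2 D217244)) (tt N105074 F488081) (tt N101480 F488082) (tt N84966 F488083) (tt N101482 (iv6 F488086)) (tt N105188 F488084))
theorem Q113991 : ∀ i, i < 113991 → P i := stepQ 113990 Q113990 (allL N113990 (tt N110096 (iv1 F488093)) (tt N110098 (iv0 F488092)) (tt N101482 F488087) (tt N84318 F488088) (tt N101475 F488089) (tt N106035 F488090) (tt N84317 (iv6 D217245)) (tt N112746 (iv7 F488091)))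
theorem Q113992 : ∀ i, i < 113992 → P i := stepQ 113991 Q113991 (allL N113991 (tt N90508 (iv1 F488098)) (tt N106559 F488099) (tt N106573 F488094) (tt N112746 F488095) (tt N88573 F488096) (tt N89241 F488097) (tt N114703 (iv6 F491427)) (tt N84318 (iv7 D217246)))
theorem Q113993 : ∀ i, i < 113993 → P i := stepQ 113992 Q113992 (allL N113992 (tt N121266 F525469) (tt N121131 (iv0 F524680)) (tt N121580 (iv2 F527138)) (tt N84319 (iv3 D217247)) (tt N116758 (iv4 F501670)) (tt N101212 F488100) (tt N114742 (iv6 F491611)) (tt N121420 (iv7 F526261)))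
theorem Q113994 : ∀ i, i < 113994 → P i := stepQ 113993 Q113993 (allL N113993 (tt N116266 (iv1 F499277)) (tt N116268 F500534) (tt N117217 (iv2 F503949)) (tt N121367 (iv3 F525988)) (tt N84319 (iv4 D217248)) (tt N116251 F499224) (tt N114700 F491417) (tt N116800 (iv7 F501911)))
theorem Q113995 : ∀ i, i < 113995 → P i := stepQ 113994 Q113994 (allL N113994 (tt N105172 F488107) (tt N105181 (iv0 F488106)) (tt N105179 F488105) (tt N84320 (iv3 D217249)) (tt N110169 F488101) (tt N105473 F488102) (tt N90355 F488103) (tt N105178 F488104))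
theorem Q113996 : ∀ i, i < 113996 → P i := stepQ 113995 Q113995 (allL N113995 (tt N112885 F488111) (tt N116168 (iv0 F498844)) (tt N115530 (iv2 F495655)) (tt N84325 F488108) (tt N110874 F488112) (tt N84324 (iv5 D217250)) (tt N101276 F488109) (tt N88441 F488110))
theorem Q113997 : ∀ i, i < 113997 → P i := stepQ 113996 Q113996 (allL N113996 (tt N88110 (iv1 F488117)) (tt N88103 (iv0 F488118)) (tt N89941 F488113) (tt N84326 (iv3 D217251)) (tt N107442 F488116) (tt N89115 F488114) (tt N121091 (iv6 F524470)) (tt N107441 F488115))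
theorem Q113998 : ∀ i, i < 113998 → P i := stepQ 113997 Q113997 (allL N113997 (tt N88590 F488124) (tt N84415 F488125) (tt N112953 F488119) (tt N105248 F488120) (tt N84326 (iv4 D217252)) (tt N105247 F488123) (tt N110877 F488121) (tt N107448 F488122))
theorem Q113999 : ∀ i, i < 113999 → P i := stepQ 113998 Q113998 (allL N113998 (tt N84415 F488129) (tt N88590 F488130) (tt N107448 F488126) (tt N114040 (iv3 F488317)) (tt N84327 (iv4 D217253)) (tt N121104 (iv5 F524530)) (tt N111966 F488127) (tt N112953 F488128))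
theorem Q114000 : ∀ i, i < 114000 → P i := stepQ 113999 Q113999 (allL N113999 (tt N122133 (iv1 F530363)) (tt N107391 (iv0 F488133)) (tt N122232 (iv2 F530909)) (tt N84328 (iv3 D217254)) (tt N84331 F488131) (tt N120369 (iv5 F520413)) (tt N111963 (iv6 F488134)) (tt N100889 F488132))
theorem Q114001 : ∀ i, i < 114001 → P i := stepQ 114000 Q114000 (allL N114000 (tt N120321 F520186) (tt N122379 D225638) (tt N122155 (iv2 F530468)) (tt N111963 F488135) (tt N84329 F488136) (tt N121106 (iv5 F524543)) (tt N84328 (iv6 D217255)) (tt N111961 F488137))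
theorem Q114002 : ∀ i, i < 114002 → P i := stepQ 114001 Q114001 (allL N114001 (tt N120445 F520821) (tt N84329 (iv0 D217256)) (tt N120535 (iv2 F521311)) (tt N100060 F488141) (tt N100579 F488138) (tt N120524 (iv5 F521248)) (tt N100890 F488139) (tt N100058 (iv7 F488140)))
theorem Q114003 : ∀ i, i < 114003 → P i := stepQ 114002 Q114002 (allL N114002 (tt N84329 (iv1 D217257)) (tt N120445 (iv0 F520820)) (tt N100058 F488145) (tt N106844 F488146) (tt N100885 (iv4 F488142)) (tt N106842 (iv5 F488143)) (tt N101277 (iv6 F488144)) (tt N120535 (iv7 F521315)))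
theorem Q114004 : ∀ i, i < 114004 → P i := stepQ 114003 Q114003 (allL N114003 (tt N100058 (iv1 F488151)) (tt N120535 (iv0 F521317)) (tt N120445 (iv2 F520817)) (tt N84335 F488147) (tt N111961 F488148) (tt N90347 F488149) (tt N110030 F488150) (tt N84329 (iv7 D217258)))
theorem Q114005 : ∀ i, i < 114005 → P i := stepQ 114004 Q114004 (allL N114004 (tt N100891 (iv1 F488157)) (tt N100890 F488156) (tt N84331 (iv2 D217259)) (tt N112948 F488152) (tt N122232 (iv4 F530910)) (tt N113201 F488153) (tt N100901 F488154) (tt N100581 F488155))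
theorem Q114006 : ∀ i, i < 114006 → P i := stepQ 114005 Q114005 (allL N114005 (tt N87190 F488162) (tt N87189 (iv0 F488164)) (tt N87191 F488158) (tt N84344 F488159) (tt N100339 F488160) (tt N100280 F488163) (tt N84343 (iv6 D217260)) (tt N87188 F488161))
theorem Q114007 : ∀ i, i < 114007 → P i := stepQ 114006 Q114006 (allL N114006 (tt N89919 F488171) (tt N89918 F488169) (tt N89920 F488165) (tt N100280 F488166) (tt N90750 F488170) (tt N84344 (iv5 D217261)) (tt N88633 F488167) (tt N87260 F488168))
theorem Q114008 : ∀ i, i < 114008 → P i := stepQ 114007 Q114007 (allL N114007 (tt N114023 (iv1 F488242)) (tt N117335 (iv0 F504515)) (tt N117299 (iv2 F504351)) (tt N116740 (iv3 F501580)) (tt N121196 (iv4 F525075)) (tt N84345 (iv5 D217262)) (tt N115133 (iv6 F493645)) (tt N117337 (iv7 F504525)))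
theorem Q114009 : ∀ i, i < 114009 → P i := stepQ 114008 Q114008 (allL N114008 (tt N88519 (iv1 F488178)) (tt N101099 F488177) (tt N84349 (iv2 D217263)) (tt N84469 F488172) (tt N100322 F488173) (tt N90946 F488174) (tt N99882 F488175) (tt N112314 F488176))
theorem Q114010 : ∀ i, i < 114010 → P i := stepQ 114009 Q114009 (allL N114009 (tt N96876 F488181) (tt N115421 F495112) (tt N115422 (iv2 F495113)) (tt N84356 F488179) (tt N103599 F488180) (tt N115520 (iv5 F495613)) (tt N84355 (iv6 D217264)) (tt N115420 (iv7 F495106)))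
theorem Q114011 : ∀ i, i < 114011 → P i := stepQ 114010 Q114010 (allL N114010 (tt N87794 (iv1 F488184)) (tt N84356 (iv0 D217265)) (tt N113913 (iv2 F488185)) (tt N98122 F488183) (tt N91014 F488182) (tt N115954 (iv5 F497755)) (tt N96869 F488187) (tt N111768 (iv7 F488186)))
theorem Q114012 : ∀ i, i < 114012 → P i := stepQ 114011 Q114011 (allL N114011 (tt N84356 (iv1 D217266)) (tt N87794 F488188) (tt N111768 F488192) (tt N87746 (iv3 F488191)) (tt N91015 F488190) (tt N115879 (iv5 F497373)) (tt N87744 F488193) (tt N113913 F488189))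
theorem Q114013 : ∀ i, i < 114013 → P i := stepQ 114012 Q114012 (allL N114012 (tt N110519 F488196) (tt N89836 (iv0 F488198)) (tt N117339 (iv2 F504535)) (tt N108431 F488194) (tt N121598 (iv4 F527248)) (tt N84357 (iv5 D217267)) (tt N89756 F488197) (tt N89818 F488195))
theorem Q114014 : ∀ i, i < 114014 → P i := stepQ 114013 Q114013 (allL N114013 (tt N113659 F488202) (tt N115628 (iv0 F496044)) (tt N122093 (iv2 F530120)) (tt N84363 F488199) (tt N108213 F488201) (tt N84362 (iv5 D217268)) (tt N90754 F488200) (tt N121107 (iv7 F524548)))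
theorem Q114015 : ∀ i, i < 114015 → P i := stepQ 114014 Q114014 (allL N114014 (tt N84363 (iv1 D217269)) (tt N119361 (iv0 F515214)) (tt N119553 (iv2 F516208)) (tt N88097 F488205) (tt N117577 (iv4 F505806)) (tt N88095 (iv5 F488204)) (tt N122339 (iv6 F531510)) (tt N110338 F488203))
theorem Q114016 : ∀ i, i < 114016 → P i := stepQ 114015 Q114015 (allL N114015 (tt N115948 (iv1 F497732)) (tt N115881 (iv0 F497387)) (tt N116810 (iv2 F501955)) (tt N117148 (iv3 F503634)) (tt N84363 (iv4 D217270)) (tt N116804 (iv5 F501926)) (tt N90757 F488206) (tt N119358 (iv7 F515203)))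
theorem Q114017 : ∀ i, i < 114017 → P i := stepQ 114016 Q114016 (allL N114016 (tt N119553 (iv1 F516213)) (tt N110338 (iv0 F488208)) (tt N119361 (iv2 F515211)) (tt N121107 (iv3 F524546)) (tt N119358 (iv4 F515202)) (tt N84364 F488207) (tt N122194 (iv6 F530701)) (tt N84363 (iv7 D217271)))
theorem Q114018 : ∀ i, i < 114018 → P i := stepQ 114017 Q114017 (allL N114017 (tt N109265 (iv1 F488214)) (tt N88523 F488213) (tt N84365 (iv2 D217272)) (tt N99878 F488209) (tt N97092 F488210) (tt N91135 (iv5 F488215)) (tt N99877 F488211) (tt N97091 F488212))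
theorem Q114019 : ∀ i, i < 114019 → P i := stepQ 114018 Q114018 (allL N114018 (tt N91136 F488219) (tt N84742 F488220) (tt N91135 F488216) (tt N84366 F488217) (tt N119796 (iv4 F517454)) (tt N84365 (iv5 D217273)) (tt N122050 (iv6 F529857)) (tt N91134 F488218))
theorem Q114020 : ∀ i, i < 114020 → P i := stepQ 114019 Q114019 (allL N114019 (tt N84366 (iv1 D217274)) (tt N84369 F488221) (tt N112345 (iv2 F488227)) (tt N100975 (iv3 F488225)) (tt N110375 F488224) (tt N100971 F488223) (tt N112348 F488226) (tt N100970 F488222))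
theorem Q114021 : ∀ i, i < 114021 → P i := stepQ 114020 Q114020 (allL N114020 (tt N90610 F488230) (tt N106586 F488231) (tt N107201 F488228) (tt N119110 (iv3 F513840)) (tt N84366 (iv4 D217275)) (tt N96223 F488229) (tt N122290 (iv6 F531218)) (tt N116807 (iv7 F501944)))
theorem Q114022 : ∀ i, i < 114022 → P i := stepQ 114021 Q114021 (allL N114021 (tt N116475 (iv1 F500333)) (tt N116474 (iv0 F500326)) (tt N91009 F488232) (tt N122050 (iv3 F529855)) (tt N122290 (iv4 F531217)) (tt N89293 F488233) (tt N84366 (iv6 D217276)) (tt N116118 (iv7 F498566)))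
theorem Q114023 : ∀ i, i < 114023 → P i := stepQ 114022 Q114022 (allL N114022 (tt N106586 F488237) (tt N90610 F488238) (tt N116807 (iv2 F501941)) (tt N96205 F488239) (tt N84369 (iv4 D217277)) (tt N96204 F488234) (tt N90603 F488235) (tt N107201 F488236))
theorem Q114024 : ∀ i, i < 114024 → P i := stepQ 114023 Q114023 (allL N114023 (tt N100979 F488241) (tt N114007 F488242) (tt N117389 (iv2 F504783)) (tt N113500 F488240) (tt N121301 (iv4 F525635)) (tt N84370 (iv5 D217278)) (tt N116116 (iv6 F498552)) (tt N114051 F488359))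
theorem Q114025 : ∀ i, i < 114025 → P i := stepQ 114024 Q114024 (allL N114024 (tt N107542 F488246) (tt N99949 (iv0 F488247)) (tt N109208 (iv2 F488248)) (tt N84372 (iv3 D217279)) (tt N118759 (iv4 F511927)) (tt N99772 F488243) (tt N113450 F488244) (tt N99771 F488245))
theorem Q114026 : ∀ i, i < 114026 → P i := stepQ 114025 Q114025 (allL N114025 (tt N84376 (iv1 D217280)) (tt N88616 F488249) (tt N89359 (iv2 F492391)) (tt N116837 F502099) (tt N90800 F488251) (tt N90963 (iv5 F488254)) (tt N114894 F492390) (tt N89358 (iv7 F492392)))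
theorem Q114027 : ∀ i, i < 114027 → P i := stepQ 114026 Q114026 (allL N114026 (tt N90852 (iv1 F488257)) (tt N84377 (iv0 D217281)) (tt N90851 (iv2 F488256)) (tt N113721 F488255) (tt N122203 (iv4 F530749)) (tt N114881 (iv5 F492318)) (tt N122180 (iv6 F530625)) (tt N90850 F488258))
theorem Q114028 : ∀ i, i < 114028 → P i := stepQ 114027 Q114027 (allL N114027 (tt N106900 F488264) (tt N88810 (iv0 F488265)) (tt N106901 F488259) (tt N84380 (iv3 D217282)) (tt N86823 F488260) (tt N89153 F488261) (tt N86822 F488262) (tt N88988 F488263))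
theorem Q114029 : ∀ i, i < 114029 → P i := stepQ 114028 Q114028 (allL N114028 (tt N89373 (iv1 F488268)) (tt N84384 (iv0 D217283)) (tt N90311 (iv2 F488267)) (tt N110604 (iv3 F488270)) (tt N89311 F488266) (tt N90936 (iv5 F488271)) (tt N119767 (iv6 F517316)) (tt N89310 F488269))
theorem Q114030 : ∀ i, i < 114030 → P i := stepQ 114029 Q114029 (allL N114029 (tt N104965 F488273) (tt N90902 (iv0 F488276)) (tt N120563 (iv2 F521469)) (tt N84386 (iv3 D217284)) (tt N101927 F488272) (tt N106355 F488277) (tt N117366 F504692) (tt N117170 (iv7 F503734)))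
theorem Q114031 : ∀ i, i < 114031 → P i := stepQ 114030 Q114030 (allL N114030 (tt N116376 F499779) (tt N96701 F488282) (tt N106323 F488278) (tt N106355 F488279) (tt N106279 F488280) (tt N84386 (iv5 D217285)) (tt N115555 (iv6 F495765)) (tt N107313 F488281))
theorem Q114032 : ∀ i, i < 114032 → P i := stepQ 114031 Q114031 (allL N114031 (tt N90023 F488286) (tt N107127 (iv0 F488287)) (tt N84406 F488283) (tt N116393 (iv3 F499857)) (tt N84405 (iv4 D217286)) (tt N94158 F488285) (tt N99394 F488288) (tt N89636 F488284))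
theorem Q114033 : ∀ i, i < 114033 → P i := stepQ 114032 Q114032 (allL N114032 (tt N120720 F522341) (tt N121685 (iv0 F527737)) (tt N84407 F488289) (tt N89374 F488290) (tt N99394 F488291) (tt N88832 F488292) (tt N84405 (iv6 D217287)) (tt N121198 (iv7 F525089)))
theorem Q114034 : ∀ i, i < 114034 → P i := stepQ 114033 Q114033 (allL N114033 (tt N89636 (iv1 F488297)) (tt N84406 (iv0 D217288)) (tt N90023 (iv2 F488296)) (tt N107129 F488295) (tt N89128 F488294) (tt N91069 F488293) (tt N119999 (iv6 F518476)) (tt N107127 F488298))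
theorem Q114035 : ∀ i, i < 114035 → P i := stepQ 114034 Q114034 (allL N114034 (tt N94160 F488302) (tt N94149 F488303) (tt N94158 F488299) (tt N90751 F488300) (tt N114626 (iv4 F491074)) (tt N84406 (iv5 D217289)) (tt N85135 F488304) (tt N94159 F488301))
theorem Q114036 : ∀ i, i < 114036 → P i := stepQ 114035 Q114035 (allL N114035 (tt N121198 F525091) (tt N84407 (iv0 D217290)) (tt N120720 (iv2 F522337)) (tt N106728 F488305) (tt N119016 (iv4 F513299)) (tt N113984 F488306) (tt N106727 F488307) (tt N121685 (iv7 F527736)))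
theorem Q114037 : ∀ i, i < 114037 → P i := stepQ 114036 Q114036 (allL N114036 (tt N84407 (iv1 D217291)) (tt N121198 (iv0 F525090)) (tt N121685 (iv2 F527733)) (tt N113017 (iv3 F488308)) (tt N121337 (iv4 F525844)) (tt N121911 (iv5 F529018)) (tt N120113 (iv6 F519119)) (tt N120720 (iv7 F522339)))
theorem Q114038 : ∀ i, i < 114038 → P i := stepQ 114037 Q114037 (allL N114037 (tt N121685 F527738) (tt N120720 (iv0 F522340)) (tt N121198 (iv2 F525085)) (tt N84410 F488309) (tt N99393 F488310) (tt N116812 (iv5 F501967)) (tt N107114 F488311) (tt N84407 (iv7 D217292)))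
theorem Q114039 : ∀ i, i < 114039 → P i := stepQ 114038 Q114038 (allL N114038 (tt N90900 F488312) (tt N118383 F510063) (tt N121321 F525752) (tt N84409 (iv3 D217293)) (tt N119051 (iv4 F513505)) (tt N122361 (iv5 F531634)) (tt N121756 F528132) (tt N117182 (iv7 F503800)))
theorem Q114040 : ∀ i, i < 114040 → P i := stepQ 114039 Q114039 (allL N114039 (tt N86334 F488314) (tt N86343 (iv0 F488315)) (tt N117113 (iv2 F503463)) (tt N121756 (iv3 F528128)) (tt N108517 F488313) (tt N114675 (iv5 F491318)) (tt N84409 (iv6 D217294)) (tt N114674 F491316))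
theorem Q114041 : ∀ i, i < 114041 → P i := stepQ 114040 Q114040 (allL N114040 (tt N100579 F488320) (tt N100885 (iv0 F488319)) (tt N100883 F488316) (tt N113998 F488317) (tt N84416 F488318) (tt N121102 (iv5 F524520)) (tt N84415 (iv6 D217295)) (tt N100884 (iv7 F488321)))
theorem Q114042 : ∀ i, i < 114042 → P i := stepQ 114041 Q114041 (allL N114041 (tt N120293 (iv1 F520076)) (tt N84416 (iv0 D217296)) (tt N120292 F520067) (tt N113000 F488323) (tt N121501 (iv4 F526720)) (tt N101626 F488322) (tt N111916 F488324) (tt N117297 (iv7 F504339)))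
theorem Q114043 : ∀ i, i < 114043 → P i := stepQ 114042 Q114042 (allL N114042 (tt N84416 (iv1 D217297)) (tt N120293 F520075) (tt N117297 (iv2 F504336)) (tt N108433 (iv3 F488325)) (tt N120369 (iv4 F520412)) (tt N101625 (iv5 F488326)) (tt N105240 (iv6 F488327)) (tt N120292 (iv7 F520068)))
theorem Q114044 : ∀ i, i < 114044 → P i := stepQ 114043 Q114043 (allL N114043 (tt N117297 F504341) (tt N120292 F520069) (tt N120293 (iv2 F520070)) (tt N84424 F488328) (tt N100884 F488329) (tt N120525 (iv5 F521253)) (tt N101489 F488330) (tt N84416 (iv7 D217298)))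
theorem Q114045 : ∀ i, i < 114045 → P i := stepQ 114044 Q114044 (allL N114044 (tt N118525 F510801) (tt N122375 (iv0 F531724)) (tt N122328 (iv2 F531446)) (tt N84419 F488331) (tt N118567 F510949) (tt N85338 F488332) (tt N84417 (iv6 D217299)) (tt N122380 D225639))
theorem Q114046 : ∀ i, i < 114046 → P i := stepQ 114045 Q114045 (allL N114045 (tt N116264 F499270) (tt N116254 (iv0 F499241)) (tt N116262 F499266) (tt N84418 (iv3 D217300)) (tt N121432 (iv4 F526341)) (tt N85040 F488333) (tt N89399 F488334) (tt N113958 F488335))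
theorem Q114047 : ∀ i, i < 114047 → P i := stepQ 114046 Q114046 (allL N114046 (tt N89537 (iv1 F488341)) (tt N84419 (iv0 D217301)) (tt N89535 (iv2 F488338)) (tt N110530 F488339) (tt N90510 F488337) (tt N96261 F488336) (tt N117337 (iv6 F504524)) (tt N89536 F488340))
theorem Q114048 : ∀ i, i < 114048 → P i := stepQ 114047 Q114047 (allL N114047 (tt N89536 (iv1 F488346)) (tt N89535 F488347) (tt N89537 F488342) (tt N122380 (iv3 F531752)) (tt N88495 F488343) (tt N85343 F488344) (tt N88757 F488345) (tt N84419 (iv7 D217302)))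
theorem Q114049 : ∀ i, i < 114049 → P i := stepQ 114048 Q114048 (allL N114048 (tt N121086 (iv1 F524449)) (tt N120973 (iv0 F523797)) (tt N107645 F488351) (tt N84420 (iv3 D217303)) (tt N99433 F488348) (tt N85041 F488349) (tt N122284 (iv6 F531176)) (tt N89538 F488350))
theorem Q114050 : ∀ i, i < 114050 → P i := stepQ 114049 Q114049 (allL N114049 (tt N121322 (iv1 F525758)) (tt N122182 (iv0 F530640)) (tt N122345 F531550) (tt N84422 (iv3 D217304)) (tt N119314 (iv4 F514976)) (tt N117334 (iv5 F504509)) (tt N122381 D225640) (tt N117333 F504507))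
theorem Q114051 : ∀ i, i < 114051 → P i := stepQ 114050 Q114050 (allL N114050 (tt N116567 (iv1 F500772)) (tt N88560 (iv0 F488355)) (tt N91143 F488352) (tt N122381 (iv3 F531757)) (tt N112371 F488353) (tt N88424 F488354) (tt N84422 (iv6 D217305)) (tt N91140 (iv7 F488356)))
theorem Q114052 : ∀ i, i < 114052 → P i := stepQ 114051 Q114051 (allL N114051 (tt N117299 (iv1 F504355)) (tt N117337 (iv0 F504527)) (tt N117335 (iv2 F504512)) (tt N109414 F488357) (tt N116294 (iv4 F499417)) (tt N109413 F488358) (tt N84423 (iv6 D217306)) (tt N114023 (iv7 F488359)))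
theorem Q114053 : ∀ i, i < 114053 → P i := stepQ 114052 Q114052 (allL N114052 (tt N114256 F489259) (tt N86416 (iv0 F488364)) (tt N102942 F488360) (tt N84425 (iv3 D217307)) (tt N102942 F488361) (tt N102940 F488362) (tt N86889 F488363) (tt N114353 (iv7 F489780)))
theorem Q114054 : ∀ i, i < 114054 → P i := stepQ 114053 Q114053 (allL N114053 (tt N85050 F488369) (tt N85051 F488370) (tt N102467 F488365) (tt N103796 F488366) (tt N84427 (iv4 D217308)) (tt N119492 (iv5 F515883)) (tt N109028 F488367) (tt N102496 F488368))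
theorem Q114055 : ∀ i, i < 114055 → P i := stepQ 114054 Q114054 (allL N114054 (tt N84428 (iv1 D217309)) (tt N96690 F488371) (tt N112349 F488376) (tt N97801 (iv3 F488374)) (tt N117145 (iv4 F503614)) (tt N86223 F488373) (tt N105319 (iv6 F488375)) (tt N84931 F488372))
theorem Q114056 : ∀ i, i < 114056 → P i := stepQ 114055 Q114055 (allL N114055 (tt N112349 (iv1 F488382)) (tt N84931 F488383) (tt N96690 F488377) (tt N97895 F488378) (tt N106036 F488379) (tt N96686 F488380) (tt N104822 F488381) (tt N84428 (iv7 D217310)))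
theorem Q114057 : ∀ i, i < 114057 → P i := stepQ 114056 Q114056 (allL N114056 (tt N88831 (iv1 F488385)) (tt N84430 (iv0 D217311)) (tt N120357 (iv2 F520350)) (tt N121846 F528670) (tt N112931 F488384) (tt N120383 (iv5 F520495)) (tt N109672 (iv6 F516729)) (tt N121437 (iv7 F526369)))
theorem Q114058 : ∀ i, i < 114058 → P i := stepQ 114057 Q114057 (allL N114057 (tt N84430 (iv1 D217312)) (tt N88831 F488386) (tt N121437 (iv2 F526366)) (tt N88578 (iv3 F488387)) (tt N115178 (iv4 F493877)) (tt N120382 (iv5 F520487)) (tt N88577 F488388) (tt N120357 (iv7 F520353)))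
theorem Q114059 : ∀ i, i < 114059 → P i := stepQ 114058 Q114058 (allL N114058 (tt N116709 F501426) (tt N122272 F531100) (tt N121510 (iv2 F526766)) (tt N121303 (iv3 F525646)) (tt N84431 F488389) (tt N121506 (iv5 F526743)) (tt N84430 (iv6 D217313)) (tt N122270 (iv7 F531090)))
theorem Q114060 : ∀ i, i < 114060 → P i := stepQ 114059 Q114059 (allL N114059 (tt N121516 (iv1 F526809)) (tt N84431 (iv0 D217314)) (tt N113025 (iv2 F488395)) (tt N115100 F493484) (tt N122235 (iv4 F530925)) (tt N115099 (iv5 F493485)) (tt N116739 F501578) (tt N116731 (iv7 F501545)))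
theorem Q114061 : ∀ i, i < 114061 → P i := stepQ 114060 Q114060 (allL N114060 (tt N84431 (iv1 D217315)) (tt N121516 (iv0 F526808)) (tt N116731 (iv2 F501542)) (tt N101257 (iv3 F488390)) (tt N113171 F488393) (tt N101781 (iv5 F488392)) (tt N101782 (iv6 F488391)) (tt N113025 F488394))
theorem Q114062 : ∀ i, i < 114062 → P i := stepQ 114061 Q114061 (allL N114061 (tt N116731 (iv1 F501547)) (tt N113025 (iv0 F488398)) (tt N121516 (iv2 F526804)) (tt N84438 F488396) (tt N122270 (iv4 F531087)) (tt N107971 F488397) (tt N116812 (iv6 F501968)) (tt N84431 (iv7 D217316)))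
theorem Q114063 : ∀ i, i < 114063 → P i := stepQ 114062 Q114062 (allL N114062 (tt N113309 F488403) (tt N90070 F488404) (tt N89682 F488399) (tt N106265 F488400) (tt N84432 (iv4 D217317)) (tt N116745 (iv5 F501608)) (tt N106263 F488401) (tt N85372 F488402))
theorem Q114064 : ∀ i, i < 114064 → P i := stepQ 114063 Q114063 (allL N114063 (tt N105185 (iv1 F488405)) (tt N84433 (iv0 D217318)) (tt N114390 (iv2 F489924)) (tt N120171 (iv3 F519414)) (tt N120088 (iv4 F518983)) (tt N114388 (iv5 F489919)) (tt N120087 F518981) (tt N114387 F489914))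
theorem Q114065 : ∀ i, i < 114065 → P i := stepQ 114064 Q114064 (allL N114064 (tt N84433 (iv1 D217319)) (tt N105185 F488406) (tt N114387 F489912) (tt N121528 (iv3 F526866)) (tt N121126 (iv4 F524648)) (tt N114384 (iv5 F489913)) (tt N100934 (iv6 F488407)) (tt N114390 (iv7 F489925)))
theorem Q114066 : ∀ i, i < 114066 → P i := stepQ 114065 Q114065 (allL N114065 (tt N107373 F488411) (tt N107371 (iv0 F488412)) (tt N108031 F488408) (tt N84434 F488409) (tt N121303 (iv4 F525647)) (tt N108029 F488410) (tt N84433 (iv6 D217320)) (tt N116809 (iv7 F501954)))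
theorem Q114067 : ∀ i, i < 114067 → P i := stepQ 114066 Q114066 (allL N114066 (tt N113967 (iv1 F488416)) (tt N113607 (iv0 F488415)) (tt N113965 F488417) (tt N121270 (iv3 F525491)) (tt N84435 (iv4 D217321)) (tt N90752 F488414) (tt N115139 (iv6 F493676)) (tt N113966 F488413))
theorem Q114068 : ∀ i, i < 114068 → P i := stepQ 114067 Q114067 (allL N114067 (tt N121555 (iv1 F527024)) (tt N121569 F527084) (tt N121232 (iv2 F525270)) (tt N84436 (iv3 D217322)) (tt N94461 (iv4 F488421)) (tt N108798 F488419) (tt N112110 F488420) (tt N121568 (iv7 F527079)))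
theorem Q114069 : ∀ i, i < 114069 → P i := stepQ 114068 Q114068 (allL N114068 (tt N113607 F488427) (tt N113967 (iv0 F488426)) (tt N113966 F488422) (tt N122382 D225641) (tt N84436 (iv4 D217323)) (tt N107466 F488425) (tt N113890 F488423) (tt N113965 F488424))
theorem Q114070 : ∀ i, i < 114070 → P i := stepQ 114069 Q114069 (allL N114069 (tt N85331 (iv1 F488432)) (tt N85330 F488433) (tt N85332 F488428) (tt N107971 F488429) (tt N117594 (iv4 F505895)) (tt N84438 F488430) (tt N85376 F488431) (tt N84437 (iv7 D217324)))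
theorem Q114071 : ∀ i, i < 114071 → P i := stepQ 114070 Q114070 (allL N114070 (tt N84464 F488438) (tt N94020 (iv0 F488439)) (tt N86818 F488434) (tt N109014 F488435) (tt N119686 (iv4 F516913)) (tt N85017 F488436) (tt N84447 (iv6 D217325)) (tt N109013 F488437))
theorem Q114072 : ∀ i, i < 114072 → P i := stepQ 114071 Q114071 (allL N114071 (tt N86764 F488444) (tt N113867 F488445) (tt N113678 F488440) (tt N84449 F488441) (tt N86908 F488446) (tt N84448 (iv5 D217326)) (tt N97963 F488442) (tt N86831 F488443))
theorem Q114073 : ∀ i, i < 114073 → P i := stepQ 114072 Q114072 (allL N114072 (tt N105908 F488451) (tt N86769 (iv0 F488452)) (tt N115141 F493690) (tt N84455 (iv3 D217327)) (tt N88820 F488447) (tt N104944 F488448) (tt N87568 F488449) (tt N86838 F488450))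
theorem Q114074 : ∀ i, i < 114074 → P i := stepQ 114073 Q114073 (allL N114073 (tt N84460 (iv1 D217328)) (tt N94023 F488453) (tt N109649 F488457) (tt N115222 F494093) (tt N115311 (iv4 F494520)) (tt N92967 F488455) (tt N94017 (iv6 F488456)) (tt N92954 F488454))
theorem Q114075 : ∀ i, i < 114075 → P i := stepQ 114074 Q114074 (allL N114074 (tt N109013 (iv1 F488462)) (tt N86818 F488461) (tt N84464 (iv2 D217329)) (tt N94021 F488458) (tt N118051 (iv4 F508302)) (tt N98551 F488459) (tt N104995 F488463) (tt N94020 F488460))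
theorem Q114076 : ∀ i, i < 114076 → P i := stepQ 114075 Q114075 (allL N114075 (tt N109744 F488469) (tt N91215 F488470) (tt N104995 F488464) (tt N84466 F488465) (tt N109742 F488466) (tt N86683 F488467) (tt N84464 (iv6 D217330)) (tt N109723 F488468))
theorem Q114077 : ∀ i, i < 114077 → P i := stepQ 114076 Q114076 (allL N114076 (tt N84467 (iv1 F488474)) (tt N84465 (iv0 D217331)) (tt N117418 (iv2 F504942)) (tt N105786 F488473) (tt N87665 F488472) (tt N86800 F488471) (tt N86124 (iv6 F488476)) (tt N105929 F488475))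
theorem Q114078 : ∀ i, i < 114078 → P i := stepQ 114077 Q114077 (allL N114077 (tt N84466 (iv1 D217332)) (tt N94016 F488477) (tt N87546 F488480) (tt N115191 (iv3 F493946)) (tt N119363 (iv4 F515226)) (tt N86567 F488481) (tt N86794 (iv6 F488479)) (tt N86827 F488478))
theorem Q114079 : ∀ i, i < 114079 → P i := stepQ 114078 Q114078 (allL N114078 (tt N113854 F488485) (tt N113103 F488486) (tt N114326 (iv2 F489620)) (tt N87041 F488482) (tt N84467 (iv4 D217333)) (tt N114324 (iv5 F489609)) (tt N92236 F488483) (tt N87038 F488484))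
theorem Q114080 : ∀ i, i < 114080 → P i := stepQ 114079 Q114079 (allL N114079 (tt N109139 F488492) (tt N96265 F488493) (tt N89517 F488487) (tt N84483 F488488) (tt N94278 F488489) (tt N84481 (iv5 D217334)) (tt N84482 F488490) (tt N96251 F488491))
theorem Q114081 : ∀ i, i < 114081 → P i := stepQ 114080 Q114080 (allL N114080 (tt N89938 F488498) (tt N94323 F488499) (tt N89516 F488494) (tt N100509 F488495) (tt N84482 (iv4 D217335)) (tt N119253 (iv5 F514644)) (tt N94278 F488496) (tt N89514 F488497))
theorem Q114082 : ∀ i, i < 114082 → P i := stepQ 114081 Q114081 (allL N114081 (tt N84486 (iv1 D217336)) (tt N86602 F488500) (tt N86601 F488506) (tt N98770 (iv3 F488504)) (tt N107177 F488502) (tt N104937 F488503) (tt N98769 (iv6 F488505)) (tt N86031 F488501))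
theorem Q114083 : ∀ i, i < 114083 → P i := stepQ 114082 Q114082 (allL N114082 (tt N84488 (iv1 D217337)) (tt N109554 F488507) (tt N114254 (iv2 F489241)) (tt N100812 (iv3 F488511)) (tt N85811 F488510) (tt N89418 F488509) (tt N121925 (iv6 F529100)) (tt N89417 F488508))
theorem Q114084 : ∀ i, i < 114084 → P i := stepQ 114083 Q114083 (allL N114083 (tt N88160 (iv1 F488516)) (tt N88159 F488517) (tt N84600 F488512) (tt N84499 F488513) (tt N84597 F488514) (tt N114873 (iv5 F492270)) (tt N87179 F488515) (tt N84494 (iv7 D217338)))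
theorem Q114085 : ∀ i, i < 114085 → P i := stepQ 114084 Q114084 (allL N114084 (tt N87250 (iv1 F488523)) (tt N84495 (iv0 D217339)) (tt N87249 (iv2 F488522)) (tt N87415 F488520) (tt N95646 F488519) (tt N91504 F488518) (tt N84513 F488521) (tt N87248 F488524))
theorem Q114086 : ∀ i, i < 114086 → P i := stepQ 114085 Q114085 (allL N114085 (tt N93910 (iv1 F488530)) (tt N103127 (iv0 F488529)) (tt N99670 F488525) (tt N99699 F488526) (tt N93927 F488528) (tt N84496 (iv5 D217340)) (tt N87079 F488527) (tt N108484 F488531))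
theorem Q114087 : ∀ i, i < 114087 → P i := stepQ 114086 Q114086 (allL N114086 (tt N87383 (iv1 F488537)) (tt N91600 F488538) (tt N108530 F488532) (tt N108627 F488533) (tt N84499 F488534) (tt N108484 F488535) (tt N87221 F488536) (tt N84496 (iv7 D217341)))
theorem Q114088 : ∀ i, i < 114088 → P i := stepQ 114087 Q114087 (allL N114087 (tt N122383 D225642) (tt N115962 (iv0 F497789)) (tt N115923 (iv2 F497599)) (tt N84497 (iv3 D217342)) (tt N115921 (iv4 F497594)) (tt N118898 (iv5 F512638)) (tt N115395 F494976) (tt N114161 (iv7 F488801)))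
theorem Q114089 : ∀ i, i < 114089 → P i := stepQ 114088 Q114088 (allL N114088 (tt N111572 F488539) (tt N114129 (iv0 F488671)) (tt N114160 (iv2 F488797)) (tt N118898 (iv3 F512643)) (tt N121820 (iv4 F528511)) (tt N84497 (iv5 D217343)) (tt N122330 (iv6 F531457)) (tt N114162 (iv7 F488804)))
theorem Q114090 : ∀ i, i < 114090 → P i := stepQ 114089 Q114089 (allL N114089 (tt N87952 F488543) (tt N111310 F488542) (tt N114164 (iv2 F488810)) (tt N87982 F488540) (tt N115639 (iv4 F496087)) (tt N84500 (iv5 D217344)) (tt N120931 (iv6 F523552)) (tt N87083 F488541))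
theorem Q114091 : ∀ i, i < 114091 → P i := stepQ 114090 Q114090 (allL N114090 (tt N115510 (iv1 F495560)) (tt N115803 F496979) (tt N114165 (iv2 F488815)) (tt N122384 D225643) (tt N84501 (iv4 D217345)) (tt N104747 (iv5 F495239)) (tt N104814 F495236) (tt N87086 F488544))
theorem Q114092 : ∀ i, i < 114092 → P i := stepQ 114091 Q114091 (allL N114091 (tt N116021 (iv1 F498101)) (tt N114195 F498102) (tt N114166 (iv2 F488817)) (tt N122344 (iv3 F531542)) (tt N104814 (iv4 F495240)) (tt N114166 (iv5 F488818)) (tt N84501 (iv6 D217346)) (tt N120929 (iv7 F523540)))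
theorem Q114093 : ∀ i, i < 114093 → P i := stepQ 114092 Q114092 (allL N114092 (tt N87368 (iv1 F488549)) (tt N87408 (iv0 F488548)) (tt N90644 F488545) (tt N84502 (iv3 D217347)) (tt N115543 (iv4 F495714)) (tt N89094 F488546) (tt N122385 D225644) (tt N90645 F488547))
theorem Q114094 : ∀ i, i < 114094 → P i := stepQ 114093 Q114093 (allL N114093 (tt N115508 (iv1 F495553)) (tt N121034 (iv0 F524135)) (tt N114169 (iv2 F488830)) (tt N122386 D225645) (tt N84502 (iv4 D217348)) (tt N102444 F488823) (tt N122387 D225646) (tt N114167 (iv7 F488820)))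
theorem Q114095 : ∀ i, i < 114095 → P i := stepQ 114094 Q114094 (allL N114094 (tt N122388 D225647) (tt N114212 (iv0 F498247)) (tt N114170 (iv2 F488833)) (tt N122385 (iv3 F531782)) (tt N122387 (iv4 F531796)) (tt N91261 F488550) (tt N84502 (iv6 D217349)) (tt N122389 D225648))
theorem Q114096 : ∀ i, i < 114096 → P i := stepQ 114095 Q114095 (allL N114095 (tt N121034 (iv1 F524136)) (tt N115508 (iv0 F495552)) (tt N114167 (iv2 F488819)) (tt N122390 D225649) (tt N84503 (iv4 D217350)) (tt N103823 F488822) (tt N122391 D225650) (tt N114169 (iv7 F488831)))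
theorem Q114097 : ∀ i, i < 114097 → P i := stepQ 114096 Q114096 (allL N114096 (tt N114206 F488983) (tt N112443 (iv0 F488552)) (tt N114168 (iv2 F488826)) (tt N122078 (iv3 F530029)) (tt N122391 (iv4 F531819)) (tt N87109 F488551) (tt N84503 (iv6 D217351)) (tt N122392 D225651))
theorem Q114098 : ∀ i, i < 114098 → P i := stepQ 114097 Q114097 (allL N114097 (tt N87338 (iv1 F488553)) (tt N84504 (iv0 D217352)) (tt N108861 (iv2 F488559)) (tt N120650 (iv3 F521958)) (tt N115851 F497237) (tt N120647 F521945) (tt N120650 (iv6 F521959)) (tt N114171 (iv7 F488841)))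
theorem Q114099 : ∀ i, i < 114099 → P i := stepQ 114098 Q114098 (allL N114098 (tt N84504 (iv1 D217353)) (tt N87338 F488554) (tt N114171 F488842) (tt N108863 (iv3 F488557)) (tt N115850 (iv4 F497226)) (tt N118080 (iv5 F508460)) (tt N122193 (iv6 F530698)) (tt N108861 F488558))
theorem Q114100 : ∀ i, i < 114100 → P i := stepQ 114099 Q114099 (allL N114099 (tt N102621 F488556) (tt N117948 (iv0 F507743)) (tt N120668 F522065) (tt N84504 (iv3 D217354)) (tt N84506 F488555) (tt N114418 (iv5 F490057)) (tt N121448 (iv6 F526433)) (tt N114172 (iv7 F488838)))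
theorem Q114101 : ∀ i, i < 114101 → P i := stepQ 114100 Q114100 (allL N114100 (tt N104554 (iv1 F496091)) (tt N120851 (iv0 F523084)) (tt N115940 (iv2 F497687)) (tt N114418 (iv3 F490055)) (tt N115614 (iv4 F495980)) (tt N84504 (iv5 D217355)) (tt N114416 F490048) (tt N114173 (iv7 F488844)))
theorem Q114102 : ∀ i, i < 114102 → P i := stepQ 114101 Q114101 (allL N114101 (tt N91988 (iv1 F488564)) (tt N91986 F488563) (tt N84506 (iv2 D217356)) (tt N84550 F488560) (tt N120668 (iv4 F522064)) (tt N85711 F488561) (tt N112443 F488565) (tt N111852 F488562))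
theorem Q114103 : ∀ i, i < 114103 → P i := stepQ 114102 Q114102 (allL N114102 (tt N114168 F488829) (tt N122392 F531826) (tt N112443 F488566) (tt N84507 F488567) (tt N121448 (iv4 F526434)) (tt N111120 F488568) (tt N84506 (iv6 D217357)) (tt N114206 (iv7 F488982)))
theorem Q114104 : ∀ i, i < 114104 → P i := stepQ 114103 Q114103 (allL N114103 (tt N114218 (iv1 F489046)) (tt N114180 (iv0 F488870)) (tt N87371 F488569) (tt N87412 F488570) (tt N118899 (iv4 F512645)) (tt N91347 F488571) (tt N84509 (iv6 D217358)) (tt N106101 F488572))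
theorem Q114105 : ∀ i, i < 114105 → P i := stepQ 114104 Q114104 (allL N114104 (tt N84555 F488577) (tt N95623 F488578) (tt N87367 F488573) (tt N112237 F488574) (tt N118896 (iv4 F512625)) (tt N91293 F488575) (tt N84510 (iv6 D217359)) (tt N92331 F488576))
theorem Q114106 : ∀ i, i < 114106 → P i := stepQ 114105 Q114105 (allL N114105 (tt N122393 D225652) (tt N122030 (iv0 F529744)) (tt N84516 F488579) (tt N87958 F488580) (tt N115529 (iv4 F495651)) (tt N87957 F488581) (tt N84512 (iv6 D217360)) (tt N115505 (iv7 F495541)))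
theorem Q114107 : ∀ i, i < 114107 → P i := stepQ 114106 Q114106 (allL N114106 (tt N115527 F495641) (tt N110964 (iv0 F488584)) (tt N115529 (iv2 F495649)) (tt N119318 (iv3 F514985)) (tt N84516 F488582) (tt N106114 F488583) (tt N84515 (iv6 D217361)) (tt N115528 F495647))
theorem Q114108 : ∀ i, i < 114108 → P i := stepQ 114107 Q114107 (allL N114107 (tt N115505 F495542) (tt N84516 (iv0 D217362)) (tt N122393 F531829) (tt N87955 F488585) (tt N118876 (iv4 F512532)) (tt N122394 D225653) (tt N115468 F495331) (tt N122030 (iv7 F529743)))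
theorem Q114109 : ∀ i, i < 114109 → P i := stepQ 114108 Q114108 (allL N114108 (tt N84516 (iv1 D217363)) (tt N115505 F495543) (tt N122030 (iv2 F529739)) (tt N122088 (iv3 F530085)) (tt N118875 (iv4 F512522)) (tt N121653 (iv5 F527558)) (tt N122028 (iv6 F529727)) (tt N122393 (iv7 F531831)))
theorem Q114110 : ∀ i, i < 114110 → P i := stepQ 114109 Q114109 (allL N114109 (tt N122030 F529745) (tt N122393 F531830) (tt N115505 (iv2 F495538)) (tt N84521 F488586) (tt N115528 (iv4 F495644)) (tt N115986 (iv5 F497914)) (tt N87365 F488587) (tt N84516 (iv7 D217364)))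
theorem Q114111 : ∀ i, i < 114111 → P i := stepQ 114110 Q114110 (allL N114110 (tt N84517 (iv1 D217365)) (tt N87394 F488588) (tt N87393 F488594) (tt N112652 (iv3 F488592)) (tt N94451 F488591) (tt N91880 F488590) (tt N104888 (iv6 F488593)) (tt N87186 F488589))
theorem Q114112 : ∀ i, i < 114112 → P i := stepQ 114111 Q114111 (allL N114111 (tt N87214 (iv1 F488597)) (tt N91661 F488598) (tt N114193 (iv2 F488930)) (tt N120034 (iv3 F518675)) (tt N84521 F488595) (tt N117561 (iv5 F505707)) (tt N87387 F488596) (tt N84518 (iv7 D217366)))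
theorem Q114113 : ∀ i, i < 114113 → P i := stepQ 114112 Q114112 (allL N114112 (tt N120929 (iv1 F523542)) (tt N114166 (iv0 F495748)) (tt N116021 (iv2 F498098)) (tt N84519 (iv3 D217367)) (tt N102516 F495747) (tt N120675 (iv5 F522084)) (tt N122090 (iv6 F530097)) (tt N114195 (iv7 F488941)))
theorem Q114114 : ∀ i, i < 114114 → P i := stepQ 114113 Q114113 (allL N114113 (tt N114150 (iv1 F488757)) (tt N114145 (iv0 F488738)) (tt N114194 (iv2 F488936)) (tt N120675 (iv3 F522088)) (tt N122395 D225654) (tt N84519 (iv5 D217368)) (tt N113569 F488599) (tt N114196 (iv7 F488944)))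
theorem Q114115 : ∀ i, i < 114115 → P i := stepQ 114114 Q114114 (allL N114114 (tt N114145 F488739) (tt N114150 (iv0 F488756)) (tt N114196 (iv2 F488942)) (tt N114211 (iv3 F489017)) (tt N122396 D225655) (tt N84520 (iv5 D217369)) (tt N91385 F488600) (tt N114194 (iv7 F488938)))
theorem Q114116 : ∀ i, i < 114116 → P i := stepQ 114115 Q114115 (allL N114115 (tt N108592 F488604) (tt N108577 (iv0 F488609)) (tt N108589 F488601) (tt N84524 F488602) (tt N111411 (iv4 F488605)) (tt N89513 F488603) (tt N84522 (iv6 D217370)) (tt N108590 F488607))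
theorem Q114117 : ∀ i, i < 114117 → P i := stepQ 114116 Q114116 (allL N114116 (tt N114801 F491944) (tt N114802 (iv0 F491950)) (tt N90331 F488610) (tt N118695 (iv3 F511586)) (tt N84524 F488611) (tt N101240 F488612) (tt N84523 (iv6 D217371)) (tt N118694 (iv7 F511582)))
theorem Q114118 : ∀ i, i < 114118 → P i := stepQ 114117 Q114117 (allL N114117 (tt N91387 F488616) (tt N84524 (iv0 D217372)) (tt N91385 (iv2 F488614)) (tt N122388 (iv3 F531802)) (tt N114806 (iv4 F491966)) (tt N101234 F488613) (tt N114196 (iv6 F488943)) (tt N91386 (iv7 F488615)))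
theorem Q114119 : ∀ i, i < 114119 → P i := stepQ 114118 Q114118 (allL N114118 (tt N84524 (iv1 D217373)) (tt N91387 F488617) (tt N91386 F488620) (tt N84539 F488621) (tt N101248 F488622) (tt N91406 (iv5 F488619)) (tt N113570 F492061) (tt N91385 F488618))
theorem Q114120 : ∀ i, i < 114120 → P i := stepQ 114119 Q114119 (allL N114119 (tt N91386 (iv1 F488627)) (tt N91385 F488628) (tt N91387 F488623) (tt N108590 F488624) (tt N118694 (iv4 F511580)) (tt N91275 F488625) (tt N87561 F488626) (tt N84524 (iv7 D217374)))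
theorem Q114121 : ∀ i, i < 114121 → P i := stepQ 114120 Q114120 (allL N114120 (tt N96659 F488631) (tt N96657 (iv0 F488632)) (tt N87560 F488629) (tt N122040 (iv3 F529792)) (tt N84527 F488630) (tt N118740 (iv5 F511830)) (tt N84526 (iv6 D217375)) (tt N119465 (iv7 F515760)))
theorem Q114122 : ∀ i, i < 114122 → P i := stepQ 114121 Q114121 (allL N114121 (tt N84527 (iv1 D217376)) (tt N87561 F488633) (tt N84552 F488637) (tt N112443 F488638) (tt N101561 (iv4 F488639)) (tt N112439 (iv5 F488636)) (tt N84550 (iv6 F488635)) (tt N87426 F488634))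
theorem Q114123 : ∀ i, i < 114123 → P i := stepQ 114122 Q114122 (allL N114122 (tt N84552 (iv1 F488643)) (tt N87426 F488644) (tt N87561 F488640) (tt N120045 (iv3 F518731)) (tt N119465 (iv4 F515758)) (tt N87142 F488641) (tt N91387 F488642) (tt N84527 (iv7 D217377)))
theorem Q114124 : ∀ i, i < 114124 → P i := stepQ 114123 Q114123 (allL N114123 (tt N101590 F488648) (tt N101580 (iv0 F488650)) (tt N101589 F488645) (tt N84528 (iv3 D217378)) (tt N121410 (iv4 F526205)) (tt N90227 F488646) (tt N95497 (iv6 F488649)) (tt N90362 F488647))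
theorem Q114125 : ∀ i, i < 114125 → P i := stepQ 114124 Q114124 (allL N114124 (tt N114806 F491968) (tt N101248 (iv0 F488654)) (tt N90358 F488651) (tt N95497 F488652) (tt N87302 F488653) (tt N118667 (iv5 F511434)) (tt N84528 (iv6 D217379)) (tt N119338 (iv7 F515105)))
theorem Q114126 : ∀ i, i < 114126 → P i := stepQ 114125 Q114125 (allL N114125 (tt N94859 (iv1 F488659)) (tt N94874 F488660) (tt N94873 F488655) (tt N101559 F488656) (tt N84533 F488657) (tt N95060 F488658) (tt N114200 (iv6 F488957)) (tt N84530 (iv7 D217380)))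
theorem Q114127 : ∀ i, i < 114127 → P i := stepQ 114126 Q114126 (allL N114126 (tt N87411 F488664) (tt N110968 F488665) (tt N117615 (iv2 F506008)) (tt N84532 (iv3 D217381)) (tt N104994 F488661) (tt N91890 F488662) (tt N117613 (iv6 F505997)) (tt N104993 F488663))
theorem Q114128 : ∀ i, i < 114128 → P i := stepQ 114127 Q114127 (allL N114127 (tt N114194 F488940) (tt N114196 (iv0 F488945)) (tt N114145 (iv2 F488736)) (tt N117613 (iv3 F506002)) (tt N122068 (iv4 F529969)) (tt N84626 F488666) (tt N84532 (iv6 D217382)) (tt N114150 (iv7 F488755)))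
theorem Q114129 : ∀ i, i < 114129 → P i := stepQ 114128 Q114128 (allL N114128 (tt N114138 (iv1 F488706)) (tt N114137 F488702) (tt N84619 F488667) (tt N84537 F488668) (tt N84618 F488669) (tt N122397 D225656) (tt N84536 (iv6 D217383)) (tt N114135 (iv7 F488692)))
theorem Q114130 : ∀ i, i < 114130 → P i := stepQ 114129 Q114129 (allL N114129 (tt N114088 F488671) (tt N111902 F488672) (tt N114210 (iv2 F489006)) (tt N122397 (iv3 F531852)) (tt N118716 (iv4 F511717)) (tt N84537 (iv5 D217384)) (tt N87990 F488670) (tt N122094 (iv7 F530125)))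
theorem Q114131 : ∀ i, i < 114131 → P i := stepQ 114130 Q114130 (allL N114130 (tt N122389 (iv1 F531812)) (tt N114170 (iv0 F516214)) (tt N122388 F531804) (tt N84538 (iv3 D217385)) (tt N120673 (iv4 F522081)) (tt N122398 D225657) (tt N120674 F522082) (tt N114212 (iv7 F489020)))
theorem Q114132 : ∀ i, i < 114132 → P i := stepQ 114131 Q114131 (allL N114131 (tt N84558 F488683) (tt N84546 (iv0 F488681)) (tt N114211 (iv2 F489013)) (tt N120674 (iv3 F522080)) (tt N84538 (iv4 D217386)) (tt N87448 F488680) (tt N84538 (iv6 F488682)) (tt N114213 (iv7 F489022)))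
theorem Q114133 : ∀ i, i < 114133 → P i := stepQ 114132 Q114132 (allL N114132 (tt N99670 F488675) (tt N108484 (iv0 F488679)) (tt N103127 F488673) (tt N122398 (iv3 F531859)) (tt N108976 F488676) (tt N84538 (iv5 D217387)) (tt N103138 F488677) (tt N93910 F488674))
theorem Q114134 : ∀ i, i < 114134 → P i := stepQ 114133 Q114133 (allL N114133 (tt N84546 F488685) (tt N84558 F488686) (tt N114213 (iv2 F489021)) (tt N114194 (iv3 F488937)) (tt N84539 (iv4 D217388)) (tt N87447 F488684) (tt N114223 F489074) (tt N114211 (iv7 F489014)))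
theorem Q114135 : ∀ i, i < 114135 → P i := stepQ 114134 Q114134 (allL N114134 (tt N109323 F488688) (tt N113568 (iv0 F488689)) (tt N114214 (iv2 F489026)) (tt N113570 (iv3 F492062)) (tt N114223 (iv4 F489073)) (tt N108483 F488687) (tt N84539 (iv6 D217389)) (tt N114223 (iv7 F489071)))
theorem Q114136 : ∀ i, i < 114136 → P i := stepQ 114135 Q114135 (allL N114135 (tt N87944 F488693) (tt N87948 F488694) (tt N84542 F488690) (tt N111895 F488691) (tt N84541 (iv4 D217390)) (tt N121705 (iv5 F527860)) (tt N111504 (iv6 F488695)) (tt N114128 F488692))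
theorem Q114137 : ∀ i, i < 114137 → P i := stepQ 114136 Q114136 (allL N114136 (tt N111784 F488700) (tt N118396 F510129) (tt N84543 F488696) (tt N114202 (iv3 F488964)) (tt N111504 F488697) (tt N94437 F488698) (tt N84541 (iv6 D217391)) (tt N94436 F488699))
theorem Q114138 : ∀ i, i < 114138 → P i := stepQ 114137 Q114137 (allL N114137 (tt N114128 (iv1 F488702)) (tt N84542 (iv0 D217392)) (tt N87944 (iv2 F488703)) (tt N120711 F522283) (tt N85768 F488701) (tt N115504 (iv5 F495534)) (tt N104891 F488705) (tt N87948 (iv7 F488704)))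
theorem Q114139 : ∀ i, i < 114139 → P i := stepQ 114138 Q114138 (allL N114138 (tt N84542 (iv1 D217393)) (tt N114128 F488706) (tt N87948 (iv2 F488711)) (tt N108529 (iv3 F488709)) (tt N85774 F488708) (tt N115501 (iv5 F495519)) (tt N108508 F488710) (tt N87944 F488707))
theorem Q114140 : ∀ i, i < 114140 → P i := stepQ 114139 Q114139 (allL N114139 (tt N94436 (iv1 F488714)) (tt N84543 (iv0 D217394)) (tt N111784 (iv2 F488715)) (tt N122399 D225658) (tt N111304 F488712) (tt N115465 (iv5 F495321)) (tt N98130 F488713) (tt N118396 (iv7 F510130)))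
theorem Q114141 : ∀ i, i < 114141 → P i := stepQ 114140 Q114140 (allL N114140 (tt N84543 (iv1 D217395)) (tt N94436 F488716) (tt N118396 F510128) (tt N113669 (iv3 F488719)) (tt N115655 (iv4 F496172)) (tt N113668 F488718) (tt N104902 (iv6 F488720)) (tt N111784 F488717))
theorem Q114142 : ∀ i, i < 114142 → P i := stepQ 114141 Q114141 (allL N114141 (tt N95664 (iv1 F488724)) (tt N84545 (iv0 D217396)) (tt N111565 (iv2 F488723)) (tt N106820 F488722) (tt N115875 (iv4 F497346)) (tt N87081 F488721) (tt N87356 (iv6 F488725)) (tt N114215 (iv7 F489034)))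
theorem Q114143 : ∀ i, i < 114143 → P i := stepQ 114142 Q114142 (allL N114142 (tt N111565 (iv1 F488730)) (tt N114215 F489033) (tt N84545 (iv2 D217397)) (tt N104904 F488726) (tt N102981 (iv4 F488729)) (tt N91899 F488727) (tt N118883 (iv6 F512570)) (tt N95664 F488728))
theorem Q114144 : ∀ i, i < 114144 → P i := stepQ 114143 Q114143 (allL N114143 (tt N115625 (iv1 F496029)) (tt N115626 (iv0 F496034)) (tt N102981 F488731) (tt N91919 F488732) (tt N84545 (iv4 D217398)) (tt N102980 F488733) (tt N115634 F496070) (tt N114216 (iv7 F489038)))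
theorem Q114145 : ∀ i, i < 114145 → P i := stepQ 114144 Q114144 (allL N114144 (tt N118884 (iv1 F512580)) (tt N118839 F512353) (tt N118883 F512571) (tt N84546 F488734) (tt N115634 (iv4 F496073)) (tt N121674 (iv5 F527666)) (tt N84545 (iv6 D217399)) (tt N95661 F488735))
theorem Q114146 : ∀ i, i < 114146 → P i := stepQ 114145 Q114145 (allL N114145 (tt N114113 F488738) (tt N114114 (iv0 F488739)) (tt N114127 F488736) (tt N121674 (iv3 F527665)) (tt N111388 (iv4 F488740)) (tt N84546 (iv5 D217400)) (tt N88028 F488737) (tt N114146 (iv7 F488743)))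
theorem Q114147 : ∀ i, i < 114147 → P i := stepQ 114146 Q114146 (allL N114146 (tt N114196 F488946) (tt N114194 (iv0 F488939)) (tt N114150 (iv2 F488753)) (tt N118965 (iv3 F513009)) (tt N109615 F488741) (tt N111684 F488742) (tt N84548 (iv6 D217401)) (tt N114145 F488743))
theorem Q114148 : ∀ i, i < 114148 → P i := stepQ 114147 Q114147 (allL N114147 (tt N95312 F488747) (tt N95432 F488748) (tt N95429 F488744) (tt N117659 (iv3 F506259)) (tt N84555 (iv4 D217402)) (tt N95866 F488746) (tt N114216 (iv6 F489037)) (tt N95428 F488745))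
theorem Q114149 : ∀ i, i < 114149 → P i := stepQ 114148 Q114148 (allL N114148 (tt N115645 (iv1 F496120)) (tt N108600 (iv0 F488750)) (tt N122096 (iv2 F530135)) (tt N84558 F488749) (tt N115493 (iv4 F495480)) (tt N115845 (iv5 F497201)) (tt N84556 (iv6 D217403)) (tt N114217 (iv7 F489044)))
theorem Q114150 : ∀ i, i < 114150 → P i := stepQ 114149 Q114149 (allL N114149 (tt N111510 F495291) (tt N115882 (iv0 F497393)) (tt N122400 D225659) (tt N84557 (iv3 D217404)) (tt N120943 (iv4 F523610)) (tt N113560 F488751) (tt N117578 (iv6 F505812)) (tt N91924 F488752))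
theorem Q114151 : ∀ i, i < 114151 → P i := stepQ 114150 Q114150 (allL N114150 (tt N114114 F488756) (tt N114113 F488757) (tt N114146 F488753) (tt N115845 (iv3 F497204)) (tt N120774 (iv4 F522643)) (tt N84558 (iv5 D217405)) (tt N84628 F488754) (tt N114127 F488755))
theorem Q114152 : ∀ i, i < 114152 → P i := stepQ 114151 Q114151 (allL N114151 (tt N112383 F488763) (tt N87875 (iv0 F488764)) (tt N112394 F488758) (tt N84561 (iv3 D217406)) (tt N112394 F488759) (tt N91813 F488760) (tt N87621 F488761) (tt N112395 F488762))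
theorem Q114153 : ∀ i, i < 114153 → P i := stepQ 114152 Q114152 (allL N114152 (tt N115595 (iv1 F495916)) (tt N112247 (iv0 F488768)) (tt N88006 F488765) (tt N115959 (iv3 F497774)) (tt N84573 (iv4 D217407)) (tt N89251 F488766) (tt N122401 D225660) (tt N88042 F488767))
theorem Q114154 : ∀ i, i < 114154 → P i := stepQ 114153 Q114153 (allL N114153 (tt N88169 F488772) (tt N84602 F488773) (tt N88007 F488769) (tt N115601 (iv3 F495941)) (tt N122401 (iv4 F531881)) (tt N87068 F488770) (tt N84573 (iv6 D217408)) (tt N88168 F488771))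
theorem Q114155 : ∀ i, i < 114155 → P i := stepQ 114154 Q114154 (allL N114154 (tt N88035 (iv1 F488776)) (tt N84574 (iv0 D217409)) (tt N88045 (iv2 F488777)) (tt N115938 (iv3 F497682)) (tt N88116 F488775) (tt N89245 F488774) (tt N114157 F488790) (tt N88044 (iv7 F488778)))
theorem Q114156 : ∀ i, i < 114156 → P i := stepQ 114155 Q114155 (allL N114155 (tt N84574 (iv1 D217410)) (tt N88035 F488779) (tt N88044 F488784) (tt N118876 F512533) (tt N88157 F488782) (tt N89244 F488781) (tt N111643 (iv6 F488783)) (tt N88045 F488780))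
theorem Q114157 : ∀ i, i < 114157 → P i := stepQ 114156 Q114156 (allL N114156 (tt N114187 F488905) (tt N84575 (iv0 D217411)) (tt N115607 (iv2 F495966)) (tt N120044 (iv3 F518725)) (tt N112244 F488785) (tt N112270 F488786) (tt N100724 (iv6 F488787)) (tt N115953 (iv7 F497749)))
theorem Q114158 : ∀ i, i < 114158 → P i := stepQ 114157 Q114157 (allL N114157 (tt N84575 (iv1 D217412)) (tt N114187 F488904) (tt N115953 (iv2 F497747)) (tt N88022 F488791) (tt N112245 F488788) (tt N112269 (iv5 F488789)) (tt N114154 (iv6 F488790)) (tt N115607 (iv7 F495964)))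
theorem Q114159 : ∀ i, i < 114159 → P i := stepQ 114158 Q114158 (allL N114158 (tt N115953 F497752) (tt N115607 (iv0 F495968)) (tt N114187 (iv2 F488900)) (tt N84580 F488792) (tt N114191 (iv4 F488919)) (tt N115558 (iv5 F495781)) (tt N88041 F488793) (tt N84575 (iv7 D217413)))
theorem Q114160 : ∀ i, i < 114160 → P i := stepQ 114159 Q114159 (allL N114159 (tt N115558 F495783) (tt N115539 (iv0 F495697)) (tt N111900 F488796) (tt N84578 (iv3 D217414)) (tt N118253 (iv4 F509381)) (tt N111505 (iv5 F492220)) (tt N121071 (iv6 F524363)) (tt N111903 F488794))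
theorem Q114161 : ∀ i, i < 114161 → P i := stepQ 114160 Q114160 (allL N114160 (tt N122094 (iv1 F530127)) (tt N114210 (iv0 F489011)) (tt N114088 F488797) (tt N111505 (iv3 F492219)) (tt N121330 (iv4 F525806)) (tt N84578 (iv5 D217415)) (tt N122402 D225661) (tt N111902 F488799))
theorem Q114162 : ∀ i, i < 114162 → P i := stepQ 114161 Q114161 (allL N114161 (tt N115532 F497443) (tt N118915 (iv0 F512728)) (tt N122031 (iv2 F529746)) (tt N84579 (iv3 D217416)) (tt N88015 F488802) (tt N115633 (iv5 F496066)) (tt N108756 F488800) (tt N114087 F488801))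
theorem Q114163 : ∀ i, i < 114163 → P i := stepQ 114162 Q114162 (allL N114162 (tt N114210 (iv1 F489012)) (tt N122094 (iv0 F530126)) (tt N111902 F488803) (tt N115633 (iv3 F496064)) (tt N121647 (iv4 F527524)) (tt N84579 (iv5 D217417)) (tt N115579 (iv6 F495851)) (tt N114088 F488804))
theorem Q114164 : ∀ i, i < 114164 → P i := stepQ 114163 Q114163 (allL N114163 (tt N88116 F488808) (tt N88157 F488809) (tt N113825 F488805) (tt N84583 F488806) (tt N115911 (iv4 F497550)) (tt N84581 (iv5 D217418)) (tt N122176 (iv6 F530599)) (tt N87858 F488807))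
theorem Q114165 : ∀ i, i < 114165 → P i := stepQ 114164 Q114164 (allL N114164 (tt N87185 F488813) (tt N115441 F495216) (tt N114089 F488810) (tt N87223 F488811) (tt N116007 (iv4 F498018)) (tt N84582 (iv5 D217419)) (tt N121053 F524254) (tt N87859 F488812))
theorem Q114166 : ∀ i, i < 114166 → P i := stepQ 114165 Q114165 (allL N114165 (tt N115446 (iv1 F495230)) (tt N115445 F495229) (tt N114090 F488815) (tt N121056 F524268) (tt N84583 (iv4 D217420)) (tt N104539 F495238) (tt N103942 (iv6 F495235)) (tt N87860 F488816))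
theorem Q114167 : ∀ i, i < 114167 → P i := stepQ 114166 Q114166 (allL N114166 (tt N114112 F495748) (tt N115682 (iv0 F496290)) (tt N114091 F488817) (tt N122176 (iv3 F530598)) (tt N103942 F495237) (tt N114091 F488818) (tt N84583 (iv6 D217421)) (tt N120759 (iv7 F522562)))
theorem Q114168 : ∀ i, i < 114168 → P i := stepQ 114167 Q114167 (allL N114167 (tt N122061 (iv1 F529930)) (tt N115852 (iv0 F497239)) (tt N114095 F488819) (tt N122403 D225662) (tt N84584 (iv4 D217422)) (tt N104662 (iv5 F488821)) (tt N122404 D225663) (tt N114093 F488820))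
theorem Q114169 : ∀ i, i < 114169 → P i := stepQ 114168 Q114168 (allL N114168 (tt N115661 F496196) (tt N114102 (iv0 F488829)) (tt N114096 F488826) (tt N113656 F488827) (tt N122404 (iv4 F531899)) (tt N87879 F488828) (tt N84584 (iv6 D217423)) (tt N122188 (iv7 F530670)))
theorem Q114170 : ∀ i, i < 114170 → P i := stepQ 114169 Q114169 (allL N114169 (tt N115852 (iv1 F497240)) (tt N122061 (iv0 F529929)) (tt N114093 F488830) (tt N120834 (iv3 F522985)) (tt N84585 (iv4 D217424)) (tt N102553 (iv5 F488832)) (tt N120906 (iv6 F523394)) (tt N114095 F488831))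
theorem Q114171 : ∀ i, i < 114171 → P i := stepQ 114170 Q114170 (allL N114170 (tt N114130 F516214) (tt N116060 (iv0 F498274)) (tt N114094 F488833) (tt N116810 (iv3 F501956)) (tt N120906 (iv4 F523395)) (tt N91463 F488834) (tt N84585 (iv6 D217425)) (tt N119359 (iv7 F515207)))
theorem Q114172 : ∀ i, i < 114172 → P i := stepQ 114171 Q114171 (allL N114171 (tt N88023 (iv1 F488835)) (tt N84586 (iv0 D217426)) (tt N114098 (iv2 F488842)) (tt N122405 D225664) (tt N115506 (iv4 F495545)) (tt N120686 (iv5 F522146)) (tt N122406 D225665) (tt N114097 F488841))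
theorem Q114173 : ∀ i, i < 114173 → P i := stepQ 114172 Q114172 (allL N114172 (tt N120700 (iv1 F522229)) (tt N102514 (iv0 F488843)) (tt N120701 F522233) (tt N84586 (iv3 D217428)) (tt N84589 F488837) (tt N117959 (iv5 F507791)) (tt N115636 (iv6 F496077)) (tt N114099 F488838))
theorem Q114174 : ∀ i, i < 114174 → P i := stepQ 114173 Q114173 (allL N114173 (tt N121022 F524071) (tt N119277 (iv0 F514781)) (tt N115614 (iv2 F495979)) (tt N117959 (iv3 F507794)) (tt N115940 (iv4 F497689)) (tt N84586 (iv5 D217429)) (tt N122407 D225666) (tt N114100 F488844))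
theorem Q114175 : ∀ i, i < 114175 → P i := stepQ 114174 Q114174 (allL N114174 (tt N103635 F488849) (tt N120694 (iv0 F522195)) (tt N115615 (iv2 F495981)) (tt N115636 (iv3 F496076)) (tt N84587 F488845) (tt N121026 F524090) (tt N84586 (iv6 D217430)) (tt N120698 (iv7 F522212)))
theorem Q114176 : ∀ i, i < 114176 → P i := stepQ 114175 Q114175 (allL N114175 (tt N115618 (iv1 F495996)) (tt N84587 (iv0 D217431)) (tt N115616 (iv2 F495987)) (tt N108613 (iv3 F488847)) (tt N122408 D225667) (tt N108612 F488846) (tt N116058 F498268) (tt N115617 (iv7 F495989)))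
theorem Q114177 : ∀ i, i < 114177 → P i := stepQ 114176 Q114176 (allL N114176 (tt N84587 (iv1 D217432)) (tt N115618 F495995) (tt N115617 (iv2 F495991)) (tt N89258 (iv3 F488848)) (tt N120834 (iv4 F522987)) (tt N89257 (iv5 F488851)) (tt N102975 (iv6 F488850)) (tt N115616 F495985))
theorem Q114178 : ∀ i, i < 114178 → P i := stepQ 114177 Q114177 (allL N114177 (tt N115617 (iv1 F495988)) (tt N115616 (iv0 F495986)) (tt N115618 (iv2 F495992)) (tt N84592 F488852) (tt N120698 (iv4 F522215)) (tt N107526 F488853) (tt N111650 F488854) (tt N84587 (iv7 D217433)))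
theorem Q114179 : ∀ i, i < 114179 → P i := stepQ 114178 Q114178 (allL N114178 (tt N87621 F488860) (tt N87183 F488861) (tt N100347 F488855) (tt N87315 F488856) (tt N84588 (iv4 D217434)) (tt N100346 F488859) (tt N112383 F488857) (tt N87869 F488858))
theorem Q114180 : ∀ i, i < 114180 → P i := stepQ 114179 Q114179 (allL N114179 (tt N111627 F488864) (tt N88156 (iv0 F488866)) (tt N121701 (iv2 F527832)) (tt N84590 (iv3 D217435)) (tt N97153 (iv4 F488865)) (tt N90778 F488862) (tt N120049 F518760) (tt N84636 F488863))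
theorem Q114181 : ∀ i, i < 114181 → P i := stepQ 114180 Q114180 (allL N114180 (tt N114103 F488870) (tt N106115 F488871) (tt N115634 (iv2 F496071)) (tt N84591 (iv3 D217436)) (tt N118883 (iv4 F512568)) (tt N91329 F488867) (tt N102981 F488868) (tt N84632 F488869))
theorem Q114182 : ∀ i, i < 114182 → P i := stepQ 114181 Q114181 (allL N114181 (tt N117613 (iv1 F506001)) (tt N114521 (iv0 F490575)) (tt N88155 F488872) (tt N118884 (iv3 F512575)) (tt N84594 (iv4 D217437)) (tt N114189 F488911) (tt N121469 (iv6 F526549)) (tt N88154 F488873))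
theorem Q114183 : ∀ i, i < 114183 → P i := stepQ 114182 Q114182 (allL N114182 (tt N121701 (iv1 F527838)) (tt N84636 (iv0 F488877)) (tt N88156 F488874) (tt N90756 F488875) (tt N121469 (iv4 F526547)) (tt N114571 (iv5 F490816)) (tt N84594 (iv6 D217438)) (tt N111627 F488876))
theorem Q114184 : ∀ i, i < 114184 → P i := stepQ 114183 Q114183 (allL N114183 (tt N114521 (iv1 F490576)) (tt N117613 (iv0 F506000)) (tt N88154 F488878) (tt N112231 F488881) (tt N84596 (iv4 D217439)) (tt N114188 (iv5 F488906)) (tt N110959 F488879) (tt N88155 F488880))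
theorem Q114185 : ∀ i, i < 114185 → P i := stepQ 114184 Q114184 (allL N114184 (tt N87858 (iv1 F488888)) (tt N113825 (iv0 F488887)) (tt N88116 F488882) (tt N84598 (iv3 D217440)) (tt N88045 F488886) (tt N89885 F488883) (tt N112234 F488884) (tt N88157 F488885))
theorem Q114186 : ∀ i, i < 114186 → P i := stepQ 114185 Q114185 (allL N114185 (tt N87959 F488891) (tt N87419 F488892) (tt N87955 F488889) (tt N122087 (iv3 F530079)) (tt N84599 (iv4 D217441)) (tt N115645 (iv5 F496119)) (tt N108621 (iv6 F488893)) (tt N87956 F488890))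
theorem Q114187 : ∀ i, i < 114187 → P i := stepQ 114186 Q114186 (allL N114186 (tt N115643 F496112) (tt N117662 F506283) (tt N88158 F488894) (tt N88115 F488895) (tt N108621 F488896) (tt N108491 F488897) (tt N84599 (iv6 D217442)) (tt N108620 F488898))
theorem Q114188 : ∀ i, i < 114188 → P i := stepQ 114187 Q114187 (allL N114187 (tt N114157 (iv1 F488904)) (tt N114156 (iv0 F488905)) (tt N114158 F488900) (tt N84600 (iv3 D217443)) (tt N84602 F488901) (tt N115650 (iv5 F496143)) (tt N111889 F488902) (tt N88161 F488903))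
theorem Q114189 : ∀ i, i < 114189 → P i := stepQ 114188 Q114188 (allL N114188 (tt N87178 (iv1 F488908)) (tt N84601 (iv0 D217444)) (tt N115873 F497337) (tt N116027 (iv3 F498121)) (tt N87405 F488907) (tt N114183 F488906) (tt N118394 (iv6 F510114)) (tt N115874 (iv7 F497340)))
theorem Q114190 : ∀ i, i < 114190 → P i := stepQ 114189 Q114189 (allL N114189 (tt N84601 (iv1 D217445)) (tt N87178 F488909) (tt N115874 F497343) (tt N115871 F497328) (tt N87404 F488910) (tt N114181 (iv5 F488911)) (tt N117204 F503894) (tt N115873 F497338))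
theorem Q114191 : ∀ i, i < 114191 → P i := stepQ 114190 Q114190 (allL N114190 (tt N84602 (iv1 D217446)) (tt N88169 F488916) (tt N88168 F488915) (tt N88010 (iv3 F488913)) (tt N122409 D225668) (tt N91979 (iv5 F488914)) (tt N111623 F488917) (tt N88007 F488912))
theorem Q114192 : ∀ i, i < 114192 → P i := stepQ 114191 Q114191 (allL N114191 (tt N88007 (iv1 F488924)) (tt N88168 F488923) (tt N84602 (iv2 D217447)) (tt N108531 F488918) (tt N114158 F488919) (tt N91516 F488920) (tt N111058 F488921) (tt N88169 F488922))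
theorem Q114193 : ∀ i, i < 114193 → P i := stepQ 114192 Q114192 (allL N114192 (tt N93926 F488929) (tt N117664 (iv0 F506291)) (tt N108504 F488925) (tt N108736 F488926) (tt N110470 F488928) (tt N84603 (iv5 D217448)) (tt N88188 F488927) (tt N117105 (iv7 F503418)))
theorem Q114194 : ∀ i, i < 114194 → P i := stepQ 114193 Q114193 (allL N114193 (tt N88054 (iv1 F488934)) (tt N111499 F488935) (tt N114111 F488930) (tt N111057 F488931) (tt N84606 F488932) (tt N117105 (iv5 F503417)) (tt N88166 F488933) (tt N84603 (iv7 D217449)))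
theorem Q114195 : ∀ i, i < 114195 → P i := stepQ 114194 Q114194 (allL N114194 (tt N114146 F488939) (tt N114127 (iv0 F488940)) (tt N114113 F488936) (tt N114133 F488937) (tt N118722 (iv4 F511749)) (tt N84604 (iv5 D217450)) (tt N116035 (iv6 F498163)) (tt N114114 F488938))
theorem Q114196 : ∀ i, i < 114196 → P i := stepQ 114195 Q114195 (allL N114195 (tt N114091 (iv1 F498102)) (tt N120759 (iv0 F522563)) (tt N115682 (iv2 F496288)) (tt N84605 (iv3 D217451)) (tt N102625 (iv4 F495745)) (tt N120706 (iv5 F522254)) (tt N115525 (iv6 F495632)) (tt N114112 F488941))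
theorem Q114197 : ∀ i, i < 114197 → P i := stepQ 114196 Q114196 (allL N114196 (tt N114127 F488945) (tt N114146 (iv0 F488946)) (tt N114114 F488942) (tt N120706 (iv3 F522252)) (tt N118723 (iv4 F511752)) (tt N84605 (iv5 D217452)) (tt N114117 F488943) (tt N114113 F488944))
theorem Q114198 : ∀ i, i < 114198 → P i := stepQ 114197 Q114197 (allL N114197 (tt N118409 (iv1 F510195)) (tt N108218 (iv0 F488950)) (tt N90298 F488947) (tt N107933 F488948) (tt N88030 F488949) (tt N120599 (iv5 F521674)) (tt N84608 (iv6 D217453)) (tt N118410 (iv7 F510201)))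
theorem Q114199 : ∀ i, i < 114199 → P i := stepQ 114198 Q114198 (allL N114198 (tt N115621 (iv1 F496011)) (tt N84609 (iv0 D217454)) (tt N115591 (iv2 F495905)) (tt N111412 (iv3 F496012)) (tt N87997 F495906) (tt N96060 F495907) (tt N120776 (iv6 F522650)) (tt N96059 F495908))
theorem Q114200 : ∀ i, i < 114200 → P i := stepQ 114199 Q114199 (allL N114199 (tt N91586 F488954) (tt N117569 F505756) (tt N104371 F488951) (tt N110986 F488952) (tt N91583 (iv4 F488953)) (tt N84609 (iv5 D217455)) (tt N120599 (iv6 F521675)) (tt N114787 (iv7 F491860)))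
theorem Q114201 : ∀ i, i < 114201 → P i := stepQ 114200 Q114200 (allL N114200 (tt N96059 (iv1 F488958)) (tt N115591 (iv0 F495899)) (tt N115621 (iv2 F496005)) (tt N88128 F488955) (tt N84612 F488956) (tt N114787 (iv5 F491861)) (tt N114125 F488957) (tt N84609 (iv7 D217456)))
theorem Q114202 : ∀ i, i < 114202 → P i := stepQ 114201 Q114201 (allL N114201 (tt N115900 (iv1 F497489)) (tt N87318 (iv0 F488962)) (tt N111561 F488959) (tt N101605 F488960) (tt N84610 (iv4 D217457)) (tt N111560 F488961) (tt N121909 (iv6 F529007)) (tt N115622 (iv7 F496017)))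
theorem Q114203 : ∀ i, i < 114203 → P i := stepQ 114202 Q114202 (allL N114202 (tt N115630 F496055) (tt N115817 (iv0 F497053)) (tt N84614 F488963) (tt N114136 F488964) (tt N114204 (iv4 F488971)) (tt N88310 F488965) (tt N84613 (iv6 D217458)) (tt N107236 F488966))
theorem Q114204 : ∀ i, i < 114204 → P i := stepQ 114203 Q114203 (allL N114203 (tt N107236 (iv1 F488968)) (tt N84614 (iv0 D217459)) (tt N115630 (iv2 F496050)) (tt N115646 (iv3 F496121)) (tt N115459 (iv4 F495293)) (tt N87112 F488967) (tt N115626 (iv6 F496032)) (tt N115817 (iv7 F497052)))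
theorem Q114205 : ∀ i, i < 114205 → P i := stepQ 114204 Q114204 (allL N114204 (tt N115817 (iv1 F497054)) (tt N115630 (iv0 F496054)) (tt N107236 F488969) (tt N84617 F488970) (tt N114202 F488971) (tt N84666 F488972) (tt N107229 F488973) (tt N84614 (iv7 D217460)))
theorem Q114206 : ∀ i, i < 114206 → P i := stepQ 114205 Q114205 (allL N114205 (tt N84615 (iv1 D217461)) (tt N108528 F488974) (tt N102110 F488980) (tt N111851 (iv3 F488978)) (tt N97222 F488977) (tt N91962 F488976) (tt N111318 (iv6 F488979)) (tt N99669 F488975))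
theorem Q114207 : ∀ i, i < 114207 → P i := stepQ 114206 Q114206 (allL N114206 (tt N122188 (iv1 F530669)) (tt N114096 (iv0 F488983)) (tt N115661 (iv2 F496192)) (tt N84616 (iv3 D217462)) (tt N122410 D225669) (tt N115378 F494901) (tt N88163 F488981) (tt N114102 F488982))
theorem Q114208 : ∀ i, i < 114208 → P i := stepQ 114207 Q114207 (allL N114207 (tt N115497 (iv1 F495504)) (tt N108529 F488987) (tt N122397 (iv2 F531851)) (tt N112271 F488984) (tt N88224 F488986) (tt N84619 (iv5 D217463)) (tt N122368 (iv6 F531681)) (tt N112268 F488985))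
theorem Q114209 : ∀ i, i < 114209 → P i := stepQ 114208 Q114208 (allL N114208 (tt N111895 (iv1 F488989)) (tt N84620 (iv0 D217464)) (tt N111897 (iv2 F488991)) (tt N112269 (iv3 F488998)) (tt N91921 F488990) (tt N88022 F488988) (tt N91665 (iv6 F488992)) (tt N111896 (iv7 F488993)))
theorem Q114210 : ∀ i, i < 114210 → P i := stepQ 114209 Q114209 (allL N114209 (tt N84620 (iv1 D217465)) (tt N111895 F488999) (tt N111896 (iv2 F489004)) (tt N112450 F489003) (tt N91922 F489001) (tt N88021 (iv5 F489005)) (tt N112448 (iv6 F489002)) (tt N111897 F489000))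
theorem Q114211 : ∀ i, i < 114211 → P i := stepQ 114210 Q114210 (allL N114210 (tt N114160 F489011) (tt N114162 F489012) (tt N114129 F489006) (tt N111576 F489007) (tt N94868 F489010) (tt N84620 (iv5 D217466)) (tt N87307 F489008) (tt N111572 F489009))
theorem Q114212 : ∀ i, i < 114212 → P i := stepQ 114211 Q114211 (allL N114211 (tt N111684 F489016) (tt N84626 (iv0 F489019)) (tt N114131 F489013) (tt N114114 F489017) (tt N84621 (iv4 D217467)) (tt N88152 F489015) (tt N84621 (iv6 F489018)) (tt N114133 F489014))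
theorem Q114213 : ∀ i, i < 114213 → P i := stepQ 114212 Q114212 (allL N114212 (tt N114094 F498247) (tt N119359 (iv0 F515208)) (tt N116060 (iv2 F498272)) (tt N84622 (iv3 D217468)) (tt N120708 F522262) (tt N117121 (iv5 F503500)) (tt N116052 F498246) (tt N114130 F489020))
theorem Q114214 : ∀ i, i < 114214 → P i := stepQ 114213 Q114213 (allL N114213 (tt N84626 F489024) (tt N111684 F489025) (tt N114133 F489021) (tt N120709 (iv3 F522266)) (tt N84622 (iv4 D217469)) (tt N88151 F489023) (tt N121783 (iv6 F528289)) (tt N114131 F489022))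
theorem Q114215 : ∀ i, i < 114215 → P i := stepQ 114214 Q114214 (allL N114214 (tt N87497 F489028) (tt N84635 (iv0 F489029)) (tt N114134 F489026) (tt N116052 (iv3 F498243)) (tt N121783 (iv4 F528287)) (tt N113629 F489027) (tt N84622 (iv6 D217470)) (tt N121783 (iv7 F528292)))
theorem Q114216 : ∀ i, i < 114216 → P i := stepQ 114215 Q114215 (allL N114215 (tt N114142 (iv1 F489033)) (tt N84624 (iv0 D217471)) (tt N91191 (iv2 F489032)) (tt N99695 F489031) (tt N115571 (iv4 F495825)) (tt N91189 F489030) (tt N115817 (iv6 F497051)) (tt N114141 F489034))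
theorem Q114217 : ∀ i, i < 114217 → P i := stepQ 114216 Q114216 (allL N114216 (tt N87360 F489040) (tt N87356 (iv0 F489041)) (tt N109322 F489035) (tt N91911 F489036) (tt N84624 (iv4 D217472)) (tt N102257 F489039) (tt N114147 F489037) (tt N114143 F489038))
theorem Q114218 : ∀ i, i < 114218 → P i := stepQ 114217 Q114217 (allL N114217 (tt N115869 (iv1 F497325)) (tt N115866 (iv0 F497310)) (tt N117614 (iv2 F506003)) (tt N84626 F489042) (tt N108568 F489043) (tt N117613 (iv5 F505999)) (tt N84625 (iv6 D217473)) (tt N114148 F489044))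
theorem Q114219 : ∀ i, i < 114219 → P i := stepQ 114218 Q114218 (allL N114218 (tt N106115 (iv1 F489047)) (tt N114103 F489046) (tt N84632 (iv2 D217474)) (tt N121701 (iv3 F527833)) (tt N95661 (iv4 F489048)) (tt N99676 F489045) (tt N95428 F489049) (tt N115634 (iv7 F496068)))
theorem Q114220 : ∀ i, i < 114220 → P i := stepQ 114219 Q114219 (allL N114219 (tt N118839 (iv1 F512352)) (tt N118884 F512579) (tt N95661 F489050) (tt N122096 (iv3 F530136)) (tt N84632 (iv4 D217475)) (tt N121410 (iv5 F526206)) (tt N95623 (iv6 F489051)) (tt N118883 (iv7 F512572)))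
theorem Q114221 : ∀ i, i < 114221 → P i := stepQ 114220 Q114220 (allL N114220 (tt N95432 (iv1 F489057)) (tt N95312 F489058) (tt N95428 F489052) (tt N84635 F489053) (tt N95623 F489054) (tt N97348 F489055) (tt N84632 (iv6 D217476)) (tt N95429 F489056))
theorem Q114222 : ∀ i, i < 114222 → P i := stepQ 114221 Q114221 (allL N114221 (tt N98080 F489061) (tt N111318 F489063) (tt N115493 F495482) (tt N84633 (iv3 D217477)) (tt N122096 (iv4 F530137)) (tt N102965 F489059) (tt N104892 (iv6 F489062)) (tt N102991 F489060))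
theorem Q114223 : ∀ i, i < 114223 → P i := stepQ 114222 Q114222 (allL N114222 (tt N112448 F489069) (tt N116119 (iv0 F498573)) (tt N102985 F489064) (tt N104892 F489065) (tt N84635 F489066) (tt N86774 F489067) (tt N84633 (iv6 D217478)) (tt N104883 F489068))
theorem Q114224 : ∀ i, i < 114224 → P i := stepQ 114223 Q114223 (allL N114223 (tt N84635 (iv1 D217479)) (tt N87497 F489070) (tt N121783 F528290) (tt N116035 F498165) (tt N114134 F489073) (tt N87559 F489072) (tt N114133 (iv6 F489074)) (tt N114134 F489071))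
theorem Q114225 : ∀ i, i < 114225 → P i := stepQ 114224 Q114224 (allL N114224 (tt N84636 (iv1 D217480)) (tt N121701 (iv0 F527837)) (tt N111627 (iv2 F489079)) (tt N108283 F489078) (tt N122411 D225670) (tt N106109 (iv5 F489077)) (tt N111625 (iv6 F489076)) (tt N88156 F489075))
theorem Q114226 : ∀ i, i < 114226 → P i := stepQ 114225 Q114225 (allL N114225 (tt N88156 (iv1 F489084)) (tt N111627 F489083) (tt N84636 (iv2 D217481)) (tt N115634 (iv3 F496072)) (tt N91920 F489080) (tt N90771 F489081) (tt N91919 F489082) (tt N121701 (iv7 F527836)))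
theorem Q114227 : ∀ i, i < 114227 → P i := stepQ 114226 Q114226 (allL N114226 (tt N91954 F489089) (tt N96802 (iv0 F489090)) (tt N111451 F489085) (tt N84652 (iv3 D217482)) (tt N112868 F489086) (tt N122412 D225671) (tt N106817 F489087) (tt N112404 F489088))
theorem Q114228 : ∀ i, i < 114228 → P i := stepQ 114227 Q114227 (allL N114227 (tt N88132 F489095) (tt N115664 F496210) (tt N91776 F489092) (tt N122412 (iv3 F531949)) (tt N111391 F489093) (tt N84652 (iv5 D217483)) (tt N88139 F489096) (tt N112405 F489094))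
theorem Q114229 : ∀ i, i < 114229 → P i := stepQ 114228 Q114228 (allL N114228 (tt N86609 (iv1 F489099)) (tt N84657 (iv0 D217484)) (tt N86440 (iv2 F489098)) (tt N86579 (iv3 F489101)) (tt N87348 F489097) (tt N115149 (iv5 F493726)) (tt N118058 (iv6 F508344)) (tt N86610 F489100))
theorem Q114230 : ∀ i, i < 114230 → P i := stepQ 114229 Q114229 (allL N114229 (tt N115324 F494595) (tt N86508 (iv0 F489106)) (tt N86593 F489102) (tt N104289 F489103) (tt N84658 F489104) (tt N86441 F489105) (tt N84657 (iv6 D217485)) (tt N119094 (iv7 F513763)))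
theorem Q114231 : ∀ i, i < 114231 → P i := stepQ 114230 Q114230 (allL N114230 (tt N96931 F489110) (tt N96930 (iv0 F489111)) (tt N96933 F489107) (tt N84660 (iv3 D217486)) (tt N118095 (iv4 F508555)) (tt N96910 F489108) (tt N118094 (iv6 F508553)) (tt N96909 F489109))
theorem Q114232 : ∀ i, i < 114232 → P i := stepQ 114231 Q114231 (allL N114231 (tt N113630 F489115) (tt N87937 F489116) (tt N112456 F489112) (tt N87934 F489113) (tt N87883 F489117) (tt N84663 (iv5 D217487)) (tt N112454 (iv6 F489118)) (tt N97238 F489114))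
theorem Q114233 : ∀ i, i < 114233 → P i := stepQ 114232 Q114232 (allL N114232 (tt N87937 F489123) (tt N113630 F489124) (tt N97238 F489119) (tt N87765 F489120) (tt N87884 F489125) (tt N84665 (iv5 D217488)) (tt N97232 F489121) (tt N112456 F489122))
theorem Q114234 : ∀ i, i < 114234 → P i := stepQ 114233 Q114233 (allL N114233 (tt N88310 (iv1 F489128)) (tt N84666 (iv0 D217489)) (tt N88313 F489131) (tt N99681 F489127) (tt N87106 F489126) (tt N115468 (iv5 F495329)) (tt N108586 (iv6 F489129)) (tt N88312 (iv7 F489130)))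
theorem Q114235 : ∀ i, i < 114235 → P i := stepQ 114234 Q114234 (allL N114234 (tt N84666 (iv1 D217490)) (tt N88310 F489132) (tt N88312 F489137) (tt N108602 (iv3 F489135)) (tt N87102 F489134) (tt N115467 (iv5 F495325)) (tt N99674 (iv6 F489136)) (tt N88313 F489133))
theorem Q114236 : ∀ i, i < 114236 → P i := stepQ 114235 Q114235 (allL N114235 (tt N88265 F489142) (tt N96732 F489143) (tt N95439 (iv2 F489144)) (tt N84669 (iv3 D217491)) (tt N85682 F489138) (tt N95315 F489139) (tt N85681 F489140) (tt N84698 F489141))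
theorem Q114237 : ∀ i, i < 114237 → P i := stepQ 114236 Q114236 (allL N114236 (tt N87106 F489149) (tt N87102 (iv0 F489150)) (tt N113627 F489145) (tt N84673 (iv3 D217492)) (tt N112697 F489146) (tt N84676 F489147) (tt N110511 F489151) (tt N88338 F489148))
theorem Q114238 : ∀ i, i < 114238 → P i := stepQ 114237 Q114237 (allL N114237 (tt N103210 F489156) (tt N120267 (iv0 F519918)) (tt N88337 F489152) (tt N110511 F489153) (tt N99707 F489154) (tt N86980 F489155) (tt N84673 (iv6 D217493)) (tt N115691 (iv7 F496341)))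
theorem Q114239 : ∀ i, i < 114239 → P i := stepQ 114238 Q114238 (allL N114238 (tt N87525 F489161) (tt N87396 F489162) (tt N84678 F489157) (tt N115283 (iv3 F494370)) (tt N84677 (iv4 D217494)) (tt N111652 F489158) (tt N99663 F489159) (tt N112849 F489160))
theorem Q114240 : ∀ i, i < 114240 → P i := stepQ 114239 Q114239 (allL N114239 (tt N108511 F489166) (tt N115600 F495939) (tt N113562 F489163) (tt N85757 F489164) (tt N111676 F489165) (tt N122402 (iv5 F531889)) (tt N84681 (iv6 D217495)) (tt N120591 (iv7 F521628)))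
theorem Q114241 : ∀ i, i < 114241 → P i := stepQ 114240 Q114240 (allL N114240 (tt N115724 (iv1 F496527)) (tt N115726 (iv0 F496538)) (tt N88264 F489167) (tt N105688 F489168) (tt N84687 (iv4 D217496)) (tt N118891 (iv5 F512605)) (tt N118833 (iv6 F512318)) (tt N88266 F489169))
theorem Q114242 : ∀ i, i < 114242 → P i := stepQ 114241 Q114241 (allL N114241 (tt N88268 F489173) (tt N87624 F489174) (tt N84689 F489170) (tt N115354 (iv3 F494751)) (tt N84688 (iv4 D217497)) (tt N116356 (iv5 F499690)) (tt N112419 F489171) (tt N88261 F489172))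
theorem Q114243 : ∀ i, i < 114243 → P i := stepQ 114242 Q114242 (allL N114242 (tt N84689 (iv1 D217498)) (tt N88261 F489175) (tt N87624 (iv2 F489178)) (tt N115291 (iv3 F494413)) (tt N87623 F489177) (tt N116010 (iv5 F498032)) (tt N96959 (iv6 F489179)) (tt N88268 F489176))
theorem Q114244 : ∀ i, i < 114244 → P i := stepQ 114243 Q114243 (allL N114243 (tt N115841 (iv1 F497178)) (tt N120757 (iv0 F522555)) (tt N116356 (iv2 F499689)) (tt N113569 F489180) (tt N116342 (iv4 F499629)) (tt N84689 (iv5 D217499)) (tt N120675 (iv6 F522085)) (tt N88270 F489181))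
theorem Q114245 : ∀ i, i < 114245 → P i := stepQ 114244 Q114244 (allL N114244 (tt N87871 F489184) (tt N111119 F489187) (tt N108488 F489182) (tt N84694 (iv3 D217500)) (tt N92508 (iv4 F489185)) (tt N116508 (iv5 F500518)) (tt N95299 F489186) (tt N88287 F489183))
theorem Q114246 : ∀ i, i < 114246 → P i := stepQ 114245 Q114245 (allL N114245 (tt N97318 F489191) (tt N84700 (iv0 F489192)) (tt N88290 F489188) (tt N95299 F489189) (tt N104399 F489190) (tt N114819 (iv5 F492044)) (tt N84694 (iv6 D217501)) (tt N115722 (iv7 F496517)))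
theorem Q114247 : ∀ i, i < 114247 → P i := stepQ 114246 Q114246 (allL N114246 (tt N117950 (iv1 F507753)) (tt N94011 (iv0 F489197)) (tt N102220 F489193) (tt N119006 (iv3 F513243)) (tt N105003 F489194) (tt N94794 F489195) (tt N84697 (iv6 D217502)) (tt N102221 F489196))
theorem Q114248 : ∀ i, i < 114248 → P i := stepQ 114247 Q114247 (allL N114247 (tt N97330 F489202) (tt N110913 (iv0 F489203)) (tt N97316 F489198) (tt N84700 F489199) (tt N87867 F489200) (tt N115483 (iv5 F495419)) (tt N84698 (iv6 D217503)) (tt N87866 F489201))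
theorem Q114249 : ∀ i, i < 114249 → P i := stepQ 114248 Q114248 (allL N114248 (tt N84700 (iv1 D217504)) (tt N97318 F489204) (tt N115722 F496515) (tt N115689 (iv3 F496326)) (tt N94012 F489206) (tt N87524 (iv5 F489207)) (tt N88216 (iv6 F489208)) (tt N88290 F489205))
theorem Q114250 : ∀ i, i < 114250 → P i := stepQ 114249 Q114249 (allL N114249 (tt N84701 (iv1 D217505)) (tt N97317 (iv0 F489214)) (tt N104050 (iv2 F489212)) (tt N115699 (iv3 F496384)) (tt N97175 F489211) (tt N96792 F489210) (tt N97174 (iv6 F489213)) (tt N88295 F489209))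
theorem Q114251 : ∀ i, i < 114251 → P i := stepQ 114250 Q114250 (allL N114250 (tt N88295 (iv1 F489221)) (tt N104050 F489218) (tt N84701 (iv2 D217506)) (tt N95439 F489215) (tt N86886 F489219) (tt N95436 F489216) (tt N87595 (iv6 F489220)) (tt N97317 F489217))
theorem Q114252 : ∀ i, i < 114252 → P i := stepQ 114251 Q114251 (allL N114251 (tt N86883 F489226) (tt N86888 F489227) (tt N86886 F489222) (tt N104793 F489223) (tt N84701 (iv4 D217507)) (tt N92859 F489224) (tt N87592 (iv6 F489228)) (tt N86885 F489225))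
theorem Q114253 : ∀ i, i < 114253 → P i := stepQ 114252 Q114252 (allL N114252 (tt N115465 (iv1 F495317)) (tt N113668 (iv0 F489234)) (tt N87595 F489229) (tt N84703 F489230) (tt N87592 F489231) (tt N111621 F489232) (tt N84701 (iv6 D217508)) (tt N97320 F489233))
theorem Q114254 : ∀ i, i < 114254 → P i := stepQ 114253 Q114253 (allL N114253 (tt N100193 (iv1 F489239)) (tt N84712 (iv0 D217509)) (tt N113029 (iv2 F489238)) (tt N119618 (iv3 F516544)) (tt N86470 F489236) (tt N111278 F489235) (tt N109729 F489237) (tt N109721 F489240))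
theorem Q114255 : ∀ i, i < 114255 → P i := stepQ 114254 Q114254 (allL N114254 (tt N84734 F489245) (tt N98183 F489246) (tt N114082 F489241) (tt N109729 F489242) (tt N84717 (iv4 D217510)) (tt N88568 F489243) (tt N119618 (iv6 F516545)) (tt N88567 F489244))
theorem Q114256 : ∀ i, i < 114256 → P i := stepQ 114255 Q114255 (allL N114255 (tt N90871 F489252) (tt N84727 F489253) (tt N90869 F489247) (tt N96239 F489248) (tt N84725 (iv4 D217511)) (tt N98175 F489249) (tt N106988 F489250) (tt N90870 F489251))
theorem Q114257 : ∀ i, i < 114257 → P i := stepQ 114256 Q114256 (allL N114256 (tt N97909 F489258) (tt N114052 (iv0 F489259)) (tt N114875 (iv2 F492280)) (tt N91032 F489254) (tt N84732 (iv4 D217512)) (tt N91031 F489257) (tt N89599 F489255) (tt N86767 F489256))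
theorem Q114258 : ∀ i, i < 114258 → P i := stepQ 114257 Q114257 (allL N114257 (tt N84742 (iv1 D217513)) (tt N91136 (iv0 F489263)) (tt N91134 (iv2 F489262)) (tt N121770 (iv3 F528213)) (tt N120216 (iv4 F519647)) (tt N97091 F489261) (tt N116524 (iv6 F500604)) (tt N91135 F489260))
theorem Q114259 : ∀ i, i < 114259 → P i := stepQ 114258 Q114258 (allL N114258 (tt N91135 (iv1 F489269)) (tt N91134 F489268) (tt N84742 (iv2 D217514)) (tt N91160 F489264) (tt N100466 F489265) (tt N114880 (iv5 F492308)) (tt N98448 F489266) (tt N91136 F489267))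
theorem Q114260 : ∀ i, i < 114260 → P i := stepQ 114259 Q114259 (allL N114259 (tt N84743 (iv1 D217515)) (tt N91163 F489270) (tt N90838 (iv2 F489273)) (tt N113543 (iv3 F489274)) (tt N85486 F489272) (tt N114327 (iv5 F489632)) (tt N90606 (iv6 F489275)) (tt N90836 F489271))
theorem Q114261 : ∀ i, i < 114261 → P i := stepQ 114260 Q114260 (allL N114260 (tt N90838 (iv1 F489281)) (tt N90836 F489282) (tt N91163 F489276) (tt N98443 F489277) (tt N84746 F489278) (tt N98442 F489279) (tt N91138 F489280) (tt N84743 (iv7 D217516)))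
theorem Q114262 : ∀ i, i < 114262 → P i := stepQ 114261 Q114261 (allL N114261 (tt N120179 F519461) (tt N89342 (iv0 F500328)) (tt N113528 F489283) (tt N84744 (iv3 D217517)) (tt N119898 (iv4 F517922)) (tt N121191 (iv5 F525049)) (tt N117214 (iv6 F503940)) (tt N91167 F489284))
theorem Q114263 : ∀ i, i < 114263 → P i := stepQ 114262 Q114262 (allL N114262 (tt N110493 (iv1 F489289)) (tt N110494 F489288) (tt N84759 (iv2 D217518)) (tt N109204 F489285) (tt N85888 F489286) (tt N110779 F489290) (tt N116331 (iv6 F499597)) (tt N109198 F489287))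
theorem Q114264 : ∀ i, i < 114264 → P i := stepQ 114263 Q114263 (allL N114263 (tt N119593 F516422) (tt N117208 (iv0 F503918)) (tt N110779 F489291) (tt N84760 F489292) (tt N110020 F489293) (tt N84759 (iv5 D217519)) (tt N117142 F503602) (tt N114896 (iv7 F492404)))
theorem Q114265 : ∀ i, i < 114265 → P i := stepQ 114264 Q114264 (allL N114264 (tt N84762 (iv1 F489295)) (tt N84760 (iv0 D217520)) (tt N114893 F492384) (tt N117211 F503925) (tt N111202 (iv4 F489296)) (tt N113750 F489294) (tt N111201 (iv6 F489297)) (tt N114894 (iv7 F492387)))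
theorem Q114266 : ∀ i, i < 114266 → P i := stepQ 114265 Q114265 (allL N114265 (tt N84760 (iv1 D217521)) (tt N84762 F489298) (tt N114894 F492389) (tt N105654 (iv3 F492396)) (tt N121842 (iv4 F528640)) (tt N113751 (iv5 F489299)) (tt N89359 F489300) (tt N114893 F492385))
theorem Q114267 : ∀ i, i < 114267 → P i := stepQ 114266 Q114266 (allL N114266 (tt N117205 (iv1 F503902)) (tt N117207 (iv0 F503914)) (tt N114895 (iv2 F492397)) (tt N114628 (iv3 F491084)) (tt N84760 (iv4 D217522)) (tt N114627 F491083) (tt N117138 F503585) (tt N114897 (iv7 F492407)))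
theorem Q114268 : ∀ i, i < 114268 → P i := stepQ 114267 Q114267 (allL N114267 (tt N88613 F489303) (tt N88729 F489304) (tt N105597 F489301) (tt N117142 (iv3 F503599)) (tt N117138 (iv4 F503583)) (tt N103355 F489302) (tt N84760 (iv6 D217523)) (tt N120972 (iv7 F523789)))
theorem Q114269 : ∀ i, i < 114269 → P i := stepQ 114268 Q114268 (allL N114268 (tt N84761 (iv1 D217524)) (tt N109204 F489305) (tt N109202 (iv2 F489309)) (tt N105637 (iv3 F489307)) (tt N116870 (iv4 F502273)) (tt N113512 F489310) (tt N112748 F489308) (tt N109201 F489306))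
theorem Q114270 : ∀ i, i < 114270 → P i := stepQ 114269 Q114269 (allL N114269 (tt N121945 F529226) (tt N122413 D225672) (tt N109203 F489311) (tt N84762 F489312) (tt N121486 (iv4 F526638)) (tt N84761 (iv5 D217525)) (tt N99771 F489313) (tt N114892 (iv7 F492380)))
theorem Q114271 : ∀ i, i < 114271 → P i := stepQ 114270 Q114270 (allL N114270 (tt N86901 (iv1 F489315)) (tt N84764 (iv0 D217526)) (tt N113667 (iv2 F489316)) (tt N108642 (iv3 F489317)) (tt N86419 F489314) (tt N120514 (iv5 F521194)) (tt N108272 (iv6 F489318)) (tt N113666 (iv7 F489319)))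
theorem Q114272 : ∀ i, i < 114272 → P i := stepQ 114271 Q114271 (allL N114271 (tt N84764 (iv1 D217527)) (tt N86901 F489320) (tt N113666 (iv2 F489323)) (tt N115687 F496319) (tt N100141 F489322) (tt N120513 (iv5 F521187)) (tt N115698 (iv6 F496382)) (tt N113667 F489321))
theorem Q114273 : ∀ i, i < 114273 → P i := stepQ 114272 Q114272 (allL N114272 (tt N119372 (iv1 F515274)) (tt N87542 F489328) (tt N113671 F489324) (tt N111784 F489325) (tt N115090 (iv4 F493436)) (tt N84764 (iv5 D217528)) (tt N111783 F489326) (tt N113669 F489327))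
theorem Q114274 : ∀ i, i < 114274 → P i := stepQ 114273 Q114273 (allL N114273 (tt N86682 F489332) (tt N85773 F489333) (tt N89599 F489329) (tt N85818 F489334) (tt N84770 (iv4 D217529)) (tt N89621 F489330) (tt N114875 (iv6 F492282)) (tt N86761 F489331))
theorem Q114275 : ∀ i, i < 114275 → P i := stepQ 114274 Q114274 (allL N114274 (tt N89788 (iv1 F489341)) (tt N85010 F489340) (tt N84788 (iv2 D217530)) (tt N98391 F489335) (tt N89052 F489336) (tt N91678 F489337) (tt N97973 F489338) (tt N89330 F489339))
theorem Q114276 : ∀ i, i < 114276 → P i := stepQ 114275 Q114275 (allL N114275 (tt N114902 (iv1 F492434)) (tt N85209 (iv0 F489345)) (tt N114903 (iv2 F492441)) (tt N97971 F489342) (tt N109295 F489343) (tt N97970 F489344) (tt N114906 (iv6 F492461)) (tt N84789 (iv7 D217531)))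
theorem Q114277 : ∀ i, i < 114277 → P i := stepQ 114276 Q114276 (allL N114276 (tt N85934 F489346) (tt N114304 (iv0 F489499)) (tt N114404 F489986) (tt N116893 F502388) (tt N84790 (iv4 D217532)) (tt N122414 D225673) (tt N120423 (iv6 F520705)) (tt N114403 F489981))
theorem Q114278 : ∀ i, i < 114278 → P i := stepQ 114277 Q114277 (allL N114277 (tt N121219 (iv1 F525204)) (tt N98325 (iv0 F489349)) (tt N121283 (iv2 F525553)) (tt N84791 F489347) (tt N120423 (iv4 F520702)) (tt N97339 F489348) (tt N84790 (iv6 D217533)) (tt N121139 (iv7 F524730)))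
theorem Q114279 : ∀ i, i < 114279 → P i := stepQ 114278 Q114278 (allL N114278 (tt N91425 F489354) (tt N105364 (iv0 F489355)) (tt N113252 F489350) (tt N84796 (iv3 D217534)) (tt N111144 F489351) (tt N106516 F489352) (tt N118359 (iv6 F509904)) (tt N85089 F489353))
theorem Q114280 : ∀ i, i < 114280 → P i := stepQ 114279 Q114279 (allL N114279 (tt N121134 (iv1 F524696)) (tt N93337 (iv0 F489361)) (tt N85112 F489356) (tt N105598 F489357) (tt N84799 F489358) (tt N86140 F489359) (tt N84798 (iv6 D217535)) (tt N105615 F489360))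
theorem Q114281 : ∀ i, i < 114281 → P i := stepQ 114280 Q114280 (allL N114280 (tt N84799 (iv1 D217536)) (tt N85115 F489362) (tt N85114 F489367) (tt N91221 F489368) (tt N100630 F489364) (tt N85170 (iv5 F489365)) (tt N84820 (iv6 F489366)) (tt N85113 F489363))
theorem Q114282 : ∀ i, i < 114282 → P i := stepQ 114281 Q114281 (allL N114281 (tt N85114 (iv1 F489374)) (tt N85113 F489375) (tt N85115 F489369) (tt N105418 F489370) (tt N105615 F489371) (tt N86498 F489372) (tt N85109 F489373) (tt N84799 (iv7 D217537)))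
theorem Q114283 : ∀ i, i < 114283 → P i := stepQ 114282 Q114282 (allL N114282 (tt N85256 (iv1 F489381)) (tt N85255 F489382) (tt N85121 F489376) (tt N85533 F489377) (tt N84802 F489378) (tt N94745 F489379) (tt N84801 (iv6 D217538)) (tt N84835 F489380))
theorem Q114284 : ∀ i, i < 114284 → P i := stepQ 114283 Q114283 (allL N114283 (tt N122048 (iv1 F529848)) (tt N86038 F489387) (tt N85161 F489383) (tt N101069 F489384) (tt N86703 F489386) (tt N84805 (iv5 D217539)) (tt N86078 F489385) (tt N119194 (iv7 F514301)))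
theorem Q114285 : ∀ i, i < 114285 → P i := stepQ 114284 Q114284 (allL N114284 (tt N85160 (iv1 F489391)) (tt N85159 F489392) (tt N85162 F489388) (tt N118151 (iv3 F508878)) (tt N84808 F489389) (tt N119194 (iv5 F514300)) (tt N85187 F489390) (tt N84805 (iv7 D217540)))
theorem Q114286 : ∀ i, i < 114286 → P i := stepQ 114285 Q114285 (allL N114285 (tt N85312 F489398) (tt N84842 (iv0 F489399)) (tt N85164 F489393) (tt N101420 F489394) (tt N84806 (iv4 D217541)) (tt N85886 F489397) (tt N94601 F489395) (tt N85166 F489396))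
theorem Q114287 : ∀ i, i < 114287 → P i := stepQ 114286 Q114286 (allL N114286 (tt N85135 F489404) (tt N85134 F489405) (tt N84813 F489400) (tt N102319 F489401) (tt N84810 (iv4 D217542)) (tt N122223 (iv5 F530864)) (tt N98495 F489402) (tt N85125 F489403))
theorem Q114288 : ∀ i, i < 114288 → P i := stepQ 114287 Q114287 (allL N114287 (tt N115036 (iv1 F493149)) (tt N115035 (iv0 F493143)) (tt N85132 F489406) (tt N120059 (iv3 F518825)) (tt N84811 (iv4 D217543)) (tt N122415 D225674) (tt N116713 (iv6 F501452)) (tt N85130 F489407))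
theorem Q114289 : ∀ i, i < 114289 → P i := stepQ 114288 Q114288 (allL N114288 (tt N115035 (iv1 F493144)) (tt N115036 (iv0 F493148)) (tt N85130 F489408) (tt N114641 (iv3 F491151)) (tt N84812 (iv4 D217544)) (tt N116756 (iv5 F501659)) (tt N85567 F489409) (tt N85132 F489410))
theorem Q114290 : ∀ i, i < 114290 → P i := stepQ 114289 Q114289 (allL N114289 (tt N85125 (iv1 F489413)) (tt N84813 (iv0 D217545)) (tt N85135 (iv2 F489414)) (tt N114995 (iv3 F492970)) (tt N85346 F489411) (tt N114537 (iv5 F490660)) (tt N94158 F489412) (tt N85134 (iv7 F489415)))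
theorem Q114291 : ∀ i, i < 114291 → P i := stepQ 114290 Q114290 (allL N114290 (tt N84813 (iv1 D217546)) (tt N85125 F489416) (tt N85134 (iv2 F489419)) (tt N121483 (iv3 F526623)) (tt N86191 F489418) (tt N114538 (iv5 F490666)) (tt N119628 (iv6 F516594)) (tt N85135 F489417))
theorem Q114292 : ∀ i, i < 114292 → P i := stepQ 114291 Q114291 (allL N114291 (tt N89626 F489424) (tt N89712 (iv0 F489438)) (tt N122223 (iv2 F530863)) (tt N106219 F489420) (tt N89686 F489423) (tt N84813 (iv5 D217547)) (tt N106218 F489421) (tt N85137 F489422))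
theorem Q114293 : ∀ i, i < 114293 → P i := stepQ 114292 Q114292 (allL N114292 (tt N85237 F489430) (tt N84832 F489431) (tt N85210 F489425) (tt N96466 F489426) (tt N84820 (iv4 D217548)) (tt N93528 F489427) (tt N100630 F489428) (tt N85212 F489429))
theorem Q114294 : ∀ i, i < 114294 → P i := stepQ 114293 Q114293 (allL N114293 (tt N84824 (iv1 D217549)) (tt N85192 F489432) (tt N85195 F489436) (tt N115734 (iv3 F496576)) (tt N86178 F489434) (tt N89712 F489437) (tt N113743 (iv6 F489435)) (tt N85196 F489433))
theorem Q114295 : ∀ i, i < 114295 → P i := stepQ 114294 Q114294 (allL N114294 (tt N114489 (iv1 F490438)) (tt N114492 (iv0 F490446)) (tt N109788 F489439) (tt N112745 F489440) (tt N89697 F489443) (tt N84824 (iv5 D217550)) (tt N105022 F489441) (tt N85198 F489442))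
theorem Q114296 : ∀ i, i < 114296 → P i := stepQ 114295 Q114295 (allL N114295 (tt N85225 (iv1 F489449)) (tt N85224 F489450) (tt N85227 F489444) (tt N94522 F489445) (tt N84830 F489446) (tt N94521 F489447) (tt N85208 F489448) (tt N84827 (iv7 D217551)))
theorem Q114297 : ∀ i, i < 114297 → P i := stepQ 114296 Q114296 (allL N114296 (tt N86806 F489456) (tt N85094 F489455) (tt N85229 F489451) (tt N115700 (iv3 F496391)) (tt N108606 F489452) (tt N84828 (iv5 D217552)) (tt N108605 F489453) (tt N85231 F489454))
theorem Q114298 : ∀ i, i < 114298 → P i := stepQ 114297 Q114297 (allL N114297 (tt N90155 F489460) (tt N90159 F489459) (tt N117752 (iv2 F506785)) (tt N86890 F489457) (tt N84833 (iv4 D217553)) (tt N116884 (iv5 F502340)) (tt N117751 (iv6 F506784)) (tt N85234 F489458))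
theorem Q114299 : ∀ i, i < 114299 → P i := stepQ 114298 Q114298 (allL N114298 (tt N112747 (iv1 F489465)) (tt N118664 (iv0 F511417)) (tt N101828 F489461) (tt N84834 F489462) (tt N117751 (iv4 F506780)) (tt N94512 F489463) (tt N84833 (iv6 D217554)) (tt N101835 (iv7 F489464)))
theorem Q114300 : ∀ i, i < 114300 → P i := stepQ 114299 Q114299 (allL N114299 (tt N85121 (iv1 F489470)) (tt N84835 (iv0 D217555)) (tt N85255 F489472) (tt N91683 F489467) (tt N85277 F489466) (tt N111998 F489468) (tt N107834 F489469) (tt N85256 (iv7 F489471)))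
theorem Q114301 : ∀ i, i < 114301 → P i := stepQ 114300 Q114300 (allL N114300 (tt N84835 (iv1 D217556)) (tt N85121 F489473) (tt N85256 (iv2 F489477)) (tt N122108 (iv3 F530214)) (tt N85278 (iv4 F489475)) (tt N118911 (iv5 F512706)) (tt N111214 F489476) (tt N85255 F489474))
theorem Q114302 : ∀ i, i < 114302 → P i := stepQ 114301 Q114301 (allL N114301 (tt N85214 F489482) (tt N90408 (iv0 F489484)) (tt N85261 F489478) (tt N98338 F489479) (tt N112824 F489480) (tt N86019 F489483) (tt N84836 (iv6 D217557)) (tt N110266 F489481))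
theorem Q114303 : ∀ i, i < 114303 → P i := stepQ 114302 Q114302 (allL N114302 (tt N85279 (iv1 F489487)) (tt N84838 (iv0 D217558)) (tt N85277 F489489) (tt N98235 (iv3 F489488)) (tt N85255 F489485) (tt N113115 F489486) (tt N114373 (iv6 F489858)) (tt N85278 F489490))
theorem Q114304 : ∀ i, i < 114304 → P i := stepQ 114303 Q114303 (allL N114303 (tt N84838 (iv1 D217559)) (tt N85279 F489491) (tt N85278 F489496) (tt N100332 (iv3 F489494)) (tt N85256 F489493) (tt N115044 (iv5 F493193)) (tt N98097 (iv6 F489495)) (tt N85277 F489492))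
theorem Q114305 : ∀ i, i < 114305 → P i := stepQ 114304 Q114304 (allL N114304 (tt N114276 F489499) (tt N114941 F492664) (tt N85348 F489497) (tt N117406 (iv3 F504871)) (tt N84839 (iv4 D217560)) (tt N116949 (iv5 F502656)) (tt N116313 (iv6 F499510)) (tt N84992 F489498))
theorem Q114306 : ∀ i, i < 114306 → P i := stepQ 114305 Q114305 (allL N114305 (tt N100333 F489504) (tt N100332 (iv0 F489505)) (tt N85349 F489500) (tt N86308 F489501) (tt N116313 F499508) (tt N109814 F489502) (tt N84839 (iv6 D217561)) (tt N98694 F489503))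
theorem Q114307 : ∀ i, i < 114307 → P i := stepQ 114306 Q114306 (allL N114306 (tt N101073 F489511) (tt N100631 F489512) (tt N85311 F489506) (tt N101422 F489507) (tt N86566 F489510) (tt N84842 (iv5 D217562)) (tt N101419 F489508) (tt N101072 F489509))
theorem Q114308 : ∀ i, i < 114308 → P i := stepQ 114307 Q114307 (allL N114307 (tt N114929 (iv1 F492593)) (tt N114795 (iv0 F491913)) (tt N114928 F492583) (tt N84843 (iv3 D217563)) (tt N89742 F489513) (tt N108277 F489514) (tt N89741 F489515) (tt N85316 F489516))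
theorem Q114309 : ∀ i, i < 114309 → P i := stepQ 114308 Q114308 (allL N114308 (tt N109619 F489520) (tt N120164 (iv0 F519376)) (tt N109082 F489522) (tt N84844 (iv3 D217564)) (tt N98652 F489517) (tt N93995 F489518) (tt N109048 (iv6 F489521)) (tt N85313 F489519))
theorem Q114310 : ∀ i, i < 114310 → P i := stepQ 114309 Q114309 (allL N114309 (tt N115040 (iv1 F493172)) (tt N115041 (iv0 F493179)) (tt N85319 F489523) (tt N109048 F489524) (tt N111019 F489525) (tt N114752 (iv5 F491668)) (tt N84844 (iv6 D217565)) (tt N109083 F489526))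
theorem Q114311 : ∀ i, i < 114311 → P i := stepQ 114310 Q114310 (allL N114310 (tt N85853 F489531) (tt N85850 (iv0 F489533)) (tt N103018 F489527) (tt N84847 (iv3 D217566)) (tt N113092 F489532) (tt N85773 F489528) (tt N85545 F489529) (tt N85288 F489530))
theorem Q114312 : ∀ i, i < 114312 → P i := stepQ 114311 Q114311 (allL N114311 (tt N109174 (iv1 F489538)) (tt N95120 (iv0 F489537)) (tt N119538 (iv2 F516128)) (tt N84848 (iv3 D217567)) (tt N84849 F489534) (tt N120927 (iv5 F523526)) (tt N98531 F489535) (tt N85292 F489536))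
theorem Q114313 : ∀ i, i < 114313 → P i := stepQ 114312 Q114312 (allL N114312 (tt N110501 F489542) (tt N115002 (iv0 F493004)) (tt N119657 (iv2 F516751)) (tt N120927 (iv3 F523524)) (tt N105444 F489541) (tt N84848 (iv5 D217568)) (tt N93238 F489539) (tt N85293 F489540))
theorem Q114314 : ∀ i, i < 114314 → P i := stepQ 114313 Q114313 (allL N114313 (tt N120832 (iv1 F522979)) (tt N119482 (iv0 F515841)) (tt N114800 (iv2 F491938)) (tt N84850 F489543) (tt N98531 F489544) (tt N115980 (iv5 F497892)) (tt N84849 (iv6 D217569)) (tt N119660 (iv7 F516772)))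
theorem Q114315 : ∀ i, i < 114315 → P i := stepQ 114314 Q114314 (allL N114314 (tt N101553 F489547) (tt N115541 (iv0 F495705)) (tt N85362 F489545) (tt N115980 (iv3 F497890)) (tt N111306 F489546) (tt N84850 (iv5 D217570)) (tt N117593 (iv6 F505889)) (tt N115652 (iv7 F496157)))
theorem Q114316 : ∀ i, i < 114316 → P i := stepQ 114315 Q114315 (allL N114315 (tt N89131 F489552) (tt N89132 (iv0 F489554)) (tt N90069 F489548) (tt N84853 (iv3 D217571)) (tt N105582 F489553) (tt N86822 F489549) (tt N105581 F489550) (tt N89838 F489551))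
theorem Q114317 : ∀ i, i < 114317 → P i := stepQ 114316 Q114316 (allL N114316 (tt N85633 (iv1 F489557)) (tt N84854 (iv0 D217572)) (tt N89842 (iv2 F489556)) (tt N107612 (iv3 F489559)) (tt N113228 F489555) (tt N116923 (iv5 F502514)) (tt N111287 (iv6 F489560)) (tt N89841 F489558))
theorem Q114318 : ∀ i, i < 114318 → P i := stepQ 114317 Q114317 (allL N114317 (tt N106830 F489566) (tt N106831 F489567) (tt N108364 F489561) (tt N95182 F489562) (tt N84855 F489563) (tt N102748 F489564) (tt N84854 (iv6 D217573)) (tt N108365 F489565))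
theorem Q114319 : ∀ i, i < 114319 → P i := stepQ 114318 Q114318 (allL N114318 (tt N107403 (iv1 F489573)) (tt N107402 F489574) (tt N108134 F489568) (tt N84860 F489569) (tt N108365 F489570) (tt N84903 F489571) (tt N89847 F489572) (tt N84855 (iv7 D217574)))
theorem Q114320 : ∀ i, i < 114320 → P i := stepQ 114319 Q114319 (allL N114319 (tt N90077 F489580) (tt N90034 (iv0 F489581)) (tt N90076 F489575) (tt N84858 (iv3 D217575)) (tt N106409 F489576) (tt N105368 F489577) (tt N106198 F489578) (tt N85404 F489579))
theorem Q114321 : ∀ i, i < 114321 → P i := stepQ 114320 Q114320 (allL N114320 (tt N85699 F489585) (tt N116346 (iv0 F499651)) (tt N85506 F489582) (tt N95196 F489586) (tt N84864 (iv4 D217576)) (tt N111709 F489583) (tt N117533 (iv6 F505561)) (tt N85509 F489584))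
theorem Q114322 : ∀ i, i < 114322 → P i := stepQ 114321 Q114321 (allL N114321 (tt N85927 F489591) (tt N86339 (iv0 F489592)) (tt N85507 F489587) (tt N113869 F489588) (tt N117533 (iv4 F505563)) (tt N89069 F489589) (tt N84864 (iv6 D217577)) (tt N86338 F489590))
theorem Q114323 : ∀ i, i < 114323 → P i := stepQ 114322 Q114322 (allL N114322 (tt N121180 (iv1 F524982)) (tt N110497 (iv0 F489601)) (tt N113254 F489596) (tt N84869 F489597) (tt N113259 F489598) (tt N90831 F489599) (tt N85514 F489600) (tt N84866 (iv7 D217578)))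
theorem Q114324 : ∀ i, i < 114324 → P i := stepQ 114323 Q114323 (allL N114323 (tt N114346 F489743) (tt N90798 (iv0 F489606)) (tt N85482 F489602) (tt N110344 F489603) (tt N122274 (iv4 F531109)) (tt N84867 (iv5 D217579)) (tt N90620 F489604) (tt N85483 F489605))
theorem Q114325 : ∀ i, i < 114325 → P i := stepQ 114324 Q114324 (allL N114324 (tt N85471 F489611) (tt N85470 F489612) (tt N84874 F489607) (tt N91734 F489608) (tt N84872 (iv4 D217580)) (tt N114078 F489609) (tt N113257 (iv6 F489613)) (tt N85460 F489610))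
theorem Q114326 : ∀ i, i < 114326 → P i := stepQ 114325 Q114325 (allL N114325 (tt N113837 F489619) (tt N116920 (iv0 F502501)) (tt N84875 F489614) (tt N85501 F489615) (tt N113257 F489616) (tt N113826 F489617) (tt N84872 (iv6 D217581)) (tt N113255 F489618))
theorem Q114327 : ∀ i, i < 114327 → P i := stepQ 114326 Q114326 (allL N114326 (tt N103897 F489624) (tt N108376 F489625) (tt N114078 F489620) (tt N85837 F489621) (tt N112468 F489622) (tt N84874 (iv5 D217582)) (tt N114435 (iv6 F490148)) (tt N85472 F489623))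
theorem Q114328 : ∀ i, i < 114328 → P i := stepQ 114327 Q114327 (allL N114327 (tt N98434 F489630) (tt N113256 F489631) (tt N113257 F489626) (tt N85838 F489627) (tt N84875 F489628) (tt N114259 F489632) (tt N84874 (iv6 D217583)) (tt N89695 F489629))
theorem Q114329 : ∀ i, i < 114329 → P i := stepQ 114328 Q114328 (allL N114328 (tt N84875 (iv1 D217584)) (tt N113255 F489633) (tt N116920 (iv2 F502497)) (tt N116748 F501620) (tt N116421 (iv4 F500014)) (tt N122416 D225675) (tt N121140 (iv6 F524736)) (tt N113837 F489634))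
theorem Q114330 : ∀ i, i < 114330 → P i := stepQ 114329 Q114329 (allL N114329 (tt N116920 (iv1 F502502)) (tt N113837 (iv0 F489640)) (tt N113255 F489635) (tt N84878 F489636) (tt N89695 F489637) (tt N113973 F489638) (tt N85476 F489639) (tt N84875 (iv7 D217585)))
theorem Q114331 : ∀ i, i < 114331 → P i := stepQ 114330 Q114330 (allL N114330 (tt N89885 F489646) (tt N89944 F489647) (tt N89946 F489641) (tt N85456 F489642) (tt N84876 (iv4 D217586)) (tt N111486 F489643) (tt N85454 F489644) (tt N89910 F489645))
theorem Q114332 : ∀ i, i < 114332 → P i := stepQ 114331 Q114331 (allL N114331 (tt N86170 F489652) (tt N98518 F489653) (tt N86062 F489648) (tt N116618 (iv3 F500997)) (tt N92593 F489649) (tt N84890 (iv5 D217587)) (tt N85871 F489650) (tt N100218 F489651))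
theorem Q114333 : ∀ i, i < 114333 → P i := stepQ 114332 Q114332 (allL N114332 (tt N84891 (iv1 D217588)) (tt N85995 F489654) (tt N85519 F489659) (tt N85535 (iv3 F489657)) (tt N86180 F489656) (tt N116299 (iv5 F499436)) (tt N109768 (iv6 F489658)) (tt N89623 F489655))
theorem Q114334 : ∀ i, i < 114334 → P i := stepQ 114333 Q114333 (allL N114333 (tt N84902 (iv1 F489665)) (tt N84901 F489666) (tt N84903 F489660) (tt N85538 F489661) (tt N99816 F489662) (tt N108134 F489663) (tt N100199 F489664) (tt N84893 (iv7 D217589)))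
theorem Q114335 : ∀ i, i < 114335 → P i := stepQ 114334 Q114334 (allL N114334 (tt N105558 (iv1 F489672)) (tt N105701 (iv0 F489671)) (tt N106195 F489667) (tt N84896 F489668) (tt N106194 F489669) (tt N105554 F489670) (tt N84894 (iv6 D217590)) (tt N118446 (iv7 F510405)))
theorem Q114336 : ∀ i, i < 114336 → P i := stepQ 114335 Q114335 (allL N114335 (tt N104180 (iv1 F489676)) (tt N112910 (iv0 F489675)) (tt N113107 F489677) (tt N84895 (iv3 D217591)) (tt N105221 F489673) (tt N121769 (iv5 F528207)) (tt N114497 (iv6 F490469)) (tt N113106 F489674))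
theorem Q114337 : ∀ i, i < 114337 → P i := stepQ 114336 Q114336 (allL N114336 (tt N119572 (iv1 F516323)) (tt N120448 F520837) (tt N120450 (iv2 F520845)) (tt N84897 (iv3 D217592)) (tt N104144 F489678) (tt N109080 F489679) (tt N109846 F489680) (tt N104140 F489681))
theorem Q114338 : ∀ i, i < 114338 → P i := stepQ 114337 Q114337 (allL N114337 (tt N114574 F490834) (tt N114575 (iv0 F490838)) (tt N86211 F489682) (tt N84898 (iv3 D217593)) (tt N114998 (iv4 F492983)) (tt N109083 F489683) (tt N85901 F489684) (tt N114752 (iv7 F491670)))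
theorem Q114339 : ∀ i, i < 114339 → P i := stepQ 114338 Q114338 (allL N114338 (tt N105884 F489689) (tt N109380 (iv0 F489690)) (tt N109678 F489685) (tt N86732 F489686) (tt N100161 F489687) (tt N114428 (iv5 F490103)) (tt N84899 (iv6 D217594)) (tt N109676 F489688))
theorem Q114340 : ∀ i, i < 114340 → P i := stepQ 114339 Q114339 (allL N114339 (tt N99816 (iv1 F489696)) (tt N84900 (iv0 D217595)) (tt N100246 (iv2 F489693)) (tt N100330 (iv3 F489695)) (tt N119227 (iv4 F514476)) (tt N109092 F489691) (tt N100235 F489692) (tt N100179 F489694))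
theorem Q114341 : ∀ i, i < 114341 → P i := stepQ 114340 Q114340 (allL N114340 (tt N105793 F489701) (tt N105788 F489702) (tt N99800 F489697) (tt N99809 F489698) (tt N91078 F489699) (tt N84900 (iv5 D217596)) (tt N114428 (iv6 F490104)) (tt N105791 F489700))
theorem Q114342 : ∀ i, i < 114342 → P i := stepQ 114341 Q114341 (allL N114341 (tt N100179 (iv1 F489707)) (tt N100246 F489708) (tt N99816 F489703) (tt N98226 F489704) (tt N84903 F489705) (tt N105791 F489706) (tt N114753 (iv6 F491677)) (tt N84900 (iv7 D217597)))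
theorem Q114343 : ∀ i, i < 114343 → P i := stepQ 114342 Q114342 (allL N114342 (tt N99776 (iv1 F489714)) (tt N109217 (iv0 F489713)) (tt N107982 F489709) (tt N84901 (iv3 D217598)) (tt N119638 (iv4 F516646)) (tt N101362 F489710) (tt N107260 F489711) (tt N109215 F489712))
theorem Q114344 : ∀ i, i < 114344 → P i := stepQ 114343 Q114343 (allL N114343 (tt N90126 F489721) (tt N107265 F489722) (tt N96700 F489716) (tt N107985 F489717) (tt N95910 F489718) (tt N84902 (iv5 D217599)) (tt N107272 F489719) (tt N96697 F489720))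
theorem Q114345 : ∀ i, i < 114345 → P i := stepQ 114344 Q114344 (allL N114344 (tt N85592 (iv1 F489728)) (tt N84904 (iv0 D217600)) (tt N85591 (iv2 F489727)) (tt N99509 F489725) (tt N107695 F489724) (tt N90077 F489723) (tt N99889 F489726) (tt N85493 F489729))
theorem Q114346 : ∀ i, i < 114346 → P i := stepQ 114345 Q114345 (allL N114345 (tt N101059 F489733) (tt N106236 F489736) (tt N106237 F489730) (tt N84908 F489731) (tt N105484 (iv4 F489734)) (tt N84907 (iv5 D217601)) (tt N90133 (iv6 F489735)) (tt N85580 F489732))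
theorem Q114347 : ∀ i, i < 114347 → P i := stepQ 114346 Q114346 (allL N114346 (tt N113921 F489742) (tt N114323 (iv0 F489743)) (tt N85599 F489740) (tt N116113 (iv3 F498538)) (tt N117205 (iv4 F503898)) (tt N84909 (iv5 D217602)) (tt N90135 F489741) (tt N114719 (iv7 F491514)))
theorem Q114348 : ∀ i, i < 114348 → P i := stepQ 114347 Q114347 (allL N114347 (tt N89882 (iv1 F489749)) (tt N89881 F489750) (tt N89880 F489744) (tt N92789 F489745) (tt N85237 F489746) (tt N92788 F489747) (tt N86900 F489748) (tt N84910 (iv7 D217603)))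
theorem Q114349 : ∀ i, i < 114349 → P i := stepQ 114348 Q114348 (allL N114348 (tt N114945 (iv1 F492689)) (tt N114944 F492686) (tt N93204 F489751) (tt N84912 F489752) (tt N93080 F489753) (tt N84911 (iv5 D217604)) (tt N93201 F489754) (tt N84915 F489755))
theorem Q114350 : ∀ i, i < 114350 → P i := stepQ 114349 Q114349 (allL N114349 (tt N84915 (iv1 D217605)) (tt N93204 F489756) (tt N114945 (iv2 F492695)) (tt N84936 (iv3 F489758)) (tt N104394 F489757) (tt N86416 (iv5 F489759)) (tt N119333 (iv6 F515073)) (tt N114944 F492688))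
theorem Q114351 : ∀ i, i < 114351 → P i := stepQ 114350 Q114350 (allL N114350 (tt N104496 F489762) (tt N104499 (iv0 F489763)) (tt N104498 (iv2 F489765)) (tt N84917 (iv3 D217606)) (tt N97903 F489760) (tt N84917 F489764) (tt N98603 F489766) (tt N104497 F489761))
theorem Q114352 : ∀ i, i < 114352 → P i := stepQ 114351 Q114351 (allL N114351 (tt N104620 (iv1 F489770)) (tt N121824 (iv0 F528539)) (tt N114447 (iv2 F490214)) (tt N98603 F489767) (tt N84919 F489768) (tt N98602 F489769) (tt N84917 (iv6 D217607)) (tt N119524 (iv7 F516059)))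
theorem Q114353 : ∀ i, i < 114353 → P i := stepQ 114352 Q114352 (allL N114352 (tt N85848 F489774) (tt N92780 (iv0 F489776)) (tt N97908 F489771) (tt N104428 F489775) (tt N84920 (iv4 D217608)) (tt N118064 (iv5 F508378)) (tt N113146 F489772) (tt N103313 F489773))
theorem Q114354 : ∀ i, i < 114354 → P i := stepQ 114353 Q114353 (allL N114353 (tt N86767 F489782) (tt N114875 (iv0 F492284)) (tt N97909 F489777) (tt N84922 F489778) (tt N97909 F489781) (tt N84920 (iv5 D217609)) (tt N85765 F489779) (tt N114052 F489780))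
theorem Q114355 : ∀ i, i < 114355 → P i := stepQ 114354 Q114354 (allL N114354 (tt N104437 F489784) (tt N104436 F489785) (tt N119521 F516039) (tt N84921 (iv3 D217610)) (tt N104428 F489783) (tt N119521 (iv5 F516037)) (tt N120619 (iv6 F521793)) (tt N114446 (iv7 F490211)))
theorem Q114356 : ∀ i, i < 114356 → P i := stepQ 114355 Q114355 (allL N114355 (tt N104499 F489788) (tt N104496 F489789) (tt N104497 F489786) (tt N119521 F516042) (tt N117512 (iv4 F505434)) (tt N84921 (iv5 D217611)) (tt N118078 (iv6 F508451)) (tt N104498 F489787))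
theorem Q114357 : ∀ i, i < 114357 → P i := stepQ 114356 Q114356 (allL N114356 (tt N117746 (iv1 F506762)) (tt N120837 (iv0 F523004)) (tt N114448 (iv2 F490218)) (tt N120619 (iv3 F521790)) (tt N84923 F489790) (tt N121640 (iv5 F527487)) (tt N84921 (iv6 D217612)) (tt N117953 (iv7 F507765)))
theorem Q114358 : ∀ i, i < 114358 → P i := stepQ 114357 Q114357 (allL N114357 (tt N120623 F521820) (tt N120645 (iv0 F521933)) (tt N120877 (iv2 F523231)) (tt N84924 (iv3 D217613)) (tt N109176 F489791) (tt N120873 (iv5 F523206)) (tt N119526 F516792) (tt N120876 (iv7 F523227)))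
theorem Q114359 : ∀ i, i < 114359 → P i := stepQ 114358 Q114358 (allL N114358 (tt N120646 (iv1 F521940)) (tt N120660 (iv0 F522018)) (tt N119525 (iv2 F516061)) (tt N120873 F523207) (tt N104907 F489793) (tt N84924 (iv5 D217614)) (tt N98624 F489792) (tt N120875 (iv7 F523221)))
theorem Q114360 : ∀ i, i < 114360 → P i := stepQ 114359 Q114359 (allL N114359 (tt N111261 F489794) (tt N104586 (iv0 F489795)) (tt N120901 (iv2 F523371)) (tt N84925 (iv3 D217615)) (tt N119597 (iv4 F516446)) (tt N104587 F489796) (tt N118020 F508128) (tt N114415 F490042))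
theorem Q114361 : ∀ i, i < 114361 → P i := stepQ 114360 Q114360 (allL N114360 (tt N120660 (iv1 F522019)) (tt N120646 (iv0 F521939)) (tt N120875 (iv2 F523218)) (tt N104587 F489797) (tt N104906 F489798) (tt N84925 (iv5 D217616)) (tt N118081 (iv6 F508466)) (tt N119525 (iv7 F516065)))
theorem Q114362 : ∀ i, i < 114362 → P i := stepQ 114361 Q114361 (allL N114361 (tt N111793 (iv1 F489801)) (tt N111794 (iv0 F489800)) (tt N117955 (iv2 F507777)) (tt N118020 F508127) (tt N85054 F489799) (tt N120664 (iv5 F522037)) (tt N84925 (iv6 D217617)) (tt N117954 (iv7 F507771)))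
theorem Q114363 : ∀ i, i < 114363 → P i := stepQ 114362 Q114362 (allL N114362 (tt N104468 (iv1 F489807)) (tt N84927 (iv0 D217618)) (tt N102497 (iv2 F489804)) (tt N102601 (iv3 F489805)) (tt N103372 F489803) (tt N85050 F489802) (tt N116255 (iv6 F507740)) (tt N102596 (iv7 F489806)))
theorem Q114364 : ∀ i, i < 114364 → P i := stepQ 114363 Q114363 (allL N114363 (tt N84927 (iv1 D217619)) (tt N104468 F489808) (tt N102596 F489814) (tt N102608 (iv3 F489812)) (tt N93228 F489811) (tt N85051 F489810) (tt N93227 (iv6 F489813)) (tt N102497 F489809))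
theorem Q114365 : ∀ i, i < 114365 → P i := stepQ 114364 Q114364 (allL N114364 (tt N102596 (iv1 F489818)) (tt N102497 F489819) (tt N104468 F489815) (tt N120666 F522052) (tt N97576 F489816) (tt N84928 F489817) (tt N117980 (iv6 F507895)) (tt N84927 (iv7 D217620)))
theorem Q114366 : ∀ i, i < 114366 → P i := stepQ 114365 Q114365 (allL N114365 (tt N122417 D225676) (tt N119365 (iv0 F515236)) (tt N120967 (iv2 F523756)) (tt N84929 (iv3 D217621)) (tt N97179 F489820) (tt N118066 (iv5 F508387)) (tt N85760 F489821) (tt N115198 (iv7 F493981)))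
theorem Q114367 : ∀ i, i < 114367 → P i := stepQ 114366 Q114366 (allL N114366 (tt N104923 F489824) (tt N109692 F489825) (tt N113770 F489822) (tt N118066 (iv3 F508385)) (tt N109764 F489823) (tt N84929 (iv5 D217622)) (tt N115254 F494227) (tt N115188 (iv7 F493932)))
theorem Q114368 : ∀ i, i < 114368 → P i := stepQ 114367 Q114367 (allL N114367 (tt N98727 F489831) (tt N100786 (iv0 F489832)) (tt N84939 F489826) (tt N84994 F489827) (tt N105528 F489828) (tt N108794 F489829) (tt N84934 (iv6 D217623)) (tt N105572 F489830))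
theorem Q114369 : ∀ i, i < 114369 → P i := stepQ 114368 Q114368 (allL N114368 (tt N117342 (iv1 F504556)) (tt N102617 F489836) (tt N86913 F489833) (tt N97563 F489834) (tt N84942 (iv4 D217624)) (tt N118206 (iv5 F509139)) (tt N102615 F489835) (tt N114949 (iv7 F492719)))
theorem Q114370 : ∀ i, i < 114370 → P i := stepQ 114369 Q114369 (allL N114369 (tt N84943 (iv1 D217625)) (tt N84993 F489837) (tt N104636 F489842) (tt N104705 (iv3 F489840)) (tt N98741 F489839) (tt N119623 (iv5 F516569)) (tt N88761 (iv6 F489841)) (tt N104707 F489838))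
theorem Q114371 : ∀ i, i < 114371 → P i := stepQ 114370 Q114370 (allL N114370 (tt N109428 F489844) (tt N104693 (iv0 F489845)) (tt N116260 (iv2 F499258)) (tt N84943 (iv3 D217626)) (tt N84944 F489843) (tt N121151 (iv5 F524804)) (tt N120752 (iv6 F522523)) (tt N114950 (iv7 F492724)))
theorem Q114372 : ∀ i, i < 114372 → P i := stepQ 114371 Q114371 (allL N114371 (tt N104711 F489850) (tt N103777 F489851) (tt N111218 F489846) (tt N121151 (iv3 F524800)) (tt N105159 F489849) (tt N84943 (iv5 D217627)) (tt N105158 F489847) (tt N90113 F489848))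
theorem Q114373 : ∀ i, i < 114373 → P i := stepQ 114372 Q114372 (allL N114372 (tt N114428 F490106) (tt N114429 F490113) (tt N109079 F489852) (tt N84954 F489853) (tt N121331 (iv4 F525811)) (tt N99815 F489854) (tt N99994 F489855) (tt N84950 (iv7 D217628)))
theorem Q114374 : ∀ i, i < 114374 → P i := stepQ 114373 Q114373 (allL N114373 (tt N116797 F501893) (tt N120397 F520570) (tt N105803 F489856) (tt N98564 F489857) (tt N114562 (iv4 F490783)) (tt N84953 (iv5 D217629)) (tt N114302 F489858) (tt N98558 F489859))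
theorem Q114375 : ∀ i, i < 114375 → P i := stepQ 114374 Q114374 (allL N114374 (tt N121092 (iv1 F524479)) (tt N103524 (iv0 F489862)) (tt N121413 (iv2 F526225)) (tt N84955 (iv3 D217630)) (tt N84957 F489860) (tt N120886 F523292) (tt N122418 D225677) (tt N109183 F489861))
theorem Q114376 : ∀ i, i < 114376 → P i := stepQ 114375 Q114375 (allL N114375 (tt N121030 (iv1 F524113)) (tt N118334 (iv0 F509765)) (tt N109188 F489863) (tt N120886 (iv3 F523289)) (tt N117006 (iv4 F502935)) (tt N84955 (iv5 D217631)) (tt N118803 (iv6 F512157)) (tt N109184 F489864))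
theorem Q114377 : ∀ i, i < 114377 → P i := stepQ 114376 Q114376 (allL N114376 (tt N103552 (iv1 F489868)) (tt N116243 (iv0 F499200)) (tt N109189 F489865) (tt N122418 (iv3 F531988)) (tt N84956 F489866) (tt N105861 F489867) (tt N84955 (iv6 D217632)) (tt N117958 (iv7 F507788)))
theorem Q114378 : ∀ i, i < 114378 → P i := stepQ 114377 Q114377 (allL N114377 (tt N114437 (iv1 F490163)) (tt N84957 (iv0 D217633)) (tt N106977 (iv2 F489872)) (tt N91108 (iv3 F489870)) (tt N98536 F489869) (tt N122273 (iv5 F531103)) (tt N91106 F489871) (tt N114436 (iv7 F490157)))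
theorem Q114379 : ∀ i, i < 114379 → P i := stepQ 114378 Q114378 (allL N114378 (tt N84957 (iv1 D217634)) (tt N114437 F490164) (tt N114436 F490154) (tt N106981 (iv3 F489876)) (tt N105745 (iv4 F489874)) (tt N122349 (iv5 F531565)) (tt N105744 F489875) (tt N106977 F489873))
theorem Q114380 : ∀ i, i < 114380 → P i := stepQ 114379 Q114379 (allL N114379 (tt N106977 (iv1 F490158)) (tt N114436 F490155) (tt N84957 (iv2 D217635)) (tt N106996 F489879) (tt N121413 (iv4 F526223)) (tt N121582 (iv5 F527151)) (tt N113798 (iv6 F489885)) (tt N114437 (iv7 F490162)))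
theorem Q114381 : ∀ i, i < 114381 → P i := stepQ 114380 Q114380 (allL N114380 (tt N113800 F489886) (tt N113794 (iv0 F489882)) (tt N113798 F489884) (tt N84958 F489880) (tt N122418 (iv4 F531989)) (tt N90627 (iv5 F489883)) (tt N84957 (iv6 D217636)) (tt N113799 F489881))
theorem Q114382 : ∀ i, i < 114382 → P i := stepQ 114381 Q114381 (allL N114381 (tt N98576 F489891) (tt N84963 F489892) (tt N105489 F489887) (tt N122419 D225678) (tt N84959 (iv4 D217637)) (tt N90607 F489888) (tt N105488 F489889) (tt N112065 F489890))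
theorem Q114383 : ∀ i, i < 114383 → P i := stepQ 114382 Q114382 (allL N114382 (tt N104434 F489898) (tt N117362 (iv0 F504675)) (tt N101715 F489893) (tt N85034 F489894) (tt N84961 (iv4 D217638)) (tt N87685 F489897) (tt N88650 F489895) (tt N87684 F489896))
theorem Q114384 : ∀ i, i < 114384 → P i := stepQ 114383 Q114383 (allL N114383 (tt N116172 F498862) (tt N116269 (iv0 F499286)) (tt N91801 F489899) (tt N121414 (iv3 F526227)) (tt N84974 F489900) (tt N112332 F489901) (tt N84962 (iv6 D217639)) (tt N116132 (iv7 F498652)))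
theorem Q114385 : ∀ i, i < 114385 → P i := stepQ 114384 Q114384 (allL N114384 (tt N84967 (iv1 F489916)) (tt N84966 (iv0 F489915)) (tt N84964 (iv2 D217640)) (tt N117054 (iv3 F503145)) (tt N120880 (iv4 F523253)) (tt N114064 F489913) (tt N117053 F503142) (tt N84965 (iv7 F489902)))
theorem Q114386 : ∀ i, i < 114386 → P i := stepQ 114385 Q114385 (allL N114385 (tt N106547 F489908) (tt N106540 (iv0 F489906)) (tt N106544 (iv2 F489904)) (tt N84964 (iv3 D217641)) (tt N109712 (iv4 F489905)) (tt N121889 (iv5 F528926)) (tt N110425 F489903) (tt N106545 F489907))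
theorem Q114387 : ∀ i, i < 114387 → P i := stepQ 114386 Q114386 (allL N114386 (tt N120642 (iv1 F521915)) (tt N120639 (iv0 F521901)) (tt N120880 (iv2 F523249)) (tt N114411 (iv3 F490014)) (tt N84964 (iv4 D217642)) (tt N120860 F523131) (tt N114409 F490009) (tt N120885 (iv7 F523285)))
theorem Q114388 : ∀ i, i < 114388 → P i := stepQ 114387 Q114387 (allL N114387 (tt N111964 F489910) (tt N113614 (iv0 F489911)) (tt N114064 (iv2 F489912)) (tt N121889 (iv3 F528924)) (tt N117628 (iv4 F506079)) (tt N84964 (iv5 D217643)) (tt N111947 F489909) (tt N114063 (iv7 F489914)))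
theorem Q114389 : ∀ i, i < 114389 → P i := stepQ 114388 Q114388 (allL N114388 (tt N84966 (iv1 F489920)) (tt N84967 F489921) (tt N84965 F489917) (tt N106545 F489918) (tt N120885 (iv4 F523283)) (tt N114063 F489919) (tt N121788 (iv6 F528323)) (tt N84964 (iv7 D217644)))
theorem Q114390 : ∀ i, i < 114390 → P i := stepQ 114389 Q114389 (allL N114389 (tt N120639 (iv1 F521900)) (tt N120642 (iv0 F521916)) (tt N120885 (iv2 F523282)) (tt N104476 F489922) (tt N84965 (iv4 D217646)) (tt N104475 (iv5 F489923)) (tt N122420 D225679) (tt N120880 (iv7 F523252)))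
theorem Q114391 : ∀ i, i < 114391 → P i := stepQ 114390 Q114390 (allL N114390 (tt N113614 F489926) (tt N111964 (iv0 F489927)) (tt N114063 F489924) (tt N107476 F489928) (tt N122372 (iv4 F531706)) (tt N84965 (iv5 D217647)) (tt N122371 (iv6 F531703)) (tt N114064 F489925))
theorem Q114392 : ∀ i, i < 114392 → P i := stepQ 114391 Q114391 (allL N114391 (tt N122419 F531998) (tt N118805 (iv0 F512168)) (tt N121788 (iv2 F528320)) (tt N113182 F489930) (tt N122420 (iv4 F532001)) (tt N113181 (iv5 F489931)) (tt N84965 (iv6 D217648)) (tt N120374 (iv7 F520445)))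
theorem Q114393 : ∀ i, i < 114393 → P i := stepQ 114392 Q114392 (allL N114392 (tt N117683 F506403) (tt N92758 F489935) (tt N104395 F489932) (tt N93048 F489933) (tt N113578 F489934) (tt N84969 (iv5 D217649)) (tt N93047 (iv6 F489936)) (tt N114955 (iv7 F492749)))
theorem Q114394 : ∀ i, i < 114394 → P i := stepQ 114393 Q114393 (allL N114393 (tt N89661 F489940) (tt N110088 F489941) (tt N110092 F489937) (tt N100938 F489938) (tt N84973 (iv4 D217650)) (tt N116300 (iv5 F499442)) (tt N107643 (iv6 F489942)) (tt N110093 F489939))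
theorem Q114395 : ∀ i, i < 114395 → P i := stepQ 114394 Q114394 (allL N114394 (tt N121528 (iv1 F526871)) (tt N119981 (iv0 F518372)) (tt N113495 F489943) (tt N84974 F489944) (tt N107643 F489945) (tt N88802 F489946) (tt N84973 (iv6 D217651)) (tt N121527 (iv7 F526860)))
theorem Q114396 : ∀ i, i < 114396 → P i := stepQ 114395 Q114395 (allL N114395 (tt N91802 (iv1 F489950)) (tt N89614 F489951) (tt N91803 F489947) (tt N121527 F526863) (tt N116132 (iv4 F498651)) (tt N88804 F489948) (tt N113957 F489949) (tt N84974 (iv7 D217652)))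
theorem Q114397 : ∀ i, i < 114397 → P i := stepQ 114396 Q114396 (allL N114396 (tt N112927 F489954) (tt N112893 F489955) (tt N112935 F489952) (tt N118513 (iv3 F510761)) (tt N84977 (iv4 D217653)) (tt N117077 F503258) (tt N116263 (iv6 F499267)) (tt N112934 F489953))
theorem Q114398 : ∀ i, i < 114398 → P i := stepQ 114397 Q114397 (allL N114397 (tt N116708 F501423) (tt N122335 (iv0 F531487)) (tt N122347 F531557) (tt N84980 (iv3 D217654)) (tt N122260 (iv4 F531045)) (tt N121952 F529265) (tt N122361 (iv6 F531635)) (tt N114698 (iv7 F491404)))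
theorem Q114399 : ∀ i, i < 114399 → P i := stepQ 114398 Q114398 (allL N114398 (tt N113505 F489959) (tt N85524 (iv0 F489961)) (tt N113067 F489956) (tt N122335 (iv3 F531485)) (tt N84980 (iv4 D217655)) (tt N113096 (iv5 F489960)) (tt N88826 F489957) (tt N113975 F489958))
theorem Q114400 : ∀ i, i < 114400 → P i := stepQ 114399 Q114399 (allL N114399 (tt N114670 (iv1 F491299)) (tt N85595 F489964) (tt N114671 (iv2 F491304)) (tt N121952 (iv3 F529261)) (tt N113752 F489963) (tt N84980 (iv5 D217656)) (tt N114675 (iv6 F491319)) (tt N86276 F489962))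
theorem Q114401 : ∀ i, i < 114401 → P i := stepQ 114400 Q114400 (allL N114400 (tt N88549 F489965) (tt N122216 (iv0 F530833)) (tt N122269 F531083) (tt N84981 (iv3 D217657)) (tt N116755 (iv4 F501653)) (tt N114668 (iv5 F491293)) (tt N121110 F524561) (tt N114697 (iv7 F491402)))
theorem Q114402 : ∀ i, i < 114402 → P i := stepQ 114401 Q114401 (allL N114401 (tt N90188 F489970) (tt N90189 F489969) (tt N89332 F489966) (tt N106644 F489967) (tt N84983 (iv4 D217658)) (tt N120221 (iv5 F519671)) (tt N116150 (iv6 F498758)) (tt N89486 F489968))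
theorem Q114403 : ∀ i, i < 114403 → P i := stepQ 114402 Q114402 (allL N114402 (tt N105159 F489976) (tt N116792 (iv0 F501863)) (tt N94703 F489971) (tt N95047 F489972) (tt N102796 F489975) (tt N84990 (iv5 D217659)) (tt N94702 F489973) (tt N90904 F489974))
theorem Q114404 : ∀ i, i < 114404 → P i := stepQ 114403 Q114403 (allL N114403 (tt N85348 (iv1 F489978)) (tt N84992 (iv0 D217660)) (tt N114941 F492663) (tt N109894 (iv3 F489979)) (tt N85857 F489977) (tt N122421 D225680) (tt N101363 F489980) (tt N114276 (iv7 F489981)))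
theorem Q114405 : ∀ i, i < 114405 → P i := stepQ 114404 Q114404 (allL N114404 (tt N84992 (iv1 D217661)) (tt N85348 F489982) (tt N114276 (iv2 F489986)) (tt N89139 (iv3 F489984)) (tt N108835 F489983) (tt N120185 (iv5 F519490)) (tt N107258 (iv6 F489985)) (tt N114941 (iv7 F492665)))
theorem Q114406 : ∀ i, i < 114406 → P i := stepQ 114405 Q114405 (allL N114405 (tt N90133 F489989) (tt N99001 (iv0 F489990)) (tt N89098 F489987) (tt N84992 (iv3 D217662)) (tt N114535 (iv4 F490652)) (tt N90808 F489991) (tt N85385 F489988) (tt N117406 (iv7 F504874)))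
theorem Q114407 : ∀ i, i < 114407 → P i := stepQ 114406 Q114406 (allL N114406 (tt N120954 (iv1 F523678)) (tt N121778 (iv0 F528266)) (tt N112623 F489992) (tt N90808 F489993) (tt N113522 F489995) (tt N84992 (iv5 D217663)) (tt N90806 F489994) (tt N116949 (iv7 F502657)))
theorem Q114408 : ∀ i, i < 114408 → P i := stepQ 114407 Q114407 (allL N114407 (tt N116216 (iv1 F499068)) (tt N103700 (iv0 F489998)) (tt N116218 F499078) (tt N84993 (iv3 D217664)) (tt N101013 F489996) (tt N116790 (iv5 F501850)) (tt N98715 F489997) (tt N116217 (iv7 F499075)))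
theorem Q114409 : ∀ i, i < 114409 → P i := stepQ 114408 Q114408 (allL N114408 (tt N103777 F490002) (tt N104711 F490003) (tt N90113 F489999) (tt N116790 (iv3 F501852)) (tt N116792 (iv4 F501859)) (tt N84993 (iv5 D217665)) (tt N90042 F490000) (tt N111218 F490001))
theorem Q114410 : ∀ i, i < 114410 → P i := stepQ 114409 Q114409 (allL N114409 (tt N103773 F490006) (tt N113784 (iv0 F490007)) (tt N116210 F499037) (tt N84995 (iv3 D217666)) (tt N101015 F490004) (tt N103858 F490008) (tt N114386 (iv6 F490009)) (tt N109187 F490005))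
theorem Q114411 : ∀ i, i < 114411 → P i := stepQ 114410 Q114410 (allL N114410 (tt N118334 (iv1 F509766)) (tt N121030 (iv0 F524112)) (tt N109184 F490010) (tt N103858 F490011) (tt N116962 (iv4 F502723)) (tt N84995 (iv5 D217667)) (tt N120897 (iv6 F523347)) (tt N109188 F490012))
theorem Q114412 : ∀ i, i < 114412 → P i := stepQ 114411 Q114411 (allL N114411 (tt N103706 (iv1 F490019)) (tt N103710 (iv0 F490018)) (tt N103708 F490013) (tt N114386 F490014) (tt N84996 F490015) (tt N103715 F490017) (tt N84995 (iv6 D217668)) (tt N103707 F490016))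
theorem Q114413 : ∀ i, i < 114413 → P i := stepQ 114412 Q114412 (allL N114412 (tt N109185 (iv1 F490024)) (tt N84996 (iv0 D217669)) (tt N104959 (iv2 F490023)) (tt N97880 (iv3 F490026)) (tt N103814 F490021) (tt N105885 F490020) (tt N97866 F490022) (tt N105799 F490025))
theorem Q114414 : ∀ i, i < 114414 → P i := stepQ 114413 Q114413 (allL N114413 (tt N103490 (iv1 F490031)) (tt N103494 (iv0 F490029)) (tt N103492 (iv2 F490032)) (tt N84997 (iv3 D217670)) (tt N98676 F490027) (tt N98562 F490030) (tt N109436 (iv6 F490033)) (tt N103491 F490028))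
theorem Q114415 : ∀ i, i < 114415 → P i := stepQ 114414 Q114414 (allL N114414 (tt N117304 (iv1 F504377)) (tt N115398 (iv0 F494992)) (tt N109177 F490034) (tt N98562 F490035) (tt N121608 (iv4 F527309)) (tt N84997 (iv5 D217671)) (tt N98561 (iv6 F490037)) (tt N109179 F490036))
theorem Q114416 : ∀ i, i < 114416 → P i := stepQ 114415 Q114415 (allL N114415 (tt N103814 (iv1 F490044)) (tt N103810 (iv0 F490043)) (tt N109178 F490038) (tt N109436 F490039) (tt N104054 F490040) (tt N103752 F490041) (tt N84997 (iv6 D217672)) (tt N114359 (iv7 F490042)))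
theorem Q114417 : ∀ i, i < 114417 → P i := stepQ 114416 Q114416 (allL N114416 (tt N119663 F516788) (tt N98028 (iv0 F490046)) (tt N119664 F516795) (tt N84998 (iv3 D217673)) (tt N120876 (iv4 F523228)) (tt N107088 F490047) (tt N114100 (iv6 F490048)) (tt N109176 F490045))
theorem Q114418 : ∀ i, i < 114418 → P i := stepQ 114417 Q114417 (allL N114417 (tt N115398 (iv1 F494993)) (tt N117304 (iv0 F504376)) (tt N109179 F490049) (tt N107088 F490050) (tt N120804 (iv4 F522814)) (tt N84998 (iv5 D217674)) (tt N107086 (iv6 F490052)) (tt N109177 F490051))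
theorem Q114419 : ∀ i, i < 114419 → P i := stepQ 114418 Q114418 (allL N114418 (tt N109843 (iv1 F490059)) (tt N92851 (iv0 F490058)) (tt N109180 F490054) (tt N114100 F490055) (tt N98414 F490056) (tt N114099 F490057) (tt N84998 (iv6 D217675)) (tt N117959 F507793))
theorem Q114420 : ∀ i, i < 114420 → P i := stepQ 114419 Q114419 (allL N114419 (tt N98531 F490063) (tt N119659 F516769) (tt N119658 F516760) (tt N85000 F490060) (tt N115985 (iv4 F497910)) (tt N84999 (iv5 D217676)) (tt N90074 F490061) (tt N103598 F490062))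
theorem Q114421 : ∀ i, i < 114421 → P i := stepQ 114420 Q114420 (allL N114420 (tt N85000 (iv1 D217677)) (tt N102796 F490064) (tt N109182 (iv2 F490068)) (tt N92273 F490067) (tt N118332 (iv4 F509752)) (tt N117342 (iv5 F504559)) (tt N92272 (iv6 F490066)) (tt N109181 F490065))
theorem Q114422 : ∀ i, i < 114422 → P i := stepQ 114421 Q114421 (allL N114421 (tt N116792 F501864) (tt N105159 F490072) (tt N90904 F490069) (tt N94706 (iv3 F490073)) (tt N85000 (iv4 D217678)) (tt N90898 F490070) (tt N95122 F490074) (tt N94703 F490071))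
theorem Q114423 : ∀ i, i < 114423 → P i := stepQ 114422 Q114422 (allL N114422 (tt N85292 (iv1 F490080)) (tt N119538 F516132) (tt N109174 F490075) (tt N90074 F490076) (tt N95122 F490077) (tt N90073 F490078) (tt N85000 (iv6 D217679)) (tt N95120 F490079))
theorem Q114424 : ∀ i, i < 114424 → P i := stepQ 114423 Q114423 (allL N114423 (tt N117066 F503209) (tt N111324 F490082) (tt N114427 (iv2 F490096)) (tt N114468 F490338) (tt N116711 (iv4 F501435)) (tt N85006 (iv5 D217680)) (tt N109047 F490081) (tt N114426 (iv7 F490092)))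
theorem Q114425 : ∀ i, i < 114425 → P i := stepQ 114424 Q114424 (allL N114424 (tt N114742 (iv1 F491615)) (tt N112969 F490085) (tt N114957 (iv2 F492756)) (tt N89701 F490083) (tt N114680 (iv4 F491337)) (tt N85011 (iv5 D217681)) (tt N122237 (iv6 F530940)) (tt N112884 F490084))
theorem Q114426 : ∀ i, i < 114426 → P i := stepQ 114425 Q114425 (allL N114425 (tt N114949 (iv1 F492721)) (tt N86913 F490089) (tt N117342 (iv2 F504561)) (tt N104715 F490086) (tt N85016 (iv4 D217682)) (tt N109182 F490088) (tt N115399 F495000) (tt N102617 F490087))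
theorem Q114427 : ∀ i, i < 114427 → P i := stepQ 114426 Q114426 (allL N114426 (tt N100232 F490094) (tt N105795 F490095) (tt N114626 (iv2 F491072)) (tt N85347 F490090) (tt N94158 F490093) (tt N85024 (iv5 D217683)) (tt N85346 F490091) (tt N114423 F490092))
theorem Q114428 : ∀ i, i < 114428 → P i := stepQ 114427 Q114427 (allL N114427 (tt N105795 F490100) (tt N100232 F490101) (tt N114423 F490096) (tt N100323 F490097) (tt N94159 F490098) (tt N85025 (iv5 D217684)) (tt N100321 F490099) (tt N114626 (iv7 F491076)))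
theorem Q114429 : ∀ i, i < 114429 → P i := stepQ 114428 Q114428 (allL N114428 (tt N109712 F490107) (tt N114372 (iv0 F490106)) (tt N85026 (iv2 D217685)) (tt N115337 (iv3 F494662)) (tt N85045 F490102) (tt N114338 F490103) (tt N114340 F490104) (tt N111326 (iv7 F490105)))
theorem Q114430 : ∀ i, i < 114430 → P i := stepQ 114429 Q114429 (allL N114429 (tt N114372 (iv1 F490113)) (tt N109712 F490114) (tt N111326 F490108) (tt N85028 F490109) (tt N85046 F490110) (tt N109677 F490111) (tt N98720 F490112) (tt N85026 (iv7 D217686)))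
theorem Q114431 : ∀ i, i < 114431 → P i := stepQ 114430 Q114430 (allL N114430 (tt N92708 F490119) (tt N92726 F490120) (tt N92737 F490115) (tt N106011 F490116) (tt N85029 (iv4 D217687)) (tt N120585 (iv5 F521597)) (tt N105934 F490117) (tt N92736 F490118))
theorem Q114432 : ∀ i, i < 114432 → P i := stepQ 114431 Q114431 (allL N114431 (tt N104092 F490126) (tt N96782 (iv0 F490127)) (tt N97939 F490121) (tt N85032 F490122) (tt N87658 F490123) (tt N86585 F490124) (tt N85031 (iv6 D217688)) (tt N104062 F490125))
theorem Q114433 : ∀ i, i < 114433 → P i := stepQ 114432 Q114432 (allL N114432 (tt N85065 (iv1 F490131)) (tt N85034 (iv0 D217689)) (tt N101757 (iv2 F490130)) (tt N110282 F490129) (tt N92724 F490128) (tt N117683 (iv5 F506401)) (tt N105880 (iv6 F490133)) (tt N92723 F490132))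
theorem Q114434 : ∀ i, i < 114434 → P i := stepQ 114433 Q114433 (allL N114433 (tt N97549 F490137) (tt N119644 (iv0 F516679)) (tt N86921 F490134) (tt N87685 F490135) (tt N114452 (iv4 F490243)) (tt N85034 (iv5 D217690)) (tt N86920 F490138) (tt N87681 F490136))
theorem Q114435 : ∀ i, i < 114435 → P i := stepQ 114434 Q114434 (allL N114434 (tt N102336 F490145) (tt N102331 (iv0 F490144)) (tt N101690 F490139) (tt N88650 F490140) (tt N85035 F490141) (tt N101689 F490142) (tt N85034 (iv6 D217691)) (tt N102334 F490143))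
theorem Q114436 : ∀ i, i < 114436 → P i := stepQ 114435 Q114435 (allL N114435 (tt N98577 F490150) (tt N85042 F490151) (tt N92236 F490146) (tt N114885 (iv3 F492343)) (tt N85038 (iv4 D217692)) (tt N90606 F490147) (tt N114326 F490148) (tt N98574 F490149))
theorem Q114437 : ∀ i, i < 114437 → P i := stepQ 114436 Q114436 (allL N114436 (tt N114379 (iv1 F490155)) (tt N85040 (iv0 D217693)) (tt N114378 (iv2 F490154)) (tt N103289 F490153) (tt N105493 F490152) (tt N113738 (iv5 F490159)) (tt N103288 F490156) (tt N114377 F490157))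
theorem Q114438 : ∀ i, i < 114438 → P i := stepQ 114437 Q114437 (allL N114437 (tt N114378 (iv1 F490164)) (tt N114377 F490163) (tt N85040 (iv2 D217694)) (tt N105451 F490160) (tt N120827 F522951) (tt N116262 (iv5 F499265)) (tt N88637 F490161) (tt N114379 F490162))
theorem Q114439 : ∀ i, i < 114439 → P i := stepQ 114438 Q114438 (allL N114438 (tt N85044 (iv1 F490169)) (tt N85043 (iv0 D217695)) (tt N85046 (iv2 F490168)) (tt N114968 F492823) (tt N111326 F490166) (tt N105237 F490165) (tt N94477 F490167) (tt N85045 F490170))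
theorem Q114440 : ∀ i, i < 114440 → P i := stepQ 114439 Q114439 (allL N114439 (tt N85046 (iv1 F490177)) (tt N85045 F490176) (tt N85043 (iv2 D217696)) (tt N88647 F490171) (tt N86002 F490172) (tt N110141 F490173) (tt N86001 F490174) (tt N85044 F490175))
theorem Q114441 : ∀ i, i < 114441 → P i := stepQ 114440 Q114440 (allL N114440 (tt N114967 F492816) (tt N109053 (iv0 F490183)) (tt N86125 F490178) (tt N97535 F490179) (tt N105464 F490180) (tt N85879 F490182) (tt N85048 (iv6 D217697)) (tt N86124 F490181))
theorem Q114442 : ∀ i, i < 114442 → P i := stepQ 114441 Q114441 (allL N114441 (tt N115136 (iv1 F493663)) (tt N120927 (iv0 F523528)) (tt N90087 F490184) (tt N85049 (iv3 D217698)) (tt N114956 (iv4 F492752)) (tt N90155 (iv5 F490186)) (tt N98627 F490185) (tt N115001 (iv7 F492995)))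
theorem Q114443 : ∀ i, i < 114443 → P i := stepQ 114442 Q114442 (allL N114442 (tt N85293 F490191) (tt N119657 (iv0 F516756)) (tt N110501 F490187) (tt N90155 F490188) (tt N110500 F490190) (tt N85049 (iv5 D217699)) (tt N110501 F490189) (tt N115002 (iv7 F493003)))
theorem Q114444 : ∀ i, i < 114444 → P i := stepQ 114443 Q114443 (allL N114443 (tt N104750 F490196) (tt N103678 (iv0 F490197)) (tt N102508 F490192) (tt N85050 (iv3 D217700)) (tt N119662 (iv4 F516783)) (tt N102601 F490193) (tt N102495 F490194) (tt N102600 F490195))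
theorem Q114445 : ∀ i, i < 114445 → P i := stepQ 114444 Q114444 (allL N114444 (tt N104052 F490203) (tt N104056 (iv0 F490204)) (tt N104054 F490198) (tt N85053 F490199) (tt N109178 F490200) (tt N111172 F490201) (tt N85052 (iv6 D217701)) (tt N104053 F490202))
theorem Q114446 : ∀ i, i < 114446 → P i := stepQ 114445 Q114445 (allL N114445 (tt N109563 (iv1 F490208)) (tt N92223 F490209) (tt N119677 (iv2 F516862)) (tt N92246 F490205) (tt N117954 (iv4 F507767)) (tt N100203 F490206) (tt N111171 F490207) (tt N85054 (iv7 D217702)))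
theorem Q114447 : ∀ i, i < 114447 → P i := stepQ 114446 Q114446 (allL N114446 (tt N98012 F490212) (tt N103486 F490213) (tt N119423 (iv2 F515529)) (tt N85055 (iv3 D217703)) (tt N103475 F490210) (tt N119423 (iv5 F515532)) (tt N117694 F506462) (tt N114354 F490211))
theorem Q114448 : ∀ i, i < 114448 → P i := stepQ 114447 Q114447 (allL N114447 (tt N111236 F490217) (tt N119675 (iv0 F516855)) (tt N114351 F490214) (tt N117694 (iv3 F506457)) (tt N111223 F490215) (tt N98509 F490216) (tt N85055 (iv6 D217704)) (tt N117692 F506450))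
theorem Q114449 : ∀ i, i < 114449 → P i := stepQ 114448 Q114448 (allL N114448 (tt N120275 (iv1 F519969)) (tt N120276 (iv0 F519973)) (tt N114356 F490218) (tt N104363 F490219) (tt N92651 F490220) (tt N121752 (iv5 F528108)) (tt N85056 (iv6 D217705)) (tt N118017 (iv7 F508109)))
theorem Q114450 : ∀ i, i < 114450 → P i := stepQ 114449 Q114449 (allL N114449 (tt N103372 F490226) (tt N93228 F490227) (tt N91817 F490221) (tt N103369 F490222) (tt N85058 (iv4 D217706)) (tt N91810 F490223) (tt N93243 F490224) (tt N103373 F490225))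
theorem Q114451 : ∀ i, i < 114451 → P i := stepQ 114450 Q114450 (allL N114450 (tt N92572 F490232) (tt N92713 F490233) (tt N92715 F490228) (tt N103307 F490229) (tt N85062 (iv4 D217707)) (tt N117992 (iv5 F507960)) (tt N103568 F490230) (tt N92716 F490231))
theorem Q114452 : ∀ i, i < 114452 → P i := stepQ 114451 Q114451 (allL N114451 (tt N86126 F490238) (tt N117416 (iv0 F504934)) (tt N86173 F490234) (tt N98512 F490235) (tt N118246 (iv4 F509344)) (tt N85063 (iv5 D217708)) (tt N85894 F490236) (tt N98505 F490237))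
theorem Q114453 : ∀ i, i < 114453 → P i := stepQ 114452 Q114452 (allL N114452 (tt N119644 (iv1 F516680)) (tt N97549 F490244) (tt N87681 F490239) (tt N86925 F490240) (tt N114433 F490243) (tt N85065 (iv5 D217709)) (tt N87680 F490241) (tt N86921 F490242))
theorem Q114454 : ∀ i, i < 114454 → P i := stepQ 114453 Q114453 (allL N114453 (tt N94578 F490249) (tt N103888 F490250) (tt N108254 F490245) (tt N101700 F490246) (tt N105217 F490248) (tt N85070 (iv5 D217710)) (tt N108253 F490251) (tt N112313 F490247))
theorem Q114455 : ∀ i, i < 114455 → P i := stepQ 114454 Q114454 (allL N114454 (tt N114757 F491702) (tt N89857 (iv0 F490256)) (tt N97953 F490252) (tt N97974 F490253) (tt N118009 (iv4 F508066)) (tt N97949 F490254) (tt N85074 (iv6 D217711)) (tt N105927 F490255))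
theorem Q114456 : ∀ i, i < 114456 → P i := stepQ 114455 Q114455 (allL N114455 (tt N114729 F491567) (tt N89657 (iv0 F490262)) (tt N110209 F490257) (tt N85075 (iv3 D217712)) (tt N85081 F490258) (tt N112964 F490259) (tt N85861 F490260) (tt N86738 F490261))
theorem Q114457 : ∀ i, i < 114457 → P i := stepQ 114456 Q114456 (allL N114456 (tt N96428 F490266) (tt N86076 (iv0 F490267)) (tt N86046 F490263) (tt N85872 F490264) (tt N85078 F490265) (tt N119042 (iv5 F513452)) (tt N85077 (iv6 D217713)) (tt N115046 (iv7 F493203)))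
theorem Q114458 : ∀ i, i < 114458 → P i := stepQ 114457 Q114457 (allL N114457 (tt N86048 (iv1 F490271)) (tt N85078 (iv0 D217714)) (tt N86047 (iv2 F490270)) (tt N114757 (iv3 F491699)) (tt N117479 (iv4 F505245)) (tt N86010 F490268) (tt N86072 F490269) (tt N85866 F490272))
theorem Q114459 : ∀ i, i < 114459 → P i := stepQ 114458 Q114458 (allL N114458 (tt N101061 (iv1 F490279)) (tt N101367 (iv0 F490278)) (tt N86057 F490273) (tt N85882 F490274) (tt N85080 F490275) (tt N89749 F490276) (tt N85079 (iv6 D217715)) (tt N101366 F490277))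
theorem Q114460 : ∀ i, i < 114460 → P i := stepQ 114459 Q114459 (allL N114459 (tt N86059 (iv1 F490285)) (tt N86058 F490286) (tt N86060 F490280) (tt N109035 F490281) (tt N101366 F490282) (tt N86795 F490283) (tt N86054 F490284) (tt N85080 (iv7 D217716)))
theorem Q114461 : ∀ i, i < 114461 → P i := stepQ 114460 Q114460 (allL N114460 (tt N93789 F490292) (tt N116760 (iv0 F501683)) (tt N96065 F490287) (tt N85087 (iv3 D217717)) (tt N107299 F490288) (tt N103016 F490289) (tt N107298 F490290) (tt N98163 F490291))
theorem Q114462 : ∀ i, i < 114462 → P i := stepQ 114461 Q114461 (allL N114461 (tt N85089 (iv1 D217718)) (tt N113252 (iv0 F490298)) (tt N91425 F490296) (tt N107514 (iv3 F490294)) (tt N106531 (iv4 F490295)) (tt N117543 (iv5 F505618)) (tt N106482 F490297) (tt N105364 F490293))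
theorem Q114463 : ∀ i, i < 114463 → P i := stepQ 114462 Q114462 (allL N114462 (tt N105364 (iv1 F490304)) (tt N91425 F490303) (tt N85089 (iv2 D217719)) (tt N105356 F490299) (tt N113079 F490300) (tt N106600 (iv5 F490305)) (tt N94619 F490301) (tt N113252 F490302))
theorem Q114464 : ∀ i, i < 114464 → P i := stepQ 114463 Q114463 (allL N114463 (tt N91604 F490310) (tt N115757 (iv0 F496699)) (tt N106600 F490306) (tt N85090 F490307) (tt N90387 (iv4 F490311)) (tt N85089 (iv5 D217720)) (tt N106767 F490308) (tt N106516 F490309))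
theorem Q114465 : ∀ i, i < 114465 → P i := stepQ 114464 Q114464 (allL N114464 (tt N113693 (iv1 F490315)) (tt N113697 F490316) (tt N116764 F501709) (tt N94154 F490312) (tt N85095 F490313) (tt N96259 F490314) (tt N114586 F490884) (tt N85091 (iv7 D217721)))
theorem Q114466 : ∀ i, i < 114466 → P i := stepQ 114465 Q114465 (allL N114465 (tt N97266 F490321) (tt N97265 F490322) (tt N86804 F490317) (tt N115449 (iv3 F495244)) (tt N86513 F490318) (tt N85096 (iv5 D217722)) (tt N106877 F490319) (tt N86799 F490320))
theorem Q114467 : ∀ i, i < 114467 → P i := stepQ 114466 Q114466 (allL N114466 (tt N86073 F490326) (tt N110548 (iv0 F490327)) (tt N117481 F505259) (tt N85097 (iv3 D217723)) (tt N92128 F490323) (tt N86161 F490324) (tt N110469 (iv6 F490328)) (tt N109653 F490325))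
theorem Q114468 : ∀ i, i < 114468 → P i := stepQ 114467 Q114467 (allL N114467 (tt N117479 (iv1 F505249)) (tt N86074 (iv0 F490332)) (tt N117477 F505233) (tt N110469 F490329) (tt N85098 F490330) (tt N112179 F490331) (tt N85097 (iv6 D217724)) (tt N117478 (iv7 F505238)))
theorem Q114469 : ∀ i, i < 114469 → P i := stepQ 114468 Q114468 (allL N114468 (tt N86202 (iv1 F490336)) (tt N85098 (iv0 D217725)) (tt N86203 (iv2 F490335)) (tt N114423 (iv3 F490338)) (tt N114978 (iv4 F492877)) (tt N85955 F490333) (tt N86197 F490334) (tt N85347 F490337))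
theorem Q114470 : ∀ i, i < 114470 → P i := stepQ 114469 Q114469 (allL N114469 (tt N112374 F490344) (tt N114797 (iv0 F491926)) (tt N95212 F490339) (tt N91578 F490340) (tt N85101 (iv4 D217726)) (tt N91575 F490341) (tt N95209 F490342) (tt N85150 F490343))
theorem Q114471 : ∀ i, i < 114471 → P i := stepQ 114470 Q114470 (allL N114470 (tt N91585 (iv1 F490348)) (tt N117573 F505783) (tt N117571 (iv2 F505769)) (tt N85105 F490345) (tt N101918 F490347) (tt N85104 (iv5 D217727)) (tt N93453 F490346) (tt N117572 (iv7 F505771)))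
theorem Q114472 : ∀ i, i < 114472 → P i := stepQ 114471 Q114471 (allL N114471 (tt N105615 (iv1 F490352)) (tt N85112 (iv0 D217728)) (tt N121134 (iv2 F524702)) (tt N93728 F490350) (tt N109379 F490349) (tt N122048 (iv5 F529845)) (tt N93726 F490351) (tt N93337 (iv7 F490353)))
theorem Q114473 : ∀ i, i < 114473 → P i := stepQ 114472 Q114472 (allL N114472 (tt N85112 (iv1 D217729)) (tt N105615 F490354) (tt N93337 F490357) (tt N86080 F490358) (tt N111184 (iv4 F490355)) (tt N86038 F490359) (tt N85206 (iv6 F490356)) (tt N121134 (iv7 F524697)))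
theorem Q114474 : ∀ i, i < 114474 → P i := stepQ 114473 Q114473 (allL N114473 (tt N86142 F490364) (tt N85882 F490365) (tt N86140 F490360) (tt N101325 F490361) (tt N114942 (iv4 F492667)) (tt N85112 (iv5 D217730)) (tt N101323 F490362) (tt N86141 F490363))
theorem Q114475 : ∀ i, i < 114475 → P i := stepQ 114474 Q114474 (allL N114474 (tt N85261 F490369) (tt N110266 (iv0 F490370)) (tt N90408 F490366) (tt N114983 (iv3 F492904)) (tt N122219 (iv4 F530846)) (tt N90394 F490367) (tt N85113 (iv6 D217731)) (tt N85214 F490368))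
theorem Q114476 : ∀ i, i < 114476 → P i := stepQ 114475 Q114475 (allL N114475 (tt N118692 (iv1 F511570)) (tt N111708 (iv0 F490375)) (tt N105131 F490371) (tt N85118 F490372) (tt N98706 F490373) (tt N102834 F490374) (tt N85116 (iv6 D217732)) (tt N118687 (iv7 F511552)))
theorem Q114477 : ∀ i, i < 114477 → P i := stepQ 114476 Q114476 (allL N114476 (tt N114931 (iv1 F492606)) (tt N115053 F493247) (tt N115052 (iv2 F493240)) (tt N91496 F490376) (tt N94540 F490377) (tt N115021 (iv5 F493080)) (tt N85119 (iv6 D217733)) (tt N94537 F490378))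
theorem Q114478 : ∀ i, i < 114478 → P i := stepQ 114477 Q114477 (allL N114477 (tt N104689 F490381) (tt N120258 F519861) (tt N89703 F490379) (tt N85123 (iv3 D217734)) (tt N115001 (iv4 F492994)) (tt N122332 (iv5 F531466)) (tt N86319 F490380) (tt N114956 (iv7 F492754)))
theorem Q114479 : ∀ i, i < 114479 → P i := stepQ 114478 Q114478 (allL N114478 (tt N89712 F490386) (tt N89626 F490387) (tt N85137 F490382) (tt N105244 F490383) (tt N89690 F490384) (tt N85125 (iv5 D217735)) (tt N105243 F490385) (tt N122223 (iv7 F530866)))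
theorem Q114480 : ∀ i, i < 114480 → P i := stepQ 114479 Q114479 (allL N114479 (tt N85142 (iv1 F490391)) (tt N85126 (iv0 D217736)) (tt N85139 (iv2 F490392)) (tt N119002 (iv3 F513218)) (tt N94146 F490389) (tt N86843 F490388) (tt N94004 F490390) (tt N85140 (iv7 F490393)))
theorem Q114481 : ∀ i, i < 114481 → P i := stepQ 114480 Q114480 (allL N114480 (tt N85126 (iv1 D217737)) (tt N85142 F490394) (tt N85140 (iv2 F490399)) (tt N92953 (iv3 F490398)) (tt N85563 F490397) (tt N92951 F490396) (tt N85562 (iv6 F490400)) (tt N85139 F490395))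
theorem Q114482 : ∀ i, i < 114482 → P i := stepQ 114481 Q114481 (allL N114481 (tt N90070 F490405) (tt N113309 (iv0 F490406)) (tt N85372 F490401) (tt N105560 F490402) (tt N85127 (iv4 D217738)) (tt N116744 (iv5 F501600)) (tt N105558 F490403) (tt N89682 F490404))
theorem Q114483 : ∀ i, i < 114483 → P i := stepQ 114482 Q114482 (allL N114482 (tt N89652 (iv1 F490409)) (tt N85128 (iv0 D217739)) (tt N89684 (iv2 F490408)) (tt N103035 (iv3 F490411)) (tt N109638 F490407) (tt N116298 (iv5 F499428)) (tt N121161 (iv6 F524865)) (tt N89685 F490410))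
theorem Q114484 : ∀ i, i < 114484 → P i := stepQ 114483 Q114483 (allL N114483 (tt N89688 (iv1 F490418)) (tt N85129 (iv0 D217740)) (tt N88894 (iv2 F490416)) (tt N88981 F490414) (tt N99450 F490413) (tt N99416 F490412) (tt N85422 F490415) (tt N89687 F490417))
theorem Q114485 : ∀ i, i < 114485 → P i := stepQ 114484 Q114484 (allL N114484 (tt N89687 (iv1 F490424)) (tt N88894 F490425) (tt N89688 F490419) (tt N91730 F490420) (tt N88887 F490421) (tt N88891 F490422) (tt N89693 F490423) (tt N85129 (iv7 D217741)))
theorem Q114486 : ∀ i, i < 114486 → P i := stepQ 114485 Q114485 (allL N114485 (tt N116299 F499437) (tt N109757 F490427) (tt N116756 (iv2 F501657)) (tt N114732 F491574) (tt N114743 (iv4 F491617)) (tt N85130 (iv5 D217742)) (tt N109708 F490426) (tt N122415 (iv7 F531971)))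
theorem Q114487 : ∀ i, i < 114487 → P i := stepQ 114486 Q114486 (allL N114486 (tt N85131 (iv1 D217743)) (tt N100169 F490428) (tt N100201 F490433) (tt N85148 (iv3 F490431)) (tt N100192 (iv4 F490432)) (tt N111325 F490430) (tt N100214 F490434) (tt N100200 F490429))
theorem Q114488 : ∀ i, i < 114488 → P i := stepQ 114487 Q114487 (allL N114487 (tt N109757 F490435) (tt N116299 F499438) (tt N122415 (iv2 F531968)) (tt N116725 F501516) (tt N116298 (iv4 F499429)) (tt N85132 (iv5 D217744)) (tt N121579 (iv6 F527134)) (tt N116756 (iv7 F501661)))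
theorem Q114489 : ∀ i, i < 114489 → P i := stepQ 114488 Q114488 (allL N114488 (tt N121948 (iv1 F529241)) (tt N115078 (iv0 F493378)) (tt N119157 (iv2 F514095)) (tt N85134 (iv3 D217745)) (tt N86193 F490436) (tt N122422 D225681) (tt N109454 (iv6 F490437)) (tt N114995 (iv7 F492971)))
theorem Q114490 : ∀ i, i < 114490 → P i := stepQ 114489 Q114489 (allL N114489 (tt N114530 (iv1 F490625)) (tt N114294 F490438) (tt N114538 (iv2 F490668)) (tt N122422 (iv3 F532011)) (tt N116744 (iv4 F501601)) (tt N85134 (iv5 D217746)) (tt N100951 F490439) (tt N114537 F490663))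
theorem Q114491 : ∀ i, i < 114491 → P i := stepQ 114490 Q114490 (allL N114490 (tt N100194 F490443) (tt N100192 (iv0 F490444)) (tt N119628 (iv2 F516592)) (tt N109454 F490440) (tt N86192 F490441) (tt N100952 F490442) (tt N85134 (iv6 D217747)) (tt N121767 (iv7 F528195)))
theorem Q114492 : ∀ i, i < 114492 → P i := stepQ 114491 Q114491 (allL N114491 (tt N114744 F491626) (tt N118008 (iv0 F508063)) (tt N120457 (iv2 F520888)) (tt N85135 (iv3 D217748)) (tt N114627 (iv4 F491079)) (tt N115139 (iv5 F493675)) (tt N90751 F490445) (tt N121483 (iv7 F526626)))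
theorem Q114493 : ∀ i, i < 114493 → P i := stepQ 114492 Q114492 (allL N114492 (tt N114294 F490446) (tt N114530 (iv0 F490624)) (tt N114537 F490662) (tt N115139 (iv3 F493678)) (tt N116745 (iv4 F501609)) (tt N85135 (iv5 D217749)) (tt N121270 (iv6 F525492)) (tt N114538 (iv7 F490665)))
theorem Q114494 : ∀ i, i < 114494 → P i := stepQ 114493 Q114493 (allL N114493 (tt N85136 (iv1 D217750)) (tt N106483 F490447) (tt N103036 (iv2 F490449)) (tt N118012 (iv3 F508079)) (tt N103042 F490448) (tt N116165 (iv5 F498831)) (tt N119075 (iv6 F513650)) (tt N119565 (iv7 F516286)))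
theorem Q114495 : ∀ i, i < 114495 → P i := stepQ 114494 Q114494 (allL N114494 (tt N122223 (iv1 F530868)) (tt N85137 (iv0 D217751)) (tt N89712 (iv2 F490452)) (tt N113733 (iv3 F490453)) (tt N89658 (iv4 F490454)) (tt N85195 F490450) (tt N113731 F490451) (tt N89626 F490455))
theorem Q114496 : ∀ i, i < 114496 → P i := stepQ 114495 Q114495 (allL N114495 (tt N85137 (iv1 D217752)) (tt N122223 (iv0 F530867)) (tt N89626 (iv2 F490458)) (tt N112986 F490460) (tt N89714 (iv4 F490459)) (tt N85196 F490457) (tt N112983 (iv6 F490461)) (tt N89712 F490456))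
theorem Q114497 : ∀ i, i < 114497 → P i := stepQ 114496 Q114496 (allL N114496 (tt N114679 (iv1 F491335)) (tt N114680 (iv0 F491338)) (tt N89690 F490462) (tt N114690 (iv3 F491378)) (tt N85137 (iv4 D217753)) (tt N89652 F490465) (tt N107474 F490463) (tt N89686 F490464))
theorem Q114498 : ∀ i, i < 114498 → P i := stepQ 114497 Q114497 (allL N114497 (tt N106372 F490470) (tt N113331 (iv0 F490471)) (tt N101921 F490466) (tt N85140 (iv3 D217754)) (tt N101919 F490467) (tt N98365 F490468) (tt N114335 F490469) (tt N119002 (iv7 F513221)))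
theorem Q114499 : ∀ i, i < 114499 → P i := stepQ 114498 Q114498 (allL N114498 (tt N88809 F490475) (tt N88806 F490476) (tt N86320 F490472) (tt N113563 F490473) (tt N114663 (iv4 F491267)) (tt N85143 (iv5 D217755)) (tt N120177 (iv6 F519449)) (tt N89705 F490474))
theorem Q114500 : ∀ i, i < 114500 → P i := stepQ 114499 Q114499 (allL N114499 (tt N111329 F490482) (tt N111328 F490483) (tt N111327 F490477) (tt N104069 F490478) (tt N88885 F490479) (tt N85144 (iv5 D217756)) (tt N100790 F490480) (tt N86588 F490481))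
theorem Q114501 : ∀ i, i < 114501 → P i := stepQ 114500 Q114500 (allL N114500 (tt N85149 (iv1 D217757)) (tt N95227 (iv0 F490487)) (tt N85250 (iv2 F490486)) (tt N103041 F490488) (tt N103085 F490485) (tt N85245 F490484) (tt N120781 (iv6 F522674)) (tt N116782 (iv7 F501802)))
theorem Q114502 : ∀ i, i < 114502 → P i := stepQ 114501 Q114501 (allL N114501 (tt N116782 (iv1 F501801)) (tt N85250 F490493) (tt N85149 (iv2 D217758)) (tt N95231 F490489) (tt N114991 (iv4 F492952)) (tt N85238 F490490) (tt N91479 F490491) (tt N95227 F490492))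
theorem Q114503 : ∀ i, i < 114503 → P i := stepQ 114502 Q114502 (allL N114502 (tt N106534 F490494) (tt N114557 (iv0 F490769)) (tt N114782 (iv2 F491827)) (tt N121154 (iv3 F524822)) (tt N85153 (iv4 D217759)) (tt N116753 (iv5 F501643)) (tt N114723 F491539) (tt N116927 (iv7 F502537)))
theorem Q114504 : ∀ i, i < 114504 → P i := stepQ 114503 Q114503 (allL N114503 (tt N114557 F490770) (tt N106534 (iv0 F490495)) (tt N116927 (iv2 F502536)) (tt N114761 F491721) (tt N85154 (iv4 D217760)) (tt N116754 (iv5 F501646)) (tt N117060 (iv6 F503172)) (tt N114782 F491832))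
theorem Q114505 : ∀ i, i < 114505 → P i := stepQ 114504 Q114504 (allL N114504 (tt N118359 F509905) (tt N108170 (iv0 F490498)) (tt N108319 F490496) (tt N107508 F490497) (tt N117060 (iv4 F503171)) (tt N116411 (iv5 F499965)) (tt N85154 (iv6 D217761)) (tt N118783 (iv7 F512043)))
theorem Q114506 : ∀ i, i < 114506 → P i := stepQ 114505 Q114505 (allL N114505 (tt N105630 F490503) (tt N101395 F490504) (tt N101404 F490499) (tt N85161 F490500) (tt N103592 F490502) (tt N85157 (iv5 D217762)) (tt N101403 F490501) (tt N116147 (iv7 F498744)))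
theorem Q114507 : ∀ i, i < 114507 → P i := stepQ 114506 Q114506 (allL N114506 (tt N85158 (iv1 D217763)) (tt N90717 F490505) (tt N90716 F490509) (tt N118053 (iv3 F508313)) (tt N91101 F490507) (tt N114982 (iv5 F492900)) (tt N111042 (iv6 F490508)) (tt N90715 F490506))
theorem Q114508 : ∀ i, i < 114508 → P i := stepQ 114507 Q114507 (allL N114507 (tt N119194 (iv1 F514303)) (tt N85161 (iv0 D217764)) (tt N122048 (iv2 F529842)) (tt N86081 F490511) (tt N86042 F490510) (tt N121134 (iv5 F524698)) (tt N115046 (iv6 F493207)) (tt N86038 (iv7 F490512)))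
theorem Q114509 : ∀ i, i < 114509 → P i := stepQ 114508 Q114508 (allL N114508 (tt N86038 (iv1 F490515)) (tt N122048 F529847) (tt N119194 (iv2 F514297)) (tt N116147 (iv3 F498741)) (tt N86700 F490513) (tt N85162 F490514) (tt N116148 (iv6 F498749)) (tt N85161 (iv7 D217765)))
theorem Q114510 : ∀ i, i < 114510 → P i := stepQ 114509 Q114509 (allL N114509 (tt N115360 (iv1 F494793)) (tt N118060 F508357) (tt N115190 (iv2 F493938)) (tt N115419 (iv3 F495099)) (tt N85165 (iv4 D217766)) (tt N86699 F490517) (tt N115328 F494616) (tt N86698 F490516))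
theorem Q114511 : ∀ i, i < 114511 → P i := stepQ 114510 Q114510 (allL N114510 (tt N101421 F490521) (tt N101417 (iv0 F490522)) (tt N100837 F490518) (tt N85166 (iv3 D217767)) (tt N101416 F490519) (tt N118719 (iv5 F511735)) (tt N120586 (iv6 F521603)) (tt N101420 F490520))
theorem Q114512 : ∀ i, i < 114512 → P i := stepQ 114511 Q114511 (allL N114511 (tt N118346 F509829) (tt N118635 F511262) (tt N88451 F490523) (tt N120586 (iv3 F521602)) (tt N85168 F490524) (tt N119015 (iv5 F513294)) (tt N85166 (iv6 D217768)) (tt N118633 (iv7 F511248)))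
theorem Q114513 : ∀ i, i < 114513 → P i := stepQ 114512 Q114512 (allL N114512 (tt N118060 (iv1 F508358)) (tt N115360 (iv0 F494791)) (tt N86698 F490525) (tt N117741 (iv3 F506732)) (tt N85167 (iv4 D217769)) (tt N86455 F490526) (tt N114604 (iv6 F490974)) (tt N115190 (iv7 F493941)))
theorem Q114514 : ∀ i, i < 114514 → P i := stepQ 114513 Q114513 (allL N114513 (tt N113879 F490531) (tt N113878 (iv0 F490532)) (tt N86306 F490527) (tt N112016 F490528) (tt N119126 (iv4 F513925)) (tt N85168 (iv5 D217770)) (tt N86040 F490529) (tt N86086 F490530))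
theorem Q114515 : ∀ i, i < 114515 → P i := stepQ 114514 Q114514 (allL N114514 (tt N87120 (iv1 F490538)) (tt N86422 (iv0 F490539)) (tt N87480 F490533) (tt N85169 (iv3 D217771)) (tt N100642 F490537) (tt N100600 F490534) (tt N87531 F490535) (tt N86617 F490536))
theorem Q114516 : ∀ i, i < 114516 → P i := stepQ 114515 Q114515 (allL N114515 (tt N86515 F490542) (tt N85322 F490543) (tt N86615 F490540) (tt N120968 (iv3 F523762)) (tt N85169 (iv4 D217772)) (tt N92980 (iv5 F490544)) (tt N122161 (iv6 F530507)) (tt N86618 F490541))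
theorem Q114517 : ∀ i, i < 114517 → P i := stepQ 114516 Q114516 (allL N114516 (tt N85322 F490549) (tt N86515 F490550) (tt N86618 F490545) (tt N97306 F490546) (tt N85170 (iv4 D217773)) (tt N115162 (iv5 F493799)) (tt N86626 F490547) (tt N86615 F490548))
theorem Q114518 : ∀ i, i < 114518 → P i := stepQ 114517 Q114517 (allL N114517 (tt N86614 F490556) (tt N85171 (iv0 D217774)) (tt N86558 (iv2 F490554)) (tt N112391 (iv3 F490555)) (tt N86724 F490552) (tt N86510 F490551) (tt N86557 F490553) (tt N86612 F490557))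
theorem Q114519 : ∀ i, i < 114519 → P i := stepQ 114518 Q114518 (allL N114518 (tt N85171 (iv1 D217775)) (tt N86614 F490558) (tt N86612 (iv2 F490562)) (tt N86561 (iv3 F490561)) (tt N86725 F490560) (tt N121827 (iv5 F528553)) (tt N118101 (iv6 F508596)) (tt N86558 F490559))
theorem Q114520 : ∀ i, i < 114520 → P i := stepQ 114519 Q114519 (allL N114519 (tt N118099 F508584) (tt N119349 (iv0 F515154)) (tt N115208 (iv2 F494021)) (tt N85171 (iv3 D217776)) (tt N93186 F490563) (tt N115207 F494018) (tt N85173 F490564) (tt N98084 (iv7 F490565)))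
theorem Q114521 : ∀ i, i < 114521 → P i := stepQ 114520 Q114520 (allL N114520 (tt N86612 (iv1 F490571)) (tt N86558 F490572) (tt N86614 F490566) (tt N98084 F490567) (tt N85172 F490568) (tt N86702 F490569) (tt N86594 F490570) (tt N85171 (iv7 D217777)))
theorem Q114522 : ∀ i, i < 114522 → P i := stepQ 114521 Q114521 (allL N114521 (tt N114181 F490575) (tt N114183 F490576) (tt N115845 (iv2 F497199)) (tt N121410 (iv3 F526204)) (tt N85178 (iv4 D217778)) (tt N122096 (iv5 F530138)) (tt N108598 F490573) (tt N91762 F490574))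
theorem Q114523 : ∀ i, i < 114523 → P i := stepQ 114522 Q114522 (allL N114522 (tt N100620 F490581) (tt N95230 F490582) (tt N99534 F490577) (tt N85390 F490578) (tt N85181 (iv4 D217779)) (tt N101457 F490580) (tt N99505 F490583) (tt N100566 F490579))
theorem Q114524 : ∀ i, i < 114524 → P i := stepQ 114523 Q114523 (allL N114523 (tt N96188 F490588) (tt N107133 (iv0 F490590)) (tt N99533 F490584) (tt N85183 F490585) (tt N99505 F490586) (tt N101594 F490589) (tt N85181 (iv6 D217780)) (tt N99530 F490587))
theorem Q114525 : ∀ i, i < 114525 → P i := stepQ 114524 Q114524 (allL N114524 (tt N94676 F490597) (tt N94882 F490598) (tt N94880 F490592) (tt N85186 F490593) (tt N108117 F490594) (tt N85182 (iv5 D217781)) (tt N101594 F490595) (tt N94879 F490596))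
theorem Q114526 : ∀ i, i < 114526 → P i := stepQ 114525 Q114525 (allL N114525 (tt N106199 F490602) (tt N85183 (iv0 D217782)) (tt N114609 (iv2 F491001)) (tt N111002 (iv3 F490600)) (tt N107309 (iv4 F490601)) (tt N122423 D225682) (tt N107308 F490599) (tt N114611 (iv7 F491010)))
theorem Q114527 : ∀ i, i < 114527 → P i := stepQ 114526 Q114526 (allL N114526 (tt N85183 (iv1 D217783)) (tt N106199 F490603) (tt N114611 (iv2 F491007)) (tt N85185 (iv3 F490605)) (tt N109876 F490604) (tt N112213 F490607) (tt N98163 (iv6 F490606)) (tt N114609 (iv7 F491004)))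
theorem Q114528 : ∀ i, i < 114528 → P i := stepQ 114527 Q114527 (allL N114527 (tt N120520 F521229) (tt N116917 (iv0 F502489)) (tt N115544 (iv2 F495716)) (tt N101594 F490608) (tt N115540 (iv4 F495699)) (tt N85183 (iv5 D217784)) (tt N85186 F490609) (tt N108224 (iv7 F490610)))
theorem Q114529 : ∀ i, i < 114529 → P i := stepQ 114528 Q114528 (allL N114528 (tt N114611 F491013) (tt N114609 (iv0 F491005)) (tt N106199 F490611) (tt N99530 F490612) (tt N85394 F490613) (tt N108224 F490614) (tt N90717 F490615) (tt N85183 (iv7 D217785)))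
theorem Q114530 : ∀ i, i < 114530 → P i := stepQ 114529 Q114529 (allL N114529 (tt N120782 (iv1 F522678)) (tt N120781 F522675) (tt N116020 (iv2 F498091)) (tt N85188 (iv3 D217786)) (tt N101340 F490616) (tt N87446 F490617) (tt N96538 F490618) (tt N109634 F490619))
theorem Q114531 : ∀ i, i < 114531 → P i := stepQ 114530 Q114530 (allL N114530 (tt N114492 F490624) (tt N114489 F490625) (tt N85198 F490620) (tt N112742 F490621) (tt N88834 F490622) (tt N85192 (iv5 D217787)) (tt N88833 F490626) (tt N109788 F490623))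
theorem Q114532 : ∀ i, i < 114532 → P i := stepQ 114531 Q114531 (allL N114531 (tt N105419 F490632) (tt N109789 (iv0 F490633)) (tt N85199 F490627) (tt N95202 F490628) (tt N85194 F490629) (tt N95723 F490630) (tt N85192 (iv6 D217788)) (tt N95235 F490631))
theorem Q114533 : ∀ i, i < 114533 → P i := stepQ 114532 Q114532 (allL N114532 (tt N85203 F490638) (tt N85194 (iv0 D217789)) (tt N85201 (iv2 F490637)) (tt N99107 F490635) (tt N119986 (iv4 F518398)) (tt N99106 F490634) (tt N105423 F490636) (tt N85202 (iv7 F490639)))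
theorem Q114534 : ∀ i, i < 114534 → P i := stepQ 114533 Q114533 (allL N114533 (tt N85194 (iv1 D217790)) (tt N85203 F490640) (tt N85202 (iv2 F490643)) (tt N98040 (iv3 F490644)) (tt N114936 (iv4 F492631)) (tt N106857 F490642) (tt N114935 (iv6 F492629)) (tt N85201 F490641))
theorem Q114535 : ∀ i, i < 114535 → P i := stepQ 114534 Q114534 (allL N114534 (tt N85202 (iv1 F490650)) (tt N85201 F490651) (tt N85203 F490645) (tt N94763 F490646) (tt N95235 F490647) (tt N92158 F490648) (tt N101473 F490649) (tt N85194 (iv7 D217791)))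
theorem Q114536 : ∀ i, i < 114536 → P i := stepQ 114535 Q114535 (allL N114535 (tt N116741 F501590) (tt N119608 (iv0 F516490)) (tt N116420 (iv2 F500007)) (tt N85196 (iv3 D217792)) (tt N114405 F490652) (tt N112986 F490653) (tt N111332 F490654) (tt N115734 (iv7 F496578)))
theorem Q114537 : ∀ i, i < 114537 → P i := stepQ 114536 Q114536 (allL N114536 (tt N112751 F490658) (tt N112750 (iv0 F490659)) (tt N112753 F490655) (tt N85198 F490656) (tt N114701 (iv4 F491419)) (tt N85197 (iv5 D217793)) (tt N114684 (iv6 F491355)) (tt N112745 F490657))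
theorem Q114538 : ∀ i, i < 114538 → P i := stepQ 114537 Q114537 (allL N114537 (tt N109788 (iv1 F490661)) (tt N85198 (iv0 D217794)) (tt N114492 (iv2 F490662)) (tt N122424 D225683) (tt N116735 (iv4 F501560)) (tt N114289 F490660) (tt N119973 (iv6 F518334)) (tt N114489 (iv7 F490663)))
theorem Q114539 : ∀ i, i < 114539 → P i := stepQ 114538 Q114538 (allL N114538 (tt N85198 (iv1 D217795)) (tt N109788 F490664) (tt N114489 F490668) (tt N114691 (iv3 F491382)) (tt N114643 (iv4 F491163)) (tt N114290 F490666) (tt N98515 (iv6 F490667)) (tt N114492 F490665))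
theorem Q114540 : ∀ i, i < 114540 → P i := stepQ 114539 Q114539 (allL N114539 (tt N95235 (iv1 F490673)) (tt N85199 (iv0 D217796)) (tt N105419 (iv2 F490672)) (tt N96509 (iv3 F490675)) (tt N108372 F490670) (tt N107997 F490669) (tt N105416 F490671) (tt N109789 F490674))
theorem Q114541 : ∀ i, i < 114541 → P i := stepQ 114540 Q114540 (allL N114540 (tt N96684 F490680) (tt N96683 F490681) (tt N95723 F490676) (tt N105969 F490677) (tt N95909 F490678) (tt N85199 (iv5 D217797)) (tt N114685 (iv6 F491362)) (tt N96685 F490679))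
theorem Q114542 : ∀ i, i < 114542 → P i := stepQ 114541 Q114541 (allL N114541 (tt N104853 F490687) (tt N104852 F490688) (tt N104854 F490682) (tt N104840 F490683) (tt N97403 F490684) (tt N86506 F490685) (tt N85211 (iv6 D217798)) (tt N104850 F490686))
theorem Q114543 : ∀ i, i < 114543 → P i := stepQ 114542 Q114542 (allL N114542 (tt N112367 F490691) (tt N107834 (iv0 F490692)) (tt N121168 (iv2 F524904)) (tt N117531 F505551) (tt N85214 F490689) (tt N90400 F490690) (tt N85212 (iv6 D217799)) (tt N122219 (iv7 F530848)))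
theorem Q114544 : ∀ i, i < 114544 → P i := stepQ 114543 Q114543 (allL N114543 (tt N90408 (iv1 F490696)) (tt N85214 (iv0 D217800)) (tt N110266 (iv2 F490695)) (tt N117341 (iv3 F504550)) (tt N119057 (iv4 F513543)) (tt N86018 F490693) (tt N113927 F490694) (tt N85261 F490697))
theorem Q114545 : ∀ i, i < 114545 → P i := stepQ 114544 Q114544 (allL N114544 (tt N96259 F490700) (tt N89470 F490701) (tt N107505 F490698) (tt N90371 F490699) (tt N107107 F490702) (tt N85224 (iv5 D217801)) (tt N89570 F490703) (tt N116796 (iv7 F501885)))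
theorem Q114546 : ∀ i, i < 114546 → P i := stepQ 114545 Q114545 (allL N114545 (tt N115965 (iv1 F497804)) (tt N94876 (iv0 F490705)) (tt N116795 (iv2 F501876)) (tt N117735 (iv3 F506697)) (tt N98555 F490704) (tt N115543 (iv5 F495713)) (tt N85224 (iv6 D217802)) (tt N119514 (iv7 F516009)))
theorem Q114547 : ∀ i, i < 114547 → P i := stepQ 114546 Q114546 (allL N114546 (tt N111214 (iv1 F490709)) (tt N118820 F512253) (tt N94500 F490706) (tt N110844 F490707) (tt N85230 F490708) (tt N115541 (iv5 F495702)) (tt N85228 (iv6 D217803)) (tt N118819 (iv7 F512247)))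
theorem Q114548 : ∀ i, i < 114548 → P i := stepQ 114547 Q114547 (allL N114547 (tt N85755 F490715) (tt N115358 (iv0 F494778)) (tt N108605 F490710) (tt N98579 F490711) (tt N91093 F490712) (tt N91253 F490713) (tt N85229 (iv6 D217804)) (tt N86856 F490714))
theorem Q114549 : ∀ i, i < 114549 → P i := stepQ 114548 Q114548 (allL N114548 (tt N86812 F490721) (tt N111808 F490722) (tt N112427 F490716) (tt N87864 F490717) (tt N85231 (iv4 D217805)) (tt N113690 F490718) (tt N86852 F490719) (tt N108606 F490720))
theorem Q114550 : ∀ i, i < 114550 → P i := stepQ 114549 Q114549 (allL N114549 (tt N121444 F526415) (tt N122108 (iv0 F530216)) (tt N98236 F490723) (tt N116346 F499653) (tt N116347 (iv4 F499654)) (tt N112416 F490725) (tt N85232 (iv6 D217806)) (tt N113263 F490724))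
theorem Q114551 : ∀ i, i < 114551 → P i := stepQ 114550 Q114550 (allL N114550 (tt N90159 F490731) (tt N90155 F490730) (tt N85234 F490726) (tt N111175 F490727) (tt N85233 (iv4 D217807)) (tt N111174 F490729) (tt N107827 F490728) (tt N117752 (iv7 F506789)))
theorem Q114552 : ∀ i, i < 114552 → P i := stepQ 114551 Q114551 (allL N114551 (tt N117752 (iv1 F506791)) (tt N85234 (iv0 D217808)) (tt N90159 (iv2 F490734)) (tt N115002 (iv3 F493001)) (tt N90158 F490733) (tt N115001 F492997) (tt N121446 F526425) (tt N90155 (iv7 F490735)))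
theorem Q114553 : ∀ i, i < 114553 → P i := stepQ 114552 Q114552 (allL N114552 (tt N85234 (iv1 D217809)) (tt N117752 (iv0 F506790)) (tt N90155 F490739) (tt N90088 (iv3 F490740)) (tt N90154 F490737) (tt N90087 (iv5 F490741)) (tt N90088 (iv6 F490738)) (tt N90159 F490736))
theorem Q114554 : ∀ i, i < 114554 → P i := stepQ 114553 Q114553 (allL N114553 (tt N118161 (iv1 F508937)) (tt N105377 (iv0 F490745)) (tt N107827 F490742) (tt N117949 (iv3 F507744)) (tt N85235 F490743) (tt N103506 F490744) (tt N85234 (iv6 D217810)) (tt N118163 (iv7 F508947)))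
theorem Q114555 : ∀ i, i < 114555 → P i := stepQ 114554 Q114554 (allL N114554 (tt N99327 (iv1 F490750)) (tt N85235 (iv0 D217811)) (tt N98214 (iv2 F490748)) (tt N105623 F490746) (tt N120859 (iv4 F523124)) (tt N99319 F490747) (tt N105621 F490751) (tt N107801 F490749))
theorem Q114556 : ∀ i, i < 114556 → P i := stepQ 114555 Q114555 (allL N114555 (tt N107801 (iv1 F490756)) (tt N98214 F490757) (tt N99327 F490752) (tt N85237 F490753) (tt N118163 (iv4 F508943)) (tt N93762 F490754) (tt N101835 F490755) (tt N85235 (iv7 D217812)))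
theorem Q114557 : ∀ i, i < 114557 → P i := stepQ 114556 Q114556 (allL N114556 (tt N89633 F490763) (tt N86181 (iv0 F490764)) (tt N89632 F490759) (tt N85244 (iv3 D217813)) (tt N115341 (iv4 F494681)) (tt N94618 F490760) (tt N109786 F490761) (tt N89631 F490762))
theorem Q114558 : ∀ i, i < 114558 → P i := stepQ 114557 Q114557 (allL N114557 (tt N114502 F490769) (tt N114503 (iv0 F490770)) (tt N105704 F490765) (tt N85372 F490766) (tt N85248 (iv4 D217814)) (tt N121125 (iv5 F524643)) (tt N85558 F490767) (tt N106265 F490768))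
theorem Q114559 : ∀ i, i < 114559 → P i := stepQ 114558 Q114558 (allL N114558 (tt N116020 F498096) (tt N109634 (iv0 F490772)) (tt N120781 F522676) (tt N85251 F490771) (tt N117551 (iv4 F505650)) (tt N121647 (iv5 F527525)) (tt N85250 (iv6 D217815)) (tt N120782 (iv7 F522679)))
theorem Q114560 : ∀ i, i < 114560 → P i := stepQ 114559 Q114559 (allL N114559 (tt N118823 (iv1 F512269)) (tt N116771 (iv0 F501740)) (tt N117593 (iv2 F505887)) (tt N121647 (iv3 F527523)) (tt N115632 (iv4 F496062)) (tt N85251 (iv5 D217816)) (tt N85362 F490773) (tt N118826 (iv7 F512280)))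
theorem Q114561 : ∀ i, i < 114561 → P i := stepQ 114560 Q114560 (allL N114560 (tt N113263 F490774) (tt N98236 (iv0 F490775)) (tt N121444 (iv2 F526409)) (tt N85255 (iv3 D217817)) (tt N121447 (iv4 F526428)) (tt N91185 F490776) (tt N117271 (iv6 F504214)) (tt N122108 (iv7 F530215)))
theorem Q114562 : ∀ i, i < 114562 → P i := stepQ 114561 Q114561 (allL N114561 (tt N95926 F490779) (tt N115439 (iv0 F495210)) (tt N111998 F490777) (tt N91185 F490778) (tt N111631 F490780) (tt N85255 (iv5 D217818)) (tt N101958 F490781) (tt N118911 (iv7 F512705)))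
theorem Q114563 : ∀ i, i < 114563 → P i := stepQ 114562 Q114562 (allL N114562 (tt N121168 F524910) (tt N122219 (iv0 F530849)) (tt N107834 F490782) (tt N117271 (iv3 F504212)) (tt N114373 F490783) (tt N101199 F490784) (tt N85255 (iv6 D217819)) (tt N112367 F490785))
theorem Q114564 : ∀ i, i < 114564 → P i := stepQ 114563 Q114563 (allL N114563 (tt N118819 F512249) (tt N94500 (iv0 F490789)) (tt N111214 F490786) (tt N118693 F511574) (tt N98097 F490787) (tt N87270 (iv5 F490788)) (tt N85256 (iv6 D217820)) (tt N118820 (iv7 F512254)))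
theorem Q114565 : ∀ i, i < 114565 → P i := stepQ 114564 Q114564 (allL N114564 (tt N94745 (iv1 F490793)) (tt N85257 (iv0 D217821)) (tt N94743 (iv2 F490792)) (tt N91868 F490791) (tt N91871 F490790) (tt N118346 (iv5 F509826)) (tt N91866 (iv6 F490795)) (tt N94744 F490794))
theorem Q114566 : ∀ i, i < 114566 → P i := stepQ 114565 Q114565 (allL N114565 (tt N114764 (iv1 F491741)) (tt N114765 (iv0 F491747)) (tt N119531 (iv2 F516092)) (tt N85260 F490796) (tt N109036 F490798) (tt N85258 (iv5 D217822)) (tt N102954 F490799) (tt N109036 F490797))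
theorem Q114567 : ∀ i, i < 114567 → P i := stepQ 114566 Q114566 (allL N114566 (tt N114935 (iv1 F492628)) (tt N114937 (iv0 F492642)) (tt N116706 (iv2 F501409)) (tt N85261 F490800) (tt N116482 (iv4 F500369)) (tt N102955 F490801) (tt N85258 (iv6 D217823)) (tt N117341 (iv7 F504553)))
theorem Q114568 : ∀ i, i < 114568 → P i := stepQ 114567 Q114567 (allL N114567 (tt N93338 F490805) (tt N93726 F490806) (tt N112824 F490802) (tt N114728 (iv3 F491558)) (tt N85261 F490803) (tt N110254 F490804) (tt N85259 (iv6 D217824)) (tt N119057 (iv7 F513548)))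
theorem Q114569 : ∀ i, i < 114569 → P i := stepQ 114568 Q114568 (allL N114568 (tt N96577 (iv1 F490966)) (tt N114998 F492985) (tt N120452 F520861) (tt N119153 (iv3 F514071)) (tt N85260 (iv4 D217825)) (tt N120347 (iv5 F520310)) (tt N119152 F514069) (tt N119153 F514075))
theorem Q114570 : ∀ i, i < 114570 → P i := stepQ 114569 Q114569 (allL N114569 (tt N96622 F490810) (tt N96620 (iv0 F490811)) (tt N111178 F490807) (tt N102954 F490808) (tt N119152 (iv4 F514065)) (tt N102953 F490809) (tt N85260 (iv6 D217826)) (tt N114976 (iv7 F492866)))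
theorem Q114571 : ∀ i, i < 114571 → P i := stepQ 114570 Q114570 (allL N114570 (tt N114998 F492984) (tt N96577 (iv0 F490965)) (tt N119153 (iv2 F514070)) (tt N118690 (iv3 F511562)) (tt N85262 (iv4 D217827)) (tt N122425 D225684) (tt N96522 F490812) (tt N120452 (iv7 F520863)))
theorem Q114572 : ∀ i, i < 114572 → P i := stepQ 114571 Q114571 (allL N114571 (tt N119366 F515244) (tt N103151 (iv0 F490817)) (tt N91365 F490813) (tt N90535 F490814) (tt N110477 F490815) (tt N114182 F490816) (tt N85267 (iv6 D217828)) (tt N119238 (iv7 F514550)))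
theorem Q114573 : ∀ i, i < 114573 → P i := stepQ 114572 Q114572 (allL N114572 (tt N91362 (iv1 F490822)) (tt N85269 (iv0 D217829)) (tt N91367 (iv2 F490821)) (tt N95001 F490819) (tt N86091 F490818) (tt N96629 (iv5 F490824)) (tt N94999 F490820) (tt N91366 F490823))
theorem Q114574 : ∀ i, i < 114574 → P i := stepQ 114573 Q114573 (allL N114573 (tt N119145 (iv1 F514022)) (tt N107224 F490828) (tt N105444 F490825) (tt N85888 F490826) (tt N119657 (iv4 F516753)) (tt N85269 (iv5 D217830)) (tt N112793 F490829) (tt N91368 F490827))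
theorem Q114575 : ∀ i, i < 114575 → P i := stepQ 114574 Q114574 (allL N114574 (tt N114602 (iv1 F490962)) (tt N114337 (iv0 F490834)) (tt N113115 F490830) (tt N104174 F490831) (tt N96359 F490833) (tt N85277 (iv5 D217831)) (tt N96358 F490832) (tt N115044 (iv7 F493194)))
theorem Q114576 : ∀ i, i < 114576 → P i := stepQ 114575 Q114575 (allL N114575 (tt N114337 F490838) (tt N114602 (iv0 F490963)) (tt N115044 (iv2 F493191)) (tt N103021 F490835) (tt N122366 (iv4 F531669)) (tt N85278 (iv5 D217832)) (tt N103019 F490836) (tt N113115 F490837))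
theorem Q114577 : ∀ i, i < 114577 → P i := stepQ 114576 Q114576 (allL N114576 (tt N119587 (iv1 F516403)) (tt N98523 (iv0 F490842)) (tt N113537 F490839) (tt N116906 (iv3 F502442)) (tt N85283 F490840) (tt N122426 D225685) (tt N85282 (iv6 D217833)) (tt N98234 F490841))
theorem Q114578 : ∀ i, i < 114578 → P i := stepQ 114577 Q114577 (allL N114577 (tt N115002 (iv1 F493005)) (tt N110501 F490847) (tt N85293 F490843) (tt N109167 F490844) (tt N91368 F490845) (tt N85284 (iv5 D217834)) (tt N109166 F490846) (tt N119657 (iv7 F516755)))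
theorem Q114579 : ∀ i, i < 114579 → P i := stepQ 114578 Q114578 (allL N114578 (tt N85852 F490851) (tt N85855 F490852) (tt N113093 F490848) (tt N120892 (iv3 F523323)) (tt N85288 (iv4 D217835)) (tt N110418 F490850) (tt N117602 (iv6 F505945)) (tt N113092 F490849))
theorem Q114580 : ∀ i, i < 114580 → P i := stepQ 114579 Q114579 (allL N114579 (tt N117471 (iv1 F505202)) (tt N115387 (iv0 F494934)) (tt N115006 (iv2 F493021)) (tt N98677 F490853) (tt N86100 F490856) (tt N85290 (iv5 D217836)) (tt N108885 F490854) (tt N110478 F490855))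
theorem Q114581 : ∀ i, i < 114581 → P i := stepQ 114580 Q114580 (allL N114580 (tt N115387 (iv1 F494935)) (tt N117471 (iv0 F505201)) (tt N110478 F490857) (tt N103742 F490858) (tt N86101 F490859) (tt N85291 (iv5 D217837)) (tt N103741 F490860) (tt N115006 (iv7 F493025)))
theorem Q114582 : ∀ i, i < 114582 → P i := stepQ 114581 Q114581 (allL N114581 (tt N115001 (iv1 F492999)) (tt N90087 (iv0 F490862)) (tt N115136 (iv2 F493659)) (tt N85293 F490861) (tt N115135 F493658) (tt N85292 (iv5 D217838)) (tt N119144 (iv6 F514020)) (tt N120927 (iv7 F523527)))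
theorem Q114583 : ∀ i, i < 114583 → P i := stepQ 114582 Q114582 (allL N114582 (tt N118656 F511378) (tt N118654 (iv0 F511370)) (tt N117773 (iv2 F506894)) (tt N85294 F490863) (tt N85310 F490864) (tt N102586 (iv5 F490865)) (tt N85292 (iv6 D217839)) (tt N119661 (iv7 F516778)))
theorem Q114584 : ∀ i, i < 114584 → P i := stepQ 114583 Q114583 (allL N114583 (tt N119657 (iv1 F516757)) (tt N85293 (iv0 D217840)) (tt N115002 (iv2 F493000)) (tt N90095 (iv3 F490869)) (tt N103066 F490867) (tt N90094 F490866) (tt N122427 D225686) (tt N110501 (iv7 F490868)))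
theorem Q114585 : ∀ i, i < 114585 → P i := stepQ 114584 Q114584 (allL N114584 (tt N98614 F490873) (tt N98654 F490874) (tt N104512 F490870) (tt N105210 F490875) (tt N85295 (iv4 D217841)) (tt N104684 F490871) (tt N98655 F490872) (tt N118062 (iv7 F508367)))
theorem Q114586 : ∀ i, i < 114586 → P i := stepQ 114585 Q114585 (allL N114585 (tt N85319 F490878) (tt N109083 (iv0 F490879)) (tt N115041 (iv2 F493174)) (tt N109891 F490876) (tt N118635 (iv4 F511258)) (tt N98195 F490877) (tt N85301 (iv6 D217842)) (tt N115040 (iv7 F493170)))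
theorem Q114587 : ∀ i, i < 114587 → P i := stepQ 114586 Q114586 (allL N114586 (tt N85305 (iv1 D217843)) (tt N96104 F490880) (tt N95066 (iv2 F490885)) (tt N118449 (iv3 F510423)) (tt N89858 F490883) (tt N93803 F490882) (tt N114464 (iv6 F490884)) (tt N93802 F490881))
theorem Q114588 : ∀ i, i < 114588 → P i := stepQ 114587 Q114587 (allL N114587 (tt N95066 (iv1 F490890)) (tt N93802 F490891) (tt N96104 F490886) (tt N89798 F490887) (tt N85307 F490888) (tt N116144 (iv5 F498721)) (tt N95035 F490889) (tt N85305 (iv7 D217844)))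
theorem Q114589 : ∀ i, i < 114589 → P i := stepQ 114588 Q114588 (allL N114588 (tt N120861 (iv1 F523140)) (tt N120863 (iv0 F523151)) (tt N85310 F490892) (tt N101258 F490893) (tt N117773 (iv4 F506895)) (tt N105399 F490894) (tt N85309 (iv6 D217845)) (tt N105564 (iv7 F490895)))
theorem Q114590 : ∀ i, i < 114590 → P i := stepQ 114589 Q114589 (allL N114589 (tt N85310 (iv1 D217846)) (tt N105564 F490896) (tt N120863 (iv2 F523148)) (tt N109646 (iv3 F490898)) (tt N104453 F490897) (tt N105510 (iv5 F490899)) (tt N121657 (iv6 F527581)) (tt N120861 (iv7 F523137)))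
theorem Q114591 : ∀ i, i < 114591 → P i := stepQ 114590 Q114590 (allL N114590 (tt N105563 (iv1 F490905)) (tt N105562 F490906) (tt N105399 F490900) (tt N85311 F490901) (tt N105398 F490903) (tt N85310 (iv5 D217847)) (tt N112738 F490902) (tt N105557 F490904))
theorem Q114592 : ∀ i, i < 114592 → P i := stepQ 114591 Q114591 (allL N114591 (tt N120863 (iv1 F523152)) (tt N120861 (iv0 F523139)) (tt N105564 F490909) (tt N85312 F490910) (tt N119661 (iv4 F516777)) (tt N105557 F490911) (tt N119660 (iv6 F516774)) (tt N85310 (iv7 D217848)))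
theorem Q114593 : ∀ i, i < 114593 → P i := stepQ 114592 Q114592 (allL N114592 (tt N85311 (iv1 D217849)) (tt N101072 F490912) (tt N100631 F490917) (tt N101415 F490918) (tt N92982 F490915) (tt N100630 F490914) (tt N92984 (iv6 F490916)) (tt N101073 F490913))
theorem Q114594 : ∀ i, i < 114594 → P i := stepQ 114593 Q114593 (allL N114593 (tt N100631 (iv1 F490923)) (tt N101073 F490924) (tt N101072 F490919) (tt N105557 F490920) (tt N86564 F490921) (tt N85312 F490922) (tt N115089 (iv6 F493433)) (tt N85311 (iv7 D217850)))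
theorem Q114595 : ∀ i, i < 114595 → P i := stepQ 114594 Q114594 (allL N114594 (tt N120164 F519377) (tt N109619 F490928) (tt N85313 (iv2 D217851)) (tt N114928 (iv3 F492582)) (tt N98651 F490925) (tt N105013 F490926) (tt N118444 (iv6 F510391)) (tt N109082 F490927))
theorem Q114596 : ∀ i, i < 114596 → P i := stepQ 114595 Q114595 (allL N114595 (tt N109656 F490933) (tt N93133 (iv0 F490934)) (tt N109648 F490929) (tt N85314 (iv3 D217852)) (tt N92967 F490930) (tt N86138 F490931) (tt N118343 F509811) (tt N109650 F490932))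
theorem Q114597 : ∀ i, i < 114597 → P i := stepQ 114596 Q114596 (allL N114596 (tt N86495 F490937) (tt N117432 (iv0 F505005)) (tt N118061 (iv2 F508359)) (tt N121827 (iv3 F528555)) (tt N85315 (iv4 D217853)) (tt N86561 F490936) (tt N115308 F494501) (tt N86560 F490935))
theorem Q114598 : ∀ i, i < 114598 → P i := stepQ 114597 Q114597 (allL N114597 (tt N114795 F491914) (tt N114929 F492592) (tt N85316 (iv2 D217854)) (tt N109082 F490938) (tt N120573 (iv4 F521524)) (tt N108278 F490939) (tt N109080 (iv6 F490940)) (tt N114928 (iv7 F492585)))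
theorem Q114599 : ∀ i, i < 114599 → P i := stepQ 114598 Q114598 (allL N114598 (tt N104174 F490943) (tt N113117 F490944) (tt N109080 F490941) (tt N85319 F490942) (tt N121108 (iv4 F524554)) (tt N120450 (iv5 F520848)) (tt N85316 (iv6 D217855)) (tt N120449 (iv7 F520844)))
theorem Q114600 : ∀ i, i < 114600 → P i := stepQ 114599 Q114599 (allL N114599 (tt N86141 F490950) (tt N86140 F490951) (tt N86142 F490945) (tt N101366 F490946) (tt N85885 F490949) (tt N85317 (iv5 D217856)) (tt N86122 F490947) (tt N85882 F490948))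
theorem Q114601 : ∀ i, i < 114601 → P i := stepQ 114600 Q114600 (allL N114600 (tt N117432 (iv1 F505006)) (tt N86495 F490956) (tt N86560 F490952) (tt N111733 F490953) (tt N85318 (iv4 D217857)) (tt N86151 F490954) (tt N86559 F490955) (tt N118061 (iv7 F508362)))
theorem Q114602 : ∀ i, i < 114602 → P i := stepQ 114601 Q114601 (allL N114601 (tt N109083 (iv1 F490958)) (tt N85319 (iv0 D217858)) (tt N115040 (iv2 F493168)) (tt N98240 F490960) (tt N118346 (iv4 F509825)) (tt N98196 F490957) (tt N104167 (iv6 F490959)) (tt N115041 (iv7 F493177)))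
theorem Q114603 : ∀ i, i < 114603 → P i := stepQ 114602 Q114602 (allL N114602 (tt N114575 F490963) (tt N114574 F490962) (tt N114752 F491671) (tt N120450 (iv3 F520846)) (tt N96577 F490964) (tt N85319 (iv5 D217859)) (tt N115171 (iv6 F493836)) (tt N86211 F490961))
theorem Q114604 : ∀ i, i < 114604 → P i := stepQ 114603 Q114603 (allL N114603 (tt N104344 F490970) (tt N104343 (iv0 F490971)) (tt N86512 F490967) (tt N85322 (iv3 D217860)) (tt N93049 F490968) (tt N122342 (iv5 F531529)) (tt N85324 F490969) (tt N104337 F490972))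
theorem Q114605 : ∀ i, i < 114605 → P i := stepQ 114604 Q114604 (allL N114604 (tt N86699 F490976) (tt N86455 (iv0 F490977)) (tt N86563 F490973) (tt N122342 (iv3 F531528)) (tt N86149 F490975) (tt N85322 (iv5 D217861)) (tt N114512 F490974) (tt N86565 (iv7 F490978)))
theorem Q114606 : ∀ i, i < 114606 → P i := stepQ 114605 Q114605 (allL N114605 (tt N86618 (iv1 F490984)) (tt N86615 F490985) (tt N86515 F490979) (tt N104337 F490980) (tt N85323 F490981) (tt N86565 F490982) (tt N86625 F490983) (tt N85322 (iv7 D217862)))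
theorem Q114607 : ∀ i, i < 114607 → P i := stepQ 114606 Q114606 (allL N114606 (tt N86621 (iv1 F490987)) (tt N85324 (iv0 D217863)) (tt N86620 F490998) (tt N115177 (iv3 F493871)) (tt N93216 F490986) (tt N115159 (iv5 F493779)) (tt N104343 F490989) (tt N86619 (iv7 F490988)))
theorem Q114608 : ∀ i, i < 114608 → P i := stepQ 114607 Q114607 (allL N114607 (tt N85324 (iv1 D217864)) (tt N86621 F490995) (tt N86619 (iv2 F490996)) (tt N115327 (iv3 F494608)) (tt N115716 (iv4 F496476)) (tt N115160 (iv5 F493787)) (tt N115175 (iv6 F493860)) (tt N86620 (iv7 F490997)))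
theorem Q114609 : ∀ i, i < 114609 → P i := stepQ 114608 Q114608 (allL N114608 (tt N86620 (iv1 F490999)) (tt N86619 F490994) (tt N85324 (iv2 D217865)) (tt N86514 F490990) (tt N88325 F490991) (tt N115168 (iv5 F493821)) (tt N86512 F490992) (tt N86621 F490993))
theorem Q114610 : ∀ i, i < 114610 → P i := stepQ 114609 Q114609 (allL N114609 (tt N114528 F491005) (tt N89778 (iv0 F491006)) (tt N114525 F491001) (tt N85364 F491002) (tt N85330 (iv4 D217866)) (tt N121671 (iv5 F527650)) (tt N93329 F491003) (tt N114526 F491004))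
theorem Q114611 : ∀ i, i < 114611 → P i := stepQ 114610 Q114610 (allL N114610 (tt N116267 F499280) (tt N119961 (iv0 F518276)) (tt N121482 (iv2 F526616)) (tt N121575 (iv3 F527114)) (tt N121521 (iv4 F526834)) (tt N85330 (iv5 D217867)) (tt N116135 (iv6 F498666)) (tt N117391 (iv7 F504795)))
theorem Q114612 : ∀ i, i < 114612 → P i := stepQ 114611 Q114611 (allL N114611 (tt N89778 F491011) (tt N114528 (iv0 F491013)) (tt N114526 F491007) (tt N93896 F491008) (tt N85331 (iv4 D217868)) (tt N120541 (iv5 F521350)) (tt N93895 F491009) (tt N114525 F491010))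
theorem Q114613 : ∀ i, i < 114613 → P i := stepQ 114612 Q114612 (allL N114612 (tt N119961 (iv1 F518277)) (tt N116267 (iv0 F499279)) (tt N117391 (iv2 F504792)) (tt N106210 F491014) (tt N121522 (iv4 F526839)) (tt N85331 (iv5 D217869)) (tt N88571 F491015) (tt N121482 (iv7 F526619)))
theorem Q114614 : ∀ i, i < 114614 → P i := stepQ 114613 Q114613 (allL N114613 (tt N90189 F491021) (tt N90188 F491022) (tt N89486 F491016) (tt N91466 F491017) (tt N85333 (iv4 D217870)) (tt N113515 F491020) (tt N98885 F491018) (tt N89332 F491019))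
theorem Q114615 : ∀ i, i < 114615 → P i := stepQ 114614 Q114614 (allL N114614 (tt N122428 D225687) (tt N122046 (iv0 F529834)) (tt N85338 F491023) (tt N89510 F491024) (tt N121540 F526931) (tt N122328 (iv5 F531449)) (tt N85334 (iv6 D217871)) (tt N122429 D225688))
theorem Q114616 : ∀ i, i < 114616 → P i := stepQ 114615 Q114615 (allL N114615 (tt N112687 (iv1 F491029)) (tt N112686 F491030) (tt N89492 F491025) (tt N119091 F513746) (tt N110926 F491026) (tt N89345 F491027) (tt N85335 (iv6 D217872)) (tt N110923 F491028))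
theorem Q114617 : ∀ i, i < 114617 → P i := stepQ 114616 Q114616 (allL N114616 (tt N107661 F491033) (tt N113522 F491034) (tt N116948 F502652) (tt N121885 (iv3 F528900)) (tt N113516 F491032) (tt N85337 (iv5 D217873)) (tt N120953 (iv6 F523668)) (tt N89494 F491031))
theorem Q114618 : ∀ i, i < 114618 → P i := stepQ 114617 Q114617 (allL N114617 (tt N99276 F491038) (tt N119735 (iv0 F517166)) (tt N121540 (iv2 F526933)) (tt N94982 F491035) (tt N85338 F491036) (tt N121514 (iv5 F526793)) (tt N85337 (iv6 D217874)) (tt N99166 F491037))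
theorem Q114619 : ∀ i, i < 114619 → P i := stepQ 114618 Q114618 (allL N114618 (tt N122429 (iv1 F532052)) (tt N85338 (iv0 D217875)) (tt N122428 F532044) (tt N108402 F499874) (tt N120224 (iv4 F519685)) (tt N122430 D225689) (tt N120527 (iv6 F521267)) (tt N122046 (iv7 F529833)))
theorem Q114620 : ∀ i, i < 114620 → P i := stepQ 114619 Q114619 (allL N114619 (tt N85338 (iv1 D217876)) (tt N122429 F532051) (tt N122046 (iv2 F529829)) (tt N113295 (iv3 F500819)) (tt N120225 F519692) (tt N122431 D225690) (tt N89427 (iv6 F491039)) (tt N122428 (iv7 F532045)))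
theorem Q114621 : ∀ i, i < 114621 → P i := stepQ 114620 Q114620 (allL N114620 (tt N122046 F529835) (tt N122428 F532046) (tt N122429 (iv2 F532047)) (tt N85343 F491040) (tt N99166 F491041) (tt N122380 (iv5 F531754)) (tt N89498 F491042) (tt N85338 (iv7 D217877)))
theorem Q114622 : ∀ i, i < 114622 → P i := stepQ 114621 Q114621 (allL N114621 (tt N107311 F491048) (tt N116173 F498867) (tt N88485 F491043) (tt N107475 F491044) (tt N88477 F491045) (tt N85341 (iv5 D217878)) (tt N112063 F491046) (tt N89413 F491047))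
theorem Q114623 : ∀ i, i < 114623 → P i := stepQ 114622 Q114622 (allL N114622 (tt N96709 F491051) (tt N96676 (iv0 F491052)) (tt N105231 (iv2 F491055)) (tt N85348 (iv3 D217879)) (tt N86116 F491049) (tt N101432 F491053) (tt N94915 F491054) (tt N89315 F491050))
theorem Q114624 : ∀ i, i < 114624 → P i := stepQ 114623 Q114623 (allL N114623 (tt N121778 (iv1 F528267)) (tt N120954 (iv0 F523677)) (tt N116949 (iv2 F502654)) (tt N101432 F491056) (tt N107661 F491057) (tt N85348 (iv5 D217880)) (tt N121175 (iv6 F524947)) (tt N112623 F491058))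
theorem Q114625 : ∀ i, i < 114625 → P i := stepQ 114624 Q114624 (allL N114624 (tt N116314 (iv1 F499514)) (tt N100016 F491063) (tt N116313 (iv2 F499509)) (tt N94915 F491059) (tt N85349 F491060) (tt N96594 (iv5 F491062)) (tt N85348 (iv6 D217881)) (tt N100331 F491061))
theorem Q114626 : ∀ i, i < 114626 → P i := stepQ 114625 Q114625 (allL N114625 (tt N89802 F491069) (tt N113517 F491070) (tt N85358 F491064) (tt N113481 F491065) (tt N89494 F491068) (tt N85350 (iv5 D217882)) (tt N109205 F491066) (tt N113516 F491067))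
theorem Q114627 : ∀ i, i < 114627 → P i := stepQ 114626 Q114626 (allL N114626 (tt N111324 F491077) (tt N117066 (iv0 F503208)) (tt N114426 F491072) (tt N85353 F491073) (tt N114034 F491074) (tt N99810 F491075) (tt N85351 (iv6 D217883)) (tt N114427 F491076))
theorem Q114628 : ∀ i, i < 114628 → P i := stepQ 114627 Q114627 (allL N114627 (tt N101369 F491081) (tt N90834 F491082) (tt N101430 F491078) (tt N85352 (iv3 D217884)) (tt N114491 F491079) (tt N114266 (iv5 F491083)) (tt N114652 (iv6 F491212)) (tt N107318 F491080))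
theorem Q114629 : ∀ i, i < 114629 → P i := stepQ 114628 Q114628 (allL N114628 (tt N122414 (iv1 F531967)) (tt N122432 D225691) (tt N115045 (iv2 F493197)) (tt N114266 F491084) (tt N110793 F491085) (tt N85352 (iv5 D217885)) (tt N110794 (iv6 F491086)) (tt N116794 (iv7 F501875)))
theorem Q114630 : ∀ i, i < 114630 → P i := stepQ 114629 Q114629 (allL N114629 (tt N97956 (iv1 F491092)) (tt N105680 (iv0 F491091)) (tt N107368 F491087) (tt N114652 F491210) (tt N85353 F491088) (tt N106214 F491090) (tt N85352 (iv6 D217886)) (tt N107361 F491089))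
theorem Q114631 : ∀ i, i < 114631 → P i := stepQ 114630 Q114630 (allL N114630 (tt N122432 (iv1 F532063)) (tt N122414 (iv0 F531966)) (tt N116794 (iv2 F501872)) (tt N95015 F491093) (tt N116672 (iv4 F501243)) (tt N85354 (iv5 D217887)) (tt N95011 F491094) (tt N115045 (iv7 F493199)))
theorem Q114632 : ∀ i, i < 114632 → P i := stepQ 114631 Q114631 (allL N114631 (tt N106330 F491099) (tt N113463 F491100) (tt N113447 F491095) (tt N100291 F491096) (tt N110921 F491098) (tt N85355 (iv5 D217888)) (tt N110922 (iv6 F491101)) (tt N109885 F491097))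
theorem Q114633 : ∀ i, i < 114633 → P i := stepQ 114632 Q114632 (allL N114632 (tt N105676 F491106) (tt N105674 (iv0 F491107)) (tt N106393 F491102) (tt N100290 F491103) (tt N104059 F491104) (tt N117179 (iv5 F503782)) (tt N85355 (iv6 D217889)) (tt N106394 F491105))
theorem Q114634 : ∀ i, i < 114634 → P i := stepQ 114633 Q114633 (allL N114633 (tt N113463 F491110) (tt N106330 F491111) (tt N109885 F491108) (tt N116779 (iv3 F501793)) (tt N120218 (iv4 F519658)) (tt N85356 (iv5 D217890)) (tt N113341 F491112) (tt N113447 F491109))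
theorem Q114635 : ∀ i, i < 114635 → P i := stepQ 114634 Q114634 (allL N114634 (tt N85357 (iv1 D217891)) (tt N113465 F491113) (tt N107452 F491118) (tt N117402 F504849) (tt N97833 F491116) (tt N110247 F491115) (tt N107450 (iv6 F491117)) (tt N112924 F491114))
theorem Q114636 : ∀ i, i < 114636 → P i := stepQ 114635 Q114635 (allL N114635 (tt N85358 (iv1 D217892)) (tt N113516 F491119) (tt N113517 F491124) (tt N89813 (iv3 F491122)) (tt N120221 (iv4 F519672)) (tt N89803 F491121) (tt N113520 (iv6 F491123)) (tt N89802 F491120))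
theorem Q114637 : ∀ i, i < 114637 → P i := stepQ 114636 Q114636 (allL N114636 (tt N113522 F491127) (tt N107661 F491128) (tt N89494 F491125) (tt N109994 (iv3 F491129)) (tt N85358 (iv4 D217893)) (tt N89487 F491126) (tt N120719 (iv6 F522333)) (tt N116948 (iv7 F502649)))
theorem Q114638 : ∀ i, i < 114638 → P i := stepQ 114637 Q114637 (allL N114637 (tt N117384 F504770) (tt N113542 (iv0 F491134)) (tt N109205 F491130) (tt N113370 F491131) (tt N120719 (iv4 F522332)) (tt N99770 F491132) (tt N85358 (iv6 D217894)) (tt N109206 F491133))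
theorem Q114639 : ∀ i, i < 114639 → P i := stepQ 114638 Q114638 (allL N114638 (tt N115541 (iv1 F495706)) (tt N101553 (iv0 F491137)) (tt N115652 (iv2 F496155)) (tt N114802 (iv3 F491947)) (tt N113832 F491135) (tt N85363 F491136) (tt N118736 F511811) (tt N85362 (iv7 D217895)))
theorem Q114640 : ∀ i, i < 114640 → P i := stepQ 114639 Q114639 (allL N114639 (tt N87268 F491142) (tt N87246 F491143) (tt N113834 F491138) (tt N121671 F527652) (tt N112061 F491141) (tt N85364 (iv5 D217896)) (tt N93334 F491139) (tt N113898 F491140))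
theorem Q114641 : ∀ i, i < 114641 → P i := stepQ 114640 Q114640 (allL N114640 (tt N87246 F491148) (tt N87268 F491147) (tt N113898 F491144) (tt N118615 (iv3 F511173)) (tt N113710 F491145) (tt N85366 (iv5 D217897)) (tt N118613 F511164) (tt N113834 F491146))
theorem Q114642 : ∀ i, i < 114642 → P i := stepQ 114641 Q114641 (allL N114641 (tt N89682 (iv1 F491152)) (tt N85372 (iv0 D217898)) (tt N90070 (iv2 F491153)) (tt N114288 F491151) (tt N89131 F491150) (tt N89710 F491149) (tt N99541 (iv6 F491154)) (tt N113309 (iv7 F491155)))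
theorem Q114643 : ∀ i, i < 114643 → P i := stepQ 114642 Q114642 (allL N114642 (tt N85372 (iv1 D217899)) (tt N89682 F491156) (tt N113309 (iv2 F491162)) (tt N99780 F491161) (tt N89132 F491158) (tt N89711 F491159) (tt N108077 (iv6 F491160)) (tt N90070 F491157))
theorem Q114644 : ∀ i, i < 114644 → P i := stepQ 114643 Q114643 (allL N114643 (tt N116723 (iv1 F501508)) (tt N116721 (iv0 F501497)) (tt N116744 F501603) (tt N121125 (iv3 F524641)) (tt N114538 F491163) (tt N85372 (iv5 D217900)) (tt N119627 (iv6 F516588)) (tt N116745 (iv7 F501607)))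
theorem Q114645 : ∀ i, i < 114645 → P i := stepQ 114644 Q114644 (allL N114644 (tt N118446 F510407) (tt N106195 F491169) (tt N105558 F491164) (tt N85558 F491165) (tt N85373 F491166) (tt N104967 (iv5 F491168)) (tt N85372 (iv6 D217901)) (tt N105701 F491167))
theorem Q114646 : ∀ i, i < 114646 → P i := stepQ 114645 Q114645 (allL N114645 (tt N90683 F491173) (tt N100127 F491175) (tt N89093 F491170) (tt N89909 F491171) (tt N90963 F491174) (tt N85379 (iv5 D217902)) (tt N90651 (iv6 F491176)) (tt N89089 F491172))
theorem Q114647 : ∀ i, i < 114647 → P i := stepQ 114646 Q114646 (allL N114646 (tt N113090 F491180) (tt N113244 F491181) (tt N89095 F491177) (tt N121190 F525044) (tt N85380 (iv4 D217903)) (tt N90799 F491179) (tt N119547 (iv6 F516179)) (tt N89090 F491178))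
theorem Q114648 : ∀ i, i < 114648 → P i := stepQ 114647 Q114647 (allL N114647 (tt N113244 F491186) (tt N113090 F491187) (tt N89090 F491182) (tt N100178 F491183) (tt N85382 (iv4 D217904)) (tt N90800 F491184) (tt N122364 (iv6 F531655)) (tt N89095 F491185))
theorem Q114649 : ∀ i, i < 114649 → P i := stepQ 114648 Q114648 (allL N114648 (tt N113218 F491192) (tt N90802 F491193) (tt N89099 F491188) (tt N88955 F491189) (tt N85384 (iv4 D217905)) (tt N115433 (iv5 F495172)) (tt N87638 F491190) (tt N89097 F491191))
theorem Q114650 : ∀ i, i < 114650 → P i := stepQ 114649 Q114649 (allL N114649 (tt N119954 F518234) (tt N119957 F518252) (tt N85391 F491194) (tt N90072 F491195) (tt N109220 F491196) (tt N117188 (iv5 F503828)) (tt N85389 (iv6 D217906)) (tt N104522 F491197))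
theorem Q114651 : ∀ i, i < 114651 → P i := stepQ 114650 Q114650 (allL N114650 (tt N90792 F491201) (tt N85475 F491202) (tt N122290 (iv2 F531215)) (tt N101457 F491198) (tt N91009 F491200) (tt N85390 (iv5 D217907)) (tt N107201 F491203) (tt N101452 F491199))
theorem Q114652 : ∀ i, i < 114652 → P i := stepQ 114651 Q114651 (allL N114651 (tt N116813 (iv1 F501976)) (tt N115068 (iv0 F493330)) (tt N109220 F491204) (tt N99505 F491205) (tt N85391 F491206) (tt N99504 F491207) (tt N85390 (iv6 D217908)) (tt N99527 F491208))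
theorem Q114653 : ∀ i, i < 114653 → P i := stepQ 114652 Q114652 (allL N114652 (tt N85391 (iv1 D217909)) (tt N104522 F491209) (tt N119957 (iv2 F518247)) (tt N114629 (iv3 F491210)) (tt N90751 (iv4 F491211)) (tt N117629 (iv5 F506081)) (tt N114627 F491212) (tt N119954 (iv7 F518231)))
theorem Q114654 : ∀ i, i < 114654 → P i := stepQ 114653 Q114653 (allL N114653 (tt N119957 (iv1 F518253)) (tt N119954 (iv0 F518232)) (tt N104522 F491213) (tt N85394 F491214) (tt N99527 F491215) (tt N120438 (iv5 F520786)) (tt N90702 F491216) (tt N85391 (iv7 D217910)))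
theorem Q114655 : ∀ i, i < 114655 → P i := stepQ 114654 Q114654 (allL N114654 (tt N111274 F491220) (tt N89840 F491222) (tt N110178 F491217) (tt N85392 (iv3 D217911)) (tt N101245 F491218) (tt N110177 (iv5 F491221)) (tt N121412 (iv6 F526216)) (tt N111282 F491219))
theorem Q114656 : ∀ i, i < 114656 → P i := stepQ 114655 Q114655 (allL N114655 (tt N122279 (iv1 F531139)) (tt N122278 F531136) (tt N110075 F491223) (tt N110177 F491224) (tt N116134 (iv4 F498661)) (tt N85392 (iv5 D217912)) (tt N116133 (iv6 F498658)) (tt N117222 (iv7 F503978)))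
theorem Q114657 : ∀ i, i < 114657 → P i := stepQ 114656 Q114656 (allL N114656 (tt N90117 F491229) (tt N89850 (iv0 F491228)) (tt N114790 (iv2 F491874)) (tt N110189 F491225) (tt N112201 F491226) (tt N113426 F491227) (tt N85393 (iv6 D217913)) (tt N117137 (iv7 F503581)))
theorem Q114658 : ∀ i, i < 114658 → P i := stepQ 114657 Q114657 (allL N114657 (tt N95203 F491234) (tt N95223 (iv0 F491236)) (tt N95225 F491235) (tt N85398 (iv3 D217914)) (tt N95054 F491230) (tt N102088 F491231) (tt N95195 F491232) (tt N95155 F491233))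
theorem Q114659 : ∀ i, i < 114659 → P i := stepQ 114658 Q114658 (allL N114658 (tt N118932 (iv1 F512820)) (tt N94751 (iv0 F491240)) (tt N119567 (iv2 F516301)) (tt N85399 (iv3 D217915)) (tt N99889 F491237) (tt N115437 (iv5 F495195)) (tt N107695 F491238) (tt N95156 F491239))
theorem Q114660 : ∀ i, i < 114660 → P i := stepQ 114659 Q114659 (allL N114659 (tt N85404 (iv1 D217916)) (tt N90076 F491241) (tt N90077 F491247) (tt N113308 (iv3 F491244)) (tt N103603 (iv4 F491246)) (tt N85591 F491243) (tt N90084 (iv6 F491245)) (tt N90034 F491242))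
theorem Q114661 : ∀ i, i < 114661 → P i := stepQ 114660 Q114660 (allL N114660 (tt N103726 F491252) (tt N103532 F491253) (tt N119071 (iv2 F513628)) (tt N94955 F491248) (tt N85404 (iv4 D217917)) (tt N102839 F491251) (tt N107435 F491249) (tt N106409 F491250))
theorem Q114662 : ∀ i, i < 114662 → P i := stepQ 114661 Q114661 (allL N114661 (tt N107298 F491258) (tt N107308 F491260) (tt N107296 F491254) (tt N94800 F491255) (tt N85407 F491256) (tt N90017 (iv5 F491259)) (tt N85405 (iv6 D217918)) (tt N107306 F491257))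
theorem Q114663 : ∀ i, i < 114663 → P i := stepQ 114662 Q114662 (allL N114662 (tt N115325 (iv1 F494601)) (tt N115172 (iv0 F493845)) (tt N93189 F491261) (tt N104085 F491262) (tt N115329 (iv4 F494620)) (tt N85409 (iv5 D217919)) (tt N93187 F491263) (tt N113636 F491264))
theorem Q114664 : ∀ i, i < 114664 → P i := stepQ 114663 Q114663 (allL N114663 (tt N85413 (iv1 D217920)) (tt N85415 F491265) (tt N88870 (iv2 F491268)) (tt N116869 (iv3 F502267)) (tt N114498 F491267) (tt N116320 (iv5 F499540)) (tt N116895 (iv6 F502397)) (tt N88871 F491266))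
theorem Q114665 : ∀ i, i < 114665 → P i := stepQ 114664 Q114664 (allL N114664 (tt N107489 F491271) (tt N116304 (iv0 F499460)) (tt N88879 F491269) (tt N116926 (iv3 F502532)) (tt N85414 F491270) (tt N121693 (iv5 F527785)) (tt N85413 (iv6 D217921)) (tt N121692 (iv7 F527779)))
theorem Q114666 : ∀ i, i < 114666 → P i := stepQ 114665 Q114665 (allL N114665 (tt N119169 F514167) (tt N122364 (iv0 F531657)) (tt N112909 F491272) (tt N85420 F491273) (tt N113249 F491274) (tt N89681 F491275) (tt N85418 (iv6 D217922)) (tt N108367 F491276))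
theorem Q114667 : ∀ i, i < 114667 → P i := stepQ 114666 Q114666 (allL N114666 (tt N85421 (iv1 F491281)) (tt N85419 (iv0 D217923)) (tt N88883 (iv2 F491280)) (tt N101045 (iv3 F491283)) (tt N85564 F491278) (tt N105838 F491277) (tt N101043 F491279) (tt N88882 F491282))
theorem Q114668 : ∀ i, i < 114668 → P i := stepQ 114667 Q114667 (allL N114667 (tt N113863 F491289) (tt N116312 (iv0 F499504)) (tt N88885 F491284) (tt N105455 F491285) (tt N111327 F491286) (tt N85421 (iv5 D217924)) (tt N105454 F491287) (tt N88890 F491288))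
theorem Q114669 : ∀ i, i < 114669 → P i := stepQ 114668 Q114668 (allL N114668 (tt N109451 F491292) (tt N118012 F508083) (tt N118010 F508072) (tt N85427 F491290) (tt N111174 F491291) (tt N114400 F491293) (tt N85425 (iv6 D217925)) (tt N118011 (iv7 F508074)))
theorem Q114670 : ∀ i, i < 114670 → P i := stepQ 114669 Q114669 (allL N114669 (tt N88730 F491297) (tt N88647 (iv0 F491298)) (tt N103289 F491294) (tt N121251 (iv3 F525377)) (tt N104434 F491295) (tt N112984 F491296) (tt N85426 (iv6 D217926)) (tt N116510 (iv7 F500532)))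
theorem Q114671 : ∀ i, i < 114671 → P i := stepQ 114670 Q114670 (allL N114670 (tt N85427 (iv1 D217927)) (tt N114399 F491299) (tt N114777 (iv2 F491797)) (tt N89652 (iv3 F491302)) (tt N113858 F491301) (tt N114690 F491377) (tt N88929 (iv6 F491303)) (tt N88969 F491300))
theorem Q114672 : ∀ i, i < 114672 → P i := stepQ 114671 Q114671 (allL N114671 (tt N114777 (iv1 F491803)) (tt N88969 (iv0 F491307)) (tt N114399 F491304) (tt N118011 F508077) (tt N88926 F491305) (tt N85447 F491306) (tt N115082 (iv6 F493397)) (tt N85427 (iv7 D217928)))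
theorem Q114673 : ∀ i, i < 114673 → P i := stepQ 114672 Q114672 (allL N114672 (tt N88949 (iv1 F491309)) (tt N115075 F493359) (tt N85428 (iv2 D217929)) (tt N115079 (iv3 F493379)) (tt N120453 (iv4 F520865)) (tt N105491 F491308) (tt N121296 (iv6 F525611)) (tt N115076 (iv7 F493364)))
theorem Q114674 : ∀ i, i < 114674 → P i := stepQ 114673 Q114673 (allL N114673 (tt N117309 F504396) (tt N117311 (iv0 F504408)) (tt N121296 F525612) (tt N85430 F491310) (tt N120574 (iv4 F521530)) (tt N118403 (iv5 F510164)) (tt N85428 (iv6 D217930)) (tt N121297 (iv7 F525613)))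
theorem Q114675 : ∀ i, i < 114675 → P i := stepQ 114674 Q114674 (allL N114674 (tt N113747 F491313) (tt N106470 F491314) (tt N106697 F491311) (tt N118403 (iv3 F510162)) (tt N90574 F491315) (tt N85430 (iv5 D217931)) (tt N105994 F491312) (tt N114039 (iv7 F491316)))
theorem Q114676 : ∀ i, i < 114676 → P i := stepQ 114675 Q114675 (allL N114675 (tt N88979 (iv1 F491320)) (tt N115081 F493394) (tt N115082 (iv2 F493395)) (tt N121297 F525614) (tt N88931 F491317) (tt N114039 F491318) (tt N114399 F491319) (tt N85430 (iv7 D217932)))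
theorem Q114677 : ∀ i, i < 114677 → P i := stepQ 114676 Q114676 (allL N114676 (tt N99414 F491325) (tt N107483 F491326) (tt N107482 F491321) (tt N95913 F491322) (tt N92596 F491323) (tt N105080 F491324) (tt N85436 (iv6 D217933)) (tt N95995 F491327))
theorem Q114678 : ∀ i, i < 114678 → P i := stepQ 114677 Q114677 (allL N114677 (tt N115099 F499402) (tt N101781 (iv0 F491329)) (tt N101483 F491328) (tt N116403 (iv3 F499915)) (tt N116291 (iv4 F499399)) (tt N121621 (iv5 F527377)) (tt N85437 (iv6 D217934)) (tt N116730 (iv7 F501537)))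
theorem Q114679 : ∀ i, i < 114679 → P i := stepQ 114678 Q114678 (allL N114678 (tt N116420 F500012) (tt N115734 (iv0 F496579)) (tt N119608 (iv2 F516486)) (tt N85438 (iv3 D217935)) (tt N89145 F491330) (tt N122433 D225692) (tt N106364 F491331) (tt N116741 (iv7 F501588)))
theorem Q114680 : ∀ i, i < 114680 → P i := stepQ 114679 Q114679 (allL N114679 (tt N112777 F491334) (tt N114496 F491335) (tt N116305 (iv2 F499462)) (tt N122433 (iv3 F532070)) (tt N113600 F491333) (tt N85438 (iv5 D217936)) (tt N112539 F491332) (tt N116739 (iv7 F501577)))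
theorem Q114681 : ∀ i, i < 114681 → P i := stepQ 114680 Q114680 (allL N114680 (tt N114496 F491338) (tt N112777 F491339) (tt N116739 F501575) (tt N113026 F491336) (tt N114424 F491337) (tt N85439 (iv5 D217937)) (tt N113025 (iv6 F491340)) (tt N116305 (iv7 F499465)))
theorem Q114682 : ∀ i, i < 114682 → P i := stepQ 114681 Q114681 (allL N114681 (tt N112770 (iv1 F491343)) (tt N85440 (iv0 D217938)) (tt N116298 F499430) (tt N114745 (iv3 F491629)) (tt N122415 (iv4 F531969)) (tt N89684 F491342) (tt N122378 (iv6 F531742)) (tt N114743 F491622))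
theorem Q114683 : ∀ i, i < 114683 → P i := stepQ 114682 Q114682 (allL N114682 (tt N113776 (iv1 F491346)) (tt N85441 (iv0 D217939)) (tt N106380 F491348) (tt N119604 (iv3 F516472)) (tt N113363 F491345) (tt N106368 F491344) (tt N106491 (iv6 F491347)) (tt N116174 (iv7 F498874)))
theorem Q114684 : ∀ i, i < 114684 → P i := stepQ 114683 Q114683 (allL N114683 (tt N85441 (iv1 D217940)) (tt N113776 F491349) (tt N116174 F498872) (tt N116294 (iv3 F499416)) (tt N110089 F491351) (tt N106381 F491352) (tt N110094 (iv6 F491353)) (tt N106380 F491350))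
theorem Q114685 : ∀ i, i < 114685 → P i := stepQ 114684 Q114684 (allL N114684 (tt N105990 F491357) (tt N106402 (iv0 F491358)) (tt N106400 (iv2 F491359)) (tt N85441 (iv3 D217941)) (tt N85451 F491354) (tt N120479 (iv5 F520991)) (tt N114536 F491355) (tt N106399 F491356))
theorem Q114686 : ∀ i, i < 114686 → P i := stepQ 114685 Q114685 (allL N114685 (tt N120383 (iv1 F520493)) (tt N120382 F520491) (tt N111280 F491360) (tt N120479 (iv3 F520990)) (tt N111271 F491361) (tt N85441 (iv5 D217942)) (tt N114540 F491362) (tt N111279 F491363))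
theorem Q114687 : ∀ i, i < 114687 → P i := stepQ 114686 Q114686 (allL N114686 (tt N112748 (iv1 F491367)) (tt N85709 F491366) (tt N85442 (iv2 D217943)) (tt N109783 F491364) (tt N120927 (iv4 F523525)) (tt N121912 (iv5 F529025)) (tt N109493 F491365) (tt N115135 (iv7 F493655)))
theorem Q114688 : ∀ i, i < 114688 → P i := stepQ 114687 Q114687 (allL N114687 (tt N90087 F491369) (tt N115001 (iv0 F492996)) (tt N120927 (iv2 F523523)) (tt N114891 (iv3 F492373)) (tt N85442 (iv4 D217944)) (tt N119538 (iv5 F516129)) (tt N103746 F491368) (tt N115136 (iv7 F493661)))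
theorem Q114689 : ∀ i, i < 114689 → P i := stepQ 114688 Q114688 (allL N114688 (tt N121795 (iv1 F528367)) (tt N122322 F531415) (tt N121912 (iv2 F529022)) (tt N85443 F491370) (tt N121125 (iv4 F524642)) (tt N85442 (iv5 D217945)) (tt N113749 F491371) (tt N115137 (iv7 F493666)))
theorem Q114690 : ∀ i, i < 114690 → P i := stepQ 114689 Q114689 (allL N114689 (tt N85445 (iv1 F491373)) (tt N85443 (iv0 D217946)) (tt N115133 F493646) (tt N112740 (iv3 F491374)) (tt N122138 (iv4 F530384)) (tt N85595 F491372) (tt N117299 (iv6 F504353)) (tt N112779 F491375))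
theorem Q114691 : ∀ i, i < 114691 → P i := stepQ 114690 Q114690 (allL N114690 (tt N85443 (iv1 D217947)) (tt N85445 F491376) (tt N112779 (iv2 F491380)) (tt N114496 F491378) (tt N122136 (iv4 F530373)) (tt N114670 (iv5 F491377)) (tt N89536 F491379) (tt N115133 (iv7 F493648)))
theorem Q114692 : ∀ i, i < 114692 → P i := stepQ 114691 Q114691 (allL N114691 (tt N122434 D225693) (tt N122435 D225694) (tt N115134 (iv2 F493650)) (tt N114538 F491382) (tt N85443 (iv4 D217948)) (tt N121483 (iv5 F526625)) (tt N92667 F491381) (tt N115139 (iv7 F493677)))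
theorem Q114693 : ∀ i, i < 114693 → P i := stepQ 114692 Q114692 (allL N114692 (tt N85444 (iv1 D217949)) (tt N109783 (iv0 F491387)) (tt N89625 (iv2 F491384)) (tt N116420 (iv3 F500008)) (tt N89633 F491386) (tt N122376 (iv5 F531726)) (tt N110493 (iv6 F491385)) (tt N113648 F491383))
theorem Q114694 : ∀ i, i < 114694 → P i := stepQ 114693 Q114693 (allL N114693 (tt N113648 (iv1 F491391)) (tt N89625 F491390) (tt N85444 (iv2 D217950)) (tt N115135 (iv3 F493654)) (tt N110217 F491388) (tt N122436 D225695) (tt N109864 (iv6 F491392)) (tt N109783 F491389))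
theorem Q114695 : ∀ i, i < 114695 → P i := stepQ 114694 Q114694 (allL N114694 (tt N122424 (iv1 F532025)) (tt N122437 D225696) (tt N122436 (iv2 F532089)) (tt N85445 F491393) (tt N121907 (iv4 F528997)) (tt N85444 (iv5 D217951)) (tt N121568 (iv6 F527077)) (tt N115132 (iv7 F493643)))
theorem Q114696 : ∀ i, i < 114696 → P i := stepQ 114695 Q114695 (allL N114695 (tt N96509 (iv1 F491398)) (tt N96511 F491399) (tt N109864 F491394) (tt N85446 F491395) (tt N119143 (iv4 F514013)) (tt N109809 (iv5 F491397)) (tt N85444 (iv6 D217952)) (tt N109785 F491396))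
theorem Q114697 : ∀ i, i < 114697 → P i := stepQ 114696 Q114696 (allL N114696 (tt N122435 (iv1 F532082)) (tt N122434 F532079) (tt N115139 (iv2 F493674)) (tt N122438 D225697) (tt N85445 (iv4 D217953)) (tt N120457 (iv5 F520891)) (tt N113965 F491400) (tt N115134 (iv7 F493652)))
theorem Q114698 : ∀ i, i < 114698 → P i := stepQ 114697 Q114697 (allL N114697 (tt N112976 F491403) (tt N116154 F498779) (tt N116166 F498833) (tt N85447 (iv3 D217954)) (tt N89708 F491401) (tt N118011 (iv5 F508076)) (tt N120130 (iv6 F519218)) (tt N114400 F491402))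
theorem Q114699 : ∀ i, i < 114699 → P i := stepQ 114698 Q114698 (allL N114698 (tt N113733 F491634) (tt N122376 (iv0 F531729)) (tt N122439 D225698) (tt N85448 (iv3 D217955)) (tt N122440 D225699) (tt N115078 (iv5 F493377)) (tt N113738 F491412) (tt N114397 F491404))
theorem Q114700 : ∀ i, i < 114700 → P i := stepQ 114699 Q114699 (allL N114699 (tt N88753 (iv1 F491411)) (tt N88754 (iv0 F491410)) (tt N112984 F491405) (tt N113738 (iv3 F491409)) (tt N112982 F491406) (tt N103289 F491407) (tt N85448 (iv6 D217956)) (tt N112989 F491408))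
theorem Q114701 : ∀ i, i < 114701 → P i := stepQ 114700 Q114700 (allL N114700 (tt N85449 (iv1 D217957)) (tt N113972 F491413) (tt N113973 (iv2 F491416)) (tt N116751 (iv3 F501634)) (tt N85523 F491415) (tt N113255 (iv5 F491418)) (tt N113993 (iv6 F491417)) (tt N113826 F491414))
theorem Q114702 : ∀ i, i < 114702 → P i := stepQ 114701 Q114701 (allL N114701 (tt N116750 F501631) (tt N122218 F530843) (tt N121099 (iv2 F524506)) (tt N85449 (iv3 D217958)) (tt N114536 F491419) (tt N99778 (iv5 F491421)) (tt N85451 F491420) (tt N122215 (iv7 F530827)))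
theorem Q114703 : ∀ i, i < 114703 → P i := stepQ 114702 Q114702 (allL N114702 (tt N114767 F491753) (tt N122441 D225700) (tt N105549 F491422) (tt N99778 F491423) (tt N117232 (iv4 F504031)) (tt N85449 (iv5 D217959)) (tt N105548 F491424) (tt N117231 F504028))
theorem Q114704 : ∀ i, i < 114704 → P i := stepQ 114703 Q114703 (allL N114703 (tt N113973 (iv1 F491428)) (tt N113826 F491429) (tt N113972 F491425) (tt N122215 (iv3 F530824)) (tt N85450 F491426) (tt N117231 (iv5 F504026)) (tt N113991 F491427) (tt N85449 (iv7 D217960)))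
theorem Q114705 : ∀ i, i < 114705 → P i := stepQ 114704 Q114704 (allL N114704 (tt N113989 (iv1 F491432)) (tt N85451 (iv0 D217961)) (tt N106206 (iv2 F491431)) (tt N121336 F525842) (tt N104524 F491430) (tt N117626 (iv5 F506068)) (tt N105947 (iv6 F491434)) (tt N113988 F491433))
theorem Q114706 : ∀ i, i < 114706 → P i := stepQ 114705 Q114705 (allL N114705 (tt N86604 F491438) (tt N87348 F491439) (tt N87107 F491435) (tt N85455 F491436) (tt N115490 (iv4 F495463)) (tt N85454 (iv5 D217962)) (tt N121074 F524377) (tt N89937 F491437))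
theorem Q114707 : ∀ i, i < 114707 → P i := stepQ 114706 Q114706 (allL N114706 (tt N87408 F491444) (tt N87368 F491445) (tt N90645 F491440) (tt N111486 F491441) (tt N115542 (iv4 F495707)) (tt N85456 (iv5 D217963)) (tt N112462 F491442) (tt N90644 F491443))
theorem Q114708 : ∀ i, i < 114708 → P i := stepQ 114707 Q114707 (allL N114707 (tt N97267 F491453) (tt N112413 F491454) (tt N85464 F491450) (tt N116077 (iv3 F498343)) (tt N95893 F491451) (tt N91926 F491452) (tt N85459 (iv6 D217964)) (tt N118111 (iv7 F508664)))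
theorem Q114709 : ∀ i, i < 114709 → P i := stepQ 114708 Q114708 (allL N114708 (tt N122290 (iv1 F531221)) (tt N101452 (iv0 F491460)) (tt N85475 F491455) (tt N90029 F491456) (tt N89260 F491459) (tt N85461 (iv5 D217965)) (tt N85462 F491457) (tt N90792 F491458))
theorem Q114710 : ∀ i, i < 114710 → P i := stepQ 114709 Q114709 (allL N114709 (tt N113513 F491463) (tt N85708 F491464) (tt N113536 F491461) (tt N116903 (iv3 F502430)) (tt N85467 (iv4 D217966)) (tt N121035 (iv5 F524140)) (tt N103501 F491465) (tt N113535 F491462))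
theorem Q114711 : ∀ i, i < 114711 → P i := stepQ 114710 Q114710 (allL N114710 (tt N105059 F491469) (tt N118669 (iv0 F511443)) (tt N116123 (iv2 F498591)) (tt N85469 F491466) (tt N103501 F491467) (tt N89954 F491468) (tt N85467 (iv6 D217967)) (tt N121028 (iv7 F524099)))
theorem Q114712 : ∀ i, i < 114712 → P i := stepQ 114711 Q114711 (allL N114711 (tt N85469 (iv1 D217968)) (tt N86329 F491470) (tt N85929 F491475) (tt N86339 (iv3 F491473)) (tt N113238 F491476) (tt N99525 F491472) (tt N94556 (iv6 F491474)) (tt N86330 F491471))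
theorem Q114713 : ∀ i, i < 114713 → P i := stepQ 114712 Q114712 (allL N114712 (tt N85929 (iv1 F491480)) (tt N86330 F491481) (tt N86329 F491477) (tt N121028 (iv3 F524102)) (tt N120428 (iv4 F520730)) (tt N89956 F491478) (tt N113846 F491479) (tt N85469 (iv7 D217969)))
theorem Q114714 : ∀ i, i < 114714 → P i := stepQ 114713 Q114713 (allL N114713 (tt N98100 F491484) (tt N98099 (iv0 F491485)) (tt N121438 (iv2 F526373)) (tt N120955 F523683) (tt N87639 F491482) (tt N110262 F491483) (tt N85470 (iv6 D217970)) (tt N121529 (iv7 F526877)))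
theorem Q114715 : ∀ i, i < 114715 → P i := stepQ 114714 Q114714 (allL N114714 (tt N86331 (iv1 F491490)) (tt N113238 (iv0 F491489)) (tt N113097 F491486) (tt N120382 (iv3 F520489)) (tt N88868 F491487) (tt N88578 F491488) (tt N85471 (iv6 D217971)) (tt N122244 (iv7 F530980)))
theorem Q114716 : ∀ i, i < 114716 → P i := stepQ 114715 Q114715 (allL N114715 (tt N85475 (iv1 D217972)) (tt N90792 F491491) (tt N101452 F491494) (tt N120889 (iv3 F523308)) (tt N116118 (iv4 F498564)) (tt N106191 F491492) (tt N90604 (iv6 F491493)) (tt N122290 (iv7 F531219)))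
theorem Q114717 : ∀ i, i < 114717 → P i := stepQ 114716 Q114716 (allL N114716 (tt N101452 (iv1 F491500)) (tt N122290 (iv0 F531220)) (tt N90792 F491495) (tt N85488 F491496) (tt N89261 F491497) (tt N85476 F491498) (tt N90812 F491499) (tt N85475 (iv7 D217973)))
theorem Q114718 : ∀ i, i < 114718 → P i := stepQ 114717 Q114717 (allL N114717 (tt N113468 F491505) (tt N113470 F491506) (tt N89465 F491501) (tt N120476 (iv3 F520972)) (tt N85479 (iv4 D217974)) (tt N89009 F491504) (tt N89010 F491502) (tt N90807 F491503))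
theorem Q114719 : ∀ i, i < 114719 → P i := stepQ 114718 Q114718 (allL N114718 (tt N107201 F491512) (tt N116807 (iv0 F501945)) (tt N106586 F491507) (tt N85480 (iv3 D217975)) (tt N85489 F491508) (tt N107319 F491509) (tt N90788 F491510) (tt N90610 F491511))
theorem Q114720 : ∀ i, i < 114720 → P i := stepQ 114719 Q114719 (allL N114719 (tt N85482 (iv1 D217976)) (tt N85483 F491513) (tt N90798 F491518) (tt N90795 (iv3 F491516)) (tt N116921 (iv4 F502505)) (tt N113858 F491515) (tt N88418 (iv6 F491517)) (tt N114346 F491514))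
theorem Q114721 : ∀ i, i < 114721 → P i := stepQ 114720 Q114720 (allL N114720 (tt N121842 F528644) (tt N111202 F491520) (tt N121923 (iv2 F529082)) (tt N107980 F491522) (tt N85483 (iv4 D217977)) (tt N107975 (iv5 F491521)) (tt N90849 F491519) (tt N122274 (iv7 F531111)))
theorem Q114722 : ∀ i, i < 114722 → P i := stepQ 114721 Q114721 (allL N114721 (tt N101430 (iv1 F491528)) (tt N107318 (iv0 F491527)) (tt N90834 F491523) (tt N91704 F491524) (tt N121156 (iv4 F524833)) (tt N85487 (iv5 D217978)) (tt N91703 F491525) (tt N101369 F491526))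
theorem Q114723 : ∀ i, i < 114723 → P i := stepQ 114722 Q114722 (allL N114722 (tt N94751 (iv1 F491536)) (tt N118932 (iv0 F512819)) (tt N95156 F491529) (tt N95225 F491530) (tt N85499 F491531) (tt N118696 (iv5 F511594)) (tt N85498 (iv6 D217979)) (tt N119567 (iv7 F516296)))
theorem Q114724 : ∀ i, i < 114724 → P i := stepQ 114723 Q114723 (allL N114723 (tt N85499 (iv1 D217980)) (tt N99889 F491532) (tt N85604 F491538) (tt N109214 (iv3 F491537)) (tt N95041 F491535) (tt N108071 F491534) (tt N114502 (iv6 F491539)) (tt N108292 F491533))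
theorem Q114725 : ∀ i, i < 114725 → P i := stepQ 114724 Q114724 (allL N114724 (tt N85604 (iv1 F491543)) (tt N108292 F491544) (tt N99889 F491540) (tt N119156 (iv3 F514094)) (tt N119567 (iv4 F516298)) (tt N99856 F491541) (tt N85591 F491542) (tt N85499 (iv7 D217981)))
theorem Q114726 : ∀ i, i < 114726 → P i := stepQ 114725 Q114725 (allL N114725 (tt N117175 F503765) (tt N121125 (iv0 F524645)) (tt N85513 F491545) (tt N113826 F491546) (tt N99779 F491548) (tt N85501 (iv5 D217982)) (tt N85503 F491547) (tt N116751 (iv7 F501635)))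
theorem Q114727 : ∀ i, i < 114727 → P i := stepQ 114726 Q114726 (allL N114726 (tt N118328 (iv1 F509729)) (tt N105628 (iv0 F491551)) (tt N117533 (iv2 F505559)) (tt N107703 F491549) (tt N85507 F491550) (tt N115073 F493351) (tt N85506 (iv6 D217983)) (tt N118330 (iv7 F509741)))
theorem Q114728 : ∀ i, i < 114728 → P i := stepQ 114727 Q114727 (allL N114727 (tt N113647 F491555) (tt N110495 F491556) (tt N113872 F491552) (tt N103089 F491553) (tt N85508 (iv4 D217984)) (tt N122070 (iv5 F529983)) (tt N120430 (iv6 F520745)) (tt N113868 F491554))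
theorem Q114729 : ∀ i, i < 114729 → P i := stepQ 114728 Q114728 (allL N114728 (tt N105370 F491560) (tt N86340 (iv0 F491561)) (tt N111027 F491557) (tt N114567 F491558) (tt N113075 F491559) (tt N120773 F522639) (tt N85510 (iv6 D217985)) (tt N118828 (iv7 F512289)))
theorem Q114730 : ∀ i, i < 114730 → P i := stepQ 114729 Q114729 (allL N114729 (tt N110443 F491566) (tt N114455 (iv0 F491567)) (tt N96515 F491563) (tt N85512 (iv3 D217986)) (tt N89631 F491564) (tt N122442 D225701) (tt N96506 F491565) (tt N115341 (iv7 F494686)))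
theorem Q114731 : ∀ i, i < 114731 → P i := stepQ 114730 Q114730 (allL N114730 (tt N116754 (iv1 F501645)) (tt N116753 F501644) (tt N116755 (iv2 F501651)) (tt N122442 (iv3 F532126)) (tt N122269 (iv4 F531081)) (tt N85512 (iv5 D217987)) (tt N106205 F491568) (tt N116752 (iv7 F501640)))
theorem Q114732 : ∀ i, i < 114732 → P i := stepQ 114731 Q114731 (allL N114731 (tt N85513 (iv1 D217988)) (tt N116751 (iv0 F501636)) (tt N121125 (iv2 F524640)) (tt N121144 (iv3 F524761)) (tt N121912 (iv4 F529024)) (tt N105704 (iv5 F491570)) (tt N106855 (iv6 F491569)) (tt N117175 (iv7 F503763)))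
theorem Q114733 : ∀ i, i < 114733 → P i := stepQ 114732 Q114732 (allL N114732 (tt N121197 F525084) (tt N120257 (iv0 F519854)) (tt N99779 F491571) (tt N114485 (iv3 F491574)) (tt N85513 (iv4 D217989)) (tt N99767 F491573) (tt N85517 F491572) (tt N122443 D225702))
theorem Q114734 : ∀ i, i < 114734 → P i := stepQ 114733 Q114733 (allL N114733 (tt N121125 (iv1 F524646)) (tt N117175 (iv0 F503764)) (tt N116751 (iv2 F501633)) (tt N85525 F491575) (tt N122443 (iv4 F532134)) (tt N85514 F491576) (tt N113981 F491577) (tt N85513 (iv7 D217990)))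
theorem Q114735 : ∀ i, i < 114735 → P i := stepQ 114734 Q114734 (allL N114734 (tt N113168 F491581) (tt N116290 F499396) (tt N113363 F491578) (tt N85516 (iv3 D217991)) (tt N106380 F491582) (tt N85812 F491579) (tt N110505 (iv6 F491583)) (tt N110089 F491580))
theorem Q114736 : ∀ i, i < 114736 → P i := stepQ 114735 Q114735 (allL N114735 (tt N89966 F491589) (tt N113942 F491590) (tt N113862 F491584) (tt N110505 F491585) (tt N113541 F491586) (tt N99790 F491587) (tt N85516 (iv6 D217992)) (tt N110104 F491588))
theorem Q114737 : ∀ i, i < 114737 → P i := stepQ 114736 Q114736 (allL N114736 (tt N85518 (iv1 D217993)) (tt N85520 F491591) (tt N117064 (iv2 F503197)) (tt N116754 F501647) (tt N122433 (iv4 F532071)) (tt N114761 (iv5 F491723)) (tt N89612 F491724) (tt N114783 (iv7 F491835)))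
theorem Q114738 : ∀ i, i < 114738 → P i := stepQ 114737 Q114737 (allL N114737 (tt N122138 (iv1 F530388)) (tt N122136 (iv0 F530375)) (tt N117065 (iv2 F503198)) (tt N113938 F491593) (tt N85518 (iv4 D217994)) (tt N114767 (iv5 F491752)) (tt N113857 F491592) (tt N122137 (iv7 F530377)))
theorem Q114739 : ∀ i, i < 114739 → P i := stepQ 114738 Q114738 (allL N114738 (tt N122415 (iv1 F531973)) (tt N116756 (iv0 F501662)) (tt N116299 (iv2 F499434)) (tt N85520 F491594) (tt N89704 F491596) (tt N85519 (iv5 D217995)) (tt N113777 F491597) (tt N109757 F491595))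
theorem Q114740 : ∀ i, i < 114740 → P i := stepQ 114739 Q114739 (allL N114739 (tt N109766 (iv1 F491602)) (tt N107486 (iv0 F491603)) (tt N109768 F491598) (tt N85521 F491599) (tt N89622 F491600) (tt N114771 (iv5 F491773)) (tt N85519 (iv6 D217996)) (tt N109702 F491601))
theorem Q114741 : ∀ i, i < 114741 → P i := stepQ 114740 Q114740 (allL N114740 (tt N122136 F530376) (tt N122138 F530387) (tt N122137 (iv2 F530381)) (tt N116169 (iv3 F498846)) (tt N85520 (iv4 D217997)) (tt N122441 (iv5 F532120)) (tt N116167 F498838) (tt N117065 (iv7 F503200)))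
theorem Q114742 : ∀ i, i < 114742 → P i := stepQ 114741 Q114741 (allL N114741 (tt N114768 (iv1 F491758)) (tt N85606 F491609) (tt N113978 F491604) (tt N103033 F491605) (tt N111145 F491606) (tt N85522 (iv5 D217998)) (tt N85589 F491607) (tt N85559 F491608))
theorem Q114743 : ∀ i, i < 114743 → P i := stepQ 114742 Q114742 (allL N114742 (tt N113600 (iv1 F491614)) (tt N114424 F491615) (tt N117266 (iv2 F504184)) (tt N85523 (iv3 D217999)) (tt N89711 (iv4 F491613)) (tt N89617 F491610) (tt N113992 F491611) (tt N113977 F491612))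
theorem Q114744 : ∀ i, i < 114744 → P i := stepQ 114743 Q114743 (allL N114743 (tt N88834 F491619) (tt N89697 (iv0 F491620)) (tt N113507 F491616) (tt N85524 (iv3 D218000)) (tt N114485 F491617) (tt N105582 F491621) (tt N85526 F491618) (tt N114681 (iv7 F491622)))
theorem Q114745 : ∀ i, i < 114745 → P i := stepQ 114744 Q114744 (allL N114744 (tt N107324 F491627) (tt N114491 (iv0 F491626)) (tt N113976 F491623) (tt N105582 F491624) (tt N117403 (iv4 F504854)) (tt N85524 (iv5 D218001)) (tt N101399 F491625) (tt N116737 (iv7 F501569)))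
theorem Q114746 : ∀ i, i < 114746 → P i := stepQ 114745 Q114745 (allL N114745 (tt N113975 (iv1 F491632)) (tt N113067 F491633) (tt N113505 F491628) (tt N114681 F491629) (tt N85525 F491630) (tt N116737 (iv5 F501568)) (tt N113986 F491631) (tt N85524 (iv7 D218002)))
theorem Q114747 : ∀ i, i < 114747 → P i := stepQ 114746 Q114746 (allL N114746 (tt N110491 F491639) (tt N109359 F491640) (tt N85530 F491635) (tt N94559 F491636) (tt N114918 (iv4 F492526)) (tt N113189 F491637) (tt N85527 (iv6 D218003)) (tt N110496 F491638))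
theorem Q114748 : ∀ i, i < 114748 → P i := stepQ 114747 Q114747 (allL N114747 (tt N110495 F491644) (tt N113647 F491645) (tt N113868 F491641) (tt N105083 F491642) (tt N85528 (iv4 D218004)) (tt N115704 (iv5 F496414)) (tt N120425 (iv6 F520714)) (tt N113872 F491643))
theorem Q114749 : ∀ i, i < 114749 → P i := stepQ 114748 Q114748 (allL N114748 (tt N113762 F491648) (tt N101906 F491649) (tt N115598 (iv2 F495925)) (tt N114924 (iv3 F492560)) (tt N108629 F491647) (tt N85529 (iv5 D218005)) (tt N108632 F491646) (tt N115340 (iv7 F494678)))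
theorem Q114750 : ∀ i, i < 114750 → P i := stepQ 114749 Q114749 (allL N114749 (tt N85530 (iv1 D218006)) (tt N110496 F491650) (tt N109359 (iv2 F491657)) (tt N107657 (iv3 F491654)) (tt N109358 F491653) (tt N110568 F491652) (tt N107656 F491655) (tt N110491 F491651))
theorem Q114751 : ∀ i, i < 114751 → P i := stepQ 114750 Q114750 (allL N114750 (tt N115130 F493635) (tt N110331 (iv0 F491662)) (tt N92804 F491658) (tt N116299 (iv3 F499435)) (tt N110159 F491661) (tt N85535 (iv5 D218007)) (tt N110029 F491659) (tt N110028 F491660))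
theorem Q114752 : ∀ i, i < 114752 → P i := stepQ 114751 Q114751 (allL N114751 (tt N105539 F491667) (tt N116983 (iv0 F502823)) (tt N85551 F491663) (tt N95218 F491664) (tt N107920 F491665) (tt N86750 F491666) (tt N85536 (iv6 D218008)) (tt N116793 (iv7 F501869)))
theorem Q114753 : ∀ i, i < 114753 → P i := stepQ 114752 Q114752 (allL N114752 (tt N115044 (iv1 F493196)) (tt N113115 F491672) (tt N114602 (iv2 F491671)) (tt N85542 (iv3 D218009)) (tt N116148 (iv4 F498748)) (tt N114309 F491668) (tt N86700 F491669) (tt N114337 F491670))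
theorem Q114754 : ∀ i, i < 114754 → P i := stepQ 114753 Q114753 (allL N114753 (tt N108812 (iv1 F491678)) (tt N109047 F491679) (tt N99802 F491673) (tt N85546 F491674) (tt N85568 F491675) (tt N99495 F491676) (tt N114341 F491677) (tt N85544 (iv7 D218010)))
theorem Q114755 : ∀ i, i < 114755 → P i := stepQ 114754 Q114754 (allL N114754 (tt N95228 (iv1 F491683)) (tt N85548 (iv0 D218011)) (tt N96325 (iv2 F491682)) (tt N85591 (iv3 F491685)) (tt N96324 F491681) (tt N113308 F491680) (tt N119156 (iv6 F514090)) (tt N96568 F491684))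
theorem Q114756 : ∀ i, i < 114756 → P i := stepQ 114755 Q114755 (allL N114755 (tt N96325 (iv1 F491691)) (tt N96568 F491689) (tt N85548 (iv2 D218012)) (tt N95205 F491686) (tt N96653 F491690) (tt N96674 F491687) (tt N120565 (iv6 F521485)) (tt N95228 F491688))
theorem Q114757 : ∀ i, i < 114757 → P i := stepQ 114756 Q114756 (allL N114756 (tt N116374 (iv1 F499771)) (tt N96379 F491697) (tt N96653 F491692) (tt N96626 F491693) (tt N85548 (iv4 D218013)) (tt N109806 F491694) (tt N108870 F491695) (tt N109866 F491696))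
theorem Q114758 : ∀ i, i < 114758 → P i := stepQ 114757 Q114757 (allL N114757 (tt N105809 F491701) (tt N114454 (iv0 F491702)) (tt N107920 F491698) (tt N114457 F491699) (tt N85551 F491700) (tt N114965 (iv5 F492800)) (tt N85549 (iv6 D218014)) (tt N114898 (iv7 F492414)))
theorem Q114759 : ∀ i, i < 114759 → P i := stepQ 114758 Q114758 (allL N114758 (tt N107262 F491708) (tt N101241 (iv0 F491709)) (tt N96715 F491703) (tt N106227 F491704) (tt N94530 F491705) (tt N106226 F491706) (tt N85550 (iv6 D218015)) (tt N109898 F491707))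
theorem Q114760 : ∀ i, i < 114760 → P i := stepQ 114759 Q114759 (allL N114759 (tt N85551 (iv1 D218016)) (tt N116793 (iv0 F501870)) (tt N116983 (iv2 F502818)) (tt N85589 (iv3 F491711)) (tt N103034 (iv4 F491712)) (tt N110996 (iv5 F491713)) (tt N103033 (iv6 F491714)) (tt N105539 F491710))
theorem Q114761 : ∀ i, i < 114761 → P i := stepQ 114760 Q114760 (allL N114760 (tt N116983 (iv1 F502824)) (tt N105539 (iv0 F491717)) (tt N116793 (iv2 F501865)) (tt N121142 (iv3 F524750)) (tt N114898 (iv4 F492412)) (tt N86749 F491715) (tt N110378 F491716) (tt N85551 (iv7 D218017)))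
theorem Q114762 : ∀ i, i < 114762 → P i := stepQ 114761 Q114761 (allL N114761 (tt N85559 (iv1 D218018)) (tt N113978 F491718) (tt N114768 (iv2 F491754)) (tt N114503 (iv3 F491721)) (tt N113751 F491720) (tt N114736 F491723) (tt N90455 (iv6 F491722)) (tt N85606 F491719))
theorem Q114763 : ∀ i, i < 114763 → P i := stepQ 114762 Q114762 (allL N114762 (tt N85562 (iv1 D218019)) (tt N85565 F491725) (tt N113702 F491730) (tt N88459 (iv3 F491728)) (tt N113076 F491727) (tt N114926 (iv5 F492568)) (tt N100200 (iv6 F491729)) (tt N113083 F491726))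
theorem Q114764 : ∀ i, i < 114764 → P i := stepQ 114763 Q114763 (allL N114763 (tt N98337 F491733) (tt N98336 F491735) (tt N118096 (iv2 F508559)) (tt N85562 (iv3 D218020)) (tt N120993 (iv4 F523908)) (tt N109651 (iv5 F491734)) (tt N92953 F491731) (tt N111166 F491732))
theorem Q114765 : ∀ i, i < 114765 → P i := stepQ 114764 Q114764 (allL N114764 (tt N117927 F507643) (tt N114565 F491741) (tt N109081 F491736) (tt N109651 F491737) (tt N109048 F491740) (tt N85562 (iv5 D218021)) (tt N98652 F491738) (tt N109084 F491739))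
theorem Q114766 : ∀ i, i < 114766 → P i := stepQ 114765 Q114765 (allL N114765 (tt N114565 F491747) (tt N117927 (iv0 F507642)) (tt N109084 F491742) (tt N113110 F491743) (tt N109049 F491744) (tt N85565 (iv5 D218022)) (tt N86065 F491745) (tt N109081 F491746))
theorem Q114767 : ∀ i, i < 114767 → P i := stepQ 114766 Q114766 (allL N114766 (tt N117057 F503162) (tt N96152 F493353) (tt N117061 (iv2 F503178)) (tt N85571 F491748) (tt N118783 (iv4 F512042)) (tt N86269 F491749) (tt N85569 (iv6 D218023)) (tt N117060 F503175))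
theorem Q114768 : ∀ i, i < 114768 → P i := stepQ 114767 Q114767 (allL N114767 (tt N121156 F524836) (tt N114702 (iv0 F491753)) (tt N121154 F524824) (tt N85573 F491750) (tt N107975 F491751) (tt N114737 F491752) (tt N85572 (iv6 D218024)) (tt N121155 (iv7 F524827)))
theorem Q114769 : ∀ i, i < 114769 → P i := stepQ 114768 Q114768 (allL N114768 (tt N86297 (iv1 F491757)) (tt N114741 F491758) (tt N114761 F491754) (tt N121155 F524829) (tt N88925 F491755) (tt N117064 (iv5 F503195)) (tt N86267 F491756) (tt N85573 (iv7 D218025)))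
theorem Q114770 : ∀ i, i < 114770 → P i := stepQ 114769 Q114769 (allL N114769 (tt N98092 (iv1 F491764)) (tt N98105 F491765) (tt N98103 F491759) (tt N107653 F491760) (tt N85581 F491761) (tt N98470 F491762) (tt N85579 (iv6 D218026)) (tt N98102 F491763))
theorem Q114771 : ∀ i, i < 114771 → P i := stepQ 114770 Q114770 (allL N114770 (tt N106237 (iv1 F491769)) (tt N85580 (iv0 D218027)) (tt N106236 (iv2 F491768)) (tt N96673 F491767) (tt N119175 (iv4 F514198)) (tt N105484 F491766) (tt N101379 (iv6 F491771)) (tt N101059 F491770))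
theorem Q114772 : ∀ i, i < 114772 → P i := stepQ 114771 Q114771 (allL N114771 (tt N96700 F491775) (tt N96697 F491776) (tt N107265 F491772) (tt N85585 (iv3 D218028)) (tt N114794 (iv4 F491902)) (tt N114739 F491773) (tt N120405 (iv6 F520612)) (tt N90126 F491774))
theorem Q114773 : ∀ i, i < 114773 → P i := stepQ 114772 Q114772 (allL N114772 (tt N90123 F491781) (tt N90122 (iv0 F491782)) (tt N90125 F491777) (tt N120405 (iv3 F520610)) (tt N95247 F491778) (tt N113608 F491779) (tt N85585 (iv6 D218029)) (tt N89110 F491780))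
theorem Q114774 : ∀ i, i < 114774 → P i := stepQ 114773 Q114773 (allL N114773 (tt N85596 (iv1 F491783)) (tt N85587 (iv0 D218030)) (tt N116770 (iv2 F501731)) (tt N118211 F509174) (tt N115140 (iv4 F493685)) (tt N115435 (iv5 F495183)) (tt N116767 (iv6 F501720)) (tt N90129 F491784))
theorem Q114775 : ∀ i, i < 114775 → P i := stepQ 114774 Q114774 (allL N114774 (tt N103022 F491789) (tt N119562 F516269) (tt N107695 F491785) (tt N96530 F491786) (tt N85591 (iv4 D218031)) (tt N103759 F491787) (tt N119567 F516300) (tt N113086 F491788))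
theorem Q114776 : ∀ i, i < 114776 → P i := stepQ 114775 Q114775 (allL N114775 (tt N106270 (iv1 F491790)) (tt N85594 (iv0 D218032)) (tt N119074 (iv2 F513642)) (tt N120173 F519428) (tt N118380 (iv4 F510041)) (tt N90829 (iv5 F491792)) (tt N119070 (iv6 F513624)) (tt N90439 F491791))
theorem Q114777 : ∀ i, i < 114777 → P i := stepQ 114776 Q114776 (allL N114776 (tt N110515 (iv1 F491796)) (tt N121235 (iv0 F525295)) (tt N117206 (iv2 F503903)) (tt N85599 F491793) (tt N121383 (iv4 F526060)) (tt N85594 (iv5 D218033)) (tt N106288 F491794) (tt N106293 F491795))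
theorem Q114778 : ∀ i, i < 114778 → P i := stepQ 114777 Q114777 (allL N114777 (tt N86276 (iv1 F491802)) (tt N114671 F491803) (tt N114670 F491797) (tt N104101 F491798) (tt N85600 F491799) (tt N112779 F491800) (tt N89573 F491801) (tt N85595 (iv7 D218034)))
theorem Q114779 : ∀ i, i < 114779 → P i := stepQ 114778 Q114778 (allL N114778 (tt N113426 F491811) (tt N113472 F491812) (tt N90135 F491806) (tt N106288 F491807) (tt N98994 F491810) (tt N85597 (iv5 D218035)) (tt N85599 F491808) (tt N90137 F491809))
theorem Q114780 : ∀ i, i < 114780 → P i := stepQ 114779 Q114779 (allL N114779 (tt N114897 (iv1 F492408)) (tt N114895 (iv0 F492400)) (tt N117205 (iv2 F503896)) (tt N98997 (iv3 F491814)) (tt N85599 (iv4 D218036)) (tt N99001 (iv5 F491815)) (tt N98994 F491813) (tt N117207 (iv7 F503913)))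
theorem Q114781 : ∀ i, i < 114781 → P i := stepQ 114780 Q114780 (allL N114780 (tt N99527 F491819) (tt N109220 F491820) (tt N116813 (iv2 F501973)) (tt N85603 F491816) (tt N107465 F491817) (tt N107108 F491818) (tt N85601 (iv6 D218037)) (tt N115068 (iv7 F493329)))
theorem Q114782 : ∀ i, i < 114782 → P i := stepQ 114781 Q114781 (allL N114781 (tt N90685 F491825) (tt N113885 (iv0 F491826)) (tt N109094 F491821) (tt N96225 F491822) (tt N118806 (iv4 F512171)) (tt N107107 F491823) (tt N85602 (iv6 D218038)) (tt N96229 F491824))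
theorem Q114783 : ∀ i, i < 114783 → P i := stepQ 114782 Q114782 (allL N114782 (tt N106265 F491830) (tt N105704 (iv0 F491831)) (tt N114502 F491827) (tt N85606 F491828) (tt N90160 F491829) (tt N122444 D225703) (tt N85604 (iv6 D218039)) (tt N114503 (iv7 F491832)))
theorem Q114784 : ∀ i, i < 114784 → P i := stepQ 114783 Q114783 (allL N114783 (tt N113969 F491836) (tt N90451 (iv0 F491837)) (tt N113938 F491833) (tt N122444 (iv3 F532140)) (tt N122434 (iv4 F532076)) (tt N85606 (iv5 D218040)) (tt N113714 F491834) (tt N114736 F491835))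
theorem Q114785 : ∀ i, i < 114785 → P i := stepQ 114784 Q114784 (allL N114784 (tt N85616 F491843) (tt N105989 F491844) (tt N106391 F491838) (tt N89105 F491839) (tt N85612 (iv4 D218041)) (tt N93454 F491840) (tt N107809 F491841) (tt N90120 F491842))
theorem Q114786 : ∀ i, i < 114786 → P i := stepQ 114785 Q114785 (allL N114785 (tt N85614 (iv1 D218042)) (tt N89071 F491845) (tt N93561 F491849) (tt N119073 F513639) (tt N103731 F491847) (tt N96043 F491846) (tt N107804 (iv6 F491848)) (tt N114796 (iv7 F491916)))
theorem Q114787 : ∀ i, i < 114787 → P i := stepQ 114786 Q114786 (allL N114786 (tt N101922 F491855) (tt N101045 (iv0 F491856)) (tt N96599 F491850) (tt N85619 F491851) (tt N113117 F491852) (tt N96598 F491853) (tt N85617 (iv6 D218043)) (tt N113055 F491854))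
theorem Q114788 : ∀ i, i < 114788 → P i := stepQ 114787 Q114787 (allL N114787 (tt N96083 (iv1 F491863)) (tt N91636 (iv0 F491862)) (tt N93823 F491857) (tt N103167 F491858) (tt N85627 (iv4 D218044)) (tt N114200 F491861) (tt N93821 F491859) (tt N114199 F491860))
theorem Q114789 : ∀ i, i < 114789 → P i := stepQ 114788 Q114788 (allL N114788 (tt N108487 F491866) (tt N103139 (iv0 F491867)) (tt N108623 F491864) (tt N108631 F491865) (tt N114799 (iv4 F491935)) (tt N85627 (iv5 D218045)) (tt N114805 (iv6 F491961)) (tt N116013 (iv7 F498048)))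
theorem Q114790 : ∀ i, i < 114790 → P i := stepQ 114789 Q114789 (allL N114789 (tt N103139 F491872) (tt N108487 F491873) (tt N116013 (iv2 F498045)) (tt N99682 F491868) (tt N112205 F491871) (tt N85628 (iv5 D218046)) (tt N87437 F491869) (tt N108623 F491870))
theorem Q114791 : ∀ i, i < 114791 → P i := stepQ 114790 Q114790 (allL N114790 (tt N90617 F491878) (tt N91704 F491880) (tt N114656 F491874) (tt N85633 (iv3 D218047)) (tt N85635 F491875) (tt N110408 (iv5 F491879)) (tt N91695 F491876) (tt N113268 F491877))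
theorem Q114792 : ∀ i, i < 114792 → P i := stepQ 114791 Q114791 (allL N114791 (tt N100243 F491885) (tt N111204 F491886) (tt N89843 F491881) (tt N110408 F491882) (tt N110414 F491884) (tt N85633 (iv5 D218048)) (tt N110407 (iv6 F491887)) (tt N113269 F491883))
theorem Q114793 : ∀ i, i < 114793 → P i := stepQ 114792 Q114792 (allL N114792 (tt N91699 F491893) (tt N108096 F491894) (tt N108098 F491888) (tt N85636 F491889) (tt N91695 F491890) (tt N112303 F491891) (tt N85635 (iv6 D218049)) (tt N108092 F491892))
theorem Q114794 : ∀ i, i < 114794 → P i := stepQ 114793 Q114793 (allL N114793 (tt N108150 (iv1 F491899)) (tt N108149 F491900) (tt N85660 F491895) (tt N112303 F491896) (tt N115662 (iv4 F496201)) (tt N85636 (iv5 D218050)) (tt N112302 F491897) (tt N108135 F491898))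
theorem Q114795 : ∀ i, i < 114795 → P i := stepQ 114794 Q114794 (allL N114794 (tt N89147 F491906) (tt N106358 (iv0 F491907)) (tt N90165 F491901) (tt N85640 (iv3 D218051)) (tt N114771 F491902) (tt N91072 F491903) (tt N101243 F491904) (tt N107263 F491905))
theorem Q114796 : ∀ i, i < 114796 → P i := stepQ 114795 Q114795 (allL N114795 (tt N114307 F491913) (tt N114597 (iv0 F491914)) (tt N85898 F491908) (tt N86185 F491909) (tt N85643 F491910) (tt N113618 F491911) (tt N85642 (iv6 D218052)) (tt N109884 F491912))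
theorem Q114797 : ∀ i, i < 114797 → P i := stepQ 114796 Q114796 (allL N114796 (tt N85651 (iv1 D218053)) (tt N98679 F491915) (tt N102320 (iv2 F491919)) (tt N110202 F491920) (tt N90110 F491918) (tt N90047 F491917) (tt N121319 (iv6 F525740)) (tt N114785 F491916))
theorem Q114798 : ∀ i, i < 114798 → P i := stepQ 114797 Q114797 (allL N114797 (tt N114469 F491926) (tt N89820 (iv0 F491927)) (tt N111220 F491921) (tt N85653 F491922) (tt N89864 F491923) (tt N102878 F491924) (tt N85652 (iv6 D218054)) (tt N110187 F491925))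
theorem Q114799 : ∀ i, i < 114799 → P i := stepQ 114798 Q114798 (allL N114798 (tt N119897 (iv1 F517915)) (tt N110636 F491932) (tt N100512 F491928) (tt N91580 F491929) (tt N85656 (iv4 D218055)) (tt N113393 F491930) (tt N122172 (iv6 F530573)) (tt N99476 F491931))
theorem Q114800 : ∀ i, i < 114800 → P i := stepQ 114799 Q114799 (allL N114799 (tt N119223 (iv1 F514457)) (tt N117532 (iv0 F505556)) (tt N112302 F491933) (tt N108180 F491934) (tt N114788 F491935) (tt N85657 (iv5 D218056)) (tt N85660 F491936) (tt N108166 F491937))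
theorem Q114801 : ∀ i, i < 114801 → P i := stepQ 114800 Q114800 (allL N114800 (tt N119515 F516015) (tt N121319 (iv0 F525742)) (tt N114313 F491938) (tt N85658 (iv3 D218057)) (tt N119631 (iv4 F516609)) (tt N121409 (iv5 F526201)) (tt N98223 F491939) (tt N108146 F491940))
theorem Q114802 : ∀ i, i < 114802 → P i := stepQ 114801 Q114801 (allL N114801 (tt N117014 (iv1 F502978)) (tt N114116 (iv0 F491944)) (tt N108148 F491941) (tt N121409 (iv3 F526198)) (tt N91439 F491943) (tt N85658 (iv5 D218058)) (tt N121411 (iv6 F526210)) (tt N108147 F491942))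
theorem Q114803 : ∀ i, i < 114803 → P i := stepQ 114802 Q114802 (allL N114802 (tt N114116 F491950) (tt N117014 F502977) (tt N108147 F491946) (tt N114638 F491947) (tt N91440 F491948) (tt N85659 (iv5 D218059)) (tt N119221 (iv6 F514441)) (tt N108148 F491949))
theorem Q114804 : ∀ i, i < 114804 → P i := stepQ 114803 Q114803 (allL N114803 (tt N108135 (iv1 F491953)) (tt N85660 (iv0 D218060)) (tt N108150 (iv2 F491955)) (tt N122445 D225704) (tt N87291 F491954) (tt N107833 F491951) (tt N87290 F491952) (tt N108149 (iv7 F491956)))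
theorem Q114805 : ∀ i, i < 114805 → P i := stepQ 114804 Q114804 (allL N114804 (tt N85660 (iv1 D218061)) (tt N108135 F491957) (tt N108149 (iv2 F491959)) (tt N87270 (iv3 F495733)) (tt N115886 (iv4 F497414)) (tt N118693 (iv5 F511573)) (tt N101543 (iv6 F491960)) (tt N108150 F491958))
theorem Q114806 : ∀ i, i < 114806 → P i := stepQ 114805 Q114805 (allL N114805 (tt N88131 (iv1 F491964)) (tt N91382 F491963) (tt N115662 (iv2 F496199)) (tt N119243 (iv3 F514581)) (tt N85660 (iv4 D218062)) (tt N117442 (iv5 F505048)) (tt N114788 F491961) (tt N108151 F491962))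
theorem Q114807 : ∀ i, i < 114807 → P i := stepQ 114806 Q114806 (allL N114806 (tt N111416 F491967) (tt N114124 (iv0 F491968)) (tt N117029 F503045) (tt N97830 F491965) (tt N114117 F491966) (tt N85662 (iv5 D218063)) (tt N118723 F511753) (tt N117030 (iv7 F503047)))
theorem Q114808 : ∀ i, i < 114808 → P i := stepQ 114807 Q114807 (allL N114807 (tt N108678 F491973) (tt N112376 (iv0 F491975)) (tt N112379 F491969) (tt N88645 F491970) (tt N85664 (iv4 D218064)) (tt N91381 F491974) (tt N88642 F491971) (tt N112113 F491972))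
theorem Q114809 : ∀ i, i < 114809 → P i := stepQ 114808 Q114808 (allL N114808 (tt N101217 F491979) (tt N101218 F491980) (tt N101239 F491976) (tt N120910 (iv3 F523412)) (tt N110033 (iv4 F491981)) (tt N85664 (iv5 D218065)) (tt N101255 F491977) (tt N91687 F491978))
theorem Q114810 : ∀ i, i < 114810 → P i := stepQ 114809 Q114809 (allL N114809 (tt N111451 (iv1 F491987)) (tt N112404 (iv0 F491986)) (tt N96802 F491982) (tt N111442 F491985) (tt N85674 (iv4 D218066)) (tt N115655 (iv5 F496173)) (tt N92530 F491983) (tt N91954 F491984))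
theorem Q114811 : ∀ i, i < 114811 → P i := stepQ 114810 Q114810 (allL N114810 (tt N102238 F491993) (tt N102097 F491994) (tt N111663 F491988) (tt N101979 F491989) (tt N113040 F491992) (tt N85677 (iv5 D218067)) (tt N102062 F491990) (tt N101977 F491991))
theorem Q114812 : ∀ i, i < 114812 → P i := stepQ 114811 Q114811 (allL N114811 (tt N111519 F491999) (tt N111515 F492000) (tt N100721 F491995) (tt N114812 (iv3 F492002)) (tt N100719 F491996) (tt N85678 (iv5 D218068)) (tt N111513 F491997) (tt N111635 F491998))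
theorem Q114813 : ∀ i, i < 114813 → P i := stepQ 114812 Q114812 (allL N114812 (tt N115468 (iv1 F495328)) (tt N115467 F495326) (tt N95438 F492001) (tt N114811 F492002) (tt N87114 F492005) (tt N85681 (iv5 D218069)) (tt N95314 F492003) (tt N87885 F492004))
theorem Q114814 : ∀ i, i < 114814 → P i := stepQ 114813 Q114813 (allL N114813 (tt N115689 F496331) (tt N108489 F492009) (tt N85693 F492006) (tt N97163 F492007) (tt N118110 (iv4 F508654)) (tt N85683 (iv5 D218070)) (tt N115686 (iv6 F496311)) (tt N85697 F492008))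
theorem Q114815 : ∀ i, i < 114815 → P i := stepQ 114814 Q114814 (allL N114814 (tt N88260 F492014) (tt N86810 (iv0 F492015)) (tt N112422 F492010) (tt N85684 (iv3 D218071)) (tt N88209 F492011) (tt N108273 F492012) (tt N86874 F492016) (tt N85691 F492013))
theorem Q114816 : ∀ i, i < 114816 → P i := stepQ 114815 Q114815 (allL N114815 (tt N91872 (iv1 F492023)) (tt N88321 (iv0 F492022)) (tt N85698 F492017) (tt N86874 F492018) (tt N102350 F492019) (tt N91184 F492020) (tt N85684 (iv6 D218072)) (tt N104415 F492021))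
theorem Q114817 : ∀ i, i < 114817 → P i := stepQ 114816 Q114816 (allL N114816 (tt N112422 (iv1 F492027)) (tt N85691 (iv0 D218073)) (tt N86810 (iv2 F492026)) (tt N115690 (iv3 F496333)) (tt N97198 F492025) (tt N97184 F492024) (tt N88202 (iv6 F492029)) (tt N88260 F492028))
theorem Q114818 : ∀ i, i < 114818 → P i := stepQ 114817 Q114817 (allL N114817 (tt N86810 (iv1 F492036)) (tt N88260 F492035) (tt N85691 (iv2 D218074)) (tt N108641 F492030) (tt N107597 F492031) (tt N108272 F492032) (tt N108583 F492033) (tt N112422 F492034))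
theorem Q114819 : ∀ i, i < 114819 → P i := stepQ 114818 Q114818 (allL N114818 (tt N98764 F492042) (tt N98766 (iv0 F492043)) (tt N88212 F492037) (tt N85692 (iv3 D218075)) (tt N87887 F492038) (tt N92938 F492039) (tt N88308 F492040) (tt N88210 F492041))
theorem Q114820 : ∀ i, i < 114820 → P i := stepQ 114819 Q114819 (allL N114819 (tt N85697 (iv1 F492046)) (tt N85693 (iv0 D218076)) (tt N115689 (iv2 F496325)) (tt N95455 (iv3 F492048)) (tt N93151 F492045) (tt N114245 F492044) (tt N91359 (iv6 F492049)) (tt N108489 F492047))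
theorem Q114821 : ∀ i, i < 114821 → P i := stepQ 114820 Q114820 (allL N114820 (tt N115023 (iv1 F493088)) (tt N115700 (iv0 F496395)) (tt N118110 (iv2 F508652)) (tt N104025 F492050) (tt N85693 (iv4 D218077)) (tt N105541 F492051) (tt N118104 (iv6 F508617)) (tt N104022 F492052))
theorem Q114822 : ∀ i, i < 114822 → P i := stepQ 114821 Q114821 (allL N114821 (tt N112439 F492055) (tt N115471 (iv0 F495348)) (tt N115686 F496313) (tt N113667 F492053) (tt N118104 (iv4 F508615)) (tt N96663 F492054) (tt N85693 (iv6 D218078)) (tt N115687 (iv7 F496317)))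
theorem Q114823 : ∀ i, i < 114823 → P i := stepQ 114822 Q114822 (allL N114822 (tt N85694 (iv1 D218079)) (tt N116012 (iv0 F498044)) (tt N88269 F492063) (tt N108483 (iv3 F492058)) (tt N88281 F492057) (tt N113570 (iv5 F492059)) (tt N88244 (iv6 F492060)) (tt N88317 F492056))
theorem Q114824 : ∀ i, i < 114824 → P i := stepQ 114823 Q114823 (allL N114823 (tt N85695 (iv1 D218080)) (tt N108641 F492064) (tt N115263 (iv2 F494265)) (tt N97184 (iv3 F492066)) (tt N115261 (iv4 F494253)) (tt N115690 (iv5 F496335)) (tt N88218 (iv6 F492067)) (tt N88293 F492065))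
theorem Q114825 : ∀ i, i < 114825 → P i := stepQ 114824 Q114824 (allL N114824 (tt N88321 (iv1 F492072)) (tt N91872 F492073) (tt N104415 F492068) (tt N103958 F492069) (tt N102355 F492070) (tt N111630 F492071) (tt N116012 (iv6 F498040)) (tt N85698 (iv7 D218081)))
theorem Q114826 : ∀ i, i < 114826 → P i := stepQ 114825 Q114825 (allL N114825 (tt N105636 (iv1 F492079)) (tt N105599 F492080) (tt N105637 F492074) (tt N85704 F492075) (tt N93555 F492076) (tt N90695 F492077) (tt N98242 F492078) (tt N85700 (iv7 D218082)))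
theorem Q114827 : ∀ i, i < 114827 → P i := stepQ 114826 Q114826 (allL N114826 (tt N113464 F492086) (tt N113475 F492087) (tt N110341 F492081) (tt N112343 F492082) (tt N110240 F492085) (tt N85702 (iv5 D218083)) (tt N110239 F492083) (tt N113550 F492084))
theorem Q114828 : ∀ i, i < 114828 → P i := stepQ 114827 Q114827 (allL N114827 (tt N113475 F492092) (tt N113464 F492093) (tt N113550 F492088) (tt N114890 (iv3 F492369)) (tt N110344 F492089) (tt N85703 (iv5 D218084)) (tt N113028 F492090) (tt N110341 F492091))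
theorem Q114829 : ∀ i, i < 114829 → P i := stepQ 114828 Q114828 (allL N114828 (tt N85708 (iv1 D218085)) (tt N113513 F492094) (tt N113535 (iv2 F492097)) (tt N118803 (iv3 F512156)) (tt N113411 F492096) (tt N122241 (iv5 F530960)) (tt N120886 (iv6 F523290)) (tt N113536 F492095))
theorem Q114830 : ∀ i, i < 114830 → P i := stepQ 114829 Q114829 (allL N114829 (tt N122362 (iv1 F531644)) (tt N121202 (iv0 F525114)) (tt N116348 (iv2 F499656)) (tt N119670 (iv3 F516827)) (tt N116010 F498034) (tt N85708 (iv5 D218086)) (tt N120933 F523560) (tt N113538 F492098))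
theorem Q114831 : ∀ i, i < 114831 → P i := stepQ 114830 Q114830 (allL N114830 (tt N115734 F496580) (tt N116420 F500013) (tt N116741 (iv2 F501586)) (tt N85710 (iv3 D218087)) (tt N109888 F492099) (tt N122370 (iv5 F531694)) (tt N121792 (iv6 F528346)) (tt N119608 (iv7 F516489)))
theorem Q114832 : ∀ i, i < 114832 → P i := stepQ 114831 Q114831 (allL N114831 (tt N92829 F492103) (tt N98225 F492104) (tt N113026 F492100) (tt N122370 (iv3 F531692)) (tt N113330 F492101) (tt N85710 (iv5 D218088)) (tt N110160 F492102) (tt N118006 (iv7 F508049)))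
theorem Q114833 : ∀ i, i < 114833 → P i := stepQ 114832 Q114832 (allL N114832 (tt N111821 F492107) (tt N111518 F492108) (tt N85719 F492105) (tt N121965 F529344) (tt N121304 (iv4 F525653)) (tt N85714 (iv5 D218089)) (tt N115641 (iv6 F496099)) (tt N111820 F492106))
theorem Q114834 : ∀ i, i < 114834 → P i := stepQ 114833 Q114833 (allL N114833 (tt N91993 F492111) (tt N88138 F492112) (tt N115641 F496101) (tt N85722 F492109) (tt N122323 (iv4 F531419)) (tt N85716 (iv5 D218090)) (tt N85719 F492110) (tt N115642 (iv7 F496104)))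
theorem Q114835 : ∀ i, i < 114835 → P i := stepQ 114834 Q114834 (allL N114834 (tt N106412 F492117) (tt N107080 F492118) (tt N111650 F492113) (tt N88029 F492114) (tt N107094 F492115) (tt N85718 (iv5 D218091)) (tt N115618 (iv6 F495994)) (tt N88024 F492116))
theorem Q114836 : ∀ i, i < 114836 → P i := stepQ 114835 Q114835 (allL N114835 (tt N85719 (iv1 D218092)) (tt N111820 F492119) (tt N111518 (iv2 F492122)) (tt N115664 (iv3 F496208)) (tt N120855 (iv4 F523104)) (tt N100673 F492121) (tt N122121 (iv6 F530293)) (tt N111821 F492120))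
theorem Q114837 : ∀ i, i < 114837 → P i := stepQ 114836 Q114836 (allL N114836 (tt N121014 (iv1 F524023)) (tt N121013 (iv0 F524016)) (tt N121304 F525654) (tt N111822 F492123) (tt N85719 (iv4 D218093)) (tt N104703 F492125) (tt N122323 (iv6 F531420)) (tt N111822 F492124))
theorem Q114838 : ∀ i, i < 114838 → P i := stepQ 114837 Q114837 (allL N114837 (tt N122194 (iv1 F530704)) (tt N122081 (iv0 F530049)) (tt N114854 (iv2 F492186)) (tt N120557 (iv3 F521441)) (tt N115882 (iv4 F497392)) (tt N85720 (iv5 D218094)) (tt N115881 F497388) (tt N114855 (iv7 F492191)))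
theorem Q114839 : ∀ i, i < 114839 → P i := stepQ 114838 Q114838 (allL N114838 (tt N122081 (iv1 F530050)) (tt N122194 (iv0 F530703)) (tt N114855 (iv2 F492190)) (tt N120051 (iv3 F518772)) (tt N111510 F492127) (tt N85721 (iv5 D218095)) (tt N111509 (iv6 F492126)) (tt N114854 (iv7 F492189)))
theorem Q114840 : ∀ i, i < 114840 → P i := stepQ 114839 Q114839 (allL N114839 (tt N114858 (iv1 F492206)) (tt N85722 (iv0 D218096)) (tt N114857 F492200) (tt N119193 F514294) (tt N111642 F492129) (tt N112472 F492128) (tt N112235 F492130) (tt N112471 (iv7 F492131)))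
theorem Q114841 : ∀ i, i < 114841 → P i := stepQ 114840 Q114840 (allL N114840 (tt N85722 (iv1 D218097)) (tt N114858 F492205) (tt N112471 F492135) (tt N88158 F492136) (tt N111643 F492137) (tt N108646 (iv5 F492134)) (tt N88157 (iv6 F492133)) (tt N114857 (iv7 F492201)))
theorem Q114842 : ∀ i, i < 114842 → P i := stepQ 114841 Q114841 (allL N114841 (tt N112471 (iv1 F492139)) (tt N114857 F492202) (tt N114858 (iv2 F492203)) (tt N115642 F496106) (tt N122037 (iv4 F529774)) (tt N85723 F492138) (tt N122037 (iv6 F529776)) (tt N85722 (iv7 D218098)))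
theorem Q114843 : ∀ i, i < 114843 → P i := stepQ 114842 Q114842 (allL N114842 (tt N118922 (iv1 F512764)) (tt N112260 F492144) (tt N111755 F492140) (tt N99669 F492141) (tt N105861 F492143) (tt N85727 (iv5 D218099)) (tt N122185 (iv6 F530656)) (tt N111851 F492142))
theorem Q114844 : ∀ i, i < 114844 → P i := stepQ 114843 Q114843 (allL N114843 (tt N118900 (iv1 F512651)) (tt N118840 F512359) (tt N105344 F492145) (tt N114868 (iv3 F492245)) (tt N106410 F492147) (tt N85735 (iv5 D218100)) (tt N114867 (iv6 F492242)) (tt N111819 F492146))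
theorem Q114845 : ∀ i, i < 114845 → P i := stepQ 114844 Q114844 (allL N114844 (tt N118840 F512358) (tt N118900 F512652) (tt N111819 F492148) (tt N111468 F492149) (tt N106411 F492151) (tt N85736 (iv5 D218101)) (tt N119348 (iv6 F515148)) (tt N105344 F492150))
theorem Q114846 : ∀ i, i < 114846 → P i := stepQ 114845 Q114845 (allL N114845 (tt N115191 F493951) (tt N87544 (iv0 F492156)) (tt N85754 F492152) (tt N97255 F492153) (tt N113773 (iv4 F492157)) (tt N85739 (iv5 D218102)) (tt N97253 F492154) (tt N85758 F492155))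
theorem Q114847 : ∀ i, i < 114847 → P i := stepQ 114846 Q114846 (allL N114846 (tt N105930 (iv1 F492163)) (tt N86865 (iv0 F492162)) (tt N85759 F492158) (tt N114959 (iv3 F492763)) (tt N113677 F492159) (tt N104120 F492160) (tt N85740 (iv6 D218103)) (tt N104126 F492161))
theorem Q114848 : ∀ i, i < 114848 → P i := stepQ 114847 Q114847 (allL N114847 (tt N119452 F515701) (tt N115264 (iv0 F494274)) (tt N86881 F492164) (tt N104016 F492165) (tt N85745 (iv4 D218104)) (tt N122446 D225705) (tt N103956 F492166) (tt N86880 F492167))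
theorem Q114849 : ∀ i, i < 114849 → P i := stepQ 114848 Q114848 (allL N114848 (tt N115264 (iv1 F494275)) (tt N119452 (iv0 F515700)) (tt N86880 F492168) (tt N113771 (iv3 F492170)) (tt N85746 (iv4 D218105)) (tt N122447 D225706) (tt N120272 (iv6 F519948)) (tt N86881 F492169))
theorem Q114850 : ∀ i, i < 114850 → P i := stepQ 114849 Q114849 (allL N114849 (tt N105691 F492173) (tt N121744 (iv0 F528065)) (tt N85748 F492171) (tt N88268 F492172) (tt N115278 (iv4 F494341)) (tt N122063 (iv5 F529940)) (tt N85747 (iv6 D218106)) (tt N115291 (iv7 F494415)))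
theorem Q114851 : ∀ i, i < 114851 → P i := stepQ 114850 Q114850 (allL N114850 (tt N115291 F494417) (tt N85748 (iv0 D218107)) (tt N105691 (iv2 F492176)) (tt N98592 F492174) (tt N115240 (iv4 F494165)) (tt N122448 D225707) (tt N91094 F492175) (tt N121744 (iv7 F528064)))
theorem Q114852 : ∀ i, i < 114852 → P i := stepQ 114851 Q114851 (allL N114851 (tt N85748 (iv1 D218108)) (tt N115291 (iv0 F494416)) (tt N121744 (iv2 F528062)) (tt N105693 (iv3 F492178)) (tt N115237 (iv4 F494156)) (tt N118844 (iv5 F512381)) (tt N115236 F494154) (tt N105691 F492177))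
theorem Q114853 : ∀ i, i < 114853 → P i := stepQ 114852 Q114852 (allL N114852 (tt N112239 F492182) (tt N121058 (iv0 F524284)) (tt N122063 (iv2 F529938)) (tt N85751 F492179) (tt N100923 F492181) (tt N85748 (iv5 D218109)) (tt N111033 F492180) (tt N122065 (iv7 F529953)))
theorem Q114854 : ∀ i, i < 114854 → P i := stepQ 114853 Q114853 (allL N114853 (tt N121744 F528066) (tt N105691 (iv0 F492185)) (tt N115291 (iv2 F494412)) (tt N85752 F492183) (tt N115214 (iv4 F494053)) (tt N122065 (iv5 F529951)) (tt N86814 F492184) (tt N85748 (iv7 D218110)))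
theorem Q114855 : ∀ i, i < 114855 → P i := stepQ 114854 Q114854 (allL N114854 (tt N122343 (iv1 F531540)) (tt N117200 (iv0 F503879)) (tt N114837 F492186) (tt N99693 F492187) (tt N117665 (iv4 F506294)) (tt N85749 (iv5 D218111)) (tt N99689 F492188) (tt N114838 F492189))
theorem Q114856 : ∀ i, i < 114856 → P i := stepQ 114855 Q114855 (allL N114855 (tt N117200 (iv1 F503880)) (tt N122343 (iv0 F531539)) (tt N114838 F492190) (tt N120515 F521200) (tt N117616 F506020) (tt N85750 (iv5 D218112)) (tt N122038 (iv6 F529780)) (tt N114837 F492191))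
theorem Q114857 : ∀ i, i < 114857 → P i := stepQ 114856 Q114856 (allL N114856 (tt N108609 (iv1 F492196)) (tt N108608 (iv0 F492197)) (tt N108611 F492192) (tt N88313 F492193) (tt N103902 F492194) (tt N120241 (iv5 F519765)) (tt N85750 (iv6 D218113)) (tt N108602 F492195))
theorem Q114858 : ∀ i, i < 114858 → P i := stepQ 114857 Q114857 (allL N114857 (tt N114841 (iv1 F492202)) (tt N85751 (iv0 D218114)) (tt N114839 (iv2 F492200)) (tt N115969 (iv3 F497827)) (tt N100724 F492198) (tt N121725 (iv5 F527974)) (tt N112244 F492199) (tt N114840 F492201))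
theorem Q114859 : ∀ i, i < 114859 → P i := stepQ 114858 Q114858 (allL N114858 (tt N114840 (iv1 F492205)) (tt N114839 F492206) (tt N114841 F492203) (tt N122065 (iv3 F529956)) (tt N122076 (iv4 F530018)) (tt N85752 F492204) (tt N122076 (iv6 F530020)) (tt N85751 (iv7 D218115)))
theorem Q114860 : ∀ i, i < 114860 → P i := stepQ 114859 Q114859 (allL N114859 (tt N120943 (iv1 F523614)) (tt N120941 (iv0 F523601)) (tt N120942 F523605) (tt N108739 F492207) (tt N122399 (iv4 F531866)) (tt N85753 (iv5 D218116)) (tt N108737 F492208) (tt N111901 F492209))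
theorem Q114861 : ∀ i, i < 114861 → P i := stepQ 114860 Q114860 (allL N114860 (tt N104088 F492215) (tt N104927 F492214) (tt N104936 F492210) (tt N85758 F492211) (tt N115718 (iv4 F496489)) (tt N85756 (iv5 D218117)) (tt N104941 F492212) (tt N97255 F492213))
theorem Q114862 : ∀ i, i < 114862 → P i := stepQ 114861 Q114861 (allL N114861 (tt N120941 (iv1 F523602)) (tt N120943 F523613) (tt N111901 F492216) (tt N122402 (iv3 F531887)) (tt N117434 (iv4 F505011)) (tt N85757 (iv5 D218118)) (tt N111505 F492217) (tt N120942 (iv7 F523606)))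
theorem Q114863 : ∀ i, i < 114863 → P i := stepQ 114862 Q114862 (allL N114862 (tt N113772 (iv1 F492226)) (tt N113771 F492227) (tt N86663 F492224) (tt N115255 (iv3 F494230)) (tt N85758 (iv4 D218119)) (tt N114866 (iv5 F492239)) (tt N115231 (iv6 F494136)) (tt N113773 F492225))
theorem Q114864 : ∀ i, i < 114864 → P i := stepQ 114863 Q114863 (allL N114863 (tt N86865 (iv1 F492232)) (tt N105930 F492233) (tt N104126 F492228) (tt N111262 F492229) (tt N113561 F492230) (tt N104121 F492231) (tt N115358 (iv6 F494776)) (tt N85759 (iv7 D218120)))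
theorem Q114865 : ∀ i, i < 114865 → P i := stepQ 114864 Q114864 (allL N114864 (tt N115255 (iv1 F494235)) (tt N85760 (iv0 D218121)) (tt N115254 (iv2 F494228)) (tt N115249 F494208) (tt N119351 (iv4 F515164)) (tt N86590 F492234) (tt N113770 (iv6 F492235)) (tt N115253 F494222))
theorem Q114866 : ∀ i, i < 114866 → P i := stepQ 114865 Q114865 (allL N114865 (tt N85760 (iv1 D218122)) (tt N115255 F494236) (tt N115253 (iv2 F494224)) (tt N119451 F515693) (tt N100726 (iv4 F492236)) (tt N115309 (iv5 F494507)) (tt N100729 F492237) (tt N115254 (iv7 F494225)))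
theorem Q114867 : ∀ i, i < 114867 → P i := stepQ 114866 Q114866 (allL N114866 (tt N115254 (iv1 F494229)) (tt N115253 F494221) (tt N85760 (iv2 D218123)) (tt N113773 F492238) (tt N122158 (iv4 F530489)) (tt N114862 F492239) (tt N120967 (iv6 F523759)) (tt N115255 (iv7 F494234)))
theorem Q114868 : ∀ i, i < 114868 → P i := stepQ 114867 Q114867 (allL N114867 (tt N115507 (iv1 F495548)) (tt N115506 F495547) (tt N111307 F492240) (tt N85768 F492241) (tt N121034 (iv4 F524132)) (tt N85767 (iv5 D218124)) (tt N114843 F492242) (tt N87946 F492243))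
theorem Q114869 : ∀ i, i < 114869 → P i := stepQ 114868 Q114868 (allL N114868 (tt N110960 F492248) (tt N122368 (iv0 F531683)) (tt N87945 F492244) (tt N114843 F492245) (tt N104891 F492246) (tt N87731 F492247) (tt N85768 (iv6 D218125)) (tt N120947 (iv7 F523634)))
theorem Q114870 : ∀ i, i < 114870 → P i := stepQ 114869 Q114869 (allL N114869 (tt N120030 (iv1 F518656)) (tt N115594 (iv0 F495915)) (tt N87949 F492249) (tt N97252 F492250) (tt N108508 F492251) (tt N91631 F492252) (tt N85774 (iv6 D218126)) (tt N104897 (iv7 F492253)))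
theorem Q114871 : ∀ i, i < 114871 → P i := stepQ 114870 Q114870 (allL N114870 (tt N88224 F492258) (tt N110973 F492259) (tt N87401 F492254) (tt N87356 F492255) (tt N115869 (iv4 F497322)) (tt N85779 (iv5 D218127)) (tt N106820 F492256) (tt N87402 F492257))
theorem Q114872 : ∀ i, i < 114872 → P i := stepQ 114871 Q114871 (allL N114871 (tt N87407 (iv1 F492264)) (tt N85780 (iv0 D218128)) (tt N87404 (iv2 F492261)) (tt N87362 (iv3 F492262)) (tt N115874 (iv4 F497342)) (tt N86478 F492260) (tt N115635 (iv6 F496075)) (tt N87405 (iv7 F492263)))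
theorem Q114873 : ∀ i, i < 114873 → P i := stepQ 114872 Q114872 (allL N114872 (tt N85780 (iv1 D218129)) (tt N87407 F492265) (tt N87405 (iv2 F492268)) (tt N115676 (iv3 F496261)) (tt N115873 (iv4 F497334)) (tt N86480 F492267) (tt N119441 (iv6 F515643)) (tt N87404 F492266))
theorem Q114874 : ∀ i, i < 114874 → P i := stepQ 114873 Q114873 (allL N114873 (tt N115501 (iv1 F495521)) (tt N115504 (iv0 F495536)) (tt N87406 F492269) (tt N87981 (iv3 F492272)) (tt N85780 (iv4 D218130)) (tt N114083 F492270) (tt N87398 F492271) (tt N87960 (iv7 F492273)))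
theorem Q114875 : ∀ i, i < 114875 → P i := stepQ 114874 Q114874 (allL N114874 (tt N87405 (iv1 F492278)) (tt N87404 F492279) (tt N87407 F492274) (tt N115973 (iv3 F497848)) (tt N87960 F492275) (tt N85781 F492276) (tt N87959 F492277) (tt N85780 (iv7 D218131)))
theorem Q114876 : ∀ i, i < 114876 → P i := stepQ 114875 Q114875 (allL N114875 (tt N114353 F492284) (tt N102942 F492285) (tt N114256 F492280) (tt N89863 F492281) (tt N85795 (iv4 D218132)) (tt N114944 (iv5 F492682)) (tt N114273 F492282) (tt N86416 F492283))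
theorem Q114877 : ∀ i, i < 114877 → P i := stepQ 114876 Q114876 (allL N114876 (tt N109907 F492290) (tt N112044 F492291) (tt N94095 F492286) (tt N117465 (iv3 F505169)) (tt N110541 F492287) (tt N85801 (iv5 D218133)) (tt N92379 F492288) (tt N98074 F492289))
theorem Q114878 : ∀ i, i < 114878 → P i := stepQ 114877 Q114877 (allL N114877 (tt N117922 F507615) (tt N120723 (iv0 F522360)) (tt N98077 F492292) (tt N118485 (iv3 F510624)) (tt N85803 (iv4 D218134)) (tt N113366 F492293) (tt N92455 F492294) (tt N119759 (iv7 F517276)))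
theorem Q114879 : ∀ i, i < 114879 → P i := stepQ 114878 Q114878 (allL N114878 (tt N98076 (iv1 F492299)) (tt N98075 F492300) (tt N98078 F492295) (tt N98946 F492296) (tt N119759 (iv4 F517274)) (tt N85804 F492297) (tt N102640 F492298) (tt N85803 (iv7 D218135)))
theorem Q114880 : ∀ i, i < 114880 → P i := stepQ 114879 Q114879 (allL N114879 (tt N113864 F492306) (tt N86474 F492307) (tt N90085 F492301) (tt N91499 F492302) (tt N85818 (iv4 D218136)) (tt N89134 F492305) (tt N113348 F492303) (tt N91679 F492304))
theorem Q114881 : ∀ i, i < 114881 → P i := stepQ 114880 Q114880 (allL N114880 (tt N85825 (iv1 F492314)) (tt N85824 (iv0 D218137)) (tt N85827 (iv2 F492312)) (tt N100757 F492310) (tt N102703 F492309) (tt N114258 F492308) (tt N103816 F492311) (tt N85826 F492313))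
theorem Q114882 : ∀ i, i < 114882 → P i := stepQ 114881 Q114881 (allL N114881 (tt N85826 (iv1 F492320)) (tt N85827 F492321) (tt N85825 F492315) (tt N91027 F492316) (tt N101230 F492317) (tt N114026 F492318) (tt N91025 F492319) (tt N85824 (iv7 D218138)))
theorem Q114883 : ∀ i, i < 114883 → P i := stepQ 114882 Q114882 (allL N114882 (tt N103808 F492327) (tt N100500 F492328) (tt N103816 F492322) (tt N85828 F492323) (tt N111760 F492324) (tt N109872 F492325) (tt N85827 (iv6 D218139)) (tt N98089 F492326))
theorem Q114884 : ∀ i, i < 114884 → P i := stepQ 114883 Q114883 (allL N114883 (tt N98103 F492334) (tt N98102 F492333) (tt N98105 F492329) (tt N109872 F492330) (tt N122449 D225708) (tt N85828 (iv5 D218140)) (tt N109870 F492331) (tt N98092 F492332))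
theorem Q114885 : ∀ i, i < 114885 → P i := stepQ 114884 Q114884 (allL N114884 (tt N89699 F492339) (tt N89698 (iv0 F492340)) (tt N85838 F492335) (tt N91732 F492336) (tt N85834 F492337) (tt N113492 (iv5 F492341)) (tt N85833 (iv6 D218141)) (tt N89654 F492338))
theorem Q114886 : ∀ i, i < 114886 → P i := stepQ 114885 Q114885 (allL N114885 (tt N101138 F492346) (tt N98565 (iv0 F492347)) (tt N113783 F492342) (tt N114435 F492343) (tt N109367 F492344) (tt N117133 (iv5 F503558)) (tt N85837 (iv6 D218142)) (tt N91082 F492345))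
theorem Q114887 : ∀ i, i < 114887 → P i := stepQ 114886 Q114886 (allL N114886 (tt N89654 (iv1 F492348)) (tt N85838 (iv0 D218143)) (tt N89699 (iv2 F492356)) (tt N119035 (iv3 F513402)) (tt N120176 (iv4 F519441)) (tt N121511 (iv5 F526773)) (tt N119034 F513400) (tt N89698 F492355))
theorem Q114888 : ∀ i, i < 114888 → P i := stepQ 114887 Q114887 (allL N114887 (tt N85838 (iv1 D218144)) (tt N89654 F492349) (tt N89698 F492352) (tt N89058 (iv3 F492350)) (tt N108074 F492353) (tt N121519 (iv5 F526821)) (tt N107976 (iv6 F492351)) (tt N89699 (iv7 F492354)))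
theorem Q114889 : ∀ i, i < 114889 → P i := stepQ 114888 Q114888 (allL N114888 (tt N89097 (iv1 F492363)) (tt N89099 (iv0 F492361)) (tt N113218 F492357) (tt N85839 (iv3 D218145)) (tt N87050 F492358) (tt N90601 F492362) (tt N101373 F492359) (tt N90802 F492360))
theorem Q114890 : ∀ i, i < 114890 → P i := stepQ 114889 Q114889 (allL N114889 (tt N121169 F524917) (tt N122450 D225709) (tt N121160 (iv2 F524854)) (tt N90601 F492364) (tt N107457 F492367) (tt N85839 (iv5 D218146)) (tt N90602 F492365) (tt N90801 F492366))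
theorem Q114891 : ∀ i, i < 114891 → P i := stepQ 114890 Q114890 (allL N114890 (tt N122450 (iv1 F532180)) (tt N121169 (iv0 F524915)) (tt N90801 F492368) (tt N114827 F492369) (tt N113452 (iv4 F492371)) (tt N85840 (iv5 D218147)) (tt N90805 F492370) (tt N121160 (iv7 F524857)))
theorem Q114892 : ∀ i, i < 114892 → P i := stepQ 114891 Q114891 (allL N114891 (tt N116896 F502405) (tt N103190 F492376) (tt N98686 F492372) (tt N114687 F492373) (tt N85842 (iv4 D218148)) (tt N98055 (iv5 F492377)) (tt N103627 F492374) (tt N98684 F492375))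
theorem Q114893 : ∀ i, i < 114893 → P i := stepQ 114892 Q114892 (allL N114892 (tt N121775 (iv1 F528245)) (tt N121288 (iv0 F525579)) (tt N121776 (iv2 F528250)) (tt N85843 F492379) (tt N122008 (iv4 F529606)) (tt N85842 (iv5 D218149)) (tt N121162 (iv6 F524870)) (tt N114269 F492380))
theorem Q114894 : ∀ i, i < 114894 → P i := stepQ 114893 Q114893 (allL N114893 (tt N85845 (iv1 F492383)) (tt N85843 (iv0 D218150)) (tt N114264 (iv2 F492384)) (tt N118970 (iv3 F513038)) (tt N119609 (iv4 F516495)) (tt N88924 F492381) (tt N89808 F492382) (tt N114265 (iv7 F492385)))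
theorem Q114895 : ∀ i, i < 114895 → P i := stepQ 114894 Q114894 (allL N114894 (tt N85843 (iv1 D218151)) (tt N85845 F492386) (tt N114265 (iv2 F492389)) (tt N122450 F532184) (tt N117209 (iv4 F503920)) (tt N88925 F492388) (tt N114025 (iv6 F492390)) (tt N114264 F492387))
theorem Q114896 : ∀ i, i < 114896 → P i := stepQ 114895 Q114895 (allL N114895 (tt N114779 F492400) (tt N116921 F502507) (tt N114266 F492397) (tt N101431 F492401) (tt N85843 (iv4 D218152)) (tt N101430 F492399) (tt N121163 (iv6 F524875)) (tt N107325 F492398))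
theorem Q114897 : ∀ i, i < 114897 → P i := stepQ 114896 Q114896 (allL N114896 (tt N121956 (iv1 F529288)) (tt N121843 (iv0 F528651)) (tt N121590 (iv2 F527197)) (tt N85845 F492402) (tt N119742 (iv4 F517194)) (tt N85844 (iv5 D218153)) (tt N90850 F492403) (tt N114263 F492404))
theorem Q114898 : ∀ i, i < 114898 → P i := stepQ 114897 Q114897 (allL N114897 (tt N116921 (iv1 F502506)) (tt N114779 F492408) (tt N107325 F492405) (tt N116794 (iv3 F501873)) (tt N85845 (iv4 D218154)) (tt N107318 (iv5 F492409)) (tt N90840 F492406) (tt N114266 F492407))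
theorem Q114899 : ∀ i, i < 114899 → P i := stepQ 114898 Q114898 (allL N114898 (tt N97953 F492415) (tt N105927 F492416) (tt N89857 F492410) (tt N85866 F492411) (tt N114760 F492412) (tt N86008 F492413) (tt N85851 (iv6 D218155)) (tt N114757 F492414))
theorem Q114900 : ∀ i, i < 114900 → P i := stepQ 114899 Q114899 (allL N114899 (tt N85855 (iv1 F492420)) (tt N85852 (iv0 D218156)) (tt N113092 (iv2 F492419)) (tt N118625 (iv3 F511202)) (tt N103018 F492417) (tt N121929 (iv5 F529119)) (tt N103017 F492418) (tt N113093 F492421))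
theorem Q114901 : ∀ i, i < 114901 → P i := stepQ 114900 Q114900 (allL N114900 (tt N89095 F492425) (tt N89090 (iv0 F492426)) (tt N113244 F492427) (tt N85855 (iv3 D218157)) (tt N89678 F492422) (tt N110377 F492423) (tt N117347 (iv6 F504590)) (tt N113090 F492424))
theorem Q114902 : ∀ i, i < 114902 → P i := stepQ 114901 Q114901 (allL N114901 (tt N103116 F492432) (tt N103038 (iv0 F492433)) (tt N113094 F492428) (tt N117347 (iv3 F504589)) (tt N85856 F492429) (tt N109315 F492430) (tt N85855 (iv6 D218158)) (tt N108450 F492431))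
theorem Q114903 : ∀ i, i < 114903 → P i := stepQ 114902 Q114902 (allL N114902 (tt N85858 (iv1 D218159)) (tt N114275 F492434) (tt N105926 F492440) (tt N85879 (iv3 F492437)) (tt N86747 F492436) (tt N97535 (iv5 F492438)) (tt N86745 (iv6 F492439)) (tt N86123 F492435))
theorem Q114904 : ∀ i, i < 114904 → P i := stepQ 114903 Q114903 (allL N114903 (tt N105926 (iv1 F492445)) (tt N86123 F492446) (tt N114275 F492441) (tt N105916 F492442) (tt N108070 F492443) (tt N119508 (iv5 F515970)) (tt N105482 F492444) (tt N85858 (iv7 D218160)))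
theorem Q114905 : ∀ i, i < 114905 → P i := stepQ 114904 Q114904 (allL N114904 (tt N108804 F492450) (tt N112029 F492451) (tt N116515 (iv2 F500561)) (tt N85860 F492447) (tt N88518 F492448) (tt N104921 F492449) (tt N85859 (iv6 D218161)) (tt N116761 (iv7 F501688)))
theorem Q114906 : ∀ i, i < 114906 → P i := stepQ 114905 Q114905 (allL N114905 (tt N105482 (iv1 F492458)) (tt N85860 (iv0 D218162)) (tt N105395 (iv2 F492456)) (tt N85883 F492454) (tt N105394 F492452) (tt N108321 F492453) (tt N108444 F492455) (tt N86146 F492457))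
theorem Q114907 : ∀ i, i < 114907 → P i := stepQ 114906 Q114906 (allL N114906 (tt N86146 (iv1 F492462)) (tt N105395 F492463) (tt N105482 F492459) (tt N116761 (iv3 F501685)) (tt N104387 F492460) (tt N115355 (iv5 F494759)) (tt N114275 F492461) (tt N85860 (iv7 D218163)))
theorem Q114908 : ∀ i, i < 114908 → P i := stepQ 114907 Q114907 (allL N114907 (tt N104512 F492468) (tt N118062 (iv0 F508368)) (tt N98654 F492464) (tt N104490 F492465) (tt N85865 F492466) (tt N97885 (iv5 F492469)) (tt N85864 (iv6 D218164)) (tt N98614 F492467))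
theorem Q114909 : ∀ i, i < 114909 → P i := stepQ 114908 Q114908 (allL N114908 (tt N85867 (iv1 D218165)) (tt N86044 F492470) (tt N86100 F492474) (tt N110480 (iv3 F492473)) (tt N115006 (iv4 F493023)) (tt N91364 F492472) (tt N93524 (iv6 F492475)) (tt N86101 F492471))
theorem Q114910 : ∀ i, i < 114910 → P i := stepQ 114909 Q114909 (allL N114909 (tt N101796 F492481) (tt N121823 F528532) (tt N106153 F492476) (tt N85868 F492477) (tt N104490 F492478) (tt N98221 F492479) (tt N85867 (iv6 D218166)) (tt N106152 F492480))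
theorem Q114911 : ∀ i, i < 114911 → P i := stepQ 114910 Q114910 (allL N114910 (tt N86079 (iv1 F492486)) (tt N86078 F492487) (tt N86081 F492482) (tt N106152 F492483) (tt N85870 F492484) (tt N119059 (iv5 F513559)) (tt N86106 F492485) (tt N85868 (iv7 D218167)))
theorem Q114912 : ∀ i, i < 114912 → P i := stepQ 114911 Q114911 (allL N114911 (tt N86104 (iv1 F492492)) (tt N86103 F492493) (tt N86106 F492488) (tt N115046 F493205) (tt N85874 F492489) (tt N93456 F492490) (tt N86081 F492491) (tt N85872 (iv7 D218168)))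
theorem Q114913 : ∀ i, i < 114913 → P i := stepQ 114912 Q114912 (allL N114912 (tt N118784 (iv1 F512052)) (tt N93437 (iv0 F492495)) (tt N119039 F513434) (tt N85877 F492494) (tt N119027 (iv4 F513359)) (tt N94810 (iv5 F492496)) (tt N85876 (iv6 D218169)) (tt N119040 (iv7 F513437)))
theorem Q114914 : ∀ i, i < 114914 → P i := stepQ 114913 Q114913 (allL N114913 (tt N86120 (iv1 F492501)) (tt N86119 F492502) (tt N86122 F492497) (tt N119040 F513439) (tt N85880 F492498) (tt N112823 F492499) (tt N86142 F492500) (tt N85877 (iv7 D218170)))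
theorem Q114915 : ∀ i, i < 114915 → P i := stepQ 114914 Q114914 (allL N114914 (tt N109053 F492507) (tt N114967 (iv0 F492815)) (tt N86124 F492503) (tt N104119 F492504) (tt N105032 F492505) (tt N85878 (iv5 D218171)) (tt N117418 (iv6 F504945)) (tt N86125 F492506))
theorem Q114916 : ∀ i, i < 114916 → P i := stepQ 114915 Q114915 (allL N114915 (tt N98505 (iv1 F492512)) (tt N86173 (iv0 F492511)) (tt N86126 F492508) (tt N86745 F492509) (tt N119123 (iv4 F513908)) (tt N104757 F492510) (tt N85879 (iv6 D218172)) (tt N117416 (iv7 F504933)))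
theorem Q114917 : ∀ i, i < 114917 → P i := stepQ 114916 Q114916 (allL N114916 (tt N86511 F492518) (tt N86041 F492517) (tt N86144 F492513) (tt N108321 F492514) (tt N115216 (iv4 F494061)) (tt N85883 (iv5 D218173)) (tt N92204 F492515) (tt N86148 F492516))
theorem Q114918 : ∀ i, i < 114918 → P i := stepQ 114917 Q114917 (allL N114917 (tt N86041 F492522) (tt N86511 F492523) (tt N86148 F492519) (tt N91226 F492520) (tt N118059 (iv4 F508349)) (tt N85884 (iv5 D218174)) (tt N86442 F492524) (tt N86144 F492521))
theorem Q114919 : ∀ i, i < 114919 → P i := stepQ 114918 Q114918 (allL N114918 (tt N85888 (iv1 F492529)) (tt N85887 (iv0 D218175)) (tt N85891 (iv2 F492528)) (tt N86154 F492527) (tt N114746 F492526) (tt N86259 F492525) (tt N113649 (iv6 F492531)) (tt N85889 F492530))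
theorem Q114920 : ∀ i, i < 114920 → P i := stepQ 114919 Q114919 (allL N114919 (tt N119132 (iv1 F513963)) (tt N119122 (iv0 F513904)) (tt N109197 F492532) (tt N119143 (iv3 F514012)) (tt N109195 F492533) (tt N96748 (iv5 F492534)) (tt N85887 (iv6 D218176)) (tt N118912 (iv7 F512713)))
theorem Q114921 : ∀ i, i < 114921 → P i := stepQ 114920 Q114920 (allL N114920 (tt N105503 (iv1 F492539)) (tt N105390 (iv0 F492538)) (tt N105511 F492535) (tt N112793 F492536) (tt N116331 (iv4 F499595)) (tt N120861 (iv5 F523138)) (tt N85888 (iv6 D218177)) (tt N105510 F492537))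
theorem Q114922 : ∀ i, i < 114922 → P i := stepQ 114921 Q114921 (allL N114921 (tt N85890 (iv1 D218178)) (tt N86259 F492540) (tt N86257 F492545) (tt N91276 (iv3 F492544)) (tt N90200 F492542) (tt N110550 F492543) (tt N93604 F492546) (tt N86258 F492541))
theorem Q114923 : ∀ i, i < 114923 → P i := stepQ 114922 Q114922 (allL N114922 (tt N86166 (iv1 F492552)) (tt N85892 (iv0 D218179)) (tt N86164 (iv2 F492551)) (tt N93370 F492549) (tt N89018 F492548) (tt N93817 F492547) (tt N107511 F492550) (tt N86165 F492553))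
theorem Q114924 : ∀ i, i < 114924 → P i := stepQ 114923 Q114923 (allL N114923 (tt N85893 (iv1 D218180)) (tt N86061 F492554) (tt N86168 (iv2 F492557)) (tt N110139 (iv3 F492558)) (tt N86184 F492556) (tt N118738 (iv5 F511818)) (tt N122053 (iv6 F529878)) (tt N86167 F492555))
theorem Q114925 : ∀ i, i < 114925 → P i := stepQ 114924 Q114924 (allL N114924 (tt N119119 (iv1 F513887)) (tt N120505 (iv0 F521143)) (tt N86169 F492559) (tt N114748 F492560) (tt N111981 F492562) (tt N85893 (iv5 D218181)) (tt N86263 F492561) (tt N115677 (iv7 F496267)))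
theorem Q114926 : ∀ i, i < 114926 → P i := stepQ 114925 Q114925 (allL N114925 (tt N98194 F492565) (tt N86117 F492566) (tt N86171 F492563) (tt N118250 (iv3 F509368)) (tt N85894 (iv4 D218182)) (tt N120540 (iv5 F521344)) (tt N118246 (iv6 F509346)) (tt N86174 F492564))
theorem Q114927 : ∀ i, i < 114927 → P i := stepQ 114926 Q114926 (allL N114926 (tt N86062 (iv1 F492573)) (tt N100218 (iv0 F492572)) (tt N98518 F492567) (tt N85895 (iv3 D218183)) (tt N86170 F492571) (tt N114762 F492568) (tt N98513 F492569) (tt N86170 F492570))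
theorem Q114928 : ∀ i, i < 114928 → P i := stepQ 114927 Q114927 (allL N114927 (tt N86117 F492578) (tt N98194 F492579) (tt N86174 F492574) (tt N86171 F492575) (tt N85895 (iv4 D218184)) (tt N111985 F492577) (tt N119164 (iv6 F514143)) (tt N86171 F492576))
theorem Q114929 : ∀ i, i < 114929 → P i := stepQ 114928 Q114928 (allL N114928 (tt N109884 (iv1 F492586)) (tt N85898 (iv0 D218185)) (tt N114307 (iv2 F492583)) (tt N114594 F492582) (tt N106316 F492581) (tt N97192 F492580) (tt N109868 F492584) (tt N114597 F492585))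
theorem Q114930 : ∀ i, i < 114930 → P i := stepQ 114929 Q114929 (allL N114929 (tt N114597 (iv1 F492592)) (tt N114307 F492593) (tt N109884 F492587) (tt N85902 F492588) (tt N106171 F492589) (tt N113622 F492590) (tt N86216 F492591) (tt N85898 (iv7 D218186)))
theorem Q114931 : ∀ i, i < 114931 → P i := stepQ 114930 Q114930 (allL N114930 (tt N86084 (iv1 F492599)) (tt N86082 F492600) (tt N86206 F492594) (tt N94780 F492595) (tt N85902 F492596) (tt N94779 F492597) (tt N86219 F492598) (tt N85899 (iv7 D218187)))
theorem Q114932 : ∀ i, i < 114932 → P i := stepQ 114931 Q114931 (allL N114931 (tt N96033 F492605) (tt N114476 F492606) (tt N86218 F492601) (tt N100134 F492602) (tt N109336 F492604) (tt N85904 (iv5 D218188)) (tt N89013 F492603) (tt N110199 (iv7 F492607)))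
theorem Q114933 : ∀ i, i < 114933 → P i := stepQ 114932 Q114932 (allL N114932 (tt N86109 (iv1 F492613)) (tt N86107 F492614) (tt N86219 F492608) (tt N110200 F492609) (tt N85907 F492610) (tt N110199 F492611) (tt N86206 F492612) (tt N85904 (iv7 D218189)))
theorem Q114934 : ∀ i, i < 114934 → P i := stepQ 114933 Q114933 (allL N114933 (tt N86159 (iv1 F492617)) (tt N85914 (iv0 D218190)) (tt N86161 (iv2 F492616)) (tt N118135 F508792) (tt N90229 F492615) (tt N117481 (iv5 F505257)) (tt N119299 (iv6 F514907)) (tt N86160 F492618))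
theorem Q114935 : ∀ i, i < 114935 → P i := stepQ 114934 Q114934 (allL N114934 (tt N90022 F492622) (tt N117236 (iv0 F504056)) (tt N86268 F492619) (tt N119990 F518424) (tt N107765 F492620) (tt N89612 F492621) (tt N85916 (iv6 D218191)) (tt N121597 (iv7 F527246)))
theorem Q114936 : ∀ i, i < 114936 → P i := stepQ 114935 Q114935 (allL N114935 (tt N98491 F492627) (tt N114566 F492628) (tt N97981 F492623) (tt N98511 F492624) (tt N85924 (iv4 D218192)) (tt N97979 F492626) (tt N114533 F492629) (tt N97982 F492625))
theorem Q114937 : ∀ i, i < 114937 → P i := stepQ 114936 Q114936 (allL N114936 (tt N109768 F492633) (tt N109702 (iv0 F492634)) (tt N107486 F492630) (tt N120437 (iv3 F520781)) (tt N114533 F492631) (tt N107403 F492632) (tt N85924 (iv6 D218193)) (tt N109766 (iv7 F492635)))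
theorem Q114938 : ∀ i, i < 114938 → P i := stepQ 114937 Q114937 (allL N114937 (tt N114566 F492642) (tt N98491 F492640) (tt N97982 F492636) (tt N105854 F492637) (tt N85925 (iv4 D218194)) (tt N97980 F492638) (tt N100227 F492641) (tt N97981 F492639))
theorem Q114939 : ∀ i, i < 114939 → P i := stepQ 114938 Q114938 (allL N114938 (tt N90447 F492646) (tt N111195 (iv0 F492647)) (tt N107002 F492643) (tt N120277 (iv3 F519976)) (tt N100227 F492644) (tt N105104 F492645) (tt N85925 (iv6 D218195)) (tt N121133 (iv7 F524693)))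
theorem Q114940 : ∀ i, i < 114940 → P i := stepQ 114939 Q114939 (allL N114939 (tt N113097 F492653) (tt N122244 (iv0 F530981)) (tt N113238 F492648) (tt N89673 F492649) (tt N85929 (iv4 D218196)) (tt N113939 F492652) (tt N89672 F492650) (tt N86331 F492651))
theorem Q114941 : ∀ i, i < 114941 → P i := stepQ 114940 Q114940 (allL N114940 (tt N117611 F505993) (tt N89442 F492659) (tt N86344 F492654) (tt N96088 F492655) (tt N85930 (iv4 D218197)) (tt N112214 F492658) (tt N89501 F492656) (tt N86337 F492657))
theorem Q114942 : ∀ i, i < 114942 → P i := stepQ 114941 Q114941 (allL N114941 (tt N114304 (iv1 F492664)) (tt N85934 (iv0 D218198)) (tt N114403 (iv2 F492663)) (tt N90141 (iv3 F492666)) (tt N98391 F492661) (tt N122432 (iv5 F532065)) (tt N105009 F492662) (tt N114404 F492665))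
theorem Q114943 : ∀ i, i < 114943 → P i := stepQ 114942 Q114942 (allL N114942 (tt N86707 (iv1 F492671)) (tt N85936 (iv0 D218199)) (tt N86705 (iv2 F492670)) (tt N106328 (iv3 F492673)) (tt N114473 F492667) (tt N109697 F492669) (tt N112660 F492668) (tt N86706 F492672))
theorem Q114944 : ∀ i, i < 114944 → P i := stepQ 114943 Q114943 (allL N114943 (tt N110040 (iv1 F492680)) (tt N85937 (iv0 D218200)) (tt N95698 (iv2 F492679)) (tt N109358 F492676) (tt N96682 F492675) (tt N109231 F492674) (tt N95674 F492678) (tt N110039 F492681))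
theorem Q114945 : ∀ i, i < 114945 → P i := stepQ 114944 Q114944 (allL N114944 (tt N114348 (iv1 F492686)) (tt N85944 (iv0 D218201)) (tt N91031 (iv2 F492687)) (tt N85972 F492684) (tt N97537 F492683) (tt N114875 F492682) (tt N97536 F492685) (tt N114349 (iv7 F492688)))
theorem Q114946 : ∀ i, i < 114946 → P i := stepQ 114945 Q114945 (allL N114945 (tt N85944 (iv1 D218202)) (tt N114348 F492689) (tt N114349 F492695) (tt N85949 (iv3 F492693)) (tt N97550 F492692) (tt N86767 F492691) (tt N105902 (iv6 F492694)) (tt N91031 F492690))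
theorem Q114947 : ∀ i, i < 114947 → P i := stepQ 114946 Q114946 (allL N114946 (tt N86766 F492701) (tt N86760 F492702) (tt N113626 F492696) (tt N85947 F492697) (tt N87559 F492700) (tt N85945 (iv5 D218203)) (tt N87557 F492698) (tt N86671 F492699))
theorem Q114948 : ∀ i, i < 114948 → P i := stepQ 114947 Q114947 (allL N114947 (tt N89185 F492706) (tt N89153 F492707) (tt N89179 F492703) (tt N90171 F492704) (tt N107127 F492708) (tt N85948 (iv5 D218204)) (tt N89124 F492709) (tt N89128 F492705))
theorem Q114949 : ∀ i, i < 114949 → P i := stepQ 114948 Q114948 (allL N114948 (tt N104760 F492715) (tt N104768 F492716) (tt N104766 F492710) (tt N98241 F492711) (tt N111551 F492712) (tt N85954 (iv5 D218205)) (tt N98196 F492713) (tt N104074 F492714))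
theorem Q114950 : ∀ i, i < 114950 → P i := stepQ 114949 Q114949 (allL N114949 (tt N98740 F492720) (tt N114425 F492721) (tt N91040 F492717) (tt N97856 F492718) (tt N85961 (iv4 D218206)) (tt N117304 (iv5 F504375)) (tt N118001 (iv6 F508015)) (tt N114368 F492719))
theorem Q114951 : ∀ i, i < 114951 → P i := stepQ 114950 Q114950 (allL N114950 (tt N120909 F523409) (tt N120887 (iv0 F523297)) (tt N118666 (iv2 F511426)) (tt N85962 (iv3 D218207)) (tt N85967 F492722) (tt N116910 (iv5 F502457)) (tt N103832 F492723) (tt N114370 F492724))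
theorem Q114952 : ∀ i, i < 114952 → P i := stepQ 114951 Q114951 (allL N114951 (tt N85967 (iv1 D218208)) (tt N88740 F492729) (tt N88742 (iv2 F492726)) (tt N105266 (iv3 F492727)) (tt N120900 (iv4 F523370)) (tt N122374 (iv5 F531720)) (tt N107035 (iv6 F492728)) (tt N88737 F492725))
theorem Q114953 : ∀ i, i < 114953 → P i := stepQ 114952 Q114952 (allL N114952 (tt N88737 (iv1 F492735)) (tt N88742 F492734) (tt N85967 (iv2 D218209)) (tt N105086 F492730) (tt N118666 (iv4 F511428)) (tt N113740 F492731) (tt N105085 F492732) (tt N88740 F492733))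
theorem Q114954 : ∀ i, i < 114954 → P i := stepQ 114953 Q114953 (allL N114953 (tt N112027 F492738) (tt N113584 F492739) (tt N114961 (iv2 F492775)) (tt N107650 F492736) (tt N120255 (iv4 F519840)) (tt N85983 (iv5 D218210)) (tt N109771 F492740) (tt N107648 F492737))
theorem Q114955 : ∀ i, i < 114955 → P i := stepQ 114954 Q114954 (allL N114954 (tt N92227 F492744) (tt N92232 F492745) (tt N114962 (iv2 F492781)) (tt N113186 F492741) (tt N85984 F492742) (tt N113184 F492743) (tt N85983 (iv6 D218211)) (tt N120111 (iv7 F519105)))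
theorem Q114956 : ∀ i, i < 114956 → P i := stepQ 114955 Q114955 (allL N114955 (tt N117989 (iv1 F507943)) (tt N102403 F492751) (tt N113578 F492746) (tt N92172 F492747) (tt N104395 F492750) (tt N85991 (iv5 D218212)) (tt N102079 F492748) (tt N114392 F492749))
theorem Q114957 : ∀ i, i < 114957 → P i := stepQ 114956 Q114956 (allL N114956 (tt N116748 (iv1 F501618)) (tt N100623 (iv0 F492755)) (tt N116720 (iv2 F501489)) (tt N85995 (iv3 D218213)) (tt N114441 F492752) (tt N122218 (iv5 F530841)) (tt N100219 F492753) (tt N114477 F492754))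
theorem Q114958 : ∀ i, i < 114958 → P i := stepQ 114957 Q114957 (allL N114957 (tt N117266 (iv1 F504189)) (tt N113977 F492758) (tt N114424 F492756) (tt N122218 (iv3 F530842)) (tt N116739 (iv4 F501574)) (tt N85995 (iv5 D218214)) (tt N122235 (iv6 F530927)) (tt N113600 F492757))
theorem Q114959 : ∀ i, i < 114959 → P i := stepQ 114958 Q114958 (allL N114958 (tt N121941 F529202) (tt N122451 D225710) (tt N121946 (iv2 F529227)) (tt N88391 F492759) (tt N113490 F492760) (tt N100216 F492761) (tt N85999 (iv6 D218215)) (tt N116747 (iv7 F501616)))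
theorem Q114960 : ∀ i, i < 114960 → P i := stepQ 114959 Q114959 (allL N114959 (tt N105835 F492767) (tt N105839 F492768) (tt N86532 F492762) (tt N114846 F492763) (tt N86000 (iv4 D218216)) (tt N97050 F492766) (tt N104210 F492764) (tt N86534 F492765))
theorem Q114961 : ∀ i, i < 114961 → P i := stepQ 114960 Q114960 (allL N114960 (tt N100819 F492772) (tt N90403 (iv0 F492773)) (tt N101014 F492769) (tt N86004 (iv3 D218217)) (tt N109187 F492770) (tt N100314 F492774) (tt N122452 D225711) (tt N101015 F492771))
theorem Q114962 : ∀ i, i < 114962 → P i := stepQ 114961 Q114961 (allL N114961 (tt N90056 F492779) (tt N112033 F492780) (tt N114953 F492775) (tt N100314 F492776) (tt N109771 F492778) (tt N86004 (iv5 D218218)) (tt N120255 (iv6 F519842)) (tt N104145 F492777))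
theorem Q114963 : ∀ i, i < 114963 → P i := stepQ 114962 Q114962 (allL N114962 (tt N106896 F492784) (tt N117743 (iv0 F506747)) (tt N114954 F492781) (tt N122452 (iv3 F532195)) (tt N109186 F492782) (tt N113343 (iv5 F492785)) (tt N86004 (iv6 D218219)) (tt N109368 F492783))
theorem Q114964 : ∀ i, i < 114964 → P i := stepQ 114963 Q114963 (allL N114963 (tt N102706 (iv1 F492790)) (tt N86006 (iv0 D218220)) (tt N104658 (iv2 F492789)) (tt N102690 F492788) (tt N95969 F492787) (tt N105352 F492786) (tt N118423 (iv6 F510271)) (tt N104851 F492791))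
theorem Q114965 : ∀ i, i < 114965 → P i := stepQ 114964 Q114964 (allL N114964 (tt N86008 (iv1 D218221)) (tt N104946 F492792) (tt N104948 F492796) (tt N105824 (iv3 F492795)) (tt N120962 (iv4 F523729)) (tt N87641 F492794) (tt N105823 F492797) (tt N104945 F492793))
theorem Q114966 : ∀ i, i < 114966 → P i := stepQ 114965 Q114965 (allL N114965 (tt N104948 (iv1 F492802)) (tt N104945 F492803) (tt N104946 F492798) (tt N86010 F492799) (tt N120491 (iv4 F521052)) (tt N114757 F492800) (tt N108322 F492801) (tt N86008 (iv7 D218222)))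
theorem Q114967 : ∀ i, i < 114967 → P i := stepQ 114966 Q114966 (allL N114966 (tt N97862 F492808) (tt N102390 F492809) (tt N86575 F492804) (tt N105925 F492810) (tt N86017 (iv4 D218223)) (tt N103450 F492805) (tt N102388 F492806) (tt N92710 F492807))
theorem Q114968 : ∀ i, i < 114968 → P i := stepQ 114967 Q114967 (allL N114967 (tt N114914 F492815) (tt N114440 (iv0 F492816)) (tt N102953 F492811) (tt N111180 F492812) (tt N108374 F492813) (tt N111178 F492814) (tt N86019 (iv6 D218224)) (tt N115016 (iv7 F493069)))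
theorem Q114969 : ∀ i, i < 114969 → P i := stepQ 114968 Q114968 (allL N114968 (tt N86024 (iv1 F492821)) (tt N86023 (iv0 D218225)) (tt N86027 (iv2 F492820)) (tt N114438 (iv3 F492823)) (tt N92940 F492818) (tt N113508 F492817) (tt N92939 F492819) (tt N86025 F492822))
theorem Q114970 : ∀ i, i < 114970 → P i := stepQ 114969 Q114969 (allL N114969 (tt N106981 F492827) (tt N106073 (iv0 F492828)) (tt N106951 F492824) (tt N86023 (iv3 D218226)) (tt N120873 F523208) (tt N121887 (iv5 F528913)) (tt N101756 F492825) (tt N106979 F492826))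
theorem Q114971 : ∀ i, i < 114971 → P i := stepQ 114970 Q114970 (allL N114970 (tt N113974 F492832) (tt N110168 F492833) (tt N86026 F492829) (tt N113983 F492830) (tt N116969 (iv4 F502757)) (tt N86025 (iv5 D218227)) (tt N120721 (iv6 F522344)) (tt N113508 F492831))
theorem Q114972 : ∀ i, i < 114972 → P i := stepQ 114971 Q114971 (allL N114971 (tt N86028 (iv1 D218228)) (tt N113986 F492834) (tt N113985 (iv2 F492838)) (tt N116562 (iv3 F500751)) (tt N88572 F492837) (tt N111563 F492836) (tt N112283 F492839) (tt N112099 F492835))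
theorem Q114973 : ∀ i, i < 114973 → P i := stepQ 114972 Q114972 (allL N114972 (tt N113985 (iv1 F492845)) (tt N112099 F492846) (tt N113986 F492840) (tt N113506 F492841) (tt N90824 F492842) (tt N112385 F492843) (tt N113505 F492844) (tt N86028 (iv7 D218229)))
theorem Q114974 : ∀ i, i < 114974 → P i := stepQ 114973 Q114973 (allL N114973 (tt N92825 F492850) (tt N92823 F492851) (tt N98310 F492847) (tt N121158 (iv3 F524844)) (tt N86033 (iv4 D218230)) (tt N110331 F492849) (tt N110332 F492852) (tt N98291 F492848))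
theorem Q114975 : ∀ i, i < 114975 → P i := stepQ 114974 Q114974 (allL N114974 (tt N109641 F492858) (tt N104064 (iv0 F492859)) (tt N98311 F492853) (tt N86035 F492854) (tt N110332 F492855) (tt N97929 F492856) (tt N86033 (iv6 D218231)) (tt N113108 F492857))
theorem Q114976 : ∀ i, i < 114976 → P i := stepQ 114975 Q114975 (allL N114975 (tt N110465 (iv1 F492863)) (tt N110464 F492864) (tt N109352 F492860) (tt N86034 (iv3 D218232)) (tt N121158 (iv4 F524843)) (tt N109351 F492861) (tt N116031 (iv6 F498142)) (tt N98295 F492862))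
theorem Q114977 : ∀ i, i < 114977 → P i := stepQ 114976 Q114976 (allL N114976 (tt N86035 (iv1 D218233)) (tt N86108 F492865) (tt N98048 F492870) (tt N98261 (iv3 F492868)) (tt N119183 (iv4 F514243)) (tt N109053 F492867) (tt N86071 (iv6 F492869)) (tt N114569 F492866))
theorem Q114978 : ∀ i, i < 114978 → P i := stepQ 114977 Q114977 (allL N114977 (tt N121828 (iv1 F528565)) (tt N86493 (iv0 F492875)) (tt N86510 F492871) (tt N86560 F492872) (tt N86041 (iv4 D218234)) (tt N86558 F492874) (tt N86043 F492873) (tt N121827 (iv7 F528559)))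
theorem Q114979 : ∀ i, i < 114979 → P i := stepQ 114978 Q114978 (allL N114978 (tt N115046 (iv1 F493202)) (tt N86046 (iv0 D218235)) (tt N96428 (iv2 F492879)) (tt N119185 (iv3 F514253)) (tt N114468 F492877) (tt N93517 F492876) (tt N96424 F492878) (tt N86076 F492880))
theorem Q114980 : ∀ i, i < 114980 → P i := stepQ 114979 Q114979 (allL N114979 (tt N86076 (iv1 F492884)) (tt N96428 F492885) (tt N115046 (iv2 F493206)) (tt N93419 F492881) (tt N86048 F492882) (tt N93418 F492883) (tt N122048 (iv6 F529846)) (tt N86046 (iv7 D218236)))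
theorem Q114981 : ∀ i, i < 114981 → P i := stepQ 114980 Q114980 (allL N114980 (tt N86174 F492890) (tt N86171 (iv0 F492891)) (tt N98194 F492886) (tt N99336 F492887) (tt N98172 F492888) (tt N119195 (iv5 F514304)) (tt N86049 (iv6 D218237)) (tt N86117 F492889))
theorem Q114982 : ∀ i, i < 114982 → P i := stepQ 114981 Q114981 (allL N114981 (tt N94519 F492896) (tt N94538 (iv0 F492897)) (tt N94540 F492892) (tt N86118 F492893) (tt N115052 (iv4 F493238)) (tt N112633 F492894) (tt N86050 (iv6 D218238)) (tt N94535 F492895))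
theorem Q114983 : ∀ i, i < 114983 → P i := stepQ 114982 Q114982 (allL N114982 (tt N101367 (iv1 F492902)) (tt N101061 F492903) (tt N101366 F492898) (tt N120882 (iv3 F523263)) (tt N86060 F492899) (tt N114506 F492900) (tt N105027 F492901) (tt N86057 (iv7 D218239)))
theorem Q114984 : ∀ i, i < 114984 → P i := stepQ 114983 Q114983 (allL N114983 (tt N86173 F492907) (tt N98505 (iv0 F492908)) (tt N117416 (iv2 F504930)) (tt N114474 F492904) (tt N119207 (iv4 F514358)) (tt N102846 F492905) (tt N86058 (iv6 D218240)) (tt N86126 F492906))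
theorem Q114985 : ∀ i, i < 114985 → P i := stepQ 114984 Q114984 (allL N114984 (tt N120505 F521144) (tt N119119 (iv0 F513886)) (tt N115677 (iv2 F496263)) (tt N108165 F492910) (tt N110597 F492911) (tt N86061 (iv5 D218241)) (tt N108164 F492912) (tt N86169 F492913))
theorem Q114986 : ∀ i, i < 114986 → P i := stepQ 114985 Q114985 (allL N114985 (tt N100218 (iv1 F492917)) (tt N86062 (iv0 D218242)) (tt N86170 (iv2 F492916)) (tt N98524 (iv3 F492919)) (tt N98518 F492915) (tt N109658 F492914) (tt N98517 (iv6 F492920)) (tt N98518 F492918))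
theorem Q114987 : ∀ i, i < 114987 → P i := stepQ 114986 Q114986 (allL N114986 (tt N86066 (iv1 F492924)) (tt N86063 (iv0 D218243)) (tt N86064 (iv2 F492925)) (tt N100302 F492922) (tt N118444 (iv4 F510389)) (tt N100301 F492921) (tt N98651 F492923) (tt N86065 (iv7 F492926)))
theorem Q114988 : ∀ i, i < 114988 → P i := stepQ 114987 Q114987 (allL N114987 (tt N86063 (iv1 D218244)) (tt N86066 F492927) (tt N86065 F492933) (tt N98286 (iv3 F492931)) (tt N109085 F492929) (tt N94138 F492930) (tt N109084 (iv6 F492932)) (tt N86064 F492928))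
theorem Q114989 : ∀ i, i < 114989 → P i := stepQ 114988 Q114988 (allL N114988 (tt N109418 (iv1 F492935)) (tt N86068 (iv0 D218245)) (tt N110550 (iv2 F492936)) (tt N110465 (iv3 F492937)) (tt N121191 (iv4 F525048)) (tt N86257 F492934) (tt N122453 D225712) (tt N110551 (iv7 F492938)))
theorem Q114990 : ∀ i, i < 114990 → P i := stepQ 114989 Q114989 (allL N114989 (tt N86068 (iv1 D218246)) (tt N109418 F492939) (tt N110551 F492943) (tt N91401 F492945) (tt N109778 (iv4 F492942)) (tt N86258 F492941) (tt N109777 F492944) (tt N110550 F492940))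
theorem Q114991 : ∀ i, i < 114991 → P i := stepQ 114990 Q114990 (allL N114990 (tt N98674 F492949) (tt N86097 (iv0 F492950)) (tt N117926 (iv2 F507633)) (tt N86070 (iv3 D218247)) (tt N119560 (iv4 F516252)) (tt N100772 F492946) (tt N111004 F492947) (tt N98050 F492948))
theorem Q114992 : ∀ i, i < 114992 → P i := stepQ 114991 Q114991 (allL N114991 (tt N109653 (iv1 F492955)) (tt N117481 F505260) (tt N86073 (iv2 D218248)) (tt N109418 F492951) (tt N114501 F492952) (tt N89589 F492953) (tt N117500 (iv6 F505359)) (tt N110548 F492954))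
theorem Q114993 : ∀ i, i < 114993 → P i := stepQ 114992 Q114992 (allL N114992 (tt N96440 (iv1 F492957)) (tt N86075 (iv0 D218249)) (tt N94806 (iv2 F492958)) (tt N110481 (iv3 F492959)) (tt N105500 (iv4 F492961)) (tt N90001 F492956) (tt N101402 F492960) (tt N115043 (iv7 F493190)))
theorem Q114994 : ∀ i, i < 114994 → P i := stepQ 114993 Q114993 (allL N114993 (tt N86075 (iv1 D218250)) (tt N96440 (iv0 F492965)) (tt N115043 F493188) (tt N94807 (iv3 F492963)) (tt N116734 (iv4 F501558)) (tt N90002 F492964) (tt N119189 (iv6 F514270)) (tt N94806 F492962))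
theorem Q114995 : ∀ i, i < 114995 → P i := stepQ 114994 Q114994 (allL N114994 (tt N94806 (iv1 F492969)) (tt N115043 F493189) (tt N86075 (iv2 D218251)) (tt N96445 F492966) (tt N122454 D225713) (tt N94620 F492967) (tt N119188 (iv6 F514267)) (tt N96440 F492968))
theorem Q114996 : ∀ i, i < 114996 → P i := stepQ 114995 Q114995 (allL N114995 (tt N121951 (iv1 F529259)) (tt N121952 (iv0 F529263)) (tt N122454 (iv2 F532208)) (tt N114289 F492970) (tt N86075 (iv4 D218252)) (tt N122424 (iv5 F532022)) (tt N116338 F499622) (tt N114488 F492971))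
theorem Q114997 : ∀ i, i < 114997 → P i := stepQ 114996 Q114996 (allL N114996 (tt N119187 (iv1 F514260)) (tt N119186 (iv0 F514259)) (tt N119188 (iv2 F514265)) (tt N86076 F492972) (tt N116338 F499621) (tt N108914 (iv5 F492973)) (tt N86075 (iv6 D218253)) (tt N119185 (iv7 F514255)))
theorem Q114998 : ∀ i, i < 114998 → P i := stepQ 114997 Q114997 (allL N114997 (tt N101402 F492978) (tt N101401 (iv0 F492979)) (tt N101068 F492974) (tt N86079 (iv3 D218254)) (tt N105413 F492975) (tt N104455 F492976) (tt N113642 (iv6 F492980)) (tt N101403 F492977))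
theorem Q114999 : ∀ i, i < 114999 → P i := stepQ 114998 Q114998 (allL N114998 (tt N114568 (iv1 F492985)) (tt N114570 (iv0 F492984)) (tt N101396 F492981) (tt N113642 F492982) (tt N114337 F492983) (tt N122085 (iv5 F530067)) (tt N86079 (iv6 D218255)) (tt N116148 (iv7 F498750)))
theorem Q115000 : ∀ i, i < 115000 → P i := stepQ 114999 Q114999 (allL N114999 (tt N112830 F492990) (tt N96707 F492989) (tt N112832 F492986) (tt N120285 F520029) (tt N105988 F492987) (tt N86084 (iv5 D218256)) (tt N108096 (iv6 F492991)) (tt N91697 F492988))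
theorem Q115001 : ∀ i, i < 115001 → P i := stepQ 115000 Q115000 (allL N115000 (tt N119124 F513917) (tt N118975 F513072) (tt N113876 F492992) (tt N119214 (iv3 F514400)) (tt N86086 F492993) (tt N122148 (iv5 F530437)) (tt N86084 (iv6 D218257)) (tt N119126 (iv7 F513929)))
theorem Q115002 : ∀ i, i < 115002 → P i := stepQ 115001 Q115001 (allL N115001 (tt N114687 F492996) (tt N114581 F492999) (tt N116749 (iv2 F501622)) (tt N86087 (iv3 D218258)) (tt N114477 F492994) (tt N114551 (iv5 F492997)) (tt N88938 (iv6 F492998)) (tt N114441 F492995))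
theorem Q115003 : ∀ i, i < 115003 → P i := stepQ 115002 Q115002 (allL N115002 (tt N114312 F493004) (tt N114577 F493005) (tt N114583 F493000) (tt N114551 F493001) (tt N86137 F493002) (tt N86087 (iv5 D218259)) (tt N122455 D225714) (tt N114442 F493003))
theorem Q115004 : ∀ i, i < 115004 → P i := stepQ 115003 Q115003 (allL N115003 (tt N119571 (iv1 F516317)) (tt N98587 (iv0 F493009)) (tt N116899 (iv2 F502416)) (tt N88938 F493006) (tt N86088 F493007) (tt N119142 (iv5 F514010)) (tt N86087 (iv6 D218260)) (tt N103191 F493008))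
theorem Q115005 : ∀ i, i < 115005 → P i := stepQ 115004 Q115004 (allL N115004 (tt N91258 F493014) (tt N91255 (iv0 F493015)) (tt N93568 F493010) (tt N86091 (iv3 D218261)) (tt N106659 F493011) (tt N87947 F493012) (tt N122456 D225715) (tt N91632 F493013))
theorem Q115006 : ∀ i, i < 115006 → P i := stepQ 115005 Q115005 (allL N115005 (tt N108482 F493019) (tt N108933 (iv0 F493020)) (tt N91631 F493016) (tt N122456 (iv3 F532222)) (tt N94999 F493017) (tt N87949 F493018) (tt N86091 (iv6 D218262)) (tt N121697 (iv7 F527809)))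
theorem Q115007 : ∀ i, i < 115007 → P i := stepQ 115006 Q115006 (allL N115006 (tt N121604 (iv1 F527288)) (tt N111176 F493026) (tt N114579 F493021) (tt N109174 F493022) (tt N114908 F493023) (tt N86096 (iv5 D218263)) (tt N109171 F493024) (tt N114580 F493025))
theorem Q115008 : ∀ i, i < 115008 → P i := stepQ 115007 Q115007 (allL N115007 (tt N110482 (iv1 F493030)) (tt N110481 F493031) (tt N109357 F493027) (tt N86101 (iv3 D218264)) (tt N117719 (iv4 F506605)) (tt N109356 F493028) (tt N118681 (iv6 F511517)) (tt N110480 F493029))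
theorem Q115009 : ∀ i, i < 115009 → P i := stepQ 115008 Q115008 (allL N115008 (tt N94761 F493036) (tt N94755 F493037) (tt N96454 F493032) (tt N118681 (iv3 F511515)) (tt N103741 F493033) (tt N94848 (iv5 F493035)) (tt N86101 (iv6 D218265)) (tt N108686 F493034))
theorem Q115010 : ∀ i, i < 115010 → P i := stepQ 115009 Q115009 (allL N115009 (tt N117521 F505495) (tt N93594 F493038) (tt N118373 F510000) (tt N120025 (iv3 F518624)) (tt N99295 F493039) (tt N86107 (iv5 D218266)) (tt N95165 F493040) (tt N120023 (iv7 F518610)))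
theorem Q115011 : ∀ i, i < 115011 → P i := stepQ 115010 Q115010 (allL N115010 (tt N122453 F532207) (tt N118437 (iv0 F510352)) (tt N110467 F493041) (tt N86109 (iv3 D218267)) (tt N120778 (iv4 F522655)) (tt N118370 (iv5 F509981)) (tt N98295 F493042) (tt N118374 (iv7 F510003)))
theorem Q115012 : ∀ i, i < 115012 → P i := stepQ 115011 Q115011 (allL N115011 (tt N93594 F493044) (tt N117521 (iv0 F505494)) (tt N120023 (iv2 F518615)) (tt N118370 F509977) (tt N99296 F493043) (tt N86109 (iv5 D218268)) (tt N118347 (iv6 F509831)) (tt N118373 (iv7 F509996)))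
theorem Q115013 : ∀ i, i < 115013 → P i := stepQ 115012 Q115012 (allL N115012 (tt N122064 F529949) (tt N122075 (iv0 F530014)) (tt N115039 (iv2 F493165)) (tt N94891 F493045) (tt N112009 F493047) (tt N86117 (iv5 D218269)) (tt N90012 F493046) (tt N119195 (iv7 F514306)))
theorem Q115014 : ∀ i, i < 115014 → P i := stepQ 115013 Q115013 (allL N115013 (tt N86118 (iv1 D218270)) (tt N112628 F493048) (tt N100914 (iv2 F493052)) (tt N94526 (iv3 F493053)) (tt N89466 F493051) (tt N100913 F493050) (tt N117611 (iv6 F505989)) (tt N89464 F493049))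
theorem Q115015 : ∀ i, i < 115015 → P i := stepQ 115014 Q115014 (allL N115014 (tt N100914 (iv1 F493059)) (tt N89464 F493060) (tt N112628 F493054) (tt N94535 F493055) (tt N86251 F493056) (tt N87025 F493057) (tt N94534 F493058) (tt N86118 (iv7 D218271)))
theorem Q115016 : ∀ i, i < 115016 → P i := stepQ 115015 Q115015 (allL N115015 (tt N118241 (iv1 F509322)) (tt N118246 F509347) (tt N104767 F493061) (tt N119114 (iv3 F513858)) (tt N104760 F493062) (tt N92874 F493063) (tt N86120 (iv6 D218272)) (tt N118245 F509340))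
theorem Q115017 : ∀ i, i < 115017 → P i := stepQ 115016 Q115016 (allL N115016 (tt N86125 (iv1 F493068)) (tt N86124 (iv0 D218273)) (tt N109053 (iv2 F493067)) (tt N97914 F493065) (tt N115801 (iv4 F496964)) (tt N98048 F493064) (tt N97912 F493066) (tt N114967 F493069))
theorem Q115018 : ∀ i, i < 115018 → P i := stepQ 115017 Q115017 (allL N115017 (tt N119530 F516091) (tt N86131 (iv0 D218274)) (tt N119555 (iv2 F516222)) (tt N118665 (iv3 F511421)) (tt N104000 F493070) (tt N118119 (iv5 F508707)) (tt N98507 F493071) (tt N119671 (iv7 F516831)))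
theorem Q115019 : ∀ i, i < 115019 → P i := stepQ 115018 Q115018 (allL N115018 (tt N86131 (iv1 D218275)) (tt N119530 (iv0 F516089)) (tt N119671 (iv2 F516836)) (tt N103826 (iv3 F493074)) (tt N98213 F493072) (tt N104449 F493073) (tt N98212 (iv6 F493075)) (tt N119555 (iv7 F516225)))
theorem Q115020 : ∀ i, i < 115020 → P i := stepQ 115019 Q115019 (allL N115019 (tt N118250 F509372) (tt N118250 (iv0 F509371)) (tt N120772 (iv2 F522632)) (tt N115919 (iv3 F497581)) (tt N122455 (iv4 F532217)) (tt N115918 (iv5 F497579)) (tt N86137 (iv6 D218276)) (tt N120772 (iv7 F522634)))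
theorem Q115021 : ∀ i, i < 115021 → P i := stepQ 115020 Q115020 (allL N115020 (tt N86138 (iv1 D218277)) (tt N120882 (iv0 F523267)) (tt N119161 (iv2 F514118)) (tt N112034 (iv3 F493078)) (tt N118127 (iv4 F508746)) (tt N113316 F493077) (tt N118784 (iv6 F512049)) (tt N113315 F493076))
theorem Q115022 : ∀ i, i < 115022 → P i := stepQ 115021 Q115021 (allL N115021 (tt N122053 (iv1 F529881)) (tt N118293 (iv0 F509565)) (tt N119228 (iv2 F514479)) (tt N117506 (iv3 F505398)) (tt N86145 F493079) (tt N114476 F493080) (tt N86143 (iv6 D218278)) (tt N118637 (iv7 F511273)))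
theorem Q115023 : ∀ i, i < 115023 → P i := stepQ 115022 Q115022 (allL N115022 (tt N115268 (iv1 F494291)) (tt N86517 F493082) (tt N115216 (iv2 F494065)) (tt N113933 F493081) (tt N86144 (iv4 D218279)) (tt N118060 (iv5 F508355)) (tt N117353 (iv6 F504627)) (tt N118059 (iv7 F508347)))
theorem Q115024 : ∀ i, i < 115024 → P i := stepQ 115023 Q115023 (allL N115023 (tt N93147 F493089) (tt N114820 F493088) (tt N105483 F493083) (tt N86148 F493084) (tt N103986 F493087) (tt N86146 (iv5 D218280)) (tt N86595 F493085) (tt N108321 F493086))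
theorem Q115025 : ∀ i, i < 115025 → P i := stepQ 115024 Q115024 (allL N115024 (tt N105511 F493093) (tt N105510 F493094) (tt N105390 F493090) (tt N86147 (iv3 D218281)) (tt N105387 F493091) (tt N120261 (iv5 F519875)) (tt N119138 (iv6 F513997)) (tt N105503 F493092))
theorem Q115026 : ∀ i, i < 115026 → P i := stepQ 115025 Q115025 (allL N115025 (tt N86517 F493096) (tt N115268 (iv0 F494292)) (tt N118059 F508350) (tt N115146 F493711) (tt N86148 (iv4 D218282)) (tt N115360 (iv5 F494789)) (tt N86596 F493095) (tt N115216 (iv7 F494063)))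
theorem Q115027 : ∀ i, i < 115027 → P i := stepQ 115026 Q115026 (allL N115026 (tt N86455 F493101) (tt N86699 (iv0 F493102)) (tt N86565 F493097) (tt N86516 F493098) (tt N86150 (iv4 D218283)) (tt N86515 F493099) (tt N115706 (iv6 F496423)) (tt N86563 F493100))
theorem Q115028 : ∀ i, i < 115028 → P i := stepQ 115027 Q115027 (allL N115027 (tt N86503 (iv1 F493106)) (tt N86559 F493107) (tt N86561 F493103) (tt N120271 F519942) (tt N86152 F493104) (tt N118061 (iv5 F508360)) (tt N86581 F493105) (tt N86151 (iv7 D218284)))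
theorem Q115029 : ∀ i, i < 115029 → P i := stepQ 115028 Q115028 (allL N115028 (tt N89477 F493111) (tt N120961 (iv0 F523725)) (tt N119299 (iv2 F514906)) (tt N110137 F493108) (tt N90388 F493109) (tt N112178 F493110) (tt N86161 (iv6 D218285)) (tt N121596 (iv7 F527237)))
theorem Q115030 : ∀ i, i < 115030 → P i := stepQ 115029 Q115029 (allL N115029 (tt N93763 F493116) (tt N107217 F493117) (tt N93817 F493112) (tt N90204 F493113) (tt N93467 F493114) (tt N86164 (iv5 D218286)) (tt N112297 F493118) (tt N90253 F493115))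
theorem Q115031 : ∀ i, i < 115031 → P i := stepQ 115030 Q115030 (allL N115030 (tt N118637 (iv1 F511275)) (tt N119228 (iv0 F514484)) (tt N122053 (iv2 F529875)) (tt N112767 F493119) (tt N112661 F493120) (tt N112641 (iv5 F493121)) (tt N86168 (iv6 D218287)) (tt N118293 (iv7 F509563)))
theorem Q115032 : ∀ i, i < 115032 → P i := stepQ 115031 Q115031 (allL N115031 (tt N115677 (iv1 F496268)) (tt N86169 (iv0 D218288)) (tt N119119 (iv2 F513882)) (tt N91778 (iv3 F496269)) (tt N122084 (iv4 F530063)) (tt N119124 (iv5 F513916)) (tt N119125 (iv6 F513920)) (tt N120505 (iv7 F521142)))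
theorem Q115033 : ∀ i, i < 115033 → P i := stepQ 115032 Q115032 (allL N115032 (tt N111033 (iv1 F493127)) (tt N122074 (iv0 F530008)) (tt N111981 F493122) (tt N95433 F493123) (tt N86169 (iv4 D218289)) (tt N110598 F493126) (tt N112240 F493124) (tt N110597 F493125))
theorem Q115034 : ∀ i, i < 115034 → P i := stepQ 115033 Q115033 (allL N115033 (tt N97987 F493133) (tt N105914 (iv0 F493134)) (tt N98517 F493128) (tt N86173 F493129) (tt N98513 F493130) (tt N106543 F493131) (tt N86170 (iv6 D218290)) (tt N105913 F493132))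
theorem Q115035 : ∀ i, i < 115035 → P i := stepQ 115034 Q115034 (allL N115034 (tt N113904 F493137) (tt N119196 (iv0 F514311)) (tt N111985 F493135) (tt N118189 (iv3 F509058)) (tt N111982 F493136) (tt N86174 (iv5 D218291)) (tt N118188 (iv6 F509054)) (tt N120540 (iv7 F521345)))
theorem Q115036 : ∀ i, i < 115036 → P i := stepQ 115035 Q115035 (allL N115035 (tt N114287 F493143) (tt N114288 F493144) (tt N89619 F493138) (tt N113978 F493139) (tt N86176 (iv4 D218292)) (tt N113977 F493142) (tt N107268 F493140) (tt N89617 F493141))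
theorem Q115037 : ∀ i, i < 115037 → P i := stepQ 115036 Q115036 (allL N115036 (tt N114288 F493148) (tt N114287 F493149) (tt N89617 F493145) (tt N103031 F493146) (tt N86177 (iv4 D218293)) (tt N117266 (iv5 F504186)) (tt N105540 (iv6 F493150)) (tt N89619 F493147))
theorem Q115038 : ∀ i, i < 115038 → P i := stepQ 115037 Q115037 (allL N115037 (tt N86207 F493155) (tt N104139 (iv0 F493156)) (tt N89618 F493151) (tt N109716 F493152) (tt N105540 F493153) (tt N88813 F493154) (tt N86177 (iv6 D218294)) (tt N109726 F493157))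
theorem Q115039 : ∀ i, i < 115039 → P i := stepQ 115038 Q115038 (allL N115038 (tt N89632 (iv1 F493164)) (tt N89631 F493163) (tt N86181 (iv2 D218295)) (tt N110040 F493158) (tt N113648 F493159) (tt N89567 F493160) (tt N113647 F493161) (tt N89633 F493162))
theorem Q115040 : ∀ i, i < 115040 → P i := stepQ 115039 Q115039 (allL N115039 (tt N120347 F520312) (tt N122425 (iv0 F532030)) (tt N115012 F493165) (tt N116361 (iv3 F499712)) (tt N111891 F493167) (tt N86182 (iv5 D218296)) (tt N89571 F493166) (tt N119558 (iv7 F516244)))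
theorem Q115041 : ∀ i, i < 115041 → P i := stepQ 115040 Q115040 (allL N115040 (tt N113694 F493173) (tt N114309 F493172) (tt N114601 F493168) (tt N120448 (iv3 F520833)) (tt N108141 F493171) (tt N86183 (iv5 D218297)) (tt N108140 F493169) (tt N114585 F493170))
theorem Q115042 : ∀ i, i < 115042 → P i := stepQ 115041 Q115041 (allL N115041 (tt N114309 F493179) (tt N113694 F493178) (tt N114585 F493174) (tt N103046 F493175) (tt N116124 (iv4 F498599)) (tt N86184 (iv5 D218298)) (tt N89860 F493176) (tt N114601 F493177))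
theorem Q115043 : ∀ i, i < 115043 → P i := stepQ 115042 Q115042 (allL N115042 (tt N92742 F493185) (tt N120770 F522624) (tt N111222 F493180) (tt N86187 F493181) (tt N106305 F493182) (tt N102943 F493183) (tt N86186 (iv6 D218299)) (tt N97826 F493184))
theorem Q115044 : ∀ i, i < 115044 → P i := stepQ 115043 Q115043 (allL N115043 (tt N114994 (iv1 F493189)) (tt N86193 (iv0 D218300)) (tt N114993 (iv2 F493188)) (tt N103085 F493186) (tt N121145 (iv4 F524768)) (tt N89566 F493187) (tt N119171 F514177) (tt N114992 F493190))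
theorem Q115045 : ∀ i, i < 115045 → P i := stepQ 115044 Q115044 (allL N115044 (tt N86211 F493195) (tt N114752 F493196) (tt N114575 F493191) (tt N109858 F493192) (tt N118975 (iv4 F513068)) (tt N114303 F493193) (tt N86195 (iv6 D218301)) (tt N114574 F493194))
theorem Q115046 : ∀ i, i < 115046 → P i := stepQ 115045 Q115045 (allL N115045 (tt N120185 (iv1 F519492)) (tt N122421 (iv0 F532009)) (tt N114628 F493197) (tt N110011 F493198) (tt N107663 F493200) (tt N86198 (iv5 D218302)) (tt N113428 (iv6 F493201)) (tt N114630 F493199))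
theorem Q115047 : ∀ i, i < 115047 → P i := stepQ 115046 Q115046 (allL N115046 (tt N86201 (iv1 D218303)) (tt N114978 F493202) (tt N114979 F493206) (tt N114911 (iv3 F493205)) (tt N113588 F493204) (tt N118029 (iv5 F508176)) (tt N114507 F493207) (tt N114456 F493203))
theorem Q115048 : ∀ i, i < 115048 → P i := stepQ 115047 Q115047 (allL N115047 (tt N94779 (iv1 F493211)) (tt N86205 (iv0 D218304)) (tt N95264 (iv2 F493212)) (tt N105697 F493209) (tt N89811 F493208) (tt N117415 (iv5 F504927)) (tt N89809 F493210) (tt N95147 (iv7 F493213)))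
theorem Q115049 : ∀ i, i < 115049 → P i := stepQ 115048 Q115048 (allL N115048 (tt N86205 (iv1 D218305)) (tt N94779 F493214) (tt N95147 F493218) (tt N110216 (iv3 F493216)) (tt N117313 (iv4 F504421)) (tt N117417 (iv5 F504937)) (tt N94738 (iv6 F493217)) (tt N95264 F493215))
theorem Q115050 : ∀ i, i < 115050 → P i := stepQ 115049 Q115049 (allL N115049 (tt N87505 F493224) (tt N109751 F493225) (tt N98362 F493219) (tt N86209 F493220) (tt N100782 F493221) (tt N86207 (iv5 D218306)) (tt N87575 F493222) (tt N109750 F493223))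
theorem Q115051 : ∀ i, i < 115051 → P i := stepQ 115050 Q115050 (allL N115050 (tt N121566 (iv1 F527068)) (tt N120375 (iv0 F520451)) (tt N110182 F493226) (tt N111949 F493227) (tt N108970 F493229) (tt N86214 (iv5 D218307)) (tt N112891 F493228) (tt N120444 (iv7 F520815)))
theorem Q115052 : ∀ i, i < 115052 → P i := stepQ 115051 Q115051 (allL N115051 (tt N109881 F493234) (tt N109880 F493235) (tt N109883 F493230) (tt N106394 F493231) (tt N86215 (iv4 D218308)) (tt N121273 (iv5 F525505)) (tt N108085 F493232) (tt N100290 F493233))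
theorem Q115053 : ∀ i, i < 115053 → P i := stepQ 115052 Q115052 (allL N115052 (tt N86218 (iv1 D218309)) (tt N110199 F493236) (tt N114476 F493240) (tt N96041 F493241) (tt N114981 F493238) (tt N119228 (iv5 F514482)) (tt N109631 (iv6 F493239)) (tt N96033 F493237))
theorem Q115054 : ∀ i, i < 115054 → P i := stepQ 115053 Q115053 (allL N115053 (tt N114476 (iv1 F493247)) (tt N96033 F493248) (tt N110199 F493242) (tt N93708 F493243) (tt N112643 F493244) (tt N86219 F493245) (tt N93706 F493246) (tt N86218 (iv7 D218310)))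
theorem Q115055 : ∀ i, i < 115055 → P i := stepQ 115054 Q115054 (allL N115054 (tt N100329 F493254) (tt N100328 (iv0 F493255)) (tt N100330 F493249) (tt N86223 F493250) (tt N109216 F493251) (tt N97801 F493252) (tt N86220 (iv6 D218311)) (tt N97800 F493253))
theorem Q115056 : ∀ i, i < 115056 → P i := stepQ 115055 Q115055 (allL N115055 (tt N118686 (iv1 F511548)) (tt N119152 (iv0 F514067)) (tt N96570 F493256) (tt N95707 F493257) (tt N86223 F493258) (tt N96852 F493259) (tt N86221 (iv6 D218312)) (tt N96554 F493260))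
theorem Q115057 : ∀ i, i < 115057 → P i := stepQ 115056 Q115056 (allL N115056 (tt N86224 (iv1 D218313)) (tt N100235 F493261) (tt N100234 F493267) (tt N100163 (iv3 F493265)) (tt N107267 F493264) (tt N105024 F493263) (tt N109726 (iv6 F493266)) (tt N89620 F493262))
theorem Q115058 : ∀ i, i < 115058 → P i := stepQ 115057 Q115057 (allL N115057 (tt N87018 F493273) (tt N98292 F493274) (tt N111837 F493268) (tt N109229 F493269) (tt N101516 F493270) (tt N86227 (iv5 D218314)) (tt N101555 F493271) (tt N109333 F493272))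
theorem Q115059 : ∀ i, i < 115059 → P i := stepQ 115058 Q115058 (allL N115058 (tt N89634 F493279) (tt N86780 F493280) (tt N89598 F493275) (tt N91678 F493276) (tt N86242 (iv4 D218315)) (tt N98391 F493278) (tt N115179 F493887) (tt N111305 F493277))
theorem Q115060 : ∀ i, i < 115060 → P i := stepQ 115059 Q115059 (allL N115059 (tt N109589 F493285) (tt N107209 F493286) (tt N86249 F493281) (tt N91652 F493282) (tt N91657 F493283) (tt N116106 (iv5 F498490)) (tt N86245 (iv6 D218316)) (tt N96219 F493284))
theorem Q115061 : ∀ i, i < 115061 → P i := stepQ 115060 Q115060 (allL N115060 (tt N88790 F493292) (tt N88789 (iv0 F493293)) (tt N107493 F493287) (tt N86247 (iv3 D218317)) (tt N107493 F493288) (tt N113225 F493289) (tt N113479 F493290) (tt N91669 F493291))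
theorem Q115062 : ∀ i, i < 115062 → P i := stepQ 115061 Q115061 (allL N115061 (tt N86249 (iv1 D218318)) (tt N96219 F493294) (tt N107209 (iv2 F493299)) (tt N119019 (iv3 F513314)) (tt N121681 (iv4 F527710)) (tt N106636 (iv5 F493296)) (tt N119017 (iv6 F513310)) (tt N109589 F493295))
theorem Q115063 : ∀ i, i < 115063 → P i := stepQ 115062 Q115062 (allL N115062 (tt N121079 (iv1 F524405)) (tt N90190 (iv0 F493302)) (tt N119088 (iv2 F513726)) (tt N86253 (iv3 D218319)) (tt N100412 F493300) (tt N120778 (iv5 F522656)) (tt N119965 (iv6 F518295)) (tt N110796 F493301))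
theorem Q115064 : ∀ i, i < 115064 → P i := stepQ 115063 Q115063 (allL N115063 (tt N109478 F493305) (tt N89479 (iv0 F493306)) (tt N93604 F493303) (tt N119069 (iv3 F513616)) (tt N100398 F493304) (tt N109479 F493307) (tt N86257 (iv6 D218320)) (tt N117070 (iv7 F503232)))
theorem Q115065 : ∀ i, i < 115065 → P i := stepQ 115064 Q115064 (allL N115064 (tt N115588 (iv1 F495884)) (tt N87987 F493311) (tt N94501 F493308) (tt N103076 F493309) (tt N108526 F493310) (tt N86262 (iv5 D218321)) (tt N115541 (iv6 F495703)) (tt N115587 (iv7 F495880)))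
theorem Q115066 : ∀ i, i < 115066 → P i := stepQ 115065 Q115065 (allL N115065 (tt N90589 (iv1 F493316)) (tt N112091 F493314) (tt N112240 F493312) (tt N117462 (iv3 F505158)) (tt N86263 (iv4 D218322)) (tt N115108 (iv5 F493515)) (tt N111981 F493313) (tt N112241 (iv7 F493315)))
theorem Q115067 : ∀ i, i < 115067 → P i := stepQ 115066 Q115066 (allL N115066 (tt N108102 (iv1 F493320)) (tt N108094 F493321) (tt N87331 F493317) (tt N115674 (iv3 F496249)) (tt N112241 F493318) (tt N86264 F493319) (tt N115678 (iv6 F496272)) (tt N86263 (iv7 D218323)))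
theorem Q115068 : ∀ i, i < 115068 → P i := stepQ 115067 Q115067 (allL N115067 (tt N89920 F493326) (tt N87260 F493325) (tt N89918 F493322) (tt N92646 F493323) (tt N86265 (iv4 D218324)) (tt N96869 (iv5 F493327)) (tt N119960 (iv6 F518269)) (tt N89919 F493324))
theorem Q115069 : ∀ i, i < 115069 → P i := stepQ 115068 Q115068 (allL N115068 (tt N114651 F493330) (tt N113838 F493331) (tt N120010 F518546) (tt N86267 F493328) (tt N121300 (iv4 F525628)) (tt N86265 (iv5 D218325)) (tt N121155 F524830) (tt N114780 F493329))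
theorem Q115070 : ∀ i, i < 115070 → P i := stepQ 115069 Q115069 (allL N115069 (tt N120349 F520322) (tt N116590 (iv0 F500883)) (tt N116690 (iv2 F501315)) (tt N115619 F495999) (tt N117150 (iv4 F503643)) (tt N86266 (iv5 D218326)) (tt N118726 (iv6 F511766)) (tt N116691 (iv7 F501323)))
theorem Q115071 : ∀ i, i < 115071 → P i := stepQ 115070 Q115070 (allL N115070 (tt N107307 (iv1 F493337)) (tt N112144 (iv0 F493336)) (tt N107765 F493332) (tt N107903 F493333) (tt N86268 F493334) (tt N107756 F493335) (tt N86266 (iv6 D218327)) (tt N118702 (iv7 F511625)))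
theorem Q115072 : ∀ i, i < 115072 → P i := stepQ 115071 Q115071 (allL N115071 (tt N86268 (iv1 D218328)) (tt N121597 F527245) (tt N117236 (iv2 F504052)) (tt N109319 F493342) (tt N101160 F493339) (tt N90512 F493340) (tt N109318 (iv6 F493341)) (tt N90022 F493338))
theorem Q115073 : ∀ i, i < 115073 → P i := stepQ 115072 Q115072 (allL N115072 (tt N117236 F504057) (tt N90022 (iv0 F493346)) (tt N121597 F527244) (tt N110858 F493343) (tt N118702 (iv4 F511623)) (tt N89611 F493344) (tt N89974 F493345) (tt N86268 (iv7 D218329)))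
theorem Q115074 : ∀ i, i < 115074 → P i := stepQ 115073 Q115073 (allL N115073 (tt N110945 F493350) (tt N93387 (iv0 F493352)) (tt N91571 F493347) (tt N117596 (iv3 F505912)) (tt N86269 (iv4 D218330)) (tt N114726 (iv5 F493351)) (tt N93371 F493348) (tt N110944 F493349))
theorem Q115075 : ∀ i, i < 115075 → P i := stepQ 115074 Q115074 (allL N115074 (tt N116590 (iv1 F500884)) (tt N120349 (iv0 F520321)) (tt N116691 (iv2 F501320)) (tt N108213 F493354) (tt N117148 (iv4 F503635)) (tt N86270 (iv5 D218331)) (tt N113901 (iv6 F501325)) (tt N116690 (iv7 F501318)))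
theorem Q115076 : ∀ i, i < 115076 → P i := stepQ 115075 Q115075 (allL N115075 (tt N114672 (iv1 F493359)) (tt N86275 (iv0 D218332)) (tt N101400 (iv2 F493358)) (tt N104207 F493357) (tt N101403 F493356) (tt N105406 F493355) (tt N103592 (iv6 F493361)) (tt N105413 F493360))
theorem Q115077 : ∀ i, i < 115077 → P i := stepQ 115076 Q115076 (allL N115076 (tt N101400 (iv1 F493366)) (tt N105413 F493365) (tt N86275 (iv2 D218333)) (tt N105601 F493362) (tt N105562 (iv4 F493367)) (tt N105744 F493363) (tt N121951 (iv6 F529256)) (tt N114672 F493364))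
theorem Q115078 : ∀ i, i < 115078 → P i := stepQ 115077 Q115077 (allL N115077 (tt N105399 F493372) (tt N105557 F493373) (tt N105562 F493368) (tt N105622 F493369) (tt N86275 (iv4 D218334)) (tt N105621 F493371) (tt N110439 (iv6 F493374)) (tt N105563 F493370))
theorem Q115079 : ∀ i, i < 115079 → P i := stepQ 115078 Q115078 (allL N115078 (tt N114488 F493378) (tt N122454 (iv0 F532213)) (tt N121951 (iv2 F529254)) (tt N86276 F493375) (tt N110439 F493376) (tt N114698 F493377) (tt N86275 (iv6 D218335)) (tt N121952 (iv7 F529262)))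
theorem Q115080 : ∀ i, i < 115080 → P i := stepQ 115079 Q115079 (allL N115079 (tt N105602 (iv1 F493384)) (tt N105600 F493383) (tt N86277 (iv2 D218336)) (tt N114672 F493379) (tt N92282 F493380) (tt N106075 F493381) (tt N119636 (iv6 F516637)) (tt N105601 F493382))
theorem Q115081 : ∀ i, i < 115081 → P i := stepQ 115080 Q115080 (allL N115080 (tt N121317 (iv1 F525728)) (tt N105967 (iv0 F493387)) (tt N119636 (iv2 F516636)) (tt N86278 F493385) (tt N119635 (iv4 F516631)) (tt N106974 F493386) (tt N86277 (iv6 D218337)) (tt N119634 (iv7 F516627)))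
theorem Q115082 : ∀ i, i < 115082 → P i := stepQ 115081 Q115081 (allL N115081 (tt N114675 (iv1 F493394)) (tt N86278 (iv0 D218338)) (tt N90962 (iv2 F493391)) (tt N105590 (iv3 F493393)) (tt N90455 F493389) (tt N89279 F493388) (tt N113751 F493390) (tt N90964 F493392))
theorem Q115083 : ∀ i, i < 115083 → P i := stepQ 115082 Q115082 (allL N115082 (tt N90964 (iv1 F493398)) (tt N90962 F493399) (tt N114675 F493395) (tt N119634 (iv3 F516624)) (tt N113754 F493396) (tt N117113 (iv5 F503467)) (tt N114671 F493397) (tt N86278 (iv7 D218339)))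
theorem Q115084 : ∀ i, i < 115084 → P i := stepQ 115083 Q115083 (allL N115083 (tt N105488 F493404) (tt N96593 F493405) (tt N87665 F493400) (tt N103619 F493401) (tt N117418 (iv4 F504944)) (tt N86285 (iv5 D218340)) (tt N105032 F493402) (tt N105462 F493403))
theorem Q115085 : ∀ i, i < 115085 → P i := stepQ 115084 Q115084 (allL N115084 (tt N121108 (iv1 F524556)) (tt N121302 F525644) (tt N121298 (iv2 F525615)) (tt N86286 (iv3 D218341)) (tt N112910 F493406) (tt N88697 F493407) (tt N121833 (iv6 F528590)) (tt N113102 F493408))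
theorem Q115086 : ∀ i, i < 115086 → P i := stepQ 115085 Q115085 (allL N115085 (tt N113251 (iv1 F493413)) (tt N89681 (iv0 F493412)) (tt N113249 F493409) (tt N121833 (iv3 F528588)) (tt N112909 F493410) (tt N120379 (iv5 F520471)) (tt N86286 (iv6 D218342)) (tt N113250 F493411))
theorem Q115087 : ∀ i, i < 115087 → P i := stepQ 115086 Q115086 (allL N115086 (tt N87665 F493419) (tt N105462 (iv0 F493420)) (tt N96593 F493414) (tt N105487 F493415) (tt N103898 F493416) (tt N89100 F493417) (tt N86292 (iv6 D218343)) (tt N105488 F493418))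
theorem Q115088 : ∀ i, i < 115088 → P i := stepQ 115087 Q115087 (allL N115087 (tt N98578 F493424) (tt N115166 (iv0 F493812)) (tt N115205 (iv2 F494007)) (tt N87652 F493421) (tt N115277 (iv4 F494337)) (tt N86295 (iv5 D218344)) (tt N104018 F493422) (tt N112067 F493423))
theorem Q115089 : ∀ i, i < 115089 → P i := stepQ 115088 Q115088 (allL N115088 (tt N96472 F493430) (tt N96471 (iv0 F493431)) (tt N94613 F493425) (tt N86300 (iv3 D218345)) (tt N113237 F493426) (tt N96460 F493427) (tt N94610 F493428) (tt N96459 F493429))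
theorem Q115090 : ∀ i, i < 115090 → P i := stepQ 115089 Q115089 (allL N115089 (tt N118975 F513071) (tt N119124 (iv0 F513915)) (tt N119126 F513928) (tt N86305 (iv3 D218346)) (tt N86306 F493432) (tt N122147 (iv5 F530433)) (tt N114593 F493433) (tt N113876 F493434))
theorem Q115091 : ∀ i, i < 115091 → P i := stepQ 115090 Q115090 (allL N115090 (tt N88957 F493437) (tt N115397 (iv0 F494987)) (tt N121159 (iv2 F524848)) (tt N122147 (iv3 F530430)) (tt N114272 F493436) (tt N86305 (iv5 D218347)) (tt N122105 (iv6 F530197)) (tt N113877 F493435))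
theorem Q115092 : ∀ i, i < 115092 → P i := stepQ 115091 Q115091 (allL N115091 (tt N115721 (iv1 F496512)) (tt N115720 (iv0 F496506)) (tt N105625 F493438) (tt N104000 F493439) (tt N105624 F493440) (tt N103999 F493441) (tt N86312 (iv6 D218348)) (tt N108231 F493442))
theorem Q115093 : ∀ i, i < 115093 → P i := stepQ 115092 Q115092 (allL N115092 (tt N96506 (iv1 F493447)) (tt N96312 F493448) (tt N96514 F493443) (tt N86316 F493444) (tt N119045 (iv4 F513469)) (tt N108145 F493445) (tt N86313 (iv6 D218349)) (tt N96513 F493446))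
theorem Q115094 : ∀ i, i < 115094 → P i := stepQ 115093 Q115093 (allL N115093 (tt N86324 (iv1 F493452)) (tt N86321 (iv0 D218350)) (tt N86322 (iv2 F493450)) (tt N119995 (iv3 F518450)) (tt N119619 (iv4 F516552)) (tt N95522 F493449) (tt N119994 (iv6 F518445)) (tt N86323 F493451))
theorem Q115095 : ∀ i, i < 115095 → P i := stepQ 115094 Q115094 (allL N115094 (tt N86323 (iv1 F493458)) (tt N86322 F493459) (tt N86324 F493453) (tt N86735 F493454) (tt N109051 F493455) (tt N107246 F493456) (tt N89640 F493457) (tt N86321 (iv7 D218351)))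
theorem Q115096 : ∀ i, i < 115096 → P i := stepQ 115095 Q115095 (allL N115095 (tt N119997 (iv1 F518462)) (tt N106259 (iv0 F493462)) (tt N119998 (iv2 F518467)) (tt N86323 (iv3 D218352)) (tt N116317 (iv4 F499524)) (tt N106000 F493460) (tt N89675 F493461) (tt N119995 (iv7 F518453)))
theorem Q115097 : ∀ i, i < 115097 → P i := stepQ 115096 Q115096 (allL N115096 (tt N106274 F493468) (tt N94878 F493469) (tt N106485 F493463) (tt N94549 F493464) (tt N86325 (iv4 D218353)) (tt N95496 F493467) (tt N94826 F493465) (tt N94546 F493466))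
theorem Q115098 : ∀ i, i < 115098 → P i := stepQ 115097 Q115097 (allL N115097 (tt N122244 (iv1 F530982)) (tt N113097 (iv0 F493474)) (tt N86331 F493470) (tt N113239 F493471) (tt N86330 (iv4 D218354)) (tt N113937 F493472) (tt N120545 (iv6 F521370)) (tt N113238 F493473))
theorem Q115099 : ∀ i, i < 115099 → P i := stepQ 115098 Q115098 (allL N115098 (tt N113238 (iv1 F493476)) (tt N86331 (iv0 D218355)) (tt N122244 (iv2 F530976)) (tt N98420 (iv3 F493478)) (tt N113098 F493475) (tt N116572 (iv5 F500794)) (tt N121529 (iv6 F526874)) (tt N113097 F493477))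
theorem Q115100 : ∀ i, i < 115100 → P i := stepQ 115099 Q115099 (allL N115099 (tt N119032 (iv1 F513390)) (tt N114677 (iv0 F499402)) (tt N120485 F521019) (tt N86331 (iv3 D218356)) (tt N86333 F493479) (tt N114059 F493485) (tt N119225 F514469) (tt N89673 F493480))
theorem Q115101 : ∀ i, i < 115101 → P i := stepQ 115100 Q115100 (allL N115100 (tt N122275 (iv1 F531114)) (tt N116294 F499420) (tt N113937 F493481) (tt N114059 (iv3 F493484)) (tt N113714 F493483) (tt N86331 (iv5 D218357)) (tt N122434 (iv6 F532078)) (tt N113939 F493482))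
theorem Q115102 : ∀ i, i < 115102 → P i := stepQ 115101 Q115101 (allL N115101 (tt N120544 (iv1 F521363)) (tt N119226 (iv0 F514473)) (tt N120545 (iv2 F521367)) (tt N119225 F514468) (tt N86332 F493486) (tt N121167 (iv5 F524899)) (tt N86331 (iv6 D218358)) (tt N120543 (iv7 F521362)))
theorem Q115103 : ∀ i, i < 115103 → P i := stepQ 115102 Q115102 (allL N115102 (tt N86344 (iv1 F493489)) (tt N86337 (iv0 D218359)) (tt N89442 (iv2 F493490)) (tt N105359 (iv3 F493491)) (tt N89002 F493487) (tt N122457 D225716) (tt N89001 F493488) (tt N117611 (iv7 F505990)))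
theorem Q115104 : ∀ i, i < 115104 → P i := stepQ 115103 Q115103 (allL N115103 (tt N86337 (iv1 D218360)) (tt N86344 F493492) (tt N117611 (iv2 F505988)) (tt N100917 (iv3 F493497)) (tt N89443 F493494) (tt N100929 (iv5 F493496)) (tt N100914 (iv6 F493495)) (tt N89442 F493493))
theorem Q115105 : ∀ i, i < 115105 → P i := stepQ 115104 Q115104 (allL N115104 (tt N115927 (iv1 F497625)) (tt N90012 F493500) (tt N116692 F501328) (tt N115914 (iv3 F497560)) (tt N90589 F493499) (tt N86337 (iv5 D218361)) (tt N122423 (iv6 F532018)) (tt N112214 F493498))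
theorem Q115106 : ∀ i, i < 115106 → P i := stepQ 115105 Q115105 (allL N115105 (tt N105628 F493502) (tt N118328 (iv0 F509730)) (tt N118330 F509739) (tt N108918 F493501) (tt N86338 (iv4 D218362)) (tt N108849 (iv5 F493503)) (tt N121216 (iv6 F525183)) (tt N117533 (iv7 F505562)))
theorem Q115107 : ∀ i, i < 115107 → P i := stepQ 115106 Q115106 (allL N115106 (tt N86340 (iv1 D218363)) (tt N105370 F493504) (tt N118828 F512287) (tt N105379 (iv3 F493507)) (tt N107130 F493506) (tt N118789 (iv5 F512080)) (tt N107843 F493508) (tt N111027 F493505))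
theorem Q115108 : ∀ i, i < 115108 → P i := stepQ 115107 Q115107 (allL N115107 (tt N90012 F493512) (tt N115927 F497624) (tt N112214 F493509) (tt N118158 (iv3 F508919)) (tt N112091 F493510) (tt N86344 (iv5 D218364)) (tt N112085 F493511) (tt N116692 (iv7 F501329)))
theorem Q115109 : ∀ i, i < 115109 → P i := stepQ 115108 Q115108 (allL N115108 (tt N90652 F493518) (tt N90651 F493519) (tt N90654 F493513) (tt N91370 F493514) (tt N86346 (iv4 D218365)) (tt N115065 F493515) (tt N90548 F493516) (tt N86350 F493517))
theorem Q115110 : ∀ i, i < 115110 → P i := stepQ 115109 Q115109 (allL N115109 (tt N90654 (iv1 F493522)) (tt N86350 (iv0 D218366)) (tt N90651 (iv2 F493524)) (tt N91261 (iv3 F493523)) (tt N89279 F493520) (tt N122385 (iv5 F531784)) (tt N89093 F493521) (tt N90652 (iv7 F493525)))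
theorem Q115111 : ∀ i, i < 115111 → P i := stepQ 115110 Q115110 (allL N115110 (tt N86350 (iv1 D218367)) (tt N90654 F493526) (tt N90652 F493531) (tt N97293 (iv3 F493529)) (tt N89280 F493528) (tt N122338 (iv5 F531504)) (tt N97290 (iv6 F493530)) (tt N90651 F493527))
theorem Q115112 : ∀ i, i < 115112 → P i := stepQ 115111 Q115111 (allL N115111 (tt N91363 F493535) (tt N91373 (iv0 F493536)) (tt N91371 F493532) (tt N86350 (iv3 D218368)) (tt N115351 (iv4 F494732)) (tt N115647 (iv5 F496127)) (tt N86351 F493533) (tt N91370 F493534))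
theorem Q115113 : ∀ i, i < 115113 → P i := stepQ 115112 Q115112 (allL N115112 (tt N110034 F493541) (tt N93292 F493542) (tt N90112 F493537) (tt N108886 F493538) (tt N90042 F493539) (tt N86352 (iv5 D218369)) (tt N116792 (iv6 F501861)) (tt N90052 F493540))
theorem Q115114 : ∀ i, i < 115114 → P i := stepQ 115113 Q115113 (allL N115113 (tt N109331 F493547) (tt N91060 (iv0 F493548)) (tt N89576 F493543) (tt N96295 F493544) (tt N106257 F493549) (tt N88394 F493545) (tt N86355 (iv6 D218370)) (tt N96287 F493546))
theorem Q115115 : ∀ i, i < 115115 → P i := stepQ 115114 Q115114 (allL N115114 (tt N89026 (iv1 F493553)) (tt N86356 (iv0 D218371)) (tt N89577 (iv2 F493554)) (tt N105985 (iv3 F493557)) (tt N89385 F493552) (tt N116838 (iv5 F502104)) (tt N105982 (iv6 F493555)) (tt N89578 (iv7 F493556)))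
theorem Q115116 : ∀ i, i < 115116 → P i := stepQ 115115 Q115115 (allL N115115 (tt N86356 (iv1 D218372)) (tt N89026 F493558) (tt N89578 (iv2 F493563)) (tt N90963 (iv3 F493561)) (tt N89384 F493560) (tt N116837 (iv5 F502096)) (tt N90961 F493562) (tt N89577 F493559))
theorem Q115117 : ∀ i, i < 115117 → P i := stepQ 115116 Q115116 (allL N115116 (tt N116434 (iv1 F500089)) (tt N116428 (iv0 F500055)) (tt N89580 F493564) (tt N90139 F493565) (tt N113375 F493568) (tt N86356 (iv5 D218373)) (tt N90815 F493566) (tt N113299 F493567))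
theorem Q115118 : ∀ i, i < 115118 → P i := stepQ 115117 Q115117 (allL N115117 (tt N115124 (iv1 F493607)) (tt N113304 (iv0 F493572)) (tt N90186 F493569) (tt N89066 F493570) (tt N120220 (iv4 F519669)) (tt N112930 F493571) (tt N86362 (iv6 D218374)) (tt N115123 (iv7 F493602)))
theorem Q115119 : ∀ i, i < 115119 → P i := stepQ 115118 Q115118 (allL N115118 (tt N89332 F493575) (tt N89486 F493576) (tt N90189 F493573) (tt N93503 F493577) (tt N86363 (iv4 D218375)) (tt N122023 (iv5 F529696)) (tt N106917 (iv6 F493578)) (tt N90188 F493574))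
theorem Q115120 : ∀ i, i < 115120 → P i := stepQ 115119 Q115119 (allL N115119 (tt N119088 F513731) (tt N110796 (iv0 F493583)) (tt N90190 F493579) (tt N89069 F493580) (tt N106917 F493581) (tt N113869 F493582) (tt N86363 (iv6 D218376)) (tt N121079 (iv7 F524406)))
theorem Q115121 : ∀ i, i < 115121 → P i := stepQ 115120 Q115120 (allL N115120 (tt N89576 F493589) (tt N96287 F493590) (tt N91060 F493584) (tt N86365 (iv3 D218377)) (tt N89270 F493585) (tt N110250 F493586) (tt N89269 F493587) (tt N109331 F493588))
theorem Q115122 : ∀ i, i < 115122 → P i := stepQ 115121 Q115121 (allL N115121 (tt N103449 F493596) (tt N101669 F493597) (tt N91410 F493591) (tt N95755 F493592) (tt N97423 F493595) (tt N86367 (iv5 D218378)) (tt N86370 F493593) (tt N111090 F493594))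
theorem Q115123 : ∀ i, i < 115123 → P i := stepQ 115122 Q115122 (allL N115122 (tt N116392 (iv1 F499856)) (tt N116664 (iv0 F501205)) (tt N116672 F501244) (tt N119742 (iv3 F517193)) (tt N116794 (iv4 F501874)) (tt N86375 (iv5 D218379)) (tt N122298 F531267) (tt N110793 F493598))
theorem Q115124 : ∀ i, i < 115124 → P i := stepQ 115123 Q115123 (allL N115123 (tt N101118 (iv1 F493601)) (tt N86379 (iv0 D218380)) (tt N108079 (iv2 F493600)) (tt N106758 F493599) (tt N119861 (iv4 F517750)) (tt N116157 (iv5 F498790)) (tt N99164 (iv6 F493603)) (tt N115117 F493602))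
theorem Q115125 : ∀ i, i < 115125 → P i := stepQ 115124 Q115124 (allL N115124 (tt N108079 (iv1 F493608)) (tt N115117 F493607) (tt N86379 (iv2 D218381)) (tt N96245 F493604) (tt N99276 F493605) (tt N119968 (iv5 F518312)) (tt N96243 (iv6 F493609)) (tt N101118 F493606))
theorem Q115126 : ∀ i, i < 115126 → P i := stepQ 115125 Q115125 (allL N115125 (tt N121089 (iv1 F524462)) (tt N121088 (iv0 F524456)) (tt N119968 (iv2 F518311)) (tt N86381 F493610) (tt N118602 F511111) (tt N86379 (iv5 D218382)) (tt N122458 D225717) (tt N112919 F493611))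
theorem Q115127 : ∀ i, i < 115127 → P i := stepQ 115126 Q115126 (allL N115126 (tt N96211 (iv1 F493616)) (tt N99160 F493617) (tt N96243 F493612) (tt N86382 F493613) (tt N99155 F493614) (tt N121249 (iv5 F525364)) (tt N86379 (iv6 D218383)) (tt N106769 F493615))
theorem Q115128 : ∀ i, i < 115128 → P i := stepQ 115127 Q115127 (allL N115127 (tt N90357 F493622) (tt N90355 (iv0 F493623)) (tt N105180 F493618) (tt N122458 (iv3 F532236)) (tt N105172 F493619) (tt N90258 F493621) (tt N86381 (iv6 D218384)) (tt N90257 F493620))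
theorem Q115129 : ∀ i, i < 115129 → P i := stepQ 115128 Q115128 (allL N115128 (tt N88030 F493627) (tt N90263 F493628) (tt N90265 F493624) (tt N121249 F525366) (tt N116825 (iv4 F502026)) (tt N86382 (iv5 D218385)) (tt N90258 F493625) (tt N90205 F493626))
theorem Q115130 : ∀ i, i < 115130 → P i := stepQ 115129 Q115129 (allL N115129 (tt N116157 F498792) (tt N116939 (iv0 F502603)) (tt N105137 F493629) (tt N86384 (iv3 D218386)) (tt N106682 F493630) (tt N105134 F493631) (tt N110714 F493632) (tt N121928 (iv7 F529116)))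
theorem Q115131 : ∀ i, i < 115131 → P i := stepQ 115130 Q115130 (allL N115130 (tt N113330 F493634) (tt N114750 (iv0 F493635)) (tt N118004 F508037) (tt N107385 F493633) (tt N118005 (iv4 F508042)) (tt N118003 (iv5 F508030)) (tt N86385 (iv6 D218387)) (tt N118005 (iv7 F508040)))
theorem Q115132 : ∀ i, i < 115132 → P i := stepQ 115131 Q115131 (allL N115131 (tt N90161 F493639) (tt N111999 (iv0 F493640)) (tt N111045 F493636) (tt N86397 (iv3 D218388)) (tt N122325 (iv4 F531430)) (tt N91182 F493637) (tt N118640 (iv6 F511290)) (tt N95132 F493638))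
theorem Q115133 : ∀ i, i < 115133 → P i := stepQ 115132 Q115132 (allL N115132 (tt N122422 (iv1 F532014)) (tt N122438 (iv0 F532103)) (tt N121832 (iv2 F528585)) (tt N86400 F493641) (tt N122459 D225718) (tt N86399 (iv5 D218389)) (tt N88911 F493642) (tt N114694 F493643))
theorem Q115134 : ∀ i, i < 115134 → P i := stepQ 115133 Q115133 (allL N115133 (tt N86402 (iv1 F493647)) (tt N86400 (iv0 D218390)) (tt N114689 (iv2 F493646)) (tt N89686 (iv3 F493649)) (tt N122416 (iv4 F531976)) (tt N88969 F493644) (tt N114007 F493645) (tt N114690 F493648))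
theorem Q115135 : ∀ i, i < 115135 → P i := stepQ 115134 Q115134 (allL N115134 (tt N122370 F531696) (tt N122433 (iv0 F532073)) (tt N114691 F493650) (tt N122437 F532097) (tt N86400 (iv4 D218391)) (tt N107324 F493653) (tt N88918 F493651) (tt N114696 F493652))
theorem Q115136 : ∀ i, i < 115136 → P i := stepQ 115135 Q115135 (allL N115135 (tt N88936 (iv1 F493657)) (tt N111321 F493656) (tt N86401 (iv2 D218392)) (tt N114693 F493654) (tt N114581 (iv4 F493658)) (tt N121208 (iv5 F525142)) (tt N121164 (iv6 F524887)) (tt N114686 F493655))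
theorem Q115137 : ∀ i, i < 115137 → P i := stepQ 115136 Q115136 (allL N115136 (tt N116749 (iv1 F501626)) (tt N114441 F493663) (tt N114581 F493659) (tt N98684 F493660) (tt N86401 (iv4 D218393)) (tt N98682 F493662) (tt N109394 F493664) (tt N114687 F493661))
theorem Q115138 : ∀ i, i < 115138 → P i := stepQ 115137 Q115137 (allL N115137 (tt N118013 F508086) (tt N113501 (iv0 F493668)) (tt N121208 (iv2 F525140)) (tt N86402 F493665) (tt N106209 F493667) (tt N86401 (iv5 D218394)) (tt N105830 (iv6 F493669)) (tt N114688 F493666))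
theorem Q115139 : ∀ i, i < 115139 → P i := stepQ 115138 Q115138 (allL N115138 (tt N116773 (iv1 F501753)) (tt N116774 (iv0 F501758)) (tt N121164 (iv2 F524886)) (tt N86403 F493670) (tt N109394 F493671) (tt N105827 F493672) (tt N86401 (iv6 D218395)) (tt N88902 F493673))
theorem Q115140 : ∀ i, i < 115140 → P i := stepQ 115139 Q115139 (allL N115139 (tt N122433 (iv1 F532074)) (tt N122370 (iv0 F531695)) (tt N114696 F493674) (tt N114492 F493678) (tt N86402 (iv4 D218396)) (tt N114491 F493675) (tt N114066 F493676) (tt N114691 F493677))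
theorem Q115141 : ∀ i, i < 115141 → P i := stepQ 115140 Q115140 (allL N115140 (tt N88980 F493683) (tt N88978 F493684) (tt N89760 F493679) (tt N105827 F493680) (tt N114773 F493685) (tt N86403 (iv5 D218397)) (tt N89758 F493681) (tt N88906 F493682))
theorem Q115142 : ∀ i, i < 115142 → P i := stepQ 115141 Q115141 (allL N115141 (tt N115356 (iv1 F494769)) (tt N86418 (iv0 D218398)) (tt N114072 (iv2 F493690)) (tt N86436 F493688) (tt N104877 F493687) (tt N104062 F493686) (tt N104876 F493689) (tt N86585 F493691))
theorem Q115143 : ∀ i, i < 115143 → P i := stepQ 115142 Q115142 (allL N115142 (tt N88363 (iv1 F493693)) (tt N86424 (iv0 D218399)) (tt N115297 F494453) (tt N88351 F493692) (tt N122157 (iv4 F530484)) (tt N120353 (iv5 F520334)) (tt N119354 (iv6 F515183)) (tt N115296 F494446))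
theorem Q115144 : ∀ i, i < 115144 → P i := stepQ 115143 Q115143 (allL N115143 (tt N86424 (iv1 D218400)) (tt N88363 F493699) (tt N115296 (iv2 F494447)) (tt N119356 (iv3 F515191)) (tt N122159 (iv4 F530495)) (tt N120352 (iv5 F520331)) (tt N115418 (iv6 F495098)) (tt N115297 (iv7 F494449)))
theorem Q115145 : ∀ i, i < 115145 → P i := stepQ 115144 Q115144 (allL N115144 (tt N115297 (iv1 F494448)) (tt N115296 F494445) (tt N86424 (iv2 D218401)) (tt N95738 F493694) (tt N86449 F493695) (tt N111570 F493696) (tt N95734 F493697) (tt N88363 F493698))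
theorem Q115146 : ∀ i, i < 115146 → P i := stepQ 115145 Q115145 (allL N115145 (tt N111744 (iv1 F493705)) (tt N111716 F493704) (tt N86427 (iv2 D218402)) (tt N86520 F493700) (tt N95734 F493701) (tt N115280 (iv5 F494355)) (tt N86449 F493702) (tt N111741 F493703))
theorem Q115147 : ∀ i, i < 115147 → P i := stepQ 115146 Q115146 (allL N115146 (tt N86526 (iv1 F493709)) (tt N86428 (iv0 D218403)) (tt N86522 (iv2 F493708)) (tt N115025 (iv3 F493711)) (tt N86796 F493707) (tt N86788 F493706) (tt N115257 (iv6 F494240)) (tt N86523 F493710))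
theorem Q115148 : ∀ i, i < 115148 → P i := stepQ 115147 Q115147 (allL N115147 (tt N105327 F493717) (tt N115310 (iv0 F494516)) (tt N104823 F493712) (tt N86433 (iv3 D218404)) (tt N86434 F493713) (tt N102427 F493714) (tt N104820 F493715) (tt N86536 F493716))
theorem Q115149 : ∀ i, i < 115149 → P i := stepQ 115148 Q115148 (allL N115148 (tt N86434 (iv1 D218405)) (tt N86557 F493723) (tt N86555 (iv2 F493722)) (tt N122460 D225719) (tt N86654 F493720) (tt N86576 F493719) (tt N86652 (iv6 F493721)) (tt N86556 F493718))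
theorem Q115150 : ∀ i, i < 115150 → P i := stepQ 115149 Q115149 (allL N115149 (tt N86556 (iv1 F493729)) (tt N86555 F493728) (tt N86434 (iv2 D218406)) (tt N86577 F493724) (tt N104823 F493725) (tt N114228 F493726) (tt N104827 (iv6 F493730)) (tt N86557 F493727))
theorem Q115151 : ∀ i, i < 115151 → P i := stepQ 115150 Q115150 (allL N115150 (tt N86505 (iv1 F493735)) (tt N115383 (iv0 F494922)) (tt N104827 F493731) (tt N86435 F493732) (tt N104820 F493733) (tt N88326 (iv5 F493734)) (tt N86434 (iv6 D218407)) (tt N118101 (iv7 F508597)))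
theorem Q115152 : ∀ i, i < 115152 → P i := stepQ 115151 Q115151 (allL N115151 (tt N86462 F493741) (tt N86718 F493742) (tt N86586 F493736) (tt N86525 F493737) (tt N86437 (iv4 D218408)) (tt N86644 F493738) (tt N86490 F493739) (tt N86582 F493740))
theorem Q115153 : ∀ i, i < 115153 → P i := stepQ 115152 Q115152 (allL N115152 (tt N122282 (iv1 F531165)) (tt N106876 (iv0 F493746)) (tt N118058 (iv2 F508341)) (tt N86441 F493743) (tt N111798 F493744) (tt N104289 F493745) (tt N86440 (iv6 D218409)) (tt N115201 (iv7 F493995)))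
theorem Q115154 : ∀ i, i < 115154 → P i := stepQ 115153 Q115153 (allL N115153 (tt N86594 (iv1 F493753)) (tt N86441 (iv0 D218410)) (tt N86591 F493751) (tt N86495 (iv3 F493750)) (tt N86709 F493748) (tt N97307 F493747) (tt N86493 F493749) (tt N86592 (iv7 F493752)))
theorem Q115155 : ∀ i, i < 115155 → P i := stepQ 115154 Q115154 (allL N115154 (tt N86441 (iv1 D218411)) (tt N86594 F493754) (tt N86592 (iv2 F493757)) (tt N86500 (iv3 F493758)) (tt N86710 F493756) (tt N86499 (iv5 F493759)) (tt N119554 (iv6 F516218)) (tt N86591 F493755))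
theorem Q115156 : ∀ i, i < 115156 → P i := stepQ 115155 Q115155 (allL N115155 (tt N86592 (iv1 F493764)) (tt N86591 F493765) (tt N86594 F493761) (tt N115201 (iv3 F493994)) (tt N86444 F493762) (tt N119094 (iv5 F513761)) (tt N86614 F493763) (tt N86441 (iv7 D218412)))
theorem Q115157 : ∀ i, i < 115157 → P i := stepQ 115156 Q115156 (allL N115156 (tt N86625 F493768) (tt N86446 (iv0 F493769)) (tt N86596 F493766) (tt N118966 (iv3 F513013)) (tt N86442 (iv4 D218413)) (tt N115215 F494060) (tt N118059 F508351) (tt N86598 F493767))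
theorem Q115158 : ∀ i, i < 115158 → P i := stepQ 115157 Q115157 (allL N115157 (tt N117742 F506743) (tt N91181 F493774) (tt N86597 F493770) (tt N91225 F493771) (tt N118015 (iv4 F508097)) (tt N86442 (iv5 D218414)) (tt N106846 F493772) (tt N86599 F493773))
theorem Q115159 : ∀ i, i < 115159 → P i := stepQ 115158 Q115158 (allL N115158 (tt N86446 F493777) (tt N86625 F493778) (tt N86598 F493775) (tt N119362 F515222) (tt N86443 (iv4 D218415)) (tt N119362 (iv5 F515217)) (tt N119405 F515446) (tt N86596 F493776))
theorem Q115160 : ∀ i, i < 115160 → P i := stepQ 115159 Q115159 (allL N115159 (tt N86514 (iv1 F493782)) (tt N86445 (iv0 D218416)) (tt N86627 (iv2 F493784)) (tt N115490 (iv3 F495464)) (tt N86507 F493780) (tt N114606 F493779) (tt N115491 (iv6 F495469)) (tt N86626 (iv7 F493785)))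
theorem Q115161 : ∀ i, i < 115161 → P i := stepQ 115160 Q115160 (allL N115160 (tt N86445 (iv1 D218417)) (tt N86514 (iv0 F493791)) (tt N86626 (iv2 F493789)) (tt N115218 F494068) (tt N86506 F493788) (tt N114607 F493787) (tt N86618 (iv6 F493790)) (tt N86627 F493786))
theorem Q115162 : ∀ i, i < 115162 → P i := stepQ 115161 Q115161 (allL N115161 (tt N86627 (iv1 F493796)) (tt N86626 F493795) (tt N86445 (iv2 D218418)) (tt N86621 F493792) (tt N93124 F493793) (tt N115175 (iv5 F493859)) (tt N115268 (iv6 F494289)) (tt N86514 F493794))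
theorem Q115163 : ∀ i, i < 115163 → P i := stepQ 115162 Q115162 (allL N115162 (tt N118059 (iv1 F508346)) (tt N115216 (iv0 F494064)) (tt N115268 (iv2 F494288)) (tt N86446 F493797) (tt N109696 F493798) (tt N114516 F493799) (tt N86445 (iv6 D218419)) (tt N86517 F493800))
theorem Q115164 : ∀ i, i < 115164 → P i := stepQ 115163 Q115163 (allL N115163 (tt N86598 (iv1 F493805)) (tt N86596 F493806) (tt N86625 F493801) (tt N86517 F493802) (tt N92034 F493803) (tt N115265 (iv5 F494277)) (tt N86515 F493804) (tt N86446 (iv7 D218420)))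
theorem Q115165 : ∀ i, i < 115165 → P i := stepQ 115164 Q115164 (allL N115164 (tt N115327 F494612) (tt N115329 F494622) (tt N115328 (iv2 F494617)) (tt N86447 (iv3 D218421)) (tt N115191 (iv4 F493947)) (tt N122160 (iv5 F530500)) (tt N115190 F493944) (tt N115243 (iv7 F494181)))
theorem Q115166 : ∀ i, i < 115166 → P i := stepQ 115165 Q115165 (allL N115165 (tt N111737 (iv1 F494189)) (tt N115244 (iv0 F494188)) (tt N115293 (iv2 F494425)) (tt N113565 F493807) (tt N86448 (iv4 D218422)) (tt N120350 (iv5 F520323)) (tt N115806 F496992) (tt N115294 (iv7 F494433)))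
theorem Q115167 : ∀ i, i < 115167 → P i := stepQ 115166 Q115166 (allL N115166 (tt N115087 F493812) (tt N86616 (iv0 F493813)) (tt N86654 F493808) (tt N109055 F493809) (tt N86555 F493810) (tt N108781 F493811) (tt N86450 (iv6 D218423)) (tt N119509 (iv7 F515981)))
theorem Q115168 : ∀ i, i < 115168 → P i := stepQ 115167 Q115167 (allL N115167 (tt N86454 (iv1 D218424)) (tt N86715 (iv0 F493817)) (tt N86714 (iv2 F493816)) (tt N115303 (iv3 F494476)) (tt N86550 F493815) (tt N86695 F493818) (tt N117420 (iv6 F504956)) (tt N86547 F493814))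
theorem Q115169 : ∀ i, i < 115169 → P i := stepQ 115168 Q115168 (allL N115168 (tt N86547 (iv1 F493824)) (tt N86714 F493823) (tt N86454 (iv2 D218425)) (tt N86696 F493819) (tt N86688 F493820) (tt N114608 F493821) (tt N93008 (iv6 F493825)) (tt N86715 F493822))
theorem Q115170 : ∀ i, i < 115170 → P i := stepQ 115169 Q115169 (allL N115169 (tt N118114 F508684) (tt N115290 (iv0 F494411)) (tt N93008 F493826) (tt N86455 F493827) (tt N93007 F493828) (tt N117741 (iv5 F506734)) (tt N86454 (iv6 D218426)) (tt N118117 (iv7 F508695)))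
theorem Q115171 : ∀ i, i < 115171 → P i := stepQ 115170 Q115170 (allL N115170 (tt N86565 (iv1 F493832)) (tt N86563 F493833) (tt N86699 F493829) (tt N118117 (iv3 F508692)) (tt N86458 F493830) (tt N115190 (iv5 F493940)) (tt N86718 F493831) (tt N86455 (iv7 D218427)))
theorem Q115172 : ∀ i, i < 115172 → P i := stepQ 115171 Q115171 (allL N115171 (tt N92982 F493838) (tt N101048 F493839) (tt N86700 F493834) (tt N106392 F493835) (tt N119194 (iv4 F514299)) (tt N86456 (iv5 D218428)) (tt N114602 F493836) (tt N86703 F493837))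
theorem Q115173 : ∀ i, i < 115173 → P i := stepQ 115172 Q115172 (allL N115172 (tt N114662 F493845) (tt N87587 (iv0 F493846)) (tt N86704 F493840) (tt N87581 F493841) (tt N113772 F493842) (tt N113700 F493843) (tt N86457 (iv6 D218429)) (tt N113699 F493844))
theorem Q115174 : ∀ i, i < 115174 → P i := stepQ 115173 Q115173 (allL N115173 (tt N86696 (iv1 F493848)) (tt N86461 (iv0 D218430)) (tt N86695 (iv2 F493849)) (tt N122461 D225720) (tt N120977 (iv4 F523821)) (tt N86714 F493847) (tt N122462 D225721) (tt N86694 (iv7 F493850)))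
theorem Q115175 : ∀ i, i < 115175 → P i := stepQ 115174 Q115174 (allL N115174 (tt N86461 (iv1 D218431)) (tt N86696 (iv0 F493855)) (tt N86694 (iv2 F493856)) (tt N86646 (iv3 F493853)) (tt N120976 (iv4 F523812)) (tt N86547 F493852) (tt N86694 (iv6 F493854)) (tt N86695 F493851))
theorem Q115176 : ∀ i, i < 115176 → P i := stepQ 115175 Q115175 (allL N115175 (tt N86695 (iv1 F493863)) (tt N86694 F493862) (tt N86461 (iv2 D218432)) (tt N86715 F493857) (tt N102077 F493858) (tt N115161 F493859) (tt N114607 F493860) (tt N86696 F493861))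
theorem Q115177 : ∀ i, i < 115177 → P i := stepQ 115176 Q115176 (allL N115176 (tt N88033 F493869) (tt N88358 F493868) (tt N86717 F493864) (tt N86626 F493865) (tt N89937 F493867) (tt N86462 (iv5 D218433)) (tt N97306 F493866) (tt N115490 (iv7 F495467)))
theorem Q115178 : ∀ i, i < 115178 → P i := stepQ 115177 Q115177 (allL N115177 (tt N86586 (iv1 F493874)) (tt N86582 F493875) (tt N86718 F493870) (tt N114606 F493871) (tt N86465 F493872) (tt N115490 (iv5 F495462)) (tt N86699 F493873) (tt N86462 (iv7 D218434)))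
theorem Q115179 : ∀ i, i < 115179 → P i := stepQ 115178 Q115178 (allL N115178 (tt N86473 (iv1 F493879)) (tt N86468 (iv0 D218435)) (tt N116938 (iv2 F502596)) (tt N113603 F493878) (tt N114057 F493877) (tt N109621 F493876) (tt N109622 (iv6 F493881)) (tt N113959 F493880))
theorem Q115180 : ∀ i, i < 115180 → P i := stepQ 115179 Q115179 (allL N115179 (tt N86477 (iv1 D218436)) (tt N88963 F493882) (tt N112941 F493888) (tt N98733 (iv3 F493886)) (tt N86753 F493884) (tt N98732 F493885) (tt N115058 (iv6 F493887)) (tt N105322 F493883))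
theorem Q115181 : ∀ i, i < 115181 → P i := stepQ 115180 Q115180 (allL N115180 (tt N103226 F493894) (tt N109764 F493895) (tt N86796 F493889) (tt N110910 F493890) (tt N86522 F493891) (tt N86484 (iv5 D218437)) (tt N110908 F493892) (tt N86792 F493893))
theorem Q115182 : ∀ i, i < 115182 → P i := stepQ 115181 Q115181 (allL N115181 (tt N86519 F493900) (tt N86518 F493901) (tt N86521 F493896) (tt N111741 F493897) (tt N97271 F493898) (tt N86488 (iv5 D218438)) (tt N86638 (iv6 F493902)) (tt N86520 F493899))
theorem Q115183 : ∀ i, i < 115183 → P i := stepQ 115182 Q115182 (allL N115182 (tt N118117 (iv1 F508697)) (tt N93008 (iv0 F493905)) (tt N118114 (iv2 F508678)) (tt N115292 (iv3 F494419)) (tt N86489 F493903) (tt N86639 F493904) (tt N86488 (iv6 D218439)) (tt N115290 (iv7 F494409)))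
theorem Q115184 : ∀ i, i < 115184 → P i := stepQ 115183 Q115183 (allL N115183 (tt N106876 F493908) (tt N122282 (iv0 F531164)) (tt N115201 (iv2 F493993)) (tt N86491 (iv3 D218440)) (tt N111765 F493906) (tt N104287 (iv5 F493909)) (tt N104015 F493907) (tt N118058 (iv7 F508345)))
theorem Q115185 : ∀ i, i < 115185 → P i := stepQ 115184 Q115184 (allL N115184 (tt N104015 F493913) (tt N86611 F493914) (tt N98085 F493910) (tt N104287 F493911) (tt N97265 F493912) (tt N86491 (iv5 D218441)) (tt N122446 (iv6 F532154)) (tt N115200 (iv7 F493992)))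
theorem Q115186 : ∀ i, i < 115186 → P i := stepQ 115185 Q115185 (allL N115185 (tt N86611 F493918) (tt N104015 F493919) (tt N115200 F493990) (tt N86593 F493915) (tt N97266 F493916) (tt N86492 (iv5 D218442)) (tt N115250 (iv6 F494211)) (tt N98085 F493917))
theorem Q115187 : ∀ i, i < 115187 → P i := stepQ 115186 Q115186 (allL N115186 (tt N86493 (iv1 D218443)) (tt N121828 F528566) (tt N121827 F528557) (tt N111734 (iv3 F493923)) (tt N86511 F493922) (tt N86612 F493921) (tt N115383 (iv6 F494920)) (tt N86510 F493920))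
theorem Q115188 : ∀ i, i < 115188 → P i := stepQ 115187 Q115187 (allL N115187 (tt N86510 F493928) (tt N121827 F528558) (tt N86493 (iv2 D218444)) (tt N97307 F493924) (tt N92981 F493925) (tt N86495 F493926) (tt N86591 F493927) (tt N121828 (iv7 F528564)))
theorem Q115189 : ∀ i, i < 115189 → P i := stepQ 115188 Q115188 (allL N115188 (tt N86500 (iv1 F493931)) (tt N86494 (iv0 D218445)) (tt N118100 (iv2 F508586)) (tt N104292 (iv3 F493933)) (tt N88818 F493930) (tt N86502 F493929) (tt N112401 (iv6 F493934)) (tt N114366 F493932))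
theorem Q115190 : ∀ i, i < 115190 → P i := stepQ 115189 Q115189 (allL N115189 (tt N118061 (iv1 F508364)) (tt N86560 (iv0 F493937)) (tt N117432 (iv2 F505000)) (tt N86592 F493935) (tt N86498 F493936) (tt N121828 (iv5 F528562)) (tt N115317 F494561) (tt N86495 (iv7 D218446)))
theorem Q115191 : ∀ i, i < 115191 → P i := stepQ 115190 Q115190 (allL N115190 (tt N92996 F493942) (tt N100294 F493943) (tt N114509 F493938) (tt N97312 F493939) (tt N86497 (iv4 D218447)) (tt N115170 F493940) (tt N115164 (iv6 F493944)) (tt N114512 F493941))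
theorem Q115192 : ∀ i, i < 115192 → P i := stepQ 115191 Q115191 (allL N115191 (tt N113591 F493950) (tt N114845 (iv0 F493951)) (tt N87169 F493945) (tt N114077 F493946) (tt N115164 F493947) (tt N86827 F493948) (tt N86497 (iv6 D218448)) (tt N86567 F493949))
theorem Q115193 : ∀ i, i < 115193 → P i := stepQ 115192 Q115192 (allL N115192 (tt N97307 (iv1 F493953)) (tt N86499 (iv0 D218449)) (tt N97315 (iv2 F493958)) (tt N104295 F493952) (tt N119354 (iv4 F515181)) (tt N119349 (iv5 F515153)) (tt N122157 (iv6 F530482)) (tt N97314 F493959))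
theorem Q115194 : ∀ i, i < 115194 → P i := stepQ 115193 Q115193 (allL N115193 (tt N86499 (iv1 D218450)) (tt N97307 (iv0 F493956)) (tt N97314 F493957) (tt N118100 (iv3 F508587)) (tt N97158 F493954) (tt N118099 (iv5 F508585)) (tt N120987 (iv6 F523877)) (tt N97315 (iv7 F493955)))
theorem Q115195 : ∀ i, i < 115195 → P i := stepQ 115194 Q115194 (allL N115194 (tt N97315 (iv1 F493964)) (tt N97314 F493963) (tt N86499 (iv2 D218451)) (tt N121828 (iv3 F528560)) (tt N92212 F493960) (tt N86592 F493961) (tt N106708 (iv6 F493965)) (tt N97307 F493962))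
theorem Q115196 : ∀ i, i < 115196 → P i := stepQ 115195 Q115195 (allL N115195 (tt N106701 (iv1 F493971)) (tt N103206 (iv0 F493970)) (tt N106708 F493966) (tt N86501 F493967) (tt N92207 F493968) (tt N120609 (iv5 F521739)) (tt N86499 (iv6 D218452)) (tt N106707 F493969))
theorem Q115197 : ∀ i, i < 115197 → P i := stepQ 115196 Q115196 (allL N115196 (tt N103206 F493975) (tt N106701 F493976) (tt N106707 F493972) (tt N119554 (iv3 F516216)) (tt N99573 F493973) (tt N120608 (iv5 F521733)) (tt N86500 (iv6 D218453)) (tt N106708 F493974))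
theorem Q115198 : ∀ i, i < 115198 → P i := stepQ 115197 Q115197 (allL N115197 (tt N97447 F493977) (tt N97444 F493978) (tt N117430 (iv2 F504996)) (tt N120609 (iv3 F521737)) (tt N119383 (iv4 F515343)) (tt N86501 (iv5 D218454)) (tt N120608 F521735) (tt N117431 (iv7 F504997)))
theorem Q115199 : ∀ i, i < 115199 → P i := stepQ 115198 Q115198 (allL N115198 (tt N120987 (iv1 F523880)) (tt N122463 D225722) (tt N117433 (iv2 F505007)) (tt N86502 (iv3 D218455)) (tt N112055 F493979) (tt N104292 F493980) (tt N112054 (iv6 F493982)) (tt N114365 F493981))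
theorem Q115200 : ∀ i, i < 115200 → P i := stepQ 115199 Q115199 (allL N115199 (tt N86652 F493986) (tt N86553 F493987) (tt N115309 (iv2 F494504)) (tt N112054 F493983) (tt N92979 F493984) (tt N115253 (iv5 F494220)) (tt N86502 (iv6 D218456)) (tt N86590 F493985))
theorem Q115201 : ∀ i, i < 115201 → P i := stepQ 115200 Q115200 (allL N115200 (tt N86509 (iv1 F493991)) (tt N86504 (iv0 D218457)) (tt N115185 (iv2 F493990)) (tt N104340 F493989) (tt N115364 (iv4 F494816)) (tt N92977 F493988) (tt N119452 (iv6 F515699)) (tt N115184 F493992))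
theorem Q115202 : ∀ i, i < 115202 → P i := stepQ 115201 Q115201 (allL N115201 (tt N121416 F526242) (tt N121418 F526249) (tt N115183 F493993) (tt N115155 F493994) (tt N121070 (iv4 F524355)) (tt N104341 (iv5 F493996)) (tt N86504 (iv6 D218458)) (tt N115152 F493995))
theorem Q115203 : ∀ i, i < 115203 → P i := stepQ 115202 Q115202 (allL N115202 (tt N115383 (iv1 F494923)) (tt N86505 (iv0 D218459)) (tt N118101 (iv2 F508593)) (tt N122109 (iv3 F530221)) (tt N104828 F493997) (tt N119453 (iv5 F515706)) (tt N86612 F493998) (tt N104827 (iv7 F493999)))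
theorem Q115204 : ∀ i, i < 115204 → P i := stepQ 115203 Q115203 (allL N115203 (tt N115238 (iv1 F494162)) (tt N111655 (iv0 F494002)) (tt N116087 F498396) (tt N115234 F494143) (tt N104342 F494001) (tt N86505 (iv5 D218460)) (tt N104341 F494000) (tt N116086 F498393))
theorem Q115205 : ∀ i, i < 115205 → P i := stepQ 115204 Q115204 (allL N115204 (tt N105694 F494005) (tt N93138 (iv0 F494006)) (tt N115365 (iv2 F494820)) (tt N86506 (iv3 D218461)) (tt N115743 (iv4 F496620)) (tt N104840 F494003) (tt N86617 F494004) (tt N115742 (iv7 F496617)))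
theorem Q115206 : ∀ i, i < 115206 → P i := stepQ 115205 Q115205 (allL N115205 (tt N119509 (iv1 F515983)) (tt N86654 (iv0 F494011)) (tt N115087 F494007) (tt N105710 F494008) (tt N115491 (iv4 F495471)) (tt N86587 F494009) (tt N86507 (iv6 D218462)) (tt N86616 F494010))
theorem Q115207 : ∀ i, i < 115207 → P i := stepQ 115206 Q115206 (allL N115206 (tt N86508 (iv1 D218463)) (tt N115324 (iv0 F494594)) (tt N119094 (iv2 F513759)) (tt N98085 (iv3 F494015)) (tt N97142 F494013) (tt N86594 F494014) (tt N115315 F494548) (tt N86593 F494012))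
theorem Q115208 : ∀ i, i < 115208 → P i := stepQ 115207 Q115207 (allL N115207 (tt N86593 (iv1 F494020)) (tt N119094 (iv0 F513764)) (tt N86508 (iv2 D218464)) (tt N86559 F494016) (tt N97300 F494017) (tt N114519 (iv5 F494018)) (tt N111733 (iv6 F494019)) (tt N115324 (iv7 F494593)))
theorem Q115209 : ∀ i, i < 115209 → P i := stepQ 115208 Q115208 (allL N115208 (tt N104938 (iv1 F494027)) (tt N113769 F494025) (tt N114519 F494021) (tt N86509 F494022) (tt N86722 F494024) (tt N86508 (iv5 D218465)) (tt N86720 F494026) (tt N98177 F494023))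
theorem Q115210 : ∀ i, i < 115210 → P i := stepQ 115209 Q115209 (allL N115209 (tt N119264 (iv1 F514704)) (tt N119256 (iv0 F514662)) (tt N111733 F494028) (tt N86510 F494029) (tt N100732 F494030) (tt N112391 F494031) (tt N86508 (iv6 D218466)) (tt N111734 F494032))
theorem Q115211 : ∀ i, i < 115211 → P i := stepQ 115210 Q115210 (allL N115210 (tt N86512 (iv1 D218467)) (tt N104337 F494033) (tt N104343 F494038) (tt N93188 (iv3 F494036)) (tt N93190 (iv4 F494035)) (tt N115782 (iv5 F496844)) (tt N86620 (iv6 F494037)) (tt N104344 F494034))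
theorem Q115212 : ∀ i, i < 115212 → P i := stepQ 115211 Q115211 (allL N115211 (tt N115267 F494287) (tt N117422 (iv0 F504968)) (tt N122342 (iv2 F531527)) (tt N86513 F494039) (tt N97310 F494042) (tt N86512 (iv5 D218468)) (tt N97309 F494040) (tt N104345 F494041))
theorem Q115213 : ∀ i, i < 115213 → P i := stepQ 115212 Q115212 (allL N115212 (tt N118070 (iv1 F508412)) (tt N120965 (iv0 F523749)) (tt N115213 (iv2 F494046)) (tt N97309 F494043) (tt N106877 F494044) (tt N104344 F494045) (tt N86513 (iv6 D218469)) (tt N115782 (iv7 F496846)))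
theorem Q115214 : ∀ i, i < 115214 → P i := stepQ 115213 Q115213 (allL N115213 (tt N113933 (iv1 F494049)) (tt N104298 (iv0 F494050)) (tt N115212 F494046) (tt N86698 F494047) (tt N115366 (iv4 F494827)) (tt N86697 F494048) (tt N86519 (iv6 D218470)) (tt N115419 (iv7 F495101)))
theorem Q115215 : ∀ i, i < 115215 → P i := stepQ 115214 Q115214 (allL N115214 (tt N115229 (iv1 F494130)) (tt N91229 (iv0 F494056)) (tt N86638 F494051) (tt N86527 F494052) (tt N114853 F494053) (tt N86635 (iv5 F494055)) (tt N86521 (iv6 D218471)) (tt N86633 F494054))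
theorem Q115216 : ∀ i, i < 115216 → P i := stepQ 115215 Q115215 (allL N115215 (tt N97309 F494058) (tt N97312 (iv0 F494059)) (tt N115257 F494241) (tt N115287 F494392) (tt N110908 F494057) (tt N115156 (iv5 F494060)) (tt N86522 (iv6 D218472)) (tt N115259 (iv7 F494247)))
theorem Q115217 : ∀ i, i < 115217 → P i := stepQ 115216 Q115216 (allL N115216 (tt N115162 F494064) (tt N92980 (iv0 F494066)) (tt N115022 F494065) (tt N86523 (iv3 D218473)) (tt N114916 F494061) (tt N100294 F494062) (tt N117740 (iv6 F506729)) (tt N115025 F494063))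
theorem Q115218 : ∀ i, i < 115218 → P i := stepQ 115217 Q115217 (allL N115217 (tt N115220 (iv1 F494079)) (tt N86525 (iv0 D218474)) (tt N115276 (iv2 F494335)) (tt N115330 (iv3 F494623)) (tt N115458 (iv4 F495287)) (tt N115329 (iv5 F494621)) (tt N112056 F494067) (tt N115281 (iv7 F494358)))
theorem Q115219 : ∀ i, i < 115219 → P i := stepQ 115218 Q115218 (allL N115218 (tt N86525 (iv1 D218475)) (tt N115220 F494078) (tt N115281 (iv2 F494362)) (tt N115160 (iv3 F494068)) (tt N122099 (iv4 F530156)) (tt N115327 (iv5 F494610)) (tt N115267 (iv6 F494285)) (tt N115276 (iv7 F494331)))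
theorem Q115220 : ∀ i, i < 115220 → P i := stepQ 115219 Q115219 (allL N115219 (tt N115281 (iv1 F494357)) (tt N115276 (iv0 F494332)) (tt N115220 (iv2 F494073)) (tt N86582 F494069) (tt N112458 F494070) (tt N86647 F494071) (tt N111743 F494072) (tt N86525 (iv7 D218476)))
theorem Q115221 : ∀ i, i < 115221 → P i := stepQ 115220 Q115220 (allL N115220 (tt N115218 (iv1 F494078)) (tt N115217 F494079) (tt N115219 F494073) (tt N86635 F494074) (tt N111745 F494077) (tt N86527 (iv5 D218477)) (tt N111744 F494075) (tt N86631 F494076))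
theorem Q115222 : ∀ i, i < 115222 → P i := stepQ 115221 Q115221 (allL N115221 (tt N109725 F494084) (tt N113696 (iv0 F494086)) (tt N86538 F494080) (tt N113621 F494081) (tt N86531 F494082) (tt N109365 F494085) (tt N86530 (iv6 D218478)) (tt N109378 F494083))
theorem Q115223 : ∀ i, i < 115223 → P i := stepQ 115222 Q115222 (allL N115222 (tt N86531 (iv1 D218479)) (tt N86541 F494087) (tt N86540 (iv2 F494091)) (tt N114073 (iv3 F494093)) (tt N91212 F494090) (tt N109713 F494089) (tt N91211 (iv6 F494092)) (tt N86539 F494088))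
theorem Q115224 : ∀ i, i < 115224 → P i := stepQ 115223 Q115223 (allL N115223 (tt N86536 (iv1 D218480)) (tt N104823 (iv0 F494097)) (tt N105327 F494096) (tt N117957 (iv3 F507781)) (tt N122461 (iv4 F532253)) (tt N109153 F494094) (tt N112358 (iv6 F494095)) (tt N115310 (iv7 F494515)))
theorem Q115225 : ∀ i, i < 115225 → P i := stepQ 115224 Q115224 (allL N115224 (tt N115310 F494517) (tt N105327 F494103) (tt N86536 (iv2 D218481)) (tt N104831 F494098) (tt N86557 F494099) (tt N104824 F494100) (tt N86724 F494101) (tt N104823 F494102))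
theorem Q115226 : ∀ i, i < 115226 → P i := stepQ 115225 Q115225 (allL N115225 (tt N92735 F494108) (tt N105794 F494109) (tt N97811 F494104) (tt N105802 F494105) (tt N117724 (iv4 F506635)) (tt N109380 F494106) (tt N86537 (iv6 D218482)) (tt N105882 F494107))
theorem Q115227 : ∀ i, i < 115227 → P i := stepQ 115226 Q115226 (allL N115226 (tt N113696 (iv1 F494115)) (tt N109725 F494116) (tt N109378 F494110) (tt N86725 F494111) (tt N86541 F494112) (tt N109056 F494113) (tt N109057 F494114) (tt N86538 (iv7 D218483)))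
theorem Q115228 : ∀ i, i < 115228 → P i := stepQ 115227 Q115227 (allL N115227 (tt N121402 (iv1 F526157)) (tt N108509 (iv0 F494121)) (tt N112437 F494117) (tt N86544 (iv3 D218484)) (tt N86546 F494118) (tt N120518 (iv5 F521215)) (tt N113559 F494119) (tt N106870 F494120))
theorem Q115229 : ∀ i, i < 115229 → P i := stepQ 115228 Q115228 (allL N115228 (tt N104883 F494124) (tt N102985 F494125) (tt N112448 F494122) (tt N120518 (iv3 F521213)) (tt N88434 F494123) (tt N86544 (iv5 D218485)) (tt N111896 F494126) (tt N116119 (iv7 F498571)))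
theorem Q115230 : ∀ i, i < 115230 → P i := stepQ 115229 Q115229 (allL N115229 (tt N115278 F494345) (tt N115214 F494130) (tt N86546 (iv2 D218486)) (tt N112051 F494127) (tt N112437 F494128) (tt N112051 F494129) (tt N115306 (iv6 F494489)) (tt N115286 (iv7 F494389)))
theorem Q115231 : ∀ i, i < 115231 → P i := stepQ 115230 Q115230 (allL N115230 (tt N122464 D225723) (tt N117421 (iv0 F504961)) (tt N115306 (iv2 F494487)) (tt N86547 F494131) (tt N113559 F494132) (tt N86646 F494133) (tt N86546 (iv6 D218487)) (tt N115303 (iv7 F494477)))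
theorem Q115232 : ∀ i, i < 115232 → P i := stepQ 115231 Q115231 (allL N115231 (tt N115314 (iv1 F494543)) (tt N86552 F494138) (tt N113590 F494134) (tt N112052 F494135) (tt N86548 (iv4 D218488)) (tt N119450 (iv5 F515683)) (tt N114862 F494136) (tt N113592 F494137))
theorem Q115233 : ∀ i, i < 115233 → P i := stepQ 115232 Q115232 (allL N115232 (tt N86552 F494141) (tt N115314 F494542) (tt N113592 F494139) (tt N115309 (iv3 F494505)) (tt N86549 (iv4 D218489)) (tt N119451 (iv5 F515691)) (tt N118099 (iv6 F508581)) (tt N113590 F494140))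
theorem Q115234 : ∀ i, i < 115234 → P i := stepQ 115233 Q115233 (allL N115233 (tt N115316 (iv1 F494554)) (tt N86551 (iv0 D218490)) (tt N113558 (iv2 F494146)) (tt N122447 (iv3 F532160)) (tt N108562 F494147) (tt N113771 (iv5 F494149)) (tt N86609 F494148) (tt N115315 (iv7 F494547)))
theorem Q115235 : ∀ i, i < 115235 → P i := stepQ 115234 Q115234 (allL N115234 (tt N86551 (iv1 D218491)) (tt N115316 F494555) (tt N115315 F494545) (tt N115203 (iv3 F494143)) (tt N113560 F494144) (tt N113772 F494142) (tt N119094 (iv6 F513762)) (tt N113558 (iv7 F494145)))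
theorem Q115236 : ∀ i, i < 115236 → P i := stepQ 115235 Q115235 (allL N115235 (tt N113558 (iv1 F494469)) (tt N115315 F494546) (tt N86551 (iv2 D218492)) (tt N86652 F494150) (tt N118393 (iv4 F510108)) (tt N86652 F494151) (tt N122460 (iv6 F532248)) (tt N115316 (iv7 F494553)))
theorem Q115237 : ∀ i, i < 115237 → P i := stepQ 115236 Q115236 (allL N115236 (tt N121074 (iv1 F524374)) (tt N97302 (iv0 F496629)) (tt N118393 (iv2 F510107)) (tt N86906 F494152) (tt N86551 (iv4 D218493)) (tt N122036 (iv5 F529769)) (tt N114851 (iv6 F494154)) (tt N108274 F494153))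
theorem Q115238 : ∀ i, i < 115238 → P i := stepQ 115237 Q115237 (allL N115237 (tt N122447 (iv1 F532165)) (tt N122446 (iv0 F532157)) (tt N122460 (iv2 F532245)) (tt N86552 F494155) (tt N114851 F494156) (tt N88366 F494157) (tt N86551 (iv6 D218494)) (tt N121048 (iv7 F524222)))
theorem Q115239 : ∀ i, i < 115239 → P i := stepQ 115238 Q115238 (allL N115238 (tt N122101 (iv1 F530169)) (tt N115203 F494162) (tt N88365 F494158) (tt N88366 F494159) (tt N88374 F494161) (tt N86552 (iv5 D218495)) (tt N88365 F494160) (tt N121049 (iv7 F524229)))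
theorem Q115240 : ∀ i, i < 115240 → P i := stepQ 115239 Q115239 (allL N115239 (tt N119554 (iv1 F516221)) (tt N117429 (iv0 F504994)) (tt N119648 (iv2 F516698)) (tt N86554 F494163) (tt N86651 F494164) (tt N119402 (iv5 F515427)) (tt N86553 (iv6 D218496)) (tt N119646 (iv7 F516689)))
theorem Q115241 : ∀ i, i < 115241 → P i := stepQ 115240 Q115240 (allL N115240 (tt N122446 (iv1 F532158)) (tt N122447 (iv0 F532164)) (tt N121048 (iv2 F524219)) (tt N86556 (iv3 D218497)) (tt N114850 F494165) (tt N106710 F494166) (tt N106873 F494167) (tt N122460 (iv7 F532249)))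
theorem Q115242 : ∀ i, i < 115242 → P i := stepQ 115241 Q115241 (allL N115241 (tt N87617 F494173) (tt N87616 F494174) (tt N87618 F494168) (tt N86804 F494169) (tt N86562 (iv4 D218498)) (tt N86803 F494170) (tt N86995 F494171) (tt N87156 F494172))
theorem Q115243 : ∀ i, i < 115243 → P i := stepQ 115242 Q115242 (allL N115242 (tt N117422 F504969) (tt N115267 (iv0 F494286)) (tt N104345 F494175) (tt N86565 (iv3 D218499)) (tt N105254 F494176) (tt N104337 F494177) (tt N86641 F494178) (tt N122342 (iv7 F531531)))
theorem Q115244 : ∀ i, i < 115244 → P i := stepQ 115243 Q115243 (allL N115243 (tt N115269 (iv1 F494296)) (tt N86716 (iv0 F494182)) (tt N115706 (iv2 F496421)) (tt N86641 F494179) (tt N86567 F494180) (tt N117421 (iv5 F504960)) (tt N86565 (iv6 D218500)) (tt N115164 F494181))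
theorem Q115245 : ∀ i, i < 115245 → P i := stepQ 115244 Q115244 (allL N115244 (tt N115165 F494188) (tt N97313 (iv0 F494187)) (tt N104835 F494183) (tt N86573 F494184) (tt N86578 F494185) (tt N115656 (iv5 F496177)) (tt N86572 (iv6 D218501)) (tt N104048 F494186))
theorem Q115246 : ∀ i, i < 115246 → P i := stepQ 115245 Q115245 (allL N115245 (tt N97600 F494195) (tt N97603 F494196) (tt N103450 F494190) (tt N102050 F494191) (tt N112809 F494194) (tt N86575 (iv5 D218502)) (tt N103281 F494192) (tt N102045 F494193))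
theorem Q115247 : ∀ i, i < 115247 → P i := stepQ 115246 Q115246 (allL N115246 (tt N112052 (iv1 F494201)) (tt N112054 (iv0 F494200)) (tt N88366 F494197) (tt N86576 (iv3 D218503)) (tt N88360 F494198) (tt N122460 (iv5 F532247)) (tt N86576 (iv6 F494202)) (tt N106710 F494199))
theorem Q115248 : ∀ i, i < 115248 → P i := stepQ 115247 Q115247 (allL N115247 (tt N122159 (iv1 F530498)) (tt N122157 (iv0 F530485)) (tt N86578 F494203) (tt N104827 F494204) (tt N104835 F494205) (tt N119452 (iv5 F515698)) (tt N86577 (iv6 D218504)) (tt N122109 (iv7 F530224)))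
theorem Q115249 : ∀ i, i < 115249 → P i := stepQ 115248 Q115248 (allL N115248 (tt N122109 F530226) (tt N86578 (iv0 D218505)) (tt N122159 (iv2 F530493)) (tt N116071 F498317) (tt N115296 (iv4 F494443)) (tt N91245 F494206) (tt N122463 F532269) (tt N122157 (iv7 F530483)))
theorem Q115250 : ∀ i, i < 115250 → P i := stepQ 115249 Q115249 (allL N115249 (tt N86578 (iv1 D218506)) (tt N122109 (iv0 F530225)) (tt N122157 (iv2 F530480)) (tt N114864 (iv3 F494208)) (tt N115297 F494450) (tt N91248 F494207) (tt N97315 (iv6 F494209)) (tt N122159 (iv7 F530496)))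
theorem Q115251 : ∀ i, i < 115251 → P i := stepQ 115250 Q115250 (allL N115250 (tt N86880 (iv1 F494213)) (tt N86881 F494212) (tt N119452 (iv2 F515696)) (tt N86580 F494210) (tt N119353 (iv4 F515176)) (tt N86578 (iv5 D218507)) (tt N115185 F494211) (tt N115264 (iv7 F494273)))
theorem Q115252 : ∀ i, i < 115252 → P i := stepQ 115251 Q115251 (allL N115251 (tt N122157 (iv1 F530486)) (tt N122159 (iv0 F530497)) (tt N122109 (iv2 F530220)) (tt N86581 F494214) (tt N104048 F494215) (tt N115264 (iv5 F494272)) (tt N120271 (iv6 F519944)) (tt N86578 (iv7 D218508)))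
theorem Q115253 : ∀ i, i < 115253 → P i := stepQ 115252 Q115252 (allL N115252 (tt N93008 F494219) (tt N118117 (iv0 F508696)) (tt N115290 (iv2 F494406)) (tt N111743 F494216) (tt N86584 F494217) (tt N111742 F494218) (tt N86582 (iv6 D218509)) (tt N118114 (iv7 F508682)))
theorem Q115254 : ∀ i, i < 115254 → P i := stepQ 115253 Q115253 (allL N115253 (tt N114866 (iv1 F494221)) (tt N86589 (iv0 D218510)) (tt N114865 F494224) (tt N122159 (iv3 F530494)) (tt N111644 (iv4 F494223)) (tt N115199 F494220) (tt N120268 (iv6 F519921)) (tt N114864 (iv7 F494222)))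
theorem Q115255 : ∀ i, i < 115255 → P i := stepQ 115254 Q115254 (allL N115254 (tt N86589 (iv1 D218511)) (tt N114866 F494229) (tt N114864 F494228) (tt N116070 F498314) (tt N120270 (iv4 F519935)) (tt N86664 F494226) (tt N114366 (iv6 F494227)) (tt N114865 F494225))
theorem Q115256 : ∀ i, i < 115256 → P i := stepQ 115255 Q115255 (allL N115255 (tt N114865 (iv1 F494236)) (tt N114864 F494235) (tt N86589 (iv2 D218512)) (tt N114862 F494230) (tt N112053 F494231) (tt N113773 F494232) (tt N112052 F494233) (tt N114866 F494234))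
theorem Q115257 : ∀ i, i < 115257 → P i := stepQ 115256 Q115256 (allL N115256 (tt N119646 (iv1 F516692)) (tt N119648 F516703) (tt N119554 (iv2 F516215)) (tt N115317 F494560) (tt N109382 F494237) (tt N97447 (iv5 F494238)) (tt N86592 (iv6 D218513)) (tt N117429 (iv7 F504993)))
theorem Q115258 : ∀ i, i < 115258 → P i := stepQ 115257 Q115257 (allL N115257 (tt N117741 (iv1 F506736)) (tt N115295 (iv0 F494441)) (tt N115215 (iv2 F494241)) (tt N86596 (iv3 D218514)) (tt N103985 F494239) (tt N86596 (iv5 F494242)) (tt N115146 F494240) (tt N119362 (iv7 F515221)))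
theorem Q115259 : ∀ i, i < 115259 → P i := stepQ 115258 Q115258 (allL N115258 (tt N86634 F494244) (tt N111747 (iv0 F494245)) (tt N118947 (iv2 F512909)) (tt N86598 (iv3 D218515)) (tt N96944 F494243) (tt N118947 (iv5 F512912)) (tt N117355 F504636) (tt N118966 (iv7 F513015)))
theorem Q115260 : ∀ i, i < 115260 → P i := stepQ 115259 Q115259 (allL N115259 (tt N115295 (iv1 F494442)) (tt N117741 (iv0 F506735)) (tt N119362 F515219) (tt N118947 (iv3 F512910)) (tt N106706 F494246) (tt N86598 (iv5 D218516)) (tt N106705 (iv6 F494248)) (tt N115215 F494247))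
theorem Q115261 : ∀ i, i < 115261 → P i := stepQ 115260 Q115260 (allL N115260 (tt N119395 (iv1 F515400)) (tt N109244 (iv0 F494250)) (tt N119405 (iv2 F515447)) (tt N117355 (iv3 F504632)) (tt N86600 F494249) (tt N120587 (iv5 F521608)) (tt N86598 (iv6 D218517)) (tt N117353 F504630))
theorem Q115262 : ∀ i, i < 115262 → P i := stepQ 115261 Q115261 (allL N115261 (tt N86607 (iv1 F494256)) (tt N86606 F494257) (tt N86608 F494251) (tt N100784 F494252) (tt N114823 F494253) (tt N103056 F494254) (tt N98135 F494255) (tt N86603 (iv7 D218518)))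
theorem Q115263 : ∀ i, i < 115263 → P i := stepQ 115262 Q115262 (allL N115262 (tt N89937 (iv1 F494264)) (tt N87107 F494263) (tt N86604 (iv2 D218519)) (tt N87132 F494258) (tt N86610 F494259) (tt N87099 F494260) (tt N111728 F494261) (tt N87348 F494262))
theorem Q115264 : ∀ i, i < 115264 → P i := stepQ 115263 Q115263 (allL N115263 (tt N113635 (iv1 F494270)) (tt N113634 F494271) (tt N114823 F494265) (tt N104915 F494266) (tt N86608 F494267) (tt N102866 F494268) (tt N111801 F494269) (tt N86605 (iv7 D218520)))
theorem Q115265 : ∀ i, i < 115265 → P i := stepQ 115264 Q115264 (allL N115264 (tt N114847 F494274) (tt N114848 F494275) (tt N115382 F494916) (tt N86609 (iv3 D218521)) (tt N115283 (iv4 F494368)) (tt N115251 F494272) (tt N122447 (iv6 F532162)) (tt N115250 F494273))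
theorem Q115266 : ∀ i, i < 115266 → P i := stepQ 115265 Q115265 (allL N115265 (tt N111742 F494279) (tt N86639 F494281) (tt N97301 (iv2 F494280)) (tt N86615 (iv3 D218522)) (tt N97292 F494276) (tt N115163 F494277) (tt N122465 D225724) (tt N97306 F494278))
theorem Q115267 : ∀ i, i < 115267 → P i := stepQ 115266 Q115266 (allL N115266 (tt N115302 F494473) (tt N115300 (iv0 F494464)) (tt N122161 F530510) (tt N122465 (iv3 F532278)) (tt N86616 F494282) (tt N88358 F494283) (tt N86615 (iv6 D218523)) (tt N115491 (iv7 F495470)))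
theorem Q115268 : ∀ i, i < 115268 → P i := stepQ 115267 Q115267 (allL N115267 (tt N115242 F494286) (tt N115211 (iv0 F494287)) (tt N115274 (iv2 F494321)) (tt N86618 (iv3 D218524)) (tt N113928 F494284) (tt N115271 F494307) (tt N115218 F494285) (tt N120968 (iv7 F523765)))
theorem Q115269 : ∀ i, i < 115269 → P i := stepQ 115268 Q115268 (allL N115268 (tt N115025 F494292) (tt N115022 F494291) (tt N115162 F494288) (tt N115271 (iv3 F494303)) (tt N92983 (iv4 F494293)) (tt N86618 (iv5 D218525)) (tt N115161 F494289) (tt N92980 F494290))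
theorem Q115270 : ∀ i, i < 115270 → P i := stepQ 115269 Q115269 (allL N115269 (tt N115328 (iv1 F494613)) (tt N115243 F494296) (tt N115329 (iv2 F494618)) (tt N86620 (iv3 D218526)) (tt N93189 (iv4 F494295)) (tt N115276 (iv5 F494330)) (tt N93188 F494294) (tt N115327 (iv7 F494611)))
theorem Q115271 : ∀ i, i < 115271 → P i := stepQ 115270 Q115270 (allL N115270 (tt N104296 F494301) (tt N104406 F494300) (tt N93216 F494297) (tt N93191 F494298) (tt N86620 (iv4 D218527)) (tt N119377 (iv5 F515303)) (tt N93190 F494299) (tt N115716 (iv7 F496479)))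
theorem Q115272 : ∀ i, i < 115272 → P i := stepQ 115271 Q115271 (allL N115271 (tt N104290 F494306) (tt N93022 F494308) (tt N86623 F494302) (tt N115268 F494303) (tt N104346 F494304) (tt N115267 (iv5 F494307)) (tt N86621 (iv6 D218528)) (tt N104297 F494305))
theorem Q115273 : ∀ i, i < 115273 → P i := stepQ 115272 Q115272 (allL N115272 (tt N93180 F494314) (tt N88249 F494315) (tt N104346 F494309) (tt N93056 F494310) (tt N86623 F494311) (tt N93054 F494312) (tt N86622 (iv6 D218529)) (tt N104338 F494313))
theorem Q115274 : ∀ i, i < 115274 → P i := stepQ 115273 Q115273 (allL N115273 (tt N86623 (iv1 D218530)) (tt N104297 F494316) (tt N93022 (iv2 F494319)) (tt N118060 (iv3 F508353)) (tt N93019 F494318) (tt N113933 (iv5 F494320)) (tt N122466 D225725) (tt N104290 F494317))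
theorem Q115275 : ∀ i, i < 115275 → P i := stepQ 115274 Q115274 (allL N115274 (tt N104345 F494323) (tt N122342 (iv0 F531532)) (tt N115267 F494321) (tt N86624 F494322) (tt N117340 (iv4 F504545)) (tt N86623 (iv5 D218531)) (tt N115281 F494360) (tt N117422 (iv7 F504967)))
theorem Q115276 : ∀ i, i < 115276 → P i := stepQ 115275 Q115275 (allL N115275 (tt N93022 (iv1 F494328)) (tt N104290 F494329) (tt N104297 F494324) (tt N86625 F494325) (tt N104338 F494326) (tt N117422 (iv5 F504966)) (tt N104337 F494327) (tt N86623 (iv7 D218532)))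
theorem Q115277 : ∀ i, i < 115277 → P i := stepQ 115276 Q115276 (allL N115276 (tt N115219 F494332) (tt N86631 F494334) (tt N115217 F494335) (tt N86627 (iv3 D218533)) (tt N115741 (iv4 F496611)) (tt N115269 F494330) (tt N91234 (iv6 F494333)) (tt N115218 F494331))
theorem Q115278 : ∀ i, i < 115278 → P i := stepQ 115277 Q115277 (allL N115277 (tt N115300 F494465) (tt N115302 F494474) (tt N115491 (iv2 F495468)) (tt N91234 F494336) (tt N115087 F494337) (tt N88033 (iv5 F494338)) (tt N86627 (iv6 D218534)) (tt N122161 (iv7 F530508)))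
theorem Q115279 : ∀ i, i < 115279 → P i := stepQ 115278 Q115278 (allL N115278 (tt N91229 (iv1 F494344)) (tt N115229 (iv0 F494345)) (tt N86633 F494339) (tt N88362 F494340) (tt N114849 F494341) (tt N86630 F494343) (tt N86629 (iv6 D218535)) (tt N86638 F494342))
theorem Q115280 : ∀ i, i < 115280 → P i := stepQ 115279 Q115279 (allL N115279 (tt N112408 F494349) (tt N119353 (iv0 F515177)) (tt N86632 F494346) (tt N88819 F494347) (tt N86630 (iv4 D218536)) (tt N111357 F494350) (tt N111717 (iv6 F494351)) (tt N86637 F494348))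
theorem Q115281 : ∀ i, i < 115281 → P i := stepQ 115280 Q115280 (allL N115280 (tt N118966 (iv1 F513017)) (tt N118947 (iv0 F512913)) (tt N86634 F494352) (tt N93173 F494353) (tt N111717 F494354) (tt N115145 F494355) (tt N86630 (iv6 D218537)) (tt N111747 (iv7 F494356)))
theorem Q115282 : ∀ i, i < 115282 → P i := stepQ 115281 Q115281 (allL N115281 (tt N86631 (iv1 D218538)) (tt N115219 F494357) (tt N115218 F494362) (tt N86717 (iv3 F494359)) (tt N115815 (iv4 F497042)) (tt N86716 (iv5 F494361)) (tt N115274 (iv6 F494360)) (tt N115217 F494358))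
theorem Q115283 : ∀ i, i < 115283 → P i := stepQ 115282 Q115282 (allL N115282 (tt N91249 F494366) (tt N122158 F530491) (tt N113664 F494363) (tt N122044 F529819) (tt N86631 (iv4 D218539)) (tt N122037 (iv5 F529775)) (tt N111732 F494364) (tt N111745 F494365))
theorem Q115284 : ∀ i, i < 115284 → P i := stepQ 115283 Q115283 (allL N115283 (tt N86637 F494371) (tt N86632 (iv0 D218540)) (tt N112408 (iv2 F494369)) (tt N114238 F494370) (tt N115264 F494368) (tt N112406 F494367) (tt N120041 (iv6 F518708)) (tt N119353 (iv7 F515179)))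
theorem Q115285 : ∀ i, i < 115285 → P i := stepQ 115284 Q115284 (allL N115284 (tt N96764 F494375) (tt N112700 (iv0 F494376)) (tt N112701 F494372) (tt N86632 (iv3 D218541)) (tt N122044 (iv4 F529818)) (tt N106804 F494373) (tt N95741 F494374) (tt N112694 F494377))
theorem Q115286 : ∀ i, i < 115286 → P i := stepQ 115285 Q115285 (allL N115285 (tt N119353 F515178) (tt N112408 (iv0 F494383)) (tt N86637 F494378) (tt N112694 F494379) (tt N86635 F494380) (tt N111355 F494381) (tt N112692 F494382) (tt N86632 (iv7 D218542)))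
theorem Q115287 : ∀ i, i < 115287 → P i := stepQ 115286 Q115286 (allL N115286 (tt N86638 (iv1 F494388)) (tt N86633 (iv0 D218543)) (tt N91229 (iv2 F494387)) (tt N91235 F494386) (tt N106699 F494385) (tt N91235 F494384) (tt N106698 F494390) (tt N115229 F494389))
theorem Q115288 : ∀ i, i < 115288 → P i := stepQ 115287 Q115287 (allL N115287 (tt N111747 (iv1 F494393)) (tt N86634 (iv0 D218544)) (tt N118966 (iv2 F513012)) (tt N115215 (iv3 F494392)) (tt N96901 F494391) (tt N118966 (iv5 F513014)) (tt N104298 (iv6 F494394)) (tt N118947 (iv7 F512911)))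
theorem Q115289 : ∀ i, i < 115289 → P i := stepQ 115288 Q115288 (allL N115288 (tt N118947 (iv1 F512914)) (tt N118966 (iv0 F513016)) (tt N111747 F494395) (tt N111731 F494396) (tt N111107 F494397) (tt N112390 F494398) (tt N111742 (iv6 F494399)) (tt N86634 (iv7 D218545)))
theorem Q115290 : ∀ i, i < 115290 → P i := stepQ 115289 Q115289 (allL N115289 (tt N97301 (iv1 F494405)) (tt N97306 (iv0 F494404)) (tt N86639 F494400) (tt N111744 F494401) (tt N112692 F494402) (tt N118114 (iv5 F508681)) (tt N86635 (iv6 D218546)) (tt N111742 F494403))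
theorem Q115291 : ∀ i, i < 115291 → P i := stepQ 115290 Q115290 (allL N115290 (tt N115169 F494411) (tt N93188 (iv0 F494410)) (tt N115252 F494406) (tt N86639 F494407) (tt N104937 F494408) (tt N115292 (iv5 F494421)) (tt N86636 (iv6 D218547)) (tt N115182 F494409))
theorem Q115292 : ∀ i, i < 115292 → P i := stepQ 115291 Q115291 (allL N115291 (tt N114851 F494416) (tt N114850 (iv0 F494417)) (tt N114853 F494412) (tt N114242 F494413) (tt N86638 (iv4 D218548)) (tt N120344 (iv5 F520293)) (tt N97271 F494414) (tt N114849 F494415))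
theorem Q115293 : ∀ i, i < 115293 → P i := stepQ 115292 Q115292 (allL N115292 (tt N97306 (iv1 F494423)) (tt N97301 F494424) (tt N111742 F494418) (tt N115182 F494419) (tt N103982 F494420) (tt N115290 F494421) (tt N111747 F494422) (tt N86639 (iv7 D218549)))
theorem Q115294 : ∀ i, i < 115294 → P i := stepQ 115293 Q115293 (allL N115293 (tt N104048 F494429) (tt N104835 (iv0 F494430)) (tt N115165 F494425) (tt N112466 F494426) (tt N86641 (iv4 D218550)) (tt N120521 (iv5 F521231)) (tt N105254 F494427) (tt N97313 F494428))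
theorem Q115295 : ∀ i, i < 115295 → P i := stepQ 115294 Q115294 (allL N115294 (tt N104835 F494434) (tt N104048 (iv0 F494435)) (tt N97313 F494431) (tt N88311 F494432) (tt N86642 (iv4 D218551)) (tt N120519 (iv5 F521222)) (tt N92210 F494436) (tt N115165 F494433))
theorem Q115296 : ∀ i, i < 115296 → P i := stepQ 115295 Q115295 (allL N115295 (tt N115257 F494441) (tt N115259 F494442) (tt N97312 F494437) (tt N115782 (iv3 F496849)) (tt N92210 F494438) (tt N93188 F494439) (tt N86642 (iv6 D218552)) (tt N97309 F494440))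
theorem Q115297 : ∀ i, i < 115297 → P i := stepQ 115296 Q115296 (allL N115296 (tt N115144 (iv1 F494445)) (tt N86643 (iv0 D218553)) (tt N115143 F494447) (tt N87770 F494444) (tt N115248 F494443) (tt N120517 (iv5 F521207)) (tt N115770 (iv6 F496781)) (tt N115142 (iv7 F494446)))
theorem Q115298 : ∀ i, i < 115298 → P i := stepQ 115297 Q115297 (allL N115297 (tt N86643 (iv1 D218554)) (tt N115144 F494448) (tt N115142 (iv2 F494453)) (tt N97280 F494452) (tt N115249 (iv4 F494450)) (tt N120516 (iv5 F521201)) (tt N97279 (iv6 F494451)) (tt N115143 F494449))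
theorem Q115299 : ∀ i, i < 115299 → P i := stepQ 115298 Q115298 (allL N115298 (tt N112878 (iv1 F494455)) (tt N86644 (iv0 D218555)) (tt N115453 (iv2 F495267)) (tt N86714 (iv3 F494456)) (tt N112059 F494454) (tt N122461 (iv5 F532254)) (tt N117425 (iv6 F504978)) (tt N112058 F494457))
theorem Q115300 : ∀ i, i < 115300 → P i := stepQ 115299 Q115299 (allL N115299 (tt N86644 (iv1 D218556)) (tt N112878 F494458) (tt N112058 F494461) (tt N115306 (iv3 F494488)) (tt N87872 F494459) (tt N115305 (iv5 F494486)) (tt N112051 (iv6 F494460)) (tt N115453 (iv7 F495270)))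
theorem Q115301 : ∀ i, i < 115301 → P i := stepQ 115300 Q115300 (allL N115300 (tt N115266 F494464) (tt N115277 (iv0 F494465)) (tt N122461 (iv2 F532252)) (tt N86645 (iv3 D218557)) (tt N105327 F494462) (tt N115453 (iv5 F495269)) (tt N97461 F494463) (tt N115305 (iv7 F494484)))
theorem Q115302 : ∀ i, i < 115302 → P i := stepQ 115301 Q115301 (allL N115301 (tt N117421 F504962) (tt N122464 F532276) (tt N115303 (iv2 F494475)) (tt N115453 (iv3 F495268)) (tt N106872 F494468) (tt N86645 (iv5 D218558)) (tt N106871 (iv6 F494470)) (tt N115306 (iv7 F494490)))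
theorem Q115303 : ∀ i, i < 115303 → P i := stepQ 115302 Q115302 (allL N115302 (tt N115277 (iv1 F494474)) (tt N115266 (iv0 F494473)) (tt N115305 (iv2 F494482)) (tt N86694 F494471) (tt N115310 (iv4 F494513)) (tt N112058 F494472) (tt N86646 (iv6 D218559)) (tt N122461 (iv7 F532255)))
theorem Q115304 : ∀ i, i < 115304 → P i := stepQ 115303 Q115303 (allL N115303 (tt N122465 F532283) (tt N122160 (iv0 F530503)) (tt N115301 F494475) (tt N115167 F494476) (tt N106695 F494478) (tt N86648 (iv5 D218560)) (tt N106694 F494479) (tt N115230 F494477))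
theorem Q115305 : ∀ i, i < 115305 → P i := stepQ 115304 Q115304 (allL N115304 (tt N119405 (iv1 F515442)) (tt N117353 (iv0 F504628)) (tt N109244 F494480) (tt N115322 (iv3 F494581)) (tt N109242 F494481) (tt N119385 (iv5 F515351)) (tt N86648 (iv6 D218561)) (tt N119395 (iv7 F515399)))
theorem Q115306 : ∀ i, i < 115306 → P i := stepQ 115305 Q115305 (allL N115305 (tt N115491 (iv1 F495472)) (tt N122161 (iv0 F530509)) (tt N115302 F494482) (tt N86649 (iv3 D218562)) (tt N104083 F494483) (tt N115299 F494486) (tt N86649 (iv6 F494485)) (tt N115300 F494484))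
theorem Q115307 : ∀ i, i < 115307 → P i := stepQ 115306 Q115306 (allL N115306 (tt N122160 F530504) (tt N122465 (iv0 F532282)) (tt N115230 F494487) (tt N115299 F494488) (tt N115810 (iv4 F497011)) (tt N86649 (iv5 D218563)) (tt N115229 F494489) (tt N115301 F494490))
theorem Q115308 : ∀ i, i < 115308 → P i := stepQ 115307 Q115307 (allL N115307 (tt N113773 (iv1 F494493)) (tt N86663 (iv0 D218564)) (tt N113772 (iv2 F494494)) (tt N86881 F494492) (tt N86704 F494491) (tt N115315 (iv5 F494544)) (tt N86702 F494496) (tt N113771 (iv7 F494495)))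
theorem Q115309 : ∀ i, i < 115309 → P i := stepQ 115308 Q115308 (allL N115308 (tt N86663 (iv1 D218565)) (tt N113773 F494497) (tt N113771 (iv2 F494503)) (tt N113586 (iv3 F494500)) (tt N113699 F494499) (tt N113558 F494502) (tt N114596 (iv6 F494501)) (tt N113772 F494498))
theorem Q115310 : ∀ i, i < 115310 → P i := stepQ 115309 Q115309 (allL N115309 (tt N86685 (iv1 F494509)) (tt N104999 F494510) (tt N115199 F494504) (tt N115232 F494505) (tt N86667 F494506) (tt N114865 F494507) (tt N93122 F494508) (tt N86664 (iv7 D218566)))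
theorem Q115311 : ∀ i, i < 115311 → P i := stepQ 115310 Q115310 (allL N115310 (tt N115147 F494516) (tt N115224 (iv0 F494517)) (tt N104083 F494511) (tt N111247 F494512) (tt N115302 F494513) (tt N104082 F494514) (tt N86666 (iv6 D218567)) (tt N115223 F494515))
theorem Q115312 : ∀ i, i < 115312 → P i := stepQ 115311 Q115311 (allL N115311 (tt N86677 (iv1 D218568)) (tt N93006 F494518) (tt N106146 F494523) (tt N97644 (iv3 F494522)) (tt N114073 F494520) (tt N104675 F494521) (tt N115372 (iv6 F494862)) (tt N106142 F494519))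
theorem Q115313 : ∀ i, i < 115313 → P i := stepQ 115312 Q115312 (allL N115312 (tt N103690 F494527) (tt N97642 F494528) (tt N93103 F494524) (tt N104266 F494525) (tt N105122 F494529) (tt N86677 (iv5 D218569)) (tt N113786 F494526) (tt N117966 (iv7 F507827)))
theorem Q115314 : ∀ i, i < 115314 → P i := stepQ 115313 Q115313 (allL N115313 (tt N98756 (iv1 F494534)) (tt N86684 (iv0 D218570)) (tt N105773 (iv2 F494533)) (tt N87150 F494530) (tt N105897 (iv4 F494536)) (tt N105765 F494531) (tt N87149 F494532) (tt N105775 F494535))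
theorem Q115315 : ∀ i, i < 115315 → P i := stepQ 115314 Q115314 (allL N115314 (tt N115232 (iv1 F494542)) (tt N115231 F494543) (tt N104776 F494537) (tt N112880 F494538) (tt N86689 F494539) (tt N111655 F494540) (tt N112359 F494541) (tt N86686 (iv7 D218571)))
theorem Q115316 : ∀ i, i < 115316 → P i := stepQ 115315 Q115315 (allL N115315 (tt N115235 (iv1 F494546)) (tt N86690 (iv0 D218572)) (tt N115234 (iv2 F494545)) (tt N115385 (iv3 F494925)) (tt N119325 (iv4 F515027)) (tt N115307 F494544) (tt N115206 (iv6 F494548)) (tt N115233 F494547))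
theorem Q115317 : ∀ i, i < 115317 → P i := stepQ 115316 Q115316 (allL N115316 (tt N115234 (iv1 F494555)) (tt N115233 F494554) (tt N86690 (iv2 D218573)) (tt N104999 F494549) (tt N105000 F494550) (tt N104999 F494551) (tt N106736 F494552) (tt N115235 F494553))
theorem Q115318 : ∀ i, i < 115318 → P i := stepQ 115317 Q115317 (allL N115317 (tt N86691 (iv1 D218574)) (tt N112359 F494556) (tt N91242 (iv2 F494559)) (tt N115256 (iv3 F494560)) (tt N91231 F494558) (tt N119387 (iv5 F515366)) (tt N115189 (iv6 F494561)) (tt N91241 F494557))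
theorem Q115319 : ∀ i, i < 115319 → P i := stepQ 115318 Q115318 (allL N115318 (tt N119647 (iv1 F516696)) (tt N119402 (iv0 F515429)) (tt N97457 F494562) (tt N120604 (iv3 F521707)) (tt N97451 F494564) (tt N86691 (iv5 D218575)) (tt N97457 F494563) (tt N97454 (iv7 F494565)))
theorem Q115320 : ∀ i, i < 115320 → P i := stepQ 115319 Q115319 (allL N115319 (tt N91242 (iv1 F494571)) (tt N91241 F494572) (tt N112359 F494566) (tt N106738 F494567) (tt N86693 F494568) (tt N97454 F494569) (tt N104776 F494570) (tt N86691 (iv7 D218576)))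
theorem Q115321 : ∀ i, i < 115321 → P i := stepQ 115320 Q115320 (allL N115320 (tt N111667 (iv1 F494575)) (tt N104288 (iv0 F494576)) (tt N120976 F523816) (tt N105877 F494573) (tt N86694 (iv4 D218577)) (tt N105876 F494574) (tt N120976 (iv6 F523814)) (tt N120977 (iv7 F523819)))
theorem Q115322 : ∀ i, i < 115322 → P i := stepQ 115321 Q115321 (allL N115321 (tt N104288 (iv1 F494580)) (tt N111667 (iv0 F494579)) (tt N120977 (iv2 F523824)) (tt N104280 F494577) (tt N86695 (iv4 D218578)) (tt N112821 F494578) (tt N120989 (iv6 F523886)) (tt N120976 F523817))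
theorem Q115323 : ∀ i, i < 115323 → P i := stepQ 115322 Q115322 (allL N115322 (tt N117426 F508415) (tt N117426 (iv0 F504983)) (tt N122462 (iv2 F532259)) (tt N115304 F494581) (tt N120989 (iv4 F523885)) (tt N120593 F521643) (tt N86695 (iv6 D218579)) (tt N122462 (iv7 F532263)))
theorem Q115324 : ∀ i, i < 115324 → P i := stepQ 115323 Q115323 (allL N115323 (tt N86700 (iv1 D218580)) (tt N86703 F494582) (tt N101048 F494588) (tt N92989 (iv3 F494586)) (tt N101073 F494584) (tt N92983 F494585) (tt N104764 (iv6 F494587)) (tt N92982 F494583))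
theorem Q115325 : ∀ i, i < 115325 → P i := stepQ 115324 Q115324 (allL N115324 (tt N115206 F494594) (tt N114229 (iv0 F494595)) (tt N103956 F494589) (tt N86702 (iv3 D218581)) (tt N86882 F494590) (tt N98084 F494591) (tt N86881 F494592) (tt N115207 F494593))
theorem Q115326 : ∀ i, i < 115326 → P i := stepQ 115325 Q115325 (allL N115325 (tt N87587 (iv1 F494600)) (tt N114662 F494601) (tt N113699 F494596) (tt N119237 (iv3 F514540)) (tt N113771 F494597) (tt N86897 F494598) (tt N92997 F494599) (tt N86704 (iv7 D218582)))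
theorem Q115327 : ∀ i, i < 115327 → P i := stepQ 115326 Q115326 (allL N115326 (tt N87590 (iv1 F494604)) (tt N86712 (iv0 D218583)) (tt N104032 (iv2 F494603)) (tt N87574 (iv3 F494606)) (tt N94046 F494602) (tt N115713 (iv5 F496458)) (tt N115389 (iv6 F494946)) (tt N98363 F494605))
theorem Q115328 : ∀ i, i < 115328 → P i := stepQ 115327 Q115327 (allL N115327 (tt N115706 (iv1 F496426)) (tt N115164 (iv0 F494612)) (tt N86716 F494607) (tt N114607 F494608) (tt N87587 F494609) (tt N115218 F494610) (tt N86715 (iv6 D218584)) (tt N115269 F494611))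
theorem Q115329 : ∀ i, i < 115329 → P i := stepQ 115328 Q115328 (allL N115328 (tt N86716 (iv1 D218585)) (tt N115269 F494613) (tt N115164 F494617) (tt N87168 (iv3 F494615)) (tt N87169 F494614) (tt N122464 (iv5 F532271)) (tt N114509 (iv6 F494616)) (tt N115706 (iv7 F496424)))
theorem Q115330 : ∀ i, i < 115330 → P i := stepQ 115329 Q115329 (allL N115329 (tt N115164 (iv1 F494622)) (tt N115706 (iv0 F496425)) (tt N115269 F494618) (tt N86718 F494619) (tt N114662 F494620) (tt N115217 F494621) (tt N118117 (iv6 F508694)) (tt N86716 (iv7 D218586)))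
theorem Q115331 : ∀ i, i < 115331 → P i := stepQ 115330 Q115330 (allL N115330 (tt N88358 (iv1 F494626)) (tt N88033 F494627) (tt N115490 F495465) (tt N115217 F494623) (tt N87107 F494624) (tt N86718 F494625) (tt N122160 (iv6 F530501)) (tt N86717 (iv7 D218587)))
theorem Q115332 : ∀ i, i < 115332 → P i := stepQ 115331 Q115331 (allL N115331 (tt N111182 F494634) (tt N111185 F494633) (tt N111184 F494628) (tt N109056 F494629) (tt N93337 F494632) (tt N86725 (iv5 D218588)) (tt N93336 F494630) (tt N109379 F494631))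
theorem Q115333 : ∀ i, i < 115333 → P i := stepQ 115332 Q115332 (allL N115332 (tt N86727 (iv1 D218589)) (tt N88531 F494635) (tt N106404 (iv2 F494638)) (tt N118802 (iv3 F512152)) (tt N88448 F494637) (tt N121202 (iv5 F525113)) (tt N97803 (iv6 F494639)) (tt N112902 F494636))
theorem Q115334 : ∀ i, i < 115334 → P i := stepQ 115333 Q115333 (allL N115333 (tt N122324 (iv1 F531428)) (tt N120904 F523386) (tt N122352 (iv2 F531579)) (tt N122281 (iv3 F531153)) (tt N116058 F498269) (tt N86727 (iv5 D218590)) (tt N122408 (iv6 F531924)) (tt N112904 F494640))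
theorem Q115335 : ∀ i, i < 115335 → P i := stepQ 115334 Q115334 (allL N115334 (tt N106158 (iv1 F494646)) (tt N105544 (iv0 F494645)) (tt N120862 (iv2 F523141)) (tt N98656 F494641) (tt N86728 F494642) (tt N103394 F494644) (tt N86727 (iv6 D218591)) (tt N104513 F494643))
theorem Q115336 : ∀ i, i < 115336 → P i := stepQ 115335 Q115335 (allL N115335 (tt N86743 F494651) (tt N86732 (iv0 D218592)) (tt N86740 F494653) (tt N98563 F494652) (tt N87642 F494648) (tt N92741 F494647) (tt N109058 F494649) (tt N86741 (iv7 F494650)))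
theorem Q115337 : ∀ i, i < 115337 → P i := stepQ 115336 Q115336 (allL N115336 (tt N86732 (iv1 D218593)) (tt N86743 F494654) (tt N86741 (iv2 F494658)) (tt N92124 (iv3 F494659)) (tt N87643 F494656) (tt N92123 F494657) (tt N103053 (iv6 F494660)) (tt N86740 F494655))
theorem Q115338 : ∀ i, i < 115338 → P i := stepQ 115337 Q115337 (allL N115337 (tt N120754 F522539) (tt N117961 (iv0 F507803)) (tt N86742 F494661) (tt N114428 F494662) (tt N102331 F494664) (tt N86732 (iv5 D218594)) (tt N99809 F494663) (tt N119540 (iv7 F516145)))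
theorem Q115339 : ∀ i, i < 115339 → P i := stepQ 115338 Q115338 (allL N115338 (tt N86741 (iv1 F494669)) (tt N86740 F494670) (tt N86743 F494665) (tt N109676 F494666) (tt N86735 F494667) (tt N119540 (iv5 F516144)) (tt N103104 F494668) (tt N86732 (iv7 D218595)))
theorem Q115340 : ∀ i, i < 115340 → P i := stepQ 115339 Q115339 (allL N115339 (tt N106255 F494675) (tt N122365 F531664) (tt N106525 F494671) (tt N86734 (iv3 D218596)) (tt N108874 F494676) (tt N90269 F494672) (tt N105705 F494673) (tt N86744 F494674))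
theorem Q115341 : ∀ i, i < 115341 → P i := stepQ 115340 Q115340 (allL N115340 (tt N88973 F494680) (tt N120562 F521467) (tt N116363 (iv2 F499722)) (tt N115677 (iv3 F496264)) (tt N113676 F494679) (tt N86737 (iv5 D218597)) (tt N115675 F496257) (tt N114748 F494678))
theorem Q115342 : ∀ i, i < 115342 → P i := stepQ 115341 Q115341 (allL N115341 (tt N110209 (iv1 F494685)) (tt N86738 (iv0 D218598)) (tt N89657 (iv2 F494684)) (tt N89707 F494682) (tt N114556 F494681) (tt N120324 (iv5 F520196)) (tt N90435 F494683) (tt N114729 F494686))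
theorem Q115343 : ∀ i, i < 115343 → P i := stepQ 115342 Q115342 (allL N115342 (tt N97548 F494692) (tt N117998 (iv0 F508001)) (tt N109058 F494687) (tt N94766 F494688) (tt N109293 F494689) (tt N99808 F494690) (tt N86740 (iv6 D218599)) (tt N109059 F494691))
theorem Q115344 : ∀ i, i < 115344 → P i := stepQ 115343 Q115343 (allL N115343 (tt N86742 (iv1 D218600)) (tt N119540 (iv0 F516146)) (tt N117961 (iv2 F507798)) (tt N104955 F494696) (tt N92060 F494693) (tt N107921 (iv5 F494694)) (tt N92813 (iv6 F494695)) (tt N120754 (iv7 F522537)))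
theorem Q115345 : ∀ i, i < 115345 → P i := stepQ 115344 Q115344 (allL N115344 (tt N117961 F507804) (tt N120754 (iv0 F522538)) (tt N119540 (iv2 F516141)) (tt N98754 F494697) (tt N102336 F494698) (tt N86743 F494699) (tt N97877 F494700) (tt N86742 (iv7 D218601)))
theorem Q115346 : ∀ i, i < 115346 → P i := stepQ 115345 Q115345 (allL N115345 (tt N106525 (iv1 F494701)) (tt N86744 (iv0 D218602)) (tt N122365 (iv2 F531659)) (tt N105954 (iv3 F494703)) (tt N118404 F510170) (tt N105953 (iv5 F494704)) (tt N105514 (iv6 F494705)) (tt N106255 F494702))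
theorem Q115347 : ∀ i, i < 115347 → P i := stepQ 115346 Q115346 (allL N115346 (tt N122365 (iv1 F531665)) (tt N106255 F494709) (tt N86744 (iv2 D218603)) (tt N118629 (iv3 F511219)) (tt N108875 F494706) (tt N106519 F494707) (tt N118628 F511217) (tt N106525 F494708))
theorem Q115348 : ∀ i, i < 115348 → P i := stepQ 115347 Q115347 (allL N115347 (tt N119155 (iv1 F514087)) (tt N105508 (iv0 F494713)) (tt N118628 (iv2 F511213)) (tt N86747 F494710) (tt N119122 (iv4 F513903)) (tt N110308 F494711) (tt N86744 (iv6 D218604)) (tt N110307 F494712))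
theorem Q115349 : ∀ i, i < 115349 → P i := stepQ 115348 Q115348 (allL N115348 (tt N118134 F508787) (tt N120495 (iv0 F521081)) (tt N101514 F494714) (tt N121607 F527306) (tt N86746 (iv4 D218605)) (tt N101513 F494715) (tt N110949 F494716) (tt N90271 F494717))
theorem Q115350 : ∀ i, i < 115350 → P i := stepQ 115349 Q115349 (allL N115349 (tt N105953 (iv1 F494720)) (tt N106254 F494723) (tt N106253 F494721) (tt N86749 (iv3 D218606)) (tt N118215 (iv4 F509199)) (tt N121142 (iv5 F524746)) (tt N106290 F494718) (tt N106228 F494719))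
theorem Q115351 : ∀ i, i < 115351 → P i := stepQ 115350 Q115350 (allL N115350 (tt N106302 F494728) (tt N91742 F494729) (tt N101510 F494724) (tt N98201 F494730) (tt N86749 (iv4 D218607)) (tt N101509 F494727) (tt N89588 F494725) (tt N112536 F494726))
theorem Q115352 : ∀ i, i < 115352 → P i := stepQ 115351 Q115351 (allL N115351 (tt N116696 F501357) (tt N94536 (iv0 F494735)) (tt N110896 F494731) (tt N86751 (iv3 D218608)) (tt N115111 F494732) (tt N108672 F494736) (tt N86755 F494733) (tt N108928 F494734))
theorem Q115353 : ∀ i, i < 115353 → P i := stepQ 115352 Q115352 (allL N115352 (tt N95281 F494740) (tt N101527 F494741) (tt N116994 (iv2 F502871)) (tt N108672 F494737) (tt N103428 (iv4 F494742)) (tt N86751 (iv5 D218609)) (tt N101576 F494738) (tt N95061 F494739))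
theorem Q115354 : ∀ i, i < 115354 → P i := stepQ 115353 Q115353 (allL N115353 (tt N89902 F494748) (tt N94237 F494749) (tt N89365 F494743) (tt N90361 F494744) (tt N86756 (iv4 D218610)) (tt N112800 F494745) (tt N100084 F494746) (tt N89363 F494747))
theorem Q115355 : ∀ i, i < 115355 → P i := stepQ 115354 Q115354 (allL N115354 (tt N86768 (iv1 F494753)) (tt N86762 (iv0 D218611)) (tt N87559 (iv2 F494752)) (tt N114241 F494751) (tt N113626 F494750) (tt N121783 (iv5 F528286)) (tt N87141 (iv6 F494755)) (tt N113629 F494754))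
theorem Q115356 : ∀ i, i < 115356 → P i := stepQ 115355 Q115355 (allL N115355 (tt N87545 (iv1 F494761)) (tt N86824 F494762) (tt N87604 F494756) (tt N105910 F494757) (tt N87155 F494758) (tt N114906 F494759) (tt N105908 F494760) (tt N86763 (iv7 D218612)))
theorem Q115357 : ∀ i, i < 115357 → P i := stepQ 115356 Q115356 (allL N115356 (tt N86838 (iv1 F494768)) (tt N115141 F494769) (tt N105908 F494763) (tt N105851 F494764) (tt N87606 F494765) (tt N105850 F494766) (tt N87604 F494767) (tt N86769 (iv7 D218613)))
theorem Q115358 : ∀ i, i < 115358 → P i := stepQ 115357 Q115357 (allL N115357 (tt N116119 (iv1 F498574)) (tt N112448 F494774) (tt N104883 F494770) (tt N120941 (iv3 F523597)) (tt N87497 F494771) (tt N86773 (iv5 D218614)) (tt N87498 F494772) (tt N102985 F494773))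
theorem Q115359 : ∀ i, i < 115359 → P i := stepQ 115358 Q115358 (allL N115358 (tt N114547 F494778) (tt N91228 F494779) (tt N91178 F494775) (tt N118098 (iv3 F508578)) (tt N119577 (iv4 F516345)) (tt N86781 (iv5 D218615)) (tt N114863 F494776) (tt N91180 F494777))
theorem Q115360 : ∀ i, i < 115360 → P i := stepQ 115359 Q115359 (allL N115359 (tt N101335 F494785) (tt N101052 F494786) (tt N91703 F494780) (tt N108784 F494781) (tt N106571 F494782) (tt N86786 (iv5 D218616)) (tt N90834 F494783) (tt N101195 F494784))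
theorem Q115361 : ∀ i, i < 115361 → P i := stepQ 115360 Q115360 (allL N115360 (tt N114512 F494791) (tt N114509 F494793) (tt N92996 F494787) (tt N86788 (iv3 D218617)) (tt N86789 F494788) (tt N115025 F494789) (tt N86788 (iv6 F494792)) (tt N100294 F494790))
theorem Q115362 : ∀ i, i < 115362 → P i := stepQ 115361 Q115361 (allL N115361 (tt N112716 F494799) (tt N112715 F494800) (tt N112717 F494794) (tt N86792 F494795) (tt N87865 F494796) (tt N86791 (iv5 D218618)) (tt N108548 F494797) (tt N110910 F494798))
theorem Q115363 : ∀ i, i < 115363 → P i := stepQ 115362 Q115362 (allL N115362 (tt N112446 F494805) (tt N119005 F513239) (tt N87613 F494801) (tt N86799 F494802) (tt N87863 F494803) (tt N86798 (iv5 D218619)) (tt N87609 F494804) (tt N115449 (iv7 F495247)))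
theorem Q115364 : ∀ i, i < 115364 → P i := stepQ 115363 Q115363 (allL N115363 (tt N86804 (iv1 F494808)) (tt N86799 (iv0 D218620)) (tt N97265 F494810) (tt N97149 (iv3 F494809)) (tt N98085 F494807) (tt N93112 F494806) (tt N108509 F494811) (tt N97266 F494812))
theorem Q115365 : ∀ i, i < 115365 → P i := stepQ 115364 Q115364 (allL N115364 (tt N86799 (iv1 D218621)) (tt N86804 F494813) (tt N97266 F494819) (tt N104392 (iv3 F494817)) (tt N115200 F494816) (tt N93111 F494815) (tt N111068 (iv6 F494818)) (tt N97265 F494814))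
theorem Q115366 : ∀ i, i < 115366 → P i := stepQ 115365 Q115365 (allL N115365 (tt N118104 (iv1 F508619)) (tt N95865 (iv0 F494824)) (tt N115204 F494820) (tt N86800 (iv3 D218622)) (tt N115462 (iv4 F495304)) (tt N105786 F494821) (tt N86866 F494822) (tt N105933 F494823))
theorem Q115367 : ∀ i, i < 115367 → P i := stepQ 115366 Q115366 (allL N115366 (tt N106868 F494830) (tt N106878 (iv0 F494831)) (tt N106877 F494825) (tt N86995 F494826) (tt N115213 F494827) (tt N86990 F494828) (tt N86804 (iv6 D218623)) (tt N86989 F494829))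
theorem Q115368 : ∀ i, i < 115368 → P i := stepQ 115367 Q115367 (allL N115367 (tt N87061 (iv1 F494836)) (tt N86805 (iv0 D218624)) (tt N113836 (iv2 F494837)) (tt N86993 F494834) (tt N104916 F494833) (tt N89915 F494832) (tt N107279 F494835) (tt N111071 (iv7 F494838)))
theorem Q115369 : ∀ i, i < 115369 → P i := stepQ 115368 Q115368 (allL N115368 (tt N86805 (iv1 D218625)) (tt N87061 F494839) (tt N111071 (iv2 F494842)) (tt N115759 (iv3 F496706)) (tt N91205 F494841) (tt N118806 (iv5 F512172)) (tt N86848 (iv6 F494843)) (tt N113836 F494840))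
theorem Q115370 : ∀ i, i < 115370 → P i := stepQ 115369 Q115369 (allL N115369 (tt N112427 (iv1 F494848)) (tt N108606 F494849) (tt N111808 F494844) (tt N88081 F494845) (tt N117413 (iv4 F504914)) (tt N88078 F494846) (tt N88079 F494847) (tt N86812 (iv7 D218626)))
theorem Q115371 : ∀ i, i < 115371 → P i := stepQ 115370 Q115370 (allL N115370 (tt N119001 F513216) (tt N95552 (iv0 F494854)) (tt N86847 F494850) (tt N104785 F494851) (tt N92955 F494852) (tt N101957 F494853) (tt N86846 (iv6 D218627)) (tt N118094 (iv7 F508550)))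
theorem Q115372 : ∀ i, i < 115372 → P i := stepQ 115371 Q115371 (allL N115371 (tt N95552 (iv1 F494859)) (tt N119001 (iv0 F513215)) (tt N118094 (iv2 F508548)) (tt N86850 F494855) (tt N98365 F494856) (tt N101962 F494857) (tt N96933 F494858) (tt N86847 (iv7 D218628)))
theorem Q115373 : ∀ i, i < 115373 → P i := stepQ 115372 Q115372 (allL N115372 (tt N93191 F494864) (tt N93214 (iv0 F494865)) (tt N115715 F496472) (tt N86857 (iv3 D218629)) (tt N94017 F494860) (tt N112868 F494861) (tt N115311 F494862) (tt N104299 F494863))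
theorem Q115374 : ∀ i, i < 115374 → P i := stepQ 115373 Q115373 (allL N115373 (tt N102350 (iv1 F494871)) (tt N102355 F494870) (tt N86859 (iv2 D218630)) (tt N115715 F496474) (tt N86863 F494866) (tt N94792 F494867) (tt N88318 F494868) (tt N102354 F494869))
theorem Q115375 : ∀ i, i < 115375 → P i := stepQ 115374 Q115374 (allL N115374 (tt N100518 (iv1 F494876)) (tt N104186 (iv0 F494874)) (tt N115695 F496363) (tt N86861 (iv3 D218631)) (tt N88344 F494872) (tt N106174 F494873) (tt N87514 F494875) (tt N115696 (iv7 F496365)))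
theorem Q115376 : ∀ i, i < 115376 → P i := stepQ 115375 Q115375 (allL N115375 (tt N105002 F494881) (tt N111262 F494882) (tt N118052 (iv2 F508306)) (tt N87514 F494877) (tt N87903 F494878) (tt N105849 F494879) (tt N86861 (iv6 D218632)) (tt N93119 F494880))
theorem Q115377 : ∀ i, i < 115377 → P i := stepQ 115376 Q115376 (allL N115376 (tt N108611 (iv1 F494888)) (tt N108602 (iv0 F494887)) (tt N108608 F494883) (tt N119357 (iv3 F515198)) (tt N86865 F494884) (tt N113657 F494886) (tt N86864 (iv6 D218633)) (tt N108609 F494885))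
theorem Q115378 : ∀ i, i < 115378 → P i := stepQ 115377 Q115377 (allL N115377 (tt N103339 F494894) (tt N103336 F494893) (tt N117672 (iv2 F506336)) (tt N86872 F494889) (tt N103454 F494892) (tt N86871 (iv5 D218634)) (tt N111115 F494890) (tt N108961 F494891))
theorem Q115379 : ∀ i, i < 115379 → P i := stepQ 115378 Q115378 (allL N115378 (tt N112442 F494900) (tt N112441 F494899) (tt N112421 F494895) (tt N88211 F494896) (tt N86874 (iv4 D218635)) (tt N114206 (iv5 F494901)) (tt N88209 F494897) (tt N111120 F494898))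
theorem Q115380 : ∀ i, i < 115380 → P i := stepQ 115379 Q115379 (allL N115379 (tt N112424 F494907) (tt N112423 F494908) (tt N86877 F494904) (tt N115813 (iv3 F497028)) (tt N86876 (iv4 D218636)) (tt N118890 (iv5 F512601)) (tt N107235 F494905) (tt N112420 F494906))
theorem Q115381 : ∀ i, i < 115381 → P i := stepQ 115380 Q115380 (allL N115380 (tt N112420 (iv1 F494911)) (tt N86877 (iv0 D218637)) (tt N112424 (iv2 F494910)) (tt N120794 F522757) (tt N112700 F494909) (tt N122192 (iv5 F530690)) (tt N119345 F515134) (tt N112423 F494912))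
theorem Q115382 : ∀ i, i < 115382 → P i := stepQ 115381 Q115381 (allL N115381 (tt N121714 F527918) (tt N121710 (iv0 F527896)) (tt N118890 (iv2 F512599)) (tt N113619 F494913) (tt N122467 D225726) (tt N86877 (iv5 D218638)) (tt N118886 (iv6 F512586)) (tt N112425 F494914))
theorem Q115383 : ∀ i, i < 115383 → P i := stepQ 115382 Q115382 (allL N115382 (tt N86881 (iv1 F494917)) (tt N86880 (iv0 D218639)) (tt N115264 (iv2 F494916)) (tt N119453 (iv3 F515704)) (tt N112408 F494915) (tt N122109 (iv5 F530223)) (tt N115384 (iv6 F494924)) (tt N119452 (iv7 F515702)))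
theorem Q115384 : ∀ i, i < 115384 → P i := stepQ 115383 Q115383 (allL N115383 (tt N115150 F494922) (tt N115202 F494923) (tt N113586 F494918) (tt N86880 (iv3 D218640)) (tt N104019 F494919) (tt N122101 (iv5 F530171)) (tt N115186 F494920) (tt N104016 F494921))
theorem Q115385 : ∀ i, i < 115385 → P i := stepQ 115384 Q115384 (allL N115384 (tt N121048 (iv1 F524225)) (tt N122460 (iv0 F532250)) (tt N122447 (iv2 F532159)) (tt N122101 F530173) (tt N121402 (iv4 F526163)) (tt N86880 (iv5 D218641)) (tt N115382 F494924) (tt N122446 (iv7 F532155)))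
theorem Q115386 : ∀ i, i < 115386 → P i := stepQ 115385 Q115385 (allL N115385 (tt N122460 (iv1 F532251)) (tt N121048 (iv0 F524223)) (tt N122446 (iv2 F532152)) (tt N115315 F494925) (tt N108509 F494927) (tt N86881 (iv5 D218642)) (tt N98085 F494926) (tt N122447 (iv7 F532163)))
theorem Q115387 : ∀ i, i < 115387 → P i := stepQ 115386 Q115386 (allL N115386 (tt N98213 (iv1 F494931)) (tt N104000 F494932) (tt N117756 (iv2 F506810)) (tt N86900 F494928) (tt N117754 (iv4 F506800)) (tt N86888 F494929) (tt N92789 F494930) (tt N86887 (iv7 D218643)))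
theorem Q115388 : ∀ i, i < 115388 → P i := stepQ 115387 Q115387 (allL N115387 (tt N114579 F494934) (tt N114580 F494935) (tt N111176 F494933) (tt N116884 (iv3 F502344)) (tt N118443 (iv4 F510383)) (tt N86890 (iv5 D218644)) (tt N118442 (iv6 F510380)) (tt N121604 (iv7 F527286)))
theorem Q115389 : ∀ i, i < 115389 → P i := stepQ 115388 Q115388 (allL N115388 (tt N86892 (iv1 D218645)) (tt N86896 F494936) (tt N113692 F494942) (tt N92861 (iv3 F494940)) (tt N94516 F494939) (tt N104917 F494938) (tt N89865 (iv6 F494941)) (tt N92858 F494937))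
theorem Q115390 : ∀ i, i < 115390 → P i := stepQ 115389 Q115389 (allL N115389 (tt N93192 (iv1 F494949)) (tt N104086 F494948) (tt N86894 (iv2 D218646)) (tt N113695 F494943) (tt N98772 F494944) (tt N109868 F494945) (tt N115326 F494946) (tt N100661 F494947))
theorem Q115391 : ∀ i, i < 115391 → P i := stepQ 115390 Q115390 (allL N115390 (tt N113700 (iv1 F494954)) (tt N86897 (iv0 D218647)) (tt N113698 (iv2 F494953)) (tt N87593 F494951) (tt N121725 (iv4 F527973)) (tt N113637 F494950) (tt N97268 F494952) (tt N113684 F494955))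
theorem Q115392 : ∀ i, i < 115392 → P i := stepQ 115391 Q115391 (allL N115391 (tt N87542 F494959) (tt N119372 (iv0 F515273)) (tt N113669 F494956) (tt N117434 (iv3 F505010)) (tt N116364 (iv4 F499730)) (tt N86901 (iv5 D218648)) (tt N96814 F494957) (tt N113671 F494958))
theorem Q115393 : ∀ i, i < 115393 → P i := stepQ 115392 Q115392 (allL N115392 (tt N87870 F494964) (tt N87876 F494965) (tt N112451 F494960) (tt N86903 (iv3 D218649)) (tt N87620 F494961) (tt N115894 (iv5 F497457)) (tt N87611 F494962) (tt N112452 F494963))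
theorem Q115394 : ∀ i, i < 115394 → P i := stepQ 115393 Q115393 (allL N115393 (tt N119192 (iv1 F514289)) (tt N121723 (iv0 F527961)) (tt N113676 F494966) (tt N122036 (iv3 F529771)) (tt N116363 (iv4 F499724)) (tt N86906 (iv5 D218650)) (tt N115870 (iv6 F497327)) (tt N108275 F494967))
theorem Q115395 : ∀ i, i < 115395 → P i := stepQ 115394 Q115394 (allL N115394 (tt N118960 F512987) (tt N91198 F494971) (tt N108749 F494968) (tt N118729 (iv3 F511777)) (tt N116362 (iv4 F499718)) (tt N86907 (iv5 D218651)) (tt N99723 F494969) (tt N113679 F494970))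
theorem Q115396 : ∀ i, i < 115396 → P i := stepQ 115395 Q115395 (allL N115395 (tt N91198 F494975) (tt N118960 (iv0 F512986)) (tt N113679 F494972) (tt N111892 F494973) (tt N116361 (iv4 F499714)) (tt N86908 (iv5 D218652)) (tt N114087 (iv6 F494976)) (tt N108749 F494974))
theorem Q115397 : ∀ i, i < 115397 → P i := stepQ 115396 Q115396 (allL N115396 (tt N96941 (iv1 F494982)) (tt N104833 (iv0 F494981)) (tt N108740 F494977) (tt N113562 F494978) (tt N97963 F494979) (tt N117798 (iv5 F507027)) (tt N86908 (iv6 D218653)) (tt N98762 F494980))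
theorem Q115398 : ∀ i, i < 115398 → P i := stepQ 115397 Q115397 (allL N115397 (tt N115090 F494987) (tt N116364 F499732) (tt N113650 F494983) (tt N108864 (iv3 F494988)) (tt N86909 (iv4 D218654)) (tt N113644 F494984) (tt N108852 F494985) (tt N113682 F494986))
theorem Q115399 : ∀ i, i < 115399 → P i := stepQ 115398 Q115398 (allL N115398 (tt N114414 F494992) (tt N114417 F494993) (tt N118206 F509143) (tt N104733 F494989) (tt N105378 F494991) (tt N86913 (iv5 D218655)) (tt N105377 F494990) (tt N117343 (iv7 F504563)))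
theorem Q115400 : ∀ i, i < 115400 → P i := stepQ 115399 Q115399 (allL N115399 (tt N102920 F494998) (tt N102911 F494999) (tt N102919 F494994) (tt N103873 F494995) (tt N98748 F494996) (tt N86917 (iv5 D218656)) (tt N114425 (iv6 F495000)) (tt N98746 F494997))
theorem Q115401 : ∀ i, i < 115401 → P i := stepQ 115400 Q115400 (allL N115400 (tt N97780 (iv1 F495006)) (tt N97519 (iv0 F495005)) (tt N97783 (iv2 F495007)) (tt N86918 (iv3 D218657)) (tt N97882 F495001) (tt N97661 F495002) (tt N97881 F495003) (tt N97782 F495004))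
theorem Q115402 : ∀ i, i < 115402 → P i := stepQ 115401 Q115401 (allL N115401 (tt N87681 (iv1 F495010)) (tt N86921 (iv0 D218658)) (tt N97549 F495012) (tt N113145 (iv3 F495011)) (tt N117749 (iv4 F506771)) (tt N97537 F495008) (tt N97539 F495009) (tt N119644 (iv7 F516678)))
theorem Q115403 : ∀ i, i < 115403 → P i := stepQ 115402 Q115402 (allL N115402 (tt N86921 (iv1 D218659)) (tt N87681 F495013) (tt N119644 (iv2 F516674)) (tt N97560 (iv3 F495016)) (tt N118077 (iv4 F508446)) (tt N97550 F495015) (tt N120812 F522861) (tt N97549 F495014))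
theorem Q115404 : ∀ i, i < 115404 → P i := stepQ 115403 Q115403 (allL N115403 (tt N105315 (iv1 F495019)) (tt N86926 (iv0 D218660)) (tt N121177 F524960) (tt N106595 F495017) (tt N122130 (iv4 F530343)) (tt N106593 F495018) (tt N96597 (iv6 F495021)) (tt N113036 F495020))
theorem Q115405 : ∀ i, i < 115405 → P i := stepQ 115404 Q115404 (allL N115404 (tt N121193 F525058) (tt N122356 (iv0 F531609)) (tt N120818 (iv2 F522895)) (tt N102899 F495022) (tt N86926 (iv4 D218661)) (tt N122468 D225727) (tt N102907 F495023) (tt N120879 (iv7 F523247)))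
theorem Q115406 : ∀ i, i < 115406 → P i := stepQ 115405 Q115405 (allL N115405 (tt N86929 (iv1 F495028)) (tt N86927 (iv0 D218662)) (tt N92243 (iv2 F495027)) (tt N98572 (iv3 F495030)) (tt N87043 F495025) (tt N104568 F495024) (tt N93095 F495026) (tt N86946 F495029))
theorem Q115407 : ∀ i, i < 115407 → P i := stepQ 115406 Q115406 (allL N115406 (tt N113373 (iv1 F495035)) (tt N86931 (iv0 D218663)) (tt N113372 (iv2 F495034)) (tt N88425 F495032) (tt N120079 (iv4 F518936)) (tt N112895 F495031) (tt N91157 F495033) (tt N88422 F495036))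
theorem Q115408 : ∀ i, i < 115408 → P i := stepQ 115407 Q115407 (allL N115407 (tt N113372 (iv1 F495042)) (tt N88422 F495041) (tt N86931 (iv2 D218664)) (tt N87692 F495037) (tt N111340 F495038) (tt N116444 (iv5 F500148)) (tt N87694 F495039) (tt N113373 F495040))
theorem Q115409 : ∀ i, i < 115409 → P i := stepQ 115408 Q115408 (allL N115408 (tt N87731 F495046) (tt N111619 (iv0 F495047)) (tt N111629 F495043) (tt N111633 F495044) (tt N86947 (iv4 D218665)) (tt N117624 (iv5 F506059)) (tt N111652 F495045) (tt N115775 (iv7 F496804)))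
theorem Q115410 : ∀ i, i < 115410 → P i := stepQ 115409 Q115409 (allL N115409 (tt N111072 F495050) (tt N111073 (iv0 F495051)) (tt N103340 F495048) (tt N86948 (iv3 D218666)) (tt N119236 (iv4 F514533)) (tt N98018 F495049) (tt N98019 F495052) (tt N115776 (iv7 F496810)))
theorem Q115411 : ∀ i, i < 115411 → P i := stepQ 115410 Q115410 (allL N115410 (tt N105873 F495057) (tt N111671 (iv0 F495058)) (tt N103914 F495053) (tt N98019 F495054) (tt N118106 (iv4 F508630)) (tt N98015 F495055) (tt N86948 (iv6 D218667)) (tt N103335 F495056))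
theorem Q115412 : ∀ i, i < 115412 → P i := stepQ 115411 Q115411 (allL N115411 (tt N106724 F495063) (tt N111875 F495064) (tt N91985 F495059) (tt N111890 F495060) (tt N86955 (iv4 D218668)) (tt N122368 (iv5 F531680)) (tt N91984 F495061) (tt N111934 F495062))
theorem Q115413 : ∀ i, i < 115413 → P i := stepQ 115412 Q115412 (allL N115412 (tt N104301 F495070) (tt N104282 (iv0 F495071)) (tt N92928 F495065) (tt N104300 F495066) (tt N104535 F495067) (tt N102928 F495068) (tt N86963 (iv6 D218669)) (tt N104302 F495069))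
theorem Q115414 : ∀ i, i < 115414 → P i := stepQ 115413 Q115413 (allL N115413 (tt N115795 (iv1 F496931)) (tt N86964 (iv0 D218670)) (tt N115794 (iv2 F496923)) (tt N105749 F496924) (tt N116236 (iv4 F499168)) (tt N119276 (iv5 F514773)) (tt N120799 (iv6 F522781)) (tt N115793 F496925))
theorem Q115415 : ∀ i, i < 115415 → P i := stepQ 115414 Q115414 (allL N115414 (tt N92053 F495076) (tt N97492 F495077) (tt N97485 F495072) (tt N95785 F495073) (tt N86975 (iv4 D218671)) (tt N116283 (iv5 F499346)) (tt N103371 F495074) (tt N97491 F495075))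
theorem Q115416 : ∀ i, i < 115416 → P i := stepQ 115415 Q115415 (allL N115415 (tt N113624 F495083) (tt N112497 (iv0 F495084)) (tt N96755 F495078) (tt N87004 F495079) (tt N92119 F495080) (tt N91821 F495081) (tt N86976 (iv6 D218672)) (tt N86986 F495082))
theorem Q115417 : ∀ i, i < 115417 → P i := stepQ 115416 Q115416 (allL N115416 (tt N87781 F495089) (tt N92691 (iv0 F495090)) (tt N103412 F495085) (tt N111392 F495086) (tt N104425 F495087) (tt N97839 F495088) (tt N86985 (iv6 D218673)) (tt N119219 (iv7 F514434)))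
theorem Q115418 : ∀ i, i < 115418 → P i := stepQ 115417 Q115417 (allL N115417 (tt N96755 (iv1 F495094)) (tt N86986 (iv0 D218674)) (tt N112497 (iv2 F495093)) (tt N91819 F495096) (tt N117696 (iv4 F506474)) (tt N92091 F495091) (tt N93607 F495092) (tt N113624 F495095))
theorem Q115419 : ∀ i, i < 115419 → P i := stepQ 115418 Q115418 (allL N115418 (tt N116089 F498407) (tt N117340 (iv0 F504546)) (tt N115770 (iv2 F496776)) (tt N109567 F495097) (tt N122417 (iv4 F531982)) (tt N86988 (iv5 D218675)) (tt N115143 F495098) (tt N115781 (iv7 F496840)))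
theorem Q115420 : ∀ i, i < 115420 → P i := stepQ 115419 Q115419 (allL N115419 (tt N120965 (iv1 F523750)) (tt N118070 (iv0 F508413)) (tt N115782 (iv2 F496843)) (tt N114509 F495099) (tt N86989 (iv4 D218676)) (tt N104343 F495102) (tt N87168 F495100) (tt N115213 F495101))
theorem Q115421 : ∀ i, i < 115421 → P i := stepQ 115420 Q115420 (allL N115420 (tt N95640 F495107) (tt N103009 (iv0 F495108)) (tt N86997 F495103) (tt N87064 F495104) (tt N104656 F495105) (tt N115957 (iv5 F497767)) (tt N86996 (iv6 D218677)) (tt N114009 F495106))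
theorem Q115422 : ∀ i, i < 115422 → P i := stepQ 115421 Q115421 (allL N115421 (tt N114009 (iv1 F495112)) (tt N86997 (iv0 D218678)) (tt N95640 (iv2 F495110)) (tt N103005 F495109) (tt N118428 (iv4 F510299)) (tt N115517 (iv5 F495600)) (tt N115765 F496748) (tt N103009 F495111))
theorem Q115423 : ∀ i, i < 115423 → P i := stepQ 115422 Q115422 (allL N115422 (tt N103009 (iv1 F495118)) (tt N95640 F495119) (tt N114009 F495113) (tt N86998 F495114) (tt N103012 F495115) (tt N87212 F495116) (tt N110906 F495117) (tt N86997 (iv7 D218679)))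
theorem Q115424 : ∀ i, i < 115424 → P i := stepQ 115423 Q115423 (allL N115423 (tt N95648 F495123) (tt N118904 (iv0 F512672)) (tt N87011 F495121) (tt N87068 F495122) (tt N117640 (iv4 F506157)) (tt N115601 (iv5 F495943)) (tt N87006 (iv6 D218680)) (tt N117645 (iv7 F506187)))
theorem Q115425 : ∀ i, i < 115425 → P i := stepQ 115424 Q115424 (allL N115424 (tt N117658 (iv1 F506257)) (tt N91892 (iv0 F495127)) (tt N117640 (iv2 F506155)) (tt N101866 F495124) (tt N87011 F495125) (tt N120724 (iv5 F522363)) (tt N87010 (iv6 D218681)) (tt N101875 F495126))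
theorem Q115426 : ∀ i, i < 115426 → P i := stepQ 115425 Q115425 (allL N115425 (tt N117645 F506189) (tt N87011 (iv0 D218682)) (tt N95648 (iv2 F495129)) (tt N117638 (iv3 F506144)) (tt N101524 F495128) (tt N118905 (iv5 F512676)) (tt N95647 F495130) (tt N118904 (iv7 F512671)))
theorem Q115427 : ∀ i, i < 115427 → P i := stepQ 115426 Q115426 (allL N115426 (tt N118904 (iv1 F512673)) (tt N95648 (iv0 F495134)) (tt N117645 (iv2 F506184)) (tt N87015 F495131) (tt N101875 F495132) (tt N115604 (iv5 F495957)) (tt N95550 F495133) (tt N87011 (iv7 D218683)))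
theorem Q115428 : ∀ i, i < 115428 → P i := stepQ 115427 Q115427 (allL N115427 (tt N112045 F495139) (tt N112047 F495140) (tt N88371 F495135) (tt N100545 F495136) (tt N87016 (iv4 D218684)) (tt N94518 F495137) (tt N96360 F495138) (tt N115783 (iv7 F496852)))
theorem Q115429 : ∀ i, i < 115429 → P i := stepQ 115428 Q115428 (allL N115428 (tt N91999 (iv1 F495144)) (tt N96605 F495145) (tt N117646 (iv2 F506191)) (tt N87021 F495141) (tt N118027 (iv4 F508163)) (tt N94015 F495142) (tt N91979 F495143) (tt N87017 (iv7 D218685)))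
theorem Q115430 : ∀ i, i < 115430 → P i := stepQ 115429 Q115429 (allL N115429 (tt N107163 F495150) (tt N91867 F495151) (tt N107807 F495146) (tt N110508 F495147) (tt N94367 F495149) (tt N87023 (iv5 D218686)) (tt N94366 F495152) (tt N107808 F495148))
theorem Q115431 : ∀ i, i < 115431 → P i := stepQ 115430 Q115430 (allL N115430 (tt N104599 (iv1 F495157)) (tt N104575 (iv0 F495156)) (tt N104305 F495153) (tt N120806 (iv3 F522825)) (tt N100817 F495154) (tt N103927 F495155) (tt N87044 (iv6 D218687)) (tt N103613 F495158))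
theorem Q115432 : ∀ i, i < 115432 → P i := stepQ 115431 Q115431 (allL N115431 (tt N89465 F495161) (tt N90807 F495162) (tt N113470 F495159) (tt N117730 (iv3 F506669)) (tt N87054 (iv4 D218688)) (tt N117729 (iv5 F506664)) (tt N88733 F495163) (tt N113468 F495160))
theorem Q115433 : ∀ i, i < 115433 → P i := stepQ 115432 Q115432 (allL N115432 (tt N87692 F495167) (tt N90885 (iv0 F495168)) (tt N112990 F495164) (tt N116094 (iv3 F498429)) (tt N88733 F495165) (tt N112987 F495166) (tt N87054 (iv6 D218689)) (tt N112985 (iv7 F495169)))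
theorem Q115434 : ∀ i, i < 115434 → P i := stepQ 115433 Q115433 (allL N115433 (tt N110377 F495173) (tt N113546 (iv0 F495174)) (tt N113469 F495170) (tt N89342 F495171) (tt N116474 (iv4 F500325)) (tt N114648 F495172) (tt N87055 (iv6 D218690)) (tt N113545 (iv7 F495175)))
theorem Q115435 : ∀ i, i < 115435 → P i := stepQ 115434 Q115434 (allL N115434 (tt N87257 F495179) (tt N87265 F495180) (tt N87215 F495176) (tt N115957 (iv3 F497766)) (tt N110851 F495178) (tt N87064 (iv5 D218691)) (tt N122034 (iv6 F529764)) (tt N87263 F495177))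
theorem Q115436 : ∀ i, i < 115436 → P i := stepQ 115435 Q115435 (allL N115435 (tt N94670 F495185) (tt N94951 F495186) (tt N94821 F495181) (tt N94846 F495182) (tt N87065 (iv4 D218692)) (tt N114773 F495183) (tt N100739 F495187) (tt N94950 F495184))
theorem Q115437 : ∀ i, i < 115437 → P i := stepQ 115436 Q115436 (allL N115436 (tt N112406 F495192) (tt N111113 (iv0 F495193)) (tt N111690 F495188) (tt N96751 F495189) (tt N100739 F495190) (tt N116085 (iv5 F498385)) (tt N87065 (iv6 D218693)) (tt N111689 F495191))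
theorem Q115438 : ∀ i, i < 115438 → P i := stepQ 115437 Q115437 (allL N115437 (tt N96825 F495198) (tt N94809 (iv0 F495199)) (tt N118862 F512456) (tt N87066 (iv3 D218694)) (tt N87078 F495194) (tt N114658 F495195) (tt N87072 F495196) (tt N107686 F495197))
theorem Q115439 : ∀ i, i < 115439 → P i := stepQ 115438 Q115438 (allL N115438 (tt N118225 F509235) (tt N94849 (iv0 F495204)) (tt N112658 F495200) (tt N87069 (iv3 D218695)) (tt N94811 F495201) (tt N116696 (iv5 F501354)) (tt N94810 F495202) (tt N112632 F495203))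
theorem Q115440 : ∀ i, i < 115440 → P i := stepQ 115439 Q115439 (allL N115439 (tt N114561 F495210) (tt N111022 (iv0 F495209)) (tt N95450 F495206) (tt N111037 F495207) (tt N111031 F495208) (tt N118633 (iv5 F511247)) (tt N87071 (iv6 D218696)) (tt N119015 (iv7 F513295)))
theorem Q115441 : ∀ i, i < 115441 → P i := stepQ 115440 Q115440 (allL N115440 (tt N117410 (iv1 F504897)) (tt N87072 (iv0 D218697)) (tt N117667 (iv2 F506310)) (tt N120550 (iv3 F521398)) (tt N96749 F495211) (tt N116698 (iv5 F501367)) (tt N96748 (iv6 F495212)) (tt N117666 (iv7 F506305)))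
theorem Q115442 : ∀ i, i < 115442 → P i := stepQ 115441 Q115441 (allL N115441 (tt N114164 (iv1 F495216)) (tt N87083 (iv0 D218698)) (tt N111310 (iv2 F495215)) (tt N87938 F495214) (tt N115803 (iv4 F496977)) (tt N91760 F495213) (tt N122469 D225728) (tt N87952 F495217))
theorem Q115443 : ∀ i, i < 115443 → P i := stepQ 115442 Q115442 (allL N115442 (tt N88137 F495218) (tt N88167 F495219) (tt N115640 F496096) (tt N122470 D225729) (tt N87083 (iv4 D218699)) (tt N121022 (iv5 F524068)) (tt N120760 F522570) (tt N115639 F496093))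
theorem Q115444 : ∀ i, i < 115444 → P i := stepQ 115443 Q115443 (allL N115443 (tt N104813 F495223) (tt N120907 (iv0 F523399)) (tt N109547 F495220) (tt N117045 (iv3 F503108)) (tt N87084 (iv4 D218700)) (tt N103546 F495222) (tt N87086 F495221) (tt N120924 (iv7 F523507)))
theorem Q115445 : ∀ i, i < 115445 → P i := stepQ 115444 Q115444 (allL N115444 (tt N87428 (iv1 F495226)) (tt N87382 F495227) (tt N102976 F495224) (tt N121673 (iv3 F527659)) (tt N120924 (iv4 F523505)) (tt N87085 F495225) (tt N120929 (iv6 F523539)) (tt N87084 (iv7 D218701)))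
theorem Q115446 : ∀ i, i < 115446 → P i := stepQ 115445 Q115445 (allL N115445 (tt N114165 (iv1 F495229)) (tt N87086 (iv0 D218702)) (tt N115803 F496978) (tt N120907 (iv3 F523397)) (tt N111310 F495228) (tt N120631 (iv5 F521854)) (tt N122362 (iv6 F531645)) (tt N115510 (iv7 F495558)))
theorem Q115447 : ∀ i, i < 115447 → P i := stepQ 115446 Q115446 (allL N115446 (tt N87086 (iv1 D218703)) (tt N114165 F495230) (tt N115510 (iv2 F495557)) (tt N102630 F495233) (tt N87952 F495231) (tt N102629 (iv5 F495234)) (tt N105938 (iv6 F495232)) (tt N115803 (iv7 F496980)))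
theorem Q115448 : ∀ i, i < 115448 → P i := stepQ 115447 Q115447 (allL N115447 (tt N118186 F509045) (tt N122115 (iv0 F530264)) (tt N122471 D225730) (tt N87086 (iv3 D218704)) (tt N117046 (iv4 F503112)) (tt N119418 (iv5 F515516)) (tt N117045 F503110) (tt N122384 (iv7 F531778)))
theorem Q115449 : ∀ i, i < 115449 → P i := stepQ 115448 Q115448 (allL N115448 (tt N121023 (iv1 F524072)) (tt N120679 (iv0 F522101)) (tt N115805 (iv2 F496982)) (tt N119418 F515515) (tt N119277 (iv4 F514779)) (tt N87086 (iv5 D218705)) (tt N103545 F495241) (tt N104747 F495242))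
theorem Q115450 : ∀ i, i < 115450 → P i := stepQ 115449 Q115449 (allL N115449 (tt N115730 (iv1 F496555)) (tt N115729 F496553) (tt N95886 F495243) (tt N114465 F495244) (tt N87091 (iv4 D218706)) (tt N95875 F495245) (tt N97187 F495246) (tt N115362 F495247))
theorem Q115451 : ∀ i, i < 115451 → P i := stepQ 115450 Q115450 (allL N115450 (tt N88163 F495251) (tt N88125 F495252) (tt N102974 F495248) (tt N119361 (iv3 F515216)) (tt N104683 F495250) (tt N87094 (iv5 D218707)) (tt N115728 (iv6 F496548)) (tt N102975 F495249))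
theorem Q115452 : ∀ i, i < 115452 → P i := stepQ 115451 Q115451 (allL N115451 (tt N111765 (iv1 F495258)) (tt N111798 (iv0 F495259)) (tt N105291 F495253) (tt N87095 (iv3 D218708)) (tt N104298 F495254) (tt N96899 F495255) (tt N96901 F495256) (tt N113713 F495257))
theorem Q115453 : ∀ i, i < 115453 → P i := stepQ 115452 Q115452 (allL N115452 (tt N95737 F495265) (tt N111725 F495266) (tt N111723 F495260) (tt N87131 F495261) (tt N96781 F495262) (tt N111723 F495263) (tt N87098 (iv6 D218709)) (tt N87116 F495264))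
theorem Q115454 : ∀ i, i < 115454 → P i := stepQ 115453 Q115453 (allL N115453 (tt N88364 F495271) (tt N88362 F495272) (tt N115298 F495267) (tt N115301 F495268) (tt N87100 (iv4 D218710)) (tt N115300 F495269) (tt N119406 (iv6 F515451)) (tt N115299 F495270))
theorem Q115455 : ∀ i, i < 115455 → P i := stepQ 115454 Q115454 (allL N115454 (tt N95653 F495283) (tt N118892 F512611) (tt N115808 (iv2 F497000)) (tt N111643 F495273) (tt N115468 (iv4 F495330)) (tt N87104 (iv5 D218711)) (tt N118876 F512534) (tt N115811 (iv7 F497019)))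
theorem Q115456 : ∀ i, i < 115456 → P i := stepQ 115455 Q115455 (allL N115455 (tt N108274 F495276) (tt N118393 (iv0 F510110)) (tt N121074 (iv2 F524378)) (tt N87109 F495274) (tt N122160 (iv4 F530499)) (tt N122078 (iv5 F530030)) (tt N87107 (iv6 D218712)) (tt N97302 F495275))
theorem Q115457 : ∀ i, i < 115457 → P i := stepQ 115456 Q115456 (allL N115456 (tt N87110 (iv1 F495278)) (tt N87108 (iv0 D218713)) (tt N115813 F497030) (tt N111081 (iv3 F495279)) (tt N113630 F495277) (tt N95653 F495281) (tt N95735 (iv6 F495280)) (tt N115492 (iv7 F495476)))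
theorem Q115458 : ∀ i, i < 115458 → P i := stepQ 115457 Q115457 (allL N115457 (tt N87108 (iv1 D218714)) (tt N87110 F495284) (tt N115492 (iv2 F495473)) (tt N112420 (iv3 F495286)) (tt N87937 F495285) (tt N118892 (iv5 F512609)) (tt N119346 (iv6 F515138)) (tt N115813 (iv7 F497032)))
theorem Q115459 : ∀ i, i < 115459 → P i := stepQ 115458 Q115458 (allL N115458 (tt N111644 F495288) (tt N120270 F519938) (tt N115741 (iv2 F496609)) (tt N87108 (iv3 D218715)) (tt N115217 F495287) (tt N111510 (iv5 F495290)) (tt N88367 (iv6 F495289)) (tt N115815 (iv7 F497043)))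
theorem Q115460 : ∀ i, i < 115460 → P i := stepQ 115459 Q115459 (allL N115459 (tt N115894 F497459) (tt N121733 (iv0 F528023)) (tt N115814 (iv2 F497036)) (tt N111510 F495292) (tt N114203 F495293) (tt N87108 (iv5 D218716)) (tt N111508 (iv6 F495294)) (tt N115816 (iv7 F497047)))
theorem Q115461 : ∀ i, i < 115461 → P i := stepQ 115460 Q115460 (allL N115460 (tt N111079 (iv1 F495299)) (tt N115725 F496535) (tt N115488 (iv2 F495450)) (tt N88367 F495296) (tt N87109 F495297) (tt N111076 F495298) (tt N87108 (iv6 D218717)) (tt N115744 (iv7 F496625)))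
theorem Q115462 : ∀ i, i < 115462 → P i := stepQ 115461 Q115461 (allL N115461 (tt N113567 (iv1 F495302)) (tt N87554 F495303) (tt N115745 (iv2 F496630)) (tt N97302 F495300) (tt N115744 F496628) (tt N122392 (iv5 F531824)) (tt N97294 F495301) (tt N87109 (iv7 D218718)))
theorem Q115463 : ∀ i, i < 115463 → P i := stepQ 115462 Q115462 (allL N115462 (tt N111085 F495306) (tt N93142 F495308) (tt N115743 (iv2 F496619)) (tt N87110 (iv3 D218719)) (tt N115365 F495304) (tt N87286 (iv5 F495307)) (tt N87288 F495305) (tt N115489 (iv7 F495460)))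
theorem Q115464 : ∀ i, i < 115464 → P i := stepQ 115463 Q115463 (allL N115463 (tt N121733 F528024) (tt N115894 (iv0 F497458)) (tt N115816 (iv2 F497045)) (tt N87286 F495309) (tt N112457 F495310) (tt N87110 (iv5 D218720)) (tt N87284 F495311) (tt N115814 (iv7 F497039)))
theorem Q115465 : ∀ i, i < 115465 → P i := stepQ 115464 Q115464 (allL N115464 (tt N113661 (iv1 F495315)) (tt N113660 F495316) (tt N113662 F495312) (tt N87112 (iv3 D218721)) (tt N116075 (iv4 F498333)) (tt N115646 (iv5 F496122)) (tt N87490 F495313) (tt N108644 F495314))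
theorem Q115466 : ∀ i, i < 115466 → P i := stepQ 115465 Q115465 (allL N115465 (tt N87113 (iv1 D218722)) (tt N114252 F495317) (tt N104934 F495319) (tt N122158 (iv3 F530488)) (tt N97255 (iv4 F495318)) (tt N114139 F495321) (tt N92990 F495320) (tt N115718 (iv7 F496488)))
theorem Q115467 : ∀ i, i < 115467 → P i := stepQ 115466 Q115466 (allL N115466 (tt N118395 (iv1 F510124)) (tt N118394 (iv0 F510117)) (tt N111636 F495322) (tt N87114 F495323) (tt N111640 F495324) (tt N87113 (iv5 D218723)) (tt N117662 (iv6 F506280)) (tt N115719 (iv7 F496497)))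
theorem Q115468 : ∀ i, i < 115468 → P i := stepQ 115467 Q115467 (allL N115467 (tt N114812 (iv1 F495326)) (tt N87114 (iv0 D218724)) (tt N115818 (iv2 F497059)) (tt N120502 (iv3 F521121)) (tt N112453 (iv4 F495327)) (tt N114234 F495325) (tt N115527 F495639) (tt N115819 (iv7 F497063)))
theorem Q115469 : ∀ i, i < 115469 → P i := stepQ 115468 Q115468 (allL N115468 (tt N87114 (iv1 D218725)) (tt N114812 F495328) (tt N115819 F497066) (tt N115867 (iv3 F497313)) (tt N115454 F495330) (tt N114233 F495329) (tt N114107 (iv6 F495331)) (tt N115818 (iv7 F497060)))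
theorem Q115470 : ∀ i, i < 115470 → P i := stepQ 115469 Q115469 (allL N115469 (tt N108645 F495336) (tt N108490 F495337) (tt N108643 F495332) (tt N115697 F496373) (tt N87117 (iv4 D218726)) (tt N103339 F495333) (tt N97162 F495334) (tt N87491 F495335))
theorem Q115471 : ∀ i, i < 115471 → P i := stepQ 115470 Q115470 (allL N115470 (tt N115769 (iv1 F496775)) (tt N115768 (iv0 F496767)) (tt N87477 F495338) (tt N92975 F495339) (tt N87119 (iv4 D218727)) (tt N107922 F495340) (tt N92974 (iv6 F495342)) (tt N87479 F495341))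
theorem Q115472 : ∀ i, i < 115472 → P i := stepQ 115471 Q115471 (allL N115471 (tt N114821 F495348) (tt N92010 (iv0 F495349)) (tt N87478 F495343) (tt N97641 F495344) (tt N92974 F495345) (tt N88129 F495346) (tt N87119 (iv6 D218728)) (tt N87535 F495347))
theorem Q115473 : ∀ i, i < 115473 → P i := stepQ 115472 Q115472 (allL N115472 (tt N98362 F495354) (tt N109750 (iv0 F495355)) (tt N109751 F495350) (tt N87130 (iv3 D218729)) (tt N98267 F495351) (tt N116125 (iv5 F498604)) (tt N98266 F495352) (tt N87505 F495353))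
theorem Q115474 : ∀ i, i < 115474 → P i := stepQ 115473 Q115473 (allL N115473 (tt N87601 F495361) (tt N95887 (iv0 F495362)) (tt N87510 F495356) (tt N111728 F495357) (tt N111764 F495358) (tt N111727 F495359) (tt N87132 (iv6 D218730)) (tt N111763 F495360))
theorem Q115475 : ∀ i, i < 115475 → P i := stepQ 115474 Q115474 (allL N115474 (tt N87164 F495367) (tt N87650 F495368) (tt N87536 F495363) (tt N118102 (iv3 F508601)) (tt N87135 (iv4 D218731)) (tt N103928 F495366) (tt N87479 F495364) (tt N87534 F495365))
theorem Q115476 : ∀ i, i < 115476 → P i := stepQ 115475 Q115475 (allL N115475 (tt N119224 (iv1 F514463)) (tt N91780 F495385) (tt N87556 F495369) (tt N111515 F495370) (tt N111395 F495372) (tt N87140 (iv5 D218732)) (tt N115526 (iv6 F495635)) (tt N87558 F495371))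
theorem Q115477 : ∀ i, i < 115477 → P i := stepQ 115476 Q115476 (allL N115476 (tt N87150 F495378) (tt N87579 (iv0 F495379)) (tt N87557 F495373) (tt N97202 F495374) (tt N87141 (iv4 D218733)) (tt N102933 F495377) (tt N113626 F495375) (tt N87555 F495376))
theorem Q115478 : ∀ i, i < 115478 → P i := stepQ 115477 Q115477 (allL N115477 (tt N91780 (iv1 F495384)) (tt N119224 F514462) (tt N87558 F495380) (tt N122183 (iv3 F530642)) (tt N111396 F495381) (tt N87141 (iv5 D218734)) (tt N88151 F495383) (tt N87556 F495382))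
theorem Q115479 : ∀ i, i < 115479 → P i := stepQ 115478 Q115478 (allL N115478 (tt N87149 (iv1 D218735)) (tt N87582 (iv0 F495392)) (tt N87580 F495390) (tt N113699 (iv3 F495388)) (tt N109743 F495391) (tt N105019 F495387) (tt N104208 (iv6 F495389)) (tt N87581 F495386))
theorem Q115480 : ∀ i, i < 115480 → P i := stepQ 115479 Q115479 (allL N115479 (tt N87581 (iv1 F495399)) (tt N87580 F495397) (tt N87149 (iv2 D218736)) (tt N87576 F495393) (tt N94129 F495398) (tt N109701 F495394) (tt N105773 F495395) (tt N87582 F495396))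
theorem Q115481 : ∀ i, i < 115481 → P i := stepQ 115480 Q115480 (allL N115480 (tt N93137 F495405) (tt N94131 F495406) (tt N94129 F495400) (tt N113593 F495401) (tt N87149 (iv4 D218737)) (tt N105896 F495404) (tt N105897 F495402) (tt N87583 F495403))
theorem Q115482 : ∀ i, i < 115482 → P i := stepQ 115481 Q115481 (allL N115481 (tt N118007 (iv1 F508052)) (tt N117988 (iv0 F507935)) (tt N87578 F495407) (tt N105765 F495408) (tt N111937 F495409) (tt N87150 (iv5 D218738)) (tt N93984 F495410) (tt N105774 F495411))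
theorem Q115483 : ∀ i, i < 115483 → P i := stepQ 115482 Q115482 (allL N115482 (tt N111082 F495416) (tt N97169 F495415) (tt N115717 (iv2 F496481)) (tt N106720 F495412) (tt N87151 (iv4 D218739)) (tt N118983 (iv5 F513109)) (tt N106718 F495413) (tt N103991 F495414))
theorem Q115484 : ∀ i, i < 115484 → P i := stepQ 115483 Q115483 (allL N115483 (tt N87510 F495422) (tt N111763 (iv0 F495423)) (tt N95887 F495417) (tt N87155 (iv3 D218740)) (tt N95876 F495418) (tt N114247 F495419) (tt N96739 F495420) (tt N87601 F495421))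
theorem Q115485 : ∀ i, i < 115485 → P i := stepQ 115484 Q115484 (allL N115484 (tt N87618 (iv1 F495429)) (tt N87156 (iv0 D218741)) (tt N87616 (iv2 F495428)) (tt N103224 F495426) (tt N87598 F495425) (tt N103223 F495424) (tt N112447 F495427) (tt N87617 F495430))
theorem Q115486 : ∀ i, i < 115486 → P i := stepQ 115485 Q115485 (allL N115485 (tt N99656 F495435) (tt N108246 (iv0 F495436)) (tt N108548 F495431) (tt N87162 (iv3 D218742)) (tt N108604 F495432) (tt N93740 F495433) (tt N112717 (iv6 F495438)) (tt N87628 F495434))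
theorem Q115487 : ∀ i, i < 115487 → P i := stepQ 115486 Q115486 (allL N115486 (tt N97264 F495442) (tt N97248 (iv0 F495443)) (tt N87629 F495439) (tt N112717 F495440) (tt N115700 (iv4 F496392)) (tt N117575 (iv5 F505794)) (tt N87162 (iv6 D218743)) (tt N104879 F495441))
theorem Q115488 : ∀ i, i < 115488 → P i := stepQ 115487 Q115487 (allL N115487 (tt N87536 (iv1 F495448)) (tt N87534 F495449) (tt N87650 F495444) (tt N119579 (iv3 F516356)) (tt N87167 F495445) (tt N92819 F495446) (tt N87627 F495447) (tt N87164 (iv7 D218744)))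
theorem Q115489 : ∀ i, i < 115489 → P i := stepQ 115488 Q115488 (allL N115488 (tt N108549 F495453) (tt N96769 (iv0 F495455)) (tt N115460 F495450) (tt N87165 (iv3 D218745)) (tt N87879 F495454) (tt N96762 F495451) (tt N87878 (iv6 F495456)) (tt N87654 F495452))
theorem Q115490 : ∀ i, i < 115490 → P i := stepQ 115489 Q115489 (allL N115489 (tt N112412 F495461) (tt N118109 F508650) (tt N87653 F495457) (tt N87878 F495458) (tt N105933 F495459) (tt N115572 (iv5 F495828)) (tt N87165 (iv6 D218746)) (tt N115462 F495460))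
theorem Q115491 : ∀ i, i < 115491 → P i := stepQ 115490 Q115490 (allL N115490 (tt N112876 (iv1 F495466)) (tt N87168 (iv0 D218747)) (tt N115330 (iv2 F495465)) (tt N115159 F495464) (tt N114705 F495463) (tt N115177 F495462) (tt N122464 (iv6 F532274)) (tt N115176 F495467))
theorem Q115492 : ∀ i, i < 115492 → P i := stepQ 115491 Q115491 (allL N115491 (tt N122461 (iv1 F532258)) (tt N115305 F495472) (tt N115277 F495468) (tt N122464 (iv3 F532273)) (tt N115205 F495471) (tt N87168 (iv5 D218748)) (tt N115159 F495469) (tt N115266 F495470))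
theorem Q115493 : ∀ i, i < 115493 → P i := stepQ 115492 Q115492 (allL N115492 (tt N87878 F495477) (tt N87881 F495478) (tt N115457 F495473) (tt N91195 F495474) (tt N87170 (iv4 D218749)) (tt N118961 (iv5 F512991)) (tt N112716 F495475) (tt N115456 F495476))
theorem Q115494 : ∀ i, i < 115494 → P i := stepQ 115493 Q115493 (allL N115493 (tt N87174 (iv1 F495483)) (tt N87171 (iv0 D218750)) (tt N114221 (iv2 F495482)) (tt N113918 (iv3 F495485)) (tt N114148 F495480) (tt N111775 F495479) (tt N104045 F495481) (tt N108568 F495484))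
theorem Q115495 : ∀ i, i < 115495 → P i := stepQ 115494 Q115494 (allL N115494 (tt N87172 (iv1 D218751)) (tt N108971 F495486) (tt N117407 (iv2 F504877)) (tt N87203 (iv3 F495490)) (tt N104935 F495489) (tt N95616 F495488) (tt N100648 (iv6 F495491)) (tt N92645 F495487))
theorem Q115496 : ∀ i, i < 115496 → P i := stepQ 115495 Q115495 (allL N115495 (tt N117407 (iv1 F504883)) (tt N92645 (iv0 F495497)) (tt N108971 F495492) (tt N102946 F495493) (tt N92656 F495494) (tt N87718 F495495) (tt N102961 F495496) (tt N87172 (iv7 D218752)))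
theorem Q115497 : ∀ i, i < 115497 → P i := stepQ 115496 Q115496 (allL N115496 (tt N109530 F495502) (tt N120766 (iv0 F522597)) (tt N109540 F495498) (tt N87174 F495499) (tt N111913 F495501) (tt N87173 (iv5 D218753)) (tt N122192 (iv6 F530692)) (tt N109539 F495500))
theorem Q115498 : ∀ i, i < 115498 → P i := stepQ 115497 Q115497 (allL N115497 (tt N121705 (iv1 F527859)) (tt N114207 F495504) (tt N115846 (iv2 F497210)) (tt N120676 F522092) (tt N87174 (iv4 D218754)) (tt N88159 F495503) (tt N120043 (iv6 F518721)) (tt N115864 (iv7 F497299)))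
theorem Q115499 : ∀ i, i < 115499 → P i := stepQ 115498 Q115498 (allL N115498 (tt N108561 F495526) (tt N108563 (iv0 F495505)) (tt N117660 F506270) (tt N122192 (iv3 F530691)) (tt N120043 (iv4 F518719)) (tt N120794 (iv5 F522756)) (tt N87174 (iv6 D218755)) (tt N117661 (iv7 F506272)))
theorem Q115500 : ∀ i, i < 115500 → P i := stepQ 115499 Q115499 (allL N115499 (tt N111232 F495509) (tt N97159 F495510) (tt N103990 F495506) (tt N119345 (iv3 F515130)) (tt N108645 F495507) (tt N87175 (iv5 D218756)) (tt N120794 F522758) (tt N106717 F495508))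
theorem Q115501 : ∀ i, i < 115501 → P i := stepQ 115500 Q115500 (allL N115500 (tt N102963 (iv1 F495516)) (tt N102959 F495517) (tt N102961 F495511) (tt N108972 F495512) (tt N97864 F495513) (tt N106717 F495514) (tt N108971 F495515) (tt N87175 (iv7 D218757)))
theorem Q115502 : ∀ i, i < 115502 → P i := stepQ 115501 Q115501 (allL N115501 (tt N88162 F495520) (tt N114873 F495521) (tt N115648 (iv2 F496134)) (tt N88160 F495518) (tt N87176 (iv4 D218758)) (tt N114138 F495519) (tt N104895 (iv6 F495522)) (tt N115649 (iv7 F496136)))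
theorem Q115503 : ∀ i, i < 115503 → P i := stepQ 115502 Q115502 (allL N115502 (tt N121699 (iv1 F527824)) (tt N120034 (iv0 F518679)) (tt N119328 (iv2 F515042)) (tt N94447 F495523) (tt N104895 F495524) (tt N94446 F495525) (tt N87176 (iv6 D218759)) (tt N119323 (iv7 F515015)))
theorem Q115504 : ∀ i, i < 115504 → P i := stepQ 115503 Q115503 (allL N115503 (tt N104225 (iv1 F495532)) (tt N109544 (iv0 F495531)) (tt N109542 F495527) (tt N87177 (iv3 D218760)) (tt N103940 F495530) (tt N103002 F495528) (tt N118888 (iv6 F512594)) (tt N109541 F495529))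
theorem Q115505 : ∀ i, i < 115505 → P i := stepQ 115504 Q115504 (allL N115504 (tt N114873 F495536) (tt N88162 F495537) (tt N115649 F496140) (tt N103943 F495533) (tt N87177 (iv4 D218761)) (tt N114137 F495534) (tt N104988 F495535) (tt N115648 (iv7 F496133)))
theorem Q115506 : ∀ i, i < 115506 → P i := stepQ 115505 Q115505 (allL N115505 (tt N114108 (iv1 F495543)) (tt N114107 (iv0 F495542)) (tt N114109 F495538) (tt N87178 (iv3 D218762)) (tt N87219 F495539) (tt N115872 (iv5 F497332)) (tt N87187 F495540) (tt N114105 F495541))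
theorem Q115507 : ∀ i, i < 115507 → P i := stepQ 115506 Q115506 (allL N115506 (tt N114867 (iv1 F495547)) (tt N87182 (iv0 D218763)) (tt N115850 F497229) (tt N87311 F495546) (tt N114171 F495545) (tt N91832 F495544) (tt N122191 (iv6 F530686)) (tt N115851 (iv7 F497233)))
theorem Q115508 : ∀ i, i < 115508 → P i := stepQ 115507 Q115507 (allL N115507 (tt N87182 (iv1 D218764)) (tt N114867 F495548) (tt N115851 F497235) (tt N87226 (iv3 F495549)) (tt N108861 F495551) (tt N91461 (iv5 F495550)) (tt N119344 (iv6 F515126)) (tt N115850 F497231))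
theorem Q115509 : ∀ i, i < 115509 → P i := stepQ 115508 Q115508 (allL N115508 (tt N114095 F495552) (tt N114093 F495553) (tt N115852 (iv2 F497238)) (tt N120908 F523404) (tt N87182 (iv4 D218765)) (tt N121045 (iv5 F524200)) (tt N121067 (iv6 F524336)) (tt N122061 (iv7 F529928)))
theorem Q115510 : ∀ i, i < 115510 → P i := stepQ 115509 Q115509 (allL N115509 (tt N87184 (iv1 D218766)) (tt N104888 F495554) (tt N120945 (iv2 F523624)) (tt N87244 (iv3 F495556)) (tt N111458 F495555) (tt N120793 (iv5 F522750)) (tt N120033 F518673) (tt N115967 (iv7 F497816)))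
theorem Q115511 : ∀ i, i < 115511 → P i := stepQ 115510 Q115510 (allL N115510 (tt N87860 F495559) (tt N114090 F495560) (tt N115446 F495557) (tt N121037 (iv3 F524148)) (tt N87185 (iv4 D218767)) (tt N120687 (iv5 F522150)) (tt N105858 F495561) (tt N115445 F495558))
theorem Q115512 : ∀ i, i < 115512 → P i := stepQ 115511 Q115511 (allL N115511 (tt N112659 (iv1 F495568)) (tt N95385 (iv0 F495567)) (tt N112653 F495562) (tt N87186 F495563) (tt N105858 F495564) (tt N101726 F495565) (tt N87185 (iv6 D218768)) (tt N112652 (iv7 F495566)))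
theorem Q115513 : ∀ i, i < 115513 → P i := stepQ 115512 Q115512 (allL N115512 (tt N110032 F495574) (tt N112124 (iv0 F495575)) (tt N89916 F495569) (tt N87196 F495570) (tt N99525 F495571) (tt N87195 (iv5 D218769)) (tt N96610 F495572) (tt N89914 F495573))
theorem Q115514 : ∀ i, i < 115514 → P i := stepQ 115513 Q115513 (allL N115513 (tt N93918 F495580) (tt N116466 (iv0 F500279)) (tt N113273 F495576) (tt N99644 F495577) (tt N91570 F495578) (tt N87320 F495579) (tt N87198 (iv6 D218770)) (tt N115901 (iv7 F497493)))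
theorem Q115515 : ∀ i, i < 115515 → P i := stepQ 115514 Q115514 (allL N115514 (tt N87260 F495585) (tt N89920 (iv0 F495586)) (tt N89919 F495581) (tt N87199 (iv3 D218771)) (tt N89955 F495582) (tt N96870 F495583) (tt N103981 (iv6 F495587)) (tt N89918 F495584))
theorem Q115516 : ∀ i, i < 115516 → P i := stepQ 115515 Q115515 (allL N115515 (tt N97172 F495592) (tt N101926 (iv0 F495593)) (tt N103967 F495588) (tt N103981 F495589) (tt N91573 F495590) (tt N111943 F495591) (tt N87199 (iv6 D218772)) (tt N117169 (iv7 F503727)))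
theorem Q115517 : ∀ i, i < 115517 → P i := stepQ 115516 Q115516 (allL N115516 (tt N115957 (iv1 F497769)) (tt N87212 (iv0 F495597)) (tt N95476 F495594) (tt N109544 F495595) (tt N122472 D225731) (tt N87201 (iv5 D218773)) (tt N122383 (iv6 F531771)) (tt N95478 F495596))
theorem Q115518 : ∀ i, i < 115518 → P i := stepQ 115517 Q115517 (allL N115517 (tt N95482 (iv1 F495599)) (tt N87202 (iv0 D218774)) (tt N95479 (iv2 F495601)) (tt N120766 (iv3 F522593)) (tt N111707 F495603) (tt N115421 F495600) (tt N101586 F495598) (tt N95480 (iv7 F495602)))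
theorem Q115519 : ∀ i, i < 115519 → P i := stepQ 115518 Q115518 (allL N115518 (tt N87202 (iv1 D218775)) (tt N95482 F495604) (tt N95480 (iv2 F495608)) (tt N115877 (iv3 F497363)) (tt N122177 (iv4 F530602)) (tt N96876 F495606) (tt N108752 (iv6 F495607)) (tt N95479 F495605))
theorem Q115520 : ∀ i, i < 115520 → P i := stepQ 115519 Q115519 (allL N115519 (tt N101584 F495611) (tt N118662 (iv0 F511408)) (tt N95481 F495609) (tt N115544 (iv3 F495717)) (tt N87202 (iv4 D218776)) (tt N116777 (iv5 F501779)) (tt N95456 F495610) (tt N115955 (iv7 F497760)))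
theorem Q115521 : ∀ i, i < 115521 → P i := stepQ 115520 Q115520 (allL N115520 (tt N95476 (iv1 F495615)) (tt N95478 F495614) (tt N87212 (iv2 D218777)) (tt N87263 F495612) (tt N108202 (iv4 F495616)) (tt N114009 F495613) (tt N117154 (iv6 F503663)) (tt N115957 (iv7 F497768)))
theorem Q115522 : ∀ i, i < 115522 → P i := stepQ 115521 Q115521 (allL N115521 (tt N115932 (iv1 F497652)) (tt N88101 (iv0 F495618)) (tt N108202 F495617) (tt N122473 D225732) (tt N87212 (iv4 D218778)) (tt N118673 (iv5 F511463)) (tt N122474 D225733) (tt N115958 (iv7 F497772)))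
theorem Q115523 : ∀ i, i < 115523 → P i := stepQ 115522 Q115522 (allL N115522 (tt N95388 F495621) (tt N118938 F512853) (tt N117154 (iv2 F503661)) (tt N87214 F495619) (tt N122474 (iv4 F532336)) (tt N91663 F495620) (tt N87212 (iv6 D218779)) (tt N118936 (iv7 F512842)))
theorem Q115524 : ∀ i, i < 115524 → P i := stepQ 115523 Q115523 (allL N115523 (tt N112253 F503476) (tt N112093 (iv0 F495625)) (tt N112251 F495622) (tt N87213 (iv3 D218780)) (tt N122473 (iv4 F532328)) (tt N120779 (iv5 F522662)) (tt N111903 F495623) (tt N112252 F495624))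
theorem Q115525 : ∀ i, i < 115525 → P i := stepQ 115524 Q115524 (allL N115524 (tt N93334 F495629) (tt N108211 F495630) (tt N110851 F495626) (tt N108755 F495627) (tt N87215 (iv4 D218781)) (tt N110850 F495628) (tt N119558 (iv6 F516243)) (tt N115956 (iv7 F497765)))
theorem Q115526 : ∀ i, i < 115526 → P i := stepQ 115525 Q115525 (allL N115525 (tt N122475 D225734) (tt N117678 (iv0 F506375)) (tt N122476 D225735) (tt N87217 (iv3 D218782)) (tt N120697 (iv4 F522211)) (tt N103094 F495631) (tt N114195 F495632) (tt N102982 F495633))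
theorem Q115527 : ∀ i, i < 115527 → P i := stepQ 115526 Q115526 (allL N115526 (tt N116013 F498051) (tt N108623 (iv0 F495637)) (tt N108487 F495638) (tt N87218 (iv3 D218783)) (tt N115888 (iv4 F497424)) (tt N93907 F495634) (tt N115475 F495635) (tt N103139 F495636))
theorem Q115528 : ∀ i, i < 115528 → P i := stepQ 115527 Q115527 (allL N115527 (tt N87219 (iv1 D218784)) (tt N114106 (iv0 F495641)) (tt N99677 (iv2 F495642)) (tt N108603 F495643) (tt N115936 (iv4 F497672)) (tt N99675 F495640) (tt N115467 (iv6 F495639)) (tt N122028 (iv7 F529728)))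
theorem Q115529 : ∀ i, i < 115529 → P i := stepQ 115528 Q115528 (allL N115528 (tt N122028 (iv1 F529730)) (tt N99677 (iv0 F495648)) (tt N87219 (iv2 D218785)) (tt N115960 (iv3 F497778)) (tt N114109 F495644) (tt N106100 F495645) (tt N87250 F495646) (tt N114106 (iv7 F495647)))
theorem Q115530 : ∀ i, i < 115530 → P i := stepQ 115529 Q115529 (allL N115529 (tt N99677 (iv1 F495654)) (tt N122028 (iv0 F529729)) (tt N114106 F495649) (tt N87221 F495650) (tt N114105 F495651) (tt N103149 F495652) (tt N108627 F495653) (tt N87219 (iv7 D218786)))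
theorem Q115531 : ∀ i, i < 115531 → P i := stepQ 115530 Q115530 (allL N115530 (tt N116121 (iv1 F498582)) (tt N113599 F495660) (tt N113995 F495655) (tt N90813 F495656) (tt N113499 F495659) (tt N87222 (iv5 D218787)) (tt N99781 F495657) (tt N112062 F495658))
theorem Q115532 : ∀ i, i < 115532 → P i := stepQ 115531 Q115531 (allL N115531 (tt N115977 (iv1 F497878)) (tt N115975 (iv0 F497864)) (tt N115961 (iv2 F497782)) (tt N93402 F495662) (tt N87223 (iv4 D218788)) (tt N93657 F495661) (tt N121648 (iv6 F527530)) (tt N115837 (iv7 F497153)))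
theorem Q115533 : ∀ i, i < 115533 → P i := stepQ 115532 Q115532 (allL N115532 (tt N115923 (iv1 F497603)) (tt N114161 (iv0 F497443)) (tt N115962 (iv2 F497786)) (tt N121053 (iv3 F524255)) (tt N121648 (iv4 F527529)) (tt N115891 (iv5 F497442)) (tt N87223 (iv6 D218789)) (tt N122383 (iv7 F531774)))
theorem Q115534 : ∀ i, i < 115534 → P i := stepQ 115533 Q115533 (allL N115533 (tt N112220 F495667) (tt N112219 F495668) (tt N87228 F495663) (tt N94898 F495664) (tt N87224 (iv4 D218790)) (tt N112215 F495665) (tt N94896 (iv6 F495669)) (tt N112218 F495666))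
theorem Q115535 : ∀ i, i < 115535 → P i := stepQ 115534 Q115534 (allL N115534 (tt N95491 F495673) (tt N118894 F512619) (tt N87229 F495670) (tt N87267 F495671) (tt N94896 F495672) (tt N115789 (iv5 F496889)) (tt N87224 (iv6 D218791)) (tt N118864 (iv7 F512470)))
theorem Q115536 : ∀ i, i < 115536 → P i := stepQ 115535 Q115535 (allL N115535 (tt N118935 F512835) (tt N117587 (iv0 F505857)) (tt N115964 (iv2 F497795)) (tt N119344 (iv3 F515123)) (tt N93876 F495674) (tt N96847 F495675) (tt N87226 (iv6 D218792)) (tt N113683 F495676))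
theorem Q115537 : ∀ i, i < 115537 → P i := stepQ 115536 Q115536 (allL N115536 (tt N108851 F495681) (tt N108850 F495682) (tt N108852 F495677) (tt N116365 (iv3 F499734)) (tt N87227 (iv4 D218793)) (tt N108844 F495680) (tt N113650 F495678) (tt N108843 F495679))
theorem Q115538 : ∀ i, i < 115538 → P i := stepQ 115537 Q115537 (allL N115537 (tt N112218 (iv1 F495687)) (tt N87228 (iv0 D218794)) (tt N112220 (iv2 F495686)) (tt N93890 F495685) (tt N88105 F495684) (tt N93888 F495683) (tt N119050 (iv6 F513499)) (tt N112219 F495688))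
theorem Q115539 : ∀ i, i < 115539 → P i := stepQ 115538 Q115538 (allL N115538 (tt N87271 F495692) (tt N87270 F495693) (tt N87274 F495689) (tt N115670 (iv3 F496231)) (tt N87233 (iv4 D218795)) (tt N98309 F495690) (tt N115669 (iv6 F496229)) (tt N87258 F495691))
theorem Q115540 : ∀ i, i < 115540 → P i := stepQ 115539 Q115539 (allL N115539 (tt N114159 F495697) (tt N122086 (iv0 F530077)) (tt N87275 F495694) (tt N88162 F495695) (tt N115669 (iv4 F496227)) (tt N88161 F495696) (tt N87233 (iv6 D218796)) (tt N115650 (iv7 F496145)))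
theorem Q115541 : ∀ i, i < 115541 → P i := stepQ 115540 Q115540 (allL N115540 (tt N122477 D225736) (tt N115902 F497500) (tt N87238 F495698) (tt N115963 (iv3 F497791)) (tt N114527 F495699) (tt N111586 F495700) (tt N87234 (iv6 D218797)) (tt N121678 (iv7 F527693)))
theorem Q115542 : ∀ i, i < 115542 → P i := stepQ 115541 Q115541 (allL N115541 (tt N114314 F495705) (tt N114638 F495706) (tt N91435 F495701) (tt N120774 (iv3 F522642)) (tt N87236 (iv4 D218798)) (tt N114546 F495702) (tt N115064 F495703) (tt N113900 F495704))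
theorem Q115543 : ∀ i, i < 115543 → P i := stepQ 115542 Q115542 (allL N115542 (tt N87266 (iv1 F495708)) (tt N87237 (iv0 D218799)) (tt N113902 (iv2 F495709)) (tt N120351 (iv3 F520325)) (tt N114706 F495707) (tt N118703 (iv5 F511632)) (tt N118704 (iv6 F511636)) (tt N113901 (iv7 F495710)))
theorem Q115544 : ∀ i, i < 115544 → P i := stepQ 115543 Q115543 (allL N115543 (tt N87237 (iv1 D218800)) (tt N87266 F495711) (tt N113901 (iv2 F495715)) (tt N117038 (iv3 F503081)) (tt N114092 F495714) (tt N114545 F495713) (tt N116691 (iv6 F501322)) (tt N113902 F495712))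
theorem Q115545 : ∀ i, i < 115545 → P i := stepQ 115544 Q115544 (allL N115544 (tt N120351 F520329) (tt N116766 (iv0 F501716)) (tt N114527 F495716) (tt N115519 F495717) (tt N87238 F495718) (tt N89778 F495719) (tt N87237 (iv6 D218801)) (tt N121259 (iv7 F525427)))
theorem Q115546 : ∀ i, i < 115546 → P i := stepQ 115545 Q115545 (allL N115545 (tt N121678 F527695) (tt N87238 (iv0 D218802)) (tt N122477 F532359) (tt N87319 F495901) (tt N95250 F495902) (tt N119959 (iv5 F518263)) (tt N120353 F520336) (tt N115902 (iv7 F497498)))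
theorem Q115547 : ∀ i, i < 115547 → P i := stepQ 115546 Q115546 (allL N115546 (tt N87238 (iv1 D218803)) (tt N121678 (iv0 F527694)) (tt N115902 (iv2 F497496)) (tt N115857 (iv3 F497264)) (tt N117012 (iv4 F502967)) (tt N119960 (iv5 F518268)) (tt N115954 (iv6 F497759)) (tt N122477 (iv7 F532361)))
theorem Q115548 : ∀ i, i < 115548 → P i := stepQ 115547 Q115547 (allL N115547 (tt N115902 F497499) (tt N122477 F532360) (tt N121678 (iv2 F527689)) (tt N87240 F495720) (tt N121259 (iv4 F525426)) (tt N111587 F495721) (tt N111501 F495722) (tt N87238 (iv7 D218804)))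
theorem Q115549 : ∀ i, i < 115549 → P i := stepQ 115548 Q115548 (allL N115548 (tt N111495 (iv1 F495725)) (tt N111498 (iv0 F495724)) (tt N115968 (iv2 F497819)) (tt N120033 F518670) (tt N91916 F495723) (tt N119433 (iv5 F515597)) (tt N87244 (iv6 D218805)) (tt N120269 (iv7 F519930)))
theorem Q115550 : ∀ i, i < 115550 → P i := stepQ 115549 Q115549 (allL N115549 (tt N113834 F495731) (tt N113898 F495732) (tt N87246 F495726) (tt N94877 F495727) (tt N87245 (iv4 D218806)) (tt N94876 F495730) (tt N108890 F495728) (tt N87268 F495729))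
theorem Q115551 : ∀ i, i < 115551 → P i := stepQ 115550 Q115550 (allL N115550 (tt N116795 (iv1 F501881)) (tt N119514 (iv0 F516010)) (tt N94876 F495734) (tt N106274 F495735) (tt N113927 F495736) (tt N87246 (iv5 D218807)) (tt N119057 (iv6 F513545)) (tt N115965 (iv7 F497803)))
theorem Q115552 : ∀ i, i < 115552 → P i := stepQ 115551 Q115551 (allL N115551 (tt N108519 F495741) (tt N108524 (iv0 F495742)) (tt N112238 F495737) (tt N87248 (iv3 D218808)) (tt N94441 F495738) (tt N117639 (iv5 F506150)) (tt N95657 F495739) (tt N87415 F495740))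
theorem Q115553 : ∀ i, i < 115553 → P i := stepQ 115552 Q115552 (allL N115552 (tt N87274 (iv1 F495746)) (tt N87258 (iv0 D218809)) (tt N87270 (iv2 F495749)) (tt N122111 (iv3 F530234)) (tt N87413 F495744) (tt N111214 F495743) (tt N119129 F513943) (tt N87271 (iv7 F495750)))
theorem Q115554 : ∀ i, i < 115554 → P i := stepQ 115553 Q115553 (allL N115553 (tt N87258 (iv1 D218810)) (tt N87274 F495751) (tt N87271 (iv2 F495756)) (tt N108150 (iv3 F495754)) (tt N87375 F495753) (tt N118820 (iv5 F512250)) (tt N112188 F495755) (tt N87270 F495752))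
theorem Q115555 : ∀ i, i < 115555 → P i := stepQ 115554 Q115554 (allL N115554 (tt N103816 F495761) (tt N98089 (iv0 F495762)) (tt N100500 F495757) (tt N87262 (iv3 D218811)) (tt N95474 F495758) (tt N120956 (iv5 F523689)) (tt N91116 F495759) (tt N103808 F495760))
theorem Q115556 : ∀ i, i < 115556 → P i := stepQ 115555 Q115555 (allL N115555 (tt N89818 F495767) (tt N117339 (iv0 F504539)) (tt N110519 F495763) (tt N120956 (iv3 F523687)) (tt N93791 F495764) (tt N87262 (iv5 D218812)) (tt N114030 F495765) (tt N89836 F495766))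
theorem Q115557 : ∀ i, i < 115557 → P i := stepQ 115556 Q115556 (allL N115556 (tt N108211 F495771) (tt N93334 F495772) (tt N115956 (iv2 F497762)) (tt N93312 F495768) (tt N87263 (iv4 D218813)) (tt N94508 F495769) (tt N116855 F502191) (tt N110851 F495770))
theorem Q115558 : ∀ i, i < 115558 → P i := stepQ 115557 Q115557 (allL N115557 (tt N88145 (iv1 F495779)) (tt N88144 (iv0 F495778)) (tt N88148 F495773) (tt N87264 (iv3 D218814)) (tt N87297 F495774) (tt N90316 F495775) (tt N87272 F495776) (tt N88146 F495777))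
theorem Q115559 : ∀ i, i < 115559 → P i := stepQ 115558 Q115558 (allL N115558 (tt N122086 (iv1 F530078)) (tt N114159 (iv0 F495783)) (tt N115650 (iv2 F496141)) (tt N87300 F495780) (tt N115668 (iv4 F496221)) (tt N114158 F495781) (tt N87265 (iv6 D218815)) (tt N87275 F495782))
theorem Q115560 : ∀ i, i < 115560 → P i := stepQ 115559 Q115559 (allL N115559 (tt N120540 F521346) (tt N111985 (iv0 F495788)) (tt N113904 F495784) (tt N94897 F495785) (tt N87267 F495786) (tt N96577 (iv5 F495787)) (tt N87266 (iv6 D218816)) (tt N119196 (iv7 F514310)))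
theorem Q115561 : ∀ i, i < 115561 → P i := stepQ 115560 Q115560 (allL N115560 (tt N112229 (iv1 F495789)) (tt N87269 (iv0 D218817)) (tt N115906 (iv2 F497521)) (tt N115860 (iv3 F497278)) (tt N119125 (iv4 F513923)) (tt N120041 (iv5 F518707)) (tt N122084 F530065) (tt N115966 (iv7 F497806)))
theorem Q115562 : ∀ i, i < 115562 → P i := stepQ 115561 Q115561 (allL N115561 (tt N87269 (iv1 D218818)) (tt N112229 F495790) (tt N115966 (iv2 F497809)) (tt N87326 F495793) (tt N111352 (iv4 F495791)) (tt N119352 (iv5 F515171)) (tt N111086 (iv6 F495792)) (tt N115906 (iv7 F497522)))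
theorem Q115563 : ∀ i, i < 115563 → P i := stepQ 115562 Q115562 (allL N115562 (tt N119125 (iv1 F513922)) (tt N111352 (iv0 F495796)) (tt N119129 (iv2 F513944)) (tt N101543 F495794) (tt N121058 (iv4 F524283)) (tt N101541 F495795) (tt N87270 (iv6 D218819)) (tt N119128 F513939))
theorem Q115564 : ∀ i, i < 115564 → P i := stepQ 115563 Q115563 (allL N115563 (tt N118914 (iv1 F512723)) (tt N118916 (iv0 F512732)) (tt N122445 (iv2 F532146)) (tt N87271 (iv3 D218820)) (tt N88099 F495797) (tt N119639 (iv5 F516652)) (tt N122092 (iv6 F530109)) (tt N122111 (iv7 F530236)))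
theorem Q115565 : ∀ i, i < 115565 → P i := stepQ 115564 Q115564 (allL N115564 (tt N115667 F496219) (tt N115666 F496230) (tt N115669 (iv2 F496225)) (tt N118152 (iv3 F508885)) (tt N87275 F495798) (tt N121821 (iv5 F528517)) (tt N87274 (iv6 D218821)) (tt N115668 F496223))
theorem Q115566 : ∀ i, i < 115566 → P i := stepQ 115565 Q115565 (allL N115565 (tt N119358 (iv1 F515205)) (tt N116810 F501961) (tt N115948 (iv2 F497727)) (tt N119240 (iv3 F514561)) (tt N87277 (iv4 D218822)) (tt N117130 (iv5 F503539)) (tt N111511 F495799) (tt N115881 (iv7 F497385)))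
theorem Q115567 : ∀ i, i < 115567 → P i := stepQ 115566 Q115566 (allL N115566 (tt N87425 F495804) (tt N87422 F495805) (tt N108911 F495800) (tt N112219 F495801) (tt N87278 (iv4 D218823)) (tt N93891 F495802) (tt N122478 D225737) (tt N93890 F495803))
theorem Q115568 : ∀ i, i < 115568 → P i := stepQ 115567 Q115567 (allL N115567 (tt N122330 (iv1 F531460)) (tt N122479 D225738) (tt N115773 (iv2 F496794)) (tt N120042 F518716) (tt N122478 (iv4 F532364)) (tt N88350 F495806) (tt N87278 (iv6 D218824)) (tt N115774 (iv7 F496799)))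
theorem Q115569 : ∀ i, i < 115569 → P i := stepQ 115568 Q115568 (allL N115568 (tt N118385 (iv1 F510073)) (tt N118381 F510049) (tt N112104 F495807) (tt N87280 (iv3 D218825)) (tt N119240 (iv4 F514563)) (tt N112103 F495808) (tt N108155 F495809) (tt N115883 (iv7 F497398)))
theorem Q115570 : ∀ i, i < 115570 → P i := stepQ 115569 Q115569 (allL N115569 (tt N87359 F495814) (tt N87355 (iv0 F495816)) (tt N102695 F495810) (tt N109008 F495811) (tt N87282 (iv4 D218826)) (tt N102689 F495815) (tt N95475 F495812) (tt N100668 F495813))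
theorem Q115571 : ∀ i, i < 115571 → P i := stepQ 115570 Q115570 (allL N115570 (tt N87292 F495821) (tt N95646 F495822) (tt N95645 F495817) (tt N95476 F495818) (tt N95485 F495820) (tt N87282 (iv5 D218827)) (tt N118877 (iv6 F512535)) (tt N95644 F495819))
theorem Q115572 : ∀ i, i < 115572 → P i := stepQ 115571 Q115571 (allL N115571 (tt N115877 (iv1 F497358)) (tt N115876 F497354) (tt N87284 F495823) (tt N113917 F495824) (tt N114215 F495825) (tt N87283 (iv5 D218828)) (tt N115816 (iv6 F497046)) (tt N115875 (iv7 F497348)))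
theorem Q115573 : ∀ i, i < 115573 → P i := stepQ 115572 Q115572 (allL N115572 (tt N87303 (iv1 F495830)) (tt N91765 F495831) (tt N91764 F495826) (tt N115814 (iv3 F497037)) (tt N108161 F495827) (tt N115489 F495828) (tt N108160 F495829) (tt N87286 (iv7 D218829)))
theorem Q115574 : ∀ i, i < 115574 → P i := stepQ 115573 Q115573 (allL N115573 (tt N118181 F509034) (tt N122480 D225739) (tt N122092 (iv2 F530107)) (tt N87290 (iv3 D218830)) (tt N119242 (iv4 F514575)) (tt N93875 F495832) (tt N122445 (iv6 F532149)) (tt N115665 (iv7 F496215)))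
theorem Q115575 : ∀ i, i < 115575 → P i := stepQ 115574 Q115574 (allL N115574 (tt N87291 (iv1 D218831)) (tt N115886 F497417) (tt N115885 (iv2 F497411)) (tt N90575 (iv3 F495834)) (tt N108114 F495835) (tt N90569 F495833) (tt N117570 (iv6 F505759)) (tt N115884 F497406))
theorem Q115576 : ∀ i, i < 115576 → P i := stepQ 115575 Q115575 (allL N115575 (tt N117545 (iv1 F505625)) (tt N117050 (iv0 F503126)) (tt N118258 (iv2 F509398)) (tt N87295 (iv3 D218832)) (tt N103139 F495836) (tt N91565 F495837) (tt N115934 F497662) (tt N115888 (iv7 F497427)))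
theorem Q115577 : ∀ i, i < 115577 → P i := stepQ 115576 Q115576 (allL N115576 (tt N117051 F503131) (tt N108114 (iv0 F495839)) (tt N115887 (iv2 F497419)) (tt N115934 (iv3 F497663)) (tt N87427 F495838) (tt N118720 (iv5 F511738)) (tt N87295 (iv6 D218833)) (tt N117468 (iv7 F505188)))
theorem Q115578 : ∀ i, i < 115578 → P i := stepQ 115577 Q115577 (allL N115577 (tt N88121 (iv1 F495842)) (tt N87297 (iv0 D218834)) (tt N108203 (iv2 F495841)) (tt N118256 (iv3 F509394)) (tt N110854 (iv4 F495843)) (tt N118254 F509384) (tt N108112 F495840) (tt N118674 (iv7 F511472)))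
theorem Q115579 : ∀ i, i < 115579 → P i := stepQ 115578 Q115578 (allL N115578 (tt N115882 F497394) (tt N111510 (iv0 F495847)) (tt N91924 F495844) (tt N108563 F495845) (tt N120941 (iv4 F523600)) (tt N108562 F495846) (tt N87301 (iv6 D218835)) (tt N122400 (iv7 F531876)))
theorem Q115580 : ∀ i, i < 115580 → P i := stepQ 115579 Q115579 (allL N115579 (tt N91441 (iv1 F495852)) (tt N87302 (iv0 D218836)) (tt N91439 (iv2 F495853)) (tt N87370 F495850) (tt N108148 F495849) (tt N104884 F495848) (tt N114162 F495851) (tt N91440 (iv7 F495854)))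
theorem Q115581 : ∀ i, i < 115581 → P i := stepQ 115580 Q115580 (allL N115580 (tt N87302 (iv1 D218837)) (tt N91441 F495855) (tt N91440 (iv2 F495858)) (tt N117577 F505807) (tt N108147 (iv4 F495859)) (tt N106690 F495857) (tt N122479 F532374) (tt N91439 F495856))
theorem Q115582 : ∀ i, i < 115582 → P i := stepQ 115581 Q115581 (allL N115581 (tt N115899 (iv1 F497481)) (tt N87304 (iv0 D218838)) (tt N115898 F497475) (tt N108191 (iv3 F495861)) (tt N118918 (iv4 F512739)) (tt N113219 F495860) (tt N118917 F512736) (tt N112860 (iv7 F495862)))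
theorem Q115583 : ∀ i, i < 115583 → P i := stepQ 115582 Q115582 (allL N115582 (tt N115898 F497476) (tt N112860 F495866) (tt N87304 (iv2 D218839)) (tt N108100 F495863) (tt N108283 F495864) (tt N108099 F495865) (tt N120560 (iv6 F521457)) (tt N115899 (iv7 F497480)))
theorem Q115584 : ∀ i, i < 115584 → P i := stepQ 115583 Q115583 (allL N115583 (tt N115936 F497674) (tt N122029 (iv0 F529736)) (tt N115891 (iv2 F497440)) (tt N115962 (iv3 F497787)) (tt N118836 F512336) (tt N115962 (iv5 F497788)) (tt N87309 (iv6 D218840)) (tt N118877 (iv7 F512536)))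
theorem Q115585 : ∀ i, i < 115585 → P i := stepQ 115584 Q115584 (allL N115584 (tt N115816 (iv1 F497048)) (tt N115814 (iv0 F497041)) (tt N115894 (iv2 F497455)) (tt N122191 (iv3 F530685)) (tt N121733 (iv4 F528020)) (tt N112451 F495867) (tt N87311 (iv6 D218841)) (tt N121733 (iv7 F528022)))
theorem Q115586 : ∀ i, i < 115586 → P i := stepQ 115585 Q115585 (allL N115585 (tt N122338 (iv1 F531507)) (tt N122385 (iv0 F531786)) (tt N122481 D225740) (tt N87313 (iv3 D218842)) (tt N87317 F495868) (tt N90578 F495869) (tt N112230 (iv6 F495871)) (tt N106739 F495870))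
theorem Q115587 : ∀ i, i < 115587 → P i := stepQ 115586 Q115586 (allL N115586 (tt N95661 F495874) (tt N118883 F512573) (tt N118884 (iv2 F512574)) (tt N112230 F495872) (tt N87314 F495873) (tt N115998 F497975) (tt N87313 (iv6 D218843)) (tt N118839 (iv7 F512350)))
theorem Q115588 : ∀ i, i < 115588 → P i := stepQ 115587 Q115587 (allL N115587 (tt N108100 (iv1 F495879)) (tt N87317 (iv0 D218844)) (tt N100555 (iv2 F495878)) (tt N108157 F495876) (tt N97138 F495877) (tt N110451 F495875) (tt N100552 (iv6 F495881)) (tt N115064 F495880))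
theorem Q115589 : ∀ i, i < 115589 → P i := stepQ 115588 Q115588 (allL N115588 (tt N100555 (iv1 F495885)) (tt N115064 F495884) (tt N87317 (iv2 D218845)) (tt N115899 (iv3 F497477)) (tt N122481 (iv4 F532384)) (tt N108093 F495882) (tt N121751 (iv6 F528102)) (tt N108100 F495883))
theorem Q115590 : ∀ i, i < 115590 → P i := stepQ 115589 Q115589 (allL N115589 (tt N116038 F498182) (tt N111573 (iv0 F495888)) (tt N121751 (iv2 F528099)) (tt N87318 F495886) (tt N112230 F495887) (tt N116616 (iv5 F500989)) (tt N87317 (iv6 D218846)) (tt N121763 (iv7 F528166)))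
theorem Q115591 : ∀ i, i < 115591 → P i := stepQ 115590 Q115590 (allL N115590 (tt N115622 (iv1 F496019)) (tt N111561 (iv0 F495897)) (tt N115900 (iv2 F497483)) (tt N121763 F528168) (tt N87321 F495894) (tt N112300 F495895) (tt N111387 F495896) (tt N87318 (iv7 D218847)))
theorem Q115592 : ∀ i, i < 115592 → P i := stepQ 115591 Q115591 (allL N115591 (tt N114200 F495899) (tt N87341 (iv0 F495903)) (tt N114198 F495905) (tt N95254 F495900) (tt N87319 (iv4 D218849)) (tt N93921 F495904) (tt N122482 D225741) (tt N93920 F495898))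
theorem Q115593 : ∀ i, i < 115593 → P i := stepQ 115592 Q115592 (allL N115592 (tt N116466 F500281) (tt N93918 (iv0 F495911)) (tt N115901 (iv2 F497490)) (tt N119959 (iv3 F518260)) (tt N111559 F495910) (tt N87319 (iv5 D218850)) (tt N117169 F503730) (tt N113273 F495909))
theorem Q115594 : ∀ i, i < 115594 → P i := stepQ 115593 Q115593 (allL N115593 (tt N122479 (iv1 F532369)) (tt N122330 (iv0 F531459)) (tt N115774 (iv2 F496797)) (tt N120353 (iv3 F520337)) (tt N122482 (iv4 F532392)) (tt N88351 F495912) (tt N87319 (iv6 D218851)) (tt N115773 (iv7 F496796)))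
theorem Q115595 : ∀ i, i < 115595 → P i := stepQ 115594 Q115594 (allL N115594 (tt N114869 F495915) (tt N115858 F497267) (tt N115857 (iv2 F497262)) (tt N87320 (iv3 D218852)) (tt N115653 (iv4 F496162)) (tt N99644 F495913) (tt N111766 F495914) (tt N115856 (iv7 F497257)))
theorem Q115596 : ∀ i, i < 115596 → P i := stepQ 115595 Q115595 (allL N115595 (tt N87322 (iv1 D218853)) (tt N114152 F495916) (tt N113824 (iv2 F495918)) (tt N120763 F522582) (tt N87858 F495917) (tt N116200 (iv5 F498973)) (tt N111460 (iv6 F495919)) (tt N115911 (iv7 F497549)))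
theorem Q115597 : ∀ i, i < 115597 → P i := stepQ 115596 Q115596 (allL N115596 (tt N115674 (iv1 F496253)) (tt N87323 (iv0 D218854)) (tt N115673 F496243) (tt N108125 (iv3 F495922)) (tt N108753 F495920) (tt N108124 F495921) (tt N106310 (iv6 F495923)) (tt N115672 (iv7 F496247)))
theorem Q115598 : ∀ i, i < 115598 → P i := stepQ 115597 Q115597 (allL N115597 (tt N87323 (iv1 D218855)) (tt N115674 F496254) (tt N115672 F496248) (tt N121950 F529251) (tt N108754 F495924) (tt N117599 (iv5 F505928)) (tt N122480 F532381) (tt N115673 F496245))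
theorem Q115599 : ∀ i, i < 115599 → P i := stepQ 115598 Q115598 (allL N115598 (tt N120562 (iv1 F521468)) (tt N88973 (iv0 F495929)) (tt N114748 F495925) (tt N87324 F495926) (tt N108275 F495927) (tt N113649 F495928) (tt N87323 (iv6 D218856)) (tt N116363 (iv7 F499726)))
theorem Q115600 : ∀ i, i < 115600 → P i := stepQ 115599 Q115599 (allL N115599 (tt N108165 (iv1 F495932)) (tt N87324 (iv0 D218857)) (tt N91774 (iv2 F495931)) (tt N120505 (iv3 F521141)) (tt N88139 F495934) (tt N119215 (iv5 F514407)) (tt N111391 F495930) (tt N91778 F495933))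
theorem Q115601 : ∀ i, i < 115601 → P i := stepQ 115600 Q115600 (allL N115600 (tt N114239 (iv1 F495939)) (tt N102067 F495938) (tt N115909 (iv2 F497538)) (tt N119352 (iv3 F515170)) (tt N88279 F495937) (tt N87326 (iv5 D218858)) (tt N88333 F495935) (tt N112409 F495936))
theorem Q115602 : ∀ i, i < 115602 → P i := stepQ 115601 Q115601 (allL N115601 (tt N95485 F495944) (tt N119245 (iv0 F514599)) (tt N87330 F495940) (tt N114153 F495941) (tt N87362 F495942) (tt N115423 F495943) (tt N87328 (iv6 D218859)) (tt N116026 (iv7 F498117)))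
theorem Q115603 : ∀ i, i < 115603 → P i := stepQ 115602 Q115602 (allL N115602 (tt N87365 (iv1 F495950)) (tt N87352 (iv0 F495949)) (tt N87362 F495945) (tt N115679 (iv3 F496276)) (tt N87330 F495946) (tt N102979 F495947) (tt N87329 (iv6 D218860)) (tt N87363 F495948))
theorem Q115604 : ∀ i, i < 115604 → P i := stepQ 115603 Q115603 (allL N115603 (tt N116026 F498120) (tt N87330 (iv0 D218861)) (tt N95485 (iv2 F495953)) (tt N112659 F495954) (tt N95645 F495952) (tt N95484 F495951) (tt N118835 (iv6 F512328)) (tt N119245 (iv7 F514597)))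
theorem Q115605 : ∀ i, i < 115605 → P i := stepQ 115604 Q115604 (allL N115604 (tt N119245 (iv1 F514598)) (tt N95485 (iv0 F495959)) (tt N116026 (iv2 F498115)) (tt N87334 F495955) (tt N87363 F495956) (tt N115426 F495957) (tt N110599 F495958) (tt N87330 (iv7 D218862)))
theorem Q115606 : ∀ i, i < 115606 → P i := stepQ 115605 Q115605 (allL N115605 (tt N115889 F497432) (tt N87335 (iv0 D218863)) (tt N115933 F497657) (tt N117468 (iv3 F505186)) (tt N87447 F495960) (tt N118715 (iv5 F511711)) (tt N101564 F495961) (tt N115934 (iv7 F497660)))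
theorem Q115607 : ∀ i, i < 115607 → P i := stepQ 115606 Q115606 (allL N115606 (tt N87335 (iv1 D218864)) (tt N115889 F497433) (tt N115934 F497665) (tt N118260 (iv3 F509410)) (tt N87448 F495962) (tt N118714 (iv5 F511703)) (tt N118258 (iv6 F509403)) (tt N115933 F497658))
theorem Q115608 : ∀ i, i < 115608 → P i := stepQ 115607 Q115607 (allL N115607 (tt N114158 F495968) (tt N88161 F495969) (tt N114156 F495966) (tt N87336 (iv3 D218865)) (tt N112235 (iv4 F495965)) (tt N111575 F495963) (tt N111642 F495967) (tt N114157 F495964))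
theorem Q115609 : ∀ i, i < 115609 → P i := stepQ 115608 Q115608 (allL N115608 (tt N115670 F496236) (tt N88150 F495970) (tt N115680 F496283) (tt N118874 F512519) (tt N87336 (iv4 D218866)) (tt N110845 (iv5 F496224)) (tt N119217 F514422) (tt N115681 (iv7 F496285)))
theorem Q115610 : ∀ i, i < 115610 → P i := stepQ 115609 Q115609 (allL N115609 (tt N115910 F497547) (tt N101566 (iv0 F495973)) (tt N115937 (iv2 F497675)) (tt N111642 F495971) (tt N119217 (iv4 F514420)) (tt N87634 F495972) (tt N87336 (iv6 D218867)) (tt N119222 (iv7 F514448)))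
theorem Q115611 : ∀ i, i < 115611 → P i := stepQ 115610 Q115610 (allL N115610 (tt N115891 F512528) (tt N118877 F512537) (tt N122029 (iv2 F529732)) (tt N87337 (iv3 D218868)) (tt N122028 (iv4 F529731)) (tt N122127 (iv5 F530327)) (tt N118875 F512527) (tt N115936 (iv7 F497671)))
theorem Q115612 : ∀ i, i < 115612 → P i := stepQ 115611 Q115611 (allL N115611 (tt N88150 F495975) (tt N115670 (iv0 F496235)) (tt N115681 F496287) (tt N118824 (iv3 F512270)) (tt N87337 (iv4 D218869)) (tt N110846 F495974) (tt N117532 (iv6 F505555)) (tt N115680 F496284))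
theorem Q115613 : ∀ i, i < 115613 → P i := stepQ 115612 Q115612 (allL N115612 (tt N117570 (iv1 F505763)) (tt N115913 (iv0 F497558)) (tt N115938 (iv2 F497681)) (tt N118875 (iv3 F512523)) (tt N117532 F505558) (tt N118401 (iv5 F510155)) (tt N87337 (iv6 D218870)) (tt N118400 (iv7 F510150)))
theorem Q115614 : ∀ i, i < 115614 → P i := stepQ 115613 Q115613 (allL N115613 (tt N104445 F495977) (tt N120659 (iv0 F522012)) (tt N120664 F522039) (tt N87338 (iv3 D218871)) (tt N87340 F495976) (tt N117955 (iv5 F507774)) (tt N108859 (iv6 F495978)) (tt N115939 (iv7 F497685)))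
theorem Q115615 : ∀ i, i < 115615 → P i := stepQ 115614 Q115614 (allL N115614 (tt N120851 F523085) (tt N104554 F496090) (tt N114173 F495979) (tt N117955 F507775) (tt N114100 F495980) (tt N87338 (iv5 D218872)) (tt N120876 (iv6 F523226)) (tt N115940 (iv7 F497688)))
theorem Q115616 : ∀ i, i < 115616 → P i := stepQ 115615 Q115615 (allL N115615 (tt N120852 (iv1 F523090)) (tt N102611 (iv0 F499206)) (tt N114174 F495981) (tt N108859 F495982) (tt N87339 F495983) (tt N116248 F499205) (tt N87338 (iv6 D218873)) (tt N120854 (iv7 F523101)))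
theorem Q115617 : ∀ i, i < 115617 → P i := stepQ 115616 Q115616 (allL N115616 (tt N114177 F495986) (tt N87339 (iv0 D218874)) (tt N114175 F495987) (tt N111483 F495984) (tt N122390 (iv4 F531813)) (tt N116472 (iv5 F500312)) (tt N115841 (iv6 F497179)) (tt N114176 (iv7 F495985)))
theorem Q115618 : ∀ i, i < 115618 → P i := stepQ 115617 Q115617 (allL N115617 (tt N87339 (iv1 D218875)) (tt N114177 F495988) (tt N114176 F495991) (tt N117192 (iv3 F503842)) (tt N121029 (iv4 F524106)) (tt N109537 (iv5 F495990)) (tt N115999 F497982) (tt N114175 F495989))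
theorem Q115619 : ∀ i, i < 115619 → P i := stepQ 115618 Q115618 (allL N115618 (tt N114176 (iv1 F495995)) (tt N114175 F495996) (tt N114177 F495992) (tt N87344 F495993) (tt N120854 (iv4 F523097)) (tt N117541 (iv5 F505611)) (tt N114834 F495994) (tt N87339 (iv7 D218876)))
theorem Q115620 : ∀ i, i < 115620 → P i := stepQ 115619 Q115619 (allL N115619 (tt N115943 (iv1 F497705)) (tt N87340 (iv0 D218877)) (tt N90375 (iv2 F495998)) (tt N115069 (iv3 F495999)) (tt N117936 (iv4 F507684)) (tt N90372 F495997) (tt N118607 (iv6 F511133)) (tt N90370 (iv7 F496000)))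
theorem Q115621 : ∀ i, i < 115621 → P i := stepQ 115620 Q115620 (allL N115620 (tt N87340 (iv1 D218878)) (tt N115943 F497706) (tt N90370 (iv2 F496003)) (tt N112225 (iv3 F496004)) (tt N117934 (iv4 F507677)) (tt N90368 F496002) (tt N119485 F515854) (tt N90375 F496001))
theorem Q115622 : ∀ i, i < 115622 → P i := stepQ 115621 Q115621 (allL N115621 (tt N93920 (iv1 F496010)) (tt N114198 F496011) (tt N114200 F496005) (tt N93539 F496006) (tt N87344 F496007) (tt N93823 F496008) (tt N94873 F496009) (tt N87341 (iv7 D218879)))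
theorem Q115623 : ∀ i, i < 115623 → P i := stepQ 115622 Q115622 (allL N115622 (tt N87996 F496018) (tt N115590 F496019) (tt N108968 F496013) (tt N97015 F496014) (tt N87343 (iv4 D218880)) (tt N97008 F496015) (tt N99628 F496016) (tt N114201 F496017))
theorem Q115624 : ∀ i, i < 115624 → P i := stepQ 115623 Q115623 (allL N115623 (tt N87347 (iv1 D218881)) (tt N113564 F496020) (tt N104887 (iv2 F496022)) (tt N116075 (iv3 F498332)) (tt N87610 F496021) (tt N121717 (iv5 F527931)) (tt N118953 (iv6 F512951)) (tt N115840 (iv7 F497174)))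
theorem Q115625 : ∀ i, i < 115625 → P i := stepQ 115624 Q115624 (allL N115624 (tt N120946 (iv1 F523630)) (tt N122483 D225742) (tt N115970 (iv2 F497834)) (tt N111409 F496023) (tt N122353 (iv4 F531587)) (tt N87347 (iv5 D218882)) (tt N120939 (iv6 F523585)) (tt N116050 (iv7 F498235)))
theorem Q115626 : ∀ i, i < 115626 → P i := stepQ 115625 Q115625 (allL N115625 (tt N109322 F496028) (tt N114143 F496029) (tt N87356 F496024) (tt N111566 F496025) (tt N115878 (iv4 F497367)) (tt N87350 (iv5 D218883)) (tt N111565 F496026) (tt N87360 F496027))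
theorem Q115627 : ∀ i, i < 115627 → P i := stepQ 115626 Q115626 (allL N115626 (tt N114143 F496034) (tt N109322 F496036) (tt N87360 F496030) (tt N87402 F496031) (tt N111508 F496035) (tt N87351 (iv5 D218884)) (tt N114203 F496032) (tt N87356 F496033))
theorem Q115628 : ∀ i, i < 115628 → P i := stepQ 115627 Q115627 (allL N115627 (tt N95488 F496038) (tt N118905 F512677) (tt N115878 (iv2 F497365)) (tt N111470 F496039) (tt N87356 (iv4 D218885)) (tt N95462 (iv5 F496040)) (tt N115875 (iv6 F497347)) (tt N111508 F496037))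
theorem Q115629 : ∀ i, i < 115629 → P i := stepQ 115628 Q115628 (allL N115628 (tt N114013 F496044) (tt N120756 (iv0 F522548)) (tt N122060 (iv2 F529918)) (tt N87360 F496041) (tt N108159 F496045) (tt N87358 (iv5 D218886)) (tt N112464 F496042) (tt N111566 F496043))
theorem Q115630 : ∀ i, i < 115630 → P i := stepQ 115629 Q115629 (allL N115629 (tt N118905 (iv1 F512678)) (tt N95488 (iv0 F496049)) (tt N111508 F496046) (tt N108160 F496047) (tt N87360 (iv4 D218887)) (tt N95483 F496048) (tt N115814 (iv6 F497038)) (tt N115878 (iv7 F497369)))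
theorem Q115631 : ∀ i, i < 115631 → P i := stepQ 115630 Q115630 (allL N115630 (tt N114204 F496054) (tt N114202 (iv0 F496055)) (tt N114203 F496050) (tt N112464 F496051) (tt N115814 (iv4 F497040)) (tt N87884 F496052) (tt N87360 (iv6 D218888)) (tt N112457 F496053))
theorem Q115632 : ∀ i, i < 115632 → P i := stepQ 115631 Q115631 (allL N115631 (tt N113886 F496059) (tt N121673 (iv0 F527662)) (tt N115676 (iv2 F496258)) (tt N87363 (iv3 D218889)) (tt N108164 F496056) (tt N110596 F496057) (tt N110597 F496058) (tt N115679 (iv7 F496279)))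
theorem Q115633 : ∀ i, i < 115633 → P i := stepQ 115632 Q115632 (allL N115632 (tt N117199 F503878) (tt N117192 (iv0 F503845)) (tt N110969 F496060) (tt N87371 F496061) (tt N114559 F496062) (tt N89947 F496063) (tt N87368 (iv6 D218890)) (tt N117198 (iv7 F503871)))
theorem Q115634 : ∀ i, i < 115634 → P i := stepQ 115633 Q115633 (allL N115633 (tt N118842 F512371) (tt N118882 (iv0 F512564)) (tt N118899 (iv2 F512647)) (tt N114162 F496064) (tt N87371 F496065) (tt N114161 F496066) (tt N87370 (iv6 D218891)) (tt N118898 F512642))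
theorem Q115635 : ∀ i, i < 115635 → P i := stepQ 115634 Q115634 (allL N115634 (tt N87371 (iv1 D218892)) (tt N106101 F496067) (tt N114180 F496071) (tt N114225 F496072) (tt N114144 F496073) (tt N110962 (iv5 F496069)) (tt N114143 (iv6 F496070)) (tt N114218 F496068))
theorem Q115636 : ∀ i, i < 115636 → P i := stepQ 115635 Q115635 (allL N115635 (tt N121704 F527858) (tt N117128 (iv0 F503532)) (tt N115647 (iv2 F496125)) (tt N87378 (iv3 D218893)) (tt N115959 (iv4 F497775)) (tt N91371 F496074) (tt N114871 F496075) (tt N121468 (iv7 F526544)))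
theorem Q115637 : ∀ i, i < 115637 → P i := stepQ 115636 Q115636 (allL N115636 (tt N104729 F496079) (tt N104753 F496080) (tt N116000 (iv2 F497983)) (tt N114174 F496076) (tt N87379 (iv4 D218894)) (tt N109917 F496078) (tt N114172 F496077) (tt N116025 (iv7 F498112)))
theorem Q115638 : ∀ i, i < 115638 → P i := stepQ 115637 Q115637 (allL N115637 (tt N120845 (iv1 F523051)) (tt N109543 F496083) (tt N116001 (iv2 F497988)) (tt N120697 (iv3 F522209)) (tt N87382 (iv4 D218895)) (tt N103802 F496082) (tt N120704 (iv6 F522242)) (tt N102977 F496081))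
theorem Q115639 : ∀ i, i < 115639 → P i := stepQ 115638 Q115638 (allL N115638 (tt N111854 F496086) (tt N122079 (iv0 F530037)) (tt N116002 (iv2 F497992)) (tt N87383 F496084) (tt N120704 (iv4 F522244)) (tt N91602 F496085) (tt N87382 (iv6 D218896)) (tt N122089 (iv7 F530092)))
theorem Q115640 : ∀ i, i < 115640 → P i := stepQ 115639 Q115639 (allL N115639 (tt N87435 (iv1 F496089)) (tt N87388 (iv0 D218897)) (tt N116007 F498019) (tt N122484 D225743) (tt N114089 F496087) (tt N104554 F496088) (tt N104556 F496092) (tt N115442 (iv7 F496093)))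
theorem Q115641 : ∀ i, i < 115641 → P i := stepQ 115640 Q115640 (allL N115640 (tt N87388 (iv1 D218898)) (tt N87435 F496094) (tt N115442 (iv2 F496096)) (tt N120567 F521497) (tt N87859 F496095) (tt N120851 (iv5 F523082)) (tt N109543 (iv6 F496097)) (tt N116007 (iv7 F498021)))
theorem Q115642 : ∀ i, i < 115642 → P i := stepQ 115641 Q115641 (allL N115641 (tt N113566 (iv1 F496100)) (tt N87389 (iv0 D218899)) (tt N114833 (iv2 F496101)) (tt N122063 (iv3 F529943)) (tt N113538 (iv4 F496102)) (tt N88268 F496098) (tt N114832 F496099) (tt N116010 (iv7 F498031)))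
theorem Q115643 : ∀ i, i < 115643 → P i := stepQ 115642 Q115642 (allL N115642 (tt N87389 (iv1 D218900)) (tt N113566 F496103) (tt N116010 F498033) (tt N114841 (iv3 F496106)) (tt N116348 (iv4 F499657)) (tt N87624 F496105) (tt N122118 (iv6 F530278)) (tt N114833 F496104))
theorem Q115644 : ∀ i, i < 115644 → P i := stepQ 115643 Q115643 (allL N115643 (tt N115969 F497831) (tt N114186 (iv0 F496112)) (tt N108593 F496107) (tt N87390 (iv3 D218901)) (tt N108565 F496108) (tt N99692 F496109) (tt N111484 F496110) (tt N91917 F496111))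
theorem Q115645 : ∀ i, i < 115645 → P i := stepQ 115644 Q115644 (allL N115644 (tt N87402 (iv1 F496116)) (tt N87401 (iv0 D218902)) (tt N88224 (iv2 F496115)) (tt N115978 (iv3 F497883)) (tt N122397 (iv4 F531853)) (tt N88220 F496113) (tt N110961 F496114) (tt N110973 F496117))
theorem Q115646 : ∀ i, i < 115646 → P i := stepQ 115645 Q115645 (allL N115645 (tt N117614 (iv1 F506006)) (tt N114148 F496120) (tt N115866 (iv2 F497307)) (tt N111509 F496118) (tt N87402 (iv4 D218903)) (tt N114185 F496119) (tt N120051 (iv6 F518775)) (tt N115869 (iv7 F497324)))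
theorem Q115647 : ∀ i, i < 115647 → P i := stepQ 115646 Q115646 (allL N115646 (tt N120045 (iv1 F518736)) (tt N120046 (iv0 F518742)) (tt N121722 (iv2 F527950)) (tt N114203 F496121) (tt N120051 (iv4 F518773)) (tt N115464 F496122) (tt N87402 (iv6 D218904)) (tt N120050 F518770))
theorem Q115648 : ∀ i, i < 115648 → P i := stepQ 115647 Q115647 (allL N115647 (tt N118858 (iv1 F512437)) (tt N108624 (iv0 F496128)) (tt N115635 F496125) (tt N112241 F496126) (tt N117204 (iv4 F503892)) (tt N115111 F496127) (tt N87404 (iv6 D218905)) (tt N117462 (iv7 F505159)))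
theorem Q115649 : ∀ i, i < 115649 → P i := stepQ 115648 Q115648 (allL N115648 (tt N87960 (iv1 F496131)) (tt N87406 (iv0 D218906)) (tt N115501 F496134) (tt N104815 (iv3 F496132)) (tt N111313 F496130) (tt N87948 F496129) (tt N121065 (iv6 F524324)) (tt N115504 F496133))
theorem Q115650 : ∀ i, i < 115650 → P i := stepQ 115649 Q115649 (allL N115649 (tt N87406 (iv1 D218907)) (tt N87960 F496135) (tt N115504 (iv2 F496140)) (tt N87950 (iv3 F496139)) (tt N111314 F496138) (tt N87944 F496137) (tt N118981 (iv6 F513103)) (tt N115501 F496136))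
theorem Q115651 : ∀ i, i < 115651 → P i := stepQ 115650 Q115650 (allL N115650 (tt N111903 F496146) (tt N111900 (iv0 F496147)) (tt N115558 F496141) (tt N87406 (iv3 D218908)) (tt N87432 F496142) (tt N114187 F496143) (tt N87418 F496144) (tt N115539 F496145))
theorem Q115652 : ∀ i, i < 115652 → P i := stepQ 115651 Q115651 (allL N115651 (tt N87956 F496153) (tt N87955 F496154) (tt N87959 F496148) (tt N87434 F496149) (tt N87939 F496150) (tt N111312 F496151) (tt N87407 (iv6 D218909)) (tt N87419 F496152))
theorem Q115653 : ∀ i, i < 115653 → P i := stepQ 115652 Q115652 (allL N115652 (tt N91435 F496158) (tt N113900 F496159) (tt N114638 F496155) (tt N122105 (iv3 F530196)) (tt N87408 (iv4 D218910)) (tt N111217 F496156) (tt N122147 (iv6 F530431)) (tt N114314 F496157))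
theorem Q115654 : ∀ i, i < 115654 → P i := stepQ 115653 Q115653 (allL N115653 (tt N121469 (iv1 F526552)) (tt N122411 (iv0 F531946)) (tt N91372 F496160) (tt N108589 F496161) (tt N115594 F496162) (tt N91363 F496163) (tt N87410 (iv6 D218911)) (tt N119370 (iv7 F515266)))
theorem Q115655 : ∀ i, i < 115655 → P i := stepQ 115654 Q115654 (allL N115654 (tt N110968 F496169) (tt N87411 (iv0 D218912)) (tt N104993 (iv2 F496167)) (tt N111480 F496168) (tt N95744 F496164) (tt N97678 F496165) (tt N97223 F496166) (tt N117615 (iv7 F506012)))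
theorem Q115656 : ∀ i, i < 115656 → P i := stepQ 115655 Q115655 (allL N115655 (tt N117615 F506014) (tt N104993 (iv0 F496175)) (tt N110968 F496170) (tt N112236 F496171) (tt N114140 F496172) (tt N114809 F496173) (tt N97219 F496174) (tt N87411 (iv7 D218913)))
theorem Q115657 : ∀ i, i < 115657 → P i := stepQ 115656 Q115656 (allL N115656 (tt N122063 (iv1 F529942)) (tt N122065 (iv0 F529954)) (tt N121058 (iv2 F524279)) (tt N87414 F496176) (tt N119129 F513942) (tt N115244 F496177) (tt N87413 (iv6 D218914)) (tt N112239 F496178))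
theorem Q115658 : ∀ i, i < 115658 → P i := stepQ 115657 Q115657 (allL N115657 (tt N95657 (iv1 F496180)) (tt N87414 (iv0 D218915)) (tt N116011 (iv2 F498035)) (tt N111403 (iv3 F496181)) (tt N122125 (iv4 F530314)) (tt N112440 F496179) (tt N119444 F515656) (tt N117623 (iv7 F506054)))
theorem Q115659 : ∀ i, i < 115659 → P i := stepQ 115658 Q115658 (allL N115658 (tt N122125 F530318) (tt N117624 (iv0 F506058)) (tt N111776 F496182) (tt N118952 (iv3 F512940)) (tt N104039 F496183) (tt N115778 (iv5 F496823)) (tt N87416 (iv6 D218916)) (tt N118618 (iv7 F511184)))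
theorem Q115660 : ∀ i, i < 115660 → P i := stepQ 115659 Q115659 (allL N115659 (tt N111783 F496186) (tt N106811 F496188) (tt N115978 (iv2 F497882)) (tt N87420 (iv3 D218917)) (tt N111406 (iv4 F496187)) (tt N87890 F496184) (tt N111405 F496185) (tt N115979 (iv7 F497886)))
theorem Q115661 : ∀ i, i < 115661 → P i := stepQ 115660 Q115660 (allL N115660 (tt N104753 F496190) (tt N104729 F496191) (tt N116025 (iv2 F498110)) (tt N108860 F496189) (tt N87423 (iv4 D218918)) (tt N120844 (iv5 F523038)) (tt N122485 D225744) (tt N116000 (iv7 F497984)))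
theorem Q115662 : ∀ i, i < 115662 → P i := stepQ 115661 Q115661 (allL N115661 (tt N122392 (iv1 F531827)) (tt N114168 (iv0 F496196)) (tt N114206 F496192) (tt N87426 F496193) (tt N122485 (iv4 F532410)) (tt N112421 F496194) (tt N87423 (iv6 D218919)) (tt N112443 F496195))
theorem Q115663 : ∀ i, i < 115663 → P i := stepQ 115662 Q115662 (allL N115662 (tt N87427 (iv1 D218920)) (tt N116004 F498003) (tt N114805 F496199) (tt N108624 F496200) (tt N114793 F496201) (tt N91412 (iv5 F496197)) (tt N108623 (iv6 F496198)) (tt N116003 (iv7 F497998)))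
theorem Q115664 : ∀ i, i < 115664 → P i := stepQ 115663 Q115663 (allL N115663 (tt N109543 F496206) (tt N120845 (iv0 F523050)) (tt N102977 F496202) (tt N94429 F496203) (tt N87428 (iv4 D218921)) (tt N103801 F496204) (tt N106423 F496205) (tt N116001 (iv7 F497991)))
theorem Q115665 : ∀ i, i < 115665 → P i := stepQ 115664 Q115664 (allL N115664 (tt N114227 (iv1 F496210)) (tt N100549 F496211) (tt N111905 F496207) (tt N114835 F496208) (tt N118717 (iv4 F511720)) (tt N91887 F496209) (tt N116004 (iv6 F498002)) (tt N87429 (iv7 D218922)))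
theorem Q115666 : ∀ i, i < 115666 → P i := stepQ 115665 Q115665 (allL N115665 (tt N120742 (iv1 F522465)) (tt N118937 (iv0 F512848)) (tt N118384 (iv2 F510064)) (tt N87431 (iv3 D218923)) (tt N111879 F496212) (tt N108668 F496213) (tt N111878 F496214) (tt N115573 F496215))
theorem Q115667 : ∀ i, i < 115667 → P i := stepQ 115666 Q115666 (allL N115666 (tt N115564 (iv1 F496230)) (tt N87432 (iv0 D218924)) (tt N121762 (iv2 F528159)) (tt N115977 (iv3 F497874)) (tt N115868 (iv4 F497320)) (tt N107766 F496216) (tt N121069 (iv6 F524349)) (tt N115992 (iv7 F497941)))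
theorem Q115668 : ∀ i, i < 115668 → P i := stepQ 115667 Q115667 (allL N115667 (tt N87432 (iv1 D218925)) (tt N115564 (iv0 F496219)) (tt N115992 (iv2 F497944)) (tt N121656 (iv3 F527578)) (tt N122486 D225745) (tt N107763 (iv5 F496217)) (tt N100550 F496218) (tt N121762 (iv7 F528162)))
theorem Q115669 : ∀ i, i < 115669 → P i := stepQ 115668 Q115668 (allL N115668 (tt N121762 (iv1 F528164)) (tt N115992 (iv0 F497942)) (tt N87432 (iv2 D218926)) (tt N111540 F496220) (tt N115558 F496221) (tt N121612 (iv5 F527332)) (tt N87444 F496222) (tt N115564 (iv7 F496223)))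
theorem Q115670 : ∀ i, i < 115670 → P i := stepQ 115669 Q115669 (allL N115669 (tt N115992 F497943) (tt N121762 (iv0 F528163)) (tt N115564 F496225) (tt N87433 F496226) (tt N115539 F496227) (tt N109633 F496228) (tt N115538 F496229) (tt N87432 (iv7 D218927)))
theorem Q115671 : ∀ i, i < 115671 → P i := stepQ 115670 Q115670 (allL N115670 (tt N115611 F496235) (tt N115608 (iv0 F496236)) (tt N116006 (iv2 F498011)) (tt N115538 F496231) (tt N87434 F496232) (tt N109634 F496233) (tt N87433 (iv6 D218928)) (tt N87446 F496234))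
theorem Q115672 : ∀ i, i < 115672 → P i := stepQ 115671 Q115671 (allL N115671 (tt N120692 F522184) (tt N120686 (iv0 F522145)) (tt N105944 F496237) (tt N97901 F496238) (tt N105862 F496240) (tt N87435 (iv5 D218929)) (tt N97900 F496239) (tt N116008 (iv7 F498024)))
theorem Q115673 : ∀ i, i < 115673 → P i := stepQ 115672 Q115672 (allL N115672 (tt N108632 (iv1 F496241)) (tt N87441 (iv0 D218930)) (tt N115597 (iv2 F496248)) (tt N117447 (iv3 F505079)) (tt N120054 (iv4 F518795)) (tt N116128 (iv5 F498622)) (tt N120742 (iv6 F522462)) (tt N115596 F496247))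
theorem Q115674 : ∀ i, i < 115674 → P i := stepQ 115673 Q115673 (allL N115673 (tt N87441 (iv1 D218931)) (tt N108632 (iv0 F496246)) (tt N115596 (iv2 F496243)) (tt N121643 (iv3 F527501)) (tt N95487 F496242) (tt N116129 (iv5 F498629)) (tt N95486 (iv6 F496244)) (tt N115597 (iv7 F496245)))
theorem Q115675 : ∀ i, i < 115675 → P i := stepQ 115674 Q115674 (allL N115674 (tt N115597 (iv1 F496254)) (tt N115596 F496253) (tt N87441 (iv2 D218932)) (tt N115066 F496249) (tt N108633 F496250) (tt N113221 F496251) (tt N121655 (iv6 F527570)) (tt N108632 F496252))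
theorem Q115676 : ∀ i, i < 115676 → P i := stepQ 115675 Q115675 (allL N115675 (tt N121643 (iv1 F527505)) (tt N121648 (iv0 F527531)) (tt N110446 F496255) (tt N87442 (iv3 D218933)) (tt N115997 (iv4 F497963)) (tt N110440 F496256) (tt N115340 (iv6 F496257)) (tt N121655 (iv7 F527571)))
theorem Q115677 : ∀ i, i < 115677 → P i := stepQ 115676 Q115676 (allL N115676 (tt N113830 F496260) (tt N122123 (iv0 F530308)) (tt N115631 F496258) (tt N114872 F496261) (tt N87442 (iv4 D218934)) (tt N113911 F496259) (tt N121964 (iv6 F529339)) (tt N113910 (iv7 F496262)))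
theorem Q115678 : ∀ i, i < 115678 → P i := stepQ 115677 Q115677 (allL N115677 (tt N101558 F496266) (tt N115031 F496268) (tt N114984 F496263) (tt N115340 F496264) (tt N121964 (iv4 F529338)) (tt N98198 F496265) (tt N87442 (iv6 D218935)) (tt N114924 F496267))
theorem Q115679 : ∀ i, i < 115679 → P i := stepQ 115678 Q115678 (allL N115678 (tt N87444 (iv1 F496273)) (tt N87445 F496274) (tt N87443 F496270) (tt N121655 (iv3 F527567)) (tt N113910 F496271) (tt N116966 (iv5 F502739)) (tt N115066 F496272) (tt N87442 (iv7 D218936)))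
theorem Q115680 : ∀ i, i < 115680 → P i := stepQ 115679 Q115679 (allL N115679 (tt N122123 F530309) (tt N113830 F496280) (tt N113910 F496275) (tt N115602 F496276) (tt N87443 (iv4 D218937)) (tt N90650 F496277) (tt N90653 F496278) (tt N115631 F496279))
theorem Q115681 : ∀ i, i < 115681 → P i := stepQ 115680 Q115680 (allL N115680 (tt N116006 (iv1 F498017)) (tt N87446 (iv0 D218938)) (tt N115608 (iv2 F496283)) (tt N120503 (iv3 F521128)) (tt N88021 F496281) (tt N118815 (iv5 F512221)) (tt N96662 F496282) (tt N115611 (iv7 F496284)))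
theorem Q115682 : ∀ i, i < 115682 → P i := stepQ 115681 Q115681 (allL N115681 (tt N87446 (iv1 D218939)) (tt N116006 (iv0 F498016)) (tt N115611 (iv2 F496287)) (tt N115995 (iv3 F497956)) (tt N88022 F496286) (tt N118406 (iv5 F510174)) (tt N115994 (iv6 F497955)) (tt N115608 F496285))
theorem Q115683 : ∀ i, i < 115683 → P i := stepQ 115682 Q115682 (allL N115682 (tt N114166 F496290) (tt N120929 (iv0 F523541)) (tt N114195 F496288) (tt N87448 (iv3 D218940)) (tt N102518 (iv4 F496289)) (tt N120674 (iv5 F522076)) (tt N122476 (iv6 F532351)) (tt N116021 (iv7 F498099)))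
theorem Q115684 : ∀ i, i < 115684 → P i := stepQ 115683 Q115683 (allL N115683 (tt N108623 F496294) (tt N116013 (iv0 F498049)) (tt N103139 F496291) (tt N122476 (iv3 F532348)) (tt N118258 (iv4 F509400)) (tt N103138 F496292) (tt N87448 (iv6 D218941)) (tt N108487 F496293))
theorem Q115685 : ∀ i, i < 115685 → P i := stepQ 115684 Q115684 (allL N115684 (tt N87473 (iv1 F496300)) (tt N87472 F496301) (tt N87475 F496295) (tt N90769 F496296) (tt N100310 F496297) (tt N90762 F496298) (tt N102980 F496299) (tt N87468 (iv7 D218942)))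
theorem Q115686 : ∀ i, i < 115686 → P i := stepQ 115685 Q115685 (allL N115685 (tt N113270 F496307) (tt N89368 F496308) (tt N90761 F496302) (tt N112041 F496303) (tt N87474 (iv4 D218943)) (tt N100080 F496306) (tt N92467 F496304) (tt N91328 F496305))
theorem Q115687 : ∀ i, i < 115687 → P i := stepQ 115686 Q115686 (allL N115686 (tt N87535 (iv1 F496312)) (tt N87478 (iv0 D218944)) (tt N114821 (iv2 F496313)) (tt N113661 (iv3 F496314)) (tt N105694 F496309) (tt N91780 F496310) (tt N114813 F496311) (tt N92010 (iv7 F496315)))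
theorem Q115688 : ∀ i, i < 115688 → P i := stepQ 115687 Q115687 (allL N115687 (tt N87478 (iv1 D218945)) (tt N87535 F496316) (tt N92010 F496321) (tt N114271 (iv3 F496319)) (tt N93138 F496318) (tt N119224 (iv5 F514460)) (tt N87519 (iv6 F496320)) (tt N114821 F496317))
theorem Q115689 : ∀ i, i < 115689 → P i := stepQ 115688 Q115688 (allL N115688 (tt N116040 (iv1 F498190)) (tt N90743 (iv0 F496324)) (tt N115823 (iv2 F497086)) (tt N87482 (iv3 D218946)) (tt N115822 (iv4 F497084)) (tt N99274 F496322) (tt N87522 F496323) (tt N116039 (iv7 F498187)))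
theorem Q115690 : ∀ i, i < 115690 → P i := stepQ 115689 Q115689 (allL N115689 (tt N92007 F496330) (tt N114813 (iv0 F496331)) (tt N114819 F496325) (tt N114248 F496326) (tt N92986 F496327) (tt N88290 F496328) (tt N87483 (iv6 D218947)) (tt N87524 F496329))
theorem Q115691 : ∀ i, i < 115691 → P i := stepQ 115690 Q115690 (allL N115690 (tt N87603 F496337) (tt N97356 F496338) (tt N102866 F496332) (tt N114816 F496333) (tt N97148 F496334) (tt N114823 F496335) (tt N87487 (iv6 D218948)) (tt N87526 F496336))
theorem Q115692 : ∀ i, i < 115692 → P i := stepQ 115691 Q115691 (allL N115691 (tt N116073 (iv1 F498323)) (tt N103228 F496342) (tt N103382 F496339) (tt N118953 (iv3 F512946)) (tt N87490 (iv4 D218949)) (tt N103380 F496340) (tt N116075 (iv6 F498335)) (tt N114237 F496341))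
theorem Q115693 : ∀ i, i < 115693 → P i := stepQ 115692 Q115692 (allL N115692 (tt N87491 (iv1 D218950)) (tt N108643 F496343) (tt N108645 (iv2 F496347)) (tt N112473 (iv3 F496346)) (tt N103990 F496345) (tt N117649 (iv5 F506212)) (tt N108648 (iv6 F496348)) (tt N108490 F496344))
theorem Q115694 : ∀ i, i < 115694 → P i := stepQ 115693 Q115693 (allL N115693 (tt N108636 F496351) (tt N115699 F496388) (tt N115698 (iv2 F496381)) (tt N87491 (iv3 D218951)) (tt N87496 F496349) (tt N101959 (iv5 F496352)) (tt N113666 F496350) (tt N115697 F496374))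
theorem Q115695 : ∀ i, i < 115695 → P i := stepQ 115694 Q115694 (allL N115694 (tt N117672 F506340) (tt N108961 F496357) (tt N103336 F496353) (tt N101959 F496354) (tt N103233 F496356) (tt N87491 (iv5 D218952)) (tt N111477 (iv6 F496358)) (tt N103339 F496355))
theorem Q115696 : ∀ i, i < 115696 → P i := stepQ 115695 Q115695 (allL N115695 (tt N104023 (iv1 F496362)) (tt N87496 (iv0 D218954)) (tt N115374 (iv2 F496363)) (tt N111266 F496360) (tt N116077 (iv4 F498344)) (tt N98437 F496359) (tt N105848 F496361) (tt N118999 (iv7 F513201)))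
theorem Q115697 : ∀ i, i < 115697 → P i := stepQ 115696 Q115696 (allL N115696 (tt N87496 (iv1 D218955)) (tt N104023 F496364) (tt N118999 (iv2 F513199)) (tt N92960 (iv3 F496367)) (tt N116080 (iv4 F498355)) (tt N98438 F496366) (tt N92959 (iv6 F496368)) (tt N115374 F496365))
theorem Q115698 : ∀ i, i < 115698 → P i := stepQ 115697 Q115697 (allL N115697 (tt N111735 F496375) (tt N87512 (iv0 D218956)) (tt N92005 (iv2 F496372)) (tt N115469 (iv3 F496373)) (tt N100518 F496370) (tt N111720 F496369) (tt N97351 F496371) (tt N115693 (iv7 F496374)))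
theorem Q115699 : ∀ i, i < 115699 → P i := stepQ 115698 Q115698 (allL N115698 (tt N87512 (iv1 D218957)) (tt N111735 F496376) (tt N115693 F496381) (tt N87519 (iv3 F496379)) (tt N104186 F496378) (tt N111450 (iv5 F496380)) (tt N114271 F496382) (tt N92005 F496377))
theorem Q115700 : ∀ i, i < 115700 → P i := stepQ 115699 Q115699 (allL N115699 (tt N115693 (iv1 F496388)) (tt N92005 F496389) (tt N111735 F496383) (tt N114249 F496384) (tt N105785 F496385) (tt N91997 F496386) (tt N95658 F496387) (tt N87512 (iv7 D218958)))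
theorem Q115701 : ∀ i, i < 115701 → P i := stepQ 115700 Q115700 (allL N115700 (tt N114820 F496395) (tt N93147 (iv0 F496396)) (tt N108321 F496390) (tt N114296 F496391) (tt N115486 F496392) (tt N105395 F496393) (tt N87521 (iv6 D218959)) (tt N105483 F496394))
theorem Q115702 : ∀ i, i < 115702 → P i := stepQ 115701 Q115701 (allL N115701 (tt N97257 F496399) (tt N92856 (iv0 F496400)) (tt N97824 (iv2 F496402)) (tt N87536 (iv3 D218960)) (tt N119651 (iv4 F516714)) (tt N92125 F496401) (tt N103054 F496397) (tt N104008 F496398))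
theorem Q115703 : ∀ i, i < 115703 → P i := stepQ 115702 Q115702 (allL N115702 (tt N119333 (iv1 F515076)) (tt N102378 F496407) (tt N103928 F496403) (tt N92125 F496404) (tt N103919 F496405) (tt N87536 (iv5 D218961)) (tt N92123 F496406) (tt N120805 (iv7 F522821)))
theorem Q115704 : ∀ i, i < 115704 → P i := stepQ 115703 Q115703 (allL N115703 (tt N113671 F496410) (tt N113669 F496411) (tt N87542 F496408) (tt N120046 (iv3 F518738)) (tt N122175 (iv4 F530592)) (tt N87539 (iv5 D218962)) (tt N91767 F496409) (tt N119372 (iv7 F515272)))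
theorem Q115705 : ∀ i, i < 115705 → P i := stepQ 115704 Q115704 (allL N115704 (tt N122334 (iv1 F531483)) (tt N112265 F496415) (tt N122175 (iv2 F530591)) (tt N111420 F496412) (tt N87542 (iv4 D218963)) (tt N114747 F496414) (tt N91768 F496413) (tt N119466 (iv7 F515765)))
theorem Q115706 : ∀ i, i < 115706 → P i := stepQ 115705 Q115705 (allL N115705 (tt N113669 (iv1 F496419)) (tt N113671 F496420) (tt N119372 (iv2 F515269)) (tt N87561 F496416) (tt N119466 (iv4 F515763)) (tt N87543 F496417) (tt N108590 F496418) (tt N87542 (iv7 D218964)))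
theorem Q115707 : ∀ i, i < 115707 → P i := stepQ 115706 Q115706 (allL N115706 (tt N115329 F496425) (tt N115327 F496426) (tt N115243 F496421) (tt N88358 F496422) (tt N87544 (iv4 D218965)) (tt N122465 (iv5 F532280)) (tt N115026 F496423) (tt N115328 F496424))
theorem Q115708 : ∀ i, i < 115708 → P i := stepQ 115707 Q115707 (allL N115707 (tt N111823 F496428) (tt N122187 (iv0 F530667)) (tt N116069 (iv2 F498310)) (tt N87556 F496427) (tt N122487 D225746) (tt N87554 (iv5 D218966)) (tt N120764 (iv6 F522587)) (tt N122183 (iv7 F530644)))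
theorem Q115709 : ∀ i, i < 115709 → P i := stepQ 115708 Q115708 (allL N115708 (tt N87558 (iv1 F496431)) (tt N87556 (iv0 D218967)) (tt N119224 (iv2 F514458)) (tt N120047 (iv3 F518746)) (tt N119218 (iv4 F514426)) (tt N92010 F496429) (tt N112405 F496430) (tt N91780 F496432))
theorem Q115710 : ∀ i, i < 115710 → P i := stepQ 115709 Q115709 (allL N115709 (tt N119465 (iv1 F515762)) (tt N87560 (iv0 D218968)) (tt N96659 (iv2 F496436)) (tt N101891 F496437) (tt N87972 F496434) (tt N96646 F496433) (tt N87971 F496435) (tt N96657 F496438))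
theorem Q115711 : ∀ i, i < 115711 → P i := stepQ 115710 Q115710 (allL N115710 (tt N97156 F496442) (tt N97149 F496443) (tt N106881 F496439) (tt N118979 (iv3 F513091)) (tt N87564 (iv4 D218969)) (tt N119350 (iv5 F515156)) (tt N103202 F496440) (tt N112875 F496441))
theorem Q115712 : ∀ i, i < 115712 → P i := stepQ 115711 Q115711 (allL N115711 (tt N97339 F496448) (tt N97345 (iv0 F496449)) (tt N96932 F496444) (tt N109649 F496445) (tt N96909 F496446) (tt N109639 F496447) (tt N87566 (iv6 D218970)) (tt N118095 (iv7 F508557)))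
theorem Q115713 : ∀ i, i < 115713 → P i := stepQ 115712 Q115712 (allL N115712 (tt N90738 F496456) (tt N90744 F496455) (tt N90742 F496450) (tt N87573 F496451) (tt N99239 F496452) (tt N87572 (iv5 D218971)) (tt N91397 F496453) (tt N90741 F496454))
theorem Q115714 : ∀ i, i < 115714 → P i := stepQ 115713 Q115713 (allL N115713 (tt N96765 F496461) (tt N96768 (iv0 F496462)) (tt N119237 (iv2 F514539)) (tt N87580 (iv3 D218972)) (tt N96943 F496457) (tt N115326 F496458) (tt N97192 F496459) (tt N102141 F496460))
theorem Q115715 : ∀ i, i < 115715 → P i := stepQ 115714 Q115714 (allL N115714 (tt N94131 F496468) (tt N93137 F496469) (tt N87583 F496463) (tt N98360 F496464) (tt N87582 (iv4 D218973)) (tt N105900 F496465) (tt N98359 F496466) (tt N94129 F496467))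
theorem Q115716 : ∀ i, i < 115716 → P i := stepQ 115715 Q115715 (allL N115715 (tt N87591 (iv1 F496473)) (tt N87588 (iv0 D218974)) (tt N115372 (iv2 F496472)) (tt N115373 (iv3 F496474)) (tt N95892 F496470) (tt N118698 (iv5 F511606)) (tt N106146 F496471) (tt N118050 (iv7 F508297)))
theorem Q115717 : ∀ i, i < 115717 → P i := stepQ 115716 Q115716 (allL N115716 (tt N111868 F496480) (tt N118067 (iv0 F508395)) (tt N93248 F496475) (tt N87588 (iv3 D218975)) (tt N114607 F496476) (tt N112490 F496477) (tt N102077 F496478) (tt N115270 F496479))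
theorem Q115718 : ∀ i, i < 115718 → P i := stepQ 115717 Q115717 (allL N115717 (tt N118107 F508639) (tt N97250 F496486) (tt N115482 F496481) (tt N111754 F496482) (tt N87594 (iv4 D218976)) (tt N104991 F496485) (tt N88471 F496483) (tt N104931 F496484))
theorem Q115719 : ∀ i, i < 115719 → P i := stepQ 115718 Q115718 (allL N115718 (tt N87595 (iv1 D218977)) (tt N97320 F496487) (tt N113668 (iv2 F496492)) (tt N112053 F496491) (tt N114860 F496489) (tt N118396 (iv5 F510125)) (tt N88296 (iv6 F496490)) (tt N115465 F496488))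
theorem Q115720 : ∀ i, i < 115720 → P i := stepQ 115719 Q115719 (allL N115719 (tt N104997 F496498) (tt N105001 F496499) (tt N111621 F496493) (tt N95438 F496494) (tt N111620 F496495) (tt N87595 (iv5 D218978)) (tt N95435 F496496) (tt N115466 F496497))
theorem Q115721 : ∀ i, i < 115721 → P i := stepQ 115720 Q115720 (allL N115720 (tt N115091 F496506) (tt N103028 F496505) (tt N105478 F496500) (tt N109372 F496501) (tt N96487 F496504) (tt N87598 (iv5 D218979)) (tt N109616 F496502) (tt N105480 F496503))
theorem Q115722 : ∀ i, i < 115722 → P i := stepQ 115721 Q115721 (allL N115721 (tt N103028 F496511) (tt N115091 F496512) (tt N105480 F496507) (tt N109698 F496508) (tt N96485 F496509) (tt N87599 (iv5 D218980)) (tt N117998 (iv6 F507999)) (tt N105478 F496510))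
theorem Q115723 : ∀ i, i < 115723 → P i := stepQ 115722 Q115722 (allL N115722 (tt N87605 (iv1 F496516)) (tt N87602 (iv0 D218981)) (tt N114248 (iv2 F496515)) (tt N96735 (iv3 F496518)) (tt N116042 (iv4 F498205)) (tt N108489 F496513) (tt N91590 F496514) (tt N114245 F496517))
theorem Q115724 : ∀ i, i < 115724 → P i := stepQ 115723 Q115723 (allL N115723 (tt N96932 F496523) (tt N118095 (iv0 F508558)) (tt N97345 F496519) (tt N87604 (iv3 D218982)) (tt N97341 F496520) (tt N121139 (iv5 F524728)) (tt N105851 F496521) (tt N97339 F496522))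
theorem Q115725 : ∀ i, i < 115725 → P i := stepQ 115724 Q115724 (allL N115724 (tt N112444 F496526) (tt N114240 F496527) (tt N115839 (iv2 F497165)) (tt N99665 F496524) (tt N87607 (iv4 D218983)) (tt N122483 (iv5 F532399)) (tt N108552 (iv6 F496528)) (tt N99657 F496525))
theorem Q115726 : ∀ i, i < 115726 → P i := stepQ 115725 Q115725 (allL N115725 (tt N115460 (iv1 F496535)) (tt N87654 (iv0 F496534)) (tt N96769 F496529) (tt N111138 F496530) (tt N108552 F496531) (tt N96935 F496532) (tt N87607 (iv6 D218984)) (tt N108549 F496533))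
theorem Q115727 : ∀ i, i < 115727 → P i := stepQ 115726 Q115726 (allL N115726 (tt N114240 F496538) (tt N112444 F496539) (tt N99657 F496536) (tt N108493 F496537) (tt N87608 (iv4 D218985)) (tt N120946 (iv5 F523627)) (tt N99654 F496540) (tt N115839 (iv7 F497168)))
theorem Q115728 : ∀ i, i < 115728 → P i := stepQ 115727 Q115727 (allL N115727 (tt N87628 F496546) (tt N108548 F496547) (tt N99656 F496541) (tt N99564 F496542) (tt N99654 F496543) (tt N99717 F496544) (tt N87608 (iv6 D218986)) (tt N108246 F496545))
theorem Q115729 : ∀ i, i < 115729 → P i := stepQ 115728 Q115728 (allL N115728 (tt N116356 (iv1 F499693)) (tt N88270 F496549) (tt N120757 (iv2 F522550)) (tt N122343 (iv3 F531535)) (tt N116153 (iv4 F498773)) (tt N87612 (iv5 D218987)) (tt N115450 F496548) (tt N115841 (iv7 F497177)))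
theorem Q115730 : ∀ i, i < 115730 → P i := stepQ 115729 Q115729 (allL N115729 (tt N115449 (iv1 F496553)) (tt N87613 (iv0 D218988)) (tt N112446 (iv2 F496554)) (tt N116056 (iv3 F498261)) (tt N111750 F496551) (tt N91199 F496550) (tt N111121 F496552) (tt N119005 (iv7 F513240)))
theorem Q115731 : ∀ i, i < 115731 → P i := stepQ 115730 Q115730 (allL N115730 (tt N87613 (iv1 D218989)) (tt N115449 F496555) (tt N119005 F513238) (tt N96938 (iv3 F496559)) (tt N104930 F496558) (tt N108258 F496557) (tt N96936 (iv6 F496560)) (tt N112446 F496556))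
theorem Q115732 : ∀ i, i < 115732 → P i := stepQ 115731 Q115731 (allL N115731 (tt N93081 F496565) (tt N104418 F496566) (tt N103223 F496561) (tt N109764 F496562) (tt N105536 F496563) (tt N87616 (iv5 D218990)) (tt N112411 F496567) (tt N104419 F496564))
theorem Q115733 : ∀ i, i < 115733 → P i := stepQ 115732 Q115732 (allL N115732 (tt N108485 F496572) (tt N88271 F496573) (tt N120792 (iv2 F522740)) (tt N97287 F496568) (tt N87628 (iv4 D218991)) (tt N97286 F496571) (tt N101822 F496569) (tt N108604 F496570))
theorem Q115734 : ∀ i, i < 115734 → P i := stepQ 115733 Q115733 (allL N115733 (tt N101566 F496574) (tt N115910 F497546) (tt N119222 (iv2 F514445)) (tt N115808 (iv3 F497001)) (tt N119216 (iv4 F514412)) (tt N87633 (iv5 D218992)) (tt N118400 (iv6 F510149)) (tt N115937 F497679))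
theorem Q115735 : ∀ i, i < 115735 → P i := stepQ 115734 Q115734 (allL N115734 (tt N114678 F496579) (tt N114830 (iv0 F496580)) (tt N113096 F496575) (tt N114293 F496576) (tt N117406 (iv4 F504872)) (tt N113067 F496577) (tt N87637 (iv6 D218993)) (tt N114535 F496578))
theorem Q115736 : ∀ i, i < 115736 → P i := stepQ 115735 Q115735 (allL N115735 (tt N121784 (iv1 F528299)) (tt N87639 (iv0 D218994)) (tt N101330 (iv2 F496584)) (tt N109087 F496582) (tt N98114 F496581) (tt N118929 (iv5 F512795)) (tt N105039 F496583) (tt N118448 (iv7 F510419)))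
theorem Q115737 : ∀ i, i < 115737 → P i := stepQ 115736 Q115736 (allL N115736 (tt N87639 (iv1 D218995)) (tt N121784 (iv0 F528298)) (tt N118448 (iv2 F510415)) (tt N88960 F496587) (tt N98109 F496588) (tt N119617 (iv5 F516537)) (tt N105718 (iv6 F496586)) (tt N101330 F496585))
theorem Q115738 : ∀ i, i < 115738 → P i := stepQ 115737 Q115737 (allL N115737 (tt N118448 F510421) (tt N101330 (iv0 F500290)) (tt N121784 (iv2 F528293)) (tt N87644 F496589) (tt N121529 (iv4 F526872)) (tt N117101 (iv5 F503392)) (tt N113098 F496590) (tt N87639 (iv7 D218996)))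
theorem Q115739 : ∀ i, i < 115739 → P i := stepQ 115738 Q115738 (allL N115738 (tt N87640 (iv1 D218997)) (tt N98425 (iv0 F496597)) (tt N113099 F496595) (tt N98341 F496596) (tt N90093 (iv4 F496593)) (tt N98334 F496592) (tt N89788 (iv6 F496594)) (tt N98333 F496591))
theorem Q115740 : ∀ i, i < 115740 → P i := stepQ 115739 Q115739 (allL N115739 (tt N98333 (iv1 F496603)) (tt N113099 F496602) (tt N87640 (iv2 D218998)) (tt N98332 F496598) (tt N89815 F496599) (tt N119595 (iv5 F516432)) (tt N105829 F496600) (tt N98425 F496601))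
theorem Q115741 : ∀ i, i < 115741 → P i := stepQ 115740 Q115740 (allL N115740 (tt N104860 F496607) (tt N105784 (iv0 F496608)) (tt N87767 F496604) (tt N87646 F496605) (tt N97964 F496606) (tt N115905 (iv5 F497517)) (tt N87645 (iv6 D218999)) (tt N118998 (iv7 F513196)))
theorem Q115742 : ∀ i, i < 115742 → P i := stepQ 115741 Q115741 (allL N115741 (tt N100726 F496612) (tt N119351 (iv0 F515167)) (tt N115458 F496609) (tt N87653 F496610) (tt N115276 F496611) (tt N117616 (iv5 F506016)) (tt N87651 (iv6 D219000)) (tt N122099 (iv7 F530161)))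
theorem Q115743 : ∀ i, i < 115743 → P i := stepQ 115742 Q115742 (allL N115742 (tt N95865 F496618) (tt N118104 F508618) (tt N105933 F496613) (tt N104018 F496614) (tt N87653 F496615) (tt N104158 F496616) (tt N87652 (iv6 D219001)) (tt N115204 F496617))
theorem Q115744 : ∀ i, i < 115744 → P i := stepQ 115743 Q115743 (allL N115743 (tt N118109 (iv1 F508651)) (tt N112412 (iv0 F496623)) (tt N115462 F496619) (tt N122099 (iv3 F530157)) (tt N115204 F496620) (tt N87972 F496621) (tt N87973 F496622) (tt N87653 (iv7 D219002)))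
theorem Q115745 : ∀ i, i < 115745 → P i := stepQ 115744 Q115744 (allL N115744 (tt N96769 (iv1 F496627)) (tt N108549 F496626) (tt N87654 (iv2 D219003)) (tt N116085 F498386) (tt N115461 (iv4 F496628)) (tt N96751 F496624) (tt N118913 (iv6 F512718)) (tt N115460 F496625))
theorem Q115746 : ∀ i, i < 115746 → P i := stepQ 115745 Q115745 (allL N115745 (tt N112419 F496634) (tt N88314 (iv0 F496635)) (tt N115461 F496630) (tt N108608 F496631) (tt N87654 (iv4 D219004)) (tt N122188 (iv5 F530671)) (tt N112433 F496632) (tt N87879 F496633))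
theorem Q115747 : ∀ i, i < 115747 → P i := stepQ 115746 Q115746 (allL N115746 (tt N103429 (iv1 F496641)) (tt N103389 F496640) (tt N87658 (iv2 D219005)) (tt N90697 F496636) (tt N97939 F496637) (tt N90697 F496638) (tt N92716 F496639) (tt N115752 (iv7 F496671)))
theorem Q115748 : ∀ i, i < 115748 → P i := stepQ 115747 Q115747 (allL N115747 (tt N102297 F496646) (tt N102298 F496647) (tt N91110 F496642) (tt N93029 F496643) (tt N122488 D225747) (tt N87662 (iv5 D219006)) (tt N91110 F496644) (tt N93024 F496645))
theorem Q115749 : ∀ i, i < 115749 → P i := stepQ 115748 Q115748 (allL N115748 (tt N104306 F496649) (tt N120806 (iv0 F522830)) (tt N120807 F522835) (tt N87663 (iv3 D219007)) (tt N116240 F499184) (tt N104301 F496648) (tt N119280 (iv6 F514797)) (tt N115753 (iv7 F496675)))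
theorem Q115750 : ∀ i, i < 115750 → P i := stepQ 115749 Q115749 (allL N115749 (tt N104300 F496654) (tt N92929 (iv0 F496655)) (tt N104274 F496656) (tt N87664 (iv3 D219008)) (tt N93985 F496650) (tt N104575 F496651) (tt N88235 F496652) (tt N93982 F496653))
theorem Q115751 : ∀ i, i < 115751 → P i := stepQ 115750 Q115750 (allL N115750 (tt N90040 F496660) (tt N90099 (iv0 F496661)) (tt N90098 F496657) (tt N87672 (iv3 D219009)) (tt N122289 (iv4 F531211)) (tt N95860 F496658) (tt N121819 (iv6 F528505)) (tt N90097 F496659))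
theorem Q115752 : ∀ i, i < 115752 → P i := stepQ 115751 Q115751 (allL N115751 (tt N90125 F496665) (tt N89110 (iv0 F496666)) (tt N90122 F496662) (tt N121819 (iv3 F528504)) (tt N111046 F496663) (tt N122279 (iv5 F531141)) (tt N87672 (iv6 D219010)) (tt N90123 F496664))
theorem Q115753 : ∀ i, i < 115753 → P i := stepQ 115752 Q115752 (allL N115752 (tt N111938 (iv1 F496673)) (tt N98573 F496672) (tt N87677 (iv2 D219011)) (tt N104272 F496667) (tt N104944 F496668) (tt N104272 F496669) (tt N88248 F496670) (tt N115746 F496671))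
theorem Q115754 : ∀ i, i < 115754 → P i := stepQ 115753 Q115753 (allL N115753 (tt N103386 F496676) (tt N120615 (iv0 F521773)) (tt N119448 (iv2 F515672)) (tt N87678 (iv3 D219012)) (tt N120825 (iv4 F522939)) (tt N104911 F496674) (tt N118063 (iv6 F508373)) (tt N115748 F496675))
theorem Q115755 : ∀ i, i < 115755 → P i := stepQ 115754 Q115754 (allL N115754 (tt N97503 F496681) (tt N97514 F496682) (tt N97513 F496677) (tt N117709 (iv3 F506551)) (tt N87678 (iv4 D219013)) (tt N97594 F496678) (tt N103229 F496679) (tt N97512 F496680))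
theorem Q115756 : ∀ i, i < 115756 → P i := stepQ 115755 Q115755 (allL N115755 (tt N90885 (iv1 F496688)) (tt N87692 (iv0 D219014)) (tt N112985 (iv2 F496686)) (tt N122489 D225748) (tt N88732 F496684) (tt N112982 F496683) (tt N113545 F496685) (tt N112990 F496687))
theorem Q115757 : ∀ i, i < 115757 → P i := stepQ 115756 Q115756 (allL N115756 (tt N112990 (iv1 F496693)) (tt N112985 F496694) (tt N90885 F496689) (tt N113373 F496690) (tt N87693 F496691) (tt N116270 (iv5 F499291)) (tt N111198 F496692) (tt N87692 (iv7 D219015)))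
theorem Q115758 : ∀ i, i < 115758 → P i := stepQ 115757 Q115757 (allL N115757 (tt N114463 F496699) (tt N117556 F505678) (tt N87705 (iv2 D219016)) (tt N107884 F496695) (tt N90899 F496696) (tt N113259 F496697) (tt N90898 F496698) (tt N117557 (iv7 F505684)))
theorem Q115759 : ∀ i, i < 115759 → P i := stepQ 115758 Q115758 (allL N115758 (tt N105444 F496702) (tt N91368 F496703) (tt N107224 F496700) (tt N118976 (iv3 F513075)) (tt N111152 F496701) (tt N87707 (iv5 D219017)) (tt N121060 (iv6 F524293)) (tt N119145 (iv7 F514023)))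
theorem Q115760 : ∀ i, i < 115760 → P i := stepQ 115759 Q115759 (allL N115759 (tt N111789 (iv1 F496709)) (tt N87712 (iv0 D219018)) (tt N111788 (iv2 F496708)) (tt N115368 F496706) (tt N104014 F496705) (tt N111772 F496704) (tt N103978 F496707) (tt N108473 F496710))
theorem Q115761 : ∀ i, i < 115761 → P i := stepQ 115760 Q115760 (allL N115760 (tt N109248 (iv1 F496715)) (tt N109247 F496716) (tt N109250 F496711) (tt N87715 F496712) (tt N100516 F496713) (tt N120788 (iv5 F522719)) (tt N109250 F496714) (tt N87714 (iv7 D219019)))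
theorem Q115762 : ∀ i, i < 115762 → P i := stepQ 115761 Q115761 (allL N115761 (tt N87717 (iv1 F496721)) (tt N87716 (iv0 D219020)) (tt N96854 (iv2 F496720)) (tt N94737 F496719) (tt N95025 F496718) (tt N111790 F496717) (tt N97583 (iv6 F496723)) (tt N95140 F496722))
theorem Q115763 : ∀ i, i < 115763 → P i := stepQ 115762 Q115762 (allL N115762 (tt N102184 F496729) (tt N102181 F496730) (tt N102174 F496724) (tt N101989 F496725) (tt N104423 F496728) (tt N87720 (iv5 D219021)) (tt N102146 F496726) (tt N101985 F496727))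
theorem Q115764 : ∀ i, i < 115764 → P i := stepQ 115763 Q115763 (allL N115763 (tt N87723 (iv1 D219022)) (tt N87725 F496731) (tt N91855 F496737) (tt N96895 (iv3 F496735)) (tt N91854 F496733) (tt N102903 F496734) (tt N96893 (iv6 F496736)) (tt N112392 F496732))
theorem Q115765 : ∀ i, i < 115765 → P i := stepQ 115764 Q115764 (allL N115764 (tt N97576 F496742) (tt N90421 F496743) (tt N116213 (iv2 F499052)) (tt N103269 F496738) (tt N103484 F496739) (tt N87725 (iv5 D219023)) (tt N113822 F496740) (tt N97750 F496741))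
theorem Q115766 : ∀ i, i < 115766 → P i := stepQ 115765 Q115765 (allL N115765 (tt N87733 (iv1 D219024)) (tt N87737 F496744) (tt N87735 F496750) (tt N109248 (iv3 F496747)) (tt N94061 F496746) (tt N112731 (iv5 F496749)) (tt N115421 (iv6 F496748)) (tt N87734 F496745))
theorem Q115767 : ∀ i, i < 115767 → P i := stepQ 115766 Q115766 (allL N115766 (tt N87735 (iv1 F496756)) (tt N87734 F496757) (tt N87737 F496751) (tt N87792 F496752) (tt N97417 F496753) (tt N97187 F496754) (tt N95874 F496755) (tt N87733 (iv7 D219025)))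
theorem Q115768 : ∀ i, i < 115768 → P i := stepQ 115767 Q115767 (allL N115767 (tt N116039 (iv1 F498189)) (tt N115823 (iv0 F497091)) (tt N116040 (iv2 F498195)) (tt N90747 F496758) (tt N87736 (iv4 D219026)) (tt N90744 F496759) (tt N87936 F496760) (tt N90743 F496761))
theorem Q115769 : ∀ i, i < 115769 → P i := stepQ 115768 Q115768 (allL N115768 (tt N115470 F496767) (tt N109019 F496768) (tt N103988 F496762) (tt N111330 F496763) (tt N87738 (iv4 D219027)) (tt N88457 F496766) (tt N103984 F496764) (tt N113095 F496765))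
theorem Q115770 : ∀ i, i < 115770 → P i := stepQ 115769 Q115769 (allL N115769 (tt N109019 F496774) (tt N115470 F496775) (tt N113095 F496769) (tt N109755 F496770) (tt N87739 (iv4 D219028)) (tt N88455 F496771) (tt N97177 F496772) (tt N103988 F496773))
theorem Q115771 : ∀ i, i < 115771 → P i := stepQ 115770 Q115770 (allL N115770 (tt N113929 F496779) (tt N113928 F496780) (tt N115418 F496776) (tt N87745 F496777) (tt N122463 (iv4 F532267)) (tt N87744 (iv5 D219029)) (tt N115296 F496781) (tt N111942 F496778))
theorem Q115772 : ∀ i, i < 115772 → P i := stepQ 115771 Q115771 (allL N115771 (tt N87753 (iv1 D219030)) (tt N96872 F496782) (tt N96870 F496787) (tt N111231 (iv3 F496786)) (tt N110305 F496784) (tt N89919 F496785) (tt N87790 F496788) (tt N96869 F496783))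
theorem Q115773 : ∀ i, i < 115773 → P i := stepQ 115772 Q115772 (allL N115772 (tt N105784 (iv1 F496792)) (tt N104860 F496793) (tt N118998 (iv2 F513193)) (tt N87772 F496789) (tt N92959 F496790) (tt N110599 F496791) (tt N116080 (iv6 F498357)) (tt N87767 (iv7 D219031)))
theorem Q115774 : ∀ i, i < 115774 → P i := stepQ 115773 Q115773 (allL N115773 (tt N122402 F531891) (tt N117476 (iv0 F505228)) (tt N115567 F496794) (tt N120517 (iv3 F521211)) (tt N120777 (iv4 F522653)) (tt N87770 (iv5 D219032)) (tt N87964 F496795) (tt N115593 F496796))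
theorem Q115775 : ∀ i, i < 115775 → P i := stepQ 115774 Q115774 (allL N115774 (tt N117476 (iv1 F505229)) (tt N122402 (iv0 F531890)) (tt N115593 F496797) (tt N108514 F496798) (tt N120776 (iv4 F522651)) (tt N87771 (iv5 D219033)) (tt N87997 F496800) (tt N115567 F496799))
theorem Q115776 : ∀ i, i < 115776 → P i := stepQ 115775 Q115775 (allL N115775 (tt N111818 F496805) (tt N91812 F496806) (tt N112399 F496801) (tt N112155 F496802) (tt N87774 (iv4 D219034)) (tt N122110 (iv5 F530227)) (tt N103446 F496803) (tt N115408 F496804))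
theorem Q115777 : ∀ i, i < 115777 → P i := stepQ 115776 Q115776 (allL N115776 (tt N111751 F496811) (tt N103461 (iv0 F496812)) (tt N97511 F496807) (tt N87775 (iv3 D219035)) (tt N106817 F496808) (tt N119523 (iv5 F516051)) (tt N112868 F496809) (tt N115409 F496810))
theorem Q115778 : ∀ i, i < 115778 → P i := stepQ 115777 Q115777 (allL N115777 (tt N92691 F496817) (tt N87781 (iv0 F496818)) (tt N119219 (iv2 F514431)) (tt N87779 (iv3 D219036)) (tt N97615 F496813) (tt N113048 F496814) (tt N97614 F496815) (tt N103412 F496816))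
theorem Q115779 : ∀ i, i < 115779 → P i := stepQ 115778 Q115778 (allL N115778 (tt N91985 F496824) (tt N111934 (iv0 F496825)) (tt N111875 F496819) (tt N95629 F496820) (tt N87783 (iv4 D219037)) (tt N115658 F496823) (tt N92040 F496821) (tt N106724 F496822))
theorem Q115780 : ∀ i, i < 115780 → P i := stepQ 115779 Q115779 (allL N115779 (tt N111594 F496828) (tt N102092 F496829) (tt N118779 (iv2 F512021)) (tt N92041 F496826) (tt N113041 F496830) (tt N87785 (iv5 D219038)) (tt N97740 F496827) (tt N118778 F512015))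
theorem Q115781 : ∀ i, i < 115781 → P i := stepQ 115780 Q115780 (allL N115780 (tt N112866 F496835) (tt N109925 (iv0 F496836)) (tt N92669 F496831) (tt N97558 F496832) (tt N104222 F496833) (tt N103296 F496834) (tt N87787 (iv6 D219039)) (tt N118018 (iv7 F508114)))
theorem Q115782 : ∀ i, i < 115782 → P i := stepQ 115781 Q115781 (allL N115781 (tt N113928 F496841) (tt N113929 F496842) (tt N111942 F496837) (tt N97159 F496838) (tt N120987 (iv4 F523878)) (tt N87790 (iv5 D219040)) (tt N97158 F496839) (tt N115418 F496840))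
theorem Q115783 : ∀ i, i < 115783 → P i := stepQ 115782 Q115782 (allL N115782 (tt N104298 F496847) (tt N113933 F496848) (tt N115419 F496843) (tt N115295 F496849) (tt N87791 (iv4 D219041)) (tt N115210 F496844) (tt N88033 F496845) (tt N115212 F496846))
theorem Q115784 : ∀ i, i < 115784 → P i := stepQ 115783 Q115783 (allL N115783 (tt N116090 (iv1 F498409)) (tt N95271 F496853) (tt N95164 F496850) (tt N120240 (iv3 F519758)) (tt N87799 (iv4 D219042)) (tt N116415 F499986) (tt N95149 F496851) (tt N115427 F496852))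
theorem Q115785 : ∀ i, i < 115785 → P i := stepQ 115784 Q115784 (allL N115784 (tt N110893 F496857) (tt N112649 F496858) (tt N119582 (iv2 F516373)) (tt N87800 (iv3 D219043)) (tt N87802 F496854) (tt N119944 (iv5 F518165)) (tt N110133 F496855) (tt N112626 F496856))
theorem Q115786 : ∀ i, i < 115786 → P i := stepQ 115785 Q115785 (allL N115785 (tt N89154 F496862) (tt N89181 F496863) (tt N89170 F496859) (tt N89311 F496860) (tt N94237 F496864) (tt N87803 (iv5 D219044)) (tt N100251 (iv6 F496865)) (tt N89113 F496861))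
theorem Q115787 : ∀ i, i < 115787 → P i := stepQ 115786 Q115786 (allL N115786 (tt N96859 F496871) (tt N96879 F496872) (tt N95577 F496866) (tt N96882 F496867) (tt N96558 F496868) (tt N95531 F496869) (tt N87805 (iv6 D219045)) (tt N95580 F496870))
theorem Q115788 : ∀ i, i < 115788 → P i := stepQ 115787 Q115787 (allL N115787 (tt N87812 (iv1 D219046)) (tt N95361 F496873) (tt N95302 F496879) (tt N103328 (iv3 F496876)) (tt N95923 F496875) (tt N90544 (iv5 F496877)) (tt N90546 (iv6 F496878)) (tt N107894 F496874))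
theorem Q115789 : ∀ i, i < 115789 → P i := stepQ 115788 Q115788 (allL N115788 (tt N95302 (iv1 F496884)) (tt N107894 F496885) (tt N95361 F496880) (tt N87815 F496881) (tt N96422 F496882) (tt N117157 (iv5 F503674)) (tt N100718 F496883) (tt N87812 (iv7 D219047)))
theorem Q115790 : ∀ i, i < 115790 → P i := stepQ 115789 Q115789 (allL N115789 (tt N94888 F496891) (tt N95411 (iv0 F496892)) (tt N87818 F496886) (tt N91928 F496887) (tt N111701 F496888) (tt N115534 F496889) (tt N87816 (iv6 D219048)) (tt N95363 F496890))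
theorem Q115791 : ∀ i, i < 115791 → P i := stepQ 115790 Q115790 (allL N115790 (tt N95363 (iv1 F496896)) (tt N87818 (iv0 D219049)) (tt N94888 (iv2 F496895)) (tt N95414 F496894) (tt N94887 F496893) (tt N118959 (iv5 F512976)) (tt N101961 (iv6 F496898)) (tt N95411 F496897))
theorem Q115792 : ∀ i, i < 115792 → P i := stepQ 115791 Q115791 (allL N115791 (tt N106386 F496904) (tt N106387 F496905) (tt N113312 F496899) (tt N89106 F496900) (tt N112872 F496903) (tt N87831 (iv5 D219050)) (tt N89103 F496901) (tt N107253 F496902))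
theorem Q115793 : ∀ i, i < 115793 → P i := stepQ 115792 Q115792 (allL N115792 (tt N104550 F496910) (tt N104483 (iv0 F496911)) (tt N96998 F496906) (tt N104548 F496907) (tt N105487 F496908) (tt N88695 F496909) (tt N87845 (iv6 D219051)) (tt N104551 F496912))
theorem Q115794 : ∀ i, i < 115794 → P i := stepQ 115793 Q115793 (allL N115793 (tt N102503 (iv1 F496916)) (tt N87846 (iv0 D219052)) (tt N104549 (iv2 F496917)) (tt N88695 F496915) (tt N88705 F496914) (tt N104548 F496913) (tt N88693 (iv6 F496918)) (tt N115413 (iv7 F496925)))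
theorem Q115795 : ∀ i, i < 115795 → P i := stepQ 115794 Q115794 (allL N115794 (tt N87846 (iv1 D219053)) (tt N102503 (iv0 F496922)) (tt N115413 F496923) (tt N96995 (iv3 F496921)) (tt N115834 (iv4 F497145)) (tt N96994 F496920) (tt N120979 (iv6 F523833)) (tt N104549 F496919))
theorem Q115796 : ∀ i, i < 115796 → P i := stepQ 115795 Q115795 (allL N115795 (tt N104549 (iv1 F496932)) (tt N115413 F496931) (tt N87846 (iv2 D219054)) (tt N102598 F496926) (tt N87852 F496927) (tt N102504 F496928) (tt N102394 F496929) (tt N102503 F496930))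
theorem Q115797 : ∀ i, i < 115797 → P i := stepQ 115796 Q115796 (allL N115796 (tt N106990 F496938) (tt N105105 (iv0 F496939)) (tt N104265 F496933) (tt N87848 (iv3 D219055)) (tt N98709 F496934) (tt N109693 F496935) (tt N103799 F496936) (tt N105120 F496937))
theorem Q115798 : ∀ i, i < 115798 → P i := stepQ 115797 Q115797 (allL N115797 (tt N120824 (iv1 F522936)) (tt N119023 (iv0 F513340)) (tt N120829 (iv2 F522959)) (tt N104267 F496940) (tt N103774 F496941) (tt N116610 (iv5 F500957)) (tt N87849 (iv6 D219056)) (tt N113785 F496942))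
theorem Q115799 : ∀ i, i < 115799 → P i := stepQ 115798 Q115798 (allL N115798 (tt N97783 (iv1 F496948)) (tt N97782 (iv0 F496949)) (tt N97519 F496943) (tt N87851 (iv3 D219057)) (tt N104841 F496947) (tt N97781 F496944) (tt N110280 F496945) (tt N97780 F496946))
theorem Q115800 : ∀ i, i < 115800 → P i := stepQ 115799 Q115799 (allL N115799 (tt N103518 F496953) (tt N103548 F496954) (tt N102439 F496950) (tt N102455 F496951) (tt N87851 (iv4 D219058)) (tt N120922 (iv5 F523492)) (tt N120982 (iv6 F523849)) (tt N103549 F496952))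
theorem Q115801 : ∀ i, i < 115801 → P i := stepQ 115800 Q115800 (allL N115800 (tt N104950 (iv1 F496960)) (tt N98175 F496959) (tt N87856 (iv2 D219059)) (tt N92567 F496955) (tt N105879 F496956) (tt N98179 F496957) (tt N92566 (iv6 F496961)) (tt N98178 F496958))
theorem Q115802 : ∀ i, i < 115802 → P i := stepQ 115801 Q115801 (allL N115801 (tt N108328 F496966) (tt N108375 (iv0 F496967)) (tt N92566 F496962) (tt N87857 F496963) (tt N115016 F496964) (tt N121062 (iv5 F524307)) (tt N87856 (iv6 D219060)) (tt N108374 F496965))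
theorem Q115803 : ∀ i, i < 115803 → P i := stepQ 115802 Q115802 (allL N115802 (tt N113825 (iv1 F496971)) (tt N87858 (iv0 D219061)) (tt N88157 (iv2 F496970)) (tt N88088 (iv3 F496974)) (tt N88044 F496969) (tt N89944 F496968) (tt N112471 (iv6 F496975)) (tt N88116 F496972))
theorem Q115804 : ∀ i, i < 115804 → P i := stepQ 115803 Q115803 (allL N115803 (tt N114090 (iv1 F496979)) (tt N87860 (iv0 D219062)) (tt N115445 (iv2 F496978)) (tt N102523 (iv3 F496981)) (tt N115441 F496977) (tt N102522 F496976) (tt N122238 (iv6 F530945)) (tt N115446 F496980))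
theorem Q115805 : ∀ i, i < 115805 → P i := stepQ 115804 Q115804 (allL N115804 (tt N121057 (iv1 F524278)) (tt N120714 (iv0 F522304)) (tt N121055 (iv2 F524264)) (tt N87860 (iv3 D219063)) (tt N120763 (iv4 F522581)) (tt N122490 D225749) (tt N121809 (iv6 F528448)) (tt N121056 (iv7 F524266)))
theorem Q115806 : ∀ i, i < 115806 → P i := stepQ 115805 Q115805 (allL N115805 (tt N120715 (iv1 F522309)) (tt N121045 F524205) (tt N115448 F496982) (tt N122490 (iv3 F532441)) (tt N104554 F496985) (tt N87860 (iv5 D219064)) (tt N103851 F496983) (tt N104539 F496984))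
theorem Q115807 : ∀ i, i < 115807 → P i := stepQ 115806 Q115806 (allL N115806 (tt N112055 F496990) (tt N113930 F496991) (tt N105254 F496986) (tt N87863 F496987) (tt N104345 F496989) (tt N87862 (iv5 D219065)) (tt N115165 (iv6 F496992)) (tt N97310 F496988))
theorem Q115808 : ∀ i, i < 115808 → P i := stepQ 115807 Q115807 (allL N115807 (tt N88271 F496997) (tt N108485 (iv0 F496998)) (tt N108604 F496993) (tt N89305 F496994) (tt N108548 F496995) (tt N89304 F496996) (tt N87865 (iv6 D219066)) (tt N120792 (iv7 F522744)))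
theorem Q115809 : ∀ i, i < 115809 → P i := stepQ 115808 Q115808 (allL N115808 (tt N95420 (iv1 F497035)) (tt N118961 F512993) (tt N115454 F497000) (tt N115733 F497001) (tt N115819 (iv4 F497065)) (tt N87870 (iv5 D219067)) (tt N122491 D225750) (tt N112453 F497002))
theorem Q115810 : ∀ i, i < 115810 → P i := stepQ 115809 Q115809 (allL N115809 (tt N99639 (iv1 F497009)) (tt N95397 (iv0 F497008)) (tt N103221 F497003) (tt N93917 F497004) (tt N87871 F497005) (tt N93916 F497007) (tt N87870 (iv6 D219068)) (tt N103222 F497006))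
theorem Q115811 : ∀ i, i < 115811 → P i := stepQ 115810 Q115810 (allL N115810 (tt N108562 F497014) (tt N113560 (iv0 F497015)) (tt N113559 F497010) (tt N87876 (iv3 D219069)) (tt N115306 F497011) (tt N100724 (iv5 F497016)) (tt N112437 F497012) (tt N106872 F497013))
theorem Q115812 : ∀ i, i < 115812 → P i := stepQ 115811 Q115811 (allL N115811 (tt N118961 (iv1 F512994)) (tt N95420 (iv0 F497034)) (tt N112453 F497017) (tt N100724 F497018) (tt N115818 F497058) (tt N87876 (iv5 D219070)) (tt N120044 (iv6 F518726)) (tt N115454 F497019))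
theorem Q115813 : ∀ i, i < 115813 → P i := stepQ 115812 Q115812 (allL N115812 (tt N108602 F497025) (tt N108611 F497026) (tt N108609 F497020) (tt N87879 F497021) (tt N105930 F497022) (tt N113656 F497023) (tt N87877 (iv6 D219071)) (tt N108608 F497024))
theorem Q115814 : ∀ i, i < 115814 → P i := stepQ 115813 Q115813 (allL N115813 (tt N87881 (iv1 F497031)) (tt N87878 (iv0 D219072)) (tt N115456 (iv2 F497030)) (tt N115379 F497028) (tt N112874 F497027) (tt N95420 F497033) (tt N95421 F497029) (tt N115457 F497032))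
theorem Q115815 : ∀ i, i < 115815 → P i := stepQ 115814 Q115814 (allL N115814 (tt N115584 F497041) (tt N122190 (iv0 F530682)) (tt N115459 F497036) (tt N115572 F497037) (tt N115630 F497040) (tt N87878 (iv5 D219073)) (tt N115629 F497038) (tt N115463 F497039))
theorem Q115816 : ∀ i, i < 115816 → P i := stepQ 115815 Q115815 (allL N115815 (tt N119351 F515168) (tt N100726 (iv0 F497044)) (tt N122099 F530159) (tt N87881 (iv3 D219074)) (tt N115281 F497042) (tt N117665 (iv5 F506295)) (tt N117340 F504548) (tt N115458 F497043))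
theorem Q115817 : ∀ i, i < 115817 → P i := stepQ 115816 Q115816 (allL N115816 (tt N122190 (iv1 F530683)) (tt N115584 F497048) (tt N115463 F497045) (tt N117665 (iv3 F506296)) (tt N115817 (iv4 F497050)) (tt N87881 (iv5 D219075)) (tt N115571 F497046) (tt N115459 F497047))
theorem Q115818 : ∀ i, i < 115818 → P i := stepQ 115817 Q115817 (allL N115817 (tt N114202 F497053) (tt N114204 F497054) (tt N112457 F497049) (tt N120050 (iv3 F518765)) (tt N115816 F497050) (tt N87883 (iv5 D219076)) (tt N114215 F497051) (tt N114203 F497052))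
theorem Q115819 : ∀ i, i < 115819 → P i := stepQ 115818 Q115818 (allL N115818 (tt N95438 (iv1 F497057)) (tt N87885 (iv0 D219077)) (tt N115467 F497059) (tt N99680 (iv3 F497061)) (tt N115811 (iv4 F497058)) (tt N88312 F497055) (tt N99677 F497056) (tt N115468 F497060))
theorem Q115820 : ∀ i, i < 115820 → P i := stepQ 115819 Q115819 (allL N115819 (tt N87885 (iv1 D219078)) (tt N95438 F497062) (tt N115468 (iv2 F497066)) (tt N120241 (iv3 F519764)) (tt N115808 F497065) (tt N88313 F497064) (tt N122393 (iv6 F531828)) (tt N115467 F497063))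
theorem Q115821 : ∀ i, i < 115821 → P i := stepQ 115820 Q115820 (allL N115820 (tt N87890 (iv1 D219079)) (tt N104734 F497067) (tt N88176 F497072) (tt N96955 (iv3 F497070)) (tt N118991 (iv4 F513157)) (tt N88100 F497069) (tt N88170 (iv6 F497071)) (tt N113919 F497068))
theorem Q115822 : ∀ i, i < 115822 → P i := stepQ 115821 Q115821 (allL N115821 (tt N88176 (iv1 F497077)) (tt N113919 F497078) (tt N104734 F497073) (tt N87894 F497074) (tt N104730 F497075) (tt N115979 F497888) (tt N88207 F497076) (tt N87890 (iv7 D219080)))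
theorem Q115823 : ∀ i, i < 115823 → P i := stepQ 115822 Q115822 (allL N115822 (tt N88081 (iv1 F497085)) (tt N88202 F497083) (tt N87897 (iv2 D219081)) (tt N88239 F497079) (tt N115688 F497084) (tt N91312 F497080) (tt N98156 F497081) (tt N88232 F497082))
theorem Q115824 : ∀ i, i < 115824 → P i := stepQ 115823 Q115823 (allL N115823 (tt N115767 F497091) (tt N97308 F497092) (tt N115688 F497086) (tt N88215 F497087) (tt N87897 (iv4 D219082)) (tt N96069 F497090) (tt N88287 F497088) (tt N88233 F497089))
theorem Q115825 : ∀ i, i < 115825 → P i := stepQ 115824 Q115824 (allL N115824 (tt N88245 (iv1 F497097)) (tt N88244 F497098) (tt N88247 F497093) (tt N92508 F497094) (tt N119008 (iv4 F513256)) (tt N91324 F497095) (tt N88238 F497096) (tt N87898 (iv7 D219083)))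
theorem Q115826 : ∀ i, i < 115826 → P i := stepQ 115825 Q115825 (allL N115825 (tt N97692 (iv1 F497102)) (tt N87903 (iv0 D219084)) (tt N105877 F497104) (tt N104279 F497101) (tt N105328 F497100) (tt N93233 F497099) (tt N104279 (iv6 F497105)) (tt N105875 (iv7 F497103)))
theorem Q115827 : ∀ i, i < 115827 → P i := stepQ 115826 Q115826 (allL N115826 (tt N87903 (iv1 D219085)) (tt N97692 F497106) (tt N105875 (iv2 F497110)) (tt N120977 F523822) (tt N117957 (iv4 F507782)) (tt N93232 F497108) (tt N102075 (iv6 F497109)) (tt N105877 F497107))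
theorem Q115828 : ∀ i, i < 115828 → P i := stepQ 115827 Q115827 (allL N115827 (tt N110452 (iv1 F497112)) (tt N87904 (iv0 D219086)) (tt N110454 F497114) (tt N116976 (iv3 F502782)) (tt N112209 F497111) (tt N117675 F506359) (tt N112173 (iv6 F497113)) (tt N110453 F497115))
theorem Q115829 : ∀ i, i < 115829 → P i := stepQ 115828 Q115828 (allL N115828 (tt N87904 (iv1 D219087)) (tt N110452 F497120) (tt N110453 F497118) (tt N96417 F497121) (tt N112208 (iv4 F497117)) (tt N117674 (iv5 F506348)) (tt N108129 F497119) (tt N110454 F497116))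
theorem Q115830 : ∀ i, i < 115830 → P i := stepQ 115829 Q115829 (allL N115829 (tt N110454 (iv1 F497126)) (tt N110453 F497125) (tt N87904 (iv2 D219088)) (tt N91842 F497122) (tt N121612 (iv4 F527331)) (tt N91841 F497123) (tt N116998 F502896) (tt N110452 F497124))
theorem Q115831 : ∀ i, i < 115831 → P i := stepQ 115830 Q115830 (allL N115830 (tt N119523 (iv1 F516054)) (tt N117737 (iv0 F506714)) (tt N116130 (iv2 F498636)) (tt N87909 F497127) (tt N104749 F497129) (tt N87908 (iv5 D219089)) (tt N102901 F497128) (tt N116131 (iv7 F498646)))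
theorem Q115832 : ∀ i, i < 115832 → P i := stepQ 115831 Q115831 (allL N115831 (tt N105759 F497132) (tt N103459 F497133) (tt N119424 (iv2 F515535)) (tt N104544 F497130) (tt N87909 (iv4 D219090)) (tt N119010 (iv5 F513266)) (tt N102902 F497131) (tt N120584 (iv7 F521592)))
theorem Q115833 : ∀ i, i < 115833 → P i := stepQ 115832 Q115832 (allL N115832 (tt N103459 F497135) (tt N105759 F497136) (tt N120584 (iv2 F521588)) (tt N104638 F497134) (tt N87910 (iv4 D219091)) (tt N119009 (iv5 F513263)) (tt N104637 F497137) (tt N119424 (iv7 F515539)))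
theorem Q115834 : ∀ i, i < 115834 → P i := stepQ 115833 Q115833 (allL N115833 (tt N113045 F497142) (tt N118313 (iv0 F509654)) (tt N119425 (iv2 F515542)) (tt N91099 F497138) (tt N104637 F497139) (tt N102041 F497140) (tt N87910 (iv6 D219092)) (tt N102040 F497141))
theorem Q115835 : ∀ i, i < 115835 → P i := stepQ 115834 Q115834 (allL N115834 (tt N97752 (iv1 F497146)) (tt N116235 (iv0 F499165)) (tt N116236 (iv2 F499166)) (tt N87912 (iv3 D219093)) (tt N115794 F497145) (tt N111073 F497143) (tt N104359 F497144) (tt N116234 (iv7 F499159)))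
theorem Q115836 : ∀ i, i < 115836 → P i := stepQ 115835 Q115835 (allL N115835 (tt N121006 (iv1 F523981)) (tt N119489 (iv0 F515867)) (tt N120814 (iv2 F522869)) (tt N103545 F497147) (tt N87912 (iv4 D219094)) (tt N103544 F497148) (tt N119418 (iv6 F515517)) (tt N120813 (iv7 F522866)))
theorem Q115837 : ∀ i, i < 115837 → P i := stepQ 115836 Q115836 (allL N115836 (tt N119489 F515868) (tt N121006 (iv0 F523980)) (tt N120813 (iv2 F522863)) (tt N113789 F497149) (tt N87913 (iv4 D219095)) (tt N111245 F497150) (tt N113788 F497151) (tt N120814 (iv7 F522872)))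
theorem Q115838 : ∀ i, i < 115838 → P i := stepQ 115837 Q115837 (allL N115837 (tt N88114 F497155) (tt N88117 F497156) (tt N113129 F497152) (tt N108655 F497157) (tt N87927 (iv4 D219096)) (tt N108654 F497154) (tt N118916 (iv6 F512730)) (tt N115531 F497153))
theorem Q115839 : ∀ i, i < 115839 → P i := stepQ 115838 Q115838 (allL N115838 (tt N107243 F497162) (tt N107242 F497163) (tt N108742 F497158) (tt N95571 (iv3 F497164)) (tt N87928 (iv4 D219097)) (tt N95568 F497161) (tt N96828 F497159) (tt N108741 F497160))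
theorem Q115840 : ∀ i, i < 115840 → P i := stepQ 115839 Q115839 (allL N115839 (tt N88266 F497169) (tt N88264 F497170) (tt N115724 F497165) (tt N104989 F497166) (tt N87932 (iv4 D219098)) (tt N121064 (iv5 F524316)) (tt N104987 F497167) (tt N115726 F497168))
theorem Q115841 : ∀ i, i < 115841 → P i := stepQ 115840 Q115840 (allL N115840 (tt N88259 F497175) (tt N88082 F497176) (tt N104038 F497171) (tt N88339 F497172) (tt N87934 (iv4 D219099)) (tt N122469 (iv5 F532305)) (tt N88338 F497173) (tt N115623 F497174))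
theorem Q115842 : ∀ i, i < 115842 → P i := stepQ 115841 Q115841 (allL N115841 (tt N116052 (iv1 F498245)) (tt N114243 F497178) (tt N116058 F498267) (tt N122081 (iv3 F530046)) (tt N122352 (iv4 F531580)) (tt N87936 (iv5 D219100)) (tt N115616 F497179) (tt N115728 F497177))
theorem Q115843 : ∀ i, i < 115843 → P i := stepQ 115842 Q115842 (allL N115842 (tt N108512 F497184) (tt N108510 (iv0 F497185)) (tt N87951 F497180) (tt N122469 (iv3 F532303)) (tt N108567 F497181) (tt N88339 F497182) (tt N87938 (iv6 D219101)) (tt N108566 F497183))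
theorem Q115844 : ∀ i, i < 115844 → P i := stepQ 115843 Q115843 (allL N115843 (tt N97220 F497190) (tt N110972 F497191) (tt N104901 F497186) (tt N102110 F497187) (tt N97252 F497188) (tt N102109 F497189) (tt N87940 (iv6 D219102)) (tt N104898 (iv7 F497192)))
theorem Q115845 : ∀ i, i < 115845 → P i := stepQ 115844 Q115844 (allL N115844 (tt N95744 F497196) (tt N104994 (iv0 F497197)) (tt N104992 F497193) (tt N121807 (iv3 F528439)) (tt N111309 F497194) (tt N104931 F497195) (tt N87941 (iv6 D219103)) (tt N104991 (iv7 F497198)))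
theorem Q115846 : ∀ i, i < 115846 → P i := stepQ 115845 Q115845 (allL N115845 (tt N88155 F497202) (tt N88154 F497203) (tt N114521 F497199) (tt N114150 F497204) (tt N87943 (iv4 D219104)) (tt N114148 F497201) (tt N108527 F497200) (tt N117613 (iv7 F505998)))
theorem Q115847 : ∀ i, i < 115847 → P i := stepQ 115846 Q115846 (allL N115846 (tt N112268 F497209) (tt N122397 (iv0 F531856)) (tt N115497 F497210) (tt N87944 (iv3 D219105)) (tt N98080 F497205) (tt N87950 F497206) (tt N108516 F497207) (tt N108529 F497208))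
theorem Q115848 : ∀ i, i < 115848 → P i := stepQ 115847 Q115847 (allL N115847 (tt N120947 (iv1 F523636)) (tt N87945 (iv0 D219106)) (tt N110960 (iv2 F497214)) (tt N112094 (iv3 F497215)) (tt N97218 F497212) (tt N111934 F497211) (tt N97220 F497213) (tt N122368 (iv7 F531682)))
theorem Q115849 : ∀ i, i < 115849 → P i := stepQ 115848 Q115848 (allL N115848 (tt N87945 (iv1 D219107)) (tt N120947 (iv0 F523635)) (tt N122368 (iv2 F531678)) (tt N87990 (iv3 F497218)) (tt N110961 F497219) (tt N91985 F497217) (tt N122397 (iv6 F531854)) (tt N110960 F497216))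
theorem Q115850 : ∀ i, i < 115850 → P i := stepQ 115849 Q115849 (allL N115849 (tt N122368 F531684) (tt N110960 (iv0 F497224)) (tt N120947 (iv2 F523631)) (tt N104899 F497220) (tt N104890 F497221) (tt N111619 F497222) (tt N104897 F497223) (tt N87945 (iv7 D219108)))
theorem Q115851 : ∀ i, i < 115851 → P i := stepQ 115850 Q115850 (allL N115850 (tt N111307 (iv1 F497228)) (tt N87946 (iv0 D219109)) (tt N115506 (iv2 F497229)) (tt N88062 F497227) (tt N114098 F497226) (tt N91735 F497225) (tt N112455 (iv6 F497230)) (tt N115507 (iv7 F497231)))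
theorem Q115852 : ∀ i, i < 115852 → P i := stepQ 115851 Q115851 (allL N115851 (tt N87946 (iv1 D219110)) (tt N111307 F497232) (tt N115507 (iv2 F497235)) (tt N87984 (iv3 F497236)) (tt N114097 (iv4 F497237)) (tt N91259 F497234) (tt N122492 D225751) (tt N115506 F497233))
theorem Q115853 : ∀ i, i < 115853 → P i := stepQ 115852 Q115852 (allL N115852 (tt N114167 F497239) (tt N114169 F497240) (tt N115508 F497238) (tt N103765 F497241) (tt N87946 (iv4 D219111)) (tt N120679 (iv5 F522099)) (tt N122493 D225752) (tt N121034 (iv7 F524134)))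
theorem Q115854 : ∀ i, i < 115854 → P i := stepQ 115853 Q115853 (allL N115853 (tt N120939 F523589) (tt N120699 F522222) (tt N104900 F497242) (tt N87949 F497243) (tt N122493 (iv4 F532463)) (tt N122456 (iv5 F532224)) (tt N87946 (iv6 D219112)) (tt N121715 (iv7 F527923)))
theorem Q115855 : ∀ i, i < 115855 → P i := stepQ 115854 Q115854 (allL N115854 (tt N103640 (iv1 F497247)) (tt N102521 (iv0 F497246)) (tt N120710 (iv2 F522276)) (tt N87948 (iv3 D219113)) (tt N103765 F497244) (tt N104815 F497245) (tt N122494 D225753) (tt N120711 (iv7 F522280)))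
theorem Q115856 : ∀ i, i < 115856 → P i := stepQ 115855 Q115855 (allL N115855 (tt N108507 F497252) (tt N108506 (iv0 F497253)) (tt N108508 F497248) (tt N122494 (iv3 F532468)) (tt N87949 F497249) (tt N108497 F497251) (tt N87948 (iv6 D219114)) (tt N108496 F497250))
theorem Q115857 : ∀ i, i < 115857 → P i := stepQ 115856 Q115856 (allL N115856 (tt N104897 F497258) (tt N87949 (iv0 D219115)) (tt N120030 (iv2 F518652)) (tt N87997 (iv3 F497256)) (tt N119370 (iv4 F515264)) (tt N104870 F497254) (tt N108514 F497255) (tt N115594 F497257))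
theorem Q115858 : ∀ i, i < 115858 → P i := stepQ 115857 Q115857 (allL N115857 (tt N87949 (iv1 D219116)) (tt N104897 F497259) (tt N115594 F497262) (tt N115546 F497264) (tt N91372 F497263) (tt N104893 F497260) (tt N91374 (iv6 F497261)) (tt N120030 (iv7 F518655)))
theorem Q115859 : ∀ i, i < 115859 → P i := stepQ 115858 Q115858 (allL N115858 (tt N115594 (iv1 F497267)) (tt N120030 (iv0 F518657)) (tt N104897 F497265) (tt N121715 (iv3 F527920)) (tt N108496 F497266) (tt N121697 (iv5 F527808)) (tt N120947 (iv6 F523633)) (tt N87949 (iv7 D219117)))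
theorem Q115860 : ∀ i, i < 115860 → P i := stepQ 115859 Q115859 (allL N115859 (tt N108565 (iv1 F497273)) (tt N108564 (iv0 F497272)) (tt N108567 F497268) (tt N118981 (iv3 F513102)) (tt N87951 F497269) (tt N99647 F497270) (tt N87950 (iv6 D219118)) (tt N99646 F497271))
theorem Q115861 : ∀ i, i < 115861 → P i := stepQ 115860 Q115860 (allL N115860 (tt N108566 (iv1 F497284)) (tt N87951 (iv0 D219119)) (tt N108512 (iv2 F497275)) (tt N115560 F497278) (tt N108619 F497277) (tt N99663 F497274) (tt N117624 (iv6 F506057)) (tt N108510 (iv7 F497276)))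
theorem Q115862 : ∀ i, i < 115862 → P i := stepQ 115861 Q115861 (allL N115861 (tt N87951 (iv1 D219120)) (tt N108566 F497279) (tt N108510 (iv2 F497283)) (tt N88004 F497285) (tt N108618 F497281) (tt N99662 F497282) (tt N119331 (iv6 F515060)) (tt N108512 F497280))
theorem Q115863 : ∀ i, i < 115863 → P i := stepQ 115862 Q115862 (allL N115862 (tt N108510 (iv1 F497291)) (tt N108512 F497292) (tt N108566 F497286) (tt N104041 F497287) (tt N99646 F497288) (tt N104040 F497289) (tt N99650 F497290) (tt N87951 (iv7 D219121)))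
theorem Q115864 : ∀ i, i < 115864 → P i := stepQ 115863 Q115863 (allL N115863 (tt N120931 (iv1 F523548)) (tt N120930 F523545) (tt N104815 F497293) (tt N87953 (iv3 D219122)) (tt N102630 F497294) (tt N120710 F522275) (tt N108560 F497295) (tt N116024 (iv7 F498109)))
theorem Q115865 : ∀ i, i < 115865 → P i := stepQ 115864 Q115864 (allL N115864 (tt N122397 (iv1 F531857)) (tt N112268 F497300) (tt N108529 F497296) (tt N120710 (iv3 F522277)) (tt N111318 F497297) (tt N87953 (iv5 D219123)) (tt N97222 F497298) (tt N115497 F497299))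
theorem Q115866 : ∀ i, i < 115866 → P i := stepQ 115865 Q115865 (allL N115865 (tt N99650 (iv1 F497304)) (tt N87954 (iv0 D219124)) (tt N108569 (iv2 F497303)) (tt N88008 (iv3 F497306)) (tt N99683 F497302) (tt N97847 F497301) (tt N121066 F524332) (tt N108525 F497305))
theorem Q115867 : ∀ i, i < 115867 → P i := stepQ 115866 Q115866 (allL N115866 (tt N114217 F497310) (tt N122096 (iv0 F530140)) (tt N115645 F497307) (tt N122394 (iv3 F531832)) (tt N111292 F497309) (tt N87955 (iv5 D219125)) (tt N108597 (iv6 F497311)) (tt N108600 F497308))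
theorem Q115868 : ∀ i, i < 115868 → P i := stepQ 115867 Q115867 (allL N115867 (tt N108619 (iv1 F497317)) (tt N108618 (iv0 F497318)) (tt N108621 F497312) (tt N115468 F497313) (tt N88158 F497314) (tt N99681 F497315) (tt N87955 (iv6 D219126)) (tt N99680 F497316))
theorem Q115869 : ∀ i, i < 115869 → P i := stepQ 115868 Q115868 (allL N115868 (tt N122344 F531545) (tt N122367 F531677) (tt N122088 (iv2 F530084)) (tt N87956 (iv3 D219127)) (tt N115666 F497320) (tt N122039 F529789) (tt N104905 F497319) (tt N122087 (iv7 F530081)))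
theorem Q115870 : ∀ i, i < 115870 → P i := stepQ 115869 Q115869 (allL N115869 (tt N122096 F530141) (tt N114217 F497325) (tt N108600 F497321) (tt N122039 F529787) (tt N114870 F497322) (tt N87956 (iv5 D219128)) (tt N94443 F497323) (tt N115645 F497324))
theorem Q115871 : ∀ i, i < 115871 → P i := stepQ 115870 Q115870 (allL N115870 (tt N115986 F497917) (tt N87957 (iv0 D219129)) (tt N115997 F497968) (tt N122409 (iv3 F531929)) (tt N110446 F497326) (tt N118839 (iv5 F512351)) (tt N115393 F497327) (tt N115998 (iv7 F497971)))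
theorem Q115872 : ∀ i, i < 115872 → P i := stepQ 115871 Q115871 (allL N115871 (tt N87957 (iv1 D219130)) (tt N115986 F497916) (tt N115998 (iv2 F497976)) (tt N114189 (iv3 F497328)) (tt N121655 (iv4 F527568)) (tt N118884 (iv5 F512577)) (tt N108633 (iv6 F497329)) (tt N115997 F497969))
theorem Q115873 : ∀ i, i < 115873 → P i := stepQ 115872 Q115872 (allL N115872 (tt N115998 (iv1 F497970)) (tt N115997 F497967) (tt N115986 (iv2 F497911)) (tt N87959 F497330) (tt N88018 F497331) (tt N115505 F497332) (tt N115973 (iv6 F497851)) (tt N87957 (iv7 D219131)))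
theorem Q115874 : ∀ i, i < 115874 → P i := stepQ 115873 Q115873 (allL N115873 (tt N111312 (iv1 F497336)) (tt N87958 (iv0 D219132)) (tt N114188 (iv2 F497337)) (tt N115997 (iv3 F497964)) (tt N114872 F497334) (tt N88154 F497333) (tt N104997 F497335) (tt N114189 (iv7 F497338)))
theorem Q115875 : ∀ i, i < 115875 → P i := stepQ 115874 Q115874 (allL N115874 (tt N87958 (iv1 D219133)) (tt N111312 F497339) (tt N114189 (iv2 F497343)) (tt N122401 (iv3 F531880)) (tt N114871 F497342) (tt N88155 F497341) (tt N115959 F497776) (tt N114188 F497340))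
theorem Q115876 : ∀ i, i < 115876 → P i := stepQ 115875 Q115875 (allL N115875 (tt N95642 F497350) (tt N95643 F497349) (tt N87963 F497344) (tt N88037 F497345) (tt N114141 F497346) (tt N87962 (iv5 D219134)) (tt N115627 F497347) (tt N115571 F497348))
theorem Q115877 : ∀ i, i < 115877 → P i := stepQ 115876 Q115876 (allL N115876 (tt N115571 (iv1 F497354)) (tt N87963 (iv0 D219135)) (tt N95642 F497357) (tt N103006 F497353) (tt N95427 F497352) (tt N95617 F497351) (tt N95426 (iv6 F497355)) (tt N95643 (iv7 F497356)))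
theorem Q115878 : ∀ i, i < 115878 → P i := stepQ 115877 Q115877 (allL N115877 (tt N87963 (iv1 D219136)) (tt N115571 F497358) (tt N95643 (iv2 F497362)) (tt N115518 F497363) (tt N112257 F497361) (tt N95618 F497360) (tt N95407 (iv6 F497364)) (tt N95642 F497359))
theorem Q115879 : ∀ i, i < 115879 → P i := stepQ 115878 Q115878 (allL N115878 (tt N95427 F497370) (tt N112257 F497371) (tt N115627 F497365) (tt N87966 F497366) (tt N115625 F497367) (tt N96749 F497368) (tt N87963 (iv6 D219137)) (tt N115629 F497369))
theorem Q115880 : ∀ i, i < 115880 → P i := stepQ 115879 Q115879 (allL N115879 (tt N112278 F497375) (tt N88047 (iv0 F497376)) (tt N112279 F497372) (tt N87964 (iv3 D219138)) (tt N121654 (iv4 F527563)) (tt N114011 F497373) (tt N120517 F521209) (tt N112280 F497374))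
theorem Q115881 : ∀ i, i < 115881 → P i := stepQ 115880 Q115880 (allL N115880 (tt N87969 (iv1 D219139)) (tt N88036 F497377) (tt N100971 F497383) (tt N90867 (iv3 F497381)) (tt N109546 F497379) (tt N112345 F497380) (tt N89799 (iv6 F497382)) (tt N89422 F497378))
theorem Q115882 : ∀ i, i < 115882 → P i := stepQ 115881 Q115881 (allL N115881 (tt N114015 F497387) (tt N97304 (iv0 F497390)) (tt N99689 F497384) (tt N108577 (iv3 F497389)) (tt N87970 (iv4 D219140)) (tt N99686 F497386) (tt N114837 (iv6 F497388)) (tt N115565 F497385))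
theorem Q115883 : ∀ i, i < 115883 → P i := stepQ 115882 Q115882 (allL N115882 (tt N114149 F497393) (tt N115578 (iv0 F497394)) (tt N117665 F506298) (tt N87972 F497391) (tt N114837 F497392) (tt N122099 (iv5 F530155)) (tt N87970 (iv6 D219141)) (tt N117616 (iv7 F506018)))
theorem Q115884 : ∀ i, i < 115884 → P i := stepQ 115883 Q115883 (allL N115883 (tt N93876 F497399) (tt N116365 (iv0 F499735)) (tt N108591 F497395) (tt N87971 (iv3 D219142)) (tt N108577 F497396) (tt N119077 (iv5 F513662)) (tt N101891 F497397) (tt N115568 F497398))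
theorem Q115885 : ∀ i, i < 115885 → P i := stepQ 115884 Q115884 (allL N115884 (tt N91438 F497405) (tt N87975 (iv0 D219143)) (tt N108523 (iv2 F497404)) (tt N112092 F497402) (tt N120018 (iv4 F518584)) (tt N108522 F497401) (tt N88009 F497403) (tt N115574 (iv7 F497406)))
theorem Q115886 : ∀ i, i < 115886 → P i := stepQ 115885 Q115885 (allL N115885 (tt N87975 (iv1 D219144)) (tt N91438 F497407) (tt N115574 F497411) (tt N99667 (iv3 F497410)) (tt N117474 (iv4 F505218)) (tt N99666 F497409) (tt N122495 D225754) (tt N108523 F497408))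
theorem Q115887 : ∀ i, i < 115887 → P i := stepQ 115886 Q115886 (allL N115886 (tt N115574 (iv1 F497417)) (tt N108523 F497418) (tt N91438 F497412) (tt N107243 F497413) (tt N114804 F497414) (tt N91282 F497415) (tt N111054 F497416) (tt N87975 (iv7 D219145)))
theorem Q115888 : ∀ i, i < 115888 → P i := stepQ 115887 Q115887 (allL N115887 (tt N120018 (iv1 F518588)) (tt N117474 (iv0 F505219)) (tt N115576 F497419) (tt N108733 F497420) (tt N88131 F497421) (tt N110033 F497422) (tt N87976 (iv6 D219146)) (tt N121642 (iv7 F527496)))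
theorem Q115889 : ∀ i, i < 115889 → P i := stepQ 115888 Q115888 (allL N115888 (tt N119052 (iv1 F513516)) (tt N117568 (iv0 F505749)) (tt N101929 F497423) (tt N87977 (iv3 D219147)) (tt N115526 F497424) (tt N93919 F497425) (tt N111395 F497426) (tt N115575 F497427))
theorem Q115890 : ∀ i, i < 115890 → P i := stepQ 115889 Q115889 (allL N115889 (tt N115606 (iv1 F497433)) (tt N115605 (iv0 F497432)) (tt N111697 F497428) (tt N115972 (iv3 F497842)) (tt N87981 F497429) (tt N110035 F497430) (tt N87980 (iv6 D219148)) (tt N88020 F497431))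
theorem Q115891 : ∀ i, i < 115891 → P i := stepQ 115890 Q115890 (allL N115890 (tt N107242 F497437) (tt N107243 F497438) (tt N108741 F497434) (tt N122496 D225755) (tt N87982 (iv4 D219149)) (tt N99726 F497435) (tt N95405 F497439) (tt N108742 F497436))
theorem Q115892 : ∀ i, i < 115892 → P i := stepQ 115891 Q115891 (allL N115891 (tt N120044 (iv1 F518729)) (tt N115610 (iv0 F512528)) (tt N115583 F497440) (tt N120931 F523551) (tt N95405 F497441) (tt N115532 F497442) (tt N87982 (iv6 D219150)) (tt N118957 (iv7 F512968)))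
theorem Q115893 : ∀ i, i < 115893 → P i := stepQ 115892 Q115892 (allL N115892 (tt N108745 F497447) (tt N99727 F497448) (tt N108743 F497444) (tt N122492 (iv3 F532455)) (tt N87984 (iv4 D219151)) (tt N100503 F497446) (tt N87984 (iv6 F497449)) (tt N108744 F497445))
theorem Q115894 : ∀ i, i < 115894 → P i := stepQ 115893 Q115893 (allL N115893 (tt N99727 F497453) (tt N108745 F497454) (tt N108744 F497450) (tt N122340 (iv3 F531515)) (tt N87985 (iv4 D219152)) (tt N101821 F497451) (tt N122190 (iv6 F530680)) (tt N108743 F497452))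
theorem Q115895 : ∀ i, i < 115895 → P i := stepQ 115894 Q115894 (allL N115894 (tt N115463 F497458) (tt N115459 (iv0 F497459)) (tt N115584 F497455) (tt N112266 F497456) (tt N122190 (iv4 F530679)) (tt N115392 F497457) (tt N87985 (iv6 D219153)) (tt N122190 (iv7 F530681)))
theorem Q115896 : ∀ i, i < 115896 → P i := stepQ 115895 Q115895 (allL N115895 (tt N122040 (iv1 F529796)) (tt N118132 (iv0 F508774)) (tt N121639 (iv2 F527479)) (tt N87988 F497460) (tt N121178 (iv4 F524966)) (tt N96360 F497461) (tt N87987 (iv6 D219154)) (tt N118808 (iv7 F512181)))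
theorem Q115897 : ∀ i, i < 115897 → P i := stepQ 115896 Q115896 (allL N115896 (tt N111904 F497466) (tt N108737 (iv0 F497467)) (tt N91655 F497462) (tt N108506 F497463) (tt N113708 F497464) (tt N89923 F497465) (tt N87992 (iv6 D219155)) (tt N119326 (iv7 F515034)))
theorem Q115898 : ∀ i, i < 115898 → P i := stepQ 115897 Q115897 (allL N115897 (tt N121419 F526257) (tt N122097 F530146) (tt N90535 F497468) (tt N100128 F497469) (tt N89200 F497470) (tt N87993 (iv5 D219156)) (tt N100127 F497471) (tt N90534 F497472))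
theorem Q115899 : ∀ i, i < 115899 → P i := stepQ 115898 Q115898 (allL N115898 (tt N87995 (iv1 D219157)) (tt N115582 (iv0 F497476)) (tt N115581 (iv2 F497475)) (tt N121652 F527552) (tt N108752 F497474) (tt N117598 (iv5 F505922)) (tt N122177 (iv6 F530604)) (tt N111703 F497473))
theorem Q115900 : ∀ i, i < 115900 → P i := stepQ 115899 Q115899 (allL N115899 (tt N111703 (iv1 F497482)) (tt N115581 F497481) (tt N87995 (iv2 D219158)) (tt N115588 F497477) (tt N109662 F497478) (tt N116126 (iv5 F498611)) (tt N108850 F497479) (tt N115582 F497480))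
theorem Q115901 : ∀ i, i < 115901 → P i := stepQ 115900 Q115900 (allL N115900 (tt N108968 (iv1 F497488)) (tt N114201 F497489) (tt N115590 F497483) (tt N108851 F497484) (tt N88000 F497485) (tt N112203 F497486) (tt N100542 F497487) (tt N87996 (iv7 D219159)))
theorem Q115902 : ∀ i, i < 115902 → P i := stepQ 115901 Q115901 (allL N115901 (tt N118401 (iv1 F510158)) (tt N90724 (iv0 F497495)) (tt N115592 F497490) (tt N104870 F497491) (tt N108967 F497494) (tt N87997 (iv5 D219160)) (tt N104868 F497492) (tt N115513 F497493))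
theorem Q115903 : ∀ i, i < 115903 → P i := stepQ 115902 Q115902 (allL N115902 (tt N115540 (iv1 F497500)) (tt N115547 (iv0 F497499)) (tt N115546 F497496) (tt N87998 (iv3 D219161)) (tt N116771 F501741) (tt N116806 (iv5 F501939)) (tt N112280 F497497) (tt N115545 F497498))
theorem Q115904 : ∀ i, i < 115904 → P i := stepQ 115903 Q115903 (allL N115903 (tt N91639 (iv1 F497505)) (tt N87999 (iv0 D219162)) (tt N91637 (iv2 F497503)) (tt N108482 (iv3 F497506)) (tt N112300 F497501) (tt N122495 (iv5 F532477)) (tt N108480 F497502) (tt N91638 F497504))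
theorem Q115905 : ∀ i, i < 115905 → P i := stepQ 115904 Q115904 (allL N115904 (tt N91638 (iv1 F497512)) (tt N91637 F497513) (tt N91639 F497507) (tt N91001 F497508) (tt N96083 F497509) (tt N88000 F497510) (tt N91000 F497511) (tt N87999 (iv7 D219163)))
theorem Q115906 : ∀ i, i < 115906 → P i := stepQ 115905 Q115905 (allL N115905 (tt N95413 F497518) (tt N95419 F497519) (tt N88002 F497514) (tt N88043 F497515) (tt N95660 F497516) (tt N115740 F497517) (tt N88001 (iv6 D219164)) (tt N102327 F497520))
theorem Q115907 : ∀ i, i < 115907 → P i := stepQ 115906 Q115906 (allL N115906 (tt N111570 F497525) (tt N88067 F497524) (tt N115560 F497521) (tt N88003 (iv3 D219165)) (tt N96362 (iv4 F497523)) (tt N121402 (iv5 F526159)) (tt N122126 (iv6 F530322)) (tt N115561 F497522))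
theorem Q115908 : ∀ i, i < 115908 → P i := stepQ 115907 Q115907 (allL N115907 (tt N91769 F497531) (tt N88012 F497532) (tt N91770 F497526) (tt N96335 F497527) (tt N88003 (iv4 D219166)) (tt N96329 F497530) (tt N96332 F497528) (tt N91771 F497529))
theorem Q115909 : ∀ i, i < 115909 → P i := stepQ 115908 Q115908 (allL N115908 (tt N88012 F497535) (tt N91769 F497536) (tt N91771 F497533) (tt N120510 (iv3 F521169)) (tt N88004 (iv4 D219167)) (tt N120414 (iv5 F520652)) (tt N111394 F497537) (tt N91770 F497534))
theorem Q115910 : ∀ i, i < 115910 → P i := stepQ 115909 Q115909 (allL N115909 (tt N113562 (iv1 F497543)) (tt N120591 (iv0 F521629)) (tt N115600 F497538) (tt N99662 F497539) (tt N111525 F497541) (tt N88004 (iv5 D219168)) (tt N104391 F497542) (tt N108511 F497540))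
theorem Q115911 : ∀ i, i < 115911 → P i := stepQ 115910 Q115910 (allL N115910 (tt N115733 (iv1 F497546)) (tt N115609 (iv0 F497547)) (tt N111397 F497544) (tt N119331 (iv3 F515059)) (tt N111394 F497545) (tt N118109 (iv5 F508648)) (tt N88004 (iv6 D219169)) (tt N118108 (iv7 F508643)))
theorem Q115912 : ∀ i, i < 115912 → P i := stepQ 115911 Q115911 (allL N115911 (tt N88006 (iv1 D219170)) (tt N88042 F497548) (tt N112247 (iv2 F497551)) (tt N117678 (iv3 F506373)) (tt N114163 F497550) (tt N122097 (iv5 F530142)) (tt N112243 F497552) (tt N115595 F497549))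
theorem Q115913 : ∀ i, i < 115913 → P i := stepQ 115912 Q115912 (allL N115912 (tt N112246 F497555) (tt N122083 (iv0 F530058)) (tt N122401 (iv2 F531879)) (tt N115998 F497972) (tt N88007 F497553) (tt N112230 F497554) (tt N88006 (iv6 D219171)) (tt N122409 (iv7 F531932)))
theorem Q115914 : ∀ i, i < 115914 → P i := stepQ 115913 Q115913 (allL N115913 (tt N115612 F497558) (tt N115951 F497745) (tt N112250 F497556) (tt N121066 F524331) (tt N119052 (iv4 F513512)) (tt N91638 F497557) (tt N88008 (iv6 D219172)) (tt N122495 (iv7 F532478)))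
theorem Q115915 : ∀ i, i < 115915 → P i := stepQ 115914 Q115914 (allL N115914 (tt N90377 (iv1 F497561)) (tt N88011 (iv0 D219173)) (tt N90379 (iv2 F497563)) (tt N115104 F497560) (tt N117938 (iv4 F507691)) (tt N108227 F497559) (tt N122032 (iv6 F529752)) (tt N90378 (iv7 F497562)))
theorem Q115916 : ∀ i, i < 115916 → P i := stepQ 115915 Q115915 (allL N115915 (tt N88011 (iv1 D219174)) (tt N90377 (iv0 F497569)) (tt N90378 (iv2 F497566)) (tt N108211 (iv3 F497567)) (tt N117937 (iv4 F507685)) (tt N93674 F497565) (tt N93675 (iv6 F497568)) (tt N90379 F497564))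
theorem Q115917 : ∀ i, i < 115917 → P i := stepQ 115916 Q115916 (allL N115916 (tt N90379 (iv1 F497574)) (tt N90378 F497573) (tt N88011 (iv2 D219175)) (tt N90383 F497570) (tt N120663 (iv4 F522033)) (tt N90367 F497571) (tt N122497 D225756) (tt N90377 F497572))
theorem Q115918 : ∀ i, i < 115918 → P i := stepQ 115917 Q115917 (allL N115917 (tt N122114 (iv1 F530258)) (tt N122113 (iv0 F530251)) (tt N120663 (iv2 F522031)) (tt N88137 F497575) (tt N88011 (iv4 D219176)) (tt N104444 F497577) (tt N122498 D225757) (tt N90380 F497576))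
theorem Q115919 : ∀ i, i < 115919 → P i := stepQ 115918 Q115918 (allL N115918 (tt N122499 D225758) (tt N122499 F532496) (tt N122497 (iv2 F532487)) (tt N88012 F497578) (tt N122498 (iv4 F532492)) (tt N115019 F497579) (tt N88011 (iv6 D219177)) (tt N122497 (iv7 F532490)))
theorem Q115920 : ∀ i, i < 115920 → P i := stepQ 115919 Q115919 (allL N115919 (tt N103090 F497586) (tt N103089 F497585) (tt N91772 F497580) (tt N115019 F497581) (tt N112005 F497582) (tt N88012 (iv5 D219178)) (tt N90386 F497583) (tt N103067 F497584))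
theorem Q115921 : ∀ i, i < 115921 → P i := stepQ 115920 Q115920 (allL N115920 (tt N91771 (iv1 F497591)) (tt N91770 F497592) (tt N91769 F497587) (tt N122497 (iv3 F532488)) (tt N88141 F497588) (tt N103067 F497589) (tt N90383 F497590) (tt N88012 (iv7 D219179)))
theorem Q115922 : ∀ i, i < 115922 → P i := stepQ 115921 Q115921 (allL N115921 (tt N88018 F497598) (tt N88016 (iv0 F497597)) (tt N88014 (iv2 D219180)) (tt N89571 (iv3 F497595)) (tt N114087 F497594) (tt N89568 (iv5 F497596)) (tt N116361 (iv6 F499713)) (tt N88015 (iv7 F497593)))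
theorem Q115923 : ∀ i, i < 115923 → P i := stepQ 115922 Q115922 (allL N115922 (tt N120017 (iv1 F518580)) (tt N119876 (iv0 F517831)) (tt N116852 (iv2 F502172)) (tt N88014 (iv3 D219181)) (tt N118674 (iv4 F511470)) (tt N116848 (iv5 F502158)) (tt N96579 F497613) (tt N110854 (iv7 F497614)))
theorem Q115924 : ∀ i, i < 115924 → P i := stepQ 115923 Q115923 (allL N115923 (tt N118915 F512729) (tt N115532 F497603) (tt N114087 F497599) (tt N111900 F497600) (tt N88014 (iv4 D219182)) (tt N111898 (iv5 F497601)) (tt N113679 (iv6 F497602)) (tt N122031 (iv7 F529749)))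
theorem Q115925 : ∀ i, i < 115925 → P i := stepQ 115924 Q115924 (allL N115924 (tt N90360 F497606) (tt N90227 F497605) (tt N89568 F497604) (tt N116848 (iv3 F502156)) (tt N117860 (iv4 F507318)) (tt N88014 (iv5 D219183)) (tt N89567 (iv6 F497607)) (tt N90359 (iv7 F497608)))
theorem Q115926 : ∀ i, i < 115926 → P i := stepQ 115925 Q115925 (allL N115925 (tt N96573 F497611) (tt N120510 (iv0 F521172)) (tt N116361 (iv2 F499711)) (tt N96579 (iv3 F497612)) (tt N113679 F497609) (tt N113647 F497610) (tt N88014 (iv6 D219184)) (tt N116362 (iv7 F499719)))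
theorem Q115927 : ∀ i, i < 115927 → P i := stepQ 115926 Q115926 (allL N115926 (tt N88016 (iv1 F497618)) (tt N88018 F497619) (tt N88015 F497615) (tt N110854 F497616) (tt N122031 (iv4 F529747)) (tt N90359 F497617) (tt N110853 (iv6 F497620)) (tt N88014 (iv7 D219185)))
theorem Q115928 : ∀ i, i < 115928 → P i := stepQ 115927 Q115927 (allL N115927 (tt N115107 (iv1 F497624)) (tt N115104 F497625) (tt N116855 (iv2 F502186)) (tt N88015 (iv3 D219186)) (tt N90959 F497621) (tt N89572 (iv5 F497623)) (tt N115956 (iv6 F497764)) (tt N89571 F497622))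
theorem Q115929 : ∀ i, i < 115929 → P i := stepQ 115928 Q115928 (allL N115928 (tt N90227 F497629) (tt N90360 (iv0 F497630)) (tt N90359 F497626) (tt N89572 F497627) (tt N117779 (iv4 F506929)) (tt N88015 (iv5 D219187)) (tt N116844 (iv6 F502139)) (tt N89568 F497628))
theorem Q115930 : ∀ i, i < 115930 → P i := stepQ 115929 Q115929 (allL N115929 (tt N108219 F497633) (tt N107673 (iv0 F497634)) (tt N110853 F497631) (tt N115956 (iv3 F497763)) (tt N108756 F497632) (tt N110852 F497635) (tt N88015 (iv6 D219188)) (tt N108755 (iv7 F497637)))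
theorem Q115931 : ∀ i, i < 115931 → P i := stepQ 115930 Q115930 (allL N115930 (tt N92437 F497642) (tt N92436 (iv0 F497643)) (tt N92439 F497638) (tt N89361 F497639) (tt N88017 (iv4 D219189)) (tt N93582 F497641) (tt N119851 (iv6 F517696)) (tt N91755 F497640))
theorem Q115932 : ∀ i, i < 115932 → P i := stepQ 115931 Q115931 (allL N115931 (tt N93294 F497648) (tt N93293 (iv0 F497649)) (tt N93296 F497644) (tt N88019 F497645) (tt N119851 (iv4 F517695)) (tt N93732 F497646) (tt N88017 (iv6 D219190)) (tt N93288 F497647))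
theorem Q115933 : ∀ i, i < 115933 → P i := stepQ 115932 Q115932 (allL N115932 (tt N115984 (iv1 F497902)) (tt N115521 F497652) (tt N111699 F497650) (tt N88020 F497651) (tt N115973 (iv4 F497849)) (tt N121033 (iv5 F524129)) (tt N88018 (iv6 D219191)) (tt N115972 (iv7 F497846)))
theorem Q115934 : ∀ i, i < 115934 → P i := stepQ 115933 Q115933 (allL N115933 (tt N111697 (iv1 F497656)) (tt N88020 (iv0 D219192)) (tt N115605 (iv2 F497657)) (tt N122500 D225759) (tt N88151 F497654) (tt N94867 F497653) (tt N111396 F497655) (tt N115606 (iv7 F497658)))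
theorem Q115935 : ∀ i, i < 115935 → P i := stepQ 115934 Q115934 (allL N115934 (tt N88020 (iv1 D219193)) (tt N111697 F497659) (tt N115606 (iv2 F497665)) (tt N115576 F497663) (tt N88152 F497661) (tt N94866 F497664) (tt N115575 (iv6 F497662)) (tt N115605 F497660))
theorem Q115936 : ∀ i, i < 115936 → P i := stepQ 115935 Q115935 (allL N115935 (tt N120406 F520620) (tt N120407 F520625) (tt N93307 F497666) (tt N121033 (iv3 F524128)) (tt N96536 F497667) (tt N88020 (iv5 D219194)) (tt N91759 F497668) (tt N110035 F497669))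
theorem Q115937 : ∀ i, i < 115937 → P i := stepQ 115936 Q115936 (allL N115936 (tt N118957 F512969) (tt N115583 (iv0 F497674)) (tt N120044 (iv2 F518724)) (tt N88021 (iv3 D219195)) (tt N115527 F497672) (tt N112450 F497670) (tt N112453 (iv6 F497673)) (tt N115610 F497671))
theorem Q115938 : ∀ i, i < 115938 → P i := stepQ 115937 Q115937 (allL N115937 (tt N111397 (iv1 F497680)) (tt N118108 (iv0 F508644)) (tt N115609 F497675) (tt N112453 F497676) (tt N96662 F497677) (tt N112449 F497678) (tt N88021 (iv6 D219196)) (tt N115733 (iv7 F497679)))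
theorem Q115939 : ∀ i, i < 115939 → P i := stepQ 115938 Q115938 (allL N115938 (tt N122495 F532480) (tt N112250 (iv0 F497683)) (tt N115612 F497681) (tt N114154 F497682) (tt N115994 (iv4 F497951)) (tt N116466 (iv5 F500277)) (tt N88022 (iv6 D219197)) (tt N115951 (iv7 F497744)))
theorem Q115940 : ∀ i, i < 115940 → P i := stepQ 115939 Q115939 (allL N115939 (tt N102506 F497686) (tt N117203 (iv0 F503888)) (tt N120995 F523919) (tt N88023 (iv3 D219198)) (tt N88025 F497684) (tt N122112 (iv5 F530239)) (tt N122501 D225760) (tt N115613 F497685))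
theorem Q115941 : ∀ i, i < 115941 → P i := stepQ 115940 Q115940 (allL N115940 (tt N119277 (iv1 F514782)) (tt N121022 (iv0 F524070)) (tt N114100 F497687) (tt N122112 F530245) (tt N114173 F497689) (tt N88023 (iv5 D219199)) (tt N119664 (iv6 F516796)) (tt N115614 F497688))
theorem Q115942 : ∀ i, i < 115942 → P i := stepQ 115941 Q115941 (allL N115941 (tt N120997 (iv1 F523934)) (tt N103638 (iv0 F497694)) (tt N107087 F497690) (tt N122501 (iv3 F532504)) (tt N88024 F497691) (tt N106091 (iv5 F497693)) (tt N88023 (iv6 D219200)) (tt N107094 (iv7 F497692)))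
theorem Q115943 : ∀ i, i < 115943 → P i := stepQ 115942 Q115942 (allL N115942 (tt N88024 (iv1 D219201)) (tt N111650 F497695) (tt N106412 F497699) (tt N111982 (iv3 F497698)) (tt N104520 (iv4 F497701)) (tt N91989 F497697) (tt N104678 F497700) (tt N107080 F497696))
theorem Q115944 : ∀ i, i < 115944 → P i := stepQ 115943 Q115943 (allL N115943 (tt N115620 (iv1 F497706)) (tt N115619 F497705) (tt N88025 (iv2 D219202)) (tt N108230 F497702) (tt N120995 (iv4 F523917)) (tt N108229 F497703) (tt N120509 (iv6 F521164)) (tt N108234 F497704))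
theorem Q115945 : ∀ i, i < 115945 → P i := stepQ 115944 Q115944 (allL N115944 (tt N117041 F503095) (tt N118220 (iv0 F509225)) (tt N120509 (iv2 F521162)) (tt N88026 F497707) (tt N122501 (iv4 F532505)) (tt N118363 (iv5 F509931)) (tt N88025 (iv6 D219203)) (tt N118263 (iv7 F509425)))
theorem Q115946 : ∀ i, i < 115946 → P i := stepQ 115945 Q115945 (allL N115945 (tt N90265 (iv1 F497712)) (tt N90205 F497713) (tt N90263 F497708) (tt N99459 F497709) (tt N118410 (iv4 F510197)) (tt N90199 F497710) (tt N90296 F497711) (tt N88030 (iv7 D219204)))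
theorem Q115947 : ∀ i, i < 115947 → P i := stepQ 115946 Q115946 (allL N115946 (tt N88032 (iv1 D219205)) (tt N91747 F497714) (tt N91746 F497719) (tt N106069 (iv3 F497717)) (tt N108218 (iv4 F497718)) (tt N107963 F497716) (tt N106865 F497720) (tt N91745 F497715))
theorem Q115948 : ∀ i, i < 115948 → P i := stepQ 115947 Q115947 (allL N115947 (tt N91746 (iv1 F497725)) (tt N91745 F497726) (tt N91747 F497721) (tt N90513 F497722) (tt N116980 (iv4 F502800)) (tt N91720 F497723) (tt N91744 F497724) (tt N88032 (iv7 D219206)))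
theorem Q115949 : ∀ i, i < 115949 → P i := stepQ 115948 Q115948 (allL N115948 (tt N97304 F497731) (tt N114015 F497732) (tt N115565 F497727) (tt N94443 F497728) (tt N88037 (iv4 D219207)) (tt N99690 F497729) (tt N122039 F529788) (tt N99689 F497730))
theorem Q115950 : ∀ i, i < 115950 → P i := stepQ 115949 Q115949 (allL N115949 (tt N115960 (iv1 F497781)) (tt N108532 (iv0 F497735)) (tt N108628 F497733) (tt N88042 (iv3 D219208)) (tt N121468 (iv4 F526542)) (tt N90729 F497734) (tt N105001 F497736) (tt N115959 F497777))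
theorem Q115951 : ∀ i, i < 115951 → P i := stepQ 115950 Q115950 (allL N115950 (tt N111051 F497741) (tt N122076 F530021) (tt N111647 F497737) (tt N105001 F497738) (tt N88043 F497739) (tt N105000 F497740) (tt N88042 (iv6 D219209)) (tt N111646 (iv7 F497742)))
theorem Q115952 : ∀ i, i < 115952 → P i := stepQ 115951 Q115951 (allL N115951 (tt N115913 (iv1 F497745)) (tt N117570 (iv0 F505762)) (tt N118400 (iv2 F510148)) (tt N88044 (iv3 D219210)) (tt N119223 (iv4 F514453)) (tt N90724 F497743) (tt N119222 (iv6 F514451)) (tt N115938 F497744))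
theorem Q115953 : ∀ i, i < 115953 → P i := stepQ 115952 Q115952 (allL N115952 (tt N118836 (iv1 F512335)) (tt N118835 (iv0 F512330)) (tt N118875 F512526) (tt N88045 (iv3 D219211)) (tt N122030 (iv4 F529741)) (tt N90726 F497746) (tt N122029 (iv6 F529738)) (tt N118876 (iv7 F512530)))
theorem Q115954 : ∀ i, i < 115954 → P i := stepQ 115953 Q115953 (allL N115953 (tt N88161 F497750) (tt N114158 (iv0 F497752)) (tt N114157 F497747) (tt N122029 (iv3 F529733)) (tt N112234 F497748) (tt N111574 F497751) (tt N88045 (iv6 D219212)) (tt N114156 F497749))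
theorem Q115955 : ∀ i, i < 115955 → P i := stepQ 115954 Q115954 (allL N115954 (tt N88047 (iv1 D219213)) (tt N112278 F497753) (tt N112280 F497758) (tt N91374 (iv3 F497757)) (tt N90329 F497756) (tt N114010 F497755) (tt N115546 F497759) (tt N112279 F497754))
theorem Q115956 : ∀ i, i < 115956 → P i := stepQ 115955 Q115955 (allL N115955 (tt N118919 (iv1 F512744)) (tt N111406 F497761) (tt N118920 (iv2 F512748)) (tt N121259 (iv3 F525425)) (tt N88049 (iv4 D219214)) (tt N121001 (iv5 F523953)) (tt N122334 (iv6 F531480)) (tt N115519 F497760))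
theorem Q115957 : ∀ i, i < 115957 → P i := stepQ 115956 Q115956 (allL N115956 (tt N118158 (iv1 F508922)) (tt N117044 F503106) (tt N115556 F497762) (tt N115929 F497763) (tt N88053 (iv4 D219215)) (tt N117039 (iv5 F503082)) (tt N115927 F497764) (tt N115524 F497765))
theorem Q115958 : ∀ i, i < 115958 → P i := stepQ 115957 Q115957 (allL N115957 (tt N113128 (iv1 F497770)) (tt N115516 F497769) (tt N88055 (iv2 D219216)) (tt N115434 F497766) (tt N115984 (iv4 F497904)) (tt N115420 F497767) (tt N118951 (iv6 F512934)) (tt N115520 F497768))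
theorem Q115959 : ∀ i, i < 115959 → P i := stepQ 115958 Q115958 (allL N115958 (tt N115972 (iv1 F497845)) (tt N111699 (iv0 F497773)) (tt N115984 (iv2 F497907)) (tt N121672 (iv3 F527654)) (tt N88055 (iv4 D219217)) (tt N118660 (iv5 F511396)) (tt N111400 F497771) (tt N115521 F497772))
theorem Q115960 : ∀ i, i < 115960 → P i := stepQ 115959 Q115959 (allL N115959 (tt N119318 F514989) (tt N88056 (iv0 D219218)) (tt N117204 (iv2 F503889)) (tt N114152 F497774) (tt N115635 F497775) (tt N116467 (iv5 F500283)) (tt N115874 (iv6 F497776)) (tt N115949 (iv7 F497777)))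
theorem Q115961 : ∀ i, i < 115961 → P i := stepQ 115960 Q115960 (allL N115960 (tt N117204 F503893) (tt N115949 F497781) (tt N88056 (iv2 D219219)) (tt N115528 F497778) (tt N120034 (iv4 F518676)) (tt N108951 F497779) (tt N88074 F497780) (tt N119318 (iv7 F514987)))
theorem Q115962 : ∀ i, i < 115962 → P i := stepQ 115961 Q115961 (allL N115961 (tt N88117 F497784) (tt N88114 F497785) (tt N115531 F497782) (tt N122480 F532380) (tt N88059 (iv4 D219220)) (tt N118307 (iv5 F509624)) (tt N121950 F529252) (tt N113129 F497783))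
theorem Q115963 : ∀ i, i < 115963 → P i := stepQ 115962 Q115962 (allL N115962 (tt N114087 F497789) (tt N122031 (iv0 F529750)) (tt N115532 F497786) (tt N115583 F497787) (tt N121950 (iv4 F529250)) (tt N115583 F497788) (tt N88059 (iv6 D219221)) (tt N118915 (iv7 F512727)))
theorem Q115964 : ∀ i, i < 115964 → P i := stepQ 115963 Q115963 (allL N115963 (tt N120053 (iv1 F518791)) (tt N118918 (iv0 F512742)) (tt N88064 F497790) (tt N115540 F497791) (tt N108116 F497792) (tt N100126 F497793) (tt N88060 (iv6 D219222)) (tt N108223 (iv7 F497794)))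
theorem Q115965 : ∀ i, i < 115965 → P i := stepQ 115964 Q115964 (allL N115964 (tt N117663 F506285) (tt N111410 (iv0 F497798)) (tt N115535 F497795) (tt N108743 F497796) (tt N118381 (iv4 F510047)) (tt N110538 F497797) (tt N88063 (iv6 D219223)) (tt N122340 (iv7 F531518)))
theorem Q115966 : ∀ i, i < 115966 → P i := stepQ 115965 Q115965 (allL N115965 (tt N118703 F511633) (tt N114545 F497804) (tt N107846 F497799) (tt N110899 F497800) (tt N98492 F497801) (tt N88066 (iv5 D219224)) (tt N111034 F497802) (tt N115550 F497803))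
theorem Q115967 : ∀ i, i < 115967 → P i := stepQ 115966 Q115966 (allL N115966 (tt N88067 (iv1 D219225)) (tt N111570 F497805) (tt N115561 F497809) (tt N108510 F497811) (tt N112050 F497810) (tt N108509 F497807) (tt N112414 (iv6 F497808)) (tt N115560 F497806))
theorem Q115968 : ∀ i, i < 115968 → P i := stepQ 115967 Q115967 (allL N115967 (tt N104041 F497817) (tt N104039 F497818) (tt N111622 F497812) (tt N88068 (iv3 D219226)) (tt N95435 F497813) (tt N108499 F497814) (tt N111620 F497815) (tt N115509 F497816))
theorem Q115969 : ∀ i, i < 115969 → P i := stepQ 115968 Q115968 (allL N115968 (tt N111894 F497824) (tt N111892 (iv0 F497825)) (tt N115548 F497819) (tt N100727 F497820) (tt N111514 F497821) (tt N112411 F497822) (tt N88069 (iv6 D219227)) (tt N100722 F497823))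
theorem Q115970 : ∀ i, i < 115970 → P i := stepQ 115969 Q115969 (allL N115969 (tt N117662 (iv1 F506282)) (tt N115643 (iv0 F497831)) (tt N108620 F497826) (tt N114857 F497827) (tt N99680 F497828) (tt N108648 (iv5 F497833)) (tt N88072 (iv6 D219228)) (tt N88158 F497829))
theorem Q115971 : ∀ i, i < 115971 → P i := stepQ 115970 Q115970 (allL N115970 (tt N120037 (iv1 F518695)) (tt N121064 (iv0 F524319)) (tt N115624 F497834) (tt N118841 (iv3 F512361)) (tt N116354 F499684) (tt N88082 (iv5 D219229)) (tt N108554 F497835) (tt N118903 (iv7 F512666)))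
theorem Q115972 : ∀ i, i < 115972 → P i := stepQ 115971 Q115971 (allL N115971 (tt N88102 (iv1 F497840)) (tt N88083 (iv0 D219230)) (tt N88099 (iv2 F497838)) (tt N111492 F497836) (tt N122445 (iv4 F532147)) (tt N113919 F497837) (tt N119242 F514578) (tt N88100 F497839))
theorem Q115973 : ∀ i, i < 115973 → P i := stepQ 115972 Q115972 (allL N115972 (tt N108202 F497844) (tt N115958 F497845) (tt N88101 F497841) (tt N115889 F497842) (tt N88083 (iv4 D219231)) (tt N121039 (iv5 F524160)) (tt N88090 F497843) (tt N115932 F497846))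
theorem Q115974 : ∀ i, i < 115974 → P i := stepQ 115973 Q115973 (allL N115973 (tt N88100 (iv1 F497852)) (tt N88099 F497853) (tt N88102 F497847) (tt N114874 F497848) (tt N115932 F497849) (tt N88084 F497850) (tt N115872 F497851) (tt N88083 (iv7 D219232)))
theorem Q115975 : ∀ i, i < 115975 → P i := stepQ 115974 Q115974 (allL N115974 (tt N107441 F497858) (tt N89941 F497859) (tt N88110 F497854) (tt N111299 F497855) (tt N106560 F497860) (tt N88086 (iv5 D219233)) (tt N106508 F497856) (tt N88103 F497857))
theorem Q115976 : ∀ i, i < 115976 → P i := stepQ 115975 Q115975 (allL N115975 (tt N115531 F497864) (tt N113129 F497865) (tt N88114 F497861) (tt N119223 (iv3 F514452)) (tt N88088 (iv4 D219234)) (tt N108841 F497863) (tt N111430 (iv6 F497866)) (tt N88117 F497862))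
theorem Q115977 : ∀ i, i < 115977 → P i := stepQ 115976 Q115976 (allL N115976 (tt N91773 F497871) (tt N101578 F497872) (tt N88115 F497867) (tt N112471 F497868) (tt N111430 F497869) (tt N88267 F497870) (tt N88088 (iv6 D219235)) (tt N119193 (iv7 F514291)))
theorem Q115978 : ∀ i, i < 115978 → P i := stepQ 115977 Q115977 (allL N115977 (tt N113129 F497877) (tt N115531 F497878) (tt N88117 F497873) (tt N115666 F497874) (tt N88089 (iv4 D219236)) (tt N108842 F497876) (tt N118873 F512512) (tt N88114 F497875))
theorem Q115979 : ∀ i, i < 115979 → P i := stepQ 115978 Q115978 (allL N115978 (tt N88097 (iv1 F497880)) (tt N88094 (iv0 D219237)) (tt N115659 F497882) (tt N115644 F497883) (tt N101584 F497884) (tt N112728 F497879) (tt N101583 (iv6 F497881)) (tt N121043 (iv7 F524190)))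
theorem Q115980 : ∀ i, i < 115980 → P i := stepQ 115979 Q115979 (allL N115979 (tt N88094 (iv1 D219238)) (tt N88097 F497885) (tt N121043 (iv2 F524186)) (tt N88126 (iv3 F497887)) (tt N118662 (iv4 F511407)) (tt N115821 (iv5 F497888)) (tt N108630 (iv6 F497889)) (tt N115659 F497886))
theorem Q115981 : ∀ i, i < 115981 → P i := stepQ 115980 Q115980 (allL N115980 (tt N112856 F497893) (tt N118917 (iv0 F512734)) (tt N121409 (iv2 F526197)) (tt N114314 F497890) (tt N88094 (iv4 D219239)) (tt N114313 F497892) (tt N97836 F497891) (tt N122105 (iv7 F530199)))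
theorem Q115982 : ∀ i, i < 115982 → P i := stepQ 115981 Q115981 (allL N115981 (tt N118917 F512735) (tt N112856 F497895) (tt N122105 F530198) (tt N108147 F497896) (tt N88097 (iv4 D219240)) (tt N108146 F497894) (tt N121159 (iv6 F524850)) (tt N121409 (iv7 F526200)))
theorem Q115983 : ∀ i, i < 115983 → P i := stepQ 115982 Q115982 (allL N115982 (tt N95355 F497899) (tt N119243 F514584) (tt N119242 (iv2 F514579)) (tt N94439 F497897) (tt N122092 (iv4 F530112)) (tt N94438 F497898) (tt N88099 (iv6 D219241)) (tt N119241 F514571))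
theorem Q115984 : ∀ i, i < 115984 → P i := stepQ 115983 Q115983 (allL N115983 (tt N118916 (iv1 F512731)) (tt N118914 (iv0 F512724)) (tt N122111 (iv2 F530233)) (tt N108149 F497900) (tt N88100 (iv4 D219242)) (tt N122502 D225761) (tt N111489 F497901) (tt N122445 (iv7 F532150)))
theorem Q115985 : ∀ i, i < 115985 → P i := stepQ 115984 Q115984 (allL N115984 (tt N88101 (iv1 D219243)) (tt N115932 F497902) (tt N115958 F497907) (tt N108113 (iv3 F497905)) (tt N115957 F497904) (tt N118640 (iv5 F511289)) (tt N101573 (iv6 F497906)) (tt N108202 F497903))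
theorem Q115986 : ∀ i, i < 115986 → P i := stepQ 115985 Q115985 (allL N115985 (tt N116777 F501780) (tt N121040 F524170) (tt N121039 (iv2 F524164)) (tt N105362 F497908) (tt N114419 F497910) (tt N88101 (iv5 D219244)) (tt N116407 (iv6 F499939)) (tt N105358 F497909))
theorem Q115987 : ∀ i, i < 115987 → P i := stepQ 115986 Q115986 (allL N115986 (tt N115871 (iv1 F497916)) (tt N115870 (iv0 F497917)) (tt N115872 F497911) (tt N88136 F497912) (tt N105360 F497913) (tt N114109 F497914) (tt N88102 (iv6 D219245)) (tt N88124 F497915))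
theorem Q115988 : ∀ i, i < 115988 → P i := stepQ 115987 Q115987 (allL N115987 (tt N89113 F497923) (tt N89170 F497924) (tt N89154 F497918) (tt N89185 F497919) (tt N94264 F497920) (tt N88104 (iv5 D219246)) (tt N106550 F497921) (tt N89181 F497922))
theorem Q115989 : ∀ i, i < 115989 → P i := stepQ 115988 Q115988 (allL N115988 (tt N111573 F497926) (tt N116038 (iv0 F498181)) (tt N121763 (iv2 F528170)) (tt N88106 (iv3 D219247)) (tt N112231 F497925) (tt N119083 (iv5 F513700)) (tt N119127 (iv6 F513932)) (tt N121751 (iv7 F528103)))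
theorem Q115990 : ∀ i, i < 115990 → P i := stepQ 115989 Q115989 (allL N115989 (tt N112855 (iv1 F497930)) (tt N122080 F530043) (tt N111454 F497927) (tt N119127 (iv3 F513931)) (tt N88107 F497928) (tt N111427 F497929) (tt N88106 (iv6 D219248)) (tt N120560 (iv7 F521458)))
theorem Q115991 : ∀ i, i < 115991 → P i := stepQ 115990 Q115990 (allL N115990 (tt N113554 F497935) (tt N113552 F497936) (tt N106560 F497931) (tt N116293 (iv3 F499409)) (tt N88110 (iv4 D219249)) (tt N106766 F497934) (tt N105812 F497932) (tt N112804 F497933))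
theorem Q115992 : ∀ i, i < 115992 → P i := stepQ 115991 Q115991 (allL N115991 (tt N108654 F497938) (tt N118307 F509626) (tt N116701 (iv2 F501380)) (tt N112301 F497937) (tt N116170 (iv4 F498848)) (tt N88112 (iv5 D219250)) (tt N118331 F509748) (tt N118308 (iv7 F509628)))
theorem Q115993 : ∀ i, i < 115993 → P i := stepQ 115992 Q115992 (allL N115992 (tt N115668 F497942) (tt N115669 (iv0 F497943)) (tt N115667 F497944) (tt N88114 (iv3 D219251)) (tt N122087 (iv4 F530082)) (tt N108845 F497939) (tt N101548 F497940) (tt N115666 F497941))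
theorem Q115994 : ∀ i, i < 115994 → P i := stepQ 115993 Q115993 (allL N115993 (tt N101578 (iv1 F497949)) (tt N91773 F497950) (tt N119193 (iv2 F514296)) (tt N108620 F497945) (tt N111431 F497946) (tt N110952 F497947) (tt N95357 F497948) (tt N88115 (iv7 D219252)))
theorem Q115995 : ∀ i, i < 115995 → P i := stepQ 115994 Q115994 (allL N115994 (tt N112302 F497953) (tt N108166 F497954) (tt N117532 (iv2 F505554)) (tt N88117 (iv3 D219253)) (tt N115938 F497951) (tt N108847 F497952) (tt N115681 F497955) (tt N119223 (iv7 F514455)))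
theorem Q115996 : ∀ i, i < 115996 → P i := stepQ 115995 Q115995 (allL N115995 (tt N106310 (iv1 F497959)) (tt N96829 (iv0 F497958)) (tt N118873 (iv2 F512513)) (tt N115681 F497956) (tt N88119 F497957) (tt N121216 (iv5 F525182)) (tt N88117 (iv6 D219254)) (tt N118874 (iv7 F512516)))
theorem Q115997 : ∀ i, i < 115997 → P i := stepQ 115996 Q115996 (allL N115996 (tt N118389 F510090) (tt N118390 F510096) (tt N107439 F497960) (tt N118397 F510134) (tt N107430 F497961) (tt N88120 (iv5 D219255)) (tt N118789 (iv6 F512081)) (tt N107437 F497962))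
theorem Q115998 : ∀ i, i < 115998 → P i := stepQ 115997 Q115997 (allL N115997 (tt N115872 (iv1 F497967)) (tt N88124 (iv0 D219256)) (tt N115870 (iv2 F497968)) (tt N115873 F497964) (tt N115675 F497963) (tt N95409 F497966) (tt N113676 F497965) (tt N115871 (iv7 F497969)))
theorem Q115999 : ∀ i, i < 115999 → P i := stepQ 115998 Q115998 (allL N115998 (tt N88124 (iv1 D219257)) (tt N115872 F497970) (tt N115871 F497976) (tt N115912 (iv3 F497972)) (tt N108163 (iv4 F497973)) (tt N115586 (iv5 F497975)) (tt N110955 (iv6 F497974)) (tt N115870 F497971))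
theorem Q116000 : ∀ i, i < 116000 → P i := stepQ 115999 Q115999 (allL N115999 (tt N88125 (iv1 D219258)) (tt N88163 F497977) (tt N102975 (iv2 F497980)) (tt N122093 F530118) (tt N104742 (iv4 F497981)) (tt N102970 F497979) (tt N115617 (iv6 F497982)) (tt N102974 F497978))
theorem Q116001 : ∀ i, i < 116001 → P i := stepQ 116000 Q116000 (allL N116000 (tt N103882 F497986) (tt N103803 F497987) (tt N115636 F497983) (tt N118261 (iv3 F509412)) (tt N88125 (iv4 D219259)) (tt N111098 F497985) (tt N120701 (iv6 F522236)) (tt N115660 F497984))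
theorem Q116002 : ∀ i, i < 116002 → P i := stepQ 116001 Q116001 (allL N116001 (tt N120761 (iv1 F522571)) (tt N120760 F522567) (tt N115637 F497988) (tt N108732 F497989) (tt N88130 (iv4 D219260)) (tt N103931 F497990) (tt N122503 D225762) (tt N115663 F497991))
theorem Q116003 : ∀ i, i < 116003 → P i := stepQ 116002 Q116002 (allL N116002 (tt N117655 F506245) (tt N117122 (iv0 F503502)) (tt N115638 F497992) (tt N88131 F497993) (tt N122503 (iv4 F532518)) (tt N90990 F497994) (tt N88130 (iv6 D219261)) (tt N122121 (iv7 F530296)))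
theorem Q116004 : ∀ i, i < 116004 → P i := stepQ 116003 Q116003 (allL N116003 (tt N91382 (iv1 F497999)) (tt N88131 (iv0 D219262)) (tt N108151 (iv2 F497997)) (tt N121704 (iv3 F527853)) (tt N108135 F497995) (tt N117472 F505206) (tt N88143 F497996) (tt N115662 F497998))
theorem Q116005 : ∀ i, i < 116005 → P i := stepQ 116004 Q116004 (allL N116004 (tt N115662 (iv1 F498003)) (tt N108151 F498004) (tt N91382 F498000) (tt N122121 (iv3 F530292)) (tt N121642 (iv4 F527498)) (tt N91273 F498001) (tt N115664 F498002) (tt N88131 (iv7 D219263)))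
theorem Q116006 : ∀ i, i < 116006 → P i := stepQ 116005 Q116005 (allL N116005 (tt N107721 F498008) (tt N95094 F498009) (tt N107866 F498005) (tt N88134 F498006) (tt N118790 (iv4 F512086)) (tt N88133 (iv5 D219264)) (tt N99556 F498010) (tt N103177 F498007))
theorem Q116007 : ∀ i, i < 116007 → P i := stepQ 116006 Q116006 (allL N116006 (tt N115681 F498016) (tt N115680 F498017) (tt N115670 F498011) (tt N105363 F498012) (tt N88136 F498013) (tt N103178 F498014) (tt N88135 (iv6 D219265)) (tt N88150 F498015))
theorem Q116008 : ∀ i, i < 116008 → P i := stepQ 116007 Q116007 (allL N116007 (tt N88167 (iv1 F498020)) (tt N88137 (iv0 D219266)) (tt N115639 (iv2 F498019)) (tt N118180 (iv3 F509030)) (tt N114164 F498018) (tt N119277 F514780) (tt N119278 (iv6 F514785)) (tt N115640 F498021))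
theorem Q116009 : ∀ i, i < 116009 → P i := stepQ 116008 Q116008 (allL N116008 (tt N118080 F508463) (tt N120647 (iv0 F521943)) (tt N105862 F498022) (tt N104444 F498023) (tt N105944 F498025) (tt N88137 (iv5 D219267)) (tt N109106 (iv6 F498026)) (tt N115671 F498024))
theorem Q116010 : ∀ i, i < 116010 → P i := stepQ 116009 Q116009 (allL N116009 (tt N116372 (iv1 F499759)) (tt N116371 F499756) (tt N113766 F498027) (tt N122498 (iv3 F532491)) (tt N88138 F498028) (tt N113764 (iv5 F498029)) (tt N88137 (iv6 D219268)) (tt N116369 (iv7 F499749)))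
theorem Q116011 : ∀ i, i < 116011 → P i := stepQ 116010 Q116010 (allL N116010 (tt N88138 (iv1 D219269)) (tt N91993 F498030) (tt N115642 (iv2 F498033)) (tt N120344 (iv3 F520292)) (tt N114829 (iv4 F498034)) (tt N114242 F498032) (tt N122187 (iv6 F530664)) (tt N115641 F498031))
theorem Q116012 : ∀ i, i < 116012 → P i := stepQ 116011 Q116011 (allL N116011 (tt N104049 (iv1 F498038)) (tt N104047 (iv0 F498037)) (tt N115657 F498035) (tt N88139 (iv3 D219270)) (tt N122110 (iv4 F530228)) (tt N119652 (iv5 F516722)) (tt N122412 (iv6 F531951)) (tt N91777 F498036))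
theorem Q116013 : ∀ i, i < 116013 → P i := stepQ 116012 Q116012 (allL N116012 (tt N114822 F498044) (tt N111526 F498043) (tt N91775 F498039) (tt N119652 F516724) (tt N102066 F498042) (tt N88139 (iv5 D219271)) (tt N114824 F498040) (tt N91779 F498041))
theorem Q116014 : ∀ i, i < 116014 → P i := stepQ 116013 Q116013 (allL N116013 (tt N115683 F498049) (tt N115526 (iv0 F498051)) (tt N114789 F498045) (tt N95501 F498046) (tt N108166 F498047) (tt N91583 F498050) (tt N88142 (iv6 D219272)) (tt N114788 F498048))
theorem Q116015 : ∀ i, i < 116015 → P i := stepQ 116014 Q116014 (allL N116014 (tt N88148 (iv1 F498058)) (tt N88146 F498057) (tt N88144 (iv2 D219273)) (tt N108197 F498052) (tt N108207 F498053) (tt N90349 F498054) (tt N108201 F498055) (tt N88145 F498056))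
theorem Q116016 : ∀ i, i < 116016 → P i := stepQ 116015 Q116015 (allL N116015 (tt N108189 (iv1 F498063)) (tt N108125 F498065) (tt N108110 F498059) (tt N88145 (iv3 D219274)) (tt N92618 F498064) (tt N90764 (iv5 F498062)) (tt N108110 F498060) (tt N108197 F498061))
theorem Q116017 : ∀ i, i < 116017 → P i := stepQ 116016 Q116016 (allL N116016 (tt N108180 F498070) (tt N108115 (iv0 F498071)) (tt N108196 F498066) (tt N93879 (iv3 F498072)) (tt N88145 (iv4 D219275)) (tt N93878 F498069) (tt N108111 F498067) (tt N108207 F498068))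
theorem Q116018 : ∀ i, i < 116018 → P i := stepQ 116017 Q116017 (allL N116017 (tt N90217 F498079) (tt N90350 F498077) (tt N90348 F498073) (tt N90764 F498074) (tt N110674 F498078) (tt N88145 (iv5 D219276)) (tt N99613 F498075) (tt N90349 F498076))
theorem Q116019 : ∀ i, i < 116019 → P i := stepQ 116018 Q116018 (allL N116018 (tt N119701 F516994) (tt N119909 (iv0 F517985)) (tt N108181 F498080) (tt N90210 F498081) (tt N88147 (iv4 D219277)) (tt N122504 D225763) (tt N93779 (iv6 F498083)) (tt N90314 F498082))
theorem Q116020 : ∀ i, i < 116020 → P i := stepQ 116019 Q116019 (allL N116019 (tt N93274 F498089) (tt N99117 (iv0 F498090)) (tt N99477 F498084) (tt N88149 F498085) (tt N93779 F498086) (tt N99556 F498087) (tt N88147 (iv6 D219278)) (tt N99463 F498088))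
theorem Q116021 : ∀ i, i < 116021 → P i := stepQ 116020 Q116020 (allL N116020 (tt N106532 (iv1 F498097)) (tt N114558 (iv0 F498096)) (tt N114529 F498091) (tt N108123 F498092) (tt N110471 F498095) (tt N88150 (iv5 D219279)) (tt N90317 F498093) (tt N103178 F498094))
theorem Q116022 : ∀ i, i < 116022 → P i := stepQ 116021 Q116021 (allL N116021 (tt N120759 (iv1 F522564)) (tt N114091 F498101) (tt N114112 F498098) (tt N88151 (iv3 D219280)) (tt N102623 (iv4 F498100)) (tt N120709 (iv5 F522267)) (tt N122183 (iv6 F530643)) (tt N115682 F498099))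
theorem Q116023 : ∀ i, i < 116023 → P i := stepQ 116022 Q116022 (allL N116022 (tt N112232 F509920) (tt N111979 F509921) (tt N112230 F498104) (tt N88155 (iv3 D219281)) (tt N121751 (iv4 F528100)) (tt N122401 (iv5 F531884)) (tt N122481 (iv6 F532386)) (tt N112231 F498103))
theorem Q116024 : ∀ i, i < 116024 → P i := stepQ 116023 Q116023 (allL N116023 (tt N119370 (iv1 F515268)) (tt N91372 (iv0 F498106)) (tt N121469 (iv2 F526553)) (tt N122481 (iv3 F532383)) (tt N88156 F498105) (tt N118857 (iv5 F512432)) (tt N88155 (iv6 D219282)) (tt N122411 (iv7 F531945)))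
theorem Q116025 : ∀ i, i < 116025 → P i := stepQ 116024 Q116024 (allL N116024 (tt N120846 (iv1 F523056)) (tt N121053 F524252) (tt N103943 F498107) (tt N88159 (iv3 D219283)) (tt N102523 F498108) (tt N120676 (iv5 F522091)) (tt N121714 (iv6 F527917)) (tt N115863 F498109))
theorem Q116026 : ∀ i, i < 116026 → P i := stepQ 116025 Q116025 (allL N116025 (tt N103803 F498113) (tt N103882 F498114) (tt N115660 F498110) (tt N120698 (iv3 F522214)) (tt N88163 (iv4 D219284)) (tt N111099 F498111) (tt N122410 (iv6 F531937)) (tt N115636 F498112))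
theorem Q116027 : ∀ i, i < 116027 → P i := stepQ 116026 Q116026 (allL N116026 (tt N96828 (iv1 F498119)) (tt N115603 (iv0 F498120)) (tt N115604 F498115) (tt N88168 (iv3 D219285)) (tt N102325 F498118) (tt N117645 (iv5 F506186)) (tt N102327 F498116) (tt N115601 F498117))
theorem Q116028 : ∀ i, i < 116028 → P i := stepQ 116027 Q116027 (allL N116027 (tt N122083 F530059) (tt N112246 F498123) (tt N122409 (iv2 F531928)) (tt N114188 F498121) (tt N88168 (iv4 D219286)) (tt N112231 (iv5 F498124)) (tt N111646 F498122) (tt N122401 (iv7 F531882)))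
theorem Q116029 : ∀ i, i < 116029 → P i := stepQ 116028 Q116028 (allL N116028 (tt N96750 F498129) (tt N96748 F498130) (tt N88183 F498125) (tt N92054 F498126) (tt N88172 (iv4 D219287)) (tt N121787 (iv5 F528316)) (tt N91502 F498127) (tt N97496 F498128))
theorem Q116030 : ∀ i, i < 116030 → P i := stepQ 116029 Q116029 (allL N116029 (tt N118955 (iv1 F512960)) (tt N119432 (iv0 F515594)) (tt N118991 (iv2 F513155)) (tt N94580 F498131) (tt N88176 F498132) (tt N104115 F498133) (tt N88174 (iv6 D219288)) (tt N119373 (iv7 F515278)))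
theorem Q116031 : ∀ i, i < 116031 → P i := stepQ 116030 Q116030 (allL N116030 (tt N100394 F498138) (tt N100395 (iv0 F498139)) (tt N112109 F498134) (tt N109282 F498135) (tt N88180 F498136) (tt N104241 F498137) (tt N88178 (iv6 D219289)) (tt N112159 F498140))
theorem Q116032 : ∀ i, i < 116032 → P i := stepQ 116031 Q116031 (allL N116031 (tt N113763 F498144) (tt N96370 F498145) (tt N121787 (iv2 F528313)) (tt N96357 F498141) (tt N121796 (iv4 F528370)) (tt N88183 (iv5 D219290)) (tt N114975 F498142) (tt N96621 F498143))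
theorem Q116033 : ∀ i, i < 116033 → P i := stepQ 116032 Q116032 (allL N116032 (tt N112693 F498149) (tt N111106 F498148) (tt N117108 (iv2 F503431)) (tt N88188 F498146) (tt N119988 (iv4 F518409)) (tt N88187 (iv5 D219291)) (tt N108736 F498147) (tt N116453 (iv7 F500206)))
theorem Q116034 : ∀ i, i < 116034 → P i := stepQ 116033 Q116033 (allL N116033 (tt N104393 F498154) (tt N104294 F498155) (tt N88234 F498150) (tt N94013 F498151) (tt N88216 (iv4 D219292)) (tt N102418 F498152) (tt N94012 F498153) (tt N117549 (iv7 F505638)))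
theorem Q116035 : ∀ i, i < 116035 → P i := stepQ 116034 Q116034 (allL N116034 (tt N110959 F498160) (tt N110958 F498161) (tt N110961 F498156) (tt N88230 F498157) (tt N122368 (iv4 F531679)) (tt N88221 (iv5 D219293)) (tt N88224 F498158) (tt N97218 F498159))
theorem Q116036 : ∀ i, i < 116036 → P i := stepQ 116035 Q116035 (allL N116035 (tt N113058 (iv1 F498164)) (tt N88230 (iv0 D219294)) (tt N113569 F498167) (tt N114223 (iv3 F498165)) (tt N122151 (iv4 F530449)) (tt N88317 F498162) (tt N114194 F498163) (tt N113570 F498166))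
theorem Q116037 : ∀ i, i < 116037 → P i := stepQ 116036 Q116036 (allL N116036 (tt N88230 (iv1 D219295)) (tt N113058 F498168) (tt N113570 F498172) (tt N88270 F498173) (tt N122505 D225764) (tt N88269 (iv5 F498170)) (tt N91386 (iv6 F498171)) (tt N113569 F498169))
theorem Q116038 : ∀ i, i < 116038 → P i := stepQ 116037 Q116037 (allL N116037 (tt N122506 D225765) (tt N121646 (iv0 F527521)) (tt N113571 F498174) (tt N118738 (iv3 F511816)) (tt N88230 (iv4 D219296)) (tt N110139 F498177) (tt N88231 F498175) (tt N113572 F498176))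
theorem Q116039 : ∀ i, i < 116039 → P i := stepQ 116038 Q116038 (allL N116038 (tt N115988 F498181) (tt N115589 (iv0 F498182)) (tt N118725 (iv2 F511759)) (tt N88231 (iv3 D219297)) (tt N112271 F498178) (tt N108966 F498179) (tt N118738 (iv6 F511819)) (tt N108965 F498180))
theorem Q116040 : ∀ i, i < 116040 → P i := stepQ 116039 Q116039 (allL N116039 (tt N97308 F498188) (tt N115767 F498189) (tt N88233 F498183) (tt N91359 F498184) (tt N88232 (iv4 D219298)) (tt N91358 F498185) (tt N95455 F498186) (tt N115688 F498187))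
theorem Q116041 : ∀ i, i < 116041 → P i := stepQ 116040 Q116040 (allL N116040 (tt N88233 (iv1 D219299)) (tt N115688 F498190) (tt N115767 F498195) (tt N92210 (iv3 F498194)) (tt N97242 F498193) (tt N103953 F498192) (tt N88311 F498196) (tt N97308 F498191))
theorem Q116042 : ∀ i, i < 116042 → P i := stepQ 116041 Q116041 (allL N116041 (tt N117549 (iv1 F505640)) (tt N88234 (iv0 D219300)) (tt N104393 (iv2 F498199)) (tt N93021 F498200) (tt N111943 F498198) (tt N93047 F498197) (tt N98764 F498201) (tt N104294 F498202))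
theorem Q116043 : ∀ i, i < 116043 → P i := stepQ 116042 Q116042 (allL N116042 (tt N104291 F498208) (tt N104400 (iv0 F498209)) (tt N94012 F498203) (tt N88236 F498204) (tt N115722 F498205) (tt N104285 F498206) (tt N88234 (iv6 D219301)) (tt N104399 F498207))
theorem Q116044 : ∀ i, i < 116044 → P i := stepQ 116043 Q116043 (allL N116043 (tt N116065 (iv1 F498296)) (tt N116063 (iv0 F498288)) (tt N119007 (iv2 F513248)) (tt N118084 F508486) (tt N118420 (iv4 F510258)) (tt N88243 (iv5 D219302)) (tt N98061 F498210) (tt N120991 (iv7 F523899)))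
theorem Q116045 : ∀ i, i < 116045 → P i := stepQ 116044 Q116044 (allL N116044 (tt N104316 (iv1 F498214)) (tt N119006 F513247) (tt N119008 (iv2 F513254)) (tt N94011 F498211) (tt N88247 F498212) (tt N120991 (iv5 F523894)) (tt N94010 F498213) (tt N88243 (iv7 D219303)))
theorem Q116046 : ∀ i, i < 116046 → P i := stepQ 116045 Q116045 (allL N116045 (tt N93179 F498220) (tt N88251 F498221) (tt N88282 F498215) (tt N93085 F498216) (tt N88244 (iv4 D219304)) (tt N102219 F498217) (tt N88281 F498218) (tt N102218 F498219))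
theorem Q116047 : ∀ i, i < 116047 → P i := stepQ 116046 Q116046 (allL N116046 (tt N108604 F498227) (tt N120792 (iv0 F522745)) (tt N108485 F498222) (tt N88245 (iv3 D219305)) (tt N88273 F498223) (tt N91407 F498224) (tt N88314 F498225) (tt N88271 F498226))
theorem Q116048 : ∀ i, i < 116048 → P i := stepQ 116047 Q116047 (allL N116047 (tt N118066 (iv1 F508388)) (tt N118068 (iv0 F508400)) (tt N104412 F498228) (tt N121416 (iv3 F526238)) (tt N88249 (iv4 D219306)) (tt N121416 (iv5 F526241)) (tt N121415 F526236) (tt N120966 (iv7 F523752)))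
theorem Q116049 : ∀ i, i < 116049 → P i := stepQ 116048 Q116048 (allL N116048 (tt N120594 F521646) (tt N120594 F521647) (tt N104413 F498229) (tt N88251 F498230) (tt N121415 (iv4 F526234)) (tt N122507 D225766) (tt N88249 (iv6 D219307)) (tt N104413 F498231))
theorem Q116050 : ∀ i, i < 116050 → P i := stepQ 116049 Q116049 (allL N116049 (tt N116067 (iv1 F498301)) (tt N116066 (iv0 F498300)) (tt N120787 (iv2 F522710)) (tt N122507 (iv3 F532542)) (tt N102829 F498233) (tt N88251 (iv5 D219308)) (tt N117986 (iv6 F507925)) (tt N104414 F498232))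
theorem Q116051 : ∀ i, i < 116051 → P i := stepQ 116050 Q116050 (allL N116050 (tt N121064 F524320) (tt N120037 (iv0 F518694)) (tt N118903 (iv2 F512663)) (tt N101586 F498234) (tt N116355 F499687) (tt N88259 (iv5 D219309)) (tt N120766 (iv6 F522595)) (tt N115624 F498235))
theorem Q116052 : ∀ i, i < 116052 → P i := stepQ 116051 Q116051 (allL N116051 (tt N103992 (iv1 F498241)) (tt N119345 F515132) (tt N100524 F498236) (tt N112731 F498237) (tt N88260 F498238) (tt N109248 F498240) (tt N88259 (iv6 D219310)) (tt N97198 F498239))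
theorem Q116053 : ∀ i, i < 116053 → P i := stepQ 116052 Q116052 (allL N116052 (tt N120757 F522556) (tt N115841 F498245) (tt N88270 F498242) (tt N114214 F498243) (tt N113758 F498244) (tt N88261 (iv5 D219311)) (tt N114212 (iv6 F498246)) (tt N116356 (iv7 F499691)))
theorem Q116054 : ∀ i, i < 116054 → P i := stepQ 116053 Q116053 (allL N116053 (tt N120792 (iv1 F522746)) (tt N108604 (iv0 F498253)) (tt N88271 F498248) (tt N93909 F498249) (tt N88262 F498250) (tt N93908 F498252) (tt N88261 (iv6 D219312)) (tt N108485 F498251))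
theorem Q116055 : ∀ i, i < 116055 → P i := stepQ 116054 Q116054 (allL N116054 (tt N91391 F498257) (tt N91390 F498258) (tt N88278 F498254) (tt N116841 (iv3 F502120)) (tt N88263 (iv4 D219313)) (tt N117912 (iv5 F507557)) (tt N99672 F498255) (tt N91388 F498256))
theorem Q116056 : ∀ i, i < 116056 → P i := stepQ 116055 Q116055 (allL N116055 (tt N120944 (iv1 F523618)) (tt N121717 (iv0 F527933)) (tt N118891 (iv2 F512603)) (tt N101905 F498259) (tt N116353 (iv4 F499678)) (tt N88264 (iv5 D219314)) (tt N112425 (iv6 F498260)) (tt N122073 (iv7 F530002)))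
theorem Q116057 : ∀ i, i < 116057 → P i := stepQ 116056 Q116056 (allL N116056 (tt N119273 (iv1 F514758)) (tt N118893 (iv0 F512614)) (tt N118833 (iv2 F512315)) (tt N115729 F498261) (tt N88265 F498262) (tt N112426 F498263) (tt N88264 (iv6 D219315)) (tt N118832 (iv7 F512313)))
theorem Q116058 : ∀ i, i < 116058 → P i := stepQ 116057 Q116057 (allL N116057 (tt N121717 F527934) (tt N120944 (iv0 F523617)) (tt N122073 (iv2 F529998)) (tt N95655 F498264) (tt N116351 (iv4 F499670)) (tt N88266 (iv5 D219316)) (tt N95654 F498265) (tt N118891 (iv7 F512606)))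
theorem Q116059 : ∀ i, i < 116059 → P i := stepQ 116058 Q116058 (allL N116058 (tt N88270 (iv1 D219317)) (tt N116356 (iv0 F499692)) (tt N115841 (iv2 F498267)) (tt N120519 (iv3 F521223)) (tt N115333 (iv4 F498269)) (tt N88311 F498266) (tt N114175 (iv6 F498268)) (tt N120757 (iv7 F522554)))
theorem Q116060 : ∀ i, i < 116060 → P i := stepQ 116059 Q116059 (allL N116059 (tt N116355 (iv1 F499685)) (tt N116354 F499681) (tt N113758 F498270) (tt N122508 D225767) (tt N88270 (iv4 D219318)) (tt N113534 F498271) (tt N122468 (iv6 F532298)) (tt N116342 (iv7 F499631)))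
theorem Q116061 : ∀ i, i < 116061 → P i := stepQ 116060 Q116060 (allL N116060 (tt N114170 F498274) (tt N122389 F531811) (tt N114212 F498272) (tt N91386 F498273) (tt N122468 (iv4 F532297)) (tt N121308 (iv5 F525678)) (tt N88270 (iv6 D219319)) (tt N122388 (iv7 F531805)))
theorem Q116062 : ∀ i, i < 116062 → P i := stepQ 116061 Q116061 (allL N116061 (tt N117454 (iv1 F505126)) (tt N96845 F498278) (tt N117912 F507559) (tt N108772 F498275) (tt N113280 F498277) (tt N88278 (iv5 D219320)) (tt N121315 (iv6 F525714)) (tt N91392 F498276))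
theorem Q116063 : ∀ i, i < 116063 → P i := stepQ 116062 Q116062 (allL N116062 (tt N102217 F498283) (tt N88355 F498284) (tt N102219 F498279) (tt N88285 F498280) (tt N117688 (iv4 F506424)) (tt N88282 (iv5 D219321)) (tt N102194 F498281) (tt N102214 F498282))
theorem Q116064 : ∀ i, i < 116064 → P i := stepQ 116063 Q116063 (allL N116063 (tt N116043 F498288) (tt N122509 D225768) (tt N116084 (iv2 F498377)) (tt N104423 F498285) (tt N118049 (iv4 F508290)) (tt N88283 (iv5 D219322)) (tt N102188 F498286) (tt N104420 F498287))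
theorem Q116065 : ∀ i, i < 116065 → P i := stepQ 116064 Q116064 (allL N116064 (tt N120579 (iv1 F521564)) (tt N120577 (iv0 F521548)) (tt N93083 F498289) (tt N88284 (iv3 D219323)) (tt N100771 F498290) (tt N102183 (iv5 F498293)) (tt N93082 F498291) (tt N104356 F498292))
theorem Q116066 : ∀ i, i < 116066 → P i := stepQ 116065 Q116065 (allL N116065 (tt N122509 (iv1 F532551)) (tt N116043 F498296) (tt N104420 F498294) (tt N102183 F498295) (tt N102190 (iv4 F498297)) (tt N88284 (iv5 D219324)) (tt N118048 (iv6 F508285)) (tt N116084 (iv7 F498381)))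
theorem Q116067 : ∀ i, i < 116067 → P i := stepQ 116066 Q116066 (allL N116066 (tt N116049 F498300) (tt N118115 (iv0 F508686)) (tt N118906 (iv2 F512679)) (tt N119007 (iv3 F513249)) (tt N102187 F498299) (tt N88288 (iv5 D219325)) (tt N102186 F498298) (tt N119461 (iv7 F515741)))
theorem Q116068 : ∀ i, i < 116068 → P i := stepQ 116067 Q116067 (allL N116067 (tt N118115 (iv1 F508687)) (tt N116049 F498301) (tt N119461 (iv2 F515738)) (tt N118085 (iv3 F508495)) (tt N118909 (iv4 F512696)) (tt N88289 (iv5 D219326)) (tt N102299 F498302) (tt N118906 (iv7 F512683)))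
theorem Q116069 : ∀ i, i < 116069 → P i := stepQ 116068 Q116068 (allL N116068 (tt N88298 (iv1 F498308)) (tt N88294 (iv0 D219327)) (tt N88296 (iv2 F498307)) (tt N96774 F498305) (tt N98282 F498304) (tt N96773 F498303) (tt N113668 F498306) (tt N88297 F498309))
theorem Q116070 : ∀ i, i < 116070 → P i := stepQ 116069 Q116069 (allL N116069 (tt N122117 F530275) (tt N122118 F530279) (tt N115707 F498310) (tt N88315 F498311) (tt N122510 D225769) (tt N88314 (iv5 D219328)) (tt N102982 (iv6 F498312)) (tt N122090 (iv7 F530098)))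
theorem Q116071 : ∀ i, i < 116071 → P i := stepQ 116070 Q116070 (allL N116070 (tt N119453 (iv1 F515708)) (tt N88326 (iv0 D219329)) (tt N119450 F515685) (tt N115254 (iv3 F498314)) (tt N118067 (iv4 F508392)) (tt N113590 F498313) (tt N118066 F508389) (tt N119451 (iv7 F515690)))
theorem Q116072 : ∀ i, i < 116072 → P i := stepQ 116071 Q116071 (allL N116071 (tt N88326 (iv1 D219330)) (tt N119453 F515707) (tt N119451 F515695) (tt N115248 (iv3 F498317)) (tt N111868 F498316) (tt N113592 F498315) (tt N120964 F523743) (tt N119450 F515687))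
theorem Q116073 : ∀ i, i < 116073 → P i := stepQ 116072 Q116072 (allL N116072 (tt N95875 (iv1 F498321)) (tt N88332 (iv0 D219331)) (tt N95885 (iv2 F498320)) (tt N118833 (iv3 F512316)) (tt N97185 F498318) (tt N119346 (iv5 F515137)) (tt N105688 F498319) (tt N95884 F498322))
theorem Q116074 : ∀ i, i < 116074 → P i := stepQ 116073 Q116073 (allL N116073 (tt N88337 (iv1 D219332)) (tt N115691 F498323) (tt N120267 (iv2 F519914)) (tt N88346 (iv3 F498326)) (tt N111232 F498325) (tt N120266 (iv5 F519912)) (tt N120795 (iv6 F522764)) (tt N103210 F498324))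
theorem Q116075 : ∀ i, i < 116075 → P i := stepQ 116074 Q116074 (allL N116074 (tt N104040 F498330) (tt N88339 (iv0 D219333)) (tt N119356 (iv2 F515190)) (tt N88350 F498327) (tt N120795 (iv4 F522762)) (tt N120042 (iv5 F518712)) (tt N111232 F498328) (tt N97161 (iv7 F498329)))
theorem Q116076 : ∀ i, i < 116076 → P i := stepQ 116075 Q116075 (allL N116075 (tt N97161 (iv1 F498336)) (tt N119356 F515193) (tt N104040 F498331) (tt N115623 F498332) (tt N115464 F498333) (tt N108566 F498334) (tt N115691 F498335) (tt N88339 (iv7 D219334)))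
theorem Q116077 : ∀ i, i < 116077 → P i := stepQ 116076 Q116076 (allL N116076 (tt N120795 (iv1 F522766)) (tt N103207 (iv0 F498341)) (tt N106720 F498338) (tt N112423 F498339) (tt N108491 F498340) (tt N117661 (iv5 F506273)) (tt N88341 (iv6 D219335)) (tt N120794 (iv7 F522755)))
theorem Q116078 : ∀ i, i < 116078 → P i := stepQ 116077 Q116077 (allL N116077 (tt N119272 (iv1 F514752)) (tt N113620 (iv0 F498346)) (tt N88344 F498342) (tt N114707 F498343) (tt N115695 F498344) (tt N95551 F498345) (tt N88343 (iv6 D219336)) (tt N119255 (iv7 F514656)))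
theorem Q116079 : ∀ i, i < 116079 → P i := stepQ 116078 Q116078 (allL N116078 (tt N119255 (iv1 F514658)) (tt N88344 (iv0 D219337)) (tt N119272 (iv2 F514747)) (tt N107233 F498348) (tt N113622 F498347) (tt N118217 (iv5 F509213)) (tt N117412 (iv6 F504908)) (tt N113620 (iv7 F498349)))
theorem Q116080 : ∀ i, i < 116080 → P i := stepQ 116079 Q116079 (allL N116079 (tt N88344 (iv1 D219338)) (tt N119255 (iv0 F514657)) (tt N113620 (iv2 F498351)) (tt N95735 (iv3 F498353)) (tt N113618 F498350) (tt N118730 (iv5 F511785)) (tt N111081 (iv6 F498352)) (tt N119272 (iv7 F514750)))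
theorem Q116081 : ∀ i, i < 116081 → P i := stepQ 116080 Q116080 (allL N116080 (tt N113620 (iv1 F498358)) (tt N119272 F514751) (tt N119255 (iv2 F514652)) (tt N88347 F498354) (tt N115696 F498355) (tt N95550 F498356) (tt N115772 F498357) (tt N88344 (iv7 D219339)))
theorem Q116082 : ∀ i, i < 116082 → P i := stepQ 116081 Q116081 (allL N116081 (tt N104034 (iv1 F498364)) (tt N104037 F498365) (tt N104035 F498359) (tt N88352 F498360) (tt N94016 F498361) (tt N111623 F498362) (tt N94015 F498363) (tt N88348 (iv7 D219340)))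
theorem Q116083 : ∀ i, i < 116083 → P i := stepQ 116082 Q116082 (allL N116082 (tt N93000 (iv1 F498369)) (tt N88357 F498370) (tt N97160 F498366) (tt N119354 (iv3 F515180)) (tt N104294 F498367) (tt N117169 (iv5 F503728)) (tt N88351 (iv6 D219341)) (tt N111943 F498368))
theorem Q116084 : ∀ i, i < 116084 → P i := stepQ 116083 Q116083 (allL N116083 (tt N102214 F498375) (tt N102219 F498376) (tt N102217 F498371) (tt N88355 F498372) (tt N120603 (iv4 F521702)) (tt N88354 (iv5 D219342)) (tt N102058 F498373) (tt N88355 F498374))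
theorem Q116085 : ∀ i, i < 116085 → P i := stepQ 116084 Q116084 (allL N116084 (tt N119007 (iv1 F513253)) (tt N120991 F523898) (tt N116063 F498377) (tt N104318 F498378) (tt N102294 F498379) (tt N88356 (iv5 D219343)) (tt N102176 F498380) (tt N116065 F498381))
theorem Q116086 : ∀ i, i < 116086 → P i := stepQ 116085 Q116085 (allL N116085 (tt N88360 (iv1 D219344)) (tt N88369 F498382) (tt N88368 F498388) (tt N115744 (iv3 F498386)) (tt N91233 F498384) (tt N115436 F498385) (tt N113929 (iv6 F498387)) (tt N88367 F498383))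
theorem Q116087 : ∀ i, i < 116087 → P i := stepQ 116086 Q116086 (allL N116086 (tt N121049 (iv1 F524231)) (tt N88365 (iv0 D219345)) (tt N122101 (iv2 F530175)) (tt N113558 F498391) (tt N111667 F498390) (tt N113586 F498389) (tt N111666 (iv6 F498392)) (tt N115203 (iv7 F498393)))
theorem Q116088 : ∀ i, i < 116088 → P i := stepQ 116087 Q116087 (allL N116087 (tt N88365 (iv1 D219346)) (tt N121049 (iv0 F524230)) (tt N115203 (iv2 F498396)) (tt N122446 (iv3 F532153)) (tt N104288 F498395) (tt N104016 F498394) (tt N104287 (iv6 F498397)) (tt N122101 (iv7 F530170)))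
theorem Q116089 : ∀ i, i < 116089 → P i := stepQ 116088 Q116088 (allL N116088 (tt N112054 (iv1 F498401)) (tt N112052 F498402) (tt N106710 F498398) (tt N121049 (iv3 F524227)) (tt N88369 F498399) (tt N121048 F524224) (tt N106701 F498400) (tt N88366 (iv7 D219347)))
theorem Q116090 : ∀ i, i < 116090 → P i := stepQ 116089 Q116089 (allL N116089 (tt N111942 (iv1 F498408)) (tt N115418 (iv0 F498407)) (tt N113929 F498403) (tt N100642 F498404) (tt N120968 (iv4 F523763)) (tt N91028 F498405) (tt N88368 (iv6 D219348)) (tt N113928 (iv7 F498406)))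
theorem Q116091 : ∀ i, i < 116091 → P i := stepQ 116090 Q116090 (allL N116090 (tt N88371 (iv1 D219349)) (tt N115783 F498409) (tt N112047 (iv2 F498413)) (tt N119947 (iv3 F518185)) (tt N89884 F498411) (tt N117668 (iv5 F506315)) (tt N112233 (iv6 F498412)) (tt N112045 F498410))
theorem Q116092 : ∀ i, i < 116092 → P i := stepQ 116091 Q116091 (allL N116091 (tt N89146 (iv1 F498419)) (tt N88379 (iv0 D219350)) (tt N89143 (iv2 F498418)) (tt N107316 F498415) (tt N89138 F498414) (tt N112576 F498417) (tt N89138 F498416) (tt N89144 F498420))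
theorem Q116093 : ∀ i, i < 116093 → P i := stepQ 116092 Q116092 (allL N116092 (tt N106625 F498425) (tt N106022 F498426) (tt N89126 F498421) (tt N100182 F498422) (tt N116693 (iv4 F501332)) (tt N88382 (iv5 D219351)) (tt N107617 F498423) (tt N100259 F498424))
theorem Q116094 : ∀ i, i < 116094 → P i := stepQ 116093 Q116093 (allL N116093 (tt N117381 F504757) (tt N121536 (iv0 F526917)) (tt N117443 (iv2 F505052)) (tt N88388 F498427) (tt N119771 (iv4 F517340)) (tt N120091 (iv5 F518995)) (tt N88383 (iv6 D219352)) (tt N121864 (iv7 F528781)))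
theorem Q116095 : ∀ i, i < 116095 → P i := stepQ 116094 Q116094 (allL N116094 (tt N120274 F519963) (tt N117374 (iv0 F504723)) (tt N113169 F498428) (tt N115432 F498429) (tt N121924 (iv4 F529090)) (tt N122272 (iv5 F531098)) (tt N88385 (iv6 D219353)) (tt N121822 (iv7 F528522)))
theorem Q116096 : ∀ i, i < 116096 → P i := stepQ 116095 Q116095 (allL N116095 (tt N88582 F498434) (tt N88589 F498435) (tt N88588 F498430) (tt N88827 F498431) (tt N112888 F498432) (tt N88386 (iv5 D219354)) (tt N122272 (iv6 F531099)) (tt N88587 F498433))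
theorem Q116097 : ∀ i, i < 116097 → P i := stepQ 116096 Q116096 (allL N116096 (tt N88390 (iv1 F498439)) (tt N88387 (iv0 D219355)) (tt N107030 (iv2 F498438)) (tt N88603 F498443) (tt N88601 F498437) (tt N88599 F498436) (tt N88601 (iv6 F498442)) (tt N107029 F498440))
theorem Q116098 : ∀ i, i < 116098 → P i := stepQ 116097 Q116097 (allL N116097 (tt N116521 F500595) (tt N109889 (iv0 F499222)) (tt N117380 (iv2 F504752)) (tt N88387 (iv3 D219356)) (tt N120384 (iv4 F520499)) (tt N107018 F498444) (tt N121509 (iv6 F526763)) (tt N107017 F498445))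
theorem Q116099 : ∀ i, i < 116099 → P i := stepQ 116098 Q116098 (allL N116098 (tt N122369 F531691) (tt N95011 (iv0 F498449)) (tt N121464 (iv2 F526516)) (tt N88394 F498446) (tt N119752 (iv4 F517238)) (tt N96295 F498447) (tt N88392 (iv6 D219357)) (tt N96294 F498448))
theorem Q116100 : ∀ i, i < 116100 → P i := stepQ 116099 Q116099 (allL N116099 (tt N122004 (iv1 F529586)) (tt N122180 F530627) (tt N90627 F498450) (tt N88393 (iv3 D219358)) (tt N119749 (iv4 F517227)) (tt N113798 (iv5 F498452)) (tt N121844 (iv6 F528656)) (tt N113179 F498451))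
theorem Q116101 : ∀ i, i < 116101 → P i := stepQ 116100 Q116100 (allL N116100 (tt N116186 F498910) (tt N106986 F498457) (tt N113175 F498453) (tt N113798 F498454) (tt N113160 F498456) (tt N88393 (iv5 D219359)) (tt N106996 F498458) (tt N113180 F498455))
theorem Q116102 : ∀ i, i < 116102 → P i := stepQ 116101 Q116101 (allL N116101 (tt N112592 F498462) (tt N121506 (iv0 F526744)) (tt N113176 F498459) (tt N121844 (iv3 F528654)) (tt N88394 F498460) (tt N120362 (iv5 F520377)) (tt N88393 (iv6 D219360)) (tt N112516 F498461))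
theorem Q116103 : ∀ i, i < 116103 → P i := stepQ 116102 Q116102 (allL N116102 (tt N106986 F498468) (tt N116186 (iv0 F498908)) (tt N113180 F498463) (tt N90628 F498464) (tt N113159 F498465) (tt N88396 (iv5 D219361)) (tt N101003 F498466) (tt N113175 F498467))
theorem Q116104 : ∀ i, i < 116104 → P i := stepQ 116103 Q116103 (allL N116103 (tt N88614 F498472) (tt N105532 (iv0 F498473)) (tt N120464 (iv2 F520916)) (tt N88399 (iv3 D219362)) (tt N110702 F498469) (tt N120374 (iv5 F520444)) (tt N112320 F498470) (tt N113181 F498471))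
theorem Q116105 : ∀ i, i < 116105 → P i := stepQ 116104 Q116104 (allL N116104 (tt N90616 F498479) (tt N90832 (iv0 F498480)) (tt N90091 F498474) (tt N109818 F498475) (tt N110676 F498476) (tt N90038 F498477) (tt N88405 (iv6 D219363)) (tt N106285 F498478))
theorem Q116106 : ∀ i, i < 116106 → P i := stepQ 116105 Q116105 (allL N116105 (tt N106024 (iv1 F498486)) (tt N106624 F498487) (tt N106623 F498481) (tt N88409 F498482) (tt N109533 F498483) (tt N113981 F498484) (tt N90831 F498485) (tt N88407 (iv7 D219364)))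
theorem Q116107 : ∀ i, i < 116107 → P i := stepQ 116106 Q116106 (allL N116106 (tt N113424 F498493) (tt N107608 (iv0 F498492)) (tt N88411 F498488) (tt N89895 F498489) (tt N119698 (iv4 F516981)) (tt N115059 F498490) (tt N88410 (iv6 D219365)) (tt N90848 F498491))
theorem Q116108 : ∀ i, i < 116108 → P i := stepQ 116107 Q116107 (allL N116107 (tt N90848 F498502) (tt N88411 (iv0 D219366)) (tt N113424 F498503) (tt N107621 (iv3 F498500)) (tt N121803 (iv4 F528414)) (tt N106789 F498499) (tt N122316 (iv6 F531373)) (tt N107608 (iv7 F498501)))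
theorem Q116109 : ∀ i, i < 116109 → P i := stepQ 116108 Q116108 (allL N116108 (tt N88411 (iv1 D219367)) (tt N90848 F498504) (tt N107608 F498508) (tt N113421 (iv3 F498506)) (tt N121423 (iv4 F526279)) (tt N106790 (iv5 F498507)) (tt N119513 (iv6 F516001)) (tt N113424 F498505))
theorem Q116110 : ∀ i, i < 116110 → P i := stepQ 116109 Q116109 (allL N116109 (tt N107608 (iv1 F498513)) (tt N113424 F498514) (tt N90848 F498509) (tt N88413 F498510) (tt N119705 (iv4 F517011)) (tt N96035 F498511) (tt N90847 F498512) (tt N88411 (iv7 D219368)))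
theorem Q116111 : ∀ i, i < 116111 → P i := stepQ 116110 Q116110 (allL N116110 (tt N90601 (iv1 F498519)) (tt N88417 (iv0 D219369)) (tt N90799 (iv2 F498520)) (tt N100225 F498517) (tt N89358 F498516) (tt N89095 F498515) (tt N100273 F498518) (tt N90800 (iv7 F498521)))
theorem Q116112 : ∀ i, i < 116112 → P i := stepQ 116111 Q116111 (allL N116111 (tt N88417 (iv1 D219370)) (tt N90601 F498522) (tt N90800 (iv2 F498526)) (tt N121843 (iv3 F528647)) (tt N89359 F498524) (tt N89090 F498525) (tt N121842 (iv6 F528645)) (tt N90799 F498523))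
theorem Q116113 : ∀ i, i < 116113 → P i := stepQ 116112 Q116112 (allL N116112 (tt N89900 (iv1 F498532)) (tt N106575 (iv0 F498533)) (tt N106579 F498527) (tt N88418 (iv3 D219371)) (tt N90796 F498531) (tt N91432 F498528) (tt N90795 F498529) (tt N90794 F498530))
theorem Q116114 : ∀ i, i < 116114 → P i := stepQ 116113 Q116113 (allL N116113 (tt N90841 F498537) (tt N116196 (iv0 F498958)) (tt N90797 F498534) (tt N114346 F498538) (tt N88418 (iv4 D219372)) (tt N89680 F498535) (tt N116921 (iv6 F502504)) (tt N90795 F498536))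
theorem Q116115 : ∀ i, i < 116115 → P i := stepQ 116114 Q116114 (allL N116114 (tt N89641 (iv1 F498541)) (tt N88421 (iv0 D219373)) (tt N91153 F498543) (tt N100904 (iv3 F498542)) (tt N113166 F498539) (tt N116728 (iv5 F501528)) (tt N107213 F498540) (tt N91152 F498544))
theorem Q116116 : ∀ i, i < 116116 → P i := stepQ 116115 Q116115 (allL N116115 (tt N88421 (iv1 D219374)) (tt N89641 F498545) (tt N91152 F498549) (tt N90613 (iv3 F498548)) (tt N90825 F498547) (tt N116717 (iv5 F501474)) (tt N122451 F532192) (tt N91153 F498546))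
theorem Q116117 : ∀ i, i < 116117 → P i := stepQ 116116 Q116116 (allL N116116 (tt N88560 F498554) (tt N116567 F500771) (tt N91140 F498550) (tt N113541 F498551) (tt N122210 (iv4 F530797)) (tt N88423 (iv5 D219375)) (tt N114023 F498552) (tt N91143 F498553))
theorem Q116118 : ∀ i, i < 116118 → P i := stepQ 116117 Q116117 (allL N116117 (tt N89340 F498557) (tt N122489 (iv0 F532438)) (tt N113539 F498555) (tt N88424 (iv3 D219376)) (tt N113402 (iv4 F498558)) (tt N122381 (iv5 F531758)) (tt N120190 (iv6 F519514)) (tt N91139 F498556))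
theorem Q116119 : ∀ i, i < 116119 → P i := stepQ 116118 Q116118 (allL N116118 (tt N90907 F498567) (tt N90909 (iv0 F498568)) (tt N91144 F498563) (tt N120190 F519512) (tt N114715 F498564) (tt N91431 F498565) (tt N88424 (iv6 D219377)) (tt N114021 F498566))
theorem Q116120 : ∀ i, i < 116120 → P i := stepQ 116119 Q116119 (allL N116119 (tt N114222 F498573) (tt N115357 F498574) (tt N88434 F498569) (tt N120348 (iv3 F520314)) (tt N112448 F498572) (tt N88431 (iv5 D219378)) (tt N91922 F498570) (tt N115228 F498571))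
theorem Q116121 : ∀ i, i < 116121 → P i := stepQ 116120 Q116120 (allL N116120 (tt N100349 F498579) (tt N100348 F498580) (tt N100345 F498575) (tt N88633 F498581) (tt N88438 (iv4 D219379)) (tt N88632 F498576) (tt N100280 F498577) (tt N100124 F498578))
theorem Q116122 : ∀ i, i < 116122 → P i := stepQ 116121 Q116121 (allL N116121 (tt N88441 (iv1 D219380)) (tt N115530 F498582) (tt N112885 F498585) (tt N111296 (iv3 F498584)) (tt N116156 (iv4 F498787)) (tt N91289 F498583) (tt N122511 D225770) (tt N116168 (iv7 F498843)))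
theorem Q116123 : ∀ i, i < 116123 → P i := stepQ 116122 Q116122 (allL N116122 (tt N121157 (iv1 F524842)) (tt N105190 (iv0 F498589)) (tt N90891 F498586) (tt N112957 F498587) (tt N116184 (iv4 F498897)) (tt N110211 F498588) (tt N88442 (iv6 D219381)) (tt N110210 (iv7 F498590)))
theorem Q116124 : ∀ i, i < 116124 → P i := stepQ 116123 Q116123 (allL N116123 (tt N104718 F498595) (tt N104723 (iv0 F498596)) (tt N114710 F498591) (tt N88446 F498592) (tt N104573 F498593) (tt N96191 F498594) (tt N88444 (iv6 D219382)) (tt N105516 (iv7 F498597)))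
theorem Q116125 : ∀ i, i < 116125 → P i := stepQ 116124 Q116124 (allL N116124 (tt N88451 (iv1 D219383)) (tt N118633 (iv0 F511249)) (tt N118635 F511261) (tt N112418 (iv3 F498601)) (tt N115041 F498599) (tt N94744 F498598) (tt N95211 (iv6 F498600)) (tt N118346 (iv7 F509827)))
theorem Q116126 : ∀ i, i < 116126 → P i := stepQ 116125 Q116125 (allL N116125 (tt N105006 F498607) (tt N105421 (iv0 F498608)) (tt N109364 F498602) (tt N88452 (iv3 D219384)) (tt N90447 F498603) (tt N115472 F498604) (tt N107918 F498605) (tt N111191 F498606))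
theorem Q116127 : ∀ i, i < 116127 → P i := stepQ 116126 Q116126 (allL N116126 (tt N117599 (iv1 F505926)) (tt N108124 F498614) (tt N88464 F498609) (tt N108093 F498610) (tt N88460 (iv4 D219385)) (tt N115899 F498611) (tt N111532 F498612) (tt N108099 F498613))
theorem Q116128 : ∀ i, i < 116128 → P i := stepQ 116127 Q116127 (allL N116127 (tt N110852 F498620) (tt N94507 F498621) (tt N103077 F498615) (tt N94992 F498616) (tt N88461 (iv4 D219386)) (tt N101582 F498619) (tt N94971 F498617) (tt N100433 F498618))
theorem Q116129 : ∀ i, i < 116129 → P i := stepQ 116128 Q116128 (allL N116128 (tt N108099 (iv1 F498625)) (tt N88464 (iv0 D219387)) (tt N117599 (iv2 F505931)) (tt N91325 F498624) (tt N91326 F498623) (tt N115672 F498622) (tt N102852 (iv6 F498626)) (tt N108124 (iv7 F498627)))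
theorem Q116130 : ∀ i, i < 116130 → P i := stepQ 116129 Q116129 (allL N116129 (tt N88464 (iv1 D219388)) (tt N108099 F498628) (tt N108124 (iv2 F498631)) (tt N108133 (iv3 F498635)) (tt N102770 F498630) (tt N115673 F498629) (tt N102768 (iv6 F498632)) (tt N117599 (iv7 F505927)))
theorem Q116131 : ∀ i, i < 116131 → P i := stepQ 116130 Q116130 (allL N116130 (tt N106147 F498640) (tt N98018 F498641) (tt N115830 F498636) (tt N90423 F498637) (tt N109448 F498639) (tt N88467 (iv5 D219389)) (tt N90421 F498642) (tt N112858 F498638))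
theorem Q116132 : ∀ i, i < 116132 → P i := stepQ 116131 Q116131 (allL N116131 (tt N98018 F498648) (tt N106147 F498647) (tt N112858 F498643) (tt N102005 F498644) (tt N113140 F498645) (tt N88470 (iv5 D219390)) (tt N117972 (iv6 F507858)) (tt N115830 F498646))
theorem Q116133 : ∀ i, i < 116133 → P i := stepQ 116132 Q116132 (allL N116132 (tt N117216 (iv1 F503948)) (tt N116252 F499230) (tt N113889 F498649) (tt N110097 F498650) (tt N114395 F498651) (tt N122179 (iv5 F530618)) (tt N88479 (iv6 D219391)) (tt N114383 F498652))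
theorem Q116134 : ∀ i, i < 116134 → P i := stepQ 116133 Q116133 (allL N116133 (tt N89610 F498656) (tt N89606 F498657) (tt N113895 F498653) (tt N121342 (iv3 F525864)) (tt N88484 (iv4 D219392)) (tt N107694 F498654) (tt N114655 F498658) (tt N113897 F498655))
theorem Q116135 : ∀ i, i < 116135 → P i := stepQ 116134 Q116134 (allL N116134 (tt N122020 (iv1 F529678)) (tt N99380 (iv0 F498663)) (tt N113896 F498659) (tt N110100 F498660) (tt N114655 F498661) (tt N89948 F498662) (tt N88484 (iv6 D219393)) (tt N121345 (iv7 F525880)))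
theorem Q116136 : ∀ i, i < 116136 → P i := stepQ 116135 Q116135 (allL N116135 (tt N89413 (iv1 F498667)) (tt N88485 (iv0 D219394)) (tt N107311 (iv2 F498668)) (tt N122512 D225771) (tt N110060 F498665) (tt N96494 F498664) (tt N114610 F498666) (tt N116173 (iv7 F498868)))
theorem Q116137 : ∀ i, i < 116137 → P i := stepQ 116136 Q116136 (allL N116136 (tt N88485 (iv1 D219395)) (tt N89413 F498669) (tt N116173 F498866) (tt N122320 (iv3 F531397)) (tt N100963 F498672) (tt N107312 F498671) (tt N91146 (iv6 F498673)) (tt N107311 F498670))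
theorem Q116138 : ∀ i, i < 116138 → P i := stepQ 116137 Q116137 (allL N116137 (tt N100991 F498678) (tt N100990 F498679) (tt N100994 F498674) (tt N120290 F520053) (tt N100577 F498675) (tt N88486 (iv5 D219396)) (tt N100863 F498676) (tt N100576 F498677))
theorem Q116139 : ∀ i, i < 116139 → P i := stepQ 116138 Q116138 (allL N116138 (tt N101370 F498685) (tt N101058 F498686) (tt N101373 F498680) (tt N113035 F498681) (tt N88493 (iv4 D219397)) (tt N98036 F498682) (tt N113218 F498683) (tt N101372 F498684))
theorem Q116140 : ∀ i, i < 116140 → P i := stepQ 116139 Q116139 (allL N116139 (tt N88501 (iv1 F498689)) (tt N88495 (iv0 D219398)) (tt N116704 (iv2 F501396)) (tt N110069 (iv3 F498690)) (tt N113956 F498688) (tt N111971 F498687) (tt N122435 F532087) (tt N110158 F498691))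
theorem Q116141 : ∀ i, i < 116141 → P i := stepQ 116140 Q116140 (allL N116140 (tt N88495 (iv1 D219399)) (tt N88501 F498692) (tt N110158 F498696) (tt N100864 (iv3 F498695)) (tt N113940 F498694) (tt N105711 F498693) (tt N113939 (iv6 F498697)) (tt N116704 (iv7 F501398)))
theorem Q116142 : ∀ i, i < 116142 → P i := stepQ 116141 Q116141 (allL N116141 (tt N92030 F498704) (tt N113894 (iv0 F498705)) (tt N113208 F498700) (tt N122164 (iv3 F530524)) (tt N88757 F498701) (tt N112992 F498702) (tt N88495 (iv6 D219400)) (tt N88756 F498703))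
theorem Q116143 : ∀ i, i < 116143 → P i := stepQ 116142 Q116142 (allL N116142 (tt N91334 F498711) (tt N112039 F498712) (tt N103952 F498706) (tt N88503 F498707) (tt N110852 F498710) (tt N88500 (iv5 D219401)) (tt N97081 F498708) (tt N112366 F498709))
theorem Q116144 : ∀ i, i < 116144 → P i := stepQ 116143 Q116143 (allL N116143 (tt N103938 (iv1 F498717)) (tt N88502 (iv0 D219402)) (tt N110031 (iv2 F498716)) (tt N89670 (iv3 F498719)) (tt N105725 F498714) (tt N105586 F498713) (tt N100942 F498715) (tt N89665 F498718))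
theorem Q116145 : ∀ i, i < 116145 → P i := stepQ 116144 Q116144 (allL N116144 (tt N110928 F498724) (tt N110937 F498725) (tt N96016 F498720) (tt N110940 (iv3 F498726)) (tt N88503 (iv4 D219403)) (tt N114587 F498721) (tt N101684 F498722) (tt N110938 F498723))
theorem Q116146 : ∀ i, i < 116146 → P i := stepQ 116145 Q116145 (allL N116145 (tt N89072 F498732) (tt N89075 F498733) (tt N89438 F498727) (tt N107935 F498728) (tt N89000 F498729) (tt N107839 F498730) (tt N88505 (iv6 D219404)) (tt N89436 F498731))
theorem Q116147 : ∀ i, i < 116147 → P i := stepQ 116146 Q116146 (allL N116146 (tt N101866 F498737) (tt N101868 F498738) (tt N88507 F498734) (tt N101517 F498735) (tt N88506 (iv4 D219405)) (tt N112644 (iv5 F498740)) (tt N118816 (iv6 F512228)) (tt N101874 F498736))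
theorem Q116148 : ∀ i, i < 116148 → P i := stepQ 116147 Q116147 (allL N116147 (tt N109792 F498745) (tt N101092 F498746) (tt N120451 (iv2 F520857)) (tt N114508 F498741) (tt N88513 (iv4 D219406)) (tt N105603 F498742) (tt N88514 F498743) (tt N114505 F498744))
theorem Q116149 : ∀ i, i < 116149 → P i := stepQ 116148 Q116148 (allL N116148 (tt N119153 F514074) (tt N120452 F520862) (tt N96577 F498747) (tt N88514 (iv3 D219407)) (tt N114752 F498748) (tt N113904 (iv5 F498751)) (tt N114508 F498749) (tt N114998 F498750))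
theorem Q116150 : ∀ i, i < 116150 → P i := stepQ 116149 Q116149 (allL N116149 (tt N122175 F530596) (tt N119466 (iv0 F515766)) (tt N112265 F498752) (tt N113904 F498753) (tt N112256 F498755) (tt N88514 (iv5 D219408)) (tt N112255 F498754) (tt N122334 (iv7 F531481)))
theorem Q116151 : ∀ i, i < 116151 → P i := stepQ 116150 Q116150 (allL N116150 (tt N110678 F498760) (tt N99042 F498761) (tt N112679 F498756) (tt N107289 F498757) (tt N88516 (iv4 D219409)) (tt N121473 (iv5 F526570)) (tt N114401 F498758) (tt N112678 F498759))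
theorem Q116152 : ∀ i, i < 116152 → P i := stepQ 116151 Q116151 (allL N116151 (tt N107003 F498767) (tt N99946 F498768) (tt N109728 F498762) (tt N88523 F498763) (tt N98477 F498764) (tt N112321 F498765) (tt N88519 (iv6 D219410)) (tt N101100 F498766))
theorem Q116153 : ∀ i, i < 116153 → P i := stepQ 116152 Q116152 (allL N116152 (tt N106407 F498771) (tt N118802 (iv0 F512155)) (tt N122513 D225772) (tt N88531 (iv3 D219411)) (tt N113077 F498769) (tt N122514 D225773) (tt N104511 F498770) (tt N120864 (iv7 F523154)))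
theorem Q116154 : ∀ i, i < 116154 → P i := stepQ 116153 Q116153 (allL N116153 (tt N120904 F523385) (tt N122324 (iv0 F531427)) (tt N112904 F498772) (tt N122514 (iv3 F532582)) (tt N115728 F498773) (tt N88531 (iv5 D219412)) (tt N104683 F498774) (tt N122352 (iv7 F531581)))
theorem Q116155 : ∀ i, i < 116155 → P i := stepQ 116154 Q116154 (allL N116154 (tt N114697 (iv1 F498779)) (tt N122269 F531084) (tt N88549 F498775) (tt N113073 F498776) (tt N112751 F498777) (tt N88936 F498778) (tt N88533 (iv6 D219413)) (tt N122216 (iv7 F530832)))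
theorem Q116156 : ∀ i, i < 116156 → P i := stepQ 116155 Q116155 (allL N116155 (tt N88556 (iv1 F498781)) (tt N88534 (iv0 D219414)) (tt N88552 F498784) (tt N89612 F498783) (tt N113599 F498780) (tt N119990 (iv5 F518422)) (tt N116754 (iv6 F501648)) (tt N88553 (iv7 F498782)))
theorem Q116157 : ∀ i, i < 116157 → P i := stepQ 116156 Q116156 (allL N116156 (tt N88534 (iv1 D219415)) (tt N88556 F498785) (tt N88553 (iv2 F498789)) (tt N113970 (iv3 F498788)) (tt N116121 F498787) (tt N119958 (iv5 F518254)) (tt N120068 F518876) (tt N88552 F498786))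
theorem Q116158 : ∀ i, i < 116158 → P i := stepQ 116157 Q116157 (allL N116157 (tt N119966 (iv1 F518303)) (tt N115129 (iv0 F498792)) (tt N121090 F524466) (tt N88534 (iv3 D219416)) (tt N118523 (iv4 F510802)) (tt N115123 F498790) (tt N121081 (iv6 F524420)) (tt N112930 F498791))
theorem Q116159 : ∀ i, i < 116159 → P i := stepQ 116158 Q116158 (allL N116158 (tt N121262 (iv1 F525450)) (tt N113022 (iv0 F498796)) (tt N121887 (iv2 F528910)) (tt N106952 F498793) (tt N107089 F498794) (tt N106951 F498795) (tt N88539 (iv6 D219417)) (tt N121324 (iv7 F525765)))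
theorem Q116160 : ∀ i, i < 116160 → P i := stepQ 116159 Q116159 (allL N116159 (tt N109710 F498800) (tt N121889 (iv0 F528928)) (tt N117725 (iv2 F506639)) (tt N88541 (iv3 D219418)) (tt N88566 F498797) (tt N111264 F498798) (tt N88554 F498799) (tt N120356 (iv7 F520347)))
theorem Q116161 : ∀ i, i < 116161 → P i := stepQ 116160 Q116160 (allL N116160 (tt N88545 (iv1 F498805)) (tt N88543 (iv0 D219419)) (tt N107442 (iv2 F498804)) (tt N122016 (iv3 F529653)) (tt N89941 F498802) (tt N107432 F498801) (tt N112978 F498803) (tt N107431 F498806))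
theorem Q116162 : ∀ i, i < 116162 → P i := stepQ 116161 Q116161 (allL N116161 (tt N122320 F531402) (tt N121274 (iv0 F525508)) (tt N110171 F498807) (tt N88543 (iv3 D219420)) (tt N112898 F498808) (tt N89524 F498809) (tt N100054 F498810) (tt N113023 F498811))
theorem Q116163 : ∀ i, i < 116163 → P i := stepQ 116162 Q116162 (allL N116162 (tt N100055 (iv1 F498817)) (tt N88544 (iv0 D219421)) (tt N110103 (iv2 F498815)) (tt N122345 (iv3 F531548)) (tt N90054 F498813) (tt N110114 F498812) (tt N113540 F498814) (tt N90053 F498816))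
theorem Q116164 : ∀ i, i < 116164 → P i := stepQ 116163 Q116163 (allL N116163 (tt N90053 (iv1 F498822)) (tt N110103 F498823) (tt N100055 F498818) (tt N110162 F498819) (tt N100027 F498820) (tt N120564 (iv5 F521479)) (tt N106507 F498821) (tt N88544 (iv7 D219422)))
theorem Q116165 : ∀ i, i < 116165 → P i := stepQ 116164 Q116164 (allL N116164 (tt N89525 F498826) (tt N122329 F531454) (tt N122321 (iv2 F531403)) (tt N88548 (iv3 D219423)) (tt N112894 F498824) (tt N121479 (iv5 F526601)) (tt N122322 (iv6 F531414)) (tt N112980 F498825))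
theorem Q116166 : ∀ i, i < 116166 → P i := stepQ 116165 Q116165 (allL N116165 (tt N112745 F498830) (tt N112753 (iv0 F498832)) (tt N112751 F498827) (tt N122322 (iv3 F531411)) (tt N88549 F498828) (tt N114493 F498831) (tt N88548 (iv6 D219424)) (tt N112750 F498829))
theorem Q116167 : ∀ i, i < 116167 → P i := stepQ 116166 Q116166 (allL N116166 (tt N122216 (iv1 F530834)) (tt N88549 (iv0 D219425)) (tt N114697 (iv2 F498833)) (tt N122347 (iv3 F531558)) (tt N116752 (iv4 F501641)) (tt N121794 F528360) (tt N117058 (iv6 F503163)) (tt N122269 (iv7 F531085)))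
theorem Q116168 : ∀ i, i < 116168 → P i := stepQ 116167 Q116167 (allL N116167 (tt N89949 (iv1 F498840)) (tt N113615 (iv0 F498839)) (tt N113968 F498834) (tt N88552 (iv3 D219426)) (tt N113608 F498837) (tt N110881 F498835) (tt N114740 (iv6 F498838)) (tt N113970 F498836))
theorem Q116169 : ∀ i, i < 116169 → P i := stepQ 116168 Q116168 (allL N116168 (tt N113995 F498844) (tt N112062 F498845) (tt N113599 F498841) (tt N116290 (iv3 F499393)) (tt N88552 (iv4 D219427)) (tt N89940 F498842) (tt N116750 (iv6 F501629)) (tt N116121 F498843))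
theorem Q116170 : ∀ i, i < 116170 → P i := stepQ 116169 Q116169 (allL N116169 (tt N116752 F501642) (tt N116755 F501656) (tt N116754 F501649) (tt N114740 F498846) (tt N116750 F501632) (tt N116927 (iv5 F502538)) (tt N88552 (iv6 D219428)) (tt N116753 (iv7 F501650)))
theorem Q116171 : ∀ i, i < 116171 → P i := stepQ 116170 Q116170 (allL N116170 (tt N89066 (iv1 F498852)) (tt N88555 (iv0 D219429)) (tt N89608 (iv2 F498851)) (tt N89948 F498849) (tt N115991 F498848) (tt N110100 F498847) (tt N109471 F498850) (tt N118943 (iv7 F512886)))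
theorem Q116172 : ∀ i, i < 116172 → P i := stepQ 116171 Q116171 (allL N116171 (tt N91140 (iv1 F498857)) (tt N91143 F498858) (tt N116567 (iv2 F500767)) (tt N111918 F498853) (tt N113952 F498854) (tt N112583 F498855) (tt N88755 F498856) (tt N88560 (iv7 D219430)))
theorem Q116173 : ∀ i, i < 116173 → P i := stepQ 116172 Q116172 (allL N116172 (tt N113889 F498861) (tt N114383 (iv0 F498862)) (tt N116252 (iv2 F499225)) (tt N122317 (iv3 F531378)) (tt N88562 F498859) (tt N91130 F498860) (tt N88561 (iv6 D219431)) (tt N117216 (iv7 F503946)))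
theorem Q116174 : ∀ i, i < 116174 → P i := stepQ 116173 Q116173 (allL N116173 (tt N114621 (iv1 F498867)) (tt N88563 (iv0 D219432)) (tt N116136 (iv2 F498866)) (tt N122515 D225774) (tt N112283 F498864) (tt N96263 F498863) (tt N88572 F498865) (tt N116135 F498868))
theorem Q116175 : ∀ i, i < 116175 → P i := stepQ 116174 Q116174 (allL N116174 (tt N88833 (iv1 F498873)) (tt N88570 (iv0 D219433)) (tt N114683 (iv2 F498872)) (tt N121555 (iv3 F527019)) (tt N88805 F498870) (tt N107999 F498869) (tt N88585 F498871) (tt N114682 F498874))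
theorem Q116176 : ∀ i, i < 116176 → P i := stepQ 116175 Q116175 (allL N116175 (tt N116525 F528664) (tt N122271 (iv0 F531094)) (tt N122268 (iv2 F531077)) (tt N88572 (iv3 D219434)) (tt N122257 (iv4 F531038)) (tt N121845 (iv5 F528661)) (tt N122515 (iv6 F532590)) (tt N117390 (iv7 F504789)))
theorem Q116177 : ∀ i, i < 116177 → P i := stepQ 116176 Q116176 (allL N116176 (tt N121482 (iv1 F526621)) (tt N117391 (iv0 F504796)) (tt N119961 (iv2 F518272)) (tt N108430 F498875) (tt N119955 (iv4 F518238)) (tt N89756 F498876) (tt N88580 (iv6 D219435)) (tt N116267 (iv7 F499278)))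
theorem Q116178 : ∀ i, i < 116178 → P i := stepQ 116177 Q116177 (allL N116177 (tt N121510 (iv1 F526770)) (tt N122270 (iv0 F531091)) (tt N122272 (iv2 F531095)) (tt N116525 (iv3 F500610)) (tt N122333 (iv4 F531472)) (tt N113169 F498877) (tt N88588 (iv6 D219436)) (tt N116709 (iv7 F501425)))
theorem Q116179 : ∀ i, i < 116179 → P i := stepQ 116178 Q116178 (allL N116178 (tt N120310 (iv1 F520149)) (tt N111967 (iv0 F498880)) (tt N120309 (iv2 F520146)) (tt N88590 (iv3 D219437)) (tt N108004 F498878) (tt N120370 (iv5 F520419)) (tt N122266 (iv6 F531069)) (tt N108003 F498879))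
theorem Q116180 : ∀ i, i < 116180 → P i := stepQ 116179 Q116179 (allL N116179 (tt N120447 (iv1 F520830)) (tt N111948 (iv0 F498882)) (tt N120294 (iv2 F520077)) (tt N122266 (iv3 F531068)) (tt N88591 F498881) (tt N122516 D225775) (tt N88590 (iv6 D219438)) (tt N120446 (iv7 F520822)))
theorem Q116181 : ∀ i, i < 116181 → P i := stepQ 116180 Q116180 (allL N116180 (tt N101489 (iv1 F498886)) (tt N88591 (iv0 D219439)) (tt N101491 (iv2 F498885)) (tt N88833 (iv3 F498888)) (tt N120295 (iv4 F520082)) (tt N95724 F498883) (tt N112742 F498884) (tt N101079 F498887))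
theorem Q116182 : ∀ i, i < 116182 → P i := stepQ 116181 Q116181 (allL N116181 (tt N117378 (iv1 F504743)) (tt N88593 (iv0 D219440)) (tt N112591 (iv2 F498891)) (tt N121510 (iv3 F526767)) (tt N122266 (iv4 F531067)) (tt N112526 F498889) (tt N108004 F498890) (tt N110872 F498892))
theorem Q116183 : ∀ i, i < 116183 → P i := stepQ 116182 Q116182 (allL N116182 (tt N122517 D225776) (tt N122518 D225777) (tt N122519 D225778) (tt N88594 (iv3 D219441)) (tt N122254 (iv4 F531027)) (tt N120447 (iv5 F520828)) (tt N122520 D225779) (tt N120298 (iv7 F520095)))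
theorem Q116184 : ∀ i, i < 116184 → P i := stepQ 116183 Q116183 (allL N116183 (tt N120300 (iv1 F520104)) (tt N111914 F498896) (tt N100984 F498893) (tt N120447 (iv3 F520826)) (tt N90948 F498894) (tt N88594 (iv5 D219442)) (tt N122139 (iv6 F530390)) (tt N100982 F498895))
theorem Q116185 : ∀ i, i < 116185 → P i := stepQ 116184 Q116184 (allL N116184 (tt N122220 (iv1 F530853)) (tt N121101 (iv0 F524517)) (tt N117261 (iv2 F504157)) (tt N122520 (iv3 F532615)) (tt N116122 F498897) (tt N121895 (iv5 F528952)) (tt N88594 (iv6 D219443)) (tt N121918 (iv7 F529053)))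
theorem Q116186 : ∀ i, i < 116186 → P i := stepQ 116185 Q116185 (allL N116185 (tt N107011 F498902) (tt N105095 F498903) (tt N107048 F498898) (tt N94908 F498899) (tt N105260 F498900) (tt N88598 (iv5 D219444)) (tt N89144 F498904) (tt N105260 F498901))
theorem Q116187 : ∀ i, i < 116187 → P i := stepQ 116186 Q116186 (allL N116186 (tt N116102 F498908) (tt N116100 (iv0 F498910)) (tt N121433 (iv2 F526342)) (tt N88604 F498905) (tt N88599 F498906) (tt N107029 F498909) (tt N88598 (iv6 D219445)) (tt N88599 F498907))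
theorem Q116188 : ∀ i, i < 116188 → P i := stepQ 116187 Q116187 (allL N116187 (tt N105313 F498916) (tt N105310 F498917) (tt N113401 F498911) (tt N88605 F498912) (tt N88603 (iv4 D219446)) (tt N113401 F498915) (tt N88605 F498913) (tt N113398 F498914))
theorem Q116189 : ∀ i, i < 116189 → P i := stepQ 116188 Q116188 (allL N116188 (tt N88609 (iv1 F498919)) (tt N88607 (iv0 D219447)) (tt N116383 (iv2 F499810)) (tt N116593 (iv3 F500894)) (tt N120337 (iv4 F520251)) (tt N109781 F498918) (tt N122208 (iv6 F530784)) (tt N109780 F498920))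
theorem Q116190 : ∀ i, i < 116190 → P i := stepQ 116189 Q116189 (allL N116189 (tt N110234 F498924) (tt N109969 F498925) (tt N110692 F498921) (tt N120389 (iv3 F520530)) (tt N88607 (iv4 D219448)) (tt N110607 F498922) (tt N117369 (iv6 F504703)) (tt N109971 F498923))
theorem Q116191 : ∀ i, i < 116191 → P i := stepQ 116190 Q116190 (allL N116190 (tt N110231 F498930) (tt N110233 F498931) (tt N110695 F498926) (tt N98894 F498927) (tt N88610 (iv4 D219449)) (tt N98888 (iv5 F498932)) (tt N98891 F498928) (tt N110696 F498929))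
theorem Q116192 : ∀ i, i < 116192 → P i := stepQ 116191 Q116191 (allL N116191 (tt N110233 F498936) (tt N110231 F498937) (tt N110696 F498933) (tt N112589 F498934) (tt N88611 (iv4 D219450)) (tt N119855 (iv5 F517716)) (tt N120102 (iv6 F519056)) (tt N110695 F498935))
theorem Q116193 : ∀ i, i < 116193 → P i := stepQ 116192 Q116192 (allL N116192 (tt N109879 F498940) (tt N113445 F519568) (tt N121863 (iv2 F528773)) (tt N112992 F498938) (tt N120102 F519055) (tt N122164 (iv5 F530525)) (tt N88611 (iv6 D219451)) (tt N113209 F498939))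
theorem Q116194 : ∀ i, i < 116194 → P i := stepQ 116193 Q116193 (allL N116193 (tt N120168 F519399) (tt N119610 (iv0 F516500)) (tt N110016 F498941) (tt N88616 F498942) (tt N109839 F498943) (tt N90906 F498944) (tt N88612 (iv6 D219452)) (tt N89348 F498945))
theorem Q116195 : ∀ i, i < 116195 → P i := stepQ 116194 Q116194 (allL N116194 (tt N105532 F498949) (tt N88614 (iv0 D219453)) (tt N113181 (iv2 F498948)) (tt N107184 F498946) (tt N107199 F498947) (tt N121788 (iv5 F528322)) (tt N122010 (iv6 F529620)) (tt N120464 (iv7 F520920)))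
theorem Q116196 : ∀ i, i < 116196 → P i := stepQ 116195 Q116195 (allL N116195 (tt N120464 (iv1 F520919)) (tt N113181 (iv0 F498953)) (tt N105532 F498950) (tt N88615 F498951) (tt N121534 (iv4 F526903)) (tt N105529 F498952) (tt N121791 (iv6 F528340)) (tt N88614 (iv7 D219454)))
theorem Q116197 : ∀ i, i < 116197 → P i := stepQ 116196 Q116196 (allL N116196 (tt N116113 F498958) (tt N106284 (iv0 F498959)) (tt N89101 F498954) (tt N121791 (iv3 F528337)) (tt N88616 F498955) (tt N89087 F498956) (tt N88615 (iv6 D219455)) (tt N89357 F498957))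
theorem Q116198 : ∀ i, i < 116198 → P i := stepQ 116197 Q116197 (allL N116197 (tt N116445 (iv1 F500158)) (tt N90476 F498964) (tt N88624 F498960) (tt N94711 F498961) (tt N88618 (iv4 D219456)) (tt N107879 F498962) (tt N89360 F498963) (tt N120150 (iv7 F519316)))
theorem Q116199 : ∀ i, i < 116199 → P i := stepQ 116198 Q116198 (allL N116198 (tt N117072 (iv1 F503244)) (tt N111363 F498967) (tt N118605 (iv2 F511122)) (tt N93585 F498968) (tt N88622 (iv4 D219457)) (tt N109908 F498965) (tt N117827 (iv6 F507155)) (tt N110053 F498966))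
theorem Q116200 : ∀ i, i < 116200 → P i := stepQ 116199 Q116199 (allL N116199 (tt N120150 (iv1 F519318)) (tt N88624 (iv0 D219458)) (tt N116445 (iv2 F500153)) (tt N121765 F528181) (tt N104978 F498970) (tt N90477 F498969) (tt N121347 (iv6 F525891)) (tt N90476 (iv7 F498971)))
theorem Q116201 : ∀ i, i < 116201 → P i := stepQ 116200 Q116200 (allL N116200 (tt N90534 F498974) (tt N90535 (iv0 F498975)) (tt N121419 (iv2 F526251)) (tt N117539 (iv3 F505598)) (tt N88628 F498972) (tt N115595 F498973) (tt N88627 (iv6 D219459)) (tt N122097 (iv7 F530147)))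
theorem Q116202 : ∀ i, i < 116202 → P i := stepQ 116201 Q116201 (allL N116201 (tt N88628 (iv1 D219460)) (tt N90987 F498976) (tt N91005 (iv2 F498982)) (tt N106334 (iv3 F498980)) (tt N95396 F498979) (tt N113062 F498978) (tt N91010 F498981) (tt N89291 F498977))
theorem Q116203 : ∀ i, i < 116203 → P i := stepQ 116202 Q116202 (allL N116202 (tt N90548 F498987) (tt N89237 (iv0 F498988)) (tt N90662 F498983) (tt N90592 F498984) (tt N88631 F498985) (tt N96853 F498986) (tt N88630 (iv6 D219461)) (tt N90663 (iv7 F498989)))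
theorem Q116204 : ∀ i, i < 116204 → P i := stepQ 116203 Q116203 (allL N116203 (tt N90486 F498994) (tt N90483 F498995) (tt N117100 (iv2 F503382)) (tt N107125 F498990) (tt N88633 (iv4 D219462)) (tt N90488 F498991) (tt N90750 F498992) (tt N107491 F498993))
theorem Q116205 : ∀ i, i < 116205 → P i := stepQ 116204 Q116204 (allL N116204 (tt N105740 F498999) (tt N89042 F499000) (tt N89400 F498996) (tt N100840 F498997) (tt N102791 F498998) (tt N88637 (iv5 D219463)) (tt N89394 F499001) (tt N116212 (iv7 F499046)))
theorem Q116206 : ∀ i, i < 116206 → P i := stepQ 116205 Q116205 (allL N116205 (tt N89042 F499006) (tt N105740 F499007) (tt N116212 F499045) (tt N103938 F499002) (tt N105729 F499003) (tt N88638 (iv5 D219464)) (tt N105728 F499004) (tt N89400 F499005))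
theorem Q116207 : ∀ i, i < 116207 → P i := stepQ 116206 Q116206 (allL N116206 (tt N112071 F499013) (tt N100485 F499014) (tt N88642 F499008) (tt N100791 F499009) (tt N105176 F499010) (tt N88641 (iv5 D219465)) (tt N112379 F499011) (tt N105173 F499012))
theorem Q116208 : ∀ i, i < 116208 → P i := stepQ 116207 Q116207 (allL N116207 (tt N103236 F499020) (tt N103318 (iv0 F499021)) (tt N103302 F499015) (tt N102938 F499016) (tt N88647 F499017) (tt N88728 F499018) (tt N88646 (iv6 D219466)) (tt N88727 F499019))
theorem Q116209 : ∀ i, i < 116209 → P i := stepQ 116208 Q116208 (allL N116208 (tt N88653 (iv1 D219467)) (tt N118089 (iv0 F508521)) (tt N97533 F499027) (tt N102366 (iv3 F499025)) (tt N89595 F499024) (tt N97532 F499023) (tt N103306 (iv6 F499026)) (tt N112072 F499022))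
theorem Q116210 : ∀ i, i < 116210 → P i := stepQ 116209 Q116209 (allL N116209 (tt N102968 (iv1 F499032)) (tt N88659 (iv0 D219468)) (tt N102992 (iv2 F499031)) (tt N94168 F499030) (tt N99938 F499029) (tt N94167 F499028) (tt N99737 (iv6 F499034)) (tt N105339 F499033))
theorem Q116211 : ∀ i, i < 116211 → P i := stepQ 116210 Q116210 (allL N116210 (tt N88661 (iv1 D219469)) (tt N113133 F499035) (tt N114409 (iv2 F499037)) (tt N120827 F522952) (tt N117053 (iv4 F503140)) (tt N103699 F499036) (tt N120880 (iv6 F523251)) (tt N120373 (iv7 F520438)))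
theorem Q116212 : ∀ i, i < 116212 → P i := stepQ 116211 Q116211 (allL N116211 (tt N106157 F499040) (tt N120895 F523340) (tt N104529 F499038) (tt N118379 (iv3 F510036)) (tt N120007 (iv4 F518524)) (tt N88661 (iv5 D219470)) (tt N103532 F499039) (tt N120867 (iv7 F523171)))
theorem Q116213 : ∀ i, i < 116213 → P i := stepQ 116212 Q116212 (allL N116212 (tt N116400 F499900) (tt N88668 (iv0 D219471)) (tt N116205 (iv2 F499045)) (tt N104156 F499043) (tt N100508 F499042) (tt N112108 F499041) (tt N104155 F499044) (tt N116204 F499046))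
theorem Q116214 : ∀ i, i < 116214 → P i := stepQ 116213 Q116213 (allL N116213 (tt N88670 (iv1 D219472)) (tt N102901 F499047) (tt N115764 F499052) (tt N97862 (iv3 F499051)) (tt N103782 F499050) (tt N91805 F499049) (tt N88744 F499053) (tt N102251 F499048))
theorem Q116215 : ∀ i, i < 116215 → P i := stepQ 116214 Q116214 (allL N116214 (tt N92695 F499057) (tt N92706 F499058) (tt N92705 F499054) (tt N88671 F499055) (tt N121003 (iv4 F523966)) (tt N120595 (iv5 F521651)) (tt N88670 (iv6 D219473)) (tt N92704 F499056))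
theorem Q116216 : ∀ i, i < 116216 → P i := stepQ 116215 Q116215 (allL N116215 (tt N106888 F499062) (tt N106064 F499063) (tt N102038 F499059) (tt N120595 (iv3 F521649)) (tt N122521 D225780) (tt N88671 (iv5 D219474)) (tt N97443 F499060) (tt N106743 F499061))
theorem Q116217 : ∀ i, i < 116217 → P i := stepQ 116216 Q116216 (allL N116216 (tt N116443 (iv1 F500145)) (tt N114407 F499068) (tt N88675 F499064) (tt N104533 F499069) (tt N88674 (iv4 D219475)) (tt N103860 F499065) (tt N107090 F499066) (tt N103859 F499067))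
theorem Q116218 : ∀ i, i < 116218 → P i := stepQ 116217 Q116217 (allL N116217 (tt N103859 (iv1 F499073)) (tt N88675 (iv0 D219476)) (tt N116443 (iv2 F500140)) (tt N113577 F499072) (tt N104148 F499071) (tt N106157 F499070) (tt N88758 (iv6 F499074)) (tt N114407 F499075))
theorem Q116219 : ∀ i, i < 116219 → P i := stepQ 116218 Q116218 (allL N116218 (tt N88675 (iv1 D219477)) (tt N103859 F499076) (tt N114407 (iv2 F499078)) (tt N118666 (iv3 F511427)) (tt N94487 F499077) (tt N120895 (iv5 F523336)) (tt N94485 (iv6 F499079)) (tt N116443 (iv7 F500143)))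
theorem Q116220 : ∀ i, i < 116220 → P i := stepQ 116219 Q116219 (allL N116219 (tt N88682 (iv1 F499084)) (tt N88680 (iv0 D219478)) (tt N101733 (iv2 F499083)) (tt N93974 F499082) (tt N91526 F499081) (tt N97666 F499080) (tt N93972 (iv6 F499086)) (tt N101734 F499085))
theorem Q116221 : ∀ i, i < 116221 → P i := stepQ 116220 Q116220 (allL N116220 (tt N96976 (iv1 F499092)) (tt N96974 (iv0 F499091)) (tt N101735 F499087) (tt N112492 F499088) (tt N101732 F499089) (tt N119390 (iv5 F515381)) (tt N88680 (iv6 D219479)) (tt N109848 F499090))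
theorem Q116222 : ∀ i, i < 116222 → P i := stepQ 116221 Q116221 (allL N116221 (tt N102375 (iv1 F499097)) (tt N88681 (iv0 D219480)) (tt N111683 (iv2 F499096)) (tt N95850 (iv3 F499099)) (tt N93070 F499094) (tt N97757 F499093) (tt N88777 F499095) (tt N93066 F499098))
theorem Q116223 : ∀ i, i < 116223 → P i := stepQ 116222 Q116222 (allL N116222 (tt N111680 F499104) (tt N111675 (iv0 F499105)) (tt N111679 F499100) (tt N88683 (iv3 D219481)) (tt N118814 (iv4 F512213)) (tt N90414 F499101) (tt N112487 F499102) (tt N111651 F499103))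
theorem Q116224 : ∀ i, i < 116224 → P i := stepQ 116223 Q116223 (allL N116223 (tt N88698 F499110) (tt N88688 (iv0 D219482)) (tt N88696 (iv2 F499107)) (tt N113103 (iv3 F499108)) (tt N119507 (iv4 F515966)) (tt N113102 F499106) (tt N116630 (iv6 F501058)) (tt N88697 (iv7 F499109)))
theorem Q116225 : ∀ i, i < 116225 → P i := stepQ 116224 Q116224 (allL N116224 (tt N88688 (iv1 D219483)) (tt N88698 F499111) (tt N88697 F499114) (tt N105449 (iv3 F499113)) (tt N120633 (iv4 F521867)) (tt N121298 (iv5 F525617)) (tt N105448 F499115) (tt N88696 F499112))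
theorem Q116226 : ∀ i, i < 116226 → P i := stepQ 116225 Q116225 (allL N116225 (tt N88697 (iv1 F499120)) (tt N88696 F499121) (tt N88698 F499116) (tt N113138 F499117) (tt N104552 F499118) (tt N109813 F499119) (tt N122357 (iv6 F531615)) (tt N88688 (iv7 D219484)))
theorem Q116227 : ∀ i, i < 116227 → P i := stepQ 116226 Q116226 (allL N116226 (tt N122355 (iv1 F531604)) (tt N113135 (iv0 F499123)) (tt N119495 (iv2 F515899)) (tt N88689 (iv3 D219485)) (tt N105486 F499122) (tt N119684 (iv5 F516903)) (tt N119494 F515898) (tt N122354 (iv7 F531592)))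
theorem Q116228 : ∀ i, i < 116228 → P i := stepQ 116227 Q116227 (allL N116227 (tt N103547 F499129) (tt N97960 F499130) (tt N102921 F499124) (tt N88758 F499125) (tt N102912 F499126) (tt N88690 (iv5 D219486)) (tt N113577 F499127) (tt N102923 F499128))
theorem Q116229 : ∀ i, i < 116229 → P i := stepQ 116228 Q116228 (allL N116228 (tt N120850 (iv1 F523078)) (tt N88693 (iv0 D219487)) (tt N120969 (iv2 F523767)) (tt N92262 F499131) (tt N118044 (iv4 F508257)) (tt N92260 (iv5 F499132)) (tt N119536 (iv6 F516121)) (tt N120842 (iv7 F523030)))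
theorem Q116230 : ∀ i, i < 116230 → P i := stepQ 116229 Q116229 (allL N116229 (tt N88693 (iv1 D219488)) (tt N120850 (iv0 F523077)) (tt N120842 (iv2 F523026)) (tt N104483 (iv3 F499134)) (tt N104911 F499133) (tt N116282 (iv5 F499343)) (tt N104481 (iv6 F499135)) (tt N120969 (iv7 F523771)))
theorem Q116231 : ∀ i, i < 116231 → P i := stepQ 116230 Q116230 (allL N116230 (tt N120969 (iv1 F523773)) (tt N120842 (iv0 F523031)) (tt N88693 (iv2 D219489)) (tt N104537 F499136) (tt N88704 F499137) (tt N105754 (iv5 F499139)) (tt N104549 F499138) (tt N120850 (iv7 F523076)))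
theorem Q116232 : ∀ i, i < 116232 → P i := stepQ 116231 Q116231 (allL N116231 (tt N105757 F499144) (tt N105753 F499145) (tt N105754 F499140) (tt N88694 F499141) (tt N103386 F499143) (tt N88693 (iv5 D219490)) (tt N120815 (iv6 F522877)) (tt N105755 F499142))
theorem Q116233 : ∀ i, i < 116233 → P i := stepQ 116232 Q116232 (allL N116232 (tt N104303 F499148) (tt N104535 (iv0 F499149)) (tt N104534 F499146) (tt N119446 (iv3 F515663)) (tt N88702 (iv4 D219491)) (tt N120808 (iv5 F522841)) (tt N104615 (iv6 F499150)) (tt N104495 F499147))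
theorem Q116234 : ∀ i, i < 116234 → P i := stepQ 116233 Q116233 (allL N116233 (tt N102070 F499153) (tt N117361 (iv0 F504668)) (tt N119410 (iv2 F515474)) (tt N102361 F499151) (tt N104615 F499152) (tt N102389 (iv5 F499154)) (tt N88702 (iv6 D219492)) (tt N119409 F515468))
theorem Q116235 : ∀ i, i < 116235 → P i := stepQ 116234 Q116234 (allL N116234 (tt N97488 F499160) (tt N117709 (iv0 F506555)) (tt N88705 F499155) (tt N103462 F499156) (tt N104549 F499157) (tt N103461 F499158) (tt N88704 (iv6 D219493)) (tt N115834 F499159))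
theorem Q116236 : ∀ i, i < 116236 → P i := stepQ 116235 Q116235 (allL N116235 (tt N115834 F499165) (tt N88705 (iv0 D219494)) (tt N97488 (iv2 F499164)) (tt N97512 F499162) (tt N120628 (iv4 F521839)) (tt N102177 F499161) (tt N92682 F499163) (tt N117709 (iv7 F506554)))
theorem Q116237 : ∀ i, i < 116237 → P i := stepQ 116236 Q116236 (allL N116236 (tt N117709 F506556) (tt N97488 (iv0 F499171)) (tt N115834 F499166) (tt N88706 F499167) (tt N115413 F499168) (tt N111751 F499169) (tt N103303 F499170) (tt N88705 (iv7 D219495)))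
theorem Q116238 : ∀ i, i < 116238 → P i := stepQ 116237 Q116237 (allL N116237 (tt N122420 F532004) (tt N121773 (iv0 F528237)) (tt N88716 F499172) (tt N104539 F499173) (tt N88713 F499174) (tt N121056 F524270) (tt N88712 (iv6 D219496)) (tt N122490 (iv7 F532444)))
theorem Q116239 : ∀ i, i < 116239 → P i := stepQ 116238 Q116238 (allL N116238 (tt N88718 (iv1 F499177)) (tt N88717 F499178) (tt N88719 F499175) (tt N122357 (iv3 F531612)) (tt N122490 (iv4 F532442)) (tt N122286 (iv5 F531190)) (tt N113138 F499176) (tt N88713 (iv7 D219497)))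
theorem Q116240 : ∀ i, i < 116240 → P i := stepQ 116239 Q116239 (allL N116239 (tt N104536 (iv1 F499181)) (tt N88714 (iv0 D219498)) (tt N120825 (iv2 F522937)) (tt N111244 F499180) (tt N119448 (iv4 F515674)) (tt N105762 F499179) (tt N118090 F508530) (tt N105761 (iv7 F499182)))
theorem Q116241 : ∀ i, i < 116241 → P i := stepQ 116240 Q116240 (allL N116240 (tt N88714 (iv1 D219499)) (tt N104536 F499183) (tt N105761 F499186) (tt N120628 (iv3 F521842)) (tt N115748 (iv4 F499184)) (tt N103762 (iv5 F499185)) (tt N111240 F499187) (tt N120825 (iv7 F522941)))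
theorem Q116242 : ∀ i, i < 116242 → P i := stepQ 116241 Q116241 (allL N116241 (tt N104495 (iv1 F499193)) (tt N104534 F499192) (tt N104303 F499188) (tt N88715 F499189) (tt N104302 F499191) (tt N88714 (iv5 D219500)) (tt N120797 (iv6 F522774)) (tt N104535 F499190))
theorem Q116243 : ∀ i, i < 116243 → P i := stepQ 116242 Q116242 (allL N116242 (tt N120619 (iv1 F521795)) (tt N97559 (iv0 F499196)) (tt N120616 F521775) (tt N88716 F499194) (tt N88724 F499195) (tt N122522 D225781) (tt N88714 (iv6 D219501)) (tt N120617 (iv7 F521781)))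
theorem Q116244 : ∀ i, i < 116244 → P i := stepQ 116243 Q116243 (allL N116243 (tt N114376 F499200) (tt N109862 (iv0 F499201)) (tt N98416 F499197) (tt N120797 (iv3 F522772)) (tt N98413 F499198) (tt N117651 (iv5 F506223)) (tt N88715 (iv6 D219502)) (tt N109798 F499199))
theorem Q116245 : ∀ i, i < 116245 → P i := stepQ 116244 Q116244 (allL N116244 (tt N122490 (iv1 F532445)) (tt N88716 (iv0 D219503)) (tt N122420 (iv2 F531999)) (tt N109862 F508133) (tt N121788 (iv4 F528321)) (tt N121067 F524338) (tt N120885 (iv6 F523284)) (tt N121773 (iv7 F528236)))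
theorem Q116246 : ∀ i, i < 116246 → P i := stepQ 116245 Q116245 (allL N116245 (tt N88716 (iv1 D219504)) (tt N122490 F532446) (tt N121773 (iv2 F528233)) (tt N122359 (iv3 F531622)) (tt N120374 (iv4 F520443)) (tt N122523 D225782) (tt N120373 (iv6 F520441)) (tt N122420 (iv7 F532002)))
theorem Q116247 : ∀ i, i < 116247 → P i := stepQ 116246 Q116246 (allL N116246 (tt N120714 F522302) (tt N121057 F524277) (tt N121056 (iv2 F524271)) (tt N122522 (iv3 F532624)) (tt N117652 (iv4 F506228)) (tt N88716 (iv5 D219505)) (tt N117651 F506226) (tt N121055 F524263))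
theorem Q116248 : ∀ i, i < 116248 → P i := stepQ 116247 Q116247 (allL N116247 (tt N121773 (iv1 F528238)) (tt N122420 (iv0 F532003)) (tt N122490 (iv2 F532440)) (tt N120617 F521784) (tt N88719 F499202) (tt N121055 (iv5 F524262)) (tt N122355 (iv6 F531602)) (tt N88716 (iv7 D219506)))
theorem Q116249 : ∀ i, i < 116249 → P i := stepQ 116248 Q116248 (allL N116248 (tt N121024 F524080) (tt N103564 (iv0 F499207)) (tt N121026 (iv2 F524088)) (tt N104373 F499203) (tt N88717 (iv4 D219507)) (tt N115615 (iv5 F499205)) (tt N103676 F499204) (tt N120911 (iv7 F523422)))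
theorem Q116250 : ∀ i, i < 116250 → P i := stepQ 116249 Q116249 (allL N116249 (tt N103564 F499209) (tt N121024 (iv0 F524079)) (tt N120911 (iv2 F523418)) (tt N111099 F499208) (tt N88718 (iv4 D219508)) (tt N120698 F522213) (tt N120387 (iv6 F520518)) (tt N121026 (iv7 F524085)))
theorem Q116251 : ∀ i, i < 116251 → P i := stepQ 116250 Q116250 (allL N116250 (tt N99771 F499214) (tt N109208 F499215) (tt N107542 F499210) (tt N99136 F499211) (tt N98865 F499212) (tt N99872 F499213) (tt N88720 (iv6 D219509)) (tt N99949 (iv7 F499216)))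
theorem Q116252 : ∀ i, i < 116252 → P i := stepQ 116251 Q116251 (allL N116251 (tt N90810 (iv1 F499220)) (tt N88734 (iv0 D219510)) (tt N90812 (iv2 F499219)) (tt N106623 (iv3 F499223)) (tt N90793 F499217) (tt N113993 (iv5 F499224)) (tt N90792 F499218) (tt N89893 F499221))
theorem Q116253 : ∀ i, i < 116253 → P i := stepQ 116252 Q116252 (allL N116252 (tt N116132 (iv1 F499230)) (tt N91801 F499229) (tt N116172 F499225) (tt N100891 F499226) (tt N89410 F499228) (tt N88734 (iv5 D219511)) (tt N89409 F499227) (tt N116269 (iv7 F499285)))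
theorem Q116254 : ∀ i, i < 116254 → P i := stepQ 116253 Q116253 (allL N116253 (tt N117684 F506407) (tt N92254 (iv0 F499234)) (tt N88739 F499231) (tt N120928 (iv3 F523531)) (tt N88737 F499232) (tt N99982 F499233) (tt N88736 (iv6 D219512)) (tt N120900 (iv7 F523367)))
theorem Q116255 : ∀ i, i < 116255 → P i := stepQ 116254 Q116254 (allL N116254 (tt N114045 F499241) (tt N121582 (iv0 F527153)) (tt N88741 F499238) (tt N113022 F499239) (tt N122247 (iv4 F530997)) (tt N88737 (iv5 D219513)) (tt N113020 F499240) (tt N122374 (iv7 F531719)))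
theorem Q116256 : ∀ i, i < 116256 → P i := stepQ 116255 Q116255 (allL N116255 (tt N88738 (iv1 D219514)) (tt N117947 F507737) (tt N105756 (iv2 F507738)) (tt N120690 (iv3 F522167)) (tt N118123 (iv4 F508732)) (tt N105753 (iv5 F507739)) (tt N114362 F507740) (tt N118121 (iv7 F508721)))
theorem Q116257 : ∀ i, i < 116257 → P i := stepQ 116256 Q116256 (allL N116256 (tt N118121 (iv1 F508723)) (tt N105756 F499244) (tt N88738 (iv2 D219515)) (tt N104541 F499242) (tt N88745 F499243) (tt N117758 (iv5 F506820)) (tt N118128 (iv6 F508749)) (tt N117947 F507735))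
theorem Q116258 : ∀ i, i < 116258 → P i := stepQ 116257 Q116257 (allL N116257 (tt N98619 (iv1 F499249)) (tt N98616 (iv0 F499248)) (tt N118128 F508750) (tt N88739 F499245) (tt N88746 F499246) (tt N98506 F499247) (tt N88738 (iv6 D219516)) (tt N117945 (iv7 F507723)))
theorem Q116259 : ∀ i, i < 116259 → P i := stepQ 116258 Q116258 (allL N116258 (tt N88739 (iv1 D219517)) (tt N120900 (iv0 F523369)) (tt N92254 F499252) (tt N103399 (iv3 F499250)) (tt N105069 (iv4 F499251)) (tt N119633 (iv5 F516619)) (tt N92252 F499253) (tt N117684 (iv7 F506405)))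
theorem Q116260 : ∀ i, i < 116260 → P i := stepQ 116259 Q116259 (allL N116259 (tt N92254 (iv1 F499257)) (tt N117684 (iv0 F506406)) (tt N120900 (iv2 F523364)) (tt N117945 (iv3 F507720)) (tt N88742 F499254) (tt N104592 F499255) (tt N104593 F499256) (tt N88739 (iv7 D219518)))
theorem Q116261 : ∀ i, i < 116261 → P i := stepQ 116260 Q116260 (allL N116260 (tt N120887 F523299) (tt N120909 F523410) (tt N114370 F499258) (tt N116443 (iv3 F500141)) (tt N88740 (iv4 D219519)) (tt N121348 (iv5 F525898)) (tt N107046 F499259) (tt N118666 (iv7 F511429)))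
theorem Q116262 : ∀ i, i < 116262 → P i := stepQ 116261 Q116261 (allL N116261 (tt N113739 F499263) (tt N113738 F499264) (tt N113741 F499260) (tt N107050 F499261) (tt N122524 D225783) (tt N88740 (iv5 D219520)) (tt N119603 (iv6 F516471)) (tt N113740 F499262))
theorem Q116263 : ∀ i, i < 116263 → P i := stepQ 116262 Q116262 (allL N116262 (tt N122374 (iv1 F531718)) (tt N88741 (iv0 D219521)) (tt N114045 (iv2 F499266)) (tt N116663 (iv3 F501196)) (tt N118512 F523275) (tt N114437 F499265) (tt N116327 (iv6 F499577)) (tt N121582 (iv7 F527152)))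
theorem Q116264 : ∀ i, i < 116264 → P i := stepQ 116263 Q116263 (allL N116263 (tt N120327 F520209) (tt N122249 F531006) (tt N122247 (iv2 F530995)) (tt N122525 D225784) (tt N88741 (iv4 D219522)) (tt N121347 (iv5 F525893)) (tt N114396 F499267) (tt N122526 D225785))
theorem Q116265 : ∀ i, i < 116265 → P i := stepQ 116264 Q116264 (allL N116264 (tt N121582 F527154) (tt N114045 (iv0 F499270)) (tt N122374 (iv2 F531723)) (tt N88757 F499268) (tt N122526 (iv4 F532650)) (tt N88742 F499269) (tt N122380 (iv6 F531755)) (tt N88741 (iv7 D219523)))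
theorem Q116266 : ∀ i, i < 116266 → P i := stepQ 116265 Q116265 (allL N116265 (tt N88754 (iv1 F499273)) (tt N88753 (iv0 D219524)) (tt N112989 (iv2 F499272)) (tt N121250 (iv3 F525370)) (tt N112987 F499271) (tt N116510 (iv5 F500531)) (tt N113828 (iv6 F499275)) (tt N112984 F499274))
theorem Q116267 : ∀ i, i < 116267 → P i := stepQ 116266 Q116266 (allL N116266 (tt N90811 F499276) (tt N113993 F499277) (tt N122021 (iv2 F529680)) (tt N122527 D225786) (tt N88753 (iv4 D219525)) (tt N122178 (iv5 F530608)) (tt N122020 (iv6 F529679)) (tt N122360 (iv7 F531631)))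
theorem Q116268 : ∀ i, i < 116268 → P i := stepQ 116267 Q116267 (allL N116267 (tt N114612 F499279) (tt N114610 (iv0 F499280)) (tt N116768 (iv2 F501722)) (tt N121621 F527382) (tt N122020 (iv4 F529675)) (tt N116403 (iv5 F499912)) (tt N88753 (iv6 D219526)) (tt N116176 F499278))
theorem Q116269 : ∀ i, i < 116269 → P i := stepQ 116268 Q116268 (allL N116268 (tt N113993 (iv1 F500534)) (tt N90811 F499282) (tt N122360 (iv2 F531627)) (tt N117264 F504175) (tt N88754 (iv4 D219527)) (tt N121163 (iv5 F524877)) (tt N113945 F499281) (tt N122021 (iv7 F529684)))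
theorem Q116270 : ∀ i, i < 116270 → P i := stepQ 116269 Q116269 (allL N116269 (tt N114383 F499286) (tt N113889 F499287) (tt N117216 (iv2 F503943)) (tt N113387 F499288) (tt N88755 (iv4 D219528)) (tt N113385 F499283) (tt N113952 F499284) (tt N116252 F499285))
theorem Q116271 : ∀ i, i < 116271 → P i := stepQ 116270 Q116270 (allL N116270 (tt N88756 (iv1 D219529)) (tt N113208 F499289) (tt N92030 F499294) (tt N100969 (iv3 F499293)) (tt N91802 F499292) (tt N115756 F499291) (tt N122051 (iv6 F529864)) (tt N113894 F499290))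
theorem Q116272 : ∀ i, i < 116272 → P i := stepQ 116271 Q116271 (allL N116271 (tt N117387 F504779) (tt N122327 (iv0 F531444)) (tt N122528 D225787) (tt N88756 (iv3 D219530)) (tt N122525 (iv4 F532644)) (tt N113209 F499295) (tt N113958 F499296) (tt N122164 (iv7 F530526)))
theorem Q116273 : ∀ i, i < 116273 → P i := stepQ 116272 Q116272 (allL N116272 (tt N103849 F499300) (tt N120644 (iv0 F521928)) (tt N119684 (iv2 F516900)) (tt N88759 (iv3 D219531)) (tt N105093 F499297) (tt N119495 (iv5 F515902)) (tt N103835 F499298) (tt N107046 F499299))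
theorem Q116274 : ∀ i, i < 116274 → P i := stepQ 116273 Q116273 (allL N116273 (tt N104540 (iv1 F499303)) (tt N88760 (iv0 D219532)) (tt N120881 (iv2 F523255)) (tt N121206 (iv3 F525128)) (tt N102929 F499302) (tt N104495 F499301) (tt N119283 (iv6 F514815)) (tt N120808 (iv7 F522842)))
theorem Q116275 : ∀ i, i < 116275 → P i := stepQ 116274 Q116274 (allL N116274 (tt N120881 (iv1 F523261)) (tt N120808 (iv0 F522843)) (tt N88760 (iv2 D219533)) (tt N102565 F499304) (tt N88767 F499305) (tt N102564 F499306) (tt N117946 (iv6 F507727)) (tt N104540 F499307))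
theorem Q116276 : ∀ i, i < 116276 → P i := stepQ 116275 Q116275 (allL N116275 (tt N102925 (iv1 F499312)) (tt N102927 (iv0 F499311)) (tt N117946 (iv2 F507726)) (tt N88762 F499308) (tt N88768 F499309) (tt N98646 F499310) (tt N88760 (iv6 D219534)) (tt N119436 (iv7 F515616)))
theorem Q116277 : ∀ i, i < 116277 → P i := stepQ 116276 Q116276 (allL N116276 (tt N109159 F499314) (tt N118142 (iv0 F508831)) (tt N120918 (iv2 F523466)) (tt N98646 F499313) (tt N98329 F499315) (tt N88762 (iv5 D219535)) (tt N119623 (iv6 F516570)) (tt N119563 (iv7 F516273)))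
theorem Q116278 : ∀ i, i < 116278 → P i := stepQ 116277 Q116277 (allL N116277 (tt N107067 F499318) (tt N107066 (iv0 F499319)) (tt N107069 F499316) (tt N119681 (iv3 F516885)) (tt N88763 (iv4 D219536)) (tt N118144 (iv5 F508834)) (tt N102609 (iv6 F499320)) (tt N107064 F499317))
theorem Q116279 : ∀ i, i < 116279 → P i := stepQ 116278 Q116278 (allL N116278 (tt N107072 (iv1 F499325)) (tt N89473 F499326) (tt N107073 F499321) (tt N113155 F499322) (tt N92388 F499324) (tt N88763 (iv5 D219537)) (tt N121518 (iv6 F526818)) (tt N107065 F499323))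
theorem Q116280 : ∀ i, i < 116280 → P i := stepQ 116279 Q116279 (allL N116279 (tt N106081 F499331) (tt N105250 F499332) (tt N105284 F499327) (tt N107059 F499328) (tt N102609 F499329) (tt N121930 (iv5 F529128)) (tt N88763 (iv6 D219538)) (tt N106080 F499330))
theorem Q116281 : ∀ i, i < 116281 → P i := stepQ 116280 Q116280 (allL N116280 (tt N107071 (iv1 F499336)) (tt N88764 (iv0 D219539)) (tt N113278 (iv2 F499335)) (tt N91714 F499334) (tt N92392 F499333) (tt N120824 (iv5 F522933)) (tt N121727 (iv6 F527988)) (tt N113279 F499337))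
theorem Q116282 : ∀ i, i < 116282 → P i := stepQ 116281 Q116281 (allL N116281 (tt N108028 F499342) (tt N105052 F499341) (tt N113277 F499338) (tt N106118 F499339) (tt N88764 (iv4 D219540)) (tt N117799 (iv5 F507030)) (tt N89014 F499340) (tt N117791 (iv7 F506990)))
theorem Q116283 : ∀ i, i < 116283 → P i := stepQ 116282 Q116282 (allL N116282 (tt N117759 (iv1 F506827)) (tt N117758 (iv0 F506826)) (tt N117760 (iv2 F506834)) (tt N120925 (iv3 F523509)) (tt N88766 (iv4 D219541)) (tt N116229 F499343) (tt N118995 F513179) (tt N117755 F506808))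
theorem Q116284 : ∀ i, i < 116284 → P i := stepQ 116283 Q116283 (allL N116283 (tt N102345 (iv1 F499348)) (tt N104427 F499349) (tt N92697 F499344) (tt N88772 F499345) (tt N119436 (iv4 F515617)) (tt N115414 F499346) (tt N93219 F499347) (tt N88768 (iv7 D219542)))
theorem Q116285 : ∀ i, i < 116285 → P i := stepQ 116284 Q116284 (allL N116284 (tt N102931 F499354) (tt N102928 (iv0 F499355)) (tt N102929 F499350) (tt N88777 (iv3 D219543)) (tt N120881 (iv4 F523259)) (tt N93231 F499351) (tt N95850 F499352) (tt N102930 F499353))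
theorem Q116286 : ∀ i, i < 116286 → P i := stepQ 116285 Q116285 (allL N116285 (tt N95136 (iv1 F499362)) (tt N105117 F499361) (tt N88780 (iv2 D219544)) (tt N91210 F499356) (tt N102543 F499357) (tt N91209 F499358) (tt N102549 F499359) (tt N103775 F499360))
theorem Q116287 : ∀ i, i < 116287 → P i := stepQ 116286 Q116286 (allL N116286 (tt N105487 F499367) (tt N96594 (iv0 F499368)) (tt N105455 F499363) (tt N88785 (iv3 D219545)) (tt N122354 (iv4 F531594)) (tt N101393 F499364) (tt N104478 F499365) (tt N105486 F499366))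
theorem Q116288 : ∀ i, i < 116288 → P i := stepQ 116287 Q116287 (allL N116287 (tt N88786 (iv1 D219546)) (tt N90146 F499369) (tt N90145 (iv2 F499373)) (tt N116314 (iv3 F499511)) (tt N105095 F499372) (tt N107041 F499371) (tt N121195 (iv6 F525069)) (tt N90144 F499370))
theorem Q116289 : ∀ i, i < 116289 → P i := stepQ 116288 Q116288 (allL N116288 (tt N113312 F499379) (tt N107253 F499380) (tt N106387 F499374) (tt N104142 F499375) (tt N106370 F499376) (tt N88787 (iv5 D219547)) (tt N105050 F499377) (tt N106386 F499378))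
theorem Q116290 : ∀ i, i < 116290 → P i := stepQ 116289 Q116289 (allL N116289 (tt N102416 F499385) (tt N106890 (iv0 F499386)) (tt N113050 F499381) (tt N102232 F499382) (tt N110284 F499383) (tt N113042 F499384) (tt N88791 (iv6 D219548)) (tt N120606 (iv7 F521720)))
theorem Q116291 : ∀ i, i < 116291 → P i := stepQ 116290 Q116290 (allL N116290 (tt N114734 (iv1 F499396)) (tt N88805 (iv0 D219549)) (tt N111290 (iv2 F499395)) (tt N116168 F499393) (tt N113777 F499392) (tt N111276 F499391) (tt N89704 F499394) (tt N111296 F499397))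
theorem Q116292 : ∀ i, i < 116292 → P i := stepQ 116291 Q116291 (allL N116291 (tt N119995 F518454) (tt N119998 F518472) (tt N119997 (iv2 F518464)) (tt N105952 F499398) (tt N114677 F499399) (tt N105951 F499400) (tt N88809 (iv6 D219550)) (tt N106259 F499401))
theorem Q116293 : ∀ i, i < 116293 → P i := stepQ 116292 Q116292 (allL N116292 (tt N103928 F499406) (tt N120805 (iv0 F522822)) (tt N102378 F499403) (tt N88815 F499404) (tt N102376 F499405) (tt N88814 (iv5 D219551)) (tt N92769 F499407) (tt N119333 (iv7 F515074)))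
theorem Q116294 : ∀ i, i < 116294 → P i := stepQ 116293 Q116293 (allL N116293 (tt N113895 F499413) (tt N113897 F499414) (tt N89606 F499408) (tt N115990 F499409) (tt N88823 (iv4 D219552)) (tt N89030 F499410) (tt N88828 F499411) (tt N89610 F499412))
theorem Q116295 : ∀ i, i < 116295 → P i := stepQ 116294 Q116294 (allL N116294 (tt N115100 (iv1 F499420)) (tt N113027 (iv0 F499419)) (tt N113065 F499415) (tt N114683 F499416) (tt N114051 F499417) (tt N113245 F499418) (tt N88825 (iv6 D219553)) (tt N121301 (iv7 F525636)))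
theorem Q116296 : ∀ i, i < 116296 → P i := stepQ 116295 Q116295 (allL N116295 (tt N116812 F501971) (tt N88832 (iv0 D219554)) (tt N120364 (iv2 F520385)) (tt N112899 F499421) (tt N121688 (iv4 F527755)) (tt N116395 (iv5 F499865)) (tt N113374 F499422) (tt N113015 (iv7 F499423)))
theorem Q116297 : ∀ i, i < 116297 → P i := stepQ 116296 Q116296 (allL N116296 (tt N88832 (iv1 D219555)) (tt N116812 (iv0 F501970)) (tt N113015 F499425) (tt N116821 (iv3 F502004)) (tt N121689 (iv4 F527759)) (tt N116484 (iv5 F500385)) (tt N109555 (iv6 F499424)) (tt N120364 (iv7 F520388)))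
theorem Q116298 : ∀ i, i < 116298 → P i := stepQ 116297 Q116297 (allL N116297 (tt N113015 (iv1 F499427)) (tt N120364 F520390) (tt N116812 F501972) (tt N120293 (iv3 F520071)) (tt N110870 F499426) (tt N121198 (iv5 F525087)) (tt N121516 (iv6 F526806)) (tt N88832 (iv7 D219556)))
theorem Q116299 : ∀ i, i < 116299 → P i := stepQ 116298 Q116298 (allL N116298 (tt N89697 (iv1 F499431)) (tt N88834 (iv0 D219557)) (tt N114681 (iv2 F499430)) (tt N113071 (iv3 F499433)) (tt N114487 F499429) (tt N114482 F499428) (tt N121911 F529021) (tt N113507 F499432))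
theorem Q116300 : ∀ i, i < 116300 → P i := stepQ 116299 Q116299 (allL N116299 (tt N114487 (iv1 F499438)) (tt N114485 (iv0 F499437)) (tt N114738 F499434) (tt N114750 F499435) (tt N116723 (iv4 F501505)) (tt N114332 F499436) (tt N88835 (iv6 D219558)) (tt N116707 (iv7 F501420)))
theorem Q116301 : ∀ i, i < 116301 → P i := stepQ 116300 Q116300 (allL N116300 (tt N88858 F499444) (tt N105714 (iv0 F499445)) (tt N110320 F499439) (tt N100312 F499440) (tt N109758 F499441) (tt N114393 F499442) (tt N88843 (iv6 D219559)) (tt N104203 F499443))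
theorem Q116302 : ∀ i, i < 116302 → P i := stepQ 116301 Q116301 (allL N116301 (tt N107969 F499449) (tt N107976 F499450) (tt N89674 F499446) (tt N120543 (iv3 F521359)) (tt N89663 F499447) (tt N88856 F499448) (tt N88849 (iv6 D219560)) (tt N119225 (iv7 F514465)))
theorem Q116303 : ∀ i, i < 116303 → P i := stepQ 116302 Q116302 (allL N116302 (tt N88850 (iv1 D219561)) (tt N89667 F499451) (tt N94144 F499456) (tt N103720 (iv3 F499455)) (tt N109593 F499454) (tt N94143 F499453) (tt N117770 (iv6 F506877)) (tt N110289 F499452))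
theorem Q116304 : ∀ i, i < 116304 → P i := stepQ 116303 Q116303 (allL N116303 (tt N119175 F514200) (tt N121047 (iv0 F524218)) (tt N113088 F499457) (tt N88856 F499458) (tt N119226 (iv4 F514471)) (tt N120543 (iv5 F521361)) (tt N88853 (iv6 D219562)) (tt N121167 (iv7 F524901)))
theorem Q116305 : ∀ i, i < 116305 → P i := stepQ 116304 Q116304 (allL N116304 (tt N114664 F499460) (tt N109405 (iv0 F499461)) (tt N116317 (iv2 F499527)) (tt N90063 F499459) (tt N119998 (iv4 F518469)) (tt N121263 (iv5 F525451)) (tt N88857 (iv6 D219563)) (tt N116316 F499522))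
theorem Q116306 : ∀ i, i < 116306 → P i := stepQ 116305 Q116305 (allL N116305 (tt N89686 F499467) (tt N89690 F499468) (tt N114679 F499462) (tt N110159 F499463) (tt N112884 F499466) (tt N88860 (iv5 D219564)) (tt N88861 F499464) (tt N114680 F499465))
theorem Q116307 : ∀ i, i < 116307 → P i := stepQ 116306 Q116306 (allL N116306 (tt N89090 F499473) (tt N89095 F499474) (tt N113090 F499469) (tt N88864 F499470) (tt N89679 F499471) (tt N113546 F499472) (tt N88862 (iv6 D219565)) (tt N113244 F499475))
theorem Q116308 : ∀ i, i < 116308 → P i := stepQ 116307 Q116307 (allL N116307 (tt N88864 (iv1 D219566)) (tt N113544 F499476) (tt N120262 (iv2 F519880)) (tt N88925 (iv3 F499479)) (tt N107981 F499478) (tt N122450 (iv5 F532182)) (tt N117312 (iv6 F504413)) (tt N107977 F499477))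
theorem Q116309 : ∀ i, i < 116309 → P i := stepQ 116308 Q116308 (allL N116308 (tt N120262 F519885) (tt N107977 (iv0 F499485)) (tt N113544 F499480) (tt N113244 F499481) (tt N107612 F499482) (tt N91155 F499483) (tt N99513 F499484) (tt N88864 (iv7 D219567)))
theorem Q116310 : ∀ i, i < 116310 → P i := stepQ 116309 Q116309 (allL N116309 (tt N113098 (iv1 F499488)) (tt N88868 (iv0 D219568)) (tt N91068 (iv2 F499487)) (tt N119176 (iv3 F514203)) (tt N101379 (iv4 F499489)) (tt N91067 F499486) (tt N119175 (iv6 F514201)) (tt N101375 F499490))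
theorem Q116311 : ∀ i, i < 116311 → P i := stepQ 116310 Q116310 (allL N116310 (tt N88868 (iv1 D219569)) (tt N113098 F499491) (tt N101375 F499496) (tt N89274 (iv3 F499494)) (tt N101371 F499497) (tt N89273 F499493) (tt N101370 (iv6 F499495)) (tt N91068 F499492))
theorem Q116312 : ∀ i, i < 116312 → P i := stepQ 116311 Q116311 (allL N116311 (tt N101375 (iv1 F499501)) (tt N91068 F499502) (tt N113098 F499498) (tt N88876 F499499) (tt N122244 (iv4 F530978)) (tt N90750 F499500) (tt N121784 (iv6 F528296)) (tt N88868 (iv7 D219570)))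
theorem Q116313 : ∀ i, i < 116313 → P i := stepQ 116312 Q116312 (allL N116312 (tt N114667 F499504) (tt N107005 F499505) (tt N116320 F499544) (tt N119204 (iv3 F514345)) (tt N97049 F499503) (tt N88870 (iv5 D219571)) (tt N117743 (iv6 F506745)) (tt N116319 F499537))
theorem Q116314 : ∀ i, i < 116314 → P i := stepQ 116313 Q116313 (allL N116313 (tt N88877 (iv1 D219572)) (tt N116924 (iv0 F502522)) (tt N114624 F499509) (tt N113841 (iv3 F499507)) (tt N114305 (iv4 F499508)) (tt N119201 (iv5 F514331)) (tt N114304 F499510) (tt N98393 F499506))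
theorem Q116315 : ∀ i, i < 116315 → P i := stepQ 116314 Q116314 (allL N116314 (tt N98393 (iv1 F499515)) (tt N114624 F499514) (tt N88877 (iv2 D219573)) (tt N116287 F499511) (tt N98332 F499512) (tt N118742 (iv5 F511835)) (tt N105806 F499513) (tt N116924 (iv7 F502521)))
theorem Q116316 : ∀ i, i < 116316 → P i := stepQ 116315 Q116315 (allL N116315 (tt N111264 F499518) (tt N117726 F506646) (tt N117724 (iv2 F506638)) (tt N117626 (iv3 F506066)) (tt N97811 F499516) (tt N121336 (iv5 F525841)) (tt N88878 (iv6 D219574)) (tt N105883 F499517))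
theorem Q116317 : ∀ i, i < 116317 → P i := stepQ 116316 Q116316 (allL N116316 (tt N121692 (iv1 F527780)) (tt N88879 (iv0 D219575)) (tt N107489 (iv2 F499521)) (tt N116880 (iv3 F502317)) (tt N99455 F499519) (tt N116759 (iv5 F501677)) (tt N99454 F499520) (tt N116304 (iv7 F499522)))
theorem Q116318 : ∀ i, i < 116318 → P i := stepQ 116317 Q116317 (allL N116317 (tt N88879 (iv1 D219576)) (tt N121692 F527781) (tt N116304 F499527) (tt N108805 (iv3 F499525)) (tt N115095 F499524) (tt N122333 (iv5 F531473)) (tt N112028 (iv6 F499526)) (tt N107489 F499523))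
theorem Q116319 : ∀ i, i < 116319 → P i := stepQ 116318 Q116318 (allL N116318 (tt N121261 (iv1 F525441)) (tt N107638 (iv0 F499530)) (tt N121693 (iv2 F527782)) (tt N105947 F499528) (tt N117220 (iv4 F503970)) (tt N88879 (iv5 D219577)) (tt N121336 (iv6 F525843)) (tt N111835 F499529))
theorem Q116320 : ∀ i, i < 116320 → P i := stepQ 116319 Q116319 (allL N116319 (tt N88890 (iv1 F499533)) (tt N88885 (iv0 D219578)) (tt N113863 F499535) (tt N96596 F499536) (tt N111263 F499532) (tt N113311 F499531) (tt N113037 (iv6 F499534)) (tt N116312 (iv7 F499537)))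
theorem Q116321 : ∀ i, i < 116321 → P i := stepQ 116320 Q116320 (allL N116320 (tt N88885 (iv1 D219579)) (tt N88890 F499538) (tt N116312 (iv2 F499544)) (tt N104123 (iv3 F499542)) (tt N92233 F499541) (tt N114663 F499540) (tt N92232 F499543) (tt N113863 F499539))
theorem Q116322 : ∀ i, i < 116322 → P i := stepQ 116321 Q116321 (allL N116321 (tt N96594 F499550) (tt N105487 F499549) (tt N105486 F499545) (tt N88890 F499546) (tt N119495 (iv4 F515901)) (tt N88889 (iv5 D219580)) (tt N105519 F499547) (tt N105455 F499548))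
theorem Q116323 : ∀ i, i < 116323 → P i := stepQ 116322 Q116322 (allL N116322 (tt N116774 (iv1 F501759)) (tt N116773 (iv0 F501752)) (tt N88902 F499551) (tt N105737 F499552) (tt N104792 F499553) (tt N100317 F499554) (tt N88899 (iv6 D219581)) (tt N121164 (iv7 F524882)))
theorem Q116324 : ∀ i, i < 116324 → P i := stepQ 116323 Q116323 (allL N116323 (tt N121164 (iv1 F524881)) (tt N88902 (iv0 D219582)) (tt N116774 (iv2 F501755)) (tt N107817 F499556) (tt N104706 F499557) (tt N107816 F499555) (tt N88941 (iv6 F499558)) (tt N116773 (iv7 F501751)))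
theorem Q116325 : ∀ i, i < 116325 → P i := stepQ 116324 Q116324 (allL N116324 (tt N89399 F499561) (tt N89397 F499562) (tt N88911 F499559) (tt N110165 F499560) (tt N122529 D225788) (tt N88908 (iv5 D219583)) (tt N121832 (iv6 F528586)) (tt N120555 (iv7 F521430)))
theorem Q116326 : ∀ i, i < 116326 → P i := stepQ 116325 Q116325 (allL N116325 (tt N105609 (iv1 F499565)) (tt N88909 (iv0 D219584)) (tt N121179 (iv2 F524969)) (tt N101425 (iv3 F499566)) (tt N100562 F499564) (tt N105619 F499563) (tt N121329 (iv6 F525800)) (tt N100561 F499567))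
theorem Q116327 : ∀ i, i < 116327 → P i := stepQ 116326 Q116326 (allL N116326 (tt N88909 (iv1 D219585)) (tt N105609 F499568) (tt N100561 (iv2 F499573)) (tt N96611 (iv3 F499571)) (tt N100559 F499570) (tt N105620 F499569) (tt N96609 F499572) (tt N121179 (iv7 F524973)))
theorem Q116328 : ∀ i, i < 116328 → P i := stepQ 116327 Q116327 (allL N116327 (tt N120555 (iv1 F521432)) (tt N88911 (iv0 D219586)) (tt N89399 (iv2 F499575)) (tt N100839 F499576) (tt N122530 D225789) (tt N89394 F499574) (tt N116262 F499577) (tt N89397 F499578))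
theorem Q116329 : ∀ i, i < 116329 → P i := stepQ 116328 Q116328 (allL N116328 (tt N100896 F499580) (tt N110180 F499581) (tt N122529 (iv2 F532666)) (tt N117816 F507101) (tt N88911 (iv4 D219587)) (tt N96518 F499579) (tt N122459 (iv6 F532242)) (tt N118464 (iv7 F510513)))
theorem Q116330 : ∀ i, i < 116330 → P i := stepQ 116329 Q116329 (allL N116329 (tt N103593 F499588) (tt N103607 F499587) (tt N102281 F499582) (tt N103612 F499583) (tt N92840 F499584) (tt N88915 (iv5 D219588)) (tt N88916 F499585) (tt N103608 F499586))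
theorem Q116331 : ∀ i, i < 116331 → P i := stepQ 116330 Q116330 (allL N116330 (tt N88917 (iv1 D219589)) (tt N109456 F499593) (tt N119174 (iv2 F514190)) (tt N101058 (iv3 F499591)) (tt N101060 (iv4 F499592)) (tt N102449 F499590) (tt N119115 (iv6 F513863)) (tt N101374 F499589))
theorem Q116332 : ∀ i, i < 116332 → P i := stepQ 116331 Q116331 (allL N116331 (tt N101374 (iv1 F499599)) (tt N119174 (iv0 F514193)) (tt N88917 (iv2 D219590)) (tt N109458 F499594) (tt N114920 F499595) (tt N102471 F499596) (tt N114262 F499597) (tt N109456 F499598))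
theorem Q116333 : ∀ i, i < 116333 → P i := stepQ 116332 Q116332 (allL N116332 (tt N118534 (iv1 F510829)) (tt N100814 (iv0 F499601)) (tt N118535 (iv2 F510836)) (tt N88918 (iv3 D219591)) (tt N117816 (iv4 F507100)) (tt N95834 F499600) (tt N122437 F532098) (tt N118469 (iv7 F510537)))
theorem Q116334 : ∀ i, i < 116334 → P i := stepQ 116333 Q116333 (allL N116333 (tt N120890 (iv1 F523314)) (tt N120892 (iv0 F523325)) (tt N88923 F499602) (tt N109778 F499603) (tt N98689 F499604) (tt N113511 F499605) (tt N88920 (iv6 D219592)) (tt N111177 (iv7 F499606)))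
theorem Q116335 : ∀ i, i < 116335 → P i := stepQ 116334 Q116334 (allL N116334 (tt N111177 F499609) (tt N88923 (iv0 D219593)) (tt N120890 (iv2 F523311)) (tt N113092 F499607) (tt N120888 (iv4 F523301)) (tt N121775 (iv5 F528246)) (tt N113113 (iv6 F499608)) (tt N120892 (iv7 F523324)))
theorem Q116336 : ∀ i, i < 116336 → P i := stepQ 116335 Q116335 (allL N116335 (tt N88923 (iv1 D219594)) (tt N111177 F499610) (tt N120892 (iv2 F523322)) (tt N106481 F499612) (tt N116912 (iv4 F502463)) (tt N121288 (iv5 F525578)) (tt N106479 (iv6 F499611)) (tt N120890 (iv7 F523312)))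
theorem Q116337 : ∀ i, i < 116337 → P i := stepQ 116336 Q116336 (allL N116336 (tt N120892 (iv1 F523326)) (tt N120890 (iv0 F523313)) (tt N111177 F499613) (tt N88926 F499614) (tt N98688 F499615) (tt N91164 F499616) (tt N117753 (iv6 F506793)) (tt N88923 (iv7 D219595)))
theorem Q116338 : ∀ i, i < 116338 → P i := stepQ 116337 Q116337 (allL N116337 (tt N110467 F499619) (tt N118374 (iv0 F510005)) (tt N118437 (iv2 F510348)) (tt N120574 (iv3 F521529)) (tt N88928 F499617) (tt N96039 F499618) (tt N88927 (iv6 D219596)) (tt N122453 (iv7 F532205)))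
theorem Q116339 : ∀ i, i < 116339 → P i := stepQ 116338 Q116338 (allL N116338 (tt N121189 (iv1 F525039)) (tt N88928 (iv0 D219597)) (tt N121187 F525024) (tt N94158 F499620) (tt N114996 (iv4 F499621)) (tt N116393 F499858) (tt N114995 (iv6 F499622)) (tt N121188 (iv7 F525028)))
theorem Q116340 : ∀ i, i < 116340 → P i := stepQ 116339 Q116339 (allL N116339 (tt N88928 (iv1 D219598)) (tt N121189 F525038) (tt N121188 (iv2 F525033)) (tt N119956 (iv3 F518241)) (tt N96549 F499625) (tt N110801 (iv5 F499624)) (tt N96548 (iv6 F499623)) (tt N121187 F525025))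
theorem Q116341 : ∀ i, i < 116341 → P i := stepQ 116340 Q116340 (allL N116340 (tt N121188 (iv1 F525027)) (tt N121187 (iv0 F525026)) (tt N121189 (iv2 F525034)) (tt N88931 F499626) (tt N122453 (iv4 F532203)) (tt N116582 (iv5 F500840)) (tt N121191 (iv6 F525050)) (tt N88928 (iv7 D219599)))
theorem Q116342 : ∀ i, i < 116342 → P i := stepQ 116341 Q116341 (allL N116341 (tt N122455 F532220) (tt N122455 (iv0 F532219)) (tt N120748 (iv2 F522496)) (tt N88932 (iv3 D219600)) (tt N118195 (iv4 F509084)) (tt N122531 D225790) (tt N97852 F499627) (tt N120748 (iv7 F522499)))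
theorem Q116343 : ∀ i, i < 116343 → P i := stepQ 116342 Q116342 (allL N116342 (tt N122353 (iv1 F531584)) (tt N121042 (iv0 F524184)) (tt N88939 F499628) (tt N122531 (iv3 F532680)) (tt N114243 F499629) (tt N88932 (iv5 D219601)) (tt N102520 F499630) (tt N116059 F499631))
theorem Q116344 : ∀ i, i < 116344 → P i := stepQ 116343 Q116343 (allL N116343 (tt N88943 (iv1 F499635)) (tt N88933 (iv0 D219602)) (tt N88941 (iv2 F499633)) (tt N113082 (iv3 F499636)) (tt N104669 F499632) (tt N119024 (iv5 F513344)) (tt N116774 (iv6 F501760)) (tt N88942 (iv7 F499634)))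
theorem Q116345 : ∀ i, i < 116345 → P i := stepQ 116344 Q116344 (allL N116344 (tt N88933 (iv1 D219603)) (tt N88943 F499637) (tt N88942 F499642) (tt N112906 (iv3 F499640)) (tt N104670 F499639) (tt N121727 (iv5 F527987)) (tt N109457 (iv6 F499641)) (tt N88941 F499638))
theorem Q116346 : ∀ i, i < 116346 → P i := stepQ 116345 Q116345 (allL N116345 (tt N88942 (iv1 F499645)) (tt N88941 F499646) (tt N88943 F499643) (tt N118378 (iv3 F510026)) (tt N103497 F499644) (tt N116682 (iv5 F501288)) (tt N121221 (iv6 F525210)) (tt N88933 (iv7 D219604)))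
theorem Q116347 : ∀ i, i < 116347 → P i := stepQ 116346 Q116346 (allL N116346 (tt N114320 F499651) (tt N111041 F499652) (tt N89830 F499647) (tt N114549 (iv3 F499653)) (tt N88934 (iv4 D219605)) (tt N102833 F499648) (tt N89829 F499649) (tt N113080 F499650))
theorem Q116348 : ∀ i, i < 116348 → P i := stepQ 116347 Q116347 (allL N116347 (tt N121774 F528244) (tt N122325 (iv0 F531434)) (tt N119568 (iv2 F516302)) (tt N88935 (iv3 D219606)) (tt N114549 F499654) (tt N122532 D225791) (tt N90106 (iv6 F499655)) (tt N122288 (iv7 F531205)))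
theorem Q116349 : ∀ i, i < 116349 → P i := stepQ 116348 Q116348 (allL N116348 (tt N122238 (iv1 F530948)) (tt N121210 (iv0 F525151)) (tt N114829 F499656) (tt N122532 (iv3 F532686)) (tt N115642 F499657) (tt N88935 (iv5 D219607)) (tt N122532 (iv6 F532687)) (tt N122323 (iv7 F531421)))
theorem Q116350 : ∀ i, i < 116350 → P i := stepQ 116349 Q116349 (allL N116349 (tt N104685 F499663) (tt N104692 F499664) (tt N98629 F499658) (tt N90106 F499659) (tt N88936 F499660) (tt N90106 (iv5 F499662)) (tt N88935 (iv6 D219608)) (tt N104690 (iv7 F499661)))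
theorem Q116351 : ∀ i, i < 116351 → P i := stepQ 116350 Q116350 (allL N116350 (tt N106091 F499667) (tt N105275 F499668) (tt N107085 F499665) (tt N88937 (iv3 D219609)) (tt N116869 (iv4 F502268)) (tt N118963 (iv5 F513001)) (tt N106138 (iv6 F499669)) (tt N107084 F499666))
theorem Q116352 : ∀ i, i < 116352 → P i := stepQ 116351 Q116351 (allL N116351 (tt N116369 (iv1 F499751)) (tt N113766 F499671) (tt N116372 F499762) (tt N118963 (iv3 F513000)) (tt N116057 F499670) (tt N88937 (iv5 D219610)) (tt N118963 (iv6 F513002)) (tt N116371 F499758))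
theorem Q116353 : ∀ i, i < 116353 → P i := stepQ 116352 Q116352 (allL N116352 (tt N98686 F499675) (tt N98684 (iv0 F499677)) (tt N103190 F499672) (tt N106138 F499673) (tt N109391 F499674) (tt N106138 F499676) (tt N88937 (iv6 D219611)) (tt N116896 (iv7 F502404)))
theorem Q116354 : ∀ i, i < 116354 → P i := stepQ 116353 Q116353 (allL N116353 (tt N113766 F499679) (tt N116369 (iv0 F499750)) (tt N116371 F499757) (tt N119142 (iv3 F514009)) (tt N116055 F499678) (tt N88938 (iv5 D219612)) (tt N122186 (iv6 F530660)) (tt N116372 (iv7 F499760)))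
theorem Q116355 : ∀ i, i < 116355 → P i := stepQ 116354 Q116354 (allL N116354 (tt N116059 (iv1 F499681)) (tt N88939 (iv0 D219613)) (tt N122353 (iv2 F531589)) (tt N103638 (iv3 F499682)) (tt N115970 (iv4 F499684)) (tt N88965 F499680) (tt N103635 (iv6 F499683)) (tt N121042 (iv7 F524182)))
theorem Q116356 : ∀ i, i < 116356 → P i := stepQ 116355 Q116355 (allL N116355 (tt N88939 (iv1 D219614)) (tt N116059 F499685) (tt N121042 (iv2 F524179)) (tt N122104 (iv3 F530190)) (tt N116050 (iv4 F499687)) (tt N88966 F499686) (tt N103882 (iv6 F499688)) (tt N122353 (iv7 F531585)))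
theorem Q116357 : ∀ i, i < 116357 → P i := stepQ 116356 Q116356 (allL N116356 (tt N116058 F499692) (tt N115728 F499693) (tt N114243 F499689) (tt N121783 (iv3 F528288)) (tt N88939 (iv4 D219615)) (tt N114241 F499690) (tt N120709 (iv6 F522268)) (tt N116052 F499691))
theorem Q116358 : ∀ i, i < 116358 → P i := stepQ 116357 Q116357 (allL N116357 (tt N94323 F499696) (tt N89938 F499697) (tt N89514 F499694) (tt N109575 F499698) (tt N88945 (iv4 D219616)) (tt N121898 (iv5 F528963)) (tt N121461 (iv6 F526505)) (tt N89516 F499695))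
theorem Q116359 : ∀ i, i < 116359 → P i := stepQ 116358 Q116358 (allL N116358 (tt N89452 F499701) (tt N122001 (iv0 F529564)) (tt N89515 F499699) (tt N119014 (iv3 F513286)) (tt N121461 F526503) (tt N113274 F499700) (tt N88945 (iv6 D219617)) (tt N119011 (iv7 F513272)))
theorem Q116360 : ∀ i, i < 116360 → P i := stepQ 116359 Q116359 (allL N116359 (tt N119466 F515767) (tt N122175 (iv0 F530595)) (tt N122334 (iv2 F531477)) (tt N94895 F499702) (tt N112267 F499703) (tt N88948 (iv5 D219618)) (tt N118920 (iv6 F512751)) (tt N112265 F499704))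
theorem Q116361 : ∀ i, i < 116361 → P i := stepQ 116360 Q116360 (allL N116360 (tt N88961 (iv1 F499708)) (tt N88951 (iv0 D219619)) (tt N88959 (iv2 F499707)) (tt N101330 (iv3 F499710)) (tt N101331 F499705) (tt N121755 (iv5 F528121)) (tt N105041 F499706) (tt N88960 F499709))
theorem Q116362 : ∀ i, i < 116362 → P i := stepQ 116361 Q116361 (allL N116361 (tt N101579 F499715) (tt N101575 F499716) (tt N115925 F499711) (tt N115039 F499712) (tt N115395 F499714) (tt N88952 (iv5 D219620)) (tt N115921 F499713) (tt N119191 (iv7 F514284)))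
theorem Q116363 : ∀ i, i < 116363 → P i := stepQ 116362 Q116362 (allL N116362 (tt N101575 F499720) (tt N101579 F499721) (tt N119191 F514282) (tt N94885 F499717) (tt N115394 F499718) (tt N88954 (iv5 D219621)) (tt N118154 (iv6 F508897)) (tt N115925 F499719))
theorem Q116364 : ∀ i, i < 116364 → P i := stepQ 116363 Q116363 (allL N116363 (tt N101906 F499727) (tt N113762 F499728) (tt N115340 F499722) (tt N110450 F499723) (tt N115393 F499724) (tt N88956 (iv5 D219622)) (tt N110446 F499725) (tt N115598 F499726))
theorem Q116365 : ∀ i, i < 116365 → P i := stepQ 116364 Q116364 (allL N116364 (tt N115397 (iv1 F499732)) (tt N88957 (iv0 D219623)) (tt N113877 (iv2 F499731)) (tt N119220 (iv3 F514437)) (tt N115391 F499730) (tt N88972 F499729) (tt N106533 (iv6 F499733)) (tt N121159 (iv7 F524851)))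
theorem Q116366 : ∀ i, i < 116366 → P i := stepQ 116365 Q116365 (allL N116365 (tt N115883 F499735) (tt N112104 F499736) (tt N118385 (iv2 F510067)) (tt N115536 F499734) (tt N122340 (iv4 F531516)) (tt N118382 (iv5 F510054)) (tt N88957 (iv6 D219624)) (tt N118381 F510050))
theorem Q116367 : ∀ i, i < 116367 → P i := stepQ 116366 Q116366 (allL N116366 (tt N118404 (iv1 F510169)) (tt N120487 (iv0 F521030)) (tt N101331 F499737) (tt N93457 F499738) (tt N88959 (iv4 D219625)) (tt N93452 F499741) (tt N105045 F499739) (tt N105738 F499740))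
theorem Q116368 : ∀ i, i < 116368 → P i := stepQ 116367 Q116367 (allL N116367 (tt N120487 F521031) (tt N118404 (iv0 F510168)) (tt N105738 F499742) (tt N101051 F499743) (tt N88960 (iv4 D219626)) (tt N117306 (iv5 F504382)) (tt N105633 F499744) (tt N101331 F499745))
theorem Q116369 : ∀ i, i < 116369 → P i := stepQ 116368 Q116368 (allL N116368 (tt N122533 D225792) (tt N122533 F532695) (tt N119140 (iv2 F514003)) (tt N88964 (iv3 D219627)) (tt N119137 (iv4 F513988)) (tt N122534 D225793) (tt N119136 F513985) (tt N119140 (iv7 F514006)))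
theorem Q116370 : ∀ i, i < 116370 → P i := stepQ 116369 Q116369 (allL N116369 (tt N116353 F499750) (tt N116351 F499751) (tt N88967 F499746) (tt N122534 (iv3 F532697)) (tt N113566 F499747) (tt N88964 (iv5 D219628)) (tt N105943 F499748) (tt N116009 F499749))
theorem Q116371 : ∀ i, i < 116371 → P i := stepQ 116370 Q116370 (allL N116370 (tt N120771 (iv1 F522631)) (tt N106422 (iv0 F499754)) (tt N119673 (iv2 F516844)) (tt N88966 (iv3 D219629)) (tt N111166 F499752) (tt N122104 (iv5 F530191)) (tt N103401 F499753) (tt N120993 (iv7 F523909)))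
theorem Q116372 : ∀ i, i < 116372 → P i := stepQ 116371 Q116371 (allL N116371 (tt N116009 (iv1 F499756)) (tt N88967 (iv0 D219630)) (tt N116353 (iv2 F499757)) (tt N118889 (iv3 F512598)) (tt N118891 (iv4 F512604)) (tt N113756 F499755) (tt N122535 D225794) (tt N116351 (iv7 F499758)))
theorem Q116373 : ∀ i, i < 116373 → P i := stepQ 116372 Q116372 (allL N116372 (tt N88967 (iv1 D219631)) (tt N116009 F499759) (tt N116351 (iv2 F499762)) (tt N120784 (iv3 F522692)) (tt N122073 (iv4 F529999)) (tt N113757 F499761) (tt N121445 (iv6 F526419)) (tt N116353 F499760))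
theorem Q116374 : ∀ i, i < 116374 → P i := stepQ 116373 Q116373 (allL N116373 (tt N108749 F499766) (tt N113679 F499767) (tt N91198 F499763) (tt N118961 (iv3 F512989)) (tt N88973 (iv4 D219632)) (tt N91195 F499765) (tt N111432 F499764) (tt N118960 (iv7 F512985)))
theorem Q116375 : ∀ i, i < 116375 → P i := stepQ 116374 Q116374 (allL N116374 (tt N110553 (iv1 F499770)) (tt N114756 F499771) (tt N119131 (iv2 F513951)) (tt N118949 (iv3 F512922)) (tt N88977 F499768) (tt N109239 F499769) (tt N118949 (iv6 F512923)) (tt N88974 (iv7 D219633)))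
theorem Q116376 : ∀ i, i < 116376 → P i := stepQ 116375 Q116375 (allL N116375 (tt N112909 F499774) (tt N108367 (iv0 F499775)) (tt N122364 (iv2 F531652)) (tt N88976 (iv3 D219634)) (tt N89091 F499772) (tt N120544 (iv5 F521364)) (tt N89090 F499773) (tt N119169 (iv7 F514166)))
theorem Q116377 : ∀ i, i < 116377 → P i := stepQ 116376 Q116376 (allL N116376 (tt N89834 F499778) (tt N114030 (iv0 F499779)) (tt N117313 (iv2 F504415)) (tt N119231 (iv3 F514499)) (tt N95147 F499776) (tt N116489 (iv5 F500411)) (tt N88978 (iv6 D219635)) (tt N89811 F499777))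
theorem Q116378 : ∀ i, i < 116378 → P i := stepQ 116377 Q116377 (allL N116377 (tt N89781 (iv1 F499785)) (tt N89780 F499786) (tt N89783 F499780) (tt N95035 F499781) (tt N88984 F499782) (tt N95034 F499783) (tt N89798 F499784) (tt N88983 (iv7 D219636)))
theorem Q116379 : ∀ i, i < 116379 → P i := stepQ 116378 Q116378 (allL N116378 (tt N101115 F499790) (tt N101618 F499791) (tt N89671 F499787) (tt N110059 F499788) (tt N119104 (iv4 F513810)) (tt N88991 (iv5 D219637)) (tt N117349 (iv6 F504603)) (tt N100943 F499789))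
theorem Q116380 : ∀ i, i < 116380 → P i := stepQ 116379 Q116379 (allL N116379 (tt N101187 F499795) (tt N101183 F499796) (tt N107352 F499792) (tt N122116 (iv3 F530267)) (tt N88998 (iv4 D219638)) (tt N92355 F499794) (tt N92356 (iv6 F499797)) (tt N89451 F499793))
theorem Q116381 : ∀ i, i < 116381 → P i := stepQ 116380 Q116380 (allL N116380 (tt N121727 (iv1 F527991)) (tt N119024 (iv0 F513346)) (tt N107356 F499798) (tt N89002 F499799) (tt N92356 F499800) (tt N113753 F499801) (tt N88998 (iv6 D219639)) (tt N118498 (iv7 F510693)))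
theorem Q116382 : ∀ i, i < 116382 → P i := stepQ 116381 Q116381 (allL N116381 (tt N111611 (iv1 F500937)) (tt N120614 (iv0 F521767)) (tt N117610 (iv2 F505983)) (tt N89001 (iv3 D219640)) (tt N122116 (iv4 F530266)) (tt N116836 (iv5 F502092)) (tt N105359 F499802) (tt N89462 F499803))
theorem Q116383 : ∀ i, i < 116383 → P i := stepQ 116382 Q116382 (allL N116382 (tt N89427 F499807) (tt N89426 F499808) (tt N89006 F499804) (tt N89446 F499805) (tt N119922 (iv4 F518054)) (tt N89004 (iv5 D219641)) (tt N112687 F499809) (tt N89425 F499806))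
theorem Q116384 : ∀ i, i < 116384 → P i := stepQ 116383 Q116383 (allL N116383 (tt N112513 F499813) (tt N91137 F499814) (tt N116188 F499810) (tt N89010 F499811) (tt N110235 F499815) (tt N89007 (iv5 D219642)) (tt N120476 (iv6 F520973)) (tt N105736 F499812))
theorem Q116385 : ∀ i, i < 116385 → P i := stepQ 116384 Q116384 (allL N116384 (tt N89014 (iv1 D219643)) (tt N89509 F499816) (tt N89518 (iv2 F499819)) (tt N108823 (iv3 F499820)) (tt N109040 F499818) (tt N116686 (iv5 F501301)) (tt N119109 (iv6 F513836)) (tt N89519 F499817))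
theorem Q116386 : ∀ i, i < 116386 → P i := stepQ 116385 Q116385 (allL N116385 (tt N94363 F499824) (tt N110461 (iv0 F499825)) (tt N117790 (iv2 F506982)) (tt N89014 (iv3 D219644)) (tt N89015 F499821) (tt N120729 (iv5 F522393)) (tt N106118 F499822) (tt N89520 F499823))
theorem Q116387 : ∀ i, i < 116387 → P i := stepQ 116386 Q116386 (allL N116386 (tt N103183 F499828) (tt N108830 F499829) (tt N108829 F499826) (tt N120729 (iv3 F522391)) (tt N119251 (iv4 F514632)) (tt N89014 (iv5 D219645)) (tt N120728 (iv6 F522388)) (tt N89521 F499827))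
theorem Q116388 : ∀ i, i < 116388 → P i := stepQ 116387 Q116387 (allL N116387 (tt N109584 F499833) (tt N116643 (iv0 F501113)) (tt N113280 F499830) (tt N116843 (iv3 F502131)) (tt N117912 (iv4 F507558)) (tt N89016 (iv5 D219646)) (tt N100112 F499831) (tt N89561 F499832))
theorem Q116389 : ∀ i, i < 116389 → P i := stepQ 116388 Q116388 (allL N116388 (tt N113283 (iv1 F499844)) (tt N89017 (iv0 D219647)) (tt N102756 (iv2 F499837)) (tt N91718 F499834) (tt N117318 (iv4 F504442)) (tt N102753 F499836) (tt N107065 F499835) (tt N113282 (iv7 F499838)))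
theorem Q116390 : ∀ i, i < 116390 → P i := stepQ 116389 Q116389 (allL N116389 (tt N89017 (iv1 D219648)) (tt N113283 F499839) (tt N113282 F499843) (tt N95608 (iv3 F499841)) (tt N118809 (iv4 F512182)) (tt N95607 (iv5 F499842)) (tt N119979 (iv6 F518365)) (tt N102756 F499840))
theorem Q116391 : ∀ i, i < 116391 → P i := stepQ 116390 Q116390 (allL N116390 (tt N113282 (iv1 F499849)) (tt N102756 F499850) (tt N113283 F499845) (tt N89020 F499846) (tt N117778 (iv4 F506924)) (tt N90977 F499847) (tt N89565 F499848) (tt N89017 (iv7 D219649)))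
theorem Q116392 : ∀ i, i < 116392 → P i := stepQ 116391 Q116391 (allL N116391 (tt N117189 F503833) (tt N116710 (iv0 F501431)) (tt N89023 F499851) (tt N89558 F499852) (tt N116946 (iv4 F502639)) (tt N113645 F499853) (tt N89021 (iv6 D219650)) (tt N122011 (iv7 F529627)))
theorem Q116393 : ∀ i, i < 116393 → P i := stepQ 116392 Q116392 (allL N116392 (tt N107663 F499855) (tt N115122 F499856) (tt N116945 (iv2 F502631)) (tt N116850 (iv3 F502165)) (tt N121284 (iv4 F525556)) (tt N89022 (iv5 D219651)) (tt N121998 F529545) (tt N89543 F499854))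
theorem Q116394 : ∀ i, i < 116394 → P i := stepQ 116393 Q116393 (allL N116393 (tt N122011 (iv1 F529629)) (tt N89023 (iv0 D219652)) (tt N117189 (iv2 F503830)) (tt N114031 F499857) (tt N116542 (iv4 F500686)) (tt N116338 (iv5 F499858)) (tt N119972 (iv6 F518330)) (tt N116710 (iv7 F501430)))
theorem Q116395 : ∀ i, i < 116395 → P i := stepQ 116394 Q116394 (allL N116394 (tt N116710 F501433) (tt N117189 (iv0 F503832)) (tt N122011 (iv2 F529623)) (tt N89025 F499859) (tt N118478 F510588) (tt N113654 F499860) (tt N89547 F499861) (tt N89023 (iv7 D219653)))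
theorem Q116396 : ∀ i, i < 116396 → P i := stepQ 116395 Q116395 (allL N116395 (tt N120526 F521263) (tt N108455 (iv0 F499867)) (tt N113300 F499862) (tt N106950 F499863) (tt N89027 F499864) (tt N116295 F499865) (tt N89026 (iv6 D219654)) (tt N106948 F499866))
theorem Q116397 : ∀ i, i < 116397 → P i := stepQ 116396 Q116396 (allL N116396 (tt N113302 (iv1 F499872)) (tt N113301 F499873) (tt N113303 F499868) (tt N89032 F499869) (tt N106948 F499870) (tt N122373 (iv5 F531714)) (tt N89581 F499871) (tt N89027 (iv7 D219655)))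
theorem Q116398 : ∀ i, i < 116398 → P i := stepQ 116397 Q116397 (allL N116397 (tt N89912 F499880) (tt N89950 (iv0 F499881)) (tt N89948 F499875) (tt N89031 (iv3 D219656)) (tt N111578 F499876) (tt N113896 F499877) (tt N89926 F499878) (tt N89604 F499879))
theorem Q116399 : ∀ i, i < 116399 → P i := stepQ 116398 Q116398 (allL N116398 (tt N117441 (iv1 F505044)) (tt N107793 (iv0 F499887)) (tt N96629 F499882) (tt N89033 (iv3 D219657)) (tt N103727 F499883) (tt N91367 F499884) (tt N96373 F499885) (tt N99334 F499886))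
theorem Q116400 : ∀ i, i < 116400 → P i := stepQ 116399 Q116399 (allL N116399 (tt N89740 F499892) (tt N89739 F499893) (tt N89041 F499888) (tt N89715 F499889) (tt N101047 F499890) (tt N89040 (iv5 D219658)) (tt N121302 (iv6 F525642)) (tt N89735 F499891))
theorem Q116401 : ∀ i, i < 116401 → P i := stepQ 116400 Q116400 (allL N116400 (tt N89400 F499898) (tt N116212 (iv0 F499900)) (tt N89042 F499894) (tt N89716 F499895) (tt N94040 F499896) (tt N103787 F499899) (tt N89040 (iv6 D219659)) (tt N105740 F499897))
theorem Q116402 : ∀ i, i < 116402 → P i := stepQ 116401 Q116401 (allL N116401 (tt N121298 F525620) (tt N113102 (iv0 F499903)) (tt N121302 F525643) (tt N89045 F499901) (tt N120449 (iv4 F520841)) (tt N113787 F499902) (tt N89041 (iv6 D219660)) (tt N121108 (iv7 F524553)))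
theorem Q116403 : ∀ i, i < 116403 → P i := stepQ 116402 Q116402 (allL N116402 (tt N89108 F499909) (tt N89105 F499910) (tt N89726 F499904) (tt N90438 F499905) (tt N89043 (iv4 D219661)) (tt N110843 F499906) (tt N91611 F499907) (tt N89728 F499908))
theorem Q116404 : ∀ i, i < 116404 → P i := stepQ 116403 Q116403 (allL N116403 (tt N89758 (iv1 F499918)) (tt N89048 (iv0 D219662)) (tt N89755 (iv2 F499914)) (tt N114677 F499915) (tt N95249 F499911) (tt N116267 F499912) (tt N89061 F499913) (tt N89756 (iv7 F499916)))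
theorem Q116405 : ∀ i, i < 116405 → P i := stepQ 116404 Q116404 (allL N116404 (tt N89756 (iv1 F499922)) (tt N89755 F499923) (tt N89758 F499919) (tt N121207 (iv3 F525134)) (tt N116918 (iv4 F502491)) (tt N113616 F499920) (tt N89760 F499921) (tt N89048 (iv7 D219663)))
theorem Q116406 : ∀ i, i < 116406 → P i := stepQ 116405 Q116405 (allL N116405 (tt N95249 F499927) (tt N95248 (iv0 F499928)) (tt N89762 F499924) (tt N117013 (iv3 F502970)) (tt N89110 F499925) (tt N117012 (iv5 F502968)) (tt N89049 (iv6 D219664)) (tt N95247 F499926))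
theorem Q116407 : ∀ i, i < 116407 → P i := stepQ 116406 Q116406 (allL N116406 (tt N106580 F499934) (tt N106583 F499935) (tt N89810 F499929) (tt N108011 F499930) (tt N113473 F499931) (tt N89059 (iv5 D219665)) (tt N112617 F499932) (tt N89808 F499933))
theorem Q116408 : ∀ i, i < 116408 → P i := stepQ 116407 Q116407 (allL N116407 (tt N90052 F499941) (tt N90112 F499942) (tt N110034 F499936) (tt N93300 F499937) (tt N90074 F499938) (tt N89065 (iv5 D219666)) (tt N115985 F499939) (tt N93292 F499940))
theorem Q116409 : ∀ i, i < 116409 → P i := stepQ 116408 Q116408 (allL N116408 (tt N118750 (iv1 F511882)) (tt N103733 F499948) (tt N112001 F499943) (tt N93894 F499944) (tt N90095 F499947) (tt N89067 (iv5 D219667)) (tt N111999 F499945) (tt N90157 F499946))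
theorem Q116410 : ∀ i, i < 116410 → P i := stepQ 116409 Q116409 (allL N116409 (tt N103157 F499952) (tt N103156 (iv0 F499953)) (tt N93892 F499949) (tt N89068 (iv3 D219668)) (tt N93503 F499950) (tt N105382 F499954) (tt N106918 F499955) (tt N103158 F499951))
theorem Q116411 : ∀ i, i < 116411 → P i := stepQ 116410 Q116410 (allL N116410 (tt N103733 F499960) (tt N118750 F511881) (tt N90157 F499956) (tt N105382 F499957) (tt N90088 F499958) (tt N89068 (iv5 D219669)) (tt N90154 F499961) (tt N112001 F499959))
theorem Q116412 : ∀ i, i < 116412 → P i := stepQ 116411 Q116411 (allL N116411 (tt N121408 (iv1 F526190)) (tt N121407 F526187) (tt N103071 F499962) (tt N106918 F499963) (tt N89069 F499964) (tt N114504 F499965) (tt N89068 (iv6 D219670)) (tt N121244 (iv7 F525336)))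
theorem Q116413 : ∀ i, i < 116413 → P i := stepQ 116412 Q116412 (allL N116412 (tt N120547 (iv1 F521383)) (tt N105438 (iv0 F499970)) (tt N105127 F499966) (tt N94499 F499967) (tt N105123 F499968) (tt N94498 F499969) (tt N89071 (iv6 D219671)) (tt N118634 (iv7 F511255)))
theorem Q116414 : ∀ i, i < 116414 → P i := stepQ 116413 Q116413 (allL N116413 (tt N96287 F499976) (tt N89576 (iv0 F499977)) (tt N109331 F499971) (tt N89076 F499972) (tt N91062 F499973) (tt N110382 F499974) (tt N89074 (iv6 D219672)) (tt N91060 F499975))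
theorem Q116415 : ∀ i, i < 116415 → P i := stepQ 116414 Q116414 (allL N116414 (tt N116981 (iv1 F502810)) (tt N116954 F502685) (tt N116980 F502801) (tt N89075 (iv3 D219673)) (tt N91747 F499978) (tt N121599 (iv5 F527256)) (tt N106302 (iv6 F499980)) (tt N89970 F499979))
theorem Q116416 : ∀ i, i < 116416 → P i := stepQ 116415 Q116415 (allL N116415 (tt N94514 F499985) (tt N89499 (iv0 F499987)) (tt N89973 F499981) (tt N106302 F499982) (tt N89076 F499983) (tt N115783 (iv5 F499986)) (tt N89075 (iv6 D219674)) (tt N94518 F499984))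
theorem Q116417 : ∀ i, i < 116417 → P i := stepQ 116416 Q116416 (allL N116416 (tt N116533 (iv1 F500650)) (tt N116519 F500586) (tt N116532 F500640) (tt N89086 (iv3 D219675)) (tt N107550 F499988) (tt N121476 (iv5 F526584)) (tt N121845 (iv6 F528662)) (tt N110765 F499989))
theorem Q116418 : ∀ i, i < 116418 → P i := stepQ 116417 Q116417 (allL N116417 (tt N91010 F499995) (tt N89293 F499996) (tt N91008 F499990) (tt N89577 F499991) (tt N89089 (iv4 D219676)) (tt N89358 F499994) (tt N91100 F499992) (tt N90963 F499993))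
theorem Q116419 : ∀ i, i < 116419 → P i := stepQ 116418 Q116418 (allL N116418 (tt N89293 F500001) (tt N91010 F500002) (tt N90963 F499997) (tt N105987 F500003) (tt N89093 (iv4 D219677)) (tt N89359 F499998) (tt N89279 F499999) (tt N91008 F500000))
theorem Q116420 : ∀ i, i < 116420 → P i := stepQ 116419 Q116419 (allL N116419 (tt N119550 (iv1 F516196)) (tt N119543 (iv0 F516161)) (tt N119547 F516180) (tt N100233 F500004) (tt N89096 F500005) (tt N103189 F500006) (tt N89095 (iv6 D219678)) (tt N119548 (iv7 F516182)))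
theorem Q116421 : ∀ i, i < 116421 → P i := stepQ 116420 Q116420 (allL N116420 (tt N114830 (iv1 F500013)) (tt N114678 (iv0 F500012)) (tt N114535 F500007) (tt N114692 F500008) (tt N89098 F500009) (tt N113975 F500010) (tt N89097 (iv6 D219679)) (tt N113096 F500011))
theorem Q116422 : ∀ i, i < 116422 → P i := stepQ 116421 Q116421 (allL N116421 (tt N117406 (iv1 F504876)) (tt N89098 (iv0 D219680)) (tt N90133 (iv2 F500016)) (tt N90090 (iv3 F500017)) (tt N114328 F500014) (tt N117207 (iv5 F503912)) (tt N106237 F500015) (tt N99001 (iv7 F500018)))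
theorem Q116423 : ∀ i, i < 116423 → P i := stepQ 116422 Q116422 (allL N116422 (tt N89098 (iv1 D219681)) (tt N117406 (iv0 F504875)) (tt N99001 F500023) (tt N89111 (iv3 F500021)) (tt N111973 F500020) (tt N117205 (iv5 F503899)) (tt N99000 (iv6 F500022)) (tt N90133 F500019))
theorem Q116424 : ∀ i, i < 116424 → P i := stepQ 116423 Q116423 (allL N116423 (tt N99001 (iv1 F500028)) (tt N90133 F500029) (tt N117406 (iv2 F504870)) (tt N105231 F500024) (tt N113096 F500025) (tt N90833 F500026) (tt N105229 F500027) (tt N89098 (iv7 D219682)))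
theorem Q116425 : ∀ i, i < 116425 → P i := stepQ 116424 Q116424 (allL N116424 (tt N89110 (iv1 D219683)) (tt N90125 F500030) (tt N90123 (iv2 F500033)) (tt N101377 (iv3 F500032)) (tt N116765 (iv4 F501713)) (tt N122278 (iv5 F531132)) (tt N117172 F503748) (tt N90122 F500031))
theorem Q116426 : ∀ i, i < 116426 → P i := stepQ 116425 Q116425 (allL N116425 (tt N89363 F500039) (tt N89365 F500040) (tt N89902 F500034) (tt N110669 F500035) (tt N89113 (iv4 D219684)) (tt N106970 F500038) (tt N111363 F500036) (tt N94237 F500037))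
theorem Q116427 : ∀ i, i < 116427 → P i := stepQ 116426 Q116426 (allL N116426 (tt N110823 F500044) (tt N110824 F500045) (tt N100103 F500041) (tt N117899 (iv3 F507496)) (tt N89114 (iv4 D219685)) (tt N117825 (iv5 F507146)) (tt N89116 F500042) (tt N101189 F500043))
theorem Q116428 : ∀ i, i < 116428 → P i := stepQ 116427 Q116427 (allL N116427 (tt N100105 (iv1 F500051)) (tt N100104 (iv0 F500050)) (tt N100043 F500046) (tt N89116 (iv3 D219686)) (tt N89125 F500047) (tt N121749 (iv5 F528091)) (tt N117899 (iv6 F507498)) (tt N100106 F500048))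
theorem Q116429 : ∀ i, i < 116429 → P i := stepQ 116428 Q116428 (allL N116428 (tt N115116 F500055) (tt N113375 F500056) (tt N116694 (iv2 F501342)) (tt N90907 F500052) (tt N100259 F500054) (tt N89118 (iv5 D219687)) (tt N107459 F500053) (tt N116693 F501335))
theorem Q116430 : ∀ i, i < 116430 → P i := stepQ 116429 Q116429 (allL N116429 (tt N99371 F500061) (tt N106039 (iv0 F500062)) (tt N100253 F500057) (tt N89120 (iv3 D219688)) (tt N117899 (iv4 F507495)) (tt N107502 F500058) (tt N89125 F500059) (tt N106538 F500060))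
theorem Q116431 : ∀ i, i < 116431 → P i := stepQ 116430 Q116430 (allL N116430 (tt N112614 F500068) (tt N116536 (iv0 F500660)) (tt N89994 F500063) (tt N110402 F500064) (tt N89646 F500067) (tt N89122 (iv5 D219689)) (tt N89645 F500065) (tt N113324 F500066))
theorem Q116432 : ∀ i, i < 116432 → P i := stepQ 116431 Q116431 (allL N116431 (tt N106613 F500074) (tt N100247 F500075) (tt N106018 F500069) (tt N106602 F500070) (tt N106609 F500071) (tt N89124 (iv5 D219690)) (tt N113165 F500072) (tt N106609 F500073))
theorem Q116433 : ∀ i, i < 116433 → P i := stepQ 116432 Q116432 (allL N116432 (tt N120184 (iv1 F519487)) (tt N106584 F500078) (tt N100252 F500076) (tt N89126 F500077) (tt N119768 (iv4 F517321)) (tt N89125 (iv5 D219691)) (tt N122536 D225795) (tt N119779 (iv7 F517374)))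
theorem Q116434 : ∀ i, i < 116434 → P i := stepQ 116433 Q116433 (allL N116433 (tt N89126 (iv1 D219692)) (tt N100259 F500079) (tt N106022 (iv2 F500082)) (tt N106617 (iv3 F500085)) (tt N106625 (iv4 F500083)) (tt N106289 F500081) (tt N113357 F500084) (tt N106625 F500080))
theorem Q116435 : ∀ i, i < 116435 → P i := stepQ 116434 Q116434 (allL N116434 (tt N113375 F500088) (tt N115116 F500089) (tt N116693 F501334) (tt N105659 (iv3 F500090)) (tt N89126 (iv4 D219693)) (tt N91048 F500087) (tt N105656 F500091) (tt N116694 (iv7 F501338)))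
theorem Q116436 : ∀ i, i < 116436 → P i := stepQ 116435 Q116435 (allL N116435 (tt N107210 F500095) (tt N107213 F500096) (tt N107617 F500092) (tt N122536 (iv3 F532709)) (tt N105656 F500093) (tt N92222 F500094) (tt N89126 (iv6 D219694)) (tt N107618 (iv7 F500097)))
theorem Q116437 : ∀ i, i < 116437 → P i := stepQ 116436 Q116436 (allL N116436 (tt N106022 (iv1 F500100)) (tt N106625 F500101) (tt N100259 F500098) (tt N119779 (iv3 F517373)) (tt N116694 (iv4 F501340)) (tt N89127 F500099) (tt N121726 (iv6 F527980)) (tt N89126 (iv7 D219695)))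
theorem Q116438 : ∀ i, i < 116438 → P i := stepQ 116437 Q116437 (allL N116437 (tt N89179 (iv1 F500105)) (tt N89128 (iv0 D219696)) (tt N89153 (iv2 F500104)) (tt N89181 (iv3 F500107)) (tt N113325 F500103) (tt N106901 F500102) (tt N104463 (iv6 F500108)) (tt N89185 F500106))
theorem Q116439 : ∀ i, i < 116439 → P i := stepQ 116438 Q116438 (allL N116438 (tt N116787 (iv1 F501835)) (tt N112319 F500114) (tt N90142 F500109) (tt N112329 F500110) (tt N90884 F500113) (tt N89142 (iv5 D219697)) (tt N90883 F500111) (tt N113317 F500112))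
theorem Q116440 : ∀ i, i < 116440 → P i := stepQ 116439 Q116439 (allL N116439 (tt N96702 F500119) (tt N96682 (iv0 F500120)) (tt N104858 F500115) (tt N89144 (iv3 D219698)) (tt N96677 F500116) (tt N112522 F500121) (tt N94908 F500117) (tt N107316 F500118))
theorem Q116441 : ∀ i, i < 116441 → P i := stepQ 116440 Q116440 (allL N116440 (tt N91161 F500126) (tt N112514 F500127) (tt N122287 (iv2 F531194)) (tt N112522 F500122) (tt N112576 F500125) (tt N89144 (iv5 D219699)) (tt N107029 F500123) (tt N112576 F500124))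
theorem Q116442 : ∀ i, i < 116442 → P i := stepQ 116441 Q116441 (allL N116441 (tt N96685 F500131) (tt N95723 F500132) (tt N96684 F500128) (tt N122291 (iv3 F531223)) (tt N89147 F500129) (tt N120166 (iv5 F519386)) (tt N89146 (iv6 D219700)) (tt N96683 F500130))
theorem Q116443 : ∀ i, i < 116443 → P i := stepQ 116442 Q116442 (allL N116442 (tt N106035 F500138) (tt N112757 (iv0 F500139)) (tt N106550 F500133) (tt N89155 F500134) (tt N100082 F500135) (tt N100056 F500136) (tt N89154 (iv6 D219701)) (tt N107569 F500137))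
theorem Q116444 : ∀ i, i < 116444 → P i := stepQ 116443 Q116443 (allL N116443 (tt N103700 F500144) (tt N116216 F500145) (tt N116217 F500140) (tt N116260 F500141) (tt N89157 (iv4 D219702)) (tt N116891 (iv5 F502376)) (tt N113806 F500142) (tt N116218 F500143))
theorem Q116445 : ∀ i, i < 116445 → P i := stepQ 116444 Q116444 (allL N116444 (tt N100842 F500151) (tt N100950 F500152) (tt N100968 F500146) (tt N113894 F500147) (tt N89165 (iv4 D219703)) (tt N115407 F500148) (tt N108428 F500149) (tt N100969 F500150))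
theorem Q116446 : ∀ i, i < 116446 → P i := stepQ 116445 Q116445 (allL N116445 (tt N108709 F500157) (tt N116197 F500158) (tt N116199 F500153) (tt N100116 F500154) (tt N89167 (iv4 D219704)) (tt N109906 F500155) (tt N121554 (iv6 F527014)) (tt N110580 F500156))
theorem Q116447 : ∀ i, i < 116447 → P i := stepQ 116446 Q116446 (allL N116446 (tt N106568 F500162) (tt N106562 (iv0 F500163)) (tt N106565 F500159) (tt N89168 F500160) (tt N121554 (iv4 F527013)) (tt N120106 (iv5 F519077)) (tt N89167 (iv6 D219705)) (tt N106566 F500161))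
theorem Q116448 : ∀ i, i < 116448 → P i := stepQ 116447 Q116447 (allL N116447 (tt N89365 F500168) (tt N89363 F500169) (tt N94237 F500164) (tt N118597 F511083) (tt N89170 (iv4 D219706)) (tt N106971 F500167) (tt N106577 F500165) (tt N89902 F500166))
theorem Q116449 : ∀ i, i < 116449 → P i := stepQ 116448 Q116448 (allL N116448 (tt N108998 F500173) (tt N108997 F500174) (tt N109000 F500170) (tt N100086 F500171) (tt N117637 (iv4 F506138)) (tt N89175 (iv5 D219707)) (tt N117892 (iv6 F507468)) (tt N108992 F500172))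
theorem Q116450 : ∀ i, i < 116450 → P i := stepQ 116449 Q116449 (allL N116449 (tt N94230 F500179) (tt N90700 F500180) (tt N89183 F500175) (tt N104463 F500176) (tt N110822 F500177) (tt N109847 F500178) (tt N89181 (iv6 D219708)) (tt N106180 F500181))
theorem Q116451 : ∀ i, i < 116451 → P i := stepQ 116450 Q116450 (allL N116450 (tt N89183 (iv1 D219709)) (tt N106180 F500182) (tt N90700 F500188) (tt N99372 (iv3 F500185)) (tt N94186 F500184) (tt N99368 (iv5 F500186)) (tt N99371 (iv6 F500187)) (tt N94230 F500183))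
theorem Q116452 : ∀ i, i < 116452 → P i := stepQ 116451 Q116451 (allL N116451 (tt N90733 (iv1 F500194)) (tt N108418 F500195) (tt N107570 F500189) (tt N106549 F500190) (tt N109552 F500191) (tt N89192 F500192) (tt N111284 F500193) (tt N89191 (iv7 D219710)))
theorem Q116453 : ∀ i, i < 116453 → P i := stepQ 116452 Q116452 (allL N116452 (tt N89407 F500200) (tt N89409 F500201) (tt N90536 F500196) (tt N120068 F518875) (tt N89202 (iv4 D219711)) (tt N98094 F500197) (tt N113970 F500198) (tt N90452 F500199))
theorem Q116454 : ∀ i, i < 116454 → P i := stepQ 116453 Q116453 (allL N116453 (tt N111581 F500207) (tt N104875 (iv0 F500208)) (tt N90544 F500202) (tt N95303 F500203) (tt N106037 F500204) (tt N95302 F500205) (tt N89209 (iv6 D219712)) (tt N116032 F500206))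
theorem Q116455 : ∀ i, i < 116455 → P i := stepQ 116454 Q116454 (allL N116454 (tt N90663 F500214) (tt N90662 F500215) (tt N90548 F500209) (tt N96821 F500210) (tt N89211 (iv4 D219713)) (tt N95154 F500211) (tt N90654 F500212) (tt N89237 F500213))
theorem Q116456 : ∀ i, i < 116456 → P i := stepQ 116455 Q116455 (allL N116455 (tt N118141 F508826) (tt N93341 F500219) (tt N90551 F500216) (tt N93612 F500217) (tt N89212 (iv4 D219714)) (tt N116679 (iv5 F501270)) (tt N89214 F500218) (tt N116700 (iv7 F501378)))
theorem Q116457 : ∀ i, i < 116457 → P i := stepQ 116456 Q116456 (allL N116456 (tt N111587 (iv1 F500225)) (tt N111586 (iv0 F500224)) (tt N90572 F500220) (tt N108476 F500221) (tt N89604 F500222) (tt N121703 (iv5 F527848)) (tt N89216 (iv6 D219715)) (tt N111578 F500223))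
theorem Q116458 : ∀ i, i < 116458 → P i := stepQ 116457 Q116457 (allL N116457 (tt N90590 F500229) (tt N89226 F500230) (tt N90578 F500226) (tt N118857 F512429) (tt N89217 (iv4 D219716)) (tt N122481 (iv5 F532385)) (tt N89251 F500227) (tt N90580 F500228))
theorem Q116459 : ∀ i, i < 116459 → P i := stepQ 116458 Q116458 (allL N116458 (tt N90520 F500236) (tt N106162 (iv0 F500237)) (tt N111705 F500231) (tt N95793 F500232) (tt N89219 F500233) (tt N95792 F500234) (tt N89218 (iv6 D219717)) (tt N99262 F500235))
theorem Q116460 : ∀ i, i < 116460 → P i := stepQ 116459 Q116459 (allL N116459 (tt N90524 F500243) (tt N111599 F500244) (tt N108477 F500238) (tt N89221 F500239) (tt N96173 F500240) (tt N89220 (iv5 D219718)) (tt N100696 F500241) (tt N90568 F500242))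
theorem Q116461 : ∀ i, i < 116461 → P i := stepQ 116460 Q116460 (allL N116460 (tt N99690 F500250) (tt N99686 (iv0 F500251)) (tt N90599 F500245) (tt N89226 F500246) (tt N107408 F500247) (tt N111880 F500249) (tt N89224 (iv6 D219719)) (tt N99688 F500248))
theorem Q116462 : ∀ i, i < 116462 → P i := stepQ 116461 Q116461 (allL N116461 (tt N117919 F507600) (tt N89947 (iv0 F500256)) (tt N90588 F500252) (tt N121419 (iv3 F526252)) (tt N113294 F500253) (tt N108614 F500255) (tt N89225 (iv6 D219720)) (tt N112118 F500254))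
theorem Q116463 : ∀ i, i < 116463 → P i := stepQ 116462 Q116462 (allL N116462 (tt N112241 F500261) (tt N112240 F500262) (tt N90589 F500257) (tt N111880 F500258) (tt N116692 (iv4 F501327)) (tt N89226 (iv5 D219721)) (tt N108614 F500259) (tt N112091 F500260))
theorem Q116464 : ∀ i, i < 116464 → P i := stepQ 116463 Q116463 (allL N116463 (tt N107502 F500267) (tt N107501 (iv0 F500268)) (tt N107137 F500263) (tt N89235 (iv3 D219722)) (tt N121491 (iv4 F526662)) (tt N90497 F500264) (tt N107136 F500265) (tt N90496 F500266))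
theorem Q116465 : ∀ i, i < 116465 → P i := stepQ 116464 Q116464 (allL N116464 (tt N89237 (iv1 D219723)) (tt N90548 F500269) (tt N90663 (iv2 F500273)) (tt N122042 F529807) (tt N89285 F500272) (tt N112117 F500271) (tt N122097 (iv6 F530144)) (tt N90662 F500270))
theorem Q116466 : ∀ i, i < 116466 → P i := stepQ 116465 Q116465 (allL N116465 (tt N96928 F500276) (tt N116541 (iv0 F500685)) (tt N118399 (iv2 F510142)) (tt N89244 (iv3 D219724)) (tt N121650 (iv4 F527543)) (tt N118876 (iv5 F512531)) (tt N105995 F500274) (tt N90726 F500275))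
theorem Q116467 : ∀ i, i < 116467 → P i := stepQ 116466 Q116466 (allL N116466 (tt N115513 F500279) (tt N115592 (iv0 F500281)) (tt N118401 (iv2 F510152)) (tt N89245 (iv3 D219725)) (tt N96060 F500280) (tt N115938 F500277) (tt N117586 (iv6 F505849)) (tt N90724 F500278))
theorem Q116468 : ∀ i, i < 116468 → P i := stepQ 116467 Q116467 (allL N116467 (tt N90771 F500285) (tt N90778 (iv0 F500286)) (tt N90777 F500282) (tt N89251 (iv3 D219726)) (tt N121451 (iv4 F526448)) (tt N115959 F500283) (tt N118857 F512430) (tt N90729 F500284))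
theorem Q116469 : ∀ i, i < 116469 → P i := stepQ 116468 Q116468 (allL N116468 (tt N117346 (iv1 F504586)) (tt N117347 (iv0 F504593)) (tt N119956 (iv2 F518240)) (tt N94159 F500287) (tt N119954 (iv4 F518230)) (tt N89253 (iv5 D219727)) (tt N113104 (iv6 F500289)) (tt N90751 F500288))
theorem Q116470 : ∀ i, i < 116470 → P i := stepQ 116469 Q116469 (allL N116469 (tt N108535 F500294) (tt N108539 F500295) (tt N108537 F500291) (tt N119766 F517310) (tt N89257 F500292) (tt N122537 D225796) (tt N89256 (iv6 D219728)) (tt N108536 F500293))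
theorem Q116471 : ∀ i, i < 116471 → P i := stepQ 116470 Q116470 (allL N116470 (tt N108612 (iv1 F500308)) (tt N89257 (iv0 D219729)) (tt N108486 (iv2 F500300)) (tt N91333 F500297) (tt N110816 F500296) (tt N102982 (iv5 F500301)) (tt N91407 F500299) (tt N103094 F500302))
theorem Q116472 : ∀ i, i < 116472 → P i := stepQ 116471 Q116471 (allL N116471 (tt N89257 (iv1 D219730)) (tt N108612 F500303) (tt N103094 F500306) (tt N103138 (iv3 F500305)) (tt N110815 F500307) (tt N122476 (iv5 F532350)) (tt N122398 (iv6 F531864)) (tt N108486 F500304))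
theorem Q116473 : ∀ i, i < 116473 → P i := stepQ 116472 Q116472 (allL N116472 (tt N103094 (iv1 F500314)) (tt N108486 F500315) (tt N108612 F500309) (tt N89259 F500310) (tt N108536 F500311) (tt N115616 F500312) (tt N90744 F500313) (tt N89257 (iv7 D219731)))
theorem Q116474 : ∀ i, i < 116474 → P i := stepQ 116473 Q116473 (allL N116473 (tt N89367 F500318) (tt N89366 F500319) (tt N89264 F500316) (tt N110656 F500320) (tt N89262 (iv4 D219732)) (tt N117510 (iv5 F505422)) (tt N118852 (iv6 F512417)) (tt N89360 F500317))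
theorem Q116475 : ∀ i, i < 116475 → P i := stepQ 116474 Q116474 (allL N116474 (tt N114021 F500326) (tt N91144 F500327) (tt N90907 F500321) (tt N107338 F500322) (tt N115433 F500325) (tt N89266 (iv5 D219733)) (tt N107337 F500323) (tt N90909 F500324))
theorem Q116476 : ∀ i, i < 116476 → P i := stepQ 116475 Q116475 (allL N116475 (tt N91144 F500332) (tt N114021 F500333) (tt N90909 F500329) (tt N116693 (iv3 F501336)) (tt N121935 (iv4 F529157)) (tt N89267 (iv5 D219734)) (tt N91131 F500330) (tt N90907 F500331))
theorem Q116477 : ∀ i, i < 116477 → P i := stepQ 116476 Q116476 (allL N116476 (tt N122002 (iv1 F529573)) (tt N89429 (iv0 F500337)) (tt N122336 (iv2 F531488)) (tt N89268 (iv3 D219735)) (tt N90914 F500334) (tt N121132 (iv5 F524685)) (tt N89496 F500335) (tt N91049 F500336))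
theorem Q116478 : ∀ i, i < 116478 → P i := stepQ 116477 Q116477 (allL N116477 (tt N91062 F500342) (tt N89270 (iv0 D219736)) (tt N90961 (iv2 F500339)) (tt N90920 (iv3 F500340)) (tt N119091 (iv4 F513744)) (tt N121059 (iv5 F524288)) (tt N89578 F500338) (tt N91061 (iv7 F500341)))
theorem Q116479 : ∀ i, i < 116479 → P i := stepQ 116478 Q116478 (allL N116478 (tt N89270 (iv1 D219737)) (tt N91062 F500343) (tt N91061 F500348) (tt N89280 (iv3 F500346)) (tt N110900 F500345) (tt N107470 (iv5 F500347)) (tt N105981 (iv6 F500349)) (tt N90961 F500344))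
theorem Q116480 : ∀ i, i < 116480 → P i := stepQ 116479 Q116479 (allL N116479 (tt N91061 (iv1 F500355)) (tt N90961 F500356) (tt N91062 F500350) (tt N109330 F500351) (tt N109331 F500352) (tt N112759 F500353) (tt N91058 F500354) (tt N89270 (iv7 D219738)))
theorem Q116481 : ∀ i, i < 116481 → P i := stepQ 116480 Q116480 (allL N116480 (tt N89273 (iv1 D219739)) (tt N91067 (iv0 F500362)) (tt N91065 F500361) (tt N91710 (iv3 F500359)) (tt N112124 F500358) (tt N117194 (iv5 F503850)) (tt N91708 (iv6 F500360)) (tt N91066 F500357))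
theorem Q116482 : ∀ i, i < 116482 → P i := stepQ 116481 Q116481 (allL N116481 (tt N91066 (iv1 F500367)) (tt N91065 F500366) (tt N89273 (iv2 D219740)) (tt N122336 (iv3 F531489)) (tt N89288 F500363) (tt N101375 F500364) (tt N119209 (iv6 F514373)) (tt N91067 F500365))
theorem Q116483 : ∀ i, i < 116483 → P i := stepQ 116482 Q116482 (allL N116482 (tt N91050 (iv1 F500372)) (tt N89274 (iv0 D219741)) (tt N91070 (iv2 F500371)) (tt N113075 (iv3 F500374)) (tt N114566 F500369) (tt N107127 F500368) (tt N113074 F500370) (tt N91069 F500373))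
theorem Q116484 : ∀ i, i < 116484 → P i := stepQ 116483 Q116483 (allL N116483 (tt N106928 F500379) (tt N106861 (iv0 F500380)) (tt N91749 F500375) (tt N89275 (iv3 D219742)) (tt N106824 F500376) (tt N98166 F500377) (tt N112097 (iv6 F500381)) (tt N98182 F500378))
theorem Q116485 : ∀ i, i < 116485 → P i := stepQ 116484 Q116484 (allL N116484 (tt N108455 F500387) (tt N120526 (iv0 F521262)) (tt N106948 F500382) (tt N112097 F500383) (tt N113303 F500384) (tt N116296 F500385) (tt N89275 (iv6 D219743)) (tt N113300 F500386))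
theorem Q116486 : ∀ i, i < 116486 → P i := stepQ 116485 Q116485 (allL N116485 (tt N121746 F528079) (tt N107248 (iv0 F500390)) (tt N106983 F500388) (tt N117153 (iv3 F503657)) (tt N89278 F500389) (tt N122538 D225797) (tt N89277 (iv6 D219744)) (tt N121747 (iv7 F528083)))
theorem Q116487 : ∀ i, i < 116487 → P i := stepQ 116486 Q116486 (allL N116486 (tt N105966 (iv1 F500395)) (tt N89278 (iv0 D219745)) (tt N105968 (iv2 F500392)) (tt N91743 F500393) (tt N118508 (iv4 F510747)) (tt N121317 (iv5 F525725)) (tt N106322 F500391) (tt N105961 F500394))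
theorem Q116488 : ∀ i, i < 116488 → P i := stepQ 116487 Q116487 (allL N116487 (tt N105961 (iv1 F500400)) (tt N105968 F500401) (tt N105966 F500396) (tt N89281 F500397) (tt N121747 (iv4 F528080)) (tt N113760 F500398) (tt N90977 F500399) (tt N89278 (iv7 D219746)))
theorem Q116489 : ∀ i, i < 116489 → P i := stepQ 116488 Q116488 (allL N116488 (tt N90922 F500406) (tt N89297 (iv0 F500407)) (tt N90920 F500402) (tt N89279 (iv3 D219747)) (tt N121397 (iv4 F526128)) (tt N105590 F500403) (tt N105987 F500404) (tt N90921 F500405))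
theorem Q116490 : ∀ i, i < 116490 → P i := stepQ 116489 Q116489 (allL N116489 (tt N91102 F500413) (tt N89306 (iv0 F500414)) (tt N90965 F500408) (tt N105981 F500409) (tt N97290 F500410) (tt N116376 F500411) (tt N89280 (iv6 D219748)) (tt N91100 F500412))
theorem Q116491 : ∀ i, i < 116491 → P i := stepQ 116490 Q116490 (allL N116490 (tt N112353 F500418) (tt N117086 F503307) (tt N89284 F500415) (tt N90968 F500416) (tt N116992 (iv4 F502860)) (tt N89540 F500417) (tt N89282 (iv6 D219749)) (tt N117085 (iv7 F503300)))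
theorem Q116492 : ∀ i, i < 116492 → P i := stepQ 116491 Q116491 (allL N116491 (tt N117274 (iv1 F504233)) (tt N90322 F500422) (tt N105378 F500419) (tt N110905 F500420) (tt N118206 (iv4 F509138)) (tt N89283 (iv5 D219750)) (tt N105376 (iv6 F500423)) (tt N90952 F500421))
theorem Q116493 : ∀ i, i < 116493 → P i := stepQ 116492 Q116492 (allL N116492 (tt N120536 F521323) (tt N116836 (iv0 F502094)) (tt N116992 (iv2 F502858)) (tt N117156 (iv3 F503668)) (tt N89284 F500424) (tt N116828 (iv5 F502041)) (tt N89283 (iv6 D219751)) (tt N121615 (iv7 F527346)))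
theorem Q116494 : ∀ i, i < 116494 → P i := stepQ 116493 Q116493 (allL N116493 (tt N117085 (iv1 F503303)) (tt N89284 (iv0 D219752)) (tt N112353 (iv2 F500428)) (tt N106389 F500426) (tt N96169 (iv4 F500429)) (tt N107958 F500425) (tt N96167 F500427) (tt N117086 (iv7 F503305)))
theorem Q116495 : ∀ i, i < 116495 → P i := stepQ 116494 Q116494 (allL N116494 (tt N117086 (iv1 F503306)) (tt N112353 (iv0 F500433)) (tt N117085 F503304) (tt N89286 F500430) (tt N121615 (iv4 F527344)) (tt N89547 F500431) (tt N90956 F500432) (tt N89284 (iv7 D219753)))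
theorem Q116496 : ∀ i, i < 116496 → P i := stepQ 116495 Q116495 (allL N116495 (tt N99122 (iv1 F500439)) (tt N99593 (iv0 F500438)) (tt N99095 F500434) (tt N89294 (iv3 D219754)) (tt N91049 F500435) (tt N99144 (iv5 F500440)) (tt N93641 F500436) (tt N90914 F500437))
theorem Q116497 : ∀ i, i < 116497 → P i := stepQ 116496 Q116496 (allL N116496 (tt N90937 F500446) (tt N90936 F500447) (tt N89301 F500441) (tt N99144 F500442) (tt N90882 F500443) (tt N89294 (iv5 D219755)) (tt N99129 F500444) (tt N90915 F500445))
theorem Q116498 : ∀ i, i < 116498 → P i := stepQ 116497 Q116497 (allL N116497 (tt N116546 (iv1 F500699)) (tt N90343 F500452) (tt N90919 F500448) (tt N99213 F500449) (tt N113399 F500450) (tt N89296 (iv5 D219756)) (tt N122539 D225798) (tt N90925 F500451))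
theorem Q116499 : ∀ i, i < 116499 → P i := stepQ 116498 Q116498 (allL N116498 (tt N90921 (iv1 F500458)) (tt N90920 F500459) (tt N90922 F500453) (tt N106271 F500454) (tt N112611 F500455) (tt N99523 F500456) (tt N90927 F500457) (tt N89297 (iv7 D219757)))
theorem Q116500 : ∀ i, i < 116500 → P i := stepQ 116499 Q116499 (allL N116499 (tt N98788 F500464) (tt N98785 F500466) (tt N98786 F500460) (tt N89298 (iv3 D219758)) (tt N106964 F500461) (tt N100417 (iv5 F500465)) (tt N100403 F500462) (tt N90928 F500463))
theorem Q116501 : ∀ i, i < 116501 → P i := stepQ 116500 Q116500 (allL N116500 (tt N116543 (iv1 F500691)) (tt N109506 F500472) (tt N90931 F500467) (tt N100417 F500468) (tt N113396 F500471) (tt N89298 (iv5 D219759)) (tt N90931 F500469) (tt N90929 F500470))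
theorem Q116502 : ∀ i, i < 116502 → P i := stepQ 116501 Q116501 (allL N116501 (tt N109506 F500479) (tt N116543 (iv0 F500690)) (tt N90929 F500475) (tt N99130 F500476) (tt N113394 F500477) (tt N89299 (iv5 D219760)) (tt N121240 (iv6 F525316)) (tt N90931 F500478))
theorem Q116503 : ∀ i, i < 116503 → P i := stepQ 116502 Q116502 (allL N116502 (tt N121397 (iv1 F526126)) (tt N105983 (iv0 F500483)) (tt N90930 F500480) (tt N99131 F500481) (tt N90313 F500482) (tt N119794 (iv5 F517448)) (tt N89299 (iv6 D219761)) (tt N121276 (iv7 F525519)))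
theorem Q116504 : ∀ i, i < 116504 → P i := stepQ 116503 Q116503 (allL N116503 (tt N90935 (iv1 F500489)) (tt N89300 (iv0 D219762)) (tt N90934 (iv2 F500488)) (tt N99120 F500487) (tt N106882 F500486) (tt N109505 F500485) (tt N122045 (iv6 F529825)) (tt N90933 F500490))
theorem Q116505 : ∀ i, i < 116505 → P i := stepQ 116504 Q116504 (allL N116504 (tt N90915 (iv1 F500493)) (tt N89301 (iv0 D219763)) (tt N90937 F500496) (tt N110670 (iv3 F500494)) (tt N113390 F500492) (tt N89310 F500491) (tt N99127 (iv6 F500497)) (tt N90936 (iv7 F500495)))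
theorem Q116506 : ∀ i, i < 116506 → P i := stepQ 116505 Q116505 (allL N116505 (tt N89301 (iv1 D219764)) (tt N90915 F500500) (tt N90936 (iv2 F500505)) (tt N99134 (iv3 F500504)) (tt N113322 F500503) (tt N90311 F500502) (tt N121859 (iv6 F528750)) (tt N90937 F500501))
theorem Q116507 : ∀ i, i < 116507 → P i := stepQ 116506 Q116506 (allL N116506 (tt N99202 F500510) (tt N99196 F500511) (tt N90991 F500506) (tt N98807 F500507) (tt N89302 (iv4 D219765)) (tt N109501 F500509) (tt N119937 F518131) (tt N90989 F500508))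
theorem Q116508 : ∀ i, i < 116508 → P i := stepQ 116507 Q116507 (allL N116507 (tt N99196 F500516) (tt N99202 F500517) (tt N90989 F500512) (tt N118351 F509857) (tt N89303 (iv4 D219766)) (tt N109503 F500513) (tt N110775 F500514) (tt N90991 F500515))
theorem Q116509 : ∀ i, i < 116509 → P i := stepQ 116508 Q116508 (allL N116508 (tt N97286 (iv1 F500523)) (tt N89304 (iv0 D219767)) (tt N96072 (iv2 F500522)) (tt N91322 F500520) (tt N98794 F500519) (tt N114244 F500518) (tt N91358 F500521) (tt N99172 F500524))
theorem Q116510 : ∀ i, i < 116510 → P i := stepQ 116509 Q116509 (allL N116509 (tt N106869 F500526) (tt N106871 F500527) (tt N91095 F500525) (tt N117356 (iv3 F504638)) (tt N89305 (iv4 D219768)) (tt N122540 D225799) (tt N118070 (iv6 F508414)) (tt N121399 (iv7 F526137)))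
theorem Q116511 : ∀ i, i < 116511 → P i := stepQ 116510 Q116510 (allL N116510 (tt N101141 F500533) (tt N113805 F500535) (tt N91108 F500528) (tt N106073 F500529) (tt N103485 F500530) (tt N116265 F500531) (tt N89308 (iv6 D219769)) (tt N114669 F500532))
theorem Q116512 : ∀ i, i < 116512 → P i := stepQ 116511 Q116511 (allL N116511 (tt N106581 F500540) (tt N90389 (iv0 F500541)) (tt N90312 F500536) (tt N100251 F500537) (tt N119767 (iv4 F517315)) (tt N90874 F500538) (tt N89311 (iv6 D219770)) (tt N101446 F500539))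
theorem Q116513 : ∀ i, i < 116513 → P i := stepQ 116512 Q116512 (allL N116512 (tt N119594 (iv1 F516427)) (tt N105058 (iv0 F500547)) (tt N100327 F500542) (tt N89314 F500543) (tt N97800 F500544) (tt N109217 F500545) (tt N89313 (iv6 D219771)) (tt N109216 F500546))
theorem Q116514 : ∀ i, i < 116514 → P i := stepQ 116513 Q116513 (allL N116513 (tt N89317 (iv1 D219772)) (tt N101256 F500548) (tt N101255 F500554) (tt N101064 (iv3 F500552)) (tt N108314 F500551) (tt N110074 F500550) (tt N101239 (iv6 F500553)) (tt N91691 F500549))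
theorem Q116515 : ∀ i, i < 116515 → P i := stepQ 116514 Q116514 (allL N116514 (tt N90093 F500559) (tt N105223 (iv0 F500560)) (tt N105225 F500555) (tt N89327 (iv3 D219773)) (tt N98237 F500556) (tt N105215 F500557) (tt N121745 (iv6 F528070)) (tt N91684 F500558))
theorem Q116516 : ∀ i, i < 116516 → P i := stepQ 116515 Q116515 (allL N116515 (tt N101040 F500564) (tt N101037 F500565) (tt N114904 F500561) (tt N121283 F525551) (tt N89329 (iv4 D219774)) (tt N111758 F500563) (tt N89330 F500562) (tt N120478 (iv7 F520986)))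
theorem Q116517 : ∀ i, i < 116517 → P i := stepQ 116516 Q116516 (allL N116516 (tt N109970 F500568) (tt N120219 (iv0 F519665)) (tt N120221 F519673) (tt N117439 (iv3 F505033)) (tt N113517 F500566) (tt N89332 (iv5 D219775)) (tt N121549 (iv6 F526982)) (tt N113515 F500567))
theorem Q116518 : ∀ i, i < 116518 → P i := stepQ 116517 Q116517 (allL N116517 (tt N91139 F500573) (tt N113539 F500608) (tt N89340 F500569) (tt N112990 F500570) (tt N110700 F500571) (tt N112988 F500572) (tt N89333 (iv6 D219776)) (tt N122489 (iv7 F532437)))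
theorem Q116519 : ∀ i, i < 116519 → P i := stepQ 116518 Q116518 (allL N116518 (tt N113528 (iv1 F500579)) (tt N91167 (iv0 F500578)) (tt N89342 F500574) (tt N111337 F500575) (tt N99078 F500576) (tt N110494 F500577) (tt N89334 (iv6 D219777)) (tt N120179 (iv7 F519459)))
theorem Q116520 : ∀ i, i < 116520 → P i := stepQ 116519 Q116519 (allL N116519 (tt N116416 (iv1 F500586)) (tt N109886 (iv0 F500585)) (tt N89345 F500580) (tt N110366 F500581) (tt N110701 F500582) (tt N89492 F500583) (tt N89335 (iv6 D219778)) (tt N112688 F500584))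
theorem Q116521 : ∀ i, i < 116521 → P i := stepQ 116520 Q116520 (allL N116520 (tt N119610 F516501) (tt N120168 (iv0 F519398)) (tt N89348 F500587) (tt N106339 F500588) (tt N106671 F500589) (tt N90899 F500590) (tt N89336 (iv6 D219779)) (tt N110016 F500591))
theorem Q116522 : ∀ i, i < 116522 → P i := stepQ 116521 Q116521 (allL N116521 (tt N112346 F500596) (tt N116097 (iv0 F500595)) (tt N91128 F500592) (tt N113211 F500593) (tt N119920 (iv4 F518044)) (tt N113794 F500594) (tt N89338 (iv6 D219780)) (tt N119919 (iv7 F518042)))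
theorem Q116523 : ∀ i, i < 116523 → P i := stepQ 116522 Q116522 (allL N116522 (tt N113518 (iv1 F517381)) (tt N121549 F526983) (tt N121489 (iv2 F526650)) (tt N89339 (iv3 D219781)) (tt N121094 (iv4 F524488)) (tt N108539 F500597) (tt N122309 (iv6 F531333)) (tt N108538 F500598))
theorem Q116524 : ∀ i, i < 116524 → P i := stepQ 116523 Q116523 (allL N116523 (tt N113356 F500601) (tt N113358 F500602) (tt N110700 F500599) (tt N122309 F531331) (tt N89340 F500600) (tt N119752 (iv5 F517239)) (tt N89339 (iv6 D219782)) (tt N120230 (iv7 F519720)))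
theorem Q116525 : ∀ i, i < 116525 → P i := stepQ 116524 Q116524 (allL N116524 (tt N122489 F532439) (tt N89340 (iv0 D219783)) (tt N91139 (iv2 F500605)) (tt N113212 F500606) (tt N113403 F500603) (tt N119306 (iv5 F514952)) (tt N114257 F500604) (tt N113539 F500607))
theorem Q116526 : ∀ i, i < 116526 → P i := stepQ 116525 Q116525 (allL N116525 (tt N122319 F531395) (tt N116175 (iv0 F528664)) (tt N112988 F500609) (tt N116177 F500610) (tt N118582 F511004) (tt N89340 (iv5 D219784)) (tt N89341 F500611) (tt N122541 D225800))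
theorem Q116527 : ∀ i, i < 116527 → P i := stepQ 116526 Q116526 (allL N116526 (tt N113539 (iv1 F500612)) (tt N91139 F500613) (tt N122489 (iv2 F532433)) (tt N120180 (iv3 F519463)) (tt N120230 (iv4 F519718)) (tt N122541 (iv5 F532742)) (tt N120179 F519462) (tt N89340 (iv7 D219785)))
theorem Q116528 : ∀ i, i < 116528 → P i := stepQ 116527 Q116527 (allL N116527 (tt N113362 F500616) (tt N113364 F500617) (tt N113734 F500614) (tt N118585 (iv3 F511014)) (tt N89341 (iv4 D219786)) (tt N118470 (iv5 F510546)) (tt N118582 (iv6 F511003)) (tt N113732 F500615))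
theorem Q116529 : ∀ i, i < 116529 → P i := stepQ 116528 Q116528 (allL N116528 (tt N89342 (iv1 D219787)) (tt N120179 (iv0 F519460)) (tt N91167 F500622) (tt N113511 F500623) (tt N99269 F500620) (tt N109778 F500619) (tt N109780 (iv6 F500621)) (tt N113528 F500618))
theorem Q116530 : ∀ i, i < 116530 → P i := stepQ 116529 Q116529 (allL N116529 (tt N91167 (iv1 F500627)) (tt N113528 F500628) (tt N120179 (iv2 F519456)) (tt N113545 F500624) (tt N109967 F500625) (tt N110493 F500626) (tt N122489 (iv6 F532436)) (tt N89342 (iv7 D219788)))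
theorem Q116531 : ∀ i, i < 116531 → P i := stepQ 116530 Q116530 (allL N116530 (tt N107417 F500633) (tt N107399 F500634) (tt N107414 F500629) (tt N89345 F500630) (tt N113183 F500631) (tt N119091 (iv5 F513745)) (tt N89343 (iv6 D219789)) (tt N107415 F500632))
theorem Q116532 : ∀ i, i < 116532 → P i := stepQ 116531 Q116531 (allL N116531 (tt N122537 (iv1 F532721)) (tt N122542 D225801) (tt N107199 F500635) (tt N89344 (iv3 D219790)) (tt N113181 F500636) (tt N118302 (iv5 F509597)) (tt N109959 F500637) (tt N110702 F500638))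
theorem Q116533 : ∀ i, i < 116533 → P i := stepQ 116532 Q116532 (allL N116532 (tt N112688 (iv1 F500643)) (tt N89345 (iv0 D219791)) (tt N116416 (iv2 F500640)) (tt N113340 F500641) (tt N110003 F500639) (tt N121544 (iv5 F526955)) (tt N113445 (iv6 F500644)) (tt N109886 F500642))
theorem Q116534 : ∀ i, i < 116534 → P i := stepQ 116533 Q116533 (allL N116533 (tt N109886 (iv1 F500649)) (tt N116416 F500650) (tt N112688 F500645) (tt N107415 F500646) (tt N120198 F519544) (tt N110923 F500647) (tt N112317 F500648) (tt N89345 (iv7 D219792)))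
theorem Q116535 : ∀ i, i < 116535 → P i := stepQ 116534 Q116534 (allL N116534 (tt N89348 (iv1 D219793)) (tt N110016 F500651) (tt N120168 (iv2 F519395)) (tt N113473 (iv3 F500652)) (tt N120231 (iv4 F519723)) (tt N120783 (iv5 F522686)) (tt N117208 (iv6 F503917)) (tt N119610 F516502))
theorem Q116536 : ∀ i, i < 116536 → P i := stepQ 116535 Q116535 (allL N116535 (tt N118759 (iv1 F511930)) (tt N109207 F500656) (tt N119860 (iv2 F517743)) (tt N110696 F500653) (tt N89354 (iv4 D219794)) (tt N98895 F500654) (tt N119111 (iv6 F513843)) (tt N98894 F500655))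
theorem Q116537 : ∀ i, i < 116537 → P i := stepQ 116536 Q116536 (allL N116536 (tt N116430 F500660) (tt N89646 (iv0 F500661)) (tt N116838 F502105) (tt N89358 (iv3 D219795)) (tt N100247 F500657) (tt N89577 F500658) (tt N113461 F500659) (tt N116837 (iv7 F502101)))
theorem Q116538 : ∀ i, i < 116538 → P i := stepQ 116537 Q116537 (allL N116537 (tt N110655 F500666) (tt N110658 (iv0 F500667)) (tt N95073 F500662) (tt N89360 (iv3 D219796)) (tt N94705 F500663) (tt N118319 (iv5 F509681)) (tt N94711 F500664) (tt N110656 F500665))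
theorem Q116539 : ∀ i, i < 116539 → P i := stepQ 116538 Q116538 (allL N116538 (tt N106971 F500673) (tt N106970 F500674) (tt N106973 F500668) (tt N93582 F500669) (tt N108949 F500670) (tt N89361 (iv5 D219797)) (tt N108948 F500671) (tt N91756 F500672))
theorem Q116540 : ∀ i, i < 116540 → P i := stepQ 116539 Q116539 (allL N116539 (tt N117146 (iv1 F503623)) (tt N117605 (iv0 F505964)) (tt N94238 F500675) (tt N120739 (iv3 F522443)) (tt N117509 (iv4 F505416)) (tt N89363 (iv5 D219798)) (tt N117859 F507315) (tt N112800 F500676))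
theorem Q116541 : ∀ i, i < 116541 → P i := stepQ 116540 Q116540 (allL N116540 (tt N89368 (iv1 D219799)) (tt N113270 F500677) (tt N91328 (iv2 F500681)) (tt N117859 F507313) (tt N90762 F500680) (tt N101852 F500679) (tt N120739 (iv6 F522444)) (tt N90761 F500678))
theorem Q116542 : ∀ i, i < 116542 → P i := stepQ 116541 Q116541 (allL N116541 (tt N116465 F500685) (tt N117183 F503805) (tt N108751 F500682) (tt N108544 F500683) (tt N117822 F507128) (tt N118837 (iv5 F512337)) (tt N89371 (iv6 D219800)) (tt N108553 F500684))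
theorem Q116543 : ∀ i, i < 116543 → P i := stepQ 116542 Q116542 (allL N116542 (tt N121424 (iv1 F526290)) (tt N116944 (iv0 F502630)) (tt N121422 (iv2 F526270)) (tt N89373 (iv3 D219801)) (tt N116393 F500686) (tt N121375 F526023) (tt N119831 (iv6 F517596)) (tt N112676 F500687))
theorem Q116544 : ∀ i, i < 116544 → P i := stepQ 116543 Q116543 (allL N116543 (tt N116501 F500690) (tt N116500 F500691) (tt N117291 F504318) (tt N121375 (iv3 F526019)) (tt N112558 F500688) (tt N89373 (iv5 D219802)) (tt N121374 F526017) (tt N113435 F500689))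
theorem Q116545 : ∀ i, i < 116545 → P i := stepQ 116544 Q116544 (allL N116544 (tt N106572 F500693) (tt N110690 F500695) (tt N119766 (iv2 F517312)) (tt N119831 F517595) (tt N89374 F500692) (tt N112586 (iv5 F500694)) (tt N89373 (iv6 D219803)) (tt N119765 (iv7 F517307)))
theorem Q116546 : ∀ i, i < 116546 → P i := stepQ 116545 Q116545 (allL N116545 (tt N117483 F505273) (tt N118170 (iv0 F508989)) (tt N120534 F521309) (tt N89375 (iv3 D219804)) (tt N117005 (iv4 F502928)) (tt N122543 D225802) (tt N105892 F500696) (tt N117015 (iv7 F502979)))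
theorem Q116547 : ∀ i, i < 116547 → P i := stepQ 116546 Q116546 (allL N116546 (tt N113477 F500698) (tt N116497 F500699) (tt N116959 (iv2 F502708)) (tt N122543 (iv3 F532753)) (tt N112556 F500697) (tt N89375 (iv5 D219805)) (tt N121979 (iv6 F529429)) (tt N117016 (iv7 F502982)))
theorem Q116548 : ∀ i, i < 116548 → P i := stepQ 116547 Q116547 (allL N116547 (tt N90913 (iv1 F500702)) (tt N89376 (iv0 D219806)) (tt N116957 (iv2 F502697)) (tt N117004 (iv3 F502924)) (tt N112549 F500701) (tt N90918 F500700) (tt N117003 (iv6 F502920)) (tt N98823 F500703))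
theorem Q116549 : ∀ i, i < 116549 → P i := stepQ 116548 Q116548 (allL N116548 (tt N108402 (iv1 F500709)) (tt N101104 (iv0 F500708)) (tt N89386 F500704) (tt N90048 F500705) (tt N108382 F500706) (tt N121910 (iv5 F529013)) (tt N89383 (iv6 D219807)) (tt N107040 F500707))
theorem Q116550 : ∀ i, i < 116550 → P i := stepQ 116549 Q116549 (allL N116549 (tt N89386 (iv1 D219808)) (tt N107040 F500710) (tt N101104 F500714) (tt N122046 (iv3 F529830)) (tt N108455 (iv4 F500712)) (tt N100967 F500715) (tt N101097 (iv6 F500713)) (tt N108402 F500711))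
theorem Q116551 : ∀ i, i < 116551 → P i := stepQ 116550 Q116550 (allL N116550 (tt N106555 F500720) (tt N119973 (iv0 F518335)) (tt N121910 (iv2 F529010)) (tt N89392 F500717) (tt N116726 (iv4 F501519)) (tt N89386 (iv5 D219809)) (tt N89388 F500718) (tt N108403 F500719))
theorem Q116552 : ∀ i, i < 116552 → P i := stepQ 116551 Q116551 (allL N116551 (tt N105140 F500724) (tt N107384 F500725) (tt N110875 F500721) (tt N112790 (iv3 F500726)) (tt N89392 (iv4 D219810)) (tt N120304 (iv5 F520118)) (tt N89393 F500722) (tt N110873 F500723))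
theorem Q116553 : ∀ i, i < 116553 → P i := stepQ 116552 Q116552 (allL N116552 (tt N89404 F500731) (tt N89395 (iv0 D219811)) (tt N89401 (iv2 F500729)) (tt N110060 F500728) (tt N122152 (iv4 F530453)) (tt N101881 F500727) (tt N122431 (iv6 F532061)) (tt N89402 (iv7 F500730)))
theorem Q116554 : ∀ i, i < 116554 → P i := stepQ 116553 Q116553 (allL N116553 (tt N89395 (iv1 D219812)) (tt N89404 F500732) (tt N89402 (iv2 F500735)) (tt N100006 (iv3 F500736)) (tt N122153 (iv4 F530462)) (tt N100005 F500734) (tt N121440 (iv6 F526388)) (tt N89401 F500733))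
theorem Q116555 : ∀ i, i < 116555 → P i := stepQ 116554 Q116554 (allL N116554 (tt N112918 F500739) (tt N112795 F500740) (tt N89403 F500737) (tt N122544 D225803) (tt N89395 (iv4 D219813)) (tt N117844 (iv5 F507232)) (tt N112959 F500738) (tt N121983 (iv7 F529454)))
theorem Q116556 : ∀ i, i < 116556 → P i := stepQ 116555 Q116555 (allL N116555 (tt N89402 (iv1 F500744)) (tt N89401 F500745) (tt N89404 F500741) (tt N110051 F500742) (tt N121983 (iv4 F529452)) (tt N89396 F500743) (tt N120067 (iv6 F518867)) (tt N89395 (iv7 D219814)))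
theorem Q116557 : ∀ i, i < 116557 → P i := stepQ 116556 Q116556 (allL N116556 (tt N120323 (iv1 F520193)) (tt N118585 F511018) (tt N122163 (iv2 F530517)) (tt N122265 (iv3 F531061)) (tt N89397 (iv4 D219815)) (tt N118699 F511611) (tt N122545 D225804) (tt N122530 (iv7 F532676)))
theorem Q116558 : ∀ i, i < 116558 → P i := stepQ 116557 Q116557 (allL N116557 (tt N122327 (iv1 F531445)) (tt N117387 (iv0 F518871)) (tt N122164 (iv2 F530523)) (tt N100962 F500746) (tt N122545 (iv4 F532760)) (tt N121863 F528778) (tt N89397 (iv6 D219816)) (tt N122528 (iv7 F532663)))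
theorem Q116559 : ∀ i, i < 116559 → P i := stepQ 116558 Q116558 (allL N116558 (tt N118585 F511017) (tt N120323 (iv0 F520192)) (tt N122530 (iv2 F532672)) (tt N118567 F510948) (tt N89399 (iv4 D219817)) (tt N121431 (iv5 F526335)) (tt N121432 (iv6 F526339)) (tt N122163 (iv7 F530518)))
theorem Q116560 : ∀ i, i < 116560 → P i := stepQ 116559 Q116559 (allL N116559 (tt N120242 (iv1 F519772)) (tt N113306 F500747) (tt N122152 (iv2 F530458)) (tt N122252 (iv3 F531019)) (tt N89401 (iv4 D219818)) (tt N119180 (iv5 F514222)) (tt N122546 D225805) (tt N122153 (iv7 F530460)))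
theorem Q116561 : ∀ i, i < 116561 → P i := stepQ 116560 Q116560 (allL N116560 (tt N122547 D225806) (tt N122512 (iv0 F532575)) (tt N122431 (iv2 F532058)) (tt N100967 F500748) (tt N122546 (iv4 F532766)) (tt N122046 (iv5 F529832)) (tt N89401 (iv6 D219819)) (tt N122430 (iv7 F532055)))
theorem Q116562 : ∀ i, i < 116562 → P i := stepQ 116561 Q116561 (allL N116561 (tt N113306 F500750) (tt N120242 (iv0 F519771)) (tt N122153 F530465) (tt N121393 (iv3 F526113)) (tt N89402 (iv4 D219820)) (tt N101529 F500749) (tt N122548 D225807) (tt N122152 (iv7 F530457)))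
theorem Q116563 : ∀ i, i < 116563 → P i := stepQ 116562 Q116562 (allL N116562 (tt N122277 F531131) (tt N122549 D225808) (tt N121440 (iv2 F526386)) (tt N114971 F500751) (tt N122548 (iv4 F532779)) (tt N117332 (iv5 F504501)) (tt N89402 (iv6 D219821)) (tt N122166 (iv7 F530537)))
theorem Q116564 : ∀ i, i < 116564 → P i := stepQ 116563 Q116563 (allL N116563 (tt N121983 F529456) (tt N89403 (iv0 D219822)) (tt N112918 (iv2 F500753)) (tt N122144 (iv3 F530414)) (tt N100590 F500752) (tt N119181 (iv5 F514227)) (tt N121505 (iv6 F526737)) (tt N112795 (iv7 F500754)))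
theorem Q116565 : ∀ i, i < 116565 → P i := stepQ 116564 Q116564 (allL N116564 (tt N89403 (iv1 D219823)) (tt N121983 (iv0 F529455)) (tt N112795 (iv2 F500757)) (tt N121785 (iv3 F528301)) (tt N90249 F500756) (tt N117880 F507402) (tt N119317 (iv6 F514982)) (tt N112918 F500755))
theorem Q116566 : ∀ i, i < 116566 → P i := stepQ 116565 Q116565 (allL N116565 (tt N112795 (iv1 F500760)) (tt N112918 F500761) (tt N121983 (iv2 F529451)) (tt N117807 (iv3 F507067)) (tt N89404 F500758) (tt N117806 (iv5 F507065)) (tt N94309 F500759) (tt N89403 (iv7 D219824)))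
theorem Q116567 : ∀ i, i < 116567 → P i := stepQ 116566 Q116566 (allL N116566 (tt N119305 (iv1 F514948)) (tt N89416 (iv0 F500766)) (tt N120067 (iv2 F518864)) (tt N89419 F500762) (tt N94309 F500763) (tt N111087 F500764) (tt N89404 (iv6 D219825)) (tt N113737 F500765))
theorem Q116568 : ∀ i, i < 116568 → P i := stepQ 116567 Q116567 (allL N116567 (tt N116116 (iv1 F500771)) (tt N114050 F500772) (tt N116171 F500767) (tt N100950 F500768) (tt N117099 (iv4 F503378)) (tt N110404 F500769) (tt N113815 F500770) (tt N89408 (iv7 D219826)))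
theorem Q116569 : ∀ i, i < 116569 → P i := stepQ 116568 Q116568 (allL N116568 (tt N107477 F500776) (tt N99407 F500777) (tt N100872 F500773) (tt N89413 F500774) (tt N121086 (iv4 F524445)) (tt N89534 F500775) (tt N89411 (iv6 D219827)) (tt N107475 F500778))
theorem Q116570 : ∀ i, i < 116570 → P i := stepQ 116569 Q116569 (allL N116569 (tt N89416 (iv1 D219828)) (tt N119305 (iv0 F514947)) (tt N113737 F500783) (tt N113924 (iv3 F500781)) (tt N94308 F500779) (tt N111836 F500780) (tt N113728 (iv6 F500782)) (tt N120067 (iv7 F518868)))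
theorem Q116571 : ∀ i, i < 116571 → P i := stepQ 116570 Q116570 (allL N116570 (tt N120067 (iv1 F518870)) (tt N113737 (iv0 F500787)) (tt N89416 (iv2 D219829)) (tt N100954 F500784) (tt N117809 (iv4 F507078)) (tt N100813 F500785) (tt N113740 F500786) (tt N119305 (iv7 F514946)))
theorem Q116572 : ∀ i, i < 116572 → P i := stepQ 116571 Q116571 (allL N116571 (tt N113737 (iv1 F500790)) (tt N120067 (iv0 F518869)) (tt N119305 (iv2 F514943)) (tt N89418 F500788) (tt N117807 (iv4 F507070)) (tt N100812 F500789) (tt N119600 F516461) (tt N89416 (iv7 D219830)))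
theorem Q116573 : ∀ i, i < 116573 → P i := stepQ 116572 Q116572 (allL N116572 (tt N110991 (iv1 F500796)) (tt N112922 (iv0 F500795)) (tt N112920 F500791) (tt N119600 (iv3 F516459)) (tt N89419 F500792) (tt N115098 F500794) (tt N89418 (iv6 D219831)) (tt N112921 F500793))
theorem Q116574 : ∀ i, i < 116574 → P i := stepQ 116573 Q116573 (allL N116573 (tt N110303 F500798) (tt N101117 F500799) (tt N89428 F500797) (tt N119716 F517068) (tt N89425 (iv4 D219832)) (tt N119937 (iv5 F518128)) (tt N98802 (iv6 F500805)) (tt N119922 (iv7 F518053)))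
theorem Q116575 : ∀ i, i < 116575 → P i := stepQ 116574 Q116574 (allL N116574 (tt N122336 (iv1 F531493)) (tt N91049 (iv0 F500803)) (tt N89429 F500800) (tt N107356 F500801) (tt N98802 F500804) (tt N105734 F500802) (tt N89425 (iv6 D219833)) (tt N122002 (iv7 F529571)))
theorem Q116576 : ∀ i, i < 116576 → P i := stepQ 116575 Q116575 (allL N116575 (tt N112691 F500810) (tt N99044 F500811) (tt N121706 (iv2 F527864)) (tt N99616 F500806) (tt N89426 (iv4 D219834)) (tt N98884 F500809) (tt N112684 F500807) (tt N108459 F500808))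
theorem Q116577 : ∀ i, i < 116577 → P i := stepQ 116576 Q116576 (allL N116576 (tt N91708 F500816) (tt N111886 F500817) (tt N101102 F500812) (tt N89427 (iv3 D219835)) (tt N101730 (iv4 F500815)) (tt N101101 F500813) (tt N113295 F500818) (tt N101742 F500814))
theorem Q116578 : ∀ i, i < 116578 → P i := stepQ 116577 Q116577 (allL N116577 (tt N99044 F500822) (tt N112691 F500823) (tt N108459 F500820) (tt N122206 (iv3 F530769)) (tt N89427 (iv4 D219836)) (tt N99040 F500821) (tt N120225 F519693) (tt N121706 (iv7 F527868)))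
theorem Q116579 : ∀ i, i < 116579 → P i := stepQ 116578 Q116578 (allL N116578 (tt N119708 (iv1 F517030)) (tt N119707 (iv0 F517024)) (tt N119932 (iv2 F518101)) (tt N89428 (iv3 D219837)) (tt N89440 F500824) (tt N121603 (iv5 F527281)) (tt N117001 F502913) (tt N101466 F500825))
theorem Q116580 : ∀ i, i < 116580 → P i := stepQ 116579 Q116579 (allL N116579 (tt N107518 F500827) (tt N116935 (iv0 F502582)) (tt N119937 (iv2 F518132)) (tt N121603 (iv3 F527278)) (tt N90992 F500826) (tt N89428 (iv5 D219838)) (tt N90991 F500828) (tt N119936 F518126))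
theorem Q116581 : ∀ i, i < 116581 → P i := stepQ 116580 Q116580 (allL N116580 (tt N98805 (iv1 F500833)) (tt N98801 (iv0 F500832)) (tt N98802 F500829) (tt N117001 (iv3 F502911)) (tt N89429 F500830) (tt N121453 (iv5 F526464)) (tt N89428 (iv6 D219839)) (tt N98803 F500831))
theorem Q116582 : ∀ i, i < 116582 → P i := stepQ 116581 Q116581 (allL N116581 (tt N89429 (iv1 D219840)) (tt N122002 (iv0 F529572)) (tt N91049 F500836) (tt N91067 (iv3 F500834)) (tt N99095 F500837) (tt N119176 (iv5 F514205)) (tt N99094 (iv6 F500835)) (tt N122336 (iv7 F531492)))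
theorem Q116583 : ∀ i, i < 116583 → P i := stepQ 116582 Q116582 (allL N116582 (tt N91049 (iv1 F500842)) (tt N122336 (iv0 F531494)) (tt N122002 (iv2 F529567)) (tt N89443 F500838) (tt N98803 F500839) (tt N116340 F500840) (tt N112686 F500841) (tt N89429 (iv7 D219841)))
theorem Q116584 : ∀ i, i < 116584 → P i := stepQ 116583 Q116583 (allL N116583 (tt N91446 F500847) (tt N97410 F500848) (tt N95796 F500843) (tt N117558 (iv3 F505688)) (tt N89434 F500844) (tt N97714 F500845) (tt N89433 (iv6 D219842)) (tt N97405 F500846))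
theorem Q116585 : ∀ i, i < 116585 → P i := stepQ 116584 Q116584 (allL N116584 (tt N101497 (iv1 F500851)) (tt N89440 (iv0 D219843)) (tt N99033 F500854) (tt N111535 F500849) (tt N99015 F500850) (tt N99028 (iv5 F500853)) (tt N93365 (iv6 F500852)) (tt N112629 F500855))
theorem Q116586 : ∀ i, i < 116586 → P i := stepQ 116585 Q116585 (allL N116585 (tt N89440 (iv1 D219844)) (tt N101497 (iv0 F500862)) (tt N112629 F500859) (tt N108921 (iv3 F500858)) (tt N99034 (iv4 F500857)) (tt N96729 F500860) (tt N94977 F500861) (tt N99033 F500856))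
theorem Q116587 : ∀ i, i < 116587 → P i := stepQ 116586 Q116586 (allL N116586 (tt N99033 (iv1 F500865)) (tt N112629 F500864) (tt N89440 (iv2 D219845)) (tt N117610 (iv3 F505984)) (tt N119932 (iv4 F518105)) (tt N120538 (iv5 F521332)) (tt N101533 F500866) (tt N101497 F500863))
theorem Q116588 : ∀ i, i < 116588 → P i := stepQ 116587 Q116587 (allL N116587 (tt N118356 F509887) (tt N107927 (iv0 F500869)) (tt N120538 (iv2 F521331)) (tt N89441 F500867) (tt N121610 (iv4 F527321)) (tt N89440 (iv5 D219846)) (tt N120523 (iv6 F521243)) (tt N112630 F500868))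
theorem Q116589 : ∀ i, i < 116589 → P i := stepQ 116588 Q116588 (allL N116588 (tt N99119 (iv1 F500874)) (tt N99588 (iv0 F500875)) (tt N101533 F500870) (tt N89442 F500871) (tt N117001 (iv4 F502910)) (tt N100931 F500873) (tt N89440 (iv6 D219847)) (tt N100917 F500872))
theorem Q116590 : ∀ i, i < 116590 → P i := stepQ 116589 Q116589 (allL N116589 (tt N112210 F500879) (tt N112084 F500880) (tt N112209 F500876) (tt N120523 (iv3 F521241)) (tt N110454 F500877) (tt N120522 (iv5 F521236)) (tt N89441 (iv6 D219848)) (tt N112208 F500878))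
theorem Q116591 : ∀ i, i < 116591 → P i := stepQ 116590 Q116590 (allL N116590 (tt N115069 F500883) (tt N115074 F500884) (tt N122457 (iv2 F532228)) (tt N100931 F500881) (tt N117114 (iv4 F503473)) (tt N89442 (iv5 D219849)) (tt N120522 (iv6 F521237)) (tt N100929 F500882))
theorem Q116592 : ∀ i, i < 116592 → P i := stepQ 116591 Q116591 (allL N116591 (tt N101183 F500888) (tt N101187 F500889) (tt N89451 F500885) (tt N119933 (iv3 F518108)) (tt N89446 (iv4 D219850)) (tt N107353 F500886) (tt N119107 F513829) (tt N107352 F500887))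
theorem Q116593 : ∀ i, i < 116593 → P i := stepQ 116592 Q116592 (allL N116592 (tt N119011 F513274) (tt N89515 (iv0 F500892)) (tt N89452 F500890) (tt N112687 F500891) (tt N119107 F513827) (tt N121932 (iv5 F529140)) (tt N89446 (iv6 D219851)) (tt N122001 (iv7 F529563)))
theorem Q116594 : ∀ i, i < 116594 → P i := stepQ 116593 Q116593 (allL N116593 (tt N104135 F500896) (tt N101738 F500897) (tt N89455 F500893) (tt N116188 F500894) (tt N122197 (iv4 F530718)) (tt N89447 (iv5 D219852)) (tt N121932 (iv6 F529141)) (tt N109499 F500895))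
theorem Q116595 : ∀ i, i < 116595 → P i := stepQ 116594 Q116594 (allL N116594 (tt N107352 (iv1 F500899)) (tt N89451 (iv0 D219853)) (tt N101183 F500903) (tt N95320 (iv3 F500900)) (tt N101169 F500898) (tt N95318 (iv5 F500901)) (tt N121963 (iv6 F529332)) (tt N101187 F500902))
theorem Q116596 : ∀ i, i < 116596 → P i := stepQ 116595 Q116595 (allL N116595 (tt N89451 (iv1 D219854)) (tt N107352 F500904) (tt N101187 (iv2 F500907)) (tt N117091 (iv3 F503329)) (tt N101171 F500906) (tt N108270 (iv5 F500908)) (tt N118483 (iv6 F510616)) (tt N101183 F500905))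
theorem Q116597 : ∀ i, i < 116597 → P i := stepQ 116596 Q116596 (allL N116596 (tt N108948 F500910) (tt N117073 (iv0 F503249)) (tt N121962 (iv2 F529322)) (tt N89451 (iv3 D219855)) (tt N89462 F500909) (tt N119938 (iv5 F518136)) (tt N119180 (iv6 F514223)) (tt N122116 (iv7 F530271)))
theorem Q116598 : ∀ i, i < 116598 → P i := stepQ 116597 Q116597 (allL N116597 (tt N107351 F500914) (tt N107350 F500915) (tt N107353 F500911) (tt N119938 (iv3 F518134)) (tt N95574 F500912) (tt N89451 (iv5 D219856)) (tt N117876 (iv6 F507386)) (tt N92355 F500913))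
theorem Q116599 : ∀ i, i < 116599 → P i := stepQ 116598 Q116598 (allL N116598 (tt N94355 F500917) (tt N119109 F513837) (tt N119107 (iv2 F513830)) (tt N119180 (iv3 F514221)) (tt N89452 F500916) (tt N122252 (iv5 F531021)) (tt N89451 (iv6 D219857)) (tt N118499 (iv7 F510699)))
theorem Q116600 : ∀ i, i < 116600 → P i := stepQ 116599 Q116599 (allL N116599 (tt N122001 F529565) (tt N89452 (iv0 D219858)) (tt N119011 (iv2 F513269)) (tt N91442 F500918) (tt N96252 F500919) (tt N110358 F500922) (tt N96251 F500920) (tt N89515 (iv7 F500921)))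
theorem Q116601 : ∀ i, i < 116601 → P i := stepQ 116600 Q116600 (allL N116600 (tt N110400 F500925) (tt N121933 F529151) (tt N121932 F529142) (tt N89465 F500923) (tt N113395 (iv4 F500926)) (tt N89452 (iv5 D219859)) (tt N89455 F500924) (tt N117405 (iv7 F504866)))
theorem Q116602 : ∀ i, i < 116602 → P i := stepQ 116601 Q116601 (allL N116601 (tt N89515 (iv1 F500928)) (tt N119011 (iv0 F513273)) (tt N122001 (iv2 F529560)) (tt N89466 F500927) (tt N118499 (iv4 F510698)) (tt N117405 (iv5 F504867)) (tt N118498 F510697) (tt N89452 (iv7 D219860)))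
theorem Q116603 : ∀ i, i < 116603 → P i := stepQ 116602 Q116602 (allL N116602 (tt N121075 (iv1 F524384)) (tt N101165 F500931) (tt N122197 F530720) (tt N113397 F500929) (tt N89455 (iv4 D219861)) (tt N122550 D225809) (tt N113395 F500930) (tt N122198 (iv7 F530723)))
theorem Q116604 : ∀ i, i < 116604 → P i := stepQ 116603 Q116603 (allL N116603 (tt N117610 (iv1 F505987)) (tt N89462 (iv0 D219862)) (tt N120614 (iv2 F521762)) (tt N93939 F500932) (tt N117892 (iv4 F507467)) (tt N93937 (iv5 F500933)) (tt N117637 (iv6 F506139)) (tt N111611 F503277))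
theorem Q116605 : ∀ i, i < 116605 → P i := stepQ 116604 Q116604 (allL N116604 (tt N120614 F521768) (tt N111611 (iv0 F500936)) (tt N89462 (iv2 D219863)) (tt N101497 F500934) (tt N121962 (iv4 F529325)) (tt N120536 (iv5 F521321)) (tt N94527 F500935) (tt N117610 (iv7 F505985)))
theorem Q116606 : ∀ i, i < 116606 → P i := stepQ 116605 Q116605 (allL N116605 (tt N121615 (iv1 F527347)) (tt N116992 (iv0 F502863)) (tt N120536 (iv2 F521318)) (tt N89463 F500938) (tt N106829 F500940) (tt N89462 (iv5 D219864)) (tt N106828 F500939) (tt N116836 (iv7 F502093)))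
theorem Q116607 : ∀ i, i < 116607 → P i := stepQ 116606 Q116606 (allL N116606 (tt N107073 F500945) (tt N107065 F500946) (tt N89473 F500942) (tt N119695 (iv3 F516964)) (tt N118475 (iv4 F510572)) (tt N113134 F500943) (tt N89471 (iv6 D219865)) (tt N107072 F500944))
theorem Q116608 : ∀ i, i < 116608 → P i := stepQ 116607 Q116607 (allL N116607 (tt N118321 F509694) (tt N117071 (iv0 F503238)) (tt N118592 (iv2 F511050)) (tt N89472 (iv3 D219866)) (tt N89474 F500947) (tt N118518 (iv5 F510782)) (tt N92313 F500954) (tt N116829 (iv7 F502051)))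
theorem Q116609 : ∀ i, i < 116609 → P i := stepQ 116608 Q116608 (allL N116608 (tt N97325 F500948) (tt N118845 (iv0 F512387)) (tt N117858 (iv2 F507303)) (tt N118518 F510784) (tt N95406 (iv4 F500950)) (tt N89472 (iv5 D219867)) (tt N95404 F500949) (tt N118847 (iv7 F512394)))
theorem Q116610 : ∀ i, i < 116610 → P i := stepQ 116609 Q116609 (allL N116609 (tt N118474 (iv1 F510565)) (tt N118473 (iv0 F510563)) (tt N118475 (iv2 F510570)) (tt N92313 (iv3 F500953)) (tt N89473 F500951) (tt N92311 F500952) (tt N89472 (iv6 D219868)) (tt N118472 (iv7 F510557)))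
theorem Q116611 : ∀ i, i < 116611 → P i := stepQ 116610 Q116610 (allL N116610 (tt N107065 (iv1 F500959)) (tt N107073 F500960) (tt N107072 F500955) (tt N89476 F500956) (tt N118472 (iv4 F510555)) (tt N115797 F500957) (tt N96258 F500958) (tt N89473 (iv7 D219869)))
theorem Q116612 : ∀ i, i < 116612 → P i := stepQ 116611 Q116611 (allL N116611 (tt N118589 (iv1 F511030)) (tt N107509 (iv0 F500965)) (tt N118591 (iv2 F511043)) (tt N89475 F500961) (tt N92313 F500962) (tt N92908 F500963) (tt N89474 (iv6 D219870)) (tt N105433 F500964))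
theorem Q116613 : ∀ i, i < 116613 → P i := stepQ 116612 Q116612 (allL N116612 (tt N116835 (iv1 F502091)) (tt N89475 (iv0 D219871)) (tt N93735 (iv2 F500969)) (tt N93773 F500970) (tt N106749 F500967) (tt N110929 F500966) (tt N112627 F500968) (tt N106748 F500971))
theorem Q116614 : ∀ i, i < 116614 → P i := stepQ 116613 Q116613 (allL N116613 (tt N106748 (iv1 F500976)) (tt N93735 F500977) (tt N116835 (iv2 F502085)) (tt N105433 F500972) (tt N89476 F500973) (tt N92913 F500974) (tt N96259 F500975) (tt N89475 (iv7 D219872)))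
theorem Q116615 : ∀ i, i < 116615 → P i := stepQ 116614 Q116614 (allL N116614 (tt N121596 F527239) (tt N119299 F514910) (tt N89477 (iv2 D219873)) (tt N109478 F500978) (tt N106791 F500979) (tt N91487 F500980) (tt N90333 F500981) (tt N120961 (iv7 F523724)))
theorem Q116616 : ∀ i, i < 116616 → P i := stepQ 116615 Q116615 (allL N116615 (tt N117525 F505515) (tt N112178 (iv0 F500984)) (tt N111584 (iv2 F500986)) (tt N89482 (iv3 D219874)) (tt N111583 F500982) (tt N89970 F500983) (tt N112202 F500985) (tt N121599 (iv7 F527258)))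
theorem Q116617 : ∀ i, i < 116617 → P i := stepQ 116616 Q116616 (allL N116616 (tt N109633 F500990) (tt N121612 (iv0 F527334)) (tt N121600 (iv2 F527260)) (tt N112202 F500987) (tt N111996 F500988) (tt N115589 F500989) (tt N89482 (iv6 D219875)) (tt N118807 (iv7 F512178)))
theorem Q116618 : ∀ i, i < 116618 → P i := stepQ 116617 Q116617 (allL N116617 (tt N108945 F500994) (tt N93953 (iv0 F500995)) (tt N108947 F500991) (tt N89484 (iv3 D219876)) (tt N120055 (iv4 F518800)) (tt N119078 (iv5 F513669)) (tt N112644 F500992) (tt N108946 F500993))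
theorem Q116619 : ∀ i, i < 116619 → P i := stepQ 116618 Q116618 (allL N116618 (tt N98332 F501000) (tt N98331 (iv0 F501001)) (tt N98334 F500996) (tt N114331 F500997) (tt N121253 (iv4 F525389)) (tt N113099 F500998) (tt N89485 (iv6 D219877)) (tt N98330 F500999))
theorem Q116620 : ∀ i, i < 116620 → P i := stepQ 116619 Q116619 (allL N116619 (tt N109965 F501006) (tt N98935 (iv0 F501007)) (tt N106469 F501002) (tt N89486 (iv3 D219878)) (tt N100185 F501003) (tt N120434 (iv5 F520766)) (tt N98916 F501004) (tt N106644 F501005))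
theorem Q116621 : ∀ i, i < 116621 → P i := stepQ 116620 Q116620 (allL N116620 (tt N89498 (iv1 F501012)) (tt N89488 (iv0 D219879)) (tt N89496 (iv2 F501010)) (tt N119209 (iv3 F514371)) (tt N99086 F501009) (tt N108351 F501008) (tt N122336 (iv6 F531491)) (tt N89497 F501011))
theorem Q116622 : ∀ i, i < 116622 → P i := stepQ 116621 Q116621 (allL N116621 (tt N89497 (iv1 F501017)) (tt N89496 F501018) (tt N89498 F501013) (tt N107071 F501014) (tt N98796 F501015) (tt N107035 F501016) (tt N122429 (iv6 F532050)) (tt N89488 (iv7 D219880)))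
theorem Q116623 : ∀ i, i < 116623 → P i := stepQ 116622 Q116622 (allL N116622 (tt N110565 F501022) (tt N106664 (iv0 F501023)) (tt N105986 F501019) (tt N89489 (iv3 D219881)) (tt N105985 F501020) (tt N112579 (iv5 F501024)) (tt N105984 F501021) (tt N119755 (iv7 F517254)))
theorem Q116624 : ∀ i, i < 116624 → P i := stepQ 116623 Q116623 (allL N116623 (tt N116942 (iv1 F502620)) (tt N116943 (iv0 F502623)) (tt N110921 F501025) (tt N112579 F501026) (tt N113447 F501028) (tt N89489 (iv5 D219882)) (tt N109961 F501027) (tt N120218 (iv7 F519660)))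
theorem Q116625 : ∀ i, i < 116625 → P i := stepQ 116624 Q116624 (allL N116624 (tt N112123 F501034) (tt N117241 F504072) (tt N113293 F501029) (tt N89492 F501030) (tt N89943 F501031) (tt N110366 F501032) (tt N89490 (iv6 D219883)) (tt N97298 F501033))
theorem Q116626 : ∀ i, i < 116626 → P i := stepQ 116625 Q116625 (allL N116625 (tt N116943 (iv1 F502624)) (tt N116942 (iv0 F502619)) (tt N120218 (iv2 F519656)) (tt N110000 F501035) (tt N109885 F501036) (tt N89491 (iv5 D219884)) (tt N122305 (iv6 F531306)) (tt N110921 F501037))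
theorem Q116627 : ∀ i, i < 116627 → P i := stepQ 116626 Q116626 (allL N116626 (tt N110766 (iv1 F501041)) (tt N89493 (iv0 D219885)) (tt N110635 (iv2 F501040)) (tt N118216 (iv3 F509205)) (tt N96713 F501038) (tt N122204 (iv5 F530757)) (tt N110631 F501039) (tt N112531 F501042))
theorem Q116628 : ∀ i, i < 116628 → P i := stepQ 116627 Q116627 (allL N116627 (tt N120474 F520965) (tt N121368 F525996) (tt N121886 (iv2 F528904)) (tt N89494 F501043) (tt N121487 (iv4 F526642)) (tt N89493 (iv5 D219886)) (tt N118269 (iv6 F509445)) (tt N121885 (iv7 F528901)))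
theorem Q116629 : ∀ i, i < 116629 → P i := stepQ 116628 Q116628 (allL N116628 (tt N119736 (iv1 F517172)) (tt N113349 (iv0 F501046)) (tt N120719 (iv2 F522331)) (tt N118269 (iv3 F509444)) (tt N109205 F501044) (tt N112083 F501045) (tt N89494 (iv6 D219887)) (tt N112187 (iv7 F501047)))
theorem Q116630 : ∀ i, i < 116630 → P i := stepQ 116629 Q116629 (allL N116629 (tt N99085 F501053) (tt N99072 F501054) (tt N99086 F501048) (tt N90916 F501049) (tt N89496 (iv4 D219888)) (tt N93637 F501052) (tt N90914 F501050) (tt N93636 F501051))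
theorem Q116631 : ∀ i, i < 116631 → P i := stepQ 116630 Q116630 (allL N116630 (tt N108350 F501060) (tt N108349 (iv0 F501061)) (tt N104633 F501055) (tt N108375 F501056) (tt N97927 F501057) (tt N89497 (iv5 D219889)) (tt N116223 F501058) (tt N108351 F501059))
theorem Q116632 : ∀ i, i < 116632 → P i := stepQ 116631 Q116631 (allL N116631 (tt N117883 (iv1 F507420)) (tt N93685 F501067) (tt N117886 (iv2 F507437)) (tt N89503 F501065) (tt N102306 F501066) (tt N89500 (iv5 D219890)) (tt N118244 (iv6 F509335)) (tt N117885 F507431))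
theorem Q116633 : ∀ i, i < 116633 → P i := stepQ 116632 Q116632 (allL N116632 (tt N108830 F501071) (tt N103183 F501072) (tt N89521 F501068) (tt N117834 (iv3 F507184)) (tt N91350 F501070) (tt N89509 (iv5 D219891)) (tt N118543 F510870) (tt N108829 F501069))
theorem Q116634 : ∀ i, i < 116634 → P i := stepQ 116633 Q116633 (allL N116633 (tt N119908 F517981) (tt N121963 (iv0 F529334)) (tt N89522 F501073) (tt N121314 (iv3 F525709)) (tt N89510 F501074) (tt N110667 F501075) (tt N89509 (iv6 D219892)) (tt N118493 (iv7 F510673)))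
theorem Q116635 : ∀ i, i < 116635 → P i := stepQ 116634 Q116634 (allL N116634 (tt N89526 (iv1 F501081)) (tt N89510 (iv0 D219893)) (tt N89523 (iv2 F501077)) (tt N106802 F501078) (tt N117895 (iv4 F507479)) (tt N113023 (iv5 F501080)) (tt N106800 F501076) (tt N89524 F501079))
theorem Q116636 : ∀ i, i < 116636 → P i := stepQ 116635 Q116635 (allL N116635 (tt N89524 (iv1 F501084)) (tt N89523 F501085) (tt N89526 F501082) (tt N122429 (iv3 F532048)) (tt N118493 (iv4 F510675)) (tt N122329 (iv5 F531452)) (tt N107071 F501083) (tt N89510 (iv7 D219894)))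
theorem Q116637 : ∀ i, i < 116637 → P i := stepQ 116636 Q116636 (allL N116636 (tt N113272 F501088) (tt N113289 F501089) (tt N119251 (iv2 F514631)) (tt N117838 (iv3 F507200)) (tt N108829 F501087) (tt N89512 (iv5 D219895)) (tt N122551 D225810) (tt N91350 F501086))
theorem Q116638 : ∀ i, i < 116638 → P i := stepQ 116637 Q116637 (allL N116637 (tt N118555 (iv1 F510922)) (tt N117153 (iv0 F503659)) (tt N119252 (iv2 F514636)) (tt N118433 (iv3 F510329)) (tt N89513 F501090) (tt N122552 D225811) (tt N89512 (iv6 D219896)) (tt N118471 (iv7 F510551)))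
theorem Q116639 : ∀ i, i < 116639 → P i := stepQ 116638 Q116638 (allL N116638 (tt N108776 F501092) (tt N107496 F501093) (tt N121898 (iv2 F528962)) (tt N108768 F501091) (tt N117469 (iv4 F505191)) (tt N89514 (iv5 D219897)) (tt N121888 (iv6 F528919)) (tt N119253 (iv7 F514643)))
theorem Q116640 : ∀ i, i < 116640 → P i := stepQ 116639 Q116639 (allL N116639 (tt N121462 (iv1 F526511)) (tt N94299 (iv0 F501097)) (tt N121461 (iv2 F526504)) (tt N110540 F501094) (tt N89515 F501095) (tt N112960 F501098) (tt N89514 (iv6 D219898)) (tt N96252 F501096))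
theorem Q116641 : ∀ i, i < 116641 → P i := stepQ 116640 Q116640 (allL N116640 (tt N100031 F501102) (tt N109576 (iv0 F501116)) (tt N109574 F501099) (tt N89516 (iv3 D219899)) (tt N117565 F505729) (tt N121893 (iv5 F528940)) (tt N96253 F501100) (tt N109575 F501101))
theorem Q116642 : ∀ i, i < 116642 → P i := stepQ 116641 Q116641 (allL N116641 (tt N107496 F501105) (tt N108776 F501106) (tt N119253 (iv2 F514640)) (tt N121893 F528942) (tt N92501 F501104) (tt N89516 (iv5 D219900)) (tt N95331 F501103) (tt N121898 (iv7 F528964)))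
theorem Q116643 : ∀ i, i < 116643 → P i := stepQ 116642 Q116642 (allL N116642 (tt N119107 (iv1 F513825)) (tt N118499 (iv0 F510700)) (tt N119109 (iv2 F513834)) (tt N94360 F501107) (tt N107207 F501108) (tt N121565 (iv5 F527062)) (tt N89518 (iv6 D219901)) (tt N94355 F501109))
theorem Q116644 : ∀ i, i < 116644 → P i := stepQ 116643 Q116643 (allL N116643 (tt N116387 F501113) (tt N116681 (iv0 F501284)) (tt N100108 F501110) (tt N117456 (iv3 F505133)) (tt N92368 F501111) (tt N89519 (iv5 D219902)) (tt N92374 F501112) (tt N116686 (iv7 F501300)))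
theorem Q116645 : ∀ i, i < 116645 → P i := stepQ 116644 Q116644 (allL N116644 (tt N117790 (iv1 F506987)) (tt N89520 (iv0 D219903)) (tt N110461 (iv2 F501117)) (tt N96844 F501115) (tt N109349 F501114) (tt N121811 (iv5 F528460)) (tt N121471 (iv6 F526561)) (tt N94363 (iv7 F501118)))
theorem Q116646 : ∀ i, i < 116646 → P i := stepQ 116645 Q116645 (allL N116645 (tt N89520 (iv1 D219904)) (tt N117790 (iv0 F506986)) (tt N94363 F501122) (tt N94204 (iv3 F501121)) (tt N109350 F501120) (tt N100109 (iv5 F501124)) (tt N94202 F501123) (tt N110461 F501119))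
theorem Q116647 : ∀ i, i < 116647 → P i := stepQ 116646 Q116646 (allL N116646 (tt N110461 (iv1 F501128)) (tt N94363 F501127) (tt N89520 (iv2 D219905)) (tt N94346 F501125) (tt N89529 F501126) (tt N122553 D225812) (tt N106971 F501129) (tt N117790 (iv7 F506985)))
theorem Q116648 : ∀ i, i < 116648 → P i := stepQ 116647 Q116647 (allL N116647 (tt N121947 (iv1 F529238)) (tt N120728 (iv0 F522390)) (tt N122553 (iv2 F532807)) (tt N89521 F501130) (tt N121905 (iv4 F528987)) (tt N89520 (iv5 D219906)) (tt N117832 (iv6 F507177)) (tt N120729 (iv7 F522394)))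
theorem Q116649 : ∀ i, i < 116649 → P i := stepQ 116648 Q116648 (allL N116648 (tt N91756 (iv1 F501137)) (tt N106973 (iv0 F501136)) (tt N106971 F501131) (tt N89522 F501132) (tt N89530 F501133) (tt N94237 F501135) (tt N89520 (iv6 D219907)) (tt N106970 F501134))
theorem Q116650 : ∀ i, i < 116650 → P i := stepQ 116649 Q116649 (allL N116649 (tt N113289 F501140) (tt N113272 F501141) (tt N91350 F501138) (tt N109571 (iv3 F501143)) (tt N89521 (iv4 D219908)) (tt N91345 F501139) (tt N109570 F501142) (tt N119251 (iv7 F514633)))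
theorem Q116651 : ∀ i, i < 116651 → P i := stepQ 116650 Q116650 (allL N116650 (tt N102741 (iv1 F501146)) (tt N110128 F501147) (tt N118543 (iv2 F510871)) (tt N117832 (iv3 F507176)) (tt N109570 F501144) (tt N108815 F501145) (tt N89521 (iv6 D219909)) (tt N118542 F510866))
theorem Q116652 : ∀ i, i < 116652 → P i := stepQ 116651 Q116651 (allL N116651 (tt N118493 F510676) (tt N89522 (iv0 D219910)) (tt N119908 (iv2 F517977)) (tt N108047 F501149) (tt N108030 F501148) (tt N119906 (iv5 F517966)) (tt N108045 (iv6 F501150)) (tt N121963 (iv7 F529333)))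
theorem Q116653 : ∀ i, i < 116653 → P i := stepQ 116652 Q116652 (allL N116652 (tt N89522 (iv1 D219911)) (tt N118493 (iv0 F510674)) (tt N121963 (iv2 F529329)) (tt N110113 F501153) (tt N101184 (iv4 F501151)) (tt N112805 (iv5 F501152)) (tt N101183 F501154) (tt N119908 (iv7 F517979)))
theorem Q116654 : ∀ i, i < 116654 → P i := stepQ 116653 Q116653 (allL N116653 (tt N121963 F529335) (tt N119908 (iv0 F517980)) (tt N118493 (iv2 F510672)) (tt N106970 F501155) (tt N89526 F501156) (tt N110669 F501157) (tt N117791 (iv6 F506989)) (tt N89522 (iv7 D219912)))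
theorem Q116655 : ∀ i, i < 116655 → P i := stepQ 116654 Q116654 (allL N116654 (tt N121274 F525509) (tt N122320 (iv0 F531401)) (tt N113023 F501158) (tt N110173 F501159) (tt N100051 F501161) (tt N89523 (iv5 D219913)) (tt N100050 (iv6 F501162)) (tt N110171 F501160))
theorem Q116656 : ∀ i, i < 116656 → P i := stepQ 116655 Q116655 (allL N116655 (tt N109224 (iv1 F501166)) (tt N119021 (iv0 F513327)) (tt N106800 F501163) (tt N110300 F501164) (tt N117870 (iv4 F507360)) (tt N117315 F504427) (tt N89523 (iv6 D219914)) (tt N110296 F501165))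
theorem Q116657 : ∀ i, i < 116657 → P i := stepQ 116656 Q116656 (allL N116656 (tt N117902 (iv1 F507508)) (tt N92393 (iv0 F501169)) (tt N117903 (iv2 F507514)) (tt N107870 F501167) (tt N89524 (iv4 D219915)) (tt N117896 (iv5 F507486)) (tt N107869 F501168) (tt N117895 F507482))
theorem Q116658 : ∀ i, i < 116658 → P i := stepQ 116657 Q116657 (allL N116657 (tt N122329 (iv1 F531455)) (tt N89525 (iv0 D219916)) (tt N112980 (iv2 F501172)) (tt N110148 F501170) (tt N112979 F501173) (tt N121478 (iv5 F526595)) (tt N113476 F501171) (tt N122321 (iv7 F531407)))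
theorem Q116659 : ∀ i, i < 116659 → P i := stepQ 116658 Q116658 (allL N116658 (tt N113861 (iv1 F501178)) (tt N113981 F501177) (tt N113980 F501174) (tt N100958 F501175) (tt N89525 (iv4 D219917)) (tt N122316 (iv5 F531372)) (tt N89527 F501176) (tt N113979 (iv7 F503594)))
theorem Q116660 : ∀ i, i < 116660 → P i := stepQ 116659 Q116659 (allL N116659 (tt N122321 F531409) (tt N112980 (iv0 F501181)) (tt N122329 (iv2 F531450)) (tt N89537 F501179) (tt N113979 F503593) (tt N89526 F501180) (tt N121262 (iv6 F525447)) (tt N89525 (iv7 D219918)))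
theorem Q116661 : ∀ i, i < 116661 → P i := stepQ 116660 Q116660 (allL N116660 (tt N94975 (iv1 F501186)) (tt N89530 (iv0 D219919)) (tt N108996 (iv2 F501184)) (tt N120278 (iv3 F519984)) (tt N108992 F501183) (tt N91503 F501182) (tt N102268 F501185) (tt N117637 (iv7 F506140)))
theorem Q116662 : ∀ i, i < 116662 → P i := stepQ 116661 Q116661 (allL N116661 (tt N117637 (iv1 F506142)) (tt N108996 (iv0 F501191)) (tt N94975 F501187) (tt N89533 F501188) (tt N106970 F501189) (tt N94974 F501190) (tt N117792 (iv6 F506996)) (tt N89530 (iv7 D219920)))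
theorem Q116663 : ∀ i, i < 116663 → P i := stepQ 116662 Q116662 (allL N116662 (tt N93341 F501195) (tt N118141 (iv0 F508825)) (tt N116700 (iv2 F501375)) (tt N94543 F501192) (tt N90552 F501193) (tt N116678 (iv5 F501267)) (tt N89531 (iv6 D219921)) (tt N90551 F501194))
theorem Q116664 : ∀ i, i < 116664 → P i := stepQ 116663 Q116663 (allL N116663 (tt N120973 (iv1 F523798)) (tt N121086 (iv0 F524448)) (tt N89538 (iv2 D219922)) (tt N116262 F501196) (tt N107646 F501197) (tt N105451 F501198) (tt N100839 F501199) (tt N107645 F501200))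
theorem Q116665 : ∀ i, i < 116665 → P i := stepQ 116664 Q116664 (allL N116664 (tt N115122 F501205) (tt N107663 F501206) (tt N89543 F501201) (tt N109990 F501202) (tt N89870 F501204) (tt N89539 (iv5 D219923)) (tt N109990 F501203) (tt N116945 (iv7 F502634)))
theorem Q116666 : ∀ i, i < 116666 → P i := stepQ 116665 Q116665 (allL N116665 (tt N89547 F501212) (tt N89540 (iv0 D219924)) (tt N89545 F501211) (tt N112351 (iv3 F501209)) (tt N110832 F501207) (tt N96129 F501208) (tt N119899 F517932) (tt N89546 (iv7 F501210)))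
theorem Q116667 : ∀ i, i < 116667 → P i := stepQ 116666 Q116666 (allL N116666 (tt N89540 (iv1 D219925)) (tt N89547 F501214) (tt N89546 F501218) (tt N100266 (iv3 F501216)) (tt N101632 F501219) (tt N100264 (iv5 F501217)) (tt N121474 (iv6 F526575)) (tt N89545 F501215))
theorem Q116668 : ∀ i, i < 116668 → P i := stepQ 116667 Q116667 (allL N116667 (tt N89546 (iv1 F501223)) (tt N89545 F501224) (tt N89547 F501221) (tt N113283 F501222) (tt N119930 (iv4 F518089)) (tt N117085 (iv5 F503301)) (tt N122011 (iv6 F529626)) (tt N89540 (iv7 D219926)))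
theorem Q116669 : ∀ i, i < 116669 → P i := stepQ 116668 Q116668 (allL N116668 (tt N89542 (iv1 D219927)) (tt N109988 F501230) (tt N116849 F502161) (tt N98979 (iv3 F501226)) (tt N118135 F508791) (tt N121368 (iv5 F525995)) (tt N119300 (iv6 F514914)) (tt N109834 F501225))
theorem Q116670 : ∀ i, i < 116670 → P i := stepQ 116669 Q116669 (allL N116669 (tt N109834 (iv1 F501231)) (tt N116849 F502162) (tt N89542 (iv2 D219928)) (tt N109827 F501227) (tt N89549 F501228) (tt N121287 (iv5 F525574)) (tt N108468 (iv6 F501232)) (tt N109988 F501229))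
theorem Q116671 : ∀ i, i < 116671 → P i := stepQ 116670 Q116670 (allL N116670 (tt N121172 F524934) (tt N112613 F501234) (tt N121287 (iv2 F525572)) (tt N89543 F501233) (tt N121291 (iv4 F525591)) (tt N89542 (iv5 D219929)) (tt N121287 (iv6 F525575)) (tt N116850 (iv7 F502166)))
theorem Q116672 : ∀ i, i < 116672 → P i := stepQ 116671 Q116671 (allL N116671 (tt N107684 F501238) (tt N99614 F501239) (tt N108468 F501235) (tt N89544 F501236) (tt N89550 F501237) (tt N108468 (iv5 F501240)) (tt N89542 (iv6 D219930)) (tt N108467 (iv7 F501241)))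
theorem Q116673 : ∀ i, i < 116673 → P i := stepQ 116672 Q116672 (allL N116672 (tt N116945 (iv1 F502636)) (tt N89543 (iv0 D219931)) (tt N115122 (iv2 F501244)) (tt N98981 (iv3 F501246)) (tt N114630 F501243) (tt N110627 F501242) (tt N118774 (iv6 F511995)) (tt N107663 F501245))
theorem Q116674 : ∀ i, i < 116674 → P i := stepQ 116673 Q116673 (allL N116673 (tt N110829 F501250) (tt N110021 (iv0 F501251)) (tt N109991 F501247) (tt N108468 F501248) (tt N117853 (iv4 F507277)) (tt N89544 (iv5 D219932)) (tt N109827 F501249) (tt N117852 F507273))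
theorem Q116675 : ∀ i, i < 116675 → P i := stepQ 116674 Q116674 (allL N116674 (tt N117081 (iv1 F503278)) (tt N117080 F503276) (tt N96129 F501252) (tt N95515 F501253) (tt N93872 F501255) (tt N89545 (iv5 D219933)) (tt N93871 F501256) (tt N100264 F501254))
theorem Q116676 : ∀ i, i < 116676 → P i := stepQ 116675 Q116675 (allL N116675 (tt N119695 (iv1 F516968)) (tt N119086 (iv0 F513718)) (tt N119899 (iv2 F517933)) (tt N100001 F501257) (tt N119753 (iv4 F517245)) (tt N107008 F501258) (tt N89545 (iv6 D219934)) (tt N107038 (iv7 F501259)))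
theorem Q116677 : ∀ i, i < 116677 → P i := stepQ 116676 Q116676 (allL N116676 (tt N121476 (iv1 F526587)) (tt N119871 (iv0 F517801)) (tt N121474 F526576) (tt N117082 (iv3 F503282)) (tt N119864 (iv4 F517761)) (tt N121934 (iv5 F529153)) (tt N89546 (iv6 D219935)) (tt N121475 (iv7 F526578)))
theorem Q116678 : ∀ i, i < 116678 → P i := stepQ 116677 Q116677 (allL N116677 (tt N93361 (iv1 F501264)) (tt N93363 F501265) (tt N107676 F501260) (tt N89554 F501261) (tt N108467 F501262) (tt N94509 F501263) (tt N116853 (iv6 F502178)) (tt N89550 (iv7 D219936)))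
theorem Q116679 : ∀ i, i < 116679 → P i := stepQ 116678 Q116678 (allL N116678 (tt N89553 F501269) (tt N116847 F502153) (tt N116845 F502144) (tt N89552 (iv3 D219937)) (tt N106788 F501266) (tt N116662 F501267) (tt N119944 (iv6 F518167)) (tt N106754 F501268))
theorem Q116680 : ∀ i, i < 116680 → P i := stepQ 116679 Q116679 (allL N116679 (tt N116847 (iv1 F502154)) (tt N89553 (iv0 D219938)) (tt N106754 (iv2 F501273)) (tt N90279 F501272) (tt N106786 F501271) (tt N116455 F501270) (tt N93737 F501274) (tt N116845 (iv7 F502141)))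
theorem Q116681 : ∀ i, i < 116681 → P i := stepQ 116680 Q116680 (allL N116680 (tt N116845 (iv1 F502140)) (tt N106754 (iv0 F501279)) (tt N116847 (iv2 F502150)) (tt N94509 F501275) (tt N110941 F501276) (tt N89554 F501277) (tt N94508 F501278) (tt N89553 (iv7 D219939)))
theorem Q116682 : ∀ i, i < 116682 → P i := stepQ 116681 Q116681 (allL N116681 (tt N116643 F501284) (tt N109584 F501285) (tt N89561 F501280) (tt N118578 F510993) (tt N91392 F501283) (tt N89557 (iv5 D219940)) (tt N92372 F501281) (tt N113280 F501282))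
theorem Q116683 : ∀ i, i < 116683 → P i := stepQ 116682 Q116682 (allL N116682 (tt N89564 (iv1 F501290)) (tt N89563 F501291) (tt N89565 F501286) (tt N122011 (iv3 F529624)) (tt N108025 F501287) (tt N116345 F501288) (tt N113283 F501289) (tt N89558 (iv7 D219941)))
theorem Q116684 : ∀ i, i < 116684 → P i := stepQ 116683 Q116683 (allL N116683 (tt N116842 (iv1 F502125)) (tt N116841 F502121) (tt N89560 (iv2 D219942)) (tt N98849 F501292) (tt N89567 F501293) (tt N120151 (iv5 F519320)) (tt N117860 (iv6 F507320)) (tt N116839 (iv7 F502109)))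
theorem Q116685 : ∀ i, i < 116685 → P i := stepQ 116684 Q116684 (allL N116684 (tt N109571 F501295) (tt N120152 F519327) (tt N120151 (iv2 F519323)) (tt N89561 F501294) (tt N121816 (iv4 F528485)) (tt N89560 (iv5 D219943)) (tt N117450 (iv6 F505103)) (tt N116843 (iv7 F502133)))
theorem Q116686 : ∀ i, i < 116686 → P i := stepQ 116685 Q116685 (allL N116685 (tt N117859 (iv1 F507310)) (tt N112801 (iv0 F501298)) (tt N117860 (iv2 F507316)) (tt N89562 F501296) (tt N89568 F501297) (tt N117451 (iv5 F505107)) (tt N89560 (iv6 D219944)) (tt N117779 (iv7 F506928)))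
theorem Q116687 : ∀ i, i < 116687 → P i := stepQ 116686 Q116686 (allL N116686 (tt N89561 (iv1 D219945)) (tt N113280 F501299) (tt N109584 (iv2 F501302)) (tt N120153 (iv3 F519329)) (tt N117450 (iv4 F505101)) (tt N116384 F501301) (tt N121816 F528486) (tt N116643 F501300))
theorem Q116688 : ∀ i, i < 116688 → P i := stepQ 116687 Q116687 (allL N116687 (tt N96845 F501305) (tt N117454 (iv0 F505125)) (tt N91392 F501303) (tt N121947 (iv3 F529234)) (tt N89561 (iv4 D219946)) (tt N91388 F501304) (tt N118545 (iv6 F510880)) (tt N117912 (iv7 F507561)))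
theorem Q116689 : ∀ i, i < 116689 → P i := stepQ 116688 Q116688 (allL N116688 (tt N106140 F501311) (tt N113753 F501310) (tt N104712 F501306) (tt N92822 F501307) (tt N92832 F501308) (tt N89563 (iv5 D219947)) (tt N92828 (iv6 F501312)) (tt N103519 F501309))
theorem Q116690 : ∀ i, i < 116690 → P i := stepQ 116689 Q116689 (allL N116689 (tt N121477 F526593) (tt N121481 F526614) (tt N121479 (iv2 F526605)) (tt N112165 F501313) (tt N94385 F501314) (tt N122321 (iv5 F531405)) (tt N89563 (iv6 D219948)) (tt N121478 F526599))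
theorem Q116691 : ∀ i, i < 116691 → P i := stepQ 116690 Q116690 (allL N116690 (tt N100929 F501319) (tt N122457 (iv0 F532233)) (tt N115069 F501315) (tt N112224 F501316) (tt N122338 (iv4 F531503)) (tt N89569 (iv5 D219949)) (tt N112276 F501317) (tt N115074 F501318))
theorem Q116692 : ∀ i, i < 116692 → P i := stepQ 116691 Q116691 (allL N116691 (tt N122457 (iv1 F532234)) (tt N100929 F501324) (tt N115074 F501320) (tt N90370 F501321) (tt N122385 (iv4 F531783)) (tt N89570 (iv5 D219950)) (tt N115543 F501322) (tt N115069 F501323))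
theorem Q116693 : ∀ i, i < 116693 → P i := stepQ 116692 Q116692 (allL N116692 (tt N116855 (iv1 F502190)) (tt N89571 (iv0 D219951)) (tt N115104 (iv2 F501328)) (tt N93334 (iv3 F501330)) (tt N116462 F501327) (tt N93330 F501326) (tt N121671 F527653) (tt N115107 F501329))
theorem Q116694 : ∀ i, i < 116694 → P i := stepQ 116693 Q116693 (allL N116693 (tt N113299 F501333) (tt N89580 (iv0 D219952)) (tt N116434 (iv2 F501334)) (tt N116475 F501336) (tt N116092 F501332) (tt N89992 F501331) (tt N117382 (iv6 F504760)) (tt N116428 (iv7 F501335)))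
theorem Q116695 : ∀ i, i < 116695 → P i := stepQ 116694 Q116694 (allL N116694 (tt N89580 (iv1 D219953)) (tt N113299 F501337) (tt N116428 F501342) (tt N106645 F501343) (tt N116436 F501340) (tt N89993 F501339) (tt N108683 (iv6 F501341)) (tt N116434 F501338))
theorem Q116696 : ∀ i, i < 116696 → P i := stepQ 116695 Q116695 (allL N116695 (tt N109763 F501349) (tt N111342 (iv0 F501350)) (tt N90815 F501344) (tt N110061 F501345) (tt N113373 F501346) (tt N99997 F501347) (tt N89580 (iv6 D219954)) (tt N111340 F501348))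
theorem Q116697 : ∀ i, i < 116697 → P i := stepQ 116696 Q116696 (allL N116696 (tt N109340 F501356) (tt N115351 (iv0 F501357)) (tt N110476 F501351) (tt N89584 F501352) (tt N97154 F501353) (tt N115438 F501354) (tt N89583 (iv6 D219955)) (tt N97146 F501355))
theorem Q116698 : ∀ i, i < 116698 → P i := stepQ 116697 Q116697 (allL N116697 (tt N93279 F501363) (tt N93323 (iv0 F501364)) (tt N93324 F501358) (tt N89594 (iv3 D219956)) (tt N96117 F501359) (tt N93671 F501360) (tt N93335 F501361) (tt N93317 F501362))
theorem Q116699 : ∀ i, i < 116699 → P i := stepQ 116698 Q116698 (allL N116698 (tt N109417 F501368) (tt N109326 (iv0 F501369)) (tt N110546 F501365) (tt N110462 F501366) (tt N117465 (iv4 F505170)) (tt N115440 F501367) (tt N89600 (iv6 D219957)) (tt N118645 (iv7 F511315)))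
theorem Q116700 : ∀ i, i < 116700 → P i := stepQ 116699 Q116699 (allL N116699 (tt N99380 F501374) (tt N122020 (iv0 F529677)) (tt N121345 (iv2 F525876)) (tt N89606 F501370) (tt N113070 F501373) (tt N89604 (iv5 D219958)) (tt N113069 F501371) (tt N113896 F501372))
theorem Q116701 : ∀ i, i < 116701 → P i := stepQ 116700 Q116700 (allL N116700 (tt N117110 (iv1 F503444)) (tt N94544 (iv0 F501379)) (tt N116662 F501375) (tt N108475 F501376) (tt N89607 F501377) (tt N116845 (iv5 F502142)) (tt N89605 (iv6 D219959)) (tt N116455 F501378))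
theorem Q116702 : ∀ i, i < 116702 → P i := stepQ 116701 Q116701 (allL N116701 (tt N116875 F502306) (tt N93657 F501383) (tt N115991 F501380) (tt N121600 (iv3 F527261)) (tt N89608 (iv4 D219960)) (tt N108850 F501382) (tt N117107 (iv6 F503428)) (tt N96172 F501381))
theorem Q116703 : ∀ i, i < 116703 → P i := stepQ 116702 Q116702 (allL N116702 (tt N107226 F501388) (tt N118751 (iv0 F511887)) (tt N111996 F501384) (tt N89609 (iv3 D219961)) (tt N121600 (iv4 F527262)) (tt N101143 F501385) (tt N108214 F501386) (tt N111997 F501387))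
theorem Q116704 : ∀ i, i < 116704 → P i := stepQ 116703 Q116703 (allL N116703 (tt N113615 F501394) (tt N89949 F501395) (tt N113970 F501389) (tt N89611 (iv3 D219962)) (tt N90124 F501390) (tt N110858 F501391) (tt N90536 F501392) (tt N113968 F501393))
theorem Q116705 : ∀ i, i < 116705 → P i := stepQ 116704 Q116704 (allL N116704 (tt N113060 F501400) (tt N113059 F501401) (tt N116139 F501396) (tt N112539 F501397) (tt N89612 (iv4 D219963)) (tt N112537 F501399) (tt N122433 (iv6 F532072)) (tt N116140 F501398))
theorem Q116706 : ∀ i, i < 116706 → P i := stepQ 116705 Q116705 (allL N116705 (tt N92135 F501406) (tt N92239 (iv0 F501407)) (tt N97936 F501402) (tt N89615 (iv3 D219964)) (tt N102236 F501403) (tt N97989 F501408) (tt N97918 F501404) (tt N97916 F501405))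
theorem Q116707 : ∀ i, i < 116707 → P i := stepQ 116706 Q116706 (allL N116706 (tt N97981 F501413) (tt N97982 F501414) (tt N114566 F501409) (tt N97989 F501410) (tt N91070 F501412) (tt N89615 (iv5 D219965)) (tt N100217 F501415) (tt N98491 F501411))
theorem Q116708 : ∀ i, i < 116708 → P i := stepQ 116707 Q116707 (allL N116707 (tt N116756 F501663) (tt N122415 (iv0 F531972)) (tt N109757 F501416) (tt N110028 F501417) (tt N89701 F501418) (tt N89623 (iv5 D219966)) (tt N109699 F501419) (tt N116299 F501420))
theorem Q116709 : ∀ i, i < 116709 → P i := stepQ 116708 Q116708 (allL N116708 (tt N122439 (iv1 F532109)) (tt N114397 (iv0 F501423)) (tt N122376 (iv2 F531725)) (tt N89626 F501421) (tt N122554 D225813) (tt N89625 (iv5 D219967)) (tt N122541 (iv6 F532743)) (tt N113733 F501422))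
theorem Q116710 : ∀ i, i < 116710 → P i := stepQ 116709 Q116709 (allL N116709 (tt N122017 F529662) (tt N114058 (iv0 F501426)) (tt N112983 F501424) (tt N122541 (iv3 F532740)) (tt N121530 (iv4 F526880)) (tt N120180 (iv5 F519465)) (tt N89626 (iv6 D219968)) (tt N116177 F501425))
theorem Q116711 : ∀ i, i < 116711 → P i := stepQ 116710 Q116710 (allL N116710 (tt N116391 F501431) (tt N116394 (iv0 F501433)) (tt N110801 F501427) (tt N89636 (iv3 D219969)) (tt N112676 F501428) (tt N121188 (iv5 F525029)) (tt N107115 F501429) (tt N116393 F501430))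
theorem Q116712 : ∀ i, i < 116712 → P i := stepQ 116711 Q116711 (allL N116711 (tt N94149 F501437) (tt N94160 F501438) (tt N94159 F501434) (tt N121188 F525031) (tt N114423 F501435) (tt N89636 (iv5 D219970)) (tt N121767 (iv6 F528194)) (tt N94158 F501436))
theorem Q116713 : ∀ i, i < 116713 → P i := stepQ 116712 Q116712 (allL N116712 (tt N90454 F501444) (tt N109774 F501445) (tt N109136 F501439) (tt N108063 F501440) (tt N97984 F501443) (tt N89638 (iv5 D219971)) (tt N108061 F501441) (tt N109773 F501442))
theorem Q116714 : ∀ i, i < 116714 → P i := stepQ 116713 Q116713 (allL N116713 (tt N109774 F501450) (tt N90454 F501451) (tt N109773 F501446) (tt N109137 F501447) (tt N97985 F501448) (tt N89639 (iv5 D219972)) (tt N114287 F501452) (tt N109136 F501449))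
theorem Q116715 : ∀ i, i < 116715 → P i := stepQ 116714 Q116714 (allL N116714 (tt N122555 D225814) (tt N109895 (iv0 F501456)) (tt N91154 F501453) (tt N120954 (iv3 F523673)) (tt N89642 F501454) (tt N107613 F501455) (tt N89641 (iv6 D219973)) (tt N120083 (iv7 F518961)))
theorem Q116716 : ∀ i, i < 116716 → P i := stepQ 116715 Q116715 (allL N116715 (tt N91156 (iv1 F501461)) (tt N91155 F501462) (tt N91157 F501457) (tt N105652 F501458) (tt N120083 (iv4 F518959)) (tt N105651 F501459) (tt N113372 F501460) (tt N89642 (iv7 D219974)))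
theorem Q116717 : ∀ i, i < 116717 → P i := stepQ 116716 Q116716 (allL N116716 (tt N109473 F501467) (tt N89668 F501468) (tt N110090 F501463) (tt N100936 F501464) (tt N107648 F501465) (tt N89643 (iv5 D219975)) (tt N89660 F501466) (tt N120255 (iv7 F519843)))
theorem Q116718 : ∀ i, i < 116718 → P i := stepQ 116717 Q116717 (allL N116717 (tt N110090 F501473) (tt N120255 (iv0 F519844)) (tt N89668 F501469) (tt N109476 F501470) (tt N89649 F501471) (tt N116115 F501474) (tt N89648 (iv6 D219976)) (tt N109473 F501472))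
theorem Q116719 : ∀ i, i < 116719 → P i := stepQ 116718 Q116718 (allL N116718 (tt N91692 F501480) (tt N113246 F501481) (tt N91423 F501475) (tt N113858 F501476) (tt N89651 (iv4 D219977)) (tt N90795 F501477) (tt N106570 F501478) (tt N89680 F501479))
theorem Q116720 : ∀ i, i < 116720 → P i := stepQ 116719 Q116719 (allL N116719 (tt N89693 (iv1 F501487)) (tt N89653 (iv0 D219978)) (tt N89691 (iv2 F501486)) (tt N100978 F501484) (tt N99549 F501483) (tt N100976 F501482) (tt N107978 F501485) (tt N89692 F501488))
theorem Q116721 : ∀ i, i < 116721 → P i := stepQ 116720 Q116720 (allL N116720 (tt N120258 (iv1 F519862)) (tt N104689 (iv0 F501493)) (tt N114956 F501489) (tt N89655 (iv3 D219979)) (tt N90087 F501490) (tt N122556 D225815) (tt N109211 (iv6 F501492)) (tt N89703 F501491))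
theorem Q116722 : ∀ i, i < 116722 → P i := stepQ 116721 Q116721 (allL N116721 (tt N114643 F501497) (tt N116735 (iv0 F501561)) (tt N89701 F501494) (tt N122556 (iv3 F532825)) (tt N109757 F501496) (tt N89655 (iv5 D219980)) (tt N109761 (iv6 F501498)) (tt N89704 F501495))
theorem Q116723 : ∀ i, i < 116723 → P i := stepQ 116722 Q116722 (allL N116722 (tt N108074 F501502) (tt N120176 F519445) (tt N89702 F501499) (tt N109211 F501500) (tt N90086 F501501) (tt N122318 (iv5 F531386)) (tt N89655 (iv6 D219981)) (tt N120177 (iv7 F519450)))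
theorem Q116724 : ∀ i, i < 116724 → P i := stepQ 116723 Q116723 (allL N116723 (tt N116735 (iv1 F501562)) (tt N114643 F501508) (tt N89704 F501503) (tt N112884 F501504) (tt N116299 F501505) (tt N89656 (iv5 D219982)) (tt N111290 F501506) (tt N89701 F501507))
theorem Q116725 : ∀ i, i < 116725 → P i := stepQ 116724 Q116724 (allL N116724 (tt N121927 F529112) (tt N121954 (iv0 F529275)) (tt N120324 (iv2 F520194)) (tt N89658 F501509) (tt N122557 D225816) (tt N89657 (iv5 D219983)) (tt N105715 F501510) (tt N119178 (iv7 F514215)))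
theorem Q116726 : ∀ i, i < 116726 → P i := stepQ 116725 Q116725 (allL N116725 (tt N89658 (iv1 D219984)) (tt N89714 F501511) (tt N89711 (iv2 F501515)) (tt N114487 (iv3 F501516)) (tt N117266 (iv4 F504185)) (tt N113309 F501513) (tt N107642 (iv6 F501514)) (tt N89710 F501512))
theorem Q116727 : ∀ i, i < 116727 → P i := stepQ 116726 Q116726 (allL N116726 (tt N122377 F531737) (tt N122378 F531743) (tt N110143 F501517) (tt N100578 F501518) (tt N116550 F501519) (tt N101620 F501520) (tt N89662 (iv6 D219985)) (tt N121687 (iv7 F527748)))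
theorem Q116728 : ∀ i, i < 116728 → P i := stepQ 116727 Q116727 (allL N116727 (tt N107611 F501523) (tt N100210 F501524) (tt N117059 (iv2 F503167)) (tt N105726 F501521) (tt N107420 F501522) (tt N117393 (iv5 F504806)) (tt N89667 (iv6 D219986)) (tt N120014 (iv7 F518564)))
theorem Q116729 : ∀ i, i < 116729 → P i := stepQ 116728 Q116728 (allL N116728 (tt N120255 F519845) (tt N110090 (iv0 F501530)) (tt N109473 F501525) (tt N90177 F501526) (tt N89670 F501527) (tt N116114 F501528) (tt N90175 F501529) (tt N89668 (iv7 D219987)))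
theorem Q116730 : ∀ i, i < 116730 → P i := stepQ 116729 Q116729 (allL N116729 (tt N110322 F501535) (tt N108056 F501536) (tt N119104 (iv2 F513808)) (tt N90550 F501531) (tt N89671 (iv4 D219988)) (tt N100257 F501532) (tt N112709 F501533) (tt N106752 F501534))
theorem Q116731 : ∀ i, i < 116731 → P i := stepQ 116730 Q116730 (allL N116730 (tt N89673 (iv1 D219989)) (tt N120485 F521020) (tt N119032 (iv2 F513386)) (tt N89756 F501540) (tt N106259 F501538) (tt N108430 F501541) (tt N108431 (iv6 F501539)) (tt N114677 F501537))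
theorem Q116732 : ∀ i, i < 116732 → P i := stepQ 116731 Q116731 (allL N116731 (tt N113775 F501548) (tt N114061 F501547) (tt N114060 F501542) (tt N113939 F501543) (tt N112886 F501546) (tt N89673 (iv5 D219990)) (tt N100864 F501544) (tt N114059 F501545))
theorem Q116733 : ∀ i, i < 116733 → P i := stepQ 116732 Q116732 (allL N116732 (tt N117588 F505865) (tt N121300 F525631) (tt N113245 F501549) (tt N89791 F501550) (tt N117347 (iv4 F504592)) (tt N113065 F501551) (tt N89678 (iv6 D219991)) (tt N121299 (iv7 F525624)))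
theorem Q116734 : ∀ i, i < 116734 → P i := stepQ 116733 Q116733 (allL N116733 (tt N89681 (iv1 D219992)) (tt N113251 F501552) (tt N113250 F501557) (tt N107953 (iv3 F501554)) (tt N108367 (iv4 F501555)) (tt N117348 (iv5 F504597)) (tt N107951 (iv6 F501556)) (tt N113249 F501553))
theorem Q116735 : ∀ i, i < 116735 → P i := stepQ 116734 Q116734 (allL N116734 (tt N119581 F516372) (tt N121138 (iv0 F524724)) (tt N121145 (iv2 F524766)) (tt N89682 (iv3 D219993)) (tt N114993 F501558) (tt N122256 (iv5 F531033)) (tt N121143 (iv6 F524757)) (tt N105560 F501559))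
theorem Q116736 : ∀ i, i < 116736 → P i := stepQ 116735 Q116735 (allL N116735 (tt N116721 F501561) (tt N116723 F501562) (tt N116745 F501612) (tt N122256 (iv3 F531034)) (tt N114537 F501560) (tt N89682 (iv5 D219994)) (tt N121267 (iv6 F525472)) (tt N116744 F501604))
theorem Q116737 : ∀ i, i < 116737 → P i := stepQ 116736 Q116736 (allL N116736 (tt N107984 F501565) (tt N119620 (iv0 F516560)) (tt N106263 F501563) (tt N121143 (iv3 F524754)) (tt N89683 F501564) (tt N108400 F501566) (tt N89682 (iv6 D219995)) (tt N121141 (iv7 F524744)))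
theorem Q116738 : ∀ i, i < 116738 → P i := stepQ 116737 Q116737 (allL N116737 (tt N120457 (iv1 F520893)) (tt N121483 (iv0 F526627)) (tt N118008 (iv2 F508059)) (tt N89684 (iv3 D219996)) (tt N91162 F501567) (tt N114745 F501568) (tt N119550 (iv6 F516194)) (tt N114744 F501569))
theorem Q116739 : ∀ i, i < 116739 → P i := stepQ 116738 Q116738 (allL N116738 (tt N107970 F501571) (tt N117312 (iv0 F504411)) (tt N121161 (iv2 F524861)) (tt N119550 (iv3 F516192)) (tt N107637 F501570) (tt N108395 F501572) (tt N89684 (iv6 D219997)) (tt N119549 F516191))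
theorem Q116740 : ∀ i, i < 116740 → P i := stepQ 116739 Q116739 (allL N116739 (tt N89690 (iv1 F501576)) (tt N89686 (iv0 D219998)) (tt N114680 (iv2 F501575)) (tt N122434 (iv3 F532077)) (tt N114957 F501574) (tt N89696 F501573) (tt N114059 (iv6 F501578)) (tt N114679 F501577))
theorem Q116741 : ∀ i, i < 116741 → P i := stepQ 116740 Q116740 (allL N116740 (tt N108428 F501584) (tt N108390 F501585) (tt N100983 F501579) (tt N114007 F501580) (tt N106218 F501581) (tt N92599 F501582) (tt N89686 (iv6 D219999)) (tt N106495 F501583))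
theorem Q116742 : ∀ i, i < 116742 → P i := stepQ 116741 Q116741 (allL N116741 (tt N113096 F501589) (tt N114535 (iv0 F501590)) (tt N114830 F501586) (tt N89696 (iv3 D220000)) (tt N113256 F501587) (tt N122434 (iv5 F532075)) (tt N121167 (iv6 F524900)) (tt N114678 F501588))
theorem Q116743 : ∀ i, i < 116743 → P i := stepQ 116742 Q116742 (allL N116742 (tt N89702 F501594) (tt N120177 F519452) (tt N120176 F519444) (tt N105698 F501591) (tt N89699 (iv4 D220001)) (tt N121352 (iv5 F525922)) (tt N105696 F501592) (tt N108074 F501593))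
theorem Q116744 : ∀ i, i < 116744 → P i := stepQ 116743 Q116743 (allL N116743 (tt N89700 (iv1 D220002)) (tt N113492 F501595) (tt N113491 F501599) (tt N89812 (iv3 F501598)) (tt N116747 (iv4 F501617)) (tt N107456 F501597) (tt N117218 F503957) (tt N113490 F501596))
theorem Q116745 : ∀ i, i < 116745 → P i := stepQ 116744 Q116744 (allL N116744 (tt N89704 (iv1 F501602)) (tt N89701 (iv0 D220003)) (tt N114643 (iv2 F501603)) (tt N112963 F501605) (tt N114489 F501601) (tt N114481 F501600) (tt N120355 (iv6 F520344)) (tt N116735 (iv7 F501604)))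
theorem Q116746 : ∀ i, i < 116746 → P i := stepQ 116745 Q116745 (allL N116745 (tt N89701 (iv1 D220004)) (tt N89704 F501606) (tt N116735 (iv2 F501612)) (tt N106209 (iv3 F501610)) (tt N114492 F501609) (tt N114062 F501608) (tt N106208 F501611) (tt N114643 F501607))
theorem Q116747 : ∀ i, i < 116747 → P i := stepQ 116746 Q116746 (allL N116746 (tt N120288 (iv1 F520043)) (tt N120286 (iv0 F520035)) (tt N109761 F501613) (tt N122237 (iv3 F530939)) (tt N109699 F501614) (tt N122283 (iv5 F531169)) (tt N89701 (iv6 D220005)) (tt N120358 (iv7 F520360)))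
theorem Q116748 : ∀ i, i < 116748 → P i := stepQ 116747 Q116747 (allL N116747 (tt N117393 F504807) (tt N117229 (iv0 F504018)) (tt N122318 (iv2 F531383)) (tt N109604 F501615) (tt N116743 F501617) (tt N89702 (iv5 D220006)) (tt N122283 (iv6 F531170)) (tt N114958 F501616))
theorem Q116749 : ∀ i, i < 116749 → P i := stepQ 116748 Q116748 (allL N116748 (tt N89703 (iv1 D220007)) (tt N114956 F501618) (tt N120258 (iv2 F519856)) (tt N114328 (iv3 F501620)) (tt N104692 F501621) (tt N121197 (iv5 F525081)) (tt N120917 (iv6 F523463)) (tt N104689 F501619))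
theorem Q116750 : ∀ i, i < 116750 → P i := stepQ 116749 Q116749 (allL N116749 (tt N120927 F523529) (tt N115136 F501626) (tt N115001 F501622) (tt N90039 F501623) (tt N89703 (iv4 D220008)) (tt N90159 (iv5 F501627)) (tt N113756 F501624) (tt N90087 F501625))
theorem Q116751 : ∀ i, i < 116751 → P i := stepQ 116750 Q116750 (allL N116750 (tt N112752 F501630) (tt N114701 (iv0 F501631)) (tt N122332 (iv2 F531463)) (tt N89704 F501628) (tt N116169 (iv4 F501632)) (tt N89703 (iv5 D220009)) (tt N116168 F501629) (tt N122556 (iv7 F532827)))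
theorem Q116752 : ∀ i, i < 116752 → P i := stepQ 116751 Q116751 (allL N116751 (tt N114731 F501636) (tt N106209 (iv0 F501637)) (tt N114733 F501633) (tt N114700 F501634) (tt N116757 (iv4 F501664)) (tt N89706 (iv5 D220010)) (tt N121367 (iv6 F525990)) (tt N114725 F501635))
theorem Q116753 : ∀ i, i < 116753 → P i := stepQ 116752 Q116752 (allL N116752 (tt N122444 (iv1 F532145)) (tt N116169 (iv0 F501642)) (tt N89708 F501638) (tt N120324 (iv3 F520195)) (tt N116166 F501641) (tt N89707 (iv5 D220011)) (tt N90436 F501639) (tt N114730 F501640))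
theorem Q116754 : ∀ i, i < 116754 → P i := stepQ 116753 Q116753 (allL N116753 (tt N114730 (iv1 F501644)) (tt N89708 (iv0 D220012)) (tt N122444 (iv2 F532139)) (tt N117065 F503202) (tt N122556 (iv4 F532826)) (tt N114502 F501643) (tt N99941 (iv6 F503203)) (tt N116169 F501650))
theorem Q116755 : ∀ i, i < 116755 → P i := stepQ 116754 Q116754 (allL N116754 (tt N89708 (iv1 D220013)) (tt N114730 F501645) (tt N116169 (iv2 F501649)) (tt N114736 (iv3 F501647)) (tt N122332 (iv4 F531465)) (tt N114503 F501646) (tt N116155 F501648) (tt N122444 (iv7 F532143)))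
theorem Q116756 : ∀ i, i < 116756 → P i := stepQ 116755 Q116755 (allL N116755 (tt N116169 (iv1 F501656)) (tt N122444 (iv0 F532144)) (tt N114730 F501651) (tt N89714 F501652) (tt N114400 F501653) (tt N89709 F501654) (tt N113962 F501655) (tt N89708 (iv7 D220014)))
theorem Q116757 : ∀ i, i < 116757 → P i := stepQ 116756 Q116756 (allL N116756 (tt N114738 F501662) (tt N116707 (iv0 F501663)) (tt N114485 F501657) (tt N89710 (iv3 D220015)) (tt N113507 F501658) (tt N114288 F501659) (tt N108423 F501660) (tt N114487 F501661))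
theorem Q116758 : ∀ i, i < 116758 → P i := stepQ 116757 Q116757 (allL N116757 (tt N120257 (iv1 F519853)) (tt N121197 (iv0 F525083)) (tt N122443 (iv2 F532132)) (tt N89711 (iv3 D220016)) (tt N116751 F501664) (tt N99780 F501665) (tt N107373 (iv6 F501667)) (tt N99779 F501666))
theorem Q116759 : ∀ i, i < 116759 → P i := stepQ 116758 Q116758 (allL N116758 (tt N109622 F501673) (tt N108081 (iv0 F501674)) (tt N107642 F501668) (tt N107373 F501669) (tt N113992 F501670) (tt N99432 F501671) (tt N89711 (iv6 D220017)) (tt N107640 F501672))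
theorem Q116760 : ∀ i, i < 116760 → P i := stepQ 116759 Q116759 (allL N116759 (tt N121340 F525861) (tt N121325 (iv0 F525773)) (tt N121530 (iv2 F526878)) (tt N113962 F501675) (tt N112983 F501676) (tt N116316 F501677) (tt N89714 (iv6 D220018)) (tt N121263 (iv7 F525453)))
theorem Q116761 : ∀ i, i < 116761 → P i := stepQ 116760 Q116760 (allL N116760 (tt N114460 F501683) (tt N93895 F501684) (tt N107153 F501678) (tt N90052 F501679) (tt N90617 F501680) (tt N90051 F501681) (tt N89729 (iv6 D220019)) (tt N108886 F501682))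
theorem Q116762 : ∀ i, i < 116762 → P i := stepQ 116761 Q116761 (allL N116761 (tt N101037 F501689) (tt N101040 F501690) (tt N120478 (iv2 F520982)) (tt N114906 F501685) (tt N89734 (iv4 D220020)) (tt N105910 F501686) (tt N97971 F501687) (tt N114904 F501688))
theorem Q116763 : ∀ i, i < 116763 → P i := stepQ 116762 Q116762 (allL N116762 (tt N98445 F501695) (tt N98444 F501696) (tt N98446 F501691) (tt N105681 F501697) (tt N89739 (iv4 D220021)) (tt N104189 F501692) (tt N98451 F501693) (tt N97975 F501694))
theorem Q116764 : ∀ i, i < 116764 → P i := stepQ 116763 Q116763 (allL N116763 (tt N101652 F501703) (tt N90245 F501704) (tt N107886 F501698) (tt N93443 F501699) (tt N89743 (iv4 D220022)) (tt N96504 F501700) (tt N93441 F501701) (tt N93741 F501702))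
theorem Q116765 : ∀ i, i < 116765 → P i := stepQ 116764 Q116764 (allL N116764 (tt N112014 (iv1 F501710)) (tt N89748 (iv0 D220023)) (tt N114464 (iv2 F501709)) (tt N95068 F501707) (tt N109645 F501706) (tt N96182 F501705) (tt N95066 F501708) (tt N109644 F501711))
theorem Q116766 : ∀ i, i < 116766 → P i := stepQ 116765 Q116765 (allL N116765 (tt N89754 (iv1 D220024)) (tt N116918 F502493) (tt N116916 (iv2 F502481)) (tt N94548 (iv3 F501714)) (tt N116424 F501713) (tt N121641 (iv5 F527491)) (tt N119058 (iv6 F513555)) (tt N112835 F501712))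
theorem Q116767 : ∀ i, i < 116767 → P i := stepQ 116766 Q116766 (allL N116766 (tt N115544 F501716) (tt N108224 F501717) (tt N116917 (iv2 F502485)) (tt N119485 (iv3 F515856)) (tt N117192 (iv4 F503844)) (tt N89754 (iv5 D220025)) (tt N112225 F501715) (tt N120520 (iv7 F521228)))
theorem Q116768 : ∀ i, i < 116768 → P i := stepQ 116767 Q116767 (allL N116767 (tt N116916 F502484) (tt N112835 (iv0 F501721)) (tt N116918 (iv2 F502490)) (tt N105822 F501718) (tt N89758 F501719) (tt N120520 (iv5 F521227)) (tt N114773 F501720) (tt N89754 (iv7 D220026)))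
theorem Q116769 : ∀ i, i < 116769 → P i := stepQ 116768 Q116768 (allL N116768 (tt N117391 F504797) (tt N121482 (iv0 F526620)) (tt N116267 F501722) (tt N108001 F501723) (tt N110883 F501725) (tt N89755 (iv5 D220027)) (tt N113813 F501724) (tt N119961 (iv7 F518274)))
theorem Q116770 : ∀ i, i < 116770 → P i := stepQ 116769 Q116769 (allL N116769 (tt N89762 F501729) (tt N95247 (iv0 F501730)) (tt N95248 F501726) (tt N106261 F501727) (tt N89756 (iv4 D220028)) (tt N121069 (iv5 F524348)) (tt N121598 (iv6 F527250)) (tt N95249 F501728))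
theorem Q116771 : ∀ i, i < 116771 → P i := stepQ 116770 Q116770 (allL N116770 (tt N95678 (iv1 F501735)) (tt N94963 F501736) (tt N114773 F501731) (tt N94822 F501732) (tt N89760 F501733) (tt N94821 F501734) (tt N116918 (iv6 F502492)) (tt N89759 (iv7 D220029)))
theorem Q116772 : ∀ i, i < 116772 → P i := stepQ 116771 Q116771 (allL N116771 (tt N114559 F501740) (tt N122558 D225817) (tt N117012 (iv2 F502965)) (tt N95255 F501737) (tt N115902 (iv4 F501741)) (tt N89762 (iv5 D220030)) (tt N112308 F501738) (tt N95250 F501739))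
theorem Q116773 : ∀ i, i < 116773 → P i := stepQ 116772 Q116772 (allL N116772 (tt N112642 F501746) (tt N99325 (iv0 F501747)) (tt N107689 F501742) (tt N107748 F501743) (tt N93533 F501744) (tt N107687 F501745) (tt N89764 (iv6 D220031)) (tt N116968 (iv7 F502751)))
theorem Q116774 : ∀ i, i < 116774 → P i := stepQ 116773 Q116773 (allL N116773 (tt N116322 F501752) (tt N115138 F501753) (tt N105618 F501748) (tt N108142 F501749) (tt N103846 F501754) (tt N89774 (iv5 D220032)) (tt N105616 F501750) (tt N116323 F501751))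
theorem Q116775 : ∀ i, i < 116775 → P i := stepQ 116774 Q116774 (allL N116774 (tt N115138 F501758) (tt N116322 F501759) (tt N116323 F501755) (tt N95243 F501756) (tt N103845 (iv4 F501761)) (tt N89775 (iv5 D220033)) (tt N116343 F501760) (tt N105618 F501757))
theorem Q116776 : ∀ i, i < 116776 → P i := stepQ 116775 Q116775 (allL N116775 (tt N95121 (iv1 F501766)) (tt N89777 (iv0 D220034)) (tt N95122 (iv2 F501765)) (tt N103052 F501764) (tt N109174 F501763) (tt N103051 F501762) (tt N90904 (iv6 F501768)) (tt N95114 F501767))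
theorem Q116777 : ∀ i, i < 116777 → P i := stepQ 116776 Q116776 (allL N116776 (tt N95122 (iv1 F501774)) (tt N95114 F501773) (tt N89777 (iv2 D220035)) (tt N95125 F501769) (tt N104691 F501770) (tt N95124 F501771) (tt N104698 F501775) (tt N95121 F501772))
theorem Q116778 : ∀ i, i < 116778 → P i := stepQ 116777 Q116777 (allL N116777 (tt N121033 (iv1 F524131)) (tt N115985 (iv0 F501780)) (tt N104698 F501776) (tt N89778 F501777) (tt N104687 F501778) (tt N115519 F501779) (tt N89777 (iv6 D220036)) (tt N121001 (iv7 F523952)))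
theorem Q116779 : ∀ i, i < 116779 → P i := stepQ 116778 Q116778 (allL N116778 (tt N100317 F501784) (tt N105827 (iv0 F501786)) (tt N120959 (iv2 F523711)) (tt N99328 F501781) (tt N89873 F501782) (tt N113113 F501785) (tt N89801 (iv6 D220037)) (tt N107829 F501783))
theorem Q116780 : ∀ i, i < 116780 → P i := stepQ 116779 Q116779 (allL N116779 (tt N89808 (iv1 D220038)) (tt N89810 F501787) (tt N106580 (iv2 F501791)) (tt N114633 F501793) (tt N89900 F501790) (tt N107947 F501789) (tt N89899 (iv6 F501792)) (tt N106583 F501788))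
theorem Q116781 : ∀ i, i < 116781 → P i := stepQ 116780 Q116780 (allL N116780 (tt N103817 F501796) (tt N120956 F523691) (tt N120955 F523685) (tt N111277 F501794) (tt N105829 F501795) (tt N120115 F519132) (tt N89815 (iv6 D220039)) (tt N120948 (iv7 F523640)))
theorem Q116782 : ∀ i, i < 116782 → P i := stepQ 116781 Q116781 (allL N116781 (tt N121207 (iv1 F525138)) (tt N120056 (iv0 F518810)) (tt N98424 F501797) (tt N113097 F501798) (tt N98345 F501799) (tt N121467 (iv5 F526537)) (tt N89816 (iv6 D220040)) (tt N98420 (iv7 F501800)))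
theorem Q116783 : ∀ i, i < 116783 → P i := stepQ 116782 Q116782 (allL N116782 (tt N89822 (iv1 D220041)) (tt N114501 F501801) (tt N91696 (iv2 F501805)) (tt N98228 (iv3 F501806)) (tt N110481 F501804) (tt N110190 F501803) (tt N120284 (iv6 F520022)) (tt N114500 F501802))
theorem Q116784 : ∀ i, i < 116784 → P i := stepQ 116783 Q116783 (allL N116783 (tt N98328 F501812) (tt N118822 (iv0 F512263)) (tt N89831 F501807) (tt N106077 F501808) (tt N106251 F501809) (tt N101829 F501810) (tt N89825 (iv6 D220042)) (tt N106931 F501811))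
theorem Q116785 : ∀ i, i < 116785 → P i := stepQ 116784 Q116784 (allL N116784 (tt N90109 F501818) (tt N90107 F501819) (tt N90105 F501813) (tt N104690 F501814) (tt N89826 (iv4 D220043)) (tt N104690 F501817) (tt N90101 F501815) (tt N90106 F501816))
theorem Q116786 : ∀ i, i < 116786 → P i := stepQ 116785 Q116785 (allL N116785 (tt N95864 F501824) (tt N117268 (iv0 F504199)) (tt N93720 F501820) (tt N96151 F501821) (tt N104711 F501822) (tt N110184 F501823) (tt N89827 (iv6 D220044)) (tt N116931 (iv7 F502559)))
theorem Q116787 : ∀ i, i < 116787 → P i := stepQ 116786 Q116786 (allL N116786 (tt N119058 (iv1 F513549)) (tt N112837 (iv0 F501830)) (tt N93723 F501825) (tt N93338 F501826) (tt N89836 F501827) (tt N93722 F501828) (tt N89835 (iv6 D220045)) (tt N93791 F501829))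
theorem Q116788 : ∀ i, i < 116788 → P i := stepQ 116787 Q116787 (allL N116787 (tt N90884 F501834) (tt N116438 F501835) (tt N116923 F502516) (tt N121778 (iv3 F528262)) (tt N112514 F501831) (tt N89842 (iv5 D220046)) (tt N110347 F501832) (tt N110363 F501833))
theorem Q116789 : ∀ i, i < 116789 → P i := stepQ 116788 Q116788 (allL N116788 (tt N89843 (iv1 D220047)) (tt N113269 F501836) (tt N111204 F501841) (tt N122432 F532067) (tt N100272 F501839) (tt N90141 F501838) (tt N100212 (iv6 F501840)) (tt N100243 F501837))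
theorem Q116790 : ∀ i, i < 116790 → P i := stepQ 116789 Q116789 (allL N116789 (tt N90083 (iv1 F501846)) (tt N89848 (iv0 D220048)) (tt N90084 (iv2 F501845)) (tt N107654 F501844) (tt N104604 F501843) (tt N99890 F501842) (tt N90077 (iv6 F501848)) (tt N90036 F501847))
theorem Q116791 : ∀ i, i < 116791 → P i := stepQ 116790 Q116790 (allL N116790 (tt N104529 F501851) (tt N120867 (iv0 F523172)) (tt N120895 F523339) (tt N114408 F501852) (tt N89848 (iv4 D220049)) (tt N114407 F501850) (tt N116872 (iv6 F502287)) (tt N106157 F501849))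
theorem Q116792 : ∀ i, i < 116792 → P i := stepQ 116791 Q116791 (allL N116791 (tt N98454 (iv1 F501858)) (tt N97976 (iv0 F501857)) (tt N98453 F501853) (tt N89850 F501854) (tt N116872 (iv4 F502288)) (tt N99930 F501855) (tt N89848 (iv6 D220050)) (tt N98452 F501856))
theorem Q116793 : ∀ i, i < 116793 → P i := stepQ 116792 Q116792 (allL N116792 (tt N114402 F501863) (tt N114421 (iv0 F501864)) (tt N116915 (iv2 F502474)) (tt N89849 (iv3 D220051)) (tt N114408 F501859) (tt N90213 F501860) (tt N115112 F501861) (tt N90291 F501862))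
theorem Q116794 : ∀ i, i < 116794 → P i := stepQ 116793 Q116793 (allL N116793 (tt N114759 F501870) (tt N105477 (iv0 F501871)) (tt N114760 F501865) (tt N105466 F501866) (tt N89857 F501867) (tt N90294 F501868) (tt N89856 (iv6 D220052)) (tt N114751 F501869))
theorem Q116795 : ∀ i, i < 116795 → P i := stepQ 116794 Q116794 (allL N116794 (tt N122421 (iv1 F532010)) (tt N120185 (iv0 F519491)) (tt N114630 F501872) (tt N114897 F501873) (tt N115122 F501874) (tt N89869 (iv5 D220053)) (tt N117233 (iv6 F504038)) (tt N114628 F501875))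
theorem Q116796 : ∀ i, i < 116796 → P i := stepQ 116795 Q116795 (allL N116795 (tt N107846 F501880) (tt N115550 F501881) (tt N114545 F501876) (tt N90127 F501877) (tt N89877 F501878) (tt N113901 F501879) (tt N89875 (iv6 D220054)) (tt N118703 (iv7 F511630)))
theorem Q116797 : ∀ i, i < 116797 → P i := stepQ 116796 Q116796 (allL N116796 (tt N89982 F501886) (tt N96182 F501887) (tt N107150 F501882) (tt N103966 F501883) (tt N89974 F501884) (tt N89878 (iv5 D220055)) (tt N118702 (iv6 F511624)) (tt N114544 F501885))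
theorem Q116798 : ∀ i, i < 116798 → P i := stepQ 116797 Q116797 (allL N116797 (tt N101204 F501892) (tt N114373 (iv0 F501893)) (tt N104164 F501888) (tt N109374 F501889) (tt N96099 F501890) (tt N104163 F501891) (tt N89882 (iv6 D220056)) (tt N118338 (iv7 F509785)))
theorem Q116799 : ∀ i, i < 116799 → P i := stepQ 116798 Q116798 (allL N116798 (tt N106637 (iv1 F501899)) (tt N106636 F501900) (tt N106599 F501894) (tt N89892 (iv3 D220057)) (tt N108244 F501895) (tt N106765 (iv5 F501898)) (tt N105351 F501896) (tt N106032 F501897))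
theorem Q116800 : ∀ i, i < 116800 → P i := stepQ 116799 Q116799 (allL N116799 (tt N90844 F501906) (tt N90843 F501907) (tt N90809 F501901) (tt N106765 F501902) (tt N112627 F501903) (tt N89892 (iv5 D220058)) (tt N106749 F501904) (tt N106755 F501905))
theorem Q116801 : ∀ i, i < 116801 → P i := stepQ 116800 Q116800 (allL N116800 (tt N122360 (iv1 F531633)) (tt N122021 (iv0 F529685)) (tt N90811 F501908) (tt N113861 F501909) (tt N106892 F501912) (tt N89893 (iv5 D220059)) (tt N89894 F501910) (tt N113993 F501911))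
theorem Q116802 : ∀ i, i < 116802 → P i := stepQ 116801 Q116801 (allL N116801 (tt N121518 F526820) (tt N119979 (iv0 F518366)) (tt N122293 (iv2 F531234)) (tt N89898 F501913) (tt N122559 D225818) (tt N89897 (iv5 D220060)) (tt N121481 (iv6 F526613)) (tt N119168 F514162))
theorem Q116803 : ∀ i, i < 116803 → P i := stepQ 116802 Q116802 (allL N116802 (tt N118605 F511127) (tt N110053 F501916) (tt N111363 F501914) (tt N118323 (iv3 F509702)) (tt N89901 (iv4 D220061)) (tt N117067 (iv5 F503213)) (tt N89902 F501915) (tt N117072 (iv7 F503242)))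
theorem Q116804 : ∀ i, i < 116804 → P i := stepQ 116803 Q116803 (allL N116803 (tt N106973 F501920) (tt N91756 F501921) (tt N106970 F501917) (tt N122181 (iv3 F530630)) (tt N94975 F501918) (tt N89902 (iv5 D220062)) (tt N106117 F501922) (tt N106971 F501919))
theorem Q116805 : ∀ i, i < 116805 → P i := stepQ 116804 Q116804 (allL N116804 (tt N94440 F501928) (tt N91092 (iv0 F501929)) (tt N89943 F501923) (tt N90651 F501924) (tt N113293 F501925) (tt N114015 F501926) (tt N89909 (iv6 D220063)) (tt N97293 F501927))
theorem Q116806 : ∀ i, i < 116806 → P i := stepQ 116805 Q116805 (allL N116805 (tt N90588 F501934) (tt N112118 (iv0 F501936)) (tt N89947 F501930) (tt N96068 F501931) (tt N89912 F501932) (tt N110969 F501933) (tt N89911 (iv6 D220064)) (tt N117919 (iv7 F507598)))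
theorem Q116807 : ∀ i, i < 116807 → P i := stepQ 116806 Q116806 (allL N116806 (tt N99720 F501940) (tt N120779 (iv0 F522664)) (tt N119960 (iv2 F518266)) (tt N113273 F501937) (tt N110881 F501938) (tt N115902 F501939) (tt N89918 (iv6 D220065)) (tt N119959 (iv7 F518262)))
theorem Q116808 : ∀ i, i < 116808 → P i := stepQ 116807 Q116807 (allL N116807 (tt N114718 F501945) (tt N112326 F501946) (tt N114022 F501941) (tt N120391 (iv3 F520538)) (tt N91141 F501942) (tt N89929 (iv5 D220066)) (tt N89931 F501943) (tt N114020 F501944))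
theorem Q116809 : ∀ i, i < 116809 → P i := stepQ 116808 Q116808 (allL N116808 (tt N117895 (iv1 F507480)) (tt N117903 F507518) (tt N117902 (iv2 F507513)) (tt N92401 F501947) (tt N89939 F501948) (tt N94383 (iv5 F501950)) (tt N89938 (iv6 D220067)) (tt N92393 F501949))
theorem Q116810 : ∀ i, i < 116810 → P i := stepQ 116809 Q116809 (allL N116809 (tt N120066 F518863) (tt N121494 (iv0 F526682)) (tt N121091 (iv2 F524468)) (tt N89949 F501951) (tt N112978 F501952) (tt N89939 (iv5 D220068)) (tt N89941 F501953) (tt N114065 F501954))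
theorem Q116811 : ∀ i, i < 116811 → P i := stepQ 116810 Q116810 (allL N116810 (tt N115565 (iv1 F501961)) (tt N99689 F501960) (tt N114015 F501955) (tt N114170 F501956) (tt N113716 F501959) (tt N89943 (iv5 D220069)) (tt N89945 F501957) (tt N97304 F501958))
theorem Q116812 : ∀ i, i < 116812 → P i := stepQ 116811 Q116811 (allL N116811 (tt N89947 (iv1 D220070)) (tt N117919 (iv0 F507599)) (tt N112118 F501966) (tt N117540 F505605) (tt N113295 F501964) (tt N101729 F501963) (tt N101730 (iv6 F501965)) (tt N90588 F501962))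
theorem Q116813 : ∀ i, i < 116813 → P i := stepQ 116812 Q116812 (allL N116812 (tt N116296 F501970) (tt N116295 (iv0 F501971)) (tt N116297 (iv2 F501972)) (tt N89951 (iv3 D220071)) (tt N122016 (iv4 F529654)) (tt N114037 F501967) (tt N114061 F501968) (tt N113613 F501969))
theorem Q116814 : ∀ i, i < 116814 → P i := stepQ 116813 Q116813 (allL N116813 (tt N113838 F501975) (tt N114651 F501976) (tt N114780 F501973) (tt N117061 (iv3 F503179)) (tt N117588 (iv4 F505864)) (tt N89955 (iv5 D220072)) (tt N113848 F501974) (tt N120010 (iv7 F518548)))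
theorem Q116815 : ∀ i, i < 116815 → P i := stepQ 116814 Q116814 (allL N116814 (tt N113006 F501978) (tt N117220 (iv0 F503971)) (tt N121830 (iv2 F528573)) (tt N120089 (iv3 F518990)) (tt N121525 (iv4 F526852)) (tt N110364 F501977) (tt N89958 (iv6 D220073)) (tt N121524 F526848))
theorem Q116816 : ∀ i, i < 116816 → P i := stepQ 116815 Q116815 (allL N116815 (tt N121339 (iv1 F525854)) (tt N121342 (iv0 F525866)) (tt N121688 (iv2 F527751)) (tt N107374 F501979) (tt N120364 (iv4 F520386)) (tt N113302 F501980) (tt N89959 (iv6 D220074)) (tt N121689 (iv7 F527761)))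
theorem Q116817 : ∀ i, i < 116817 → P i := stepQ 116816 Q116816 (allL N116816 (tt N108425 F501984) (tt N108424 (iv0 F501985)) (tt N108437 F501981) (tt N121268 (iv3 F525477)) (tt N109557 F501982) (tt N107278 F501983) (tt N89960 (iv6 D220075)) (tt N117187 (iv7 F503821)))
theorem Q116818 : ∀ i, i < 116818 → P i := stepQ 116817 Q116817 (allL N116817 (tt N117246 (iv1 F504098)) (tt N89961 (iv0 D220076)) (tt N100966 (iv2 F501988)) (tt N117177 (iv3 F503771)) (tt N100841 F501986) (tt N99922 F501987) (tt N108412 (iv6 F501989)) (tt N100964 F501990))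
theorem Q116819 : ∀ i, i < 116819 → P i := stepQ 116818 Q116818 (allL N116818 (tt N89961 (iv1 D220077)) (tt N117246 (iv0 F504097)) (tt N100964 F501994) (tt N113416 F501996) (tt N100006 F501992) (tt N113414 F501995) (tt N108386 (iv6 F501993)) (tt N100966 F501991))
theorem Q116820 : ∀ i, i < 116820 → P i := stepQ 116819 Q116819 (allL N116819 (tt N120129 F519215) (tt N122317 (iv0 F531382)) (tt N120089 (iv2 F518987)) (tt N89961 (iv3 D220078)) (tt N89966 F501998) (tt N117245 (iv5 F504091)) (tt N100935 F501999) (tt N120087 (iv7 F518979)))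
theorem Q116821 : ∀ i, i < 116821 → P i := stepQ 116820 Q116820 (allL N116820 (tt N100964 (iv1 F502001)) (tt N100966 F502002) (tt N117246 (iv2 F504094)) (tt N120087 (iv3 F518978)) (tt N89962 F502000) (tt N117212 (iv5 F503930)) (tt N120171 (iv6 F519415)) (tt N89961 (iv7 D220079)))
theorem Q116822 : ∀ i, i < 116822 → P i := stepQ 116821 Q116821 (allL N116821 (tt N112371 F502007) (tt N122210 (iv0 F530800)) (tt N113891 F502003) (tt N116296 F502004) (tt N89964 F502005) (tt N112097 F502006) (tt N89963 (iv6 D220080)) (tt N122051 (iv7 F529865)))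
theorem Q116823 : ∀ i, i < 116823 → P i := stepQ 116822 Q116822 (allL N116822 (tt N113002 (iv1 F502011)) (tt N113892 F502012) (tt N113893 F502008) (tt N120135 (iv3 F519246)) (tt N122051 (iv4 F529863)) (tt N90626 F502009) (tt N91802 F502010) (tt N89964 (iv7 D220081)))
theorem Q116824 : ∀ i, i < 116824 → P i := stepQ 116823 Q116823 (allL N116823 (tt N113942 (iv1 F502017)) (tt N89966 (iv0 D220082)) (tt N110104 (iv2 F502016)) (tt N101292 (iv3 F502019)) (tt N113540 F502014) (tt N101291 F502013) (tt N90054 F502015) (tt N113862 F502018))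
theorem Q116825 : ∀ i, i < 116825 → P i := stepQ 116824 Q116824 (allL N116824 (tt N113946 (iv1 F502023)) (tt N113945 (iv0 F502024)) (tt N113888 F502020) (tt N120088 (iv3 F518982)) (tt N89969 F502021) (tt N120428 (iv5 F520731)) (tt N89968 (iv6 D220083)) (tt N91798 F502022))
theorem Q116826 : ∀ i, i < 116826 → P i := stepQ 116825 Q116825 (allL N116825 (tt N89970 (iv1 D220084)) (tt N116980 F502804) (tt N116981 (iv2 F502805)) (tt N112173 (iv3 F502027)) (tt N115128 F502026) (tt N112172 F502025) (tt N116976 (iv6 F502784)) (tt N116954 F502684))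
theorem Q116827 : ∀ i, i < 116827 → P i := stepQ 116826 Q116826 (allL N116826 (tt N118645 F511317) (tt N110546 (iv0 F502033)) (tt N109417 F502028) (tt N89973 F502029) (tt N101841 F502030) (tt N91892 F502031) (tt N89972 (iv6 D220085)) (tt N109326 F502032))
theorem Q116828 : ∀ i, i < 116828 → P i := stepQ 116827 Q116827 (allL N116827 (tt N97408 F502039) (tt N111748 (iv0 F502040)) (tt N102149 F502034) (tt N95757 F502035) (tt N89977 F502036) (tt N97379 F502037) (tt N89976 (iv6 D220086)) (tt N102152 F502038))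
theorem Q116829 : ∀ i, i < 116829 → P i := stepQ 116828 Q116828 (allL N116828 (tt N107872 (iv1 F502045)) (tt N89980 (iv0 D220087)) (tt N92384 (iv2 F502044)) (tt N93941 (iv3 F502047)) (tt N92390 F502042) (tt N116492 F502041) (tt N92383 F502043) (tt N107873 F502046))
theorem Q116830 : ∀ i, i < 116830 → P i := stepQ 116829 Q116829 (allL N116829 (tt N117904 F507524) (tt N122560 D225819) (tt N94375 F502048) (tt N110823 F502049) (tt N89980 (iv4 D220088)) (tt N118479 (iv5 F510593)) (tt N94352 F502050) (tt N116607 F502051))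
theorem Q116831 : ∀ i, i < 116831 → P i := stepQ 116830 Q116830 (allL N116830 (tt N110643 (iv1 F502055)) (tt N89983 (iv0 D220089)) (tt N107925 (iv2 F502054)) (tt N107726 F502052) (tt N110663 F502053) (tt N121619 (iv5 F527365)) (tt N90008 (iv6 F502057)) (tt N107772 F502056))
theorem Q116832 : ∀ i, i < 116832 → P i := stepQ 116831 Q116831 (allL N116831 (tt N107925 (iv1 F502061)) (tt N107772 F502060) (tt N89983 (iv2 D220090)) (tt N107872 F502058) (tt N110644 (iv4 F502063)) (tt N108907 (iv5 F502062)) (tt N99020 F502064) (tt N110643 F502059))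
theorem Q116833 : ∀ i, i < 116833 → P i := stepQ 116832 Q116832 (allL N116832 (tt N107851 F502068) (tt N107789 (iv0 F502069)) (tt N110644 F502065) (tt N99170 F502066) (tt N89983 (iv4 D220091)) (tt N118831 (iv5 F512307)) (tt N93648 F502070) (tt N110639 F502067))
theorem Q116834 : ∀ i, i < 116834 → P i := stepQ 116833 Q116833 (allL N116833 (tt N99028 F502074) (tt N96729 (iv0 F502076)) (tt N108907 F502071) (tt N89984 F502072) (tt N98829 F502077) (tt N89983 (iv5 D220092)) (tt N93530 F502075) (tt N108922 F502073))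
theorem Q116835 : ∀ i, i < 116835 → P i := stepQ 116834 Q116834 (allL N116834 (tt N93501 F502083) (tt N99012 (iv0 F502084)) (tt N99020 F502078) (tt N89985 F502079) (tt N93648 F502080) (tt N93805 F502081) (tt N89983 (iv6 D220093)) (tt N99021 F502082))
theorem Q116836 : ∀ i, i < 116836 → P i := stepQ 116835 Q116835 (allL N116835 (tt N96092 (iv1 F502090)) (tt N116612 F502091) (tt N116613 F502085) (tt N99021 F502086) (tt N96183 F502087) (tt N93808 F502088) (tt N96182 F502089) (tt N89985 (iv7 D220094)))
theorem Q116837 : ∀ i, i < 116837 → P i := stepQ 116836 Q116836 (allL N116836 (tt N116492 F502094) (tt N107874 (iv0 F502095)) (tt N122561 D225820) (tt N89987 (iv3 D220095)) (tt N121249 (iv4 F525365)) (tt N116381 F502092) (tt N122174 (iv6 F530587)) (tt N116605 F502093))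
theorem Q116838 : ∀ i, i < 116838 → P i := stepQ 116837 Q116837 (allL N116837 (tt N113324 F502098) (tt N89994 (iv0 D220096)) (tt N112614 F502100) (tt N114025 (iv3 F502099)) (tt N107270 F502097) (tt N115115 F502096) (tt N122450 F532185) (tt N116536 F502101))
theorem Q116839 : ∀ i, i < 116839 → P i := stepQ 116838 Q116838 (allL N116838 (tt N89994 (iv1 D220097)) (tt N113324 F502102) (tt N116536 (iv2 F502105)) (tt N101506 (iv3 F502106)) (tt N120082 (iv4 F518953)) (tt N115114 F502104) (tt N121511 (iv6 F526774)) (tt N112614 F502103))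
theorem Q116840 : ∀ i, i < 116840 → P i := stepQ 116839 Q116839 (allL N116839 (tt N102730 F502112) (tt N110437 F502111) (tt N90004 F502107) (tt N108764 F502108) (tt N90003 (iv4 D220098)) (tt N108762 F502110) (tt N92407 (iv6 F502113)) (tt N116683 F502109))
theorem Q116841 : ∀ i, i < 116841 → P i := stepQ 116840 Q116840 (allL N116840 (tt N116984 (iv1 F502829)) (tt N116955 (iv0 F502691)) (tt N90005 F502114) (tt N99340 F502115) (tt N92407 F502116) (tt N95772 F502117) (tt N90003 (iv6 D220099)) (tt N92406 F502118))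
theorem Q116842 : ∀ i, i < 116842 → P i := stepQ 116841 Q116841 (allL N116841 (tt N116683 (iv1 F502121)) (tt N90004 (iv0 D220100)) (tt N102730 (iv2 F502122)) (tt N116054 F502120) (tt N107792 F502119) (tt N121750 (iv5 F528097)) (tt N107791 (iv6 F502123)) (tt N110437 (iv7 F502124)))
theorem Q116843 : ∀ i, i < 116843 → P i := stepQ 116842 Q116842 (allL N116842 (tt N90004 (iv1 D220101)) (tt N116683 F502125) (tt N110437 F502129) (tt N100045 (iv3 F502128)) (tt N109342 F502127) (tt N118548 (iv5 F510896)) (tt N122560 F532855) (tt N102730 F502126))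
theorem Q116844 : ∀ i, i < 116844 → P i := stepQ 116843 Q116843 (allL N116843 (tt N121811 (iv1 F528463)) (tt N100109 (iv0 F502134)) (tt N108762 F502130) (tt N116387 F502131) (tt N120155 (iv4 F519336)) (tt N90004 (iv5 D220102)) (tt N92375 F502132) (tt N116684 F502133))
theorem Q116845 : ∀ i, i < 116845 → P i := stepQ 116844 Q116844 (allL N116844 (tt N116955 F502692) (tt N116984 F502830) (tt N92406 F502135) (tt N90007 F502136) (tt N92297 F502137) (tt N102267 F502138) (tt N115928 F502139) (tt N90005 (iv7 D220103)))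
theorem Q116846 : ∀ i, i < 116846 → P i := stepQ 116845 Q116845 (allL N116845 (tt N90006 (iv1 D220104)) (tt N116680 F502140) (tt N116678 (iv2 F502144)) (tt N116987 (iv3 F502841)) (tt N95165 F502143) (tt N116700 F502142) (tt N99295 (iv6 F502145)) (tt N116679 F502141))
theorem Q116847 : ∀ i, i < 116847 → P i := stepQ 116846 Q116846 (allL N116846 (tt N120388 (iv1 F520528)) (tt N108903 F502149) (tt N93565 F502146) (tt N118358 (iv3 F509897)) (tt N90006 (iv4 D220105)) (tt N111017 F502147) (tt N93564 F502148) (tt N120537 (iv7 F521325)))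
theorem Q116848 : ∀ i, i < 116848 → P i := stepQ 116847 Q116847 (allL N116847 (tt N116678 (iv1 F502153)) (tt N116679 F502154) (tt N116680 F502150) (tt N102267 F502151) (tt N120537 (iv4 F521327)) (tt N90007 F502152) (tt N117039 (iv6 F503085)) (tt N90006 (iv7 D220106)))
theorem Q116849 : ∀ i, i < 116849 → P i := stepQ 116848 Q116848 (allL N116848 (tt N110135 F502159) (tt N118752 (iv0 F511895)) (tt N90011 F502155) (tt N115924 F502156) (tt N110806 F502157) (tt N115922 F502158) (tt N90009 (iv6 D220107)) (tt N117031 (iv7 F503054)))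
theorem Q116850 : ∀ i, i < 116850 → P i := stepQ 116849 Q116849 (allL N116849 (tt N116669 (iv1 F502162)) (tt N90010 (iv0 D220108)) (tt N116668 (iv2 F502161)) (tt N117490 (iv3 F505308)) (tt N99330 F502160) (tt N122562 D225821) (tt N107851 (iv6 F502164)) (tt N107787 F502163))
theorem Q116851 : ∀ i, i < 116851 → P i := stepQ 116850 Q116850 (allL N116850 (tt N122204 (iv1 F530760)) (tt N112562 F502167) (tt N121877 (iv2 F528856)) (tt N116392 F502165) (tt N121861 (iv4 F528761)) (tt N90010 (iv5 D220109)) (tt N122563 D225822) (tt N116670 F502166))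
theorem Q116852 : ∀ i, i < 116852 → P i := stepQ 116851 Q116851 (allL N116851 (tt N117020 (iv1 F503002)) (tt N110640 (iv0 F502171)) (tt N110806 F502168) (tt N110797 F502169) (tt N90011 F502170) (tt N122564 D225823) (tt N90010 (iv6 D220110)) (tt N117019 F503000))
theorem Q116853 : ∀ i, i < 116853 → P i := stepQ 116852 Q116852 (allL N116852 (tt N108206 F502176) (tt N117049 (iv0 F503121)) (tt N115922 F502172) (tt N90012 F502173) (tt N94892 F502175) (tt N90011 (iv5 D220111)) (tt N94891 F502174) (tt N118153 (iv7 F508894)))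
theorem Q116854 : ∀ i, i < 116854 → P i := stepQ 116853 Q116853 (allL N116853 (tt N118752 F511896) (tt N110135 (iv0 F502179)) (tt N117031 (iv2 F503051)) (tt N90013 F502177) (tt N117019 (iv4 F502998)) (tt N118153 (iv5 F508893)) (tt N116677 F502178) (tt N90011 (iv7 D220112)))
theorem Q116855 : ∀ i, i < 116855 → P i := stepQ 116854 Q116854 (allL N116854 (tt N108518 F502183) (tt N112092 F502184) (tt N112248 F502180) (tt N118871 F512505) (tt N90012 (iv4 D220113)) (tt N90670 F502181) (tt N112009 F502182) (tt N90669 F502185))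
theorem Q116856 : ∀ i, i < 116856 → P i := stepQ 116855 Q116855 (allL N116855 (tt N112214 (iv1 F502189)) (tt N116692 F502190) (tt N115927 F502186) (tt N118153 (iv3 F508891)) (tt N90669 F502187) (tt N90013 F502188) (tt N115556 (iv6 F502191)) (tt N90012 (iv7 D220114)))
theorem Q116857 : ∀ i, i < 116857 → P i := stepQ 116856 Q116856 (allL N116856 (tt N112636 F502197) (tt N112635 (iv0 F502198)) (tt N107297 F502192) (tt N94801 F502193) (tt N96496 F502194) (tt N94953 F502195) (tt N90017 (iv6 D220115)) (tt N112634 F502196))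
theorem Q116858 : ∀ i, i < 116858 → P i := stepQ 116857 Q116857 (allL N116857 (tt N118767 F511975) (tt N119992 (iv0 F518434)) (tt N109320 F502199) (tt N90021 F502200) (tt N108394 F502201) (tt N110413 F502202) (tt N90019 (iv6 D220116)) (tt N117234 (iv7 F504042)))
theorem Q116859 : ∀ i, i < 116859 → P i := stepQ 116858 Q116858 (allL N116858 (tt N119616 F516534) (tt N122316 F531376) (tt N90622 F502203) (tt N122179 (iv3 F530616)) (tt N109518 F502204) (tt N110097 F502205) (tt N90025 (iv6 D220117)) (tt N119912 (iv7 F518000)))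
theorem Q116860 : ∀ i, i < 116860 → P i := stepQ 116859 Q116859 (allL N116859 (tt N99121 F502210) (tt N90939 (iv0 F502211)) (tt N90031 F502206) (tt N90026 (iv3 D220118)) (tt N110680 F502207) (tt N110674 F502208) (tt N90031 F502209) (tt N121421 (iv7 F526267)))
theorem Q116861 : ∀ i, i < 116861 → P i := stepQ 116860 Q116860 (allL N116860 (tt N122003 (iv1 F529580)) (tt N121453 (iv0 F526465)) (tt N106635 F502212) (tt N90028 (iv3 D220119)) (tt N106032 F502213) (tt N106908 F502214) (tt N106031 (iv6 F502216)) (tt N108244 F502215))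
theorem Q116862 : ∀ i, i < 116862 → P i := stepQ 116861 Q116861 (allL N116861 (tt N117165 (iv1 F503715)) (tt N106628 (iv0 F502222)) (tt N90828 F502217) (tt N106031 F502218) (tt N90029 F502219) (tt N106671 F502220) (tt N90028 (iv6 D220120)) (tt N106029 F502221))
theorem Q116863 : ∀ i, i < 116863 → P i := stepQ 116862 Q116862 (allL N116862 (tt N90831 (iv1 F502232)) (tt N90029 (iv0 D220121)) (tt N90829 F502226) (tt N113191 (iv3 F502224)) (tt N121428 (iv4 F526311)) (tt N119074 F513647) (tt N106636 F502223) (tt N90830 (iv7 F502225)))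
theorem Q116864 : ∀ i, i < 116864 → P i := stepQ 116863 Q116863 (allL N116863 (tt N90029 (iv1 D220122)) (tt N90831 F502227) (tt N90830 F502231) (tt N122451 F532191) (tt N119890 (iv4 F517884)) (tt N90439 F502229) (tt N90613 (iv6 F502230)) (tt N90829 F502228))
theorem Q116865 : ∀ i, i < 116865 → P i := stepQ 116864 Q116864 (allL N116864 (tt N90830 (iv1 F502238)) (tt N90829 F502239) (tt N90831 F502233) (tt N90792 F502234) (tt N106029 F502235) (tt N113254 F502236) (tt N106623 F502237) (tt N90029 (iv7 D220123)))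
theorem Q116866 : ∀ i, i < 116866 → P i := stepQ 116865 Q116865 (allL N116865 (tt N90031 (iv1 D220124)) (tt N121421 (iv0 F526268)) (tt N90939 F502244) (tt N99137 (iv3 F502245)) (tt N113406 (iv4 F502242)) (tt N99065 F502241) (tt N90915 (iv6 F502243)) (tt N99121 F502240))
theorem Q116867 : ∀ i, i < 116867 → P i := stepQ 116866 Q116866 (allL N116866 (tt N109219 (iv1 F502252)) (tt N109218 (iv0 F502251)) (tt N90075 F502246) (tt N109168 F502247) (tt N90034 F502248) (tt N103604 F502249) (tt N90033 (iv6 D220125)) (tt N103603 (iv7 F502250)))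
theorem Q116868 : ∀ i, i < 116868 → P i := stepQ 116867 Q116867 (allL N116867 (tt N109173 F502257) (tt N109172 F502259) (tt N109175 F502253) (tt N90035 (iv3 D220126)) (tt N99780 F502254) (tt N95120 F502255) (tt N104610 (iv6 F502258)) (tt N90073 F502256))
theorem Q116869 : ∀ i, i < 116869 → P i := stepQ 116868 Q116868 (allL N116868 (tt N98615 F502265) (tt N117767 (iv0 F506867)) (tt N90082 F502260) (tt N104610 F502261) (tt N90036 F502262) (tt N104605 F502263) (tt N90035 (iv6 D220127)) (tt N104604 F502264))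
theorem Q116870 : ∀ i, i < 116870 → P i := stepQ 116869 Q116869 (allL N116869 (tt N90098 (iv1 F502271)) (tt N90097 F502272) (tt N90099 F502266) (tt N114663 F502267) (tt N116350 F502268) (tt N104123 F502269) (tt N90092 F502270) (tt N90040 (iv7 D220128)))
theorem Q116871 : ∀ i, i < 116871 → P i := stepQ 116870 Q116870 (allL N116870 (tt N109160 (iv1 F502278)) (tt N90041 (iv0 D220129)) (tt N104700 (iv2 F502277)) (tt N90101 F502274) (tt N114268 F502273) (tt N90100 F502276) (tt N104690 F502275) (tt N104702 F502279))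
theorem Q116872 : ∀ i, i < 116872 → P i := stepQ 116871 Q116871 (allL N116871 (tt N104700 (iv1 F502285)) (tt N104702 F502284) (tt N90041 (iv2 D220130)) (tt N90107 F502280) (tt N94656 F502281) (tt N119613 (iv5 F516517)) (tt N94641 F502282) (tt N109160 F502283))
theorem Q116873 : ∀ i, i < 116873 → P i := stepQ 116872 Q116872 (allL N116872 (tt N103730 F502290) (tt N108006 F502289) (tt N119613 (iv2 F516516)) (tt N90042 F502286) (tt N116791 F502288) (tt N90041 (iv5 D220131)) (tt N116790 F502287) (tt N119612 (iv7 F516513)))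
theorem Q116874 : ∀ i, i < 116874 → P i := stepQ 116873 Q116873 (allL N116873 (tt N90111 (iv1 F502294)) (tt N90110 F502295) (tt N90114 F502291) (tt N119612 (iv3 F516511)) (tt N90052 F502292) (tt N90043 F502293) (tt N118653 (iv6 F511365)) (tt N90042 (iv7 D220132)))
theorem Q116875 : ∀ i, i < 116875 → P i := stepQ 116874 Q116874 (allL N116874 (tt N101954 F502299) (tt N101950 (iv0 F502300)) (tt N101932 F502296) (tt N90047 (iv3 D220133)) (tt N119827 (iv4 F517576)) (tt N110202 F502297) (tt N112102 (iv6 F502301)) (tt N101953 F502298))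
theorem Q116876 : ∀ i, i < 116876 → P i := stepQ 116875 Q116875 (allL N116875 (tt N118308 (iv1 F509627)) (tt N116701 (iv0 F502306)) (tt N108654 F502302) (tt N112102 F502303) (tt N90048 F502304) (tt N113129 F502305) (tt N90047 (iv6 D220134)) (tt N118307 (iv7 F509623)))
theorem Q116877 : ∀ i, i < 116877 → P i := stepQ 116876 Q116876 (allL N116876 (tt N122182 (iv1 F530639)) (tt N121322 (iv0 F525759)) (tt N117333 (iv2 F504502)) (tt N90053 (iv3 D220135)) (tt N117803 F507051) (tt N117329 (iv5 F504485)) (tt N100814 F502307) (tt N122345 (iv7 F531551)))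
theorem Q116878 : ∀ i, i < 116878 → P i := stepQ 116877 Q116877 (allL N116877 (tt N120482 F521001) (tt N120484 (iv0 F521013)) (tt N119578 (iv2 F516351)) (tt N103747 F502308) (tt N90063 F502309) (tt N120641 F521911) (tt N90062 (iv6 D220136)) (tt N120107 (iv7 F519084)))
theorem Q116879 : ∀ i, i < 116879 → P i := stepQ 116878 Q116878 (allL N116878 (tt N106252 F502312) (tt N90063 (iv0 D220137)) (tt N121819 F528506) (tt N101376 (iv3 F502311)) (tt N120819 (iv4 F522903)) (tt N117628 (iv5 F506080)) (tt N90098 F502310) (tt N121258 (iv7 F525421)))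
theorem Q116880 : ∀ i, i < 116880 → P i := stepQ 116879 Q116879 (allL N116879 (tt N90063 (iv1 D220138)) (tt N106252 F502313) (tt N121258 (iv2 F525417)) (tt N90123 F502315) (tt N120921 (iv4 F523486)) (tt N122372 (iv5 F531707)) (tt N106247 (iv6 F502314)) (tt N121819 (iv7 F528508)))
theorem Q116881 : ∀ i, i < 116881 → P i := stepQ 116880 Q116880 (allL N116880 (tt N121258 F525423) (tt N121819 F528507) (tt N106252 F502316) (tt N116316 F502317) (tt N120107 (iv4 F519083)) (tt N113962 F502318) (tt N105950 F502319) (tt N90063 (iv7 D220139)))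
theorem Q116882 : ∀ i, i < 116882 → P i := stepQ 116881 Q116881 (allL N116881 (tt N95259 F502325) (tt N95262 F502326) (tt N90434 F502320) (tt N105706 F502321) (tt N106931 F502322) (tt N90065 (iv5 D220140)) (tt N90429 F502323) (tt N106251 F502324))
theorem Q116883 : ∀ i, i < 116883 → P i := stepQ 116882 Q116882 (allL N116882 (tt N94640 (iv1 F502331)) (tt N94639 F502332) (tt N94643 F502327) (tt N90067 F502328) (tt N90131 F502329) (tt N98716 F502330) (tt N118142 (iv6 F508829)) (tt N90066 (iv7 D220141)))
theorem Q116884 : ∀ i, i < 116884 → P i := stepQ 116883 Q116883 (allL N116883 (tt N92285 F502337) (tt N106194 (iv0 F502338)) (tt N105581 F502333) (tt N109847 F502334) (tt N105402 F502335) (tt N104463 F502336) (tt N90069 (iv6 D220142)) (tt N105579 (iv7 F502339)))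
theorem Q116885 : ∀ i, i < 116885 → P i := stepQ 116884 Q116884 (allL N116884 (tt N109175 (iv1 F502342)) (tt N90073 (iv0 D220143)) (tt N109172 (iv2 F502341)) (tt N115387 F502344) (tt N121794 (iv4 F528355)) (tt N114297 F502340) (tt N119633 (iv6 F516620)) (tt N109173 F502343))
theorem Q116886 : ∀ i, i < 116886 → P i := stepQ 116885 Q116885 (allL N116885 (tt N90075 (iv1 D220144)) (tt N103603 F502345) (tt N109218 F502351) (tt N107068 (iv3 F502349)) (tt N95976 F502348) (tt N102719 F502347) (tt N95975 (iv6 F502350)) (tt N109219 F502346))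
theorem Q116887 : ∀ i, i < 116887 → P i := stepQ 116886 Q116886 (allL N116886 (tt N103532 F502354) (tt N103726 F502355) (tt N106409 F502352) (tt N122363 (iv3 F531647)) (tt N90076 (iv4 D220145)) (tt N120726 (iv5 F522376)) (tt N104519 F502353) (tt N119071 (iv7 F513630)))
theorem Q116888 : ∀ i, i < 116888 → P i := stepQ 116887 Q116887 (allL N116887 (tt N107805 (iv1 F502358)) (tt N119534 (iv0 F516110)) (tt N93291 F502356) (tt N119135 (iv3 F513976)) (tt N93287 F502357) (tt N120823 (iv5 F522927)) (tt N90081 (iv6 D220146)) (tt N120822 (iv7 F522921)))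
theorem Q116889 : ∀ i, i < 116889 → P i := stepQ 116888 Q116888 (allL N116888 (tt N104604 F502363) (tt N90082 (iv0 D220147)) (tt N98615 (iv2 F502361)) (tt N119631 (iv3 F516608)) (tt N100439 F502360) (tt N103628 F502359) (tt N98055 F502362) (tt N117767 (iv7 F506866)))
theorem Q116890 : ∀ i, i < 116890 → P i := stepQ 116889 Q116889 (allL N116889 (tt N104603 F502367) (tt N104602 F502368) (tt N104605 F502364) (tt N120817 (iv3 F522889)) (tt N111810 F502365) (tt N90082 (iv5 D220148)) (tt N120823 (iv6 F522928)) (tt N103600 F502366))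
theorem Q116891 : ∀ i, i < 116891 → P i := stepQ 116890 Q116890 (allL N116890 (tt N117767 F506868) (tt N98615 (iv0 F502374)) (tt N104604 F502369) (tt N98672 F502370) (tt N90084 F502371) (tt N103600 F502372) (tt N103603 F502373) (tt N90082 (iv7 D220149)))
theorem Q116892 : ∀ i, i < 116892 → P i := stepQ 116891 Q116891 (allL N116891 (tt N120867 F523173) (tt N104529 F502378) (tt N106157 F502375) (tt N121348 (iv3 F525896)) (tt N90083 (iv4 D220150)) (tt N116443 F502376) (tt N98718 F502377) (tt N120895 (iv7 F523341)))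
theorem Q116893 : ∀ i, i < 116893 → P i := stepQ 116892 Q116892 (allL N116892 (tt N109816 F502384) (tt N90086 (iv0 D220151)) (tt N109894 (iv2 F502382)) (tt N107272 F502379) (tt N108067 F502380) (tt N121577 (iv5 F527119)) (tt N107985 F502381) (tt N107269 (iv7 F502383)))
theorem Q116894 : ∀ i, i < 116894 → P i := stepQ 116893 Q116893 (allL N116893 (tt N90086 (iv1 D220152)) (tt N109816 F502385) (tt N107269 F502389) (tt N114276 (iv3 F502388)) (tt N105574 (iv4 F502387)) (tt N121359 (iv5 F525954)) (tt N105573 (iv6 F502390)) (tt N109894 F502386))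
theorem Q116895 : ∀ i, i < 116895 → P i := stepQ 116894 Q116894 (allL N116894 (tt N91154 F502394) (tt N120083 (iv0 F518962)) (tt N109895 F502391) (tt N90091 F502392) (tt N122451 (iv4 F532190)) (tt N90086 (iv5 D220153)) (tt N90825 F502393) (tt N122555 (iv7 F532823)))
theorem Q116896 : ∀ i, i < 116896 → P i := stepQ 116895 Q116895 (allL N116895 (tt N107269 (iv1 F502398)) (tt N109894 F502399) (tt N109816 F502395) (tt N90092 F502396) (tt N120177 (iv4 F519448)) (tt N122555 (iv5 F532817)) (tt N114663 F502397) (tt N90086 (iv7 D220154)))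
theorem Q116897 : ∀ i, i < 116897 → P i := stepQ 116896 Q116896 (allL N116896 (tt N109167 (iv1 F502406)) (tt N114891 (iv0 F502405)) (tt N98627 F502400) (tt N90089 F502401) (tt N109211 F502402) (tt N90089 F502403) (tt N90087 (iv6 D220155)) (tt N116352 F502404))
theorem Q116898 : ∀ i, i < 116898 → P i := stepQ 116897 Q116897 (allL N116897 (tt N98455 F502409) (tt N106286 (iv0 F502410)) (tt N106288 F502407) (tt N117207 (iv3 F503910)) (tt N121854 (iv4 F528716)) (tt N90090 (iv5 D220156)) (tt N117206 F503907) (tt N98997 F502408))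
theorem Q116899 : ∀ i, i < 116899 → P i := stepQ 116898 Q116898 (allL N116898 (tt N90832 (iv1 F502414)) (tt N90616 F502415) (tt N106285 F502411) (tt N122555 (iv3 F532819)) (tt N119893 (iv4 F517896)) (tt N90092 F502412) (tt N106016 F502413) (tt N90091 (iv7 D220157)))
theorem Q116900 : ∀ i, i < 116900 → P i := stepQ 116899 Q116899 (allL N116899 (tt N119650 (iv1 F516712)) (tt N111216 (iv0 F502420)) (tt N115003 F502416) (tt N90096 F502417) (tt N98341 F502418) (tt N122565 D225824) (tt N90094 (iv6 D220158)) (tt N98340 F502419))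
theorem Q116901 : ∀ i, i < 116901 → P i := stepQ 116900 Q116900 (allL N116900 (tt N121112 F524571) (tt N121447 F526431) (tt N112000 F502421) (tt N122427 (iv3 F532037)) (tt N111999 F502422) (tt N122467 (iv5 F532293)) (tt N90095 (iv6 D220159)) (tt N121446 (iv7 F526423)))
theorem Q116902 : ∀ i, i < 116902 → P i := stepQ 116901 Q116901 (allL N116901 (tt N106415 F502423) (tt N106423 F502424) (tt N118889 (iv2 F512596)) (tt N122565 (iv3 F532877)) (tt N118886 (iv4 F512587)) (tt N90096 (iv5 D220160)) (tt N122467 (iv6 F532291)) (tt N121445 (iv7 F526420)))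
theorem Q116903 : ∀ i, i < 116903 → P i := stepQ 116902 Q116902 (allL N116902 (tt N104703 F502428) (tt N90104 F502429) (tt N105342 F502425) (tt N121774 (iv3 F528240)) (tt N90097 (iv4 D220161)) (tt N106411 F502427) (tt N103698 F502426) (tt N122289 (iv7 F531209)))
theorem Q116904 : ∀ i, i < 116904 → P i := stepQ 116903 Q116903 (allL N116903 (tt N90104 F502433) (tt N104703 F502434) (tt N122289 (iv2 F531214)) (tt N114709 F502430) (tt N90098 (iv4 D220162)) (tt N106410 F502431) (tt N120819 (iv6 F522906)) (tt N105342 F502432))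
theorem Q116905 : ∀ i, i < 116905 → P i := stepQ 116904 Q116904 (allL N116904 (tt N90101 (iv1 D220163)) (tt N90103 F502435) (tt N103734 F502439) (tt N104685 (iv3 F502438)) (tt N118750 (iv4 F511879)) (tt N91693 F502437) (tt N104663 F502440) (tt N103656 F502436))
theorem Q116906 : ∀ i, i < 116906 → P i := stepQ 116905 Q116905 (allL N116905 (tt N122566 D225825) (tt N122566 F532884) (tt N122047 (iv2 F529836)) (tt N90104 F502441) (tt N120952 (iv4 F523662)) (tt N122567 D225826) (tt N90102 (iv6 D220164)) (tt N122047 (iv7 F529839)))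
theorem Q116907 : ∀ i, i < 116907 → P i := stepQ 116906 Q116906 (allL N116906 (tt N122325 F531435) (tt N121774 (iv0 F528243)) (tt N122288 (iv2 F531201)) (tt N114576 F502442) (tt N118271 (iv4 F509451)) (tt N122568 D225827) (tt N90103 (iv6 D220165)) (tt N119568 (iv7 F516305)))
theorem Q116908 : ∀ i, i < 116908 → P i := stepQ 116907 Q116907 (allL N116907 (tt N121013 (iv1 F524017)) (tt N121014 (iv0 F524022)) (tt N111822 F502443) (tt N122567 (iv3 F532887)) (tt N111820 F502444) (tt N90104 (iv5 D220166)) (tt N122568 (iv6 F532892)) (tt N121304 (iv7 F525656)))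
theorem Q116909 : ∀ i, i < 116909 → P i := stepQ 116908 Q116908 (allL N116908 (tt N122289 (iv1 F531208)) (tt N105342 (iv0 F502448)) (tt N104703 F502445) (tt N122047 (iv3 F529837)) (tt N103621 F502446) (tt N121304 (iv5 F525652)) (tt N104668 F502447) (tt N90104 (iv7 D220167)))
theorem Q116910 : ∀ i, i < 116910 → P i := stepQ 116909 Q116909 (allL N116909 (tt N90106 (iv1 F502453)) (tt N90105 (iv0 D220168)) (tt N90109 (iv2 F502452)) (tt N109160 F502451) (tt N90153 F502450) (tt N92865 F502449) (tt N109159 (iv6 F502455)) (tt N90107 F502454))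
theorem Q116911 : ∀ i, i < 116911 → P i := stepQ 116910 Q116910 (allL N116910 (tt N119674 F516850) (tt N121318 (iv0 F525735)) (tt N122056 (iv2 F529891)) (tt N90113 F502456) (tt N120062 (iv4 F518845)) (tt N114950 F502457) (tt N90108 (iv6 D220169)) (tt N121151 (iv7 F524802)))
theorem Q116912 : ∀ i, i < 116912 → P i := stepQ 116911 Q116911 (allL N116911 (tt N119563 F516275) (tt N120918 (iv0 F523470)) (tt N109159 F502458) (tt N90115 F502459) (tt N90162 F502460) (tt N106992 F502461) (tt N90109 (iv6 D220170)) (tt N118142 (iv7 F508830)))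
theorem Q116913 : ∀ i, i < 116913 → P i := stepQ 116912 Q116912 (allL N116912 (tt N103716 F502465) (tt N103725 (iv0 F502466)) (tt N103723 F502462) (tt N90110 (iv3 D220171)) (tt N116335 F502463) (tt N120866 (iv5 F523162)) (tt N121318 (iv6 F525733)) (tt N103722 F502464))
theorem Q116914 : ∀ i, i < 116914 → P i := stepQ 116913 Q116913 (allL N116913 (tt N104687 F502469) (tt N104699 (iv0 F502470)) (tt N104697 F502467) (tt N121318 (iv3 F525736)) (tt N121319 (iv4 F525738)) (tt N103530 F502468) (tt N90110 (iv6 D220172)) (tt N103529 F502471))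
theorem Q116915 : ∀ i, i < 116915 → P i := stepQ 116914 Q116914 (allL N116914 (tt N118701 (iv1 F511622)) (tt N118700 (iv0 F511617)) (tt N120894 (iv2 F523329)) (tt N98206 F502472) (tt N98209 F502473) (tt N119493 (iv5 F515886)) (tt N90111 (iv6 D220173)) (tt N120769 (iv7 F522616)))
theorem Q116916 : ∀ i, i < 116916 → P i := stepQ 116915 Q116915 (allL N116915 (tt N94703 F502479) (tt N90904 (iv0 F502480)) (tt N116792 F502474) (tt N95689 F502475) (tt N90113 F502476) (tt N90951 F502477) (tt N90112 (iv6 D220174)) (tt N105159 F502478))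
theorem Q116917 : ∀ i, i < 116917 → P i := stepQ 116916 Q116916 (allL N116916 (tt N90127 F502483) (tt N116767 (iv0 F502484)) (tt N116765 F502481) (tt N118673 (iv3 F511464)) (tt N90123 (iv4 D220175)) (tt N122473 (iv5 F532329)) (tt N118337 F509781) (tt N111046 F502482))
theorem Q116918 : ∀ i, i < 116918 → P i := stepQ 116917 Q116917 (allL N116917 (tt N114527 F502489) (tt N121259 (iv0 F525428)) (tt N116766 F502485) (tt N113901 F502486) (tt N90754 F502488) (tt N90127 (iv5 D220176)) (tt N108213 F502487) (tt N120351 (iv7 F520328)))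
theorem Q116919 : ∀ i, i < 116919 → P i := stepQ 116918 Q116918 (allL N116918 (tt N116765 (iv1 F502493)) (tt N111046 F502494) (tt N116767 F502490) (tt N118703 (iv3 F511628)) (tt N116404 F502491) (tt N120351 (iv5 F520327)) (tt N116770 F502492) (tt N90127 (iv7 D220177)))
theorem Q116920 : ∀ i, i < 116920 → P i := stepQ 116919 Q116919 (allL N116919 (tt N118640 F511292) (tt N118673 F511467) (tt N94637 F502495) (tt N117555 F505673) (tt N104735 F502496) (tt N118919 F512746) (tt N90130 (iv6 D220178)) (tt N118672 (iv7 F511460)))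
theorem Q116921 : ∀ i, i < 116921 → P i := stepQ 116920 Q116920 (allL N116920 (tt N114325 F502501) (tt N114329 F502502) (tt N114328 F502497) (tt N105485 F502498) (tt N90133 (iv4 D220179)) (tt N122138 (iv5 F530385)) (tt N105484 F502499) (tt N111973 F502500))
theorem Q116922 : ∀ i, i < 116922 → P i := stepQ 116921 Q116921 (allL N116921 (tt N114895 (iv1 F502507)) (tt N114897 F502506) (tt N117207 (iv2 F503909)) (tt N90135 F502503) (tt N114719 F502505) (tt N90133 (iv5 D220180)) (tt N116113 F502504) (tt N117205 (iv7 F503900)))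
theorem Q116923 : ∀ i, i < 116923 → P i := stepQ 116922 Q116922 (allL N116922 (tt N90157 F502512) (tt N112001 (iv0 F502513)) (tt N118750 (iv2 F511877)) (tt N90136 (iv3 D220181)) (tt N103734 F502508) (tt N103171 F502509) (tt N104665 F502510) (tt N103733 F502511))
theorem Q116924 : ∀ i, i < 116924 → P i := stepQ 116923 Q116923 (allL N116923 (tt N113317 (iv1 F502517)) (tt N90142 (iv0 D220182)) (tt N116787 (iv2 F502516)) (tt N117396 (iv3 F504818)) (tt N117400 (iv4 F504841)) (tt N114316 F502514) (tt N110372 F502515) (tt N112319 F502518))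
theorem Q116925 : ∀ i, i < 116925 → P i := stepQ 116924 Q116924 (allL N116924 (tt N116313 F502522) (tt N100331 (iv0 F502523)) (tt N100016 F502519) (tt N90144 (iv3 D220183)) (tt N119584 (iv4 F516387)) (tt N105160 F502520) (tt N100011 F502524) (tt N116314 F502521))
theorem Q116926 : ∀ i, i < 116926 → P i := stepQ 116925 Q116925 (allL N116925 (tt N101243 F502529) (tt N107264 (iv0 F502530)) (tt N111288 F502525) (tt N100011 F502526) (tt N107049 F502527) (tt N100010 F502528) (tt N90144 (iv6 D220184)) (tt N109402 (iv7 F502531)))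
theorem Q116927 : ∀ i, i < 116927 → P i := stepQ 116926 Q116926 (allL N116926 (tt N120405 (iv1 F520614)) (tt N101251 (iv0 F502535)) (tt N121195 (iv2 F525066)) (tt N114664 F502532) (tt N107053 F502533) (tt N110175 F502534) (tt N90145 (iv6 D220185)) (tt N122058 (iv7 F529908)))
theorem Q116928 : ∀ i, i < 116928 → P i := stepQ 116927 Q116927 (allL N116927 (tt N105704 F502539) (tt N106265 F502540) (tt N114503 F502536) (tt N122441 F532122) (tt N90156 (iv4 D220186)) (tt N116169 F502538) (tt N119076 F513657) (tt N114502 F502537))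
theorem Q116929 : ∀ i, i < 116929 → P i := stepQ 116928 Q116928 (allL N116928 (tt N95132 (iv1 F502545)) (tt N111045 F502546) (tt N90161 F502541) (tt N112005 F502542) (tt N121446 (iv4 F526424)) (tt N95042 F502543) (tt N90158 (iv6 D220187)) (tt N111999 F502544))
theorem Q116930 : ∀ i, i < 116930 → P i := stepQ 116929 Q116929 (allL N116929 (tt N121447 (iv1 F526430)) (tt N121112 (iv0 F524572)) (tt N121446 (iv2 F526426)) (tt N112000 F502547) (tt N90161 F502548) (tt N122535 (iv5 F532704)) (tt N90159 (iv6 D220188)) (tt N112000 F502549))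
theorem Q116931 : ∀ i, i < 116931 → P i := stepQ 116930 Q116930 (allL N116930 (tt N106007 F502554) (tt N90719 F502555) (tt N90222 F502550) (tt N90341 F502551) (tt N117275 (iv4 F504236)) (tt N112928 F502552) (tt N90169 (iv6 D220189)) (tt N106008 F502553))
theorem Q116932 : ∀ i, i < 116932 → P i := stepQ 116931 Q116931 (allL N116931 (tt N118332 (iv1 F509755)) (tt N96159 F502560) (tt N110946 F502556) (tt N118335 (iv3 F509767)) (tt N103521 F502557) (tt N90170 (iv5 D220190)) (tt N103522 F502558) (tt N116785 F502559))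
theorem Q116933 : ∀ i, i < 116933 → P i := stepQ 116932 Q116932 (allL N116932 (tt N121706 (iv1 F527869)) (tt N108459 F502563) (tt N99044 F502561) (tt N99124 F502564) (tt N90174 (iv4 D220191)) (tt N122045 (iv5 F529824)) (tt N99122 (iv6 F502565)) (tt N112691 F502562))
theorem Q116934 : ∀ i, i < 116934 → P i := stepQ 116933 Q116933 (allL N116933 (tt N95949 F502570) (tt N95943 (iv0 F502571)) (tt N95946 F502566) (tt N96144 F502567) (tt N99122 F502568) (tt N105721 F502569) (tt N90174 (iv6 D220192)) (tt N95947 F502572))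
theorem Q116935 : ∀ i, i < 116935 → P i := stepQ 116934 Q116934 (allL N116934 (tt N108459 F502577) (tt N121706 (iv0 F527870)) (tt N112691 F502573) (tt N98779 F502574) (tt N90176 (iv4 D220193)) (tt N121967 (iv5 F529355)) (tt N110925 F502575) (tt N99044 F502576))
theorem Q116936 : ∀ i, i < 116936 → P i := stepQ 116935 Q116935 (allL N116935 (tt N116579 F502582) (tt N121531 F526888) (tt N110805 F502578) (tt N98840 F502579) (tt N112286 F502580) (tt N90180 (iv5 D220194)) (tt N107527 (iv6 F502583)) (tt N99270 F502581))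
theorem Q116937 : ∀ i, i < 116937 → P i := stepQ 116936 Q116936 (allL N116936 (tt N113515 F502587) (tt N120221 F519674) (tt N109970 F502585) (tt N120228 (iv3 F519705)) (tt N110521 F502586) (tt N90183 (iv5 D220195)) (tt N110522 (iv6 F502588)) (tt N120219 (iv7 F519664)))
theorem Q116938 : ∀ i, i < 116938 → P i := stepQ 116937 Q116937 (allL N116937 (tt N99086 (iv1 F502594)) (tt N93636 (iv0 F502592)) (tt N99072 F502589) (tt N93301 F502590) (tt N90184 F502591) (tt N102638 F502593) (tt N90183 (iv6 D220196)) (tt N99085 F502595))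
theorem Q116939 : ∀ i, i < 116939 → P i := stepQ 116938 Q116938 (allL N116938 (tt N111299 F502599) (tt N110144 F502600) (tt N115178 F502596) (tt N90187 F502597) (tt N121437 (iv4 F526370)) (tt N90185 (iv5 D220197)) (tt N118447 (iv6 F510411)) (tt N112931 F502598))
theorem Q116940 : ∀ i, i < 116940 → P i := stepQ 116939 Q116939 (allL N116939 (tt N115129 F502603) (tt N119966 (iv0 F518302)) (tt N112930 F502601) (tt N118447 (iv3 F510409)) (tt N118524 (iv4 F510798)) (tt N90186 (iv5 D220198)) (tt N90187 F502602) (tt N121090 (iv7 F524467)))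
theorem Q116941 : ∀ i, i < 116941 → P i := stepQ 116940 Q116940 (allL N116940 (tt N121553 (iv1 F527011)) (tt N121558 F527039) (tt N112929 F502604) (tt N118587 (iv3 F511024)) (tt N90187 (iv4 D220199)) (tt N110575 F502606) (tt N118524 F510797) (tt N112932 F502605))
theorem Q116942 : ∀ i, i < 116942 → P i := stepQ 116941 Q116941 (allL N116941 (tt N93498 F502611) (tt N93506 (iv0 F502612)) (tt N93504 F502607) (tt N90188 (iv3 D220200)) (tt N103158 F502608) (tt N110730 (iv5 F502613)) (tt N112002 F502609) (tt N93503 F502610))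
theorem Q116943 : ∀ i, i < 116943 → P i := stepQ 116942 Q116942 (allL N116942 (tt N116625 F502619) (tt N116623 F502620) (tt N100477 F502616) (tt N110730 F502617) (tt N122414 (iv4 F531965)) (tt N90188 (iv5 D220201)) (tt N98937 F502618) (tt N122023 (iv7 F529695)))
theorem Q116944 : ∀ i, i < 116944 → P i := stepQ 116943 Q116943 (allL N116943 (tt N116623 F502623) (tt N116625 F502624) (tt N122023 (iv2 F529698)) (tt N92591 F502621) (tt N122432 (iv4 F532066)) (tt N90189 (iv5 D220202)) (tt N122007 (iv6 F529602)) (tt N100477 F502622))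
theorem Q116945 : ∀ i, i < 116945 → P i := stepQ 116944 Q116944 (allL N116944 (tt N116542 F502630) (tt N112671 (iv0 F502628)) (tt N106917 F502625) (tt N92590 F502626) (tt N90190 F502627) (tt N119894 (iv5 F517900)) (tt N90189 (iv6 D220203)) (tt N109930 (iv7 F502629)))
theorem Q116946 : ∀ i, i < 116946 → P i := stepQ 116945 Q116945 (allL N116945 (tt N110793 F502635) (tt N116672 F502636) (tt N116392 F502631) (tt N110768 F502632) (tt N113463 F502633) (tt N90191 (iv5 D220204)) (tt N121370 F526002) (tt N116664 F502634))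
theorem Q116947 : ∀ i, i < 116947 → P i := stepQ 116946 Q116946 (allL N116946 (tt N100412 (iv1 F502641)) (tt N94218 (iv0 F502640)) (tt N110797 F502637) (tt N110646 F502638) (tt N116391 F502639) (tt N122569 D225828) (tt N90191 (iv6 D220205)) (tt N110798 (iv7 F502642)))
theorem Q116948 : ∀ i, i < 116948 → P i := stepQ 116947 Q116947 (allL N116947 (tt N98880 F502646) (tt N100513 F502647) (tt N99269 F502643) (tt N90193 F502644) (tt N91167 F502645) (tt N90192 (iv5 D220206)) (tt N120338 F520260) (tt N119898 (iv7 F517926)))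
theorem Q116949 : ∀ i, i < 116949 → P i := stepQ 116948 Q116948 (allL N116948 (tt N90193 (iv1 D220207)) (tt N107549 F502648) (tt N114616 (iv2 F502652)) (tt N121836 F528611) (tt N110399 F502651) (tt N110626 F502650) (tt N110398 (iv6 F502653)) (tt N114636 F502649))
theorem Q116950 : ∀ i, i < 116950 → P i := stepQ 116949 Q116949 (allL N116949 (tt N110521 F502658) (tt N120222 (iv0 F519678)) (tt N114623 F502654) (tt N91168 F502655) (tt N90193 (iv4 D220208)) (tt N114304 F502656) (tt N117134 (iv6 F503562)) (tt N114406 F502657))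
theorem Q116951 : ∀ i, i < 116951 → P i := stepQ 116950 Q116950 (allL N116950 (tt N122014 (iv1 F529644)) (tt N121880 (iv0 F528875)) (tt N121584 (iv2 F527160)) (tt N120338 (iv3 F520262)) (tt N117134 F503563) (tt N107527 F502659) (tt N90193 (iv6 D220209)) (tt N107548 F502660))
theorem Q116952 : ∀ i, i < 116952 → P i := stepQ 116951 Q116951 (allL N116951 (tt N90196 (iv1 D220210)) (tt N102264 F502661) (tt N109240 F502666) (tt N112194 F502667) (tt N91719 F502663) (tt N102256 F502664) (tt N109256 (iv6 F502665)) (tt N111608 F502662))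
theorem Q116953 : ∀ i, i < 116953 → P i := stepQ 116952 Q116952 (allL N116952 (tt N107750 F502671) (tt N107752 (iv0 F502672)) (tt N90254 F502668) (tt N94996 F502669) (tt N90203 F502670) (tt N118804 (iv5 F512160)) (tt N90202 (iv6 D220211)) (tt N118830 (iv7 F512301)))
theorem Q116954 : ∀ i, i < 116954 → P i := stepQ 116953 Q116953 (allL N116953 (tt N90256 (iv1 F502677)) (tt N90255 F502678) (tt N90258 F502673) (tt N101647 F502674) (tt N118830 (iv4 F512299)) (tt N105180 F502675) (tt N90265 F502676) (tt N90203 (iv7 D220212)))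
theorem Q116955 : ∀ i, i < 116955 → P i := stepQ 116954 Q116954 (allL N116954 (tt N116414 (iv1 F502685)) (tt N90301 (iv0 F502683)) (tt N90262 F502679) (tt N112297 F502680) (tt N90205 F502681) (tt N91608 F502682) (tt N90204 (iv6 D220213)) (tt N116825 (iv7 F502684)))
theorem Q116956 : ∀ i, i < 116956 → P i := stepQ 116955 Q116955 (allL N116955 (tt N116840 F502691) (tt N116844 (iv0 F502692)) (tt N107675 F502686) (tt N90206 (iv3 D220214)) (tt N93585 F502687) (tt N94646 F502688) (tt N101528 F502689) (tt N90275 F502690))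
theorem Q116957 : ∀ i, i < 116957 → P i := stepQ 116956 Q116956 (allL N116956 (tt N121153 (iv1 F524818)) (tt N110634 (iv0 F502696)) (tt N90313 F502693) (tt N118511 (iv3 F510756)) (tt N90930 F502694) (tt N100632 F502695) (tt N90209 (iv6 D220215)) (tt N121147 (iv7 F524780)))
theorem Q116958 : ∀ i, i < 116958 → P i := stepQ 116957 Q116957 (allL N116957 (tt N109823 F502699) (tt N101617 F502700) (tt N116547 F502697) (tt N122504 (iv3 F532523)) (tt N121862 (iv4 F528770)) (tt N90210 (iv5 D220216)) (tt N122570 D225829) (tt N90315 F502698))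
theorem Q116959 : ∀ i, i < 116959 → P i := stepQ 116958 Q116958 (allL N116958 (tt N90304 (iv1 F502706)) (tt N90214 (iv0 D220217)) (tt N90303 (iv2 F502705)) (tt N108153 F502703) (tt N107704 F502702) (tt N112105 F502701) (tt N107713 F502704) (tt N90302 F502707))
theorem Q116960 : ∀ i, i < 116960 → P i := stepQ 116959 Q116959 (allL N116959 (tt N90925 F502710) (tt N90919 F502711) (tt N116546 F502708) (tt N121970 (iv3 F529372)) (tt N122156 (iv4 F530475)) (tt N90215 (iv5 D220218)) (tt N121970 (iv6 F529373)) (tt N90343 F502709))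
theorem Q116961 : ∀ i, i < 116961 → P i := stepQ 116960 Q116960 (allL N116960 (tt N90335 (iv1 F502715)) (tt N90218 (iv0 D220219)) (tt N90332 (iv2 F502714)) (tt N118650 (iv3 F511342)) (tt N101907 F502713) (tt N105989 F502712) (tt N120071 (iv6 F518892)) (tt N90333 F502716))
theorem Q116962 : ∀ i, i < 116962 → P i := stepQ 116961 Q116961 (allL N116961 (tt N110940 F502719) (tt N96015 (iv0 F502720)) (tt N110939 F502721) (tt N90221 (iv3 D220220)) (tt N90223 F502717) (tt N118337 (iv5 F509776)) (tt N118187 F509051) (tt N90321 F502718))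
theorem Q116963 : ∀ i, i < 116963 → P i := stepQ 116962 Q116962 (allL N116962 (tt N90952 F502724) (tt N105378 F502725) (tt N117274 (iv2 F504228)) (tt N118337 (iv3 F509778)) (tt N114410 F502723) (tt N90221 (iv5 D220221)) (tt N118673 (iv6 F511465)) (tt N90322 F502722))
theorem Q116964 : ∀ i, i < 116964 → P i := stepQ 116963 Q116963 (allL N116963 (tt N96057 F502727) (tt N122571 D225830) (tt N117275 (iv2 F504234)) (tt N118187 (iv3 F509047)) (tt N90222 F502726) (tt N122474 (iv5 F532337)) (tt N90221 (iv6 D220222)) (tt N118252 (iv7 F509380)))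
theorem Q116965 : ∀ i, i < 116965 → P i := stepQ 116964 Q116964 (allL N116964 (tt N90222 (iv1 D220223)) (tt N106008 F502728) (tt N90719 (iv2 F502730)) (tt N106207 (iv3 F502731)) (tt N118382 (iv4 F510053)) (tt N122572 D225831) (tt N106520 (iv6 F502732)) (tt N106007 F502729))
theorem Q116966 : ∀ i, i < 116966 → P i := stepQ 116965 Q116965 (allL N116965 (tt N90719 (iv1 F502737)) (tt N106007 F502738) (tt N106008 F502733) (tt N90226 F502734) (tt N118252 (iv4 F509378)) (tt N112940 F502735) (tt N90325 F502736) (tt N90222 (iv7 D220224)))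
theorem Q116967 : ∀ i, i < 116967 → P i := stepQ 116966 Q116966 (allL N116966 (tt N90328 (iv1 F502742)) (tt N90223 (iv0 D220225)) (tt N90327 (iv2 F502741)) (tt N118285 (iv3 F509516)) (tt N95157 F502740) (tt N115678 F502739) (tt N95166 (iv6 F502744)) (tt N90326 F502743))
theorem Q116968 : ∀ i, i < 116968 → P i := stepQ 116967 Q116967 (allL N116967 (tt N90327 (iv1 F502749)) (tt N90326 F502748) (tt N90223 (iv2 D220226)) (tt N90350 F502745) (tt N110939 F502746) (tt N121654 (iv5 F527562)) (tt N118255 (iv6 F509388)) (tt N90328 F502747))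
theorem Q116969 : ∀ i, i < 116969 → P i := stepQ 116968 Q116968 (allL N116968 (tt N117642 (iv1 F506170)) (tt N112808 (iv0 F502753)) (tt N118255 (iv2 F509387)) (tt N90224 F502750) (tt N118187 (iv4 F509046)) (tt N112242 F502752) (tt N90223 (iv6 D220227)) (tt N116772 F502751))
theorem Q116970 : ∀ i, i < 116970 → P i := stepQ 116969 Q116969 (allL N116969 (tt N105180 F502759) (tt N90257 F502758) (tt N90355 F502754) (tt N119949 (iv3 F518196)) (tt N114970 F502757) (tt N90225 (iv5 D220228)) (tt N105179 F502755) (tt N90357 F502756))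
theorem Q116971 : ∀ i, i < 116971 → P i := stepQ 116970 Q116970 (allL N116970 (tt N101446 F502765) (tt N90312 (iv0 F502766)) (tt N106581 F502760) (tt N90229 (iv3 D220229)) (tt N98979 F502764) (tt N107331 F502761) (tt N96246 F502762) (tt N90389 F502763))
theorem Q116972 : ∀ i, i < 116972 → P i := stepQ 116971 Q116971 (allL N116971 (tt N117330 F504490) (tt N121662 (iv0 F527612)) (tt N111378 F502767) (tt N93816 F502768) (tt N90246 F502769) (tt N111404 F502770) (tt N90245 (iv6 D220230)) (tt N122174 (iv7 F530588)))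
theorem Q116973 : ∀ i, i < 116973 → P i := stepQ 116972 Q116972 (allL N116972 (tt N90246 (iv1 D220231)) (tt N121248 F525359) (tt N119828 (iv2 F517582)) (tt N108382 F502773) (tt N112102 (iv4 F502772)) (tt N121271 (iv5 F525497)) (tt N119827 F517581) (tt N108377 F502771))
theorem Q116974 : ∀ i, i < 116974 → P i := stepQ 116973 Q116973 (allL N116973 (tt N106009 F502777) (tt N122572 (iv0 F532920)) (tt N112796 F502774) (tt N90257 F502775) (tt N119317 (iv4 F514983)) (tt N90246 (iv5 D220232)) (tt N90249 F502776) (tt N122458 (iv7 F532238)))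
theorem Q116975 : ∀ i, i < 116975 → P i := stepQ 116974 Q116974 (allL N116974 (tt N119828 (iv1 F517588)) (tt N108377 F517589) (tt N121248 F525358) (tt N90258 F502778) (tt N122174 (iv4 F530585)) (tt N122458 (iv5 F532237)) (tt N121249 (iv6 F525368)) (tt N90246 (iv7 D220233)))
theorem Q116976 : ∀ i, i < 116976 → P i := stepQ 116975 Q116975 (allL N116975 (tt N112813 F502781) (tt N118814 F512216) (tt N118804 (iv2 F512158)) (tt N112233 F502779) (tt N103252 F502780) (tt N90254 (iv5 D220234)) (tt N119947 (iv6 F518187)) (tt N118810 (iv7 F512191)))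
theorem Q116977 : ∀ i, i < 116977 → P i := stepQ 116976 Q116976 (allL N116976 (tt N107752 (iv1 F502785)) (tt N107750 F502786) (tt N118830 (iv2 F512297)) (tt N115827 F502782) (tt N90258 F502783) (tt N118810 (iv5 F512188)) (tt N116825 F502784) (tt N90254 (iv7 D220235)))
theorem Q116978 : ∀ i, i < 116978 → P i := stepQ 116977 Q116977 (allL N116977 (tt N107098 F502791) (tt N111829 (iv0 F502792)) (tt N100794 F502787) (tt N110477 F502788) (tt N90256 (iv4 D220236)) (tt N117035 (iv5 F503066)) (tt N109356 F502789) (tt N106938 F502790))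
theorem Q116979 : ∀ i, i < 116979 → P i := stepQ 116978 Q116978 (allL N116978 (tt N98431 F502794) (tt N121561 F527049) (tt N121499 (iv2 F526706)) (tt N90259 (iv3 D220237)) (tt N121785 (iv4 F528302)) (tt N121745 (iv5 F528067)) (tt N117685 (iv6 F506411)) (tt N110174 F502793))
theorem Q116980 : ∀ i, i < 116980 → P i := stepQ 116979 Q116979 (allL N116979 (tt N117288 F504303) (tt N107494 (iv0 F502798)) (tt N101654 F502795) (tt N119297 (iv3 F514899)) (tt N90261 F502796) (tt N107960 F502797) (tt N90260 (iv6 D220238)) (tt N107287 (iv7 F502799)))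
theorem Q116981 : ∀ i, i < 116981 → P i := stepQ 116980 Q116980 (allL N116980 (tt N116825 (iv1 F502804)) (tt N90262 (iv0 D220239)) (tt N116414 (iv2 F502801)) (tt N111533 F502802) (tt N115947 F502800) (tt N119084 (iv5 F513704)) (tt N117601 (iv6 F505941)) (tt N90301 F502803))
theorem Q116982 : ∀ i, i < 116982 → P i := stepQ 116981 Q116981 (allL N116981 (tt N90301 (iv1 F502809)) (tt N116414 F502810) (tt N116825 F502805) (tt N108188 F502806) (tt N90265 F502807) (tt N91607 F502808) (tt N118830 (iv6 F512300)) (tt N90262 (iv7 D220240)))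
theorem Q116983 : ∀ i, i < 116983 → P i := stepQ 116982 Q116982 (allL N116982 (tt N101651 (iv1 F502815)) (tt N90268 (iv0 D220241)) (tt N111376 (iv2 F502814)) (tt N91605 F502813) (tt N113746 F502812) (tt N101660 F502811) (tt N91604 (iv6 F502817)) (tt N111377 F502816))
theorem Q116984 : ∀ i, i < 116984 → P i := stepQ 116983 Q116983 (allL N116983 (tt N114751 F502823) (tt N114760 F502824) (tt N114759 F502818) (tt N98498 F502819) (tt N92742 F502822) (tt N90272 (iv5 D220242)) (tt N92825 F502820) (tt N105477 F502821))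
theorem Q116985 : ∀ i, i < 116985 → P i := stepQ 116984 Q116984 (allL N116984 (tt N116844 (iv1 F502830)) (tt N116840 F502829) (tt N90275 (iv2 D220243)) (tt N107495 F502825) (tt N93586 F502826) (tt N94645 F502827) (tt N107509 (iv6 F502831)) (tt N107675 F502828))
theorem Q116986 : ∀ i, i < 116986 → P i := stepQ 116985 Q116985 (allL N116985 (tt N118591 (iv1 F511049)) (tt N105433 (iv0 F502835)) (tt N107509 F502832) (tt N90277 F502833) (tt N120717 (iv4 F522318)) (tt N106759 F502834) (tt N90275 (iv6 D220244)) (tt N118589 (iv7 F511031)))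
theorem Q116987 : ∀ i, i < 116987 → P i := stepQ 116986 Q116986 (allL N116986 (tt N93734 (iv1 F502839)) (tt N93731 F502840) (tt N93733 F502836) (tt N118589 F511034) (tt N109296 F502837) (tt N94422 F502838) (tt N118712 F511694) (tt N90277 (iv7 D220245)))
theorem Q116988 : ∀ i, i < 116988 → P i := stepQ 116987 Q116987 (allL N116987 (tt N90281 (iv1 F502846)) (tt N90280 F502845) (tt N90278 (iv2 D220246)) (tt N116845 F502841) (tt N97170 F502842) (tt N108475 F502843) (tt N119056 (iv6 F513539)) (tt N90279 F502844))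
theorem Q116989 : ∀ i, i < 116989 → P i := stepQ 116988 Q116988 (allL N116988 (tt N107831 F502847) (tt N117271 (iv0 F504215)) (tt N118040 (iv2 F508238)) (tt N118328 (iv3 F509726)) (tt N121030 (iv4 F524109)) (tt N90287 (iv5 D220247)) (tt N107801 F502848) (tt N118333 (iv7 F509759)))
theorem Q116990 : ∀ i, i < 116990 → P i := stepQ 116989 Q116989 (allL N116989 (tt N96169 (iv1 F502854)) (tt N112100 (iv0 F502853)) (tt N108956 F502849) (tt N109591 F502850) (tt N90288 F502851) (tt N107802 F502852) (tt N90287 (iv6 D220248)) (tt N121797 (iv7 F528379)))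
theorem Q116991 : ∀ i, i < 116991 → P i := stepQ 116990 Q116990 (allL N116990 (tt N90288 (iv1 D220249)) (tt N121215 (iv0 F525178)) (tt N121249 (iv2 F525367)) (tt N96244 (iv3 F502857)) (tt N122561 (iv4 F532858)) (tt N96243 F502856) (tt N121248 (iv6 F525357)) (tt N101653 F502855))
theorem Q116992 : ∀ i, i < 116992 → P i := stepQ 116991 Q116991 (allL N116991 (tt N121249 (iv1 F525362)) (tt N101653 (iv0 F510458)) (tt N121215 (iv2 F525173)) (tt N118454 (iv3 F510452)) (tt N121797 (iv4 F528376)) (tt N121243 (iv5 F525327)) (tt N121214 F525172) (tt N90288 (iv7 D220250)))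
theorem Q116993 : ∀ i, i < 116993 → P i := stepQ 116992 Q116992 (allL N116992 (tt N116605 F502863) (tt N122561 F532863) (tt N116492 F502858) (tt N92385 F502859) (tt N116490 F502860) (tt N92384 F502861) (tt N90289 (iv6 D220251)) (tt N107874 (iv7 F502862)))
theorem Q116994 : ∀ i, i < 116994 → P i := stepQ 116993 Q116993 (allL N116993 (tt N94614 (iv1 F502868)) (tt N90293 (iv0 D220252)) (tt N94616 (iv2 F502867)) (tt N96507 (iv3 F502870)) (tt N91743 F502865) (tt N96315 F502864) (tt N109355 F502866) (tt N94611 F502869))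
theorem Q116995 : ∀ i, i < 116995 → P i := stepQ 116994 Q116994 (allL N116994 (tt N110904 (iv1 F502876)) (tt N107782 F502875) (tt N115352 F502871) (tt N108238 F502872) (tt N111865 F502873) (tt N90293 (iv5 D220253)) (tt N96330 F502874) (tt N118786 (iv7 F512064)))
theorem Q116996 : ∀ i, i < 116996 → P i := stepQ 116995 Q116995 (allL N116995 (tt N108133 F502879) (tt N108152 (iv0 F502880)) (tt N108137 F502877) (tt N90302 (iv3 D220254)) (tt N117606 F505968) (tt N120559 (iv5 F521454)) (tt N120551 (iv6 F521409)) (tt N108153 F502878))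
theorem Q116997 : ∀ i, i < 116997 → P i := stepQ 116996 Q116996 (allL N116996 (tt N112308 F502885) (tt N112307 F502884) (tt N108159 F502881) (tt N120559 (iv3 F521453)) (tt N122060 (iv4 F529920)) (tt N90302 (iv5 D220255)) (tt N100554 F502882) (tt N112105 F502883))
theorem Q116998 : ∀ i, i < 116998 → P i := stepQ 116997 Q116997 (allL N116997 (tt N93770 F502890) (tt N93769 (iv0 F502891)) (tt N90305 F502886) (tt N99477 F502887) (tt N93670 F502888) (tt N118033 (iv5 F508201)) (tt N90304 (iv6 D220256)) (tt N93756 F502889))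
theorem Q116999 : ∀ i, i < 116999 → P i := stepQ 116998 Q116998 (allL N116998 (tt N93756 (iv1 F502894)) (tt N90305 (iv0 D220257)) (tt N93770 (iv2 F502893)) (tt N106763 F502897) (tt N118033 (iv4 F508203)) (tt N106762 F502892) (tt N115829 (iv6 F502896)) (tt N93769 F502895))
theorem Q117000 : ∀ i, i < 117000 → P i := stepQ 116999 Q116999 (allL N116999 (tt N90312 (iv1 D220258)) (tt N101446 F502898) (tt N90389 F502903) (tt N106004 F502904) (tt N98856 (iv4 F502900)) (tt N105314 (iv5 F502901)) (tt N98855 (iv6 F502902)) (tt N106581 F502899))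
theorem Q117001 : ∀ i, i < 117001 → P i := stepQ 117000 Q117000 (allL N117000 (tt N90313 (iv1 D220259)) (tt N121147 (iv0 F524781)) (tt N110634 F502908) (tt N101916 (iv3 F502909)) (tt N110632 (iv4 F502905)) (tt N105467 (iv5 F502907)) (tt N101412 (iv6 F502906)) (tt N121153 (iv7 F524817)))
theorem Q117002 : ∀ i, i < 117002 → P i := stepQ 117001 Q117001 (allL N117001 (tt N108181 (iv1 F502912)) (tt N90314 (iv0 D220260)) (tt N119909 (iv2 F517982)) (tt N116580 F502911) (tt N116588 F502910) (tt N122573 D225832) (tt N116578 (iv6 F502913)) (tt N119701 (iv7 F516993)))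
theorem Q117003 : ∀ i, i < 117003 → P i := stepQ 117002 Q117002 (allL N117002 (tt N119909 F517986) (tt N119701 F516995) (tt N90314 (iv2 D220261)) (tt N93780 F502914) (tt N90316 F502915) (tt N122570 (iv5 F532906)) (tt N93778 F502916) (tt N108181 F502917))
theorem Q117004 : ∀ i, i < 117004 → P i := stepQ 117003 Q117003 (allL N117003 (tt N122574 D225833) (tt N122012 (iv0 F529631)) (tt N122570 (iv2 F532903)) (tt N90315 F502919) (tt N110688 F502921) (tt N90314 (iv5 D220262)) (tt N116547 F502920) (tt N122504 (iv7 F532525)))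
theorem Q117005 : ∀ i, i < 117005 → P i := stepQ 117004 Q117004 (allL N117004 (tt N109522 F502927) (tt N109521 (iv0 F502925)) (tt N109519 F502923) (tt N116547 F502924) (tt N119788 (iv4 F517423)) (tt N117282 (iv5 F504272)) (tt N90315 (iv6 D220263)) (tt N109520 (iv7 F502926)))
theorem Q117006 : ∀ i, i < 117006 → P i := stepQ 117005 Q117005 (allL N117005 (tt N110932 F502929) (tt N111375 F502932) (tt N118969 F513035) (tt N90318 (iv3 D220264)) (tt N116545 F502928) (tt N95133 (iv5 F502930)) (tt N95283 (iv6 F502931)) (tt N117273 (iv7 F504223)))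
theorem Q117007 : ∀ i, i < 117007 → P i := stepQ 117006 Q117006 (allL N117006 (tt N105378 F502936) (tt N90952 F502937) (tt N90322 F502933) (tt N95133 F502934) (tt N114375 F502935) (tt N90318 (iv5 D220265)) (tt N95132 F502938) (tt N117274 (iv7 F504231)))
theorem Q117008 : ∀ i, i < 117008 → P i := stepQ 117007 Q117007 (allL N117007 (tt N118977 (iv1 F513084)) (tt N96007 (iv0 F502943)) (tt N90323 F502939) (tt N95283 F502940) (tt N90319 F502941) (tt N96480 F502942) (tt N90318 (iv6 D220266)) (tt N106170 (iv7 F502944)))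
theorem Q117009 : ∀ i, i < 117009 → P i := stepQ 117008 Q117008 (allL N117008 (tt N96015 (iv1 F502950)) (tt N110940 F502949) (tt N90321 (iv2 D220267)) (tt N118969 (iv3 F513033)) (tt N90328 F502945) (tt N111044 F502946) (tt N94418 F502947) (tt N110939 F502948))
theorem Q117010 : ∀ i, i < 117010 → P i := stepQ 117009 Q117009 (allL N117009 (tt N90322 (iv1 D220268)) (tt N117274 (iv0 F504232)) (tt N90952 F502955) (tt N105381 (iv3 F502954)) (tt N117343 (iv4 F504564)) (tt N90949 F502953) (tt N118165 (iv6 F508955)) (tt N105378 F502952))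
theorem Q117011 : ∀ i, i < 117011 → P i := stepQ 117010 Q117010 (allL N117010 (tt N90323 (iv1 D220269)) (tt N106170 F502956) (tt N96007 F502959) (tt N95733 (iv3 F502958)) (tt N117272 (iv4 F504219)) (tt N95732 F502957) (tt N118411 (iv6 F510204)) (tt N118977 (iv7 F513082)))
theorem Q117012 : ∀ i, i < 117012 → P i := stepQ 117011 Q117011 (allL N117011 (tt N96007 (iv1 F502964)) (tt N118977 (iv0 F513083)) (tt N106170 F502960) (tt N94417 F502961) (tt N90325 F502962) (tt N112131 F502963) (tt N118252 (iv6 F509379)) (tt N90323 (iv7 D220270)))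
theorem Q117013 : ∀ i, i < 117013 → P i := stepQ 117012 Q117012 (allL N117012 (tt N117593 (iv1 F505892)) (tt N118826 F512279) (tt N116771 F502965) (tt N90331 F502966) (tt N115546 F502967) (tt N116405 F502968) (tt N90329 (iv6 D220271)) (tt N118823 (iv7 F512268)))
theorem Q117014 : ∀ i, i < 117014 → P i := stepQ 117013 Q117013 (allL N117013 (tt N118693 (iv1 F511572)) (tt N107833 F502974) (tt N101240 F502969) (tt N116405 F502970) (tt N101217 F502972) (tt N90331 (iv5 D220272)) (tt N90334 F502971) (tt N101244 F502973))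
theorem Q117015 : ∀ i, i < 117015 → P i := stepQ 117014 Q117014 (allL N117014 (tt N114802 (iv1 F502977)) (tt N114801 F502978) (tt N118694 (iv2 F511578)) (tt N118823 (iv3 F512267)) (tt N91387 F502975) (tt N101244 F502976) (tt N119465 (iv6 F515759)) (tt N90331 (iv7 D220273)))
theorem Q117016 : ∀ i, i < 117016 → P i := stepQ 117015 Q117015 (allL N117015 (tt N101642 F502980) (tt N120207 (iv0 F519597)) (tt N122575 D225834) (tt N90340 (iv3 D220274)) (tt N117273 (iv4 F504222)) (tt N122576 D225835) (tt N119290 (iv6 F514863)) (tt N116545 F502979))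
theorem Q117017 : ∀ i, i < 117017 → P i := stepQ 117016 Q117016 (allL N117016 (tt N90919 F502983) (tt N90925 F502984) (tt N90343 F502981) (tt N122576 (iv3 F532938)) (tt N121858 (iv4 F528742)) (tt N90340 (iv5 D220275)) (tt N121857 F528739) (tt N116546 F502982))
theorem Q117018 : ∀ i, i < 117018 → P i := stepQ 117017 Q117017 (allL N117017 (tt N90341 (iv1 D220276)) (tt N90347 F502985) (tt N90346 F502990) (tt N112757 (iv3 F502987)) (tt N110690 (iv4 F502991)) (tt N112756 (iv5 F502988)) (tt N111368 (iv6 F502989)) (tt N90345 F502986))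
theorem Q117019 : ∀ i, i < 117019 → P i := stepQ 117018 Q117018 (allL N117018 (tt N90346 (iv1 F502996)) (tt N90345 F502997) (tt N90347 F502992) (tt N106008 F502993) (tt N112674 F502994) (tt N120445 (iv5 F520818)) (tt N106169 F502995) (tt N90341 (iv7 D220277)))
theorem Q117020 : ∀ i, i < 117020 → P i := stepQ 117019 Q117019 (allL N117019 (tt N118600 F511100) (tt N90342 (iv0 D220278)) (tt N121969 (iv2 F529371)) (tt N118478 F510589) (tt N116853 F502998) (tt N122574 (iv5 F532927)) (tt N108467 (iv6 F502999)) (tt N116851 (iv7 F503000)))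
theorem Q117021 : ∀ i, i < 117021 → P i := stepQ 117020 Q117020 (allL N117020 (tt N121969 (iv1 F529366)) (tt N116851 F503002) (tt N90342 (iv2 D220279)) (tt N122575 (iv3 F532932)) (tt N90350 F503001) (tt N119833 (iv5 F517600)) (tt N118760 (iv6 F511934)) (tt N118600 F511099))
theorem Q117022 : ∀ i, i < 117022 → P i := stepQ 117021 Q117021 (allL N117021 (tt N122577 D225836) (tt N122013 (iv0 F529636)) (tt N119833 (iv2 F517598)) (tt N90343 F503003) (tt N110686 F503004) (tt N90342 (iv5 D220280)) (tt N121513 (iv6 F526786)) (tt N121970 (iv7 F529374)))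
theorem Q117023 : ∀ i, i < 117023 → P i := stepQ 117022 Q117022 (allL N117022 (tt N106626 (iv1 F517487)) (tt N122578 D225837) (tt N121857 (iv2 F528734)) (tt N121513 (iv3 F526785)) (tt N109975 F503005) (tt N121512 (iv5 F526782)) (tt N90343 (iv6 D220281)) (tt N121513 (iv7 F526787)))
theorem Q117024 : ∀ i, i < 117024 → P i := stepQ 117023 Q117023 (allL N117023 (tt N107569 (iv1 F503011)) (tt N106550 (iv0 F503012)) (tt N106035 F503006) (tt N90345 (iv3 D220282)) (tt N112798 F503007) (tt N101482 F503008) (tt N106034 F503009) (tt N112757 F503010))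
theorem Q117025 : ∀ i, i < 117025 → P i := stepQ 117024 Q117024 (allL N117024 (tt N119766 (iv1 F517309)) (tt N119765 F517304) (tt N110690 F503013) (tt N98951 F503014) (tt N90346 (iv4 D220283)) (tt N112545 F503016) (tt N98948 (iv6 F503017)) (tt N106572 F503015))
theorem Q117026 : ∀ i, i < 117026 → P i := stepQ 117025 Q117025 (allL N117025 (tt N111362 F503025) (tt N106523 (iv0 F503023)) (tt N111368 F503018) (tt N90563 F503019) (tt N98948 F503020) (tt N105469 F503022) (tt N90346 (iv6 D220284)) (tt N105468 F503021))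
theorem Q117027 : ∀ i, i < 117027 → P i := stepQ 117026 Q117026 (allL N117026 (tt N118804 F512164) (tt N118810 (iv0 F512189)) (tt N118814 (iv2 F512211)) (tt N101871 F503026) (tt N111679 F503029) (tt N90353 (iv5 D220285)) (tt N96348 F503027) (tt N112813 F503028))
theorem Q117028 : ∀ i, i < 117028 → P i := stepQ 117027 Q117027 (allL N117027 (tt N100825 F503034) (tt N111995 F503033) (tt N111993 F503030) (tt N108676 F503031) (tt N117698 (iv4 F506486)) (tt N90354 (iv5 D220286)) (tt N100827 F503035) (tt N111994 F503032))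
theorem Q117029 : ∀ i, i < 117029 → P i := stepQ 117028 Q117028 (allL N117028 (tt N111995 F503042) (tt N100825 F503041) (tt N111994 F503036) (tt N112807 F503037) (tt N97592 F503040) (tt N90356 (iv5 D220287)) (tt N97597 F503038) (tt N111993 F503039))
theorem Q117030 : ∀ i, i < 117030 → P i := stepQ 117029 Q117029 (allL N117029 (tt N119338 (iv1 F515107)) (tt N90358 (iv0 D220288)) (tt N114806 (iv2 F503045)) (tt N122396 (iv3 F531845)) (tt N91385 F503044) (tt N101249 F503043) (tt N122396 (iv6 F531847)) (tt N101248 (iv7 F503046)))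
theorem Q117031 : ∀ i, i < 117031 → P i := stepQ 117030 Q117030 (allL N117030 (tt N90358 (iv1 D220289)) (tt N119338 (iv0 F515106)) (tt N101248 (iv2 F503050)) (tt N119487 (iv3 F515857)) (tt N91386 F503049) (tt N101219 F503048) (tt N122505 (iv6 F532529)) (tt N114806 F503047))
theorem Q117032 : ∀ i, i < 117032 → P i := stepQ 117031 Q117031 (allL N117031 (tt N101604 F503055) (tt N94992 (iv0 F503056)) (tt N116853 F503051) (tt N90359 (iv3 D220290)) (tt N121969 (iv4 F529368)) (tt N110854 F503052) (tt N107676 F503053) (tt N116848 F503054))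
theorem Q117033 : ∀ i, i < 117033 → P i := stepQ 117032 Q117032 (allL N117032 (tt N117184 (iv1 F503808)) (tt N117879 (iv0 F507398)) (tt N119266 (iv2 F514712)) (tt N112800 F503057) (tt N99676 F503059) (tt N90361 (iv5 D220291)) (tt N92466 F503058) (tt N120739 (iv7 F522445)))
theorem Q117034 : ∀ i, i < 117034 → P i := stepQ 117033 Q117033 (allL N117033 (tt N90362 (iv1 D220292)) (tt N101589 F503060) (tt N101590 F503063) (tt N122457 (iv3 F532229)) (tt N122127 (iv4 F530331)) (tt N105359 (iv5 F503062)) (tt N122069 (iv6 F529977)) (tt N101580 F503061))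
theorem Q117035 : ∀ i, i < 117035 → P i := stepQ 117034 Q117034 (allL N117034 (tt N122579 D225838) (tt N121721 (iv0 F527948)) (tt N121674 (iv2 F527664)) (tt N91762 F503064) (tt N90362 (iv4 D220293)) (tt N118883 (iv5 F512567)) (tt N111453 F503065) (tt N121410 (iv7 F526207)))
theorem Q117036 : ∀ i, i < 117036 → P i := stepQ 117035 Q117035 (allL N117035 (tt N96953 (iv1 F503071)) (tt N90365 (iv0 D220294)) (tt N102046 (iv2 F503068)) (tt N118367 (iv3 F509957)) (tt N101973 F503067) (tt N116977 F503066) (tt N101972 F503069) (tt N102895 F503070))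
theorem Q117037 : ∀ i, i < 117037 → P i := stepQ 117036 Q117036 (allL N117036 (tt N102895 (iv1 F503077)) (tt N102046 F503078) (tt N96953 F503072) (tt N91506 F503073) (tt N112475 F503074) (tt N90366 F503075) (tt N94827 F503076) (tt N90365 (iv7 D220295)))
theorem Q117038 : ∀ i, i < 117038 → P i := stepQ 117037 Q117037 (allL N117037 (tt N121752 (iv1 F528112)) (tt N108193 F503080) (tt N117934 (iv2 F507674)) (tt N122387 (iv3 F531795)) (tt N90370 (iv4 D220296)) (tt N111258 F503079) (tt N122386 F531793) (tt N117936 (iv7 F507683)))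
theorem Q117039 : ∀ i, i < 117039 → P i := stepQ 117038 Q117038 (allL N117038 (tt N117717 F506597) (tt N119487 F515859) (tt N119485 (iv2 F515855)) (tt N115543 F503081) (tt N122386 (iv4 F531789)) (tt N117735 F506701) (tt N90370 (iv6 D220297)) (tt N119484 F515852))
theorem Q117040 : ∀ i, i < 117040 → P i := stepQ 117039 Q117039 (allL N117039 (tt N107507 (iv1 F503087)) (tt N90373 (iv0 D220298)) (tt N94508 (iv2 F503086)) (tt N110852 F503084) (tt N110940 F503083) (tt N115956 F503082) (tt N116847 F503085) (tt N110850 F503088))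
theorem Q117041 : ∀ i, i < 117041 → P i := stepQ 117040 Q117040 (allL N117040 (tt N108193 F503090) (tt N121752 (iv0 F528110)) (tt N117936 (iv2 F507682)) (tt N103838 F503091) (tt N90375 (iv4 D220299)) (tt N103837 F503089) (tt N122240 (iv6 F530955)) (tt N117934 (iv7 F507676)))
theorem Q117042 : ∀ i, i < 117042 → P i := stepQ 117041 Q117041 (allL N117041 (tt N108892 F503094) (tt N115944 (iv0 F503095)) (tt N118607 (iv2 F511132)) (tt N100926 F503092) (tt N122240 (iv4 F530956)) (tt N93471 F503093) (tt N90375 (iv6 D220300)) (tt N118606 (iv7 F511130)))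
theorem Q117043 : ∀ i, i < 117043 → P i := stepQ 117042 Q117042 (allL N117042 (tt N122113 (iv1 F530252)) (tt N122114 (iv0 F530257)) (tt N90380 F503096) (tt N105863 F503097) (tt N90377 (iv4 D220301)) (tt N100779 F503098) (tt N90380 F503099) (tt N120663 (iv7 F522034)))
theorem Q117044 : ∀ i, i < 117044 → P i := stepQ 117043 Q117043 (allL N117043 (tt N117939 (iv1 F507698)) (tt N111796 (iv0 F503100)) (tt N117937 F507686) (tt N122120 (iv3 F530287)) (tt N90378 (iv4 D220302)) (tt N117746 (iv5 F506761)) (tt N118612 (iv6 F511156)) (tt N117938 (iv7 F507690)))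
theorem Q117045 : ∀ i, i < 117045 → P i := stepQ 117044 Q117044 (allL N117044 (tt N115956 (iv1 F503106)) (tt N110851 (iv0 F503107)) (tt N93334 F503101) (tt N90379 (iv3 D220303)) (tt N113830 F503104) (tt N93325 F503102) (tt N113834 (iv6 F503105)) (tt N108211 F503103))
theorem Q117046 : ∀ i, i < 117046 → P i := stepQ 117045 Q117045 (allL N117045 (tt N111796 F503109) (tt N117939 F507697) (tt N117938 F507692) (tt N115443 F503108) (tt N90379 (iv4 D220304)) (tt N120837 (iv5 F523002)) (tt N115447 (iv6 F503110)) (tt N117937 F507687))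
theorem Q117047 : ∀ i, i < 117047 → P i := stepQ 117046 Q117046 (allL N117046 (tt N122500 F532503) (tt N108733 (iv0 F503114)) (tt N122032 (iv2 F529751)) (tt N113834 F503111) (tt N115447 F503112) (tt N97829 F503113) (tt N90379 (iv6 D220305)) (tt N118615 (iv7 F511175)))
theorem Q117048 : ∀ i, i < 117048 → P i := stepQ 117047 Q117047 (allL N117047 (tt N120663 (iv1 F522036)) (tt N90380 (iv0 D220306)) (tt N122113 (iv2 F530246)) (tt N119278 (iv3 F514784)) (tt N108189 F503116) (tt N92652 F503115) (tt N118180 (iv6 F509031)) (tt N122114 (iv7 F530256)))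
theorem Q117049 : ∀ i, i < 117049 → P i := stepQ 117048 Q117048 (allL N117048 (tt N90380 (iv1 D220307)) (tt N120663 (iv0 F522035)) (tt N122114 (iv2 F530253)) (tt N122580 D225839) (tt N108125 F503117) (tt N92654 (iv5 F503118)) (tt N122581 D225840) (tt N122113 (iv7 F530249)))
theorem Q117050 : ∀ i, i < 117050 → P i := stepQ 117049 Q117049 (allL N117049 (tt N116852 F503121) (tt N110854 F503122) (tt N119876 (iv2 F517826)) (tt N90381 (iv3 D220308)) (tt N112199 F503119) (tt N108233 F503120) (tt N100749 F503123) (tt N120017 (iv7 F518578)))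
theorem Q117051 : ∀ i, i < 117051 → P i := stepQ 117050 Q117050 (allL N117050 (tt N115575 F503126) (tt N101929 (iv0 F503127)) (tt N119052 (iv2 F513511)) (tt N100749 F503124) (tt N112250 F503125) (tt N117569 (iv5 F505754)) (tt N90381 (iv6 D220309)) (tt N117568 F505750))
theorem Q117052 : ∀ i, i < 117052 → P i := stepQ 117051 Q117051 (allL N117051 (tt N121642 (iv1 F527495)) (tt N115576 (iv0 F503131)) (tt N120018 (iv2 F518582)) (tt N106268 F503128) (tt N108523 F503129) (tt N106267 F503130) (tt N90382 (iv6 D220310)) (tt N117474 (iv7 F505217)))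
theorem Q117053 : ∀ i, i < 117053 → P i := stepQ 117052 Q117052 (allL N117052 (tt N96157 (iv1 F503135)) (tt N108324 F503136) (tt N112373 F503132) (tt N91552 F503133) (tt N90401 F503134) (tt N122219 (iv5 F530847)) (tt N122169 (iv6 F530555)) (tt N90400 (iv7 D220311)))
theorem Q117054 : ∀ i, i < 117054 → P i := stepQ 117053 Q117053 (allL N117053 (tt N90403 (iv1 D220312)) (tt N100819 F503137) (tt N101015 F503143) (tt N90410 (iv3 F503141)) (tt N116210 F503140) (tt N100313 F503139) (tt N114384 (iv6 F503142)) (tt N101014 F503138))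
theorem Q117055 : ∀ i, i < 117055 → P i := stepQ 117054 Q117054 (allL N117054 (tt N108348 F503148) (tt N106889 (iv0 F503149)) (tt N108345 F503144) (tt N114384 F503145) (tt N101004 F503146) (tt N121528 (iv5 F526868)) (tt N90410 (iv6 D220313)) (tt N108346 F503147))
theorem Q117056 : ∀ i, i < 117056 → P i := stepQ 117055 Q117055 (allL N117055 (tt N119981 (iv1 F518373)) (tt N121528 F526870) (tt N121527 (iv2 F526864)) (tt N105177 F503150) (tt N107644 F503151) (tt N90417 (iv5 D220314)) (tt N121343 (iv6 F525868)) (tt N113495 F503152))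
theorem Q117057 : ∀ i, i < 117057 → P i := stepQ 117056 Q117056 (allL N117056 (tt N101499 F503156) (tt N101689 (iv0 F503158)) (tt N94851 F503153) (tt N117985 (iv3 F507919)) (tt N94685 F503155) (tt N90424 (iv5 D220315)) (tt N94684 F503157) (tt N101688 F503154))
theorem Q117058 : ∀ i, i < 117058 → P i := stepQ 117057 Q117057 (allL N117057 (tt N119076 (iv1 F513654)) (tt N114766 (iv0 F503162)) (tt N90441 F503159) (tt N99546 F503160) (tt N117595 (iv4 F505900)) (tt N99545 F503161) (tt N90431 (iv6 D220316)) (tt N119070 (iv7 F513625)))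
theorem Q117059 : ∀ i, i < 117059 → P i := stepQ 117058 Q117058 (allL N117058 (tt N100052 F503165) (tt N100050 F503166) (tt N120130 (iv2 F519216)) (tt N122549 F532787) (tt N90436 (iv4 D220317)) (tt N106501 F503164) (tt N116166 F503163) (tt N120131 (iv7 F519225)))
theorem Q117060 : ∀ i, i < 117060 → P i := stepQ 117059 Q117059 (allL N117059 (tt N107986 F503170) (tt N120174 F519436) (tt N116727 F503167) (tt N90439 F503168) (tt N107979 F503169) (tt N122451 (iv5 F532189)) (tt N90437 (iv6 D220318)) (tt N120173 (iv7 F519425)))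
theorem Q117061 : ∀ i, i < 117061 → P i := stepQ 117060 Q117060 (allL N117060 (tt N119070 F513627) (tt N90441 (iv0 D220319)) (tt N119076 (iv2 F513658)) (tt N90455 (iv3 F503174)) (tt N114504 F503171) (tt N106776 F503173) (tt N114503 F503172) (tt N114766 (iv7 F503175)))
theorem Q117062 : ∀ i, i < 117062 → P i := stepQ 117061 Q117061 (allL N117061 (tt N90441 (iv1 D220320)) (tt N119070 (iv0 F513626)) (tt N114766 F503178) (tt N116813 F503179) (tt N118705 (iv4 F511642)) (tt N106775 (iv5 F503176)) (tt N108292 (iv6 F503177)) (tt N119076 (iv7 F513655)))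
theorem Q117063 : ∀ i, i < 117063 → P i := stepQ 117062 Q117062 (allL N117062 (tt N106362 F503185) (tt N106351 F503186) (tt N106301 F503180) (tt N99417 F503181) (tt N90444 (iv4 D220321)) (tt N112389 F503184) (tt N99415 F503182) (tt N106363 F503183))
theorem Q117064 : ∀ i, i < 117064 → P i := stepQ 117063 Q117063 (allL N117063 (tt N111195 (iv1 F503191)) (tt N90447 (iv0 D220322)) (tt N121133 (iv2 F524689)) (tt N94491 F503189) (tt N100228 F503188) (tt N105106 F503187) (tt N109766 F503190) (tt N107002 F503192))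
theorem Q117065 : ∀ i, i < 117065 → P i := stepQ 117064 Q117064 (allL N117064 (tt N90451 (iv1 D220323)) (tt N113969 F503193) (tt N114736 F503197) (tt N122137 (iv3 F530382)) (tt N122435 (iv4 F532085)) (tt N114768 F503195) (tt N113956 (iv6 F503196)) (tt N113938 F503194))
theorem Q117066 : ∀ i, i < 117066 → P i := stepQ 117065 Q117065 (allL N117065 (tt N122416 (iv1 F531980)) (tt N111952 F503201) (tt N114737 F503198) (tt N116753 (iv3 F503202)) (tt N90451 (iv4 D220324)) (tt N121154 (iv5 F524820)) (tt N90452 F503199) (tt N114740 F503200))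
theorem Q117067 : ∀ i, i < 117067 → P i := stepQ 117066 Q117066 (allL N117066 (tt N114626 F503208) (tt N114423 (iv0 F503209)) (tt N105795 F503204) (tt N120770 (iv3 F522620)) (tt N90454 F503205) (tt N105789 F503206) (tt N90453 (iv6 D220325)) (tt N100232 F503207))
theorem Q117068 : ∀ i, i < 117068 → P i := stepQ 117067 Q117067 (allL N117067 (tt N100535 F503214) (tt N92408 F503215) (tt N90466 F503210) (tt N93692 F503211) (tt N90461 (iv4 D220326)) (tt N116802 F503213) (tt N92333 F503216) (tt N90470 F503212))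
theorem Q117069 : ∀ i, i < 117069 → P i := stepQ 117068 Q117068 (allL N117068 (tt N102704 F503222) (tt N102640 (iv0 F503223)) (tt N90467 F503217) (tt N102758 F503218) (tt N92333 F503219) (tt N102637 F503220) (tt N90461 (iv6 D220327)) (tt N102636 F503221))
theorem Q117070 : ∀ i, i < 117070 → P i := stepQ 117069 Q117069 (allL N117069 (tt N92408 F503227) (tt N100535 F503228) (tt N90470 F503224) (tt N122560 F532854) (tt N90463 (iv4 D220328)) (tt N120467 (iv5 F520931)) (tt N100045 F503225) (tt N90466 F503226))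
theorem Q117071 : ∀ i, i < 117071 → P i := stepQ 117070 Q117070 (allL N117070 (tt N104246 F503233) (tt N107709 F503234) (tt N97037 F503229) (tt N107802 F503235) (tt N90465 (iv4 D220329)) (tt N109591 F503230) (tt N102686 F503231) (tt N115063 F503232))
theorem Q117072 : ∀ i, i < 117072 → P i := stepQ 117071 Q117071 (allL N117071 (tt N116607 F503238) (tt N94375 (iv0 F503239)) (tt N117904 (iv2 F507521)) (tt N90466 (iv3 D220330)) (tt N107802 F503236) (tt N121973 (iv5 F529393)) (tt N107800 F503237) (tt N122560 (iv7 F532851)))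
theorem Q117073 : ∀ i, i < 117073 → P i := stepQ 117072 Q117072 (allL N117072 (tt N108774 F503243) (tt N116198 F503244) (tt N120467 (iv2 F520929)) (tt N112510 F503240) (tt N110998 F503241) (tt N90470 (iv5 D220331)) (tt N92362 F503245) (tt N116802 F503242))
theorem Q117074 : ∀ i, i < 117074 → P i := stepQ 117073 Q117073 (allL N117073 (tt N116596 F503249) (tt N121761 F528158) (tt N117863 (iv2 F507332)) (tt N90471 (iv3 D220332)) (tt N118413 (iv4 F510216)) (tt N94228 F503246) (tt N94229 F503247) (tt N111806 F503248))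
theorem Q117075 : ∀ i, i < 117075 → P i := stepQ 117074 Q117074 (allL N117074 (tt N90475 (iv1 D220333)) (tt N121429 F526321) (tt N102270 F503625) (tt N117892 (iv3 F507466)) (tt N117315 (iv4 F504430)) (tt N117890 (iv5 F507458)) (tt N100086 (iv6 F503624)) (tt N117320 (iv7 F504447)))
theorem Q117076 : ∀ i, i < 117076 → P i := stepQ 117075 Q117075 (allL N117075 (tt N117778 (iv1 F506922)) (tt N113281 (iv0 F503251)) (tt N120160 (iv2 F519348)) (tt N90476 F503250) (tt N107501 F503252) (tt N90475 (iv5 D220334)) (tt N118473 (iv6 F510561)) (tt N121765 (iv7 F528178)))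
theorem Q117077 : ∀ i, i < 117077 → P i := stepQ 117076 Q117076 (allL N117076 (tt N102270 (iv1 F503255)) (tt N117320 (iv0 F504448)) (tt N121429 (iv2 F526316)) (tt N90477 F503253) (tt N90497 F503254) (tt N121765 (iv5 F528179)) (tt N94290 (iv6 F503365)) (tt N90475 (iv7 D220335)))
theorem Q117078 : ∀ i, i < 117078 → P i := stepQ 117077 Q117077 (allL N117077 (tt N112726 F503257) (tt N110540 F503259) (tt N121848 (iv2 F528677)) (tt N94290 (iv3 F503364)) (tt N90478 F503256) (tt N114396 (iv5 F503258)) (tt N90477 (iv6 D220336)) (tt N121430 (iv7 F526327)))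
theorem Q117079 : ∀ i, i < 117079 → P i := stepQ 117078 Q117078 (allL N117078 (tt N106538 F503265) (tt N100253 (iv0 F503266)) (tt N99371 F503260) (tt N90480 (iv3 D220337)) (tt N94234 F503261) (tt N99367 F503262) (tt N90700 F503263) (tt N106039 F503264))
theorem Q117080 : ∀ i, i < 117080 → P i := stepQ 117079 Q117079 (allL N117079 (tt N107956 F503271) (tt N112354 F503272) (tt N99508 F503267) (tt N107962 F503268) (tt N90571 F503269) (tt N90482 (iv5 D220338)) (tt N99507 F503270) (tt N117084 (iv7 F503294)))
theorem Q117081 : ∀ i, i < 117081 → P i := stepQ 117080 Q117080 (allL N117080 (tt N116674 (iv1 F503276)) (tt N90485 (iv0 D220339)) (tt N119068 (iv2 F513614)) (tt N107945 F503275) (tt N93937 F503273) (tt N107944 F503274) (tt N117170 (iv6 F503733)) (tt N119067 F513607))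
theorem Q117082 : ∀ i, i < 117082 → P i := stepQ 117081 Q117081 (allL N117081 (tt N90485 (iv1 D220340)) (tt N116674 F503278) (tt N119067 (iv2 F513608)) (tt N118945 F512898) (tt N107878 F503279) (tt N110754 (iv5 F503280)) (tt N120016 (iv6 F518572)) (tt N119068 (iv7 F513610)))
theorem Q117083 : ∀ i, i < 117083 → P i := stepQ 117082 Q117082 (allL N117082 (tt N109316 F503285) (tt N99410 (iv0 F503286)) (tt N107408 F503281) (tt N116676 F503282) (tt N90599 F503283) (tt N110375 F503284) (tt N90486 (iv6 D220341)) (tt N122582 D225841))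
theorem Q117084 : ∀ i, i < 117084 → P i := stepQ 117083 Q117083 (allL N117083 (tt N111200 F503291) (tt N111198 F503292) (tt N109603 F503287) (tt N120189 (iv3 F519507)) (tt N112348 F503288) (tt N90487 (iv5 D220342)) (tt N110375 F503289) (tt N112347 F503290))
theorem Q117085 : ∀ i, i < 117085 → P i := stepQ 117084 Q117084 (allL N117084 (tt N90489 (iv1 D220343)) (tt N90491 F503293) (tt N110902 F503298) (tt N110298 (iv3 F503297)) (tt N90525 F503296) (tt N90519 F503295) (tt N97296 F503299) (tt N117079 F503294))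
theorem Q117086 : ∀ i, i < 117086 → P i := stepQ 117085 Q117085 (allL N117085 (tt N90490 (iv1 D220344)) (tt N116493 F503303) (tt N116494 (iv2 F503304)) (tt N117316 (iv3 F504432)) (tt N107874 (iv4 F503302)) (tt N116667 F503301) (tt N117303 (iv6 F504371)) (tt N116490 F503300))
theorem Q117087 : ∀ i, i < 117087 → P i := stepQ 117086 Q117086 (allL N117086 (tt N116490 (iv1 F503307)) (tt N116494 F503306) (tt N90490 (iv2 D220345)) (tt N117286 F504290) (tt N119082 (iv4 F513693)) (tt N120527 (iv5 F521266)) (tt N117331 F504494) (tt N116493 F503305))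
theorem Q117088 : ∀ i, i < 117088 → P i := stepQ 117087 Q117087 (allL N117087 (tt N112316 F503311) (tt N99154 F503309) (tt N120527 (iv2 F521264)) (tt N90491 F503308) (tt N112685 (iv4 F503310)) (tt N90490 (iv5 D220346)) (tt N122428 (iv6 F532043)) (tt N121620 (iv7 F527371)))
theorem Q117089 : ∀ i, i < 117089 → P i := stepQ 117088 Q117088 (allL N117088 (tt N113296 F503315) (tt N109686 (iv0 F503316)) (tt N113294 F503312) (tt N122428 (iv3 F532042)) (tt N90588 F503313) (tt N122167 (iv5 F530540)) (tt N90491 (iv6 D220347)) (tt N113295 F503314))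
theorem Q117090 : ∀ i, i < 117090 → P i := stepQ 117089 Q117089 (allL N117089 (tt N90494 (iv1 F503321)) (tt N90493 (iv0 D220348)) (tt N90497 (iv2 F503319)) (tt N107138 F503317) (tt N121429 (iv4 F526318)) (tt N107137 F503318) (tt N107259 (iv6 F503322)) (tt N90495 F503320))
theorem Q117091 : ∀ i, i < 117091 → P i := stepQ 117090 Q117090 (allL N117090 (tt N90497 F503328) (tt N90495 (iv0 F503327)) (tt N90493 (iv2 D220349)) (tt N107277 F503323) (tt N118505 (iv4 F510735)) (tt N96297 F503324) (tt N106834 F503325) (tt N90494 (iv7 F503326)))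
theorem Q117092 : ∀ i, i < 117092 → P i := stepQ 117091 Q117091 (allL N117091 (tt N121616 F527353) (tt N90973 (iv0 F503331)) (tt N118505 (iv2 F510731)) (tt N116595 F503329) (tt N90493 (iv4 D220350)) (tt N118502 (iv5 F510713)) (tt N106958 F503330) (tt N120394 (iv7 F520552)))
theorem Q117093 : ∀ i, i < 117093 → P i := stepQ 117092 Q117092 (allL N117092 (tt N90495 (iv1 F503335)) (tt N90497 F503336) (tt N90494 F503332) (tt N106903 F503333) (tt N120394 (iv4 F520549)) (tt N96298 F503334) (tt N121684 (iv6 F527729)) (tt N90493 (iv7 D220351)))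
theorem Q117094 : ∀ i, i < 117094 → P i := stepQ 117093 Q117093 (allL N117093 (tt N108357 (iv1 F503341)) (tt N107266 (iv0 F503342)) (tt N108243 F503337) (tt N90494 (iv3 D220352)) (tt N107216 F503339) (tt N119951 (iv5 F518210)) (tt N108090 (iv6 F503340)) (tt N107277 F503338))
theorem Q117095 : ∀ i, i < 117095 → P i := stepQ 117094 Q117094 (allL N117094 (tt N90973 F503344) (tt N121616 (iv0 F527352)) (tt N120394 (iv2 F520548)) (tt N92414 F503343) (tt N90494 (iv4 D220353)) (tt N92413 (iv5 F503345)) (tt N100078 (iv6 F503346)) (tt N118505 (iv7 F510734)))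
theorem Q117096 : ∀ i, i < 117096 → P i := stepQ 117095 Q117095 (allL N117095 (tt N100087 F503350) (tt N100059 (iv0 F503352)) (tt N121684 (iv2 F527726)) (tt N108090 F503347) (tt N100078 F503348) (tt N100065 F503351) (tt N90494 (iv6 D220354)) (tt N108436 F503349))
theorem Q117097 : ∀ i, i < 117097 → P i := stepQ 117096 Q117096 (allL N117096 (tt N90496 (iv1 D220355)) (tt N107137 F503353) (tt N107502 F503357) (tt N100258 (iv3 F503355)) (tt N121765 (iv4 F528180)) (tt N100253 (iv5 F503356)) (tt N95008 (iv6 F503358)) (tt N107501 F503354))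
theorem Q117098 : ∀ i, i < 117098 → P i := stepQ 117097 Q117097 (allL N117097 (tt N107256 (iv1 F503369)) (tt N107261 (iv0 F503362)) (tt N107259 F503359) (tt N90500 F503360) (tt N94290 F503363) (tt N120104 (iv5 F519063)) (tt N90497 (iv6 D220356)) (tt N106238 F503361))
theorem Q117099 : ∀ i, i < 117099 → P i := stepQ 117098 Q117098 (allL N117098 (tt N99425 F503375) (tt N106098 (iv0 F503376)) (tt N106037 F503370) (tt N106741 F503371) (tt N90544 F503372) (tt N97930 F503373) (tt N90498 (iv6 D220357)) (tt N107109 F503374))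
theorem Q117100 : ∀ i, i < 117100 → P i := stepQ 117099 Q117099 (allL N117099 (tt N113954 F503380) (tt N112384 F503381) (tt N113952 F503377) (tt N120118 (iv3 F519145)) (tt N116567 F503378) (tt N90507 (iv5 D220358)) (tt N117216 (iv6 F503945)) (tt N113953 F503379))
theorem Q117101 : ∀ i, i < 117101 → P i := stepQ 117100 Q117100 (allL N117100 (tt N112352 F503386) (tt N112351 F503387) (tt N116203 F503382) (tt N91720 F503383) (tt N90530 F503384) (tt N90513 (iv5 D220359)) (tt N113298 (iv6 F503388)) (tt N91717 F503385))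
theorem Q117102 : ∀ i, i < 117102 → P i := stepQ 117101 Q117101 (allL N117101 (tt N106352 F503394) (tt N111846 (iv0 F503395)) (tt N109330 F503389) (tt N91744 F503390) (tt N90514 F503391) (tt N115737 F503392) (tt N90513 (iv6 D220360)) (tt N91740 F503393))
theorem Q117103 : ∀ i, i < 117103 → P i := stepQ 117102 Q117102 (allL N117102 (tt N109821 F503401) (tt N109913 F503402) (tt N104222 F503396) (tt N90522 F503397) (tt N92669 F503400) (tt N90517 (iv5 D220361)) (tt N104595 F503398) (tt N109914 F503399))
theorem Q117104 : ∀ i, i < 117104 → P i := stepQ 117103 Q117103 (allL N117103 (tt N106793 F503406) (tt N94938 (iv0 F503407)) (tt N106792 F503403) (tt N90519 (iv3 D220362)) (tt N120961 (iv4 F523721)) (tt N110298 F503404) (tt N99892 F503408) (tt N106791 F503405))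
theorem Q117105 : ∀ i, i < 117105 → P i := stepQ 117104 Q117104 (allL N117104 (tt N98186 F503413) (tt N98167 (iv0 F503414)) (tt N98184 F503409) (tt N99892 F503410) (tt N90520 F503411) (tt N117604 (iv5 F505957)) (tt N90519 (iv6 D220363)) (tt N98185 F503412))
theorem Q117106 : ∀ i, i < 117106 → P i := stepQ 117105 Q117105 (allL N117105 (tt N117586 (iv1 F505852)) (tt N96050 (iv0 F503419)) (tt N117561 (iv2 F505705)) (tt N90531 F503415) (tt N108973 F503416) (tt N114193 F503417) (tt N90528 (iv6 D220364)) (tt N114192 F503418))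
theorem Q117107 : ∀ i, i < 117107 → P i := stepQ 117106 Q117106 (allL N117106 (tt N90535 (iv1 F503423)) (tt N90534 (iv0 D220365)) (tt N122097 F530145) (tt N112118 (iv3 F503424)) (tt N90987 F503421) (tt N112247 F503420) (tt N90663 F503422) (tt N121419 (iv7 F526255)))
theorem Q117108 : ∀ i, i < 117108 → P i := stepQ 117107 Q117107 (allL N117107 (tt N109591 (iv1 F503429)) (tt N108955 F503430) (tt N118331 (iv2 F509749)) (tt N107712 F503425) (tt N90542 F503426) (tt N111532 F503427) (tt N116701 F503428) (tt N90541 (iv7 D220366)))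
theorem Q117109 : ∀ i, i < 117109 → P i := stepQ 117108 Q117108 (allL N117108 (tt N104875 (iv1 F503436)) (tt N111581 F503437) (tt N116032 F503431) (tt N93663 F503432) (tt N107109 F503433) (tt N107894 F503434) (tt N107326 F503435) (tt N90544 (iv7 D220367)))
theorem Q117110 : ∀ i, i < 117110 → P i := stepQ 117109 Q117109 (allL N117109 (tt N107890 F503442) (tt N96409 F503443) (tt N107889 F503438) (tt N117690 (iv3 F506436)) (tt N90546 (iv4 D220368)) (tt N95165 F503439) (tt N95923 F503440) (tt N107888 F503441))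
theorem Q117111 : ∀ i, i < 117111 → P i := stepQ 117110 Q117110 (allL N117110 (tt N90551 (iv1 D220369)) (tt N116700 F503444) (tt N93341 F503448) (tt N94523 F503449) (tt N96266 F503445) (tt N93315 F503446) (tt N94521 (iv6 F503447)) (tt N118141 (iv7 F508824)))
theorem Q117112 : ∀ i, i < 117112 → P i := stepQ 117111 Q117111 (allL N117111 (tt N108301 F503456) (tt N93642 F503455) (tt N108300 F503450) (tt N96046 F503451) (tt N90568 (iv4 D220370)) (tt N100543 F503454) (tt N112203 F503452) (tt N96173 F503453))
theorem Q117113 : ∀ i, i < 117113 → P i := stepQ 117112 Q117112 (allL N117112 (tt N111578 (iv1 F503461)) (tt N90572 (iv0 D220371)) (tt N111587 (iv2 F503460)) (tt N108265 F503458) (tt N107991 F503457) (tt N121678 (iv5 F527691)) (tt N107990 F503459) (tt N111586 F503462))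
theorem Q117114 : ∀ i, i < 117114 → P i := stepQ 117113 Q117113 (allL N117113 (tt N106470 F503466) (tt N113747 F503468) (tt N114039 F503463) (tt N106472 (iv3 F503469)) (tt N90573 (iv4 D220372)) (tt N115082 F503467) (tt N90727 F503464) (tt N106697 F503465))
theorem Q117115 : ∀ i, i < 117115 → P i := stepQ 117114 Q117114 (allL N117114 (tt N97138 F503474) (tt N91433 F503475) (tt N117585 F505847) (tt N118935 (iv3 F512833)) (tt N116590 F503473) (tt N90573 (iv5 D220373)) (tt N111574 F503471) (tt N106700 F503472))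
theorem Q117116 : ∀ i, i < 117116 → P i := stepQ 117115 Q117115 (allL N117115 (tt N91433 F503479) (tt N97138 F503480) (tt N106700 F503477) (tt N91922 F503478) (tt N120349 (iv4 F520319)) (tt N90574 (iv5 D220374)) (tt N120348 F520316) (tt N117585 (iv7 F505843)))
theorem Q117117 : ∀ i, i < 117117 → P i := stepQ 117116 Q117116 (allL N117116 (tt N90595 F503483) (tt N118311 (iv0 F509645)) (tt N99698 F503481) (tt N90580 (iv3 D220375)) (tt N118710 (iv4 F511681)) (tt N122411 (iv5 F531943)) (tt N91402 F503482) (tt N118857 (iv7 F512428)))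
theorem Q117118 : ∀ i, i < 117118 → P i := stepQ 117117 Q117117 (allL N117117 (tt N122385 F531787) (tt N122338 (iv0 F531506)) (tt N106739 F503484) (tt N122411 (iv3 F531942)) (tt N108100 F503485) (tt N90580 (iv5 D220376)) (tt N122448 (iv6 F532169)) (tt N122481 (iv7 F532387)))
theorem Q117119 : ∀ i, i < 117119 → P i := stepQ 117118 Q117118 (allL N117118 (tt N122398 (iv1 F531863)) (tt N121308 (iv0 F525680)) (tt N90586 F503486) (tt N90599 F503487) (tt N99289 F503488) (tt N122079 (iv5 F530034)) (tt N90584 (iv6 D220377)) (tt N99232 F503489))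
theorem Q117120 : ∀ i, i < 117120 → P i := stepQ 117119 Q117119 (allL N117119 (tt N117541 (iv1 F505614)) (tt N91352 (iv0 F503491)) (tt N117539 F505600) (tt N90588 F503490) (tt N119850 (iv4 F517689)) (tt N122475 (iv5 F532341)) (tt N90585 (iv6 D220378)) (tt N117540 (iv7 F505604)))
theorem Q117121 : ∀ i, i < 117121 → P i := stepQ 117120 Q117120 (allL N117120 (tt N99232 F503495) (tt N90586 (iv0 D220379)) (tt N122398 (iv2 F531858)) (tt N101234 F503493) (tt N99223 F503492) (tt N122388 (iv5 F531800)) (tt N103094 (iv6 F503494)) (tt N121308 (iv7 F525679)))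
theorem Q117122 : ∀ i, i < 117122 → P i := stepQ 117121 Q117121 (allL N117121 (tt N90586 (iv1 D220380)) (tt N99232 F503496) (tt N121308 (iv2 F525675)) (tt N93910 F503499) (tt N99222 F503497) (tt N114212 F503500) (tt N93908 (iv6 F503498)) (tt N122398 (iv7 F531860)))
theorem Q117123 : ∀ i, i < 117123 → P i := stepQ 117122 Q117122 (allL N117122 (tt N116002 F503502) (tt N122089 F530094) (tt N122079 (iv2 F530032)) (tt N90589 F503501) (tt N122583 D225842) (tt N90586 (iv5 D220381)) (tt N122475 (iv6 F532344)) (tt N111854 (iv7 F503503)))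
theorem Q117124 : ∀ i, i < 117124 → P i := stepQ 117123 Q117123 (allL N117123 (tt N121308 F525681) (tt N122398 (iv0 F531862)) (tt N99232 F503504) (tt N90590 F503505) (tt N107562 F503506) (tt N111854 F503507) (tt N96851 F503508) (tt N90586 (iv7 D220382)))
theorem Q117125 : ∀ i, i < 117125 → P i := stepQ 117124 Q117124 (allL N117124 (tt N108603 F503512) (tt N104905 (iv0 F503513)) (tt N108614 F503509) (tt N122475 (iv3 F532343)) (tt N122423 (iv4 F532017)) (tt N90588 (iv5 D220383)) (tt N90589 F503510) (tt N101729 F503511))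
theorem Q117126 : ∀ i, i < 117126 → P i := stepQ 117125 Q117125 (allL N117125 (tt N90594 (iv1 D220384)) (tt N90597 F503514) (tt N108471 F503519) (tt N99613 F503520) (tt N103997 F503517) (tt N108471 F503516) (tt N90764 (iv6 F503518)) (tt N108465 F503515))
theorem Q117127 : ∀ i, i < 117127 → P i := stepQ 117126 Q117126 (allL N117126 (tt N108993 F503523) (tt N108698 (iv0 F503524)) (tt N117864 (iv2 F507336)) (tt N90594 (iv3 D220385)) (tt N117780 (iv4 F506932)) (tt N108126 F503521) (tt N101880 F503522) (tt N117866 (iv7 F507343)))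
theorem Q117128 : ∀ i, i < 117128 → P i := stepQ 117127 Q117127 (allL N117127 (tt N118311 (iv1 F509646)) (tt N90595 (iv0 D220386)) (tt N118857 (iv2 F512431)) (tt N99701 F503526) (tt N119055 F513532) (tt N121469 (iv5 F526548)) (tt N90777 (iv6 F503527)) (tt N99698 (iv7 F503528)))
theorem Q117129 : ∀ i, i < 117129 → P i := stepQ 117128 Q117128 (allL N117128 (tt N115635 F503532) (tt N117462 (iv0 F505160)) (tt N108624 F503529) (tt N108588 F503530) (tt N121066 (iv4 F524330)) (tt N90595 (iv5 D220387)) (tt N99683 F503531) (tt N118858 (iv7 F512436)))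
theorem Q117130 : ∀ i, i < 117130 → P i := stepQ 117129 Q117129 (allL N117129 (tt N102265 F503536) (tt N95791 (iv0 F503537)) (tt N111610 F503538) (tt N90597 (iv3 D220388)) (tt N97080 F503533) (tt N108128 F503534) (tt N118035 (iv6 F508211)) (tt N111609 F503535))
theorem Q117131 : ∀ i, i < 117131 → P i := stepQ 117130 Q117130 (allL N117130 (tt N99688 (iv1 F503545)) (tt N90599 (iv0 D220389)) (tt N99690 (iv2 F503541)) (tt N96810 F503542) (tt N107321 F503540) (tt N115565 F503539) (tt N90753 F503543) (tt N99686 F503544))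
theorem Q117132 : ∀ i, i < 117132 → P i := stepQ 117131 Q117131 (allL N117131 (tt N99686 (iv1 F503550)) (tt N99690 F503551) (tt N99688 F503546) (tt N99232 F503547) (tt N122582 (iv4 F532977)) (tt N111881 F503548) (tt N99230 F503549) (tt N90599 (iv7 D220390)))
theorem Q117133 : ∀ i, i < 117133 → P i := stepQ 117132 Q117132 (allL N117132 (tt N101010 F503555) (tt N101166 (iv0 F503556)) (tt N100616 F503552) (tt N90604 (iv3 D220391)) (tt N121800 (iv4 F528396)) (tt N100610 F503553) (tt N120889 (iv6 F523309)) (tt N101164 F503554))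
theorem Q117134 : ∀ i, i < 117134 → P i := stepQ 117133 Q117133 (allL N117133 (tt N105298 F503561) (tt N117382 (iv0 F504762)) (tt N117392 (iv2 F504798)) (tt N90606 (iv3 D220392)) (tt N107181 F503557) (tt N114885 F503558) (tt N113543 F503559) (tt N110368 F503560))
theorem Q117135 : ∀ i, i < 117135 → P i := stepQ 117134 Q117134 (allL N117134 (tt N121149 F524795) (tt N121148 F524790) (tt N121175 (iv2 F524945)) (tt N90607 (iv3 D220393)) (tt N116950 (iv4 F503563)) (tt N122419 (iv5 F531995)) (tt N116949 F503562) (tt N121545 (iv7 F526962)))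
theorem Q117136 : ∀ i, i < 117136 → P i := stepQ 117135 Q117135 (allL N117135 (tt N109489 (iv1 F503566)) (tt N90615 (iv0 D220394)) (tt N109503 (iv2 F503569)) (tt N99187 (iv3 F503567)) (tt N94468 F503565) (tt N90989 F503564) (tt N106628 F503568) (tt N109501 (iv7 F503570)))
theorem Q117137 : ∀ i, i < 117137 → P i := stepQ 117136 Q117136 (allL N117136 (tt N90615 (iv1 D220395)) (tt N109489 F503571) (tt N109501 (iv2 F503575)) (tt N122584 D225843) (tt N101086 F503574) (tt N90991 F503573) (tt N121453 (iv6 F526462)) (tt N109503 F503572))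
theorem Q117138 : ∀ i, i < 117138 → P i := stepQ 117137 Q117137 (allL N117137 (tt N91704 (iv1 F503580)) (tt N90617 (iv0 D220396)) (tt N113268 (iv2 F503579)) (tt N95191 (iv3 F503582)) (tt N93269 F503577) (tt N90845 F503576) (tt N93268 F503578) (tt N114656 F503581))
theorem Q117139 : ∀ i, i < 117139 → P i := stepQ 117138 Q117138 (allL N117138 (tt N90619 (iv1 D220397)) (tt N122179 F530620) (tt N121163 (iv2 F524874)) (tt N110794 (iv3 F503584)) (tt N114267 F503583) (tt N122360 (iv5 F531629)) (tt N114266 (iv6 F503585)) (tt N122178 (iv7 F530613)))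
theorem Q117140 : ∀ i, i < 117140 → P i := stepQ 117139 Q117139 (allL N117139 (tt N119911 (iv1 F517992)) (tt N119910 F517989) (tt N109518 F503586) (tt N109486 F503587) (tt N90622 F503588) (tt N119904 (iv5 F517953)) (tt N90621 (iv6 D220398)) (tt N109516 F503589))
theorem Q117141 : ∀ i, i < 117141 → P i := stepQ 117140 Q117140 (allL N117140 (tt N119912 (iv1 F518002)) (tt N90622 (iv0 D220399)) (tt N119616 (iv2 F516529)) (tt N117243 F504084) (tt N110668 F503591) (tt N113979 (iv5 F503592)) (tt N119614 (iv6 F516522)) (tt N122316 (iv7 F531374)))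
theorem Q117142 : ∀ i, i < 117142 → P i := stepQ 117141 Q117141 (allL N117141 (tt N122316 (iv1 F531375)) (tt N119616 (iv0 F516533)) (tt N119912 (iv2 F517997)) (tt N90626 F503595) (tt N109516 F503596) (tt N120135 (iv5 F519248)) (tt N106589 F503597) (tt N90622 (iv7 D220400)))
theorem Q117143 : ∀ i, i < 117143 → P i := stepQ 117142 Q117142 (allL N117142 (tt N113179 (iv1 F503601)) (tt N90627 (iv0 D220401)) (tt N122004 (iv2 F529581)) (tt N114267 F503599) (tt N110789 F503600) (tt N107016 F503598) (tt N114263 (iv6 F503602)) (tt N122180 (iv7 F530628)))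
theorem Q117144 : ∀ i, i < 117144 → P i := stepQ 117143 Q117143 (allL N117143 (tt N90627 (iv1 D220402)) (tt N113179 F503603) (tt N122180 F530626) (tt N121777 (iv3 F528256)) (tt N122005 (iv4 F529590)) (tt N107015 (iv5 F503604)) (tt N90851 (iv6 F503605)) (tt N122004 F529587))
theorem Q117145 : ∀ i, i < 117145 → P i := stepQ 117144 Q117144 (allL N117144 (tt N107016 F503609) (tt N107015 (iv0 F503610)) (tt N107018 F503606) (tt N90633 (iv3 D220403)) (tt N105857 F503607) (tt N117380 F504751) (tt N107036 (iv6 F503611)) (tt N107012 F503608))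
theorem Q117146 : ∀ i, i < 117146 → P i := stepQ 117145 Q117145 (allL N117145 (tt N91785 F503616) (tt N107031 (iv0 F503617)) (tt N107010 F503612) (tt N107036 F503613) (tt N114054 F503614) (tt N119921 (iv5 F518050)) (tt N90633 (iv6 D220404)) (tt N97998 F503615))
theorem Q117147 : ∀ i, i < 117147 → P i := stepQ 117146 Q117146 (allL N117146 (tt N94367 F503622) (tt N116539 F503623) (tt N106965 F503618) (tt N94380 F503619) (tt N94805 F503621) (tt N90636 (iv5 D220405)) (tt N94803 (iv6 F503626)) (tt N106968 F503620))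
theorem Q117148 : ∀ i, i < 117148 → P i := stepQ 117147 Q117147 (allL N117147 (tt N91281 F503632) (tt N91436 (iv0 F503633)) (tt N91384 F503627) (tt N112180 F503628) (tt N91274 F503629) (tt N112113 F503630) (tt N90638 (iv6 D220406)) (tt N91381 F503631))
theorem Q117149 : ∀ i, i < 117149 → P i := stepQ 117148 Q117148 (allL N117148 (tt N122481 (iv1 F532388)) (tt N106739 (iv0 F503637)) (tt N122385 (iv2 F531781)) (tt N114015 F503634) (tt N115074 F503635) (tt N90651 F503636) (tt N90644 (iv6 D220407)) (tt N122338 (iv7 F531505)))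
theorem Q117150 : ∀ i, i < 117150 → P i := stepQ 117149 Q117149 (allL N117149 (tt N90990 F503641) (tt N117485 F505283) (tt N97295 F503638) (tt N90652 (iv3 D220408)) (tt N97207 F503642) (tt N122389 (iv5 F531809)) (tt N97206 F503639) (tt N91261 F503640))
theorem Q117151 : ∀ i, i < 117151 → P i := stepQ 117150 Q117150 (allL N117150 (tt N106739 F503645) (tt N122481 F532389) (tt N122338 (iv2 F531501)) (tt N122389 (iv3 F531808)) (tt N115069 F503643) (tt N90652 (iv5 D220409)) (tt N112463 F503644) (tt N122385 (iv7 F531785)))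
theorem Q117152 : ∀ i, i < 117152 → P i := stepQ 117151 Q117151 (allL N117151 (tt N117648 (iv1 F506208)) (tt N90992 (iv0 F503649)) (tt N112119 F503646) (tt N90662 (iv3 D220410)) (tt N119849 (iv4 F517684)) (tt N109396 (iv5 F503648)) (tt N110831 F503647) (tt N122042 (iv7 F529806)))
theorem Q117153 : ∀ i, i < 117153 → P i := stepQ 117152 Q117152 (allL N117152 (tt N96820 F503655) (tt N106751 F503656) (tt N96853 F503650) (tt N109396 F503651) (tt N101657 F503654) (tt N90662 (iv5 D220411)) (tt N96804 F503652) (tt N112117 F503653))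
theorem Q117154 : ∀ i, i < 117154 → P i := stepQ 117153 Q117153 (allL N117153 (tt N116637 F503659) (tt N97337 (iv0 F503660)) (tt N117583 (iv2 F505837)) (tt N116485 F503657) (tt N90668 F503658) (tt N119313 (iv5 F514974)) (tt N90667 (iv6 D220412)) (tt N122250 (iv7 F531010)))
theorem Q117155 : ∀ i, i < 117155 → P i := stepQ 117154 Q117154 (allL N117154 (tt N95571 F503664) (tt N118872 F512508) (tt N115522 F503661) (tt N90669 F503662) (tt N121661 (iv4 F527604)) (tt N90668 (iv5 D220413)) (tt N115520 F503663) (tt N118871 F512506))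
theorem Q117156 : ∀ i, i < 117156 → P i := stepQ 117155 Q117155 (allL N117155 (tt N117582 (iv1 F505831)) (tt N96847 (iv0 F503666)) (tt N117508 (iv2 F505410)) (tt N90670 F503665) (tt N122250 (iv4 F531011)) (tt N118871 (iv5 F512504)) (tt N117324 (iv6 F504465)) (tt N90668 (iv7 D220414)))
theorem Q117157 : ∀ i, i < 117157 → P i := stepQ 117156 Q117156 (allL N117156 (tt N93836 F503671) (tt N120599 F521678) (tt N93746 F503667) (tt N116492 F503668) (tt N90672 F503669) (tt N93941 F503670) (tt N90671 (iv6 D220415)) (tt N117581 (iv7 F505829)))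
theorem Q117158 : ∀ i, i < 117158 → P i := stepQ 117157 Q117157 (allL N117157 (tt N105031 F503677) (tt N108289 (iv0 F503678)) (tt N107990 F503672) (tt N90680 (iv3 D220416)) (tt N107989 F503673) (tt N115788 F503674) (tt N111587 F503675) (tt N91417 F503676))
theorem Q117159 : ∀ i, i < 117159 → P i := stepQ 117158 Q117158 (allL N117158 (tt N113545 F503684) (tt N113469 F503685) (tt N110377 F503679) (tt N91155 F503680) (tt N90684 (iv4 D220417)) (tt N113244 F503681) (tt N110376 F503682) (tt N113546 F503683))
theorem Q117160 : ∀ i, i < 117160 → P i := stepQ 117159 Q117159 (allL N117159 (tt N90695 (iv1 F503691)) (tt N90688 (iv0 D220418)) (tt N90693 F503689) (tt N109636 (iv3 F503687)) (tt N117226 (iv4 F504000)) (tt N111144 F503686) (tt N121376 (iv6 F526026)) (tt N90694 (iv7 F503688)))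
theorem Q117161 : ∀ i, i < 117161 → P i := stepQ 117160 Q117160 (allL N117160 (tt N90694 (iv1 F503697)) (tt N90693 F503698) (tt N90695 F503693) (tt N113512 F503694) (tt N121427 (iv4 F526305)) (tt N105637 F503695) (tt N113217 F503696) (tt N90688 (iv7 D220419)))
theorem Q117162 : ∀ i, i < 117162 → P i := stepQ 117161 Q117161 (allL N117161 (tt N119890 F517886) (tt N121428 F526314) (tt N121427 (iv2 F526303)) (tt N90692 F503699) (tt N90695 F503700) (tt N120235 (iv5 F519743)) (tt N90691 (iv6 D220420)) (tt N90692 F503701))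
theorem Q117163 : ∀ i, i < 117163 → P i := stepQ 117162 Q117162 (allL N117162 (tt N121427 F526309) (tt N90692 (iv0 D220421)) (tt N121428 F526313) (tt N119893 (iv3 F517895)) (tt N90829 F504005) (tt N120191 (iv5 F519516)) (tt N120019 F518593) (tt N119890 F517887))
theorem Q117164 : ∀ i, i < 117164 → P i := stepQ 117163 Q117163 (allL N117163 (tt N90692 (iv1 D220422)) (tt N121427 (iv0 F526308)) (tt N119890 (iv2 F517882)) (tt N112573 (iv3 F503705)) (tt N90830 F503702) (tt N112570 F503704) (tt N109526 (iv6 F503703)) (tt N121428 (iv7 F526315)))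
theorem Q117165 : ∀ i, i < 117165 → P i := stepQ 117164 Q117164 (allL N117164 (tt N117929 F507652) (tt N120231 (iv0 F519726)) (tt N106604 F503706) (tt N120235 (iv3 F519744)) (tt N106602 F503708) (tt N90692 (iv5 D220423)) (tt N108541 F503707) (tt N120235 F519745))
theorem Q117166 : ∀ i, i < 117166 → P i := stepQ 117165 Q117165 (allL N117165 (tt N117228 (iv1 F504017)) (tt N116861 F503715) (tt N117226 F504001) (tt N120460 (iv3 F520902)) (tt N90693 (iv4 D220424)) (tt N119813 (iv5 F517514)) (tt N119702 (iv6 F517000)) (tt N117227 (iv7 F504007)))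
theorem Q117167 : ∀ i, i < 117167 → P i := stepQ 117166 Q117166 (allL N117166 (tt N106481 F503712) (tt N118625 F511204) (tt N111144 F503709) (tt N99521 F503710) (tt N113252 (iv4 F503713)) (tt N90693 (iv5 D220425)) (tt N99519 (iv6 F503714)) (tt N113079 F503711))
theorem Q117168 : ∀ i, i < 117168 → P i := stepQ 117167 Q117167 (allL N117167 (tt N121113 F524578) (tt N110369 (iv0 F503719)) (tt N121376 F526027) (tt N96199 F503716) (tt N119702 (iv4 F516998)) (tt N96198 F503717) (tt N90693 (iv6 D220426)) (tt N107193 F503718))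
theorem Q117169 : ∀ i, i < 117169 → P i := stepQ 117168 Q117168 (allL N117168 (tt N102808 F503725) (tt N118486 F510633) (tt N100081 F503720) (tt N94189 F503721) (tt N90704 (iv4 D220427)) (tt N100083 F503722) (tt N92424 F503723) (tt N108707 F503724))
theorem Q117170 : ∀ i, i < 117170 → P i := stepQ 117169 Q117169 (allL N117169 (tt N90708 (iv1 D220428)) (tt N96005 F503726) (tt N104868 F503731) (tt N104872 (iv3 F503729)) (tt N117535 (iv4 F505574)) (tt N116082 F503728) (tt N115592 (iv6 F503730)) (tt N115515 F503727))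
theorem Q117171 : ∀ i, i < 117171 → P i := stepQ 117170 Q117170 (allL N117170 (tt N103348 F503735) (tt N103347 (iv0 F503736)) (tt N117272 (iv2 F504221)) (tt N90709 (iv3 D220429)) (tt N96007 F503732) (tt N120210 (iv5 F519614)) (tt N117080 F503733) (tt N114029 F503734))
theorem Q117172 : ∀ i, i < 117172 → P i := stepQ 117171 Q117171 (allL N117171 (tt N107703 F503742) (tt N107702 F503743) (tt N107705 F503737) (tt N101254 F503738) (tt N90712 F503739) (tt N108158 F503740) (tt N90711 (iv6 D220430)) (tt N107698 F503741))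
theorem Q117173 : ∀ i, i < 117173 → P i := stepQ 117172 Q117172 (allL N117172 (tt N90712 (iv1 D220431)) (tt N107701 F503744) (tt N113914 (iv2 F503747)) (tt N119551 F516201) (tt N119058 (iv4 F513552)) (tt N91014 F503746) (tt N116424 (iv6 F503748)) (tt N113916 F503745))
theorem Q117174 : ∀ i, i < 117174 → P i := stepQ 117173 Q117173 (allL N117173 (tt N99702 (iv1 F503754)) (tt N90714 (iv0 D220432)) (tt N106735 (iv2 F503753)) (tt N99234 F503751) (tt N107959 F503750) (tt N111050 F503749) (tt N99696 F503752) (tt N90784 F503755))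
theorem Q117175 : ∀ i, i < 117175 → P i := stepQ 117174 Q117174 (allL N117174 (tt N112796 F503758) (tt N122458 (iv0 F532239)) (tt N122572 (iv2 F532916)) (tt N90720 F503756) (tt N120139 (iv4 F519270)) (tt N90719 (iv5 D220433)) (tt N112962 (iv6 F503759)) (tt N106009 F503757))
theorem Q117176 : ∀ i, i < 117176 → P i := stepQ 117175 Q117175 (allL N117175 (tt N114733 F503764) (tt N114725 (iv0 F503765)) (tt N106209 F503760) (tt N112962 F503761) (tt N121208 (iv4 F525141)) (tt N106534 F503762) (tt N90720 (iv6 D220434)) (tt N114731 F503763))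
theorem Q117177 : ∀ i, i < 117177 → P i := stepQ 117176 Q117176 (allL N117176 (tt N110167 F503768) (tt N112999 F503769) (tt N106212 F503766) (tt N121482 (iv3 F526617)) (tt N90721 (iv4 D220435)) (tt N120949 (iv5 F523646)) (tt N121480 (iv6 F526608)) (tt N106210 F503767))
theorem Q117178 : ∀ i, i < 117178 → P i := stepQ 117177 Q117177 (allL N117177 (tt N121414 F526232) (tt N100066 (iv0 F503773)) (tt N106213 F503770) (tt N116817 F503771) (tt N121480 (iv4 F526609)) (tt N106024 F503772) (tt N90721 (iv6 D220436)) (tt N120086 (iv7 F518976)))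
theorem Q117179 : ∀ i, i < 117179 → P i := stepQ 117178 Q117178 (allL N117178 (tt N112928 F503778) (tt N112940 (iv0 F503777)) (tt N112939 F503774) (tt N90722 (iv3 D220437)) (tt N117815 (iv4 F507096)) (tt N106065 F503775) (tt N117817 (iv6 F507104)) (tt N106211 F503776))
theorem Q117180 : ∀ i, i < 117180 → P i := stepQ 117179 Q117179 (allL N117179 (tt N112999 F503783) (tt N110167 F503784) (tt N106210 F503779) (tt N120201 (iv3 F519559)) (tt N90722 (iv4 D220438)) (tt N114632 F503782) (tt N113493 F503780) (tt N106212 F503781))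
theorem Q117181 : ∀ i, i < 117181 → P i := stepQ 117180 Q117180 (allL N117180 (tt N105947 (iv1 F503788)) (tt N90723 (iv0 D220439)) (tt N106215 (iv2 F503789)) (tt N113946 F503787) (tt N106294 F503786) (tt N107361 F503785) (tt N107363 (iv6 F503790)) (tt N106214 (iv7 F503791)))
theorem Q117182 : ∀ i, i < 117182 → P i := stepQ 117181 Q117181 (allL N117181 (tt N90723 (iv1 D220440)) (tt N105947 F503792) (tt N106214 (iv2 F503796)) (tt N107382 (iv3 F503797)) (tt N106066 F503795) (tt N107368 F503794) (tt N122267 (iv6 F531074)) (tt N106215 F503793))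
theorem Q117183 : ∀ i, i < 117183 → P i := stepQ 117182 Q117182 (allL N117182 (tt N106490 F503801) (tt N112370 (iv0 F503802)) (tt N117270 F504210) (tt N90725 (iv3 D220441)) (tt N96057 F503798) (tt N122277 (iv5 F531128)) (tt N96056 F503799) (tt N114038 F503800))
theorem Q117184 : ∀ i, i < 117184 → P i := stepQ 117183 Q117183 (allL N117183 (tt N116541 (iv1 F503805)) (tt N96928 F503804) (tt N90726 (iv2 D220442)) (tt N118401 (iv3 F510153)) (tt N122585 D225844) (tt N118875 (iv5 F512524)) (tt N95387 F503803) (tt N118399 (iv7 F510145)))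
theorem Q117185 : ∀ i, i < 117185 → P i := stepQ 117184 Q117184 (allL N117184 (tt N102813 F503807) (tt N117032 F503808) (tt N122585 (iv2 F532994)) (tt N120136 (iv3 F519253)) (tt N90726 (iv4 D220443)) (tt N92437 (iv5 F503809)) (tt N97113 F503806) (tt N121650 (iv7 F527541)))
theorem Q117186 : ∀ i, i < 117186 → P i := stepQ 117185 Q117185 (allL N117185 (tt N106502 F503812) (tt N101912 (iv0 F503813)) (tt N106501 (iv2 F503814)) (tt N90727 (iv3 D220444)) (tt N120136 (iv4 F519254)) (tt N120130 (iv5 F519220)) (tt N106472 F503810) (tt N102751 F503811))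
theorem Q117187 : ∀ i, i < 117187 → P i := stepQ 117186 Q117186 (allL N117186 (tt N90777 (iv1 F503819)) (tt N90729 (iv0 D220445)) (tt N90778 (iv2 F503818)) (tt N99676 F503815) (tt N110838 F503816) (tt N121701 (iv5 F527834)) (tt N90770 F503817) (tt N90771 F503820))
theorem Q117188 : ∀ i, i < 117188 → P i := stepQ 117187 Q117187 (allL N117187 (tt N90731 (iv1 D220446)) (tt N119949 (iv0 F518200)) (tt N120132 F519234) (tt N106553 (iv3 F503824)) (tt N108390 F503823) (tt N108404 F503822) (tt N121581 (iv6 F527147)) (tt N116816 F503821))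
theorem Q117189 : ∀ i, i < 117189 → P i := stepQ 117188 Q117188 (allL N117188 (tt N121196 (iv1 F525078)) (tt N101378 (iv0 F503829)) (tt N113606 F503825) (tt N113860 F503826) (tt N90735 F503827) (tt N114649 F503828) (tt N90734 (iv6 D220447)) (tt N121018 (iv7 F524043)))
theorem Q117190 : ∀ i, i < 117190 → P i := stepQ 117189 Q117189 (allL N117189 (tt N116394 F503832) (tt N116391 (iv0 F503833)) (tt N116393 F503830) (tt N90748 (iv3 D220448)) (tt N121422 (iv4 F526271)) (tt N121187 (iv5 F525021)) (tt N122586 D225845) (tt N110801 F503831))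
theorem Q117191 : ∀ i, i < 117191 → P i := stepQ 117190 Q117190 (allL N117190 (tt N117347 (iv1 F504594)) (tt N117346 (iv0 F504585)) (tt N90751 F503834) (tt N121187 (iv3 F525022)) (tt N119957 (iv4 F518249)) (tt N90748 (iv5 D220449)) (tt N120457 (iv6 F520889)) (tt N119956 (iv7 F518246)))
theorem Q117192 : ∀ i, i < 117192 → P i := stepQ 117191 Q117191 (allL N117191 (tt N107463 F503840) (tt N107468 (iv0 F503839)) (tt N90752 F503835) (tt N122586 (iv3 F533002)) (tt N90749 F503836) (tt N113965 F503838) (tt N90748 (iv6 D220450)) (tt N107466 F503837))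
theorem Q117193 : ∀ i, i < 117193 → P i := stepQ 117192 Q117192 (allL N117192 (tt N115632 F503845) (tt N119336 (iv0 F515093)) (tt N90754 F503841) (tt N115617 F503842) (tt N116766 F503844) (tt N90749 (iv5 D220451)) (tt N122093 F530119) (tt N108613 F503843))
theorem Q117194 : ∀ i, i < 117194 → P i := stepQ 117193 Q117193 (allL N117193 (tt N119956 F518245) (tt N90751 (iv0 D220452)) (tt N117347 (iv2 F504588)) (tt N99513 F503848) (tt N113245 F503847) (tt N99512 F503846) (tt N113244 (iv6 F503849)) (tt N117346 (iv7 F504584)))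
theorem Q117195 : ∀ i, i < 117195 → P i := stepQ 117194 Q117194 (allL N117194 (tt N90751 (iv1 D220453)) (tt N119956 (iv0 F518244)) (tt N117346 (iv2 F504581)) (tt N108450 (iv3 F503851)) (tt N121299 (iv4 F525623)) (tt N116480 F503850) (tt N109704 F503852) (tt N117347 (iv7 F504591)))
theorem Q117196 : ∀ i, i < 117196 → P i := stepQ 117195 Q117195 (allL N117195 (tt N90752 (iv1 D220454)) (tt N107466 F503853) (tt N107468 F503858) (tt N109317 (iv3 F503855)) (tt N120779 (iv4 F522661)) (tt N112994 F503857) (tt N109316 (iv6 F503856)) (tt N107463 F503854))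
theorem Q117197 : ∀ i, i < 117197 → P i := stepQ 117196 Q117196 (allL N117196 (tt N107468 (iv1 F503864)) (tt N107463 F503865) (tt N107466 F503859) (tt N99393 F503860) (tt N90755 F503861) (tt N113966 F503862) (tt N104865 F503863) (tt N90752 (iv7 D220455)))
theorem Q117198 : ∀ i, i < 117198 → P i := stepQ 117197 Q117197 (allL N117197 (tt N108614 F503868) (tt N101729 (iv0 F503869)) (tt N104905 F503866) (tt N122028 (iv3 F529726)) (tt N118824 (iv4 F512271)) (tt N90753 (iv5 D220456)) (tt N122088 (iv6 F530087)) (tt N108603 F503867))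
theorem Q117199 : ∀ i, i < 117199 → P i := stepQ 117198 Q117198 (allL N117198 (tt N90754 (iv1 D220457)) (tt N108613 F503870) (tt N119336 (iv2 F515089)) (tt N106115 (iv3 F503873)) (tt N118826 (iv4 F512278)) (tt N106112 F503872) (tt N111984 (iv6 F503874)) (tt N115632 F503871))
theorem Q117200 : ∀ i, i < 117200 → P i := stepQ 117199 Q117199 (allL N117199 (tt N119336 F515094) (tt N115632 (iv0 F503878)) (tt N108613 F503875) (tt N90758 F503876) (tt N120351 (iv4 F520326)) (tt N90755 F503877) (tt N119364 (iv6 F515232)) (tt N90754 (iv7 D220458)))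
theorem Q117201 : ∀ i, i < 117201 → P i := stepQ 117200 Q117200 (allL N117200 (tt N114854 F503879) (tt N114855 F503880) (tt N122081 (iv2 F530045)) (tt N119364 (iv3 F515231)) (tt N122082 (iv4 F530053)) (tt N119363 (iv5 F515227)) (tt N90758 (iv6 D220459)) (tt N122194 (iv7 F530702)))
theorem Q117202 : ∀ i, i < 117202 → P i := stepQ 117201 Q117201 (allL N117201 (tt N121649 (iv1 F527537)) (tt N121645 (iv0 F527516)) (tt N121652 (iv2 F527554)) (tt N90766 F503881) (tt N95495 (iv4 F503883)) (tt N90765 (iv5 D220460)) (tt N95493 F503882) (tt N121651 F527549))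
theorem Q117203 : ∀ i, i < 117203 → P i := stepQ 117202 Q117202 (allL N117202 (tt N97996 F503885) (tt N118827 (iv0 F512284)) (tt N119480 (iv2 F515829)) (tt N95493 F503884) (tt N120656 (iv4 F521994)) (tt N117714 F506584) (tt N90766 (iv6 D220461)) (tt N118691 (iv7 F511564)))
theorem Q117204 : ∀ i, i < 117204 → P i := stepQ 117203 Q117203 (allL N117203 (tt N115939 F503888) (tt N120664 F522040) (tt N104445 F503886) (tt N120852 (iv3 F523087)) (tt N90774 (iv4 D220462)) (tt N92622 F503887) (tt N122234 (iv6 F530921)) (tt N120659 (iv7 F522011)))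
theorem Q117205 : ∀ i, i < 117205 → P i := stepQ 117204 Q117204 (allL N117204 (tt N108532 (iv1 F503895)) (tt N115960 (iv0 F503893)) (tt N115959 F503889) (tt N108633 F503890) (tt N115647 F503892) (tt N90777 (iv5 D220463)) (tt N114189 (iv6 F503894)) (tt N108628 F503891))
theorem Q117206 : ∀ i, i < 117206 → P i := stepQ 117205 Q117205 (allL N117205 (tt N107325 F503901) (tt N114266 F503902) (tt N114779 F503896) (tt N90796 F503897) (tt N114346 F503898) (tt N116422 F503899) (tt N90794 (iv6 D220464)) (tt N116921 F503900))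
theorem Q117207 : ∀ i, i < 117207 → P i := stepQ 117206 Q117206 (allL N117206 (tt N120208 F519603) (tt N106592 (iv0 F503908)) (tt N114776 F503903) (tt N90797 (iv3 D220465)) (tt N109936 F503904) (tt N113247 F503905) (tt N116897 (iv6 F503907)) (tt N106606 F503906))
theorem Q117208 : ∀ i, i < 117208 → P i := stepQ 117207 Q117207 (allL N117207 (tt N114266 F503914) (tt N107325 F503915) (tt N116921 F503909) (tt N116897 F503910) (tt N90798 F503911) (tt N116421 F503912) (tt N90797 (iv6 D220466)) (tt N114779 F503913))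
theorem Q117209 : ∀ i, i < 117209 → P i := stepQ 117208 Q117208 (allL N117208 (tt N114263 F503918) (tt N121590 (iv0 F527200)) (tt N121956 (iv2 F529282)) (tt N90799 (iv3 D220467)) (tt N100474 F503916) (tt N121190 (iv5 F525043)) (tt N116534 F503917) (tt N121843 (iv7 F528650)))
theorem Q117210 : ∀ i, i < 117210 → P i := stepQ 117209 Q117209 (allL N117209 (tt N122274 F531113) (tt N121923 F529088) (tt N121842 (iv2 F528639)) (tt N111207 F503919) (tt N114894 F503920) (tt N113256 F503922) (tt N90800 (iv6 D220468)) (tt N111202 F503921))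
theorem Q117211 : ∀ i, i < 117211 → P i := stepQ 117210 Q117210 (allL N117210 (tt N121160 F524860) (tt N90801 (iv0 D220469)) (tt N122450 (iv2 F532186)) (tt N112616 (iv3 F503924)) (tt N121359 (iv4 F525953)) (tt N120262 (iv5 F519882)) (tt N112614 F503923) (tt N121169 (iv7 F524914)))
theorem Q117212 : ∀ i, i < 117212 → P i := stepQ 117211 Q117211 (allL N117211 (tt N90801 (iv1 D220470)) (tt N121160 (iv0 F524858)) (tt N121169 (iv2 F524911)) (tt N114264 (iv3 F503925)) (tt N121577 (iv4 F527120)) (tt N107977 (iv5 F503926)) (tt N121519 (iv6 F526824)) (tt N122450 (iv7 F532181)))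
theorem Q117213 : ∀ i, i < 117213 → P i := stepQ 117212 Q117212 (allL N117212 (tt N120359 (iv1 F520367)) (tt N113439 F503931) (tt N90865 F503927) (tt N122010 (iv3 F529619)) (tt N90803 (iv4 D220471)) (tt N116820 F503930) (tt N107184 F503928) (tt N90863 F503929))
theorem Q117214 : ∀ i, i < 117214 → P i := stepQ 117213 Q117213 (allL N117213 (tt N113439 F503937) (tt N120359 (iv0 F520366)) (tt N90863 F503932) (tt N112323 F503933) (tt N90804 (iv4 D220472)) (tt N112882 F503934) (tt N112322 F503935) (tt N90865 F503936))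
theorem Q117215 : ∀ i, i < 117215 → P i := stepQ 117214 Q117214 (allL N117214 (tt N121509 (iv1 F526765)) (tt N121934 (iv0 F529155)) (tt N120477 (iv2 F520977)) (tt N90807 (iv3 D220473)) (tt N113521 F503938) (tt N112686 F503939) (tt N114261 F503940) (tt N120476 (iv7 F520974)))
theorem Q117216 : ∀ i, i < 117216 → P i := stepQ 117215 Q117215 (allL N117215 (tt N117443 F505056) (tt N121864 (iv0 F528782)) (tt N121536 (iv2 F526913)) (tt N90810 (iv3 D220474)) (tt N109995 F503941) (tt N121825 (iv5 F528543)) (tt N106584 F503942) (tt N117381 (iv7 F504756)))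
theorem Q117217 : ∀ i, i < 117217 → P i := stepQ 117216 Q117216 (allL N117216 (tt N91801 F503947) (tt N116132 F503948) (tt N116269 F503943) (tt N121825 (iv3 F528542)) (tt N113815 F503944) (tt N90810 (iv5 D220475)) (tt N117099 F503945) (tt N116172 F503946))
theorem Q117218 : ∀ i, i < 117218 → P i := stepQ 117217 Q117217 (allL N117217 (tt N122021 (iv1 F529686)) (tt N122360 (iv0 F531632)) (tt N113993 F503949) (tt N90824 F503950) (tt N113948 F503951) (tt N90812 F503952) (tt N113973 F503953) (tt N90811 (iv7 D220476)))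
theorem Q117219 : ∀ i, i < 117219 → P i := stepQ 117218 Q117218 (allL N117218 (tt N90815 (iv1 D220477)) (tt N111340 F503954) (tt N111342 F503958) (tt N112345 F503959) (tt N122283 (iv4 F531168)) (tt N90867 F503956) (tt N116743 (iv6 F503957)) (tt N109763 F503955))
theorem Q117220 : ∀ i, i < 117220 → P i := stepQ 117219 Q117219 (allL N117219 (tt N119779 (iv1 F517375)) (tt N100252 (iv0 F503964)) (tt N120184 (iv2 F519482)) (tt N90817 F503960) (tt N109829 F503961) (tt N106841 F503962) (tt N90816 (iv6 D220478)) (tt N106584 (iv7 F503963)))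
theorem Q117221 : ∀ i, i < 117221 → P i := stepQ 117220 Q117220 (allL N117220 (tt N116814 F503971) (tt N121623 (iv0 F527395)) (tt N112945 F503968) (tt N90820 F503969) (tt N116318 F503970) (tt N90818 (iv5 D220479)) (tt N121691 (iv6 F527772)) (tt N122119 (iv7 F530284)))
theorem Q117222 : ∀ i, i < 117222 → P i := stepQ 117221 Q117221 (allL N117221 (tt N122235 (iv1 F530929)) (tt N113171 (iv0 F503975)) (tt N112901 F503972) (tt N90822 (iv3 D220480)) (tt N121325 (iv4 F525770)) (tt N110407 F503973) (tt N121914 (iv6 F529036)) (tt N113987 F503974))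
theorem Q117223 : ∀ i, i < 117223 → P i := stepQ 117222 Q117222 (allL N117222 (tt N113944 F503979) (tt N113947 (iv0 F503980)) (tt N113070 F503976) (tt N121914 (iv3 F529035)) (tt N121345 (iv4 F525878)) (tt N91695 F503977) (tt N90822 (iv6 D220481)) (tt N114655 F503978))
theorem Q117224 : ∀ i, i < 117224 → P i := stepQ 117223 Q117223 (allL N117223 (tt N109527 (iv1 F503983)) (tt N90827 (iv0 D220482)) (tt N99187 F503985) (tt N122587 D225846) (tt N99876 F503982) (tt N98806 F503981) (tt N106028 (iv6 F503984)) (tt N99185 F503986))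
theorem Q117225 : ∀ i, i < 117225 → P i := stepQ 117224 Q117224 (allL N117224 (tt N90827 (iv1 D220483)) (tt N109527 F503987) (tt N99185 (iv2 F503992)) (tt N109501 (iv3 F503991)) (tt N99947 F503990) (tt N98807 F503989) (tt N121971 (iv6 F529379)) (tt N99187 F503988))
theorem Q117226 : ∀ i, i < 117226 → P i := stepQ 117225 Q117225 (allL N117225 (tt N99149 F503998) (tt N106629 (iv0 F503999)) (tt N106632 F503993) (tt N90828 F503994) (tt N90832 F503995) (tt N110018 F503996) (tt N90827 (iv6 D220484)) (tt N106630 F503997))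
theorem Q117227 : ∀ i, i < 117227 → P i := stepQ 117226 Q117226 (allL N117226 (tt N106029 (iv1 F504004)) (tt N90828 (iv0 D220485)) (tt N117165 (iv2 F504001)) (tt N106027 (iv3 F504002)) (tt N117159 F504000) (tt N121354 (iv5 F525932)) (tt N122003 (iv6 F529577)) (tt N106628 (iv7 F504003)))
theorem Q117228 : ∀ i, i < 117228 → P i := stepQ 117227 Q117227 (allL N117227 (tt N90828 (iv1 D220486)) (tt N106029 F504006) (tt N106628 F504010) (tt N122578 F532953) (tt N109504 F504008) (tt N121326 (iv5 F525778)) (tt N109503 (iv6 F504009)) (tt N117165 F504007))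
theorem Q117229 : ∀ i, i < 117229 → P i := stepQ 117228 Q117228 (allL N117228 (tt N106628 (iv1 F504016)) (tt N117165 F504017) (tt N106029 F504011) (tt N106630 F504012) (tt N90831 F504013) (tt N109839 F504014) (tt N109533 F504015) (tt N90828 (iv7 D220487)))
theorem Q117230 : ∀ i, i < 117230 → P i := stepQ 117229 Q117229 (allL N117229 (tt N116747 F504018) (tt N121946 (iv0 F529231)) (tt N121941 (iv2 F529197)) (tt N90829 (iv3 D220488)) (tt N122555 (iv4 F532818)) (tt N120173 (iv5 F519426)) (tt N107210 F504025) (tt N122451 (iv7 F532188)))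
theorem Q117231 : ∀ i, i < 117231 → P i := stepQ 117230 Q117230 (allL N117230 (tt N106599 (iv1 F504023)) (tt N106032 (iv0 F504022)) (tt N106636 F504019) (tt N107210 (iv3 F504024)) (tt N120019 (iv4 F518590)) (tt N107209 F504021) (tt N90829 (iv6 D220489)) (tt N106637 F504020))
theorem Q117232 : ∀ i, i < 117232 → P i := stepQ 117231 Q117231 (allL N117231 (tt N121155 (iv1 F524826)) (tt N121154 (iv0 F524825)) (tt N121156 (iv2 F524831)) (tt N120058 (iv3 F518819)) (tt N90834 (iv4 D220490)) (tt N114703 F504026) (tt N106571 F504027) (tt N114702 (iv7 F504028)))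
theorem Q117233 : ∀ i, i < 117233 → P i := stepQ 117232 Q117232 (allL N117232 (tt N107318 (iv1 F504034)) (tt N101430 F504035) (tt N101369 F504029) (tt N109534 F504030) (tt N114702 F504031) (tt N90835 F504032) (tt N101057 F504033) (tt N90834 (iv7 D220491)))
theorem Q117234 : ∀ i, i < 117234 → P i := stepQ 117233 Q117233 (allL N117233 (tt N121464 F526522) (tt N96294 (iv0 F504039)) (tt N95011 F504036) (tt N90840 (iv3 D220492)) (tt N122298 (iv4 F531265)) (tt N95010 F504037) (tt N116794 F504038) (tt N122369 (iv7 F531689)))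
theorem Q117235 : ∀ i, i < 117235 → P i := stepQ 117234 Q117234 (allL N117234 (tt N107025 F504043) (tt N107616 (iv0 F504044)) (tt N113430 F504040) (tt N90843 F504041) (tt N120113 (iv4 F519117)) (tt N90842 (iv5 D220493)) (tt N121337 (iv6 F525846)) (tt N116857 F504042))
theorem Q117236 : ∀ i, i < 117236 → P i := stepQ 117235 Q117235 (allL N117235 (tt N107697 F504048) (tt N99301 F504049) (tt N91932 F504045) (tt N112535 F504050) (tt N90843 (iv4 D220494)) (tt N91927 F504046) (tt N94598 (iv6 F504051)) (tt N93257 F504047))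
theorem Q117237 : ∀ i, i < 117237 → P i := stepQ 117236 Q117236 (allL N117236 (tt N114934 F504056) (tt N115072 (iv0 F504057)) (tt N115071 F504052) (tt N121337 (iv3 F525845)) (tt N94598 F504053) (tt N113897 F504054) (tt N90843 (iv6 D220495)) (tt N107694 F504055))
theorem Q117238 : ∀ i, i < 117238 → P i := stepQ 117237 Q117237 (allL N117237 (tt N98790 F504062) (tt N99137 F504063) (tt N99135 F504058) (tt N90937 F504064) (tt N90846 (iv4 D220496)) (tt N99036 F504059) (tt N99595 F504060) (tt N99134 F504061))
theorem Q117239 : ∀ i, i < 117239 → P i := stepQ 117238 Q117238 (allL N117238 (tt N121882 F528887) (tt N113198 F504065) (tt N121591 (iv2 F527204)) (tt N122298 F531266) (tt N90850 (iv4 D220497)) (tt N121961 (iv5 F529317)) (tt N119742 F517198) (tt N122203 (iv7 F530753)))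
theorem Q117240 : ∀ i, i < 117240 → P i := stepQ 117239 Q117239 (allL N117239 (tt N113198 F504066) (tt N121882 (iv0 F528886)) (tt N122203 F530751) (tt N120466 (iv3 F520924)) (tt N90851 (iv4 D220498)) (tt N120465 (iv5 F520923)) (tt N122005 (iv6 F529592)) (tt N121591 F527208))
theorem Q117241 : ∀ i, i < 117241 → P i := stepQ 117240 Q117240 (allL N117240 (tt N90853 (iv1 D220499)) (tt N121959 F529307) (tt N121920 (iv2 F529062)) (tt N117250 (iv3 F504117)) (tt N101296 F504067) (tt N117249 F504115) (tt N119748 F517224) (tt N121919 (iv7 F529058)))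

end Cfsg.Agent.Helper17.ONTC
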