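import Cfsg.Agent.Helper17.ONTC.Fin2

set_option autoImplicit false
set_option linter.all false
set_option maxRecDepth 100000

noncomputable section

namespace Cfsg.Agent.Helper17.ONTC

theorem N20001 : nd 20001 = n30285 := ndS (p := 9785) (l := 6) rfl N9785 D30285
theorem N20002 : nd 20002 = n30286 := ndS (p := 9786) (l := 0) rfl N9786 D30286
theorem N20003 : nd 20003 = n30287 := ndS (p := 9786) (l := 1) rfl N9786 D30287
theorem N20004 : nd 20004 = n30288 := ndS (p := 9786) (l := 5) rfl N9786 D30288
theorem N20005 : nd 20005 = n30289 := ndS (p := 9786) (l := 7) rfl N9786 D30289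
theorem N20006 : nd 20006 = n30290 := ndS (p := 9787) (l := 4) rfl N9787 D30290
theorem N20007 : nd 20007 = n30291 := ndS (p := 9787) (l := 5) rfl N9787 D30291
theorem N20008 : nd 20008 = n30292 := ndS (p := 9788) (l := 4) rfl N9788 D30292
theorem N20009 : nd 20009 = n30293 := ndS (p := 9790) (l := 3) rfl N9790 D30293
theorem N20010 : nd 20010 = n30294 := ndS (p := 9790) (l := 5) rfl N9790 D30294
theorem N20011 : nd 20011 = n30295 := ndS (p := 9790) (l := 6) rfl N9790 D30295
theorem N20012 : nd 20012 = n30296 := ndS (p := 9791) (l := 0) rfl N9791 D30296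
theorem N20013 : nd 20013 = n30297 := ndS (p := 9791) (l := 1) rfl N9791 D30297
theorem N20014 : nd 20014 = n30298 := ndS (p := 9791) (l := 7) rfl N9791 D30298
theorem N20015 : nd 20015 = n30299 := ndS (p := 9792) (l := 3) rfl N9792 D30299
theorem N20016 : nd 20016 = n30300 := ndS (p := 9792) (l := 5) rfl N9792 D30300
theorem N20017 : nd 20017 = n30301 := ndS (p := 9792) (l := 6) rfl N9792 D30301
theorem N20018 : nd 20018 = n30303 := ndS (p := 9794) (l := 3) rfl N9794 D30303
theorem N20019 : nd 20019 = n30304 := ndS (p := 9794) (l := 5) rfl N9794 D30304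
theorem N20020 : nd 20020 = n30305 := ndS (p := 9794) (l := 6) rfl N9794 D30305
theorem N20021 : nd 20021 = n30306 := ndS (p := 9795) (l := 3) rfl N9795 D30306
theorem N20022 : nd 20022 = n30307 := ndS (p := 9795) (l := 4) rfl N9795 D30307
theorem N20023 : nd 20023 = n30308 := ndS (p := 9795) (l := 5) rfl N9795 D30308
theorem N20024 : nd 20024 = n30309 := ndS (p := 9795) (l := 6) rfl N9795 D30309
theorem N20025 : nd 20025 = n30310 := ndS (p := 9796) (l := 0) rfl N9796 D30310
theorem N20026 : nd 20026 = n30311 := ndS (p := 9796) (l := 1) rfl N9796 D30311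
theorem N20027 : nd 20027 = n30312 := ndS (p := 9796) (l := 2) rfl N9796 D30312
theorem N20028 : nd 20028 = n30313 := ndS (p := 9796) (l := 5) rfl N9796 D30313
theorem N20029 : nd 20029 = n30314 := ndS (p := 9796) (l := 6) rfl N9796 D30314
theorem N20030 : nd 20030 = n30315 := ndS (p := 9797) (l := 0) rfl N9797 D30315
theorem N20031 : nd 20031 = n30316 := ndS (p := 9797) (l := 1) rfl N9797 D30316
theorem N20032 : nd 20032 = n30317 := ndS (p := 9797) (l := 6) rfl N9797 D30317
theorem N20033 : nd 20033 = n30318 := ndS (p := 9798) (l := 0) rfl N9798 D30318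
theorem N20034 : nd 20034 = n30319 := ndS (p := 9798) (l := 1) rfl N9798 D30319
theorem N20035 : nd 20035 = n30320 := ndS (p := 9798) (l := 5) rfl N9798 D30320
theorem N20036 : nd 20036 = n30321 := ndS (p := 9798) (l := 7) rfl N9798 D30321
theorem N20037 : nd 20037 = n30324 := ndS (p := 9799) (l := 4) rfl N9799 D30324
theorem N20038 : nd 20038 = n30325 := ndS (p := 9799) (l := 5) rfl N9799 D30325
theorem N20039 : nd 20039 = n30328 := ndS (p := 9800) (l := 4) rfl N9800 D30328
theorem N20040 : nd 20040 = n30330 := ndS (p := 9800) (l := 6) rfl N9800 D30330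
theorem N20041 : nd 20041 = n30331 := ndS (p := 9801) (l := 0) rfl N9801 D30331
theorem N20042 : nd 20042 = n30332 := ndS (p := 9801) (l := 1) rfl N9801 D30332
theorem N20043 : nd 20043 = n30333 := ndS (p := 9801) (l := 4) rfl N9801 D30333
theorem N20044 : nd 20044 = n30334 := ndS (p := 9801) (l := 7) rfl N9801 D30334
theorem N20045 : nd 20045 = n30335 := ndS (p := 9803) (l := 4) rfl N9803 D30335
theorem N20046 : nd 20046 = n30336 := ndS (p := 9804) (l := 1) rfl N9804 D30336
theorem N20047 : nd 20047 = n30337 := ndS (p := 9804) (l := 3) rfl N9804 D30337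
theorem N20048 : nd 20048 = n30338 := ndS (p := 9804) (l := 5) rfl N9804 D30338
theorem N20049 : nd 20049 = n30339 := ndS (p := 9805) (l := 6) rfl N9805 D30339
theorem N20050 : nd 20050 = n30340 := ndS (p := 9806) (l := 4) rfl N9806 D30340
theorem N20051 : nd 20051 = n30341 := ndS (p := 9806) (l := 6) rfl N9806 D30341
theorem N20052 : nd 20052 = n30342 := ndS (p := 9809) (l := 6) rfl N9809 D30342
theorem N20053 : nd 20053 = n30343 := ndS (p := 9810) (l := 3) rfl N9810 D30343
theorem N20054 : nd 20054 = n30344 := ndS (p := 9810) (l := 5) rfl N9810 D30344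
theorem N20055 : nd 20055 = n30345 := ndS (p := 9810) (l := 6) rfl N9810 D30345
theorem N20056 : nd 20056 = n30346 := ndS (p := 9811) (l := 0) rfl N9811 D30346
theorem N20057 : nd 20057 = n30347 := ndS (p := 9811) (l := 5) rfl N9811 D30347
theorem N20058 : nd 20058 = n30348 := ndS (p := 9811) (l := 7) rfl N9811 D30348
theorem N20059 : nd 20059 = n30349 := ndS (p := 9815) (l := 3) rfl N9815 D30349
theorem N20060 : nd 20060 = n30350 := ndS (p := 9815) (l := 6) rfl N9815 D30350
theorem N20061 : nd 20061 = n30351 := ndS (p := 9816) (l := 0) rfl N9816 D30351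
theorem N20062 : nd 20062 = n30352 := ndS (p := 9816) (l := 1) rfl N9816 D30352
theorem N20063 : nd 20063 = n30353 := ndS (p := 9816) (l := 5) rfl N9816 D30353
theorem N20064 : nd 20064 = n30354 := ndS (p := 9816) (l := 7) rfl N9816 D30354
theorem N20065 : nd 20065 = n30355 := ndS (p := 9817) (l := 4) rfl N9817 D30355
theorem N20066 : nd 20066 = n30356 := ndS (p := 9820) (l := 0) rfl N9820 D30356
theorem N20067 : nd 20067 = n30357 := ndS (p := 9820) (l := 1) rfl N9820 D30357
theorem N20068 : nd 20068 = n30358 := ndS (p := 9820) (l := 2) rfl N9820 D30358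
theorem N20069 : nd 20069 = n30359 := ndS (p := 9820) (l := 5) rfl N9820 D30359
theorem N20070 : nd 20070 = n30360 := ndS (p := 9820) (l := 6) rfl N9820 D30360
theorem N20071 : nd 20071 = n30361 := ndS (p := 9821) (l := 6) rfl N9821 D30361
theorem N20072 : nd 20072 = n30362 := ndS (p := 9822) (l := 0) rfl N9822 D30362
theorem N20073 : nd 20073 = n30363 := ndS (p := 9822) (l := 1) rfl N9822 D30363
theorem N20074 : nd 20074 = n30364 := ndS (p := 9822) (l := 5) rfl N9822 D30364
theorem N20075 : nd 20075 = n30365 := ndS (p := 9822) (l := 7) rfl N9822 D30365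
theorem N20076 : nd 20076 = n30366 := ndS (p := 9823) (l := 4) rfl N9823 D30366
theorem N20077 : nd 20077 = n30367 := ndS (p := 9823) (l := 6) rfl N9823 D30367
theorem N20078 : nd 20078 = n30368 := ndS (p := 9824) (l := 4) rfl N9824 D30368
theorem N20079 : nd 20079 = n30369 := ndS (p := 9825) (l := 0) rfl N9825 D30369
theorem N20080 : nd 20080 = n30370 := ndS (p := 9825) (l := 1) rfl N9825 D30370
theorem N20081 : nd 20081 = n30371 := ndS (p := 9825) (l := 4) rfl N9825 D30371
theorem N20082 : nd 20082 = n30372 := ndS (p := 9825) (l := 7) rfl N9825 D30372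
theorem N20083 : nd 20083 = n30373 := ndS (p := 9827) (l := 0) rfl N9827 D30373
theorem N20084 : nd 20084 = n30374 := ndS (p := 9827) (l := 1) rfl N9827 D30374
theorem N20085 : nd 20085 = n30375 := ndS (p := 9827) (l := 3) rfl N9827 D30375
theorem N20086 : nd 20086 = n30376 := ndS (p := 9827) (l := 5) rfl N9827 D30376
theorem N20087 : nd 20087 = n30377 := ndS (p := 9828) (l := 6) rfl N9828 D30377
theorem N20088 : nd 20088 = n30378 := ndS (p := 9829) (l := 3) rfl N9829 D30378
theorem N20089 : nd 20089 = n30379 := ndS (p := 9829) (l := 5) rfl N9829 D30379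
theorem N20090 : nd 20090 = n30380 := ndS (p := 9829) (l := 6) rfl N9829 D30380
theorem N20091 : nd 20091 = n30381 := ndS (p := 9831) (l := 0) rfl N9831 D30381
theorem N20092 : nd 20092 = n30382 := ndS (p := 9831) (l := 1) rfl N9831 D30382
theorem N20093 : nd 20093 = n30383 := ndS (p := 9831) (l := 5) rfl N9831 D30383
theorem N20094 : nd 20094 = n30384 := ndS (p := 9831) (l := 7) rfl N9831 D30384
theorem N20095 : nd 20095 = n30385 := ndS (p := 9832) (l := 3) rfl N9832 D30385
theorem N20096 : nd 20096 = n30386 := ndS (p := 9832) (l := 6) rfl N9832 D30386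
theorem N20097 : nd 20097 = n30387 := ndS (p := 9833) (l := 3) rfl N9833 D30387
theorem N20098 : nd 20098 = n30388 := ndS (p := 9834) (l := 0) rfl N9834 D30388
theorem N20099 : nd 20099 = n30389 := ndS (p := 9834) (l := 1) rfl N9834 D30389
theorem N20100 : nd 20100 = n30390 := ndS (p := 9834) (l := 2) rfl N9834 D30390
theorem N20101 : nd 20101 = n30391 := ndS (p := 9834) (l := 5) rfl N9834 D30391
theorem N20102 : nd 20102 = n30392 := ndS (p := 9834) (l := 6) rfl N9834 D30392
theorem N20103 : nd 20103 = n30393 := ndS (p := 9835) (l := 0) rfl N9835 D30393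
theorem N20104 : nd 20104 = n30394 := ndS (p := 9835) (l := 1) rfl N9835 D30394
theorem N20105 : nd 20105 = n30395 := ndS (p := 9835) (l := 6) rfl N9835 D30395
theorem N20106 : nd 20106 = n30396 := ndS (p := 9836) (l := 0) rfl N9836 D30396
theorem N20107 : nd 20107 = n30397 := ndS (p := 9836) (l := 1) rfl N9836 D30397
theorem N20108 : nd 20108 = n30398 := ndS (p := 9836) (l := 5) rfl N9836 D30398
theorem N20109 : nd 20109 = n30399 := ndS (p := 9836) (l := 7) rfl N9836 D30399
theorem N20110 : nd 20110 = n30400 := ndS (p := 9838) (l := 6) rfl N9838 D30400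
theorem N20111 : nd 20111 = n30403 := ndS (p := 9840) (l := 4) rfl N9840 D30403
theorem N20112 : nd 20112 = n30404 := ndS (p := 9840) (l := 5) rfl N9840 D30404
theorem N20113 : nd 20113 = n30408 := ndS (p := 9841) (l := 4) rfl N9841 D30408
theorem N20114 : nd 20114 = n30409 := ndS (p := 9841) (l := 5) rfl N9841 D30409
theorem N20115 : nd 20115 = n30410 := ndS (p := 9841) (l := 6) rfl N9841 D30410
theorem N20116 : nd 20116 = n30411 := ndS (p := 9842) (l := 4) rfl N9842 D30411
theorem N20117 : nd 20117 = n30413 := ndS (p := 9844) (l := 6) rfl N9844 D30413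
theorem N20118 : nd 20118 = n30414 := ndS (p := 9845) (l := 3) rfl N9845 D30414
theorem N20119 : nd 20119 = n30415 := ndS (p := 9845) (l := 5) rfl N9845 D30415
theorem N20120 : nd 20120 = n30416 := ndS (p := 9845) (l := 6) rfl N9845 D30416
theorem N20121 : nd 20121 = n30417 := ndS (p := 9846) (l := 0) rfl N9846 D30417
theorem N20122 : nd 20122 = n30418 := ndS (p := 9846) (l := 1) rfl N9846 D30418
theorem N20123 : nd 20123 = n30419 := ndS (p := 9846) (l := 7) rfl N9846 D30419
theorem N20124 : nd 20124 = n30420 := ndS (p := 9847) (l := 0) rfl N9847 D30420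
theorem N20125 : nd 20125 = n30421 := ndS (p := 9847) (l := 1) rfl N9847 D30421
theorem N20126 : nd 20126 = n30422 := ndS (p := 9847) (l := 2) rfl N9847 D30422
theorem N20127 : nd 20127 = n30423 := ndS (p := 9847) (l := 5) rfl N9847 D30423
theorem N20128 : nd 20128 = n30425 := ndS (p := 9848) (l := 6) rfl N9848 D30425
theorem N20129 : nd 20129 = n30426 := ndS (p := 9849) (l := 0) rfl N9849 D30426
theorem N20130 : nd 20130 = n30427 := ndS (p := 9849) (l := 1) rfl N9849 D30427
theorem N20131 : nd 20131 = n30429 := ndS (p := 9849) (l := 7) rfl N9849 D30429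
theorem N20132 : nd 20132 = n30432 := ndS (p := 9851) (l := 4) rfl N9851 D30432
theorem N20133 : nd 20133 = n30434 := ndS (p := 9851) (l := 6) rfl N9851 D30434
theorem N20134 : nd 20134 = n30437 := ndS (p := 9852) (l := 4) rfl N9852 D30437
theorem N20135 : nd 20135 = n30440 := ndS (p := 9853) (l := 0) rfl N9853 D30440
theorem N20136 : nd 20136 = n30441 := ndS (p := 9853) (l := 1) rfl N9853 D30441
theorem N20137 : nd 20137 = n30442 := ndS (p := 9853) (l := 4) rfl N9853 D30442
theorem N20138 : nd 20138 = n30443 := ndS (p := 9853) (l := 7) rfl N9853 D30443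
theorem N20139 : nd 20139 = n30444 := ndS (p := 9855) (l := 0) rfl N9855 D30444
theorem N20140 : nd 20140 = n30445 := ndS (p := 9855) (l := 1) rfl N9855 D30445
theorem N20141 : nd 20141 = n30446 := ndS (p := 9855) (l := 2) rfl N9855 D30446
theorem N20142 : nd 20142 = n30447 := ndS (p := 9855) (l := 4) rfl N9855 D30447
theorem N20143 : nd 20143 = n30448 := ndS (p := 9855) (l := 5) rfl N9855 D30448
theorem N20144 : nd 20144 = n30449 := ndS (p := 9855) (l := 6) rfl N9855 D30449
theorem N20145 : nd 20145 = n30450 := ndS (p := 9856) (l := 3) rfl N9856 D30450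
theorem N20146 : nd 20146 = n30451 := ndS (p := 9856) (l := 6) rfl N9856 D30451
theorem N20147 : nd 20147 = n30452 := ndS (p := 9857) (l := 0) rfl N9857 D30452
theorem N20148 : nd 20148 = n30453 := ndS (p := 9857) (l := 1) rfl N9857 D30453
theorem N20149 : nd 20149 = n30454 := ndS (p := 9857) (l := 6) rfl N9857 D30454
theorem N20150 : nd 20150 = n30458 := ndS (p := 9858) (l := 7) rfl N9858 D30458
theorem N20151 : nd 20151 = n30459 := ndS (p := 9859) (l := 0) rfl N9859 D30459
theorem N20152 : nd 20152 = n30460 := ndS (p := 9859) (l := 1) rfl N9859 D30460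
theorem N20153 : nd 20153 = n30461 := ndS (p := 9859) (l := 2) rfl N9859 D30461
theorem N20154 : nd 20154 = n30462 := ndS (p := 9859) (l := 4) rfl N9859 D30462
theorem N20155 : nd 20155 = n30463 := ndS (p := 9859) (l := 5) rfl N9859 D30463
theorem N20156 : nd 20156 = n30464 := ndS (p := 9859) (l := 6) rfl N9859 D30464
theorem N20157 : nd 20157 = n30465 := ndS (p := 9860) (l := 6) rfl N9860 D30465
theorem N20158 : nd 20158 = n30466 := ndS (p := 9861) (l := 6) rfl N9861 D30466
theorem N20159 : nd 20159 = n30469 := ndS (p := 9862) (l := 5) rfl N9862 D30469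
theorem N20160 : nd 20160 = n30470 := ndS (p := 9862) (l := 7) rfl N9862 D30470
theorem N20161 : nd 20161 = n30471 := ndS (p := 9863) (l := 0) rfl N9863 D30471
theorem N20162 : nd 20162 = n30472 := ndS (p := 9863) (l := 2) rfl N9863 D30472
theorem N20163 : nd 20163 = n30473 := ndS (p := 9863) (l := 3) rfl N9863 D30473
theorem N20164 : nd 20164 = n30474 := ndS (p := 9863) (l := 4) rfl N9863 D30474
theorem N20165 : nd 20165 = n30475 := ndS (p := 9863) (l := 5) rfl N9863 D30475
theorem N20166 : nd 20166 = n30476 := ndS (p := 9863) (l := 6) rfl N9863 D30476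
theorem N20167 : nd 20167 = n30477 := ndS (p := 9863) (l := 7) rfl N9863 D30477
theorem N20168 : nd 20168 = n30478 := ndS (p := 9864) (l := 3) rfl N9864 D30478
theorem N20169 : nd 20169 = n30479 := ndS (p := 9864) (l := 4) rfl N9864 D30479
theorem N20170 : nd 20170 = n30480 := ndS (p := 9864) (l := 5) rfl N9864 D30480
theorem N20171 : nd 20171 = n30481 := ndS (p := 9864) (l := 6) rfl N9864 D30481
theorem N20172 : nd 20172 = n30484 := ndS (p := 9865) (l := 5) rfl N9865 D30484
theorem N20173 : nd 20173 = n30485 := ndS (p := 9866) (l := 0) rfl N9866 D30485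
theorem N20174 : nd 20174 = n30486 := ndS (p := 9866) (l := 1) rfl N9866 D30486
theorem N20175 : nd 20175 = n30487 := ndS (p := 9866) (l := 4) rfl N9866 D30487
theorem N20176 : nd 20176 = n30488 := ndS (p := 9866) (l := 6) rfl N9866 D30488
theorem N20177 : nd 20177 = n30489 := ndS (p := 9866) (l := 7) rfl N9866 D30489
theorem N20178 : nd 20178 = n30490 := ndS (p := 9867) (l := 6) rfl N9867 D30490
theorem N20179 : nd 20179 = n30492 := ndS (p := 9868) (l := 3) rfl N9868 D30492
theorem N20180 : nd 20180 = n30493 := ndS (p := 9868) (l := 6) rfl N9868 D30493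
theorem N20181 : nd 20181 = n30495 := ndS (p := 9869) (l := 3) rfl N9869 D30495
theorem N20182 : nd 20182 = n30496 := ndS (p := 9869) (l := 6) rfl N9869 D30496
theorem N20183 : nd 20183 = n30497 := ndS (p := 9870) (l := 3) rfl N9870 D30497
theorem N20184 : nd 20184 = n30498 := ndS (p := 9870) (l := 6) rfl N9870 D30498
theorem N20185 : nd 20185 = n30499 := ndS (p := 9871) (l := 0) rfl N9871 D30499
theorem N20186 : nd 20186 = n30500 := ndS (p := 9871) (l := 1) rfl N9871 D30500
theorem N20187 : nd 20187 = n30501 := ndS (p := 9871) (l := 7) rfl N9871 D30501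
theorem N20188 : nd 20188 = n30502 := ndS (p := 9872) (l := 6) rfl N9872 D30502
theorem N20189 : nd 20189 = n30503 := ndS (p := 9873) (l := 0) rfl N9873 D30503
theorem N20190 : nd 20190 = n30504 := ndS (p := 9873) (l := 1) rfl N9873 D30504
theorem N20191 : nd 20191 = n30505 := ndS (p := 9873) (l := 5) rfl N9873 D30505
theorem N20192 : nd 20192 = n30507 := ndS (p := 9874) (l := 3) rfl N9874 D30507
theorem N20193 : nd 20193 = n30508 := ndS (p := 9874) (l := 4) rfl N9874 D30508
theorem N20194 : nd 20194 = n30509 := ndS (p := 9874) (l := 5) rfl N9874 D30509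
theorem N20195 : nd 20195 = n30510 := ndS (p := 9874) (l := 6) rfl N9874 D30510
theorem N20196 : nd 20196 = n30512 := ndS (p := 9875) (l := 3) rfl N9875 D30512
theorem N20197 : nd 20197 = n30513 := ndS (p := 9875) (l := 4) rfl N9875 D30513
theorem N20198 : nd 20198 = n30514 := ndS (p := 9875) (l := 5) rfl N9875 D30514
theorem N20199 : nd 20199 = n30515 := ndS (p := 9875) (l := 6) rfl N9875 D30515
theorem N20200 : nd 20200 = n30516 := ndS (p := 9876) (l := 4) rfl N9876 D30516
theorem N20201 : nd 20201 = n30517 := ndS (p := 9876) (l := 6) rfl N9876 D30517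
theorem N20202 : nd 20202 = n30518 := ndS (p := 9877) (l := 4) rfl N9877 D30518
theorem N20203 : nd 20203 = n30519 := ndS (p := 9878) (l := 0) rfl N9878 D30519
theorem N20204 : nd 20204 = n30520 := ndS (p := 9878) (l := 1) rfl N9878 D30520
theorem N20205 : nd 20205 = n30521 := ndS (p := 9878) (l := 3) rfl N9878 D30521
theorem N20206 : nd 20206 = n30522 := ndS (p := 9878) (l := 5) rfl N9878 D30522
theorem N20207 : nd 20207 = n30523 := ndS (p := 9878) (l := 6) rfl N9878 D30523
theorem N20208 : nd 20208 = n30524 := ndS (p := 9879) (l := 0) rfl N9879 D30524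
theorem N20209 : nd 20209 = n30525 := ndS (p := 9879) (l := 1) rfl N9879 D30525
theorem N20210 : nd 20210 = n30526 := ndS (p := 9879) (l := 7) rfl N9879 D30526
theorem N20211 : nd 20211 = n30527 := ndS (p := 9880) (l := 3) rfl N9880 D30527
theorem N20212 : nd 20212 = n30530 := ndS (p := 9882) (l := 0) rfl N9882 D30530
theorem N20213 : nd 20213 = n30531 := ndS (p := 9882) (l := 1) rfl N9882 D30531
theorem N20214 : nd 20214 = n30532 := ndS (p := 9882) (l := 2) rfl N9882 D30532
theorem N20215 : nd 20215 = n30533 := ndS (p := 9882) (l := 5) rfl N9882 D30533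
theorem N20216 : nd 20216 = n30534 := ndS (p := 9882) (l := 6) rfl N9882 D30534
theorem N20217 : nd 20217 = n30546 := ndS (p := 9886) (l := 6) rfl N9886 D30546
theorem N20218 : nd 20218 = n30547 := ndS (p := 9888) (l := 4) rfl N9888 D30547
theorem N20219 : nd 20219 = n30548 := ndS (p := 9889) (l := 0) rfl N9889 D30548
theorem N20220 : nd 20220 = n30549 := ndS (p := 9889) (l := 1) rfl N9889 D30549
theorem N20221 : nd 20221 = n30550 := ndS (p := 9889) (l := 3) rfl N9889 D30550
theorem N20222 : nd 20222 = n30551 := ndS (p := 9889) (l := 5) rfl N9889 D30551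
theorem N20223 : nd 20223 = n30552 := ndS (p := 9889) (l := 6) rfl N9889 D30552
theorem N20224 : nd 20224 = n30553 := ndS (p := 9890) (l := 0) rfl N9890 D30553
theorem N20225 : nd 20225 = n30554 := ndS (p := 9890) (l := 7) rfl N9890 D30554
theorem N20226 : nd 20226 = n30555 := ndS (p := 9891) (l := 0) rfl N9891 D30555
theorem N20227 : nd 20227 = n30556 := ndS (p := 9891) (l := 1) rfl N9891 D30556
theorem N20228 : nd 20228 = n30557 := ndS (p := 9891) (l := 2) rfl N9891 D30557
theorem N20229 : nd 20229 = n30558 := ndS (p := 9891) (l := 5) rfl N9891 D30558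
theorem N20230 : nd 20230 = n30559 := ndS (p := 9891) (l := 6) rfl N9891 D30559
theorem N20231 : nd 20231 = n30561 := ndS (p := 9893) (l := 0) rfl N9893 D30561
theorem N20232 : nd 20232 = n30562 := ndS (p := 9893) (l := 5) rfl N9893 D30562
theorem N20233 : nd 20233 = n30563 := ndS (p := 9893) (l := 7) rfl N9893 D30563
theorem N20234 : nd 20234 = n30564 := ndS (p := 9894) (l := 4) rfl N9894 D30564
theorem N20235 : nd 20235 = n30565 := ndS (p := 9896) (l := 0) rfl N9896 D30565
theorem N20236 : nd 20236 = n30566 := ndS (p := 9896) (l := 3) rfl N9896 D30566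
theorem N20237 : nd 20237 = n30567 := ndS (p := 9896) (l := 5) rfl N9896 D30567
theorem N20238 : nd 20238 = n30568 := ndS (p := 9896) (l := 6) rfl N9896 D30568
theorem N20239 : nd 20239 = n30569 := ndS (p := 9897) (l := 0) rfl N9897 D30569
theorem N20240 : nd 20240 = n30570 := ndS (p := 9897) (l := 1) rfl N9897 D30570
theorem N20241 : nd 20241 = n30571 := ndS (p := 9897) (l := 7) rfl N9897 D30571
theorem N20242 : nd 20242 = n30572 := ndS (p := 9898) (l := 0) rfl N9898 D30572
theorem N20243 : nd 20243 = n30573 := ndS (p := 9898) (l := 1) rfl N9898 D30573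
theorem N20244 : nd 20244 = n30574 := ndS (p := 9898) (l := 2) rfl N9898 D30574
theorem N20245 : nd 20245 = n30575 := ndS (p := 9898) (l := 5) rfl N9898 D30575
theorem N20246 : nd 20246 = n30576 := ndS (p := 9898) (l := 6) rfl N9898 D30576
theorem N20247 : nd 20247 = n30578 := ndS (p := 9900) (l := 0) rfl N9900 D30578
theorem N20248 : nd 20248 = n30579 := ndS (p := 9900) (l := 1) rfl N9900 D30579
theorem N20249 : nd 20249 = n30580 := ndS (p := 9900) (l := 5) rfl N9900 D30580
theorem N20250 : nd 20250 = n30583 := ndS (p := 9901) (l := 3) rfl N9901 D30583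
theorem N20251 : nd 20251 = n30584 := ndS (p := 9901) (l := 4) rfl N9901 D30584
theorem N20252 : nd 20252 = n30585 := ndS (p := 9901) (l := 5) rfl N9901 D30585
theorem N20253 : nd 20253 = n30588 := ndS (p := 9902) (l := 4) rfl N9902 D30588
theorem N20254 : nd 20254 = n30589 := ndS (p := 9902) (l := 6) rfl N9902 D30589
theorem N20255 : nd 20255 = n30590 := ndS (p := 9904) (l := 3) rfl N9904 D30590
theorem N20256 : nd 20256 = n30591 := ndS (p := 9904) (l := 5) rfl N9904 D30591
theorem N20257 : nd 20257 = n30592 := ndS (p := 9904) (l := 6) rfl N9904 D30592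
theorem N20258 : nd 20258 = n30593 := ndS (p := 9905) (l := 0) rfl N9905 D30593
theorem N20259 : nd 20259 = n30594 := ndS (p := 9905) (l := 1) rfl N9905 D30594
theorem N20260 : nd 20260 = n30595 := ndS (p := 9905) (l := 7) rfl N9905 D30595
theorem N20261 : nd 20261 = n30596 := ndS (p := 9906) (l := 0) rfl N9906 D30596
theorem N20262 : nd 20262 = n30597 := ndS (p := 9906) (l := 1) rfl N9906 D30597
theorem N20263 : nd 20263 = n30598 := ndS (p := 9906) (l := 2) rfl N9906 D30598
theorem N20264 : nd 20264 = n30599 := ndS (p := 9906) (l := 5) rfl N9906 D30599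
theorem N20265 : nd 20265 = n30609 := ndS (p := 9908) (l := 6) rfl N9908 D30609
theorem N20266 : nd 20266 = n30613 := ndS (p := 9911) (l := 0) rfl N9911 D30613
theorem N20267 : nd 20267 = n30615 := ndS (p := 9911) (l := 2) rfl N9911 D30615
theorem N20268 : nd 20268 = n30616 := ndS (p := 9911) (l := 4) rfl N9911 D30616
theorem N20269 : nd 20269 = n30618 := ndS (p := 9911) (l := 6) rfl N9911 D30618
theorem N20270 : nd 20270 = n30619 := ndS (p := 9912) (l := 6) rfl N9912 D30619
theorem N20271 : nd 20271 = n30621 := ndS (p := 9913) (l := 5) rfl N9913 D30621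
theorem N20272 : nd 20272 = n30623 := ndS (p := 9914) (l := 0) rfl N9914 D30623
theorem N20273 : nd 20273 = n30624 := ndS (p := 9914) (l := 1) rfl N9914 D30624
theorem N20274 : nd 20274 = n30625 := ndS (p := 9914) (l := 2) rfl N9914 D30625
theorem N20275 : nd 20275 = n30626 := ndS (p := 9914) (l := 4) rfl N9914 D30626
theorem N20276 : nd 20276 = n30627 := ndS (p := 9914) (l := 5) rfl N9914 D30627
theorem N20277 : nd 20277 = n30634 := ndS (p := 9916) (l := 0) rfl N9916 D30634
theorem N20278 : nd 20278 = n30635 := ndS (p := 9916) (l := 2) rfl N9916 D30635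
theorem N20279 : nd 20279 = n30636 := ndS (p := 9916) (l := 3) rfl N9916 D30636
theorem N20280 : nd 20280 = n30637 := ndS (p := 9916) (l := 4) rfl N9916 D30637
theorem N20281 : nd 20281 = n30638 := ndS (p := 9916) (l := 5) rfl N9916 D30638
theorem N20282 : nd 20282 = n30639 := ndS (p := 9916) (l := 6) rfl N9916 D30639
theorem N20283 : nd 20283 = n30640 := ndS (p := 9916) (l := 7) rfl N9916 D30640
theorem N20284 : nd 20284 = n30641 := ndS (p := 9917) (l := 3) rfl N9917 D30641
theorem N20285 : nd 20285 = n30642 := ndS (p := 9917) (l := 4) rfl N9917 D30642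
theorem N20286 : nd 20286 = n30643 := ndS (p := 9917) (l := 5) rfl N9917 D30643
theorem N20287 : nd 20287 = n30644 := ndS (p := 9917) (l := 6) rfl N9917 D30644
theorem N20288 : nd 20288 = n30647 := ndS (p := 9918) (l := 5) rfl N9918 D30647
theorem N20289 : nd 20289 = n30648 := ndS (p := 9919) (l := 0) rfl N9919 D30648
theorem N20290 : nd 20290 = n30649 := ndS (p := 9919) (l := 1) rfl N9919 D30649
theorem N20291 : nd 20291 = n30650 := ndS (p := 9919) (l := 4) rfl N9919 D30650
theorem N20292 : nd 20292 = n30651 := ndS (p := 9919) (l := 6) rfl N9919 D30651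
theorem N20293 : nd 20293 = n30652 := ndS (p := 9920) (l := 6) rfl N9920 D30652
theorem N20294 : nd 20294 = n30653 := ndS (p := 9921) (l := 3) rfl N9921 D30653
theorem N20295 : nd 20295 = n30655 := ndS (p := 9922) (l := 0) rfl N9922 D30655
theorem N20296 : nd 20296 = n30656 := ndS (p := 9922) (l := 1) rfl N9922 D30656
theorem N20297 : nd 20297 = n30657 := ndS (p := 9922) (l := 7) rfl N9922 D30657
theorem N20298 : nd 20298 = n30658 := ndS (p := 9923) (l := 5) rfl N9923 D30658
theorem N20299 : nd 20299 = n30659 := ndS (p := 9924) (l := 6) rfl N9924 D30659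
theorem N20300 : nd 20300 = n30660 := ndS (p := 9925) (l := 3) rfl N9925 D30660
theorem N20301 : nd 20301 = n30661 := ndS (p := 9925) (l := 5) rfl N9925 D30661
theorem N20302 : nd 20302 = n30662 := ndS (p := 9925) (l := 6) rfl N9925 D30662
theorem N20303 : nd 20303 = n30663 := ndS (p := 9926) (l := 0) rfl N9926 D30663
theorem N20304 : nd 20304 = n30665 := ndS (p := 9927) (l := 3) rfl N9927 D30665
theorem N20305 : nd 20305 = n30666 := ndS (p := 9927) (l := 5) rfl N9927 D30666
theorem N20306 : nd 20306 = n30667 := ndS (p := 9927) (l := 6) rfl N9927 D30667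
theorem N20307 : nd 20307 = n30668 := ndS (p := 9928) (l := 0) rfl N9928 D30668
theorem N20308 : nd 20308 = n30669 := ndS (p := 9928) (l := 1) rfl N9928 D30669
theorem N20309 : nd 20309 = n30670 := ndS (p := 9928) (l := 7) rfl N9928 D30670
theorem N20310 : nd 20310 = n30671 := ndS (p := 9931) (l := 1) rfl N9931 D30671
theorem N20311 : nd 20311 = n30672 := ndS (p := 9931) (l := 3) rfl N9931 D30672
theorem N20312 : nd 20312 = n30673 := ndS (p := 9931) (l := 5) rfl N9931 D30673
theorem N20313 : nd 20313 = n30674 := ndS (p := 9931) (l := 6) rfl N9931 D30674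
theorem N20314 : nd 20314 = n30675 := ndS (p := 9932) (l := 0) rfl N9932 D30675
theorem N20315 : nd 20315 = n30676 := ndS (p := 9932) (l := 1) rfl N9932 D30676
theorem N20316 : nd 20316 = n30677 := ndS (p := 9932) (l := 7) rfl N9932 D30677
theorem N20317 : nd 20317 = n30678 := ndS (p := 9933) (l := 4) rfl N9933 D30678
theorem N20318 : nd 20318 = n30679 := ndS (p := 9933) (l := 6) rfl N9933 D30679
theorem N20319 : nd 20319 = n30680 := ndS (p := 9934) (l := 3) rfl N9934 D30680
theorem N20320 : nd 20320 = n30681 := ndS (p := 9934) (l := 5) rfl N9934 D30681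
theorem N20321 : nd 20321 = n30682 := ndS (p := 9934) (l := 6) rfl N9934 D30682
theorem N20322 : nd 20322 = n30683 := ndS (p := 9935) (l := 1) rfl N9935 D30683
theorem N20323 : nd 20323 = n30684 := ndS (p := 9935) (l := 7) rfl N9935 D30684
theorem N20324 : nd 20324 = n30685 := ndS (p := 9936) (l := 3) rfl N9936 D30685
theorem N20325 : nd 20325 = n30686 := ndS (p := 9936) (l := 5) rfl N9936 D30686
theorem N20326 : nd 20326 = n30687 := ndS (p := 9936) (l := 6) rfl N9936 D30687
theorem N20327 : nd 20327 = n30688 := ndS (p := 9937) (l := 3) rfl N9937 D30688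
theorem N20328 : nd 20328 = n30689 := ndS (p := 9937) (l := 5) rfl N9937 D30689
theorem N20329 : nd 20329 = n30690 := ndS (p := 9937) (l := 6) rfl N9937 D30690
theorem N20330 : nd 20330 = n30691 := ndS (p := 9938) (l := 0) rfl N9938 D30691
theorem N20331 : nd 20331 = n30692 := ndS (p := 9938) (l := 1) rfl N9938 D30692
theorem N20332 : nd 20332 = n30693 := ndS (p := 9938) (l := 2) rfl N9938 D30693
theorem N20333 : nd 20333 = n30694 := ndS (p := 9938) (l := 5) rfl N9938 D30694
theorem N20334 : nd 20334 = n30695 := ndS (p := 9938) (l := 6) rfl N9938 D30695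
theorem N20335 : nd 20335 = n30696 := ndS (p := 9939) (l := 6) rfl N9939 D30696
theorem N20336 : nd 20336 = n30697 := ndS (p := 9940) (l := 0) rfl N9940 D30697
theorem N20337 : nd 20337 = n30698 := ndS (p := 9940) (l := 1) rfl N9940 D30698
theorem N20338 : nd 20338 = n30699 := ndS (p := 9940) (l := 5) rfl N9940 D30699
theorem N20339 : nd 20339 = n30700 := ndS (p := 9940) (l := 7) rfl N9940 D30700
theorem N20340 : nd 20340 = n30702 := ndS (p := 9941) (l := 3) rfl N9941 D30702
theorem N20341 : nd 20341 = n30703 := ndS (p := 9941) (l := 4) rfl N9941 D30703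
theorem N20342 : nd 20342 = n30704 := ndS (p := 9941) (l := 5) rfl N9941 D30704
theorem N20343 : nd 20343 = n30706 := ndS (p := 9942) (l := 3) rfl N9942 D30706
theorem N20344 : nd 20344 = n30707 := ndS (p := 9942) (l := 4) rfl N9942 D30707
theorem N20345 : nd 20345 = n30708 := ndS (p := 9942) (l := 5) rfl N9942 D30708
theorem N20346 : nd 20346 = n30709 := ndS (p := 9942) (l := 6) rfl N9942 D30709
theorem N20347 : nd 20347 = n30710 := ndS (p := 9944) (l := 0) rfl N9944 D30710
theorem N20348 : nd 20348 = n30711 := ndS (p := 9945) (l := 4) rfl N9945 D30711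
theorem N20349 : nd 20349 = n30712 := ndS (p := 9945) (l := 6) rfl N9945 D30712
theorem N20350 : nd 20350 = n30713 := ndS (p := 9946) (l := 4) rfl N9946 D30713
theorem N20351 : nd 20351 = n30714 := ndS (p := 9946) (l := 6) rfl N9946 D30714
theorem N20352 : nd 20352 = n30715 := ndS (p := 9947) (l := 3) rfl N9947 D30715
theorem N20353 : nd 20353 = n30716 := ndS (p := 9947) (l := 6) rfl N9947 D30716
theorem N20354 : nd 20354 = n30717 := ndS (p := 9948) (l := 4) rfl N9948 D30717
theorem N20355 : nd 20355 = n30718 := ndS (p := 9950) (l := 0) rfl N9950 D30718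
theorem N20356 : nd 20356 = n30719 := ndS (p := 9950) (l := 3) rfl N9950 D30719
theorem N20357 : nd 20357 = n30720 := ndS (p := 9950) (l := 5) rfl N9950 D30720
theorem N20358 : nd 20358 = n30721 := ndS (p := 9950) (l := 6) rfl N9950 D30721
theorem N20359 : nd 20359 = n30722 := ndS (p := 9951) (l := 0) rfl N9951 D30722
theorem N20360 : nd 20360 = n30723 := ndS (p := 9951) (l := 1) rfl N9951 D30723
theorem N20361 : nd 20361 = n30724 := ndS (p := 9951) (l := 7) rfl N9951 D30724
theorem N20362 : nd 20362 = n30725 := ndS (p := 9952) (l := 0) rfl N9952 D30725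
theorem N20363 : nd 20363 = n30726 := ndS (p := 9952) (l := 1) rfl N9952 D30726
theorem N20364 : nd 20364 = n30727 := ndS (p := 9952) (l := 2) rfl N9952 D30727
theorem N20365 : nd 20365 = n30728 := ndS (p := 9952) (l := 5) rfl N9952 D30728
theorem N20366 : nd 20366 = n30729 := ndS (p := 9952) (l := 6) rfl N9952 D30729
theorem N20367 : nd 20367 = n30730 := ndS (p := 9953) (l := 6) rfl N9953 D30730
theorem N20368 : nd 20368 = n30731 := ndS (p := 9954) (l := 0) rfl N9954 D30731
theorem N20369 : nd 20369 = n30732 := ndS (p := 9954) (l := 1) rfl N9954 D30732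
theorem N20370 : nd 20370 = n30733 := ndS (p := 9954) (l := 5) rfl N9954 D30733
theorem N20371 : nd 20371 = n30734 := ndS (p := 9954) (l := 7) rfl N9954 D30734
theorem N20372 : nd 20372 = n30735 := ndS (p := 9955) (l := 3) rfl N9955 D30735
theorem N20373 : nd 20373 = n30736 := ndS (p := 9955) (l := 4) rfl N9955 D30736
theorem N20374 : nd 20374 = n30738 := ndS (p := 9956) (l := 4) rfl N9956 D30738
theorem N20375 : nd 20375 = n30739 := ndS (p := 9958) (l := 0) rfl N9958 D30739
theorem N20376 : nd 20376 = n30740 := ndS (p := 9958) (l := 1) rfl N9958 D30740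
theorem N20377 : nd 20377 = n30741 := ndS (p := 9958) (l := 2) rfl N9958 D30741
theorem N20378 : nd 20378 = n30742 := ndS (p := 9958) (l := 5) rfl N9958 D30742
theorem N20379 : nd 20379 = n30743 := ndS (p := 9958) (l := 6) rfl N9958 D30743
theorem N20380 : nd 20380 = n30744 := ndS (p := 9959) (l := 6) rfl N9959 D30744
theorem N20381 : nd 20381 = n30745 := ndS (p := 9960) (l := 1) rfl N9960 D30745
theorem N20382 : nd 20382 = n30746 := ndS (p := 9960) (l := 5) rfl N9960 D30746
theorem N20383 : nd 20383 = n30747 := ndS (p := 9961) (l := 0) rfl N9961 D30747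
theorem N20384 : nd 20384 = n30748 := ndS (p := 9961) (l := 1) rfl N9961 D30748
theorem N20385 : nd 20385 = n30749 := ndS (p := 9961) (l := 2) rfl N9961 D30749
theorem N20386 : nd 20386 = n30750 := ndS (p := 9961) (l := 4) rfl N9961 D30750
theorem N20387 : nd 20387 = n30751 := ndS (p := 9961) (l := 5) rfl N9961 D30751
theorem N20388 : nd 20388 = n30752 := ndS (p := 9961) (l := 6) rfl N9961 D30752
theorem N20389 : nd 20389 = n30753 := ndS (p := 9962) (l := 6) rfl N9962 D30753
theorem N20390 : nd 20390 = n30755 := ndS (p := 9963) (l := 5) rfl N9963 D30755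
theorem N20391 : nd 20391 = n30756 := ndS (p := 9963) (l := 7) rfl N9963 D30756
theorem N20392 : nd 20392 = n30757 := ndS (p := 9964) (l := 0) rfl N9964 D30757
theorem N20393 : nd 20393 = n30758 := ndS (p := 9964) (l := 1) rfl N9964 D30758
theorem N20394 : nd 20394 = n30759 := ndS (p := 9964) (l := 2) rfl N9964 D30759
theorem N20395 : nd 20395 = n30760 := ndS (p := 9964) (l := 4) rfl N9964 D30760
theorem N20396 : nd 20396 = n30761 := ndS (p := 9964) (l := 5) rfl N9964 D30761
theorem N20397 : nd 20397 = n30762 := ndS (p := 9964) (l := 6) rfl N9964 D30762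
theorem N20398 : nd 20398 = n30763 := ndS (p := 9965) (l := 6) rfl N9965 D30763
theorem N20399 : nd 20399 = n30764 := ndS (p := 9966) (l := 5) rfl N9966 D30764
theorem N20400 : nd 20400 = n30767 := ndS (p := 9967) (l := 3) rfl N9967 D30767
theorem N20401 : nd 20401 = n30768 := ndS (p := 9967) (l := 4) rfl N9967 D30768
theorem N20402 : nd 20402 = n30769 := ndS (p := 9967) (l := 5) rfl N9967 D30769
theorem N20403 : nd 20403 = n30770 := ndS (p := 9967) (l := 6) rfl N9967 D30770
theorem N20404 : nd 20404 = n30772 := ndS (p := 9968) (l := 3) rfl N9968 D30772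
theorem N20405 : nd 20405 = n30773 := ndS (p := 9968) (l := 4) rfl N9968 D30773
theorem N20406 : nd 20406 = n30774 := ndS (p := 9968) (l := 5) rfl N9968 D30774
theorem N20407 : nd 20407 = n30775 := ndS (p := 9968) (l := 6) rfl N9968 D30775
theorem N20408 : nd 20408 = n30776 := ndS (p := 9969) (l := 5) rfl N9969 D30776
theorem N20409 : nd 20409 = n30777 := ndS (p := 9969) (l := 6) rfl N9969 D30777
theorem N20410 : nd 20410 = n30778 := ndS (p := 9970) (l := 0) rfl N9970 D30778
theorem N20411 : nd 20411 = n30779 := ndS (p := 9970) (l := 1) rfl N9970 D30779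
theorem N20412 : nd 20412 = n30780 := ndS (p := 9970) (l := 4) rfl N9970 D30780
theorem N20413 : nd 20413 = n30782 := ndS (p := 9971) (l := 0) rfl N9971 D30782
theorem N20414 : nd 20414 = n30783 := ndS (p := 9971) (l := 1) rfl N9971 D30783
theorem N20415 : nd 20415 = n30806 := ndS (p := 9972) (l := 4) rfl N9972 D30806
theorem N20416 : nd 20416 = n30820 := ndS (p := 9975) (l := 3) rfl N9975 D30820
theorem N20417 : nd 20417 = n30821 := ndS (p := 9975) (l := 6) rfl N9975 D30821
theorem N20418 : nd 20418 = n30823 := ndS (p := 9976) (l := 1) rfl N9976 D30823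
theorem N20419 : nd 20419 = n30824 := ndS (p := 9977) (l := 4) rfl N9977 D30824
theorem N20420 : nd 20420 = n30825 := ndS (p := 9977) (l := 6) rfl N9977 D30825
theorem N20421 : nd 20421 = n30826 := ndS (p := 9978) (l := 0) rfl N9978 D30826
theorem N20422 : nd 20422 = n30827 := ndS (p := 9978) (l := 7) rfl N9978 D30827
theorem N20423 : nd 20423 = n30828 := ndS (p := 9979) (l := 3) rfl N9979 D30828
theorem N20424 : nd 20424 = n30829 := ndS (p := 9979) (l := 5) rfl N9979 D30829
theorem N20425 : nd 20425 = n30830 := ndS (p := 9979) (l := 6) rfl N9979 D30830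
theorem N20426 : nd 20426 = n30831 := ndS (p := 9980) (l := 0) rfl N9980 D30831
theorem N20427 : nd 20427 = n30832 := ndS (p := 9980) (l := 7) rfl N9980 D30832
theorem N20428 : nd 20428 = n30833 := ndS (p := 9983) (l := 5) rfl N9983 D30833
theorem N20429 : nd 20429 = n30834 := ndS (p := 9984) (l := 4) rfl N9984 D30834
theorem N20430 : nd 20430 = n30835 := ndS (p := 9984) (l := 6) rfl N9984 D30835
theorem N20431 : nd 20431 = n30836 := ndS (p := 9985) (l := 4) rfl N9985 D30836
theorem N20432 : nd 20432 = n30837 := ndS (p := 9985) (l := 6) rfl N9985 D30837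
theorem N20433 : nd 20433 = n30838 := ndS (p := 9986) (l := 3) rfl N9986 D30838
theorem N20434 : nd 20434 = n30839 := ndS (p := 9986) (l := 4) rfl N9986 D30839
theorem N20435 : nd 20435 = n30840 := ndS (p := 9986) (l := 6) rfl N9986 D30840
theorem N20436 : nd 20436 = n30841 := ndS (p := 9987) (l := 3) rfl N9987 D30841
theorem N20437 : nd 20437 = n30842 := ndS (p := 9987) (l := 6) rfl N9987 D30842
theorem N20438 : nd 20438 = n30843 := ndS (p := 9988) (l := 0) rfl N9988 D30843
theorem N20439 : nd 20439 = n30844 := ndS (p := 9988) (l := 1) rfl N9988 D30844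
theorem N20440 : nd 20440 = n30845 := ndS (p := 9988) (l := 5) rfl N9988 D30845
theorem N20441 : nd 20441 = n30846 := ndS (p := 9988) (l := 7) rfl N9988 D30846
theorem N20442 : nd 20442 = n30847 := ndS (p := 9989) (l := 4) rfl N9989 D30847
theorem N20443 : nd 20443 = n30848 := ndS (p := 9993) (l := 3) rfl N9993 D30848
theorem N20444 : nd 20444 = n30849 := ndS (p := 9993) (l := 5) rfl N9993 D30849
theorem N20445 : nd 20445 = n30850 := ndS (p := 9993) (l := 6) rfl N9993 D30850
theorem N20446 : nd 20446 = n30852 := ndS (p := 9996) (l := 3) rfl N9996 D30852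
theorem N20447 : nd 20447 = n30853 := ndS (p := 9996) (l := 5) rfl N9996 D30853
theorem N20448 : nd 20448 = n30854 := ndS (p := 9996) (l := 6) rfl N9996 D30854
theorem N20449 : nd 20449 = n30856 := ndS (p := 9997) (l := 1) rfl N9997 D30856
theorem N20450 : nd 20450 = n30857 := ndS (p := 9997) (l := 7) rfl N9997 D30857
theorem N20451 : nd 20451 = n30858 := ndS (p := 9998) (l := 3) rfl N9998 D30858
theorem N20452 : nd 20452 = n30859 := ndS (p := 9998) (l := 4) rfl N9998 D30859
theorem N20453 : nd 20453 = n30860 := ndS (p := 9998) (l := 5) rfl N9998 D30860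
theorem N20454 : nd 20454 = n30861 := ndS (p := 9998) (l := 6) rfl N9998 D30861
theorem N20455 : nd 20455 = n30862 := ndS (p := 9999) (l := 3) rfl N9999 D30862
theorem N20456 : nd 20456 = n30863 := ndS (p := 9999) (l := 5) rfl N9999 D30863
theorem N20457 : nd 20457 = n30864 := ndS (p := 9999) (l := 6) rfl N9999 D30864
theorem N20458 : nd 20458 = n30865 := ndS (p := 10000) (l := 0) rfl N10000 D30865
theorem N20459 : nd 20459 = n30866 := ndS (p := 10000) (l := 1) rfl N10000 D30866
theorem N20460 : nd 20460 = n30867 := ndS (p := 10000) (l := 2) rfl N10000 D30867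
theorem N20461 : nd 20461 = n30868 := ndS (p := 10000) (l := 5) rfl N10000 D30868
theorem N20462 : nd 20462 = n30869 := ndS (p := 10000) (l := 6) rfl N10000 D30869
theorem N20463 : nd 20463 = n30870 := ndS (p := 10001) (l := 0) rfl N10001 D30870
theorem N20464 : nd 20464 = n30871 := ndS (p := 10001) (l := 1) rfl N10001 D30871
theorem N20465 : nd 20465 = n30873 := ndS (p := 10001) (l := 6) rfl N10001 D30873
theorem N20466 : nd 20466 = n30874 := ndS (p := 10002) (l := 0) rfl N10002 D30874
theorem N20467 : nd 20467 = n30875 := ndS (p := 10002) (l := 1) rfl N10002 D30875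
theorem N20468 : nd 20468 = n30876 := ndS (p := 10002) (l := 5) rfl N10002 D30876
theorem N20469 : nd 20469 = n30877 := ndS (p := 10002) (l := 7) rfl N10002 D30877
theorem N20470 : nd 20470 = n30879 := ndS (p := 10003) (l := 4) rfl N10003 D30879
theorem N20471 : nd 20471 = n30880 := ndS (p := 10003) (l := 6) rfl N10003 D30880
theorem N20472 : nd 20472 = n30881 := ndS (p := 10004) (l := 3) rfl N10004 D30881
theorem N20473 : nd 20473 = n30882 := ndS (p := 10004) (l := 4) rfl N10004 D30882
theorem N20474 : nd 20474 = n30883 := ndS (p := 10005) (l := 0) rfl N10005 D30883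
theorem N20475 : nd 20475 = n30884 := ndS (p := 10005) (l := 1) rfl N10005 D30884
theorem N20476 : nd 20476 = n30885 := ndS (p := 10005) (l := 4) rfl N10005 D30885
theorem N20477 : nd 20477 = n30886 := ndS (p := 10005) (l := 7) rfl N10005 D30886
theorem N20478 : nd 20478 = n30887 := ndS (p := 10008) (l := 0) rfl N10008 D30887
theorem N20479 : nd 20479 = n30888 := ndS (p := 10008) (l := 3) rfl N10008 D30888
theorem N20480 : nd 20480 = n30889 := ndS (p := 10008) (l := 5) rfl N10008 D30889
theorem N20481 : nd 20481 = n30891 := ndS (p := 10009) (l := 3) rfl N10009 D30891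
theorem N20482 : nd 20482 = n30892 := ndS (p := 10009) (l := 4) rfl N10009 D30892
theorem N20483 : nd 20483 = n30893 := ndS (p := 10009) (l := 5) rfl N10009 D30893
theorem N20484 : nd 20484 = n30894 := ndS (p := 10009) (l := 6) rfl N10009 D30894
theorem N20485 : nd 20485 = n30896 := ndS (p := 10010) (l := 3) rfl N10010 D30896
theorem N20486 : nd 20486 = n30897 := ndS (p := 10010) (l := 4) rfl N10010 D30897
theorem N20487 : nd 20487 = n30898 := ndS (p := 10010) (l := 5) rfl N10010 D30898
theorem N20488 : nd 20488 = n30899 := ndS (p := 10010) (l := 6) rfl N10010 D30899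
theorem N20489 : nd 20489 = n30900 := ndS (p := 10011) (l := 5) rfl N10011 D30900
theorem N20490 : nd 20490 = n30901 := ndS (p := 10011) (l := 6) rfl N10011 D30901
theorem N20491 : nd 20491 = n30902 := ndS (p := 10012) (l := 0) rfl N10012 D30902
theorem N20492 : nd 20492 = n30903 := ndS (p := 10012) (l := 1) rfl N10012 D30903
theorem N20493 : nd 20493 = n30904 := ndS (p := 10012) (l := 4) rfl N10012 D30904
theorem N20494 : nd 20494 = n30905 := ndS (p := 10012) (l := 6) rfl N10012 D30905
theorem N20495 : nd 20495 = n30906 := ndS (p := 10013) (l := 0) rfl N10013 D30906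
theorem N20496 : nd 20496 = n30907 := ndS (p := 10013) (l := 1) rfl N10013 D30907
theorem N20497 : nd 20497 = n30908 := ndS (p := 10013) (l := 5) rfl N10013 D30908
theorem N20498 : nd 20498 = n30909 := ndS (p := 10013) (l := 7) rfl N10013 D30909
theorem N20499 : nd 20499 = n30911 := ndS (p := 10014) (l := 1) rfl N10014 D30911
theorem N20500 : nd 20500 = n30914 := ndS (p := 10015) (l := 3) rfl N10015 D30914
theorem N20501 : nd 20501 = n30915 := ndS (p := 10015) (l := 5) rfl N10015 D30915
theorem N20502 : nd 20502 = n30916 := ndS (p := 10015) (l := 6) rfl N10015 D30916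
theorem N20503 : nd 20503 = n30917 := ndS (p := 10016) (l := 3) rfl N10016 D30917
theorem N20504 : nd 20504 = n30918 := ndS (p := 10016) (l := 5) rfl N10016 D30918
theorem N20505 : nd 20505 = n30921 := ndS (p := 10017) (l := 4) rfl N10017 D30921
theorem N20506 : nd 20506 = n30922 := ndS (p := 10017) (l := 7) rfl N10017 D30922
theorem N20507 : nd 20507 = n30923 := ndS (p := 10019) (l := 3) rfl N10019 D30923
theorem N20508 : nd 20508 = n30924 := ndS (p := 10019) (l := 5) rfl N10019 D30924
theorem N20509 : nd 20509 = n30925 := ndS (p := 10019) (l := 6) rfl N10019 D30925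
theorem N20510 : nd 20510 = n30926 := ndS (p := 10021) (l := 4) rfl N10021 D30926
theorem N20511 : nd 20511 = n30927 := ndS (p := 10022) (l := 3) rfl N10022 D30927
theorem N20512 : nd 20512 = n30928 := ndS (p := 10022) (l := 5) rfl N10022 D30928
theorem N20513 : nd 20513 = n30930 := ndS (p := 10023) (l := 4) rfl N10023 D30930
theorem N20514 : nd 20514 = n30931 := ndS (p := 10024) (l := 3) rfl N10024 D30931
theorem N20515 : nd 20515 = n30932 := ndS (p := 10024) (l := 4) rfl N10024 D30932
theorem N20516 : nd 20516 = n30933 := ndS (p := 10025) (l := 0) rfl N10025 D30933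
theorem N20517 : nd 20517 = n30934 := ndS (p := 10025) (l := 1) rfl N10025 D30934
theorem N20518 : nd 20518 = n30935 := ndS (p := 10025) (l := 3) rfl N10025 D30935
theorem N20519 : nd 20519 = n30940 := ndS (p := 10027) (l := 2) rfl N10027 D30940
theorem N20520 : nd 20520 = n30941 := ndS (p := 10028) (l := 3) rfl N10028 D30941
theorem N20521 : nd 20521 = n30942 := ndS (p := 10028) (l := 5) rfl N10028 D30942
theorem N20522 : nd 20522 = n30943 := ndS (p := 10028) (l := 6) rfl N10028 D30943
theorem N20523 : nd 20523 = n30944 := ndS (p := 10030) (l := 0) rfl N10030 D30944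
theorem N20524 : nd 20524 = n30945 := ndS (p := 10030) (l := 1) rfl N10030 D30945
theorem N20525 : nd 20525 = n30946 := ndS (p := 10030) (l := 7) rfl N10030 D30946
theorem N20526 : nd 20526 = n30947 := ndS (p := 10031) (l := 3) rfl N10031 D30947
theorem N20527 : nd 20527 = n30948 := ndS (p := 10031) (l := 6) rfl N10031 D30948
theorem N20528 : nd 20528 = n30949 := ndS (p := 10032) (l := 0) rfl N10032 D30949
theorem N20529 : nd 20529 = n30950 := ndS (p := 10032) (l := 1) rfl N10032 D30950
theorem N20530 : nd 20530 = n30951 := ndS (p := 10032) (l := 2) rfl N10032 D30951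
theorem N20531 : nd 20531 = n30952 := ndS (p := 10032) (l := 5) rfl N10032 D30952
theorem N20532 : nd 20532 = n30953 := ndS (p := 10032) (l := 6) rfl N10032 D30953
theorem N20533 : nd 20533 = n30954 := ndS (p := 10033) (l := 0) rfl N10033 D30954
theorem N20534 : nd 20534 = n30955 := ndS (p := 10033) (l := 1) rfl N10033 D30955
theorem N20535 : nd 20535 = n30956 := ndS (p := 10033) (l := 6) rfl N10033 D30956
theorem N20536 : nd 20536 = n30957 := ndS (p := 10034) (l := 0) rfl N10034 D30957
theorem N20537 : nd 20537 = n30958 := ndS (p := 10034) (l := 1) rfl N10034 D30958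
theorem N20538 : nd 20538 = n30959 := ndS (p := 10034) (l := 5) rfl N10034 D30959
theorem N20539 : nd 20539 = n30960 := ndS (p := 10034) (l := 7) rfl N10034 D30960
theorem N20540 : nd 20540 = n30962 := ndS (p := 10036) (l := 3) rfl N10036 D30962
theorem N20541 : nd 20541 = n30963 := ndS (p := 10036) (l := 4) rfl N10036 D30963
theorem N20542 : nd 20542 = n30964 := ndS (p := 10036) (l := 5) rfl N10036 D30964
theorem N20543 : nd 20543 = n30965 := ndS (p := 10036) (l := 6) rfl N10036 D30965
theorem N20544 : nd 20544 = n30967 := ndS (p := 10037) (l := 3) rfl N10037 D30967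
theorem N20545 : nd 20545 = n30968 := ndS (p := 10037) (l := 4) rfl N10037 D30968
theorem N20546 : nd 20546 = n30969 := ndS (p := 10037) (l := 5) rfl N10037 D30969
theorem N20547 : nd 20547 = n30970 := ndS (p := 10037) (l := 6) rfl N10037 D30970
theorem N20548 : nd 20548 = n30971 := ndS (p := 10038) (l := 4) rfl N10038 D30971
theorem N20549 : nd 20549 = n30972 := ndS (p := 10040) (l := 0) rfl N10040 D30972
theorem N20550 : nd 20550 = n30973 := ndS (p := 10040) (l := 1) rfl N10040 D30973
theorem N20551 : nd 20551 = n30974 := ndS (p := 10040) (l := 2) rfl N10040 D30974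
theorem N20552 : nd 20552 = n30975 := ndS (p := 10040) (l := 4) rfl N10040 D30975
theorem N20553 : nd 20553 = n30976 := ndS (p := 10040) (l := 6) rfl N10040 D30976
theorem N20554 : nd 20554 = n30979 := ndS (p := 10041) (l := 5) rfl N10041 D30979
theorem N20555 : nd 20555 = n30981 := ndS (p := 10042) (l := 3) rfl N10042 D30981
theorem N20556 : nd 20556 = n30982 := ndS (p := 10042) (l := 4) rfl N10042 D30982
theorem N20557 : nd 20557 = n30984 := ndS (p := 10042) (l := 6) rfl N10042 D30984
theorem N20558 : nd 20558 = n30986 := ndS (p := 10043) (l := 3) rfl N10043 D30986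
theorem N20559 : nd 20559 = n30987 := ndS (p := 10043) (l := 4) rfl N10043 D30987
theorem N20560 : nd 20560 = n30990 := ndS (p := 10044) (l := 5) rfl N10044 D30990
theorem N20561 : nd 20561 = n30991 := ndS (p := 10044) (l := 6) rfl N10044 D30991
theorem N20562 : nd 20562 = n30992 := ndS (p := 10045) (l := 0) rfl N10045 D30992
theorem N20563 : nd 20563 = n30993 := ndS (p := 10045) (l := 1) rfl N10045 D30993
theorem N20564 : nd 20564 = n30994 := ndS (p := 10045) (l := 4) rfl N10045 D30994
theorem N20565 : nd 20565 = n30995 := ndS (p := 10045) (l := 6) rfl N10045 D30995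
theorem N20566 : nd 20566 = n30996 := ndS (p := 10046) (l := 0) rfl N10046 D30996
theorem N20567 : nd 20567 = n30997 := ndS (p := 10046) (l := 1) rfl N10046 D30997
theorem N20568 : nd 20568 = n30998 := ndS (p := 10046) (l := 5) rfl N10046 D30998
theorem N20569 : nd 20569 = n30999 := ndS (p := 10046) (l := 7) rfl N10046 D30999
theorem N20570 : nd 20570 = n31000 := ndS (p := 10047) (l := 3) rfl N10047 D31000
theorem N20571 : nd 20571 = n31001 := ndS (p := 10047) (l := 6) rfl N10047 D31001
theorem N20572 : nd 20572 = n31002 := ndS (p := 10048) (l := 3) rfl N10048 D31002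
theorem N20573 : nd 20573 = n31003 := ndS (p := 10048) (l := 6) rfl N10048 D31003
theorem N20574 : nd 20574 = n31004 := ndS (p := 10049) (l := 0) rfl N10049 D31004
theorem N20575 : nd 20575 = n31005 := ndS (p := 10049) (l := 1) rfl N10049 D31005
theorem N20576 : nd 20576 = n31007 := ndS (p := 10049) (l := 7) rfl N10049 D31007
theorem N20577 : nd 20577 = n31009 := ndS (p := 10050) (l := 3) rfl N10050 D31009
theorem N20578 : nd 20578 = n31013 := ndS (p := 10051) (l := 3) rfl N10051 D31013
theorem N20579 : nd 20579 = n31015 := ndS (p := 10051) (l := 6) rfl N10051 D31015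
theorem N20580 : nd 20580 = n31016 := ndS (p := 10052) (l := 0) rfl N10052 D31016
theorem N20581 : nd 20581 = n31017 := ndS (p := 10052) (l := 1) rfl N10052 D31017
theorem N20582 : nd 20582 = n31019 := ndS (p := 10052) (l := 7) rfl N10052 D31019
theorem N20583 : nd 20583 = n31023 := ndS (p := 10054) (l := 4) rfl N10054 D31023
theorem N20584 : nd 20584 = n31024 := ndS (p := 10054) (l := 5) rfl N10054 D31024
theorem N20585 : nd 20585 = n31025 := ndS (p := 10055) (l := 3) rfl N10055 D31025
theorem N20586 : nd 20586 = n31027 := ndS (p := 10056) (l := 4) rfl N10056 D31027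
theorem N20587 : nd 20587 = n31034 := ndS (p := 10057) (l := 3) rfl N10057 D31034
theorem N20588 : nd 20588 = n31036 := ndS (p := 10057) (l := 6) rfl N10057 D31036
theorem N20589 : nd 20589 = n31037 := ndS (p := 10058) (l := 4) rfl N10058 D31037
theorem N20590 : nd 20590 = n31038 := ndS (p := 10060) (l := 3) rfl N10060 D31038
theorem N20591 : nd 20591 = n31039 := ndS (p := 10060) (l := 5) rfl N10060 D31039
theorem N20592 : nd 20592 = n31040 := ndS (p := 10061) (l := 3) rfl N10061 D31040
theorem N20593 : nd 20593 = n31041 := ndS (p := 10061) (l := 5) rfl N10061 D31041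
theorem N20594 : nd 20594 = n31042 := ndS (p := 10061) (l := 6) rfl N10061 D31042
theorem N20595 : nd 20595 = n31043 := ndS (p := 10062) (l := 0) rfl N10062 D31043
theorem N20596 : nd 20596 = n31044 := ndS (p := 10062) (l := 1) rfl N10062 D31044
theorem N20597 : nd 20597 = n31045 := ndS (p := 10062) (l := 7) rfl N10062 D31045
theorem N20598 : nd 20598 = n31046 := ndS (p := 10063) (l := 3) rfl N10063 D31046
theorem N20599 : nd 20599 = n31047 := ndS (p := 10064) (l := 3) rfl N10064 D31047
theorem N20600 : nd 20600 = n31048 := ndS (p := 10064) (l := 6) rfl N10064 D31048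
theorem N20601 : nd 20601 = n31049 := ndS (p := 10065) (l := 0) rfl N10065 D31049
theorem N20602 : nd 20602 = n31050 := ndS (p := 10065) (l := 1) rfl N10065 D31050
theorem N20603 : nd 20603 = n31051 := ndS (p := 10065) (l := 2) rfl N10065 D31051
theorem N20604 : nd 20604 = n31052 := ndS (p := 10065) (l := 5) rfl N10065 D31052
theorem N20605 : nd 20605 = n31053 := ndS (p := 10065) (l := 6) rfl N10065 D31053
theorem N20606 : nd 20606 = n31054 := ndS (p := 10066) (l := 0) rfl N10066 D31054
theorem N20607 : nd 20607 = n31055 := ndS (p := 10066) (l := 1) rfl N10066 D31055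
theorem N20608 : nd 20608 = n31056 := ndS (p := 10066) (l := 6) rfl N10066 D31056
theorem N20609 : nd 20609 = n31057 := ndS (p := 10067) (l := 0) rfl N10067 D31057
theorem N20610 : nd 20610 = n31058 := ndS (p := 10067) (l := 1) rfl N10067 D31058
theorem N20611 : nd 20611 = n31059 := ndS (p := 10067) (l := 5) rfl N10067 D31059
theorem N20612 : nd 20612 = n31060 := ndS (p := 10067) (l := 7) rfl N10067 D31060
theorem N20613 : nd 20613 = n31063 := ndS (p := 10068) (l := 4) rfl N10068 D31063
theorem N20614 : nd 20614 = n31065 := ndS (p := 10068) (l := 6) rfl N10068 D31065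
theorem N20615 : nd 20615 = n31067 := ndS (p := 10069) (l := 3) rfl N10069 D31067
theorem N20616 : nd 20616 = n31068 := ndS (p := 10069) (l := 4) rfl N10069 D31068
theorem N20617 : nd 20617 = n31070 := ndS (p := 10069) (l := 6) rfl N10069 D31070
theorem N20618 : nd 20618 = n31072 := ndS (p := 10071) (l := 3) rfl N10071 D31072
theorem N20619 : nd 20619 = n31073 := ndS (p := 10071) (l := 4) rfl N10071 D31073
theorem N20620 : nd 20620 = n31077 := ndS (p := 10072) (l := 3) rfl N10072 D31077
theorem N20621 : nd 20621 = n31078 := ndS (p := 10072) (l := 4) rfl N10072 D31078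
theorem N20622 : nd 20622 = n31080 := ndS (p := 10072) (l := 6) rfl N10072 D31080
theorem N20623 : nd 20623 = n31081 := ndS (p := 10073) (l := 5) rfl N10073 D31081
theorem N20624 : nd 20624 = n31082 := ndS (p := 10073) (l := 6) rfl N10073 D31082
theorem N20625 : nd 20625 = n31083 := ndS (p := 10074) (l := 0) rfl N10074 D31083
theorem N20626 : nd 20626 = n31084 := ndS (p := 10074) (l := 1) rfl N10074 D31084
theorem N20627 : nd 20627 = n31085 := ndS (p := 10074) (l := 4) rfl N10074 D31085
theorem N20628 : nd 20628 = n31086 := ndS (p := 10074) (l := 6) rfl N10074 D31086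
theorem N20629 : nd 20629 = n31087 := ndS (p := 10075) (l := 0) rfl N10075 D31087
theorem N20630 : nd 20630 = n31088 := ndS (p := 10075) (l := 1) rfl N10075 D31088
theorem N20631 : nd 20631 = n31090 := ndS (p := 10075) (l := 7) rfl N10075 D31090
theorem N20632 : nd 20632 = n31096 := ndS (p := 10077) (l := 3) rfl N10077 D31096
theorem N20633 : nd 20633 = n31099 := ndS (p := 10077) (l := 6) rfl N10077 D31099
theorem N20634 : nd 20634 = n31101 := ndS (p := 10078) (l := 3) rfl N10078 D31101
theorem N20635 : nd 20635 = n31116 := ndS (p := 10080) (l := 3) rfl N10080 D31116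
theorem N20636 : nd 20636 = n31118 := ndS (p := 10080) (l := 6) rfl N10080 D31118
theorem N20637 : nd 20637 = n31122 := ndS (p := 10082) (l := 4) rfl N10082 D31122
theorem N20638 : nd 20638 = n31123 := ndS (p := 10083) (l := 3) rfl N10083 D31123
theorem N20639 : nd 20639 = n31126 := ndS (p := 10084) (l := 3) rfl N10084 D31126
theorem N20640 : nd 20640 = n31127 := ndS (p := 10084) (l := 4) rfl N10084 D31127
theorem N20641 : nd 20641 = n31128 := ndS (p := 10084) (l := 5) rfl N10084 D31128
theorem N20642 : nd 20642 = n31129 := ndS (p := 10084) (l := 6) rfl N10084 D31129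
theorem N20643 : nd 20643 = n31132 := ndS (p := 10085) (l := 4) rfl N10085 D31132
theorem N20644 : nd 20644 = n31133 := ndS (p := 10085) (l := 5) rfl N10085 D31133
theorem N20645 : nd 20645 = n31135 := ndS (p := 10086) (l := 4) rfl N10086 D31135
theorem N20646 : nd 20646 = n31136 := ndS (p := 10086) (l := 5) rfl N10086 D31136
theorem N20647 : nd 20647 = n31137 := ndS (p := 10086) (l := 6) rfl N10086 D31137
theorem N20648 : nd 20648 = n31138 := ndS (p := 10087) (l := 0) rfl N10087 D31138
theorem N20649 : nd 20649 = n31139 := ndS (p := 10087) (l := 1) rfl N10087 D31139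
theorem N20650 : nd 20650 = n31140 := ndS (p := 10087) (l := 5) rfl N10087 D31140
theorem N20651 : nd 20651 = n31141 := ndS (p := 10087) (l := 6) rfl N10087 D31141
theorem N20652 : nd 20652 = n31142 := ndS (p := 10088) (l := 0) rfl N10088 D31142
theorem N20653 : nd 20653 = n31143 := ndS (p := 10088) (l := 1) rfl N10088 D31143
theorem N20654 : nd 20654 = n31144 := ndS (p := 10088) (l := 4) rfl N10088 D31144
theorem N20655 : nd 20655 = n31145 := ndS (p := 10088) (l := 6) rfl N10088 D31145
theorem N20656 : nd 20656 = n31146 := ndS (p := 10089) (l := 0) rfl N10089 D31146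
theorem N20657 : nd 20657 = n31147 := ndS (p := 10089) (l := 1) rfl N10089 D31147
theorem N20658 : nd 20658 = n31148 := ndS (p := 10089) (l := 5) rfl N10089 D31148
theorem N20659 : nd 20659 = n31149 := ndS (p := 10089) (l := 7) rfl N10089 D31149
theorem N20660 : nd 20660 = n31150 := ndS (p := 10090) (l := 3) rfl N10090 D31150
theorem N20661 : nd 20661 = n31151 := ndS (p := 10090) (l := 6) rfl N10090 D31151
theorem N20662 : nd 20662 = n31152 := ndS (p := 10091) (l := 3) rfl N10091 D31152
theorem N20663 : nd 20663 = n31153 := ndS (p := 10091) (l := 6) rfl N10091 D31153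
theorem N20664 : nd 20664 = n31154 := ndS (p := 10092) (l := 0) rfl N10092 D31154
theorem N20665 : nd 20665 = n31155 := ndS (p := 10092) (l := 1) rfl N10092 D31155
theorem N20666 : nd 20666 = n31157 := ndS (p := 10092) (l := 7) rfl N10092 D31157
theorem N20667 : nd 20667 = n31158 := ndS (p := 10093) (l := 0) rfl N10093 D31158
theorem N20668 : nd 20668 = n31159 := ndS (p := 10093) (l := 1) rfl N10093 D31159
theorem N20669 : nd 20669 = n31160 := ndS (p := 10093) (l := 4) rfl N10093 D31160
theorem N20670 : nd 20670 = n31161 := ndS (p := 10093) (l := 7) rfl N10093 D31161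
theorem N20671 : nd 20671 = n31163 := ndS (p := 10095) (l := 3) rfl N10095 D31163
theorem N20672 : nd 20672 = n31164 := ndS (p := 10095) (l := 4) rfl N10095 D31164
theorem N20673 : nd 20673 = n31165 := ndS (p := 10095) (l := 5) rfl N10095 D31165
theorem N20674 : nd 20674 = n31168 := ndS (p := 10096) (l := 3) rfl N10096 D31168
theorem N20675 : nd 20675 = n31169 := ndS (p := 10096) (l := 4) rfl N10096 D31169
theorem N20676 : nd 20676 = n31170 := ndS (p := 10096) (l := 5) rfl N10096 D31170
theorem N20677 : nd 20677 = n31171 := ndS (p := 10096) (l := 6) rfl N10096 D31171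
theorem N20678 : nd 20678 = n31172 := ndS (p := 10097) (l := 4) rfl N10097 D31172
theorem N20679 : nd 20679 = n31173 := ndS (p := 10097) (l := 5) rfl N10097 D31173
theorem N20680 : nd 20680 = n31174 := ndS (p := 10097) (l := 6) rfl N10097 D31174
theorem N20681 : nd 20681 = n31175 := ndS (p := 10098) (l := 0) rfl N10098 D31175
theorem N20682 : nd 20682 = n31176 := ndS (p := 10098) (l := 1) rfl N10098 D31176
theorem N20683 : nd 20683 = n31177 := ndS (p := 10098) (l := 6) rfl N10098 D31177
theorem N20684 : nd 20684 = n31178 := ndS (p := 10099) (l := 0) rfl N10099 D31178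
theorem N20685 : nd 20685 = n31179 := ndS (p := 10099) (l := 1) rfl N10099 D31179
theorem N20686 : nd 20686 = n31180 := ndS (p := 10099) (l := 4) rfl N10099 D31180
theorem N20687 : nd 20687 = n31181 := ndS (p := 10099) (l := 6) rfl N10099 D31181
theorem N20688 : nd 20688 = n31182 := ndS (p := 10100) (l := 0) rfl N10100 D31182
theorem N20689 : nd 20689 = n31183 := ndS (p := 10100) (l := 1) rfl N10100 D31183
theorem N20690 : nd 20690 = n31185 := ndS (p := 10100) (l := 7) rfl N10100 D31185
theorem N20691 : nd 20691 = n31204 := ndS (p := 10103) (l := 6) rfl N10103 D31204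
theorem N20692 : nd 20692 = n31207 := ndS (p := 10104) (l := 3) rfl N10104 D31207
theorem N20693 : nd 20693 = n31208 := ndS (p := 10104) (l := 4) rfl N10104 D31208
theorem N20694 : nd 20694 = n31209 := ndS (p := 10104) (l := 5) rfl N10104 D31209
theorem N20695 : nd 20695 = n31210 := ndS (p := 10104) (l := 6) rfl N10104 D31210
theorem N20696 : nd 20696 = n31212 := ndS (p := 10105) (l := 1) rfl N10105 D31212
theorem N20697 : nd 20697 = n31213 := ndS (p := 10105) (l := 2) rfl N10105 D31213
theorem N20698 : nd 20698 = n31214 := ndS (p := 10105) (l := 4) rfl N10105 D31214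
theorem N20699 : nd 20699 = n31215 := ndS (p := 10105) (l := 5) rfl N10105 D31215
theorem N20700 : nd 20700 = n31216 := ndS (p := 10105) (l := 6) rfl N10105 D31216
theorem N20701 : nd 20701 = n31217 := ndS (p := 10105) (l := 7) rfl N10105 D31217
theorem N20702 : nd 20702 = n31218 := ndS (p := 10106) (l := 0) rfl N10106 D31218
theorem N20703 : nd 20703 = n31219 := ndS (p := 10106) (l := 1) rfl N10106 D31219
theorem N20704 : nd 20704 = n31220 := ndS (p := 10106) (l := 3) rfl N10106 D31220
theorem N20705 : nd 20705 = n31221 := ndS (p := 10106) (l := 5) rfl N10106 D31221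
theorem N20706 : nd 20706 = n31222 := ndS (p := 10106) (l := 6) rfl N10106 D31222
theorem N20707 : nd 20707 = n31223 := ndS (p := 10106) (l := 7) rfl N10106 D31223
theorem N20708 : nd 20708 = n31224 := ndS (p := 10107) (l := 0) rfl N10107 D31224
theorem N20709 : nd 20709 = n31226 := ndS (p := 10107) (l := 4) rfl N10107 D31226
theorem N20710 : nd 20710 = n31227 := ndS (p := 10107) (l := 6) rfl N10107 D31227
theorem N20711 : nd 20711 = n31228 := ndS (p := 10107) (l := 7) rfl N10107 D31228
theorem N20712 : nd 20712 = n31229 := ndS (p := 10108) (l := 0) rfl N10108 D31229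
theorem N20713 : nd 20713 = n31231 := ndS (p := 10108) (l := 5) rfl N10108 D31231
theorem N20714 : nd 20714 = n31232 := ndS (p := 10108) (l := 7) rfl N10108 D31232
theorem N20715 : nd 20715 = n31233 := ndS (p := 10109) (l := 6) rfl N10109 D31233
theorem N20716 : nd 20716 = n31234 := ndS (p := 10110) (l := 0) rfl N10110 D31234
theorem N20717 : nd 20717 = n31236 := ndS (p := 10110) (l := 2) rfl N10110 D31236
theorem N20718 : nd 20718 = n31237 := ndS (p := 10110) (l := 4) rfl N10110 D31237
theorem N20719 : nd 20719 = n31238 := ndS (p := 10110) (l := 5) rfl N10110 D31238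
theorem N20720 : nd 20720 = n31239 := ndS (p := 10110) (l := 6) rfl N10110 D31239
theorem N20721 : nd 20721 = n31240 := ndS (p := 10111) (l := 3) rfl N10111 D31240
theorem N20722 : nd 20722 = n31241 := ndS (p := 10111) (l := 5) rfl N10111 D31241
theorem N20723 : nd 20723 = n31242 := ndS (p := 10111) (l := 6) rfl N10111 D31242
theorem N20724 : nd 20724 = n31243 := ndS (p := 10112) (l := 4) rfl N10112 D31243
theorem N20725 : nd 20725 = n31244 := ndS (p := 10112) (l := 6) rfl N10112 D31244
theorem N20726 : nd 20726 = n31246 := ndS (p := 10113) (l := 1) rfl N10113 D31246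
theorem N20727 : nd 20727 = n31247 := ndS (p := 10113) (l := 5) rfl N10113 D31247
theorem N20728 : nd 20728 = n31248 := ndS (p := 10113) (l := 7) rfl N10113 D31248
theorem N20729 : nd 20729 = n31259 := ndS (p := 10114) (l := 4) rfl N10114 D31259
theorem N20730 : nd 20730 = n31260 := ndS (p := 10114) (l := 6) rfl N10114 D31260
theorem N20731 : nd 20731 = n31262 := ndS (p := 10115) (l := 3) rfl N10115 D31262
theorem N20732 : nd 20732 = n31263 := ndS (p := 10115) (l := 4) rfl N10115 D31263
theorem N20733 : nd 20733 = n31267 := ndS (p := 10116) (l := 3) rfl N10116 D31267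
theorem N20734 : nd 20734 = n31268 := ndS (p := 10116) (l := 4) rfl N10116 D31268
theorem N20735 : nd 20735 = n31271 := ndS (p := 10117) (l := 0) rfl N10117 D31271
theorem N20736 : nd 20736 = n31272 := ndS (p := 10117) (l := 1) rfl N10117 D31272
theorem N20737 : nd 20737 = n31273 := ndS (p := 10117) (l := 5) rfl N10117 D31273
theorem N20738 : nd 20738 = n31274 := ndS (p := 10117) (l := 6) rfl N10117 D31274
theorem N20739 : nd 20739 = n31275 := ndS (p := 10118) (l := 0) rfl N10118 D31275
theorem N20740 : nd 20740 = n31276 := ndS (p := 10118) (l := 1) rfl N10118 D31276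
theorem N20741 : nd 20741 = n31277 := ndS (p := 10118) (l := 7) rfl N10118 D31277
theorem N20742 : nd 20742 = n31278 := ndS (p := 10119) (l := 0) rfl N10119 D31278
theorem N20743 : nd 20743 = n31279 := ndS (p := 10119) (l := 1) rfl N10119 D31279
theorem N20744 : nd 20744 = n31280 := ndS (p := 10119) (l := 5) rfl N10119 D31280
theorem N20745 : nd 20745 = n31283 := ndS (p := 10120) (l := 2) rfl N10120 D31283
theorem N20746 : nd 20746 = n31284 := ndS (p := 10120) (l := 4) rfl N10120 D31284
theorem N20747 : nd 20747 = n31292 := ndS (p := 10121) (l := 2) rfl N10121 D31292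
theorem N20748 : nd 20748 = n31293 := ndS (p := 10121) (l := 4) rfl N10121 D31293
theorem N20749 : nd 20749 = n31294 := ndS (p := 10121) (l := 6) rfl N10121 D31294
theorem N20750 : nd 20750 = n31295 := ndS (p := 10122) (l := 0) rfl N10122 D31295
theorem N20751 : nd 20751 = n31296 := ndS (p := 10122) (l := 1) rfl N10122 D31296
theorem N20752 : nd 20752 = n31297 := ndS (p := 10122) (l := 5) rfl N10122 D31297
theorem N20753 : nd 20753 = n31300 := ndS (p := 10123) (l := 3) rfl N10123 D31300
theorem N20754 : nd 20754 = n31302 := ndS (p := 10123) (l := 5) rfl N10123 D31302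
theorem N20755 : nd 20755 = n31303 := ndS (p := 10123) (l := 6) rfl N10123 D31303
theorem N20756 : nd 20756 = n31305 := ndS (p := 10124) (l := 3) rfl N10124 D31305
theorem N20757 : nd 20757 = n31307 := ndS (p := 10124) (l := 5) rfl N10124 D31307
theorem N20758 : nd 20758 = n31308 := ndS (p := 10124) (l := 6) rfl N10124 D31308
theorem N20759 : nd 20759 = n31310 := ndS (p := 10126) (l := 3) rfl N10126 D31310
theorem N20760 : nd 20760 = n31312 := ndS (p := 10126) (l := 5) rfl N10126 D31312
theorem N20761 : nd 20761 = n31313 := ndS (p := 10126) (l := 6) rfl N10126 D31313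
theorem N20762 : nd 20762 = n31315 := ndS (p := 10127) (l := 3) rfl N10127 D31315
theorem N20763 : nd 20763 = n31317 := ndS (p := 10127) (l := 5) rfl N10127 D31317
theorem N20764 : nd 20764 = n31318 := ndS (p := 10127) (l := 6) rfl N10127 D31318
theorem N20765 : nd 20765 = n31319 := ndS (p := 10128) (l := 0) rfl N10128 D31319
theorem N20766 : nd 20766 = n31320 := ndS (p := 10128) (l := 1) rfl N10128 D31320
theorem N20767 : nd 20767 = n31321 := ndS (p := 10128) (l := 4) rfl N10128 D31321
theorem N20768 : nd 20768 = n31325 := ndS (p := 10129) (l := 4) rfl N10129 D31325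
theorem N20769 : nd 20769 = n31326 := ndS (p := 10129) (l := 5) rfl N10129 D31326
theorem N20770 : nd 20770 = n31327 := ndS (p := 10129) (l := 6) rfl N10129 D31327
theorem N20771 : nd 20771 = n31330 := ndS (p := 10130) (l := 3) rfl N10130 D31330
theorem N20772 : nd 20772 = n31332 := ndS (p := 10130) (l := 6) rfl N10130 D31332
theorem N20773 : nd 20773 = n31333 := ndS (p := 10131) (l := 0) rfl N10131 D31333
theorem N20774 : nd 20774 = n31334 := ndS (p := 10131) (l := 4) rfl N10131 D31334
theorem N20775 : nd 20775 = n31338 := ndS (p := 10133) (l := 4) rfl N10133 D31338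
theorem N20776 : nd 20776 = n31339 := ndS (p := 10133) (l := 5) rfl N10133 D31339
theorem N20777 : nd 20777 = n31340 := ndS (p := 10133) (l := 6) rfl N10133 D31340
theorem N20778 : nd 20778 = n31341 := ndS (p := 10134) (l := 3) rfl N10134 D31341
theorem N20779 : nd 20779 = n31343 := ndS (p := 10134) (l := 6) rfl N10134 D31343
theorem N20780 : nd 20780 = n31344 := ndS (p := 10135) (l := 4) rfl N10135 D31344
theorem N20781 : nd 20781 = n31345 := ndS (p := 10137) (l := 6) rfl N10137 D31345
theorem N20782 : nd 20782 = n31346 := ndS (p := 10138) (l := 4) rfl N10138 D31346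
theorem N20783 : nd 20783 = n31347 := ndS (p := 10138) (l := 6) rfl N10138 D31347
theorem N20784 : nd 20784 = n31348 := ndS (p := 10139) (l := 3) rfl N10139 D31348
theorem N20785 : nd 20785 = n31349 := ndS (p := 10139) (l := 5) rfl N10139 D31349
theorem N20786 : nd 20786 = n31350 := ndS (p := 10139) (l := 6) rfl N10139 D31350
theorem N20787 : nd 20787 = n31351 := ndS (p := 10140) (l := 0) rfl N10140 D31351
theorem N20788 : nd 20788 = n31353 := ndS (p := 10141) (l := 3) rfl N10141 D31353
theorem N20789 : nd 20789 = n31354 := ndS (p := 10141) (l := 5) rfl N10141 D31354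
theorem N20790 : nd 20790 = n31355 := ndS (p := 10141) (l := 6) rfl N10141 D31355
theorem N20791 : nd 20791 = n31356 := ndS (p := 10142) (l := 0) rfl N10142 D31356
theorem N20792 : nd 20792 = n31357 := ndS (p := 10142) (l := 1) rfl N10142 D31357
theorem N20793 : nd 20793 = n31358 := ndS (p := 10142) (l := 7) rfl N10142 D31358
theorem N20794 : nd 20794 = n31359 := ndS (p := 10145) (l := 6) rfl N10145 D31359
theorem N20795 : nd 20795 = n31360 := ndS (p := 10146) (l := 3) rfl N10146 D31360
theorem N20796 : nd 20796 = n31361 := ndS (p := 10146) (l := 5) rfl N10146 D31361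
theorem N20797 : nd 20797 = n31362 := ndS (p := 10146) (l := 6) rfl N10146 D31362
theorem N20798 : nd 20798 = n31363 := ndS (p := 10147) (l := 0) rfl N10147 D31363
theorem N20799 : nd 20799 = n31364 := ndS (p := 10147) (l := 1) rfl N10147 D31364
theorem N20800 : nd 20800 = n31365 := ndS (p := 10147) (l := 7) rfl N10147 D31365
theorem N20801 : nd 20801 = n31366 := ndS (p := 10148) (l := 4) rfl N10148 D31366
theorem N20802 : nd 20802 = n31367 := ndS (p := 10148) (l := 6) rfl N10148 D31367
theorem N20803 : nd 20803 = n31368 := ndS (p := 10149) (l := 3) rfl N10149 D31368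
theorem N20804 : nd 20804 = n31369 := ndS (p := 10149) (l := 5) rfl N10149 D31369
theorem N20805 : nd 20805 = n31370 := ndS (p := 10149) (l := 6) rfl N10149 D31370
theorem N20806 : nd 20806 = n31371 := ndS (p := 10150) (l := 1) rfl N10150 D31371
theorem N20807 : nd 20807 = n31372 := ndS (p := 10150) (l := 7) rfl N10150 D31372
theorem N20808 : nd 20808 = n31373 := ndS (p := 10151) (l := 3) rfl N10151 D31373
theorem N20809 : nd 20809 = n31374 := ndS (p := 10151) (l := 5) rfl N10151 D31374
theorem N20810 : nd 20810 = n31375 := ndS (p := 10151) (l := 6) rfl N10151 D31375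
theorem N20811 : nd 20811 = n31376 := ndS (p := 10152) (l := 3) rfl N10152 D31376
theorem N20812 : nd 20812 = n31377 := ndS (p := 10152) (l := 5) rfl N10152 D31377
theorem N20813 : nd 20813 = n31378 := ndS (p := 10152) (l := 6) rfl N10152 D31378
theorem N20814 : nd 20814 = n31379 := ndS (p := 10153) (l := 0) rfl N10153 D31379
theorem N20815 : nd 20815 = n31380 := ndS (p := 10153) (l := 1) rfl N10153 D31380
theorem N20816 : nd 20816 = n31381 := ndS (p := 10153) (l := 2) rfl N10153 D31381
theorem N20817 : nd 20817 = n31382 := ndS (p := 10153) (l := 5) rfl N10153 D31382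
theorem N20818 : nd 20818 = n31383 := ndS (p := 10153) (l := 6) rfl N10153 D31383
theorem N20819 : nd 20819 = n31384 := ndS (p := 10154) (l := 0) rfl N10154 D31384
theorem N20820 : nd 20820 = n31385 := ndS (p := 10154) (l := 1) rfl N10154 D31385
theorem N20821 : nd 20821 = n31386 := ndS (p := 10154) (l := 4) rfl N10154 D31386
theorem N20822 : nd 20822 = n31387 := ndS (p := 10154) (l := 6) rfl N10154 D31387
theorem N20823 : nd 20823 = n31388 := ndS (p := 10155) (l := 0) rfl N10155 D31388
theorem N20824 : nd 20824 = n31389 := ndS (p := 10155) (l := 1) rfl N10155 D31389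
theorem N20825 : nd 20825 = n31390 := ndS (p := 10155) (l := 5) rfl N10155 D31390
theorem N20826 : nd 20826 = n31391 := ndS (p := 10155) (l := 7) rfl N10155 D31391
theorem N20827 : nd 20827 = n31393 := ndS (p := 10156) (l := 3) rfl N10156 D31393
theorem N20828 : nd 20828 = n31394 := ndS (p := 10156) (l := 4) rfl N10156 D31394
theorem N20829 : nd 20829 = n31395 := ndS (p := 10156) (l := 6) rfl N10156 D31395
theorem N20830 : nd 20830 = n31397 := ndS (p := 10157) (l := 3) rfl N10157 D31397
theorem N20831 : nd 20831 = n31398 := ndS (p := 10157) (l := 4) rfl N10157 D31398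
theorem N20832 : nd 20832 = n31399 := ndS (p := 10157) (l := 6) rfl N10157 D31399
theorem N20833 : nd 20833 = n31400 := ndS (p := 10158) (l := 0) rfl N10158 D31400
theorem N20834 : nd 20834 = n31401 := ndS (p := 10158) (l := 1) rfl N10158 D31401
theorem N20835 : nd 20835 = n31402 := ndS (p := 10158) (l := 4) rfl N10158 D31402
theorem N20836 : nd 20836 = n31403 := ndS (p := 10158) (l := 7) rfl N10158 D31403
theorem N20837 : nd 20837 = n31404 := ndS (p := 10160) (l := 5) rfl N10160 D31404
theorem N20838 : nd 20838 = n31405 := ndS (p := 10162) (l := 4) rfl N10162 D31405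
theorem N20839 : nd 20839 = n31406 := ndS (p := 10162) (l := 6) rfl N10162 D31406
theorem N20840 : nd 20840 = n31407 := ndS (p := 10163) (l := 5) rfl N10163 D31407
theorem N20841 : nd 20841 = n31408 := ndS (p := 10163) (l := 6) rfl N10163 D31408
theorem N20842 : nd 20842 = n31409 := ndS (p := 10165) (l := 4) rfl N10165 D31409
theorem N20843 : nd 20843 = n31410 := ndS (p := 10167) (l := 5) rfl N10167 D31410
theorem N20844 : nd 20844 = n31411 := ndS (p := 10168) (l := 3) rfl N10168 D31411
theorem N20845 : nd 20845 = n31412 := ndS (p := 10168) (l := 5) rfl N10168 D31412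
theorem N20846 : nd 20846 = n31413 := ndS (p := 10168) (l := 6) rfl N10168 D31413
theorem N20847 : nd 20847 = n31414 := ndS (p := 10169) (l := 0) rfl N10169 D31414
theorem N20848 : nd 20848 = n31415 := ndS (p := 10169) (l := 1) rfl N10169 D31415
theorem N20849 : nd 20849 = n31416 := ndS (p := 10169) (l := 7) rfl N10169 D31416
theorem N20850 : nd 20850 = n31417 := ndS (p := 10170) (l := 0) rfl N10170 D31417
theorem N20851 : nd 20851 = n31418 := ndS (p := 10170) (l := 1) rfl N10170 D31418
theorem N20852 : nd 20852 = n31419 := ndS (p := 10170) (l := 2) rfl N10170 D31419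
theorem N20853 : nd 20853 = n31420 := ndS (p := 10170) (l := 6) rfl N10170 D31420
theorem N20854 : nd 20854 = n31421 := ndS (p := 10171) (l := 0) rfl N10171 D31421
theorem N20855 : nd 20855 = n31422 := ndS (p := 10171) (l := 1) rfl N10171 D31422
theorem N20856 : nd 20856 = n31423 := ndS (p := 10171) (l := 5) rfl N10171 D31423
theorem N20857 : nd 20857 = n31424 := ndS (p := 10171) (l := 7) rfl N10171 D31424
theorem N20858 : nd 20858 = n31425 := ndS (p := 10172) (l := 3) rfl N10172 D31425
theorem N20859 : nd 20859 = n31427 := ndS (p := 10172) (l := 6) rfl N10172 D31427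
theorem N20860 : nd 20860 = n31429 := ndS (p := 10175) (l := 4) rfl N10175 D31429
theorem N20861 : nd 20861 = n31430 := ndS (p := 10175) (l := 6) rfl N10175 D31430
theorem N20862 : nd 20862 = n31431 := ndS (p := 10176) (l := 1) rfl N10176 D31431
theorem N20863 : nd 20863 = n31432 := ndS (p := 10176) (l := 3) rfl N10176 D31432
theorem N20864 : nd 20864 = n31433 := ndS (p := 10176) (l := 5) rfl N10176 D31433
theorem N20865 : nd 20865 = n31434 := ndS (p := 10176) (l := 6) rfl N10176 D31434
theorem N20866 : nd 20866 = n31435 := ndS (p := 10177) (l := 0) rfl N10177 D31435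
theorem N20867 : nd 20867 = n31436 := ndS (p := 10177) (l := 1) rfl N10177 D31436
theorem N20868 : nd 20868 = n31437 := ndS (p := 10177) (l := 7) rfl N10177 D31437
theorem N20869 : nd 20869 = n31438 := ndS (p := 10178) (l := 0) rfl N10178 D31438
theorem N20870 : nd 20870 = n31439 := ndS (p := 10178) (l := 1) rfl N10178 D31439
theorem N20871 : nd 20871 = n31440 := ndS (p := 10178) (l := 2) rfl N10178 D31440
theorem N20872 : nd 20872 = n31441 := ndS (p := 10178) (l := 6) rfl N10178 D31441
theorem N20873 : nd 20873 = n31442 := ndS (p := 10179) (l := 1) rfl N10179 D31442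
theorem N20874 : nd 20874 = n31443 := ndS (p := 10179) (l := 5) rfl N10179 D31443
theorem N20875 : nd 20875 = n31444 := ndS (p := 10179) (l := 7) rfl N10179 D31444
theorem N20876 : nd 20876 = n31445 := ndS (p := 10180) (l := 3) rfl N10180 D31445
theorem N20877 : nd 20877 = n31447 := ndS (p := 10182) (l := 3) rfl N10182 D31447
theorem N20878 : nd 20878 = n31448 := ndS (p := 10182) (l := 4) rfl N10182 D31448
theorem N20879 : nd 20879 = n31449 := ndS (p := 10182) (l := 5) rfl N10182 D31449
theorem N20880 : nd 20880 = n31450 := ndS (p := 10182) (l := 6) rfl N10182 D31450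
theorem N20881 : nd 20881 = n31452 := ndS (p := 10183) (l := 3) rfl N10183 D31452
theorem N20882 : nd 20882 = n31453 := ndS (p := 10183) (l := 4) rfl N10183 D31453
theorem N20883 : nd 20883 = n31454 := ndS (p := 10183) (l := 5) rfl N10183 D31454
theorem N20884 : nd 20884 = n31455 := ndS (p := 10183) (l := 6) rfl N10183 D31455
theorem N20885 : nd 20885 = n31483 := ndS (p := 10186) (l := 4) rfl N10186 D31483
theorem N20886 : nd 20886 = n31484 := ndS (p := 10186) (l := 6) rfl N10186 D31484
theorem N20887 : nd 20887 = n31495 := ndS (p := 10188) (l := 1) rfl N10188 D31495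
theorem N20888 : nd 20888 = n31496 := ndS (p := 10188) (l := 2) rfl N10188 D31496
theorem N20889 : nd 20889 = n31497 := ndS (p := 10188) (l := 4) rfl N10188 D31497
theorem N20890 : nd 20890 = n31498 := ndS (p := 10188) (l := 6) rfl N10188 D31498
theorem N20891 : nd 20891 = n31502 := ndS (p := 10189) (l := 0) rfl N10189 D31502
theorem N20892 : nd 20892 = n31503 := ndS (p := 10189) (l := 5) rfl N10189 D31503
theorem N20893 : nd 20893 = n31505 := ndS (p := 10190) (l := 3) rfl N10190 D31505
theorem N20894 : nd 20894 = n31507 := ndS (p := 10190) (l := 6) rfl N10190 D31507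
theorem N20895 : nd 20895 = n31509 := ndS (p := 10191) (l := 3) rfl N10191 D31509
theorem N20896 : nd 20896 = n31511 := ndS (p := 10193) (l := 4) rfl N10193 D31511
theorem N20897 : nd 20897 = n31512 := ndS (p := 10194) (l := 5) rfl N10194 D31512
theorem N20898 : nd 20898 = n31513 := ndS (p := 10195) (l := 4) rfl N10195 D31513
theorem N20899 : nd 20899 = n31514 := ndS (p := 10196) (l := 0) rfl N10196 D31514
theorem N20900 : nd 20900 = n31515 := ndS (p := 10196) (l := 1) rfl N10196 D31515
theorem N20901 : nd 20901 = n31516 := ndS (p := 10196) (l := 2) rfl N10196 D31516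
theorem N20902 : nd 20902 = n31517 := ndS (p := 10196) (l := 5) rfl N10196 D31517
theorem N20903 : nd 20903 = n31518 := ndS (p := 10197) (l := 4) rfl N10197 D31518
theorem N20904 : nd 20904 = n31519 := ndS (p := 10197) (l := 6) rfl N10197 D31519
theorem N20905 : nd 20905 = n31521 := ndS (p := 10198) (l := 4) rfl N10198 D31521
theorem N20906 : nd 20906 = n31522 := ndS (p := 10199) (l := 4) rfl N10199 D31522
theorem N20907 : nd 20907 = n31523 := ndS (p := 10200) (l := 5) rfl N10200 D31523
theorem N20908 : nd 20908 = n31524 := ndS (p := 10201) (l := 4) rfl N10201 D31524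
theorem N20909 : nd 20909 = n31525 := ndS (p := 10201) (l := 6) rfl N10201 D31525
theorem N20910 : nd 20910 = n31526 := ndS (p := 10202) (l := 1) rfl N10202 D31526
theorem N20911 : nd 20911 = n31527 := ndS (p := 10202) (l := 7) rfl N10202 D31527
theorem N20912 : nd 20912 = n31529 := ndS (p := 10203) (l := 4) rfl N10203 D31529
theorem N20913 : nd 20913 = n31531 := ndS (p := 10203) (l := 6) rfl N10203 D31531
theorem N20914 : nd 20914 = n31533 := ndS (p := 10204) (l := 3) rfl N10204 D31533
theorem N20915 : nd 20915 = n31540 := ndS (p := 10206) (l := 4) rfl N10206 D31540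
theorem N20916 : nd 20916 = n31541 := ndS (p := 10206) (l := 6) rfl N10206 D31541
theorem N20917 : nd 20917 = n31542 := ndS (p := 10207) (l := 0) rfl N10207 D31542
theorem N20918 : nd 20918 = n31543 := ndS (p := 10207) (l := 1) rfl N10207 D31543
theorem N20919 : nd 20919 = n31544 := ndS (p := 10207) (l := 7) rfl N10207 D31544
theorem N20920 : nd 20920 = n31546 := ndS (p := 10208) (l := 3) rfl N10208 D31546
theorem N20921 : nd 20921 = n31547 := ndS (p := 10208) (l := 4) rfl N10208 D31547
theorem N20922 : nd 20922 = n31552 := ndS (p := 10209) (l := 4) rfl N10209 D31552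
theorem N20923 : nd 20923 = n31554 := ndS (p := 10209) (l := 6) rfl N10209 D31554
theorem N20924 : nd 20924 = n31555 := ndS (p := 10210) (l := 5) rfl N10210 D31555
theorem N20925 : nd 20925 = n31558 := ndS (p := 10211) (l := 4) rfl N10211 D31558
theorem N20926 : nd 20926 = n31559 := ndS (p := 10211) (l := 6) rfl N10211 D31559
theorem N20927 : nd 20927 = n31560 := ndS (p := 10212) (l := 0) rfl N10212 D31560
theorem N20928 : nd 20928 = n31561 := ndS (p := 10212) (l := 1) rfl N10212 D31561
theorem N20929 : nd 20929 = n31562 := ndS (p := 10212) (l := 7) rfl N10212 D31562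
theorem N20930 : nd 20930 = n31564 := ndS (p := 10213) (l := 4) rfl N10213 D31564
theorem N20931 : nd 20931 = n31566 := ndS (p := 10213) (l := 6) rfl N10213 D31566
theorem N20932 : nd 20932 = n31568 := ndS (p := 10214) (l := 3) rfl N10214 D31568
theorem N20933 : nd 20933 = n31569 := ndS (p := 10214) (l := 4) rfl N10214 D31569
theorem N20934 : nd 20934 = n31572 := ndS (p := 10215) (l := 5) rfl N10215 D31572
theorem N20935 : nd 20935 = n31573 := ndS (p := 10216) (l := 0) rfl N10216 D31573
theorem N20936 : nd 20936 = n31574 := ndS (p := 10216) (l := 1) rfl N10216 D31574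
theorem N20937 : nd 20937 = n31575 := ndS (p := 10216) (l := 5) rfl N10216 D31575
theorem N20938 : nd 20938 = n31576 := ndS (p := 10217) (l := 0) rfl N10217 D31576
theorem N20939 : nd 20939 = n31577 := ndS (p := 10217) (l := 1) rfl N10217 D31577
theorem N20940 : nd 20940 = n31579 := ndS (p := 10217) (l := 6) rfl N10217 D31579
theorem N20941 : nd 20941 = n31580 := ndS (p := 10218) (l := 0) rfl N10218 D31580
theorem N20942 : nd 20942 = n31581 := ndS (p := 10218) (l := 1) rfl N10218 D31581
theorem N20943 : nd 20943 = n31582 := ndS (p := 10218) (l := 7) rfl N10218 D31582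
theorem N20944 : nd 20944 = n31590 := ndS (p := 10219) (l := 1) rfl N10219 D31590
theorem N20945 : nd 20945 = n31591 := ndS (p := 10219) (l := 2) rfl N10219 D31591
theorem N20946 : nd 20946 = n31592 := ndS (p := 10219) (l := 5) rfl N10219 D31592
theorem N20947 : nd 20947 = n31593 := ndS (p := 10219) (l := 6) rfl N10219 D31593
theorem N20948 : nd 20948 = n31595 := ndS (p := 10220) (l := 0) rfl N10220 D31595
theorem N20949 : nd 20949 = n31596 := ndS (p := 10220) (l := 1) rfl N10220 D31596
theorem N20950 : nd 20950 = n31598 := ndS (p := 10220) (l := 5) rfl N10220 D31598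
theorem N20951 : nd 20951 = n31599 := ndS (p := 10220) (l := 6) rfl N10220 D31599
theorem N20952 : nd 20952 = n31603 := ndS (p := 10221) (l := 4) rfl N10221 D31603
theorem N20953 : nd 20953 = n31604 := ndS (p := 10221) (l := 6) rfl N10221 D31604
theorem N20954 : nd 20954 = n31611 := ndS (p := 10223) (l := 0) rfl N10223 D31611
theorem N20955 : nd 20955 = n31613 := ndS (p := 10223) (l := 2) rfl N10223 D31613
theorem N20956 : nd 20956 = n31615 := ndS (p := 10223) (l := 5) rfl N10223 D31615
theorem N20957 : nd 20957 = n31617 := ndS (p := 10224) (l := 5) rfl N10224 D31617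
theorem N20958 : nd 20958 = n31619 := ndS (p := 10225) (l := 4) rfl N10225 D31619
theorem N20959 : nd 20959 = n31620 := ndS (p := 10225) (l := 6) rfl N10225 D31620
theorem N20960 : nd 20960 = n31625 := ndS (p := 10226) (l := 4) rfl N10226 D31625
theorem N20961 : nd 20961 = n31626 := ndS (p := 10226) (l := 6) rfl N10226 D31626
theorem N20962 : nd 20962 = n31627 := ndS (p := 10227) (l := 0) rfl N10227 D31627
theorem N20963 : nd 20963 = n31628 := ndS (p := 10227) (l := 1) rfl N10227 D31628
theorem N20964 : nd 20964 = n31630 := ndS (p := 10228) (l := 3) rfl N10228 D31630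
theorem N20965 : nd 20965 = n31631 := ndS (p := 10228) (l := 4) rfl N10228 D31631
theorem N20966 : nd 20966 = n31633 := ndS (p := 10228) (l := 6) rfl N10228 D31633
theorem N20967 : nd 20967 = n31635 := ndS (p := 10229) (l := 3) rfl N10229 D31635
theorem N20968 : nd 20968 = n31636 := ndS (p := 10229) (l := 4) rfl N10229 D31636
theorem N20969 : nd 20969 = n31638 := ndS (p := 10229) (l := 6) rfl N10229 D31638
theorem N20970 : nd 20970 = n31639 := ndS (p := 10230) (l := 0) rfl N10230 D31639
theorem N20971 : nd 20971 = n31640 := ndS (p := 10230) (l := 1) rfl N10230 D31640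
theorem N20972 : nd 20972 = n31641 := ndS (p := 10230) (l := 5) rfl N10230 D31641
theorem N20973 : nd 20973 = n31642 := ndS (p := 10230) (l := 6) rfl N10230 D31642
theorem N20974 : nd 20974 = n31643 := ndS (p := 10231) (l := 0) rfl N10231 D31643
theorem N20975 : nd 20975 = n31644 := ndS (p := 10231) (l := 1) rfl N10231 D31644
theorem N20976 : nd 20976 = n31646 := ndS (p := 10231) (l := 7) rfl N10231 D31646
theorem N20977 : nd 20977 = n31648 := ndS (p := 10232) (l := 3) rfl N10232 D31648
theorem N20978 : nd 20978 = n31649 := ndS (p := 10232) (l := 4) rfl N10232 D31649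
theorem N20979 : nd 20979 = n31650 := ndS (p := 10232) (l := 5) rfl N10232 D31650
theorem N20980 : nd 20980 = n31653 := ndS (p := 10233) (l := 3) rfl N10233 D31653
theorem N20981 : nd 20981 = n31654 := ndS (p := 10233) (l := 4) rfl N10233 D31654
theorem N20982 : nd 20982 = n31655 := ndS (p := 10233) (l := 5) rfl N10233 D31655
theorem N20983 : nd 20983 = n31659 := ndS (p := 10234) (l := 4) rfl N10234 D31659
theorem N20984 : nd 20984 = n31660 := ndS (p := 10234) (l := 7) rfl N10234 D31660
theorem N20985 : nd 20985 = n31662 := ndS (p := 10236) (l := 3) rfl N10236 D31662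
theorem N20986 : nd 20986 = n31664 := ndS (p := 10236) (l := 5) rfl N10236 D31664
theorem N20987 : nd 20987 = n31665 := ndS (p := 10236) (l := 6) rfl N10236 D31665
theorem N20988 : nd 20988 = n31669 := ndS (p := 10237) (l := 5) rfl N10237 D31669
theorem N20989 : nd 20989 = n31670 := ndS (p := 10237) (l := 6) rfl N10237 D31670
theorem N20990 : nd 20990 = n31675 := ndS (p := 10239) (l := 0) rfl N10239 D31675
theorem N20991 : nd 20991 = n31677 := ndS (p := 10239) (l := 2) rfl N10239 D31677
theorem N20992 : nd 20992 = n31680 := ndS (p := 10240) (l := 2) rfl N10240 D31680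
theorem N20993 : nd 20993 = n31681 := ndS (p := 10240) (l := 4) rfl N10240 D31681
theorem N20994 : nd 20994 = n31682 := ndS (p := 10240) (l := 6) rfl N10240 D31682
theorem N20995 : nd 20995 = n31683 := ndS (p := 10242) (l := 3) rfl N10242 D31683
theorem N20996 : nd 20996 = n31685 := ndS (p := 10243) (l := 6) rfl N10243 D31685
theorem N20997 : nd 20997 = n31686 := ndS (p := 10244) (l := 3) rfl N10244 D31686
theorem N20998 : nd 20998 = n31687 := ndS (p := 10244) (l := 5) rfl N10244 D31687
theorem N20999 : nd 20999 = n31688 := ndS (p := 10245) (l := 0) rfl N10245 D31688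
theorem N21000 : nd 21000 = n31691 := ndS (p := 10246) (l := 2) rfl N10246 D31691
theorem N21001 : nd 21001 = n31692 := ndS (p := 10246) (l := 6) rfl N10246 D31692
theorem N21002 : nd 21002 = n31705 := ndS (p := 10248) (l := 4) rfl N10248 D31705
theorem N21003 : nd 21003 = n31706 := ndS (p := 10248) (l := 6) rfl N10248 D31706
theorem N21004 : nd 21004 = n31708 := ndS (p := 10249) (l := 6) rfl N10249 D31708
theorem N21005 : nd 21005 = n31710 := ndS (p := 10250) (l := 1) rfl N10250 D31710
theorem N21006 : nd 21006 = n31711 := ndS (p := 10250) (l := 7) rfl N10250 D31711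
theorem N21007 : nd 21007 = n31712 := ndS (p := 10251) (l := 6) rfl N10251 D31712
theorem N21008 : nd 21008 = n31714 := ndS (p := 10252) (l := 1) rfl N10252 D31714
theorem N21009 : nd 21009 = n31715 := ndS (p := 10253) (l := 6) rfl N10253 D31715
theorem N21010 : nd 21010 = n31716 := ndS (p := 10254) (l := 3) rfl N10254 D31716
theorem N21011 : nd 21011 = n31717 := ndS (p := 10254) (l := 6) rfl N10254 D31717
theorem N21012 : nd 21012 = n31718 := ndS (p := 10255) (l := 7) rfl N10255 D31718
theorem N21013 : nd 21013 = n31719 := ndS (p := 10256) (l := 6) rfl N10256 D31719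
theorem N21014 : nd 21014 = n31720 := ndS (p := 10257) (l := 3) rfl N10257 D31720
theorem N21015 : nd 21015 = n31721 := ndS (p := 10257) (l := 6) rfl N10257 D31721
theorem N21016 : nd 21016 = n31723 := ndS (p := 10258) (l := 1) rfl N10258 D31723
theorem N21017 : nd 21017 = n31724 := ndS (p := 10258) (l := 7) rfl N10258 D31724
theorem N21018 : nd 21018 = n31725 := ndS (p := 10259) (l := 3) rfl N10259 D31725
theorem N21019 : nd 21019 = n31726 := ndS (p := 10259) (l := 6) rfl N10259 D31726
theorem N21020 : nd 21020 = n31727 := ndS (p := 10260) (l := 3) rfl N10260 D31727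
theorem N21021 : nd 21021 = n31728 := ndS (p := 10260) (l := 6) rfl N10260 D31728
theorem N21022 : nd 21022 = n31729 := ndS (p := 10261) (l := 0) rfl N10261 D31729
theorem N21023 : nd 21023 = n31730 := ndS (p := 10261) (l := 1) rfl N10261 D31730
theorem N21024 : nd 21024 = n31731 := ndS (p := 10261) (l := 2) rfl N10261 D31731
theorem N21025 : nd 21025 = n31732 := ndS (p := 10261) (l := 6) rfl N10261 D31732
theorem N21026 : nd 21026 = n31733 := ndS (p := 10262) (l := 0) rfl N10262 D31733
theorem N21027 : nd 21027 = n31734 := ndS (p := 10262) (l := 1) rfl N10262 D31734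
theorem N21028 : nd 21028 = n31735 := ndS (p := 10262) (l := 5) rfl N10262 D31735
theorem N21029 : nd 21029 = n31736 := ndS (p := 10262) (l := 7) rfl N10262 D31736
theorem N21030 : nd 21030 = n31737 := ndS (p := 10263) (l := 3) rfl N10263 D31737
theorem N21031 : nd 21031 = n31738 := ndS (p := 10263) (l := 4) rfl N10263 D31738
theorem N21032 : nd 21032 = n31739 := ndS (p := 10263) (l := 6) rfl N10263 D31739
theorem N21033 : nd 21033 = n31740 := ndS (p := 10264) (l := 3) rfl N10264 D31740
theorem N21034 : nd 21034 = n31741 := ndS (p := 10264) (l := 4) rfl N10264 D31741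
theorem N21035 : nd 21035 = n31742 := ndS (p := 10265) (l := 0) rfl N10265 D31742
theorem N21036 : nd 21036 = n31743 := ndS (p := 10265) (l := 1) rfl N10265 D31743
theorem N21037 : nd 21037 = n31744 := ndS (p := 10265) (l := 4) rfl N10265 D31744
theorem N21038 : nd 21038 = n31745 := ndS (p := 10265) (l := 7) rfl N10265 D31745
theorem N21039 : nd 21039 = n31746 := ndS (p := 10269) (l := 3) rfl N10269 D31746
theorem N21040 : nd 21040 = n31747 := ndS (p := 10269) (l := 5) rfl N10269 D31747
theorem N21041 : nd 21041 = n31749 := ndS (p := 10270) (l := 3) rfl N10270 D31749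
theorem N21042 : nd 21042 = n31750 := ndS (p := 10270) (l := 4) rfl N10270 D31750
theorem N21043 : nd 21043 = n31751 := ndS (p := 10270) (l := 5) rfl N10270 D31751
theorem N21044 : nd 21044 = n31752 := ndS (p := 10270) (l := 6) rfl N10270 D31752
theorem N21045 : nd 21045 = n31754 := ndS (p := 10271) (l := 3) rfl N10271 D31754
theorem N21046 : nd 21046 = n31755 := ndS (p := 10271) (l := 4) rfl N10271 D31755
theorem N21047 : nd 21047 = n31756 := ndS (p := 10271) (l := 5) rfl N10271 D31756
theorem N21048 : nd 21048 = n31757 := ndS (p := 10271) (l := 6) rfl N10271 D31757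
theorem N21049 : nd 21049 = n31758 := ndS (p := 10272) (l := 6) rfl N10272 D31758
theorem N21050 : nd 21050 = n31759 := ndS (p := 10273) (l := 0) rfl N10273 D31759
theorem N21051 : nd 21051 = n31760 := ndS (p := 10273) (l := 1) rfl N10273 D31760
theorem N21052 : nd 21052 = n31761 := ndS (p := 10273) (l := 5) rfl N10273 D31761
theorem N21053 : nd 21053 = n31762 := ndS (p := 10273) (l := 7) rfl N10273 D31762
theorem N21054 : nd 21054 = n31763 := ndS (p := 10274) (l := 0) rfl N10274 D31763
theorem N21055 : nd 21055 = n31765 := ndS (p := 10274) (l := 4) rfl N10274 D31765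
theorem N21056 : nd 21056 = n31766 := ndS (p := 10274) (l := 7) rfl N10274 D31766
theorem N21057 : nd 21057 = n31767 := ndS (p := 10276) (l := 0) rfl N10276 D31767
theorem N21058 : nd 21058 = n31769 := ndS (p := 10276) (l := 2) rfl N10276 D31769
theorem N21059 : nd 21059 = n31770 := ndS (p := 10276) (l := 4) rfl N10276 D31770
theorem N21060 : nd 21060 = n31771 := ndS (p := 10276) (l := 6) rfl N10276 D31771
theorem N21061 : nd 21061 = n31772 := ndS (p := 10277) (l := 3) rfl N10277 D31772
theorem N21062 : nd 21062 = n31773 := ndS (p := 10277) (l := 5) rfl N10277 D31773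
theorem N21063 : nd 21063 = n31774 := ndS (p := 10277) (l := 6) rfl N10277 D31774
theorem N21064 : nd 21064 = n31775 := ndS (p := 10279) (l := 4) rfl N10279 D31775
theorem N21065 : nd 21065 = n31777 := ndS (p := 10280) (l := 5) rfl N10280 D31777
theorem N21066 : nd 21066 = n31779 := ndS (p := 10281) (l := 3) rfl N10281 D31779
theorem N21067 : nd 21067 = n31780 := ndS (p := 10281) (l := 4) rfl N10281 D31780
theorem N21068 : nd 21068 = n31781 := ndS (p := 10281) (l := 5) rfl N10281 D31781
theorem N21069 : nd 21069 = n31783 := ndS (p := 10282) (l := 3) rfl N10282 D31783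
theorem N21070 : nd 21070 = n31784 := ndS (p := 10282) (l := 4) rfl N10282 D31784
theorem N21071 : nd 21071 = n31786 := ndS (p := 10283) (l := 3) rfl N10283 D31786
theorem N21072 : nd 21072 = n31787 := ndS (p := 10283) (l := 5) rfl N10283 D31787
theorem N21073 : nd 21073 = n31788 := ndS (p := 10283) (l := 7) rfl N10283 D31788
theorem N21074 : nd 21074 = n31791 := ndS (p := 10285) (l := 2) rfl N10285 D31791
theorem N21075 : nd 21075 = n31793 := ndS (p := 10286) (l := 2) rfl N10286 D31793
theorem N21076 : nd 21076 = n31794 := ndS (p := 10286) (l := 5) rfl N10286 D31794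
theorem N21077 : nd 21077 = n31795 := ndS (p := 10287) (l := 4) rfl N10287 D31795
theorem N21078 : nd 21078 = n31796 := ndS (p := 10287) (l := 6) rfl N10287 D31796
theorem N21079 : nd 21079 = n31797 := ndS (p := 10288) (l := 4) rfl N10288 D31797
theorem N21080 : nd 21080 = n31798 := ndS (p := 10288) (l := 6) rfl N10288 D31798
theorem N21081 : nd 21081 = n31799 := ndS (p := 10289) (l := 3) rfl N10289 D31799
theorem N21082 : nd 21082 = n31800 := ndS (p := 10289) (l := 4) rfl N10289 D31800
theorem N21083 : nd 21083 = n31801 := ndS (p := 10289) (l := 6) rfl N10289 D31801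
theorem N21084 : nd 21084 = n31802 := ndS (p := 10290) (l := 3) rfl N10290 D31802
theorem N21085 : nd 21085 = n31803 := ndS (p := 10290) (l := 4) rfl N10290 D31803
theorem N21086 : nd 21086 = n31804 := ndS (p := 10290) (l := 6) rfl N10290 D31804
theorem N21087 : nd 21087 = n31805 := ndS (p := 10291) (l := 0) rfl N10291 D31805
theorem N21088 : nd 21088 = n31806 := ndS (p := 10291) (l := 1) rfl N10291 D31806
theorem N21089 : nd 21089 = n31807 := ndS (p := 10291) (l := 5) rfl N10291 D31807
theorem N21090 : nd 21090 = n31808 := ndS (p := 10291) (l := 6) rfl N10291 D31808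
theorem N21091 : nd 21091 = n31809 := ndS (p := 10292) (l := 0) rfl N10292 D31809
theorem N21092 : nd 21092 = n31810 := ndS (p := 10292) (l := 1) rfl N10292 D31810
theorem N21093 : nd 21093 = n31811 := ndS (p := 10292) (l := 7) rfl N10292 D31811
theorem N21094 : nd 21094 = n31813 := ndS (p := 10293) (l := 3) rfl N10293 D31813
theorem N21095 : nd 21095 = n31816 := ndS (p := 10293) (l := 6) rfl N10293 D31816
theorem N21096 : nd 21096 = n31821 := ndS (p := 10294) (l := 6) rfl N10294 D31821
theorem N21097 : nd 21097 = n31826 := ndS (p := 10297) (l := 2) rfl N10297 D31826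
theorem N21098 : nd 21098 = n31828 := ndS (p := 10298) (l := 5) rfl N10298 D31828
theorem N21099 : nd 21099 = n31833 := ndS (p := 10299) (l := 4) rfl N10299 D31833
theorem N21100 : nd 21100 = n31835 := ndS (p := 10300) (l := 5) rfl N10300 D31835
theorem N21101 : nd 21101 = n31838 := ndS (p := 10301) (l := 4) rfl N10301 D31838
theorem N21102 : nd 21102 = n31839 := ndS (p := 10301) (l := 6) rfl N10301 D31839
theorem N21103 : nd 21103 = n31840 := ndS (p := 10302) (l := 3) rfl N10302 D31840
theorem N21104 : nd 21104 = n31841 := ndS (p := 10302) (l := 4) rfl N10302 D31841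
theorem N21105 : nd 21105 = n31842 := ndS (p := 10302) (l := 6) rfl N10302 D31842
theorem N21106 : nd 21106 = n31843 := ndS (p := 10303) (l := 3) rfl N10303 D31843
theorem N21107 : nd 21107 = n31844 := ndS (p := 10303) (l := 4) rfl N10303 D31844
theorem N21108 : nd 21108 = n31845 := ndS (p := 10303) (l := 6) rfl N10303 D31845
theorem N21109 : nd 21109 = n31846 := ndS (p := 10304) (l := 0) rfl N10304 D31846
theorem N21110 : nd 21110 = n31847 := ndS (p := 10304) (l := 1) rfl N10304 D31847
theorem N21111 : nd 21111 = n31848 := ndS (p := 10304) (l := 5) rfl N10304 D31848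
theorem N21112 : nd 21112 = n31849 := ndS (p := 10304) (l := 6) rfl N10304 D31849
theorem N21113 : nd 21113 = n31850 := ndS (p := 10305) (l := 0) rfl N10305 D31850
theorem N21114 : nd 21114 = n31851 := ndS (p := 10305) (l := 1) rfl N10305 D31851
theorem N21115 : nd 21115 = n31852 := ndS (p := 10305) (l := 7) rfl N10305 D31852
theorem N21116 : nd 21116 = n31856 := ndS (p := 10306) (l := 4) rfl N10306 D31856
theorem N21117 : nd 21117 = n31857 := ndS (p := 10306) (l := 6) rfl N10306 D31857
theorem N21118 : nd 21118 = n31858 := ndS (p := 10307) (l := 0) rfl N10307 D31858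
theorem N21119 : nd 21119 = n31859 := ndS (p := 10307) (l := 1) rfl N10307 D31859
theorem N21120 : nd 21120 = n31860 := ndS (p := 10307) (l := 7) rfl N10307 D31860
theorem N21121 : nd 21121 = n31863 := ndS (p := 10308) (l := 2) rfl N10308 D31863
theorem N21122 : nd 21122 = n31864 := ndS (p := 10308) (l := 4) rfl N10308 D31864
theorem N21123 : nd 21123 = n31865 := ndS (p := 10308) (l := 6) rfl N10308 D31865
theorem N21124 : nd 21124 = n31866 := ndS (p := 10309) (l := 1) rfl N10309 D31866
theorem N21125 : nd 21125 = n31867 := ndS (p := 10309) (l := 7) rfl N10309 D31867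
theorem N21126 : nd 21126 = n31871 := ndS (p := 10310) (l := 5) rfl N10310 D31871
theorem N21127 : nd 21127 = n31874 := ndS (p := 10311) (l := 3) rfl N10311 D31874
theorem N21128 : nd 21128 = n31876 := ndS (p := 10311) (l := 5) rfl N10311 D31876
theorem N21129 : nd 21129 = n31877 := ndS (p := 10311) (l := 6) rfl N10311 D31877
theorem N21130 : nd 21130 = n31878 := ndS (p := 10312) (l := 0) rfl N10312 D31878
theorem N21131 : nd 21131 = n31879 := ndS (p := 10312) (l := 1) rfl N10312 D31879
theorem N21132 : nd 21132 = n31880 := ndS (p := 10312) (l := 4) rfl N10312 D31880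
theorem N21133 : nd 21133 = n31881 := ndS (p := 10312) (l := 7) rfl N10312 D31881
theorem N21134 : nd 21134 = n31885 := ndS (p := 10316) (l := 3) rfl N10316 D31885
theorem N21135 : nd 21135 = n31886 := ndS (p := 10316) (l := 4) rfl N10316 D31886
theorem N21136 : nd 21136 = n31887 := ndS (p := 10316) (l := 6) rfl N10316 D31887
theorem N21137 : nd 21137 = n31888 := ndS (p := 10317) (l := 1) rfl N10317 D31888
theorem N21138 : nd 21138 = n31889 := ndS (p := 10317) (l := 3) rfl N10317 D31889
theorem N21139 : nd 21139 = n31890 := ndS (p := 10318) (l := 6) rfl N10318 D31890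
theorem N21140 : nd 21140 = n31891 := ndS (p := 10321) (l := 5) rfl N10321 D31891
theorem N21141 : nd 21141 = n31892 := ndS (p := 10322) (l := 6) rfl N10322 D31892
theorem N21142 : nd 21142 = n31893 := ndS (p := 10323) (l := 5) rfl N10323 D31893
theorem N21143 : nd 21143 = n31894 := ndS (p := 10324) (l := 6) rfl N10324 D31894
theorem N21144 : nd 21144 = n31895 := ndS (p := 10325) (l := 6) rfl N10325 D31895
theorem N21145 : nd 21145 = n31896 := ndS (p := 10326) (l := 0) rfl N10326 D31896
theorem N21146 : nd 21146 = n31897 := ndS (p := 10326) (l := 1) rfl N10326 D31897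
theorem N21147 : nd 21147 = n31898 := ndS (p := 10326) (l := 5) rfl N10326 D31898
theorem N21148 : nd 21148 = n31899 := ndS (p := 10326) (l := 7) rfl N10326 D31899
theorem N21149 : nd 21149 = n31902 := ndS (p := 10328) (l := 3) rfl N10328 D31902
theorem N21150 : nd 21150 = n31903 := ndS (p := 10328) (l := 4) rfl N10328 D31903
theorem N21151 : nd 21151 = n31907 := ndS (p := 10329) (l := 3) rfl N10329 D31907
theorem N21152 : nd 21152 = n31908 := ndS (p := 10329) (l := 4) rfl N10329 D31908
theorem N21153 : nd 21153 = n31909 := ndS (p := 10329) (l := 5) rfl N10329 D31909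
theorem N21154 : nd 21154 = n31911 := ndS (p := 10330) (l := 0) rfl N10330 D31911
theorem N21155 : nd 21155 = n31912 := ndS (p := 10330) (l := 1) rfl N10330 D31912
theorem N21156 : nd 21156 = n31914 := ndS (p := 10330) (l := 7) rfl N10330 D31914
theorem N21157 : nd 21157 = n31917 := ndS (p := 10332) (l := 2) rfl N10332 D31917
theorem N21158 : nd 21158 = n31918 := ndS (p := 10332) (l := 4) rfl N10332 D31918
theorem N21159 : nd 21159 = n31922 := ndS (p := 10333) (l := 2) rfl N10333 D31922
theorem N21160 : nd 21160 = n31923 := ndS (p := 10334) (l := 5) rfl N10334 D31923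
theorem N21161 : nd 21161 = n31924 := ndS (p := 10334) (l := 6) rfl N10334 D31924
theorem N21162 : nd 21162 = n31925 := ndS (p := 10335) (l := 1) rfl N10335 D31925
theorem N21163 : nd 21163 = n31926 := ndS (p := 10335) (l := 5) rfl N10335 D31926
theorem N21164 : nd 21164 = n31927 := ndS (p := 10335) (l := 6) rfl N10335 D31927
theorem N21165 : nd 21165 = n31930 := ndS (p := 10336) (l := 4) rfl N10336 D31930
theorem N21166 : nd 21166 = n31931 := ndS (p := 10336) (l := 6) rfl N10336 D31931
theorem N21167 : nd 21167 = n31932 := ndS (p := 10337) (l := 5) rfl N10337 D31932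
theorem N21168 : nd 21168 = n31933 := ndS (p := 10338) (l := 4) rfl N10338 D31933
theorem N21169 : nd 21169 = n31934 := ndS (p := 10338) (l := 5) rfl N10338 D31934
theorem N21170 : nd 21170 = n31935 := ndS (p := 10339) (l := 5) rfl N10339 D31935
theorem N21171 : nd 21171 = n31936 := ndS (p := 10340) (l := 4) rfl N10340 D31936
theorem N21172 : nd 21172 = n31937 := ndS (p := 10340) (l := 6) rfl N10340 D31937
theorem N21173 : nd 21173 = n31938 := ndS (p := 10341) (l := 3) rfl N10341 D31938
theorem N21174 : nd 21174 = n31939 := ndS (p := 10341) (l := 5) rfl N10341 D31939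
theorem N21175 : nd 21175 = n31940 := ndS (p := 10342) (l := 4) rfl N10342 D31940
theorem N21176 : nd 21176 = n31941 := ndS (p := 10342) (l := 6) rfl N10342 D31941
theorem N21177 : nd 21177 = n31942 := ndS (p := 10343) (l := 4) rfl N10343 D31942
theorem N21178 : nd 21178 = n31943 := ndS (p := 10343) (l := 5) rfl N10343 D31943
theorem N21179 : nd 21179 = n31944 := ndS (p := 10343) (l := 6) rfl N10343 D31944
theorem N21180 : nd 21180 = n31945 := ndS (p := 10344) (l := 3) rfl N10344 D31945
theorem N21181 : nd 21181 = n31946 := ndS (p := 10344) (l := 5) rfl N10344 D31946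
theorem N21182 : nd 21182 = n31947 := ndS (p := 10345) (l := 0) rfl N10345 D31947
theorem N21183 : nd 21183 = n31948 := ndS (p := 10345) (l := 1) rfl N10345 D31948
theorem N21184 : nd 21184 = n31949 := ndS (p := 10345) (l := 4) rfl N10345 D31949
theorem N21185 : nd 21185 = n31950 := ndS (p := 10345) (l := 6) rfl N10345 D31950
theorem N21186 : nd 21186 = n31951 := ndS (p := 10346) (l := 0) rfl N10346 D31951
theorem N21187 : nd 21187 = n31952 := ndS (p := 10346) (l := 5) rfl N10346 D31952
theorem N21188 : nd 21188 = n31953 := ndS (p := 10346) (l := 7) rfl N10346 D31953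
theorem N21189 : nd 21189 = n31956 := ndS (p := 10347) (l := 4) rfl N10347 D31956
theorem N21190 : nd 21190 = n31958 := ndS (p := 10347) (l := 6) rfl N10347 D31958
theorem N21191 : nd 21191 = n31959 := ndS (p := 10348) (l := 3) rfl N10348 D31959
theorem N21192 : nd 21192 = n31960 := ndS (p := 10348) (l := 4) rfl N10348 D31960
theorem N21193 : nd 21193 = n31962 := ndS (p := 10348) (l := 6) rfl N10348 D31962
theorem N21194 : nd 21194 = n31963 := ndS (p := 10349) (l := 0) rfl N10349 D31963
theorem N21195 : nd 21195 = n31964 := ndS (p := 10349) (l := 1) rfl N10349 D31964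
theorem N21196 : nd 21196 = n31965 := ndS (p := 10349) (l := 5) rfl N10349 D31965
theorem N21197 : nd 21197 = n31966 := ndS (p := 10349) (l := 6) rfl N10349 D31966
theorem N21198 : nd 21198 = n31967 := ndS (p := 10350) (l := 0) rfl N10350 D31967
theorem N21199 : nd 21199 = n31968 := ndS (p := 10350) (l := 1) rfl N10350 D31968
theorem N21200 : nd 21200 = n31969 := ndS (p := 10350) (l := 5) rfl N10350 D31969
theorem N21201 : nd 21201 = n31970 := ndS (p := 10350) (l := 7) rfl N10350 D31970
theorem N21202 : nd 21202 = n31971 := ndS (p := 10351) (l := 4) rfl N10351 D31971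
theorem N21203 : nd 21203 = n31972 := ndS (p := 10351) (l := 5) rfl N10351 D31972
theorem N21204 : nd 21204 = n31973 := ndS (p := 10352) (l := 4) rfl N10352 D31973
theorem N21205 : nd 21205 = n31974 := ndS (p := 10352) (l := 7) rfl N10352 D31974
theorem N21206 : nd 21206 = n31975 := ndS (p := 10354) (l := 4) rfl N10354 D31975
theorem N21207 : nd 21207 = n31976 := ndS (p := 10354) (l := 6) rfl N10354 D31976
theorem N21208 : nd 21208 = n31977 := ndS (p := 10355) (l := 0) rfl N10355 D31977
theorem N21209 : nd 21209 = n31978 := ndS (p := 10355) (l := 1) rfl N10355 D31978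
theorem N21210 : nd 21210 = n31979 := ndS (p := 10355) (l := 7) rfl N10355 D31979
theorem N21211 : nd 21211 = n31982 := ndS (p := 10356) (l := 2) rfl N10356 D31982
theorem N21212 : nd 21212 = n31983 := ndS (p := 10356) (l := 4) rfl N10356 D31983
theorem N21213 : nd 21213 = n31984 := ndS (p := 10356) (l := 6) rfl N10356 D31984
theorem N21214 : nd 21214 = n31985 := ndS (p := 10357) (l := 1) rfl N10357 D31985
theorem N21215 : nd 21215 = n31986 := ndS (p := 10357) (l := 7) rfl N10357 D31986
theorem N21216 : nd 21216 = n31988 := ndS (p := 10358) (l := 3) rfl N10358 D31988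
theorem N21217 : nd 21217 = n31990 := ndS (p := 10358) (l := 5) rfl N10358 D31990
theorem N21218 : nd 21218 = n31993 := ndS (p := 10359) (l := 3) rfl N10359 D31993
theorem N21219 : nd 21219 = n31995 := ndS (p := 10359) (l := 5) rfl N10359 D31995
theorem N21220 : nd 21220 = n31996 := ndS (p := 10359) (l := 6) rfl N10359 D31996
theorem N21221 : nd 21221 = n31997 := ndS (p := 10360) (l := 0) rfl N10360 D31997
theorem N21222 : nd 21222 = n31998 := ndS (p := 10360) (l := 1) rfl N10360 D31998
theorem N21223 : nd 21223 = n31999 := ndS (p := 10360) (l := 4) rfl N10360 D31999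
theorem N21224 : nd 21224 = n32000 := ndS (p := 10360) (l := 7) rfl N10360 D32000
theorem N21225 : nd 21225 = n32001 := ndS (p := 10362) (l := 3) rfl N10362 D32001
theorem N21226 : nd 21226 = n32002 := ndS (p := 10362) (l := 6) rfl N10362 D32002
theorem N21227 : nd 21227 = n32003 := ndS (p := 10363) (l := 3) rfl N10363 D32003
theorem N21228 : nd 21228 = n32004 := ndS (p := 10363) (l := 5) rfl N10363 D32004
theorem N21229 : nd 21229 = n32005 := ndS (p := 10363) (l := 7) rfl N10363 D32005
theorem N21230 : nd 21230 = n32006 := ndS (p := 10364) (l := 6) rfl N10364 D32006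
theorem N21231 : nd 21231 = n32009 := ndS (p := 10365) (l := 5) rfl N10365 D32009
theorem N21232 : nd 21232 = n32010 := ndS (p := 10366) (l := 4) rfl N10366 D32010
theorem N21233 : nd 21233 = n32011 := ndS (p := 10366) (l := 6) rfl N10366 D32011
theorem N21234 : nd 21234 = n32012 := ndS (p := 10367) (l := 5) rfl N10367 D32012
theorem N21235 : nd 21235 = n32013 := ndS (p := 10368) (l := 5) rfl N10368 D32013
theorem N21236 : nd 21236 = n32014 := ndS (p := 10369) (l := 4) rfl N10369 D32014
theorem N21237 : nd 21237 = n32015 := ndS (p := 10369) (l := 6) rfl N10369 D32015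
theorem N21238 : nd 21238 = n32016 := ndS (p := 10370) (l := 5) rfl N10370 D32016
theorem N21239 : nd 21239 = n32017 := ndS (p := 10371) (l := 4) rfl N10371 D32017
theorem N21240 : nd 21240 = n32018 := ndS (p := 10371) (l := 6) rfl N10371 D32018
theorem N21241 : nd 21241 = n32019 := ndS (p := 10372) (l := 5) rfl N10372 D32019
theorem N21242 : nd 21242 = n32020 := ndS (p := 10373) (l := 3) rfl N10373 D32020
theorem N21243 : nd 21243 = n32021 := ndS (p := 10373) (l := 4) rfl N10373 D32021
theorem N21244 : nd 21244 = n32022 := ndS (p := 10373) (l := 5) rfl N10373 D32022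
theorem N21245 : nd 21245 = n32023 := ndS (p := 10374) (l := 5) rfl N10374 D32023
theorem N21246 : nd 21246 = n32024 := ndS (p := 10375) (l := 0) rfl N10375 D32024
theorem N21247 : nd 21247 = n32025 := ndS (p := 10375) (l := 1) rfl N10375 D32025
theorem N21248 : nd 21248 = n32026 := ndS (p := 10375) (l := 4) rfl N10375 D32026
theorem N21249 : nd 21249 = n32027 := ndS (p := 10375) (l := 6) rfl N10375 D32027
theorem N21250 : nd 21250 = n32028 := ndS (p := 10376) (l := 0) rfl N10376 D32028
theorem N21251 : nd 21251 = n32029 := ndS (p := 10376) (l := 1) rfl N10376 D32029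
theorem N21252 : nd 21252 = n32030 := ndS (p := 10377) (l := 4) rfl N10377 D32030
theorem N21253 : nd 21253 = n32031 := ndS (p := 10377) (l := 6) rfl N10377 D32031
theorem N21254 : nd 21254 = n32032 := ndS (p := 10378) (l := 3) rfl N10378 D32032
theorem N21255 : nd 21255 = n32033 := ndS (p := 10378) (l := 4) rfl N10378 D32033
theorem N21256 : nd 21256 = n32034 := ndS (p := 10378) (l := 6) rfl N10378 D32034
theorem N21257 : nd 21257 = n32035 := ndS (p := 10379) (l := 0) rfl N10379 D32035
theorem N21258 : nd 21258 = n32036 := ndS (p := 10379) (l := 1) rfl N10379 D32036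
theorem N21259 : nd 21259 = n32037 := ndS (p := 10379) (l := 5) rfl N10379 D32037
theorem N21260 : nd 21260 = n32038 := ndS (p := 10379) (l := 6) rfl N10379 D32038
theorem N21261 : nd 21261 = n32039 := ndS (p := 10380) (l := 0) rfl N10380 D32039
theorem N21262 : nd 21262 = n32040 := ndS (p := 10380) (l := 1) rfl N10380 D32040
theorem N21263 : nd 21263 = n32041 := ndS (p := 10380) (l := 5) rfl N10380 D32041
theorem N21264 : nd 21264 = n32042 := ndS (p := 10380) (l := 7) rfl N10380 D32042
theorem N21265 : nd 21265 = n32043 := ndS (p := 10381) (l := 4) rfl N10381 D32043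
theorem N21266 : nd 21266 = n32044 := ndS (p := 10382) (l := 1) rfl N10382 D32044
theorem N21267 : nd 21267 = n32045 := ndS (p := 10382) (l := 4) rfl N10382 D32045
theorem N21268 : nd 21268 = n32047 := ndS (p := 10383) (l := 3) rfl N10383 D32047
theorem N21269 : nd 21269 = n32052 := ndS (p := 10384) (l := 3) rfl N10384 D32052
theorem N21270 : nd 21270 = n32057 := ndS (p := 10385) (l := 1) rfl N10385 D32057
theorem N21271 : nd 21271 = n32058 := ndS (p := 10385) (l := 4) rfl N10385 D32058
theorem N21272 : nd 21272 = n32059 := ndS (p := 10385) (l := 7) rfl N10385 D32059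
theorem N21273 : nd 21273 = n32060 := ndS (p := 10387) (l := 3) rfl N10387 D32060
theorem N21274 : nd 21274 = n32061 := ndS (p := 10387) (l := 5) rfl N10387 D32061
theorem N21275 : nd 21275 = n32063 := ndS (p := 10388) (l := 6) rfl N10388 D32063
theorem N21276 : nd 21276 = n32064 := ndS (p := 10389) (l := 4) rfl N10389 D32064
theorem N21277 : nd 21277 = n32065 := ndS (p := 10389) (l := 6) rfl N10389 D32065
theorem N21278 : nd 21278 = n32066 := ndS (p := 10390) (l := 5) rfl N10390 D32066
theorem N21279 : nd 21279 = n32067 := ndS (p := 10391) (l := 5) rfl N10391 D32067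
theorem N21280 : nd 21280 = n32071 := ndS (p := 10392) (l := 4) rfl N10392 D32071
theorem N21281 : nd 21281 = n32072 := ndS (p := 10392) (l := 6) rfl N10392 D32072
theorem N21282 : nd 21282 = n32079 := ndS (p := 10393) (l := 4) rfl N10393 D32079
theorem N21283 : nd 21283 = n32080 := ndS (p := 10393) (l := 6) rfl N10393 D32080
theorem N21284 : nd 21284 = n32084 := ndS (p := 10394) (l := 5) rfl N10394 D32084
theorem N21285 : nd 21285 = n32085 := ndS (p := 10395) (l := 4) rfl N10395 D32085
theorem N21286 : nd 21286 = n32086 := ndS (p := 10395) (l := 5) rfl N10395 D32086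
theorem N21287 : nd 21287 = n32087 := ndS (p := 10396) (l := 5) rfl N10396 D32087
theorem N21288 : nd 21288 = n32088 := ndS (p := 10397) (l := 1) rfl N10397 D32088
theorem N21289 : nd 21289 = n32089 := ndS (p := 10397) (l := 4) rfl N10397 D32089
theorem N21290 : nd 21290 = n32090 := ndS (p := 10397) (l := 6) rfl N10397 D32090
theorem N21291 : nd 21291 = n32091 := ndS (p := 10397) (l := 7) rfl N10397 D32091
theorem N21292 : nd 21292 = n32092 := ndS (p := 10399) (l := 4) rfl N10399 D32092
theorem N21293 : nd 21293 = n32093 := ndS (p := 10399) (l := 6) rfl N10399 D32093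
theorem N21294 : nd 21294 = n32094 := ndS (p := 10400) (l := 0) rfl N10400 D32094
theorem N21295 : nd 21295 = n32095 := ndS (p := 10400) (l := 1) rfl N10400 D32095
theorem N21296 : nd 21296 = n32096 := ndS (p := 10400) (l := 3) rfl N10400 D32096
theorem N21297 : nd 21297 = n32097 := ndS (p := 10400) (l := 5) rfl N10400 D32097
theorem N21298 : nd 21298 = n32098 := ndS (p := 10400) (l := 6) rfl N10400 D32098
theorem N21299 : nd 21299 = n32099 := ndS (p := 10400) (l := 7) rfl N10400 D32099
theorem N21300 : nd 21300 = n32100 := ndS (p := 10401) (l := 0) rfl N10401 D32100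
theorem N21301 : nd 21301 = n32102 := ndS (p := 10401) (l := 7) rfl N10401 D32102
theorem N21302 : nd 21302 = n32103 := ndS (p := 10402) (l := 6) rfl N10402 D32103
theorem N21303 : nd 21303 = n32106 := ndS (p := 10403) (l := 5) rfl N10403 D32106
theorem N21304 : nd 21304 = n32107 := ndS (p := 10404) (l := 5) rfl N10404 D32107
theorem N21305 : nd 21305 = n32108 := ndS (p := 10405) (l := 5) rfl N10405 D32108
theorem N21306 : nd 21306 = n32109 := ndS (p := 10405) (l := 6) rfl N10405 D32109
theorem N21307 : nd 21307 = n32110 := ndS (p := 10406) (l := 4) rfl N10406 D32110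
theorem N21308 : nd 21308 = n32111 := ndS (p := 10406) (l := 6) rfl N10406 D32111
theorem N21309 : nd 21309 = n32112 := ndS (p := 10407) (l := 0) rfl N10407 D32112
theorem N21310 : nd 21310 = n32113 := ndS (p := 10407) (l := 5) rfl N10407 D32113
theorem N21311 : nd 21311 = n32114 := ndS (p := 10408) (l := 4) rfl N10408 D32114
theorem N21312 : nd 21312 = n32115 := ndS (p := 10408) (l := 6) rfl N10408 D32115
theorem N21313 : nd 21313 = n32116 := ndS (p := 10409) (l := 5) rfl N10409 D32116
theorem N21314 : nd 21314 = n32117 := ndS (p := 10410) (l := 3) rfl N10410 D32117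
theorem N21315 : nd 21315 = n32118 := ndS (p := 10410) (l := 5) rfl N10410 D32118
theorem N21316 : nd 21316 = n32119 := ndS (p := 10410) (l := 6) rfl N10410 D32119
theorem N21317 : nd 21317 = n32121 := ndS (p := 10411) (l := 1) rfl N10411 D32121
theorem N21318 : nd 21318 = n32122 := ndS (p := 10411) (l := 5) rfl N10411 D32122
theorem N21319 : nd 21319 = n32123 := ndS (p := 10411) (l := 7) rfl N10411 D32123
theorem N21320 : nd 21320 = n32131 := ndS (p := 10412) (l := 5) rfl N10412 D32131
theorem N21321 : nd 21321 = n32133 := ndS (p := 10413) (l := 1) rfl N10413 D32133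
theorem N21322 : nd 21322 = n32134 := ndS (p := 10413) (l := 4) rfl N10413 D32134
theorem N21323 : nd 21323 = n32135 := ndS (p := 10413) (l := 7) rfl N10413 D32135
theorem N21324 : nd 21324 = n32136 := ndS (p := 10415) (l := 3) rfl N10415 D32136
theorem N21325 : nd 21325 = n32137 := ndS (p := 10415) (l := 4) rfl N10415 D32137
theorem N21326 : nd 21326 = n32138 := ndS (p := 10415) (l := 6) rfl N10415 D32138
theorem N21327 : nd 21327 = n32139 := ndS (p := 10416) (l := 3) rfl N10416 D32139
theorem N21328 : nd 21328 = n32140 := ndS (p := 10416) (l := 4) rfl N10416 D32140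
theorem N21329 : nd 21329 = n32141 := ndS (p := 10416) (l := 6) rfl N10416 D32141
theorem N21330 : nd 21330 = n32142 := ndS (p := 10417) (l := 0) rfl N10417 D32142
theorem N21331 : nd 21331 = n32143 := ndS (p := 10417) (l := 1) rfl N10417 D32143
theorem N21332 : nd 21332 = n32144 := ndS (p := 10417) (l := 3) rfl N10417 D32144
theorem N21333 : nd 21333 = n32145 := ndS (p := 10417) (l := 5) rfl N10417 D32145
theorem N21334 : nd 21334 = n32146 := ndS (p := 10417) (l := 6) rfl N10417 D32146
theorem N21335 : nd 21335 = n32147 := ndS (p := 10418) (l := 0) rfl N10418 D32147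
theorem N21336 : nd 21336 = n32148 := ndS (p := 10418) (l := 1) rfl N10418 D32148
theorem N21337 : nd 21337 = n32149 := ndS (p := 10418) (l := 7) rfl N10418 D32149
theorem N21338 : nd 21338 = n32150 := ndS (p := 10419) (l := 2) rfl N10419 D32150
theorem N21339 : nd 21339 = n32151 := ndS (p := 10419) (l := 4) rfl N10419 D32151
theorem N21340 : nd 21340 = n32152 := ndS (p := 10419) (l := 6) rfl N10419 D32152
theorem N21341 : nd 21341 = n32153 := ndS (p := 10420) (l := 0) rfl N10420 D32153
theorem N21342 : nd 21342 = n32154 := ndS (p := 10420) (l := 1) rfl N10420 D32154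
theorem N21343 : nd 21343 = n32155 := ndS (p := 10420) (l := 3) rfl N10420 D32155
theorem N21344 : nd 21344 = n32156 := ndS (p := 10420) (l := 5) rfl N10420 D32156
theorem N21345 : nd 21345 = n32157 := ndS (p := 10420) (l := 6) rfl N10420 D32157
theorem N21346 : nd 21346 = n32158 := ndS (p := 10421) (l := 0) rfl N10421 D32158
theorem N21347 : nd 21347 = n32159 := ndS (p := 10421) (l := 1) rfl N10421 D32159
theorem N21348 : nd 21348 = n32160 := ndS (p := 10421) (l := 5) rfl N10421 D32160
theorem N21349 : nd 21349 = n32161 := ndS (p := 10421) (l := 7) rfl N10421 D32161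
theorem N21350 : nd 21350 = n32162 := ndS (p := 10422) (l := 2) rfl N10422 D32162
theorem N21351 : nd 21351 = n32165 := ndS (p := 10423) (l := 3) rfl N10423 D32165
theorem N21352 : nd 21352 = n32166 := ndS (p := 10423) (l := 5) rfl N10423 D32166
theorem N21353 : nd 21353 = n32167 := ndS (p := 10423) (l := 6) rfl N10423 D32167
theorem N21354 : nd 21354 = n32169 := ndS (p := 10424) (l := 1) rfl N10424 D32169
theorem N21355 : nd 21355 = n32170 := ndS (p := 10424) (l := 5) rfl N10424 D32170
theorem N21356 : nd 21356 = n32171 := ndS (p := 10424) (l := 7) rfl N10424 D32171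
theorem N21357 : nd 21357 = n32173 := ndS (p := 10425) (l := 3) rfl N10425 D32173
theorem N21358 : nd 21358 = n32174 := ndS (p := 10425) (l := 4) rfl N10425 D32174
theorem N21359 : nd 21359 = n32175 := ndS (p := 10425) (l := 5) rfl N10425 D32175
theorem N21360 : nd 21360 = n32176 := ndS (p := 10425) (l := 6) rfl N10425 D32176
theorem N21361 : nd 21361 = n32178 := ndS (p := 10426) (l := 3) rfl N10426 D32178
theorem N21362 : nd 21362 = n32179 := ndS (p := 10426) (l := 4) rfl N10426 D32179
theorem N21363 : nd 21363 = n32180 := ndS (p := 10426) (l := 5) rfl N10426 D32180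
theorem N21364 : nd 21364 = n32181 := ndS (p := 10426) (l := 6) rfl N10426 D32181
theorem N21365 : nd 21365 = n32182 := ndS (p := 10427) (l := 0) rfl N10427 D32182
theorem N21366 : nd 21366 = n32183 := ndS (p := 10427) (l := 1) rfl N10427 D32183
theorem N21367 : nd 21367 = n32184 := ndS (p := 10427) (l := 2) rfl N10427 D32184
theorem N21368 : nd 21368 = n32185 := ndS (p := 10427) (l := 5) rfl N10427 D32185
theorem N21369 : nd 21369 = n32186 := ndS (p := 10427) (l := 6) rfl N10427 D32186
theorem N21370 : nd 21370 = n32187 := ndS (p := 10428) (l := 0) rfl N10428 D32187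
theorem N21371 : nd 21371 = n32188 := ndS (p := 10428) (l := 1) rfl N10428 D32188
theorem N21372 : nd 21372 = n32189 := ndS (p := 10428) (l := 4) rfl N10428 D32189
theorem N21373 : nd 21373 = n32190 := ndS (p := 10428) (l := 6) rfl N10428 D32190
theorem N21374 : nd 21374 = n32191 := ndS (p := 10428) (l := 7) rfl N10428 D32191
theorem N21375 : nd 21375 = n32192 := ndS (p := 10429) (l := 0) rfl N10429 D32192
theorem N21376 : nd 21376 = n32193 := ndS (p := 10429) (l := 1) rfl N10429 D32193
theorem N21377 : nd 21377 = n32194 := ndS (p := 10429) (l := 5) rfl N10429 D32194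
theorem N21378 : nd 21378 = n32195 := ndS (p := 10429) (l := 7) rfl N10429 D32195
theorem N21379 : nd 21379 = n32196 := ndS (p := 10430) (l := 6) rfl N10430 D32196
theorem N21380 : nd 21380 = n32198 := ndS (p := 10431) (l := 3) rfl N10431 D32198
theorem N21381 : nd 21381 = n32199 := ndS (p := 10431) (l := 4) rfl N10431 D32199
theorem N21382 : nd 21382 = n32200 := ndS (p := 10431) (l := 5) rfl N10431 D32200
theorem N21383 : nd 21383 = n32201 := ndS (p := 10431) (l := 6) rfl N10431 D32201
theorem N21384 : nd 21384 = n32203 := ndS (p := 10432) (l := 3) rfl N10432 D32203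
theorem N21385 : nd 21385 = n32204 := ndS (p := 10432) (l := 4) rfl N10432 D32204
theorem N21386 : nd 21386 = n32205 := ndS (p := 10432) (l := 5) rfl N10432 D32205
theorem N21387 : nd 21387 = n32206 := ndS (p := 10432) (l := 6) rfl N10432 D32206
theorem N21388 : nd 21388 = n32207 := ndS (p := 10433) (l := 6) rfl N10433 D32207
theorem N21389 : nd 21389 = n32208 := ndS (p := 10434) (l := 0) rfl N10434 D32208
theorem N21390 : nd 21390 = n32209 := ndS (p := 10434) (l := 1) rfl N10434 D32209
theorem N21391 : nd 21391 = n32210 := ndS (p := 10434) (l := 5) rfl N10434 D32210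
theorem N21392 : nd 21392 = n32211 := ndS (p := 10435) (l := 3) rfl N10435 D32211
theorem N21393 : nd 21393 = n32212 := ndS (p := 10435) (l := 5) rfl N10435 D32212
theorem N21394 : nd 21394 = n32213 := ndS (p := 10436) (l := 0) rfl N10436 D32213
theorem N21395 : nd 21395 = n32214 := ndS (p := 10436) (l := 1) rfl N10436 D32214
theorem N21396 : nd 21396 = n32215 := ndS (p := 10436) (l := 4) rfl N10436 D32215
theorem N21397 : nd 21397 = n32216 := ndS (p := 10437) (l := 4) rfl N10437 D32216
theorem N21398 : nd 21398 = n32217 := ndS (p := 10437) (l := 6) rfl N10437 D32217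
theorem N21399 : nd 21399 = n32218 := ndS (p := 10438) (l := 0) rfl N10438 D32218
theorem N21400 : nd 21400 = n32219 := ndS (p := 10438) (l := 1) rfl N10438 D32219
theorem N21401 : nd 21401 = n32220 := ndS (p := 10438) (l := 5) rfl N10438 D32220
theorem N21402 : nd 21402 = n32221 := ndS (p := 10438) (l := 6) rfl N10438 D32221
theorem N21403 : nd 21403 = n32222 := ndS (p := 10439) (l := 0) rfl N10439 D32222
theorem N21404 : nd 21404 = n32223 := ndS (p := 10439) (l := 1) rfl N10439 D32223
theorem N21405 : nd 21405 = n32224 := ndS (p := 10439) (l := 5) rfl N10439 D32224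
theorem N21406 : nd 21406 = n32225 := ndS (p := 10439) (l := 7) rfl N10439 D32225
theorem N21407 : nd 21407 = n32227 := ndS (p := 10440) (l := 3) rfl N10440 D32227
theorem N21408 : nd 21408 = n32229 := ndS (p := 10440) (l := 5) rfl N10440 D32229
theorem N21409 : nd 21409 = n32230 := ndS (p := 10440) (l := 6) rfl N10440 D32230
theorem N21410 : nd 21410 = n32234 := ndS (p := 10441) (l := 5) rfl N10441 D32234
theorem N21411 : nd 21411 = n32235 := ndS (p := 10441) (l := 6) rfl N10441 D32235
theorem N21412 : nd 21412 = n32240 := ndS (p := 10444) (l := 4) rfl N10444 D32240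
theorem N21413 : nd 21413 = n32241 := ndS (p := 10444) (l := 6) rfl N10444 D32241
theorem N21414 : nd 21414 = n32242 := ndS (p := 10445) (l := 0) rfl N10445 D32242
theorem N21415 : nd 21415 = n32243 := ndS (p := 10445) (l := 1) rfl N10445 D32243
theorem N21416 : nd 21416 = n32244 := ndS (p := 10445) (l := 5) rfl N10445 D32244
theorem N21417 : nd 21417 = n32245 := ndS (p := 10445) (l := 6) rfl N10445 D32245
theorem N21418 : nd 21418 = n32246 := ndS (p := 10446) (l := 0) rfl N10446 D32246
theorem N21419 : nd 21419 = n32247 := ndS (p := 10446) (l := 1) rfl N10446 D32247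
theorem N21420 : nd 21420 = n32248 := ndS (p := 10446) (l := 5) rfl N10446 D32248
theorem N21421 : nd 21421 = n32249 := ndS (p := 10446) (l := 7) rfl N10446 D32249
theorem N21422 : nd 21422 = n32256 := ndS (p := 10447) (l := 3) rfl N10447 D32256
theorem N21423 : nd 21423 = n32258 := ndS (p := 10447) (l := 5) rfl N10447 D32258
theorem N21424 : nd 21424 = n32259 := ndS (p := 10447) (l := 6) rfl N10447 D32259
theorem N21425 : nd 21425 = n32265 := ndS (p := 10450) (l := 4) rfl N10450 D32265
theorem N21426 : nd 21426 = n32269 := ndS (p := 10451) (l := 3) rfl N10451 D32269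
theorem N21427 : nd 21427 = n32270 := ndS (p := 10451) (l := 4) rfl N10451 D32270
theorem N21428 : nd 21428 = n32273 := ndS (p := 10452) (l := 6) rfl N10452 D32273
theorem N21429 : nd 21429 = n32274 := ndS (p := 10453) (l := 0) rfl N10453 D32274
theorem N21430 : nd 21430 = n32275 := ndS (p := 10453) (l := 1) rfl N10453 D32275
theorem N21431 : nd 21431 = n32276 := ndS (p := 10453) (l := 5) rfl N10453 D32276
theorem N21432 : nd 21432 = n32277 := ndS (p := 10453) (l := 7) rfl N10453 D32277
theorem N21433 : nd 21433 = n32278 := ndS (p := 10454) (l := 3) rfl N10454 D32278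
theorem N21434 : nd 21434 = n32279 := ndS (p := 10454) (l := 5) rfl N10454 D32279
theorem N21435 : nd 21435 = n32280 := ndS (p := 10454) (l := 6) rfl N10454 D32280
theorem N21436 : nd 21436 = n32281 := ndS (p := 10455) (l := 3) rfl N10455 D32281
theorem N21437 : nd 21437 = n32282 := ndS (p := 10455) (l := 5) rfl N10455 D32282
theorem N21438 : nd 21438 = n32286 := ndS (p := 10456) (l := 4) rfl N10456 D32286
theorem N21439 : nd 21439 = n32294 := ndS (p := 10458) (l := 0) rfl N10458 D32294
theorem N21440 : nd 21440 = n32296 := ndS (p := 10458) (l := 2) rfl N10458 D32296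
theorem N21441 : nd 21441 = n32297 := ndS (p := 10458) (l := 4) rfl N10458 D32297
theorem N21442 : nd 21442 = n32298 := ndS (p := 10458) (l := 5) rfl N10458 D32298
theorem N21443 : nd 21443 = n32299 := ndS (p := 10458) (l := 6) rfl N10458 D32299
theorem N21444 : nd 21444 = n32301 := ndS (p := 10459) (l := 0) rfl N10459 D32301
theorem N21445 : nd 21445 = n32302 := ndS (p := 10459) (l := 3) rfl N10459 D32302
theorem N21446 : nd 21446 = n32303 := ndS (p := 10459) (l := 5) rfl N10459 D32303
theorem N21447 : nd 21447 = n32304 := ndS (p := 10459) (l := 6) rfl N10459 D32304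
theorem N21448 : nd 21448 = n32306 := ndS (p := 10460) (l := 0) rfl N10460 D32306
theorem N21449 : nd 21449 = n32307 := ndS (p := 10460) (l := 6) rfl N10460 D32307
theorem N21450 : nd 21450 = n32310 := ndS (p := 10461) (l := 1) rfl N10461 D32310
theorem N21451 : nd 21451 = n32311 := ndS (p := 10461) (l := 5) rfl N10461 D32311
theorem N21452 : nd 21452 = n32312 := ndS (p := 10461) (l := 7) rfl N10461 D32312
theorem N21453 : nd 21453 = n32314 := ndS (p := 10462) (l := 1) rfl N10462 D32314
theorem N21454 : nd 21454 = n32315 := ndS (p := 10462) (l := 2) rfl N10462 D32315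
theorem N21455 : nd 21455 = n32316 := ndS (p := 10462) (l := 4) rfl N10462 D32316
theorem N21456 : nd 21456 = n32317 := ndS (p := 10462) (l := 5) rfl N10462 D32317
theorem N21457 : nd 21457 = n32318 := ndS (p := 10462) (l := 6) rfl N10462 D32318
theorem N21458 : nd 21458 = n32319 := ndS (p := 10463) (l := 3) rfl N10463 D32319
theorem N21459 : nd 21459 = n32322 := ndS (p := 10465) (l := 0) rfl N10465 D32322
theorem N21460 : nd 21460 = n32324 := ndS (p := 10465) (l := 5) rfl N10465 D32324
theorem N21461 : nd 21461 = n32325 := ndS (p := 10465) (l := 7) rfl N10465 D32325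
theorem N21462 : nd 21462 = n32327 := ndS (p := 10467) (l := 3) rfl N10467 D32327
theorem N21463 : nd 21463 = n32328 := ndS (p := 10467) (l := 4) rfl N10467 D32328
theorem N21464 : nd 21464 = n32329 := ndS (p := 10467) (l := 5) rfl N10467 D32329
theorem N21465 : nd 21465 = n32330 := ndS (p := 10467) (l := 6) rfl N10467 D32330
theorem N21466 : nd 21466 = n32332 := ndS (p := 10468) (l := 3) rfl N10468 D32332
theorem N21467 : nd 21467 = n32333 := ndS (p := 10468) (l := 4) rfl N10468 D32333
theorem N21468 : nd 21468 = n32334 := ndS (p := 10468) (l := 5) rfl N10468 D32334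
theorem N21469 : nd 21469 = n32335 := ndS (p := 10468) (l := 6) rfl N10468 D32335
theorem N21470 : nd 21470 = n32336 := ndS (p := 10469) (l := 0) rfl N10469 D32336
theorem N21471 : nd 21471 = n32337 := ndS (p := 10469) (l := 1) rfl N10469 D32337
theorem N21472 : nd 21472 = n32338 := ndS (p := 10469) (l := 4) rfl N10469 D32338
theorem N21473 : nd 21473 = n32339 := ndS (p := 10470) (l := 3) rfl N10470 D32339
theorem N21474 : nd 21474 = n32340 := ndS (p := 10471) (l := 3) rfl N10471 D32340
theorem N21475 : nd 21475 = n32341 := ndS (p := 10472) (l := 6) rfl N10472 D32341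
theorem N21476 : nd 21476 = n32342 := ndS (p := 10473) (l := 5) rfl N10473 D32342
theorem N21477 : nd 21477 = n32343 := ndS (p := 10473) (l := 6) rfl N10473 D32343
theorem N21478 : nd 21478 = n32344 := ndS (p := 10474) (l := 4) rfl N10474 D32344
theorem N21479 : nd 21479 = n32345 := ndS (p := 10474) (l := 6) rfl N10474 D32345
theorem N21480 : nd 21480 = n32346 := ndS (p := 10475) (l := 0) rfl N10475 D32346
theorem N21481 : nd 21481 = n32347 := ndS (p := 10475) (l := 1) rfl N10475 D32347
theorem N21482 : nd 21482 = n32348 := ndS (p := 10475) (l := 5) rfl N10475 D32348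
theorem N21483 : nd 21483 = n32349 := ndS (p := 10475) (l := 7) rfl N10475 D32349
theorem N21484 : nd 21484 = n32350 := ndS (p := 10476) (l := 0) rfl N10476 D32350
theorem N21485 : nd 21485 = n32351 := ndS (p := 10476) (l := 1) rfl N10476 D32351
theorem N21486 : nd 21486 = n32352 := ndS (p := 10476) (l := 5) rfl N10476 D32352
theorem N21487 : nd 21487 = n32353 := ndS (p := 10476) (l := 7) rfl N10476 D32353
theorem N21488 : nd 21488 = n32354 := ndS (p := 10477) (l := 5) rfl N10477 D32354
theorem N21489 : nd 21489 = n32355 := ndS (p := 10477) (l := 6) rfl N10477 D32355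
theorem N21490 : nd 21490 = n32356 := ndS (p := 10478) (l := 3) rfl N10478 D32356
theorem N21491 : nd 21491 = n32357 := ndS (p := 10478) (l := 5) rfl N10478 D32357
theorem N21492 : nd 21492 = n32358 := ndS (p := 10479) (l := 0) rfl N10479 D32358
theorem N21493 : nd 21493 = n32359 := ndS (p := 10479) (l := 1) rfl N10479 D32359
theorem N21494 : nd 21494 = n32360 := ndS (p := 10479) (l := 4) rfl N10479 D32360
theorem N21495 : nd 21495 = n32361 := ndS (p := 10479) (l := 7) rfl N10479 D32361
theorem N21496 : nd 21496 = n32362 := ndS (p := 10481) (l := 5) rfl N10481 D32362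
theorem N21497 : nd 21497 = n32363 := ndS (p := 10482) (l := 3) rfl N10482 D32363
theorem N21498 : nd 21498 = n32364 := ndS (p := 10482) (l := 5) rfl N10482 D32364
theorem N21499 : nd 21499 = n32365 := ndS (p := 10483) (l := 5) rfl N10483 D32365
theorem N21500 : nd 21500 = n32366 := ndS (p := 10484) (l := 5) rfl N10484 D32366
theorem N21501 : nd 21501 = n32367 := ndS (p := 10486) (l := 6) rfl N10486 D32367
theorem N21502 : nd 21502 = n32368 := ndS (p := 10487) (l := 4) rfl N10487 D32368
theorem N21503 : nd 21503 = n32369 := ndS (p := 10489) (l := 6) rfl N10489 D32369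
theorem N21504 : nd 21504 = n32370 := ndS (p := 10490) (l := 4) rfl N10490 D32370
theorem N21505 : nd 21505 = n32371 := ndS (p := 10490) (l := 5) rfl N10490 D32371
theorem N21506 : nd 21506 = n32372 := ndS (p := 10491) (l := 4) rfl N10491 D32372
theorem N21507 : nd 21507 = n32373 := ndS (p := 10491) (l := 6) rfl N10491 D32373
theorem N21508 : nd 21508 = n32374 := ndS (p := 10492) (l := 4) rfl N10492 D32374
theorem N21509 : nd 21509 = n32375 := ndS (p := 10492) (l := 6) rfl N10492 D32375
theorem N21510 : nd 21510 = n32376 := ndS (p := 10493) (l := 3) rfl N10493 D32376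
theorem N21511 : nd 21511 = n32377 := ndS (p := 10493) (l := 7) rfl N10493 D32377
theorem N21512 : nd 21512 = n32378 := ndS (p := 10494) (l := 6) rfl N10494 D32378
theorem N21513 : nd 21513 = n32383 := ndS (p := 10499) (l := 5) rfl N10499 D32383
theorem N21514 : nd 21514 = n32384 := ndS (p := 10500) (l := 4) rfl N10500 D32384
theorem N21515 : nd 21515 = n32385 := ndS (p := 10500) (l := 6) rfl N10500 D32385
theorem N21516 : nd 21516 = n32386 := ndS (p := 10501) (l := 5) rfl N10501 D32386
theorem N21517 : nd 21517 = n32387 := ndS (p := 10502) (l := 5) rfl N10502 D32387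
theorem N21518 : nd 21518 = n32388 := ndS (p := 10502) (l := 6) rfl N10502 D32388
theorem N21519 : nd 21519 = n32389 := ndS (p := 10503) (l := 0) rfl N10503 D32389
theorem N21520 : nd 21520 = n32390 := ndS (p := 10503) (l := 1) rfl N10503 D32390
theorem N21521 : nd 21521 = n32391 := ndS (p := 10503) (l := 5) rfl N10503 D32391
theorem N21522 : nd 21522 = n32392 := ndS (p := 10503) (l := 7) rfl N10503 D32392
theorem N21523 : nd 21523 = n32394 := ndS (p := 10504) (l := 6) rfl N10504 D32394
theorem N21524 : nd 21524 = n32400 := ndS (p := 10506) (l := 0) rfl N10506 D32400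
theorem N21525 : nd 21525 = n32401 := ndS (p := 10506) (l := 1) rfl N10506 D32401
theorem N21526 : nd 21526 = n32402 := ndS (p := 10507) (l := 4) rfl N10507 D32402
theorem N21527 : nd 21527 = n32403 := ndS (p := 10507) (l := 7) rfl N10507 D32403
theorem N21528 : nd 21528 = n32404 := ndS (p := 10509) (l := 3) rfl N10509 D32404
theorem N21529 : nd 21529 = n32405 := ndS (p := 10510) (l := 5) rfl N10510 D32405
theorem N21530 : nd 21530 = n32406 := ndS (p := 10510) (l := 6) rfl N10510 D32406
theorem N21531 : nd 21531 = n32409 := ndS (p := 10511) (l := 5) rfl N10511 D32409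
theorem N21532 : nd 21532 = n32410 := ndS (p := 10513) (l := 5) rfl N10513 D32410
theorem N21533 : nd 21533 = n32411 := ndS (p := 10515) (l := 5) rfl N10515 D32411
theorem N21534 : nd 21534 = n32412 := ndS (p := 10516) (l := 4) rfl N10516 D32412
theorem N21535 : nd 21535 = n32413 := ndS (p := 10516) (l := 6) rfl N10516 D32413
theorem N21536 : nd 21536 = n32414 := ndS (p := 10518) (l := 3) rfl N10518 D32414
theorem N21537 : nd 21537 = n32415 := ndS (p := 10519) (l := 0) rfl N10519 D32415
theorem N21538 : nd 21538 = n32416 := ndS (p := 10519) (l := 4) rfl N10519 D32416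
theorem N21539 : nd 21539 = n32417 := ndS (p := 10519) (l := 6) rfl N10519 D32417
theorem N21540 : nd 21540 = n32418 := ndS (p := 10520) (l := 4) rfl N10520 D32418
theorem N21541 : nd 21541 = n32419 := ndS (p := 10520) (l := 6) rfl N10520 D32419
theorem N21542 : nd 21542 = n32420 := ndS (p := 10521) (l := 3) rfl N10521 D32420
theorem N21543 : nd 21543 = n32421 := ndS (p := 10521) (l := 4) rfl N10521 D32421
theorem N21544 : nd 21544 = n32422 := ndS (p := 10521) (l := 6) rfl N10521 D32422
theorem N21545 : nd 21545 = n32423 := ndS (p := 10522) (l := 0) rfl N10522 D32423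
theorem N21546 : nd 21546 = n32424 := ndS (p := 10522) (l := 5) rfl N10522 D32424
theorem N21547 : nd 21547 = n32425 := ndS (p := 10522) (l := 6) rfl N10522 D32425
theorem N21548 : nd 21548 = n32426 := ndS (p := 10523) (l := 0) rfl N10523 D32426
theorem N21549 : nd 21549 = n32427 := ndS (p := 10523) (l := 1) rfl N10523 D32427
theorem N21550 : nd 21550 = n32428 := ndS (p := 10523) (l := 7) rfl N10523 D32428
theorem N21551 : nd 21551 = n32429 := ndS (p := 10524) (l := 3) rfl N10524 D32429
theorem N21552 : nd 21552 = n32430 := ndS (p := 10524) (l := 5) rfl N10524 D32430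
theorem N21553 : nd 21553 = n32431 := ndS (p := 10525) (l := 3) rfl N10525 D32431
theorem N21554 : nd 21554 = n32432 := ndS (p := 10525) (l := 5) rfl N10525 D32432
theorem N21555 : nd 21555 = n32433 := ndS (p := 10525) (l := 6) rfl N10525 D32433
theorem N21556 : nd 21556 = n32434 := ndS (p := 10527) (l := 5) rfl N10527 D32434
theorem N21557 : nd 21557 = n32435 := ndS (p := 10527) (l := 6) rfl N10527 D32435
theorem N21558 : nd 21558 = n32436 := ndS (p := 10528) (l := 5) rfl N10528 D32436
theorem N21559 : nd 21559 = n32438 := ndS (p := 10529) (l := 1) rfl N10529 D32438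
theorem N21560 : nd 21560 = n32439 := ndS (p := 10529) (l := 6) rfl N10529 D32439
theorem N21561 : nd 21561 = n32440 := ndS (p := 10531) (l := 6) rfl N10531 D32440
theorem N21562 : nd 21562 = n32441 := ndS (p := 10533) (l := 6) rfl N10533 D32441
theorem N21563 : nd 21563 = n32442 := ndS (p := 10534) (l := 0) rfl N10534 D32442
theorem N21564 : nd 21564 = n32444 := ndS (p := 10534) (l := 7) rfl N10534 D32444
theorem N21565 : nd 21565 = n32445 := ndS (p := 10535) (l := 6) rfl N10535 D32445
theorem N21566 : nd 21566 = n32446 := ndS (p := 10536) (l := 5) rfl N10536 D32446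
theorem N21567 : nd 21567 = n32447 := ndS (p := 10536) (l := 6) rfl N10536 D32447
theorem N21568 : nd 21568 = n32448 := ndS (p := 10537) (l := 6) rfl N10537 D32448
theorem N21569 : nd 21569 = n32449 := ndS (p := 10538) (l := 0) rfl N10538 D32449
theorem N21570 : nd 21570 = n32450 := ndS (p := 10538) (l := 6) rfl N10538 D32450
theorem N21571 : nd 21571 = n32451 := ndS (p := 10539) (l := 0) rfl N10539 D32451
theorem N21572 : nd 21572 = n32452 := ndS (p := 10539) (l := 1) rfl N10539 D32452
theorem N21573 : nd 21573 = n32453 := ndS (p := 10539) (l := 5) rfl N10539 D32453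
theorem N21574 : nd 21574 = n32454 := ndS (p := 10540) (l := 6) rfl N10540 D32454
theorem N21575 : nd 21575 = n32455 := ndS (p := 10541) (l := 0) rfl N10541 D32455
theorem N21576 : nd 21576 = n32456 := ndS (p := 10541) (l := 5) rfl N10541 D32456
theorem N21577 : nd 21577 = n32457 := ndS (p := 10542) (l := 6) rfl N10542 D32457
theorem N21578 : nd 21578 = n32459 := ndS (p := 10543) (l := 1) rfl N10543 D32459
theorem N21579 : nd 21579 = n32460 := ndS (p := 10543) (l := 5) rfl N10543 D32460
theorem N21580 : nd 21580 = n32461 := ndS (p := 10543) (l := 7) rfl N10543 D32461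
theorem N21581 : nd 21581 = n32462 := ndS (p := 10544) (l := 4) rfl N10544 D32462
theorem N21582 : nd 21582 = n32463 := ndS (p := 10545) (l := 3) rfl N10545 D32463
theorem N21583 : nd 21583 = n32464 := ndS (p := 10545) (l := 6) rfl N10545 D32464
theorem N21584 : nd 21584 = n32465 := ndS (p := 10546) (l := 0) rfl N10546 D32465
theorem N21585 : nd 21585 = n32466 := ndS (p := 10546) (l := 1) rfl N10546 D32466
theorem N21586 : nd 21586 = n32467 := ndS (p := 10546) (l := 5) rfl N10546 D32467
theorem N21587 : nd 21587 = n32468 := ndS (p := 10546) (l := 7) rfl N10546 D32468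
theorem N21588 : nd 21588 = n32469 := ndS (p := 10547) (l := 3) rfl N10547 D32469
theorem N21589 : nd 21589 = n32470 := ndS (p := 10547) (l := 5) rfl N10547 D32470
theorem N21590 : nd 21590 = n32471 := ndS (p := 10549) (l := 2) rfl N10549 D32471
theorem N21591 : nd 21591 = n32472 := ndS (p := 10549) (l := 6) rfl N10549 D32472
theorem N21592 : nd 21592 = n32477 := ndS (p := 10551) (l := 6) rfl N10551 D32477
theorem N21593 : nd 21593 = n32478 := ndS (p := 10552) (l := 6) rfl N10552 D32478
theorem N21594 : nd 21594 = n32482 := ndS (p := 10554) (l := 3) rfl N10554 D32482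
theorem N21595 : nd 21595 = n32483 := ndS (p := 10554) (l := 6) rfl N10554 D32483
theorem N21596 : nd 21596 = n32484 := ndS (p := 10555) (l := 6) rfl N10555 D32484
theorem N21597 : nd 21597 = n32485 := ndS (p := 10556) (l := 6) rfl N10556 D32485
theorem N21598 : nd 21598 = n32486 := ndS (p := 10557) (l := 0) rfl N10557 D32486
theorem N21599 : nd 21599 = n32487 := ndS (p := 10557) (l := 1) rfl N10557 D32487
theorem N21600 : nd 21600 = n32488 := ndS (p := 10557) (l := 5) rfl N10557 D32488
theorem N21601 : nd 21601 = n32489 := ndS (p := 10557) (l := 7) rfl N10557 D32489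
theorem N21602 : nd 21602 = n32491 := ndS (p := 10558) (l := 3) rfl N10558 D32491
theorem N21603 : nd 21603 = n32492 := ndS (p := 10558) (l := 4) rfl N10558 D32492
theorem N21604 : nd 21604 = n32493 := ndS (p := 10558) (l := 5) rfl N10558 D32493
theorem N21605 : nd 21605 = n32494 := ndS (p := 10558) (l := 6) rfl N10558 D32494
theorem N21606 : nd 21606 = n32496 := ndS (p := 10559) (l := 3) rfl N10559 D32496
theorem N21607 : nd 21607 = n32497 := ndS (p := 10559) (l := 4) rfl N10559 D32497
theorem N21608 : nd 21608 = n32498 := ndS (p := 10559) (l := 5) rfl N10559 D32498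
theorem N21609 : nd 21609 = n32499 := ndS (p := 10559) (l := 6) rfl N10559 D32499
theorem N21610 : nd 21610 = n32500 := ndS (p := 10560) (l := 0) rfl N10560 D32500
theorem N21611 : nd 21611 = n32501 := ndS (p := 10560) (l := 1) rfl N10560 D32501
theorem N21612 : nd 21612 = n32502 := ndS (p := 10560) (l := 4) rfl N10560 D32502
theorem N21613 : nd 21613 = n32503 := ndS (p := 10560) (l := 7) rfl N10560 D32503
theorem N21614 : nd 21614 = n32506 := ndS (p := 10562) (l := 2) rfl N10562 D32506
theorem N21615 : nd 21615 = n32507 := ndS (p := 10562) (l := 4) rfl N10562 D32507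
theorem N21616 : nd 21616 = n32508 := ndS (p := 10562) (l := 5) rfl N10562 D32508
theorem N21617 : nd 21617 = n32510 := ndS (p := 10563) (l := 5) rfl N10563 D32510
theorem N21618 : nd 21618 = n32511 := ndS (p := 10564) (l := 0) rfl N10564 D32511
theorem N21619 : nd 21619 = n32512 := ndS (p := 10564) (l := 4) rfl N10564 D32512
theorem N21620 : nd 21620 = n32513 := ndS (p := 10564) (l := 6) rfl N10564 D32513
theorem N21621 : nd 21621 = n32514 := ndS (p := 10565) (l := 3) rfl N10565 D32514
theorem N21622 : nd 21622 = n32515 := ndS (p := 10565) (l := 4) rfl N10565 D32515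
theorem N21623 : nd 21623 = n32516 := ndS (p := 10565) (l := 6) rfl N10565 D32516
theorem N21624 : nd 21624 = n32517 := ndS (p := 10566) (l := 0) rfl N10566 D32517
theorem N21625 : nd 21625 = n32521 := ndS (p := 10567) (l := 4) rfl N10567 D32521
theorem N21626 : nd 21626 = n32522 := ndS (p := 10567) (l := 5) rfl N10567 D32522
theorem N21627 : nd 21627 = n32524 := ndS (p := 10568) (l := 0) rfl N10568 D32524
theorem N21628 : nd 21628 = n32525 := ndS (p := 10568) (l := 1) rfl N10568 D32525
theorem N21629 : nd 21629 = n32529 := ndS (p := 10569) (l := 1) rfl N10569 D32529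
theorem N21630 : nd 21630 = n32530 := ndS (p := 10569) (l := 2) rfl N10569 D32530
theorem N21631 : nd 21631 = n32531 := ndS (p := 10569) (l := 4) rfl N10569 D32531
theorem N21632 : nd 21632 = n32532 := ndS (p := 10569) (l := 5) rfl N10569 D32532
theorem N21633 : nd 21633 = n32533 := ndS (p := 10569) (l := 6) rfl N10569 D32533
theorem N21634 : nd 21634 = n32535 := ndS (p := 10570) (l := 6) rfl N10570 D32535
theorem N21635 : nd 21635 = n32536 := ndS (p := 10571) (l := 5) rfl N10571 D32536
theorem N21636 : nd 21636 = n32537 := ndS (p := 10572) (l := 3) rfl N10572 D32537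
theorem N21637 : nd 21637 = n32539 := ndS (p := 10572) (l := 5) rfl N10572 D32539
theorem N21638 : nd 21638 = n32540 := ndS (p := 10573) (l := 3) rfl N10573 D32540
theorem N21639 : nd 21639 = n32547 := ndS (p := 10574) (l := 6) rfl N10574 D32547
theorem N21640 : nd 21640 = n32549 := ndS (p := 10575) (l := 5) rfl N10575 D32549
theorem N21641 : nd 21641 = n32554 := ndS (p := 10576) (l := 5) rfl N10576 D32554
theorem N21642 : nd 21642 = n32555 := ndS (p := 10577) (l := 0) rfl N10577 D32555
theorem N21643 : nd 21643 = n32556 := ndS (p := 10577) (l := 1) rfl N10577 D32556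
theorem N21644 : nd 21644 = n32557 := ndS (p := 10577) (l := 4) rfl N10577 D32557
theorem N21645 : nd 21645 = n32559 := ndS (p := 10578) (l := 6) rfl N10578 D32559
theorem N21646 : nd 21646 = n32571 := ndS (p := 10579) (l := 4) rfl N10579 D32571
theorem N21647 : nd 21647 = n32572 := ndS (p := 10579) (l := 5) rfl N10579 D32572
theorem N21648 : nd 21648 = n32574 := ndS (p := 10580) (l := 5) rfl N10580 D32574
theorem N21649 : nd 21649 = n32575 := ndS (p := 10580) (l := 6) rfl N10580 D32575
theorem N21650 : nd 21650 = n32576 := ndS (p := 10581) (l := 6) rfl N10581 D32576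
theorem N21651 : nd 21651 = n32577 := ndS (p := 10582) (l := 0) rfl N10582 D32577
theorem N21652 : nd 21652 = n32578 := ndS (p := 10582) (l := 1) rfl N10582 D32578
theorem N21653 : nd 21653 = n32579 := ndS (p := 10582) (l := 4) rfl N10582 D32579
theorem N21654 : nd 21654 = n32580 := ndS (p := 10582) (l := 6) rfl N10582 D32580
theorem N21655 : nd 21655 = n32581 := ndS (p := 10583) (l := 0) rfl N10583 D32581
theorem N21656 : nd 21656 = n32582 := ndS (p := 10583) (l := 1) rfl N10583 D32582
theorem N21657 : nd 21657 = n32583 := ndS (p := 10583) (l := 5) rfl N10583 D32583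
theorem N21658 : nd 21658 = n32590 := ndS (p := 10585) (l := 4) rfl N10585 D32590
theorem N21659 : nd 21659 = n32593 := ndS (p := 10586) (l := 2) rfl N10586 D32593
theorem N21660 : nd 21660 = n32594 := ndS (p := 10586) (l := 4) rfl N10586 D32594
theorem N21661 : nd 21661 = n32595 := ndS (p := 10586) (l := 6) rfl N10586 D32595
theorem N21662 : nd 21662 = n32596 := ndS (p := 10587) (l := 3) rfl N10587 D32596
theorem N21663 : nd 21663 = n32599 := ndS (p := 10588) (l := 1) rfl N10588 D32599
theorem N21664 : nd 21664 = n32600 := ndS (p := 10588) (l := 7) rfl N10588 D32600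
theorem N21665 : nd 21665 = n32603 := ndS (p := 10589) (l := 2) rfl N10589 D32603
theorem N21666 : nd 21666 = n32604 := ndS (p := 10589) (l := 4) rfl N10589 D32604
theorem N21667 : nd 21667 = n32605 := ndS (p := 10589) (l := 6) rfl N10589 D32605
theorem N21668 : nd 21668 = n32606 := ndS (p := 10590) (l := 3) rfl N10590 D32606
theorem N21669 : nd 21669 = n32608 := ndS (p := 10591) (l := 0) rfl N10591 D32608
theorem N21670 : nd 21670 = n32609 := ndS (p := 10591) (l := 1) rfl N10591 D32609
theorem N21671 : nd 21671 = n32611 := ndS (p := 10592) (l := 3) rfl N10592 D32611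
theorem N21672 : nd 21672 = n32613 := ndS (p := 10593) (l := 3) rfl N10593 D32613
theorem N21673 : nd 21673 = n32615 := ndS (p := 10594) (l := 6) rfl N10594 D32615
theorem N21674 : nd 21674 = n32616 := ndS (p := 10595) (l := 0) rfl N10595 D32616
theorem N21675 : nd 21675 = n32617 := ndS (p := 10595) (l := 1) rfl N10595 D32617
theorem N21676 : nd 21676 = n32618 := ndS (p := 10596) (l := 0) rfl N10596 D32618
theorem N21677 : nd 21677 = n32620 := ndS (p := 10596) (l := 5) rfl N10596 D32620
theorem N21678 : nd 21678 = n32621 := ndS (p := 10597) (l := 6) rfl N10597 D32621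
theorem N21679 : nd 21679 = n32622 := ndS (p := 10598) (l := 5) rfl N10598 D32622
theorem N21680 : nd 21680 = n32623 := ndS (p := 10599) (l := 0) rfl N10599 D32623
theorem N21681 : nd 21681 = n32624 := ndS (p := 10599) (l := 4) rfl N10599 D32624
theorem N21682 : nd 21682 = n32626 := ndS (p := 10600) (l := 3) rfl N10600 D32626
theorem N21683 : nd 21683 = n32628 := ndS (p := 10600) (l := 6) rfl N10600 D32628
theorem N21684 : nd 21684 = n32637 := ndS (p := 10601) (l := 3) rfl N10601 D32637
theorem N21685 : nd 21685 = n32638 := ndS (p := 10601) (l := 5) rfl N10601 D32638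
theorem N21686 : nd 21686 = n32640 := ndS (p := 10602) (l := 5) rfl N10602 D32640
theorem N21687 : nd 21687 = n32641 := ndS (p := 10602) (l := 6) rfl N10602 D32641
theorem N21688 : nd 21688 = n32644 := ndS (p := 10603) (l := 4) rfl N10603 D32644
theorem N21689 : nd 21689 = n32645 := ndS (p := 10603) (l := 6) rfl N10603 D32645
theorem N21690 : nd 21690 = n32647 := ndS (p := 10604) (l := 1) rfl N10604 D32647
theorem N21691 : nd 21691 = n32648 := ndS (p := 10604) (l := 5) rfl N10604 D32648
theorem N21692 : nd 21692 = n32649 := ndS (p := 10605) (l := 3) rfl N10605 D32649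
theorem N21693 : nd 21693 = n32651 := ndS (p := 10606) (l := 0) rfl N10606 D32651
theorem N21694 : nd 21694 = n32652 := ndS (p := 10606) (l := 1) rfl N10606 D32652
theorem N21695 : nd 21695 = n32653 := ndS (p := 10606) (l := 5) rfl N10606 D32653
theorem N21696 : nd 21696 = n32655 := ndS (p := 10607) (l := 4) rfl N10607 D32655
theorem N21697 : nd 21697 = n32656 := ndS (p := 10609) (l := 5) rfl N10609 D32656
theorem N21698 : nd 21698 = n32657 := ndS (p := 10610) (l := 1) rfl N10610 D32657
theorem N21699 : nd 21699 = n32658 := ndS (p := 10610) (l := 6) rfl N10610 D32658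
theorem N21700 : nd 21700 = n32659 := ndS (p := 10611) (l := 1) rfl N10611 D32659
theorem N21701 : nd 21701 = n32660 := ndS (p := 10611) (l := 3) rfl N10611 D32660
theorem N21702 : nd 21702 = n32664 := ndS (p := 10612) (l := 7) rfl N10612 D32664
theorem N21703 : nd 21703 = n32665 := ndS (p := 10613) (l := 5) rfl N10613 D32665
theorem N21704 : nd 21704 = n32666 := ndS (p := 10614) (l := 4) rfl N10614 D32666
theorem N21705 : nd 21705 = n32667 := ndS (p := 10614) (l := 6) rfl N10614 D32667
theorem N21706 : nd 21706 = n32668 := ndS (p := 10615) (l := 3) rfl N10615 D32668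
theorem N21707 : nd 21707 = n32669 := ndS (p := 10615) (l := 6) rfl N10615 D32669
theorem N21708 : nd 21708 = n32671 := ndS (p := 10616) (l := 1) rfl N10616 D32671
theorem N21709 : nd 21709 = n32672 := ndS (p := 10616) (l := 7) rfl N10616 D32672
theorem N21710 : nd 21710 = n32674 := ndS (p := 10617) (l := 6) rfl N10617 D32674
theorem N21711 : nd 21711 = n32675 := ndS (p := 10618) (l := 3) rfl N10618 D32675
theorem N21712 : nd 21712 = n32676 := ndS (p := 10618) (l := 6) rfl N10618 D32676
theorem N21713 : nd 21713 = n32686 := ndS (p := 10621) (l := 3) rfl N10621 D32686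
theorem N21714 : nd 21714 = n32687 := ndS (p := 10621) (l := 6) rfl N10621 D32687
theorem N21715 : nd 21715 = n32688 := ndS (p := 10622) (l := 3) rfl N10622 D32688
theorem N21716 : nd 21716 = n32690 := ndS (p := 10623) (l := 0) rfl N10623 D32690
theorem N21717 : nd 21717 = n32691 := ndS (p := 10623) (l := 1) rfl N10623 D32691
theorem N21718 : nd 21718 = n32692 := ndS (p := 10623) (l := 5) rfl N10623 D32692
theorem N21719 : nd 21719 = n32693 := ndS (p := 10623) (l := 7) rfl N10623 D32693
theorem N21720 : nd 21720 = n32694 := ndS (p := 10624) (l := 3) rfl N10624 D32694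
theorem N21721 : nd 21721 = n32695 := ndS (p := 10624) (l := 4) rfl N10624 D32695
theorem N21722 : nd 21722 = n32696 := ndS (p := 10624) (l := 5) rfl N10624 D32696
theorem N21723 : nd 21723 = n32697 := ndS (p := 10624) (l := 6) rfl N10624 D32697
theorem N21724 : nd 21724 = n32698 := ndS (p := 10625) (l := 3) rfl N10625 D32698
theorem N21725 : nd 21725 = n32699 := ndS (p := 10625) (l := 4) rfl N10625 D32699
theorem N21726 : nd 21726 = n32700 := ndS (p := 10625) (l := 6) rfl N10625 D32700
theorem N21727 : nd 21727 = n32701 := ndS (p := 10627) (l := 0) rfl N10627 D32701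
theorem N21728 : nd 21728 = n32703 := ndS (p := 10627) (l := 2) rfl N10627 D32703
theorem N21729 : nd 21729 = n32704 := ndS (p := 10627) (l := 4) rfl N10627 D32704
theorem N21730 : nd 21730 = n32705 := ndS (p := 10627) (l := 5) rfl N10627 D32705
theorem N21731 : nd 21731 = n32706 := ndS (p := 10627) (l := 6) rfl N10627 D32706
theorem N21732 : nd 21732 = n32707 := ndS (p := 10628) (l := 0) rfl N10628 D32707
theorem N21733 : nd 21733 = n32708 := ndS (p := 10628) (l := 1) rfl N10628 D32708
theorem N21734 : nd 21734 = n32714 := ndS (p := 10630) (l := 4) rfl N10630 D32714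
theorem N21735 : nd 21735 = n32715 := ndS (p := 10630) (l := 5) rfl N10630 D32715
theorem N21736 : nd 21736 = n32716 := ndS (p := 10630) (l := 6) rfl N10630 D32716
theorem N21737 : nd 21737 = n32717 := ndS (p := 10631) (l := 4) rfl N10631 D32717
theorem N21738 : nd 21738 = n32718 := ndS (p := 10631) (l := 6) rfl N10631 D32718
theorem N21739 : nd 21739 = n32720 := ndS (p := 10632) (l := 5) rfl N10632 D32720
theorem N21740 : nd 21740 = n32721 := ndS (p := 10633) (l := 4) rfl N10633 D32721
theorem N21741 : nd 21741 = n32722 := ndS (p := 10633) (l := 6) rfl N10633 D32722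
theorem N21742 : nd 21742 = n32723 := ndS (p := 10634) (l := 3) rfl N10634 D32723
theorem N21743 : nd 21743 = n32724 := ndS (p := 10634) (l := 6) rfl N10634 D32724
theorem N21744 : nd 21744 = n32726 := ndS (p := 10635) (l := 6) rfl N10635 D32726
theorem N21745 : nd 21745 = n32727 := ndS (p := 10636) (l := 3) rfl N10636 D32727
theorem N21746 : nd 21746 = n32730 := ndS (p := 10637) (l := 1) rfl N10637 D32730
theorem N21747 : nd 21747 = n32731 := ndS (p := 10637) (l := 7) rfl N10637 D32731
theorem N21748 : nd 21748 = n32732 := ndS (p := 10638) (l := 5) rfl N10638 D32732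
theorem N21749 : nd 21749 = n32733 := ndS (p := 10639) (l := 0) rfl N10639 D32733
theorem N21750 : nd 21750 = n32734 := ndS (p := 10639) (l := 1) rfl N10639 D32734
theorem N21751 : nd 21751 = n32735 := ndS (p := 10639) (l := 4) rfl N10639 D32735
theorem N21752 : nd 21752 = n32736 := ndS (p := 10639) (l := 6) rfl N10639 D32736
theorem N21753 : nd 21753 = n32737 := ndS (p := 10640) (l := 3) rfl N10640 D32737
theorem N21754 : nd 21754 = n32738 := ndS (p := 10640) (l := 6) rfl N10640 D32738
theorem N21755 : nd 21755 = n32739 := ndS (p := 10641) (l := 0) rfl N10641 D32739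
theorem N21756 : nd 21756 = n32740 := ndS (p := 10641) (l := 7) rfl N10641 D32740
theorem N21757 : nd 21757 = n32741 := ndS (p := 10642) (l := 6) rfl N10642 D32741
theorem N21758 : nd 21758 = n32742 := ndS (p := 10643) (l := 0) rfl N10643 D32742
theorem N21759 : nd 21759 = n32743 := ndS (p := 10643) (l := 5) rfl N10643 D32743
theorem N21760 : nd 21760 = n32744 := ndS (p := 10645) (l := 6) rfl N10645 D32744
theorem N21761 : nd 21761 = n32745 := ndS (p := 10646) (l := 5) rfl N10646 D32745
theorem N21762 : nd 21762 = n32746 := ndS (p := 10647) (l := 4) rfl N10647 D32746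
theorem N21763 : nd 21763 = n32747 := ndS (p := 10648) (l := 5) rfl N10648 D32747
theorem N21764 : nd 21764 = n32748 := ndS (p := 10649) (l := 6) rfl N10649 D32748
theorem N21765 : nd 21765 = n32749 := ndS (p := 10650) (l := 3) rfl N10650 D32749
theorem N21766 : nd 21766 = n32751 := ndS (p := 10651) (l := 0) rfl N10651 D32751
theorem N21767 : nd 21767 = n32752 := ndS (p := 10651) (l := 1) rfl N10651 D32752
theorem N21768 : nd 21768 = n32753 := ndS (p := 10651) (l := 7) rfl N10651 D32753
theorem N21769 : nd 21769 = n32754 := ndS (p := 10652) (l := 2) rfl N10652 D32754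
theorem N21770 : nd 21770 = n32755 := ndS (p := 10652) (l := 6) rfl N10652 D32755
theorem N21771 : nd 21771 = n32756 := ndS (p := 10653) (l := 1) rfl N10653 D32756
theorem N21772 : nd 21772 = n32757 := ndS (p := 10653) (l := 6) rfl N10653 D32757
theorem N21773 : nd 21773 = n32758 := ndS (p := 10654) (l := 0) rfl N10654 D32758
theorem N21774 : nd 21774 = n32759 := ndS (p := 10654) (l := 1) rfl N10654 D32759
theorem N21775 : nd 21775 = n32760 := ndS (p := 10654) (l := 7) rfl N10654 D32760
theorem N21776 : nd 21776 = n32761 := ndS (p := 10655) (l := 4) rfl N10655 D32761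
theorem N21777 : nd 21777 = n32762 := ndS (p := 10655) (l := 6) rfl N10655 D32762
theorem N21778 : nd 21778 = n32763 := ndS (p := 10656) (l := 3) rfl N10656 D32763
theorem N21779 : nd 21779 = n32764 := ndS (p := 10656) (l := 6) rfl N10656 D32764
theorem N21780 : nd 21780 = n32766 := ndS (p := 10657) (l := 1) rfl N10657 D32766
theorem N21781 : nd 21781 = n32767 := ndS (p := 10657) (l := 7) rfl N10657 D32767
theorem N21782 : nd 21782 = n32768 := ndS (p := 10658) (l := 3) rfl N10658 D32768
theorem N21783 : nd 21783 = n32769 := ndS (p := 10658) (l := 6) rfl N10658 D32769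
theorem N21784 : nd 21784 = n32770 := ndS (p := 10659) (l := 6) rfl N10659 D32770
theorem N21785 : nd 21785 = n32771 := ndS (p := 10660) (l := 4) rfl N10660 D32771
theorem N21786 : nd 21786 = n32772 := ndS (p := 10660) (l := 6) rfl N10660 D32772
theorem N21787 : nd 21787 = n32778 := ndS (p := 10661) (l := 3) rfl N10661 D32778
theorem N21788 : nd 21788 = n32779 := ndS (p := 10661) (l := 4) rfl N10661 D32779
theorem N21789 : nd 21789 = n32780 := ndS (p := 10661) (l := 5) rfl N10661 D32780
theorem N21790 : nd 21790 = n32781 := ndS (p := 10661) (l := 6) rfl N10661 D32781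
theorem N21791 : nd 21791 = n32783 := ndS (p := 10662) (l := 3) rfl N10662 D32783
theorem N21792 : nd 21792 = n32784 := ndS (p := 10662) (l := 4) rfl N10662 D32784
theorem N21793 : nd 21793 = n32785 := ndS (p := 10662) (l := 5) rfl N10662 D32785
theorem N21794 : nd 21794 = n32786 := ndS (p := 10662) (l := 6) rfl N10662 D32786
theorem N21795 : nd 21795 = n32787 := ndS (p := 10664) (l := 0) rfl N10664 D32787
theorem N21796 : nd 21796 = n32788 := ndS (p := 10664) (l := 5) rfl N10664 D32788
theorem N21797 : nd 21797 = n32789 := ndS (p := 10664) (l := 6) rfl N10664 D32789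
theorem N21798 : nd 21798 = n32790 := ndS (p := 10665) (l := 0) rfl N10665 D32790
theorem N21799 : nd 21799 = n32791 := ndS (p := 10665) (l := 1) rfl N10665 D32791
theorem N21800 : nd 21800 = n32792 := ndS (p := 10665) (l := 7) rfl N10665 D32792
theorem N21801 : nd 21801 = n32794 := ndS (p := 10666) (l := 5) rfl N10666 D32794
theorem N21802 : nd 21802 = n32796 := ndS (p := 10667) (l := 5) rfl N10667 D32796
theorem N21803 : nd 21803 = n32797 := ndS (p := 10667) (l := 6) rfl N10667 D32797
theorem N21804 : nd 21804 = n32798 := ndS (p := 10669) (l := 4) rfl N10669 D32798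
theorem N21805 : nd 21805 = n32799 := ndS (p := 10669) (l := 6) rfl N10669 D32799
theorem N21806 : nd 21806 = n32800 := ndS (p := 10670) (l := 0) rfl N10670 D32800
theorem N21807 : nd 21807 = n32804 := ndS (p := 10671) (l := 0) rfl N10671 D32804
theorem N21808 : nd 21808 = n32805 := ndS (p := 10671) (l := 1) rfl N10671 D32805
theorem N21809 : nd 21809 = n32806 := ndS (p := 10671) (l := 5) rfl N10671 D32806
theorem N21810 : nd 21810 = n32807 := ndS (p := 10671) (l := 7) rfl N10671 D32807
theorem N21811 : nd 21811 = n32808 := ndS (p := 10672) (l := 4) rfl N10672 D32808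
theorem N21812 : nd 21812 = n32809 := ndS (p := 10672) (l := 7) rfl N10672 D32809
theorem N21813 : nd 21813 = n32814 := ndS (p := 10674) (l := 5) rfl N10674 D32814
theorem N21814 : nd 21814 = n32815 := ndS (p := 10674) (l := 6) rfl N10674 D32815
theorem N21815 : nd 21815 = n32816 := ndS (p := 10675) (l := 0) rfl N10675 D32816
theorem N21816 : nd 21816 = n32817 := ndS (p := 10675) (l := 1) rfl N10675 D32817
theorem N21817 : nd 21817 = n32819 := ndS (p := 10675) (l := 6) rfl N10675 D32819
theorem N21818 : nd 21818 = n32821 := ndS (p := 10676) (l := 1) rfl N10676 D32821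
theorem N21819 : nd 21819 = n32822 := ndS (p := 10676) (l := 7) rfl N10676 D32822
theorem N21820 : nd 21820 = n32824 := ndS (p := 10677) (l := 1) rfl N10677 D32824
theorem N21821 : nd 21821 = n32825 := ndS (p := 10677) (l := 2) rfl N10677 D32825
theorem N21822 : nd 21822 = n32828 := ndS (p := 10677) (l := 6) rfl N10677 D32828
theorem N21823 : nd 21823 = n32830 := ndS (p := 10678) (l := 6) rfl N10678 D32830
theorem N21824 : nd 21824 = n32831 := ndS (p := 10679) (l := 7) rfl N10679 D32831
theorem N21825 : nd 21825 = n32832 := ndS (p := 10682) (l := 3) rfl N10682 D32832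
theorem N21826 : nd 21826 = n32833 := ndS (p := 10682) (l := 6) rfl N10682 D32833
theorem N21827 : nd 21827 = n32834 := ndS (p := 10683) (l := 0) rfl N10683 D32834
theorem N21828 : nd 21828 = n32835 := ndS (p := 10683) (l := 1) rfl N10683 D32835
theorem N21829 : nd 21829 = n32836 := ndS (p := 10683) (l := 7) rfl N10683 D32836
theorem N21830 : nd 21830 = n32837 := ndS (p := 10684) (l := 6) rfl N10684 D32837
theorem N21831 : nd 21831 = n32838 := ndS (p := 10685) (l := 3) rfl N10685 D32838
theorem N21832 : nd 21832 = n32839 := ndS (p := 10685) (l := 6) rfl N10685 D32839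
theorem N21833 : nd 21833 = n32840 := ndS (p := 10686) (l := 0) rfl N10686 D32840
theorem N21834 : nd 21834 = n32842 := ndS (p := 10686) (l := 7) rfl N10686 D32842
theorem N21835 : nd 21835 = n32843 := ndS (p := 10687) (l := 6) rfl N10687 D32843
theorem N21836 : nd 21836 = n32844 := ndS (p := 10688) (l := 3) rfl N10688 D32844
theorem N21837 : nd 21837 = n32847 := ndS (p := 10689) (l := 1) rfl N10689 D32847
theorem N21838 : nd 21838 = n32848 := ndS (p := 10689) (l := 7) rfl N10689 D32848
theorem N21839 : nd 21839 = n32849 := ndS (p := 10690) (l := 3) rfl N10690 D32849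
theorem N21840 : nd 21840 = n32850 := ndS (p := 10690) (l := 6) rfl N10690 D32850
theorem N21841 : nd 21841 = n32851 := ndS (p := 10691) (l := 3) rfl N10691 D32851
theorem N21842 : nd 21842 = n32853 := ndS (p := 10692) (l := 6) rfl N10692 D32853
theorem N21843 : nd 21843 = n32854 := ndS (p := 10693) (l := 0) rfl N10693 D32854
theorem N21844 : nd 21844 = n32855 := ndS (p := 10693) (l := 1) rfl N10693 D32855
theorem N21845 : nd 21845 = n32856 := ndS (p := 10693) (l := 5) rfl N10693 D32856
theorem N21846 : nd 21846 = n32857 := ndS (p := 10693) (l := 7) rfl N10693 D32857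
theorem N21847 : nd 21847 = n32859 := ndS (p := 10694) (l := 3) rfl N10694 D32859
theorem N21848 : nd 21848 = n32860 := ndS (p := 10694) (l := 4) rfl N10694 D32860
theorem N21849 : nd 21849 = n32861 := ndS (p := 10694) (l := 5) rfl N10694 D32861
theorem N21850 : nd 21850 = n32862 := ndS (p := 10694) (l := 6) rfl N10694 D32862
theorem N21851 : nd 21851 = n32864 := ndS (p := 10695) (l := 3) rfl N10695 D32864
theorem N21852 : nd 21852 = n32865 := ndS (p := 10695) (l := 4) rfl N10695 D32865
theorem N21853 : nd 21853 = n32866 := ndS (p := 10695) (l := 5) rfl N10695 D32866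
theorem N21854 : nd 21854 = n32867 := ndS (p := 10695) (l := 6) rfl N10695 D32867
theorem N21855 : nd 21855 = n32868 := ndS (p := 10696) (l := 0) rfl N10696 D32868
theorem N21856 : nd 21856 = n32869 := ndS (p := 10696) (l := 1) rfl N10696 D32869
theorem N21857 : nd 21857 = n32870 := ndS (p := 10696) (l := 4) rfl N10696 D32870
theorem N21858 : nd 21858 = n32871 := ndS (p := 10696) (l := 7) rfl N10696 D32871
theorem N21859 : nd 21859 = n32872 := ndS (p := 10698) (l := 3) rfl N10698 D32872
theorem N21860 : nd 21860 = n32873 := ndS (p := 10698) (l := 4) rfl N10698 D32873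
theorem N21861 : nd 21861 = n32874 := ndS (p := 10698) (l := 6) rfl N10698 D32874
theorem N21862 : nd 21862 = n32875 := ndS (p := 10699) (l := 3) rfl N10699 D32875
theorem N21863 : nd 21863 = n32876 := ndS (p := 10699) (l := 4) rfl N10699 D32876
theorem N21864 : nd 21864 = n32878 := ndS (p := 10700) (l := 0) rfl N10700 D32878
theorem N21865 : nd 21865 = n32879 := ndS (p := 10700) (l := 1) rfl N10700 D32879
theorem N21866 : nd 21866 = n32881 := ndS (p := 10701) (l := 0) rfl N10701 D32881
theorem N21867 : nd 21867 = n32883 := ndS (p := 10701) (l := 2) rfl N10701 D32883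
theorem N21868 : nd 21868 = n32884 := ndS (p := 10701) (l := 4) rfl N10701 D32884
theorem N21869 : nd 21869 = n32886 := ndS (p := 10701) (l := 6) rfl N10701 D32886
theorem N21870 : nd 21870 = n32891 := ndS (p := 10702) (l := 1) rfl N10702 D32891
theorem N21871 : nd 21871 = n32892 := ndS (p := 10702) (l := 7) rfl N10702 D32892
theorem N21872 : nd 21872 = n32896 := ndS (p := 10703) (l := 4) rfl N10703 D32896
theorem N21873 : nd 21873 = n32898 := ndS (p := 10703) (l := 6) rfl N10703 D32898
theorem N21874 : nd 21874 = n32900 := ndS (p := 10704) (l := 5) rfl N10704 D32900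
theorem N21875 : nd 21875 = n32901 := ndS (p := 10704) (l := 7) rfl N10704 D32901
theorem N21876 : nd 21876 = n32902 := ndS (p := 10705) (l := 3) rfl N10705 D32902
theorem N21877 : nd 21877 = n32905 := ndS (p := 10706) (l := 3) rfl N10706 D32905
theorem N21878 : nd 21878 = n32913 := ndS (p := 10707) (l := 6) rfl N10707 D32913
theorem N21879 : nd 21879 = n32914 := ndS (p := 10708) (l := 4) rfl N10708 D32914
theorem N21880 : nd 21880 = n32915 := ndS (p := 10708) (l := 5) rfl N10708 D32915
theorem N21881 : nd 21881 = n32916 := ndS (p := 10709) (l := 5) rfl N10709 D32916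
theorem N21882 : nd 21882 = n32917 := ndS (p := 10710) (l := 5) rfl N10710 D32917
theorem N21883 : nd 21883 = n32918 := ndS (p := 10711) (l := 0) rfl N10711 D32918
theorem N21884 : nd 21884 = n32919 := ndS (p := 10711) (l := 1) rfl N10711 D32919
theorem N21885 : nd 21885 = n32920 := ndS (p := 10711) (l := 4) rfl N10711 D32920
theorem N21886 : nd 21886 = n32928 := ndS (p := 10712) (l := 0) rfl N10712 D32928
theorem N21887 : nd 21887 = n32929 := ndS (p := 10712) (l := 1) rfl N10712 D32929
theorem N21888 : nd 21888 = n32930 := ndS (p := 10712) (l := 4) rfl N10712 D32930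
theorem N21889 : nd 21889 = n32931 := ndS (p := 10712) (l := 6) rfl N10712 D32931
theorem N21890 : nd 21890 = n32939 := ndS (p := 10714) (l := 2) rfl N10714 D32939
theorem N21891 : nd 21891 = n32940 := ndS (p := 10714) (l := 4) rfl N10714 D32940
theorem N21892 : nd 21892 = n32941 := ndS (p := 10714) (l := 6) rfl N10714 D32941
theorem N21893 : nd 21893 = n32950 := ndS (p := 10716) (l := 4) rfl N10716 D32950
theorem N21894 : nd 21894 = n32970 := ndS (p := 10718) (l := 5) rfl N10718 D32970
theorem N21895 : nd 21895 = n32971 := ndS (p := 10719) (l := 5) rfl N10719 D32971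
theorem N21896 : nd 21896 = n32972 := ndS (p := 10720) (l := 0) rfl N10720 D32972
theorem N21897 : nd 21897 = n32973 := ndS (p := 10720) (l := 1) rfl N10720 D32973
theorem N21898 : nd 21898 = n32974 := ndS (p := 10720) (l := 4) rfl N10720 D32974
theorem N21899 : nd 21899 = n32976 := ndS (p := 10721) (l := 3) rfl N10721 D32976
theorem N21900 : nd 21900 = n32978 := ndS (p := 10721) (l := 6) rfl N10721 D32978
theorem N21901 : nd 21901 = n32985 := ndS (p := 10723) (l := 5) rfl N10723 D32985
theorem N21902 : nd 21902 = n32986 := ndS (p := 10724) (l := 1) rfl N10724 D32986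
theorem N21903 : nd 21903 = n32987 := ndS (p := 10724) (l := 4) rfl N10724 D32987
theorem N21904 : nd 21904 = n32988 := ndS (p := 10724) (l := 6) rfl N10724 D32988
theorem N21905 : nd 21905 = n32989 := ndS (p := 10725) (l := 0) rfl N10725 D32989
theorem N21906 : nd 21906 = n32990 := ndS (p := 10725) (l := 4) rfl N10725 D32990
theorem N21907 : nd 21907 = n32991 := ndS (p := 10725) (l := 6) rfl N10725 D32991
theorem N21908 : nd 21908 = n32992 := ndS (p := 10726) (l := 3) rfl N10726 D32992
theorem N21909 : nd 21909 = n32994 := ndS (p := 10727) (l := 0) rfl N10727 D32994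
theorem N21910 : nd 21910 = n32995 := ndS (p := 10727) (l := 1) rfl N10727 D32995
theorem N21911 : nd 21911 = n32997 := ndS (p := 10728) (l := 6) rfl N10728 D32997
theorem N21912 : nd 21912 = n32998 := ndS (p := 10729) (l := 5) rfl N10729 D32998
theorem N21913 : nd 21913 = n32999 := ndS (p := 10730) (l := 5) rfl N10730 D32999
theorem N21914 : nd 21914 = n33000 := ndS (p := 10730) (l := 6) rfl N10730 D33000
theorem N21915 : nd 21915 = n33001 := ndS (p := 10731) (l := 0) rfl N10731 D33001
theorem N21916 : nd 21916 = n33002 := ndS (p := 10731) (l := 1) rfl N10731 D33002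
theorem N21917 : nd 21917 = n33003 := ndS (p := 10731) (l := 4) rfl N10731 D33003
theorem N21918 : nd 21918 = n33004 := ndS (p := 10731) (l := 6) rfl N10731 D33004
theorem N21919 : nd 21919 = n33005 := ndS (p := 10732) (l := 5) rfl N10732 D33005
theorem N21920 : nd 21920 = n33006 := ndS (p := 10733) (l := 1) rfl N10733 D33006
theorem N21921 : nd 21921 = n33007 := ndS (p := 10733) (l := 6) rfl N10733 D33007
theorem N21922 : nd 21922 = n33010 := ndS (p := 10734) (l := 5) rfl N10734 D33010
theorem N21923 : nd 21923 = n33012 := ndS (p := 10735) (l := 4) rfl N10735 D33012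
theorem N21924 : nd 21924 = n33013 := ndS (p := 10735) (l := 5) rfl N10735 D33013
theorem N21925 : nd 21925 = n33014 := ndS (p := 10736) (l := 0) rfl N10736 D33014
theorem N21926 : nd 21926 = n33016 := ndS (p := 10736) (l := 4) rfl N10736 D33016
theorem N21927 : nd 21927 = n33017 := ndS (p := 10737) (l := 5) rfl N10737 D33017
theorem N21928 : nd 21928 = n33018 := ndS (p := 10738) (l := 4) rfl N10738 D33018
theorem N21929 : nd 21929 = n33019 := ndS (p := 10738) (l := 6) rfl N10738 D33019
theorem N21930 : nd 21930 = n33020 := ndS (p := 10739) (l := 4) rfl N10739 D33020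
theorem N21931 : nd 21931 = n33021 := ndS (p := 10739) (l := 6) rfl N10739 D33021
theorem N21932 : nd 21932 = n33022 := ndS (p := 10740) (l := 3) rfl N10740 D33022
theorem N21933 : nd 21933 = n33023 := ndS (p := 10740) (l := 5) rfl N10740 D33023
theorem N21934 : nd 21934 = n33024 := ndS (p := 10740) (l := 6) rfl N10740 D33024
theorem N21935 : nd 21935 = n33028 := ndS (p := 10742) (l := 5) rfl N10742 D33028
theorem N21936 : nd 21936 = n33029 := ndS (p := 10742) (l := 6) rfl N10742 D33029
theorem N21937 : nd 21937 = n33030 := ndS (p := 10743) (l := 4) rfl N10743 D33030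
theorem N21938 : nd 21938 = n33031 := ndS (p := 10743) (l := 6) rfl N10743 D33031
theorem N21939 : nd 21939 = n33032 := ndS (p := 10744) (l := 1) rfl N10744 D33032
theorem N21940 : nd 21940 = n33033 := ndS (p := 10744) (l := 5) rfl N10744 D33033
theorem N21941 : nd 21941 = n33034 := ndS (p := 10744) (l := 7) rfl N10744 D33034
theorem N21942 : nd 21942 = n33036 := ndS (p := 10745) (l := 5) rfl N10745 D33036
theorem N21943 : nd 21943 = n33042 := ndS (p := 10746) (l := 4) rfl N10746 D33042
theorem N21944 : nd 21944 = n33043 := ndS (p := 10746) (l := 5) rfl N10746 D33043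
theorem N21945 : nd 21945 = n33045 := ndS (p := 10747) (l := 4) rfl N10747 D33045
theorem N21946 : nd 21946 = n33046 := ndS (p := 10747) (l := 5) rfl N10747 D33046
theorem N21947 : nd 21947 = n33047 := ndS (p := 10748) (l := 0) rfl N10748 D33047
theorem N21948 : nd 21948 = n33048 := ndS (p := 10748) (l := 1) rfl N10748 D33048
theorem N21949 : nd 21949 = n33049 := ndS (p := 10748) (l := 4) rfl N10748 D33049
theorem N21950 : nd 21950 = n33050 := ndS (p := 10748) (l := 7) rfl N10748 D33050
theorem N21951 : nd 21951 = n33051 := ndS (p := 10750) (l := 5) rfl N10750 D33051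
theorem N21952 : nd 21952 = n33052 := ndS (p := 10751) (l := 4) rfl N10751 D33052
theorem N21953 : nd 21953 = n33053 := ndS (p := 10751) (l := 6) rfl N10751 D33053
theorem N21954 : nd 21954 = n33054 := ndS (p := 10752) (l := 5) rfl N10752 D33054
theorem N21955 : nd 21955 = n33055 := ndS (p := 10754) (l := 4) rfl N10754 D33055
theorem N21956 : nd 21956 = n33056 := ndS (p := 10754) (l := 6) rfl N10754 D33056
theorem N21957 : nd 21957 = n33057 := ndS (p := 10755) (l := 4) rfl N10755 D33057
theorem N21958 : nd 21958 = n33058 := ndS (p := 10755) (l := 6) rfl N10755 D33058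
theorem N21959 : nd 21959 = n33059 := ndS (p := 10756) (l := 4) rfl N10756 D33059
theorem N21960 : nd 21960 = n33060 := ndS (p := 10756) (l := 6) rfl N10756 D33060
theorem N21961 : nd 21961 = n33061 := ndS (p := 10757) (l := 0) rfl N10757 D33061
theorem N21962 : nd 21962 = n33062 := ndS (p := 10757) (l := 5) rfl N10757 D33062
theorem N21963 : nd 21963 = n33063 := ndS (p := 10757) (l := 6) rfl N10757 D33063
theorem N21964 : nd 21964 = n33064 := ndS (p := 10758) (l := 0) rfl N10758 D33064
theorem N21965 : nd 21965 = n33065 := ndS (p := 10758) (l := 1) rfl N10758 D33065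
theorem N21966 : nd 21966 = n33066 := ndS (p := 10758) (l := 5) rfl N10758 D33066
theorem N21967 : nd 21967 = n33067 := ndS (p := 10758) (l := 7) rfl N10758 D33067
theorem N21968 : nd 21968 = n33068 := ndS (p := 10759) (l := 3) rfl N10759 D33068
theorem N21969 : nd 21969 = n33069 := ndS (p := 10759) (l := 5) rfl N10759 D33069
theorem N21970 : nd 21970 = n33070 := ndS (p := 10759) (l := 6) rfl N10759 D33070
theorem N21971 : nd 21971 = n33071 := ndS (p := 10760) (l := 5) rfl N10760 D33071
theorem N21972 : nd 21972 = n33072 := ndS (p := 10761) (l := 0) rfl N10761 D33072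
theorem N21973 : nd 21973 = n33073 := ndS (p := 10761) (l := 4) rfl N10761 D33073
theorem N21974 : nd 21974 = n33074 := ndS (p := 10761) (l := 7) rfl N10761 D33074
theorem N21975 : nd 21975 = n33075 := ndS (p := 10763) (l := 1) rfl N10763 D33075
theorem N21976 : nd 21976 = n33076 := ndS (p := 10763) (l := 6) rfl N10763 D33076
theorem N21977 : nd 21977 = n33077 := ndS (p := 10764) (l := 0) rfl N10764 D33077
theorem N21978 : nd 21978 = n33079 := ndS (p := 10764) (l := 5) rfl N10764 D33079
theorem N21979 : nd 21979 = n33080 := ndS (p := 10764) (l := 7) rfl N10764 D33080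
theorem N21980 : nd 21980 = n33081 := ndS (p := 10765) (l := 4) rfl N10765 D33081
theorem N21981 : nd 21981 = n33082 := ndS (p := 10765) (l := 6) rfl N10765 D33082
theorem N21982 : nd 21982 = n33083 := ndS (p := 10766) (l := 3) rfl N10766 D33083
theorem N21983 : nd 21983 = n33084 := ndS (p := 10766) (l := 5) rfl N10766 D33084
theorem N21984 : nd 21984 = n33085 := ndS (p := 10766) (l := 6) rfl N10766 D33085
theorem N21985 : nd 21985 = n33087 := ndS (p := 10767) (l := 1) rfl N10767 D33087
theorem N21986 : nd 21986 = n33088 := ndS (p := 10767) (l := 5) rfl N10767 D33088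
theorem N21987 : nd 21987 = n33089 := ndS (p := 10767) (l := 7) rfl N10767 D33089
theorem N21988 : nd 21988 = n33090 := ndS (p := 10768) (l := 3) rfl N10768 D33090
theorem N21989 : nd 21989 = n33091 := ndS (p := 10768) (l := 5) rfl N10768 D33091
theorem N21990 : nd 21990 = n33092 := ndS (p := 10768) (l := 6) rfl N10768 D33092
theorem N21991 : nd 21991 = n33093 := ndS (p := 10769) (l := 3) rfl N10769 D33093
theorem N21992 : nd 21992 = n33094 := ndS (p := 10769) (l := 5) rfl N10769 D33094
theorem N21993 : nd 21993 = n33095 := ndS (p := 10769) (l := 6) rfl N10769 D33095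
theorem N21994 : nd 21994 = n33096 := ndS (p := 10770) (l := 0) rfl N10770 D33096
theorem N21995 : nd 21995 = n33097 := ndS (p := 10770) (l := 1) rfl N10770 D33097
theorem N21996 : nd 21996 = n33098 := ndS (p := 10770) (l := 4) rfl N10770 D33098
theorem N21997 : nd 21997 = n33119 := ndS (p := 10771) (l := 5) rfl N10771 D33119
theorem N21998 : nd 21998 = n33121 := ndS (p := 10772) (l := 0) rfl N10772 D33121
theorem N21999 : nd 21999 = n33123 := ndS (p := 10772) (l := 5) rfl N10772 D33123
theorem N22000 : nd 22000 = n33124 := ndS (p := 10772) (l := 6) rfl N10772 D33124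
theorem N22001 : nd 22001 = n33125 := ndS (p := 10773) (l := 0) rfl N10773 D33125
theorem N22002 : nd 22002 = n33126 := ndS (p := 10773) (l := 4) rfl N10773 D33126
theorem N22003 : nd 22003 = n33127 := ndS (p := 10773) (l := 6) rfl N10773 D33127
theorem N22004 : nd 22004 = n33128 := ndS (p := 10774) (l := 5) rfl N10774 D33128
theorem N22005 : nd 22005 = n33129 := ndS (p := 10775) (l := 4) rfl N10775 D33129
theorem N22006 : nd 22006 = n33130 := ndS (p := 10775) (l := 5) rfl N10775 D33130
theorem N22007 : nd 22007 = n33131 := ndS (p := 10776) (l := 3) rfl N10776 D33131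
theorem N22008 : nd 22008 = n33132 := ndS (p := 10776) (l := 5) rfl N10776 D33132
theorem N22009 : nd 22009 = n33133 := ndS (p := 10777) (l := 4) rfl N10777 D33133
theorem N22010 : nd 22010 = n33134 := ndS (p := 10777) (l := 6) rfl N10777 D33134
theorem N22011 : nd 22011 = n33135 := ndS (p := 10778) (l := 3) rfl N10778 D33135
theorem N22012 : nd 22012 = n33136 := ndS (p := 10778) (l := 4) rfl N10778 D33136
theorem N22013 : nd 22013 = n33137 := ndS (p := 10778) (l := 6) rfl N10778 D33137
theorem N22014 : nd 22014 = n33138 := ndS (p := 10779) (l := 4) rfl N10779 D33138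
theorem N22015 : nd 22015 = n33139 := ndS (p := 10779) (l := 6) rfl N10779 D33139
theorem N22016 : nd 22016 = n33140 := ndS (p := 10780) (l := 0) rfl N10780 D33140
theorem N22017 : nd 22017 = n33141 := ndS (p := 10780) (l := 3) rfl N10780 D33141
theorem N22018 : nd 22018 = n33142 := ndS (p := 10780) (l := 5) rfl N10780 D33142
theorem N22019 : nd 22019 = n33143 := ndS (p := 10780) (l := 7) rfl N10780 D33143
theorem N22020 : nd 22020 = n33144 := ndS (p := 10781) (l := 6) rfl N10781 D33144
theorem N22021 : nd 22021 = n33148 := ndS (p := 10782) (l := 4) rfl N10782 D33148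
theorem N22022 : nd 22022 = n33149 := ndS (p := 10782) (l := 5) rfl N10782 D33149
theorem N22023 : nd 22023 = n33150 := ndS (p := 10782) (l := 6) rfl N10782 D33150
theorem N22024 : nd 22024 = n33153 := ndS (p := 10783) (l := 6) rfl N10783 D33153
theorem N22025 : nd 22025 = n33154 := ndS (p := 10784) (l := 7) rfl N10784 D33154
theorem N22026 : nd 22026 = n33156 := ndS (p := 10785) (l := 1) rfl N10785 D33156
theorem N22027 : nd 22027 = n33160 := ndS (p := 10785) (l := 6) rfl N10785 D33160
theorem N22028 : nd 22028 = n33162 := ndS (p := 10786) (l := 6) rfl N10786 D33162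
theorem N22029 : nd 22029 = n33163 := ndS (p := 10787) (l := 7) rfl N10787 D33163
theorem N22030 : nd 22030 = n33164 := ndS (p := 10788) (l := 3) rfl N10788 D33164
theorem N22031 : nd 22031 = n33165 := ndS (p := 10788) (l := 6) rfl N10788 D33165
theorem N22032 : nd 22032 = n33167 := ndS (p := 10789) (l := 6) rfl N10789 D33167
theorem N22033 : nd 22033 = n33168 := ndS (p := 10790) (l := 3) rfl N10790 D33168
theorem N22034 : nd 22034 = n33172 := ndS (p := 10791) (l := 0) rfl N10791 D33172
theorem N22035 : nd 22035 = n33173 := ndS (p := 10791) (l := 1) rfl N10791 D33173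
theorem N22036 : nd 22036 = n33174 := ndS (p := 10791) (l := 2) rfl N10791 D33174
theorem N22037 : nd 22037 = n33175 := ndS (p := 10792) (l := 0) rfl N10792 D33175
theorem N22038 : nd 22038 = n33176 := ndS (p := 10792) (l := 1) rfl N10792 D33176
theorem N22039 : nd 22039 = n33177 := ndS (p := 10793) (l := 5) rfl N10793 D33177
theorem N22040 : nd 22040 = n33178 := ndS (p := 10793) (l := 6) rfl N10793 D33178
theorem N22041 : nd 22041 = n33179 := ndS (p := 10794) (l := 0) rfl N10794 D33179
theorem N22042 : nd 22042 = n33180 := ndS (p := 10794) (l := 4) rfl N10794 D33180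
theorem N22043 : nd 22043 = n33181 := ndS (p := 10794) (l := 6) rfl N10794 D33181
theorem N22044 : nd 22044 = n33182 := ndS (p := 10795) (l := 0) rfl N10795 D33182
theorem N22045 : nd 22045 = n33183 := ndS (p := 10795) (l := 1) rfl N10795 D33183
theorem N22046 : nd 22046 = n33184 := ndS (p := 10795) (l := 5) rfl N10795 D33184
theorem N22047 : nd 22047 = n33185 := ndS (p := 10795) (l := 6) rfl N10795 D33185
theorem N22048 : nd 22048 = n33189 := ndS (p := 10797) (l := 6) rfl N10797 D33189
theorem N22049 : nd 22049 = n33190 := ndS (p := 10798) (l := 4) rfl N10798 D33190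
theorem N22050 : nd 22050 = n33191 := ndS (p := 10798) (l := 6) rfl N10798 D33191
theorem N22051 : nd 22051 = n33192 := ndS (p := 10799) (l := 5) rfl N10799 D33192
theorem N22052 : nd 22052 = n33193 := ndS (p := 10800) (l := 3) rfl N10800 D33193
theorem N22053 : nd 22053 = n33194 := ndS (p := 10800) (l := 5) rfl N10800 D33194
theorem N22054 : nd 22054 = n33195 := ndS (p := 10800) (l := 6) rfl N10800 D33195
theorem N22055 : nd 22055 = n33198 := ndS (p := 10801) (l := 5) rfl N10801 D33198
theorem N22056 : nd 22056 = n33200 := ndS (p := 10802) (l := 4) rfl N10802 D33200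
theorem N22057 : nd 22057 = n33201 := ndS (p := 10803) (l := 4) rfl N10803 D33201
theorem N22058 : nd 22058 = n33202 := ndS (p := 10803) (l := 6) rfl N10803 D33202
theorem N22059 : nd 22059 = n33203 := ndS (p := 10804) (l := 1) rfl N10804 D33203
theorem N22060 : nd 22060 = n33204 := ndS (p := 10804) (l := 5) rfl N10804 D33204
theorem N22061 : nd 22061 = n33205 := ndS (p := 10805) (l := 3) rfl N10805 D33205
theorem N22062 : nd 22062 = n33206 := ndS (p := 10805) (l := 5) rfl N10805 D33206
theorem N22063 : nd 22063 = n33207 := ndS (p := 10805) (l := 6) rfl N10805 D33207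
theorem N22064 : nd 22064 = n33208 := ndS (p := 10806) (l := 0) rfl N10806 D33208
theorem N22065 : nd 22065 = n33209 := ndS (p := 10806) (l := 1) rfl N10806 D33209
theorem N22066 : nd 22066 = n33210 := ndS (p := 10806) (l := 5) rfl N10806 D33210
theorem N22067 : nd 22067 = n33211 := ndS (p := 10806) (l := 7) rfl N10806 D33211
theorem N22068 : nd 22068 = n33212 := ndS (p := 10807) (l := 0) rfl N10807 D33212
theorem N22069 : nd 22069 = n33213 := ndS (p := 10807) (l := 1) rfl N10807 D33213
theorem N22070 : nd 22070 = n33214 := ndS (p := 10807) (l := 4) rfl N10807 D33214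
theorem N22071 : nd 22071 = n33215 := ndS (p := 10808) (l := 5) rfl N10808 D33215
theorem N22072 : nd 22072 = n33216 := ndS (p := 10809) (l := 5) rfl N10809 D33216
theorem N22073 : nd 22073 = n33217 := ndS (p := 10810) (l := 4) rfl N10810 D33217
theorem N22074 : nd 22074 = n33218 := ndS (p := 10810) (l := 6) rfl N10810 D33218
theorem N22075 : nd 22075 = n33219 := ndS (p := 10811) (l := 5) rfl N10811 D33219
theorem N22076 : nd 22076 = n33220 := ndS (p := 10812) (l := 4) rfl N10812 D33220
theorem N22077 : nd 22077 = n33221 := ndS (p := 10812) (l := 6) rfl N10812 D33221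
theorem N22078 : nd 22078 = n33222 := ndS (p := 10813) (l := 5) rfl N10813 D33222
theorem N22079 : nd 22079 = n33223 := ndS (p := 10814) (l := 3) rfl N10814 D33223
theorem N22080 : nd 22080 = n33224 := ndS (p := 10814) (l := 4) rfl N10814 D33224
theorem N22081 : nd 22081 = n33226 := ndS (p := 10815) (l := 3) rfl N10815 D33226
theorem N22082 : nd 22082 = n33227 := ndS (p := 10815) (l := 4) rfl N10815 D33227
theorem N22083 : nd 22083 = n33228 := ndS (p := 10815) (l := 6) rfl N10815 D33228
theorem N22084 : nd 22084 = n33229 := ndS (p := 10816) (l := 0) rfl N10816 D33229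
theorem N22085 : nd 22085 = n33230 := ndS (p := 10816) (l := 1) rfl N10816 D33230
theorem N22086 : nd 22086 = n33231 := ndS (p := 10816) (l := 3) rfl N10816 D33231
theorem N22087 : nd 22087 = n33232 := ndS (p := 10816) (l := 5) rfl N10816 D33232
theorem N22088 : nd 22088 = n33233 := ndS (p := 10816) (l := 6) rfl N10816 D33233
theorem N22089 : nd 22089 = n33234 := ndS (p := 10817) (l := 0) rfl N10817 D33234
theorem N22090 : nd 22090 = n33235 := ndS (p := 10817) (l := 1) rfl N10817 D33235
theorem N22091 : nd 22091 = n33236 := ndS (p := 10817) (l := 5) rfl N10817 D33236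
theorem N22092 : nd 22092 = n33237 := ndS (p := 10817) (l := 7) rfl N10817 D33237
theorem N22093 : nd 22093 = n33238 := ndS (p := 10818) (l := 4) rfl N10818 D33238
theorem N22094 : nd 22094 = n33239 := ndS (p := 10818) (l := 5) rfl N10818 D33239
theorem N22095 : nd 22095 = n33240 := ndS (p := 10819) (l := 4) rfl N10819 D33240
theorem N22096 : nd 22096 = n33241 := ndS (p := 10819) (l := 5) rfl N10819 D33241
theorem N22097 : nd 22097 = n33242 := ndS (p := 10820) (l := 0) rfl N10820 D33242
theorem N22098 : nd 22098 = n33243 := ndS (p := 10820) (l := 1) rfl N10820 D33243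
theorem N22099 : nd 22099 = n33244 := ndS (p := 10820) (l := 4) rfl N10820 D33244
theorem N22100 : nd 22100 = n33245 := ndS (p := 10820) (l := 7) rfl N10820 D33245
theorem N22101 : nd 22101 = n33246 := ndS (p := 10822) (l := 0) rfl N10822 D33246
theorem N22102 : nd 22102 = n33247 := ndS (p := 10822) (l := 1) rfl N10822 D33247
theorem N22103 : nd 22103 = n33248 := ndS (p := 10822) (l := 6) rfl N10822 D33248
theorem N22104 : nd 22104 = n33249 := ndS (p := 10823) (l := 0) rfl N10823 D33249
theorem N22105 : nd 22105 = n33251 := ndS (p := 10823) (l := 7) rfl N10823 D33251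
theorem N22106 : nd 22106 = n33252 := ndS (p := 10824) (l := 6) rfl N10824 D33252
theorem N22107 : nd 22107 = n33253 := ndS (p := 10825) (l := 3) rfl N10825 D33253
theorem N22108 : nd 22108 = n33254 := ndS (p := 10825) (l := 5) rfl N10825 D33254
theorem N22109 : nd 22109 = n33255 := ndS (p := 10825) (l := 6) rfl N10825 D33255
theorem N22110 : nd 22110 = n33257 := ndS (p := 10826) (l := 1) rfl N10826 D33257
theorem N22111 : nd 22111 = n33258 := ndS (p := 10826) (l := 5) rfl N10826 D33258
theorem N22112 : nd 22112 = n33259 := ndS (p := 10826) (l := 7) rfl N10826 D33259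
theorem N22113 : nd 22113 = n33260 := ndS (p := 10827) (l := 3) rfl N10827 D33260
theorem N22114 : nd 22114 = n33261 := ndS (p := 10827) (l := 6) rfl N10827 D33261
theorem N22115 : nd 22115 = n33262 := ndS (p := 10828) (l := 6) rfl N10828 D33262
theorem N22116 : nd 22116 = n33263 := ndS (p := 10829) (l := 0) rfl N10829 D33263
theorem N22117 : nd 22117 = n33264 := ndS (p := 10829) (l := 4) rfl N10829 D33264
theorem N22118 : nd 22118 = n33266 := ndS (p := 10830) (l := 0) rfl N10830 D33266
theorem N22119 : nd 22119 = n33267 := ndS (p := 10830) (l := 1) rfl N10830 D33267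
theorem N22120 : nd 22120 = n33269 := ndS (p := 10830) (l := 7) rfl N10830 D33269
theorem N22121 : nd 22121 = n33271 := ndS (p := 10831) (l := 3) rfl N10831 D33271
theorem N22122 : nd 22122 = n33272 := ndS (p := 10831) (l := 4) rfl N10831 D33272
theorem N22123 : nd 22123 = n33273 := ndS (p := 10831) (l := 5) rfl N10831 D33273
theorem N22124 : nd 22124 = n33274 := ndS (p := 10831) (l := 6) rfl N10831 D33274
theorem N22125 : nd 22125 = n33276 := ndS (p := 10832) (l := 3) rfl N10832 D33276
theorem N22126 : nd 22126 = n33277 := ndS (p := 10832) (l := 4) rfl N10832 D33277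
theorem N22127 : nd 22127 = n33278 := ndS (p := 10832) (l := 5) rfl N10832 D33278
theorem N22128 : nd 22128 = n33279 := ndS (p := 10832) (l := 6) rfl N10832 D33279
theorem N22129 : nd 22129 = n33280 := ndS (p := 10833) (l := 0) rfl N10833 D33280
theorem N22130 : nd 22130 = n33281 := ndS (p := 10833) (l := 1) rfl N10833 D33281
theorem N22131 : nd 22131 = n33282 := ndS (p := 10833) (l := 4) rfl N10833 D33282
theorem N22132 : nd 22132 = n33283 := ndS (p := 10833) (l := 7) rfl N10833 D33283
theorem N22133 : nd 22133 = n33284 := ndS (p := 10835) (l := 3) rfl N10835 D33284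
theorem N22134 : nd 22134 = n33285 := ndS (p := 10835) (l := 5) rfl N10835 D33285
theorem N22135 : nd 22135 = n33286 := ndS (p := 10836) (l := 4) rfl N10836 D33286
theorem N22136 : nd 22136 = n33287 := ndS (p := 10836) (l := 6) rfl N10836 D33287
theorem N22137 : nd 22137 = n33290 := ndS (p := 10837) (l := 4) rfl N10837 D33290
theorem N22138 : nd 22138 = n33291 := ndS (p := 10837) (l := 5) rfl N10837 D33291
theorem N22139 : nd 22139 = n33292 := ndS (p := 10837) (l := 6) rfl N10837 D33292
theorem N22140 : nd 22140 = n33293 := ndS (p := 10838) (l := 3) rfl N10838 D33293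
theorem N22141 : nd 22141 = n33294 := ndS (p := 10838) (l := 4) rfl N10838 D33294
theorem N22142 : nd 22142 = n33295 := ndS (p := 10838) (l := 5) rfl N10838 D33295
theorem N22143 : nd 22143 = n33297 := ndS (p := 10839) (l := 0) rfl N10839 D33297
theorem N22144 : nd 22144 = n33298 := ndS (p := 10839) (l := 1) rfl N10839 D33298
theorem N22145 : nd 22145 = n33300 := ndS (p := 10839) (l := 5) rfl N10839 D33300
theorem N22146 : nd 22146 = n33301 := ndS (p := 10839) (l := 7) rfl N10839 D33301
theorem N22147 : nd 22147 = n33302 := ndS (p := 10840) (l := 6) rfl N10840 D33302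
theorem N22148 : nd 22148 = n33303 := ndS (p := 10841) (l := 0) rfl N10841 D33303
theorem N22149 : nd 22149 = n33305 := ndS (p := 10841) (l := 2) rfl N10841 D33305
theorem N22150 : nd 22150 = n33306 := ndS (p := 10841) (l := 4) rfl N10841 D33306
theorem N22151 : nd 22151 = n33308 := ndS (p := 10841) (l := 6) rfl N10841 D33308
theorem N22152 : nd 22152 = n33313 := ndS (p := 10842) (l := 1) rfl N10842 D33313
theorem N22153 : nd 22153 = n33314 := ndS (p := 10842) (l := 7) rfl N10842 D33314
theorem N22154 : nd 22154 = n33318 := ndS (p := 10843) (l := 4) rfl N10843 D33318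
theorem N22155 : nd 22155 = n33319 := ndS (p := 10843) (l := 5) rfl N10843 D33319
theorem N22156 : nd 22156 = n33320 := ndS (p := 10843) (l := 6) rfl N10843 D33320
theorem N22157 : nd 22157 = n33322 := ndS (p := 10846) (l := 3) rfl N10846 D33322
theorem N22158 : nd 22158 = n33324 := ndS (p := 10847) (l := 3) rfl N10847 D33324
theorem N22159 : nd 22159 = n33331 := ndS (p := 10848) (l := 6) rfl N10848 D33331
theorem N22160 : nd 22160 = n33334 := ndS (p := 10849) (l := 2) rfl N10849 D33334
theorem N22161 : nd 22161 = n33335 := ndS (p := 10849) (l := 4) rfl N10849 D33335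
theorem N22162 : nd 22162 = n33357 := ndS (p := 10850) (l := 0) rfl N10850 D33357
theorem N22163 : nd 22163 = n33358 := ndS (p := 10850) (l := 1) rfl N10850 D33358
theorem N22164 : nd 22164 = n33359 := ndS (p := 10851) (l := 4) rfl N10851 D33359
theorem N22165 : nd 22165 = n33360 := ndS (p := 10852) (l := 6) rfl N10852 D33360
theorem N22166 : nd 22166 = n33363 := ndS (p := 10853) (l := 5) rfl N10853 D33363
theorem N22167 : nd 22167 = n33365 := ndS (p := 10854) (l := 0) rfl N10854 D33365
theorem N22168 : nd 22168 = n33366 := ndS (p := 10854) (l := 3) rfl N10854 D33366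
theorem N22169 : nd 22169 = n33367 := ndS (p := 10854) (l := 5) rfl N10854 D33367
theorem N22170 : nd 22170 = n33381 := ndS (p := 10857) (l := 6) rfl N10857 D33381
theorem N22171 : nd 22171 = n33382 := ndS (p := 10858) (l := 6) rfl N10858 D33382
theorem N22172 : nd 22172 = n33383 := ndS (p := 10859) (l := 3) rfl N10859 D33383
theorem N22173 : nd 22173 = n33384 := ndS (p := 10859) (l := 5) rfl N10859 D33384
theorem N22174 : nd 22174 = n33385 := ndS (p := 10859) (l := 6) rfl N10859 D33385
theorem N22175 : nd 22175 = n33386 := ndS (p := 10860) (l := 0) rfl N10860 D33386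
theorem N22176 : nd 22176 = n33387 := ndS (p := 10860) (l := 1) rfl N10860 D33387
theorem N22177 : nd 22177 = n33388 := ndS (p := 10860) (l := 5) rfl N10860 D33388
theorem N22178 : nd 22178 = n33389 := ndS (p := 10860) (l := 7) rfl N10860 D33389
theorem N22179 : nd 22179 = n33393 := ndS (p := 10861) (l := 5) rfl N10861 D33393
theorem N22180 : nd 22180 = n33400 := ndS (p := 10862) (l := 0) rfl N10862 D33400
theorem N22181 : nd 22181 = n33401 := ndS (p := 10862) (l := 4) rfl N10862 D33401
theorem N22182 : nd 22182 = n33402 := ndS (p := 10862) (l := 7) rfl N10862 D33402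
theorem N22183 : nd 22183 = n33403 := ndS (p := 10864) (l := 4) rfl N10864 D33403
theorem N22184 : nd 22184 = n33405 := ndS (p := 10865) (l := 5) rfl N10865 D33405
theorem N22185 : nd 22185 = n33406 := ndS (p := 10866) (l := 4) rfl N10866 D33406
theorem N22186 : nd 22186 = n33407 := ndS (p := 10866) (l := 6) rfl N10866 D33407
theorem N22187 : nd 22187 = n33408 := ndS (p := 10867) (l := 6) rfl N10867 D33408
theorem N22188 : nd 22188 = n33411 := ndS (p := 10868) (l := 5) rfl N10868 D33411
theorem N22189 : nd 22189 = n33413 := ndS (p := 10869) (l := 4) rfl N10869 D33413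
theorem N22190 : nd 22190 = n33414 := ndS (p := 10869) (l := 6) rfl N10869 D33414
theorem N22191 : nd 22191 = n33415 := ndS (p := 10870) (l := 3) rfl N10870 D33415
theorem N22192 : nd 22192 = n33416 := ndS (p := 10870) (l := 6) rfl N10870 D33416
theorem N22193 : nd 22193 = n33417 := ndS (p := 10871) (l := 0) rfl N10871 D33417
theorem N22194 : nd 22194 = n33418 := ndS (p := 10871) (l := 1) rfl N10871 D33418
theorem N22195 : nd 22195 = n33419 := ndS (p := 10871) (l := 5) rfl N10871 D33419
theorem N22196 : nd 22196 = n33420 := ndS (p := 10871) (l := 7) rfl N10871 D33420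
theorem N22197 : nd 22197 = n33421 := ndS (p := 10872) (l := 6) rfl N10872 D33421
theorem N22198 : nd 22198 = n33428 := ndS (p := 10873) (l := 5) rfl N10873 D33428
theorem N22199 : nd 22199 = n33429 := ndS (p := 10874) (l := 4) rfl N10874 D33429
theorem N22200 : nd 22200 = n33430 := ndS (p := 10876) (l := 3) rfl N10876 D33430
theorem N22201 : nd 22201 = n33431 := ndS (p := 10876) (l := 5) rfl N10876 D33431
theorem N22202 : nd 22202 = n33432 := ndS (p := 10876) (l := 6) rfl N10876 D33432
theorem N22203 : nd 22203 = n33433 := ndS (p := 10877) (l := 0) rfl N10877 D33433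
theorem N22204 : nd 22204 = n33434 := ndS (p := 10877) (l := 1) rfl N10877 D33434
theorem N22205 : nd 22205 = n33435 := ndS (p := 10877) (l := 5) rfl N10877 D33435
theorem N22206 : nd 22206 = n33436 := ndS (p := 10877) (l := 7) rfl N10877 D33436
theorem N22207 : nd 22207 = n33437 := ndS (p := 10878) (l := 3) rfl N10878 D33437
theorem N22208 : nd 22208 = n33438 := ndS (p := 10878) (l := 5) rfl N10878 D33438
theorem N22209 : nd 22209 = n33439 := ndS (p := 10878) (l := 6) rfl N10878 D33439
theorem N22210 : nd 22210 = n33440 := ndS (p := 10879) (l := 5) rfl N10879 D33440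
theorem N22211 : nd 22211 = n33441 := ndS (p := 10879) (l := 6) rfl N10879 D33441
theorem N22212 : nd 22212 = n33442 := ndS (p := 10880) (l := 0) rfl N10880 D33442
theorem N22213 : nd 22213 = n33443 := ndS (p := 10880) (l := 1) rfl N10880 D33443
theorem N22214 : nd 22214 = n33444 := ndS (p := 10880) (l := 2) rfl N10880 D33444
theorem N22215 : nd 22215 = n33445 := ndS (p := 10880) (l := 5) rfl N10880 D33445
theorem N22216 : nd 22216 = n33446 := ndS (p := 10880) (l := 6) rfl N10880 D33446
theorem N22217 : nd 22217 = n33447 := ndS (p := 10880) (l := 7) rfl N10880 D33447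
theorem N22218 : nd 22218 = n33448 := ndS (p := 10881) (l := 0) rfl N10881 D33448
theorem N22219 : nd 22219 = n33449 := ndS (p := 10881) (l := 1) rfl N10881 D33449
theorem N22220 : nd 22220 = n33450 := ndS (p := 10881) (l := 6) rfl N10881 D33450
theorem N22221 : nd 22221 = n33451 := ndS (p := 10881) (l := 7) rfl N10881 D33451
theorem N22222 : nd 22222 = n33456 := ndS (p := 10883) (l := 6) rfl N10883 D33456
theorem N22223 : nd 22223 = n33461 := ndS (p := 10884) (l := 6) rfl N10884 D33461
theorem N22224 : nd 22224 = n33474 := ndS (p := 10887) (l := 5) rfl N10887 D33474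
theorem N22225 : nd 22225 = n33485 := ndS (p := 10888) (l := 6) rfl N10888 D33485
theorem N22226 : nd 22226 = n33493 := ndS (p := 10889) (l := 4) rfl N10889 D33493
theorem N22227 : nd 22227 = n33494 := ndS (p := 10889) (l := 6) rfl N10889 D33494
theorem N22228 : nd 22228 = n33496 := ndS (p := 10890) (l := 1) rfl N10890 D33496
theorem N22229 : nd 22229 = n33499 := ndS (p := 10890) (l := 7) rfl N10890 D33499
theorem N22230 : nd 22230 = n33500 := ndS (p := 10891) (l := 6) rfl N10891 D33500
theorem N22231 : nd 22231 = n33503 := ndS (p := 10892) (l := 4) rfl N10892 D33503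
theorem N22232 : nd 22232 = n33504 := ndS (p := 10893) (l := 6) rfl N10893 D33504
theorem N22233 : nd 22233 = n33505 := ndS (p := 10894) (l := 6) rfl N10894 D33505
theorem N22234 : nd 22234 = n33506 := ndS (p := 10895) (l := 5) rfl N10895 D33506
theorem N22235 : nd 22235 = n33507 := ndS (p := 10896) (l := 3) rfl N10896 D33507
theorem N22236 : nd 22236 = n33508 := ndS (p := 10896) (l := 5) rfl N10896 D33508
theorem N22237 : nd 22237 = n33509 := ndS (p := 10896) (l := 6) rfl N10896 D33509
theorem N22238 : nd 22238 = n33510 := ndS (p := 10897) (l := 0) rfl N10897 D33510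
theorem N22239 : nd 22239 = n33511 := ndS (p := 10897) (l := 1) rfl N10897 D33511
theorem N22240 : nd 22240 = n33512 := ndS (p := 10897) (l := 5) rfl N10897 D33512
theorem N22241 : nd 22241 = n33513 := ndS (p := 10897) (l := 7) rfl N10897 D33513
theorem N22242 : nd 22242 = n33514 := ndS (p := 10898) (l := 5) rfl N10898 D33514
theorem N22243 : nd 22243 = n33515 := ndS (p := 10899) (l := 0) rfl N10899 D33515
theorem N22244 : nd 22244 = n33516 := ndS (p := 10899) (l := 1) rfl N10899 D33516
theorem N22245 : nd 22245 = n33517 := ndS (p := 10899) (l := 4) rfl N10899 D33517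
theorem N22246 : nd 22246 = n33518 := ndS (p := 10899) (l := 7) rfl N10899 D33518
theorem N22247 : nd 22247 = n33519 := ndS (p := 10901) (l := 3) rfl N10901 D33519
theorem N22248 : nd 22248 = n33520 := ndS (p := 10901) (l := 6) rfl N10901 D33520
theorem N22249 : nd 22249 = n33521 := ndS (p := 10902) (l := 0) rfl N10902 D33521
theorem N22250 : nd 22250 = n33522 := ndS (p := 10902) (l := 1) rfl N10902 D33522
theorem N22251 : nd 22251 = n33523 := ndS (p := 10902) (l := 5) rfl N10902 D33523
theorem N22252 : nd 22252 = n33524 := ndS (p := 10902) (l := 7) rfl N10902 D33524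
theorem N22253 : nd 22253 = n33525 := ndS (p := 10903) (l := 0) rfl N10903 D33525
theorem N22254 : nd 22254 = n33527 := ndS (p := 10903) (l := 4) rfl N10903 D33527
theorem N22255 : nd 22255 = n33528 := ndS (p := 10904) (l := 2) rfl N10904 D33528
theorem N22256 : nd 22256 = n33529 := ndS (p := 10904) (l := 5) rfl N10904 D33529
theorem N22257 : nd 22257 = n33530 := ndS (p := 10904) (l := 6) rfl N10904 D33530
theorem N22258 : nd 22258 = n33531 := ndS (p := 10905) (l := 6) rfl N10905 D33531
theorem N22259 : nd 22259 = n33532 := ndS (p := 10906) (l := 0) rfl N10906 D33532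
theorem N22260 : nd 22260 = n33533 := ndS (p := 10906) (l := 1) rfl N10906 D33533
theorem N22261 : nd 22261 = n33534 := ndS (p := 10906) (l := 5) rfl N10906 D33534
theorem N22262 : nd 22262 = n33535 := ndS (p := 10906) (l := 7) rfl N10906 D33535
theorem N22263 : nd 22263 = n33543 := ndS (p := 10907) (l := 4) rfl N10907 D33543
theorem N22264 : nd 22264 = n33544 := ndS (p := 10907) (l := 5) rfl N10907 D33544
theorem N22265 : nd 22265 = n33545 := ndS (p := 10907) (l := 6) rfl N10907 D33545
theorem N22266 : nd 22266 = n33547 := ndS (p := 10908) (l := 1) rfl N10908 D33547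
theorem N22267 : nd 22267 = n33548 := ndS (p := 10908) (l := 4) rfl N10908 D33548
theorem N22268 : nd 22268 = n33549 := ndS (p := 10908) (l := 7) rfl N10908 D33549
theorem N22269 : nd 22269 = n33550 := ndS (p := 10910) (l := 4) rfl N10910 D33550
theorem N22270 : nd 22270 = n33551 := ndS (p := 10910) (l := 6) rfl N10910 D33551
theorem N22271 : nd 22271 = n33559 := ndS (p := 10911) (l := 4) rfl N10911 D33559
theorem N22272 : nd 22272 = n33560 := ndS (p := 10911) (l := 5) rfl N10911 D33560
theorem N22273 : nd 22273 = n33562 := ndS (p := 10912) (l := 0) rfl N10912 D33562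
theorem N22274 : nd 22274 = n33563 := ndS (p := 10912) (l := 1) rfl N10912 D33563
theorem N22275 : nd 22275 = n33564 := ndS (p := 10912) (l := 3) rfl N10912 D33564
theorem N22276 : nd 22276 = n33565 := ndS (p := 10912) (l := 5) rfl N10912 D33565
theorem N22277 : nd 22277 = n33566 := ndS (p := 10912) (l := 7) rfl N10912 D33566
theorem N22278 : nd 22278 = n33567 := ndS (p := 10913) (l := 6) rfl N10913 D33567
theorem N22279 : nd 22279 = n33568 := ndS (p := 10914) (l := 5) rfl N10914 D33568
theorem N22280 : nd 22280 = n33569 := ndS (p := 10914) (l := 6) rfl N10914 D33569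
theorem N22281 : nd 22281 = n33570 := ndS (p := 10915) (l := 6) rfl N10915 D33570
theorem N22282 : nd 22282 = n33571 := ndS (p := 10916) (l := 0) rfl N10916 D33571
theorem N22283 : nd 22283 = n33573 := ndS (p := 10916) (l := 5) rfl N10916 D33573
theorem N22284 : nd 22284 = n33574 := ndS (p := 10916) (l := 7) rfl N10916 D33574
theorem N22285 : nd 22285 = n33576 := ndS (p := 10917) (l := 3) rfl N10917 D33576
theorem N22286 : nd 22286 = n33577 := ndS (p := 10917) (l := 4) rfl N10917 D33577
theorem N22287 : nd 22287 = n33578 := ndS (p := 10917) (l := 5) rfl N10917 D33578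
theorem N22288 : nd 22288 = n33579 := ndS (p := 10917) (l := 6) rfl N10917 D33579
theorem N22289 : nd 22289 = n33581 := ndS (p := 10918) (l := 3) rfl N10918 D33581
theorem N22290 : nd 22290 = n33582 := ndS (p := 10918) (l := 4) rfl N10918 D33582
theorem N22291 : nd 22291 = n33583 := ndS (p := 10918) (l := 5) rfl N10918 D33583
theorem N22292 : nd 22292 = n33584 := ndS (p := 10918) (l := 6) rfl N10918 D33584
theorem N22293 : nd 22293 = n33585 := ndS (p := 10920) (l := 6) rfl N10920 D33585
theorem N22294 : nd 22294 = n33586 := ndS (p := 10921) (l := 3) rfl N10921 D33586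
theorem N22295 : nd 22295 = n33587 := ndS (p := 10921) (l := 5) rfl N10921 D33587
theorem N22296 : nd 22296 = n33588 := ndS (p := 10921) (l := 6) rfl N10921 D33588
theorem N22297 : nd 22297 = n33589 := ndS (p := 10922) (l := 0) rfl N10922 D33589
theorem N22298 : nd 22298 = n33590 := ndS (p := 10922) (l := 1) rfl N10922 D33590
theorem N22299 : nd 22299 = n33591 := ndS (p := 10922) (l := 5) rfl N10922 D33591
theorem N22300 : nd 22300 = n33592 := ndS (p := 10922) (l := 7) rfl N10922 D33592
theorem N22301 : nd 22301 = n33593 := ndS (p := 10923) (l := 3) rfl N10923 D33593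
theorem N22302 : nd 22302 = n33594 := ndS (p := 10923) (l := 6) rfl N10923 D33594
theorem N22303 : nd 22303 = n33595 := ndS (p := 10924) (l := 6) rfl N10924 D33595
theorem N22304 : nd 22304 = n33596 := ndS (p := 10925) (l := 0) rfl N10925 D33596
theorem N22305 : nd 22305 = n33597 := ndS (p := 10925) (l := 1) rfl N10925 D33597
theorem N22306 : nd 22306 = n33598 := ndS (p := 10925) (l := 2) rfl N10925 D33598
theorem N22307 : nd 22307 = n33599 := ndS (p := 10925) (l := 5) rfl N10925 D33599
theorem N22308 : nd 22308 = n33600 := ndS (p := 10925) (l := 6) rfl N10925 D33600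
theorem N22309 : nd 22309 = n33601 := ndS (p := 10926) (l := 0) rfl N10926 D33601
theorem N22310 : nd 22310 = n33602 := ndS (p := 10926) (l := 1) rfl N10926 D33602
theorem N22311 : nd 22311 = n33603 := ndS (p := 10926) (l := 6) rfl N10926 D33603
theorem N22312 : nd 22312 = n33605 := ndS (p := 10927) (l := 1) rfl N10927 D33605
theorem N22313 : nd 22313 = n33606 := ndS (p := 10927) (l := 5) rfl N10927 D33606
theorem N22314 : nd 22314 = n33607 := ndS (p := 10927) (l := 7) rfl N10927 D33607
theorem N22315 : nd 22315 = n33611 := ndS (p := 10928) (l := 5) rfl N10928 D33611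
theorem N22316 : nd 22316 = n33615 := ndS (p := 10929) (l := 4) rfl N10929 D33615
theorem N22317 : nd 22317 = n33616 := ndS (p := 10929) (l := 5) rfl N10929 D33616
theorem N22318 : nd 22318 = n33617 := ndS (p := 10929) (l := 6) rfl N10929 D33617
theorem N22319 : nd 22319 = n33618 := ndS (p := 10930) (l := 0) rfl N10930 D33618
theorem N22320 : nd 22320 = n33621 := ndS (p := 10930) (l := 7) rfl N10930 D33621
theorem N22321 : nd 22321 = n33622 := ndS (p := 10932) (l := 4) rfl N10932 D33622
theorem N22322 : nd 22322 = n33623 := ndS (p := 10932) (l := 6) rfl N10932 D33623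
theorem N22323 : nd 22323 = n33624 := ndS (p := 10933) (l := 3) rfl N10933 D33624
theorem N22324 : nd 22324 = n33625 := ndS (p := 10933) (l := 6) rfl N10933 D33625
theorem N22325 : nd 22325 = n33626 := ndS (p := 10934) (l := 0) rfl N10934 D33626
theorem N22326 : nd 22326 = n33627 := ndS (p := 10934) (l := 1) rfl N10934 D33627
theorem N22327 : nd 22327 = n33628 := ndS (p := 10934) (l := 7) rfl N10934 D33628
theorem N22328 : nd 22328 = n33629 := ndS (p := 10935) (l := 0) rfl N10935 D33629
theorem N22329 : nd 22329 = n33630 := ndS (p := 10935) (l := 2) rfl N10935 D33630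
theorem N22330 : nd 22330 = n33631 := ndS (p := 10935) (l := 5) rfl N10935 D33631
theorem N22331 : nd 22331 = n33632 := ndS (p := 10935) (l := 6) rfl N10935 D33632
theorem N22332 : nd 22332 = n33633 := ndS (p := 10936) (l := 6) rfl N10936 D33633
theorem N22333 : nd 22333 = n33634 := ndS (p := 10937) (l := 0) rfl N10937 D33634
theorem N22334 : nd 22334 = n33635 := ndS (p := 10937) (l := 1) rfl N10937 D33635
theorem N22335 : nd 22335 = n33636 := ndS (p := 10937) (l := 5) rfl N10937 D33636
theorem N22336 : nd 22336 = n33637 := ndS (p := 10937) (l := 7) rfl N10937 D33637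
theorem N22337 : nd 22337 = n33640 := ndS (p := 10938) (l := 4) rfl N10938 D33640
theorem N22338 : nd 22338 = n33641 := ndS (p := 10938) (l := 5) rfl N10938 D33641
theorem N22339 : nd 22339 = n33642 := ndS (p := 10938) (l := 6) rfl N10938 D33642
theorem N22340 : nd 22340 = n33645 := ndS (p := 10939) (l := 4) rfl N10939 D33645
theorem N22341 : nd 22341 = n33646 := ndS (p := 10939) (l := 5) rfl N10939 D33646
theorem N22342 : nd 22342 = n33647 := ndS (p := 10939) (l := 6) rfl N10939 D33647
theorem N22343 : nd 22343 = n33648 := ndS (p := 10940) (l := 0) rfl N10940 D33648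
theorem N22344 : nd 22344 = n33649 := ndS (p := 10940) (l := 1) rfl N10940 D33649
theorem N22345 : nd 22345 = n33650 := ndS (p := 10940) (l := 4) rfl N10940 D33650
theorem N22346 : nd 22346 = n33651 := ndS (p := 10940) (l := 7) rfl N10940 D33651
theorem N22347 : nd 22347 = n33652 := ndS (p := 10942) (l := 0) rfl N10942 D33652
theorem N22348 : nd 22348 = n33653 := ndS (p := 10942) (l := 1) rfl N10942 D33653
theorem N22349 : nd 22349 = n33654 := ndS (p := 10942) (l := 2) rfl N10942 D33654
theorem N22350 : nd 22350 = n33655 := ndS (p := 10942) (l := 4) rfl N10942 D33655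
theorem N22351 : nd 22351 = n33656 := ndS (p := 10942) (l := 5) rfl N10942 D33656
theorem N22352 : nd 22352 = n33658 := ndS (p := 10943) (l := 6) rfl N10943 D33658
theorem N22353 : nd 22353 = n33659 := ndS (p := 10944) (l := 0) rfl N10944 D33659
theorem N22354 : nd 22354 = n33660 := ndS (p := 10944) (l := 6) rfl N10944 D33660
theorem N22355 : nd 22355 = n33663 := ndS (p := 10945) (l := 5) rfl N10945 D33663
theorem N22356 : nd 22356 = n33664 := ndS (p := 10945) (l := 7) rfl N10945 D33664
theorem N22357 : nd 22357 = n33665 := ndS (p := 10946) (l := 0) rfl N10946 D33665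
theorem N22358 : nd 22358 = n33666 := ndS (p := 10946) (l := 1) rfl N10946 D33666
theorem N22359 : nd 22359 = n33667 := ndS (p := 10946) (l := 2) rfl N10946 D33667
theorem N22360 : nd 22360 = n33668 := ndS (p := 10946) (l := 4) rfl N10946 D33668
theorem N22361 : nd 22361 = n33669 := ndS (p := 10946) (l := 5) rfl N10946 D33669
theorem N22362 : nd 22362 = n33670 := ndS (p := 10946) (l := 6) rfl N10946 D33670
theorem N22363 : nd 22363 = n33671 := ndS (p := 10948) (l := 6) rfl N10948 D33671
theorem N22364 : nd 22364 = n33674 := ndS (p := 10949) (l := 5) rfl N10949 D33674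
theorem N22365 : nd 22365 = n33675 := ndS (p := 10949) (l := 7) rfl N10949 D33675
theorem N22366 : nd 22366 = n33678 := ndS (p := 10951) (l := 6) rfl N10951 D33678
theorem N22367 : nd 22367 = n33679 := ndS (p := 10952) (l := 3) rfl N10952 D33679
theorem N22368 : nd 22368 = n33680 := ndS (p := 10952) (l := 6) rfl N10952 D33680
theorem N22369 : nd 22369 = n33681 := ndS (p := 10953) (l := 0) rfl N10953 D33681
theorem N22370 : nd 22370 = n33682 := ndS (p := 10953) (l := 1) rfl N10953 D33682
theorem N22371 : nd 22371 = n33683 := ndS (p := 10953) (l := 5) rfl N10953 D33683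
theorem N22372 : nd 22372 = n33684 := ndS (p := 10953) (l := 7) rfl N10953 D33684
theorem N22373 : nd 22373 = n33687 := ndS (p := 10954) (l := 4) rfl N10954 D33687
theorem N22374 : nd 22374 = n33688 := ndS (p := 10954) (l := 5) rfl N10954 D33688
theorem N22375 : nd 22375 = n33691 := ndS (p := 10955) (l := 3) rfl N10955 D33691
theorem N22376 : nd 22376 = n33692 := ndS (p := 10955) (l := 4) rfl N10955 D33692
theorem N22377 : nd 22377 = n33693 := ndS (p := 10955) (l := 5) rfl N10955 D33693
theorem N22378 : nd 22378 = n33695 := ndS (p := 10956) (l := 0) rfl N10956 D33695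
theorem N22379 : nd 22379 = n33696 := ndS (p := 10956) (l := 1) rfl N10956 D33696
theorem N22380 : nd 22380 = n33697 := ndS (p := 10956) (l := 4) rfl N10956 D33697
theorem N22381 : nd 22381 = n33698 := ndS (p := 10956) (l := 7) rfl N10956 D33698
theorem N22382 : nd 22382 = n33705 := ndS (p := 10958) (l := 0) rfl N10958 D33705
theorem N22383 : nd 22383 = n33707 := ndS (p := 10958) (l := 2) rfl N10958 D33707
theorem N22384 : nd 22384 = n33708 := ndS (p := 10958) (l := 4) rfl N10958 D33708
theorem N22385 : nd 22385 = n33709 := ndS (p := 10958) (l := 5) rfl N10958 D33709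
theorem N22386 : nd 22386 = n33710 := ndS (p := 10958) (l := 6) rfl N10958 D33710
theorem N22387 : nd 22387 = n33712 := ndS (p := 10959) (l := 0) rfl N10959 D33712
theorem N22388 : nd 22388 = n33714 := ndS (p := 10959) (l := 3) rfl N10959 D33714
theorem N22389 : nd 22389 = n33715 := ndS (p := 10959) (l := 5) rfl N10959 D33715
theorem N22390 : nd 22390 = n33716 := ndS (p := 10959) (l := 6) rfl N10959 D33716
theorem N22391 : nd 22391 = n33718 := ndS (p := 10960) (l := 0) rfl N10960 D33718
theorem N22392 : nd 22392 = n33719 := ndS (p := 10960) (l := 1) rfl N10960 D33719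
theorem N22393 : nd 22393 = n33720 := ndS (p := 10960) (l := 4) rfl N10960 D33720
theorem N22394 : nd 22394 = n33721 := ndS (p := 10960) (l := 6) rfl N10960 D33721
theorem N22395 : nd 22395 = n33724 := ndS (p := 10961) (l := 1) rfl N10961 D33724
theorem N22396 : nd 22396 = n33725 := ndS (p := 10961) (l := 5) rfl N10961 D33725
theorem N22397 : nd 22397 = n33726 := ndS (p := 10961) (l := 7) rfl N10961 D33726
theorem N22398 : nd 22398 = n33729 := ndS (p := 10962) (l := 1) rfl N10962 D33729
theorem N22399 : nd 22399 = n33730 := ndS (p := 10962) (l := 2) rfl N10962 D33730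
theorem N22400 : nd 22400 = n33731 := ndS (p := 10962) (l := 4) rfl N10962 D33731
theorem N22401 : nd 22401 = n33732 := ndS (p := 10962) (l := 5) rfl N10962 D33732
theorem N22402 : nd 22402 = n33733 := ndS (p := 10962) (l := 6) rfl N10962 D33733
theorem N22403 : nd 22403 = n33734 := ndS (p := 10963) (l := 3) rfl N10963 D33734
theorem N22404 : nd 22404 = n33735 := ndS (p := 10963) (l := 5) rfl N10963 D33735
theorem N22405 : nd 22405 = n33737 := ndS (p := 10964) (l := 4) rfl N10964 D33737
theorem N22406 : nd 22406 = n33738 := ndS (p := 10964) (l := 6) rfl N10964 D33738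
theorem N22407 : nd 22407 = n33742 := ndS (p := 10965) (l := 7) rfl N10965 D33742
theorem N22408 : nd 22408 = n33744 := ndS (p := 10966) (l := 1) rfl N10966 D33744
theorem N22409 : nd 22409 = n33745 := ndS (p := 10966) (l := 4) rfl N10966 D33745
theorem N22410 : nd 22410 = n33746 := ndS (p := 10966) (l := 6) rfl N10966 D33746
theorem N22411 : nd 22411 = n33747 := ndS (p := 10967) (l := 4) rfl N10967 D33747
theorem N22412 : nd 22412 = n33748 := ndS (p := 10967) (l := 6) rfl N10967 D33748
theorem N22413 : nd 22413 = n33750 := ndS (p := 10968) (l := 4) rfl N10968 D33750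
theorem N22414 : nd 22414 = n33751 := ndS (p := 10968) (l := 6) rfl N10968 D33751
theorem N22415 : nd 22415 = n33752 := ndS (p := 10969) (l := 3) rfl N10969 D33752
theorem N22416 : nd 22416 = n33753 := ndS (p := 10969) (l := 4) rfl N10969 D33753
theorem N22417 : nd 22417 = n33755 := ndS (p := 10969) (l := 6) rfl N10969 D33755
theorem N22418 : nd 22418 = n33756 := ndS (p := 10970) (l := 0) rfl N10970 D33756
theorem N22419 : nd 22419 = n33757 := ndS (p := 10970) (l := 1) rfl N10970 D33757
theorem N22420 : nd 22420 = n33758 := ndS (p := 10970) (l := 3) rfl N10970 D33758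
theorem N22421 : nd 22421 = n33759 := ndS (p := 10970) (l := 5) rfl N10970 D33759
theorem N22422 : nd 22422 = n33760 := ndS (p := 10971) (l := 3) rfl N10971 D33760
theorem N22423 : nd 22423 = n33761 := ndS (p := 10971) (l := 5) rfl N10971 D33761
theorem N22424 : nd 22424 = n33763 := ndS (p := 10972) (l := 0) rfl N10972 D33763
theorem N22425 : nd 22425 = n33764 := ndS (p := 10972) (l := 1) rfl N10972 D33764
theorem N22426 : nd 22426 = n33765 := ndS (p := 10972) (l := 5) rfl N10972 D33765
theorem N22427 : nd 22427 = n33766 := ndS (p := 10972) (l := 7) rfl N10972 D33766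
theorem N22428 : nd 22428 = n33767 := ndS (p := 10973) (l := 3) rfl N10973 D33767
theorem N22429 : nd 22429 = n33768 := ndS (p := 10973) (l := 6) rfl N10973 D33768
theorem N22430 : nd 22430 = n33769 := ndS (p := 10974) (l := 3) rfl N10974 D33769
theorem N22431 : nd 22431 = n33771 := ndS (p := 10975) (l := 0) rfl N10975 D33771
theorem N22432 : nd 22432 = n33772 := ndS (p := 10975) (l := 4) rfl N10975 D33772
theorem N22433 : nd 22433 = n33773 := ndS (p := 10975) (l := 6) rfl N10975 D33773
theorem N22434 : nd 22434 = n33779 := ndS (p := 10976) (l := 3) rfl N10976 D33779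
theorem N22435 : nd 22435 = n33780 := ndS (p := 10976) (l := 4) rfl N10976 D33780
theorem N22436 : nd 22436 = n33781 := ndS (p := 10976) (l := 5) rfl N10976 D33781
theorem N22437 : nd 22437 = n33784 := ndS (p := 10977) (l := 3) rfl N10977 D33784
theorem N22438 : nd 22438 = n33785 := ndS (p := 10977) (l := 4) rfl N10977 D33785
theorem N22439 : nd 22439 = n33786 := ndS (p := 10977) (l := 5) rfl N10977 D33786
theorem N22440 : nd 22440 = n33787 := ndS (p := 10977) (l := 6) rfl N10977 D33787
theorem N22441 : nd 22441 = n33788 := ndS (p := 10978) (l := 0) rfl N10978 D33788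
theorem N22442 : nd 22442 = n33790 := ndS (p := 10978) (l := 4) rfl N10978 D33790
theorem N22443 : nd 22443 = n33791 := ndS (p := 10978) (l := 7) rfl N10978 D33791
theorem N22444 : nd 22444 = n33795 := ndS (p := 10980) (l := 4) rfl N10980 D33795
theorem N22445 : nd 22445 = n33796 := ndS (p := 10980) (l := 5) rfl N10980 D33796
theorem N22446 : nd 22446 = n33798 := ndS (p := 10981) (l := 0) rfl N10981 D33798
theorem N22447 : nd 22447 = n33799 := ndS (p := 10981) (l := 1) rfl N10981 D33799
theorem N22448 : nd 22448 = n33800 := ndS (p := 10981) (l := 4) rfl N10981 D33800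
theorem N22449 : nd 22449 = n33809 := ndS (p := 10982) (l := 4) rfl N10982 D33809
theorem N22450 : nd 22450 = n33810 := ndS (p := 10982) (l := 6) rfl N10982 D33810
theorem N22451 : nd 22451 = n33811 := ndS (p := 10983) (l := 5) rfl N10983 D33811
theorem N22452 : nd 22452 = n33812 := ndS (p := 10984) (l := 3) rfl N10984 D33812
theorem N22453 : nd 22453 = n33814 := ndS (p := 10984) (l := 5) rfl N10984 D33814
theorem N22454 : nd 22454 = n33822 := ndS (p := 10985) (l := 6) rfl N10985 D33822
theorem N22455 : nd 22455 = n33823 := ndS (p := 10986) (l := 3) rfl N10986 D33823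
theorem N22456 : nd 22456 = n33824 := ndS (p := 10986) (l := 5) rfl N10986 D33824
theorem N22457 : nd 22457 = n33825 := ndS (p := 10986) (l := 6) rfl N10986 D33825
theorem N22458 : nd 22458 = n33826 := ndS (p := 10987) (l := 0) rfl N10987 D33826
theorem N22459 : nd 22459 = n33827 := ndS (p := 10987) (l := 1) rfl N10987 D33827
theorem N22460 : nd 22460 = n33828 := ndS (p := 10987) (l := 7) rfl N10987 D33828
theorem N22461 : nd 22461 = n33829 := ndS (p := 10988) (l := 3) rfl N10988 D33829
theorem N22462 : nd 22462 = n33830 := ndS (p := 10988) (l := 6) rfl N10988 D33830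
theorem N22463 : nd 22463 = n33831 := ndS (p := 10989) (l := 6) rfl N10989 D33831
theorem N22464 : nd 22464 = n33832 := ndS (p := 10990) (l := 0) rfl N10990 D33832
theorem N22465 : nd 22465 = n33833 := ndS (p := 10990) (l := 4) rfl N10990 D33833
theorem N22466 : nd 22466 = n33834 := ndS (p := 10990) (l := 6) rfl N10990 D33834
theorem N22467 : nd 22467 = n33835 := ndS (p := 10991) (l := 0) rfl N10991 D33835
theorem N22468 : nd 22468 = n33836 := ndS (p := 10991) (l := 1) rfl N10991 D33836
theorem N22469 : nd 22469 = n33837 := ndS (p := 10991) (l := 5) rfl N10991 D33837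
theorem N22470 : nd 22470 = n33838 := ndS (p := 10991) (l := 7) rfl N10991 D33838
theorem N22471 : nd 22471 = n33841 := ndS (p := 10992) (l := 4) rfl N10992 D33841
theorem N22472 : nd 22472 = n33842 := ndS (p := 10992) (l := 5) rfl N10992 D33842
theorem N22473 : nd 22473 = n33843 := ndS (p := 10992) (l := 6) rfl N10992 D33843
theorem N22474 : nd 22474 = n33846 := ndS (p := 10993) (l := 4) rfl N10993 D33846
theorem N22475 : nd 22475 = n33847 := ndS (p := 10993) (l := 5) rfl N10993 D33847
theorem N22476 : nd 22476 = n33848 := ndS (p := 10993) (l := 6) rfl N10993 D33848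
theorem N22477 : nd 22477 = n33855 := ndS (p := 10995) (l := 0) rfl N10995 D33855
theorem N22478 : nd 22478 = n33856 := ndS (p := 10995) (l := 1) rfl N10995 D33856
theorem N22479 : nd 22479 = n33862 := ndS (p := 10997) (l := 4) rfl N10997 D33862
theorem N22480 : nd 22480 = n33863 := ndS (p := 10997) (l := 5) rfl N10997 D33863
theorem N22481 : nd 22481 = n33864 := ndS (p := 10997) (l := 6) rfl N10997 D33864
theorem N22482 : nd 22482 = n33865 := ndS (p := 10998) (l := 4) rfl N10998 D33865
theorem N22483 : nd 22483 = n33866 := ndS (p := 10998) (l := 6) rfl N10998 D33866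
theorem N22484 : nd 22484 = n33867 := ndS (p := 10999) (l := 5) rfl N10999 D33867
theorem N22485 : nd 22485 = n33870 := ndS (p := 11000) (l := 5) rfl N11000 D33870
theorem N22486 : nd 22486 = n33871 := ndS (p := 11000) (l := 6) rfl N11000 D33871
theorem N22487 : nd 22487 = n33872 := ndS (p := 11001) (l := 6) rfl N11001 D33872
theorem N22488 : nd 22488 = n33873 := ndS (p := 11002) (l := 0) rfl N11002 D33873
theorem N22489 : nd 22489 = n33874 := ndS (p := 11002) (l := 1) rfl N11002 D33874
theorem N22490 : nd 22490 = n33875 := ndS (p := 11002) (l := 3) rfl N11002 D33875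
theorem N22491 : nd 22491 = n33876 := ndS (p := 11002) (l := 5) rfl N11002 D33876
theorem N22492 : nd 22492 = n33877 := ndS (p := 11002) (l := 7) rfl N11002 D33877
theorem N22493 : nd 22493 = n33878 := ndS (p := 11003) (l := 6) rfl N11003 D33878
theorem N22494 : nd 22494 = n33881 := ndS (p := 11004) (l := 4) rfl N11004 D33881
theorem N22495 : nd 22495 = n33890 := ndS (p := 11005) (l := 5) rfl N11005 D33890
theorem N22496 : nd 22496 = n33891 := ndS (p := 11005) (l := 6) rfl N11005 D33891
theorem N22497 : nd 22497 = n33897 := ndS (p := 11006) (l := 0) rfl N11006 D33897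
theorem N22498 : nd 22498 = n33898 := ndS (p := 11006) (l := 1) rfl N11006 D33898
theorem N22499 : nd 22499 = n33899 := ndS (p := 11006) (l := 4) rfl N11006 D33899
theorem N22500 : nd 22500 = n33900 := ndS (p := 11006) (l := 6) rfl N11006 D33900
theorem N22501 : nd 22501 = n33901 := ndS (p := 11007) (l := 0) rfl N11007 D33901
theorem N22502 : nd 22502 = n33902 := ndS (p := 11007) (l := 1) rfl N11007 D33902
theorem N22503 : nd 22503 = n33903 := ndS (p := 11007) (l := 5) rfl N11007 D33903
theorem N22504 : nd 22504 = n33910 := ndS (p := 11008) (l := 1) rfl N11008 D33910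
theorem N22505 : nd 22505 = n33911 := ndS (p := 11008) (l := 4) rfl N11008 D33911
theorem N22506 : nd 22506 = n33913 := ndS (p := 11009) (l := 3) rfl N11009 D33913
theorem N22507 : nd 22507 = n33914 := ndS (p := 11009) (l := 4) rfl N11009 D33914
theorem N22508 : nd 22508 = n33917 := ndS (p := 11010) (l := 4) rfl N11010 D33917
theorem N22509 : nd 22509 = n33918 := ndS (p := 11010) (l := 5) rfl N11010 D33918
theorem N22510 : nd 22510 = n33919 := ndS (p := 11011) (l := 0) rfl N11011 D33919
theorem N22511 : nd 22511 = n33920 := ndS (p := 11011) (l := 1) rfl N11011 D33920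
theorem N22512 : nd 22512 = n33921 := ndS (p := 11011) (l := 3) rfl N11011 D33921
theorem N22513 : nd 22513 = n33928 := ndS (p := 11013) (l := 5) rfl N11013 D33928
theorem N22514 : nd 22514 = n33937 := ndS (p := 11015) (l := 4) rfl N11015 D33937
theorem N22515 : nd 22515 = n33940 := ndS (p := 11016) (l := 4) rfl N11016 D33940
theorem N22516 : nd 22516 = n33941 := ndS (p := 11016) (l := 5) rfl N11016 D33941
theorem N22517 : nd 22517 = n33944 := ndS (p := 11017) (l := 1) rfl N11017 D33944
theorem N22518 : nd 22518 = n33946 := ndS (p := 11017) (l := 5) rfl N11017 D33946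
theorem N22519 : nd 22519 = n33948 := ndS (p := 11018) (l := 0) rfl N11018 D33948
theorem N22520 : nd 22520 = n33949 := ndS (p := 11018) (l := 1) rfl N11018 D33949
theorem N22521 : nd 22521 = n33950 := ndS (p := 11018) (l := 4) rfl N11018 D33950
theorem N22522 : nd 22522 = n33951 := ndS (p := 11018) (l := 6) rfl N11018 D33951
theorem N22523 : nd 22523 = n33952 := ndS (p := 11019) (l := 0) rfl N11019 D33952
theorem N22524 : nd 22524 = n33953 := ndS (p := 11019) (l := 1) rfl N11019 D33953
theorem N22525 : nd 22525 = n33954 := ndS (p := 11019) (l := 5) rfl N11019 D33954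
theorem N22526 : nd 22526 = n33961 := ndS (p := 11020) (l := 4) rfl N11020 D33961
theorem N22527 : nd 22527 = n33962 := ndS (p := 11021) (l := 3) rfl N11021 D33962
theorem N22528 : nd 22528 = n33964 := ndS (p := 11021) (l := 6) rfl N11021 D33964
theorem N22529 : nd 22529 = n33965 := ndS (p := 11022) (l := 5) rfl N11022 D33965
theorem N22530 : nd 22530 = n33969 := ndS (p := 11024) (l := 5) rfl N11024 D33969
theorem N22531 : nd 22531 = n33970 := ndS (p := 11025) (l := 0) rfl N11025 D33970
theorem N22532 : nd 22532 = n33971 := ndS (p := 11025) (l := 1) rfl N11025 D33971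
theorem N22533 : nd 22533 = n33972 := ndS (p := 11025) (l := 4) rfl N11025 D33972
theorem N22534 : nd 22534 = n33973 := ndS (p := 11025) (l := 6) rfl N11025 D33973
theorem N22535 : nd 22535 = n33974 := ndS (p := 11026) (l := 6) rfl N11026 D33974
theorem N22536 : nd 22536 = n33976 := ndS (p := 11028) (l := 1) rfl N11028 D33976
theorem N22537 : nd 22537 = n33977 := ndS (p := 11028) (l := 3) rfl N11028 D33977
theorem N22538 : nd 22538 = n33978 := ndS (p := 11028) (l := 6) rfl N11028 D33978
theorem N22539 : nd 22539 = n33979 := ndS (p := 11029) (l := 0) rfl N11029 D33979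
theorem N22540 : nd 22540 = n33980 := ndS (p := 11029) (l := 1) rfl N11029 D33980
theorem N22541 : nd 22541 = n33981 := ndS (p := 11029) (l := 7) rfl N11029 D33981
theorem N22542 : nd 22542 = n33982 := ndS (p := 11030) (l := 3) rfl N11030 D33982
theorem N22543 : nd 22543 = n33983 := ndS (p := 11030) (l := 6) rfl N11030 D33983
theorem N22544 : nd 22544 = n33984 := ndS (p := 11031) (l := 0) rfl N11031 D33984
theorem N22545 : nd 22545 = n33985 := ndS (p := 11031) (l := 1) rfl N11031 D33985
theorem N22546 : nd 22546 = n33986 := ndS (p := 11031) (l := 7) rfl N11031 D33986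
theorem N22547 : nd 22547 = n33988 := ndS (p := 11032) (l := 4) rfl N11032 D33988
theorem N22548 : nd 22548 = n33989 := ndS (p := 11032) (l := 6) rfl N11032 D33989
theorem N22549 : nd 22549 = n33990 := ndS (p := 11033) (l := 3) rfl N11033 D33990
theorem N22550 : nd 22550 = n33991 := ndS (p := 11033) (l := 6) rfl N11033 D33991
theorem N22551 : nd 22551 = n33992 := ndS (p := 11034) (l := 0) rfl N11034 D33992
theorem N22552 : nd 22552 = n33993 := ndS (p := 11034) (l := 1) rfl N11034 D33993
theorem N22553 : nd 22553 = n33994 := ndS (p := 11034) (l := 7) rfl N11034 D33994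
theorem N22554 : nd 22554 = n33995 := ndS (p := 11035) (l := 4) rfl N11035 D33995
theorem N22555 : nd 22555 = n33996 := ndS (p := 11035) (l := 6) rfl N11035 D33996
theorem N22556 : nd 22556 = n33997 := ndS (p := 11036) (l := 3) rfl N11036 D33997
theorem N22557 : nd 22557 = n33998 := ndS (p := 11036) (l := 6) rfl N11036 D33998
theorem N22558 : nd 22558 = n33999 := ndS (p := 11037) (l := 0) rfl N11037 D33999
theorem N22559 : nd 22559 = n34000 := ndS (p := 11037) (l := 1) rfl N11037 D34000
theorem N22560 : nd 22560 = n34001 := ndS (p := 11037) (l := 7) rfl N11037 D34001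
theorem N22561 : nd 22561 = n34002 := ndS (p := 11038) (l := 3) rfl N11038 D34002
theorem N22562 : nd 22562 = n34003 := ndS (p := 11038) (l := 6) rfl N11038 D34003
theorem N22563 : nd 22563 = n34004 := ndS (p := 11039) (l := 3) rfl N11039 D34004
theorem N22564 : nd 22564 = n34005 := ndS (p := 11039) (l := 6) rfl N11039 D34005
theorem N22565 : nd 22565 = n34006 := ndS (p := 11040) (l := 0) rfl N11040 D34006
theorem N22566 : nd 22566 = n34007 := ndS (p := 11040) (l := 1) rfl N11040 D34007
theorem N22567 : nd 22567 = n34008 := ndS (p := 11040) (l := 2) rfl N11040 D34008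
theorem N22568 : nd 22568 = n34009 := ndS (p := 11040) (l := 5) rfl N11040 D34009
theorem N22569 : nd 22569 = n34010 := ndS (p := 11041) (l := 6) rfl N11041 D34010
theorem N22570 : nd 22570 = n34011 := ndS (p := 11042) (l := 4) rfl N11042 D34011
theorem N22571 : nd 22571 = n34012 := ndS (p := 11042) (l := 6) rfl N11042 D34012
theorem N22572 : nd 22572 = n34013 := ndS (p := 11043) (l := 3) rfl N11043 D34013
theorem N22573 : nd 22573 = n34014 := ndS (p := 11043) (l := 6) rfl N11043 D34014
theorem N22574 : nd 22574 = n34015 := ndS (p := 11044) (l := 0) rfl N11044 D34015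
theorem N22575 : nd 22575 = n34016 := ndS (p := 11044) (l := 1) rfl N11044 D34016
theorem N22576 : nd 22576 = n34017 := ndS (p := 11044) (l := 7) rfl N11044 D34017
theorem N22577 : nd 22577 = n34018 := ndS (p := 11045) (l := 4) rfl N11045 D34018
theorem N22578 : nd 22578 = n34019 := ndS (p := 11047) (l := 3) rfl N11047 D34019
theorem N22579 : nd 22579 = n34020 := ndS (p := 11048) (l := 5) rfl N11048 D34020
theorem N22580 : nd 22580 = n34021 := ndS (p := 11049) (l := 6) rfl N11049 D34021
theorem N22581 : nd 22581 = n34022 := ndS (p := 11050) (l := 6) rfl N11050 D34022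
theorem N22582 : nd 22582 = n34023 := ndS (p := 11051) (l := 6) rfl N11051 D34023
theorem N22583 : nd 22583 = n34027 := ndS (p := 11053) (l := 5) rfl N11053 D34027
theorem N22584 : nd 22584 = n34028 := ndS (p := 11057) (l := 0) rfl N11057 D34028
theorem N22585 : nd 22585 = n34029 := ndS (p := 11057) (l := 1) rfl N11057 D34029
theorem N22586 : nd 22586 = n34030 := ndS (p := 11057) (l := 3) rfl N11057 D34030
theorem N22587 : nd 22587 = n34031 := ndS (p := 11057) (l := 5) rfl N11057 D34031
theorem N22588 : nd 22588 = n34032 := ndS (p := 11058) (l := 0) rfl N11058 D34032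
theorem N22589 : nd 22589 = n34033 := ndS (p := 11058) (l := 3) rfl N11058 D34033
theorem N22590 : nd 22590 = n34034 := ndS (p := 11058) (l := 5) rfl N11058 D34034
theorem N22591 : nd 22591 = n34035 := ndS (p := 11059) (l := 4) rfl N11059 D34035
theorem N22592 : nd 22592 = n34036 := ndS (p := 11060) (l := 4) rfl N11060 D34036
theorem N22593 : nd 22593 = n34037 := ndS (p := 11060) (l := 6) rfl N11060 D34037
theorem N22594 : nd 22594 = n34038 := ndS (p := 11061) (l := 4) rfl N11061 D34038
theorem N22595 : nd 22595 = n34039 := ndS (p := 11061) (l := 6) rfl N11061 D34039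
theorem N22596 : nd 22596 = n34040 := ndS (p := 11062) (l := 0) rfl N11062 D34040
theorem N22597 : nd 22597 = n34041 := ndS (p := 11062) (l := 1) rfl N11062 D34041
theorem N22598 : nd 22598 = n34042 := ndS (p := 11062) (l := 3) rfl N11062 D34042
theorem N22599 : nd 22599 = n34043 := ndS (p := 11062) (l := 5) rfl N11062 D34043
theorem N22600 : nd 22600 = n34044 := ndS (p := 11062) (l := 7) rfl N11062 D34044
theorem N22601 : nd 22601 = n34045 := ndS (p := 11063) (l := 6) rfl N11063 D34045
theorem N22602 : nd 22602 = n34046 := ndS (p := 11064) (l := 4) rfl N11064 D34046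
theorem N22603 : nd 22603 = n34047 := ndS (p := 11064) (l := 6) rfl N11064 D34047
theorem N22604 : nd 22604 = n34048 := ndS (p := 11065) (l := 4) rfl N11065 D34048
theorem N22605 : nd 22605 = n34049 := ndS (p := 11065) (l := 6) rfl N11065 D34049
theorem N22606 : nd 22606 = n34050 := ndS (p := 11067) (l := 0) rfl N11067 D34050
theorem N22607 : nd 22607 = n34051 := ndS (p := 11067) (l := 1) rfl N11067 D34051
theorem N22608 : nd 22608 = n34052 := ndS (p := 11067) (l := 3) rfl N11067 D34052
theorem N22609 : nd 22609 = n34054 := ndS (p := 11067) (l := 6) rfl N11067 D34054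
theorem N22610 : nd 22610 = n34055 := ndS (p := 11068) (l := 0) rfl N11068 D34055
theorem N22611 : nd 22611 = n34056 := ndS (p := 11068) (l := 1) rfl N11068 D34056
theorem N22612 : nd 22612 = n34057 := ndS (p := 11068) (l := 7) rfl N11068 D34057
theorem N22613 : nd 22613 = n34058 := ndS (p := 11069) (l := 0) rfl N11069 D34058
theorem N22614 : nd 22614 = n34059 := ndS (p := 11069) (l := 4) rfl N11069 D34059
theorem N22615 : nd 22615 = n34060 := ndS (p := 11069) (l := 6) rfl N11069 D34060
theorem N22616 : nd 22616 = n34061 := ndS (p := 11071) (l := 4) rfl N11071 D34061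
theorem N22617 : nd 22617 = n34062 := ndS (p := 11071) (l := 6) rfl N11071 D34062
theorem N22618 : nd 22618 = n34063 := ndS (p := 11073) (l := 3) rfl N11073 D34063
theorem N22619 : nd 22619 = n34064 := ndS (p := 11073) (l := 5) rfl N11073 D34064
theorem N22620 : nd 22620 = n34065 := ndS (p := 11073) (l := 6) rfl N11073 D34065
theorem N22621 : nd 22621 = n34066 := ndS (p := 11074) (l := 0) rfl N11074 D34066
theorem N22622 : nd 22622 = n34067 := ndS (p := 11074) (l := 1) rfl N11074 D34067
theorem N22623 : nd 22623 = n34068 := ndS (p := 11074) (l := 7) rfl N11074 D34068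
theorem N22624 : nd 22624 = n34069 := ndS (p := 11075) (l := 4) rfl N11075 D34069
theorem N22625 : nd 22625 = n34070 := ndS (p := 11075) (l := 6) rfl N11075 D34070
theorem N22626 : nd 22626 = n34071 := ndS (p := 11076) (l := 0) rfl N11076 D34071
theorem N22627 : nd 22627 = n34072 := ndS (p := 11076) (l := 1) rfl N11076 D34072
theorem N22628 : nd 22628 = n34075 := ndS (p := 11076) (l := 6) rfl N11076 D34075
theorem N22629 : nd 22629 = n34076 := ndS (p := 11077) (l := 0) rfl N11077 D34076
theorem N22630 : nd 22630 = n34077 := ndS (p := 11077) (l := 1) rfl N11077 D34077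
theorem N22631 : nd 22631 = n34078 := ndS (p := 11077) (l := 7) rfl N11077 D34078
theorem N22632 : nd 22632 = n34079 := ndS (p := 11078) (l := 6) rfl N11078 D34079
theorem N22633 : nd 22633 = n34080 := ndS (p := 11079) (l := 3) rfl N11079 D34080
theorem N22634 : nd 22634 = n34081 := ndS (p := 11079) (l := 5) rfl N11079 D34081
theorem N22635 : nd 22635 = n34082 := ndS (p := 11079) (l := 6) rfl N11079 D34082
theorem N22636 : nd 22636 = n34083 := ndS (p := 11080) (l := 0) rfl N11080 D34083
theorem N22637 : nd 22637 = n34084 := ndS (p := 11080) (l := 1) rfl N11080 D34084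
theorem N22638 : nd 22638 = n34085 := ndS (p := 11080) (l := 7) rfl N11080 D34085
theorem N22639 : nd 22639 = n34086 := ndS (p := 11081) (l := 3) rfl N11081 D34086
theorem N22640 : nd 22640 = n34087 := ndS (p := 11081) (l := 5) rfl N11081 D34087
theorem N22641 : nd 22641 = n34088 := ndS (p := 11081) (l := 6) rfl N11081 D34088
theorem N22642 : nd 22642 = n34089 := ndS (p := 11082) (l := 3) rfl N11082 D34089
theorem N22643 : nd 22643 = n34090 := ndS (p := 11082) (l := 5) rfl N11082 D34090
theorem N22644 : nd 22644 = n34091 := ndS (p := 11082) (l := 6) rfl N11082 D34091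
theorem N22645 : nd 22645 = n34092 := ndS (p := 11083) (l := 0) rfl N11083 D34092
theorem N22646 : nd 22646 = n34093 := ndS (p := 11083) (l := 1) rfl N11083 D34093
theorem N22647 : nd 22647 = n34094 := ndS (p := 11083) (l := 2) rfl N11083 D34094
theorem N22648 : nd 22648 = n34095 := ndS (p := 11083) (l := 5) rfl N11083 D34095
theorem N22649 : nd 22649 = n34096 := ndS (p := 11083) (l := 7) rfl N11083 D34096
theorem N22650 : nd 22650 = n34097 := ndS (p := 11084) (l := 0) rfl N11084 D34097
theorem N22651 : nd 22651 = n34098 := ndS (p := 11084) (l := 1) rfl N11084 D34098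
theorem N22652 : nd 22652 = n34099 := ndS (p := 11084) (l := 4) rfl N11084 D34099
theorem N22653 : nd 22653 = n34100 := ndS (p := 11084) (l := 6) rfl N11084 D34100
theorem N22654 : nd 22654 = n34101 := ndS (p := 11084) (l := 7) rfl N11084 D34101
theorem N22655 : nd 22655 = n34102 := ndS (p := 11085) (l := 6) rfl N11085 D34102
theorem N22656 : nd 22656 = n34103 := ndS (p := 11086) (l := 0) rfl N11086 D34103
theorem N22657 : nd 22657 = n34104 := ndS (p := 11086) (l := 1) rfl N11086 D34104
theorem N22658 : nd 22658 = n34105 := ndS (p := 11087) (l := 0) rfl N11087 D34105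
theorem N22659 : nd 22659 = n34106 := ndS (p := 11087) (l := 1) rfl N11087 D34106
theorem N22660 : nd 22660 = n34107 := ndS (p := 11087) (l := 3) rfl N11087 D34107
theorem N22661 : nd 22661 = n34108 := ndS (p := 11087) (l := 5) rfl N11087 D34108
theorem N22662 : nd 22662 = n34109 := ndS (p := 11087) (l := 6) rfl N11087 D34109
theorem N22663 : nd 22663 = n34110 := ndS (p := 11088) (l := 0) rfl N11088 D34110
theorem N22664 : nd 22664 = n34111 := ndS (p := 11088) (l := 1) rfl N11088 D34111
theorem N22665 : nd 22665 = n34112 := ndS (p := 11088) (l := 7) rfl N11088 D34112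
theorem N22666 : nd 22666 = n34113 := ndS (p := 11089) (l := 3) rfl N11089 D34113
theorem N22667 : nd 22667 = n34114 := ndS (p := 11090) (l := 0) rfl N11090 D34114
theorem N22668 : nd 22668 = n34115 := ndS (p := 11090) (l := 1) rfl N11090 D34115
theorem N22669 : nd 22669 = n34116 := ndS (p := 11090) (l := 2) rfl N11090 D34116
theorem N22670 : nd 22670 = n34117 := ndS (p := 11090) (l := 5) rfl N11090 D34117
theorem N22671 : nd 22671 = n34124 := ndS (p := 11092) (l := 3) rfl N11092 D34124
theorem N22672 : nd 22672 = n34128 := ndS (p := 11095) (l := 4) rfl N11095 D34128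
theorem N22673 : nd 22673 = n34129 := ndS (p := 11095) (l := 6) rfl N11095 D34129
theorem N22674 : nd 22674 = n34130 := ndS (p := 11096) (l := 5) rfl N11096 D34130
theorem N22675 : nd 22675 = n34131 := ndS (p := 11097) (l := 4) rfl N11097 D34131
theorem N22676 : nd 22676 = n34132 := ndS (p := 11098) (l := 0) rfl N11098 D34132
theorem N22677 : nd 22677 = n34133 := ndS (p := 11098) (l := 1) rfl N11098 D34133
theorem N22678 : nd 22678 = n34134 := ndS (p := 11098) (l := 3) rfl N11098 D34134
theorem N22679 : nd 22679 = n34135 := ndS (p := 11098) (l := 5) rfl N11098 D34135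
theorem N22680 : nd 22680 = n34136 := ndS (p := 11098) (l := 6) rfl N11098 D34136
theorem N22681 : nd 22681 = n34137 := ndS (p := 11099) (l := 0) rfl N11099 D34137
theorem N22682 : nd 22682 = n34138 := ndS (p := 11099) (l := 7) rfl N11099 D34138
theorem N22683 : nd 22683 = n34139 := ndS (p := 11100) (l := 0) rfl N11100 D34139
theorem N22684 : nd 22684 = n34140 := ndS (p := 11100) (l := 1) rfl N11100 D34140
theorem N22685 : nd 22685 = n34141 := ndS (p := 11100) (l := 2) rfl N11100 D34141
theorem N22686 : nd 22686 = n34143 := ndS (p := 11100) (l := 6) rfl N11100 D34143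
theorem N22687 : nd 22687 = n34145 := ndS (p := 11102) (l := 5) rfl N11102 D34145
theorem N22688 : nd 22688 = n34146 := ndS (p := 11103) (l := 4) rfl N11103 D34146
theorem N22689 : nd 22689 = n34147 := ndS (p := 11105) (l := 0) rfl N11105 D34147
theorem N22690 : nd 22690 = n34148 := ndS (p := 11105) (l := 3) rfl N11105 D34148
theorem N22691 : nd 22691 = n34149 := ndS (p := 11105) (l := 5) rfl N11105 D34149
theorem N22692 : nd 22692 = n34150 := ndS (p := 11105) (l := 6) rfl N11105 D34150
theorem N22693 : nd 22693 = n34151 := ndS (p := 11106) (l := 0) rfl N11106 D34151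
theorem N22694 : nd 22694 = n34152 := ndS (p := 11106) (l := 1) rfl N11106 D34152
theorem N22695 : nd 22695 = n34153 := ndS (p := 11106) (l := 7) rfl N11106 D34153
theorem N22696 : nd 22696 = n34154 := ndS (p := 11107) (l := 0) rfl N11107 D34154
theorem N22697 : nd 22697 = n34155 := ndS (p := 11107) (l := 1) rfl N11107 D34155
theorem N22698 : nd 22698 = n34156 := ndS (p := 11107) (l := 2) rfl N11107 D34156
theorem N22699 : nd 22699 = n34157 := ndS (p := 11107) (l := 5) rfl N11107 D34157
theorem N22700 : nd 22700 = n34158 := ndS (p := 11107) (l := 6) rfl N11107 D34158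
theorem N22701 : nd 22701 = n34159 := ndS (p := 11108) (l := 6) rfl N11108 D34159
theorem N22702 : nd 22702 = n34160 := ndS (p := 11109) (l := 0) rfl N11109 D34160
theorem N22703 : nd 22703 = n34161 := ndS (p := 11109) (l := 1) rfl N11109 D34161
theorem N22704 : nd 22704 = n34162 := ndS (p := 11109) (l := 5) rfl N11109 D34162
theorem N22705 : nd 22705 = n34164 := ndS (p := 11110) (l := 3) rfl N11110 D34164
theorem N22706 : nd 22706 = n34166 := ndS (p := 11110) (l := 5) rfl N11110 D34166
theorem N22707 : nd 22707 = n34169 := ndS (p := 11111) (l := 6) rfl N11111 D34169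
theorem N22708 : nd 22708 = n34170 := ndS (p := 11113) (l := 0) rfl N11113 D34170
theorem N22709 : nd 22709 = n34171 := ndS (p := 11113) (l := 1) rfl N11113 D34171
theorem N22710 : nd 22710 = n34172 := ndS (p := 11113) (l := 3) rfl N11113 D34172
theorem N22711 : nd 22711 = n34173 := ndS (p := 11113) (l := 5) rfl N11113 D34173
theorem N22712 : nd 22712 = n34174 := ndS (p := 11113) (l := 6) rfl N11113 D34174
theorem N22713 : nd 22713 = n34175 := ndS (p := 11114) (l := 0) rfl N11114 D34175
theorem N22714 : nd 22714 = n34176 := ndS (p := 11114) (l := 1) rfl N11114 D34176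
theorem N22715 : nd 22715 = n34177 := ndS (p := 11114) (l := 7) rfl N11114 D34177
theorem N22716 : nd 22716 = n34178 := ndS (p := 11115) (l := 0) rfl N11115 D34178
theorem N22717 : nd 22717 = n34179 := ndS (p := 11115) (l := 1) rfl N11115 D34179
theorem N22718 : nd 22718 = n34180 := ndS (p := 11115) (l := 2) rfl N11115 D34180
theorem N22719 : nd 22719 = n34181 := ndS (p := 11115) (l := 5) rfl N11115 D34181
theorem N22720 : nd 22720 = n34189 := ndS (p := 11117) (l := 6) rfl N11117 D34189
theorem N22721 : nd 22721 = n34190 := ndS (p := 11118) (l := 3) rfl N11118 D34190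
theorem N22722 : nd 22722 = n34192 := ndS (p := 11120) (l := 0) rfl N11120 D34192
theorem N22723 : nd 22723 = n34193 := ndS (p := 11120) (l := 1) rfl N11120 D34193
theorem N22724 : nd 22724 = n34194 := ndS (p := 11120) (l := 2) rfl N11120 D34194
theorem N22725 : nd 22725 = n34195 := ndS (p := 11120) (l := 4) rfl N11120 D34195
theorem N22726 : nd 22726 = n34196 := ndS (p := 11120) (l := 5) rfl N11120 D34196
theorem N22727 : nd 22727 = n34197 := ndS (p := 11120) (l := 6) rfl N11120 D34197
theorem N22728 : nd 22728 = n34198 := ndS (p := 11121) (l := 6) rfl N11121 D34198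
theorem N22729 : nd 22729 = n34199 := ndS (p := 11122) (l := 5) rfl N11122 D34199
theorem N22730 : nd 22730 = n34201 := ndS (p := 11123) (l := 0) rfl N11123 D34201
theorem N22731 : nd 22731 = n34204 := ndS (p := 11123) (l := 4) rfl N11123 D34204
theorem N22732 : nd 22732 = n34210 := ndS (p := 11125) (l := 0) rfl N11125 D34210
theorem N22733 : nd 22733 = n34211 := ndS (p := 11125) (l := 2) rfl N11125 D34211
theorem N22734 : nd 22734 = n34213 := ndS (p := 11125) (l := 4) rfl N11125 D34213
theorem N22735 : nd 22735 = n34215 := ndS (p := 11125) (l := 6) rfl N11125 D34215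
theorem N22736 : nd 22736 = n34218 := ndS (p := 11126) (l := 4) rfl N11126 D34218
theorem N22737 : nd 22737 = n34223 := ndS (p := 11127) (l := 5) rfl N11127 D34223
theorem N22738 : nd 22738 = n34224 := ndS (p := 11128) (l := 0) rfl N11128 D34224
theorem N22739 : nd 22739 = n34225 := ndS (p := 11128) (l := 1) rfl N11128 D34225
theorem N22740 : nd 22740 = n34226 := ndS (p := 11128) (l := 4) rfl N11128 D34226
theorem N22741 : nd 22741 = n34227 := ndS (p := 11128) (l := 6) rfl N11128 D34227
theorem N22742 : nd 22742 = n34228 := ndS (p := 11129) (l := 6) rfl N11129 D34228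
theorem N22743 : nd 22743 = n34230 := ndS (p := 11131) (l := 3) rfl N11131 D34230
theorem N22744 : nd 22744 = n34231 := ndS (p := 11131) (l := 6) rfl N11131 D34231
theorem N22745 : nd 22745 = n34232 := ndS (p := 11132) (l := 0) rfl N11132 D34232
theorem N22746 : nd 22746 = n34233 := ndS (p := 11132) (l := 1) rfl N11132 D34233
theorem N22747 : nd 22747 = n34234 := ndS (p := 11132) (l := 7) rfl N11132 D34234
theorem N22748 : nd 22748 = n34235 := ndS (p := 11133) (l := 5) rfl N11133 D34235
theorem N22749 : nd 22749 = n34236 := ndS (p := 11134) (l := 0) rfl N11134 D34236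
theorem N22750 : nd 22750 = n34237 := ndS (p := 11134) (l := 1) rfl N11134 D34237
theorem N22751 : nd 22751 = n34238 := ndS (p := 11134) (l := 3) rfl N11134 D34238
theorem N22752 : nd 22752 = n34239 := ndS (p := 11134) (l := 5) rfl N11134 D34239
theorem N22753 : nd 22753 = n34240 := ndS (p := 11134) (l := 6) rfl N11134 D34240
theorem N22754 : nd 22754 = n34241 := ndS (p := 11135) (l := 0) rfl N11135 D34241
theorem N22755 : nd 22755 = n34242 := ndS (p := 11135) (l := 1) rfl N11135 D34242
theorem N22756 : nd 22756 = n34243 := ndS (p := 11135) (l := 7) rfl N11135 D34243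
theorem N22757 : nd 22757 = n34244 := ndS (p := 11136) (l := 0) rfl N11136 D34244
theorem N22758 : nd 22758 = n34245 := ndS (p := 11136) (l := 1) rfl N11136 D34245
theorem N22759 : nd 22759 = n34246 := ndS (p := 11136) (l := 2) rfl N11136 D34246
theorem N22760 : nd 22760 = n34247 := ndS (p := 11136) (l := 6) rfl N11136 D34247
theorem N22761 : nd 22761 = n34250 := ndS (p := 11138) (l := 3) rfl N11138 D34250
theorem N22762 : nd 22762 = n34251 := ndS (p := 11139) (l := 3) rfl N11139 D34251
theorem N22763 : nd 22763 = n34252 := ndS (p := 11139) (l := 6) rfl N11139 D34252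
theorem N22764 : nd 22764 = n34255 := ndS (p := 11142) (l := 1) rfl N11142 D34255
theorem N22765 : nd 22765 = n34256 := ndS (p := 11142) (l := 7) rfl N11142 D34256
theorem N22766 : nd 22766 = n34257 := ndS (p := 11144) (l := 3) rfl N11144 D34257
theorem N22767 : nd 22767 = n34258 := ndS (p := 11144) (l := 5) rfl N11144 D34258
theorem N22768 : nd 22768 = n34259 := ndS (p := 11144) (l := 6) rfl N11144 D34259
theorem N22769 : nd 22769 = n34260 := ndS (p := 11145) (l := 0) rfl N11145 D34260
theorem N22770 : nd 22770 = n34261 := ndS (p := 11145) (l := 7) rfl N11145 D34261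
theorem N22771 : nd 22771 = n34262 := ndS (p := 11146) (l := 0) rfl N11146 D34262
theorem N22772 : nd 22772 = n34264 := ndS (p := 11146) (l := 2) rfl N11146 D34264
theorem N22773 : nd 22773 = n34265 := ndS (p := 11146) (l := 6) rfl N11146 D34265
theorem N22774 : nd 22774 = n34266 := ndS (p := 11147) (l := 5) rfl N11147 D34266
theorem N22775 : nd 22775 = n34267 := ndS (p := 11147) (l := 7) rfl N11147 D34267
theorem N22776 : nd 22776 = n34268 := ndS (p := 11148) (l := 3) rfl N11148 D34268
theorem N22777 : nd 22777 = n34269 := ndS (p := 11150) (l := 0) rfl N11150 D34269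
theorem N22778 : nd 22778 = n34270 := ndS (p := 11150) (l := 1) rfl N11150 D34270
theorem N22779 : nd 22779 = n34271 := ndS (p := 11150) (l := 7) rfl N11150 D34271
theorem N22780 : nd 22780 = n34272 := ndS (p := 11151) (l := 3) rfl N11151 D34272
theorem N22781 : nd 22781 = n34273 := ndS (p := 11151) (l := 4) rfl N11151 D34273
theorem N22782 : nd 22782 = n34274 := ndS (p := 11152) (l := 4) rfl N11152 D34274
theorem N22783 : nd 22783 = n34281 := ndS (p := 11153) (l := 5) rfl N11153 D34281
theorem N22784 : nd 22784 = n34284 := ndS (p := 11155) (l := 4) rfl N11155 D34284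
theorem N22785 : nd 22785 = n34285 := ndS (p := 11155) (l := 5) rfl N11155 D34285
theorem N22786 : nd 22786 = n34286 := ndS (p := 11156) (l := 4) rfl N11156 D34286
theorem N22787 : nd 22787 = n34287 := ndS (p := 11156) (l := 5) rfl N11156 D34287
theorem N22788 : nd 22788 = n34288 := ndS (p := 11157) (l := 0) rfl N11157 D34288
theorem N22789 : nd 22789 = n34289 := ndS (p := 11157) (l := 5) rfl N11157 D34289
theorem N22790 : nd 22790 = n34290 := ndS (p := 11158) (l := 0) rfl N11158 D34290
theorem N22791 : nd 22791 = n34291 := ndS (p := 11158) (l := 1) rfl N11158 D34291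
theorem N22792 : nd 22792 = n34292 := ndS (p := 11158) (l := 4) rfl N11158 D34292
theorem N22793 : nd 22793 = n34293 := ndS (p := 11158) (l := 6) rfl N11158 D34293
theorem N22794 : nd 22794 = n34298 := ndS (p := 11160) (l := 1) rfl N11160 D34298
theorem N22795 : nd 22795 = n34299 := ndS (p := 11160) (l := 5) rfl N11160 D34299
theorem N22796 : nd 22796 = n34300 := ndS (p := 11160) (l := 6) rfl N11160 D34300
theorem N22797 : nd 22797 = n34301 := ndS (p := 11161) (l := 4) rfl N11161 D34301
theorem N22798 : nd 22798 = n34302 := ndS (p := 11161) (l := 6) rfl N11161 D34302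
theorem N22799 : nd 22799 = n34303 := ndS (p := 11162) (l := 5) rfl N11162 D34303
theorem N22800 : nd 22800 = n34304 := ndS (p := 11163) (l := 0) rfl N11163 D34304
theorem N22801 : nd 22801 = n34305 := ndS (p := 11163) (l := 1) rfl N11163 D34305
theorem N22802 : nd 22802 = n34306 := ndS (p := 11163) (l := 5) rfl N11163 D34306
theorem N22803 : nd 22803 = n34307 := ndS (p := 11163) (l := 7) rfl N11163 D34307
theorem N22804 : nd 22804 = n34308 := ndS (p := 11166) (l := 5) rfl N11166 D34308
theorem N22805 : nd 22805 = n34309 := ndS (p := 11167) (l := 4) rfl N11167 D34309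
theorem N22806 : nd 22806 = n34311 := ndS (p := 11167) (l := 7) rfl N11167 D34311
theorem N22807 : nd 22807 = n34312 := ndS (p := 11169) (l := 6) rfl N11169 D34312
theorem N22808 : nd 22808 = n34313 := ndS (p := 11170) (l := 5) rfl N11170 D34313
theorem N22809 : nd 22809 = n34314 := ndS (p := 11170) (l := 6) rfl N11170 D34314
theorem N22810 : nd 22810 = n34315 := ndS (p := 11171) (l := 4) rfl N11171 D34315
theorem N22811 : nd 22811 = n34316 := ndS (p := 11171) (l := 6) rfl N11171 D34316
theorem N22812 : nd 22812 = n34317 := ndS (p := 11172) (l := 5) rfl N11172 D34317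
theorem N22813 : nd 22813 = n34318 := ndS (p := 11172) (l := 7) rfl N11172 D34318
theorem N22814 : nd 22814 = n34319 := ndS (p := 11173) (l := 4) rfl N11173 D34319
theorem N22815 : nd 22815 = n34320 := ndS (p := 11174) (l := 3) rfl N11174 D34320
theorem N22816 : nd 22816 = n34321 := ndS (p := 11174) (l := 4) rfl N11174 D34321
theorem N22817 : nd 22817 = n34322 := ndS (p := 11174) (l := 6) rfl N11174 D34322
theorem N22818 : nd 22818 = n34323 := ndS (p := 11175) (l := 1) rfl N11175 D34323
theorem N22819 : nd 22819 = n34324 := ndS (p := 11175) (l := 3) rfl N11175 D34324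
theorem N22820 : nd 22820 = n34325 := ndS (p := 11175) (l := 5) rfl N11175 D34325
theorem N22821 : nd 22821 = n34326 := ndS (p := 11175) (l := 6) rfl N11175 D34326
theorem N22822 : nd 22822 = n34327 := ndS (p := 11175) (l := 7) rfl N11175 D34327
theorem N22823 : nd 22823 = n34328 := ndS (p := 11176) (l := 0) rfl N11176 D34328
theorem N22824 : nd 22824 = n34329 := ndS (p := 11176) (l := 1) rfl N11176 D34329
theorem N22825 : nd 22825 = n34330 := ndS (p := 11176) (l := 7) rfl N11176 D34330
theorem N22826 : nd 22826 = n34331 := ndS (p := 11177) (l := 6) rfl N11177 D34331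
theorem N22827 : nd 22827 = n34334 := ndS (p := 11180) (l := 0) rfl N11180 D34334
theorem N22828 : nd 22828 = n34335 := ndS (p := 11180) (l := 1) rfl N11180 D34335
theorem N22829 : nd 22829 = n34336 := ndS (p := 11180) (l := 5) rfl N11180 D34336
theorem N22830 : nd 22830 = n34337 := ndS (p := 11180) (l := 7) rfl N11180 D34337
theorem N22831 : nd 22831 = n34338 := ndS (p := 11181) (l := 4) rfl N11181 D34338
theorem N22832 : nd 22832 = n34339 := ndS (p := 11181) (l := 6) rfl N11181 D34339
theorem N22833 : nd 22833 = n34340 := ndS (p := 11182) (l := 0) rfl N11182 D34340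
theorem N22834 : nd 22834 = n34341 := ndS (p := 11182) (l := 1) rfl N11182 D34341
theorem N22835 : nd 22835 = n34343 := ndS (p := 11183) (l := 0) rfl N11183 D34343
theorem N22836 : nd 22836 = n34344 := ndS (p := 11183) (l := 1) rfl N11183 D34344
theorem N22837 : nd 22837 = n34345 := ndS (p := 11183) (l := 2) rfl N11183 D34345
theorem N22838 : nd 22838 = n34346 := ndS (p := 11183) (l := 6) rfl N11183 D34346
theorem N22839 : nd 22839 = n34347 := ndS (p := 11184) (l := 0) rfl N11184 D34347
theorem N22840 : nd 22840 = n34349 := ndS (p := 11184) (l := 5) rfl N11184 D34349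
theorem N22841 : nd 22841 = n34350 := ndS (p := 11184) (l := 7) rfl N11184 D34350
theorem N22842 : nd 22842 = n34351 := ndS (p := 11185) (l := 3) rfl N11185 D34351
theorem N22843 : nd 22843 = n34353 := ndS (p := 11185) (l := 6) rfl N11185 D34353
theorem N22844 : nd 22844 = n34354 := ndS (p := 11186) (l := 3) rfl N11186 D34354
theorem N22845 : nd 22845 = n34357 := ndS (p := 11187) (l := 6) rfl N11187 D34357
theorem N22846 : nd 22846 = n34358 := ndS (p := 11188) (l := 0) rfl N11188 D34358
theorem N22847 : nd 22847 = n34359 := ndS (p := 11188) (l := 1) rfl N11188 D34359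
theorem N22848 : nd 22848 = n34360 := ndS (p := 11190) (l := 5) rfl N11190 D34360
theorem N22849 : nd 22849 = n34361 := ndS (p := 11191) (l := 5) rfl N11191 D34361
theorem N22850 : nd 22850 = n34362 := ndS (p := 11194) (l := 0) rfl N11194 D34362
theorem N22851 : nd 22851 = n34364 := ndS (p := 11196) (l := 6) rfl N11196 D34364
theorem N22852 : nd 22852 = n34365 := ndS (p := 11197) (l := 3) rfl N11197 D34365
theorem N22853 : nd 22853 = n34367 := ndS (p := 11198) (l := 4) rfl N11198 D34367
theorem N22854 : nd 22854 = n34368 := ndS (p := 11198) (l := 6) rfl N11198 D34368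
theorem N22855 : nd 22855 = n34369 := ndS (p := 11199) (l := 0) rfl N11199 D34369
theorem N22856 : nd 22856 = n34370 := ndS (p := 11199) (l := 1) rfl N11199 D34370
theorem N22857 : nd 22857 = n34371 := ndS (p := 11199) (l := 5) rfl N11199 D34371
theorem N22858 : nd 22858 = n34372 := ndS (p := 11199) (l := 7) rfl N11199 D34372
theorem N22859 : nd 22859 = n34374 := ndS (p := 11200) (l := 3) rfl N11200 D34374
theorem N22860 : nd 22860 = n34375 := ndS (p := 11200) (l := 4) rfl N11200 D34375
theorem N22861 : nd 22861 = n34376 := ndS (p := 11200) (l := 5) rfl N11200 D34376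
theorem N22862 : nd 22862 = n34377 := ndS (p := 11200) (l := 6) rfl N11200 D34377
theorem N22863 : nd 22863 = n34379 := ndS (p := 11201) (l := 3) rfl N11201 D34379
theorem N22864 : nd 22864 = n34380 := ndS (p := 11201) (l := 4) rfl N11201 D34380
theorem N22865 : nd 22865 = n34381 := ndS (p := 11201) (l := 5) rfl N11201 D34381
theorem N22866 : nd 22866 = n34382 := ndS (p := 11201) (l := 6) rfl N11201 D34382
theorem N22867 : nd 22867 = n34383 := ndS (p := 11203) (l := 6) rfl N11203 D34383
theorem N22868 : nd 22868 = n34384 := ndS (p := 11204) (l := 5) rfl N11204 D34384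
theorem N22869 : nd 22869 = n34385 := ndS (p := 11205) (l := 4) rfl N11205 D34385
theorem N22870 : nd 22870 = n34389 := ndS (p := 11206) (l := 4) rfl N11206 D34389
theorem N22871 : nd 22871 = n34390 := ndS (p := 11206) (l := 5) rfl N11206 D34390
theorem N22872 : nd 22872 = n34391 := ndS (p := 11206) (l := 6) rfl N11206 D34391
theorem N22873 : nd 22873 = n34392 := ndS (p := 11207) (l := 4) rfl N11207 D34392
theorem N22874 : nd 22874 = n34397 := ndS (p := 11209) (l := 4) rfl N11209 D34397
theorem N22875 : nd 22875 = n34398 := ndS (p := 11209) (l := 5) rfl N11209 D34398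
theorem N22876 : nd 22876 = n34399 := ndS (p := 11209) (l := 6) rfl N11209 D34399
theorem N22877 : nd 22877 = n34400 := ndS (p := 11210) (l := 4) rfl N11210 D34400
theorem N22878 : nd 22878 = n34401 := ndS (p := 11210) (l := 6) rfl N11210 D34401
theorem N22879 : nd 22879 = n34402 := ndS (p := 11212) (l := 5) rfl N11212 D34402
theorem N22880 : nd 22880 = n34403 := ndS (p := 11212) (l := 6) rfl N11212 D34403
theorem N22881 : nd 22881 = n34404 := ndS (p := 11213) (l := 4) rfl N11213 D34404
theorem N22882 : nd 22882 = n34405 := ndS (p := 11213) (l := 6) rfl N11213 D34405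
theorem N22883 : nd 22883 = n34406 := ndS (p := 11215) (l := 4) rfl N11215 D34406
theorem N22884 : nd 22884 = n34407 := ndS (p := 11216) (l := 4) rfl N11216 D34407
theorem N22885 : nd 22885 = n34408 := ndS (p := 11216) (l := 6) rfl N11216 D34408
theorem N22886 : nd 22886 = n34409 := ndS (p := 11217) (l := 3) rfl N11217 D34409
theorem N22887 : nd 22887 = n34410 := ndS (p := 11218) (l := 4) rfl N11218 D34410
theorem N22888 : nd 22888 = n34411 := ndS (p := 11218) (l := 6) rfl N11218 D34411
theorem N22889 : nd 22889 = n34412 := ndS (p := 11219) (l := 0) rfl N11219 D34412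
theorem N22890 : nd 22890 = n34413 := ndS (p := 11219) (l := 1) rfl N11219 D34413
theorem N22891 : nd 22891 = n34414 := ndS (p := 11219) (l := 5) rfl N11219 D34414
theorem N22892 : nd 22892 = n34415 := ndS (p := 11219) (l := 7) rfl N11219 D34415
theorem N22893 : nd 22893 = n34416 := ndS (p := 11220) (l := 0) rfl N11220 D34416
theorem N22894 : nd 22894 = n34417 := ndS (p := 11220) (l := 4) rfl N11220 D34417
theorem N22895 : nd 22895 = n34418 := ndS (p := 11220) (l := 7) rfl N11220 D34418
theorem N22896 : nd 22896 = n34419 := ndS (p := 11224) (l := 4) rfl N11224 D34419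
theorem N22897 : nd 22897 = n34420 := ndS (p := 11226) (l := 4) rfl N11226 D34420
theorem N22898 : nd 22898 = n34422 := ndS (p := 11229) (l := 4) rfl N11229 D34422
theorem N22899 : nd 22899 = n34423 := ndS (p := 11229) (l := 6) rfl N11229 D34423
theorem N22900 : nd 22900 = n34424 := ndS (p := 11230) (l := 5) rfl N11230 D34424
theorem N22901 : nd 22901 = n34425 := ndS (p := 11231) (l := 4) rfl N11231 D34425
theorem N22902 : nd 22902 = n34426 := ndS (p := 11231) (l := 6) rfl N11231 D34426
theorem N22903 : nd 22903 = n34427 := ndS (p := 11232) (l := 0) rfl N11232 D34427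
theorem N22904 : nd 22904 = n34428 := ndS (p := 11232) (l := 3) rfl N11232 D34428
theorem N22905 : nd 22905 = n34429 := ndS (p := 11232) (l := 5) rfl N11232 D34429
theorem N22906 : nd 22906 = n34430 := ndS (p := 11233) (l := 0) rfl N11233 D34430
theorem N22907 : nd 22907 = n34431 := ndS (p := 11233) (l := 1) rfl N11233 D34431
theorem N22908 : nd 22908 = n34432 := ndS (p := 11233) (l := 2) rfl N11233 D34432
theorem N22909 : nd 22909 = n34433 := ndS (p := 11234) (l := 6) rfl N11234 D34433
theorem N22910 : nd 22910 = n34434 := ndS (p := 11235) (l := 5) rfl N11235 D34434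
theorem N22911 : nd 22911 = n34435 := ndS (p := 11236) (l := 4) rfl N11236 D34435
theorem N22912 : nd 22912 = n34436 := ndS (p := 11237) (l := 4) rfl N11237 D34436
theorem N22913 : nd 22913 = n34437 := ndS (p := 11238) (l := 5) rfl N11238 D34437
theorem N22914 : nd 22914 = n34438 := ndS (p := 11239) (l := 4) rfl N11239 D34438
theorem N22915 : nd 22915 = n34439 := ndS (p := 11240) (l := 4) rfl N11240 D34439
theorem N22916 : nd 22916 = n34440 := ndS (p := 11240) (l := 6) rfl N11240 D34440
theorem N22917 : nd 22917 = n34441 := ndS (p := 11241) (l := 3) rfl N11241 D34441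
theorem N22918 : nd 22918 = n34442 := ndS (p := 11241) (l := 4) rfl N11241 D34442
theorem N22919 : nd 22919 = n34444 := ndS (p := 11242) (l := 0) rfl N11242 D34444
theorem N22920 : nd 22920 = n34445 := ndS (p := 11242) (l := 1) rfl N11242 D34445
theorem N22921 : nd 22921 = n34446 := ndS (p := 11242) (l := 3) rfl N11242 D34446
theorem N22922 : nd 22922 = n34447 := ndS (p := 11242) (l := 5) rfl N11242 D34447
theorem N22923 : nd 22923 = n34448 := ndS (p := 11243) (l := 0) rfl N11243 D34448
theorem N22924 : nd 22924 = n34449 := ndS (p := 11243) (l := 1) rfl N11243 D34449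
theorem N22925 : nd 22925 = n34450 := ndS (p := 11243) (l := 2) rfl N11243 D34450
theorem N22926 : nd 22926 = n34451 := ndS (p := 11244) (l := 3) rfl N11244 D34451
theorem N22927 : nd 22927 = n34452 := ndS (p := 11244) (l := 6) rfl N11244 D34452
theorem N22928 : nd 22928 = n34453 := ndS (p := 11245) (l := 0) rfl N11245 D34453
theorem N22929 : nd 22929 = n34454 := ndS (p := 11245) (l := 1) rfl N11245 D34454
theorem N22930 : nd 22930 = n34455 := ndS (p := 11245) (l := 5) rfl N11245 D34455
theorem N22931 : nd 22931 = n34456 := ndS (p := 11245) (l := 7) rfl N11245 D34456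
theorem N22932 : nd 22932 = n34457 := ndS (p := 11246) (l := 4) rfl N11246 D34457
theorem N22933 : nd 22933 = n34459 := ndS (p := 11248) (l := 4) rfl N11248 D34459
theorem N22934 : nd 22934 = n34462 := ndS (p := 11249) (l := 5) rfl N11249 D34462
theorem N22935 : nd 22935 = n34463 := ndS (p := 11251) (l := 5) rfl N11251 D34463
theorem N22936 : nd 22936 = n34464 := ndS (p := 11252) (l := 1) rfl N11252 D34464
theorem N22937 : nd 22937 = n34465 := ndS (p := 11252) (l := 4) rfl N11252 D34465
theorem N22938 : nd 22938 = n34466 := ndS (p := 11252) (l := 7) rfl N11252 D34466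
theorem N22939 : nd 22939 = n34467 := ndS (p := 11257) (l := 4) rfl N11257 D34467
theorem N22940 : nd 22940 = n34469 := ndS (p := 11258) (l := 0) rfl N11258 D34469
theorem N22941 : nd 22941 = n34470 := ndS (p := 11258) (l := 3) rfl N11258 D34470
theorem N22942 : nd 22942 = n34471 := ndS (p := 11258) (l := 5) rfl N11258 D34471
theorem N22943 : nd 22943 = n34472 := ndS (p := 11258) (l := 7) rfl N11258 D34472
theorem N22944 : nd 22944 = n34478 := ndS (p := 11263) (l := 0) rfl N11263 D34478
theorem N22945 : nd 22945 = n34479 := ndS (p := 11263) (l := 1) rfl N11263 D34479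
theorem N22946 : nd 22946 = n34480 := ndS (p := 11263) (l := 3) rfl N11263 D34480
theorem N22947 : nd 22947 = n34481 := ndS (p := 11263) (l := 5) rfl N11263 D34481
theorem N22948 : nd 22948 = n34482 := ndS (p := 11264) (l := 0) rfl N11264 D34482
theorem N22949 : nd 22949 = n34483 := ndS (p := 11264) (l := 1) rfl N11264 D34483
theorem N22950 : nd 22950 = n34484 := ndS (p := 11264) (l := 2) rfl N11264 D34484
theorem N22951 : nd 22951 = n34485 := ndS (p := 11264) (l := 5) rfl N11264 D34485
theorem N22952 : nd 22952 = n34486 := ndS (p := 11264) (l := 6) rfl N11264 D34486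
theorem N22953 : nd 22953 = n34487 := ndS (p := 11265) (l := 6) rfl N11265 D34487
theorem N22954 : nd 22954 = n34489 := ndS (p := 11266) (l := 1) rfl N11266 D34489
theorem N22955 : nd 22955 = n34491 := ndS (p := 11266) (l := 7) rfl N11266 D34491
theorem N22956 : nd 22956 = n34493 := ndS (p := 11267) (l := 3) rfl N11267 D34493
theorem N22957 : nd 22957 = n34494 := ndS (p := 11267) (l := 4) rfl N11267 D34494
theorem N22958 : nd 22958 = n34495 := ndS (p := 11267) (l := 5) rfl N11267 D34495
theorem N22959 : nd 22959 = n34496 := ndS (p := 11267) (l := 6) rfl N11267 D34496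
theorem N22960 : nd 22960 = n34498 := ndS (p := 11268) (l := 3) rfl N11268 D34498
theorem N22961 : nd 22961 = n34499 := ndS (p := 11268) (l := 4) rfl N11268 D34499
theorem N22962 : nd 22962 = n34501 := ndS (p := 11268) (l := 6) rfl N11268 D34501
theorem N22963 : nd 22963 = n34503 := ndS (p := 11270) (l := 3) rfl N11270 D34503
theorem N22964 : nd 22964 = n34504 := ndS (p := 11270) (l := 5) rfl N11270 D34504
theorem N22965 : nd 22965 = n34511 := ndS (p := 11272) (l := 6) rfl N11272 D34511
theorem N22966 : nd 22966 = n34530 := ndS (p := 11273) (l := 6) rfl N11273 D34530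
theorem N22967 : nd 22967 = n34531 := ndS (p := 11274) (l := 3) rfl N11274 D34531
theorem N22968 : nd 22968 = n34534 := ndS (p := 11275) (l := 0) rfl N11275 D34534
theorem N22969 : nd 22969 = n34537 := ndS (p := 11276) (l := 0) rfl N11276 D34537
theorem N22970 : nd 22970 = n34538 := ndS (p := 11276) (l := 1) rfl N11276 D34538
theorem N22971 : nd 22971 = n34539 := ndS (p := 11276) (l := 2) rfl N11276 D34539
theorem N22972 : nd 22972 = n34540 := ndS (p := 11276) (l := 5) rfl N11276 D34540
theorem N22973 : nd 22973 = n34541 := ndS (p := 11276) (l := 6) rfl N11276 D34541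
theorem N22974 : nd 22974 = n34542 := ndS (p := 11277) (l := 6) rfl N11277 D34542
theorem N22975 : nd 22975 = n34545 := ndS (p := 11278) (l := 5) rfl N11278 D34545
theorem N22976 : nd 22976 = n34546 := ndS (p := 11278) (l := 7) rfl N11278 D34546
theorem N22977 : nd 22977 = n34553 := ndS (p := 11279) (l := 4) rfl N11279 D34553
theorem N22978 : nd 22978 = n34554 := ndS (p := 11279) (l := 6) rfl N11279 D34554
theorem N22979 : nd 22979 = n34555 := ndS (p := 11281) (l := 0) rfl N11281 D34555
theorem N22980 : nd 22980 = n34556 := ndS (p := 11281) (l := 1) rfl N11281 D34556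
theorem N22981 : nd 22981 = n34557 := ndS (p := 11281) (l := 2) rfl N11281 D34557
theorem N22982 : nd 22982 = n34558 := ndS (p := 11281) (l := 4) rfl N11281 D34558
theorem N22983 : nd 22983 = n34559 := ndS (p := 11281) (l := 5) rfl N11281 D34559
theorem N22984 : nd 22984 = n34560 := ndS (p := 11281) (l := 6) rfl N11281 D34560
theorem N22985 : nd 22985 = n34561 := ndS (p := 11282) (l := 6) rfl N11282 D34561
theorem N22986 : nd 22986 = n34564 := ndS (p := 11283) (l := 5) rfl N11283 D34564
theorem N22987 : nd 22987 = n34567 := ndS (p := 11284) (l := 6) rfl N11284 D34567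
theorem N22988 : nd 22988 = n34568 := ndS (p := 11285) (l := 6) rfl N11285 D34568
theorem N22989 : nd 22989 = n34571 := ndS (p := 11286) (l := 5) rfl N11286 D34571
theorem N22990 : nd 22990 = n34572 := ndS (p := 11286) (l := 7) rfl N11286 D34572
theorem N22991 : nd 22991 = n34573 := ndS (p := 11287) (l := 3) rfl N11287 D34573
theorem N22992 : nd 22992 = n34574 := ndS (p := 11287) (l := 6) rfl N11287 D34574
theorem N22993 : nd 22993 = n34575 := ndS (p := 11288) (l := 3) rfl N11288 D34575
theorem N22994 : nd 22994 = n34576 := ndS (p := 11288) (l := 6) rfl N11288 D34576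
theorem N22995 : nd 22995 = n34577 := ndS (p := 11289) (l := 5) rfl N11289 D34577
theorem N22996 : nd 22996 = n34578 := ndS (p := 11289) (l := 6) rfl N11289 D34578
theorem N22997 : nd 22997 = n34579 := ndS (p := 11290) (l := 4) rfl N11290 D34579
theorem N22998 : nd 22998 = n34580 := ndS (p := 11290) (l := 6) rfl N11290 D34580
theorem N22999 : nd 22999 = n34581 := ndS (p := 11291) (l := 0) rfl N11291 D34581
theorem N23000 : nd 23000 = n34582 := ndS (p := 11291) (l := 1) rfl N11291 D34582
theorem N23001 : nd 23001 = n34583 := ndS (p := 11291) (l := 5) rfl N11291 D34583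
theorem N23002 : nd 23002 = n34584 := ndS (p := 11291) (l := 7) rfl N11291 D34584
theorem N23003 : nd 23003 = n34585 := ndS (p := 11292) (l := 0) rfl N11292 D34585
theorem N23004 : nd 23004 = n34586 := ndS (p := 11292) (l := 1) rfl N11292 D34586
theorem N23005 : nd 23005 = n34587 := ndS (p := 11292) (l := 5) rfl N11292 D34587
theorem N23006 : nd 23006 = n34588 := ndS (p := 11292) (l := 7) rfl N11292 D34588
theorem N23007 : nd 23007 = n34589 := ndS (p := 11293) (l := 6) rfl N11293 D34589
theorem N23008 : nd 23008 = n34591 := ndS (p := 11294) (l := 3) rfl N11294 D34591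
theorem N23009 : nd 23009 = n34592 := ndS (p := 11294) (l := 4) rfl N11294 D34592
theorem N23010 : nd 23010 = n34594 := ndS (p := 11294) (l := 6) rfl N11294 D34594
theorem N23011 : nd 23011 = n34597 := ndS (p := 11295) (l := 4) rfl N11295 D34597
theorem N23012 : nd 23012 = n34599 := ndS (p := 11295) (l := 6) rfl N11295 D34599
theorem N23013 : nd 23013 = n34602 := ndS (p := 11296) (l := 4) rfl N11296 D34602
theorem N23014 : nd 23014 = n34604 := ndS (p := 11297) (l := 6) rfl N11297 D34604
theorem N23015 : nd 23015 = n34605 := ndS (p := 11298) (l := 0) rfl N11298 D34605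
theorem N23016 : nd 23016 = n34606 := ndS (p := 11298) (l := 1) rfl N11298 D34606
theorem N23017 : nd 23017 = n34607 := ndS (p := 11298) (l := 5) rfl N11298 D34607
theorem N23018 : nd 23018 = n34614 := ndS (p := 11299) (l := 0) rfl N11299 D34614
theorem N23019 : nd 23019 = n34617 := ndS (p := 11299) (l := 4) rfl N11299 D34617
theorem N23020 : nd 23020 = n34619 := ndS (p := 11299) (l := 6) rfl N11299 D34619
theorem N23021 : nd 23021 = n34621 := ndS (p := 11300) (l := 0) rfl N11300 D34621
theorem N23022 : nd 23022 = n34624 := ndS (p := 11300) (l := 5) rfl N11300 D34624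
theorem N23023 : nd 23023 = n34625 := ndS (p := 11300) (l := 6) rfl N11300 D34625
theorem N23024 : nd 23024 = n34633 := ndS (p := 11301) (l := 1) rfl N11301 D34633
theorem N23025 : nd 23025 = n34634 := ndS (p := 11301) (l := 5) rfl N11301 D34634
theorem N23026 : nd 23026 = n34635 := ndS (p := 11301) (l := 7) rfl N11301 D34635
theorem N23027 : nd 23027 = n34638 := ndS (p := 11302) (l := 1) rfl N11302 D34638
theorem N23028 : nd 23028 = n34639 := ndS (p := 11302) (l := 2) rfl N11302 D34639
theorem N23029 : nd 23029 = n34640 := ndS (p := 11302) (l := 4) rfl N11302 D34640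
theorem N23030 : nd 23030 = n34642 := ndS (p := 11302) (l := 6) rfl N11302 D34642
theorem N23031 : nd 23031 = n34643 := ndS (p := 11303) (l := 3) rfl N11303 D34643
theorem N23032 : nd 23032 = n34644 := ndS (p := 11303) (l := 5) rfl N11303 D34644
theorem N23033 : nd 23033 = n34645 := ndS (p := 11303) (l := 6) rfl N11303 D34645
theorem N23034 : nd 23034 = n34646 := ndS (p := 11304) (l := 4) rfl N11304 D34646
theorem N23035 : nd 23035 = n34647 := ndS (p := 11305) (l := 0) rfl N11305 D34647
theorem N23036 : nd 23036 = n34649 := ndS (p := 11305) (l := 5) rfl N11305 D34649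
theorem N23037 : nd 23037 = n34650 := ndS (p := 11305) (l := 7) rfl N11305 D34650
theorem N23038 : nd 23038 = n34651 := ndS (p := 11306) (l := 5) rfl N11306 D34651
theorem N23039 : nd 23039 = n34654 := ndS (p := 11307) (l := 4) rfl N11307 D34654
theorem N23040 : nd 23040 = n34655 := ndS (p := 11307) (l := 5) rfl N11307 D34655
theorem N23041 : nd 23041 = n34657 := ndS (p := 11308) (l := 3) rfl N11308 D34657
theorem N23042 : nd 23042 = n34658 := ndS (p := 11308) (l := 4) rfl N11308 D34658
theorem N23043 : nd 23043 = n34659 := ndS (p := 11308) (l := 5) rfl N11308 D34659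
theorem N23044 : nd 23044 = n34660 := ndS (p := 11308) (l := 6) rfl N11308 D34660
theorem N23045 : nd 23045 = n34663 := ndS (p := 11309) (l := 4) rfl N11309 D34663
theorem N23046 : nd 23046 = n34664 := ndS (p := 11310) (l := 5) rfl N11310 D34664
theorem N23047 : nd 23047 = n34665 := ndS (p := 11311) (l := 4) rfl N11311 D34665
theorem N23048 : nd 23048 = n34667 := ndS (p := 11312) (l := 0) rfl N11312 D34667
theorem N23049 : nd 23049 = n34668 := ndS (p := 11312) (l := 1) rfl N11312 D34668
theorem N23050 : nd 23050 = n34669 := ndS (p := 11312) (l := 3) rfl N11312 D34669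
theorem N23051 : nd 23051 = n34670 := ndS (p := 11312) (l := 5) rfl N11312 D34670
theorem N23052 : nd 23052 = n34671 := ndS (p := 11313) (l := 0) rfl N11313 D34671
theorem N23053 : nd 23053 = n34672 := ndS (p := 11313) (l := 1) rfl N11313 D34672
theorem N23054 : nd 23054 = n34673 := ndS (p := 11313) (l := 7) rfl N11313 D34673
theorem N23055 : nd 23055 = n34677 := ndS (p := 11314) (l := 5) rfl N11314 D34677
theorem N23056 : nd 23056 = n34678 := ndS (p := 11314) (l := 6) rfl N11314 D34678
theorem N23057 : nd 23057 = n34680 := ndS (p := 11315) (l := 3) rfl N11315 D34680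
theorem N23058 : nd 23058 = n34681 := ndS (p := 11315) (l := 4) rfl N11315 D34681
theorem N23059 : nd 23059 = n34682 := ndS (p := 11315) (l := 5) rfl N11315 D34682
theorem N23060 : nd 23060 = n34683 := ndS (p := 11315) (l := 6) rfl N11315 D34683
theorem N23061 : nd 23061 = n34684 := ndS (p := 11316) (l := 0) rfl N11316 D34684
theorem N23062 : nd 23062 = n34685 := ndS (p := 11316) (l := 1) rfl N11316 D34685
theorem N23063 : nd 23063 = n34686 := ndS (p := 11316) (l := 4) rfl N11316 D34686
theorem N23064 : nd 23064 = n34687 := ndS (p := 11316) (l := 7) rfl N11316 D34687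
theorem N23065 : nd 23065 = n34691 := ndS (p := 11318) (l := 4) rfl N11318 D34691
theorem N23066 : nd 23066 = n34692 := ndS (p := 11318) (l := 5) rfl N11318 D34692
theorem N23067 : nd 23067 = n34693 := ndS (p := 11319) (l := 1) rfl N11319 D34693
theorem N23068 : nd 23068 = n34694 := ndS (p := 11319) (l := 4) rfl N11319 D34694
theorem N23069 : nd 23069 = n34699 := ndS (p := 11320) (l := 5) rfl N11320 D34699
theorem N23070 : nd 23070 = n34701 := ndS (p := 11321) (l := 4) rfl N11321 D34701
theorem N23071 : nd 23071 = n34702 := ndS (p := 11321) (l := 6) rfl N11321 D34702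
theorem N23072 : nd 23072 = n34703 := ndS (p := 11323) (l := 3) rfl N11323 D34703
theorem N23073 : nd 23073 = n34704 := ndS (p := 11323) (l := 4) rfl N11323 D34704
theorem N23074 : nd 23074 = n34705 := ndS (p := 11323) (l := 6) rfl N11323 D34705
theorem N23075 : nd 23075 = n34706 := ndS (p := 11324) (l := 3) rfl N11324 D34706
theorem N23076 : nd 23076 = n34707 := ndS (p := 11324) (l := 4) rfl N11324 D34707
theorem N23077 : nd 23077 = n34708 := ndS (p := 11324) (l := 6) rfl N11324 D34708
theorem N23078 : nd 23078 = n34709 := ndS (p := 11325) (l := 0) rfl N11325 D34709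
theorem N23079 : nd 23079 = n34710 := ndS (p := 11325) (l := 1) rfl N11325 D34710
theorem N23080 : nd 23080 = n34711 := ndS (p := 11325) (l := 3) rfl N11325 D34711
theorem N23081 : nd 23081 = n34712 := ndS (p := 11326) (l := 6) rfl N11326 D34712
theorem N23082 : nd 23082 = n34715 := ndS (p := 11327) (l := 4) rfl N11327 D34715
theorem N23083 : nd 23083 = n34725 := ndS (p := 11328) (l := 6) rfl N11328 D34725
theorem N23084 : nd 23084 = n34726 := ndS (p := 11329) (l := 0) rfl N11329 D34726
theorem N23085 : nd 23085 = n34728 := ndS (p := 11329) (l := 3) rfl N11329 D34728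
theorem N23086 : nd 23086 = n34730 := ndS (p := 11329) (l := 6) rfl N11329 D34730
theorem N23087 : nd 23087 = n34731 := ndS (p := 11330) (l := 0) rfl N11330 D34731
theorem N23088 : nd 23088 = n34734 := ndS (p := 11330) (l := 6) rfl N11330 D34734
theorem N23089 : nd 23089 = n34735 := ndS (p := 11331) (l := 0) rfl N11331 D34735
theorem N23090 : nd 23090 = n34736 := ndS (p := 11331) (l := 1) rfl N11331 D34736
theorem N23091 : nd 23091 = n34737 := ndS (p := 11331) (l := 7) rfl N11331 D34737
theorem N23092 : nd 23092 = n34741 := ndS (p := 11332) (l := 5) rfl N11332 D34741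
theorem N23093 : nd 23093 = n34742 := ndS (p := 11332) (l := 6) rfl N11332 D34742
theorem N23094 : nd 23094 = n34743 := ndS (p := 11333) (l := 1) rfl N11333 D34743
theorem N23095 : nd 23095 = n34744 := ndS (p := 11333) (l := 4) rfl N11333 D34744
theorem N23096 : nd 23096 = n34745 := ndS (p := 11333) (l := 6) rfl N11333 D34745
theorem N23097 : nd 23097 = n34756 := ndS (p := 11340) (l := 4) rfl N11340 D34756
theorem N23098 : nd 23098 = n34759 := ndS (p := 11341) (l := 4) rfl N11341 D34759
theorem N23099 : nd 23099 = n34763 := ndS (p := 11342) (l := 1) rfl N11342 D34763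
theorem N23100 : nd 23100 = n34764 := ndS (p := 11342) (l := 3) rfl N11342 D34764
theorem N23101 : nd 23101 = n34765 := ndS (p := 11342) (l := 5) rfl N11342 D34765
theorem N23102 : nd 23102 = n34766 := ndS (p := 11342) (l := 6) rfl N11342 D34766
theorem N23103 : nd 23103 = n34772 := ndS (p := 11343) (l := 5) rfl N11343 D34772
theorem N23104 : nd 23104 = n34777 := ndS (p := 11344) (l := 5) rfl N11344 D34777
theorem N23105 : nd 23105 = n34778 := ndS (p := 11344) (l := 6) rfl N11344 D34778
theorem N23106 : nd 23106 = n34779 := ndS (p := 11345) (l := 4) rfl N11345 D34779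
theorem N23107 : nd 23107 = n34780 := ndS (p := 11345) (l := 6) rfl N11345 D34780
theorem N23108 : nd 23108 = n34781 := ndS (p := 11347) (l := 3) rfl N11347 D34781
theorem N23109 : nd 23109 = n34783 := ndS (p := 11349) (l := 4) rfl N11349 D34783
theorem N23110 : nd 23110 = n34784 := ndS (p := 11351) (l := 4) rfl N11351 D34784
theorem N23111 : nd 23111 = n34789 := ndS (p := 11352) (l := 5) rfl N11352 D34789
theorem N23112 : nd 23112 = n34790 := ndS (p := 11353) (l := 4) rfl N11353 D34790
theorem N23113 : nd 23113 = n34794 := ndS (p := 11354) (l := 4) rfl N11354 D34794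
theorem N23114 : nd 23114 = n34795 := ndS (p := 11354) (l := 5) rfl N11354 D34795
theorem N23115 : nd 23115 = n34796 := ndS (p := 11354) (l := 6) rfl N11354 D34796
theorem N23116 : nd 23116 = n34797 := ndS (p := 11355) (l := 4) rfl N11355 D34797
theorem N23117 : nd 23117 = n34798 := ndS (p := 11357) (l := 3) rfl N11357 D34798
theorem N23118 : nd 23118 = n34799 := ndS (p := 11357) (l := 4) rfl N11357 D34799
theorem N23119 : nd 23119 = n34800 := ndS (p := 11357) (l := 6) rfl N11357 D34800
theorem N23120 : nd 23120 = n34801 := ndS (p := 11358) (l := 3) rfl N11358 D34801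
theorem N23121 : nd 23121 = n34802 := ndS (p := 11358) (l := 4) rfl N11358 D34802
theorem N23122 : nd 23122 = n34803 := ndS (p := 11358) (l := 6) rfl N11358 D34803
theorem N23123 : nd 23123 = n34804 := ndS (p := 11359) (l := 0) rfl N11359 D34804
theorem N23124 : nd 23124 = n34805 := ndS (p := 11359) (l := 1) rfl N11359 D34805
theorem N23125 : nd 23125 = n34806 := ndS (p := 11359) (l := 3) rfl N11359 D34806
theorem N23126 : nd 23126 = n34807 := ndS (p := 11359) (l := 5) rfl N11359 D34807
theorem N23127 : nd 23127 = n34808 := ndS (p := 11360) (l := 0) rfl N11360 D34808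
theorem N23128 : nd 23128 = n34809 := ndS (p := 11360) (l := 1) rfl N11360 D34809
theorem N23129 : nd 23129 = n34810 := ndS (p := 11360) (l := 2) rfl N11360 D34810
theorem N23130 : nd 23130 = n34811 := ndS (p := 11363) (l := 5) rfl N11363 D34811
theorem N23131 : nd 23131 = n34812 := ndS (p := 11364) (l := 3) rfl N11364 D34812
theorem N23132 : nd 23132 = n34813 := ndS (p := 11364) (l := 5) rfl N11364 D34813
theorem N23133 : nd 23133 = n34814 := ndS (p := 11365) (l := 5) rfl N11365 D34814
theorem N23134 : nd 23134 = n34815 := ndS (p := 11366) (l := 0) rfl N11366 D34815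
theorem N23135 : nd 23135 = n34816 := ndS (p := 11366) (l := 1) rfl N11366 D34816
theorem N23136 : nd 23136 = n34817 := ndS (p := 11366) (l := 4) rfl N11366 D34817
theorem N23137 : nd 23137 = n34818 := ndS (p := 11366) (l := 7) rfl N11366 D34818
theorem N23138 : nd 23138 = n34819 := ndS (p := 11368) (l := 3) rfl N11368 D34819
theorem N23139 : nd 23139 = n34820 := ndS (p := 11368) (l := 5) rfl N11368 D34820
theorem N23140 : nd 23140 = n34821 := ndS (p := 11369) (l := 5) rfl N11369 D34821
theorem N23141 : nd 23141 = n34822 := ndS (p := 11369) (l := 6) rfl N11369 D34822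
theorem N23142 : nd 23142 = n34824 := ndS (p := 11372) (l := 5) rfl N11372 D34824
theorem N23143 : nd 23143 = n34825 := ndS (p := 11373) (l := 0) rfl N11373 D34825
theorem N23144 : nd 23144 = n34826 := ndS (p := 11373) (l := 5) rfl N11373 D34826
theorem N23145 : nd 23145 = n34827 := ndS (p := 11373) (l := 7) rfl N11373 D34827
theorem N23146 : nd 23146 = n34828 := ndS (p := 11374) (l := 4) rfl N11374 D34828
theorem N23147 : nd 23147 = n34829 := ndS (p := 11374) (l := 5) rfl N11374 D34829
theorem N23148 : nd 23148 = n34830 := ndS (p := 11375) (l := 3) rfl N11375 D34830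
theorem N23149 : nd 23149 = n34831 := ndS (p := 11375) (l := 4) rfl N11375 D34831
theorem N23150 : nd 23150 = n34832 := ndS (p := 11375) (l := 5) rfl N11375 D34832
theorem N23151 : nd 23151 = n34833 := ndS (p := 11376) (l := 0) rfl N11376 D34833
theorem N23152 : nd 23152 = n34834 := ndS (p := 11376) (l := 1) rfl N11376 D34834
theorem N23153 : nd 23153 = n34835 := ndS (p := 11376) (l := 4) rfl N11376 D34835
theorem N23154 : nd 23154 = n34836 := ndS (p := 11376) (l := 7) rfl N11376 D34836
theorem N23155 : nd 23155 = n34837 := ndS (p := 11378) (l := 3) rfl N11378 D34837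
theorem N23156 : nd 23156 = n34838 := ndS (p := 11379) (l := 6) rfl N11379 D34838
theorem N23157 : nd 23157 = n34839 := ndS (p := 11381) (l := 5) rfl N11381 D34839
theorem N23158 : nd 23158 = n34840 := ndS (p := 11383) (l := 4) rfl N11383 D34840
theorem N23159 : nd 23159 = n34841 := ndS (p := 11383) (l := 6) rfl N11383 D34841
theorem N23160 : nd 23160 = n34842 := ndS (p := 11384) (l := 0) rfl N11384 D34842
theorem N23161 : nd 23161 = n34843 := ndS (p := 11384) (l := 1) rfl N11384 D34843
theorem N23162 : nd 23162 = n34844 := ndS (p := 11384) (l := 5) rfl N11384 D34844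
theorem N23163 : nd 23163 = n34845 := ndS (p := 11384) (l := 7) rfl N11384 D34845
theorem N23164 : nd 23164 = n34846 := ndS (p := 11385) (l := 0) rfl N11385 D34846
theorem N23165 : nd 23165 = n34847 := ndS (p := 11385) (l := 1) rfl N11385 D34847
theorem N23166 : nd 23166 = n34848 := ndS (p := 11385) (l := 4) rfl N11385 D34848
theorem N23167 : nd 23167 = n34849 := ndS (p := 11385) (l := 7) rfl N11385 D34849
theorem N23168 : nd 23168 = n34851 := ndS (p := 11388) (l := 3) rfl N11388 D34851
theorem N23169 : nd 23169 = n34852 := ndS (p := 11388) (l := 4) rfl N11388 D34852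
theorem N23170 : nd 23170 = n34854 := ndS (p := 11388) (l := 6) rfl N11388 D34854
theorem N23171 : nd 23171 = n34856 := ndS (p := 11389) (l := 3) rfl N11389 D34856
theorem N23172 : nd 23172 = n34857 := ndS (p := 11389) (l := 4) rfl N11389 D34857
theorem N23173 : nd 23173 = n34858 := ndS (p := 11389) (l := 6) rfl N11389 D34858
theorem N23174 : nd 23174 = n34859 := ndS (p := 11390) (l := 5) rfl N11390 D34859
theorem N23175 : nd 23175 = n34860 := ndS (p := 11391) (l := 0) rfl N11391 D34860
theorem N23176 : nd 23176 = n34861 := ndS (p := 11391) (l := 1) rfl N11391 D34861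
theorem N23177 : nd 23177 = n34862 := ndS (p := 11391) (l := 4) rfl N11391 D34862
theorem N23178 : nd 23178 = n34863 := ndS (p := 11392) (l := 0) rfl N11392 D34863
theorem N23179 : nd 23179 = n34864 := ndS (p := 11392) (l := 1) rfl N11392 D34864
theorem N23180 : nd 23180 = n34865 := ndS (p := 11392) (l := 7) rfl N11392 D34865
theorem N23181 : nd 23181 = n34866 := ndS (p := 11395) (l := 4) rfl N11395 D34866
theorem N23182 : nd 23182 = n34867 := ndS (p := 11395) (l := 6) rfl N11395 D34867
theorem N23183 : nd 23183 = n34868 := ndS (p := 11396) (l := 0) rfl N11396 D34868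
theorem N23184 : nd 23184 = n34869 := ndS (p := 11396) (l := 1) rfl N11396 D34869
theorem N23185 : nd 23185 = n34870 := ndS (p := 11396) (l := 5) rfl N11396 D34870
theorem N23186 : nd 23186 = n34871 := ndS (p := 11396) (l := 7) rfl N11396 D34871
theorem N23187 : nd 23187 = n34872 := ndS (p := 11397) (l := 0) rfl N11397 D34872
theorem N23188 : nd 23188 = n34873 := ndS (p := 11397) (l := 1) rfl N11397 D34873
theorem N23189 : nd 23189 = n34874 := ndS (p := 11397) (l := 4) rfl N11397 D34874
theorem N23190 : nd 23190 = n34875 := ndS (p := 11397) (l := 7) rfl N11397 D34875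
theorem N23191 : nd 23191 = n34876 := ndS (p := 11399) (l := 3) rfl N11399 D34876
theorem N23192 : nd 23192 = n34877 := ndS (p := 11399) (l := 5) rfl N11399 D34877
theorem N23193 : nd 23193 = n34878 := ndS (p := 11399) (l := 6) rfl N11399 D34878
theorem N23194 : nd 23194 = n34879 := ndS (p := 11400) (l := 4) rfl N11400 D34879
theorem N23195 : nd 23195 = n34880 := ndS (p := 11402) (l := 5) rfl N11402 D34880
theorem N23196 : nd 23196 = n34881 := ndS (p := 11403) (l := 4) rfl N11403 D34881
theorem N23197 : nd 23197 = n34882 := ndS (p := 11403) (l := 6) rfl N11403 D34882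
theorem N23198 : nd 23198 = n34883 := ndS (p := 11406) (l := 1) rfl N11406 D34883
theorem N23199 : nd 23199 = n34884 := ndS (p := 11406) (l := 6) rfl N11406 D34884
theorem N23200 : nd 23200 = n34885 := ndS (p := 11407) (l := 0) rfl N11407 D34885
theorem N23201 : nd 23201 = n34886 := ndS (p := 11407) (l := 1) rfl N11407 D34886
theorem N23202 : nd 23202 = n34887 := ndS (p := 11407) (l := 7) rfl N11407 D34887
theorem N23203 : nd 23203 = n34888 := ndS (p := 11409) (l := 5) rfl N11409 D34888
theorem N23204 : nd 23204 = n34889 := ndS (p := 11409) (l := 6) rfl N11409 D34889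
theorem N23205 : nd 23205 = n34890 := ndS (p := 11410) (l := 4) rfl N11410 D34890
theorem N23206 : nd 23206 = n34891 := ndS (p := 11410) (l := 6) rfl N11410 D34891
theorem N23207 : nd 23207 = n34892 := ndS (p := 11411) (l := 1) rfl N11411 D34892
theorem N23208 : nd 23208 = n34893 := ndS (p := 11411) (l := 5) rfl N11411 D34893
theorem N23209 : nd 23209 = n34894 := ndS (p := 11411) (l := 7) rfl N11411 D34894
theorem N23210 : nd 23210 = n34895 := ndS (p := 11412) (l := 0) rfl N11412 D34895
theorem N23211 : nd 23211 = n34896 := ndS (p := 11412) (l := 1) rfl N11412 D34896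
theorem N23212 : nd 23212 = n34897 := ndS (p := 11412) (l := 5) rfl N11412 D34897
theorem N23213 : nd 23213 = n34898 := ndS (p := 11412) (l := 7) rfl N11412 D34898
theorem N23214 : nd 23214 = n34899 := ndS (p := 11413) (l := 0) rfl N11413 D34899
theorem N23215 : nd 23215 = n34900 := ndS (p := 11413) (l := 4) rfl N11413 D34900
theorem N23216 : nd 23216 = n34901 := ndS (p := 11413) (l := 7) rfl N11413 D34901
theorem N23217 : nd 23217 = n34902 := ndS (p := 11416) (l := 6) rfl N11416 D34902
theorem N23218 : nd 23218 = n34903 := ndS (p := 11417) (l := 0) rfl N11417 D34903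
theorem N23219 : nd 23219 = n34904 := ndS (p := 11417) (l := 5) rfl N11417 D34904
theorem N23220 : nd 23220 = n34905 := ndS (p := 11417) (l := 7) rfl N11417 D34905
theorem N23221 : nd 23221 = n34906 := ndS (p := 11418) (l := 4) rfl N11418 D34906
theorem N23222 : nd 23222 = n34907 := ndS (p := 11418) (l := 6) rfl N11418 D34907
theorem N23223 : nd 23223 = n34908 := ndS (p := 11419) (l := 1) rfl N11419 D34908
theorem N23224 : nd 23224 = n34909 := ndS (p := 11419) (l := 5) rfl N11419 D34909
theorem N23225 : nd 23225 = n34910 := ndS (p := 11420) (l := 4) rfl N11420 D34910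
theorem N23226 : nd 23226 = n34911 := ndS (p := 11420) (l := 6) rfl N11420 D34911
theorem N23227 : nd 23227 = n34912 := ndS (p := 11421) (l := 1) rfl N11421 D34912
theorem N23228 : nd 23228 = n34913 := ndS (p := 11422) (l := 5) rfl N11422 D34913
theorem N23229 : nd 23229 = n34914 := ndS (p := 11422) (l := 6) rfl N11422 D34914
theorem N23230 : nd 23230 = n34915 := ndS (p := 11423) (l := 0) rfl N11423 D34915
theorem N23231 : nd 23231 = n34916 := ndS (p := 11423) (l := 1) rfl N11423 D34916
theorem N23232 : nd 23232 = n34917 := ndS (p := 11423) (l := 5) rfl N11423 D34917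
theorem N23233 : nd 23233 = n34918 := ndS (p := 11423) (l := 7) rfl N11423 D34918
theorem N23234 : nd 23234 = n34919 := ndS (p := 11424) (l := 3) rfl N11424 D34919
theorem N23235 : nd 23235 = n34920 := ndS (p := 11424) (l := 6) rfl N11424 D34920
theorem N23236 : nd 23236 = n34921 := ndS (p := 11425) (l := 6) rfl N11425 D34921
theorem N23237 : nd 23237 = n34923 := ndS (p := 11428) (l := 3) rfl N11428 D34923
theorem N23238 : nd 23238 = n34925 := ndS (p := 11428) (l := 5) rfl N11428 D34925
theorem N23239 : nd 23239 = n34926 := ndS (p := 11428) (l := 6) rfl N11428 D34926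
theorem N23240 : nd 23240 = n34928 := ndS (p := 11429) (l := 3) rfl N11429 D34928
theorem N23241 : nd 23241 = n34930 := ndS (p := 11429) (l := 5) rfl N11429 D34930
theorem N23242 : nd 23242 = n34931 := ndS (p := 11429) (l := 6) rfl N11429 D34931
theorem N23243 : nd 23243 = n34932 := ndS (p := 11430) (l := 0) rfl N11430 D34932
theorem N23244 : nd 23244 = n34933 := ndS (p := 11430) (l := 1) rfl N11430 D34933
theorem N23245 : nd 23245 = n34934 := ndS (p := 11430) (l := 4) rfl N11430 D34934
theorem N23246 : nd 23246 = n34935 := ndS (p := 11430) (l := 7) rfl N11430 D34935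
theorem N23247 : nd 23247 = n34936 := ndS (p := 11432) (l := 6) rfl N11432 D34936
theorem N23248 : nd 23248 = n34937 := ndS (p := 11434) (l := 1) rfl N11434 D34937
theorem N23249 : nd 23249 = n34938 := ndS (p := 11434) (l := 5) rfl N11434 D34938
theorem N23250 : nd 23250 = n34939 := ndS (p := 11434) (l := 6) rfl N11434 D34939
theorem N23251 : nd 23251 = n34940 := ndS (p := 11435) (l := 6) rfl N11435 D34940
theorem N23252 : nd 23252 = n34941 := ndS (p := 11436) (l := 5) rfl N11436 D34941
theorem N23253 : nd 23253 = n34942 := ndS (p := 11437) (l := 6) rfl N11437 D34942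
theorem N23254 : nd 23254 = n34943 := ndS (p := 11438) (l := 3) rfl N11438 D34943
theorem N23255 : nd 23255 = n34944 := ndS (p := 11438) (l := 6) rfl N11438 D34944
theorem N23256 : nd 23256 = n34945 := ndS (p := 11439) (l := 5) rfl N11439 D34945
theorem N23257 : nd 23257 = n34946 := ndS (p := 11440) (l := 6) rfl N11440 D34946
theorem N23258 : nd 23258 = n34947 := ndS (p := 11441) (l := 6) rfl N11441 D34947
theorem N23259 : nd 23259 = n34949 := ndS (p := 11443) (l := 5) rfl N11443 D34949
theorem N23260 : nd 23260 = n34950 := ndS (p := 11443) (l := 6) rfl N11443 D34950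
theorem N23261 : nd 23261 = n34951 := ndS (p := 11444) (l := 6) rfl N11444 D34951
theorem N23262 : nd 23262 = n34952 := ndS (p := 11445) (l := 5) rfl N11445 D34952
theorem N23263 : nd 23263 = n34953 := ndS (p := 11445) (l := 7) rfl N11445 D34953
theorem N23264 : nd 23264 = n34954 := ndS (p := 11447) (l := 3) rfl N11447 D34954
theorem N23265 : nd 23265 = n34955 := ndS (p := 11447) (l := 5) rfl N11447 D34955
theorem N23266 : nd 23266 = n34956 := ndS (p := 11449) (l := 5) rfl N11449 D34956
theorem N23267 : nd 23267 = n34957 := ndS (p := 11450) (l := 5) rfl N11450 D34957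
theorem N23268 : nd 23268 = n34958 := ndS (p := 11451) (l := 6) rfl N11451 D34958
theorem N23269 : nd 23269 = n34959 := ndS (p := 11452) (l := 5) rfl N11452 D34959
theorem N23270 : nd 23270 = n34960 := ndS (p := 11452) (l := 6) rfl N11452 D34960
theorem N23271 : nd 23271 = n34961 := ndS (p := 11453) (l := 5) rfl N11453 D34961
theorem N23272 : nd 23272 = n34962 := ndS (p := 11454) (l := 0) rfl N11454 D34962
theorem N23273 : nd 23273 = n34963 := ndS (p := 11454) (l := 1) rfl N11454 D34963
theorem N23274 : nd 23274 = n34964 := ndS (p := 11454) (l := 5) rfl N11454 D34964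
theorem N23275 : nd 23275 = n34965 := ndS (p := 11454) (l := 7) rfl N11454 D34965
theorem N23276 : nd 23276 = n34967 := ndS (p := 11455) (l := 4) rfl N11455 D34967
theorem N23277 : nd 23277 = n34968 := ndS (p := 11455) (l := 5) rfl N11455 D34968
theorem N23278 : nd 23278 = n34969 := ndS (p := 11455) (l := 6) rfl N11455 D34969
theorem N23279 : nd 23279 = n34971 := ndS (p := 11456) (l := 3) rfl N11456 D34971
theorem N23280 : nd 23280 = n34972 := ndS (p := 11456) (l := 4) rfl N11456 D34972
theorem N23281 : nd 23281 = n34973 := ndS (p := 11456) (l := 5) rfl N11456 D34973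
theorem N23282 : nd 23282 = n34974 := ndS (p := 11457) (l := 1) rfl N11457 D34974
theorem N23283 : nd 23283 = n34975 := ndS (p := 11457) (l := 4) rfl N11457 D34975
theorem N23284 : nd 23284 = n34976 := ndS (p := 11459) (l := 3) rfl N11459 D34976
theorem N23285 : nd 23285 = n34977 := ndS (p := 11460) (l := 6) rfl N11460 D34977
theorem N23286 : nd 23286 = n34978 := ndS (p := 11461) (l := 0) rfl N11461 D34978
theorem N23287 : nd 23287 = n34979 := ndS (p := 11461) (l := 5) rfl N11461 D34979
theorem N23288 : nd 23288 = n34980 := ndS (p := 11464) (l := 5) rfl N11464 D34980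
theorem N23289 : nd 23289 = n34981 := ndS (p := 11465) (l := 0) rfl N11465 D34981
theorem N23290 : nd 23290 = n34982 := ndS (p := 11465) (l := 1) rfl N11465 D34982
theorem N23291 : nd 23291 = n34983 := ndS (p := 11465) (l := 4) rfl N11465 D34983
theorem N23292 : nd 23292 = n34984 := ndS (p := 11465) (l := 6) rfl N11465 D34984
theorem N23293 : nd 23293 = n34985 := ndS (p := 11466) (l := 5) rfl N11466 D34985
theorem N23294 : nd 23294 = n34986 := ndS (p := 11466) (l := 7) rfl N11466 D34986
theorem N23295 : nd 23295 = n34987 := ndS (p := 11467) (l := 0) rfl N11467 D34987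
theorem N23296 : nd 23296 = n34988 := ndS (p := 11467) (l := 1) rfl N11467 D34988
theorem N23297 : nd 23297 = n34989 := ndS (p := 11467) (l := 6) rfl N11467 D34989
theorem N23298 : nd 23298 = n34990 := ndS (p := 11468) (l := 0) rfl N11468 D34990
theorem N23299 : nd 23299 = n34992 := ndS (p := 11468) (l := 5) rfl N11468 D34992
theorem N23300 : nd 23300 = n34993 := ndS (p := 11468) (l := 7) rfl N11468 D34993
theorem N23301 : nd 23301 = n34994 := ndS (p := 11469) (l := 6) rfl N11469 D34994
theorem N23302 : nd 23302 = n34995 := ndS (p := 11470) (l := 0) rfl N11470 D34995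
theorem N23303 : nd 23303 = n34996 := ndS (p := 11470) (l := 4) rfl N11470 D34996
theorem N23304 : nd 23304 = n34997 := ndS (p := 11470) (l := 7) rfl N11470 D34997
theorem N23305 : nd 23305 = n34998 := ndS (p := 11472) (l := 5) rfl N11472 D34998
theorem N23306 : nd 23306 = n34999 := ndS (p := 11472) (l := 6) rfl N11472 D34999
theorem N23307 : nd 23307 = n35000 := ndS (p := 11473) (l := 4) rfl N11473 D35000
theorem N23308 : nd 23308 = n35001 := ndS (p := 11473) (l := 6) rfl N11473 D35001
theorem N23309 : nd 23309 = n35002 := ndS (p := 11475) (l := 4) rfl N11475 D35002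
theorem N23310 : nd 23310 = n35003 := ndS (p := 11475) (l := 6) rfl N11475 D35003
theorem N23311 : nd 23311 = n35004 := ndS (p := 11476) (l := 0) rfl N11476 D35004
theorem N23312 : nd 23312 = n35005 := ndS (p := 11476) (l := 1) rfl N11476 D35005
theorem N23313 : nd 23313 = n35006 := ndS (p := 11476) (l := 5) rfl N11476 D35006
theorem N23314 : nd 23314 = n35007 := ndS (p := 11476) (l := 7) rfl N11476 D35007
theorem N23315 : nd 23315 = n35009 := ndS (p := 11477) (l := 5) rfl N11477 D35009
theorem N23316 : nd 23316 = n35010 := ndS (p := 11477) (l := 6) rfl N11477 D35010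
theorem N23317 : nd 23317 = n35012 := ndS (p := 11478) (l := 1) rfl N11478 D35012
theorem N23318 : nd 23318 = n35013 := ndS (p := 11478) (l := 5) rfl N11478 D35013
theorem N23319 : nd 23319 = n35014 := ndS (p := 11478) (l := 7) rfl N11478 D35014
theorem N23320 : nd 23320 = n35015 := ndS (p := 11479) (l := 5) rfl N11479 D35015
theorem N23321 : nd 23321 = n35016 := ndS (p := 11479) (l := 6) rfl N11479 D35016
theorem N23322 : nd 23322 = n35017 := ndS (p := 11480) (l := 1) rfl N11480 D35017
theorem N23323 : nd 23323 = n35018 := ndS (p := 11480) (l := 4) rfl N11480 D35018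
theorem N23324 : nd 23324 = n35019 := ndS (p := 11480) (l := 7) rfl N11480 D35019
theorem N23325 : nd 23325 = n35020 := ndS (p := 11482) (l := 5) rfl N11482 D35020
theorem N23326 : nd 23326 = n35021 := ndS (p := 11482) (l := 6) rfl N11482 D35021
theorem N23327 : nd 23327 = n35022 := ndS (p := 11483) (l := 4) rfl N11483 D35022
theorem N23328 : nd 23328 = n35023 := ndS (p := 11483) (l := 5) rfl N11483 D35023
theorem N23329 : nd 23329 = n35024 := ndS (p := 11483) (l := 6) rfl N11483 D35024
theorem N23330 : nd 23330 = n35025 := ndS (p := 11484) (l := 0) rfl N11484 D35025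
theorem N23331 : nd 23331 = n35026 := ndS (p := 11484) (l := 4) rfl N11484 D35026
theorem N23332 : nd 23332 = n35027 := ndS (p := 11484) (l := 7) rfl N11484 D35027
theorem N23333 : nd 23333 = n35028 := ndS (p := 11486) (l := 5) rfl N11486 D35028
theorem N23334 : nd 23334 = n35029 := ndS (p := 11486) (l := 6) rfl N11486 D35029
theorem N23335 : nd 23335 = n35030 := ndS (p := 11487) (l := 6) rfl N11487 D35030
theorem N23336 : nd 23336 = n35031 := ndS (p := 11488) (l := 0) rfl N11488 D35031
theorem N23337 : nd 23337 = n35032 := ndS (p := 11488) (l := 4) rfl N11488 D35032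
theorem N23338 : nd 23338 = n35034 := ndS (p := 11489) (l := 5) rfl N11489 D35034
theorem N23339 : nd 23339 = n35035 := ndS (p := 11489) (l := 7) rfl N11489 D35035
theorem N23340 : nd 23340 = n35036 := ndS (p := 11490) (l := 6) rfl N11490 D35036
theorem N23341 : nd 23341 = n35037 := ndS (p := 11491) (l := 4) rfl N11491 D35037
theorem N23342 : nd 23342 = n35038 := ndS (p := 11491) (l := 6) rfl N11491 D35038
theorem N23343 : nd 23343 = n35040 := ndS (p := 11492) (l := 5) rfl N11492 D35040
theorem N23344 : nd 23344 = n35041 := ndS (p := 11492) (l := 7) rfl N11492 D35041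
theorem N23345 : nd 23345 = n35042 := ndS (p := 11493) (l := 3) rfl N11493 D35042
theorem N23346 : nd 23346 = n35043 := ndS (p := 11493) (l := 4) rfl N11493 D35043
theorem N23347 : nd 23347 = n35044 := ndS (p := 11493) (l := 6) rfl N11493 D35044
theorem N23348 : nd 23348 = n35046 := ndS (p := 11494) (l := 4) rfl N11494 D35046
theorem N23349 : nd 23349 = n35047 := ndS (p := 11494) (l := 6) rfl N11494 D35047
theorem N23350 : nd 23350 = n35048 := ndS (p := 11495) (l := 0) rfl N11495 D35048
theorem N23351 : nd 23351 = n35049 := ndS (p := 11495) (l := 1) rfl N11495 D35049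
theorem N23352 : nd 23352 = n35050 := ndS (p := 11495) (l := 3) rfl N11495 D35050
theorem N23353 : nd 23353 = n35051 := ndS (p := 11495) (l := 5) rfl N11495 D35051
theorem N23354 : nd 23354 = n35052 := ndS (p := 11495) (l := 7) rfl N11495 D35052
theorem N23355 : nd 23355 = n35053 := ndS (p := 11496) (l := 6) rfl N11496 D35053
theorem N23356 : nd 23356 = n35054 := ndS (p := 11497) (l := 4) rfl N11497 D35054
theorem N23357 : nd 23357 = n35055 := ndS (p := 11497) (l := 6) rfl N11497 D35055
theorem N23358 : nd 23358 = n35057 := ndS (p := 11498) (l := 1) rfl N11498 D35057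
theorem N23359 : nd 23359 = n35058 := ndS (p := 11498) (l := 7) rfl N11498 D35058
theorem N23360 : nd 23360 = n35059 := ndS (p := 11499) (l := 4) rfl N11499 D35059
theorem N23361 : nd 23361 = n35060 := ndS (p := 11499) (l := 6) rfl N11499 D35060
theorem N23362 : nd 23362 = n35064 := ndS (p := 11501) (l := 3) rfl N11501 D35064
theorem N23363 : nd 23363 = n35068 := ndS (p := 11502) (l := 0) rfl N11502 D35068
theorem N23364 : nd 23364 = n35069 := ndS (p := 11502) (l := 1) rfl N11502 D35069
theorem N23365 : nd 23365 = n35070 := ndS (p := 11502) (l := 2) rfl N11502 D35070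
theorem N23366 : nd 23366 = n35071 := ndS (p := 11502) (l := 5) rfl N11502 D35071
theorem N23367 : nd 23367 = n35072 := ndS (p := 11502) (l := 7) rfl N11502 D35072
theorem N23368 : nd 23368 = n35073 := ndS (p := 11503) (l := 6) rfl N11503 D35073
theorem N23369 : nd 23369 = n35074 := ndS (p := 11504) (l := 6) rfl N11504 D35074
theorem N23370 : nd 23370 = n35075 := ndS (p := 11505) (l := 0) rfl N11505 D35075
theorem N23371 : nd 23371 = n35076 := ndS (p := 11505) (l := 1) rfl N11505 D35076
theorem N23372 : nd 23372 = n35077 := ndS (p := 11508) (l := 4) rfl N11508 D35077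
theorem N23373 : nd 23373 = n35078 := ndS (p := 11508) (l := 5) rfl N11508 D35078
theorem N23374 : nd 23374 = n35079 := ndS (p := 11509) (l := 5) rfl N11509 D35079
theorem N23375 : nd 23375 = n35080 := ndS (p := 11509) (l := 6) rfl N11509 D35080
theorem N23376 : nd 23376 = n35081 := ndS (p := 11510) (l := 0) rfl N11510 D35081
theorem N23377 : nd 23377 = n35082 := ndS (p := 11510) (l := 1) rfl N11510 D35082
theorem N23378 : nd 23378 = n35083 := ndS (p := 11510) (l := 4) rfl N11510 D35083
theorem N23379 : nd 23379 = n35085 := ndS (p := 11511) (l := 0) rfl N11511 D35085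
theorem N23380 : nd 23380 = n35086 := ndS (p := 11511) (l := 1) rfl N11511 D35086
theorem N23381 : nd 23381 = n35092 := ndS (p := 11512) (l := 5) rfl N11512 D35092
theorem N23382 : nd 23382 = n35093 := ndS (p := 11513) (l := 5) rfl N11513 D35093
theorem N23383 : nd 23383 = n35094 := ndS (p := 11513) (l := 6) rfl N11513 D35094
theorem N23384 : nd 23384 = n35095 := ndS (p := 11514) (l := 0) rfl N11514 D35095
theorem N23385 : nd 23385 = n35096 := ndS (p := 11514) (l := 6) rfl N11514 D35096
theorem N23386 : nd 23386 = n35097 := ndS (p := 11515) (l := 0) rfl N11515 D35097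
theorem N23387 : nd 23387 = n35098 := ndS (p := 11515) (l := 1) rfl N11515 D35098
theorem N23388 : nd 23388 = n35099 := ndS (p := 11516) (l := 3) rfl N11516 D35099
theorem N23389 : nd 23389 = n35104 := ndS (p := 11518) (l := 6) rfl N11518 D35104
theorem N23390 : nd 23390 = n35105 := ndS (p := 11519) (l := 5) rfl N11519 D35105
theorem N23391 : nd 23391 = n35106 := ndS (p := 11520) (l := 6) rfl N11520 D35106
theorem N23392 : nd 23392 = n35107 := ndS (p := 11521) (l := 5) rfl N11521 D35107
theorem N23393 : nd 23393 = n35108 := ndS (p := 11522) (l := 4) rfl N11522 D35108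
theorem N23394 : nd 23394 = n35109 := ndS (p := 11523) (l := 3) rfl N11523 D35109
theorem N23395 : nd 23395 = n35110 := ndS (p := 11523) (l := 6) rfl N11523 D35110
theorem N23396 : nd 23396 = n35112 := ndS (p := 11524) (l := 1) rfl N11524 D35112
theorem N23397 : nd 23397 = n35114 := ndS (p := 11524) (l := 7) rfl N11524 D35114
theorem N23398 : nd 23398 = n35115 := ndS (p := 11525) (l := 4) rfl N11525 D35115
theorem N23399 : nd 23399 = n35116 := ndS (p := 11526) (l := 6) rfl N11526 D35116
theorem N23400 : nd 23400 = n35117 := ndS (p := 11527) (l := 0) rfl N11527 D35117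
theorem N23401 : nd 23401 = n35118 := ndS (p := 11527) (l := 1) rfl N11527 D35118
theorem N23402 : nd 23402 = n35119 := ndS (p := 11527) (l := 5) rfl N11527 D35119
theorem N23403 : nd 23403 = n35120 := ndS (p := 11527) (l := 7) rfl N11527 D35120
theorem N23404 : nd 23404 = n35122 := ndS (p := 11528) (l := 3) rfl N11528 D35122
theorem N23405 : nd 23405 = n35123 := ndS (p := 11528) (l := 4) rfl N11528 D35123
theorem N23406 : nd 23406 = n35124 := ndS (p := 11528) (l := 5) rfl N11528 D35124
theorem N23407 : nd 23407 = n35128 := ndS (p := 11529) (l := 4) rfl N11529 D35128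
theorem N23408 : nd 23408 = n35129 := ndS (p := 11529) (l := 5) rfl N11529 D35129
theorem N23409 : nd 23409 = n35130 := ndS (p := 11529) (l := 6) rfl N11529 D35130
theorem N23410 : nd 23410 = n35133 := ndS (p := 11530) (l := 4) rfl N11530 D35133
theorem N23411 : nd 23411 = n35135 := ndS (p := 11532) (l := 5) rfl N11532 D35135
theorem N23412 : nd 23412 = n35136 := ndS (p := 11533) (l := 4) rfl N11533 D35136
theorem N23413 : nd 23413 = n35137 := ndS (p := 11533) (l := 6) rfl N11533 D35137
theorem N23414 : nd 23414 = n35138 := ndS (p := 11534) (l := 4) rfl N11534 D35138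
theorem N23415 : nd 23415 = n35139 := ndS (p := 11534) (l := 6) rfl N11534 D35139
theorem N23416 : nd 23416 = n35140 := ndS (p := 11535) (l := 0) rfl N11535 D35140
theorem N23417 : nd 23417 = n35141 := ndS (p := 11535) (l := 1) rfl N11535 D35141
theorem N23418 : nd 23418 = n35142 := ndS (p := 11535) (l := 3) rfl N11535 D35142
theorem N23419 : nd 23419 = n35143 := ndS (p := 11535) (l := 5) rfl N11535 D35143
theorem N23420 : nd 23420 = n35147 := ndS (p := 11536) (l := 4) rfl N11536 D35147
theorem N23421 : nd 23421 = n35148 := ndS (p := 11536) (l := 5) rfl N11536 D35148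
theorem N23422 : nd 23422 = n35149 := ndS (p := 11537) (l := 4) rfl N11537 D35149
theorem N23423 : nd 23423 = n35153 := ndS (p := 11538) (l := 4) rfl N11538 D35153
theorem N23424 : nd 23424 = n35154 := ndS (p := 11538) (l := 5) rfl N11538 D35154
theorem N23425 : nd 23425 = n35155 := ndS (p := 11538) (l := 6) rfl N11538 D35155
theorem N23426 : nd 23426 = n35156 := ndS (p := 11539) (l := 4) rfl N11539 D35156
theorem N23427 : nd 23427 = n35158 := ndS (p := 11541) (l := 4) rfl N11541 D35158
theorem N23428 : nd 23428 = n35160 := ndS (p := 11542) (l := 3) rfl N11542 D35160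
theorem N23429 : nd 23429 = n35161 := ndS (p := 11542) (l := 4) rfl N11542 D35161
theorem N23430 : nd 23430 = n35162 := ndS (p := 11542) (l := 6) rfl N11542 D35162
theorem N23431 : nd 23431 = n35164 := ndS (p := 11543) (l := 1) rfl N11543 D35164
theorem N23432 : nd 23432 = n35165 := ndS (p := 11543) (l := 3) rfl N11543 D35165
theorem N23433 : nd 23433 = n35166 := ndS (p := 11543) (l := 5) rfl N11543 D35166
theorem N23434 : nd 23434 = n35167 := ndS (p := 11543) (l := 7) rfl N11543 D35167
theorem N23435 : nd 23435 = n35168 := ndS (p := 11545) (l := 0) rfl N11545 D35168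
theorem N23436 : nd 23436 = n35169 := ndS (p := 11545) (l := 1) rfl N11545 D35169
theorem N23437 : nd 23437 = n35170 := ndS (p := 11545) (l := 2) rfl N11545 D35170
theorem N23438 : nd 23438 = n35172 := ndS (p := 11547) (l := 5) rfl N11547 D35172
theorem N23439 : nd 23439 = n35173 := ndS (p := 11548) (l := 1) rfl N11548 D35173
theorem N23440 : nd 23440 = n35174 := ndS (p := 11548) (l := 5) rfl N11548 D35174
theorem N23441 : nd 23441 = n35175 := ndS (p := 11548) (l := 6) rfl N11548 D35175
theorem N23442 : nd 23442 = n35178 := ndS (p := 11549) (l := 5) rfl N11549 D35178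
theorem N23443 : nd 23443 = n35180 := ndS (p := 11550) (l := 4) rfl N11550 D35180
theorem N23444 : nd 23444 = n35181 := ndS (p := 11552) (l := 3) rfl N11552 D35181
theorem N23445 : nd 23445 = n35182 := ndS (p := 11552) (l := 5) rfl N11552 D35182
theorem N23446 : nd 23446 = n35183 := ndS (p := 11552) (l := 6) rfl N11552 D35183
theorem N23447 : nd 23447 = n35186 := ndS (p := 11553) (l := 5) rfl N11553 D35186
theorem N23448 : nd 23448 = n35188 := ndS (p := 11554) (l := 4) rfl N11554 D35188
theorem N23449 : nd 23449 = n35189 := ndS (p := 11555) (l := 3) rfl N11555 D35189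
theorem N23450 : nd 23450 = n35190 := ndS (p := 11555) (l := 5) rfl N11555 D35190
theorem N23451 : nd 23451 = n35191 := ndS (p := 11555) (l := 6) rfl N11555 D35191
theorem N23452 : nd 23452 = n35192 := ndS (p := 11556) (l := 0) rfl N11556 D35192
theorem N23453 : nd 23453 = n35193 := ndS (p := 11556) (l := 1) rfl N11556 D35193
theorem N23454 : nd 23454 = n35194 := ndS (p := 11556) (l := 5) rfl N11556 D35194
theorem N23455 : nd 23455 = n35195 := ndS (p := 11556) (l := 7) rfl N11556 D35195
theorem N23456 : nd 23456 = n35196 := ndS (p := 11557) (l := 4) rfl N11557 D35196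
theorem N23457 : nd 23457 = n35197 := ndS (p := 11558) (l := 3) rfl N11558 D35197
theorem N23458 : nd 23458 = n35198 := ndS (p := 11558) (l := 5) rfl N11558 D35198
theorem N23459 : nd 23459 = n35210 := ndS (p := 11559) (l := 3) rfl N11559 D35210
theorem N23460 : nd 23460 = n35211 := ndS (p := 11559) (l := 5) rfl N11559 D35211
theorem N23461 : nd 23461 = n35213 := ndS (p := 11560) (l := 0) rfl N11560 D35213
theorem N23462 : nd 23462 = n35214 := ndS (p := 11560) (l := 4) rfl N11560 D35214
theorem N23463 : nd 23463 = n35215 := ndS (p := 11560) (l := 6) rfl N11560 D35215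
theorem N23464 : nd 23464 = n35217 := ndS (p := 11561) (l := 1) rfl N11561 D35217
theorem N23465 : nd 23465 = n35218 := ndS (p := 11561) (l := 5) rfl N11561 D35218
theorem N23466 : nd 23466 = n35219 := ndS (p := 11561) (l := 7) rfl N11561 D35219
theorem N23467 : nd 23467 = n35221 := ndS (p := 11562) (l := 3) rfl N11562 D35221
theorem N23468 : nd 23468 = n35222 := ndS (p := 11562) (l := 4) rfl N11562 D35222
theorem N23469 : nd 23469 = n35223 := ndS (p := 11562) (l := 5) rfl N11562 D35223
theorem N23470 : nd 23470 = n35226 := ndS (p := 11563) (l := 3) rfl N11563 D35226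
theorem N23471 : nd 23471 = n35227 := ndS (p := 11563) (l := 4) rfl N11563 D35227
theorem N23472 : nd 23472 = n35228 := ndS (p := 11563) (l := 5) rfl N11563 D35228
theorem N23473 : nd 23473 = n35229 := ndS (p := 11563) (l := 6) rfl N11563 D35229
theorem N23474 : nd 23474 = n35231 := ndS (p := 11564) (l := 1) rfl N11564 D35231
theorem N23475 : nd 23475 = n35232 := ndS (p := 11564) (l := 4) rfl N11564 D35232
theorem N23476 : nd 23476 = n35233 := ndS (p := 11564) (l := 7) rfl N11564 D35233
theorem N23477 : nd 23477 = n35235 := ndS (p := 11567) (l := 4) rfl N11567 D35235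
theorem N23478 : nd 23478 = n35236 := ndS (p := 11567) (l := 6) rfl N11567 D35236
theorem N23479 : nd 23479 = n35237 := ndS (p := 11568) (l := 4) rfl N11568 D35237
theorem N23480 : nd 23480 = n35238 := ndS (p := 11568) (l := 6) rfl N11568 D35238
theorem N23481 : nd 23481 = n35240 := ndS (p := 11569) (l := 4) rfl N11569 D35240
theorem N23482 : nd 23482 = n35242 := ndS (p := 11570) (l := 0) rfl N11570 D35242
theorem N23483 : nd 23483 = n35243 := ndS (p := 11570) (l := 3) rfl N11570 D35243
theorem N23484 : nd 23484 = n35244 := ndS (p := 11570) (l := 5) rfl N11570 D35244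
theorem N23485 : nd 23485 = n35251 := ndS (p := 11572) (l := 4) rfl N11572 D35251
theorem N23486 : nd 23486 = n35255 := ndS (p := 11574) (l := 4) rfl N11574 D35255
theorem N23487 : nd 23487 = n35257 := ndS (p := 11574) (l := 6) rfl N11574 D35257
theorem N23488 : nd 23488 = n35258 := ndS (p := 11575) (l := 4) rfl N11575 D35258
theorem N23489 : nd 23489 = n35263 := ndS (p := 11578) (l := 3) rfl N11578 D35263
theorem N23490 : nd 23490 = n35264 := ndS (p := 11578) (l := 5) rfl N11578 D35264
theorem N23491 : nd 23491 = n35265 := ndS (p := 11578) (l := 7) rfl N11578 D35265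
theorem N23492 : nd 23492 = n35266 := ndS (p := 11580) (l := 0) rfl N11580 D35266
theorem N23493 : nd 23493 = n35267 := ndS (p := 11580) (l := 1) rfl N11580 D35267
theorem N23494 : nd 23494 = n35268 := ndS (p := 11580) (l := 2) rfl N11580 D35268
theorem N23495 : nd 23495 = n35269 := ndS (p := 11581) (l := 4) rfl N11581 D35269
theorem N23496 : nd 23496 = n35270 := ndS (p := 11582) (l := 5) rfl N11582 D35270
theorem N23497 : nd 23497 = n35271 := ndS (p := 11583) (l := 4) rfl N11583 D35271
theorem N23498 : nd 23498 = n35272 := ndS (p := 11584) (l := 3) rfl N11584 D35272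
theorem N23499 : nd 23499 = n35276 := ndS (p := 11585) (l := 7) rfl N11585 D35276
theorem N23500 : nd 23500 = n35287 := ndS (p := 11588) (l := 5) rfl N11588 D35287
theorem N23501 : nd 23501 = n35288 := ndS (p := 11588) (l := 6) rfl N11588 D35288
theorem N23502 : nd 23502 = n35290 := ndS (p := 11589) (l := 3) rfl N11589 D35290
theorem N23503 : nd 23503 = n35292 := ndS (p := 11589) (l := 5) rfl N11589 D35292
theorem N23504 : nd 23504 = n35293 := ndS (p := 11589) (l := 6) rfl N11589 D35293
theorem N23505 : nd 23505 = n35297 := ndS (p := 11591) (l := 4) rfl N11591 D35297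
theorem N23506 : nd 23506 = n35299 := ndS (p := 11591) (l := 6) rfl N11591 D35299
theorem N23507 : nd 23507 = n35305 := ndS (p := 11594) (l := 0) rfl N11594 D35305
theorem N23508 : nd 23508 = n35306 := ndS (p := 11594) (l := 1) rfl N11594 D35306
theorem N23509 : nd 23509 = n35307 := ndS (p := 11594) (l := 5) rfl N11594 D35307
theorem N23510 : nd 23510 = n35308 := ndS (p := 11594) (l := 7) rfl N11594 D35308
theorem N23511 : nd 23511 = n35309 := ndS (p := 11595) (l := 5) rfl N11595 D35309
theorem N23512 : nd 23512 = n35310 := ndS (p := 11596) (l := 0) rfl N11596 D35310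
theorem N23513 : nd 23513 = n35311 := ndS (p := 11596) (l := 4) rfl N11596 D35311
theorem N23514 : nd 23514 = n35312 := ndS (p := 11597) (l := 5) rfl N11597 D35312
theorem N23515 : nd 23515 = n35318 := ndS (p := 11599) (l := 0) rfl N11599 D35318
theorem N23516 : nd 23516 = n35319 := ndS (p := 11600) (l := 3) rfl N11600 D35319
theorem N23517 : nd 23517 = n35321 := ndS (p := 11601) (l := 0) rfl N11601 D35321
theorem N23518 : nd 23518 = n35322 := ndS (p := 11601) (l := 1) rfl N11601 D35322
theorem N23519 : nd 23519 = n35323 := ndS (p := 11601) (l := 5) rfl N11601 D35323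
theorem N23520 : nd 23520 = n35324 := ndS (p := 11601) (l := 7) rfl N11601 D35324
theorem N23521 : nd 23521 = n35327 := ndS (p := 11602) (l := 4) rfl N11602 D35327
theorem N23522 : nd 23522 = n35347 := ndS (p := 11605) (l := 0) rfl N11605 D35347
theorem N23523 : nd 23523 = n35348 := ndS (p := 11605) (l := 1) rfl N11605 D35348
theorem N23524 : nd 23524 = n35349 := ndS (p := 11605) (l := 7) rfl N11605 D35349
theorem N23525 : nd 23525 = n35354 := ndS (p := 11606) (l := 1) rfl N11606 D35354
theorem N23526 : nd 23526 = n35355 := ndS (p := 11606) (l := 6) rfl N11606 D35355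
theorem N23527 : nd 23527 = n35356 := ndS (p := 11607) (l := 6) rfl N11607 D35356
theorem N23528 : nd 23528 = n35357 := ndS (p := 11608) (l := 0) rfl N11608 D35357
theorem N23529 : nd 23529 = n35359 := ndS (p := 11608) (l := 5) rfl N11608 D35359
theorem N23530 : nd 23530 = n35360 := ndS (p := 11608) (l := 7) rfl N11608 D35360
theorem N23531 : nd 23531 = n35368 := ndS (p := 11609) (l := 4) rfl N11609 D35368
theorem N23532 : nd 23532 = n35370 := ndS (p := 11611) (l := 0) rfl N11611 D35370
theorem N23533 : nd 23533 = n35371 := ndS (p := 11611) (l := 1) rfl N11611 D35371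
theorem N23534 : nd 23534 = n35372 := ndS (p := 11611) (l := 5) rfl N11611 D35372
theorem N23535 : nd 23535 = n35373 := ndS (p := 11611) (l := 6) rfl N11611 D35373
theorem N23536 : nd 23536 = n35374 := ndS (p := 11612) (l := 6) rfl N11612 D35374
theorem N23537 : nd 23537 = n35375 := ndS (p := 11613) (l := 0) rfl N11613 D35375
theorem N23538 : nd 23538 = n35376 := ndS (p := 11613) (l := 1) rfl N11613 D35376
theorem N23539 : nd 23539 = n35377 := ndS (p := 11613) (l := 5) rfl N11613 D35377
theorem N23540 : nd 23540 = n35378 := ndS (p := 11613) (l := 7) rfl N11613 D35378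
theorem N23541 : nd 23541 = n35380 := ndS (p := 11614) (l := 3) rfl N11614 D35380
theorem N23542 : nd 23542 = n35381 := ndS (p := 11614) (l := 4) rfl N11614 D35381
theorem N23543 : nd 23543 = n35382 := ndS (p := 11614) (l := 5) rfl N11614 D35382
theorem N23544 : nd 23544 = n35384 := ndS (p := 11615) (l := 3) rfl N11615 D35384
theorem N23545 : nd 23545 = n35385 := ndS (p := 11615) (l := 4) rfl N11615 D35385
theorem N23546 : nd 23546 = n35398 := ndS (p := 11621) (l := 0) rfl N11621 D35398
theorem N23547 : nd 23547 = n35400 := ndS (p := 11621) (l := 5) rfl N11621 D35400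
theorem N23548 : nd 23548 = n35402 := ndS (p := 11622) (l := 3) rfl N11622 D35402
theorem N23549 : nd 23549 = n35403 := ndS (p := 11622) (l := 6) rfl N11622 D35403
theorem N23550 : nd 23550 = n35404 := ndS (p := 11623) (l := 0) rfl N11623 D35404
theorem N23551 : nd 23551 = n35406 := ndS (p := 11623) (l := 5) rfl N11623 D35406
theorem N23552 : nd 23552 = n35418 := ndS (p := 11624) (l := 0) rfl N11624 D35418
theorem N23553 : nd 23553 = n35419 := ndS (p := 11624) (l := 1) rfl N11624 D35419
theorem N23554 : nd 23554 = n35422 := ndS (p := 11625) (l := 6) rfl N11625 D35422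
theorem N23555 : nd 23555 = n35423 := ndS (p := 11626) (l := 3) rfl N11626 D35423
theorem N23556 : nd 23556 = n35424 := ndS (p := 11626) (l := 5) rfl N11626 D35424
theorem N23557 : nd 23557 = n35425 := ndS (p := 11626) (l := 6) rfl N11626 D35425
theorem N23558 : nd 23558 = n35428 := ndS (p := 11627) (l := 7) rfl N11627 D35428
theorem N23559 : nd 23559 = n35429 := ndS (p := 11628) (l := 0) rfl N11628 D35429
theorem N23560 : nd 23560 = n35430 := ndS (p := 11628) (l := 6) rfl N11628 D35430
theorem N23561 : nd 23561 = n35431 := ndS (p := 11629) (l := 6) rfl N11629 D35431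
theorem N23562 : nd 23562 = n35432 := ndS (p := 11630) (l := 0) rfl N11630 D35432
theorem N23563 : nd 23563 = n35434 := ndS (p := 11630) (l := 5) rfl N11630 D35434
theorem N23564 : nd 23564 = n35435 := ndS (p := 11630) (l := 7) rfl N11630 D35435
theorem N23565 : nd 23565 = n35443 := ndS (p := 11631) (l := 4) rfl N11631 D35443
theorem N23566 : nd 23566 = n35445 := ndS (p := 11631) (l := 6) rfl N11631 D35445
theorem N23567 : nd 23567 = n35446 := ndS (p := 11633) (l := 0) rfl N11633 D35446
theorem N23568 : nd 23568 = n35447 := ndS (p := 11633) (l := 1) rfl N11633 D35447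
theorem N23569 : nd 23569 = n35448 := ndS (p := 11633) (l := 2) rfl N11633 D35448
theorem N23570 : nd 23570 = n35449 := ndS (p := 11633) (l := 4) rfl N11633 D35449
theorem N23571 : nd 23571 = n35450 := ndS (p := 11633) (l := 5) rfl N11633 D35450
theorem N23572 : nd 23572 = n35451 := ndS (p := 11633) (l := 6) rfl N11633 D35451
theorem N23573 : nd 23573 = n35452 := ndS (p := 11634) (l := 6) rfl N11634 D35452
theorem N23574 : nd 23574 = n35455 := ndS (p := 11635) (l := 5) rfl N11635 D35455
theorem N23575 : nd 23575 = n35457 := ndS (p := 11636) (l := 0) rfl N11636 D35457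
theorem N23576 : nd 23576 = n35458 := ndS (p := 11636) (l := 1) rfl N11636 D35458
theorem N23577 : nd 23577 = n35459 := ndS (p := 11636) (l := 6) rfl N11636 D35459
theorem N23578 : nd 23578 = n35460 := ndS (p := 11637) (l := 6) rfl N11637 D35460
theorem N23579 : nd 23579 = n35463 := ndS (p := 11638) (l := 5) rfl N11638 D35463
theorem N23580 : nd 23580 = n35464 := ndS (p := 11638) (l := 7) rfl N11638 D35464
theorem N23581 : nd 23581 = n35465 := ndS (p := 11639) (l := 3) rfl N11639 D35465
theorem N23582 : nd 23582 = n35466 := ndS (p := 11639) (l := 6) rfl N11639 D35466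
theorem N23583 : nd 23583 = n35467 := ndS (p := 11640) (l := 6) rfl N11640 D35467
theorem N23584 : nd 23584 = n35470 := ndS (p := 11641) (l := 0) rfl N11641 D35470
theorem N23585 : nd 23585 = n35471 := ndS (p := 11641) (l := 1) rfl N11641 D35471
theorem N23586 : nd 23586 = n35472 := ndS (p := 11641) (l := 5) rfl N11641 D35472
theorem N23587 : nd 23587 = n35473 := ndS (p := 11641) (l := 7) rfl N11641 D35473
theorem N23588 : nd 23588 = n35475 := ndS (p := 11642) (l := 3) rfl N11642 D35475
theorem N23589 : nd 23589 = n35476 := ndS (p := 11642) (l := 4) rfl N11642 D35476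
theorem N23590 : nd 23590 = n35478 := ndS (p := 11642) (l := 6) rfl N11642 D35478
theorem N23591 : nd 23591 = n35480 := ndS (p := 11643) (l := 3) rfl N11643 D35480
theorem N23592 : nd 23592 = n35482 := ndS (p := 11643) (l := 5) rfl N11643 D35482
theorem N23593 : nd 23593 = n35484 := ndS (p := 11644) (l := 0) rfl N11644 D35484
theorem N23594 : nd 23594 = n35485 := ndS (p := 11644) (l := 1) rfl N11644 D35485
theorem N23595 : nd 23595 = n35487 := ndS (p := 11644) (l := 7) rfl N11644 D35487
theorem N23596 : nd 23596 = n35494 := ndS (p := 11646) (l := 0) rfl N11646 D35494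
theorem N23597 : nd 23597 = n35496 := ndS (p := 11646) (l := 2) rfl N11646 D35496
theorem N23598 : nd 23598 = n35497 := ndS (p := 11646) (l := 4) rfl N11646 D35497
theorem N23599 : nd 23599 = n35498 := ndS (p := 11646) (l := 5) rfl N11646 D35498
theorem N23600 : nd 23600 = n35499 := ndS (p := 11646) (l := 6) rfl N11646 D35499
theorem N23601 : nd 23601 = n35501 := ndS (p := 11647) (l := 0) rfl N11647 D35501
theorem N23602 : nd 23602 = n35504 := ndS (p := 11647) (l := 5) rfl N11647 D35504
theorem N23603 : nd 23603 = n35505 := ndS (p := 11647) (l := 6) rfl N11647 D35505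
theorem N23604 : nd 23604 = n35517 := ndS (p := 11650) (l := 1) rfl N11650 D35517
theorem N23605 : nd 23605 = n35518 := ndS (p := 11650) (l := 2) rfl N11650 D35518
theorem N23606 : nd 23606 = n35519 := ndS (p := 11650) (l := 4) rfl N11650 D35519
theorem N23607 : nd 23607 = n35520 := ndS (p := 11650) (l := 5) rfl N11650 D35520
theorem N23608 : nd 23608 = n35522 := ndS (p := 11651) (l := 3) rfl N11651 D35522
theorem N23609 : nd 23609 = n35523 := ndS (p := 11651) (l := 5) rfl N11651 D35523
theorem N23610 : nd 23610 = n35532 := ndS (p := 11653) (l := 3) rfl N11653 D35532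
theorem N23611 : nd 23611 = n35535 := ndS (p := 11653) (l := 6) rfl N11653 D35535
theorem N23612 : nd 23612 = n35547 := ndS (p := 11655) (l := 5) rfl N11655 D35547
theorem N23613 : nd 23613 = n35548 := ndS (p := 11656) (l := 1) rfl N11656 D35548
theorem N23614 : nd 23614 = n35560 := ndS (p := 11660) (l := 5) rfl N11660 D35560
theorem N23615 : nd 23615 = n35561 := ndS (p := 11661) (l := 4) rfl N11661 D35561
theorem N23616 : nd 23616 = n35562 := ndS (p := 11661) (l := 6) rfl N11661 D35562
theorem N23617 : nd 23617 = n35563 := ndS (p := 11663) (l := 4) rfl N11663 D35563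
theorem N23618 : nd 23618 = n35568 := ndS (p := 11664) (l := 0) rfl N11664 D35568
theorem N23619 : nd 23619 = n35571 := ndS (p := 11665) (l := 4) rfl N11665 D35571
theorem N23620 : nd 23620 = n35572 := ndS (p := 11665) (l := 6) rfl N11665 D35572
theorem N23621 : nd 23621 = n35576 := ndS (p := 11666) (l := 0) rfl N11666 D35576
theorem N23622 : nd 23622 = n35577 := ndS (p := 11666) (l := 1) rfl N11666 D35577
theorem N23623 : nd 23623 = n35585 := ndS (p := 11667) (l := 0) rfl N11667 D35585
theorem N23624 : nd 23624 = n35586 := ndS (p := 11667) (l := 1) rfl N11667 D35586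
theorem N23625 : nd 23625 = n35587 := ndS (p := 11667) (l := 2) rfl N11667 D35587
theorem N23626 : nd 23626 = n35598 := ndS (p := 11668) (l := 3) rfl N11668 D35598
theorem N23627 : nd 23627 = n35599 := ndS (p := 11668) (l := 5) rfl N11668 D35599
theorem N23628 : nd 23628 = n35603 := ndS (p := 11669) (l := 5) rfl N11669 D35603
theorem N23629 : nd 23629 = n35605 := ndS (p := 11670) (l := 3) rfl N11670 D35605
theorem N23630 : nd 23630 = n35608 := ndS (p := 11671) (l := 4) rfl N11671 D35608
theorem N23631 : nd 23631 = n35609 := ndS (p := 11671) (l := 6) rfl N11671 D35609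
theorem N23632 : nd 23632 = n35612 := ndS (p := 11672) (l := 5) rfl N11672 D35612
theorem N23633 : nd 23633 = n35615 := ndS (p := 11673) (l := 3) rfl N11673 D35615
theorem N23634 : nd 23634 = n35616 := ndS (p := 11673) (l := 4) rfl N11673 D35616
theorem N23635 : nd 23635 = n35617 := ndS (p := 11673) (l := 5) rfl N11673 D35617
theorem N23636 : nd 23636 = n35624 := ndS (p := 11674) (l := 0) rfl N11674 D35624
theorem N23637 : nd 23637 = n35625 := ndS (p := 11674) (l := 1) rfl N11674 D35625
theorem N23638 : nd 23638 = n35626 := ndS (p := 11674) (l := 4) rfl N11674 D35626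
theorem N23639 : nd 23639 = n35627 := ndS (p := 11674) (l := 7) rfl N11674 D35627
theorem N23640 : nd 23640 = n35629 := ndS (p := 11676) (l := 6) rfl N11676 D35629
theorem N23641 : nd 23641 = n35631 := ndS (p := 11678) (l := 3) rfl N11678 D35631
theorem N23642 : nd 23642 = n35632 := ndS (p := 11678) (l := 5) rfl N11678 D35632
theorem N23643 : nd 23643 = n35633 := ndS (p := 11678) (l := 7) rfl N11678 D35633
theorem N23644 : nd 23644 = n35636 := ndS (p := 11680) (l := 4) rfl N11680 D35636
theorem N23645 : nd 23645 = n35637 := ndS (p := 11680) (l := 5) rfl N11680 D35637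
theorem N23646 : nd 23646 = n35644 := ndS (p := 11681) (l := 4) rfl N11681 D35644
theorem N23647 : nd 23647 = n35645 := ndS (p := 11681) (l := 5) rfl N11681 D35645
theorem N23648 : nd 23648 = n35647 := ndS (p := 11682) (l := 0) rfl N11682 D35647
theorem N23649 : nd 23649 = n35649 := ndS (p := 11682) (l := 3) rfl N11682 D35649
theorem N23650 : nd 23650 = n35650 := ndS (p := 11682) (l := 5) rfl N11682 D35650
theorem N23651 : nd 23651 = n35651 := ndS (p := 11682) (l := 6) rfl N11682 D35651
theorem N23652 : nd 23652 = n35652 := ndS (p := 11683) (l := 0) rfl N11683 D35652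
theorem N23653 : nd 23653 = n35653 := ndS (p := 11683) (l := 1) rfl N11683 D35653
theorem N23654 : nd 23654 = n35654 := ndS (p := 11683) (l := 4) rfl N11683 D35654
theorem N23655 : nd 23655 = n35655 := ndS (p := 11683) (l := 6) rfl N11683 D35655
theorem N23656 : nd 23656 = n35656 := ndS (p := 11684) (l := 0) rfl N11684 D35656
theorem N23657 : nd 23657 = n35657 := ndS (p := 11684) (l := 1) rfl N11684 D35657
theorem N23658 : nd 23658 = n35658 := ndS (p := 11685) (l := 0) rfl N11685 D35658
theorem N23659 : nd 23659 = n35660 := ndS (p := 11685) (l := 2) rfl N11685 D35660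
theorem N23660 : nd 23660 = n35661 := ndS (p := 11685) (l := 5) rfl N11685 D35661
theorem N23661 : nd 23661 = n35662 := ndS (p := 11685) (l := 6) rfl N11685 D35662
theorem N23662 : nd 23662 = n35663 := ndS (p := 11686) (l := 0) rfl N11686 D35663
theorem N23663 : nd 23663 = n35664 := ndS (p := 11686) (l := 1) rfl N11686 D35664
theorem N23664 : nd 23664 = n35668 := ndS (p := 11688) (l := 4) rfl N11688 D35668
theorem N23665 : nd 23665 = n35670 := ndS (p := 11689) (l := 4) rfl N11689 D35670
theorem N23666 : nd 23666 = n35671 := ndS (p := 11690) (l := 0) rfl N11690 D35671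
theorem N23667 : nd 23667 = n35672 := ndS (p := 11690) (l := 1) rfl N11690 D35672
theorem N23668 : nd 23668 = n35673 := ndS (p := 11690) (l := 3) rfl N11690 D35673
theorem N23669 : nd 23669 = n35674 := ndS (p := 11690) (l := 5) rfl N11690 D35674
theorem N23670 : nd 23670 = n35675 := ndS (p := 11690) (l := 6) rfl N11690 D35675
theorem N23671 : nd 23671 = n35684 := ndS (p := 11693) (l := 4) rfl N11693 D35684
theorem N23672 : nd 23672 = n35685 := ndS (p := 11693) (l := 5) rfl N11693 D35685
theorem N23673 : nd 23673 = n35687 := ndS (p := 11694) (l := 4) rfl N11694 D35687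
theorem N23674 : nd 23674 = n35688 := ndS (p := 11694) (l := 5) rfl N11694 D35688
theorem N23675 : nd 23675 = n35689 := ndS (p := 11694) (l := 6) rfl N11694 D35689
theorem N23676 : nd 23676 = n35691 := ndS (p := 11695) (l := 1) rfl N11695 D35691
theorem N23677 : nd 23677 = n35692 := ndS (p := 11695) (l := 3) rfl N11695 D35692
theorem N23678 : nd 23678 = n35693 := ndS (p := 11695) (l := 5) rfl N11695 D35693
theorem N23679 : nd 23679 = n35695 := ndS (p := 11696) (l := 0) rfl N11696 D35695
theorem N23680 : nd 23680 = n35696 := ndS (p := 11696) (l := 1) rfl N11696 D35696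
theorem N23681 : nd 23681 = n35697 := ndS (p := 11696) (l := 4) rfl N11696 D35697
theorem N23682 : nd 23682 = n35698 := ndS (p := 11696) (l := 6) rfl N11696 D35698
theorem N23683 : nd 23683 = n35700 := ndS (p := 11697) (l := 1) rfl N11697 D35700
theorem N23684 : nd 23684 = n35701 := ndS (p := 11697) (l := 5) rfl N11697 D35701
theorem N23685 : nd 23685 = n35704 := ndS (p := 11698) (l := 1) rfl N11698 D35704
theorem N23686 : nd 23686 = n35705 := ndS (p := 11698) (l := 2) rfl N11698 D35705
theorem N23687 : nd 23687 = n35707 := ndS (p := 11698) (l := 6) rfl N11698 D35707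
theorem N23688 : nd 23688 = n35708 := ndS (p := 11699) (l := 4) rfl N11699 D35708
theorem N23689 : nd 23689 = n35709 := ndS (p := 11700) (l := 0) rfl N11700 D35709
theorem N23690 : nd 23690 = n35710 := ndS (p := 11700) (l := 5) rfl N11700 D35710
theorem N23691 : nd 23691 = n35712 := ndS (p := 11701) (l := 3) rfl N11701 D35712
theorem N23692 : nd 23692 = n35713 := ndS (p := 11701) (l := 5) rfl N11701 D35713
theorem N23693 : nd 23693 = n35714 := ndS (p := 11701) (l := 6) rfl N11701 D35714
theorem N23694 : nd 23694 = n35717 := ndS (p := 11703) (l := 4) rfl N11703 D35717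
theorem N23695 : nd 23695 = n35720 := ndS (p := 11704) (l := 2) rfl N11704 D35720
theorem N23696 : nd 23696 = n35721 := ndS (p := 11704) (l := 4) rfl N11704 D35721
theorem N23697 : nd 23697 = n35723 := ndS (p := 11705) (l := 3) rfl N11705 D35723
theorem N23698 : nd 23698 = n35724 := ndS (p := 11705) (l := 5) rfl N11705 D35724
theorem N23699 : nd 23699 = n35727 := ndS (p := 11707) (l := 2) rfl N11707 D35727
theorem N23700 : nd 23700 = n35728 := ndS (p := 11707) (l := 4) rfl N11707 D35728
theorem N23701 : nd 23701 = n35730 := ndS (p := 11708) (l := 3) rfl N11708 D35730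
theorem N23702 : nd 23702 = n35731 := ndS (p := 11708) (l := 5) rfl N11708 D35731
theorem N23703 : nd 23703 = n35734 := ndS (p := 11709) (l := 3) rfl N11709 D35734
theorem N23704 : nd 23704 = n35735 := ndS (p := 11709) (l := 5) rfl N11709 D35735
theorem N23705 : nd 23705 = n35736 := ndS (p := 11710) (l := 3) rfl N11710 D35736
theorem N23706 : nd 23706 = n35737 := ndS (p := 11710) (l := 5) rfl N11710 D35737
theorem N23707 : nd 23707 = n35739 := ndS (p := 11711) (l := 0) rfl N11711 D35739
theorem N23708 : nd 23708 = n35740 := ndS (p := 11711) (l := 1) rfl N11711 D35740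
theorem N23709 : nd 23709 = n35741 := ndS (p := 11711) (l := 2) rfl N11711 D35741
theorem N23710 : nd 23710 = n35742 := ndS (p := 11711) (l := 5) rfl N11711 D35742
theorem N23711 : nd 23711 = n35744 := ndS (p := 11712) (l := 0) rfl N11712 D35744
theorem N23712 : nd 23712 = n35745 := ndS (p := 11712) (l := 1) rfl N11712 D35745
theorem N23713 : nd 23713 = n35746 := ndS (p := 11712) (l := 4) rfl N11712 D35746
theorem N23714 : nd 23714 = n35747 := ndS (p := 11712) (l := 6) rfl N11712 D35747
theorem N23715 : nd 23715 = n35748 := ndS (p := 11712) (l := 7) rfl N11712 D35748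
theorem N23716 : nd 23716 = n35751 := ndS (p := 11715) (l := 4) rfl N11715 D35751
theorem N23717 : nd 23717 = n35753 := ndS (p := 11716) (l := 4) rfl N11716 D35753
theorem N23718 : nd 23718 = n35754 := ndS (p := 11716) (l := 6) rfl N11716 D35754
theorem N23719 : nd 23719 = n35755 := ndS (p := 11717) (l := 0) rfl N11717 D35755
theorem N23720 : nd 23720 = n35756 := ndS (p := 11717) (l := 1) rfl N11717 D35756
theorem N23721 : nd 23721 = n35757 := ndS (p := 11717) (l := 3) rfl N11717 D35757
theorem N23722 : nd 23722 = n35758 := ndS (p := 11717) (l := 5) rfl N11717 D35758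
theorem N23723 : nd 23723 = n35763 := ndS (p := 11719) (l := 0) rfl N11719 D35763
theorem N23724 : nd 23724 = n35764 := ndS (p := 11719) (l := 1) rfl N11719 D35764
theorem N23725 : nd 23725 = n35765 := ndS (p := 11719) (l := 2) rfl N11719 D35765
theorem N23726 : nd 23726 = n35766 := ndS (p := 11719) (l := 6) rfl N11719 D35766
theorem N23727 : nd 23727 = n35768 := ndS (p := 11720) (l := 1) rfl N11720 D35768
theorem N23728 : nd 23728 = n35775 := ndS (p := 11721) (l := 4) rfl N11721 D35775
theorem N23729 : nd 23729 = n35778 := ndS (p := 11722) (l := 4) rfl N11722 D35778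
theorem N23730 : nd 23730 = n35779 := ndS (p := 11722) (l := 6) rfl N11722 D35779
theorem N23731 : nd 23731 = n35780 := ndS (p := 11723) (l := 4) rfl N11723 D35780
theorem N23732 : nd 23732 = n35781 := ndS (p := 11723) (l := 6) rfl N11723 D35781
theorem N23733 : nd 23733 = n35782 := ndS (p := 11724) (l := 4) rfl N11724 D35782
theorem N23734 : nd 23734 = n35783 := ndS (p := 11724) (l := 6) rfl N11724 D35783
theorem N23735 : nd 23735 = n35784 := ndS (p := 11725) (l := 0) rfl N11725 D35784
theorem N23736 : nd 23736 = n35785 := ndS (p := 11725) (l := 1) rfl N11725 D35785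
theorem N23737 : nd 23737 = n35786 := ndS (p := 11725) (l := 3) rfl N11725 D35786
theorem N23738 : nd 23738 = n35787 := ndS (p := 11725) (l := 5) rfl N11725 D35787
theorem N23739 : nd 23739 = n35788 := ndS (p := 11725) (l := 6) rfl N11725 D35788
theorem N23740 : nd 23740 = n35789 := ndS (p := 11726) (l := 0) rfl N11726 D35789
theorem N23741 : nd 23741 = n35790 := ndS (p := 11726) (l := 1) rfl N11726 D35790
theorem N23742 : nd 23742 = n35791 := ndS (p := 11726) (l := 7) rfl N11726 D35791
theorem N23743 : nd 23743 = n35792 := ndS (p := 11727) (l := 0) rfl N11727 D35792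
theorem N23744 : nd 23744 = n35793 := ndS (p := 11727) (l := 1) rfl N11727 D35793
theorem N23745 : nd 23745 = n35794 := ndS (p := 11727) (l := 2) rfl N11727 D35794
theorem N23746 : nd 23746 = n35795 := ndS (p := 11727) (l := 6) rfl N11727 D35795
theorem N23747 : nd 23747 = n35796 := ndS (p := 11728) (l := 0) rfl N11728 D35796
theorem N23748 : nd 23748 = n35797 := ndS (p := 11728) (l := 1) rfl N11728 D35797
theorem N23749 : nd 23749 = n35798 := ndS (p := 11728) (l := 5) rfl N11728 D35798
theorem N23750 : nd 23750 = n35799 := ndS (p := 11728) (l := 7) rfl N11728 D35799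
theorem N23751 : nd 23751 = n35801 := ndS (p := 11729) (l := 4) rfl N11729 D35801
theorem N23752 : nd 23752 = n35802 := ndS (p := 11729) (l := 5) rfl N11729 D35802
theorem N23753 : nd 23753 = n35804 := ndS (p := 11730) (l := 4) rfl N11730 D35804
theorem N23754 : nd 23754 = n35805 := ndS (p := 11732) (l := 4) rfl N11732 D35805
theorem N23755 : nd 23755 = n35806 := ndS (p := 11732) (l := 6) rfl N11732 D35806
theorem N23756 : nd 23756 = n35807 := ndS (p := 11733) (l := 0) rfl N11733 D35807
theorem N23757 : nd 23757 = n35808 := ndS (p := 11733) (l := 1) rfl N11733 D35808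
theorem N23758 : nd 23758 = n35809 := ndS (p := 11733) (l := 3) rfl N11733 D35809
theorem N23759 : nd 23759 = n35810 := ndS (p := 11733) (l := 5) rfl N11733 D35810
theorem N23760 : nd 23760 = n35811 := ndS (p := 11733) (l := 6) rfl N11733 D35811
theorem N23761 : nd 23761 = n35812 := ndS (p := 11734) (l := 0) rfl N11734 D35812
theorem N23762 : nd 23762 = n35813 := ndS (p := 11734) (l := 1) rfl N11734 D35813
theorem N23763 : nd 23763 = n35814 := ndS (p := 11734) (l := 7) rfl N11734 D35814
theorem N23764 : nd 23764 = n35815 := ndS (p := 11735) (l := 0) rfl N11735 D35815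
theorem N23765 : nd 23765 = n35816 := ndS (p := 11735) (l := 1) rfl N11735 D35816
theorem N23766 : nd 23766 = n35817 := ndS (p := 11735) (l := 2) rfl N11735 D35817
theorem N23767 : nd 23767 = n35818 := ndS (p := 11735) (l := 6) rfl N11735 D35818
theorem N23768 : nd 23768 = n35819 := ndS (p := 11736) (l := 5) rfl N11736 D35819
theorem N23769 : nd 23769 = n35820 := ndS (p := 11736) (l := 7) rfl N11736 D35820
theorem N23770 : nd 23770 = n35822 := ndS (p := 11737) (l := 6) rfl N11737 D35822
theorem N23771 : nd 23771 = n35824 := ndS (p := 11740) (l := 0) rfl N11740 D35824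
theorem N23772 : nd 23772 = n35825 := ndS (p := 11740) (l := 2) rfl N11740 D35825
theorem N23773 : nd 23773 = n35826 := ndS (p := 11740) (l := 3) rfl N11740 D35826
theorem N23774 : nd 23774 = n35827 := ndS (p := 11740) (l := 4) rfl N11740 D35827
theorem N23775 : nd 23775 = n35828 := ndS (p := 11740) (l := 5) rfl N11740 D35828
theorem N23776 : nd 23776 = n35829 := ndS (p := 11740) (l := 6) rfl N11740 D35829
theorem N23777 : nd 23777 = n35830 := ndS (p := 11740) (l := 7) rfl N11740 D35830
theorem N23778 : nd 23778 = n35831 := ndS (p := 11741) (l := 3) rfl N11741 D35831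
theorem N23779 : nd 23779 = n35832 := ndS (p := 11741) (l := 4) rfl N11741 D35832
theorem N23780 : nd 23780 = n35833 := ndS (p := 11741) (l := 5) rfl N11741 D35833
theorem N23781 : nd 23781 = n35834 := ndS (p := 11741) (l := 6) rfl N11741 D35834
theorem N23782 : nd 23782 = n35837 := ndS (p := 11742) (l := 5) rfl N11742 D35837
theorem N23783 : nd 23783 = n35838 := ndS (p := 11743) (l := 0) rfl N11743 D35838
theorem N23784 : nd 23784 = n35839 := ndS (p := 11743) (l := 1) rfl N11743 D35839
theorem N23785 : nd 23785 = n35840 := ndS (p := 11743) (l := 4) rfl N11743 D35840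
theorem N23786 : nd 23786 = n35841 := ndS (p := 11743) (l := 6) rfl N11743 D35841
theorem N23787 : nd 23787 = n35843 := ndS (p := 11745) (l := 0) rfl N11745 D35843
theorem N23788 : nd 23788 = n35844 := ndS (p := 11745) (l := 1) rfl N11745 D35844
theorem N23789 : nd 23789 = n35845 := ndS (p := 11745) (l := 7) rfl N11745 D35845
theorem N23790 : nd 23790 = n35846 := ndS (p := 11746) (l := 0) rfl N11746 D35846
theorem N23791 : nd 23791 = n35847 := ndS (p := 11746) (l := 1) rfl N11746 D35847
theorem N23792 : nd 23792 = n35848 := ndS (p := 11746) (l := 5) rfl N11746 D35848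
theorem N23793 : nd 23793 = n35850 := ndS (p := 11747) (l := 3) rfl N11747 D35850
theorem N23794 : nd 23794 = n35851 := ndS (p := 11747) (l := 4) rfl N11747 D35851
theorem N23795 : nd 23795 = n35855 := ndS (p := 11748) (l := 3) rfl N11748 D35855
theorem N23796 : nd 23796 = n35856 := ndS (p := 11748) (l := 4) rfl N11748 D35856
theorem N23797 : nd 23797 = n35858 := ndS (p := 11748) (l := 6) rfl N11748 D35858
theorem N23798 : nd 23798 = n35859 := ndS (p := 11750) (l := 5) rfl N11750 D35859
theorem N23799 : nd 23799 = n35860 := ndS (p := 11751) (l := 4) rfl N11751 D35860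
theorem N23800 : nd 23800 = n35862 := ndS (p := 11752) (l := 0) rfl N11752 D35862
theorem N23801 : nd 23801 = n35863 := ndS (p := 11752) (l := 1) rfl N11752 D35863
theorem N23802 : nd 23802 = n35864 := ndS (p := 11752) (l := 3) rfl N11752 D35864
theorem N23803 : nd 23803 = n35865 := ndS (p := 11752) (l := 5) rfl N11752 D35865
theorem N23804 : nd 23804 = n35866 := ndS (p := 11752) (l := 6) rfl N11752 D35866
theorem N23805 : nd 23805 = n35870 := ndS (p := 11754) (l := 0) rfl N11754 D35870
theorem N23806 : nd 23806 = n35871 := ndS (p := 11754) (l := 1) rfl N11754 D35871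
theorem N23807 : nd 23807 = n35872 := ndS (p := 11754) (l := 2) rfl N11754 D35872
theorem N23808 : nd 23808 = n35873 := ndS (p := 11754) (l := 6) rfl N11754 D35873
theorem N23809 : nd 23809 = n35882 := ndS (p := 11757) (l := 4) rfl N11757 D35882
theorem N23810 : nd 23810 = n35884 := ndS (p := 11757) (l := 6) rfl N11757 D35884
theorem N23811 : nd 23811 = n35885 := ndS (p := 11759) (l := 4) rfl N11759 D35885
theorem N23812 : nd 23812 = n35886 := ndS (p := 11759) (l := 6) rfl N11759 D35886
theorem N23813 : nd 23813 = n35887 := ndS (p := 11760) (l := 0) rfl N11760 D35887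
theorem N23814 : nd 23814 = n35888 := ndS (p := 11760) (l := 3) rfl N11760 D35888
theorem N23815 : nd 23815 = n35889 := ndS (p := 11760) (l := 5) rfl N11760 D35889
theorem N23816 : nd 23816 = n35890 := ndS (p := 11760) (l := 6) rfl N11760 D35890
theorem N23817 : nd 23817 = n35891 := ndS (p := 11761) (l := 0) rfl N11761 D35891
theorem N23818 : nd 23818 = n35892 := ndS (p := 11761) (l := 1) rfl N11761 D35892
theorem N23819 : nd 23819 = n35893 := ndS (p := 11761) (l := 7) rfl N11761 D35893
theorem N23820 : nd 23820 = n35894 := ndS (p := 11762) (l := 0) rfl N11762 D35894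
theorem N23821 : nd 23821 = n35895 := ndS (p := 11762) (l := 1) rfl N11762 D35895
theorem N23822 : nd 23822 = n35896 := ndS (p := 11762) (l := 2) rfl N11762 D35896
theorem N23823 : nd 23823 = n35897 := ndS (p := 11762) (l := 6) rfl N11762 D35897
theorem N23824 : nd 23824 = n35901 := ndS (p := 11763) (l := 7) rfl N11763 D35901
theorem N23825 : nd 23825 = n35902 := ndS (p := 11764) (l := 3) rfl N11764 D35902
theorem N23826 : nd 23826 = n35904 := ndS (p := 11764) (l := 5) rfl N11764 D35904
theorem N23827 : nd 23827 = n35905 := ndS (p := 11765) (l := 3) rfl N11765 D35905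
theorem N23828 : nd 23828 = n35906 := ndS (p := 11765) (l := 4) rfl N11765 D35906
theorem N23829 : nd 23829 = n35907 := ndS (p := 11767) (l := 0) rfl N11767 D35907
theorem N23830 : nd 23830 = n35908 := ndS (p := 11767) (l := 1) rfl N11767 D35908
theorem N23831 : nd 23831 = n35909 := ndS (p := 11767) (l := 7) rfl N11767 D35909
theorem N23832 : nd 23832 = n35910 := ndS (p := 11768) (l := 5) rfl N11768 D35910
theorem N23833 : nd 23833 = n35911 := ndS (p := 11768) (l := 6) rfl N11768 D35911
theorem N23834 : nd 23834 = n35912 := ndS (p := 11769) (l := 6) rfl N11769 D35912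
theorem N23835 : nd 23835 = n35913 := ndS (p := 11770) (l := 4) rfl N11770 D35913
theorem N23836 : nd 23836 = n35914 := ndS (p := 11770) (l := 6) rfl N11770 D35914
theorem N23837 : nd 23837 = n35915 := ndS (p := 11771) (l := 5) rfl N11771 D35915
theorem N23838 : nd 23838 = n35916 := ndS (p := 11771) (l := 7) rfl N11771 D35916
theorem N23839 : nd 23839 = n35917 := ndS (p := 11772) (l := 5) rfl N11772 D35917
theorem N23840 : nd 23840 = n35918 := ndS (p := 11772) (l := 6) rfl N11772 D35918
theorem N23841 : nd 23841 = n35919 := ndS (p := 11773) (l := 4) rfl N11773 D35919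
theorem N23842 : nd 23842 = n35920 := ndS (p := 11773) (l := 6) rfl N11773 D35920
theorem N23843 : nd 23843 = n35921 := ndS (p := 11774) (l := 5) rfl N11774 D35921
theorem N23844 : nd 23844 = n35922 := ndS (p := 11774) (l := 7) rfl N11774 D35922
theorem N23845 : nd 23845 = n35923 := ndS (p := 11775) (l := 4) rfl N11775 D35923
theorem N23846 : nd 23846 = n35924 := ndS (p := 11775) (l := 6) rfl N11775 D35924
theorem N23847 : nd 23847 = n35925 := ndS (p := 11776) (l := 5) rfl N11776 D35925
theorem N23848 : nd 23848 = n35926 := ndS (p := 11776) (l := 6) rfl N11776 D35926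
theorem N23849 : nd 23849 = n35927 := ndS (p := 11777) (l := 0) rfl N11777 D35927
theorem N23850 : nd 23850 = n35928 := ndS (p := 11777) (l := 1) rfl N11777 D35928
theorem N23851 : nd 23851 = n35929 := ndS (p := 11777) (l := 5) rfl N11777 D35929
theorem N23852 : nd 23852 = n35930 := ndS (p := 11777) (l := 7) rfl N11777 D35930
theorem N23853 : nd 23853 = n35931 := ndS (p := 11778) (l := 5) rfl N11778 D35931
theorem N23854 : nd 23854 = n35932 := ndS (p := 11778) (l := 6) rfl N11778 D35932
theorem N23855 : nd 23855 = n35934 := ndS (p := 11780) (l := 3) rfl N11780 D35934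
theorem N23856 : nd 23856 = n35936 := ndS (p := 11780) (l := 5) rfl N11780 D35936
theorem N23857 : nd 23857 = n35937 := ndS (p := 11780) (l := 6) rfl N11780 D35937
theorem N23858 : nd 23858 = n35939 := ndS (p := 11781) (l := 3) rfl N11781 D35939
theorem N23859 : nd 23859 = n35941 := ndS (p := 11781) (l := 5) rfl N11781 D35941
theorem N23860 : nd 23860 = n35942 := ndS (p := 11781) (l := 6) rfl N11781 D35942
theorem N23861 : nd 23861 = n35943 := ndS (p := 11782) (l := 0) rfl N11782 D35943
theorem N23862 : nd 23862 = n35945 := ndS (p := 11782) (l := 4) rfl N11782 D35945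
theorem N23863 : nd 23863 = n35946 := ndS (p := 11782) (l := 7) rfl N11782 D35946
theorem N23864 : nd 23864 = n35947 := ndS (p := 11784) (l := 4) rfl N11784 D35947
theorem N23865 : nd 23865 = n35948 := ndS (p := 11784) (l := 6) rfl N11784 D35948
theorem N23866 : nd 23866 = n35949 := ndS (p := 11785) (l := 4) rfl N11785 D35949
theorem N23867 : nd 23867 = n35950 := ndS (p := 11785) (l := 6) rfl N11785 D35950
theorem N23868 : nd 23868 = n35951 := ndS (p := 11786) (l := 0) rfl N11786 D35951
theorem N23869 : nd 23869 = n35952 := ndS (p := 11786) (l := 1) rfl N11786 D35952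
theorem N23870 : nd 23870 = n35953 := ndS (p := 11787) (l := 6) rfl N11787 D35953
theorem N23871 : nd 23871 = n35954 := ndS (p := 11788) (l := 4) rfl N11788 D35954
theorem N23872 : nd 23872 = n35955 := ndS (p := 11788) (l := 6) rfl N11788 D35955
theorem N23873 : nd 23873 = n35956 := ndS (p := 11792) (l := 0) rfl N11792 D35956
theorem N23874 : nd 23874 = n35957 := ndS (p := 11792) (l := 1) rfl N11792 D35957
theorem N23875 : nd 23875 = n35958 := ndS (p := 11792) (l := 4) rfl N11792 D35958
theorem N23876 : nd 23876 = n35959 := ndS (p := 11792) (l := 6) rfl N11792 D35959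
theorem N23877 : nd 23877 = n35960 := ndS (p := 11793) (l := 0) rfl N11793 D35960
theorem N23878 : nd 23878 = n35961 := ndS (p := 11793) (l := 1) rfl N11793 D35961
theorem N23879 : nd 23879 = n35962 := ndS (p := 11793) (l := 6) rfl N11793 D35962
theorem N23880 : nd 23880 = n35963 := ndS (p := 11794) (l := 0) rfl N11794 D35963
theorem N23881 : nd 23881 = n35965 := ndS (p := 11794) (l := 7) rfl N11794 D35965
theorem N23882 : nd 23882 = n35966 := ndS (p := 11795) (l := 4) rfl N11795 D35966
theorem N23883 : nd 23883 = n35967 := ndS (p := 11795) (l := 6) rfl N11795 D35967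
theorem N23884 : nd 23884 = n35968 := ndS (p := 11796) (l := 5) rfl N11796 D35968
theorem N23885 : nd 23885 = n35969 := ndS (p := 11797) (l := 3) rfl N11797 D35969
theorem N23886 : nd 23886 = n35970 := ndS (p := 11797) (l := 5) rfl N11797 D35970
theorem N23887 : nd 23887 = n35971 := ndS (p := 11797) (l := 6) rfl N11797 D35971
theorem N23888 : nd 23888 = n35973 := ndS (p := 11798) (l := 1) rfl N11798 D35973
theorem N23889 : nd 23889 = n35974 := ndS (p := 11798) (l := 5) rfl N11798 D35974
theorem N23890 : nd 23890 = n35975 := ndS (p := 11798) (l := 7) rfl N11798 D35975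
theorem N23891 : nd 23891 = n35976 := ndS (p := 11799) (l := 4) rfl N11799 D35976
theorem N23892 : nd 23892 = n35977 := ndS (p := 11800) (l := 0) rfl N11800 D35977
theorem N23893 : nd 23893 = n35983 := ndS (p := 11801) (l := 3) rfl N11801 D35983
theorem N23894 : nd 23894 = n35987 := ndS (p := 11802) (l := 0) rfl N11802 D35987
theorem N23895 : nd 23895 = n35988 := ndS (p := 11802) (l := 1) rfl N11802 D35988
theorem N23896 : nd 23896 = n35989 := ndS (p := 11802) (l := 2) rfl N11802 D35989
theorem N23897 : nd 23897 = n35990 := ndS (p := 11803) (l := 0) rfl N11803 D35990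
theorem N23898 : nd 23898 = n35991 := ndS (p := 11803) (l := 1) rfl N11803 D35991
theorem N23899 : nd 23899 = n35992 := ndS (p := 11805) (l := 4) rfl N11805 D35992
theorem N23900 : nd 23900 = n35993 := ndS (p := 11806) (l := 0) rfl N11806 D35993
theorem N23901 : nd 23901 = n35994 := ndS (p := 11806) (l := 2) rfl N11806 D35994
theorem N23902 : nd 23902 = n35995 := ndS (p := 11807) (l := 0) rfl N11807 D35995
theorem N23903 : nd 23903 = n35996 := ndS (p := 11807) (l := 1) rfl N11807 D35996
theorem N23904 : nd 23904 = n35997 := ndS (p := 11807) (l := 4) rfl N11807 D35997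
theorem N23905 : nd 23905 = n35998 := ndS (p := 11807) (l := 6) rfl N11807 D35998
theorem N23906 : nd 23906 = n35999 := ndS (p := 11809) (l := 5) rfl N11809 D35999
theorem N23907 : nd 23907 = n36002 := ndS (p := 11810) (l := 7) rfl N11810 D36002
theorem N23908 : nd 23908 = n36003 := ndS (p := 11811) (l := 6) rfl N11811 D36003
theorem N23909 : nd 23909 = n36005 := ndS (p := 11813) (l := 0) rfl N11813 D36005
theorem N23910 : nd 23910 = n36007 := ndS (p := 11813) (l := 7) rfl N11813 D36007
theorem N23911 : nd 23911 = n36031 := ndS (p := 11816) (l := 0) rfl N11816 D36031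
theorem N23912 : nd 23912 = n36032 := ndS (p := 11816) (l := 1) rfl N11816 D36032
theorem N23913 : nd 23913 = n36034 := ndS (p := 11816) (l := 7) rfl N11816 D36034
theorem N23914 : nd 23914 = n36051 := ndS (p := 11818) (l := 4) rfl N11818 D36051
theorem N23915 : nd 23915 = n36058 := ndS (p := 11819) (l := 0) rfl N11819 D36058
theorem N23916 : nd 23916 = n36060 := ndS (p := 11819) (l := 3) rfl N11819 D36060
theorem N23917 : nd 23917 = n36083 := ndS (p := 11820) (l := 3) rfl N11820 D36083
theorem N23918 : nd 23918 = n36087 := ndS (p := 11821) (l := 3) rfl N11821 D36087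
theorem N23919 : nd 23919 = n36089 := ndS (p := 11822) (l := 3) rfl N11822 D36089
theorem N23920 : nd 23920 = n36091 := ndS (p := 11823) (l := 1) rfl N11823 D36091
theorem N23921 : nd 23921 = n36092 := ndS (p := 11823) (l := 2) rfl N11823 D36092
theorem N23922 : nd 23922 = n36093 := ndS (p := 11823) (l := 6) rfl N11823 D36093
theorem N23923 : nd 23923 = n36099 := ndS (p := 11824) (l := 5) rfl N11824 D36099
theorem N23924 : nd 23924 = n36115 := ndS (p := 11825) (l := 0) rfl N11825 D36115
theorem N23925 : nd 23925 = n36116 := ndS (p := 11825) (l := 1) rfl N11825 D36116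
theorem N23926 : nd 23926 = n36117 := ndS (p := 11825) (l := 2) rfl N11825 D36117
theorem N23927 : nd 23927 = n36139 := ndS (p := 11826) (l := 0) rfl N11826 D36139
theorem N23928 : nd 23928 = n36141 := ndS (p := 11826) (l := 2) rfl N11826 D36141
theorem N23929 : nd 23929 = n36142 := ndS (p := 11826) (l := 4) rfl N11826 D36142
theorem N23930 : nd 23930 = n36144 := ndS (p := 11826) (l := 6) rfl N11826 D36144
theorem N23931 : nd 23931 = n36158 := ndS (p := 11829) (l := 3) rfl N11829 D36158
theorem N23932 : nd 23932 = n36159 := ndS (p := 11829) (l := 6) rfl N11829 D36159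
theorem N23933 : nd 23933 = n36160 := ndS (p := 11830) (l := 6) rfl N11830 D36160
theorem N23934 : nd 23934 = n36161 := ndS (p := 11831) (l := 0) rfl N11831 D36161
theorem N23935 : nd 23935 = n36162 := ndS (p := 11831) (l := 1) rfl N11831 D36162
theorem N23936 : nd 23936 = n36164 := ndS (p := 11831) (l := 7) rfl N11831 D36164
theorem N23937 : nd 23937 = n36224 := ndS (p := 11832) (l := 3) rfl N11832 D36224
theorem N23938 : nd 23938 = n36225 := ndS (p := 11832) (l := 4) rfl N11832 D36225
theorem N23939 : nd 23939 = n36233 := ndS (p := 11833) (l := 0) rfl N11833 D36233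
theorem N23940 : nd 23940 = n36234 := ndS (p := 11833) (l := 1) rfl N11833 D36234
theorem N23941 : nd 23941 = n36235 := ndS (p := 11833) (l := 3) rfl N11833 D36235
theorem N23942 : nd 23942 = n36239 := ndS (p := 11834) (l := 4) rfl N11834 D36239
theorem N23943 : nd 23943 = n36242 := ndS (p := 11836) (l := 5) rfl N11836 D36242
theorem N23944 : nd 23944 = n36245 := ndS (p := 11838) (l := 4) rfl N11838 D36245
theorem N23945 : nd 23945 = n36247 := ndS (p := 11839) (l := 0) rfl N11839 D36247
theorem N23946 : nd 23946 = n36249 := ndS (p := 11839) (l := 3) rfl N11839 D36249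
theorem N23947 : nd 23947 = n36255 := ndS (p := 11840) (l := 4) rfl N11840 D36255
theorem N23948 : nd 23948 = n36256 := ndS (p := 11841) (l := 6) rfl N11841 D36256
theorem N23949 : nd 23949 = n36257 := ndS (p := 11842) (l := 3) rfl N11842 D36257
theorem N23950 : nd 23950 = n36259 := ndS (p := 11843) (l := 2) rfl N11843 D36259
theorem N23951 : nd 23951 = n36260 := ndS (p := 11843) (l := 4) rfl N11843 D36260
theorem N23952 : nd 23952 = n36264 := ndS (p := 11844) (l := 3) rfl N11844 D36264
theorem N23953 : nd 23953 = n36277 := ndS (p := 11845) (l := 3) rfl N11845 D36277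
theorem N23954 : nd 23954 = n36283 := ndS (p := 11846) (l := 0) rfl N11846 D36283
theorem N23955 : nd 23955 = n36284 := ndS (p := 11846) (l := 1) rfl N11846 D36284
theorem N23956 : nd 23956 = n36285 := ndS (p := 11846) (l := 2) rfl N11846 D36285
theorem N23957 : nd 23957 = n36292 := ndS (p := 11847) (l := 6) rfl N11847 D36292
theorem N23958 : nd 23958 = n36297 := ndS (p := 11849) (l := 4) rfl N11849 D36297
theorem N23959 : nd 23959 = n36298 := ndS (p := 11849) (l := 5) rfl N11849 D36298
theorem N23960 : nd 23960 = n36310 := ndS (p := 11850) (l := 3) rfl N11850 D36310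
theorem N23961 : nd 23961 = n36311 := ndS (p := 11850) (l := 5) rfl N11850 D36311
theorem N23962 : nd 23962 = n36313 := ndS (p := 11851) (l := 0) rfl N11851 D36313
theorem N23963 : nd 23963 = n36314 := ndS (p := 11851) (l := 1) rfl N11851 D36314
theorem N23964 : nd 23964 = n36315 := ndS (p := 11851) (l := 4) rfl N11851 D36315
theorem N23965 : nd 23965 = n36320 := ndS (p := 11852) (l := 0) rfl N11852 D36320
theorem N23966 : nd 23966 = n36322 := ndS (p := 11852) (l := 2) rfl N11852 D36322
theorem N23967 : nd 23967 = n36323 := ndS (p := 11852) (l := 5) rfl N11852 D36323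
theorem N23968 : nd 23968 = n36325 := ndS (p := 11853) (l := 0) rfl N11853 D36325
theorem N23969 : nd 23969 = n36331 := ndS (p := 11854) (l := 4) rfl N11854 D36331
theorem N23970 : nd 23970 = n36333 := ndS (p := 11855) (l := 4) rfl N11855 D36333
theorem N23971 : nd 23971 = n36334 := ndS (p := 11856) (l := 0) rfl N11856 D36334
theorem N23972 : nd 23972 = n36335 := ndS (p := 11856) (l := 1) rfl N11856 D36335
theorem N23973 : nd 23973 = n36336 := ndS (p := 11856) (l := 3) rfl N11856 D36336
theorem N23974 : nd 23974 = n36337 := ndS (p := 11856) (l := 5) rfl N11856 D36337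
theorem N23975 : nd 23975 = n36349 := ndS (p := 11857) (l := 4) rfl N11857 D36349
theorem N23976 : nd 23976 = n36350 := ndS (p := 11857) (l := 5) rfl N11857 D36350
theorem N23977 : nd 23977 = n36352 := ndS (p := 11858) (l := 4) rfl N11858 D36352
theorem N23978 : nd 23978 = n36353 := ndS (p := 11858) (l := 5) rfl N11858 D36353
theorem N23979 : nd 23979 = n36354 := ndS (p := 11858) (l := 6) rfl N11858 D36354
theorem N23980 : nd 23980 = n36357 := ndS (p := 11859) (l := 3) rfl N11859 D36357
theorem N23981 : nd 23981 = n36358 := ndS (p := 11859) (l := 5) rfl N11859 D36358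
theorem N23982 : nd 23982 = n36360 := ndS (p := 11860) (l := 0) rfl N11860 D36360
theorem N23983 : nd 23983 = n36361 := ndS (p := 11860) (l := 1) rfl N11860 D36361
theorem N23984 : nd 23984 = n36362 := ndS (p := 11860) (l := 4) rfl N11860 D36362
theorem N23985 : nd 23985 = n36363 := ndS (p := 11861) (l := 0) rfl N11861 D36363
theorem N23986 : nd 23986 = n36365 := ndS (p := 11861) (l := 5) rfl N11861 D36365
theorem N23987 : nd 23987 = n36368 := ndS (p := 11862) (l := 1) rfl N11862 D36368
theorem N23988 : nd 23988 = n36369 := ndS (p := 11862) (l := 2) rfl N11862 D36369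
theorem N23989 : nd 23989 = n36370 := ndS (p := 11862) (l := 5) rfl N11862 D36370
theorem N23990 : nd 23990 = n36371 := ndS (p := 11862) (l := 6) rfl N11862 D36371
theorem N23991 : nd 23991 = n36372 := ndS (p := 11863) (l := 4) rfl N11863 D36372
theorem N23992 : nd 23992 = n36373 := ndS (p := 11863) (l := 6) rfl N11863 D36373
theorem N23993 : nd 23993 = n36374 := ndS (p := 11864) (l := 5) rfl N11864 D36374
theorem N23994 : nd 23994 = n36375 := ndS (p := 11865) (l := 3) rfl N11865 D36375
theorem N23995 : nd 23995 = n36376 := ndS (p := 11865) (l := 5) rfl N11865 D36376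
theorem N23996 : nd 23996 = n36378 := ndS (p := 11866) (l := 4) rfl N11866 D36378
theorem N23997 : nd 23997 = n36381 := ndS (p := 11867) (l := 2) rfl N11867 D36381
theorem N23998 : nd 23998 = n36382 := ndS (p := 11867) (l := 4) rfl N11867 D36382
theorem N23999 : nd 23999 = n36383 := ndS (p := 11867) (l := 5) rfl N11867 D36383
theorem N24000 : nd 24000 = n36384 := ndS (p := 11867) (l := 6) rfl N11867 D36384
theorem N24001 : nd 24001 = n36385 := ndS (p := 11868) (l := 3) rfl N11868 D36385
theorem N24002 : nd 24002 = n36387 := ndS (p := 11868) (l := 6) rfl N11868 D36387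
theorem N24003 : nd 24003 = n36390 := ndS (p := 11871) (l := 2) rfl N11871 D36390
theorem N24004 : nd 24004 = n36391 := ndS (p := 11871) (l := 4) rfl N11871 D36391
theorem N24005 : nd 24005 = n36392 := ndS (p := 11871) (l := 6) rfl N11871 D36392
theorem N24006 : nd 24006 = n36393 := ndS (p := 11872) (l := 3) rfl N11872 D36393
theorem N24007 : nd 24007 = n36394 := ndS (p := 11872) (l := 5) rfl N11872 D36394
theorem N24008 : nd 24008 = n36395 := ndS (p := 11872) (l := 6) rfl N11872 D36395
theorem N24009 : nd 24009 = n36396 := ndS (p := 11874) (l := 3) rfl N11874 D36396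
theorem N24010 : nd 24010 = n36398 := ndS (p := 11874) (l := 6) rfl N11874 D36398
theorem N24011 : nd 24011 = n36399 := ndS (p := 11875) (l := 3) rfl N11875 D36399
theorem N24012 : nd 24012 = n36400 := ndS (p := 11875) (l := 5) rfl N11875 D36400
theorem N24013 : nd 24013 = n36401 := ndS (p := 11875) (l := 6) rfl N11875 D36401
theorem N24014 : nd 24014 = n36402 := ndS (p := 11876) (l := 0) rfl N11876 D36402
theorem N24015 : nd 24015 = n36403 := ndS (p := 11876) (l := 1) rfl N11876 D36403
theorem N24016 : nd 24016 = n36404 := ndS (p := 11876) (l := 2) rfl N11876 D36404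
theorem N24017 : nd 24017 = n36405 := ndS (p := 11876) (l := 5) rfl N11876 D36405
theorem N24018 : nd 24018 = n36406 := ndS (p := 11876) (l := 7) rfl N11876 D36406
theorem N24019 : nd 24019 = n36407 := ndS (p := 11877) (l := 0) rfl N11877 D36407
theorem N24020 : nd 24020 = n36408 := ndS (p := 11877) (l := 1) rfl N11877 D36408
theorem N24021 : nd 24021 = n36410 := ndS (p := 11877) (l := 7) rfl N11877 D36410
theorem N24022 : nd 24022 = n36411 := ndS (p := 11880) (l := 5) rfl N11880 D36411
theorem N24023 : nd 24023 = n36412 := ndS (p := 11881) (l := 4) rfl N11881 D36412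
theorem N24024 : nd 24024 = n36413 := ndS (p := 11881) (l := 6) rfl N11881 D36413
theorem N24025 : nd 24025 = n36414 := ndS (p := 11882) (l := 4) rfl N11882 D36414
theorem N24026 : nd 24026 = n36415 := ndS (p := 11882) (l := 6) rfl N11882 D36415
theorem N24027 : nd 24027 = n36416 := ndS (p := 11883) (l := 3) rfl N11883 D36416
theorem N24028 : nd 24028 = n36417 := ndS (p := 11883) (l := 4) rfl N11883 D36417
theorem N24029 : nd 24029 = n36418 := ndS (p := 11883) (l := 6) rfl N11883 D36418
theorem N24030 : nd 24030 = n36419 := ndS (p := 11884) (l := 0) rfl N11884 D36419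
theorem N24031 : nd 24031 = n36420 := ndS (p := 11884) (l := 1) rfl N11884 D36420
theorem N24032 : nd 24032 = n36421 := ndS (p := 11884) (l := 3) rfl N11884 D36421
theorem N24033 : nd 24033 = n36422 := ndS (p := 11884) (l := 5) rfl N11884 D36422
theorem N24034 : nd 24034 = n36423 := ndS (p := 11884) (l := 6) rfl N11884 D36423
theorem N24035 : nd 24035 = n36424 := ndS (p := 11885) (l := 0) rfl N11885 D36424
theorem N24036 : nd 24036 = n36425 := ndS (p := 11885) (l := 1) rfl N11885 D36425
theorem N24037 : nd 24037 = n36426 := ndS (p := 11885) (l := 7) rfl N11885 D36426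
theorem N24038 : nd 24038 = n36427 := ndS (p := 11886) (l := 0) rfl N11886 D36427
theorem N24039 : nd 24039 = n36428 := ndS (p := 11886) (l := 1) rfl N11886 D36428
theorem N24040 : nd 24040 = n36429 := ndS (p := 11886) (l := 2) rfl N11886 D36429
theorem N24041 : nd 24041 = n36430 := ndS (p := 11886) (l := 6) rfl N11886 D36430
theorem N24042 : nd 24042 = n36431 := ndS (p := 11887) (l := 5) rfl N11887 D36431
theorem N24043 : nd 24043 = n36432 := ndS (p := 11887) (l := 7) rfl N11887 D36432
theorem N24044 : nd 24044 = n36436 := ndS (p := 11891) (l := 4) rfl N11891 D36436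
theorem N24045 : nd 24045 = n36437 := ndS (p := 11892) (l := 4) rfl N11892 D36437
theorem N24046 : nd 24046 = n36438 := ndS (p := 11892) (l := 6) rfl N11892 D36438
theorem N24047 : nd 24047 = n36439 := ndS (p := 11893) (l := 4) rfl N11893 D36439
theorem N24048 : nd 24048 = n36440 := ndS (p := 11893) (l := 6) rfl N11893 D36440
theorem N24049 : nd 24049 = n36441 := ndS (p := 11894) (l := 0) rfl N11894 D36441
theorem N24050 : nd 24050 = n36442 := ndS (p := 11894) (l := 1) rfl N11894 D36442
theorem N24051 : nd 24051 = n36443 := ndS (p := 11894) (l := 3) rfl N11894 D36443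
theorem N24052 : nd 24052 = n36444 := ndS (p := 11894) (l := 5) rfl N11894 D36444
theorem N24053 : nd 24053 = n36445 := ndS (p := 11895) (l := 0) rfl N11895 D36445
theorem N24054 : nd 24054 = n36446 := ndS (p := 11895) (l := 1) rfl N11895 D36446
theorem N24055 : nd 24055 = n36447 := ndS (p := 11895) (l := 2) rfl N11895 D36447
theorem N24056 : nd 24056 = n36449 := ndS (p := 11896) (l := 3) rfl N11896 D36449
theorem N24057 : nd 24057 = n36450 := ndS (p := 11896) (l := 4) rfl N11896 D36450
theorem N24058 : nd 24058 = n36452 := ndS (p := 11896) (l := 6) rfl N11896 D36452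
theorem N24059 : nd 24059 = n36454 := ndS (p := 11897) (l := 3) rfl N11897 D36454
theorem N24060 : nd 24060 = n36455 := ndS (p := 11897) (l := 4) rfl N11897 D36455
theorem N24061 : nd 24061 = n36458 := ndS (p := 11899) (l := 3) rfl N11899 D36458
theorem N24062 : nd 24062 = n36459 := ndS (p := 11899) (l := 4) rfl N11899 D36459
theorem N24063 : nd 24063 = n36469 := ndS (p := 11900) (l := 3) rfl N11900 D36469
theorem N24064 : nd 24064 = n36470 := ndS (p := 11900) (l := 5) rfl N11900 D36470
theorem N24065 : nd 24065 = n36476 := ndS (p := 11903) (l := 4) rfl N11903 D36476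
theorem N24066 : nd 24066 = n36483 := ndS (p := 11906) (l := 4) rfl N11906 D36483
theorem N24067 : nd 24067 = n36491 := ndS (p := 11907) (l := 0) rfl N11907 D36491
theorem N24068 : nd 24068 = n36492 := ndS (p := 11907) (l := 1) rfl N11907 D36492
theorem N24069 : nd 24069 = n36496 := ndS (p := 11908) (l := 0) rfl N11908 D36496
theorem N24070 : nd 24070 = n36501 := ndS (p := 11909) (l := 3) rfl N11909 D36501
theorem N24071 : nd 24071 = n36502 := ndS (p := 11909) (l := 4) rfl N11909 D36502
theorem N24072 : nd 24072 = n36504 := ndS (p := 11909) (l := 6) rfl N11909 D36504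
theorem N24073 : nd 24073 = n36509 := ndS (p := 11910) (l := 0) rfl N11910 D36509
theorem N24074 : nd 24074 = n36510 := ndS (p := 11910) (l := 1) rfl N11910 D36510
theorem N24075 : nd 24075 = n36511 := ndS (p := 11910) (l := 7) rfl N11910 D36511
theorem N24076 : nd 24076 = n36512 := ndS (p := 11911) (l := 3) rfl N11911 D36512
theorem N24077 : nd 24077 = n36514 := ndS (p := 11912) (l := 6) rfl N11912 D36514
theorem N24078 : nd 24078 = n36515 := ndS (p := 11913) (l := 0) rfl N11913 D36515
theorem N24079 : nd 24079 = n36516 := ndS (p := 11913) (l := 1) rfl N11913 D36516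
theorem N24080 : nd 24080 = n36517 := ndS (p := 11913) (l := 6) rfl N11913 D36517
theorem N24081 : nd 24081 = n36518 := ndS (p := 11914) (l := 0) rfl N11914 D36518
theorem N24082 : nd 24082 = n36519 := ndS (p := 11914) (l := 1) rfl N11914 D36519
theorem N24083 : nd 24083 = n36521 := ndS (p := 11914) (l := 7) rfl N11914 D36521
theorem N24084 : nd 24084 = n36524 := ndS (p := 11915) (l := 4) rfl N11915 D36524
theorem N24085 : nd 24085 = n36526 := ndS (p := 11915) (l := 6) rfl N11915 D36526
theorem N24086 : nd 24086 = n36529 := ndS (p := 11916) (l := 4) rfl N11916 D36529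
theorem N24087 : nd 24087 = n36532 := ndS (p := 11918) (l := 6) rfl N11918 D36532
theorem N24088 : nd 24088 = n36533 := ndS (p := 11919) (l := 3) rfl N11919 D36533
theorem N24089 : nd 24089 = n36534 := ndS (p := 11919) (l := 6) rfl N11919 D36534
theorem N24090 : nd 24090 = n36535 := ndS (p := 11920) (l := 0) rfl N11920 D36535
theorem N24091 : nd 24091 = n36536 := ndS (p := 11920) (l := 1) rfl N11920 D36536
theorem N24092 : nd 24092 = n36537 := ndS (p := 11920) (l := 5) rfl N11920 D36537
theorem N24093 : nd 24093 = n36538 := ndS (p := 11920) (l := 7) rfl N11920 D36538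
theorem N24094 : nd 24094 = n36539 := ndS (p := 11921) (l := 0) rfl N11921 D36539
theorem N24095 : nd 24095 = n36541 := ndS (p := 11921) (l := 2) rfl N11921 D36541
theorem N24096 : nd 24096 = n36542 := ndS (p := 11921) (l := 5) rfl N11921 D36542
theorem N24097 : nd 24097 = n36543 := ndS (p := 11921) (l := 6) rfl N11921 D36543
theorem N24098 : nd 24098 = n36544 := ndS (p := 11922) (l := 6) rfl N11922 D36544
theorem N24099 : nd 24099 = n36545 := ndS (p := 11923) (l := 0) rfl N11923 D36545
theorem N24100 : nd 24100 = n36546 := ndS (p := 11923) (l := 1) rfl N11923 D36546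
theorem N24101 : nd 24101 = n36547 := ndS (p := 11923) (l := 5) rfl N11923 D36547
theorem N24102 : nd 24102 = n36548 := ndS (p := 11923) (l := 7) rfl N11923 D36548
theorem N24103 : nd 24103 = n36551 := ndS (p := 11924) (l := 4) rfl N11924 D36551
theorem N24104 : nd 24104 = n36555 := ndS (p := 11925) (l := 4) rfl N11925 D36555
theorem N24105 : nd 24105 = n36557 := ndS (p := 11925) (l := 6) rfl N11925 D36557
theorem N24106 : nd 24106 = n36562 := ndS (p := 11928) (l := 0) rfl N11928 D36562
theorem N24107 : nd 24107 = n36563 := ndS (p := 11928) (l := 1) rfl N11928 D36563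
theorem N24108 : nd 24108 = n36564 := ndS (p := 11928) (l := 2) rfl N11928 D36564
theorem N24109 : nd 24109 = n36565 := ndS (p := 11928) (l := 4) rfl N11928 D36565
theorem N24110 : nd 24110 = n36566 := ndS (p := 11928) (l := 5) rfl N11928 D36566
theorem N24111 : nd 24111 = n36567 := ndS (p := 11928) (l := 6) rfl N11928 D36567
theorem N24112 : nd 24112 = n36568 := ndS (p := 11929) (l := 6) rfl N11929 D36568
theorem N24113 : nd 24113 = n36571 := ndS (p := 11930) (l := 5) rfl N11930 D36571
theorem N24114 : nd 24114 = n36572 := ndS (p := 11930) (l := 7) rfl N11930 D36572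
theorem N24115 : nd 24115 = n36573 := ndS (p := 11931) (l := 0) rfl N11931 D36573
theorem N24116 : nd 24116 = n36574 := ndS (p := 11931) (l := 1) rfl N11931 D36574
theorem N24117 : nd 24117 = n36575 := ndS (p := 11931) (l := 6) rfl N11931 D36575
theorem N24118 : nd 24118 = n36576 := ndS (p := 11932) (l := 6) rfl N11932 D36576
theorem N24119 : nd 24119 = n36579 := ndS (p := 11933) (l := 5) rfl N11933 D36579
theorem N24120 : nd 24120 = n36580 := ndS (p := 11933) (l := 7) rfl N11933 D36580
theorem N24121 : nd 24121 = n36588 := ndS (p := 11934) (l := 3) rfl N11934 D36588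
theorem N24122 : nd 24122 = n36590 := ndS (p := 11934) (l := 5) rfl N11934 D36590
theorem N24123 : nd 24123 = n36591 := ndS (p := 11934) (l := 6) rfl N11934 D36591
theorem N24124 : nd 24124 = n36609 := ndS (p := 11935) (l := 2) rfl N11935 D36609
theorem N24125 : nd 24125 = n36610 := ndS (p := 11935) (l := 4) rfl N11935 D36610
theorem N24126 : nd 24126 = n36611 := ndS (p := 11935) (l := 5) rfl N11935 D36611
theorem N24127 : nd 24127 = n36612 := ndS (p := 11935) (l := 6) rfl N11935 D36612
theorem N24128 : nd 24128 = n36616 := ndS (p := 11936) (l := 3) rfl N11936 D36616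
theorem N24129 : nd 24129 = n36617 := ndS (p := 11936) (l := 5) rfl N11936 D36617
theorem N24130 : nd 24130 = n36618 := ndS (p := 11936) (l := 6) rfl N11936 D36618
theorem N24131 : nd 24131 = n36620 := ndS (p := 11937) (l := 0) rfl N11937 D36620
theorem N24132 : nd 24132 = n36622 := ndS (p := 11937) (l := 4) rfl N11937 D36622
theorem N24133 : nd 24133 = n36628 := ndS (p := 11938) (l := 7) rfl N11938 D36628
theorem N24134 : nd 24134 = n36644 := ndS (p := 11939) (l := 3) rfl N11939 D36644
theorem N24135 : nd 24135 = n36645 := ndS (p := 11939) (l := 6) rfl N11939 D36645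
theorem N24136 : nd 24136 = n36646 := ndS (p := 11940) (l := 0) rfl N11940 D36646
theorem N24137 : nd 24137 = n36647 := ndS (p := 11940) (l := 1) rfl N11940 D36647
theorem N24138 : nd 24138 = n36648 := ndS (p := 11940) (l := 7) rfl N11940 D36648
theorem N24139 : nd 24139 = n36651 := ndS (p := 11941) (l := 0) rfl N11941 D36651
theorem N24140 : nd 24140 = n36652 := ndS (p := 11941) (l := 1) rfl N11941 D36652
theorem N24141 : nd 24141 = n36653 := ndS (p := 11941) (l := 6) rfl N11941 D36653
theorem N24142 : nd 24142 = n36654 := ndS (p := 11942) (l := 0) rfl N11942 D36654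
theorem N24143 : nd 24143 = n36655 := ndS (p := 11942) (l := 1) rfl N11942 D36655
theorem N24144 : nd 24144 = n36656 := ndS (p := 11942) (l := 5) rfl N11942 D36656
theorem N24145 : nd 24145 = n36657 := ndS (p := 11942) (l := 7) rfl N11942 D36657
theorem N24146 : nd 24146 = n36659 := ndS (p := 11943) (l := 3) rfl N11943 D36659
theorem N24147 : nd 24147 = n36660 := ndS (p := 11943) (l := 4) rfl N11943 D36660
theorem N24148 : nd 24148 = n36662 := ndS (p := 11943) (l := 6) rfl N11943 D36662
theorem N24149 : nd 24149 = n36664 := ndS (p := 11944) (l := 3) rfl N11944 D36664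
theorem N24150 : nd 24150 = n36665 := ndS (p := 11944) (l := 4) rfl N11944 D36665
theorem N24151 : nd 24151 = n36667 := ndS (p := 11944) (l := 6) rfl N11944 D36667
theorem N24152 : nd 24152 = n36680 := ndS (p := 11950) (l := 3) rfl N11950 D36680
theorem N24153 : nd 24153 = n36681 := ndS (p := 11950) (l := 6) rfl N11950 D36681
theorem N24154 : nd 24154 = n36682 := ndS (p := 11951) (l := 0) rfl N11951 D36682
theorem N24155 : nd 24155 = n36683 := ndS (p := 11951) (l := 1) rfl N11951 D36683
theorem N24156 : nd 24156 = n36684 := ndS (p := 11951) (l := 7) rfl N11951 D36684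
theorem N24157 : nd 24157 = n36685 := ndS (p := 11952) (l := 6) rfl N11952 D36685
theorem N24158 : nd 24158 = n36686 := ndS (p := 11953) (l := 0) rfl N11953 D36686
theorem N24159 : nd 24159 = n36687 := ndS (p := 11953) (l := 1) rfl N11953 D36687
theorem N24160 : nd 24160 = n36688 := ndS (p := 11953) (l := 5) rfl N11953 D36688
theorem N24161 : nd 24161 = n36689 := ndS (p := 11953) (l := 7) rfl N11953 D36689
theorem N24162 : nd 24162 = n36692 := ndS (p := 11954) (l := 4) rfl N11954 D36692
theorem N24163 : nd 24163 = n36693 := ndS (p := 11954) (l := 5) rfl N11954 D36693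
theorem N24164 : nd 24164 = n36696 := ndS (p := 11955) (l := 3) rfl N11955 D36696
theorem N24165 : nd 24165 = n36697 := ndS (p := 11955) (l := 4) rfl N11955 D36697
theorem N24166 : nd 24166 = n36698 := ndS (p := 11955) (l := 5) rfl N11955 D36698
theorem N24167 : nd 24167 = n36699 := ndS (p := 11955) (l := 6) rfl N11955 D36699
theorem N24168 : nd 24168 = n36705 := ndS (p := 11957) (l := 4) rfl N11957 D36705
theorem N24169 : nd 24169 = n36712 := ndS (p := 11959) (l := 4) rfl N11959 D36712
theorem N24170 : nd 24170 = n36724 := ndS (p := 11961) (l := 5) rfl N11961 D36724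
theorem N24171 : nd 24171 = n36725 := ndS (p := 11961) (l := 6) rfl N11961 D36725
theorem N24172 : nd 24172 = n36728 := ndS (p := 11962) (l := 3) rfl N11962 D36728
theorem N24173 : nd 24173 = n36729 := ndS (p := 11962) (l := 5) rfl N11962 D36729
theorem N24174 : nd 24174 = n36730 := ndS (p := 11962) (l := 6) rfl N11962 D36730
theorem N24175 : nd 24175 = n36731 := ndS (p := 11963) (l := 0) rfl N11963 D36731
theorem N24176 : nd 24176 = n36732 := ndS (p := 11963) (l := 1) rfl N11963 D36732
theorem N24177 : nd 24177 = n36733 := ndS (p := 11963) (l := 4) rfl N11963 D36733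
theorem N24178 : nd 24178 = n36734 := ndS (p := 11963) (l := 6) rfl N11963 D36734
theorem N24179 : nd 24179 = n36735 := ndS (p := 11964) (l := 0) rfl N11964 D36735
theorem N24180 : nd 24180 = n36736 := ndS (p := 11964) (l := 1) rfl N11964 D36736
theorem N24181 : nd 24181 = n36737 := ndS (p := 11964) (l := 7) rfl N11964 D36737
theorem N24182 : nd 24182 = n36738 := ndS (p := 11965) (l := 0) rfl N11965 D36738
theorem N24183 : nd 24183 = n36740 := ndS (p := 11965) (l := 2) rfl N11965 D36740
theorem N24184 : nd 24184 = n36742 := ndS (p := 11965) (l := 6) rfl N11965 D36742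
theorem N24185 : nd 24185 = n36746 := ndS (p := 11966) (l := 1) rfl N11966 D36746
theorem N24186 : nd 24186 = n36749 := ndS (p := 11969) (l := 3) rfl N11969 D36749
theorem N24187 : nd 24187 = n36758 := ndS (p := 11973) (l := 4) rfl N11973 D36758
theorem N24188 : nd 24188 = n36762 := ndS (p := 11974) (l := 5) rfl N11974 D36762
theorem N24189 : nd 24189 = n36763 := ndS (p := 11974) (l := 6) rfl N11974 D36763
theorem N24190 : nd 24190 = n36766 := ndS (p := 11975) (l := 3) rfl N11975 D36766
theorem N24191 : nd 24191 = n36767 := ndS (p := 11975) (l := 5) rfl N11975 D36767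
theorem N24192 : nd 24192 = n36768 := ndS (p := 11975) (l := 6) rfl N11975 D36768
theorem N24193 : nd 24193 = n36769 := ndS (p := 11976) (l := 0) rfl N11976 D36769
theorem N24194 : nd 24194 = n36770 := ndS (p := 11976) (l := 1) rfl N11976 D36770
theorem N24195 : nd 24195 = n36771 := ndS (p := 11976) (l := 4) rfl N11976 D36771
theorem N24196 : nd 24196 = n36772 := ndS (p := 11977) (l := 0) rfl N11977 D36772
theorem N24197 : nd 24197 = n36773 := ndS (p := 11977) (l := 1) rfl N11977 D36773
theorem N24198 : nd 24198 = n36774 := ndS (p := 11977) (l := 5) rfl N11977 D36774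
theorem N24199 : nd 24199 = n36775 := ndS (p := 11977) (l := 7) rfl N11977 D36775
theorem N24200 : nd 24200 = n36777 := ndS (p := 11978) (l := 1) rfl N11978 D36777
theorem N24201 : nd 24201 = n36778 := ndS (p := 11978) (l := 2) rfl N11978 D36778
theorem N24202 : nd 24202 = n36779 := ndS (p := 11978) (l := 5) rfl N11978 D36779
theorem N24203 : nd 24203 = n36780 := ndS (p := 11978) (l := 6) rfl N11978 D36780
theorem N24204 : nd 24204 = n36783 := ndS (p := 11980) (l := 0) rfl N11980 D36783
theorem N24205 : nd 24205 = n36784 := ndS (p := 11980) (l := 7) rfl N11980 D36784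
theorem N24206 : nd 24206 = n36786 := ndS (p := 11982) (l := 4) rfl N11982 D36786
theorem N24207 : nd 24207 = n36790 := ndS (p := 11984) (l := 7) rfl N11984 D36790
theorem N24208 : nd 24208 = n36793 := ndS (p := 11985) (l := 7) rfl N11985 D36793
theorem N24209 : nd 24209 = n36816 := ndS (p := 11986) (l := 0) rfl N11986 D36816
theorem N24210 : nd 24210 = n36817 := ndS (p := 11986) (l := 1) rfl N11986 D36817
theorem N24211 : nd 24211 = n36818 := ndS (p := 11986) (l := 7) rfl N11986 D36818
theorem N24212 : nd 24212 = n36824 := ndS (p := 11987) (l := 2) rfl N11987 D36824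
theorem N24213 : nd 24213 = n36825 := ndS (p := 11987) (l := 6) rfl N11987 D36825
theorem N24214 : nd 24214 = n36826 := ndS (p := 11988) (l := 1) rfl N11988 D36826
theorem N24215 : nd 24215 = n36827 := ndS (p := 11988) (l := 6) rfl N11988 D36827
theorem N24216 : nd 24216 = n36829 := ndS (p := 11989) (l := 1) rfl N11989 D36829
theorem N24217 : nd 24217 = n36846 := ndS (p := 11992) (l := 1) rfl N11992 D36846
theorem N24218 : nd 24218 = n36847 := ndS (p := 11992) (l := 2) rfl N11992 D36847
theorem N24219 : nd 24219 = n36848 := ndS (p := 11992) (l := 5) rfl N11992 D36848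
theorem N24220 : nd 24220 = n36849 := ndS (p := 11992) (l := 6) rfl N11992 D36849
theorem N24221 : nd 24221 = n36850 := ndS (p := 11993) (l := 6) rfl N11993 D36850
theorem N24222 : nd 24222 = n37183 := ndS (p := 11997) (l := 0) rfl N11997 D37183
theorem N24223 : nd 24223 = n37185 := ndS (p := 11997) (l := 5) rfl N11997 D37185
theorem N24224 : nd 24224 = n37186 := ndS (p := 11997) (l := 7) rfl N11997 D37186
theorem N24225 : nd 24225 = n37187 := ndS (p := 11999) (l := 3) rfl N11999 D37187
theorem N24226 : nd 24226 = n37188 := ndS (p := 11999) (l := 5) rfl N11999 D37188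
theorem N24227 : nd 24227 = n37189 := ndS (p := 11999) (l := 6) rfl N11999 D37189
theorem N24228 : nd 24228 = n37190 := ndS (p := 12000) (l := 5) rfl N12000 D37190
theorem N24229 : nd 24229 = n37191 := ndS (p := 12000) (l := 6) rfl N12000 D37191
theorem N24230 : nd 24230 = n37192 := ndS (p := 12001) (l := 2) rfl N12001 D37192
theorem N24231 : nd 24231 = n37193 := ndS (p := 12001) (l := 6) rfl N12001 D37193
theorem N24232 : nd 24232 = n37194 := ndS (p := 12002) (l := 0) rfl N12002 D37194
theorem N24233 : nd 24233 = n37195 := ndS (p := 12002) (l := 1) rfl N12002 D37195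
theorem N24234 : nd 24234 = n37196 := ndS (p := 12002) (l := 6) rfl N12002 D37196
theorem N24235 : nd 24235 = n37199 := ndS (p := 12003) (l := 5) rfl N12003 D37199
theorem N24236 : nd 24236 = n37200 := ndS (p := 12003) (l := 7) rfl N12003 D37200
theorem N24237 : nd 24237 = n37203 := ndS (p := 12004) (l := 4) rfl N12004 D37203
theorem N24238 : nd 24238 = n37204 := ndS (p := 12004) (l := 5) rfl N12004 D37204
theorem N24239 : nd 24239 = n37211 := ndS (p := 12005) (l := 0) rfl N12005 D37211
theorem N24240 : nd 24240 = n37213 := ndS (p := 12005) (l := 4) rfl N12005 D37213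
theorem N24241 : nd 24241 = n37214 := ndS (p := 12005) (l := 7) rfl N12005 D37214
theorem N24242 : nd 24242 = n37215 := ndS (p := 12007) (l := 4) rfl N12007 D37215
theorem N24243 : nd 24243 = n37216 := ndS (p := 12008) (l := 0) rfl N12008 D37216
theorem N24244 : nd 24244 = n37217 := ndS (p := 12008) (l := 1) rfl N12008 D37217
theorem N24245 : nd 24245 = n37218 := ndS (p := 12008) (l := 3) rfl N12008 D37218
theorem N24246 : nd 24246 = n37219 := ndS (p := 12008) (l := 5) rfl N12008 D37219
theorem N24247 : nd 24247 = n37220 := ndS (p := 12009) (l := 3) rfl N12009 D37220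
theorem N24248 : nd 24248 = n37221 := ndS (p := 12009) (l := 5) rfl N12009 D37221
theorem N24249 : nd 24249 = n37222 := ndS (p := 12009) (l := 6) rfl N12009 D37222
theorem N24250 : nd 24250 = n37226 := ndS (p := 12011) (l := 0) rfl N12011 D37226
theorem N24251 : nd 24251 = n37227 := ndS (p := 12011) (l := 1) rfl N12011 D37227
theorem N24252 : nd 24252 = n37246 := ndS (p := 12014) (l := 0) rfl N12014 D37246
theorem N24253 : nd 24253 = n37247 := ndS (p := 12014) (l := 1) rfl N12014 D37247
theorem N24254 : nd 24254 = n37248 := ndS (p := 12014) (l := 6) rfl N12014 D37248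
theorem N24255 : nd 24255 = n37250 := ndS (p := 12015) (l := 1) rfl N12015 D37250
theorem N24256 : nd 24256 = n37251 := ndS (p := 12015) (l := 5) rfl N12015 D37251
theorem N24257 : nd 24257 = n37255 := ndS (p := 12016) (l := 4) rfl N12016 D37255
theorem N24258 : nd 24258 = n37256 := ndS (p := 12016) (l := 5) rfl N12016 D37256
theorem N24259 : nd 24259 = n37257 := ndS (p := 12016) (l := 6) rfl N12016 D37257
theorem N24260 : nd 24260 = n37259 := ndS (p := 12017) (l := 4) rfl N12017 D37259
theorem N24261 : nd 24261 = n37264 := ndS (p := 12019) (l := 3) rfl N12019 D37264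
theorem N24262 : nd 24262 = n37266 := ndS (p := 12020) (l := 3) rfl N12020 D37266
theorem N24263 : nd 24263 = n37268 := ndS (p := 12021) (l := 0) rfl N12021 D37268
theorem N24264 : nd 24264 = n37269 := ndS (p := 12021) (l := 2) rfl N12021 D37269
theorem N24265 : nd 24265 = n37270 := ndS (p := 12021) (l := 5) rfl N12021 D37270
theorem N24266 : nd 24266 = n37271 := ndS (p := 12021) (l := 6) rfl N12021 D37271
theorem N24267 : nd 24267 = n37272 := ndS (p := 12022) (l := 0) rfl N12022 D37272
theorem N24268 : nd 24268 = n37273 := ndS (p := 12022) (l := 1) rfl N12022 D37273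
theorem N24269 : nd 24269 = n37274 := ndS (p := 12022) (l := 6) rfl N12022 D37274
theorem N24270 : nd 24270 = n37275 := ndS (p := 12023) (l := 0) rfl N12023 D37275
theorem N24271 : nd 24271 = n37276 := ndS (p := 12023) (l := 1) rfl N12023 D37276
theorem N24272 : nd 24272 = n37289 := ndS (p := 12024) (l := 3) rfl N12024 D37289
theorem N24273 : nd 24273 = n37291 := ndS (p := 12024) (l := 6) rfl N12024 D37291
theorem N24274 : nd 24274 = n37293 := ndS (p := 12025) (l := 1) rfl N12025 D37293
theorem N24275 : nd 24275 = n37295 := ndS (p := 12025) (l := 7) rfl N12025 D37295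
theorem N24276 : nd 24276 = n37296 := ndS (p := 12026) (l := 0) rfl N12026 D37296
theorem N24277 : nd 24277 = n37297 := ndS (p := 12026) (l := 1) rfl N12026 D37297
theorem N24278 : nd 24278 = n37298 := ndS (p := 12026) (l := 2) rfl N12026 D37298
theorem N24279 : nd 24279 = n37302 := ndS (p := 12028) (l := 0) rfl N12028 D37302
theorem N24280 : nd 24280 = n37303 := ndS (p := 12028) (l := 1) rfl N12028 D37303
theorem N24281 : nd 24281 = n37305 := ndS (p := 12028) (l := 7) rfl N12028 D37305
theorem N24282 : nd 24282 = n37312 := ndS (p := 12029) (l := 4) rfl N12029 D37312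
theorem N24283 : nd 24283 = n37313 := ndS (p := 12029) (l := 5) rfl N12029 D37313
theorem N24284 : nd 24284 = n37314 := ndS (p := 12029) (l := 6) rfl N12029 D37314
theorem N24285 : nd 24285 = n37317 := ndS (p := 12030) (l := 4) rfl N12030 D37317
theorem N24286 : nd 24286 = n37318 := ndS (p := 12030) (l := 7) rfl N12030 D37318
theorem N24287 : nd 24287 = n37319 := ndS (p := 12032) (l := 0) rfl N12032 D37319
theorem N24288 : nd 24288 = n37320 := ndS (p := 12032) (l := 1) rfl N12032 D37320
theorem N24289 : nd 24289 = n37321 := ndS (p := 12032) (l := 2) rfl N12032 D37321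
theorem N24290 : nd 24290 = n37322 := ndS (p := 12032) (l := 5) rfl N12032 D37322
theorem N24291 : nd 24291 = n37323 := ndS (p := 12032) (l := 6) rfl N12032 D37323
theorem N24292 : nd 24292 = n37324 := ndS (p := 12033) (l := 6) rfl N12033 D37324
theorem N24293 : nd 24293 = n37327 := ndS (p := 12034) (l := 5) rfl N12034 D37327
theorem N24294 : nd 24294 = n37329 := ndS (p := 12035) (l := 0) rfl N12035 D37329
theorem N24295 : nd 24295 = n37330 := ndS (p := 12035) (l := 1) rfl N12035 D37330
theorem N24296 : nd 24296 = n37331 := ndS (p := 12035) (l := 2) rfl N12035 D37331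
theorem N24297 : nd 24297 = n37332 := ndS (p := 12035) (l := 5) rfl N12035 D37332
theorem N24298 : nd 24298 = n37333 := ndS (p := 12035) (l := 6) rfl N12035 D37333
theorem N24299 : nd 24299 = n37334 := ndS (p := 12036) (l := 6) rfl N12036 D37334
theorem N24300 : nd 24300 = n37337 := ndS (p := 12037) (l := 5) rfl N12037 D37337
theorem N24301 : nd 24301 = n37338 := ndS (p := 12037) (l := 7) rfl N12037 D37338
theorem N24302 : nd 24302 = n37339 := ndS (p := 12038) (l := 3) rfl N12038 D37339
theorem N24303 : nd 24303 = n37340 := ndS (p := 12038) (l := 6) rfl N12038 D37340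
theorem N24304 : nd 24304 = n37341 := ndS (p := 12039) (l := 3) rfl N12039 D37341
theorem N24305 : nd 24305 = n37343 := ndS (p := 12040) (l := 0) rfl N12040 D37343
theorem N24306 : nd 24306 = n37344 := ndS (p := 12040) (l := 1) rfl N12040 D37344
theorem N24307 : nd 24307 = n37345 := ndS (p := 12040) (l := 5) rfl N12040 D37345
theorem N24308 : nd 24308 = n37346 := ndS (p := 12040) (l := 7) rfl N12040 D37346
theorem N24309 : nd 24309 = n37348 := ndS (p := 12041) (l := 3) rfl N12041 D37348
theorem N24310 : nd 24310 = n37350 := ndS (p := 12041) (l := 5) rfl N12041 D37350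
theorem N24311 : nd 24311 = n37351 := ndS (p := 12041) (l := 6) rfl N12041 D37351
theorem N24312 : nd 24312 = n37355 := ndS (p := 12042) (l := 5) rfl N12042 D37355
theorem N24313 : nd 24313 = n37356 := ndS (p := 12042) (l := 6) rfl N12042 D37356
theorem N24314 : nd 24314 = n37357 := ndS (p := 12043) (l := 0) rfl N12043 D37357
theorem N24315 : nd 24315 = n37358 := ndS (p := 12043) (l := 1) rfl N12043 D37358
theorem N24316 : nd 24316 = n37359 := ndS (p := 12043) (l := 4) rfl N12043 D37359
theorem N24317 : nd 24317 = n37360 := ndS (p := 12043) (l := 7) rfl N12043 D37360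
theorem N24318 : nd 24318 = n37370 := ndS (p := 12045) (l := 5) rfl N12045 D37370
theorem N24319 : nd 24319 = n37371 := ndS (p := 12045) (l := 6) rfl N12045 D37371
theorem N24320 : nd 24320 = n37375 := ndS (p := 12046) (l := 3) rfl N12046 D37375
theorem N24321 : nd 24321 = n37376 := ndS (p := 12046) (l := 5) rfl N12046 D37376
theorem N24322 : nd 24322 = n37377 := ndS (p := 12046) (l := 6) rfl N12046 D37377
theorem N24323 : nd 24323 = n37379 := ndS (p := 12047) (l := 0) rfl N12047 D37379
theorem N24324 : nd 24324 = n37381 := ndS (p := 12047) (l := 4) rfl N12047 D37381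
theorem N24325 : nd 24325 = n37382 := ndS (p := 12047) (l := 6) rfl N12047 D37382
theorem N24326 : nd 24326 = n37386 := ndS (p := 12048) (l := 5) rfl N12048 D37386
theorem N24327 : nd 24327 = n37387 := ndS (p := 12048) (l := 7) rfl N12048 D37387
theorem N24328 : nd 24328 = n37395 := ndS (p := 12049) (l := 3) rfl N12049 D37395
theorem N24329 : nd 24329 = n37396 := ndS (p := 12049) (l := 5) rfl N12049 D37396
theorem N24330 : nd 24330 = n37397 := ndS (p := 12049) (l := 6) rfl N12049 D37397
theorem N24331 : nd 24331 = n37398 := ndS (p := 12050) (l := 4) rfl N12050 D37398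
theorem N24332 : nd 24332 = n37401 := ndS (p := 12051) (l := 5) rfl N12051 D37401
theorem N24333 : nd 24333 = n37416 := ndS (p := 12052) (l := 0) rfl N12052 D37416
theorem N24334 : nd 24334 = n37418 := ndS (p := 12052) (l := 5) rfl N12052 D37418
theorem N24335 : nd 24335 = n37419 := ndS (p := 12052) (l := 6) rfl N12052 D37419
theorem N24336 : nd 24336 = n37422 := ndS (p := 12053) (l := 4) rfl N12053 D37422
theorem N24337 : nd 24337 = n37424 := ndS (p := 12054) (l := 0) rfl N12054 D37424
theorem N24338 : nd 24338 = n37426 := ndS (p := 12054) (l := 7) rfl N12054 D37426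
theorem N24339 : nd 24339 = n37427 := ndS (p := 12055) (l := 3) rfl N12055 D37427
theorem N24340 : nd 24340 = n37442 := ndS (p := 12058) (l := 5) rfl N12058 D37442
theorem N24341 : nd 24341 = n37443 := ndS (p := 12058) (l := 6) rfl N12058 D37443
theorem N24342 : nd 24342 = n37446 := ndS (p := 12059) (l := 4) rfl N12059 D37446
theorem N24343 : nd 24343 = n37449 := ndS (p := 12060) (l := 5) rfl N12060 D37449
theorem N24344 : nd 24344 = n37450 := ndS (p := 12061) (l := 3) rfl N12061 D37450
theorem N24345 : nd 24345 = n37451 := ndS (p := 12062) (l := 4) rfl N12062 D37451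
theorem N24346 : nd 24346 = n37452 := ndS (p := 12063) (l := 0) rfl N12063 D37452
theorem N24347 : nd 24347 = n37454 := ndS (p := 12063) (l := 7) rfl N12063 D37454
theorem N24348 : nd 24348 = n37455 := ndS (p := 12064) (l := 3) rfl N12064 D37455
theorem N24349 : nd 24349 = n37456 := ndS (p := 12064) (l := 6) rfl N12064 D37456
theorem N24350 : nd 24350 = n37459 := ndS (p := 12066) (l := 1) rfl N12066 D37459
theorem N24351 : nd 24351 = n37460 := ndS (p := 12066) (l := 5) rfl N12066 D37460
theorem N24352 : nd 24352 = n37472 := ndS (p := 12067) (l := 3) rfl N12067 D37472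
theorem N24353 : nd 24353 = n37473 := ndS (p := 12067) (l := 5) rfl N12067 D37473
theorem N24354 : nd 24354 = n37474 := ndS (p := 12067) (l := 6) rfl N12067 D37474
theorem N24355 : nd 24355 = n37477 := ndS (p := 12068) (l := 5) rfl N12068 D37477
theorem N24356 : nd 24356 = n37479 := ndS (p := 12069) (l := 4) rfl N12069 D37479
theorem N24357 : nd 24357 = n37480 := ndS (p := 12070) (l := 0) rfl N12070 D37480
theorem N24358 : nd 24358 = n37481 := ndS (p := 12070) (l := 1) rfl N12070 D37481
theorem N24359 : nd 24359 = n37482 := ndS (p := 12070) (l := 5) rfl N12070 D37482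
theorem N24360 : nd 24360 = n37483 := ndS (p := 12070) (l := 6) rfl N12070 D37483
theorem N24361 : nd 24361 = n37484 := ndS (p := 12071) (l := 6) rfl N12071 D37484
theorem N24362 : nd 24362 = n37487 := ndS (p := 12072) (l := 5) rfl N12072 D37487
theorem N24363 : nd 24363 = n37500 := ndS (p := 12073) (l := 1) rfl N12073 D37500
theorem N24364 : nd 24364 = n37501 := ndS (p := 12073) (l := 4) rfl N12073 D37501
theorem N24365 : nd 24365 = n37503 := ndS (p := 12074) (l := 4) rfl N12074 D37503
theorem N24366 : nd 24366 = n37504 := ndS (p := 12074) (l := 6) rfl N12074 D37504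
theorem N24367 : nd 24367 = n37505 := ndS (p := 12075) (l := 4) rfl N12075 D37505
theorem N24368 : nd 24368 = n37506 := ndS (p := 12075) (l := 6) rfl N12075 D37506
theorem N24369 : nd 24369 = n37507 := ndS (p := 12076) (l := 0) rfl N12076 D37507
theorem N24370 : nd 24370 = n37508 := ndS (p := 12076) (l := 1) rfl N12076 D37508
theorem N24371 : nd 24371 = n37509 := ndS (p := 12076) (l := 3) rfl N12076 D37509
theorem N24372 : nd 24372 = n37510 := ndS (p := 12076) (l := 5) rfl N12076 D37510
theorem N24373 : nd 24373 = n37511 := ndS (p := 12077) (l := 0) rfl N12077 D37511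
theorem N24374 : nd 24374 = n37512 := ndS (p := 12077) (l := 1) rfl N12077 D37512
theorem N24375 : nd 24375 = n37513 := ndS (p := 12077) (l := 5) rfl N12077 D37513
theorem N24376 : nd 24376 = n37515 := ndS (p := 12078) (l := 6) rfl N12078 D37515
theorem N24377 : nd 24377 = n37539 := ndS (p := 12079) (l := 3) rfl N12079 D37539
theorem N24378 : nd 24378 = n37542 := ndS (p := 12081) (l := 0) rfl N12081 D37542
theorem N24379 : nd 24379 = n37543 := ndS (p := 12081) (l := 1) rfl N12081 D37543
theorem N24380 : nd 24380 = n37544 := ndS (p := 12081) (l := 5) rfl N12081 D37544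
theorem N24381 : nd 24381 = n37545 := ndS (p := 12081) (l := 7) rfl N12081 D37545
theorem N24382 : nd 24382 = n37548 := ndS (p := 12082) (l := 4) rfl N12082 D37548
theorem N24383 : nd 24383 = n37549 := ndS (p := 12082) (l := 5) rfl N12082 D37549
theorem N24384 : nd 24384 = n37558 := ndS (p := 12083) (l := 4) rfl N12083 D37558
theorem N24385 : nd 24385 = n37560 := ndS (p := 12085) (l := 3) rfl N12085 D37560
theorem N24386 : nd 24386 = n37561 := ndS (p := 12085) (l := 5) rfl N12085 D37561
theorem N24387 : nd 24387 = n37562 := ndS (p := 12085) (l := 6) rfl N12085 D37562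
theorem N24388 : nd 24388 = n37566 := ndS (p := 12087) (l := 0) rfl N12087 D37566
theorem N24389 : nd 24389 = n37567 := ndS (p := 12087) (l := 1) rfl N12087 D37567
theorem N24390 : nd 24390 = n37568 := ndS (p := 12087) (l := 6) rfl N12087 D37568
theorem N24391 : nd 24391 = n37569 := ndS (p := 12088) (l := 6) rfl N12088 D37569
theorem N24392 : nd 24392 = n37570 := ndS (p := 12089) (l := 0) rfl N12089 D37570
theorem N24393 : nd 24393 = n37571 := ndS (p := 12089) (l := 1) rfl N12089 D37571
theorem N24394 : nd 24394 = n37572 := ndS (p := 12089) (l := 5) rfl N12089 D37572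
theorem N24395 : nd 24395 = n37583 := ndS (p := 12090) (l := 6) rfl N12090 D37583
theorem N24396 : nd 24396 = n37586 := ndS (p := 12091) (l := 5) rfl N12091 D37586
theorem N24397 : nd 24397 = n37587 := ndS (p := 12091) (l := 7) rfl N12091 D37587
theorem N24398 : nd 24398 = n37590 := ndS (p := 12092) (l := 5) rfl N12092 D37590
theorem N24399 : nd 24399 = n37592 := ndS (p := 12093) (l := 6) rfl N12093 D37592
theorem N24400 : nd 24400 = n37593 := ndS (p := 12094) (l := 0) rfl N12094 D37593
theorem N24401 : nd 24401 = n37594 := ndS (p := 12094) (l := 1) rfl N12094 D37594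
theorem N24402 : nd 24402 = n37596 := ndS (p := 12094) (l := 7) rfl N12094 D37596
theorem N24403 : nd 24403 = n37714 := ndS (p := 12095) (l := 5) rfl N12095 D37714
theorem N24404 : nd 24404 = n37715 := ndS (p := 12095) (l := 6) rfl N12095 D37715
theorem N24405 : nd 24405 = n37786 := ndS (p := 12097) (l := 0) rfl N12097 D37786
theorem N24406 : nd 24406 = n37787 := ndS (p := 12097) (l := 1) rfl N12097 D37787
theorem N24407 : nd 24407 = n37788 := ndS (p := 12097) (l := 6) rfl N12097 D37788
theorem N24408 : nd 24408 = n37791 := ndS (p := 12098) (l := 5) rfl N12098 D37791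
theorem N24409 : nd 24409 = n37792 := ndS (p := 12098) (l := 7) rfl N12098 D37792
theorem N24410 : nd 24410 = n37795 := ndS (p := 12099) (l := 4) rfl N12099 D37795
theorem N24411 : nd 24411 = n37797 := ndS (p := 12099) (l := 6) rfl N12099 D37797
theorem N24412 : nd 24412 = n37800 := ndS (p := 12100) (l := 4) rfl N12100 D37800
theorem N24413 : nd 24413 = n37801 := ndS (p := 12100) (l := 5) rfl N12100 D37801
theorem N24414 : nd 24414 = n37803 := ndS (p := 12101) (l := 0) rfl N12101 D37803
theorem N24415 : nd 24415 = n37804 := ndS (p := 12101) (l := 4) rfl N12101 D37804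
theorem N24416 : nd 24416 = n37805 := ndS (p := 12101) (l := 7) rfl N12101 D37805
theorem N24417 : nd 24417 = n37806 := ndS (p := 12103) (l := 3) rfl N12103 D37806
theorem N24418 : nd 24418 = n37807 := ndS (p := 12103) (l := 5) rfl N12103 D37807
theorem N24419 : nd 24419 = n37808 := ndS (p := 12104) (l := 5) rfl N12104 D37808
theorem N24420 : nd 24420 = n37809 := ndS (p := 12104) (l := 6) rfl N12104 D37809
theorem N24421 : nd 24421 = n37822 := ndS (p := 12106) (l := 0) rfl N12106 D37822
theorem N24422 : nd 24422 = n37823 := ndS (p := 12106) (l := 1) rfl N12106 D37823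
theorem N24423 : nd 24423 = n37824 := ndS (p := 12106) (l := 2) rfl N12106 D37824
theorem N24424 : nd 24424 = n37825 := ndS (p := 12106) (l := 6) rfl N12106 D37825
theorem N24425 : nd 24425 = n37826 := ndS (p := 12107) (l := 6) rfl N12107 D37826
theorem N24426 : nd 24426 = n37829 := ndS (p := 12108) (l := 5) rfl N12108 D37829
theorem N24427 : nd 24427 = n37843 := ndS (p := 12109) (l := 5) rfl N12109 D37843
theorem N24428 : nd 24428 = n37844 := ndS (p := 12109) (l := 7) rfl N12109 D37844
theorem N24429 : nd 24429 = n37846 := ndS (p := 12111) (l := 1) rfl N12111 D37846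
theorem N24430 : nd 24430 = n37847 := ndS (p := 12111) (l := 7) rfl N12111 D37847
theorem N24431 : nd 24431 = n37848 := ndS (p := 12112) (l := 1) rfl N12112 D37848
theorem N24432 : nd 24432 = n37849 := ndS (p := 12112) (l := 7) rfl N12112 D37849
theorem N24433 : nd 24433 = n37850 := ndS (p := 12113) (l := 0) rfl N12113 D37850
theorem N24434 : nd 24434 = n37851 := ndS (p := 12113) (l := 1) rfl N12113 D37851
theorem N24435 : nd 24435 = n37852 := ndS (p := 12113) (l := 2) rfl N12113 D37852
theorem N24436 : nd 24436 = n37853 := ndS (p := 12113) (l := 6) rfl N12113 D37853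
theorem N24437 : nd 24437 = n37856 := ndS (p := 12114) (l := 5) rfl N12114 D37856
theorem N24438 : nd 24438 = n37861 := ndS (p := 12115) (l := 5) rfl N12115 D37861
theorem N24439 : nd 24439 = n37862 := ndS (p := 12115) (l := 6) rfl N12115 D37862
theorem N24440 : nd 24440 = n37873 := ndS (p := 12117) (l := 1) rfl N12117 D37873
theorem N24441 : nd 24441 = n37874 := ndS (p := 12117) (l := 2) rfl N12117 D37874
theorem N24442 : nd 24442 = n37875 := ndS (p := 12117) (l := 5) rfl N12117 D37875
theorem N24443 : nd 24443 = n37876 := ndS (p := 12117) (l := 6) rfl N12117 D37876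
theorem N24444 : nd 24444 = n37877 := ndS (p := 12118) (l := 6) rfl N12118 D37877
theorem N24445 : nd 24445 = n37880 := ndS (p := 12119) (l := 5) rfl N12119 D37880
theorem N24446 : nd 24446 = n37882 := ndS (p := 12120) (l := 2) rfl N12120 D37882
theorem N24447 : nd 24447 = n37883 := ndS (p := 12120) (l := 6) rfl N12120 D37883
theorem N24448 : nd 24448 = n37884 := ndS (p := 12121) (l := 6) rfl N12121 D37884
theorem N24449 : nd 24449 = n37887 := ndS (p := 12122) (l := 5) rfl N12122 D37887
theorem N24450 : nd 24450 = n37888 := ndS (p := 12122) (l := 7) rfl N12122 D37888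
theorem N24451 : nd 24451 = n37889 := ndS (p := 12123) (l := 3) rfl N12123 D37889
theorem N24452 : nd 24452 = n37890 := ndS (p := 12123) (l := 6) rfl N12123 D37890
theorem N24453 : nd 24453 = n37891 := ndS (p := 12124) (l := 6) rfl N12124 D37891
theorem N24454 : nd 24454 = n37892 := ndS (p := 12125) (l := 0) rfl N12125 D37892
theorem N24455 : nd 24455 = n37893 := ndS (p := 12125) (l := 1) rfl N12125 D37893
theorem N24456 : nd 24456 = n37894 := ndS (p := 12125) (l := 5) rfl N12125 D37894
theorem N24457 : nd 24457 = n37896 := ndS (p := 12126) (l := 3) rfl N12126 D37896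
theorem N24458 : nd 24458 = n37897 := ndS (p := 12126) (l := 6) rfl N12126 D37897
theorem N24459 : nd 24459 = n37898 := ndS (p := 12127) (l := 6) rfl N12127 D37898
theorem N24460 : nd 24460 = n37899 := ndS (p := 12128) (l := 0) rfl N12128 D37899
theorem N24461 : nd 24461 = n37900 := ndS (p := 12128) (l := 1) rfl N12128 D37900
theorem N24462 : nd 24462 = n37901 := ndS (p := 12128) (l := 5) rfl N12128 D37901
theorem N24463 : nd 24463 = n37902 := ndS (p := 12128) (l := 7) rfl N12128 D37902
theorem N24464 : nd 24464 = n37906 := ndS (p := 12129) (l := 5) rfl N12129 D37906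
theorem N24465 : nd 24465 = n37907 := ndS (p := 12129) (l := 6) rfl N12129 D37907
theorem N24466 : nd 24466 = n37909 := ndS (p := 12130) (l := 3) rfl N12130 D37909
theorem N24467 : nd 24467 = n37911 := ndS (p := 12130) (l := 5) rfl N12130 D37911
theorem N24468 : nd 24468 = n37912 := ndS (p := 12130) (l := 6) rfl N12130 D37912
theorem N24469 : nd 24469 = n37913 := ndS (p := 12131) (l := 0) rfl N12131 D37913
theorem N24470 : nd 24470 = n37914 := ndS (p := 12131) (l := 1) rfl N12131 D37914
theorem N24471 : nd 24471 = n37915 := ndS (p := 12131) (l := 4) rfl N12131 D37915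
theorem N24472 : nd 24472 = n37932 := ndS (p := 12132) (l := 3) rfl N12132 D37932
theorem N24473 : nd 24473 = n37933 := ndS (p := 12132) (l := 5) rfl N12132 D37933
theorem N24474 : nd 24474 = n37934 := ndS (p := 12132) (l := 6) rfl N12132 D37934
theorem N24475 : nd 24475 = n37936 := ndS (p := 12133) (l := 4) rfl N12133 D37936
theorem N24476 : nd 24476 = n37940 := ndS (p := 12134) (l := 7) rfl N12134 D37940
theorem N24477 : nd 24477 = n37969 := ndS (p := 12135) (l := 7) rfl N12135 D37969
theorem N24478 : nd 24478 = n37970 := ndS (p := 12136) (l := 0) rfl N12136 D37970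
theorem N24479 : nd 24479 = n37971 := ndS (p := 12136) (l := 1) rfl N12136 D37971
theorem N24480 : nd 24480 = n37972 := ndS (p := 12136) (l := 2) rfl N12136 D37972
theorem N24481 : nd 24481 = n37973 := ndS (p := 12136) (l := 5) rfl N12136 D37973
theorem N24482 : nd 24482 = n37996 := ndS (p := 12138) (l := 1) rfl N12138 D37996
theorem N24483 : nd 24483 = n37997 := ndS (p := 12138) (l := 2) rfl N12138 D37997
theorem N24484 : nd 24484 = n38010 := ndS (p := 12139) (l := 6) rfl N12139 D38010
theorem N24485 : nd 24485 = n38019 := ndS (p := 12140) (l := 5) rfl N12140 D38019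
theorem N24486 : nd 24486 = n38020 := ndS (p := 12140) (l := 6) rfl N12140 D38020
theorem N24487 : nd 24487 = n38022 := ndS (p := 12141) (l := 5) rfl N12141 D38022
theorem N24488 : nd 24488 = n38023 := ndS (p := 12141) (l := 6) rfl N12141 D38023
theorem N24489 : nd 24489 = n38024 := ndS (p := 12142) (l := 6) rfl N12142 D38024
theorem N24490 : nd 24490 = n38025 := ndS (p := 12143) (l := 0) rfl N12143 D38025
theorem N24491 : nd 24491 = n38026 := ndS (p := 12143) (l := 1) rfl N12143 D38026
theorem N24492 : nd 24492 = n38027 := ndS (p := 12143) (l := 4) rfl N12143 D38027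
theorem N24493 : nd 24493 = n38028 := ndS (p := 12143) (l := 6) rfl N12143 D38028
theorem N24494 : nd 24494 = n38029 := ndS (p := 12144) (l := 0) rfl N12144 D38029
theorem N24495 : nd 24495 = n38030 := ndS (p := 12144) (l := 1) rfl N12144 D38030
theorem N24496 : nd 24496 = n38031 := ndS (p := 12144) (l := 5) rfl N12144 D38031
theorem N24497 : nd 24497 = n38033 := ndS (p := 12145) (l := 0) rfl N12145 D38033
theorem N24498 : nd 24498 = n38034 := ndS (p := 12145) (l := 1) rfl N12145 D38034
theorem N24499 : nd 24499 = n38035 := ndS (p := 12145) (l := 5) rfl N12145 D38035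
theorem N24500 : nd 24500 = n38036 := ndS (p := 12145) (l := 7) rfl N12145 D38036
theorem N24501 : nd 24501 = n38123 := ndS (p := 12147) (l := 3) rfl N12147 D38123
theorem N24502 : nd 24502 = n38124 := ndS (p := 12147) (l := 6) rfl N12147 D38124
theorem N24503 : nd 24503 = n38129 := ndS (p := 12149) (l := 1) rfl N12149 D38129
theorem N24504 : nd 24504 = n38130 := ndS (p := 12149) (l := 2) rfl N12149 D38130
theorem N24505 : nd 24505 = n38131 := ndS (p := 12149) (l := 5) rfl N12149 D38131
theorem N24506 : nd 24506 = n38132 := ndS (p := 12149) (l := 6) rfl N12149 D38132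
theorem N24507 : nd 24507 = n38133 := ndS (p := 12150) (l := 6) rfl N12150 D38133
theorem N24508 : nd 24508 = n38134 := ndS (p := 12151) (l := 0) rfl N12151 D38134
theorem N24509 : nd 24509 = n38135 := ndS (p := 12151) (l := 1) rfl N12151 D38135
theorem N24510 : nd 24510 = n38136 := ndS (p := 12151) (l := 5) rfl N12151 D38136
theorem N24511 : nd 24511 = n38137 := ndS (p := 12151) (l := 7) rfl N12151 D38137
theorem N24512 : nd 24512 = n38144 := ndS (p := 12152) (l := 4) rfl N12152 D38144
theorem N24513 : nd 24513 = n38145 := ndS (p := 12152) (l := 5) rfl N12152 D38145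
theorem N24514 : nd 24514 = n38148 := ndS (p := 12153) (l := 1) rfl N12153 D38148
theorem N24515 : nd 24515 = n38149 := ndS (p := 12153) (l := 4) rfl N12153 D38149
theorem N24516 : nd 24516 = n38151 := ndS (p := 12155) (l := 3) rfl N12155 D38151
theorem N24517 : nd 24517 = n38157 := ndS (p := 12156) (l := 6) rfl N12156 D38157
theorem N24518 : nd 24518 = n38158 := ndS (p := 12157) (l := 6) rfl N12157 D38158
theorem N24519 : nd 24519 = n38160 := ndS (p := 12158) (l := 1) rfl N12158 D38160
theorem N24520 : nd 24520 = n38161 := ndS (p := 12158) (l := 5) rfl N12158 D38161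
theorem N24521 : nd 24521 = n38162 := ndS (p := 12158) (l := 7) rfl N12158 D38162
theorem N24522 : nd 24522 = n38172 := ndS (p := 12159) (l := 0) rfl N12159 D38172
theorem N24523 : nd 24523 = n38174 := ndS (p := 12159) (l := 4) rfl N12159 D38174
theorem N24524 : nd 24524 = n38175 := ndS (p := 12159) (l := 7) rfl N12159 D38175
theorem N24525 : nd 24525 = n38178 := ndS (p := 12161) (l := 5) rfl N12161 D38178
theorem N24526 : nd 24526 = n38179 := ndS (p := 12161) (l := 7) rfl N12161 D38179
theorem N24527 : nd 24527 = n38180 := ndS (p := 12162) (l := 0) rfl N12162 D38180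
theorem N24528 : nd 24528 = n38181 := ndS (p := 12162) (l := 1) rfl N12162 D38181
theorem N24529 : nd 24529 = n38182 := ndS (p := 12162) (l := 6) rfl N12162 D38182
theorem N24530 : nd 24530 = n38183 := ndS (p := 12163) (l := 6) rfl N12163 D38183
theorem N24531 : nd 24531 = n38186 := ndS (p := 12164) (l := 5) rfl N12164 D38186
theorem N24532 : nd 24532 = n38189 := ndS (p := 12165) (l := 3) rfl N12165 D38189
theorem N24533 : nd 24533 = n38190 := ndS (p := 12165) (l := 4) rfl N12165 D38190
theorem N24534 : nd 24534 = n38191 := ndS (p := 12165) (l := 5) rfl N12165 D38191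
theorem N24535 : nd 24535 = n38192 := ndS (p := 12165) (l := 6) rfl N12165 D38192
theorem N24536 : nd 24536 = n38194 := ndS (p := 12166) (l := 3) rfl N12166 D38194
theorem N24537 : nd 24537 = n38195 := ndS (p := 12166) (l := 4) rfl N12166 D38195
theorem N24538 : nd 24538 = n38196 := ndS (p := 12166) (l := 5) rfl N12166 D38196
theorem N24539 : nd 24539 = n38197 := ndS (p := 12166) (l := 6) rfl N12166 D38197
theorem N24540 : nd 24540 = n38198 := ndS (p := 12167) (l := 5) rfl N12167 D38198
theorem N24541 : nd 24541 = n38199 := ndS (p := 12167) (l := 6) rfl N12167 D38199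
theorem N24542 : nd 24542 = n38200 := ndS (p := 12168) (l := 0) rfl N12168 D38200
theorem N24543 : nd 24543 = n38201 := ndS (p := 12168) (l := 1) rfl N12168 D38201
theorem N24544 : nd 24544 = n38202 := ndS (p := 12168) (l := 6) rfl N12168 D38202
theorem N24545 : nd 24545 = n38203 := ndS (p := 12169) (l := 0) rfl N12169 D38203
theorem N24546 : nd 24546 = n38204 := ndS (p := 12169) (l := 1) rfl N12169 D38204
theorem N24547 : nd 24547 = n38205 := ndS (p := 12169) (l := 5) rfl N12169 D38205
theorem N24548 : nd 24548 = n38206 := ndS (p := 12169) (l := 7) rfl N12169 D38206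
theorem N24549 : nd 24549 = n38207 := ndS (p := 12170) (l := 0) rfl N12170 D38207
theorem N24550 : nd 24550 = n38208 := ndS (p := 12170) (l := 1) rfl N12170 D38208
theorem N24551 : nd 24551 = n38209 := ndS (p := 12170) (l := 5) rfl N12170 D38209
theorem N24552 : nd 24552 = n38210 := ndS (p := 12170) (l := 7) rfl N12170 D38210
theorem N24553 : nd 24553 = n38213 := ndS (p := 12171) (l := 5) rfl N12171 D38213
theorem N24554 : nd 24554 = n38216 := ndS (p := 12172) (l := 3) rfl N12172 D38216
theorem N24555 : nd 24555 = n38218 := ndS (p := 12172) (l := 5) rfl N12172 D38218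
theorem N24556 : nd 24556 = n38219 := ndS (p := 12172) (l := 6) rfl N12172 D38219
theorem N24557 : nd 24557 = n38220 := ndS (p := 12173) (l := 0) rfl N12173 D38220
theorem N24558 : nd 24558 = n38221 := ndS (p := 12173) (l := 1) rfl N12173 D38221
theorem N24559 : nd 24559 = n38222 := ndS (p := 12173) (l := 4) rfl N12173 D38222
theorem N24560 : nd 24560 = n38223 := ndS (p := 12173) (l := 7) rfl N12173 D38223
theorem N24561 : nd 24561 = n38229 := ndS (p := 12176) (l := 0) rfl N12176 D38229
theorem N24562 : nd 24562 = n38231 := ndS (p := 12176) (l := 3) rfl N12176 D38231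
theorem N24563 : nd 24563 = n38232 := ndS (p := 12176) (l := 5) rfl N12176 D38232
theorem N24564 : nd 24564 = n38233 := ndS (p := 12177) (l := 4) rfl N12177 D38233
theorem N24565 : nd 24565 = n38239 := ndS (p := 12178) (l := 3) rfl N12178 D38239
theorem N24566 : nd 24566 = n38240 := ndS (p := 12178) (l := 5) rfl N12178 D38240
theorem N24567 : nd 24567 = n38241 := ndS (p := 12178) (l := 6) rfl N12178 D38241
theorem N24568 : nd 24568 = n38242 := ndS (p := 12180) (l := 3) rfl N12180 D38242
theorem N24569 : nd 24569 = n38243 := ndS (p := 12180) (l := 6) rfl N12180 D38243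
theorem N24570 : nd 24570 = n38244 := ndS (p := 12181) (l := 0) rfl N12181 D38244
theorem N24571 : nd 24571 = n38246 := ndS (p := 12181) (l := 5) rfl N12181 D38246
theorem N24572 : nd 24572 = n38248 := ndS (p := 12182) (l := 3) rfl N12182 D38248
theorem N24573 : nd 24573 = n38249 := ndS (p := 12182) (l := 6) rfl N12182 D38249
theorem N24574 : nd 24574 = n38250 := ndS (p := 12183) (l := 0) rfl N12183 D38250
theorem N24575 : nd 24575 = n38251 := ndS (p := 12183) (l := 1) rfl N12183 D38251
theorem N24576 : nd 24576 = n38252 := ndS (p := 12183) (l := 2) rfl N12183 D38252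
theorem N24577 : nd 24577 = n38253 := ndS (p := 12183) (l := 6) rfl N12183 D38253
theorem N24578 : nd 24578 = n38254 := ndS (p := 12184) (l := 6) rfl N12184 D38254
theorem N24579 : nd 24579 = n38256 := ndS (p := 12185) (l := 1) rfl N12185 D38256
theorem N24580 : nd 24580 = n38257 := ndS (p := 12185) (l := 5) rfl N12185 D38257
theorem N24581 : nd 24581 = n38258 := ndS (p := 12185) (l := 7) rfl N12185 D38258
theorem N24582 : nd 24582 = n38261 := ndS (p := 12186) (l := 4) rfl N12186 D38261
theorem N24583 : nd 24583 = n38262 := ndS (p := 12186) (l := 5) rfl N12186 D38262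
theorem N24584 : nd 24584 = n38266 := ndS (p := 12187) (l := 4) rfl N12187 D38266
theorem N24585 : nd 24585 = n38267 := ndS (p := 12187) (l := 5) rfl N12187 D38267
theorem N24586 : nd 24586 = n38269 := ndS (p := 12188) (l := 0) rfl N12188 D38269
theorem N24587 : nd 24587 = n38271 := ndS (p := 12188) (l := 4) rfl N12188 D38271
theorem N24588 : nd 24588 = n38272 := ndS (p := 12188) (l := 7) rfl N12188 D38272
theorem N24589 : nd 24589 = n38273 := ndS (p := 12190) (l := 0) rfl N12190 D38273
theorem N24590 : nd 24590 = n38274 := ndS (p := 12190) (l := 1) rfl N12190 D38274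
theorem N24591 : nd 24591 = n38275 := ndS (p := 12190) (l := 2) rfl N12190 D38275
theorem N24592 : nd 24592 = n38279 := ndS (p := 12191) (l := 5) rfl N12191 D38279
theorem N24593 : nd 24593 = n38281 := ndS (p := 12192) (l := 2) rfl N12192 D38281
theorem N24594 : nd 24594 = n38282 := ndS (p := 12192) (l := 6) rfl N12192 D38282
theorem N24595 : nd 24595 = n38285 := ndS (p := 12193) (l := 5) rfl N12193 D38285
theorem N24596 : nd 24596 = n38287 := ndS (p := 12194) (l := 3) rfl N12194 D38287
theorem N24597 : nd 24597 = n38288 := ndS (p := 12194) (l := 6) rfl N12194 D38288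
theorem N24598 : nd 24598 = n38289 := ndS (p := 12195) (l := 6) rfl N12195 D38289
theorem N24599 : nd 24599 = n38290 := ndS (p := 12196) (l := 6) rfl N12196 D38290
theorem N24600 : nd 24600 = n38291 := ndS (p := 12197) (l := 0) rfl N12197 D38291
theorem N24601 : nd 24601 = n38292 := ndS (p := 12197) (l := 1) rfl N12197 D38292
theorem N24602 : nd 24602 = n38293 := ndS (p := 12197) (l := 5) rfl N12197 D38293
theorem N24603 : nd 24603 = n38294 := ndS (p := 12197) (l := 7) rfl N12197 D38294
theorem N24604 : nd 24604 = n38295 := ndS (p := 12198) (l := 3) rfl N12198 D38295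
theorem N24605 : nd 24605 = n38296 := ndS (p := 12198) (l := 6) rfl N12198 D38296
theorem N24606 : nd 24606 = n38297 := ndS (p := 12199) (l := 3) rfl N12199 D38297
theorem N24607 : nd 24607 = n38298 := ndS (p := 12199) (l := 6) rfl N12199 D38298
theorem N24608 : nd 24608 = n38299 := ndS (p := 12200) (l := 0) rfl N12200 D38299
theorem N24609 : nd 24609 = n38300 := ndS (p := 12200) (l := 1) rfl N12200 D38300
theorem N24610 : nd 24610 = n38301 := ndS (p := 12200) (l := 5) rfl N12200 D38301
theorem N24611 : nd 24611 = n38302 := ndS (p := 12200) (l := 7) rfl N12200 D38302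
theorem N24612 : nd 24612 = n38304 := ndS (p := 12201) (l := 3) rfl N12201 D38304
theorem N24613 : nd 24613 = n38306 := ndS (p := 12201) (l := 5) rfl N12201 D38306
theorem N24614 : nd 24614 = n38309 := ndS (p := 12202) (l := 3) rfl N12202 D38309
theorem N24615 : nd 24615 = n38310 := ndS (p := 12202) (l := 4) rfl N12202 D38310
theorem N24616 : nd 24616 = n38311 := ndS (p := 12202) (l := 5) rfl N12202 D38311
theorem N24617 : nd 24617 = n38313 := ndS (p := 12203) (l := 0) rfl N12203 D38313
theorem N24618 : nd 24618 = n38314 := ndS (p := 12203) (l := 1) rfl N12203 D38314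
theorem N24619 : nd 24619 = n38315 := ndS (p := 12203) (l := 4) rfl N12203 D38315
theorem N24620 : nd 24620 = n38316 := ndS (p := 12203) (l := 7) rfl N12203 D38316
theorem N24621 : nd 24621 = n38332 := ndS (p := 12205) (l := 3) rfl N12205 D38332
theorem N24622 : nd 24622 = n38333 := ndS (p := 12205) (l := 5) rfl N12205 D38333
theorem N24623 : nd 24623 = n38334 := ndS (p := 12205) (l := 6) rfl N12205 D38334
theorem N24624 : nd 24624 = n38336 := ndS (p := 12206) (l := 1) rfl N12206 D38336
theorem N24625 : nd 24625 = n38337 := ndS (p := 12206) (l := 4) rfl N12206 D38337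
theorem N24626 : nd 24626 = n38338 := ndS (p := 12206) (l := 6) rfl N12206 D38338
theorem N24627 : nd 24627 = n38349 := ndS (p := 12208) (l := 5) rfl N12208 D38349
theorem N24628 : nd 24628 = n38351 := ndS (p := 12209) (l := 4) rfl N12209 D38351
theorem N24629 : nd 24629 = n38359 := ndS (p := 12210) (l := 4) rfl N12210 D38359
theorem N24630 : nd 24630 = n38360 := ndS (p := 12210) (l := 5) rfl N12210 D38360
theorem N24631 : nd 24631 = n38363 := ndS (p := 12211) (l := 4) rfl N12211 D38363
theorem N24632 : nd 24632 = n38365 := ndS (p := 12212) (l := 0) rfl N12212 D38365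
theorem N24633 : nd 24633 = n38366 := ndS (p := 12212) (l := 1) rfl N12212 D38366
theorem N24634 : nd 24634 = n38367 := ndS (p := 12212) (l := 3) rfl N12212 D38367
theorem N24635 : nd 24635 = n38368 := ndS (p := 12212) (l := 5) rfl N12212 D38368
theorem N24636 : nd 24636 = n38369 := ndS (p := 12212) (l := 7) rfl N12212 D38369
theorem N24637 : nd 24637 = n38371 := ndS (p := 12214) (l := 3) rfl N12214 D38371
theorem N24638 : nd 24638 = n38372 := ndS (p := 12214) (l := 6) rfl N12214 D38372
theorem N24639 : nd 24639 = n38377 := ndS (p := 12216) (l := 0) rfl N12216 D38377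
theorem N24640 : nd 24640 = n38378 := ndS (p := 12216) (l := 1) rfl N12216 D38378
theorem N24641 : nd 24641 = n38379 := ndS (p := 12216) (l := 2) rfl N12216 D38379
theorem N24642 : nd 24642 = n38380 := ndS (p := 12216) (l := 5) rfl N12216 D38380
theorem N24643 : nd 24643 = n38381 := ndS (p := 12216) (l := 6) rfl N12216 D38381
theorem N24644 : nd 24644 = n38382 := ndS (p := 12217) (l := 6) rfl N12217 D38382
theorem N24645 : nd 24645 = n38384 := ndS (p := 12218) (l := 1) rfl N12218 D38384
theorem N24646 : nd 24646 = n38385 := ndS (p := 12218) (l := 5) rfl N12218 D38385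
theorem N24647 : nd 24647 = n38386 := ndS (p := 12218) (l := 7) rfl N12218 D38386
theorem N24648 : nd 24648 = n38395 := ndS (p := 12219) (l := 5) rfl N12219 D38395
theorem N24649 : nd 24649 = n38401 := ndS (p := 12222) (l := 3) rfl N12222 D38401
theorem N24650 : nd 24650 = n38402 := ndS (p := 12222) (l := 6) rfl N12222 D38402
theorem N24651 : nd 24651 = n38404 := ndS (p := 12223) (l := 6) rfl N12223 D38404
theorem N24652 : nd 24652 = n38405 := ndS (p := 12224) (l := 5) rfl N12224 D38405
theorem N24653 : nd 24653 = n38406 := ndS (p := 12224) (l := 6) rfl N12224 D38406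
theorem N24654 : nd 24654 = n38407 := ndS (p := 12225) (l := 0) rfl N12225 D38407
theorem N24655 : nd 24655 = n38408 := ndS (p := 12225) (l := 1) rfl N12225 D38408
theorem N24656 : nd 24656 = n38409 := ndS (p := 12225) (l := 6) rfl N12225 D38409
theorem N24657 : nd 24657 = n38410 := ndS (p := 12226) (l := 0) rfl N12226 D38410
theorem N24658 : nd 24658 = n38411 := ndS (p := 12226) (l := 1) rfl N12226 D38411
theorem N24659 : nd 24659 = n38412 := ndS (p := 12226) (l := 5) rfl N12226 D38412
theorem N24660 : nd 24660 = n38413 := ndS (p := 12226) (l := 7) rfl N12226 D38413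
theorem N24661 : nd 24661 = n38414 := ndS (p := 12227) (l := 0) rfl N12227 D38414
theorem N24662 : nd 24662 = n38415 := ndS (p := 12227) (l := 1) rfl N12227 D38415
theorem N24663 : nd 24663 = n38416 := ndS (p := 12227) (l := 5) rfl N12227 D38416
theorem N24664 : nd 24664 = n38417 := ndS (p := 12227) (l := 7) rfl N12227 D38417
theorem N24665 : nd 24665 = n38419 := ndS (p := 12228) (l := 3) rfl N12228 D38419
theorem N24666 : nd 24666 = n38421 := ndS (p := 12228) (l := 5) rfl N12228 D38421
theorem N24667 : nd 24667 = n38426 := ndS (p := 12229) (l := 5) rfl N12229 D38426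
theorem N24668 : nd 24668 = n38427 := ndS (p := 12229) (l := 6) rfl N12229 D38427
theorem N24669 : nd 24669 = n38428 := ndS (p := 12230) (l := 0) rfl N12230 D38428
theorem N24670 : nd 24670 = n38429 := ndS (p := 12230) (l := 1) rfl N12230 D38429
theorem N24671 : nd 24671 = n38430 := ndS (p := 12230) (l := 4) rfl N12230 D38430
theorem N24672 : nd 24672 = n38431 := ndS (p := 12230) (l := 7) rfl N12230 D38431
theorem N24673 : nd 24673 = n38448 := ndS (p := 12232) (l := 5) rfl N12232 D38448
theorem N24674 : nd 24674 = n38451 := ndS (p := 12233) (l := 0) rfl N12233 D38451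
theorem N24675 : nd 24675 = n38452 := ndS (p := 12233) (l := 1) rfl N12233 D38452
theorem N24676 : nd 24676 = n38453 := ndS (p := 12233) (l := 4) rfl N12233 D38453
theorem N24677 : nd 24677 = n38465 := ndS (p := 12234) (l := 3) rfl N12234 D38465
theorem N24678 : nd 24678 = n38466 := ndS (p := 12234) (l := 5) rfl N12234 D38466
theorem N24679 : nd 24679 = n38467 := ndS (p := 12234) (l := 6) rfl N12234 D38467
theorem N24680 : nd 24680 = n38468 := ndS (p := 12235) (l := 4) rfl N12235 D38468
theorem N24681 : nd 24681 = n38473 := ndS (p := 12237) (l := 4) rfl N12237 D38473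
theorem N24682 : nd 24682 = n38474 := ndS (p := 12237) (l := 5) rfl N12237 D38474
theorem N24683 : nd 24683 = n38478 := ndS (p := 12238) (l := 4) rfl N12238 D38478
theorem N24684 : nd 24684 = n38480 := ndS (p := 12239) (l := 0) rfl N12239 D38480
theorem N24685 : nd 24685 = n38481 := ndS (p := 12239) (l := 1) rfl N12239 D38481
theorem N24686 : nd 24686 = n38482 := ndS (p := 12239) (l := 3) rfl N12239 D38482
theorem N24687 : nd 24687 = n38483 := ndS (p := 12239) (l := 5) rfl N12239 D38483
theorem N24688 : nd 24688 = n38484 := ndS (p := 12239) (l := 7) rfl N12239 D38484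
theorem N24689 : nd 24689 = n38487 := ndS (p := 12241) (l := 3) rfl N12241 D38487
theorem N24690 : nd 24690 = n38488 := ndS (p := 12241) (l := 4) rfl N12241 D38488
theorem N24691 : nd 24691 = n38489 := ndS (p := 12241) (l := 5) rfl N12241 D38489
theorem N24692 : nd 24692 = n38490 := ndS (p := 12241) (l := 6) rfl N12241 D38490
theorem N24693 : nd 24693 = n38491 := ndS (p := 12242) (l := 3) rfl N12242 D38491
theorem N24694 : nd 24694 = n38492 := ndS (p := 12242) (l := 4) rfl N12242 D38492
theorem N24695 : nd 24695 = n38493 := ndS (p := 12242) (l := 5) rfl N12242 D38493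
theorem N24696 : nd 24696 = n38494 := ndS (p := 12242) (l := 6) rfl N12242 D38494
theorem N24697 : nd 24697 = n38495 := ndS (p := 12243) (l := 6) rfl N12243 D38495
theorem N24698 : nd 24698 = n38496 := ndS (p := 12244) (l := 6) rfl N12244 D38496
theorem N24699 : nd 24699 = n38497 := ndS (p := 12245) (l := 4) rfl N12245 D38497
theorem N24700 : nd 24700 = n38498 := ndS (p := 12245) (l := 6) rfl N12245 D38498
theorem N24701 : nd 24701 = n38499 := ndS (p := 12246) (l := 0) rfl N12246 D38499
theorem N24702 : nd 24702 = n38500 := ndS (p := 12246) (l := 1) rfl N12246 D38500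
theorem N24703 : nd 24703 = n38501 := ndS (p := 12246) (l := 5) rfl N12246 D38501
theorem N24704 : nd 24704 = n38502 := ndS (p := 12246) (l := 7) rfl N12246 D38502
theorem N24705 : nd 24705 = n38503 := ndS (p := 12247) (l := 0) rfl N12247 D38503
theorem N24706 : nd 24706 = n38504 := ndS (p := 12247) (l := 1) rfl N12247 D38504
theorem N24707 : nd 24707 = n38505 := ndS (p := 12247) (l := 5) rfl N12247 D38505
theorem N24708 : nd 24708 = n38506 := ndS (p := 12247) (l := 7) rfl N12247 D38506
theorem N24709 : nd 24709 = n38517 := ndS (p := 12248) (l := 0) rfl N12248 D38517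
theorem N24710 : nd 24710 = n38518 := ndS (p := 12248) (l := 1) rfl N12248 D38518
theorem N24711 : nd 24711 = n38519 := ndS (p := 12248) (l := 4) rfl N12248 D38519
theorem N24712 : nd 24712 = n38520 := ndS (p := 12248) (l := 7) rfl N12248 D38520
theorem N24713 : nd 24713 = n38521 := ndS (p := 12250) (l := 3) rfl N12250 D38521
theorem N24714 : nd 24714 = n38522 := ndS (p := 12250) (l := 6) rfl N12250 D38522
theorem N24715 : nd 24715 = n38523 := ndS (p := 12251) (l := 0) rfl N12251 D38523
theorem N24716 : nd 24716 = n38524 := ndS (p := 12251) (l := 1) rfl N12251 D38524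
theorem N24717 : nd 24717 = n38525 := ndS (p := 12251) (l := 5) rfl N12251 D38525
theorem N24718 : nd 24718 = n38526 := ndS (p := 12251) (l := 7) rfl N12251 D38526
theorem N24719 : nd 24719 = n38527 := ndS (p := 12252) (l := 0) rfl N12252 D38527
theorem N24720 : nd 24720 = n38528 := ndS (p := 12252) (l := 1) rfl N12252 D38528
theorem N24721 : nd 24721 = n38529 := ndS (p := 12252) (l := 5) rfl N12252 D38529
theorem N24722 : nd 24722 = n38530 := ndS (p := 12252) (l := 7) rfl N12252 D38530
theorem N24723 : nd 24723 = n38541 := ndS (p := 12253) (l := 0) rfl N12253 D38541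
theorem N24724 : nd 24724 = n38542 := ndS (p := 12253) (l := 1) rfl N12253 D38542
theorem N24725 : nd 24725 = n38543 := ndS (p := 12253) (l := 4) rfl N12253 D38543
theorem N24726 : nd 24726 = n38544 := ndS (p := 12253) (l := 7) rfl N12253 D38544
theorem N24727 : nd 24727 = n38545 := ndS (p := 12255) (l := 1) rfl N12255 D38545
theorem N24728 : nd 24728 = n38546 := ndS (p := 12255) (l := 2) rfl N12255 D38546
theorem N24729 : nd 24729 = n38547 := ndS (p := 12255) (l := 5) rfl N12255 D38547
theorem N24730 : nd 24730 = n38548 := ndS (p := 12255) (l := 6) rfl N12255 D38548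
theorem N24731 : nd 24731 = n38549 := ndS (p := 12256) (l := 6) rfl N12256 D38549
theorem N24732 : nd 24732 = n38550 := ndS (p := 12257) (l := 0) rfl N12257 D38550
theorem N24733 : nd 24733 = n38551 := ndS (p := 12257) (l := 4) rfl N12257 D38551
theorem N24734 : nd 24734 = n38552 := ndS (p := 12257) (l := 6) rfl N12257 D38552
theorem N24735 : nd 24735 = n38553 := ndS (p := 12258) (l := 0) rfl N12258 D38553
theorem N24736 : nd 24736 = n38555 := ndS (p := 12258) (l := 5) rfl N12258 D38555
theorem N24737 : nd 24737 = n38556 := ndS (p := 12258) (l := 7) rfl N12258 D38556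
theorem N24738 : nd 24738 = n38557 := ndS (p := 12259) (l := 0) rfl N12259 D38557
theorem N24739 : nd 24739 = n38559 := ndS (p := 12259) (l := 6) rfl N12259 D38559
theorem N24740 : nd 24740 = n38560 := ndS (p := 12260) (l := 6) rfl N12260 D38560
theorem N24741 : nd 24741 = n38562 := ndS (p := 12261) (l := 1) rfl N12261 D38562
theorem N24742 : nd 24742 = n38563 := ndS (p := 12261) (l := 5) rfl N12261 D38563
theorem N24743 : nd 24743 = n38564 := ndS (p := 12261) (l := 7) rfl N12261 D38564
theorem N24744 : nd 24744 = n38565 := ndS (p := 12262) (l := 6) rfl N12262 D38565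
theorem N24745 : nd 24745 = n38566 := ndS (p := 12263) (l := 0) rfl N12263 D38566
theorem N24746 : nd 24746 = n38567 := ndS (p := 12263) (l := 1) rfl N12263 D38567
theorem N24747 : nd 24747 = n38568 := ndS (p := 12263) (l := 5) rfl N12263 D38568
theorem N24748 : nd 24748 = n38569 := ndS (p := 12263) (l := 7) rfl N12263 D38569
theorem N24749 : nd 24749 = n38570 := ndS (p := 12264) (l := 3) rfl N12264 D38570
theorem N24750 : nd 24750 = n38571 := ndS (p := 12264) (l := 4) rfl N12264 D38571
theorem N24751 : nd 24751 = n38572 := ndS (p := 12264) (l := 6) rfl N12264 D38572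
theorem N24752 : nd 24752 = n38573 := ndS (p := 12265) (l := 4) rfl N12265 D38573
theorem N24753 : nd 24753 = n38574 := ndS (p := 12265) (l := 6) rfl N12265 D38574
theorem N24754 : nd 24754 = n38576 := ndS (p := 12266) (l := 3) rfl N12266 D38576
theorem N24755 : nd 24755 = n38577 := ndS (p := 12266) (l := 6) rfl N12266 D38577
theorem N24756 : nd 24756 = n38578 := ndS (p := 12267) (l := 0) rfl N12267 D38578
theorem N24757 : nd 24757 = n38579 := ndS (p := 12267) (l := 1) rfl N12267 D38579
theorem N24758 : nd 24758 = n38580 := ndS (p := 12267) (l := 5) rfl N12267 D38580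
theorem N24759 : nd 24759 = n38581 := ndS (p := 12267) (l := 7) rfl N12267 D38581
theorem N24760 : nd 24760 = n38583 := ndS (p := 12268) (l := 3) rfl N12268 D38583
theorem N24761 : nd 24761 = n38584 := ndS (p := 12268) (l := 4) rfl N12268 D38584
theorem N24762 : nd 24762 = n38585 := ndS (p := 12268) (l := 5) rfl N12268 D38585
theorem N24763 : nd 24763 = n38586 := ndS (p := 12268) (l := 6) rfl N12268 D38586
theorem N24764 : nd 24764 = n38588 := ndS (p := 12269) (l := 3) rfl N12269 D38588
theorem N24765 : nd 24765 = n38589 := ndS (p := 12269) (l := 4) rfl N12269 D38589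
theorem N24766 : nd 24766 = n38590 := ndS (p := 12269) (l := 5) rfl N12269 D38590
theorem N24767 : nd 24767 = n38591 := ndS (p := 12269) (l := 6) rfl N12269 D38591
theorem N24768 : nd 24768 = n38592 := ndS (p := 12270) (l := 0) rfl N12270 D38592
theorem N24769 : nd 24769 = n38593 := ndS (p := 12270) (l := 1) rfl N12270 D38593
theorem N24770 : nd 24770 = n38594 := ndS (p := 12270) (l := 4) rfl N12270 D38594
theorem N24771 : nd 24771 = n38595 := ndS (p := 12270) (l := 7) rfl N12270 D38595
theorem N24772 : nd 24772 = n38596 := ndS (p := 12272) (l := 4) rfl N12272 D38596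
theorem N24773 : nd 24773 = n38597 := ndS (p := 12272) (l := 6) rfl N12272 D38597
theorem N24774 : nd 24774 = n38598 := ndS (p := 12273) (l := 0) rfl N12273 D38598
theorem N24775 : nd 24775 = n38599 := ndS (p := 12273) (l := 1) rfl N12273 D38599
theorem N24776 : nd 24776 = n38600 := ndS (p := 12273) (l := 5) rfl N12273 D38600
theorem N24777 : nd 24777 = n38601 := ndS (p := 12273) (l := 7) rfl N12273 D38601
theorem N24778 : nd 24778 = n38602 := ndS (p := 12274) (l := 0) rfl N12274 D38602
theorem N24779 : nd 24779 = n38603 := ndS (p := 12274) (l := 1) rfl N12274 D38603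
theorem N24780 : nd 24780 = n38604 := ndS (p := 12274) (l := 5) rfl N12274 D38604
theorem N24781 : nd 24781 = n38605 := ndS (p := 12274) (l := 7) rfl N12274 D38605
theorem N24782 : nd 24782 = n38606 := ndS (p := 12275) (l := 0) rfl N12275 D38606
theorem N24783 : nd 24783 = n38607 := ndS (p := 12275) (l := 1) rfl N12275 D38607
theorem N24784 : nd 24784 = n38608 := ndS (p := 12275) (l := 6) rfl N12275 D38608
theorem N24785 : nd 24785 = n38609 := ndS (p := 12276) (l := 0) rfl N12276 D38609
theorem N24786 : nd 24786 = n38610 := ndS (p := 12276) (l := 1) rfl N12276 D38610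
theorem N24787 : nd 24787 = n38611 := ndS (p := 12276) (l := 5) rfl N12276 D38611
theorem N24788 : nd 24788 = n38612 := ndS (p := 12276) (l := 7) rfl N12276 D38612
theorem N24789 : nd 24789 = n38615 := ndS (p := 12277) (l := 4) rfl N12277 D38615
theorem N24790 : nd 24790 = n38616 := ndS (p := 12277) (l := 5) rfl N12277 D38616
theorem N24791 : nd 24791 = n38620 := ndS (p := 12278) (l := 4) rfl N12278 D38620
theorem N24792 : nd 24792 = n38621 := ndS (p := 12278) (l := 5) rfl N12278 D38621
theorem N24793 : nd 24793 = n38622 := ndS (p := 12278) (l := 6) rfl N12278 D38622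
theorem N24794 : nd 24794 = n38623 := ndS (p := 12279) (l := 0) rfl N12279 D38623
theorem N24795 : nd 24795 = n38624 := ndS (p := 12279) (l := 1) rfl N12279 D38624
theorem N24796 : nd 24796 = n38625 := ndS (p := 12279) (l := 4) rfl N12279 D38625
theorem N24797 : nd 24797 = n38626 := ndS (p := 12279) (l := 7) rfl N12279 D38626
theorem N24798 : nd 24798 = n38627 := ndS (p := 12280) (l := 6) rfl N12280 D38627
theorem N24799 : nd 24799 = n38628 := ndS (p := 12281) (l := 0) rfl N12281 D38628
theorem N24800 : nd 24800 = n38629 := ndS (p := 12281) (l := 1) rfl N12281 D38629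
theorem N24801 : nd 24801 = n38630 := ndS (p := 12281) (l := 5) rfl N12281 D38630
theorem N24802 : nd 24802 = n38637 := ndS (p := 12282) (l := 0) rfl N12282 D38637
theorem N24803 : nd 24803 = n38639 := ndS (p := 12282) (l := 2) rfl N12282 D38639
theorem N24804 : nd 24804 = n38640 := ndS (p := 12282) (l := 4) rfl N12282 D38640
theorem N24805 : nd 24805 = n38641 := ndS (p := 12282) (l := 5) rfl N12282 D38641
theorem N24806 : nd 24806 = n38642 := ndS (p := 12282) (l := 6) rfl N12282 D38642
theorem N24807 : nd 24807 = n38647 := ndS (p := 12283) (l := 5) rfl N12283 D38647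
theorem N24808 : nd 24808 = n38650 := ndS (p := 12284) (l := 0) rfl N12284 D38650
theorem N24809 : nd 24809 = n38651 := ndS (p := 12284) (l := 1) rfl N12284 D38651
theorem N24810 : nd 24810 = n38652 := ndS (p := 12284) (l := 4) rfl N12284 D38652
theorem N24811 : nd 24811 = n38653 := ndS (p := 12284) (l := 6) rfl N12284 D38653
theorem N24812 : nd 24812 = n38658 := ndS (p := 12285) (l := 7) rfl N12285 D38658
theorem N24813 : nd 24813 = n38661 := ndS (p := 12286) (l := 1) rfl N12286 D38661
theorem N24814 : nd 24814 = n38662 := ndS (p := 12286) (l := 2) rfl N12286 D38662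
theorem N24815 : nd 24815 = n38664 := ndS (p := 12286) (l := 5) rfl N12286 D38664
theorem N24816 : nd 24816 = n38665 := ndS (p := 12286) (l := 6) rfl N12286 D38665
theorem N24817 : nd 24817 = n38666 := ndS (p := 12287) (l := 5) rfl N12287 D38666
theorem N24818 : nd 24818 = n38668 := ndS (p := 12288) (l := 4) rfl N12288 D38668
theorem N24819 : nd 24819 = n38669 := ndS (p := 12288) (l := 6) rfl N12288 D38669
theorem N24820 : nd 24820 = n38670 := ndS (p := 12289) (l := 0) rfl N12289 D38670
theorem N24821 : nd 24821 = n38672 := ndS (p := 12289) (l := 5) rfl N12289 D38672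
theorem N24822 : nd 24822 = n38673 := ndS (p := 12289) (l := 7) rfl N12289 D38673
theorem N24823 : nd 24823 = n38675 := ndS (p := 12290) (l := 3) rfl N12290 D38675
theorem N24824 : nd 24824 = n38676 := ndS (p := 12290) (l := 4) rfl N12290 D38676
theorem N24825 : nd 24825 = n38678 := ndS (p := 12290) (l := 6) rfl N12290 D38678
theorem N24826 : nd 24826 = n38680 := ndS (p := 12291) (l := 3) rfl N12291 D38680
theorem N24827 : nd 24827 = n38681 := ndS (p := 12291) (l := 4) rfl N12291 D38681
theorem N24828 : nd 24828 = n38683 := ndS (p := 12291) (l := 6) rfl N12291 D38683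
theorem N24829 : nd 24829 = n38684 := ndS (p := 12292) (l := 0) rfl N12292 D38684
theorem N24830 : nd 24830 = n38685 := ndS (p := 12292) (l := 1) rfl N12292 D38685
theorem N24831 : nd 24831 = n38686 := ndS (p := 12292) (l := 3) rfl N12292 D38686
theorem N24832 : nd 24832 = n38687 := ndS (p := 12292) (l := 5) rfl N12292 D38687
theorem N24833 : nd 24833 = n38688 := ndS (p := 12292) (l := 7) rfl N12292 D38688
theorem N24834 : nd 24834 = n38689 := ndS (p := 12293) (l := 6) rfl N12293 D38689
theorem N24835 : nd 24835 = n38690 := ndS (p := 12294) (l := 5) rfl N12294 D38690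
theorem N24836 : nd 24836 = n38692 := ndS (p := 12295) (l := 3) rfl N12295 D38692
theorem N24837 : nd 24837 = n38694 := ndS (p := 12295) (l := 5) rfl N12295 D38694
theorem N24838 : nd 24838 = n38697 := ndS (p := 12296) (l := 3) rfl N12296 D38697
theorem N24839 : nd 24839 = n38699 := ndS (p := 12296) (l := 5) rfl N12296 D38699
theorem N24840 : nd 24840 = n38701 := ndS (p := 12297) (l := 0) rfl N12297 D38701
theorem N24841 : nd 24841 = n38702 := ndS (p := 12297) (l := 1) rfl N12297 D38702
theorem N24842 : nd 24842 = n38703 := ndS (p := 12297) (l := 4) rfl N12297 D38703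
theorem N24843 : nd 24843 = n38718 := ndS (p := 12298) (l := 3) rfl N12298 D38718
theorem N24844 : nd 24844 = n38719 := ndS (p := 12298) (l := 5) rfl N12298 D38719
theorem N24845 : nd 24845 = n38728 := ndS (p := 12299) (l := 3) rfl N12299 D38728
theorem N24846 : nd 24846 = n38730 := ndS (p := 12299) (l := 5) rfl N12299 D38730
theorem N24847 : nd 24847 = n38737 := ndS (p := 12300) (l := 0) rfl N12300 D38737
theorem N24848 : nd 24848 = n38739 := ndS (p := 12300) (l := 2) rfl N12300 D38739
theorem N24849 : nd 24849 = n38740 := ndS (p := 12300) (l := 5) rfl N12300 D38740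
theorem N24850 : nd 24850 = n38743 := ndS (p := 12301) (l := 1) rfl N12301 D38743
theorem N24851 : nd 24851 = n38744 := ndS (p := 12301) (l := 4) rfl N12301 D38744
theorem N24852 : nd 24852 = n38745 := ndS (p := 12301) (l := 6) rfl N12301 D38745
theorem N24853 : nd 24853 = n38751 := ndS (p := 12302) (l := 4) rfl N12302 D38751
theorem N24854 : nd 24854 = n38754 := ndS (p := 12303) (l := 4) rfl N12303 D38754
theorem N24855 : nd 24855 = n38755 := ndS (p := 12303) (l := 5) rfl N12303 D38755
theorem N24856 : nd 24856 = n38757 := ndS (p := 12304) (l := 1) rfl N12304 D38757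
theorem N24857 : nd 24857 = n38760 := ndS (p := 12304) (l := 6) rfl N12304 D38760
theorem N24858 : nd 24858 = n38772 := ndS (p := 12307) (l := 4) rfl N12307 D38772
theorem N24859 : nd 24859 = n38774 := ndS (p := 12307) (l := 6) rfl N12307 D38774
theorem N24860 : nd 24860 = n38776 := ndS (p := 12308) (l := 1) rfl N12308 D38776
theorem N24861 : nd 24861 = n38777 := ndS (p := 12308) (l := 3) rfl N12308 D38777
theorem N24862 : nd 24862 = n38779 := ndS (p := 12308) (l := 6) rfl N12308 D38779
theorem N24863 : nd 24863 = n38783 := ndS (p := 12310) (l := 0) rfl N12310 D38783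
theorem N24864 : nd 24864 = n38787 := ndS (p := 12311) (l := 1) rfl N12311 D38787
theorem N24865 : nd 24865 = n38788 := ndS (p := 12311) (l := 2) rfl N12311 D38788
theorem N24866 : nd 24866 = n38789 := ndS (p := 12311) (l := 5) rfl N12311 D38789
theorem N24867 : nd 24867 = n38790 := ndS (p := 12311) (l := 6) rfl N12311 D38790
theorem N24868 : nd 24868 = n38791 := ndS (p := 12312) (l := 4) rfl N12312 D38791
theorem N24869 : nd 24869 = n38792 := ndS (p := 12312) (l := 6) rfl N12312 D38792
theorem N24870 : nd 24870 = n38793 := ndS (p := 12313) (l := 0) rfl N12313 D38793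
theorem N24871 : nd 24871 = n38795 := ndS (p := 12313) (l := 5) rfl N12313 D38795
theorem N24872 : nd 24872 = n38796 := ndS (p := 12313) (l := 7) rfl N12313 D38796
theorem N24873 : nd 24873 = n38797 := ndS (p := 12314) (l := 3) rfl N12314 D38797
theorem N24874 : nd 24874 = n38798 := ndS (p := 12314) (l := 5) rfl N12314 D38798
theorem N24875 : nd 24875 = n38801 := ndS (p := 12317) (l := 4) rfl N12317 D38801
theorem N24876 : nd 24876 = n38817 := ndS (p := 12318) (l := 3) rfl N12318 D38817
theorem N24877 : nd 24877 = n38818 := ndS (p := 12318) (l := 5) rfl N12318 D38818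
theorem N24878 : nd 24878 = n38821 := ndS (p := 12319) (l := 1) rfl N12319 D38821
theorem N24879 : nd 24879 = n38822 := ndS (p := 12319) (l := 4) rfl N12319 D38822
theorem N24880 : nd 24880 = n38834 := ndS (p := 12320) (l := 3) rfl N12320 D38834
theorem N24881 : nd 24881 = n38835 := ndS (p := 12320) (l := 5) rfl N12320 D38835
theorem N24882 : nd 24882 = n38837 := ndS (p := 12321) (l := 4) rfl N12321 D38837
theorem N24883 : nd 24883 = n38843 := ndS (p := 12322) (l := 4) rfl N12322 D38843
theorem N24884 : nd 24884 = n38844 := ndS (p := 12322) (l := 6) rfl N12322 D38844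
theorem N24885 : nd 24885 = n38846 := ndS (p := 12323) (l := 3) rfl N12323 D38846
theorem N24886 : nd 24886 = n38847 := ndS (p := 12323) (l := 4) rfl N12323 D38847
theorem N24887 : nd 24887 = n38849 := ndS (p := 12324) (l := 0) rfl N12324 D38849
theorem N24888 : nd 24888 = n38850 := ndS (p := 12324) (l := 1) rfl N12324 D38850
theorem N24889 : nd 24889 = n38851 := ndS (p := 12324) (l := 3) rfl N12324 D38851
theorem N24890 : nd 24890 = n38852 := ndS (p := 12324) (l := 5) rfl N12324 D38852
theorem N24891 : nd 24891 = n38853 := ndS (p := 12325) (l := 0) rfl N12325 D38853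
theorem N24892 : nd 24892 = n38854 := ndS (p := 12325) (l := 4) rfl N12325 D38854
theorem N24893 : nd 24893 = n38856 := ndS (p := 12326) (l := 0) rfl N12326 D38856
theorem N24894 : nd 24894 = n38857 := ndS (p := 12326) (l := 1) rfl N12326 D38857
theorem N24895 : nd 24895 = n38858 := ndS (p := 12326) (l := 3) rfl N12326 D38858
theorem N24896 : nd 24896 = n38859 := ndS (p := 12326) (l := 5) rfl N12326 D38859
theorem N24897 : nd 24897 = n38864 := ndS (p := 12327) (l := 5) rfl N12327 D38864
theorem N24898 : nd 24898 = n38869 := ndS (p := 12328) (l := 5) rfl N12328 D38869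
theorem N24899 : nd 24899 = n38874 := ndS (p := 12329) (l := 3) rfl N12329 D38874
theorem N24900 : nd 24900 = n38875 := ndS (p := 12329) (l := 5) rfl N12329 D38875
theorem N24901 : nd 24901 = n38876 := ndS (p := 12329) (l := 6) rfl N12329 D38876
theorem N24902 : nd 24902 = n38877 := ndS (p := 12330) (l := 3) rfl N12330 D38877
theorem N24903 : nd 24903 = n38878 := ndS (p := 12330) (l := 5) rfl N12330 D38878
theorem N24904 : nd 24904 = n38879 := ndS (p := 12330) (l := 6) rfl N12330 D38879
theorem N24905 : nd 24905 = n38880 := ndS (p := 12331) (l := 0) rfl N12331 D38880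
theorem N24906 : nd 24906 = n38881 := ndS (p := 12331) (l := 1) rfl N12331 D38881
theorem N24907 : nd 24907 = n38882 := ndS (p := 12331) (l := 2) rfl N12331 D38882
theorem N24908 : nd 24908 = n38883 := ndS (p := 12331) (l := 5) rfl N12331 D38883
theorem N24909 : nd 24909 = n38884 := ndS (p := 12332) (l := 0) rfl N12332 D38884
theorem N24910 : nd 24910 = n38885 := ndS (p := 12332) (l := 1) rfl N12332 D38885
theorem N24911 : nd 24911 = n38886 := ndS (p := 12332) (l := 4) rfl N12332 D38886
theorem N24912 : nd 24912 = n38887 := ndS (p := 12332) (l := 6) rfl N12332 D38887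
theorem N24913 : nd 24913 = n38888 := ndS (p := 12333) (l := 0) rfl N12333 D38888
theorem N24914 : nd 24914 = n38889 := ndS (p := 12333) (l := 1) rfl N12333 D38889
theorem N24915 : nd 24915 = n38890 := ndS (p := 12333) (l := 6) rfl N12333 D38890
theorem N24916 : nd 24916 = n38891 := ndS (p := 12334) (l := 0) rfl N12334 D38891
theorem N24917 : nd 24917 = n38892 := ndS (p := 12334) (l := 1) rfl N12334 D38892
theorem N24918 : nd 24918 = n38893 := ndS (p := 12334) (l := 5) rfl N12334 D38893
theorem N24919 : nd 24919 = n38894 := ndS (p := 12334) (l := 7) rfl N12334 D38894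
theorem N24920 : nd 24920 = n38897 := ndS (p := 12335) (l := 4) rfl N12335 D38897
theorem N24921 : nd 24921 = n38898 := ndS (p := 12335) (l := 5) rfl N12335 D38898
theorem N24922 : nd 24922 = n38900 := ndS (p := 12336) (l := 4) rfl N12336 D38900
theorem N24923 : nd 24923 = n38903 := ndS (p := 12337) (l := 0) rfl N12337 D38903
theorem N24924 : nd 24924 = n38904 := ndS (p := 12337) (l := 1) rfl N12337 D38904
theorem N24925 : nd 24925 = n38905 := ndS (p := 12337) (l := 4) rfl N12337 D38905
theorem N24926 : nd 24926 = n38907 := ndS (p := 12339) (l := 0) rfl N12339 D38907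
theorem N24927 : nd 24927 = n38908 := ndS (p := 12339) (l := 1) rfl N12339 D38908
theorem N24928 : nd 24928 = n38909 := ndS (p := 12339) (l := 2) rfl N12339 D38909
theorem N24929 : nd 24929 = n38910 := ndS (p := 12339) (l := 6) rfl N12339 D38910
theorem N24930 : nd 24930 = n38913 := ndS (p := 12340) (l := 5) rfl N12340 D38913
theorem N24931 : nd 24931 = n38914 := ndS (p := 12340) (l := 7) rfl N12340 D38914
theorem N24932 : nd 24932 = n38915 := ndS (p := 12341) (l := 0) rfl N12341 D38915
theorem N24933 : nd 24933 = n38916 := ndS (p := 12341) (l := 1) rfl N12341 D38916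
theorem N24934 : nd 24934 = n38917 := ndS (p := 12341) (l := 2) rfl N12341 D38917
theorem N24935 : nd 24935 = n38920 := ndS (p := 12343) (l := 3) rfl N12343 D38920
theorem N24936 : nd 24936 = n38922 := ndS (p := 12344) (l := 3) rfl N12344 D38922
theorem N24937 : nd 24937 = n38923 := ndS (p := 12344) (l := 6) rfl N12344 D38923
theorem N24938 : nd 24938 = n38924 := ndS (p := 12345) (l := 0) rfl N12345 D38924
theorem N24939 : nd 24939 = n38925 := ndS (p := 12345) (l := 1) rfl N12345 D38925
theorem N24940 : nd 24940 = n38926 := ndS (p := 12345) (l := 5) rfl N12345 D38926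
theorem N24941 : nd 24941 = n38927 := ndS (p := 12345) (l := 7) rfl N12345 D38927
theorem N24942 : nd 24942 = n38929 := ndS (p := 12346) (l := 3) rfl N12346 D38929
theorem N24943 : nd 24943 = n38930 := ndS (p := 12346) (l := 4) rfl N12346 D38930
theorem N24944 : nd 24944 = n38931 := ndS (p := 12346) (l := 5) rfl N12346 D38931
theorem N24945 : nd 24945 = n38932 := ndS (p := 12346) (l := 6) rfl N12346 D38932
theorem N24946 : nd 24946 = n38934 := ndS (p := 12347) (l := 3) rfl N12347 D38934
theorem N24947 : nd 24947 = n38936 := ndS (p := 12347) (l := 5) rfl N12347 D38936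
theorem N24948 : nd 24948 = n38938 := ndS (p := 12348) (l := 0) rfl N12348 D38938
theorem N24949 : nd 24949 = n38940 := ndS (p := 12348) (l := 4) rfl N12348 D38940
theorem N24950 : nd 24950 = n38941 := ndS (p := 12348) (l := 7) rfl N12348 D38941
theorem N24951 : nd 24951 = n38954 := ndS (p := 12351) (l := 0) rfl N12351 D38954
theorem N24952 : nd 24952 = n38956 := ndS (p := 12351) (l := 3) rfl N12351 D38956
theorem N24953 : nd 24953 = n38958 := ndS (p := 12351) (l := 6) rfl N12351 D38958
theorem N24954 : nd 24954 = n38960 := ndS (p := 12352) (l := 0) rfl N12352 D38960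
theorem N24955 : nd 24955 = n38961 := ndS (p := 12352) (l := 1) rfl N12352 D38961
theorem N24956 : nd 24956 = n38962 := ndS (p := 12352) (l := 4) rfl N12352 D38962
theorem N24957 : nd 24957 = n38963 := ndS (p := 12352) (l := 6) rfl N12352 D38963
theorem N24958 : nd 24958 = n38972 := ndS (p := 12354) (l := 4) rfl N12354 D38972
theorem N24959 : nd 24959 = n38973 := ndS (p := 12354) (l := 5) rfl N12354 D38973
theorem N24960 : nd 24960 = n38975 := ndS (p := 12355) (l := 3) rfl N12355 D38975
theorem N24961 : nd 24961 = n38976 := ndS (p := 12355) (l := 5) rfl N12355 D38976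
theorem N24962 : nd 24962 = n38978 := ndS (p := 12356) (l := 4) rfl N12356 D38978
theorem N24963 : nd 24963 = n38986 := ndS (p := 12357) (l := 4) rfl N12357 D38986
theorem N24964 : nd 24964 = n38987 := ndS (p := 12357) (l := 5) rfl N12357 D38987
theorem N24965 : nd 24965 = n38988 := ndS (p := 12357) (l := 6) rfl N12357 D38988
theorem N24966 : nd 24966 = n38991 := ndS (p := 12358) (l := 4) rfl N12358 D38991
theorem N24967 : nd 24967 = n38993 := ndS (p := 12358) (l := 6) rfl N12358 D38993
theorem N24968 : nd 24968 = n38994 := ndS (p := 12359) (l := 0) rfl N12359 D38994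
theorem N24969 : nd 24969 = n38996 := ndS (p := 12359) (l := 3) rfl N12359 D38996
theorem N24970 : nd 24970 = n38997 := ndS (p := 12359) (l := 5) rfl N12359 D38997
theorem N24971 : nd 24971 = n38998 := ndS (p := 12359) (l := 7) rfl N12359 D38998
theorem N24972 : nd 24972 = n39015 := ndS (p := 12361) (l := 5) rfl N12361 D39015
theorem N24973 : nd 24973 = n39016 := ndS (p := 12361) (l := 6) rfl N12361 D39016
theorem N24974 : nd 24974 = n39019 := ndS (p := 12362) (l := 4) rfl N12362 D39019
theorem N24975 : nd 24975 = n39020 := ndS (p := 12362) (l := 6) rfl N12362 D39020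
theorem N24976 : nd 24976 = n39024 := ndS (p := 12364) (l := 4) rfl N12364 D39024
theorem N24977 : nd 24977 = n39025 := ndS (p := 12365) (l := 3) rfl N12365 D39025
theorem N24978 : nd 24978 = n39052 := ndS (p := 12367) (l := 3) rfl N12367 D39052
theorem N24979 : nd 24979 = n39053 := ndS (p := 12368) (l := 5) rfl N12368 D39053
theorem N24980 : nd 24980 = n39055 := ndS (p := 12370) (l := 4) rfl N12370 D39055
theorem N24981 : nd 24981 = n39059 := ndS (p := 12372) (l := 4) rfl N12372 D39059
theorem N24982 : nd 24982 = n39066 := ndS (p := 12374) (l := 3) rfl N12374 D39066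
theorem N24983 : nd 24983 = n39067 := ndS (p := 12374) (l := 5) rfl N12374 D39067
theorem N24984 : nd 24984 = n39068 := ndS (p := 12375) (l := 3) rfl N12375 D39068
theorem N24985 : nd 24985 = n39069 := ndS (p := 12375) (l := 5) rfl N12375 D39069
theorem N24986 : nd 24986 = n39071 := ndS (p := 12376) (l := 0) rfl N12376 D39071
theorem N24987 : nd 24987 = n39072 := ndS (p := 12376) (l := 1) rfl N12376 D39072
theorem N24988 : nd 24988 = n39073 := ndS (p := 12376) (l := 2) rfl N12376 D39073
theorem N24989 : nd 24989 = n39074 := ndS (p := 12376) (l := 5) rfl N12376 D39074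
theorem N24990 : nd 24990 = n39075 := ndS (p := 12376) (l := 7) rfl N12376 D39075
theorem N24991 : nd 24991 = n39076 := ndS (p := 12377) (l := 0) rfl N12377 D39076
theorem N24992 : nd 24992 = n39078 := ndS (p := 12377) (l := 4) rfl N12377 D39078
theorem N24993 : nd 24993 = n39079 := ndS (p := 12377) (l := 6) rfl N12377 D39079
theorem N24994 : nd 24994 = n39080 := ndS (p := 12377) (l := 7) rfl N12377 D39080
theorem N24995 : nd 24995 = n39081 := ndS (p := 12378) (l := 6) rfl N12378 D39081
theorem N24996 : nd 24996 = n39082 := ndS (p := 12380) (l := 0) rfl N12380 D39082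
theorem N24997 : nd 24997 = n39083 := ndS (p := 12380) (l := 1) rfl N12380 D39083
theorem N24998 : nd 24998 = n39084 := ndS (p := 12380) (l := 5) rfl N12380 D39084
theorem N24999 : nd 24999 = n39085 := ndS (p := 12380) (l := 6) rfl N12380 D39085
theorem N25000 : nd 25000 = n39086 := ndS (p := 12381) (l := 6) rfl N12381 D39086
theorem N25001 : nd 25001 = n39088 := ndS (p := 12382) (l := 1) rfl N12382 D39088
theorem N25002 : nd 25002 = n39089 := ndS (p := 12382) (l := 5) rfl N12382 D39089
theorem N25003 : nd 25003 = n39099 := ndS (p := 12383) (l := 0) rfl N12383 D39099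
theorem N25004 : nd 25004 = n39101 := ndS (p := 12383) (l := 4) rfl N12383 D39101
theorem N25005 : nd 25005 = n39103 := ndS (p := 12384) (l := 0) rfl N12384 D39103
theorem N25006 : nd 25006 = n39104 := ndS (p := 12384) (l := 1) rfl N12384 D39104
theorem N25007 : nd 25007 = n39105 := ndS (p := 12384) (l := 6) rfl N12384 D39105
theorem N25008 : nd 25008 = n39108 := ndS (p := 12385) (l := 5) rfl N12385 D39108
theorem N25009 : nd 25009 = n39112 := ndS (p := 12386) (l := 5) rfl N12386 D39112
theorem N25010 : nd 25010 = n39114 := ndS (p := 12387) (l := 6) rfl N12387 D39114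
theorem N25011 : nd 25011 = n39115 := ndS (p := 12388) (l := 0) rfl N12388 D39115
theorem N25012 : nd 25012 = n39116 := ndS (p := 12388) (l := 1) rfl N12388 D39116
theorem N25013 : nd 25013 = n39117 := ndS (p := 12388) (l := 5) rfl N12388 D39117
theorem N25014 : nd 25014 = n39118 := ndS (p := 12388) (l := 7) rfl N12388 D39118
theorem N25015 : nd 25015 = n39120 := ndS (p := 12389) (l := 3) rfl N12389 D39120
theorem N25016 : nd 25016 = n39122 := ndS (p := 12389) (l := 5) rfl N12389 D39122
theorem N25017 : nd 25017 = n39126 := ndS (p := 12390) (l := 4) rfl N12390 D39126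
theorem N25018 : nd 25018 = n39127 := ndS (p := 12390) (l := 5) rfl N12390 D39127
theorem N25019 : nd 25019 = n39129 := ndS (p := 12391) (l := 0) rfl N12391 D39129
theorem N25020 : nd 25020 = n39130 := ndS (p := 12391) (l := 1) rfl N12391 D39130
theorem N25021 : nd 25021 = n39131 := ndS (p := 12391) (l := 4) rfl N12391 D39131
theorem N25022 : nd 25022 = n39132 := ndS (p := 12391) (l := 7) rfl N12391 D39132
theorem N25023 : nd 25023 = n39166 := ndS (p := 12393) (l := 3) rfl N12393 D39166
theorem N25024 : nd 25024 = n39167 := ndS (p := 12393) (l := 5) rfl N12393 D39167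
theorem N25025 : nd 25025 = n39169 := ndS (p := 12394) (l := 4) rfl N12394 D39169
theorem N25026 : nd 25026 = n39170 := ndS (p := 12394) (l := 6) rfl N12394 D39170
theorem N25027 : nd 25027 = n39177 := ndS (p := 12395) (l := 4) rfl N12395 D39177
theorem N25028 : nd 25028 = n39178 := ndS (p := 12395) (l := 5) rfl N12395 D39178
theorem N25029 : nd 25029 = n39179 := ndS (p := 12395) (l := 6) rfl N12395 D39179
theorem N25030 : nd 25030 = n39182 := ndS (p := 12396) (l := 4) rfl N12396 D39182
theorem N25031 : nd 25031 = n39183 := ndS (p := 12396) (l := 5) rfl N12396 D39183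
theorem N25032 : nd 25032 = n39185 := ndS (p := 12397) (l := 0) rfl N12397 D39185
theorem N25033 : nd 25033 = n39186 := ndS (p := 12397) (l := 1) rfl N12397 D39186
theorem N25034 : nd 25034 = n39187 := ndS (p := 12397) (l := 3) rfl N12397 D39187
theorem N25035 : nd 25035 = n39188 := ndS (p := 12397) (l := 5) rfl N12397 D39188
theorem N25036 : nd 25036 = n39189 := ndS (p := 12397) (l := 7) rfl N12397 D39189
theorem N25037 : nd 25037 = n39190 := ndS (p := 12398) (l := 6) rfl N12398 D39190
theorem N25038 : nd 25038 = n39214 := ndS (p := 12399) (l := 3) rfl N12399 D39214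
theorem N25039 : nd 25039 = n39215 := ndS (p := 12399) (l := 4) rfl N12399 D39215
theorem N25040 : nd 25040 = n39217 := ndS (p := 12400) (l := 4) rfl N12400 D39217
theorem N25041 : nd 25041 = n39218 := ndS (p := 12401) (l := 3) rfl N12401 D39218
theorem N25042 : nd 25042 = n39240 := ndS (p := 12403) (l := 4) rfl N12403 D39240
theorem N25043 : nd 25043 = n39243 := ndS (p := 12404) (l := 3) rfl N12404 D39243
theorem N25044 : nd 25044 = n39253 := ndS (p := 12407) (l := 4) rfl N12407 D39253
theorem N25045 : nd 25045 = n39255 := ndS (p := 12409) (l := 3) rfl N12409 D39255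
theorem N25046 : nd 25046 = n39256 := ndS (p := 12409) (l := 5) rfl N12409 D39256
theorem N25047 : nd 25047 = n39257 := ndS (p := 12409) (l := 6) rfl N12409 D39257
theorem N25048 : nd 25048 = n39258 := ndS (p := 12410) (l := 3) rfl N12410 D39258
theorem N25049 : nd 25049 = n39259 := ndS (p := 12410) (l := 5) rfl N12410 D39259
theorem N25050 : nd 25050 = n39260 := ndS (p := 12410) (l := 6) rfl N12410 D39260
theorem N25051 : nd 25051 = n39261 := ndS (p := 12411) (l := 0) rfl N12411 D39261
theorem N25052 : nd 25052 = n39262 := ndS (p := 12411) (l := 1) rfl N12411 D39262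
theorem N25053 : nd 25053 = n39263 := ndS (p := 12411) (l := 2) rfl N12411 D39263
theorem N25054 : nd 25054 = n39264 := ndS (p := 12411) (l := 5) rfl N12411 D39264
theorem N25055 : nd 25055 = n39265 := ndS (p := 12411) (l := 7) rfl N12411 D39265
theorem N25056 : nd 25056 = n39266 := ndS (p := 12412) (l := 0) rfl N12412 D39266
theorem N25057 : nd 25057 = n39267 := ndS (p := 12412) (l := 1) rfl N12412 D39267
theorem N25058 : nd 25058 = n39269 := ndS (p := 12412) (l := 6) rfl N12412 D39269
theorem N25059 : nd 25059 = n39270 := ndS (p := 12412) (l := 7) rfl N12412 D39270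
theorem N25060 : nd 25060 = n39271 := ndS (p := 12413) (l := 6) rfl N12413 D39271
theorem N25061 : nd 25061 = n39272 := ndS (p := 12415) (l := 4) rfl N12415 D39272
theorem N25062 : nd 25062 = n39273 := ndS (p := 12415) (l := 6) rfl N12415 D39273
theorem N25063 : nd 25063 = n39274 := ndS (p := 12416) (l := 6) rfl N12416 D39274
theorem N25064 : nd 25064 = n39275 := ndS (p := 12417) (l := 0) rfl N12417 D39275
theorem N25065 : nd 25065 = n39276 := ndS (p := 12417) (l := 1) rfl N12417 D39276
theorem N25066 : nd 25066 = n39277 := ndS (p := 12417) (l := 7) rfl N12417 D39277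
theorem N25067 : nd 25067 = n39278 := ndS (p := 12418) (l := 3) rfl N12418 D39278
theorem N25068 : nd 25068 = n39279 := ndS (p := 12418) (l := 6) rfl N12418 D39279
theorem N25069 : nd 25069 = n39280 := ndS (p := 12419) (l := 4) rfl N12419 D39280
theorem N25070 : nd 25070 = n39281 := ndS (p := 12419) (l := 6) rfl N12419 D39281
theorem N25071 : nd 25071 = n39282 := ndS (p := 12420) (l := 0) rfl N12420 D39282
theorem N25072 : nd 25072 = n39283 := ndS (p := 12420) (l := 1) rfl N12420 D39283
theorem N25073 : nd 25073 = n39284 := ndS (p := 12420) (l := 6) rfl N12420 D39284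
theorem N25074 : nd 25074 = n39285 := ndS (p := 12421) (l := 0) rfl N12421 D39285
theorem N25075 : nd 25075 = n39286 := ndS (p := 12421) (l := 1) rfl N12421 D39286
theorem N25076 : nd 25076 = n39287 := ndS (p := 12421) (l := 5) rfl N12421 D39287
theorem N25077 : nd 25077 = n39288 := ndS (p := 12421) (l := 7) rfl N12421 D39288
theorem N25078 : nd 25078 = n39290 := ndS (p := 12422) (l := 5) rfl N12422 D39290
theorem N25079 : nd 25079 = n39291 := ndS (p := 12422) (l := 6) rfl N12422 D39291
theorem N25080 : nd 25080 = n39292 := ndS (p := 12424) (l := 5) rfl N12424 D39292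
theorem N25081 : nd 25081 = n39293 := ndS (p := 12424) (l := 6) rfl N12424 D39293
theorem N25082 : nd 25082 = n39294 := ndS (p := 12425) (l := 4) rfl N12425 D39294
theorem N25083 : nd 25083 = n39295 := ndS (p := 12425) (l := 6) rfl N12425 D39295
theorem N25084 : nd 25084 = n39296 := ndS (p := 12426) (l := 0) rfl N12426 D39296
theorem N25085 : nd 25085 = n39297 := ndS (p := 12426) (l := 1) rfl N12426 D39297
theorem N25086 : nd 25086 = n39298 := ndS (p := 12426) (l := 5) rfl N12426 D39298
theorem N25087 : nd 25087 = n39299 := ndS (p := 12426) (l := 7) rfl N12426 D39299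
theorem N25088 : nd 25088 = n39308 := ndS (p := 12427) (l := 5) rfl N12427 D39308
theorem N25089 : nd 25089 = n39309 := ndS (p := 12427) (l := 6) rfl N12427 D39309
theorem N25090 : nd 25090 = n39311 := ndS (p := 12428) (l := 1) rfl N12428 D39311
theorem N25091 : nd 25091 = n39312 := ndS (p := 12428) (l := 4) rfl N12428 D39312
theorem N25092 : nd 25092 = n39313 := ndS (p := 12428) (l := 7) rfl N12428 D39313
theorem N25093 : nd 25093 = n39316 := ndS (p := 12430) (l := 4) rfl N12430 D39316
theorem N25094 : nd 25094 = n39318 := ndS (p := 12430) (l := 6) rfl N12430 D39318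
theorem N25095 : nd 25095 = n39320 := ndS (p := 12431) (l := 3) rfl N12431 D39320
theorem N25096 : nd 25096 = n39321 := ndS (p := 12431) (l := 4) rfl N12431 D39321
theorem N25097 : nd 25097 = n39322 := ndS (p := 12431) (l := 5) rfl N12431 D39322
theorem N25098 : nd 25098 = n39323 := ndS (p := 12431) (l := 6) rfl N12431 D39323
theorem N25099 : nd 25099 = n39334 := ndS (p := 12433) (l := 0) rfl N12433 D39334
theorem N25100 : nd 25100 = n39336 := ndS (p := 12433) (l := 2) rfl N12433 D39336
theorem N25101 : nd 25101 = n39338 := ndS (p := 12433) (l := 5) rfl N12433 D39338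
theorem N25102 : nd 25102 = n39341 := ndS (p := 12434) (l := 0) rfl N12434 D39341
theorem N25103 : nd 25103 = n39344 := ndS (p := 12434) (l := 5) rfl N12434 D39344
theorem N25104 : nd 25104 = n39347 := ndS (p := 12435) (l := 0) rfl N12435 D39347
theorem N25105 : nd 25105 = n39348 := ndS (p := 12435) (l := 1) rfl N12435 D39348
theorem N25106 : nd 25106 = n39349 := ndS (p := 12435) (l := 4) rfl N12435 D39349
theorem N25107 : nd 25107 = n39350 := ndS (p := 12435) (l := 6) rfl N12435 D39350
theorem N25108 : nd 25108 = n39354 := ndS (p := 12436) (l := 5) rfl N12436 D39354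
theorem N25109 : nd 25109 = n39355 := ndS (p := 12436) (l := 7) rfl N12436 D39355
theorem N25110 : nd 25110 = n39362 := ndS (p := 12437) (l := 6) rfl N12437 D39362
theorem N25111 : nd 25111 = n39363 := ndS (p := 12438) (l := 3) rfl N12438 D39363
theorem N25112 : nd 25112 = n39364 := ndS (p := 12438) (l := 5) rfl N12438 D39364
theorem N25113 : nd 25113 = n39365 := ndS (p := 12438) (l := 6) rfl N12438 D39365
theorem N25114 : nd 25114 = n39366 := ndS (p := 12439) (l := 4) rfl N12439 D39366
theorem N25115 : nd 25115 = n39368 := ndS (p := 12440) (l := 0) rfl N12440 D39368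
theorem N25116 : nd 25116 = n39370 := ndS (p := 12440) (l := 5) rfl N12440 D39370
theorem N25117 : nd 25117 = n39371 := ndS (p := 12440) (l := 7) rfl N12440 D39371
theorem N25118 : nd 25118 = n39382 := ndS (p := 12441) (l := 0) rfl N12441 D39382
theorem N25119 : nd 25119 = n39383 := ndS (p := 12441) (l := 1) rfl N12441 D39383
theorem N25120 : nd 25120 = n39384 := ndS (p := 12441) (l := 3) rfl N12441 D39384
theorem N25121 : nd 25121 = n39385 := ndS (p := 12441) (l := 5) rfl N12441 D39385
theorem N25122 : nd 25122 = n39390 := ndS (p := 12442) (l := 4) rfl N12442 D39390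
theorem N25123 : nd 25123 = n39398 := ndS (p := 12443) (l := 4) rfl N12443 D39398
theorem N25124 : nd 25124 = n39399 := ndS (p := 12443) (l := 5) rfl N12443 D39399
theorem N25125 : nd 25125 = n39400 := ndS (p := 12443) (l := 6) rfl N12443 D39400
theorem N25126 : nd 25126 = n39401 := ndS (p := 12444) (l := 0) rfl N12444 D39401
theorem N25127 : nd 25127 = n39404 := ndS (p := 12444) (l := 6) rfl N12444 D39404
theorem N25128 : nd 25128 = n39406 := ndS (p := 12445) (l := 1) rfl N12445 D39406
theorem N25129 : nd 25129 = n39407 := ndS (p := 12445) (l := 4) rfl N12445 D39407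
theorem N25130 : nd 25130 = n39408 := ndS (p := 12445) (l := 6) rfl N12445 D39408
theorem N25131 : nd 25131 = n39409 := ndS (p := 12446) (l := 0) rfl N12446 D39409
theorem N25132 : nd 25132 = n39410 := ndS (p := 12446) (l := 1) rfl N12446 D39410
theorem N25133 : nd 25133 = n39411 := ndS (p := 12446) (l := 5) rfl N12446 D39411
theorem N25134 : nd 25134 = n39412 := ndS (p := 12446) (l := 7) rfl N12446 D39412
theorem N25135 : nd 25135 = n39413 := ndS (p := 12447) (l := 3) rfl N12447 D39413
theorem N25136 : nd 25136 = n39414 := ndS (p := 12447) (l := 4) rfl N12447 D39414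
theorem N25137 : nd 25137 = n39415 := ndS (p := 12447) (l := 6) rfl N12447 D39415
theorem N25138 : nd 25138 = n39417 := ndS (p := 12448) (l := 4) rfl N12448 D39417
theorem N25139 : nd 25139 = n39418 := ndS (p := 12448) (l := 5) rfl N12448 D39418
theorem N25140 : nd 25140 = n39419 := ndS (p := 12449) (l := 0) rfl N12449 D39419
theorem N25141 : nd 25141 = n39420 := ndS (p := 12449) (l := 1) rfl N12449 D39420
theorem N25142 : nd 25142 = n39421 := ndS (p := 12449) (l := 3) rfl N12449 D39421
theorem N25143 : nd 25143 = n39422 := ndS (p := 12449) (l := 6) rfl N12449 D39422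
theorem N25144 : nd 25144 = n39423 := ndS (p := 12450) (l := 0) rfl N12450 D39423
theorem N25145 : nd 25145 = n39424 := ndS (p := 12450) (l := 1) rfl N12450 D39424
theorem N25146 : nd 25146 = n39425 := ndS (p := 12450) (l := 5) rfl N12450 D39425
theorem N25147 : nd 25147 = n39426 := ndS (p := 12450) (l := 7) rfl N12450 D39426
theorem N25148 : nd 25148 = n39428 := ndS (p := 12451) (l := 4) rfl N12451 D39428
theorem N25149 : nd 25149 = n39436 := ndS (p := 12453) (l := 4) rfl N12453 D39436
theorem N25150 : nd 25150 = n39437 := ndS (p := 12453) (l := 5) rfl N12453 D39437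
theorem N25151 : nd 25151 = n39439 := ndS (p := 12454) (l := 4) rfl N12454 D39439
theorem N25152 : nd 25152 = n39440 := ndS (p := 12454) (l := 5) rfl N12454 D39440
theorem N25153 : nd 25153 = n39441 := ndS (p := 12454) (l := 6) rfl N12454 D39441
theorem N25154 : nd 25154 = n39444 := ndS (p := 12455) (l := 5) rfl N12455 D39444
theorem N25155 : nd 25155 = n39445 := ndS (p := 12455) (l := 6) rfl N12455 D39445
theorem N25156 : nd 25156 = n39446 := ndS (p := 12456) (l := 0) rfl N12456 D39446
theorem N25157 : nd 25157 = n39447 := ndS (p := 12456) (l := 1) rfl N12456 D39447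
theorem N25158 : nd 25158 = n39448 := ndS (p := 12456) (l := 4) rfl N12456 D39448
theorem N25159 : nd 25159 = n39449 := ndS (p := 12456) (l := 6) rfl N12456 D39449
theorem N25160 : nd 25160 = n39450 := ndS (p := 12457) (l := 0) rfl N12457 D39450
theorem N25161 : nd 25161 = n39451 := ndS (p := 12457) (l := 1) rfl N12457 D39451
theorem N25162 : nd 25162 = n39454 := ndS (p := 12458) (l := 3) rfl N12458 D39454
theorem N25163 : nd 25163 = n39455 := ndS (p := 12458) (l := 6) rfl N12458 D39455
theorem N25164 : nd 25164 = n39465 := ndS (p := 12462) (l := 4) rfl N12462 D39465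
theorem N25165 : nd 25165 = n39466 := ndS (p := 12462) (l := 5) rfl N12462 D39466
theorem N25166 : nd 25166 = n39468 := ndS (p := 12463) (l := 0) rfl N12463 D39468
theorem N25167 : nd 25167 = n39469 := ndS (p := 12463) (l := 3) rfl N12463 D39469
theorem N25168 : nd 25168 = n39470 := ndS (p := 12463) (l := 6) rfl N12463 D39470
theorem N25169 : nd 25169 = n39471 := ndS (p := 12465) (l := 0) rfl N12465 D39471
theorem N25170 : nd 25170 = n39472 := ndS (p := 12465) (l := 1) rfl N12465 D39472
theorem N25171 : nd 25171 = n39473 := ndS (p := 12465) (l := 7) rfl N12465 D39473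
theorem N25172 : nd 25172 = n39476 := ndS (p := 12466) (l := 2) rfl N12466 D39476
theorem N25173 : nd 25173 = n39477 := ndS (p := 12466) (l := 4) rfl N12466 D39477
theorem N25174 : nd 25174 = n39478 := ndS (p := 12466) (l := 6) rfl N12466 D39478
theorem N25175 : nd 25175 = n39479 := ndS (p := 12467) (l := 3) rfl N12467 D39479
theorem N25176 : nd 25176 = n39481 := ndS (p := 12468) (l := 0) rfl N12468 D39481
theorem N25177 : nd 25177 = n39482 := ndS (p := 12468) (l := 1) rfl N12468 D39482
theorem N25178 : nd 25178 = n39483 := ndS (p := 12468) (l := 7) rfl N12468 D39483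
theorem N25179 : nd 25179 = n39486 := ndS (p := 12470) (l := 3) rfl N12470 D39486
theorem N25180 : nd 25180 = n39488 := ndS (p := 12471) (l := 0) rfl N12471 D39488
theorem N25181 : nd 25181 = n39489 := ndS (p := 12471) (l := 1) rfl N12471 D39489
theorem N25182 : nd 25182 = n39490 := ndS (p := 12471) (l := 2) rfl N12471 D39490
theorem N25183 : nd 25183 = n39491 := ndS (p := 12471) (l := 5) rfl N12471 D39491
theorem N25184 : nd 25184 = n39492 := ndS (p := 12471) (l := 7) rfl N12471 D39492
theorem N25185 : nd 25185 = n39493 := ndS (p := 12472) (l := 6) rfl N12472 D39493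
theorem N25186 : nd 25186 = n39494 := ndS (p := 12473) (l := 6) rfl N12473 D39494
theorem N25187 : nd 25187 = n39510 := ndS (p := 12475) (l := 3) rfl N12475 D39510
theorem N25188 : nd 25188 = n39538 := ndS (p := 12476) (l := 3) rfl N12476 D39538
theorem N25189 : nd 25189 = n39543 := ndS (p := 12478) (l := 3) rfl N12478 D39543
theorem N25190 : nd 25190 = n39554 := ndS (p := 12479) (l := 0) rfl N12479 D39554
theorem N25191 : nd 25191 = n39559 := ndS (p := 12480) (l := 4) rfl N12480 D39559
theorem N25192 : nd 25192 = n39564 := ndS (p := 12481) (l := 4) rfl N12481 D39564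
theorem N25193 : nd 25193 = n39569 := ndS (p := 12482) (l := 3) rfl N12482 D39569
theorem N25194 : nd 25194 = n39570 := ndS (p := 12482) (l := 5) rfl N12482 D39570
theorem N25195 : nd 25195 = n39571 := ndS (p := 12482) (l := 6) rfl N12482 D39571
theorem N25196 : nd 25196 = n39576 := ndS (p := 12484) (l := 4) rfl N12484 D39576
theorem N25197 : nd 25197 = n39584 := ndS (p := 12485) (l := 0) rfl N12485 D39584
theorem N25198 : nd 25198 = n39585 := ndS (p := 12485) (l := 1) rfl N12485 D39585
theorem N25199 : nd 25199 = n39586 := ndS (p := 12485) (l := 2) rfl N12485 D39586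
theorem N25200 : nd 25200 = n39587 := ndS (p := 12485) (l := 4) rfl N12485 D39587
theorem N25201 : nd 25201 = n39588 := ndS (p := 12485) (l := 5) rfl N12485 D39588
theorem N25202 : nd 25202 = n39589 := ndS (p := 12486) (l := 4) rfl N12486 D39589
theorem N25203 : nd 25203 = n39590 := ndS (p := 12486) (l := 6) rfl N12486 D39590
theorem N25204 : nd 25204 = n39602 := ndS (p := 12487) (l := 6) rfl N12487 D39602
theorem N25205 : nd 25205 = n39607 := ndS (p := 12488) (l := 0) rfl N12488 D39607
theorem N25206 : nd 25206 = n39608 := ndS (p := 12488) (l := 1) rfl N12488 D39608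
theorem N25207 : nd 25207 = n39610 := ndS (p := 12489) (l := 3) rfl N12489 D39610
theorem N25208 : nd 25208 = n39611 := ndS (p := 12489) (l := 4) rfl N12489 D39611
theorem N25209 : nd 25209 = n39612 := ndS (p := 12489) (l := 6) rfl N12489 D39612
theorem N25210 : nd 25210 = n39613 := ndS (p := 12490) (l := 3) rfl N12490 D39613
theorem N25211 : nd 25211 = n39614 := ndS (p := 12490) (l := 4) rfl N12490 D39614
theorem N25212 : nd 25212 = n39616 := ndS (p := 12491) (l := 6) rfl N12491 D39616
theorem N25213 : nd 25213 = n39617 := ndS (p := 12492) (l := 0) rfl N12492 D39617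
theorem N25214 : nd 25214 = n39618 := ndS (p := 12492) (l := 1) rfl N12492 D39618
theorem N25215 : nd 25215 = n39619 := ndS (p := 12492) (l := 5) rfl N12492 D39619
theorem N25216 : nd 25216 = n39620 := ndS (p := 12492) (l := 7) rfl N12492 D39620
theorem N25217 : nd 25217 = n39621 := ndS (p := 12493) (l := 3) rfl N12493 D39621
theorem N25218 : nd 25218 = n39622 := ndS (p := 12494) (l := 4) rfl N12494 D39622
theorem N25219 : nd 25219 = n39628 := ndS (p := 12495) (l := 3) rfl N12495 D39628
theorem N25220 : nd 25220 = n39629 := ndS (p := 12495) (l := 5) rfl N12495 D39629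
theorem N25221 : nd 25221 = n39635 := ndS (p := 12496) (l := 3) rfl N12496 D39635
theorem N25222 : nd 25222 = n39636 := ndS (p := 12496) (l := 5) rfl N12496 D39636
theorem N25223 : nd 25223 = n39639 := ndS (p := 12498) (l := 0) rfl N12498 D39639
theorem N25224 : nd 25224 = n39640 := ndS (p := 12498) (l := 1) rfl N12498 D39640
theorem N25225 : nd 25225 = n39641 := ndS (p := 12498) (l := 2) rfl N12498 D39641
theorem N25226 : nd 25226 = n39643 := ndS (p := 12498) (l := 6) rfl N12498 D39643
theorem N25227 : nd 25227 = n39644 := ndS (p := 12499) (l := 6) rfl N12499 D39644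
theorem N25228 : nd 25228 = n39684 := ndS (p := 12501) (l := 3) rfl N12501 D39684
theorem N25229 : nd 25229 = n39685 := ndS (p := 12501) (l := 5) rfl N12501 D39685
theorem N25230 : nd 25230 = n39693 := ndS (p := 12502) (l := 3) rfl N12502 D39693
theorem N25231 : nd 25231 = n39694 := ndS (p := 12502) (l := 5) rfl N12502 D39694
theorem N25232 : nd 25232 = n39695 := ndS (p := 12502) (l := 6) rfl N12502 D39695
theorem N25233 : nd 25233 = n39706 := ndS (p := 12504) (l := 3) rfl N12504 D39706
theorem N25234 : nd 25234 = n39707 := ndS (p := 12504) (l := 4) rfl N12504 D39707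
theorem N25235 : nd 25235 = n39708 := ndS (p := 12504) (l := 5) rfl N12504 D39708
theorem N25236 : nd 25236 = n39711 := ndS (p := 12505) (l := 1) rfl N12505 D39711
theorem N25237 : nd 25237 = n39712 := ndS (p := 12505) (l := 2) rfl N12505 D39712
theorem N25238 : nd 25238 = n39713 := ndS (p := 12505) (l := 5) rfl N12505 D39713
theorem N25239 : nd 25239 = n39714 := ndS (p := 12505) (l := 6) rfl N12505 D39714
theorem N25240 : nd 25240 = n39715 := ndS (p := 12506) (l := 0) rfl N12506 D39715
theorem N25241 : nd 25241 = n39716 := ndS (p := 12506) (l := 1) rfl N12506 D39716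
theorem N25242 : nd 25242 = n39717 := ndS (p := 12506) (l := 4) rfl N12506 D39717
theorem N25243 : nd 25243 = n39718 := ndS (p := 12506) (l := 6) rfl N12506 D39718
theorem N25244 : nd 25244 = n39719 := ndS (p := 12507) (l := 0) rfl N12507 D39719
theorem N25245 : nd 25245 = n39720 := ndS (p := 12507) (l := 1) rfl N12507 D39720
theorem N25246 : nd 25246 = n39721 := ndS (p := 12507) (l := 5) rfl N12507 D39721
theorem N25247 : nd 25247 = n39733 := ndS (p := 12508) (l := 0) rfl N12508 D39733
theorem N25248 : nd 25248 = n39735 := ndS (p := 12508) (l := 3) rfl N12508 D39735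
theorem N25249 : nd 25249 = n39736 := ndS (p := 12508) (l := 5) rfl N12508 D39736
theorem N25250 : nd 25250 = n39744 := ndS (p := 12509) (l := 4) rfl N12509 D39744
theorem N25251 : nd 25251 = n39753 := ndS (p := 12510) (l := 3) rfl N12510 D39753
theorem N25252 : nd 25252 = n39754 := ndS (p := 12510) (l := 4) rfl N12510 D39754
theorem N25253 : nd 25253 = n39758 := ndS (p := 12511) (l := 6) rfl N12511 D39758
theorem N25254 : nd 25254 = n39759 := ndS (p := 12512) (l := 0) rfl N12512 D39759
theorem N25255 : nd 25255 = n39760 := ndS (p := 12512) (l := 1) rfl N12512 D39760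
theorem N25256 : nd 25256 = n39761 := ndS (p := 12512) (l := 4) rfl N12512 D39761
theorem N25257 : nd 25257 = n39762 := ndS (p := 12512) (l := 6) rfl N12512 D39762
theorem N25258 : nd 25258 = n39763 := ndS (p := 12513) (l := 0) rfl N12513 D39763
theorem N25259 : nd 25259 = n39764 := ndS (p := 12513) (l := 1) rfl N12513 D39764
theorem N25260 : nd 25260 = n39765 := ndS (p := 12513) (l := 5) rfl N12513 D39765
theorem N25261 : nd 25261 = n39766 := ndS (p := 12513) (l := 7) rfl N12513 D39766
theorem N25262 : nd 25262 = n39767 := ndS (p := 12514) (l := 3) rfl N12514 D39767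
theorem N25263 : nd 25263 = n39768 := ndS (p := 12514) (l := 6) rfl N12514 D39768
theorem N25264 : nd 25264 = n39770 := ndS (p := 12515) (l := 5) rfl N12515 D39770
theorem N25265 : nd 25265 = n39771 := ndS (p := 12515) (l := 7) rfl N12515 D39771
theorem N25266 : nd 25266 = n39773 := ndS (p := 12518) (l := 0) rfl N12518 D39773
theorem N25267 : nd 25267 = n39774 := ndS (p := 12518) (l := 1) rfl N12518 D39774
theorem N25268 : nd 25268 = n39775 := ndS (p := 12518) (l := 2) rfl N12518 D39775
theorem N25269 : nd 25269 = n39776 := ndS (p := 12518) (l := 5) rfl N12518 D39776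
theorem N25270 : nd 25270 = n39777 := ndS (p := 12519) (l := 6) rfl N12519 D39777
theorem N25271 : nd 25271 = n39782 := ndS (p := 12520) (l := 3) rfl N12520 D39782
theorem N25272 : nd 25272 = n39798 := ndS (p := 12521) (l := 5) rfl N12521 D39798
theorem N25273 : nd 25273 = n39799 := ndS (p := 12521) (l := 6) rfl N12521 D39799
theorem N25274 : nd 25274 = n39801 := ndS (p := 12522) (l := 1) rfl N12522 D39801
theorem N25275 : nd 25275 = n39802 := ndS (p := 12522) (l := 4) rfl N12522 D39802
theorem N25276 : nd 25276 = n39803 := ndS (p := 12522) (l := 6) rfl N12522 D39803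
theorem N25277 : nd 25277 = n39808 := ndS (p := 12525) (l := 1) rfl N12525 D39808
theorem N25278 : nd 25278 = n39811 := ndS (p := 12525) (l := 6) rfl N12525 D39811
theorem N25279 : nd 25279 = n39835 := ndS (p := 12527) (l := 3) rfl N12527 D39835
theorem N25280 : nd 25280 = n39840 := ndS (p := 12528) (l := 4) rfl N12528 D39840
theorem N25281 : nd 25281 = n39841 := ndS (p := 12528) (l := 6) rfl N12528 D39841
theorem N25282 : nd 25282 = n39844 := ndS (p := 12529) (l := 6) rfl N12529 D39844
theorem N25283 : nd 25283 = n39845 := ndS (p := 12530) (l := 0) rfl N12530 D39845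
theorem N25284 : nd 25284 = n39846 := ndS (p := 12530) (l := 1) rfl N12530 D39846
theorem N25285 : nd 25285 = n39850 := ndS (p := 12531) (l := 4) rfl N12531 D39850
theorem N25286 : nd 25286 = n39851 := ndS (p := 12532) (l := 3) rfl N12532 D39851
theorem N25287 : nd 25287 = n39852 := ndS (p := 12532) (l := 5) rfl N12532 D39852
theorem N25288 : nd 25288 = n39853 := ndS (p := 12533) (l := 3) rfl N12533 D39853
theorem N25289 : nd 25289 = n39854 := ndS (p := 12533) (l := 5) rfl N12533 D39854
theorem N25290 : nd 25290 = n39855 := ndS (p := 12533) (l := 6) rfl N12533 D39855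
theorem N25291 : nd 25291 = n39856 := ndS (p := 12534) (l := 3) rfl N12534 D39856
theorem N25292 : nd 25292 = n39857 := ndS (p := 12534) (l := 5) rfl N12534 D39857
theorem N25293 : nd 25293 = n39858 := ndS (p := 12535) (l := 0) rfl N12535 D39858
theorem N25294 : nd 25294 = n39859 := ndS (p := 12535) (l := 1) rfl N12535 D39859
theorem N25295 : nd 25295 = n39860 := ndS (p := 12535) (l := 2) rfl N12535 D39860
theorem N25296 : nd 25296 = n39861 := ndS (p := 12535) (l := 5) rfl N12535 D39861
theorem N25297 : nd 25297 = n39862 := ndS (p := 12536) (l := 0) rfl N12536 D39862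
theorem N25298 : nd 25298 = n39864 := ndS (p := 12537) (l := 4) rfl N12537 D39864
theorem N25299 : nd 25299 = n39865 := ndS (p := 12537) (l := 6) rfl N12537 D39865
theorem N25300 : nd 25300 = n39866 := ndS (p := 12538) (l := 3) rfl N12538 D39866
theorem N25301 : nd 25301 = n39867 := ndS (p := 12538) (l := 4) rfl N12538 D39867
theorem N25302 : nd 25302 = n39869 := ndS (p := 12539) (l := 0) rfl N12539 D39869
theorem N25303 : nd 25303 = n39870 := ndS (p := 12539) (l := 1) rfl N12539 D39870
theorem N25304 : nd 25304 = n39871 := ndS (p := 12539) (l := 3) rfl N12539 D39871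
theorem N25305 : nd 25305 = n39872 := ndS (p := 12539) (l := 5) rfl N12539 D39872
theorem N25306 : nd 25306 = n39873 := ndS (p := 12540) (l := 0) rfl N12540 D39873
theorem N25307 : nd 25307 = n39874 := ndS (p := 12540) (l := 1) rfl N12540 D39874
theorem N25308 : nd 25308 = n39875 := ndS (p := 12540) (l := 2) rfl N12540 D39875
theorem N25309 : nd 25309 = n39876 := ndS (p := 12541) (l := 4) rfl N12541 D39876
theorem N25310 : nd 25310 = n39877 := ndS (p := 12541) (l := 6) rfl N12541 D39877
theorem N25311 : nd 25311 = n39878 := ndS (p := 12542) (l := 0) rfl N12542 D39878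
theorem N25312 : nd 25312 = n39879 := ndS (p := 12542) (l := 1) rfl N12542 D39879
theorem N25313 : nd 25313 = n39880 := ndS (p := 12542) (l := 3) rfl N12542 D39880
theorem N25314 : nd 25314 = n39881 := ndS (p := 12542) (l := 5) rfl N12542 D39881
theorem N25315 : nd 25315 = n39882 := ndS (p := 12542) (l := 6) rfl N12542 D39882
theorem N25316 : nd 25316 = n39883 := ndS (p := 12543) (l := 0) rfl N12543 D39883
theorem N25317 : nd 25317 = n39884 := ndS (p := 12543) (l := 1) rfl N12543 D39884
theorem N25318 : nd 25318 = n39885 := ndS (p := 12544) (l := 0) rfl N12544 D39885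
theorem N25319 : nd 25319 = n39886 := ndS (p := 12544) (l := 1) rfl N12544 D39886
theorem N25320 : nd 25320 = n39887 := ndS (p := 12544) (l := 2) rfl N12544 D39887
theorem N25321 : nd 25321 = n39888 := ndS (p := 12544) (l := 6) rfl N12544 D39888
theorem N25322 : nd 25322 = n39889 := ndS (p := 12545) (l := 0) rfl N12545 D39889
theorem N25323 : nd 25323 = n39890 := ndS (p := 12545) (l := 1) rfl N12545 D39890
theorem N25324 : nd 25324 = n39893 := ndS (p := 12547) (l := 0) rfl N12547 D39893
theorem N25325 : nd 25325 = n39894 := ndS (p := 12547) (l := 3) rfl N12547 D39894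
theorem N25326 : nd 25326 = n39895 := ndS (p := 12547) (l := 5) rfl N12547 D39895
theorem N25327 : nd 25327 = n39896 := ndS (p := 12547) (l := 6) rfl N12547 D39896
theorem N25328 : nd 25328 = n39897 := ndS (p := 12548) (l := 0) rfl N12548 D39897
theorem N25329 : nd 25329 = n39898 := ndS (p := 12548) (l := 1) rfl N12548 D39898
theorem N25330 : nd 25330 = n39899 := ndS (p := 12548) (l := 7) rfl N12548 D39899
theorem N25331 : nd 25331 = n39900 := ndS (p := 12549) (l := 0) rfl N12549 D39900
theorem N25332 : nd 25332 = n39901 := ndS (p := 12549) (l := 1) rfl N12549 D39901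
theorem N25333 : nd 25333 = n39902 := ndS (p := 12549) (l := 2) rfl N12549 D39902
theorem N25334 : nd 25334 = n39903 := ndS (p := 12549) (l := 6) rfl N12549 D39903
theorem N25335 : nd 25335 = n39905 := ndS (p := 12550) (l := 5) rfl N12550 D39905
theorem N25336 : nd 25336 = n39906 := ndS (p := 12550) (l := 7) rfl N12550 D39906
theorem N25337 : nd 25337 = n39909 := ndS (p := 12551) (l := 4) rfl N12551 D39909
theorem N25338 : nd 25338 = n39910 := ndS (p := 12551) (l := 5) rfl N12551 D39910
theorem N25339 : nd 25339 = n39911 := ndS (p := 12551) (l := 6) rfl N12551 D39911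
theorem N25340 : nd 25340 = n39913 := ndS (p := 12552) (l := 3) rfl N12552 D39913
theorem N25341 : nd 25341 = n39914 := ndS (p := 12552) (l := 4) rfl N12552 D39914
theorem N25342 : nd 25342 = n39915 := ndS (p := 12552) (l := 5) rfl N12552 D39915
theorem N25343 : nd 25343 = n39918 := ndS (p := 12554) (l := 2) rfl N12554 D39918
theorem N25344 : nd 25344 = n39919 := ndS (p := 12554) (l := 4) rfl N12554 D39919
theorem N25345 : nd 25345 = n39920 := ndS (p := 12554) (l := 6) rfl N12554 D39920
theorem N25346 : nd 25346 = n39923 := ndS (p := 12555) (l := 5) rfl N12555 D39923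
theorem N25347 : nd 25347 = n39924 := ndS (p := 12555) (l := 7) rfl N12555 D39924
theorem N25348 : nd 25348 = n39926 := ndS (p := 12556) (l := 3) rfl N12556 D39926
theorem N25349 : nd 25349 = n39927 := ndS (p := 12556) (l := 4) rfl N12556 D39927
theorem N25350 : nd 25350 = n39928 := ndS (p := 12556) (l := 5) rfl N12556 D39928
theorem N25351 : nd 25351 = n39929 := ndS (p := 12556) (l := 6) rfl N12556 D39929
theorem N25352 : nd 25352 = n39931 := ndS (p := 12557) (l := 3) rfl N12557 D39931
theorem N25353 : nd 25353 = n39932 := ndS (p := 12557) (l := 4) rfl N12557 D39932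
theorem N25354 : nd 25354 = n39933 := ndS (p := 12557) (l := 5) rfl N12557 D39933
theorem N25355 : nd 25355 = n39934 := ndS (p := 12557) (l := 6) rfl N12557 D39934
theorem N25356 : nd 25356 = n39937 := ndS (p := 12559) (l := 7) rfl N12559 D39937
theorem N25357 : nd 25357 = n39938 := ndS (p := 12560) (l := 3) rfl N12560 D39938
theorem N25358 : nd 25358 = n39939 := ndS (p := 12560) (l := 5) rfl N12560 D39939
theorem N25359 : nd 25359 = n39940 := ndS (p := 12560) (l := 6) rfl N12560 D39940
theorem N25360 : nd 25360 = n39944 := ndS (p := 12562) (l := 3) rfl N12562 D39944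
theorem N25361 : nd 25361 = n39945 := ndS (p := 12562) (l := 5) rfl N12562 D39945
theorem N25362 : nd 25362 = n39950 := ndS (p := 12564) (l := 6) rfl N12564 D39950
theorem N25363 : nd 25363 = n39951 := ndS (p := 12565) (l := 5) rfl N12565 D39951
theorem N25364 : nd 25364 = n39953 := ndS (p := 12566) (l := 3) rfl N12566 D39953
theorem N25365 : nd 25365 = n39966 := ndS (p := 12569) (l := 4) rfl N12569 D39966
theorem N25366 : nd 25366 = n39967 := ndS (p := 12570) (l := 4) rfl N12570 D39967
theorem N25367 : nd 25367 = n39968 := ndS (p := 12572) (l := 0) rfl N12572 D39968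
theorem N25368 : nd 25368 = n39969 := ndS (p := 12572) (l := 3) rfl N12572 D39969
theorem N25369 : nd 25369 = n39970 := ndS (p := 12572) (l := 5) rfl N12572 D39970
theorem N25370 : nd 25370 = n39971 := ndS (p := 12573) (l := 0) rfl N12573 D39971
theorem N25371 : nd 25371 = n39972 := ndS (p := 12573) (l := 1) rfl N12573 D39972
theorem N25372 : nd 25372 = n39973 := ndS (p := 12573) (l := 2) rfl N12573 D39973
theorem N25373 : nd 25373 = n39975 := ndS (p := 12575) (l := 4) rfl N12575 D39975
theorem N25374 : nd 25374 = n39976 := ndS (p := 12576) (l := 3) rfl N12576 D39976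
theorem N25375 : nd 25375 = n39978 := ndS (p := 12577) (l := 0) rfl N12577 D39978
theorem N25376 : nd 25376 = n39980 := ndS (p := 12577) (l := 7) rfl N12577 D39980
theorem N25377 : nd 25377 = n39983 := ndS (p := 12578) (l := 3) rfl N12578 D39983
theorem N25378 : nd 25378 = n39984 := ndS (p := 12578) (l := 6) rfl N12578 D39984
theorem N25379 : nd 25379 = n39987 := ndS (p := 12579) (l := 5) rfl N12579 D39987
theorem N25380 : nd 25380 = n39988 := ndS (p := 12579) (l := 7) rfl N12579 D39988
theorem N25381 : nd 25381 = n39992 := ndS (p := 12580) (l := 5) rfl N12580 D39992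
theorem N25382 : nd 25382 = n39993 := ndS (p := 12580) (l := 6) rfl N12580 D39993
theorem N25383 : nd 25383 = n39999 := ndS (p := 12582) (l := 3) rfl N12582 D39999
theorem N25384 : nd 25384 = n40000 := ndS (p := 12582) (l := 5) rfl N12582 D40000
theorem N25385 : nd 25385 = n40006 := ndS (p := 12583) (l := 0) rfl N12583 D40006
theorem N25386 : nd 25386 = n40008 := ndS (p := 12583) (l := 6) rfl N12583 D40008
theorem N25387 : nd 25387 = n40009 := ndS (p := 12584) (l := 6) rfl N12584 D40009
theorem N25388 : nd 25388 = n40012 := ndS (p := 12585) (l := 5) rfl N12585 D40012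
theorem N25389 : nd 25389 = n40032 := ndS (p := 12586) (l := 6) rfl N12586 D40032
theorem N25390 : nd 25390 = n40033 := ndS (p := 12587) (l := 3) rfl N12587 D40033
theorem N25391 : nd 25391 = n40034 := ndS (p := 12587) (l := 6) rfl N12587 D40034
theorem N25392 : nd 25392 = n40038 := ndS (p := 12589) (l := 6) rfl N12589 D40038
theorem N25393 : nd 25393 = n40041 := ndS (p := 12590) (l := 5) rfl N12590 D40041
theorem N25394 : nd 25394 = n40043 := ndS (p := 12591) (l := 3) rfl N12591 D40043
theorem N25395 : nd 25395 = n40045 := ndS (p := 12592) (l := 0) rfl N12592 D40045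
theorem N25396 : nd 25396 = n40046 := ndS (p := 12592) (l := 1) rfl N12592 D40046
theorem N25397 : nd 25397 = n40047 := ndS (p := 12592) (l := 2) rfl N12592 D40047
theorem N25398 : nd 25398 = n40048 := ndS (p := 12592) (l := 6) rfl N12592 D40048
theorem N25399 : nd 25399 = n40053 := ndS (p := 12594) (l := 3) rfl N12594 D40053
theorem N25400 : nd 25400 = n40054 := ndS (p := 12594) (l := 4) rfl N12594 D40054
theorem N25401 : nd 25401 = n40057 := ndS (p := 12595) (l := 4) rfl N12595 D40057
theorem N25402 : nd 25402 = n40061 := ndS (p := 12597) (l := 5) rfl N12597 D40061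
theorem N25403 : nd 25403 = n40062 := ndS (p := 12597) (l := 7) rfl N12597 D40062
theorem N25404 : nd 25404 = n40063 := ndS (p := 12598) (l := 3) rfl N12598 D40063
theorem N25405 : nd 25405 = n40064 := ndS (p := 12598) (l := 6) rfl N12598 D40064
theorem N25406 : nd 25406 = n40065 := ndS (p := 12599) (l := 3) rfl N12599 D40065
theorem N25407 : nd 25407 = n40068 := ndS (p := 12600) (l := 6) rfl N12600 D40068
theorem N25408 : nd 25408 = n40069 := ndS (p := 12601) (l := 0) rfl N12601 D40069
theorem N25409 : nd 25409 = n40070 := ndS (p := 12601) (l := 1) rfl N12601 D40070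
theorem N25410 : nd 25410 = n40071 := ndS (p := 12601) (l := 5) rfl N12601 D40071
theorem N25411 : nd 25411 = n40072 := ndS (p := 12601) (l := 7) rfl N12601 D40072
theorem N25412 : nd 25412 = n40075 := ndS (p := 12602) (l := 4) rfl N12602 D40075
theorem N25413 : nd 25413 = n40076 := ndS (p := 12602) (l := 5) rfl N12602 D40076
theorem N25414 : nd 25414 = n40083 := ndS (p := 12603) (l := 0) rfl N12603 D40083
theorem N25415 : nd 25415 = n40085 := ndS (p := 12603) (l := 4) rfl N12603 D40085
theorem N25416 : nd 25416 = n40086 := ndS (p := 12603) (l := 7) rfl N12603 D40086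
theorem N25417 : nd 25417 = n40087 := ndS (p := 12605) (l := 6) rfl N12605 D40087
theorem N25418 : nd 25418 = n40088 := ndS (p := 12606) (l := 3) rfl N12606 D40088
theorem N25419 : nd 25419 = n40089 := ndS (p := 12606) (l := 6) rfl N12606 D40089
theorem N25420 : nd 25420 = n40092 := ndS (p := 12607) (l := 5) rfl N12607 D40092
theorem N25421 : nd 25421 = n40093 := ndS (p := 12607) (l := 7) rfl N12607 D40093
theorem N25422 : nd 25422 = n40094 := ndS (p := 12608) (l := 0) rfl N12608 D40094
theorem N25423 : nd 25423 = n40095 := ndS (p := 12608) (l := 1) rfl N12608 D40095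
theorem N25424 : nd 25424 = n40096 := ndS (p := 12608) (l := 5) rfl N12608 D40096
theorem N25425 : nd 25425 = n40097 := ndS (p := 12608) (l := 6) rfl N12608 D40097
theorem N25426 : nd 25426 = n40098 := ndS (p := 12609) (l := 6) rfl N12609 D40098
theorem N25427 : nd 25427 = n40100 := ndS (p := 12610) (l := 1) rfl N12610 D40100
theorem N25428 : nd 25428 = n40101 := ndS (p := 12610) (l := 5) rfl N12610 D40101
theorem N25429 : nd 25429 = n40102 := ndS (p := 12610) (l := 7) rfl N12610 D40102
theorem N25430 : nd 25430 = n40111 := ndS (p := 12611) (l := 5) rfl N12611 D40111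
theorem N25431 : nd 25431 = n40114 := ndS (p := 12612) (l := 1) rfl N12612 D40114
theorem N25432 : nd 25432 = n40115 := ndS (p := 12612) (l := 4) rfl N12612 D40115
theorem N25433 : nd 25433 = n40116 := ndS (p := 12612) (l := 7) rfl N12612 D40116
theorem N25434 : nd 25434 = n40117 := ndS (p := 12614) (l := 0) rfl N12614 D40117
theorem N25435 : nd 25435 = n40118 := ndS (p := 12614) (l := 1) rfl N12614 D40118
theorem N25436 : nd 25436 = n40119 := ndS (p := 12614) (l := 2) rfl N12614 D40119
theorem N25437 : nd 25437 = n40120 := ndS (p := 12614) (l := 4) rfl N12614 D40120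
theorem N25438 : nd 25438 = n40128 := ndS (p := 12617) (l := 0) rfl N12617 D40128
theorem N25439 : nd 25439 = n40129 := ndS (p := 12617) (l := 1) rfl N12617 D40129
theorem N25440 : nd 25440 = n40130 := ndS (p := 12617) (l := 6) rfl N12617 D40130
theorem N25441 : nd 25441 = n40131 := ndS (p := 12618) (l := 6) rfl N12618 D40131
theorem N25442 : nd 25442 = n40134 := ndS (p := 12619) (l := 5) rfl N12619 D40134
theorem N25443 : nd 25443 = n40136 := ndS (p := 12620) (l := 3) rfl N12620 D40136
theorem N25444 : nd 25444 = n40137 := ndS (p := 12620) (l := 6) rfl N12620 D40137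
theorem N25445 : nd 25445 = n40138 := ndS (p := 12621) (l := 6) rfl N12621 D40138
theorem N25446 : nd 25446 = n40139 := ndS (p := 12622) (l := 5) rfl N12622 D40139
theorem N25447 : nd 25447 = n40140 := ndS (p := 12622) (l := 6) rfl N12622 D40140
theorem N25448 : nd 25448 = n40141 := ndS (p := 12623) (l := 0) rfl N12623 D40141
theorem N25449 : nd 25449 = n40142 := ndS (p := 12623) (l := 4) rfl N12623 D40142
theorem N25450 : nd 25450 = n40143 := ndS (p := 12623) (l := 6) rfl N12623 D40143
theorem N25451 : nd 25451 = n40144 := ndS (p := 12624) (l := 0) rfl N12624 D40144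
theorem N25452 : nd 25452 = n40145 := ndS (p := 12624) (l := 1) rfl N12624 D40145
theorem N25453 : nd 25453 = n40146 := ndS (p := 12624) (l := 5) rfl N12624 D40146
theorem N25454 : nd 25454 = n40147 := ndS (p := 12625) (l := 3) rfl N12625 D40147
theorem N25455 : nd 25455 = n40148 := ndS (p := 12625) (l := 6) rfl N12625 D40148
theorem N25456 : nd 25456 = n40149 := ndS (p := 12626) (l := 6) rfl N12626 D40149
theorem N25457 : nd 25457 = n40150 := ndS (p := 12627) (l := 0) rfl N12627 D40150
theorem N25458 : nd 25458 = n40151 := ndS (p := 12627) (l := 1) rfl N12627 D40151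
theorem N25459 : nd 25459 = n40152 := ndS (p := 12627) (l := 5) rfl N12627 D40152
theorem N25460 : nd 25460 = n40153 := ndS (p := 12627) (l := 7) rfl N12627 D40153
theorem N25461 : nd 25461 = n40158 := ndS (p := 12629) (l := 3) rfl N12629 D40158
theorem N25462 : nd 25462 = n40159 := ndS (p := 12629) (l := 5) rfl N12629 D40159
theorem N25463 : nd 25463 = n40160 := ndS (p := 12629) (l := 6) rfl N12629 D40160
theorem N25464 : nd 25464 = n40168 := ndS (p := 12632) (l := 5) rfl N12632 D40168
theorem N25465 : nd 25465 = n40181 := ndS (p := 12634) (l := 5) rfl N12634 D40181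
theorem N25466 : nd 25466 = n40187 := ndS (p := 12635) (l := 6) rfl N12635 D40187
theorem N25467 : nd 25467 = n40194 := ndS (p := 12637) (l := 2) rfl N12637 D40194
theorem N25468 : nd 25468 = n40195 := ndS (p := 12637) (l := 4) rfl N12637 D40195
theorem N25469 : nd 25469 = n40197 := ndS (p := 12637) (l := 6) rfl N12637 D40197
theorem N25470 : nd 25470 = n40198 := ndS (p := 12638) (l := 3) rfl N12638 D40198
theorem N25471 : nd 25471 = n40200 := ndS (p := 12638) (l := 6) rfl N12638 D40200
theorem N25472 : nd 25472 = n40206 := ndS (p := 12642) (l := 4) rfl N12642 D40206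
theorem N25473 : nd 25473 = n40207 := ndS (p := 12642) (l := 5) rfl N12642 D40207
theorem N25474 : nd 25474 = n40208 := ndS (p := 12642) (l := 6) rfl N12642 D40208
theorem N25475 : nd 25475 = n40211 := ndS (p := 12643) (l := 4) rfl N12643 D40211
theorem N25476 : nd 25476 = n40212 := ndS (p := 12643) (l := 5) rfl N12643 D40212
theorem N25477 : nd 25477 = n40214 := ndS (p := 12644) (l := 4) rfl N12644 D40214
theorem N25478 : nd 25478 = n40215 := ndS (p := 12645) (l := 4) rfl N12645 D40215
theorem N25479 : nd 25479 = n40216 := ndS (p := 12645) (l := 6) rfl N12645 D40216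
theorem N25480 : nd 25480 = n40217 := ndS (p := 12646) (l := 5) rfl N12646 D40217
theorem N25481 : nd 25481 = n40218 := ndS (p := 12646) (l := 6) rfl N12646 D40218
theorem N25482 : nd 25482 = n40222 := ndS (p := 12648) (l := 6) rfl N12648 D40222
theorem N25483 : nd 25483 = n40223 := ndS (p := 12649) (l := 3) rfl N12649 D40223
theorem N25484 : nd 25484 = n40224 := ndS (p := 12649) (l := 5) rfl N12649 D40224
theorem N25485 : nd 25485 = n40225 := ndS (p := 12649) (l := 6) rfl N12649 D40225
theorem N25486 : nd 25486 = n40228 := ndS (p := 12650) (l := 5) rfl N12650 D40228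
theorem N25487 : nd 25487 = n40230 := ndS (p := 12651) (l := 5) rfl N12651 D40230
theorem N25488 : nd 25488 = n40232 := ndS (p := 12652) (l := 3) rfl N12652 D40232
theorem N25489 : nd 25489 = n40233 := ndS (p := 12652) (l := 4) rfl N12652 D40233
theorem N25490 : nd 25490 = n40234 := ndS (p := 12652) (l := 5) rfl N12652 D40234
theorem N25491 : nd 25491 = n40235 := ndS (p := 12652) (l := 6) rfl N12652 D40235
theorem N25492 : nd 25492 = n40237 := ndS (p := 12653) (l := 3) rfl N12653 D40237
theorem N25493 : nd 25493 = n40238 := ndS (p := 12653) (l := 4) rfl N12653 D40238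
theorem N25494 : nd 25494 = n40239 := ndS (p := 12653) (l := 5) rfl N12653 D40239
theorem N25495 : nd 25495 = n40240 := ndS (p := 12653) (l := 6) rfl N12653 D40240
theorem N25496 : nd 25496 = n40241 := ndS (p := 12654) (l := 0) rfl N12654 D40241
theorem N25497 : nd 25497 = n40242 := ndS (p := 12654) (l := 1) rfl N12654 D40242
theorem N25498 : nd 25498 = n40247 := ndS (p := 12656) (l := 6) rfl N12656 D40247
theorem N25499 : nd 25499 = n40248 := ndS (p := 12657) (l := 3) rfl N12657 D40248
theorem N25500 : nd 25500 = n40249 := ndS (p := 12657) (l := 5) rfl N12657 D40249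
theorem N25501 : nd 25501 = n40258 := ndS (p := 12659) (l := 4) rfl N12659 D40258
theorem N25502 : nd 25502 = n40261 := ndS (p := 12660) (l := 0) rfl N12660 D40261
theorem N25503 : nd 25503 = n40284 := ndS (p := 12662) (l := 4) rfl N12662 D40284
theorem N25504 : nd 25504 = n40287 := ndS (p := 12663) (l := 4) rfl N12663 D40287
theorem N25505 : nd 25505 = n40302 := ndS (p := 12670) (l := 0) rfl N12670 D40302
theorem N25506 : nd 25506 = n40303 := ndS (p := 12670) (l := 1) rfl N12670 D40303
theorem N25507 : nd 25507 = n40304 := ndS (p := 12670) (l := 3) rfl N12670 D40304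
theorem N25508 : nd 25508 = n40305 := ndS (p := 12670) (l := 5) rfl N12670 D40305
theorem N25509 : nd 25509 = n40306 := ndS (p := 12671) (l := 4) rfl N12671 D40306
theorem N25510 : nd 25510 = n40309 := ndS (p := 12672) (l := 5) rfl N12672 D40309
theorem N25511 : nd 25511 = n40311 := ndS (p := 12674) (l := 0) rfl N12674 D40311
theorem N25512 : nd 25512 = n40313 := ndS (p := 12674) (l := 3) rfl N12674 D40313
theorem N25513 : nd 25513 = n40314 := ndS (p := 12674) (l := 5) rfl N12674 D40314
theorem N25514 : nd 25514 = n40315 := ndS (p := 12675) (l := 5) rfl N12675 D40315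
theorem N25515 : nd 25515 = n40316 := ndS (p := 12675) (l := 6) rfl N12675 D40316
theorem N25516 : nd 25516 = n40317 := ndS (p := 12676) (l := 6) rfl N12676 D40317
theorem N25517 : nd 25517 = n40318 := ndS (p := 12677) (l := 1) rfl N12677 D40318
theorem N25518 : nd 25518 = n40319 := ndS (p := 12677) (l := 5) rfl N12677 D40319
theorem N25519 : nd 25519 = n40320 := ndS (p := 12677) (l := 7) rfl N12677 D40320
theorem N25520 : nd 25520 = n40323 := ndS (p := 12678) (l := 4) rfl N12678 D40323
theorem N25521 : nd 25521 = n40326 := ndS (p := 12679) (l := 4) rfl N12679 D40326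
theorem N25522 : nd 25522 = n40328 := ndS (p := 12681) (l := 6) rfl N12681 D40328
theorem N25523 : nd 25523 = n40329 := ndS (p := 12682) (l := 2) rfl N12682 D40329
theorem N25524 : nd 25524 = n40330 := ndS (p := 12682) (l := 6) rfl N12682 D40330
theorem N25525 : nd 25525 = n40331 := ndS (p := 12683) (l := 6) rfl N12683 D40331
theorem N25526 : nd 25526 = n40333 := ndS (p := 12684) (l := 1) rfl N12684 D40333
theorem N25527 : nd 25527 = n40334 := ndS (p := 12684) (l := 5) rfl N12684 D40334
theorem N25528 : nd 25528 = n40353 := ndS (p := 12686) (l := 5) rfl N12686 D40353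
theorem N25529 : nd 25529 = n40354 := ndS (p := 12686) (l := 6) rfl N12686 D40354
theorem N25530 : nd 25530 = n40355 := ndS (p := 12687) (l := 6) rfl N12687 D40355
theorem N25531 : nd 25531 = n40356 := ndS (p := 12688) (l := 0) rfl N12688 D40356
theorem N25532 : nd 25532 = n40358 := ndS (p := 12688) (l := 5) rfl N12688 D40358
theorem N25533 : nd 25533 = n40368 := ndS (p := 12689) (l := 0) rfl N12689 D40368
theorem N25534 : nd 25534 = n40369 := ndS (p := 12689) (l := 1) rfl N12689 D40369
theorem N25535 : nd 25535 = n40370 := ndS (p := 12689) (l := 6) rfl N12689 D40370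
theorem N25536 : nd 25536 = n40373 := ndS (p := 12690) (l := 5) rfl N12690 D40373
theorem N25537 : nd 25537 = n40375 := ndS (p := 12691) (l := 3) rfl N12691 D40375
theorem N25538 : nd 25538 = n40376 := ndS (p := 12691) (l := 6) rfl N12691 D40376
theorem N25539 : nd 25539 = n40379 := ndS (p := 12692) (l := 5) rfl N12692 D40379
theorem N25540 : nd 25540 = n40382 := ndS (p := 12693) (l := 3) rfl N12693 D40382
theorem N25541 : nd 25541 = n40384 := ndS (p := 12693) (l := 5) rfl N12693 D40384
theorem N25542 : nd 25542 = n40385 := ndS (p := 12693) (l := 6) rfl N12693 D40385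
theorem N25543 : nd 25543 = n40387 := ndS (p := 12694) (l := 3) rfl N12694 D40387
theorem N25544 : nd 25544 = n40388 := ndS (p := 12694) (l := 5) rfl N12694 D40388
theorem N25545 : nd 25545 = n40389 := ndS (p := 12694) (l := 6) rfl N12694 D40389
theorem N25546 : nd 25546 = n40390 := ndS (p := 12695) (l := 0) rfl N12695 D40390
theorem N25547 : nd 25547 = n40391 := ndS (p := 12695) (l := 1) rfl N12695 D40391
theorem N25548 : nd 25548 = n40392 := ndS (p := 12695) (l := 4) rfl N12695 D40392
theorem N25549 : nd 25549 = n40393 := ndS (p := 12695) (l := 7) rfl N12695 D40393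
theorem N25550 : nd 25550 = n40401 := ndS (p := 12697) (l := 5) rfl N12697 D40401
theorem N25551 : nd 25551 = n40402 := ndS (p := 12697) (l := 6) rfl N12697 D40402
theorem N25552 : nd 25552 = n40404 := ndS (p := 12698) (l := 0) rfl N12698 D40404
theorem N25553 : nd 25553 = n40406 := ndS (p := 12698) (l := 3) rfl N12698 D40406
theorem N25554 : nd 25554 = n40407 := ndS (p := 12698) (l := 5) rfl N12698 D40407
theorem N25555 : nd 25555 = n40408 := ndS (p := 12698) (l := 6) rfl N12698 D40408
theorem N25556 : nd 25556 = n40410 := ndS (p := 12699) (l := 0) rfl N12699 D40410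
theorem N25557 : nd 25557 = n40412 := ndS (p := 12699) (l := 4) rfl N12699 D40412
theorem N25558 : nd 25558 = n40420 := ndS (p := 12701) (l := 5) rfl N12701 D40420
theorem N25559 : nd 25559 = n40421 := ndS (p := 12701) (l := 6) rfl N12701 D40421
theorem N25560 : nd 25560 = n40422 := ndS (p := 12702) (l := 3) rfl N12702 D40422
theorem N25561 : nd 25561 = n40423 := ndS (p := 12702) (l := 5) rfl N12702 D40423
theorem N25562 : nd 25562 = n40424 := ndS (p := 12702) (l := 6) rfl N12702 D40424
theorem N25563 : nd 25563 = n40425 := ndS (p := 12703) (l := 4) rfl N12703 D40425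
theorem N25564 : nd 25564 = n40432 := ndS (p := 12705) (l := 5) rfl N12705 D40432
theorem N25565 : nd 25565 = n40433 := ndS (p := 12705) (l := 6) rfl N12705 D40433
theorem N25566 : nd 25566 = n40434 := ndS (p := 12706) (l := 0) rfl N12706 D40434
theorem N25567 : nd 25567 = n40435 := ndS (p := 12706) (l := 4) rfl N12706 D40435
theorem N25568 : nd 25568 = n40438 := ndS (p := 12708) (l := 5) rfl N12708 D40438
theorem N25569 : nd 25569 = n40440 := ndS (p := 12709) (l := 4) rfl N12709 D40440
theorem N25570 : nd 25570 = n40445 := ndS (p := 12710) (l := 7) rfl N12710 D40445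
theorem N25571 : nd 25571 = n40446 := ndS (p := 12712) (l := 3) rfl N12712 D40446
theorem N25572 : nd 25572 = n40447 := ndS (p := 12712) (l := 5) rfl N12712 D40447
theorem N25573 : nd 25573 = n40448 := ndS (p := 12714) (l := 3) rfl N12714 D40448
theorem N25574 : nd 25574 = n40449 := ndS (p := 12714) (l := 5) rfl N12714 D40449
theorem N25575 : nd 25575 = n40451 := ndS (p := 12716) (l := 4) rfl N12716 D40451
theorem N25576 : nd 25576 = n40460 := ndS (p := 12717) (l := 5) rfl N12717 D40460
theorem N25577 : nd 25577 = n40463 := ndS (p := 12719) (l := 3) rfl N12719 D40463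
theorem N25578 : nd 25578 = n40464 := ndS (p := 12719) (l := 5) rfl N12719 D40464
theorem N25579 : nd 25579 = n40469 := ndS (p := 12720) (l := 3) rfl N12720 D40469
theorem N25580 : nd 25580 = n40470 := ndS (p := 12720) (l := 5) rfl N12720 D40470
theorem N25581 : nd 25581 = n40472 := ndS (p := 12721) (l := 3) rfl N12721 D40472
theorem N25582 : nd 25582 = n40473 := ndS (p := 12721) (l := 5) rfl N12721 D40473
theorem N25583 : nd 25583 = n40474 := ndS (p := 12721) (l := 6) rfl N12721 D40474
theorem N25584 : nd 25584 = n40478 := ndS (p := 12722) (l := 5) rfl N12722 D40478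
theorem N25585 : nd 25585 = n40480 := ndS (p := 12723) (l := 1) rfl N12723 D40480
theorem N25586 : nd 25586 = n40481 := ndS (p := 12723) (l := 4) rfl N12723 D40481
theorem N25587 : nd 25587 = n40482 := ndS (p := 12723) (l := 6) rfl N12723 D40482
theorem N25588 : nd 25588 = n40493 := ndS (p := 12725) (l := 0) rfl N12725 D40493
theorem N25589 : nd 25589 = n40495 := ndS (p := 12725) (l := 7) rfl N12725 D40495
theorem N25590 : nd 25590 = n40496 := ndS (p := 12726) (l := 0) rfl N12726 D40496
theorem N25591 : nd 25591 = n40497 := ndS (p := 12727) (l := 3) rfl N12727 D40497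
theorem N25592 : nd 25592 = n40498 := ndS (p := 12727) (l := 5) rfl N12727 D40498
theorem N25593 : nd 25593 = n40499 := ndS (p := 12728) (l := 3) rfl N12728 D40499
theorem N25594 : nd 25594 = n40500 := ndS (p := 12728) (l := 5) rfl N12728 D40500
theorem N25595 : nd 25595 = n40503 := ndS (p := 12729) (l := 3) rfl N12729 D40503
theorem N25596 : nd 25596 = n40504 := ndS (p := 12729) (l := 5) rfl N12729 D40504
theorem N25597 : nd 25597 = n40516 := ndS (p := 12730) (l := 3) rfl N12730 D40516
theorem N25598 : nd 25598 = n40517 := ndS (p := 12730) (l := 5) rfl N12730 D40517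
theorem N25599 : nd 25599 = n40519 := ndS (p := 12731) (l := 3) rfl N12731 D40519
theorem N25600 : nd 25600 = n40520 := ndS (p := 12731) (l := 5) rfl N12731 D40520
theorem N25601 : nd 25601 = n40526 := ndS (p := 12732) (l := 4) rfl N12732 D40526
theorem N25602 : nd 25602 = n40527 := ndS (p := 12732) (l := 6) rfl N12732 D40527
theorem N25603 : nd 25603 = n40538 := ndS (p := 12733) (l := 3) rfl N12733 D40538
theorem N25604 : nd 25604 = n40539 := ndS (p := 12733) (l := 5) rfl N12733 D40539
theorem N25605 : nd 25605 = n40541 := ndS (p := 12735) (l := 1) rfl N12735 D40541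
theorem N25606 : nd 25606 = n40543 := ndS (p := 12735) (l := 7) rfl N12735 D40543
theorem N25607 : nd 25607 = n40548 := ndS (p := 12736) (l := 6) rfl N12736 D40548
theorem N25608 : nd 25608 = n40552 := ndS (p := 12737) (l := 5) rfl N12737 D40552
theorem N25609 : nd 25609 = n40553 := ndS (p := 12737) (l := 6) rfl N12737 D40553
theorem N25610 : nd 25610 = n40560 := ndS (p := 12740) (l := 4) rfl N12740 D40560
theorem N25611 : nd 25611 = n40590 := ndS (p := 12744) (l := 0) rfl N12744 D40590
theorem N25612 : nd 25612 = n40591 := ndS (p := 12744) (l := 1) rfl N12744 D40591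
theorem N25613 : nd 25613 = n40592 := ndS (p := 12744) (l := 5) rfl N12744 D40592
theorem N25614 : nd 25614 = n40593 := ndS (p := 12744) (l := 6) rfl N12744 D40593
theorem N25615 : nd 25615 = n40594 := ndS (p := 12745) (l := 6) rfl N12745 D40594
theorem N25616 : nd 25616 = n40597 := ndS (p := 12746) (l := 5) rfl N12746 D40597
theorem N25617 : nd 25617 = n40602 := ndS (p := 12748) (l := 5) rfl N12748 D40602
theorem N25618 : nd 25618 = n40603 := ndS (p := 12748) (l := 7) rfl N12748 D40603
theorem N25619 : nd 25619 = n40604 := ndS (p := 12749) (l := 6) rfl N12749 D40604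
theorem N25620 : nd 25620 = n40605 := ndS (p := 12750) (l := 3) rfl N12750 D40605
theorem N25621 : nd 25621 = n40606 := ndS (p := 12750) (l := 6) rfl N12750 D40606
theorem N25622 : nd 25622 = n40607 := ndS (p := 12751) (l := 6) rfl N12751 D40607
theorem N25623 : nd 25623 = n40608 := ndS (p := 12752) (l := 6) rfl N12752 D40608
theorem N25624 : nd 25624 = n40609 := ndS (p := 12753) (l := 0) rfl N12753 D40609
theorem N25625 : nd 25625 = n40610 := ndS (p := 12753) (l := 1) rfl N12753 D40610
theorem N25626 : nd 25626 = n40611 := ndS (p := 12753) (l := 5) rfl N12753 D40611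
theorem N25627 : nd 25627 = n40612 := ndS (p := 12753) (l := 7) rfl N12753 D40612
theorem N25628 : nd 25628 = n40613 := ndS (p := 12754) (l := 3) rfl N12754 D40613
theorem N25629 : nd 25629 = n40614 := ndS (p := 12754) (l := 6) rfl N12754 D40614
theorem N25630 : nd 25630 = n40616 := ndS (p := 12756) (l := 0) rfl N12756 D40616
theorem N25631 : nd 25631 = n40617 := ndS (p := 12756) (l := 1) rfl N12756 D40617
theorem N25632 : nd 25632 = n40618 := ndS (p := 12756) (l := 5) rfl N12756 D40618
theorem N25633 : nd 25633 = n40619 := ndS (p := 12756) (l := 7) rfl N12756 D40619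
theorem N25634 : nd 25634 = n40621 := ndS (p := 12757) (l := 3) rfl N12757 D40621
theorem N25635 : nd 25635 = n40623 := ndS (p := 12757) (l := 5) rfl N12757 D40623
theorem N25636 : nd 25636 = n40624 := ndS (p := 12757) (l := 6) rfl N12757 D40624
theorem N25637 : nd 25637 = n40628 := ndS (p := 12758) (l := 5) rfl N12758 D40628
theorem N25638 : nd 25638 = n40629 := ndS (p := 12758) (l := 6) rfl N12758 D40629
theorem N25639 : nd 25639 = n40630 := ndS (p := 12759) (l := 0) rfl N12759 D40630
theorem N25640 : nd 25640 = n40631 := ndS (p := 12759) (l := 1) rfl N12759 D40631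
theorem N25641 : nd 25641 = n40632 := ndS (p := 12759) (l := 4) rfl N12759 D40632
theorem N25642 : nd 25642 = n40633 := ndS (p := 12759) (l := 7) rfl N12759 D40633
theorem N25643 : nd 25643 = n40649 := ndS (p := 12761) (l := 3) rfl N12761 D40649
theorem N25644 : nd 25644 = n40650 := ndS (p := 12761) (l := 5) rfl N12761 D40650
theorem N25645 : nd 25645 = n40651 := ndS (p := 12761) (l := 6) rfl N12761 D40651
theorem N25646 : nd 25646 = n40653 := ndS (p := 12762) (l := 4) rfl N12762 D40653
theorem N25647 : nd 25647 = n40686 := ndS (p := 12766) (l := 0) rfl N12766 D40686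
theorem N25648 : nd 25648 = n40688 := ndS (p := 12766) (l := 5) rfl N12766 D40688
theorem N25649 : nd 25649 = n40689 := ndS (p := 12766) (l := 7) rfl N12766 D40689
theorem N25650 : nd 25650 = n40690 := ndS (p := 12767) (l := 0) rfl N12767 D40690
theorem N25651 : nd 25651 = n40691 := ndS (p := 12767) (l := 1) rfl N12767 D40691
theorem N25652 : nd 25652 = n40692 := ndS (p := 12767) (l := 2) rfl N12767 D40692
theorem N25653 : nd 25653 = n40693 := ndS (p := 12767) (l := 5) rfl N12767 D40693
theorem N25654 : nd 25654 = n40694 := ndS (p := 12767) (l := 6) rfl N12767 D40694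
theorem N25655 : nd 25655 = n40695 := ndS (p := 12768) (l := 4) rfl N12768 D40695
theorem N25656 : nd 25656 = n40696 := ndS (p := 12768) (l := 6) rfl N12768 D40696
theorem N25657 : nd 25657 = n40699 := ndS (p := 12769) (l := 5) rfl N12769 D40699
theorem N25658 : nd 25658 = n40705 := ndS (p := 12770) (l := 6) rfl N12770 D40705
theorem N25659 : nd 25659 = n40710 := ndS (p := 12771) (l := 6) rfl N12771 D40710
theorem N25660 : nd 25660 = n40718 := ndS (p := 12772) (l := 0) rfl N12772 D40718
theorem N25661 : nd 25661 = n40719 := ndS (p := 12772) (l := 1) rfl N12772 D40719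
theorem N25662 : nd 25662 = n40720 := ndS (p := 12772) (l := 2) rfl N12772 D40720
theorem N25663 : nd 25663 = n40744 := ndS (p := 12774) (l := 5) rfl N12774 D40744
theorem N25664 : nd 25664 = n40745 := ndS (p := 12774) (l := 6) rfl N12774 D40745
theorem N25665 : nd 25665 = n40746 := ndS (p := 12775) (l := 5) rfl N12775 D40746
theorem N25666 : nd 25666 = n40747 := ndS (p := 12775) (l := 6) rfl N12775 D40747
theorem N25667 : nd 25667 = n40748 := ndS (p := 12776) (l := 0) rfl N12776 D40748
theorem N25668 : nd 25668 = n40749 := ndS (p := 12776) (l := 4) rfl N12776 D40749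
theorem N25669 : nd 25669 = n40750 := ndS (p := 12776) (l := 6) rfl N12776 D40750
theorem N25670 : nd 25670 = n40751 := ndS (p := 12777) (l := 0) rfl N12777 D40751
theorem N25671 : nd 25671 = n40753 := ndS (p := 12777) (l := 5) rfl N12777 D40753
theorem N25672 : nd 25672 = n40755 := ndS (p := 12778) (l := 0) rfl N12778 D40755
theorem N25673 : nd 25673 = n40757 := ndS (p := 12778) (l := 5) rfl N12778 D40757
theorem N25674 : nd 25674 = n40758 := ndS (p := 12778) (l := 7) rfl N12778 D40758
theorem N25675 : nd 25675 = n40760 := ndS (p := 12779) (l := 3) rfl N12779 D40760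
theorem N25676 : nd 25676 = n40762 := ndS (p := 12779) (l := 5) rfl N12779 D40762
theorem N25677 : nd 25677 = n40763 := ndS (p := 12779) (l := 6) rfl N12779 D40763
theorem N25678 : nd 25678 = n40765 := ndS (p := 12780) (l := 3) rfl N12780 D40765
theorem N25679 : nd 25679 = n40767 := ndS (p := 12780) (l := 5) rfl N12780 D40767
theorem N25680 : nd 25680 = n40768 := ndS (p := 12780) (l := 6) rfl N12780 D40768
theorem N25681 : nd 25681 = n40769 := ndS (p := 12781) (l := 0) rfl N12781 D40769
theorem N25682 : nd 25682 = n40770 := ndS (p := 12781) (l := 1) rfl N12781 D40770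
theorem N25683 : nd 25683 = n40771 := ndS (p := 12781) (l := 4) rfl N12781 D40771
theorem N25684 : nd 25684 = n40807 := ndS (p := 12782) (l := 3) rfl N12782 D40807
theorem N25685 : nd 25685 = n40808 := ndS (p := 12782) (l := 5) rfl N12782 D40808
theorem N25686 : nd 25686 = n40809 := ndS (p := 12782) (l := 6) rfl N12782 D40809
theorem N25687 : nd 25687 = n40843 := ndS (p := 12784) (l := 4) rfl N12784 D40843
theorem N25688 : nd 25688 = n40845 := ndS (p := 12785) (l := 0) rfl N12785 D40845
theorem N25689 : nd 25689 = n40846 := ndS (p := 12785) (l := 1) rfl N12785 D40846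
theorem N25690 : nd 25690 = n40847 := ndS (p := 12785) (l := 5) rfl N12785 D40847
theorem N25691 : nd 25691 = n40848 := ndS (p := 12785) (l := 7) rfl N12785 D40848
theorem N25692 : nd 25692 = n40853 := ndS (p := 12786) (l := 3) rfl N12786 D40853
theorem N25693 : nd 25693 = n40854 := ndS (p := 12786) (l := 5) rfl N12786 D40854
theorem N25694 : nd 25694 = n40856 := ndS (p := 12787) (l := 0) rfl N12787 D40856
theorem N25695 : nd 25695 = n40857 := ndS (p := 12787) (l := 1) rfl N12787 D40857
theorem N25696 : nd 25696 = n40858 := ndS (p := 12787) (l := 4) rfl N12787 D40858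
theorem N25697 : nd 25697 = n40859 := ndS (p := 12787) (l := 7) rfl N12787 D40859
theorem N25698 : nd 25698 = n40860 := ndS (p := 12789) (l := 5) rfl N12789 D40860
theorem N25699 : nd 25699 = n40861 := ndS (p := 12790) (l := 0) rfl N12790 D40861
theorem N25700 : nd 25700 = n40862 := ndS (p := 12790) (l := 3) rfl N12790 D40862
theorem N25701 : nd 25701 = n40863 := ndS (p := 12790) (l := 5) rfl N12790 D40863
theorem N25702 : nd 25702 = n40864 := ndS (p := 12791) (l := 4) rfl N12791 D40864
theorem N25703 : nd 25703 = n40865 := ndS (p := 12792) (l := 5) rfl N12792 D40865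
theorem N25704 : nd 25704 = n40870 := ndS (p := 12793) (l := 5) rfl N12793 D40870
theorem N25705 : nd 25705 = n40872 := ndS (p := 12794) (l := 3) rfl N12794 D40872
theorem N25706 : nd 25706 = n40874 := ndS (p := 12794) (l := 5) rfl N12794 D40874
theorem N25707 : nd 25707 = n40875 := ndS (p := 12794) (l := 6) rfl N12794 D40875
theorem N25708 : nd 25708 = n40880 := ndS (p := 12796) (l := 0) rfl N12796 D40880
theorem N25709 : nd 25709 = n40881 := ndS (p := 12796) (l := 1) rfl N12796 D40881
theorem N25710 : nd 25710 = n40882 := ndS (p := 12796) (l := 6) rfl N12796 D40882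
theorem N25711 : nd 25711 = n40885 := ndS (p := 12797) (l := 5) rfl N12797 D40885
theorem N25712 : nd 25712 = n40889 := ndS (p := 12798) (l := 5) rfl N12798 D40889
theorem N25713 : nd 25713 = n40891 := ndS (p := 12799) (l := 6) rfl N12799 D40891
theorem N25714 : nd 25714 = n40892 := ndS (p := 12800) (l := 3) rfl N12800 D40892
theorem N25715 : nd 25715 = n40893 := ndS (p := 12800) (l := 6) rfl N12800 D40893
theorem N25716 : nd 25716 = n40894 := ndS (p := 12801) (l := 6) rfl N12801 D40894
theorem N25717 : nd 25717 = n40895 := ndS (p := 12802) (l := 0) rfl N12802 D40895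
theorem N25718 : nd 25718 = n40896 := ndS (p := 12802) (l := 1) rfl N12802 D40896
theorem N25719 : nd 25719 = n40897 := ndS (p := 12802) (l := 5) rfl N12802 D40897
theorem N25720 : nd 25720 = n40898 := ndS (p := 12802) (l := 7) rfl N12802 D40898
theorem N25721 : nd 25721 = n40902 := ndS (p := 12804) (l := 0) rfl N12804 D40902
theorem N25722 : nd 25722 = n40903 := ndS (p := 12804) (l := 1) rfl N12804 D40903
theorem N25723 : nd 25723 = n40904 := ndS (p := 12804) (l := 5) rfl N12804 D40904
theorem N25724 : nd 25724 = n40905 := ndS (p := 12804) (l := 7) rfl N12804 D40905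
theorem N25725 : nd 25725 = n40907 := ndS (p := 12805) (l := 3) rfl N12805 D40907
theorem N25726 : nd 25726 = n40909 := ndS (p := 12805) (l := 5) rfl N12805 D40909
theorem N25727 : nd 25727 = n40910 := ndS (p := 12805) (l := 6) rfl N12805 D40910
theorem N25728 : nd 25728 = n40914 := ndS (p := 12806) (l := 5) rfl N12806 D40914
theorem N25729 : nd 25729 = n40915 := ndS (p := 12806) (l := 6) rfl N12806 D40915
theorem N25730 : nd 25730 = n40916 := ndS (p := 12807) (l := 0) rfl N12807 D40916
theorem N25731 : nd 25731 = n40917 := ndS (p := 12807) (l := 1) rfl N12807 D40917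
theorem N25732 : nd 25732 = n40918 := ndS (p := 12807) (l := 4) rfl N12807 D40918
theorem N25733 : nd 25733 = n40919 := ndS (p := 12807) (l := 7) rfl N12807 D40919
theorem N25734 : nd 25734 = n40935 := ndS (p := 12809) (l := 3) rfl N12809 D40935
theorem N25735 : nd 25735 = n40936 := ndS (p := 12809) (l := 5) rfl N12809 D40936
theorem N25736 : nd 25736 = n40940 := ndS (p := 12810) (l := 4) rfl N12810 D40940
theorem N25737 : nd 25737 = n40971 := ndS (p := 12811) (l := 1) rfl N12811 D40971
theorem N25738 : nd 25738 = n40972 := ndS (p := 12811) (l := 5) rfl N12811 D40972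
theorem N25739 : nd 25739 = n40973 := ndS (p := 12811) (l := 7) rfl N12811 D40973
theorem N25740 : nd 25740 = n40974 := ndS (p := 12812) (l := 0) rfl N12812 D40974
theorem N25741 : nd 25741 = n40975 := ndS (p := 12812) (l := 1) rfl N12812 D40975
theorem N25742 : nd 25742 = n40976 := ndS (p := 12812) (l := 2) rfl N12812 D40976
theorem N25743 : nd 25743 = n40977 := ndS (p := 12812) (l := 5) rfl N12812 D40977
theorem N25744 : nd 25744 = n40978 := ndS (p := 12812) (l := 6) rfl N12812 D40978
theorem N25745 : nd 25745 = n40979 := ndS (p := 12813) (l := 6) rfl N12813 D40979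
theorem N25746 : nd 25746 = n40982 := ndS (p := 12814) (l := 5) rfl N12814 D40982
theorem N25747 : nd 25747 = n40993 := ndS (p := 12816) (l := 6) rfl N12816 D40993
theorem N25748 : nd 25748 = n40994 := ndS (p := 12817) (l := 0) rfl N12817 D40994
theorem N25749 : nd 25749 = n40995 := ndS (p := 12817) (l := 1) rfl N12817 D40995
theorem N25750 : nd 25750 = n40996 := ndS (p := 12817) (l := 4) rfl N12817 D40996
theorem N25751 : nd 25751 = n40997 := ndS (p := 12817) (l := 7) rfl N12817 D40997
theorem N25752 : nd 25752 = n40999 := ndS (p := 12819) (l := 6) rfl N12819 D40999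
theorem N25753 : nd 25753 = n41000 := ndS (p := 12820) (l := 6) rfl N12820 D41000
theorem N25754 : nd 25754 = n41001 := ndS (p := 12821) (l := 0) rfl N12821 D41001
theorem N25755 : nd 25755 = n41002 := ndS (p := 12821) (l := 6) rfl N12821 D41002
theorem N25756 : nd 25756 = n41003 := ndS (p := 12822) (l := 0) rfl N12822 D41003
theorem N25757 : nd 25757 = n41005 := ndS (p := 12822) (l := 5) rfl N12822 D41005
theorem N25758 : nd 25758 = n41006 := ndS (p := 12822) (l := 7) rfl N12822 D41006
theorem N25759 : nd 25759 = n41007 := ndS (p := 12823) (l := 0) rfl N12823 D41007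
theorem N25760 : nd 25760 = n41008 := ndS (p := 12823) (l := 1) rfl N12823 D41008
theorem N25761 : nd 25761 = n41009 := ndS (p := 12823) (l := 5) rfl N12823 D41009
theorem N25762 : nd 25762 = n41010 := ndS (p := 12823) (l := 7) rfl N12823 D41010
theorem N25763 : nd 25763 = n41012 := ndS (p := 12824) (l := 3) rfl N12824 D41012
theorem N25764 : nd 25764 = n41014 := ndS (p := 12824) (l := 5) rfl N12824 D41014
theorem N25765 : nd 25765 = n41017 := ndS (p := 12825) (l := 3) rfl N12825 D41017
theorem N25766 : nd 25766 = n41019 := ndS (p := 12825) (l := 5) rfl N12825 D41019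
theorem N25767 : nd 25767 = n41020 := ndS (p := 12825) (l := 6) rfl N12825 D41020
theorem N25768 : nd 25768 = n41021 := ndS (p := 12826) (l := 0) rfl N12826 D41021
theorem N25769 : nd 25769 = n41022 := ndS (p := 12826) (l := 1) rfl N12826 D41022
theorem N25770 : nd 25770 = n41023 := ndS (p := 12826) (l := 4) rfl N12826 D41023
theorem N25771 : nd 25771 = n41024 := ndS (p := 12826) (l := 7) rfl N12826 D41024
theorem N25772 : nd 25772 = n41048 := ndS (p := 12828) (l := 3) rfl N12828 D41048
theorem N25773 : nd 25773 = n41049 := ndS (p := 12828) (l := 5) rfl N12828 D41049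
theorem N25774 : nd 25774 = n41050 := ndS (p := 12828) (l := 6) rfl N12828 D41050
theorem N25775 : nd 25775 = n41058 := ndS (p := 12830) (l := 4) rfl N12830 D41058
theorem N25776 : nd 25776 = n41059 := ndS (p := 12830) (l := 6) rfl N12830 D41059
theorem N25777 : nd 25777 = n41060 := ndS (p := 12831) (l := 0) rfl N12831 D41060
theorem N25778 : nd 25778 = n41061 := ndS (p := 12831) (l := 1) rfl N12831 D41061
theorem N25779 : nd 25779 = n41062 := ndS (p := 12831) (l := 3) rfl N12831 D41062
theorem N25780 : nd 25780 = n41063 := ndS (p := 12831) (l := 5) rfl N12831 D41063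
theorem N25781 : nd 25781 = n41064 := ndS (p := 12831) (l := 7) rfl N12831 D41064
theorem N25782 : nd 25782 = n41066 := ndS (p := 12833) (l := 4) rfl N12833 D41066
theorem N25783 : nd 25783 = n41067 := ndS (p := 12833) (l := 6) rfl N12833 D41067
theorem N25784 : nd 25784 = n41068 := ndS (p := 12834) (l := 3) rfl N12834 D41068
theorem N25785 : nd 25785 = n41069 := ndS (p := 12834) (l := 4) rfl N12834 D41069
theorem N25786 : nd 25786 = n41070 := ndS (p := 12834) (l := 6) rfl N12834 D41070
theorem N25787 : nd 25787 = n41071 := ndS (p := 12835) (l := 6) rfl N12835 D41071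
theorem N25788 : nd 25788 = n41072 := ndS (p := 12836) (l := 6) rfl N12836 D41072
theorem N25789 : nd 25789 = n41073 := ndS (p := 12837) (l := 0) rfl N12837 D41073
theorem N25790 : nd 25790 = n41074 := ndS (p := 12837) (l := 1) rfl N12837 D41074
theorem N25791 : nd 25791 = n41075 := ndS (p := 12837) (l := 4) rfl N12837 D41075
theorem N25792 : nd 25792 = n41076 := ndS (p := 12837) (l := 6) rfl N12837 D41076
theorem N25793 : nd 25793 = n41077 := ndS (p := 12838) (l := 0) rfl N12838 D41077
theorem N25794 : nd 25794 = n41078 := ndS (p := 12838) (l := 1) rfl N12838 D41078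
theorem N25795 : nd 25795 = n41079 := ndS (p := 12838) (l := 5) rfl N12838 D41079
theorem N25796 : nd 25796 = n41080 := ndS (p := 12838) (l := 7) rfl N12838 D41080
theorem N25797 : nd 25797 = n41081 := ndS (p := 12839) (l := 3) rfl N12839 D41081
theorem N25798 : nd 25798 = n41083 := ndS (p := 12840) (l := 0) rfl N12840 D41083
theorem N25799 : nd 25799 = n41084 := ndS (p := 12840) (l := 1) rfl N12840 D41084
theorem N25800 : nd 25800 = n41085 := ndS (p := 12840) (l := 5) rfl N12840 D41085
theorem N25801 : nd 25801 = n41086 := ndS (p := 12840) (l := 7) rfl N12840 D41086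
theorem N25802 : nd 25802 = n41097 := ndS (p := 12841) (l := 0) rfl N12841 D41097
theorem N25803 : nd 25803 = n41099 := ndS (p := 12841) (l := 4) rfl N12841 D41099
theorem N25804 : nd 25804 = n41100 := ndS (p := 12841) (l := 7) rfl N12841 D41100
theorem N25805 : nd 25805 = n41101 := ndS (p := 12843) (l := 3) rfl N12843 D41101
theorem N25806 : nd 25806 = n41102 := ndS (p := 12843) (l := 6) rfl N12843 D41102
theorem N25807 : nd 25807 = n41103 := ndS (p := 12844) (l := 6) rfl N12844 D41103
theorem N25808 : nd 25808 = n41104 := ndS (p := 12845) (l := 6) rfl N12845 D41104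
theorem N25809 : nd 25809 = n41105 := ndS (p := 12846) (l := 0) rfl N12846 D41105
theorem N25810 : nd 25810 = n41106 := ndS (p := 12846) (l := 1) rfl N12846 D41106
theorem N25811 : nd 25811 = n41107 := ndS (p := 12846) (l := 5) rfl N12846 D41107
theorem N25812 : nd 25812 = n41108 := ndS (p := 12846) (l := 7) rfl N12846 D41108
theorem N25813 : nd 25813 = n41109 := ndS (p := 12847) (l := 0) rfl N12847 D41109
theorem N25814 : nd 25814 = n41110 := ndS (p := 12847) (l := 1) rfl N12847 D41110
theorem N25815 : nd 25815 = n41111 := ndS (p := 12847) (l := 5) rfl N12847 D41111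
theorem N25816 : nd 25816 = n41112 := ndS (p := 12847) (l := 7) rfl N12847 D41112
theorem N25817 : nd 25817 = n41123 := ndS (p := 12848) (l := 0) rfl N12848 D41123
theorem N25818 : nd 25818 = n41124 := ndS (p := 12848) (l := 1) rfl N12848 D41124
theorem N25819 : nd 25819 = n41125 := ndS (p := 12848) (l := 4) rfl N12848 D41125
theorem N25820 : nd 25820 = n41126 := ndS (p := 12848) (l := 7) rfl N12848 D41126
theorem N25821 : nd 25821 = n41127 := ndS (p := 12850) (l := 4) rfl N12850 D41127
theorem N25822 : nd 25822 = n41128 := ndS (p := 12850) (l := 6) rfl N12850 D41128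
theorem N25823 : nd 25823 = n41129 := ndS (p := 12851) (l := 0) rfl N12851 D41129
theorem N25824 : nd 25824 = n41130 := ndS (p := 12851) (l := 1) rfl N12851 D41130
theorem N25825 : nd 25825 = n41131 := ndS (p := 12851) (l := 5) rfl N12851 D41131
theorem N25826 : nd 25826 = n41132 := ndS (p := 12851) (l := 7) rfl N12851 D41132
theorem N25827 : nd 25827 = n41135 := ndS (p := 12852) (l := 5) rfl N12852 D41135
theorem N25828 : nd 25828 = n41137 := ndS (p := 12853) (l := 0) rfl N12853 D41137
theorem N25829 : nd 25829 = n41138 := ndS (p := 12853) (l := 1) rfl N12853 D41138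
theorem N25830 : nd 25830 = n41139 := ndS (p := 12853) (l := 2) rfl N12853 D41139
theorem N25831 : nd 25831 = n41140 := ndS (p := 12853) (l := 6) rfl N12853 D41140
theorem N25832 : nd 25832 = n41141 := ndS (p := 12854) (l := 0) rfl N12854 D41141
theorem N25833 : nd 25833 = n41142 := ndS (p := 12854) (l := 1) rfl N12854 D41142
theorem N25834 : nd 25834 = n41143 := ndS (p := 12854) (l := 5) rfl N12854 D41143
theorem N25835 : nd 25835 = n41155 := ndS (p := 12855) (l := 0) rfl N12855 D41155
theorem N25836 : nd 25836 = n41156 := ndS (p := 12855) (l := 1) rfl N12855 D41156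
theorem N25837 : nd 25837 = n41157 := ndS (p := 12855) (l := 4) rfl N12855 D41157
theorem N25838 : nd 25838 = n41159 := ndS (p := 12856) (l := 0) rfl N12856 D41159
theorem N25839 : nd 25839 = n41161 := ndS (p := 12856) (l := 2) rfl N12856 D41161
theorem N25840 : nd 25840 = n41162 := ndS (p := 12856) (l := 4) rfl N12856 D41162
theorem N25841 : nd 25841 = n41163 := ndS (p := 12856) (l := 5) rfl N12856 D41163
theorem N25842 : nd 25842 = n41164 := ndS (p := 12856) (l := 6) rfl N12856 D41164
theorem N25843 : nd 25843 = n41165 := ndS (p := 12857) (l := 0) rfl N12857 D41165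
theorem N25844 : nd 25844 = n41166 := ndS (p := 12857) (l := 1) rfl N12857 D41166
theorem N25845 : nd 25845 = n41167 := ndS (p := 12857) (l := 4) rfl N12857 D41167
theorem N25846 : nd 25846 = n41168 := ndS (p := 12857) (l := 6) rfl N12857 D41168
theorem N25847 : nd 25847 = n41171 := ndS (p := 12858) (l := 5) rfl N12858 D41171
theorem N25848 : nd 25848 = n41172 := ndS (p := 12858) (l := 7) rfl N12858 D41172
theorem N25849 : nd 25849 = n41174 := ndS (p := 12859) (l := 1) rfl N12859 D41174
theorem N25850 : nd 25850 = n41175 := ndS (p := 12859) (l := 2) rfl N12859 D41175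
theorem N25851 : nd 25851 = n41176 := ndS (p := 12859) (l := 5) rfl N12859 D41176
theorem N25852 : nd 25852 = n41177 := ndS (p := 12859) (l := 6) rfl N12859 D41177
theorem N25853 : nd 25853 = n41178 := ndS (p := 12860) (l := 4) rfl N12860 D41178
theorem N25854 : nd 25854 = n41179 := ndS (p := 12860) (l := 6) rfl N12860 D41179
theorem N25855 : nd 25855 = n41182 := ndS (p := 12861) (l := 5) rfl N12861 D41182
theorem N25856 : nd 25856 = n41185 := ndS (p := 12862) (l := 3) rfl N12862 D41185
theorem N25857 : nd 25857 = n41186 := ndS (p := 12862) (l := 4) rfl N12862 D41186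
theorem N25858 : nd 25858 = n41187 := ndS (p := 12862) (l := 5) rfl N12862 D41187
theorem N25859 : nd 25859 = n41188 := ndS (p := 12862) (l := 6) rfl N12862 D41188
theorem N25860 : nd 25860 = n41190 := ndS (p := 12863) (l := 3) rfl N12863 D41190
theorem N25861 : nd 25861 = n41191 := ndS (p := 12863) (l := 4) rfl N12863 D41191
theorem N25862 : nd 25862 = n41192 := ndS (p := 12863) (l := 5) rfl N12863 D41192
theorem N25863 : nd 25863 = n41193 := ndS (p := 12863) (l := 6) rfl N12863 D41193
theorem N25864 : nd 25864 = n41194 := ndS (p := 12864) (l := 0) rfl N12864 D41194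
theorem N25865 : nd 25865 = n41195 := ndS (p := 12864) (l := 1) rfl N12864 D41195
theorem N25866 : nd 25866 = n41196 := ndS (p := 12864) (l := 3) rfl N12864 D41196
theorem N25867 : nd 25867 = n41197 := ndS (p := 12864) (l := 5) rfl N12864 D41197
theorem N25868 : nd 25868 = n41198 := ndS (p := 12864) (l := 7) rfl N12864 D41198
theorem N25869 : nd 25869 = n41199 := ndS (p := 12865) (l := 6) rfl N12865 D41199
theorem N25870 : nd 25870 = n41201 := ndS (p := 12867) (l := 1) rfl N12867 D41201
theorem N25871 : nd 25871 = n41202 := ndS (p := 12867) (l := 4) rfl N12867 D41202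
theorem N25872 : nd 25872 = n41203 := ndS (p := 12867) (l := 6) rfl N12867 D41203
theorem N25873 : nd 25873 = n41205 := ndS (p := 12868) (l := 1) rfl N12868 D41205
theorem N25874 : nd 25874 = n41206 := ndS (p := 12869) (l := 3) rfl N12869 D41206
theorem N25875 : nd 25875 = n41207 := ndS (p := 12869) (l := 5) rfl N12869 D41207
theorem N25876 : nd 25876 = n41212 := ndS (p := 12870) (l := 0) rfl N12870 D41212
theorem N25877 : nd 25877 = n41214 := ndS (p := 12870) (l := 2) rfl N12870 D41214
theorem N25878 : nd 25878 = n41215 := ndS (p := 12870) (l := 5) rfl N12870 D41215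
theorem N25879 : nd 25879 = n41216 := ndS (p := 12870) (l := 6) rfl N12870 D41216
theorem N25880 : nd 25880 = n41217 := ndS (p := 12871) (l := 0) rfl N12871 D41217
theorem N25881 : nd 25881 = n41218 := ndS (p := 12871) (l := 1) rfl N12871 D41218
theorem N25882 : nd 25882 = n41219 := ndS (p := 12871) (l := 4) rfl N12871 D41219
theorem N25883 : nd 25883 = n41222 := ndS (p := 12872) (l := 1) rfl N12872 D41222
theorem N25884 : nd 25884 = n41223 := ndS (p := 12872) (l := 5) rfl N12872 D41223
theorem N25885 : nd 25885 = n41224 := ndS (p := 12873) (l := 4) rfl N12873 D41224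
theorem N25886 : nd 25886 = n41229 := ndS (p := 12874) (l := 0) rfl N12874 D41229
theorem N25887 : nd 25887 = n41230 := ndS (p := 12874) (l := 1) rfl N12874 D41230
theorem N25888 : nd 25888 = n41231 := ndS (p := 12874) (l := 3) rfl N12874 D41231
theorem N25889 : nd 25889 = n41232 := ndS (p := 12874) (l := 5) rfl N12874 D41232
theorem N25890 : nd 25890 = n41233 := ndS (p := 12874) (l := 6) rfl N12874 D41233
theorem N25891 : nd 25891 = n41235 := ndS (p := 12877) (l := 5) rfl N12877 D41235
theorem N25892 : nd 25892 = n41236 := ndS (p := 12877) (l := 6) rfl N12877 D41236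
theorem N25893 : nd 25893 = n41237 := ndS (p := 12878) (l := 3) rfl N12878 D41237
theorem N25894 : nd 25894 = n41238 := ndS (p := 12878) (l := 5) rfl N12878 D41238
theorem N25895 : nd 25895 = n41239 := ndS (p := 12878) (l := 6) rfl N12878 D41239
theorem N25896 : nd 25896 = n41240 := ndS (p := 12879) (l := 0) rfl N12879 D41240
theorem N25897 : nd 25897 = n41241 := ndS (p := 12879) (l := 1) rfl N12879 D41241
theorem N25898 : nd 25898 = n41242 := ndS (p := 12879) (l := 4) rfl N12879 D41242
theorem N25899 : nd 25899 = n41243 := ndS (p := 12880) (l := 0) rfl N12880 D41243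
theorem N25900 : nd 25900 = n41247 := ndS (p := 12881) (l := 1) rfl N12881 D41247
theorem N25901 : nd 25901 = n41248 := ndS (p := 12881) (l := 2) rfl N12881 D41248
theorem N25902 : nd 25902 = n41249 := ndS (p := 12881) (l := 5) rfl N12881 D41249
theorem N25903 : nd 25903 = n41250 := ndS (p := 12881) (l := 6) rfl N12881 D41250
theorem N25904 : nd 25904 = n41251 := ndS (p := 12882) (l := 4) rfl N12882 D41251
theorem N25905 : nd 25905 = n41252 := ndS (p := 12882) (l := 6) rfl N12882 D41252
theorem N25906 : nd 25906 = n41253 := ndS (p := 12883) (l := 0) rfl N12883 D41253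
theorem N25907 : nd 25907 = n41255 := ndS (p := 12883) (l := 5) rfl N12883 D41255
theorem N25908 : nd 25908 = n41257 := ndS (p := 12884) (l := 3) rfl N12884 D41257
theorem N25909 : nd 25909 = n41258 := ndS (p := 12884) (l := 5) rfl N12884 D41258
theorem N25910 : nd 25910 = n41261 := ndS (p := 12885) (l := 4) rfl N12885 D41261
theorem N25911 : nd 25911 = n41267 := ndS (p := 12886) (l := 4) rfl N12886 D41267
theorem N25912 : nd 25912 = n41268 := ndS (p := 12886) (l := 6) rfl N12886 D41268
theorem N25913 : nd 25913 = n41274 := ndS (p := 12888) (l := 3) rfl N12888 D41274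
theorem N25914 : nd 25914 = n41275 := ndS (p := 12888) (l := 5) rfl N12888 D41275
theorem N25915 : nd 25915 = n41280 := ndS (p := 12889) (l := 3) rfl N12889 D41280
theorem N25916 : nd 25916 = n41281 := ndS (p := 12889) (l := 5) rfl N12889 D41281
theorem N25917 : nd 25917 = n41283 := ndS (p := 12890) (l := 3) rfl N12890 D41283
theorem N25918 : nd 25918 = n41284 := ndS (p := 12890) (l := 5) rfl N12890 D41284
theorem N25919 : nd 25919 = n41287 := ndS (p := 12891) (l := 1) rfl N12891 D41287
theorem N25920 : nd 25920 = n41288 := ndS (p := 12891) (l := 2) rfl N12891 D41288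
theorem N25921 : nd 25921 = n41289 := ndS (p := 12891) (l := 5) rfl N12891 D41289
theorem N25922 : nd 25922 = n41292 := ndS (p := 12892) (l := 4) rfl N12892 D41292
theorem N25923 : nd 25923 = n41293 := ndS (p := 12892) (l := 6) rfl N12892 D41293
theorem N25924 : nd 25924 = n41294 := ndS (p := 12893) (l := 3) rfl N12893 D41294
theorem N25925 : nd 25925 = n41295 := ndS (p := 12893) (l := 5) rfl N12893 D41295
theorem N25926 : nd 25926 = n41296 := ndS (p := 12894) (l := 3) rfl N12894 D41296
theorem N25927 : nd 25927 = n41297 := ndS (p := 12894) (l := 5) rfl N12894 D41297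
theorem N25928 : nd 25928 = n41298 := ndS (p := 12894) (l := 6) rfl N12894 D41298
theorem N25929 : nd 25929 = n41299 := ndS (p := 12895) (l := 4) rfl N12895 D41299
theorem N25930 : nd 25930 = n41300 := ndS (p := 12897) (l := 3) rfl N12897 D41300
theorem N25931 : nd 25931 = n41301 := ndS (p := 12897) (l := 5) rfl N12897 D41301
theorem N25932 : nd 25932 = n41302 := ndS (p := 12898) (l := 0) rfl N12898 D41302
theorem N25933 : nd 25933 = n41303 := ndS (p := 12898) (l := 1) rfl N12898 D41303
theorem N25934 : nd 25934 = n41304 := ndS (p := 12898) (l := 4) rfl N12898 D41304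
theorem N25935 : nd 25935 = n41305 := ndS (p := 12898) (l := 6) rfl N12898 D41305
theorem N25936 : nd 25936 = n41306 := ndS (p := 12899) (l := 0) rfl N12899 D41306
theorem N25937 : nd 25937 = n41308 := ndS (p := 12899) (l := 5) rfl N12899 D41308
theorem N25938 : nd 25938 = n41309 := ndS (p := 12900) (l := 4) rfl N12900 D41309
theorem N25939 : nd 25939 = n41310 := ndS (p := 12901) (l := 0) rfl N12901 D41310
theorem N25940 : nd 25940 = n41312 := ndS (p := 12901) (l := 5) rfl N12901 D41312
theorem N25941 : nd 25941 = n41314 := ndS (p := 12902) (l := 4) rfl N12902 D41314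
theorem N25942 : nd 25942 = n41320 := ndS (p := 12903) (l := 3) rfl N12903 D41320
theorem N25943 : nd 25943 = n41321 := ndS (p := 12903) (l := 5) rfl N12903 D41321
theorem N25944 : nd 25944 = n41322 := ndS (p := 12904) (l := 3) rfl N12904 D41322
theorem N25945 : nd 25945 = n41323 := ndS (p := 12904) (l := 5) rfl N12904 D41323
theorem N25946 : nd 25946 = n41324 := ndS (p := 12904) (l := 6) rfl N12904 D41324
theorem N25947 : nd 25947 = n41325 := ndS (p := 12906) (l := 3) rfl N12906 D41325
theorem N25948 : nd 25948 = n41326 := ndS (p := 12906) (l := 5) rfl N12906 D41326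
theorem N25949 : nd 25949 = n41327 := ndS (p := 12907) (l := 0) rfl N12907 D41327
theorem N25950 : nd 25950 = n41328 := ndS (p := 12907) (l := 1) rfl N12907 D41328
theorem N25951 : nd 25951 = n41329 := ndS (p := 12907) (l := 4) rfl N12907 D41329
theorem N25952 : nd 25952 = n41330 := ndS (p := 12907) (l := 6) rfl N12907 D41330
theorem N25953 : nd 25953 = n41331 := ndS (p := 12908) (l := 0) rfl N12908 D41331
theorem N25954 : nd 25954 = n41332 := ndS (p := 12908) (l := 1) rfl N12908 D41332
theorem N25955 : nd 25955 = n41333 := ndS (p := 12908) (l := 5) rfl N12908 D41333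
theorem N25956 : nd 25956 = n41341 := ndS (p := 12909) (l := 4) rfl N12909 D41341
theorem N25957 : nd 25957 = n41344 := ndS (p := 12911) (l := 0) rfl N12911 D41344
theorem N25958 : nd 25958 = n41345 := ndS (p := 12911) (l := 1) rfl N12911 D41345
theorem N25959 : nd 25959 = n41346 := ndS (p := 12911) (l := 6) rfl N12911 D41346
theorem N25960 : nd 25960 = n41347 := ndS (p := 12912) (l := 0) rfl N12912 D41347
theorem N25961 : nd 25961 = n41348 := ndS (p := 12912) (l := 1) rfl N12912 D41348
theorem N25962 : nd 25962 = n41349 := ndS (p := 12912) (l := 5) rfl N12912 D41349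
theorem N25963 : nd 25963 = n41350 := ndS (p := 12912) (l := 7) rfl N12912 D41350
theorem N25964 : nd 25964 = n41351 := ndS (p := 12913) (l := 4) rfl N12913 D41351
theorem N25965 : nd 25965 = n41353 := ndS (p := 12914) (l := 4) rfl N12914 D41353
theorem N25966 : nd 25966 = n41359 := ndS (p := 12916) (l := 3) rfl N12916 D41359
theorem N25967 : nd 25967 = n41360 := ndS (p := 12919) (l := 0) rfl N12919 D41360
theorem N25968 : nd 25968 = n41361 := ndS (p := 12919) (l := 3) rfl N12919 D41361
theorem N25969 : nd 25969 = n41362 := ndS (p := 12919) (l := 5) rfl N12919 D41362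
theorem N25970 : nd 25970 = n41363 := ndS (p := 12920) (l := 1) rfl N12920 D41363
theorem N25971 : nd 25971 = n41364 := ndS (p := 12920) (l := 7) rfl N12920 D41364
theorem N25972 : nd 25972 = n41366 := ndS (p := 12925) (l := 6) rfl N12925 D41366
theorem N25973 : nd 25973 = n41367 := ndS (p := 12926) (l := 3) rfl N12926 D41367
theorem N25974 : nd 25974 = n41371 := ndS (p := 12928) (l := 1) rfl N12928 D41371
theorem N25975 : nd 25975 = n41372 := ndS (p := 12928) (l := 5) rfl N12928 D41372
theorem N25976 : nd 25976 = n41373 := ndS (p := 12928) (l := 7) rfl N12928 D41373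
theorem N25977 : nd 25977 = n41374 := ndS (p := 12929) (l := 4) rfl N12929 D41374
theorem N25978 : nd 25978 = n41375 := ndS (p := 12930) (l := 6) rfl N12930 D41375
theorem N25979 : nd 25979 = n41377 := ndS (p := 12931) (l := 1) rfl N12931 D41377
theorem N25980 : nd 25980 = n41378 := ndS (p := 12931) (l := 5) rfl N12931 D41378
theorem N25981 : nd 25981 = n41379 := ndS (p := 12931) (l := 7) rfl N12931 D41379
theorem N25982 : nd 25982 = n41380 := ndS (p := 12932) (l := 5) rfl N12932 D41380
theorem N25983 : nd 25983 = n41384 := ndS (p := 12935) (l := 5) rfl N12935 D41384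
theorem N25984 : nd 25984 = n41389 := ndS (p := 12936) (l := 5) rfl N12936 D41389
theorem N25985 : nd 25985 = n41391 := ndS (p := 12937) (l := 0) rfl N12937 D41391
theorem N25986 : nd 25986 = n41393 := ndS (p := 12937) (l := 7) rfl N12937 D41393
theorem N25987 : nd 25987 = n41398 := ndS (p := 12941) (l := 6) rfl N12941 D41398
theorem N25988 : nd 25988 = n41405 := ndS (p := 12943) (l := 3) rfl N12943 D41405
theorem N25989 : nd 25989 = n41406 := ndS (p := 12943) (l := 5) rfl N12943 D41406
theorem N25990 : nd 25990 = n41408 := ndS (p := 12944) (l := 3) rfl N12944 D41408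
theorem N25991 : nd 25991 = n41409 := ndS (p := 12944) (l := 5) rfl N12944 D41409
theorem N25992 : nd 25992 = n41410 := ndS (p := 12944) (l := 6) rfl N12944 D41410
theorem N25993 : nd 25993 = n41411 := ndS (p := 12945) (l := 0) rfl N12945 D41411
theorem N25994 : nd 25994 = n41412 := ndS (p := 12945) (l := 1) rfl N12945 D41412
theorem N25995 : nd 25995 = n41413 := ndS (p := 12945) (l := 2) rfl N12945 D41413
theorem N25996 : nd 25996 = n41414 := ndS (p := 12945) (l := 5) rfl N12945 D41414
theorem N25997 : nd 25997 = n41415 := ndS (p := 12945) (l := 7) rfl N12945 D41415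
theorem N25998 : nd 25998 = n41417 := ndS (p := 12946) (l := 1) rfl N12946 D41417
theorem N25999 : nd 25999 = n41418 := ndS (p := 12946) (l := 6) rfl N12946 D41418
theorem N26000 : nd 26000 = n41419 := ndS (p := 12946) (l := 7) rfl N12946 D41419
theorem N26001 : nd 26001 = n41424 := ndS (p := 12950) (l := 3) rfl N12950 D41424
theorem N26002 : nd 26002 = n41425 := ndS (p := 12950) (l := 5) rfl N12950 D41425
theorem N26003 : nd 26003 = n41434 := ndS (p := 12951) (l := 5) rfl N12951 D41434
theorem N26004 : nd 26004 = n41436 := ndS (p := 12952) (l := 0) rfl N12952 D41436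
theorem N26005 : nd 26005 = n41437 := ndS (p := 12952) (l := 1) rfl N12952 D41437
theorem N26006 : nd 26006 = n41438 := ndS (p := 12952) (l := 4) rfl N12952 D41438
theorem N26007 : nd 26007 = n41439 := ndS (p := 12952) (l := 7) rfl N12952 D41439
theorem N26008 : nd 26008 = n41440 := ndS (p := 12954) (l := 3) rfl N12954 D41440
theorem N26009 : nd 26009 = n41441 := ndS (p := 12954) (l := 5) rfl N12954 D41441
theorem N26010 : nd 26010 = n41442 := ndS (p := 12955) (l := 3) rfl N12955 D41442
theorem N26011 : nd 26011 = n41443 := ndS (p := 12955) (l := 6) rfl N12955 D41443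
theorem N26012 : nd 26012 = n41446 := ndS (p := 12956) (l := 0) rfl N12956 D41446
theorem N26013 : nd 26013 = n41447 := ndS (p := 12956) (l := 1) rfl N12956 D41447
theorem N26014 : nd 26014 = n41448 := ndS (p := 12956) (l := 2) rfl N12956 D41448
theorem N26015 : nd 26015 = n41449 := ndS (p := 12956) (l := 5) rfl N12956 D41449
theorem N26016 : nd 26016 = n41450 := ndS (p := 12957) (l := 0) rfl N12957 D41450
theorem N26017 : nd 26017 = n41451 := ndS (p := 12957) (l := 1) rfl N12957 D41451
theorem N26018 : nd 26018 = n41452 := ndS (p := 12957) (l := 4) rfl N12957 D41452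
theorem N26019 : nd 26019 = n41453 := ndS (p := 12957) (l := 6) rfl N12957 D41453
theorem N26020 : nd 26020 = n41455 := ndS (p := 12958) (l := 3) rfl N12958 D41455
theorem N26021 : nd 26021 = n41456 := ndS (p := 12958) (l := 4) rfl N12958 D41456
theorem N26022 : nd 26022 = n41458 := ndS (p := 12958) (l := 6) rfl N12958 D41458
theorem N26023 : nd 26023 = n41460 := ndS (p := 12959) (l := 3) rfl N12959 D41460
theorem N26024 : nd 26024 = n41461 := ndS (p := 12959) (l := 4) rfl N12959 D41461
theorem N26025 : nd 26025 = n41463 := ndS (p := 12959) (l := 6) rfl N12959 D41463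
theorem N26026 : nd 26026 = n41464 := ndS (p := 12960) (l := 6) rfl N12960 D41464
theorem N26027 : nd 26027 = n41467 := ndS (p := 12961) (l := 4) rfl N12961 D41467
theorem N26028 : nd 26028 = n41468 := ndS (p := 12961) (l := 6) rfl N12961 D41468
theorem N26029 : nd 26029 = n41469 := ndS (p := 12962) (l := 0) rfl N12962 D41469
theorem N26030 : nd 26030 = n41470 := ndS (p := 12962) (l := 1) rfl N12962 D41470
theorem N26031 : nd 26031 = n41471 := ndS (p := 12962) (l := 5) rfl N12962 D41471
theorem N26032 : nd 26032 = n41472 := ndS (p := 12962) (l := 7) rfl N12962 D41472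
theorem N26033 : nd 26033 = n41473 := ndS (p := 12963) (l := 0) rfl N12963 D41473
theorem N26034 : nd 26034 = n41474 := ndS (p := 12963) (l := 1) rfl N12963 D41474
theorem N26035 : nd 26035 = n41475 := ndS (p := 12963) (l := 5) rfl N12963 D41475
theorem N26036 : nd 26036 = n41476 := ndS (p := 12963) (l := 7) rfl N12963 D41476
theorem N26037 : nd 26037 = n41477 := ndS (p := 12964) (l := 3) rfl N12964 D41477
theorem N26038 : nd 26038 = n41478 := ndS (p := 12964) (l := 5) rfl N12964 D41478
theorem N26039 : nd 26039 = n41479 := ndS (p := 12964) (l := 6) rfl N12964 D41479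
theorem N26040 : nd 26040 = n41480 := ndS (p := 12965) (l := 3) rfl N12965 D41480
theorem N26041 : nd 26041 = n41481 := ndS (p := 12965) (l := 5) rfl N12965 D41481
theorem N26042 : nd 26042 = n41483 := ndS (p := 12966) (l := 0) rfl N12966 D41483
theorem N26043 : nd 26043 = n41484 := ndS (p := 12966) (l := 4) rfl N12966 D41484
theorem N26044 : nd 26044 = n41485 := ndS (p := 12966) (l := 7) rfl N12966 D41485
theorem N26045 : nd 26045 = n41486 := ndS (p := 12968) (l := 5) rfl N12968 D41486
theorem N26046 : nd 26046 = n41487 := ndS (p := 12968) (l := 6) rfl N12968 D41487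
theorem N26047 : nd 26047 = n41488 := ndS (p := 12969) (l := 0) rfl N12969 D41488
theorem N26048 : nd 26048 = n41489 := ndS (p := 12969) (l := 3) rfl N12969 D41489
theorem N26049 : nd 26049 = n41490 := ndS (p := 12969) (l := 5) rfl N12969 D41490
theorem N26050 : nd 26050 = n41491 := ndS (p := 12969) (l := 6) rfl N12969 D41491
theorem N26051 : nd 26051 = n41492 := ndS (p := 12970) (l := 4) rfl N12970 D41492
theorem N26052 : nd 26052 = n41496 := ndS (p := 12972) (l := 5) rfl N12972 D41496
theorem N26053 : nd 26053 = n41499 := ndS (p := 12973) (l := 5) rfl N12973 D41499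
theorem N26054 : nd 26054 = n41501 := ndS (p := 12974) (l := 4) rfl N12974 D41501
theorem N26055 : nd 26055 = n41511 := ndS (p := 12977) (l := 6) rfl N12977 D41511
theorem N26056 : nd 26056 = n41516 := ndS (p := 12978) (l := 0) rfl N12978 D41516
theorem N26057 : nd 26057 = n41517 := ndS (p := 12978) (l := 1) rfl N12978 D41517
theorem N26058 : nd 26058 = n41518 := ndS (p := 12978) (l := 2) rfl N12978 D41518
theorem N26059 : nd 26059 = n41519 := ndS (p := 12978) (l := 6) rfl N12978 D41519
theorem N26060 : nd 26060 = n41520 := ndS (p := 12979) (l := 5) rfl N12979 D41520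
theorem N26061 : nd 26061 = n41521 := ndS (p := 12979) (l := 7) rfl N12979 D41521
theorem N26062 : nd 26062 = n41522 := ndS (p := 12980) (l := 6) rfl N12980 D41522
theorem N26063 : nd 26063 = n41523 := ndS (p := 12981) (l := 5) rfl N12981 D41523
theorem N26064 : nd 26064 = n41524 := ndS (p := 12982) (l := 0) rfl N12982 D41524
theorem N26065 : nd 26065 = n41525 := ndS (p := 12982) (l := 1) rfl N12982 D41525
theorem N26066 : nd 26066 = n41526 := ndS (p := 12982) (l := 5) rfl N12982 D41526
theorem N26067 : nd 26067 = n41528 := ndS (p := 12983) (l := 3) rfl N12983 D41528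
theorem N26068 : nd 26068 = n41529 := ndS (p := 12983) (l := 6) rfl N12983 D41529
theorem N26069 : nd 26069 = n41530 := ndS (p := 12984) (l := 3) rfl N12984 D41530
theorem N26070 : nd 26070 = n41531 := ndS (p := 12984) (l := 6) rfl N12984 D41531
theorem N26071 : nd 26071 = n41532 := ndS (p := 12985) (l := 0) rfl N12985 D41532
theorem N26072 : nd 26072 = n41533 := ndS (p := 12985) (l := 1) rfl N12985 D41533
theorem N26073 : nd 26073 = n41534 := ndS (p := 12985) (l := 5) rfl N12985 D41534
theorem N26074 : nd 26074 = n41539 := ndS (p := 12986) (l := 3) rfl N12986 D41539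
theorem N26075 : nd 26075 = n41540 := ndS (p := 12986) (l := 5) rfl N12986 D41540
theorem N26076 : nd 26076 = n41541 := ndS (p := 12986) (l := 6) rfl N12986 D41541
theorem N26077 : nd 26077 = n41542 := ndS (p := 12987) (l := 0) rfl N12987 D41542
theorem N26078 : nd 26078 = n41543 := ndS (p := 12987) (l := 1) rfl N12987 D41543
theorem N26079 : nd 26079 = n41559 := ndS (p := 12988) (l := 7) rfl N12988 D41559
theorem N26080 : nd 26080 = n41560 := ndS (p := 12989) (l := 0) rfl N12989 D41560
theorem N26081 : nd 26081 = n41561 := ndS (p := 12989) (l := 1) rfl N12989 D41561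
theorem N26082 : nd 26082 = n41562 := ndS (p := 12989) (l := 2) rfl N12989 D41562
theorem N26083 : nd 26083 = n41563 := ndS (p := 12989) (l := 5) rfl N12989 D41563
theorem N26084 : nd 26084 = n41564 := ndS (p := 12989) (l := 6) rfl N12989 D41564
theorem N26085 : nd 26085 = n41565 := ndS (p := 12990) (l := 6) rfl N12990 D41565
theorem N26086 : nd 26086 = n41568 := ndS (p := 12991) (l := 5) rfl N12991 D41568
theorem N26087 : nd 26087 = n41573 := ndS (p := 12992) (l := 6) rfl N12992 D41573
theorem N26088 : nd 26088 = n41578 := ndS (p := 12993) (l := 6) rfl N12993 D41578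
theorem N26089 : nd 26089 = n41579 := ndS (p := 12995) (l := 3) rfl N12995 D41579
theorem N26090 : nd 26090 = n41580 := ndS (p := 12995) (l := 6) rfl N12995 D41580
theorem N26091 : nd 26091 = n41581 := ndS (p := 12996) (l := 6) rfl N12996 D41581
theorem N26092 : nd 26092 = n41582 := ndS (p := 12997) (l := 6) rfl N12997 D41582
theorem N26093 : nd 26093 = n41583 := ndS (p := 12998) (l := 6) rfl N12998 D41583
theorem N26094 : nd 26094 = n41584 := ndS (p := 12999) (l := 0) rfl N12999 D41584
theorem N26095 : nd 26095 = n41585 := ndS (p := 12999) (l := 1) rfl N12999 D41585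
theorem N26096 : nd 26096 = n41586 := ndS (p := 12999) (l := 5) rfl N12999 D41586
theorem N26097 : nd 26097 = n41587 := ndS (p := 12999) (l := 7) rfl N12999 D41587
theorem N26098 : nd 26098 = n41588 := ndS (p := 13000) (l := 0) rfl N13000 D41588
theorem N26099 : nd 26099 = n41589 := ndS (p := 13000) (l := 1) rfl N13000 D41589
theorem N26100 : nd 26100 = n41590 := ndS (p := 13000) (l := 5) rfl N13000 D41590
theorem N26101 : nd 26101 = n41591 := ndS (p := 13000) (l := 7) rfl N13000 D41591
theorem N26102 : nd 26102 = n41593 := ndS (p := 13001) (l := 3) rfl N13001 D41593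
theorem N26103 : nd 26103 = n41595 := ndS (p := 13001) (l := 5) rfl N13001 D41595
theorem N26104 : nd 26104 = n41596 := ndS (p := 13001) (l := 6) rfl N13001 D41596
theorem N26105 : nd 26105 = n41598 := ndS (p := 13002) (l := 3) rfl N13002 D41598
theorem N26106 : nd 26106 = n41600 := ndS (p := 13002) (l := 5) rfl N13002 D41600
theorem N26107 : nd 26107 = n41601 := ndS (p := 13002) (l := 6) rfl N13002 D41601
theorem N26108 : nd 26108 = n41602 := ndS (p := 13003) (l := 0) rfl N13003 D41602
theorem N26109 : nd 26109 = n41603 := ndS (p := 13003) (l := 1) rfl N13003 D41603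
theorem N26110 : nd 26110 = n41604 := ndS (p := 13003) (l := 4) rfl N13003 D41604
theorem N26111 : nd 26111 = n41605 := ndS (p := 13003) (l := 7) rfl N13003 D41605
theorem N26112 : nd 26112 = n41621 := ndS (p := 13005) (l := 3) rfl N13005 D41621
theorem N26113 : nd 26113 = n41622 := ndS (p := 13005) (l := 5) rfl N13005 D41622
theorem N26114 : nd 26114 = n41623 := ndS (p := 13005) (l := 6) rfl N13005 D41623
theorem N26115 : nd 26115 = n41624 := ndS (p := 13007) (l := 4) rfl N13007 D41624
theorem N26116 : nd 26116 = n41625 := ndS (p := 13007) (l := 6) rfl N13007 D41625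
theorem N26117 : nd 26117 = n41626 := ndS (p := 13008) (l := 3) rfl N13008 D41626
theorem N26118 : nd 26118 = n41627 := ndS (p := 13008) (l := 4) rfl N13008 D41627
theorem N26119 : nd 26119 = n41628 := ndS (p := 13008) (l := 6) rfl N13008 D41628
theorem N26120 : nd 26120 = n41629 := ndS (p := 13009) (l := 5) rfl N13009 D41629
theorem N26121 : nd 26121 = n41630 := ndS (p := 13009) (l := 6) rfl N13009 D41630
theorem N26122 : nd 26122 = n41631 := ndS (p := 13010) (l := 5) rfl N13010 D41631
theorem N26123 : nd 26123 = n41632 := ndS (p := 13010) (l := 6) rfl N13010 D41632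
theorem N26124 : nd 26124 = n41633 := ndS (p := 13011) (l := 1) rfl N13011 D41633
theorem N26125 : nd 26125 = n41634 := ndS (p := 13011) (l := 6) rfl N13011 D41634
theorem N26126 : nd 26126 = n41635 := ndS (p := 13012) (l := 0) rfl N13012 D41635
theorem N26127 : nd 26127 = n41636 := ndS (p := 13012) (l := 1) rfl N13012 D41636
theorem N26128 : nd 26128 = n41637 := ndS (p := 13012) (l := 5) rfl N13012 D41637
theorem N26129 : nd 26129 = n41639 := ndS (p := 13013) (l := 0) rfl N13013 D41639
theorem N26130 : nd 26130 = n41640 := ndS (p := 13013) (l := 1) rfl N13013 D41640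
theorem N26131 : nd 26131 = n41641 := ndS (p := 13013) (l := 5) rfl N13013 D41641
theorem N26132 : nd 26132 = n41642 := ndS (p := 13013) (l := 7) rfl N13013 D41642
theorem N26133 : nd 26133 = n41647 := ndS (p := 13015) (l := 3) rfl N13015 D41647
theorem N26134 : nd 26134 = n41648 := ndS (p := 13015) (l := 6) rfl N13015 D41648
theorem N26135 : nd 26135 = n41649 := ndS (p := 13016) (l := 3) rfl N13016 D41649
theorem N26136 : nd 26136 = n41650 := ndS (p := 13016) (l := 6) rfl N13016 D41650
theorem N26137 : nd 26137 = n41651 := ndS (p := 13017) (l := 6) rfl N13017 D41651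
theorem N26138 : nd 26138 = n41652 := ndS (p := 13018) (l := 6) rfl N13018 D41652
theorem N26139 : nd 26139 = n41653 := ndS (p := 13019) (l := 0) rfl N13019 D41653
theorem N26140 : nd 26140 = n41654 := ndS (p := 13019) (l := 1) rfl N13019 D41654
theorem N26141 : nd 26141 = n41655 := ndS (p := 13019) (l := 5) rfl N13019 D41655
theorem N26142 : nd 26142 = n41656 := ndS (p := 13019) (l := 7) rfl N13019 D41656
theorem N26143 : nd 26143 = n41657 := ndS (p := 13020) (l := 0) rfl N13020 D41657
theorem N26144 : nd 26144 = n41658 := ndS (p := 13020) (l := 1) rfl N13020 D41658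
theorem N26145 : nd 26145 = n41659 := ndS (p := 13020) (l := 5) rfl N13020 D41659
theorem N26146 : nd 26146 = n41660 := ndS (p := 13020) (l := 7) rfl N13020 D41660
theorem N26147 : nd 26147 = n41671 := ndS (p := 13021) (l := 0) rfl N13021 D41671
theorem N26148 : nd 26148 = n41672 := ndS (p := 13021) (l := 1) rfl N13021 D41672
theorem N26149 : nd 26149 = n41673 := ndS (p := 13021) (l := 4) rfl N13021 D41673
theorem N26150 : nd 26150 = n41674 := ndS (p := 13021) (l := 7) rfl N13021 D41674
theorem N26151 : nd 26151 = n41675 := ndS (p := 13023) (l := 1) rfl N13023 D41675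
theorem N26152 : nd 26152 = n41676 := ndS (p := 13023) (l := 2) rfl N13023 D41676
theorem N26153 : nd 26153 = n41677 := ndS (p := 13023) (l := 6) rfl N13023 D41677
theorem N26154 : nd 26154 = n41680 := ndS (p := 13024) (l := 5) rfl N13024 D41680
theorem N26155 : nd 26155 = n41682 := ndS (p := 13025) (l := 0) rfl N13025 D41682
theorem N26156 : nd 26156 = n41683 := ndS (p := 13025) (l := 1) rfl N13025 D41683
theorem N26157 : nd 26157 = n41684 := ndS (p := 13025) (l := 5) rfl N13025 D41684
theorem N26158 : nd 26158 = n41685 := ndS (p := 13025) (l := 7) rfl N13025 D41685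
theorem N26159 : nd 26159 = n41686 := ndS (p := 13026) (l := 3) rfl N13026 D41686
theorem N26160 : nd 26160 = n41692 := ndS (p := 13028) (l := 3) rfl N13028 D41692
theorem N26161 : nd 26161 = n41693 := ndS (p := 13028) (l := 5) rfl N13028 D41693
theorem N26162 : nd 26162 = n41694 := ndS (p := 13028) (l := 6) rfl N13028 D41694
theorem N26163 : nd 26163 = n41695 := ndS (p := 13029) (l := 3) rfl N13029 D41695
theorem N26164 : nd 26164 = n41696 := ndS (p := 13029) (l := 5) rfl N13029 D41696
theorem N26165 : nd 26165 = n41697 := ndS (p := 13029) (l := 6) rfl N13029 D41697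
theorem N26166 : nd 26166 = n41698 := ndS (p := 13030) (l := 0) rfl N13030 D41698
theorem N26167 : nd 26167 = n41699 := ndS (p := 13030) (l := 1) rfl N13030 D41699
theorem N26168 : nd 26168 = n41700 := ndS (p := 13030) (l := 4) rfl N13030 D41700
theorem N26169 : nd 26169 = n41701 := ndS (p := 13030) (l := 7) rfl N13030 D41701
theorem N26170 : nd 26170 = n41702 := ndS (p := 13032) (l := 0) rfl N13032 D41702
theorem N26171 : nd 26171 = n41703 := ndS (p := 13032) (l := 1) rfl N13032 D41703
theorem N26172 : nd 26172 = n41704 := ndS (p := 13032) (l := 2) rfl N13032 D41704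
theorem N26173 : nd 26173 = n41711 := ndS (p := 13034) (l := 3) rfl N13034 D41711
theorem N26174 : nd 26174 = n41712 := ndS (p := 13034) (l := 4) rfl N13034 D41712
theorem N26175 : nd 26175 = n41713 := ndS (p := 13034) (l := 5) rfl N13034 D41713
theorem N26176 : nd 26176 = n41714 := ndS (p := 13034) (l := 6) rfl N13034 D41714
theorem N26177 : nd 26177 = n41716 := ndS (p := 13035) (l := 3) rfl N13035 D41716
theorem N26178 : nd 26178 = n41717 := ndS (p := 13035) (l := 4) rfl N13035 D41717
theorem N26179 : nd 26179 = n41718 := ndS (p := 13035) (l := 5) rfl N13035 D41718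
theorem N26180 : nd 26180 = n41719 := ndS (p := 13035) (l := 6) rfl N13035 D41719
theorem N26181 : nd 26181 = n41720 := ndS (p := 13036) (l := 0) rfl N13036 D41720
theorem N26182 : nd 26182 = n41721 := ndS (p := 13036) (l := 1) rfl N13036 D41721
theorem N26183 : nd 26183 = n41722 := ndS (p := 13036) (l := 4) rfl N13036 D41722
theorem N26184 : nd 26184 = n41723 := ndS (p := 13036) (l := 7) rfl N13036 D41723
theorem N26185 : nd 26185 = n41724 := ndS (p := 13037) (l := 6) rfl N13037 D41724
theorem N26186 : nd 26186 = n41725 := ndS (p := 13038) (l := 0) rfl N13038 D41725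
theorem N26187 : nd 26187 = n41726 := ndS (p := 13038) (l := 1) rfl N13038 D41726
theorem N26188 : nd 26188 = n41727 := ndS (p := 13038) (l := 5) rfl N13038 D41727
theorem N26189 : nd 26189 = n41728 := ndS (p := 13039) (l := 0) rfl N13039 D41728
theorem N26190 : nd 26190 = n41730 := ndS (p := 13039) (l := 2) rfl N13039 D41730
theorem N26191 : nd 26191 = n41731 := ndS (p := 13039) (l := 4) rfl N13039 D41731
theorem N26192 : nd 26192 = n41732 := ndS (p := 13039) (l := 5) rfl N13039 D41732
theorem N26193 : nd 26193 = n41733 := ndS (p := 13039) (l := 6) rfl N13039 D41733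
theorem N26194 : nd 26194 = n41734 := ndS (p := 13040) (l := 3) rfl N13040 D41734
theorem N26195 : nd 26195 = n41735 := ndS (p := 13040) (l := 5) rfl N13040 D41735
theorem N26196 : nd 26196 = n41736 := ndS (p := 13040) (l := 6) rfl N13040 D41736
theorem N26197 : nd 26197 = n41737 := ndS (p := 13041) (l := 0) rfl N13041 D41737
theorem N26198 : nd 26198 = n41738 := ndS (p := 13041) (l := 1) rfl N13041 D41738
theorem N26199 : nd 26199 = n41739 := ndS (p := 13041) (l := 4) rfl N13041 D41739
theorem N26200 : nd 26200 = n41740 := ndS (p := 13041) (l := 6) rfl N13041 D41740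
theorem N26201 : nd 26201 = n41742 := ndS (p := 13042) (l := 1) rfl N13042 D41742
theorem N26202 : nd 26202 = n41743 := ndS (p := 13042) (l := 5) rfl N13042 D41743
theorem N26203 : nd 26203 = n41744 := ndS (p := 13042) (l := 7) rfl N13042 D41744
theorem N26204 : nd 26204 = n41746 := ndS (p := 13043) (l := 1) rfl N13043 D41746
theorem N26205 : nd 26205 = n41747 := ndS (p := 13043) (l := 2) rfl N13043 D41747
theorem N26206 : nd 26206 = n41748 := ndS (p := 13043) (l := 4) rfl N13043 D41748
theorem N26207 : nd 26207 = n41749 := ndS (p := 13043) (l := 5) rfl N13043 D41749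
theorem N26208 : nd 26208 = n41750 := ndS (p := 13043) (l := 6) rfl N13043 D41750
theorem N26209 : nd 26209 = n41751 := ndS (p := 13044) (l := 5) rfl N13044 D41751
theorem N26210 : nd 26210 = n41753 := ndS (p := 13045) (l := 4) rfl N13045 D41753
theorem N26211 : nd 26211 = n41754 := ndS (p := 13045) (l := 6) rfl N13045 D41754
theorem N26212 : nd 26212 = n41757 := ndS (p := 13046) (l := 5) rfl N13046 D41757
theorem N26213 : nd 26213 = n41759 := ndS (p := 13047) (l := 3) rfl N13047 D41759
theorem N26214 : nd 26214 = n41760 := ndS (p := 13047) (l := 4) rfl N13047 D41760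
theorem N26215 : nd 26215 = n41761 := ndS (p := 13047) (l := 6) rfl N13047 D41761
theorem N26216 : nd 26216 = n41762 := ndS (p := 13048) (l := 3) rfl N13048 D41762
theorem N26217 : nd 26217 = n41763 := ndS (p := 13048) (l := 4) rfl N13048 D41763
theorem N26218 : nd 26218 = n41764 := ndS (p := 13048) (l := 6) rfl N13048 D41764
theorem N26219 : nd 26219 = n41765 := ndS (p := 13049) (l := 0) rfl N13049 D41765
theorem N26220 : nd 26220 = n41766 := ndS (p := 13049) (l := 1) rfl N13049 D41766
theorem N26221 : nd 26221 = n41767 := ndS (p := 13049) (l := 3) rfl N13049 D41767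
theorem N26222 : nd 26222 = n41768 := ndS (p := 13049) (l := 5) rfl N13049 D41768
theorem N26223 : nd 26223 = n41769 := ndS (p := 13049) (l := 7) rfl N13049 D41769
theorem N26224 : nd 26224 = n41770 := ndS (p := 13050) (l := 6) rfl N13050 D41770
theorem N26225 : nd 26225 = n41771 := ndS (p := 13051) (l := 5) rfl N13051 D41771
theorem N26226 : nd 26226 = n41772 := ndS (p := 13052) (l := 3) rfl N13052 D41772
theorem N26227 : nd 26227 = n41773 := ndS (p := 13052) (l := 5) rfl N13052 D41773
theorem N26228 : nd 26228 = n41774 := ndS (p := 13052) (l := 6) rfl N13052 D41774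
theorem N26229 : nd 26229 = n41775 := ndS (p := 13053) (l := 3) rfl N13053 D41775
theorem N26230 : nd 26230 = n41776 := ndS (p := 13053) (l := 5) rfl N13053 D41776
theorem N26231 : nd 26231 = n41777 := ndS (p := 13053) (l := 6) rfl N13053 D41777
theorem N26232 : nd 26232 = n41778 := ndS (p := 13054) (l := 0) rfl N13054 D41778
theorem N26233 : nd 26233 = n41779 := ndS (p := 13054) (l := 1) rfl N13054 D41779
theorem N26234 : nd 26234 = n41780 := ndS (p := 13054) (l := 4) rfl N13054 D41780
theorem N26235 : nd 26235 = n41781 := ndS (p := 13056) (l := 5) rfl N13056 D41781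
theorem N26236 : nd 26236 = n41782 := ndS (p := 13056) (l := 6) rfl N13056 D41782
theorem N26237 : nd 26237 = n41783 := ndS (p := 13057) (l := 3) rfl N13057 D41783
theorem N26238 : nd 26238 = n41784 := ndS (p := 13057) (l := 5) rfl N13057 D41784
theorem N26239 : nd 26239 = n41785 := ndS (p := 13057) (l := 6) rfl N13057 D41785
theorem N26240 : nd 26240 = n41786 := ndS (p := 13058) (l := 0) rfl N13058 D41786
theorem N26241 : nd 26241 = n41788 := ndS (p := 13058) (l := 4) rfl N13058 D41788
theorem N26242 : nd 26242 = n41789 := ndS (p := 13058) (l := 6) rfl N13058 D41789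
theorem N26243 : nd 26243 = n41791 := ndS (p := 13059) (l := 1) rfl N13059 D41791
theorem N26244 : nd 26244 = n41792 := ndS (p := 13059) (l := 5) rfl N13059 D41792
theorem N26245 : nd 26245 = n41793 := ndS (p := 13059) (l := 7) rfl N13059 D41793
theorem N26246 : nd 26246 = n41794 := ndS (p := 13060) (l := 3) rfl N13060 D41794
theorem N26247 : nd 26247 = n41795 := ndS (p := 13060) (l := 5) rfl N13060 D41795
theorem N26248 : nd 26248 = n41799 := ndS (p := 13061) (l := 5) rfl N13061 D41799
theorem N26249 : nd 26249 = n41800 := ndS (p := 13061) (l := 6) rfl N13061 D41800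
theorem N26250 : nd 26250 = n41801 := ndS (p := 13062) (l := 0) rfl N13062 D41801
theorem N26251 : nd 26251 = n41802 := ndS (p := 13062) (l := 1) rfl N13062 D41802
theorem N26252 : nd 26252 = n41803 := ndS (p := 13062) (l := 4) rfl N13062 D41803
theorem N26253 : nd 26253 = n41804 := ndS (p := 13062) (l := 6) rfl N13062 D41804
theorem N26254 : nd 26254 = n41806 := ndS (p := 13063) (l := 1) rfl N13063 D41806
theorem N26255 : nd 26255 = n41807 := ndS (p := 13063) (l := 5) rfl N13063 D41807
theorem N26256 : nd 26256 = n41808 := ndS (p := 13063) (l := 7) rfl N13063 D41808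
theorem N26257 : nd 26257 = n41809 := ndS (p := 13064) (l := 4) rfl N13064 D41809
theorem N26258 : nd 26258 = n41810 := ndS (p := 13065) (l := 0) rfl N13065 D41810
theorem N26259 : nd 26259 = n41811 := ndS (p := 13065) (l := 3) rfl N13065 D41811
theorem N26260 : nd 26260 = n41812 := ndS (p := 13065) (l := 5) rfl N13065 D41812
theorem N26261 : nd 26261 = n41813 := ndS (p := 13065) (l := 6) rfl N13065 D41813
theorem N26262 : nd 26262 = n41815 := ndS (p := 13068) (l := 4) rfl N13068 D41815
theorem N26263 : nd 26263 = n41816 := ndS (p := 13071) (l := 5) rfl N13071 D41816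
theorem N26264 : nd 26264 = n41817 := ndS (p := 13071) (l := 6) rfl N13071 D41817
theorem N26265 : nd 26265 = n41818 := ndS (p := 13072) (l := 3) rfl N13072 D41818
theorem N26266 : nd 26266 = n41819 := ndS (p := 13072) (l := 5) rfl N13072 D41819
theorem N26267 : nd 26267 = n41820 := ndS (p := 13072) (l := 6) rfl N13072 D41820
theorem N26268 : nd 26268 = n41821 := ndS (p := 13073) (l := 0) rfl N13073 D41821
theorem N26269 : nd 26269 = n41822 := ndS (p := 13073) (l := 1) rfl N13073 D41822
theorem N26270 : nd 26270 = n41823 := ndS (p := 13073) (l := 4) rfl N13073 D41823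
theorem N26271 : nd 26271 = n41824 := ndS (p := 13074) (l := 0) rfl N13074 D41824
theorem N26272 : nd 26272 = n41826 := ndS (p := 13074) (l := 5) rfl N13074 D41826
theorem N26273 : nd 26273 = n41829 := ndS (p := 13075) (l := 1) rfl N13075 D41829
theorem N26274 : nd 26274 = n41830 := ndS (p := 13075) (l := 2) rfl N13075 D41830
theorem N26275 : nd 26275 = n41831 := ndS (p := 13075) (l := 5) rfl N13075 D41831
theorem N26276 : nd 26276 = n41832 := ndS (p := 13075) (l := 6) rfl N13075 D41832
theorem N26277 : nd 26277 = n41833 := ndS (p := 13076) (l := 4) rfl N13076 D41833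
theorem N26278 : nd 26278 = n41834 := ndS (p := 13076) (l := 6) rfl N13076 D41834
theorem N26279 : nd 26279 = n41835 := ndS (p := 13077) (l := 0) rfl N13077 D41835
theorem N26280 : nd 26280 = n41837 := ndS (p := 13077) (l := 5) rfl N13077 D41837
theorem N26281 : nd 26281 = n41839 := ndS (p := 13078) (l := 3) rfl N13078 D41839
theorem N26282 : nd 26282 = n41840 := ndS (p := 13078) (l := 5) rfl N13078 D41840
theorem N26283 : nd 26283 = n41841 := ndS (p := 13079) (l := 4) rfl N13079 D41841
theorem N26284 : nd 26284 = n41844 := ndS (p := 13080) (l := 5) rfl N13080 D41844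
theorem N26285 : nd 26285 = n41845 := ndS (p := 13081) (l := 3) rfl N13081 D41845
theorem N26286 : nd 26286 = n41846 := ndS (p := 13081) (l := 5) rfl N13081 D41846
theorem N26287 : nd 26287 = n41849 := ndS (p := 13082) (l := 4) rfl N13082 D41849
theorem N26288 : nd 26288 = n41852 := ndS (p := 13084) (l := 3) rfl N13084 D41852
theorem N26289 : nd 26289 = n41853 := ndS (p := 13084) (l := 5) rfl N13084 D41853
theorem N26290 : nd 26290 = n41854 := ndS (p := 13084) (l := 6) rfl N13084 D41854
theorem N26291 : nd 26291 = n41870 := ndS (p := 13086) (l := 6) rfl N13086 D41870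
theorem N26292 : nd 26292 = n41871 := ndS (p := 13087) (l := 3) rfl N13087 D41871
theorem N26293 : nd 26293 = n41872 := ndS (p := 13087) (l := 5) rfl N13087 D41872
theorem N26294 : nd 26294 = n41873 := ndS (p := 13087) (l := 6) rfl N13087 D41873
theorem N26295 : nd 26295 = n41877 := ndS (p := 13089) (l := 3) rfl N13089 D41877
theorem N26296 : nd 26296 = n41880 := ndS (p := 13090) (l := 3) rfl N13090 D41880
theorem N26297 : nd 26297 = n41886 := ndS (p := 13091) (l := 0) rfl N13091 D41886
theorem N26298 : nd 26298 = n41887 := ndS (p := 13091) (l := 1) rfl N13091 D41887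
theorem N26299 : nd 26299 = n41888 := ndS (p := 13091) (l := 6) rfl N13091 D41888
theorem N26300 : nd 26300 = n41889 := ndS (p := 13092) (l := 4) rfl N13092 D41889
theorem N26301 : nd 26301 = n41891 := ndS (p := 13093) (l := 4) rfl N13093 D41891
theorem N26302 : nd 26302 = n41897 := ndS (p := 13095) (l := 5) rfl N13095 D41897
theorem N26303 : nd 26303 = n41898 := ndS (p := 13096) (l := 0) rfl N13096 D41898
theorem N26304 : nd 26304 = n41899 := ndS (p := 13096) (l := 3) rfl N13096 D41899
theorem N26305 : nd 26305 = n41900 := ndS (p := 13096) (l := 5) rfl N13096 D41900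
theorem N26306 : nd 26306 = n41901 := ndS (p := 13096) (l := 6) rfl N13096 D41901
theorem N26307 : nd 26307 = n41904 := ndS (p := 13097) (l := 4) rfl N13097 D41904
theorem N26308 : nd 26308 = n41908 := ndS (p := 13100) (l := 3) rfl N13100 D41908
theorem N26309 : nd 26309 = n41909 := ndS (p := 13100) (l := 5) rfl N13100 D41909
theorem N26310 : nd 26310 = n41910 := ndS (p := 13100) (l := 6) rfl N13100 D41910
theorem N26311 : nd 26311 = n41927 := ndS (p := 13102) (l := 5) rfl N13102 D41927
theorem N26312 : nd 26312 = n41931 := ndS (p := 13103) (l := 5) rfl N13103 D41931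
theorem N26313 : nd 26313 = n41958 := ndS (p := 13104) (l := 3) rfl N13104 D41958
theorem N26314 : nd 26314 = n41959 := ndS (p := 13104) (l := 5) rfl N13104 D41959
theorem N26315 : nd 26315 = n41960 := ndS (p := 13105) (l := 3) rfl N13105 D41960
theorem N26316 : nd 26316 = n41961 := ndS (p := 13105) (l := 5) rfl N13105 D41961
theorem N26317 : nd 26317 = n41962 := ndS (p := 13105) (l := 6) rfl N13105 D41962
theorem N26318 : nd 26318 = n41963 := ndS (p := 13106) (l := 4) rfl N13106 D41963
theorem N26319 : nd 26319 = n41967 := ndS (p := 13108) (l := 3) rfl N13108 D41967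
theorem N26320 : nd 26320 = n41968 := ndS (p := 13108) (l := 4) rfl N13108 D41968
theorem N26321 : nd 26321 = n41969 := ndS (p := 13108) (l := 5) rfl N13108 D41969
theorem N26322 : nd 26322 = n41970 := ndS (p := 13109) (l := 5) rfl N13109 D41970
theorem N26323 : nd 26323 = n41971 := ndS (p := 13110) (l := 0) rfl N13110 D41971
theorem N26324 : nd 26324 = n41972 := ndS (p := 13110) (l := 1) rfl N13110 D41972
theorem N26325 : nd 26325 = n41973 := ndS (p := 13110) (l := 4) rfl N13110 D41973
theorem N26326 : nd 26326 = n41974 := ndS (p := 13110) (l := 6) rfl N13110 D41974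
theorem N26327 : nd 26327 = n41975 := ndS (p := 13111) (l := 0) rfl N13111 D41975
theorem N26328 : nd 26328 = n41976 := ndS (p := 13111) (l := 1) rfl N13111 D41976
theorem N26329 : nd 26329 = n41977 := ndS (p := 13111) (l := 5) rfl N13111 D41977
theorem N26330 : nd 26330 = n41978 := ndS (p := 13111) (l := 7) rfl N13111 D41978
theorem N26331 : nd 26331 = n41980 := ndS (p := 13112) (l := 4) rfl N13112 D41980
theorem N26332 : nd 26332 = n41981 := ndS (p := 13113) (l := 0) rfl N13113 D41981
theorem N26333 : nd 26333 = n41982 := ndS (p := 13113) (l := 5) rfl N13113 D41982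
theorem N26334 : nd 26334 = n41986 := ndS (p := 13114) (l := 4) rfl N13114 D41986
theorem N26335 : nd 26335 = n41987 := ndS (p := 13115) (l := 3) rfl N13115 D41987
theorem N26336 : nd 26336 = n41988 := ndS (p := 13115) (l := 4) rfl N13115 D41988
theorem N26337 : nd 26337 = n41991 := ndS (p := 13117) (l := 4) rfl N13117 D41991
theorem N26338 : nd 26338 = n41993 := ndS (p := 13118) (l := 4) rfl N13118 D41993
theorem N26339 : nd 26339 = n41998 := ndS (p := 13119) (l := 3) rfl N13119 D41998
theorem N26340 : nd 26340 = n41999 := ndS (p := 13119) (l := 5) rfl N13119 D41999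
theorem N26341 : nd 26341 = n42000 := ndS (p := 13120) (l := 3) rfl N13120 D42000
theorem N26342 : nd 26342 = n42001 := ndS (p := 13120) (l := 5) rfl N13120 D42001
theorem N26343 : nd 26343 = n42002 := ndS (p := 13120) (l := 6) rfl N13120 D42002
theorem N26344 : nd 26344 = n42003 := ndS (p := 13121) (l := 4) rfl N13121 D42003
theorem N26345 : nd 26345 = n42006 := ndS (p := 13123) (l := 3) rfl N13123 D42006
theorem N26346 : nd 26346 = n42007 := ndS (p := 13123) (l := 5) rfl N13123 D42007
theorem N26347 : nd 26347 = n42008 := ndS (p := 13124) (l := 5) rfl N13124 D42008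
theorem N26348 : nd 26348 = n42010 := ndS (p := 13125) (l := 0) rfl N13125 D42010
theorem N26349 : nd 26349 = n42011 := ndS (p := 13125) (l := 1) rfl N13125 D42011
theorem N26350 : nd 26350 = n42012 := ndS (p := 13125) (l := 4) rfl N13125 D42012
theorem N26351 : nd 26351 = n42013 := ndS (p := 13125) (l := 6) rfl N13125 D42013
theorem N26352 : nd 26352 = n42014 := ndS (p := 13126) (l := 0) rfl N13126 D42014
theorem N26353 : nd 26353 = n42015 := ndS (p := 13126) (l := 1) rfl N13126 D42015
theorem N26354 : nd 26354 = n42016 := ndS (p := 13126) (l := 5) rfl N13126 D42016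
theorem N26355 : nd 26355 = n42018 := ndS (p := 13127) (l := 4) rfl N13127 D42018
theorem N26356 : nd 26356 = n42019 := ndS (p := 13128) (l := 4) rfl N13128 D42019
theorem N26357 : nd 26357 = n42020 := ndS (p := 13129) (l := 0) rfl N13129 D42020
theorem N26358 : nd 26358 = n42021 := ndS (p := 13129) (l := 1) rfl N13129 D42021
theorem N26359 : nd 26359 = n42022 := ndS (p := 13129) (l := 5) rfl N13129 D42022
theorem N26360 : nd 26360 = n42023 := ndS (p := 13130) (l := 3) rfl N13130 D42023
theorem N26361 : nd 26361 = n42024 := ndS (p := 13130) (l := 4) rfl N13130 D42024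
theorem N26362 : nd 26362 = n42026 := ndS (p := 13131) (l := 4) rfl N13131 D42026
theorem N26363 : nd 26363 = n42059 := ndS (p := 13134) (l := 0) rfl N13134 D42059
theorem N26364 : nd 26364 = n42060 := ndS (p := 13134) (l := 3) rfl N13134 D42060
theorem N26365 : nd 26365 = n42061 := ndS (p := 13134) (l := 5) rfl N13134 D42061
theorem N26366 : nd 26366 = n42062 := ndS (p := 13135) (l := 3) rfl N13135 D42062
theorem N26367 : nd 26367 = n42063 := ndS (p := 13135) (l := 5) rfl N13135 D42063
theorem N26368 : nd 26368 = n42065 := ndS (p := 13137) (l := 3) rfl N13137 D42065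
theorem N26369 : nd 26369 = n42066 := ndS (p := 13137) (l := 5) rfl N13137 D42066
theorem N26370 : nd 26370 = n42072 := ndS (p := 13139) (l := 3) rfl N13139 D42072
theorem N26371 : nd 26371 = n42073 := ndS (p := 13139) (l := 5) rfl N13139 D42073
theorem N26372 : nd 26372 = n42077 := ndS (p := 13140) (l := 3) rfl N13140 D42077
theorem N26373 : nd 26373 = n42084 := ndS (p := 13141) (l := 0) rfl N13141 D42084
theorem N26374 : nd 26374 = n42085 := ndS (p := 13141) (l := 1) rfl N13141 D42085
theorem N26375 : nd 26375 = n42086 := ndS (p := 13141) (l := 4) rfl N13141 D42086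
theorem N26376 : nd 26376 = n42087 := ndS (p := 13141) (l := 6) rfl N13141 D42087
theorem N26377 : nd 26377 = n42101 := ndS (p := 13142) (l := 7) rfl N13142 D42101
theorem N26378 : nd 26378 = n42104 := ndS (p := 13148) (l := 6) rfl N13148 D42104
theorem N26379 : nd 26379 = n42106 := ndS (p := 13149) (l := 1) rfl N13149 D42106
theorem N26380 : nd 26380 = n42109 := ndS (p := 13152) (l := 3) rfl N13152 D42109
theorem N26381 : nd 26381 = n42110 := ndS (p := 13152) (l := 5) rfl N13152 D42110
theorem N26382 : nd 26382 = n42111 := ndS (p := 13154) (l := 5) rfl N13154 D42111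
theorem N26383 : nd 26383 = n42117 := ndS (p := 13158) (l := 6) rfl N13158 D42117
theorem N26384 : nd 26384 = n42118 := ndS (p := 13159) (l := 6) rfl N13159 D42118
theorem N26385 : nd 26385 = n42119 := ndS (p := 13160) (l := 5) rfl N13160 D42119
theorem N26386 : nd 26386 = n42121 := ndS (p := 13161) (l := 6) rfl N13161 D42121
theorem N26387 : nd 26387 = n42122 := ndS (p := 13162) (l := 3) rfl N13162 D42122
theorem N26388 : nd 26388 = n42123 := ndS (p := 13162) (l := 6) rfl N13162 D42123
theorem N26389 : nd 26389 = n42124 := ndS (p := 13163) (l := 0) rfl N13163 D42124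
theorem N26390 : nd 26390 = n42125 := ndS (p := 13163) (l := 1) rfl N13163 D42125
theorem N26391 : nd 26391 = n42126 := ndS (p := 13163) (l := 7) rfl N13163 D42126
theorem N26392 : nd 26392 = n42127 := ndS (p := 13164) (l := 6) rfl N13164 D42127
theorem N26393 : nd 26393 = n42128 := ndS (p := 13165) (l := 3) rfl N13165 D42128
theorem N26394 : nd 26394 = n42129 := ndS (p := 13165) (l := 5) rfl N13165 D42129
theorem N26395 : nd 26395 = n42130 := ndS (p := 13166) (l := 3) rfl N13166 D42130
theorem N26396 : nd 26396 = n42131 := ndS (p := 13166) (l := 5) rfl N13166 D42131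
theorem N26397 : nd 26397 = n42132 := ndS (p := 13166) (l := 6) rfl N13166 D42132
theorem N26398 : nd 26398 = n42133 := ndS (p := 13167) (l := 0) rfl N13167 D42133
theorem N26399 : nd 26399 = n42134 := ndS (p := 13167) (l := 1) rfl N13167 D42134
theorem N26400 : nd 26400 = n42135 := ndS (p := 13167) (l := 4) rfl N13167 D42135
theorem N26401 : nd 26401 = n42136 := ndS (p := 13167) (l := 7) rfl N13167 D42136
theorem N26402 : nd 26402 = n42137 := ndS (p := 13169) (l := 3) rfl N13169 D42137
theorem N26403 : nd 26403 = n42138 := ndS (p := 13169) (l := 5) rfl N13169 D42138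
theorem N26404 : nd 26404 = n42139 := ndS (p := 13169) (l := 6) rfl N13169 D42139
theorem N26405 : nd 26405 = n42140 := ndS (p := 13170) (l := 4) rfl N13170 D42140
theorem N26406 : nd 26406 = n42151 := ndS (p := 13172) (l := 1) rfl N13172 D42151
theorem N26407 : nd 26407 = n42153 := ndS (p := 13172) (l := 5) rfl N13172 D42153
theorem N26408 : nd 26408 = n42159 := ndS (p := 13173) (l := 3) rfl N13173 D42159
theorem N26409 : nd 26409 = n42164 := ndS (p := 13174) (l := 3) rfl N13174 D42164
theorem N26410 : nd 26410 = n42167 := ndS (p := 13175) (l := 3) rfl N13175 D42167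
theorem N26411 : nd 26411 = n42170 := ndS (p := 13176) (l := 0) rfl N13176 D42170
theorem N26412 : nd 26412 = n42171 := ndS (p := 13176) (l := 1) rfl N13176 D42171
theorem N26413 : nd 26413 = n42172 := ndS (p := 13176) (l := 2) rfl N13176 D42172
theorem N26414 : nd 26414 = n42173 := ndS (p := 13176) (l := 5) rfl N13176 D42173
theorem N26415 : nd 26415 = n42176 := ndS (p := 13177) (l := 6) rfl N13177 D42176
theorem N26416 : nd 26416 = n42177 := ndS (p := 13179) (l := 6) rfl N13179 D42177
theorem N26417 : nd 26417 = n42178 := ndS (p := 13180) (l := 6) rfl N13180 D42178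
theorem N26418 : nd 26418 = n42179 := ndS (p := 13182) (l := 0) rfl N13182 D42179
theorem N26419 : nd 26419 = n42180 := ndS (p := 13182) (l := 5) rfl N13182 D42180
theorem N26420 : nd 26420 = n42181 := ndS (p := 13182) (l := 7) rfl N13182 D42181
theorem N26421 : nd 26421 = n42182 := ndS (p := 13183) (l := 5) rfl N13183 D42182
theorem N26422 : nd 26422 = n42183 := ndS (p := 13184) (l := 3) rfl N13184 D42183
theorem N26423 : nd 26423 = n42184 := ndS (p := 13184) (l := 5) rfl N13184 D42184
theorem N26424 : nd 26424 = n42185 := ndS (p := 13184) (l := 6) rfl N13184 D42185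
theorem N26425 : nd 26425 = n42186 := ndS (p := 13185) (l := 0) rfl N13185 D42186
theorem N26426 : nd 26426 = n42187 := ndS (p := 13185) (l := 1) rfl N13185 D42187
theorem N26427 : nd 26427 = n42188 := ndS (p := 13185) (l := 4) rfl N13185 D42188
theorem N26428 : nd 26428 = n42189 := ndS (p := 13185) (l := 7) rfl N13185 D42189
theorem N26429 : nd 26429 = n42190 := ndS (p := 13187) (l := 3) rfl N13187 D42190
theorem N26430 : nd 26430 = n42191 := ndS (p := 13187) (l := 5) rfl N13187 D42191
theorem N26431 : nd 26431 = n42192 := ndS (p := 13187) (l := 6) rfl N13187 D42192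
theorem N26432 : nd 26432 = n42196 := ndS (p := 13189) (l := 3) rfl N13189 D42196
theorem N26433 : nd 26433 = n42197 := ndS (p := 13189) (l := 4) rfl N13189 D42197
theorem N26434 : nd 26434 = n42198 := ndS (p := 13189) (l := 5) rfl N13189 D42198
theorem N26435 : nd 26435 = n42199 := ndS (p := 13189) (l := 6) rfl N13189 D42199
theorem N26436 : nd 26436 = n42200 := ndS (p := 13190) (l := 0) rfl N13190 D42200
theorem N26437 : nd 26437 = n42201 := ndS (p := 13190) (l := 6) rfl N13190 D42201
theorem N26438 : nd 26438 = n42202 := ndS (p := 13191) (l := 0) rfl N13191 D42202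
theorem N26439 : nd 26439 = n42203 := ndS (p := 13191) (l := 1) rfl N13191 D42203
theorem N26440 : nd 26440 = n42204 := ndS (p := 13191) (l := 5) rfl N13191 D42204
theorem N26441 : nd 26441 = n42205 := ndS (p := 13191) (l := 7) rfl N13191 D42205
theorem N26442 : nd 26442 = n42206 := ndS (p := 13192) (l := 0) rfl N13192 D42206
theorem N26443 : nd 26443 = n42207 := ndS (p := 13192) (l := 1) rfl N13192 D42207
theorem N26444 : nd 26444 = n42208 := ndS (p := 13192) (l := 5) rfl N13192 D42208
theorem N26445 : nd 26445 = n42209 := ndS (p := 13192) (l := 7) rfl N13192 D42209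
theorem N26446 : nd 26446 = n42210 := ndS (p := 13193) (l := 3) rfl N13193 D42210
theorem N26447 : nd 26447 = n42211 := ndS (p := 13193) (l := 5) rfl N13193 D42211
theorem N26448 : nd 26448 = n42212 := ndS (p := 13194) (l := 3) rfl N13194 D42212
theorem N26449 : nd 26449 = n42214 := ndS (p := 13194) (l := 5) rfl N13194 D42214
theorem N26450 : nd 26450 = n42215 := ndS (p := 13194) (l := 6) rfl N13194 D42215
theorem N26451 : nd 26451 = n42216 := ndS (p := 13195) (l := 0) rfl N13195 D42216
theorem N26452 : nd 26452 = n42217 := ndS (p := 13195) (l := 1) rfl N13195 D42217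
theorem N26453 : nd 26453 = n42218 := ndS (p := 13195) (l := 4) rfl N13195 D42218
theorem N26454 : nd 26454 = n42219 := ndS (p := 13195) (l := 7) rfl N13195 D42219
theorem N26455 : nd 26455 = n42225 := ndS (p := 13197) (l := 0) rfl N13197 D42225
theorem N26456 : nd 26456 = n42227 := ndS (p := 13197) (l := 3) rfl N13197 D42227
theorem N26457 : nd 26457 = n42228 := ndS (p := 13197) (l := 5) rfl N13197 D42228
theorem N26458 : nd 26458 = n42236 := ndS (p := 13199) (l := 3) rfl N13199 D42236
theorem N26459 : nd 26459 = n42237 := ndS (p := 13199) (l := 5) rfl N13199 D42237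
theorem N26460 : nd 26460 = n42246 := ndS (p := 13200) (l := 3) rfl N13200 D42246
theorem N26461 : nd 26461 = n42247 := ndS (p := 13200) (l := 5) rfl N13200 D42247
theorem N26462 : nd 26462 = n42249 := ndS (p := 13201) (l := 3) rfl N13201 D42249
theorem N26463 : nd 26463 = n42250 := ndS (p := 13201) (l := 5) rfl N13201 D42250
theorem N26464 : nd 26464 = n42252 := ndS (p := 13202) (l := 3) rfl N13202 D42252
theorem N26465 : nd 26465 = n42253 := ndS (p := 13202) (l := 5) rfl N13202 D42253
theorem N26466 : nd 26466 = n42254 := ndS (p := 13202) (l := 6) rfl N13202 D42254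
theorem N26467 : nd 26467 = n42255 := ndS (p := 13203) (l := 0) rfl N13203 D42255
theorem N26468 : nd 26468 = n42256 := ndS (p := 13203) (l := 1) rfl N13203 D42256
theorem N26469 : nd 26469 = n42257 := ndS (p := 13203) (l := 2) rfl N13203 D42257
theorem N26470 : nd 26470 = n42258 := ndS (p := 13203) (l := 5) rfl N13203 D42258
theorem N26471 : nd 26471 = n42259 := ndS (p := 13204) (l := 6) rfl N13204 D42259
theorem N26472 : nd 26472 = n42264 := ndS (p := 13205) (l := 6) rfl N13205 D42264
theorem N26473 : nd 26473 = n42270 := ndS (p := 13207) (l := 0) rfl N13207 D42270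
theorem N26474 : nd 26474 = n42275 := ndS (p := 13209) (l := 5) rfl N13209 D42275
theorem N26475 : nd 26475 = n42277 := ndS (p := 13210) (l := 6) rfl N13210 D42277
theorem N26476 : nd 26476 = n42278 := ndS (p := 13212) (l := 0) rfl N13212 D42278
theorem N26477 : nd 26477 = n42279 := ndS (p := 13212) (l := 1) rfl N13212 D42279
theorem N26478 : nd 26478 = n42280 := ndS (p := 13212) (l := 5) rfl N13212 D42280
theorem N26479 : nd 26479 = n42281 := ndS (p := 13212) (l := 7) rfl N13212 D42281
theorem N26480 : nd 26480 = n42282 := ndS (p := 13213) (l := 3) rfl N13213 D42282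
theorem N26481 : nd 26481 = n42283 := ndS (p := 13213) (l := 6) rfl N13213 D42283
theorem N26482 : nd 26482 = n42284 := ndS (p := 13214) (l := 0) rfl N13214 D42284
theorem N26483 : nd 26483 = n42285 := ndS (p := 13214) (l := 1) rfl N13214 D42285
theorem N26484 : nd 26484 = n42286 := ndS (p := 13214) (l := 5) rfl N13214 D42286
theorem N26485 : nd 26485 = n42287 := ndS (p := 13214) (l := 7) rfl N13214 D42287
theorem N26486 : nd 26486 = n42289 := ndS (p := 13215) (l := 3) rfl N13215 D42289
theorem N26487 : nd 26487 = n42291 := ndS (p := 13215) (l := 5) rfl N13215 D42291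
theorem N26488 : nd 26488 = n42292 := ndS (p := 13215) (l := 6) rfl N13215 D42292
theorem N26489 : nd 26489 = n42294 := ndS (p := 13216) (l := 3) rfl N13216 D42294
theorem N26490 : nd 26490 = n42296 := ndS (p := 13216) (l := 5) rfl N13216 D42296
theorem N26491 : nd 26491 = n42298 := ndS (p := 13217) (l := 0) rfl N13217 D42298
theorem N26492 : nd 26492 = n42299 := ndS (p := 13217) (l := 1) rfl N13217 D42299
theorem N26493 : nd 26493 = n42300 := ndS (p := 13217) (l := 4) rfl N13217 D42300
theorem N26494 : nd 26494 = n42301 := ndS (p := 13217) (l := 7) rfl N13217 D42301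
theorem N26495 : nd 26495 = n42316 := ndS (p := 13219) (l := 3) rfl N13219 D42316
theorem N26496 : nd 26496 = n42317 := ndS (p := 13219) (l := 5) rfl N13219 D42317
theorem N26497 : nd 26497 = n42318 := ndS (p := 13219) (l := 6) rfl N13219 D42318
theorem N26498 : nd 26498 = n42333 := ndS (p := 13221) (l := 4) rfl N13221 D42333
theorem N26499 : nd 26499 = n42336 := ndS (p := 13222) (l := 0) rfl N13222 D42336
theorem N26500 : nd 26500 = n42338 := ndS (p := 13222) (l := 3) rfl N13222 D42338
theorem N26501 : nd 26501 = n42339 := ndS (p := 13222) (l := 5) rfl N13222 D42339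
theorem N26502 : nd 26502 = n42341 := ndS (p := 13223) (l := 0) rfl N13223 D42341
theorem N26503 : nd 26503 = n42342 := ndS (p := 13223) (l := 1) rfl N13223 D42342
theorem N26504 : nd 26504 = n42343 := ndS (p := 13223) (l := 2) rfl N13223 D42343
theorem N26505 : nd 26505 = n42344 := ndS (p := 13223) (l := 6) rfl N13223 D42344
theorem N26506 : nd 26506 = n42345 := ndS (p := 13224) (l := 5) rfl N13224 D42345
theorem N26507 : nd 26507 = n42346 := ndS (p := 13225) (l := 6) rfl N13225 D42346
theorem N26508 : nd 26508 = n42347 := ndS (p := 13226) (l := 6) rfl N13226 D42347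
theorem N26509 : nd 26509 = n42348 := ndS (p := 13227) (l := 0) rfl N13227 D42348
theorem N26510 : nd 26510 = n42349 := ndS (p := 13228) (l := 0) rfl N13228 D42349
theorem N26511 : nd 26511 = n42351 := ndS (p := 13228) (l := 5) rfl N13228 D42351
theorem N26512 : nd 26512 = n42352 := ndS (p := 13229) (l := 0) rfl N13229 D42352
theorem N26513 : nd 26513 = n42353 := ndS (p := 13229) (l := 1) rfl N13229 D42353
theorem N26514 : nd 26514 = n42354 := ndS (p := 13229) (l := 5) rfl N13229 D42354
theorem N26515 : nd 26515 = n42355 := ndS (p := 13229) (l := 7) rfl N13229 D42355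
theorem N26516 : nd 26516 = n42356 := ndS (p := 13230) (l := 5) rfl N13230 D42356
theorem N26517 : nd 26517 = n42357 := ndS (p := 13230) (l := 6) rfl N13230 D42357
theorem N26518 : nd 26518 = n42358 := ndS (p := 13231) (l := 0) rfl N13231 D42358
theorem N26519 : nd 26519 = n42359 := ndS (p := 13231) (l := 1) rfl N13231 D42359
theorem N26520 : nd 26520 = n42360 := ndS (p := 13231) (l := 4) rfl N13231 D42360
theorem N26521 : nd 26521 = n42361 := ndS (p := 13232) (l := 4) rfl N13232 D42361
theorem N26522 : nd 26522 = n42362 := ndS (p := 13232) (l := 6) rfl N13232 D42362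
theorem N26523 : nd 26523 = n42363 := ndS (p := 13233) (l := 3) rfl N13233 D42363
theorem N26524 : nd 26524 = n42364 := ndS (p := 13233) (l := 6) rfl N13233 D42364
theorem N26525 : nd 26525 = n42365 := ndS (p := 13234) (l := 6) rfl N13234 D42365
theorem N26526 : nd 26526 = n42366 := ndS (p := 13235) (l := 6) rfl N13235 D42366
theorem N26527 : nd 26527 = n42367 := ndS (p := 13237) (l := 0) rfl N13237 D42367
theorem N26528 : nd 26528 = n42368 := ndS (p := 13237) (l := 1) rfl N13237 D42368
theorem N26529 : nd 26529 = n42369 := ndS (p := 13237) (l := 5) rfl N13237 D42369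
theorem N26530 : nd 26530 = n42370 := ndS (p := 13237) (l := 7) rfl N13237 D42370
theorem N26531 : nd 26531 = n42371 := ndS (p := 13238) (l := 0) rfl N13238 D42371
theorem N26532 : nd 26532 = n42372 := ndS (p := 13238) (l := 1) rfl N13238 D42372
theorem N26533 : nd 26533 = n42373 := ndS (p := 13238) (l := 5) rfl N13238 D42373
theorem N26534 : nd 26534 = n42384 := ndS (p := 13239) (l := 0) rfl N13239 D42384
theorem N26535 : nd 26535 = n42385 := ndS (p := 13239) (l := 1) rfl N13239 D42385
theorem N26536 : nd 26536 = n42386 := ndS (p := 13239) (l := 4) rfl N13239 D42386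
theorem N26537 : nd 26537 = n42387 := ndS (p := 13239) (l := 7) rfl N13239 D42387
theorem N26538 : nd 26538 = n42388 := ndS (p := 13241) (l := 6) rfl N13241 D42388
theorem N26539 : nd 26539 = n42389 := ndS (p := 13242) (l := 6) rfl N13242 D42389
theorem N26540 : nd 26540 = n42390 := ndS (p := 13244) (l := 0) rfl N13244 D42390
theorem N26541 : nd 26541 = n42391 := ndS (p := 13244) (l := 1) rfl N13244 D42391
theorem N26542 : nd 26542 = n42392 := ndS (p := 13244) (l := 5) rfl N13244 D42392
theorem N26543 : nd 26543 = n42393 := ndS (p := 13245) (l := 0) rfl N13245 D42393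
theorem N26544 : nd 26544 = n42394 := ndS (p := 13245) (l := 1) rfl N13245 D42394
theorem N26545 : nd 26545 = n42395 := ndS (p := 13245) (l := 5) rfl N13245 D42395
theorem N26546 : nd 26546 = n42396 := ndS (p := 13245) (l := 7) rfl N13245 D42396
theorem N26547 : nd 26547 = n42397 := ndS (p := 13246) (l := 0) rfl N13246 D42397
theorem N26548 : nd 26548 = n42398 := ndS (p := 13246) (l := 1) rfl N13246 D42398
theorem N26549 : nd 26549 = n42399 := ndS (p := 13246) (l := 4) rfl N13246 D42399
theorem N26550 : nd 26550 = n42400 := ndS (p := 13248) (l := 5) rfl N13248 D42400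
theorem N26551 : nd 26551 = n42401 := ndS (p := 13249) (l := 0) rfl N13249 D42401
theorem N26552 : nd 26552 = n42402 := ndS (p := 13249) (l := 6) rfl N13249 D42402
theorem N26553 : nd 26553 = n42403 := ndS (p := 13250) (l := 0) rfl N13250 D42403
theorem N26554 : nd 26554 = n42404 := ndS (p := 13250) (l := 1) rfl N13250 D42404
theorem N26555 : nd 26555 = n42405 := ndS (p := 13250) (l := 5) rfl N13250 D42405
theorem N26556 : nd 26556 = n42406 := ndS (p := 13250) (l := 7) rfl N13250 D42406
theorem N26557 : nd 26557 = n42408 := ndS (p := 13251) (l := 3) rfl N13251 D42408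
theorem N26558 : nd 26558 = n42409 := ndS (p := 13251) (l := 4) rfl N13251 D42409
theorem N26559 : nd 26559 = n42410 := ndS (p := 13251) (l := 5) rfl N13251 D42410
theorem N26560 : nd 26560 = n42411 := ndS (p := 13251) (l := 6) rfl N13251 D42411
theorem N26561 : nd 26561 = n42414 := ndS (p := 13252) (l := 4) rfl N13252 D42414
theorem N26562 : nd 26562 = n42415 := ndS (p := 13252) (l := 5) rfl N13252 D42415
theorem N26563 : nd 26563 = n42417 := ndS (p := 13253) (l := 0) rfl N13253 D42417
theorem N26564 : nd 26564 = n42418 := ndS (p := 13253) (l := 1) rfl N13253 D42418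
theorem N26565 : nd 26565 = n42419 := ndS (p := 13253) (l := 4) rfl N13253 D42419
theorem N26566 : nd 26566 = n42420 := ndS (p := 13253) (l := 7) rfl N13253 D42420
theorem N26567 : nd 26567 = n42421 := ndS (p := 13255) (l := 0) rfl N13255 D42421
theorem N26568 : nd 26568 = n42423 := ndS (p := 13255) (l := 2) rfl N13255 D42423
theorem N26569 : nd 26569 = n42424 := ndS (p := 13255) (l := 4) rfl N13255 D42424
theorem N26570 : nd 26570 = n42425 := ndS (p := 13255) (l := 5) rfl N13255 D42425
theorem N26571 : nd 26571 = n42426 := ndS (p := 13255) (l := 6) rfl N13255 D42426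
theorem N26572 : nd 26572 = n42427 := ndS (p := 13256) (l := 0) rfl N13256 D42427
theorem N26573 : nd 26573 = n42430 := ndS (p := 13256) (l := 5) rfl N13256 D42430
theorem N26574 : nd 26574 = n42431 := ndS (p := 13256) (l := 6) rfl N13256 D42431
theorem N26575 : nd 26575 = n42432 := ndS (p := 13257) (l := 0) rfl N13257 D42432
theorem N26576 : nd 26576 = n42433 := ndS (p := 13257) (l := 1) rfl N13257 D42433
theorem N26577 : nd 26577 = n42434 := ndS (p := 13257) (l := 4) rfl N13257 D42434
theorem N26578 : nd 26578 = n42435 := ndS (p := 13257) (l := 6) rfl N13257 D42435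
theorem N26579 : nd 26579 = n42436 := ndS (p := 13258) (l := 5) rfl N13258 D42436
theorem N26580 : nd 26580 = n42439 := ndS (p := 13259) (l := 1) rfl N13259 D42439
theorem N26581 : nd 26581 = n42440 := ndS (p := 13259) (l := 2) rfl N13259 D42440
theorem N26582 : nd 26582 = n42441 := ndS (p := 13259) (l := 4) rfl N13259 D42441
theorem N26583 : nd 26583 = n42442 := ndS (p := 13259) (l := 5) rfl N13259 D42442
theorem N26584 : nd 26584 = n42443 := ndS (p := 13259) (l := 6) rfl N13259 D42443
theorem N26585 : nd 26585 = n42444 := ndS (p := 13260) (l := 5) rfl N13260 D42444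
theorem N26586 : nd 26586 = n42445 := ndS (p := 13260) (l := 6) rfl N13260 D42445
theorem N26587 : nd 26587 = n42446 := ndS (p := 13261) (l := 4) rfl N13261 D42446
theorem N26588 : nd 26588 = n42447 := ndS (p := 13261) (l := 6) rfl N13261 D42447
theorem N26589 : nd 26589 = n42450 := ndS (p := 13262) (l := 5) rfl N13262 D42450
theorem N26590 : nd 26590 = n42451 := ndS (p := 13262) (l := 7) rfl N13262 D42451
theorem N26591 : nd 26591 = n42453 := ndS (p := 13263) (l := 3) rfl N13263 D42453
theorem N26592 : nd 26592 = n42454 := ndS (p := 13263) (l := 4) rfl N13263 D42454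
theorem N26593 : nd 26593 = n42455 := ndS (p := 13263) (l := 5) rfl N13263 D42455
theorem N26594 : nd 26594 = n42456 := ndS (p := 13263) (l := 6) rfl N13263 D42456
theorem N26595 : nd 26595 = n42458 := ndS (p := 13264) (l := 3) rfl N13264 D42458
theorem N26596 : nd 26596 = n42459 := ndS (p := 13264) (l := 4) rfl N13264 D42459
theorem N26597 : nd 26597 = n42460 := ndS (p := 13264) (l := 5) rfl N13264 D42460
theorem N26598 : nd 26598 = n42461 := ndS (p := 13264) (l := 6) rfl N13264 D42461
theorem N26599 : nd 26599 = n42462 := ndS (p := 13265) (l := 0) rfl N13265 D42462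
theorem N26600 : nd 26600 = n42463 := ndS (p := 13265) (l := 1) rfl N13265 D42463
theorem N26601 : nd 26601 = n42464 := ndS (p := 13265) (l := 3) rfl N13265 D42464
theorem N26602 : nd 26602 = n42465 := ndS (p := 13265) (l := 5) rfl N13265 D42465
theorem N26603 : nd 26603 = n42466 := ndS (p := 13265) (l := 7) rfl N13265 D42466
theorem N26604 : nd 26604 = n42467 := ndS (p := 13266) (l := 6) rfl N13266 D42467
theorem N26605 : nd 26605 = n42474 := ndS (p := 13268) (l := 5) rfl N13268 D42474
theorem N26606 : nd 26606 = n42475 := ndS (p := 13268) (l := 6) rfl N13268 D42475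
theorem N26607 : nd 26607 = n42476 := ndS (p := 13269) (l := 3) rfl N13269 D42476
theorem N26608 : nd 26608 = n42477 := ndS (p := 13269) (l := 5) rfl N13269 D42477
theorem N26609 : nd 26609 = n42478 := ndS (p := 13270) (l := 0) rfl N13270 D42478
theorem N26610 : nd 26610 = n42479 := ndS (p := 13270) (l := 1) rfl N13270 D42479
theorem N26611 : nd 26611 = n42483 := ndS (p := 13271) (l := 1) rfl N13271 D42483
theorem N26612 : nd 26612 = n42485 := ndS (p := 13272) (l := 3) rfl N13272 D42485
theorem N26613 : nd 26613 = n42486 := ndS (p := 13272) (l := 5) rfl N13272 D42486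
theorem N26614 : nd 26614 = n42492 := ndS (p := 13273) (l := 0) rfl N13273 D42492
theorem N26615 : nd 26615 = n42494 := ndS (p := 13273) (l := 2) rfl N13273 D42494
theorem N26616 : nd 26616 = n42495 := ndS (p := 13273) (l := 5) rfl N13273 D42495
theorem N26617 : nd 26617 = n42496 := ndS (p := 13273) (l := 6) rfl N13273 D42496
theorem N26618 : nd 26618 = n42497 := ndS (p := 13274) (l := 0) rfl N13274 D42497
theorem N26619 : nd 26619 = n42498 := ndS (p := 13274) (l := 1) rfl N13274 D42498
theorem N26620 : nd 26620 = n42499 := ndS (p := 13274) (l := 4) rfl N13274 D42499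
theorem N26621 : nd 26621 = n42500 := ndS (p := 13274) (l := 6) rfl N13274 D42500
theorem N26622 : nd 26622 = n42501 := ndS (p := 13275) (l := 1) rfl N13275 D42501
theorem N26623 : nd 26623 = n42502 := ndS (p := 13275) (l := 5) rfl N13275 D42502
theorem N26624 : nd 26624 = n42503 := ndS (p := 13276) (l := 4) rfl N13276 D42503
theorem N26625 : nd 26625 = n42505 := ndS (p := 13277) (l := 0) rfl N13277 D42505
theorem N26626 : nd 26626 = n42507 := ndS (p := 13277) (l := 3) rfl N13277 D42507
theorem N26627 : nd 26627 = n42508 := ndS (p := 13277) (l := 5) rfl N13277 D42508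
theorem N26628 : nd 26628 = n42516 := ndS (p := 13278) (l := 3) rfl N13278 D42516
theorem N26629 : nd 26629 = n42517 := ndS (p := 13278) (l := 5) rfl N13278 D42517
theorem N26630 : nd 26630 = n42518 := ndS (p := 13278) (l := 6) rfl N13278 D42518
theorem N26631 : nd 26631 = n42520 := ndS (p := 13279) (l := 1) rfl N13279 D42520
theorem N26632 : nd 26632 = n42521 := ndS (p := 13279) (l := 4) rfl N13279 D42521
theorem N26633 : nd 26633 = n42526 := ndS (p := 13280) (l := 7) rfl N13280 D42526
theorem N26634 : nd 26634 = n42528 := ndS (p := 13281) (l := 1) rfl N13281 D42528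
theorem N26635 : nd 26635 = n42529 := ndS (p := 13281) (l := 2) rfl N13281 D42529
theorem N26636 : nd 26636 = n42530 := ndS (p := 13281) (l := 5) rfl N13281 D42530
theorem N26637 : nd 26637 = n42531 := ndS (p := 13281) (l := 6) rfl N13281 D42531
theorem N26638 : nd 26638 = n42532 := ndS (p := 13282) (l := 4) rfl N13282 D42532
theorem N26639 : nd 26639 = n42533 := ndS (p := 13282) (l := 6) rfl N13282 D42533
theorem N26640 : nd 26640 = n42536 := ndS (p := 13283) (l := 5) rfl N13283 D42536
theorem N26641 : nd 26641 = n42537 := ndS (p := 13283) (l := 7) rfl N13283 D42537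
theorem N26642 : nd 26642 = n42538 := ndS (p := 13284) (l := 3) rfl N13284 D42538
theorem N26643 : nd 26643 = n42539 := ndS (p := 13284) (l := 5) rfl N13284 D42539
theorem N26644 : nd 26644 = n42546 := ndS (p := 13286) (l := 2) rfl N13286 D42546
theorem N26645 : nd 26645 = n42548 := ndS (p := 13286) (l := 5) rfl N13286 D42548
theorem N26646 : nd 26646 = n42551 := ndS (p := 13287) (l := 3) rfl N13287 D42551
theorem N26647 : nd 26647 = n42552 := ndS (p := 13287) (l := 5) rfl N13287 D42552
theorem N26648 : nd 26648 = n42554 := ndS (p := 13288) (l := 4) rfl N13288 D42554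
theorem N26649 : nd 26649 = n42567 := ndS (p := 13289) (l := 3) rfl N13289 D42567
theorem N26650 : nd 26650 = n42568 := ndS (p := 13289) (l := 4) rfl N13289 D42568
theorem N26651 : nd 26651 = n42569 := ndS (p := 13289) (l := 5) rfl N13289 D42569
theorem N26652 : nd 26652 = n42581 := ndS (p := 13290) (l := 0) rfl N13290 D42581
theorem N26653 : nd 26653 = n42582 := ndS (p := 13290) (l := 1) rfl N13290 D42582
theorem N26654 : nd 26654 = n42583 := ndS (p := 13290) (l := 4) rfl N13290 D42583
theorem N26655 : nd 26655 = n42584 := ndS (p := 13290) (l := 6) rfl N13290 D42584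
theorem N26656 : nd 26656 = n42619 := ndS (p := 13292) (l := 6) rfl N13292 D42619
theorem N26657 : nd 26657 = n42621 := ndS (p := 13294) (l := 3) rfl N13294 D42621
theorem N26658 : nd 26658 = n42622 := ndS (p := 13294) (l := 5) rfl N13294 D42622
theorem N26659 : nd 26659 = n42627 := ndS (p := 13295) (l := 3) rfl N13295 D42627
theorem N26660 : nd 26660 = n42632 := ndS (p := 13296) (l := 0) rfl N13296 D42632
theorem N26661 : nd 26661 = n42633 := ndS (p := 13296) (l := 1) rfl N13296 D42633
theorem N26662 : nd 26662 = n42634 := ndS (p := 13296) (l := 2) rfl N13296 D42634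
theorem N26663 : nd 26663 = n42635 := ndS (p := 13296) (l := 5) rfl N13296 D42635
theorem N26664 : nd 26664 = n42637 := ndS (p := 13297) (l := 6) rfl N13297 D42637
theorem N26665 : nd 26665 = n42645 := ndS (p := 13298) (l := 3) rfl N13298 D42645
theorem N26666 : nd 26666 = n42646 := ndS (p := 13298) (l := 6) rfl N13298 D42646
theorem N26667 : nd 26667 = n42647 := ndS (p := 13299) (l := 0) rfl N13299 D42647
theorem N26668 : nd 26668 = n42649 := ndS (p := 13299) (l := 7) rfl N13299 D42649
theorem N26669 : nd 26669 = n42650 := ndS (p := 13300) (l := 0) rfl N13300 D42650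
theorem N26670 : nd 26670 = n42651 := ndS (p := 13300) (l := 1) rfl N13300 D42651
theorem N26671 : nd 26671 = n42652 := ndS (p := 13300) (l := 2) rfl N13300 D42652
theorem N26672 : nd 26672 = n42653 := ndS (p := 13300) (l := 5) rfl N13300 D42653
theorem N26673 : nd 26673 = n42654 := ndS (p := 13300) (l := 6) rfl N13300 D42654
theorem N26674 : nd 26674 = n42655 := ndS (p := 13301) (l := 6) rfl N13301 D42655
theorem N26675 : nd 26675 = n42656 := ndS (p := 13302) (l := 0) rfl N13302 D42656
theorem N26676 : nd 26676 = n42658 := ndS (p := 13302) (l := 5) rfl N13302 D42658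
theorem N26677 : nd 26677 = n42659 := ndS (p := 13302) (l := 7) rfl N13302 D42659
theorem N26678 : nd 26678 = n42660 := ndS (p := 13303) (l := 4) rfl N13303 D42660
theorem N26679 : nd 26679 = n42661 := ndS (p := 13305) (l := 0) rfl N13305 D42661
theorem N26680 : nd 26680 = n42662 := ndS (p := 13305) (l := 1) rfl N13305 D42662
theorem N26681 : nd 26681 = n42663 := ndS (p := 13305) (l := 2) rfl N13305 D42663
theorem N26682 : nd 26682 = n42664 := ndS (p := 13305) (l := 4) rfl N13305 D42664
theorem N26683 : nd 26683 = n42665 := ndS (p := 13305) (l := 5) rfl N13305 D42665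
theorem N26684 : nd 26684 = n42666 := ndS (p := 13305) (l := 6) rfl N13305 D42666
theorem N26685 : nd 26685 = n42667 := ndS (p := 13306) (l := 6) rfl N13306 D42667
theorem N26686 : nd 26686 = n42668 := ndS (p := 13307) (l := 5) rfl N13307 D42668
theorem N26687 : nd 26687 = n42670 := ndS (p := 13308) (l := 0) rfl N13308 D42670
theorem N26688 : nd 26688 = n42671 := ndS (p := 13308) (l := 1) rfl N13308 D42671
theorem N26689 : nd 26689 = n42672 := ndS (p := 13308) (l := 2) rfl N13308 D42672
theorem N26690 : nd 26690 = n42673 := ndS (p := 13308) (l := 5) rfl N13308 D42673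
theorem N26691 : nd 26691 = n42674 := ndS (p := 13308) (l := 6) rfl N13308 D42674
theorem N26692 : nd 26692 = n42675 := ndS (p := 13309) (l := 6) rfl N13309 D42675
theorem N26693 : nd 26693 = n42676 := ndS (p := 13310) (l := 5) rfl N13310 D42676
theorem N26694 : nd 26694 = n42677 := ndS (p := 13310) (l := 7) rfl N13310 D42677
theorem N26695 : nd 26695 = n42680 := ndS (p := 13311) (l := 3) rfl N13311 D42680
theorem N26696 : nd 26696 = n42681 := ndS (p := 13311) (l := 4) rfl N13311 D42681
theorem N26697 : nd 26697 = n42682 := ndS (p := 13311) (l := 5) rfl N13311 D42682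
theorem N26698 : nd 26698 = n42684 := ndS (p := 13311) (l := 7) rfl N13311 D42684
theorem N26699 : nd 26699 = n42685 := ndS (p := 13312) (l := 3) rfl N13312 D42685
theorem N26700 : nd 26700 = n42687 := ndS (p := 13312) (l := 5) rfl N13312 D42687
theorem N26701 : nd 26701 = n42691 := ndS (p := 13313) (l := 5) rfl N13313 D42691
theorem N26702 : nd 26702 = n42693 := ndS (p := 13314) (l := 1) rfl N13314 D42693
theorem N26703 : nd 26703 = n42694 := ndS (p := 13314) (l := 4) rfl N13314 D42694
theorem N26704 : nd 26704 = n42695 := ndS (p := 13314) (l := 6) rfl N13314 D42695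
theorem N26705 : nd 26705 = n42696 := ndS (p := 13314) (l := 7) rfl N13314 D42696
theorem N26706 : nd 26706 = n42700 := ndS (p := 13316) (l := 3) rfl N13316 D42700
theorem N26707 : nd 26707 = n42701 := ndS (p := 13316) (l := 6) rfl N13316 D42701
theorem N26708 : nd 26708 = n42702 := ndS (p := 13317) (l := 3) rfl N13317 D42702
theorem N26709 : nd 26709 = n42703 := ndS (p := 13317) (l := 6) rfl N13317 D42703
theorem N26710 : nd 26710 = n42704 := ndS (p := 13318) (l := 0) rfl N13318 D42704
theorem N26711 : nd 26711 = n42705 := ndS (p := 13318) (l := 1) rfl N13318 D42705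
theorem N26712 : nd 26712 = n42706 := ndS (p := 13318) (l := 7) rfl N13318 D42706
theorem N26713 : nd 26713 = n42707 := ndS (p := 13319) (l := 6) rfl N13319 D42707
theorem N26714 : nd 26714 = n42721 := ndS (p := 13321) (l := 0) rfl N13321 D42721
theorem N26715 : nd 26715 = n42722 := ndS (p := 13321) (l := 1) rfl N13321 D42722
theorem N26716 : nd 26716 = n42723 := ndS (p := 13321) (l := 4) rfl N13321 D42723
theorem N26717 : nd 26717 = n42724 := ndS (p := 13321) (l := 6) rfl N13321 D42724
theorem N26718 : nd 26718 = n42726 := ndS (p := 13322) (l := 4) rfl N13322 D42726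
theorem N26719 : nd 26719 = n42728 := ndS (p := 13323) (l := 4) rfl N13323 D42728
theorem N26720 : nd 26720 = n42729 := ndS (p := 13324) (l := 0) rfl N13324 D42729
theorem N26721 : nd 26721 = n42730 := ndS (p := 13324) (l := 1) rfl N13324 D42730
theorem N26722 : nd 26722 = n42732 := ndS (p := 13324) (l := 5) rfl N13324 D42732
theorem N26723 : nd 26723 = n42734 := ndS (p := 13325) (l := 4) rfl N13325 D42734
theorem N26724 : nd 26724 = n42747 := ndS (p := 13326) (l := 3) rfl N13326 D42747
theorem N26725 : nd 26725 = n42748 := ndS (p := 13326) (l := 5) rfl N13326 D42748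
theorem N26726 : nd 26726 = n42750 := ndS (p := 13327) (l := 3) rfl N13327 D42750
theorem N26727 : nd 26727 = n42751 := ndS (p := 13327) (l := 5) rfl N13327 D42751
theorem N26728 : nd 26728 = n42752 := ndS (p := 13327) (l := 6) rfl N13327 D42752
theorem N26729 : nd 26729 = n42753 := ndS (p := 13328) (l := 4) rfl N13328 D42753
theorem N26730 : nd 26730 = n42755 := ndS (p := 13330) (l := 3) rfl N13330 D42755
theorem N26731 : nd 26731 = n42756 := ndS (p := 13330) (l := 5) rfl N13330 D42756
theorem N26732 : nd 26732 = n42757 := ndS (p := 13331) (l := 0) rfl N13331 D42757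
theorem N26733 : nd 26733 = n42758 := ndS (p := 13331) (l := 1) rfl N13331 D42758
theorem N26734 : nd 26734 = n42759 := ndS (p := 13331) (l := 4) rfl N13331 D42759
theorem N26735 : nd 26735 = n42760 := ndS (p := 13331) (l := 6) rfl N13331 D42760
theorem N26736 : nd 26736 = n42761 := ndS (p := 13332) (l := 0) rfl N13332 D42761
theorem N26737 : nd 26737 = n42762 := ndS (p := 13332) (l := 1) rfl N13332 D42762
theorem N26738 : nd 26738 = n42763 := ndS (p := 13332) (l := 5) rfl N13332 D42763
theorem N26739 : nd 26739 = n42769 := ndS (p := 13333) (l := 4) rfl N13333 D42769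
theorem N26740 : nd 26740 = n42771 := ndS (p := 13334) (l := 1) rfl N13334 D42771
theorem N26741 : nd 26741 = n42773 := ndS (p := 13334) (l := 5) rfl N13334 D42773
theorem N26742 : nd 26742 = n42779 := ndS (p := 13335) (l := 4) rfl N13335 D42779
theorem N26743 : nd 26743 = n42862 := ndS (p := 13337) (l := 4) rfl N13337 D42862
theorem N26744 : nd 26744 = n42869 := ndS (p := 13338) (l := 3) rfl N13338 D42869
theorem N26745 : nd 26745 = n42870 := ndS (p := 13338) (l := 5) rfl N13338 D42870
theorem N26746 : nd 26746 = n42931 := ndS (p := 13341) (l := 3) rfl N13341 D42931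
theorem N26747 : nd 26747 = n42932 := ndS (p := 13341) (l := 5) rfl N13341 D42932
theorem N26748 : nd 26748 = n42935 := ndS (p := 13342) (l := 3) rfl N13342 D42935
theorem N26749 : nd 26749 = n42937 := ndS (p := 13343) (l := 3) rfl N13343 D42937
theorem N26750 : nd 26750 = n42944 := ndS (p := 13344) (l := 4) rfl N13344 D42944
theorem N26751 : nd 26751 = n42945 := ndS (p := 13344) (l := 6) rfl N13344 D42945
theorem N26752 : nd 26752 = n42994 := ndS (p := 13345) (l := 2) rfl N13345 D42994
theorem N26753 : nd 26753 = n42999 := ndS (p := 13346) (l := 0) rfl N13346 D42999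
theorem N26754 : nd 26754 = n43000 := ndS (p := 13346) (l := 1) rfl N13346 D43000
theorem N26755 : nd 26755 = n43001 := ndS (p := 13346) (l := 3) rfl N13346 D43001
theorem N26756 : nd 26756 = n43002 := ndS (p := 13346) (l := 5) rfl N13346 D43002
theorem N26757 : nd 26757 = n43018 := ndS (p := 13347) (l := 4) rfl N13347 D43018
theorem N26758 : nd 26758 = n43021 := ndS (p := 13348) (l := 3) rfl N13348 D43021
theorem N26759 : nd 26759 = n43022 := ndS (p := 13348) (l := 5) rfl N13348 D43022
theorem N26760 : nd 26760 = n43100 := ndS (p := 13349) (l := 3) rfl N13349 D43100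
theorem N26761 : nd 26761 = n43101 := ndS (p := 13349) (l := 5) rfl N13349 D43101
theorem N26762 : nd 26762 = n43102 := ndS (p := 13349) (l := 6) rfl N13349 D43102
theorem N26763 : nd 26763 = n43106 := ndS (p := 13351) (l := 0) rfl N13351 D43106
theorem N26764 : nd 26764 = n43107 := ndS (p := 13351) (l := 1) rfl N13351 D43107
theorem N26765 : nd 26765 = n43108 := ndS (p := 13351) (l := 2) rfl N13351 D43108
theorem N26766 : nd 26766 = n43109 := ndS (p := 13351) (l := 6) rfl N13351 D43109
theorem N26767 : nd 26767 = n43118 := ndS (p := 13354) (l := 6) rfl N13354 D43118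
theorem N26768 : nd 26768 = n43167 := ndS (p := 13356) (l := 6) rfl N13356 D43167
theorem N26769 : nd 26769 = n43168 := ndS (p := 13357) (l := 3) rfl N13357 D43168
theorem N26770 : nd 26770 = n43169 := ndS (p := 13357) (l := 5) rfl N13357 D43169
theorem N26771 : nd 26771 = n43173 := ndS (p := 13358) (l := 3) rfl N13358 D43173
theorem N26772 : nd 26772 = n43174 := ndS (p := 13358) (l := 6) rfl N13358 D43174
theorem N26773 : nd 26773 = n43175 := ndS (p := 13359) (l := 3) rfl N13359 D43175
theorem N26774 : nd 26774 = n43182 := ndS (p := 13360) (l := 4) rfl N13360 D43182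
theorem N26775 : nd 26775 = n43183 := ndS (p := 13360) (l := 6) rfl N13360 D43183
theorem N26776 : nd 26776 = n43217 := ndS (p := 13362) (l := 5) rfl N13362 D43217
theorem N26777 : nd 26777 = n43218 := ndS (p := 13362) (l := 6) rfl N13362 D43218
theorem N26778 : nd 26778 = n43219 := ndS (p := 13363) (l := 5) rfl N13363 D43219
theorem N26779 : nd 26779 = n43220 := ndS (p := 13363) (l := 6) rfl N13363 D43220
theorem N26780 : nd 26780 = n43222 := ndS (p := 13367) (l := 5) rfl N13367 D43222
theorem N26781 : nd 26781 = n43223 := ndS (p := 13367) (l := 6) rfl N13367 D43223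
theorem N26782 : nd 26782 = n43225 := ndS (p := 13370) (l := 5) rfl N13370 D43225
theorem N26783 : nd 26783 = n43227 := ndS (p := 13371) (l := 6) rfl N13371 D43227
theorem N26784 : nd 26784 = n43228 := ndS (p := 13372) (l := 3) rfl N13372 D43228
theorem N26785 : nd 26785 = n43229 := ndS (p := 13372) (l := 6) rfl N13372 D43229
theorem N26786 : nd 26786 = n43230 := ndS (p := 13373) (l := 6) rfl N13373 D43230
theorem N26787 : nd 26787 = n43231 := ndS (p := 13374) (l := 0) rfl N13374 D43231
theorem N26788 : nd 26788 = n43232 := ndS (p := 13374) (l := 1) rfl N13374 D43232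
theorem N26789 : nd 26789 = n43233 := ndS (p := 13374) (l := 5) rfl N13374 D43233
theorem N26790 : nd 26790 = n43234 := ndS (p := 13374) (l := 7) rfl N13374 D43234
theorem N26791 : nd 26791 = n43235 := ndS (p := 13375) (l := 6) rfl N13375 D43235
theorem N26792 : nd 26792 = n43236 := ndS (p := 13376) (l := 3) rfl N13376 D43236
theorem N26793 : nd 26793 = n43237 := ndS (p := 13376) (l := 6) rfl N13376 D43237
theorem N26794 : nd 26794 = n43238 := ndS (p := 13377) (l := 0) rfl N13377 D43238
theorem N26795 : nd 26795 = n43239 := ndS (p := 13377) (l := 5) rfl N13377 D43239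
theorem N26796 : nd 26796 = n43240 := ndS (p := 13378) (l := 3) rfl N13378 D43240
theorem N26797 : nd 26797 = n43241 := ndS (p := 13378) (l := 5) rfl N13378 D43241
theorem N26798 : nd 26798 = n43242 := ndS (p := 13378) (l := 6) rfl N13378 D43242
theorem N26799 : nd 26799 = n43243 := ndS (p := 13379) (l := 3) rfl N13379 D43243
theorem N26800 : nd 26800 = n43244 := ndS (p := 13379) (l := 5) rfl N13379 D43244
theorem N26801 : nd 26801 = n43246 := ndS (p := 13380) (l := 0) rfl N13380 D43246
theorem N26802 : nd 26802 = n43247 := ndS (p := 13380) (l := 1) rfl N13380 D43247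
theorem N26803 : nd 26803 = n43248 := ndS (p := 13380) (l := 4) rfl N13380 D43248
theorem N26804 : nd 26804 = n43249 := ndS (p := 13380) (l := 7) rfl N13380 D43249
theorem N26805 : nd 26805 = n43250 := ndS (p := 13382) (l := 3) rfl N13382 D43250
theorem N26806 : nd 26806 = n43251 := ndS (p := 13382) (l := 5) rfl N13382 D43251
theorem N26807 : nd 26807 = n43252 := ndS (p := 13382) (l := 6) rfl N13382 D43252
theorem N26808 : nd 26808 = n43253 := ndS (p := 13383) (l := 4) rfl N13383 D43253
theorem N26809 : nd 26809 = n43257 := ndS (p := 13387) (l := 5) rfl N13387 D43257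
theorem N26810 : nd 26810 = n43258 := ndS (p := 13387) (l := 6) rfl N13387 D43258
theorem N26811 : nd 26811 = n43264 := ndS (p := 13390) (l := 6) rfl N13390 D43264
theorem N26812 : nd 26812 = n43265 := ndS (p := 13391) (l := 5) rfl N13391 D43265
theorem N26813 : nd 26813 = n43267 := ndS (p := 13392) (l := 6) rfl N13392 D43267
theorem N26814 : nd 26814 = n43271 := ndS (p := 13395) (l := 6) rfl N13395 D43271
theorem N26815 : nd 26815 = n43272 := ndS (p := 13396) (l := 6) rfl N13396 D43272
theorem N26816 : nd 26816 = n43273 := ndS (p := 13398) (l := 0) rfl N13398 D43273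
theorem N26817 : nd 26817 = n43274 := ndS (p := 13398) (l := 5) rfl N13398 D43274
theorem N26818 : nd 26818 = n43275 := ndS (p := 13398) (l := 7) rfl N13398 D43275
theorem N26819 : nd 26819 = n43276 := ndS (p := 13399) (l := 5) rfl N13399 D43276
theorem N26820 : nd 26820 = n43277 := ndS (p := 13400) (l := 3) rfl N13400 D43277
theorem N26821 : nd 26821 = n43278 := ndS (p := 13400) (l := 5) rfl N13400 D43278
theorem N26822 : nd 26822 = n43279 := ndS (p := 13400) (l := 6) rfl N13400 D43279
theorem N26823 : nd 26823 = n43280 := ndS (p := 13401) (l := 3) rfl N13401 D43280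
theorem N26824 : nd 26824 = n43281 := ndS (p := 13401) (l := 5) rfl N13401 D43281
theorem N26825 : nd 26825 = n43282 := ndS (p := 13401) (l := 6) rfl N13401 D43282
theorem N26826 : nd 26826 = n43283 := ndS (p := 13402) (l := 0) rfl N13402 D43283
theorem N26827 : nd 26827 = n43284 := ndS (p := 13402) (l := 1) rfl N13402 D43284
theorem N26828 : nd 26828 = n43285 := ndS (p := 13402) (l := 4) rfl N13402 D43285
theorem N26829 : nd 26829 = n43286 := ndS (p := 13402) (l := 7) rfl N13402 D43286
theorem N26830 : nd 26830 = n43287 := ndS (p := 13404) (l := 3) rfl N13404 D43287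
theorem N26831 : nd 26831 = n43288 := ndS (p := 13404) (l := 5) rfl N13404 D43288
theorem N26832 : nd 26832 = n43299 := ndS (p := 13405) (l := 3) rfl N13405 D43299
theorem N26833 : nd 26833 = n43302 := ndS (p := 13406) (l := 3) rfl N13406 D43302
theorem N26834 : nd 26834 = n43305 := ndS (p := 13407) (l := 0) rfl N13407 D43305
theorem N26835 : nd 26835 = n43306 := ndS (p := 13407) (l := 1) rfl N13407 D43306
theorem N26836 : nd 26836 = n43307 := ndS (p := 13407) (l := 2) rfl N13407 D43307
theorem N26837 : nd 26837 = n43308 := ndS (p := 13407) (l := 5) rfl N13407 D43308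
theorem N26838 : nd 26838 = n43309 := ndS (p := 13408) (l := 6) rfl N13408 D43309
theorem N26839 : nd 26839 = n43310 := ndS (p := 13409) (l := 4) rfl N13409 D43310
theorem N26840 : nd 26840 = n43311 := ndS (p := 13409) (l := 5) rfl N13409 D43311
theorem N26841 : nd 26841 = n43312 := ndS (p := 13409) (l := 6) rfl N13409 D43312
theorem N26842 : nd 26842 = n43313 := ndS (p := 13410) (l := 0) rfl N13410 D43313
theorem N26843 : nd 26843 = n43314 := ndS (p := 13410) (l := 1) rfl N13410 D43314
theorem N26844 : nd 26844 = n43315 := ndS (p := 13410) (l := 5) rfl N13410 D43315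
theorem N26845 : nd 26845 = n43316 := ndS (p := 13410) (l := 7) rfl N13410 D43316
theorem N26846 : nd 26846 = n43317 := ndS (p := 13411) (l := 3) rfl N13411 D43317
theorem N26847 : nd 26847 = n43318 := ndS (p := 13411) (l := 5) rfl N13411 D43318
theorem N26848 : nd 26848 = n43320 := ndS (p := 13412) (l := 3) rfl N13412 D43320
theorem N26849 : nd 26849 = n43321 := ndS (p := 13412) (l := 5) rfl N13412 D43321
theorem N26850 : nd 26850 = n43322 := ndS (p := 13413) (l := 0) rfl N13413 D43322
theorem N26851 : nd 26851 = n43323 := ndS (p := 13413) (l := 1) rfl N13413 D43323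
theorem N26852 : nd 26852 = n43324 := ndS (p := 13413) (l := 4) rfl N13413 D43324
theorem N26853 : nd 26853 = n43325 := ndS (p := 13413) (l := 7) rfl N13413 D43325
theorem N26854 : nd 26854 = n43328 := ndS (p := 13416) (l := 0) rfl N13416 D43328
theorem N26855 : nd 26855 = n43329 := ndS (p := 13416) (l := 3) rfl N13416 D43329
theorem N26856 : nd 26856 = n43330 := ndS (p := 13416) (l := 5) rfl N13416 D43330
theorem N26857 : nd 26857 = n43334 := ndS (p := 13417) (l := 3) rfl N13417 D43334
theorem N26858 : nd 26858 = n43335 := ndS (p := 13417) (l := 5) rfl N13417 D43335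
theorem N26859 : nd 26859 = n43339 := ndS (p := 13418) (l := 4) rfl N13418 D43339
theorem N26860 : nd 26860 = n43341 := ndS (p := 13419) (l := 1) rfl N13419 D43341
theorem N26861 : nd 26861 = n43342 := ndS (p := 13419) (l := 3) rfl N13419 D43342
theorem N26862 : nd 26862 = n43343 := ndS (p := 13419) (l := 5) rfl N13419 D43343
theorem N26863 : nd 26863 = n43344 := ndS (p := 13419) (l := 7) rfl N13419 D43344
theorem N26864 : nd 26864 = n43345 := ndS (p := 13421) (l := 0) rfl N13421 D43345
theorem N26865 : nd 26865 = n43346 := ndS (p := 13421) (l := 1) rfl N13421 D43346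
theorem N26866 : nd 26866 = n43348 := ndS (p := 13421) (l := 5) rfl N13421 D43348
theorem N26867 : nd 26867 = n43349 := ndS (p := 13422) (l := 6) rfl N13422 D43349
theorem N26868 : nd 26868 = n43350 := ndS (p := 13423) (l := 0) rfl N13423 D43350
theorem N26869 : nd 26869 = n43351 := ndS (p := 13423) (l := 1) rfl N13423 D43351
theorem N26870 : nd 26870 = n43352 := ndS (p := 13423) (l := 2) rfl N13423 D43352
theorem N26871 : nd 26871 = n43353 := ndS (p := 13423) (l := 6) rfl N13423 D43353
theorem N26872 : nd 26872 = n43354 := ndS (p := 13424) (l := 5) rfl N13424 D43354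
theorem N26873 : nd 26873 = n43355 := ndS (p := 13425) (l := 6) rfl N13425 D43355
theorem N26874 : nd 26874 = n43356 := ndS (p := 13426) (l := 5) rfl N13426 D43356
theorem N26875 : nd 26875 = n43357 := ndS (p := 13427) (l := 6) rfl N13427 D43357
theorem N26876 : nd 26876 = n43358 := ndS (p := 13428) (l := 3) rfl N13428 D43358
theorem N26877 : nd 26877 = n43359 := ndS (p := 13428) (l := 6) rfl N13428 D43359
theorem N26878 : nd 26878 = n43360 := ndS (p := 13429) (l := 6) rfl N13429 D43360
theorem N26879 : nd 26879 = n43361 := ndS (p := 13430) (l := 0) rfl N13430 D43361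
theorem N26880 : nd 26880 = n43362 := ndS (p := 13430) (l := 1) rfl N13430 D43362
theorem N26881 : nd 26881 = n43363 := ndS (p := 13431) (l := 3) rfl N13431 D43363
theorem N26882 : nd 26882 = n43364 := ndS (p := 13431) (l := 5) rfl N13431 D43364
theorem N26883 : nd 26883 = n43365 := ndS (p := 13432) (l := 3) rfl N13432 D43365
theorem N26884 : nd 26884 = n43366 := ndS (p := 13432) (l := 5) rfl N13432 D43366
theorem N26885 : nd 26885 = n43367 := ndS (p := 13432) (l := 6) rfl N13432 D43367
theorem N26886 : nd 26886 = n43368 := ndS (p := 13433) (l := 0) rfl N13433 D43368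
theorem N26887 : nd 26887 = n43369 := ndS (p := 13433) (l := 1) rfl N13433 D43369
theorem N26888 : nd 26888 = n43370 := ndS (p := 13433) (l := 4) rfl N13433 D43370
theorem N26889 : nd 26889 = n43372 := ndS (p := 13434) (l := 6) rfl N13434 D43372
theorem N26890 : nd 26890 = n43375 := ndS (p := 13436) (l := 6) rfl N13436 D43375
theorem N26891 : nd 26891 = n43376 := ndS (p := 13437) (l := 6) rfl N13437 D43376
theorem N26892 : nd 26892 = n43377 := ndS (p := 13439) (l := 0) rfl N13439 D43377
theorem N26893 : nd 26893 = n43378 := ndS (p := 13439) (l := 5) rfl N13439 D43378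
theorem N26894 : nd 26894 = n43379 := ndS (p := 13439) (l := 7) rfl N13439 D43379
theorem N26895 : nd 26895 = n43380 := ndS (p := 13440) (l := 1) rfl N13440 D43380
theorem N26896 : nd 26896 = n43381 := ndS (p := 13440) (l := 5) rfl N13440 D43381
theorem N26897 : nd 26897 = n43382 := ndS (p := 13441) (l := 3) rfl N13441 D43382
theorem N26898 : nd 26898 = n43383 := ndS (p := 13441) (l := 5) rfl N13441 D43383
theorem N26899 : nd 26899 = n43384 := ndS (p := 13441) (l := 6) rfl N13441 D43384
theorem N26900 : nd 26900 = n43385 := ndS (p := 13442) (l := 3) rfl N13442 D43385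
theorem N26901 : nd 26901 = n43386 := ndS (p := 13442) (l := 5) rfl N13442 D43386
theorem N26902 : nd 26902 = n43388 := ndS (p := 13443) (l := 0) rfl N13443 D43388
theorem N26903 : nd 26903 = n43389 := ndS (p := 13443) (l := 1) rfl N13443 D43389
theorem N26904 : nd 26904 = n43390 := ndS (p := 13443) (l := 4) rfl N13443 D43390
theorem N26905 : nd 26905 = n43391 := ndS (p := 13443) (l := 7) rfl N13443 D43391
theorem N26906 : nd 26906 = n43392 := ndS (p := 13445) (l := 3) rfl N13445 D43392
theorem N26907 : nd 26907 = n43393 := ndS (p := 13445) (l := 5) rfl N13445 D43393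
theorem N26908 : nd 26908 = n43396 := ndS (p := 13446) (l := 4) rfl N13446 D43396
theorem N26909 : nd 26909 = n43397 := ndS (p := 13446) (l := 6) rfl N13446 D43397
theorem N26910 : nd 26910 = n43398 := ndS (p := 13447) (l := 3) rfl N13447 D43398
theorem N26911 : nd 26911 = n43399 := ndS (p := 13447) (l := 4) rfl N13447 D43399
theorem N26912 : nd 26912 = n43400 := ndS (p := 13447) (l := 6) rfl N13447 D43400
theorem N26913 : nd 26913 = n43401 := ndS (p := 13448) (l := 5) rfl N13448 D43401
theorem N26914 : nd 26914 = n43402 := ndS (p := 13448) (l := 6) rfl N13448 D43402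
theorem N26915 : nd 26915 = n43403 := ndS (p := 13449) (l := 1) rfl N13449 D43403
theorem N26916 : nd 26916 = n43404 := ndS (p := 13449) (l := 4) rfl N13449 D43404
theorem N26917 : nd 26917 = n43405 := ndS (p := 13450) (l := 0) rfl N13450 D43405
theorem N26918 : nd 26918 = n43406 := ndS (p := 13450) (l := 1) rfl N13450 D43406
theorem N26919 : nd 26919 = n43407 := ndS (p := 13450) (l := 5) rfl N13450 D43407
theorem N26920 : nd 26920 = n43408 := ndS (p := 13451) (l := 0) rfl N13451 D43408
theorem N26921 : nd 26921 = n43409 := ndS (p := 13451) (l := 1) rfl N13451 D43409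
theorem N26922 : nd 26922 = n43410 := ndS (p := 13451) (l := 5) rfl N13451 D43410
theorem N26923 : nd 26923 = n43411 := ndS (p := 13451) (l := 7) rfl N13451 D43411
theorem N26924 : nd 26924 = n43412 := ndS (p := 13452) (l := 0) rfl N13452 D43412
theorem N26925 : nd 26925 = n43413 := ndS (p := 13452) (l := 1) rfl N13452 D43413
theorem N26926 : nd 26926 = n43414 := ndS (p := 13452) (l := 4) rfl N13452 D43414
theorem N26927 : nd 26927 = n43415 := ndS (p := 13453) (l := 6) rfl N13453 D43415
theorem N26928 : nd 26928 = n43416 := ndS (p := 13454) (l := 0) rfl N13454 D43416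
theorem N26929 : nd 26929 = n43417 := ndS (p := 13454) (l := 1) rfl N13454 D43417
theorem N26930 : nd 26930 = n43418 := ndS (p := 13454) (l := 7) rfl N13454 D43418
theorem N26931 : nd 26931 = n43419 := ndS (p := 13455) (l := 0) rfl N13455 D43419
theorem N26932 : nd 26932 = n43420 := ndS (p := 13455) (l := 1) rfl N13455 D43420
theorem N26933 : nd 26933 = n43421 := ndS (p := 13455) (l := 4) rfl N13455 D43421
theorem N26934 : nd 26934 = n43422 := ndS (p := 13455) (l := 7) rfl N13455 D43422
theorem N26935 : nd 26935 = n43423 := ndS (p := 13457) (l := 1) rfl N13457 D43423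
theorem N26936 : nd 26936 = n43424 := ndS (p := 13457) (l := 5) rfl N13457 D43424
theorem N26937 : nd 26937 = n43426 := ndS (p := 13458) (l := 3) rfl N13458 D43426
theorem N26938 : nd 26938 = n43427 := ndS (p := 13458) (l := 4) rfl N13458 D43427
theorem N26939 : nd 26939 = n43428 := ndS (p := 13458) (l := 5) rfl N13458 D43428
theorem N26940 : nd 26940 = n43429 := ndS (p := 13458) (l := 6) rfl N13458 D43429
theorem N26941 : nd 26941 = n43432 := ndS (p := 13459) (l := 4) rfl N13459 D43432
theorem N26942 : nd 26942 = n43433 := ndS (p := 13459) (l := 5) rfl N13459 D43433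
theorem N26943 : nd 26943 = n43435 := ndS (p := 13460) (l := 0) rfl N13460 D43435
theorem N26944 : nd 26944 = n43436 := ndS (p := 13460) (l := 1) rfl N13460 D43436
theorem N26945 : nd 26945 = n43437 := ndS (p := 13460) (l := 4) rfl N13460 D43437
theorem N26946 : nd 26946 = n43438 := ndS (p := 13460) (l := 7) rfl N13460 D43438
theorem N26947 : nd 26947 = n43439 := ndS (p := 13462) (l := 0) rfl N13462 D43439
theorem N26948 : nd 26948 = n43441 := ndS (p := 13462) (l := 2) rfl N13462 D43441
theorem N26949 : nd 26949 = n43442 := ndS (p := 13462) (l := 5) rfl N13462 D43442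
theorem N26950 : nd 26950 = n43444 := ndS (p := 13463) (l := 0) rfl N13463 D43444
theorem N26951 : nd 26951 = n43445 := ndS (p := 13463) (l := 1) rfl N13463 D43445
theorem N26952 : nd 26952 = n43446 := ndS (p := 13463) (l := 4) rfl N13463 D43446
theorem N26953 : nd 26953 = n43447 := ndS (p := 13463) (l := 6) rfl N13463 D43447
theorem N26954 : nd 26954 = n43453 := ndS (p := 13464) (l := 1) rfl N13464 D43453
theorem N26955 : nd 26955 = n43454 := ndS (p := 13464) (l := 2) rfl N13464 D43454
theorem N26956 : nd 26956 = n43455 := ndS (p := 13464) (l := 4) rfl N13464 D43455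
theorem N26957 : nd 26957 = n43456 := ndS (p := 13464) (l := 5) rfl N13464 D43456
theorem N26958 : nd 26958 = n43457 := ndS (p := 13464) (l := 6) rfl N13464 D43457
theorem N26959 : nd 26959 = n43458 := ndS (p := 13465) (l := 4) rfl N13465 D43458
theorem N26960 : nd 26960 = n43459 := ndS (p := 13465) (l := 6) rfl N13465 D43459
theorem N26961 : nd 26961 = n43460 := ndS (p := 13466) (l := 5) rfl N13466 D43460
theorem N26962 : nd 26962 = n43462 := ndS (p := 13467) (l := 3) rfl N13467 D43462
theorem N26963 : nd 26963 = n43463 := ndS (p := 13467) (l := 4) rfl N13467 D43463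
theorem N26964 : nd 26964 = n43464 := ndS (p := 13467) (l := 5) rfl N13467 D43464
theorem N26965 : nd 26965 = n43465 := ndS (p := 13467) (l := 6) rfl N13467 D43465
theorem N26966 : nd 26966 = n43467 := ndS (p := 13468) (l := 3) rfl N13468 D43467
theorem N26967 : nd 26967 = n43468 := ndS (p := 13468) (l := 4) rfl N13468 D43468
theorem N26968 : nd 26968 = n43469 := ndS (p := 13468) (l := 5) rfl N13468 D43469
theorem N26969 : nd 26969 = n43470 := ndS (p := 13468) (l := 6) rfl N13468 D43470
theorem N26970 : nd 26970 = n43471 := ndS (p := 13469) (l := 0) rfl N13469 D43471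
theorem N26971 : nd 26971 = n43472 := ndS (p := 13469) (l := 1) rfl N13469 D43472
theorem N26972 : nd 26972 = n43473 := ndS (p := 13469) (l := 3) rfl N13469 D43473
theorem N26973 : nd 26973 = n43474 := ndS (p := 13469) (l := 5) rfl N13469 D43474
theorem N26974 : nd 26974 = n43475 := ndS (p := 13469) (l := 7) rfl N13469 D43475
theorem N26975 : nd 26975 = n43476 := ndS (p := 13470) (l := 6) rfl N13470 D43476
theorem N26976 : nd 26976 = n43477 := ndS (p := 13471) (l := 3) rfl N13471 D43477
theorem N26977 : nd 26977 = n43478 := ndS (p := 13471) (l := 5) rfl N13471 D43478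
theorem N26978 : nd 26978 = n43487 := ndS (p := 13472) (l := 3) rfl N13472 D43487
theorem N26979 : nd 26979 = n43488 := ndS (p := 13472) (l := 5) rfl N13472 D43488
theorem N26980 : nd 26980 = n43489 := ndS (p := 13473) (l := 0) rfl N13473 D43489
theorem N26981 : nd 26981 = n43491 := ndS (p := 13473) (l := 2) rfl N13473 D43491
theorem N26982 : nd 26982 = n43492 := ndS (p := 13473) (l := 5) rfl N13473 D43492
theorem N26983 : nd 26983 = n43494 := ndS (p := 13474) (l := 0) rfl N13474 D43494
theorem N26984 : nd 26984 = n43495 := ndS (p := 13474) (l := 1) rfl N13474 D43495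
theorem N26985 : nd 26985 = n43496 := ndS (p := 13474) (l := 4) rfl N13474 D43496
theorem N26986 : nd 26986 = n43497 := ndS (p := 13474) (l := 6) rfl N13474 D43497
theorem N26987 : nd 26987 = n43516 := ndS (p := 13478) (l := 5) rfl N13478 D43516
theorem N26988 : nd 26988 = n43518 := ndS (p := 13479) (l := 1) rfl N13479 D43518
theorem N26989 : nd 26989 = n43519 := ndS (p := 13479) (l := 2) rfl N13479 D43519
theorem N26990 : nd 26990 = n43520 := ndS (p := 13479) (l := 5) rfl N13479 D43520
theorem N26991 : nd 26991 = n43521 := ndS (p := 13479) (l := 6) rfl N13479 D43521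
theorem N26992 : nd 26992 = n43522 := ndS (p := 13480) (l := 4) rfl N13480 D43522
theorem N26993 : nd 26993 = n43523 := ndS (p := 13480) (l := 6) rfl N13480 D43523
theorem N26994 : nd 26994 = n43524 := ndS (p := 13481) (l := 0) rfl N13481 D43524
theorem N26995 : nd 26995 = n43525 := ndS (p := 13481) (l := 5) rfl N13481 D43525
theorem N26996 : nd 26996 = n43526 := ndS (p := 13482) (l := 3) rfl N13482 D43526
theorem N26997 : nd 26997 = n43527 := ndS (p := 13482) (l := 5) rfl N13482 D43527
theorem N26998 : nd 26998 = n43528 := ndS (p := 13483) (l := 4) rfl N13483 D43528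
theorem N26999 : nd 26999 = n43532 := ndS (p := 13484) (l := 5) rfl N13484 D43532
theorem N27000 : nd 27000 = n43534 := ndS (p := 13485) (l := 0) rfl N13485 D43534
theorem N27001 : nd 27001 = n43536 := ndS (p := 13485) (l := 3) rfl N13485 D43536
theorem N27002 : nd 27002 = n43537 := ndS (p := 13485) (l := 5) rfl N13485 D43537
theorem N27003 : nd 27003 = n43539 := ndS (p := 13486) (l := 4) rfl N13486 D43539
theorem N27004 : nd 27004 = n43542 := ndS (p := 13487) (l := 2) rfl N13487 D43542
theorem N27005 : nd 27005 = n43543 := ndS (p := 13487) (l := 6) rfl N13487 D43543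
theorem N27006 : nd 27006 = n43544 := ndS (p := 13488) (l := 3) rfl N13488 D43544
theorem N27007 : nd 27007 = n43545 := ndS (p := 13488) (l := 5) rfl N13488 D43545
theorem N27008 : nd 27008 = n43546 := ndS (p := 13488) (l := 6) rfl N13488 D43546
theorem N27009 : nd 27009 = n43547 := ndS (p := 13489) (l := 4) rfl N13489 D43547
theorem N27010 : nd 27010 = n43548 := ndS (p := 13491) (l := 3) rfl N13491 D43548
theorem N27011 : nd 27011 = n43549 := ndS (p := 13491) (l := 5) rfl N13491 D43549
theorem N27012 : nd 27012 = n43551 := ndS (p := 13492) (l := 3) rfl N13492 D43551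
theorem N27013 : nd 27013 = n43552 := ndS (p := 13492) (l := 5) rfl N13492 D43552
theorem N27014 : nd 27014 = n43553 := ndS (p := 13492) (l := 6) rfl N13492 D43553
theorem N27015 : nd 27015 = n43554 := ndS (p := 13493) (l := 0) rfl N13493 D43554
theorem N27016 : nd 27016 = n43555 := ndS (p := 13493) (l := 1) rfl N13493 D43555
theorem N27017 : nd 27017 = n43557 := ndS (p := 13493) (l := 5) rfl N13493 D43557
theorem N27018 : nd 27018 = n43560 := ndS (p := 13494) (l := 1) rfl N13494 D43560
theorem N27019 : nd 27019 = n43561 := ndS (p := 13494) (l := 4) rfl N13494 D43561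
theorem N27020 : nd 27020 = n43562 := ndS (p := 13494) (l := 6) rfl N13494 D43562
theorem N27021 : nd 27021 = n43563 := ndS (p := 13494) (l := 7) rfl N13494 D43563
theorem N27022 : nd 27022 = n43569 := ndS (p := 13498) (l := 3) rfl N13498 D43569
theorem N27023 : nd 27023 = n43577 := ndS (p := 13499) (l := 0) rfl N13499 D43577
theorem N27024 : nd 27024 = n43578 := ndS (p := 13499) (l := 1) rfl N13499 D43578
theorem N27025 : nd 27025 = n43579 := ndS (p := 13499) (l := 2) rfl N13499 D43579
theorem N27026 : nd 27026 = n43580 := ndS (p := 13499) (l := 5) rfl N13499 D43580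
theorem N27027 : nd 27027 = n43582 := ndS (p := 13500) (l := 6) rfl N13500 D43582
theorem N27028 : nd 27028 = n43604 := ndS (p := 13501) (l := 0) rfl N13501 D43604
theorem N27029 : nd 27029 = n43605 := ndS (p := 13501) (l := 1) rfl N13501 D43605
theorem N27030 : nd 27030 = n43606 := ndS (p := 13501) (l := 2) rfl N13501 D43606
theorem N27031 : nd 27031 = n43607 := ndS (p := 13501) (l := 4) rfl N13501 D43607
theorem N27032 : nd 27032 = n43608 := ndS (p := 13501) (l := 5) rfl N13501 D43608
theorem N27033 : nd 27033 = n43609 := ndS (p := 13501) (l := 6) rfl N13501 D43609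
theorem N27034 : nd 27034 = n43610 := ndS (p := 13502) (l := 6) rfl N13502 D43610
theorem N27035 : nd 27035 = n43613 := ndS (p := 13503) (l := 5) rfl N13503 D43613
theorem N27036 : nd 27036 = n43615 := ndS (p := 13504) (l := 0) rfl N13504 D43615
theorem N27037 : nd 27037 = n43616 := ndS (p := 13504) (l := 1) rfl N13504 D43616
theorem N27038 : nd 27038 = n43617 := ndS (p := 13504) (l := 2) rfl N13504 D43617
theorem N27039 : nd 27039 = n43618 := ndS (p := 13504) (l := 5) rfl N13504 D43618
theorem N27040 : nd 27040 = n43624 := ndS (p := 13506) (l := 3) rfl N13506 D43624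
theorem N27041 : nd 27041 = n43626 := ndS (p := 13506) (l := 5) rfl N13506 D43626
theorem N27042 : nd 27042 = n43636 := ndS (p := 13507) (l := 4) rfl N13507 D43636
theorem N27043 : nd 27043 = n43637 := ndS (p := 13507) (l := 6) rfl N13507 D43637
theorem N27044 : nd 27044 = n43638 := ndS (p := 13508) (l := 3) rfl N13508 D43638
theorem N27045 : nd 27045 = n43639 := ndS (p := 13508) (l := 6) rfl N13508 D43639
theorem N27046 : nd 27046 = n43640 := ndS (p := 13509) (l := 0) rfl N13509 D43640
theorem N27047 : nd 27047 = n43641 := ndS (p := 13509) (l := 1) rfl N13509 D43641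
theorem N27048 : nd 27048 = n43642 := ndS (p := 13509) (l := 7) rfl N13509 D43642
theorem N27049 : nd 27049 = n43643 := ndS (p := 13510) (l := 6) rfl N13510 D43643
theorem N27050 : nd 27050 = n43646 := ndS (p := 13511) (l := 5) rfl N13511 D43646
theorem N27051 : nd 27051 = n43651 := ndS (p := 13512) (l := 3) rfl N13512 D43651
theorem N27052 : nd 27052 = n43652 := ndS (p := 13512) (l := 5) rfl N13512 D43652
theorem N27053 : nd 27053 = n43654 := ndS (p := 13513) (l := 3) rfl N13513 D43654
theorem N27054 : nd 27054 = n43655 := ndS (p := 13513) (l := 5) rfl N13513 D43655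
theorem N27055 : nd 27055 = n43659 := ndS (p := 13514) (l := 3) rfl N13514 D43659
theorem N27056 : nd 27056 = n43661 := ndS (p := 13514) (l := 5) rfl N13514 D43661
theorem N27057 : nd 27057 = n43662 := ndS (p := 13515) (l := 0) rfl N13515 D43662
theorem N27058 : nd 27058 = n43663 := ndS (p := 13515) (l := 1) rfl N13515 D43663
theorem N27059 : nd 27059 = n43664 := ndS (p := 13515) (l := 4) rfl N13515 D43664
theorem N27060 : nd 27060 = n43665 := ndS (p := 13515) (l := 6) rfl N13515 D43665
theorem N27061 : nd 27061 = n43698 := ndS (p := 13516) (l := 0) rfl N13516 D43698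
theorem N27062 : nd 27062 = n43699 := ndS (p := 13516) (l := 1) rfl N13516 D43699
theorem N27063 : nd 27063 = n43700 := ndS (p := 13516) (l := 4) rfl N13516 D43700
theorem N27064 : nd 27064 = n43701 := ndS (p := 13516) (l := 6) rfl N13516 D43701
theorem N27065 : nd 27065 = n43702 := ndS (p := 13517) (l := 5) rfl N13517 D43702
theorem N27066 : nd 27066 = n43711 := ndS (p := 13518) (l := 4) rfl N13518 D43711
theorem N27067 : nd 27067 = n43734 := ndS (p := 13519) (l := 1) rfl N13519 D43734
theorem N27068 : nd 27068 = n43736 := ndS (p := 13519) (l := 5) rfl N13519 D43736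
theorem N27069 : nd 27069 = n43826 := ndS (p := 13522) (l := 6) rfl N13522 D43826
theorem N27070 : nd 27070 = n43827 := ndS (p := 13523) (l := 0) rfl N13523 D43827
theorem N27071 : nd 27071 = n43829 := ndS (p := 13525) (l := 0) rfl N13525 D43829
theorem N27072 : nd 27072 = n43830 := ndS (p := 13525) (l := 1) rfl N13525 D43830
theorem N27073 : nd 27073 = n43831 := ndS (p := 13525) (l := 2) rfl N13525 D43831
theorem N27074 : nd 27074 = n43832 := ndS (p := 13525) (l := 5) rfl N13525 D43832
theorem N27075 : nd 27075 = n43833 := ndS (p := 13526) (l := 6) rfl N13526 D43833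
theorem N27076 : nd 27076 = n43834 := ndS (p := 13528) (l := 3) rfl N13528 D43834
theorem N27077 : nd 27077 = n43835 := ndS (p := 13528) (l := 4) rfl N13528 D43835
theorem N27078 : nd 27078 = n43836 := ndS (p := 13528) (l := 6) rfl N13528 D43836
theorem N27079 : nd 27079 = n43838 := ndS (p := 13529) (l := 6) rfl N13529 D43838
theorem N27080 : nd 27080 = n43839 := ndS (p := 13530) (l := 0) rfl N13530 D43839
theorem N27081 : nd 27081 = n43840 := ndS (p := 13530) (l := 1) rfl N13530 D43840
theorem N27082 : nd 27082 = n43841 := ndS (p := 13530) (l := 5) rfl N13530 D43841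
theorem N27083 : nd 27083 = n43842 := ndS (p := 13530) (l := 7) rfl N13530 D43842
theorem N27084 : nd 27084 = n43843 := ndS (p := 13531) (l := 5) rfl N13531 D43843
theorem N27085 : nd 27085 = n43844 := ndS (p := 13531) (l := 7) rfl N13531 D43844
theorem N27086 : nd 27086 = n43845 := ndS (p := 13532) (l := 3) rfl N13532 D43845
theorem N27087 : nd 27087 = n43846 := ndS (p := 13532) (l := 5) rfl N13532 D43846
theorem N27088 : nd 27088 = n43847 := ndS (p := 13533) (l := 3) rfl N13533 D43847
theorem N27089 : nd 27089 = n43848 := ndS (p := 13533) (l := 5) rfl N13533 D43848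
theorem N27090 : nd 27090 = n43849 := ndS (p := 13533) (l := 6) rfl N13533 D43849
theorem N27091 : nd 27091 = n43850 := ndS (p := 13534) (l := 0) rfl N13534 D43850
theorem N27092 : nd 27092 = n43851 := ndS (p := 13534) (l := 4) rfl N13534 D43851
theorem N27093 : nd 27093 = n43852 := ndS (p := 13534) (l := 7) rfl N13534 D43852
theorem N27094 : nd 27094 = n43853 := ndS (p := 13536) (l := 3) rfl N13536 D43853
theorem N27095 : nd 27095 = n43854 := ndS (p := 13536) (l := 5) rfl N13536 D43854
theorem N27096 : nd 27096 = n43856 := ndS (p := 13537) (l := 6) rfl N13537 D43856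
theorem N27097 : nd 27097 = n43857 := ndS (p := 13538) (l := 3) rfl N13538 D43857
theorem N27098 : nd 27098 = n43858 := ndS (p := 13538) (l := 5) rfl N13538 D43858
theorem N27099 : nd 27099 = n43859 := ndS (p := 13538) (l := 6) rfl N13538 D43859
theorem N27100 : nd 27100 = n43860 := ndS (p := 13540) (l := 4) rfl N13540 D43860
theorem N27101 : nd 27101 = n43861 := ndS (p := 13540) (l := 6) rfl N13540 D43861
theorem N27102 : nd 27102 = n43862 := ndS (p := 13541) (l := 3) rfl N13541 D43862
theorem N27103 : nd 27103 = n43863 := ndS (p := 13541) (l := 4) rfl N13541 D43863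
theorem N27104 : nd 27104 = n43864 := ndS (p := 13541) (l := 6) rfl N13541 D43864
theorem N27105 : nd 27105 = n43865 := ndS (p := 13542) (l := 0) rfl N13542 D43865
theorem N27106 : nd 27106 = n43866 := ndS (p := 13542) (l := 1) rfl N13542 D43866
theorem N27107 : nd 27107 = n43867 := ndS (p := 13542) (l := 7) rfl N13542 D43867
theorem N27108 : nd 27108 = n43868 := ndS (p := 13543) (l := 0) rfl N13543 D43868
theorem N27109 : nd 27109 = n43869 := ndS (p := 13543) (l := 4) rfl N13543 D43869
theorem N27110 : nd 27110 = n43870 := ndS (p := 13543) (l := 7) rfl N13543 D43870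
theorem N27111 : nd 27111 = n43871 := ndS (p := 13545) (l := 0) rfl N13545 D43871
theorem N27112 : nd 27112 = n43872 := ndS (p := 13545) (l := 1) rfl N13545 D43872
theorem N27113 : nd 27113 = n43873 := ndS (p := 13545) (l := 5) rfl N13545 D43873
theorem N27114 : nd 27114 = n43874 := ndS (p := 13545) (l := 7) rfl N13545 D43874
theorem N27115 : nd 27115 = n43876 := ndS (p := 13546) (l := 1) rfl N13546 D43876
theorem N27116 : nd 27116 = n43877 := ndS (p := 13546) (l := 4) rfl N13546 D43877
theorem N27117 : nd 27117 = n43878 := ndS (p := 13546) (l := 7) rfl N13546 D43878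
theorem N27118 : nd 27118 = n43880 := ndS (p := 13548) (l := 6) rfl N13548 D43880
theorem N27119 : nd 27119 = n43881 := ndS (p := 13549) (l := 1) rfl N13549 D43881
theorem N27120 : nd 27120 = n43882 := ndS (p := 13549) (l := 5) rfl N13549 D43882
theorem N27121 : nd 27121 = n43883 := ndS (p := 13549) (l := 7) rfl N13549 D43883
theorem N27122 : nd 27122 = n43884 := ndS (p := 13550) (l := 4) rfl N13550 D43884
theorem N27123 : nd 27123 = n43885 := ndS (p := 13550) (l := 5) rfl N13550 D43885
theorem N27124 : nd 27124 = n43886 := ndS (p := 13550) (l := 6) rfl N13550 D43886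
theorem N27125 : nd 27125 = n43887 := ndS (p := 13551) (l := 5) rfl N13551 D43887
theorem N27126 : nd 27126 = n43888 := ndS (p := 13552) (l := 0) rfl N13552 D43888
theorem N27127 : nd 27127 = n43889 := ndS (p := 13552) (l := 1) rfl N13552 D43889
theorem N27128 : nd 27128 = n43890 := ndS (p := 13552) (l := 4) rfl N13552 D43890
theorem N27129 : nd 27129 = n43891 := ndS (p := 13552) (l := 7) rfl N13552 D43891
theorem N27130 : nd 27130 = n43892 := ndS (p := 13554) (l := 0) rfl N13554 D43892
theorem N27131 : nd 27131 = n43894 := ndS (p := 13554) (l := 2) rfl N13554 D43894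
theorem N27132 : nd 27132 = n43896 := ndS (p := 13554) (l := 5) rfl N13554 D43896
theorem N27133 : nd 27133 = n43897 := ndS (p := 13554) (l := 6) rfl N13554 D43897
theorem N27134 : nd 27134 = n43898 := ndS (p := 13555) (l := 0) rfl N13555 D43898
theorem N27135 : nd 27135 = n43900 := ndS (p := 13555) (l := 4) rfl N13555 D43900
theorem N27136 : nd 27136 = n43901 := ndS (p := 13555) (l := 6) rfl N13555 D43901
theorem N27137 : nd 27137 = n43904 := ndS (p := 13557) (l := 1) rfl N13557 D43904
theorem N27138 : nd 27138 = n43905 := ndS (p := 13557) (l := 2) rfl N13557 D43905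
theorem N27139 : nd 27139 = n43906 := ndS (p := 13557) (l := 4) rfl N13557 D43906
theorem N27140 : nd 27140 = n43907 := ndS (p := 13557) (l := 5) rfl N13557 D43907
theorem N27141 : nd 27141 = n43908 := ndS (p := 13557) (l := 6) rfl N13557 D43908
theorem N27142 : nd 27142 = n43909 := ndS (p := 13558) (l := 4) rfl N13558 D43909
theorem N27143 : nd 27143 = n43910 := ndS (p := 13558) (l := 6) rfl N13558 D43910
theorem N27144 : nd 27144 = n43911 := ndS (p := 13559) (l := 0) rfl N13559 D43911
theorem N27145 : nd 27145 = n43913 := ndS (p := 13559) (l := 5) rfl N13559 D43913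
theorem N27146 : nd 27146 = n43914 := ndS (p := 13559) (l := 7) rfl N13559 D43914
theorem N27147 : nd 27147 = n43915 := ndS (p := 13560) (l := 3) rfl N13560 D43915
theorem N27148 : nd 27148 = n43916 := ndS (p := 13560) (l := 4) rfl N13560 D43916
theorem N27149 : nd 27149 = n43917 := ndS (p := 13560) (l := 6) rfl N13560 D43917
theorem N27150 : nd 27150 = n43918 := ndS (p := 13561) (l := 3) rfl N13561 D43918
theorem N27151 : nd 27151 = n43919 := ndS (p := 13561) (l := 4) rfl N13561 D43919
theorem N27152 : nd 27152 = n43920 := ndS (p := 13561) (l := 6) rfl N13561 D43920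
theorem N27153 : nd 27153 = n43921 := ndS (p := 13562) (l := 0) rfl N13562 D43921
theorem N27154 : nd 27154 = n43922 := ndS (p := 13562) (l := 1) rfl N13562 D43922
theorem N27155 : nd 27155 = n43923 := ndS (p := 13562) (l := 3) rfl N13562 D43923
theorem N27156 : nd 27156 = n43924 := ndS (p := 13562) (l := 5) rfl N13562 D43924
theorem N27157 : nd 27157 = n43925 := ndS (p := 13562) (l := 7) rfl N13562 D43925
theorem N27158 : nd 27158 = n43926 := ndS (p := 13563) (l := 6) rfl N13563 D43926
theorem N27159 : nd 27159 = n43927 := ndS (p := 13565) (l := 6) rfl N13565 D43927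
theorem N27160 : nd 27160 = n43928 := ndS (p := 13566) (l := 3) rfl N13566 D43928
theorem N27161 : nd 27161 = n43929 := ndS (p := 13566) (l := 5) rfl N13566 D43929
theorem N27162 : nd 27162 = n43935 := ndS (p := 13569) (l := 3) rfl N13569 D43935
theorem N27163 : nd 27163 = n43936 := ndS (p := 13569) (l := 5) rfl N13569 D43936
theorem N27164 : nd 27164 = n43937 := ndS (p := 13570) (l := 0) rfl N13570 D43937
theorem N27165 : nd 27165 = n43939 := ndS (p := 13570) (l := 2) rfl N13570 D43939
theorem N27166 : nd 27166 = n43940 := ndS (p := 13570) (l := 5) rfl N13570 D43940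
theorem N27167 : nd 27167 = n43941 := ndS (p := 13570) (l := 6) rfl N13570 D43941
theorem N27168 : nd 27168 = n43942 := ndS (p := 13571) (l := 0) rfl N13571 D43942
theorem N27169 : nd 27169 = n43943 := ndS (p := 13571) (l := 1) rfl N13571 D43943
theorem N27170 : nd 27170 = n43944 := ndS (p := 13571) (l := 4) rfl N13571 D43944
theorem N27171 : nd 27171 = n43945 := ndS (p := 13571) (l := 6) rfl N13571 D43945
theorem N27172 : nd 27172 = n43946 := ndS (p := 13572) (l := 1) rfl N13572 D43946
theorem N27173 : nd 27173 = n43947 := ndS (p := 13572) (l := 5) rfl N13572 D43947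
theorem N27174 : nd 27174 = n43949 := ndS (p := 13573) (l := 0) rfl N13573 D43949
theorem N27175 : nd 27175 = n43950 := ndS (p := 13573) (l := 3) rfl N13573 D43950
theorem N27176 : nd 27176 = n43951 := ndS (p := 13573) (l := 5) rfl N13573 D43951
theorem N27177 : nd 27177 = n43954 := ndS (p := 13575) (l := 0) rfl N13575 D43954
theorem N27178 : nd 27178 = n43960 := ndS (p := 13576) (l := 2) rfl N13576 D43960
theorem N27179 : nd 27179 = n43961 := ndS (p := 13576) (l := 5) rfl N13576 D43961
theorem N27180 : nd 27180 = n43962 := ndS (p := 13576) (l := 6) rfl N13576 D43962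
theorem N27181 : nd 27181 = n43963 := ndS (p := 13577) (l := 4) rfl N13577 D43963
theorem N27182 : nd 27182 = n43964 := ndS (p := 13577) (l := 6) rfl N13577 D43964
theorem N27183 : nd 27183 = n43965 := ndS (p := 13578) (l := 0) rfl N13578 D43965
theorem N27184 : nd 27184 = n43967 := ndS (p := 13578) (l := 5) rfl N13578 D43967
theorem N27185 : nd 27185 = n43968 := ndS (p := 13578) (l := 7) rfl N13578 D43968
theorem N27186 : nd 27186 = n43969 := ndS (p := 13579) (l := 3) rfl N13579 D43969
theorem N27187 : nd 27187 = n43970 := ndS (p := 13579) (l := 5) rfl N13579 D43970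
theorem N27188 : nd 27188 = n43988 := ndS (p := 13582) (l := 3) rfl N13582 D43988
theorem N27189 : nd 27189 = n43989 := ndS (p := 13582) (l := 5) rfl N13582 D43989
theorem N27190 : nd 27190 = n43990 := ndS (p := 13583) (l := 3) rfl N13583 D43990
theorem N27191 : nd 27191 = n43991 := ndS (p := 13583) (l := 5) rfl N13583 D43991
theorem N27192 : nd 27192 = n43992 := ndS (p := 13583) (l := 6) rfl N13583 D43992
theorem N27193 : nd 27193 = n43995 := ndS (p := 13585) (l := 3) rfl N13585 D43995
theorem N27194 : nd 27194 = n43997 := ndS (p := 13586) (l := 0) rfl N13586 D43997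
theorem N27195 : nd 27195 = n43998 := ndS (p := 13586) (l := 4) rfl N13586 D43998
theorem N27196 : nd 27196 = n43999 := ndS (p := 13586) (l := 6) rfl N13586 D43999
theorem N27197 : nd 27197 = n44000 := ndS (p := 13587) (l := 0) rfl N13587 D44000
theorem N27198 : nd 27198 = n44001 := ndS (p := 13587) (l := 5) rfl N13587 D44001
theorem N27199 : nd 27199 = n44003 := ndS (p := 13588) (l := 3) rfl N13588 D44003
theorem N27200 : nd 27200 = n44004 := ndS (p := 13588) (l := 4) rfl N13588 D44004
theorem N27201 : nd 27201 = n44005 := ndS (p := 13589) (l := 4) rfl N13589 D44005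
theorem N27202 : nd 27202 = n44006 := ndS (p := 13590) (l := 5) rfl N13590 D44006
theorem N27203 : nd 27203 = n44011 := ndS (p := 13595) (l := 3) rfl N13595 D44011
theorem N27204 : nd 27204 = n44012 := ndS (p := 13595) (l := 4) rfl N13595 D44012
theorem N27205 : nd 27205 = n44013 := ndS (p := 13595) (l := 6) rfl N13595 D44013
theorem N27206 : nd 27206 = n44014 := ndS (p := 13596) (l := 0) rfl N13596 D44014
theorem N27207 : nd 27207 = n44015 := ndS (p := 13596) (l := 1) rfl N13596 D44015
theorem N27208 : nd 27208 = n44016 := ndS (p := 13596) (l := 5) rfl N13596 D44016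
theorem N27209 : nd 27209 = n44045 := ndS (p := 13598) (l := 4) rfl N13598 D44045
theorem N27210 : nd 27210 = n44046 := ndS (p := 13598) (l := 6) rfl N13598 D44046
theorem N27211 : nd 27211 = n44047 := ndS (p := 13599) (l := 3) rfl N13599 D44047
theorem N27212 : nd 27212 = n44048 := ndS (p := 13599) (l := 6) rfl N13599 D44048
theorem N27213 : nd 27213 = n44049 := ndS (p := 13600) (l := 6) rfl N13600 D44049
theorem N27214 : nd 27214 = n44050 := ndS (p := 13601) (l := 0) rfl N13601 D44050
theorem N27215 : nd 27215 = n44051 := ndS (p := 13601) (l := 1) rfl N13601 D44051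
theorem N27216 : nd 27216 = n44052 := ndS (p := 13601) (l := 5) rfl N13601 D44052
theorem N27217 : nd 27217 = n44053 := ndS (p := 13601) (l := 7) rfl N13601 D44053
theorem N27218 : nd 27218 = n44054 := ndS (p := 13602) (l := 0) rfl N13602 D44054
theorem N27219 : nd 27219 = n44055 := ndS (p := 13602) (l := 1) rfl N13602 D44055
theorem N27220 : nd 27220 = n44056 := ndS (p := 13602) (l := 4) rfl N13602 D44056
theorem N27221 : nd 27221 = n44057 := ndS (p := 13602) (l := 7) rfl N13602 D44057
theorem N27222 : nd 27222 = n44058 := ndS (p := 13604) (l := 3) rfl N13604 D44058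
theorem N27223 : nd 27223 = n44059 := ndS (p := 13604) (l := 6) rfl N13604 D44059
theorem N27224 : nd 27224 = n44060 := ndS (p := 13605) (l := 6) rfl N13605 D44060
theorem N27225 : nd 27225 = n44061 := ndS (p := 13606) (l := 0) rfl N13606 D44061
theorem N27226 : nd 27226 = n44062 := ndS (p := 13606) (l := 1) rfl N13606 D44062
theorem N27227 : nd 27227 = n44063 := ndS (p := 13606) (l := 7) rfl N13606 D44063
theorem N27228 : nd 27228 = n44064 := ndS (p := 13607) (l := 1) rfl N13607 D44064
theorem N27229 : nd 27229 = n44065 := ndS (p := 13607) (l := 4) rfl N13607 D44065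
theorem N27230 : nd 27230 = n44066 := ndS (p := 13607) (l := 7) rfl N13607 D44066
theorem N27231 : nd 27231 = n44067 := ndS (p := 13609) (l := 4) rfl N13609 D44067
theorem N27232 : nd 27232 = n44068 := ndS (p := 13609) (l := 5) rfl N13609 D44068
theorem N27233 : nd 27233 = n44069 := ndS (p := 13609) (l := 6) rfl N13609 D44069
theorem N27234 : nd 27234 = n44070 := ndS (p := 13610) (l := 5) rfl N13610 D44070
theorem N27235 : nd 27235 = n44071 := ndS (p := 13610) (l := 6) rfl N13610 D44071
theorem N27236 : nd 27236 = n44072 := ndS (p := 13611) (l := 0) rfl N13611 D44072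
theorem N27237 : nd 27237 = n44073 := ndS (p := 13611) (l := 1) rfl N13611 D44073
theorem N27238 : nd 27238 = n44074 := ndS (p := 13611) (l := 4) rfl N13611 D44074
theorem N27239 : nd 27239 = n44075 := ndS (p := 13611) (l := 7) rfl N13611 D44075
theorem N27240 : nd 27240 = n44076 := ndS (p := 13613) (l := 0) rfl N13613 D44076
theorem N27241 : nd 27241 = n44078 := ndS (p := 13613) (l := 2) rfl N13613 D44078
theorem N27242 : nd 27242 = n44079 := ndS (p := 13613) (l := 5) rfl N13613 D44079
theorem N27243 : nd 27243 = n44080 := ndS (p := 13613) (l := 6) rfl N13613 D44080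
theorem N27244 : nd 27244 = n44084 := ndS (p := 13614) (l := 6) rfl N13614 D44084
theorem N27245 : nd 27245 = n44087 := ndS (p := 13616) (l := 1) rfl N13616 D44087
theorem N27246 : nd 27246 = n44088 := ndS (p := 13616) (l := 2) rfl N13616 D44088
theorem N27247 : nd 27247 = n44090 := ndS (p := 13616) (l := 5) rfl N13616 D44090
theorem N27248 : nd 27248 = n44091 := ndS (p := 13616) (l := 6) rfl N13616 D44091
theorem N27249 : nd 27249 = n44093 := ndS (p := 13617) (l := 6) rfl N13617 D44093
theorem N27250 : nd 27250 = n44094 := ndS (p := 13618) (l := 7) rfl N13618 D44094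
theorem N27251 : nd 27251 = n44095 := ndS (p := 13619) (l := 3) rfl N13619 D44095
theorem N27252 : nd 27252 = n44096 := ndS (p := 13619) (l := 4) rfl N13619 D44096
theorem N27253 : nd 27253 = n44097 := ndS (p := 13619) (l := 6) rfl N13619 D44097
theorem N27254 : nd 27254 = n44098 := ndS (p := 13620) (l := 3) rfl N13620 D44098
theorem N27255 : nd 27255 = n44099 := ndS (p := 13620) (l := 4) rfl N13620 D44099
theorem N27256 : nd 27256 = n44100 := ndS (p := 13620) (l := 6) rfl N13620 D44100
theorem N27257 : nd 27257 = n44101 := ndS (p := 13621) (l := 0) rfl N13621 D44101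
theorem N27258 : nd 27258 = n44102 := ndS (p := 13621) (l := 1) rfl N13621 D44102
theorem N27259 : nd 27259 = n44103 := ndS (p := 13621) (l := 3) rfl N13621 D44103
theorem N27260 : nd 27260 = n44114 := ndS (p := 13622) (l := 1) rfl N13622 D44114
theorem N27261 : nd 27261 = n44117 := ndS (p := 13623) (l := 0) rfl N13623 D44117
theorem N27262 : nd 27262 = n44119 := ndS (p := 13623) (l := 2) rfl N13623 D44119
theorem N27263 : nd 27263 = n44120 := ndS (p := 13623) (l := 5) rfl N13623 D44120
theorem N27264 : nd 27264 = n44121 := ndS (p := 13623) (l := 6) rfl N13623 D44121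
theorem N27265 : nd 27265 = n44125 := ndS (p := 13624) (l := 6) rfl N13624 D44125
theorem N27266 : nd 27266 = n44126 := ndS (p := 13625) (l := 1) rfl N13625 D44126
theorem N27267 : nd 27267 = n44127 := ndS (p := 13625) (l := 5) rfl N13625 D44127
theorem N27268 : nd 27268 = n44139 := ndS (p := 13627) (l := 1) rfl N13627 D44139
theorem N27269 : nd 27269 = n44140 := ndS (p := 13627) (l := 2) rfl N13627 D44140
theorem N27270 : nd 27270 = n44141 := ndS (p := 13627) (l := 5) rfl N13627 D44141
theorem N27271 : nd 27271 = n44142 := ndS (p := 13627) (l := 6) rfl N13627 D44142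
theorem N27272 : nd 27272 = n44144 := ndS (p := 13628) (l := 6) rfl N13628 D44144
theorem N27273 : nd 27273 = n44145 := ndS (p := 13629) (l := 0) rfl N13629 D44145
theorem N27274 : nd 27274 = n44146 := ndS (p := 13629) (l := 5) rfl N13629 D44146
theorem N27275 : nd 27275 = n44292 := ndS (p := 13630) (l := 0) rfl N13630 D44292
theorem N27276 : nd 27276 = n44294 := ndS (p := 13630) (l := 4) rfl N13630 D44294
theorem N27277 : nd 27277 = n44295 := ndS (p := 13630) (l := 6) rfl N13630 D44295
theorem N27278 : nd 27278 = n44296 := ndS (p := 13631) (l := 5) rfl N13631 D44296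
theorem N27279 : nd 27279 = n44474 := ndS (p := 13632) (l := 3) rfl N13632 D44474
theorem N27280 : nd 27280 = n44479 := ndS (p := 13633) (l := 3) rfl N13633 D44479
theorem N27281 : nd 27281 = n44485 := ndS (p := 13634) (l := 3) rfl N13634 D44485
theorem N27282 : nd 27282 = n44486 := ndS (p := 13634) (l := 6) rfl N13634 D44486
theorem N27283 : nd 27283 = n44501 := ndS (p := 13636) (l := 0) rfl N13636 D44501
theorem N27284 : nd 27284 = n44502 := ndS (p := 13636) (l := 1) rfl N13636 D44502
theorem N27285 : nd 27285 = n44503 := ndS (p := 13636) (l := 4) rfl N13636 D44503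
theorem N27286 : nd 27286 = n44505 := ndS (p := 13637) (l := 4) rfl N13637 D44505
theorem N27287 : nd 27287 = n44506 := ndS (p := 13638) (l := 4) rfl N13638 D44506
theorem N27288 : nd 27288 = n44507 := ndS (p := 13638) (l := 6) rfl N13638 D44507
theorem N27289 : nd 27289 = n44508 := ndS (p := 13640) (l := 4) rfl N13640 D44508
theorem N27290 : nd 27290 = n44509 := ndS (p := 13640) (l := 6) rfl N13640 D44509
theorem N27291 : nd 27291 = n44510 := ndS (p := 13641) (l := 4) rfl N13641 D44510
theorem N27292 : nd 27292 = n44511 := ndS (p := 13641) (l := 6) rfl N13641 D44511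
theorem N27293 : nd 27293 = n44512 := ndS (p := 13642) (l := 3) rfl N13642 D44512
theorem N27294 : nd 27294 = n44513 := ndS (p := 13642) (l := 5) rfl N13642 D44513
theorem N27295 : nd 27295 = n44514 := ndS (p := 13643) (l := 6) rfl N13643 D44514
theorem N27296 : nd 27296 = n44515 := ndS (p := 13644) (l := 5) rfl N13644 D44515
theorem N27297 : nd 27297 = n44516 := ndS (p := 13644) (l := 7) rfl N13644 D44516
theorem N27298 : nd 27298 = n44517 := ndS (p := 13645) (l := 6) rfl N13645 D44517
theorem N27299 : nd 27299 = n44518 := ndS (p := 13646) (l := 3) rfl N13646 D44518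
theorem N27300 : nd 27300 = n44519 := ndS (p := 13646) (l := 5) rfl N13646 D44519
theorem N27301 : nd 27301 = n44520 := ndS (p := 13646) (l := 6) rfl N13646 D44520
theorem N27302 : nd 27302 = n44521 := ndS (p := 13647) (l := 5) rfl N13647 D44521
theorem N27303 : nd 27303 = n44522 := ndS (p := 13647) (l := 6) rfl N13647 D44522
theorem N27304 : nd 27304 = n44523 := ndS (p := 13648) (l := 6) rfl N13648 D44523
theorem N27305 : nd 27305 = n44524 := ndS (p := 13649) (l := 0) rfl N13649 D44524
theorem N27306 : nd 27306 = n44525 := ndS (p := 13649) (l := 1) rfl N13649 D44525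
theorem N27307 : nd 27307 = n44526 := ndS (p := 13649) (l := 5) rfl N13649 D44526
theorem N27308 : nd 27308 = n44527 := ndS (p := 13649) (l := 7) rfl N13649 D44527
theorem N27309 : nd 27309 = n44528 := ndS (p := 13650) (l := 3) rfl N13650 D44528
theorem N27310 : nd 27310 = n44529 := ndS (p := 13650) (l := 6) rfl N13650 D44529
theorem N27311 : nd 27311 = n44530 := ndS (p := 13651) (l := 0) rfl N13651 D44530
theorem N27312 : nd 27312 = n44531 := ndS (p := 13651) (l := 1) rfl N13651 D44531
theorem N27313 : nd 27313 = n44532 := ndS (p := 13651) (l := 5) rfl N13651 D44532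
theorem N27314 : nd 27314 = n44533 := ndS (p := 13651) (l := 7) rfl N13651 D44533
theorem N27315 : nd 27315 = n44534 := ndS (p := 13652) (l := 3) rfl N13652 D44534
theorem N27316 : nd 27316 = n44535 := ndS (p := 13652) (l := 5) rfl N13652 D44535
theorem N27317 : nd 27317 = n44536 := ndS (p := 13652) (l := 6) rfl N13652 D44536
theorem N27318 : nd 27318 = n44537 := ndS (p := 13653) (l := 3) rfl N13653 D44537
theorem N27319 : nd 27319 = n44538 := ndS (p := 13653) (l := 5) rfl N13653 D44538
theorem N27320 : nd 27320 = n44540 := ndS (p := 13654) (l := 0) rfl N13654 D44540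
theorem N27321 : nd 27321 = n44541 := ndS (p := 13654) (l := 1) rfl N13654 D44541
theorem N27322 : nd 27322 = n44542 := ndS (p := 13654) (l := 4) rfl N13654 D44542
theorem N27323 : nd 27323 = n44543 := ndS (p := 13654) (l := 7) rfl N13654 D44543
theorem N27324 : nd 27324 = n44544 := ndS (p := 13656) (l := 3) rfl N13656 D44544
theorem N27325 : nd 27325 = n44545 := ndS (p := 13656) (l := 5) rfl N13656 D44545
theorem N27326 : nd 27326 = n44546 := ndS (p := 13656) (l := 6) rfl N13656 D44546
theorem N27327 : nd 27327 = n44549 := ndS (p := 13658) (l := 4) rfl N13658 D44549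
theorem N27328 : nd 27328 = n44551 := ndS (p := 13659) (l := 0) rfl N13659 D44551
theorem N27329 : nd 27329 = n44553 := ndS (p := 13659) (l := 3) rfl N13659 D44553
theorem N27330 : nd 27330 = n44554 := ndS (p := 13659) (l := 5) rfl N13659 D44554
theorem N27331 : nd 27331 = n44556 := ndS (p := 13660) (l := 3) rfl N13660 D44556
theorem N27332 : nd 27332 = n44559 := ndS (p := 13661) (l := 3) rfl N13661 D44559
theorem N27333 : nd 27333 = n44562 := ndS (p := 13662) (l := 0) rfl N13662 D44562
theorem N27334 : nd 27334 = n44563 := ndS (p := 13662) (l := 1) rfl N13662 D44563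
theorem N27335 : nd 27335 = n44564 := ndS (p := 13662) (l := 2) rfl N13662 D44564
theorem N27336 : nd 27336 = n44565 := ndS (p := 13662) (l := 5) rfl N13662 D44565
theorem N27337 : nd 27337 = n44566 := ndS (p := 13663) (l := 0) rfl N13663 D44566
theorem N27338 : nd 27338 = n44567 := ndS (p := 13663) (l := 1) rfl N13663 D44567
theorem N27339 : nd 27339 = n44568 := ndS (p := 13663) (l := 4) rfl N13663 D44568
theorem N27340 : nd 27340 = n44569 := ndS (p := 13663) (l := 6) rfl N13663 D44569
theorem N27341 : nd 27341 = n44573 := ndS (p := 13664) (l := 0) rfl N13664 D44573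
theorem N27342 : nd 27342 = n44574 := ndS (p := 13664) (l := 1) rfl N13664 D44574
theorem N27343 : nd 27343 = n44575 := ndS (p := 13664) (l := 2) rfl N13664 D44575
theorem N27344 : nd 27344 = n44576 := ndS (p := 13664) (l := 5) rfl N13664 D44576
theorem N27345 : nd 27345 = n44577 := ndS (p := 13664) (l := 6) rfl N13664 D44577
theorem N27346 : nd 27346 = n44579 := ndS (p := 13666) (l := 5) rfl N13666 D44579
theorem N27347 : nd 27347 = n44586 := ndS (p := 13667) (l := 3) rfl N13667 D44586
theorem N27348 : nd 27348 = n44590 := ndS (p := 13669) (l := 5) rfl N13669 D44590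
theorem N27349 : nd 27349 = n44591 := ndS (p := 13669) (l := 6) rfl N13669 D44591
theorem N27350 : nd 27350 = n44592 := ndS (p := 13670) (l := 5) rfl N13670 D44592
theorem N27351 : nd 27351 = n44593 := ndS (p := 13670) (l := 6) rfl N13670 D44593
theorem N27352 : nd 27352 = n44594 := ndS (p := 13671) (l := 0) rfl N13671 D44594
theorem N27353 : nd 27353 = n44596 := ndS (p := 13671) (l := 6) rfl N13671 D44596
theorem N27354 : nd 27354 = n44597 := ndS (p := 13672) (l := 0) rfl N13672 D44597
theorem N27355 : nd 27355 = n44598 := ndS (p := 13672) (l := 5) rfl N13672 D44598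
theorem N27356 : nd 27356 = n44599 := ndS (p := 13673) (l := 0) rfl N13673 D44599
theorem N27357 : nd 27357 = n44600 := ndS (p := 13673) (l := 1) rfl N13673 D44600
theorem N27358 : nd 27358 = n44601 := ndS (p := 13673) (l := 5) rfl N13673 D44601
theorem N27359 : nd 27359 = n44602 := ndS (p := 13673) (l := 7) rfl N13673 D44602
theorem N27360 : nd 27360 = n44603 := ndS (p := 13674) (l := 5) rfl N13674 D44603
theorem N27361 : nd 27361 = n44604 := ndS (p := 13674) (l := 6) rfl N13674 D44604
theorem N27362 : nd 27362 = n44605 := ndS (p := 13675) (l := 0) rfl N13675 D44605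
theorem N27363 : nd 27363 = n44606 := ndS (p := 13675) (l := 1) rfl N13675 D44606
theorem N27364 : nd 27364 = n44607 := ndS (p := 13675) (l := 4) rfl N13675 D44607
theorem N27365 : nd 27365 = n44609 := ndS (p := 13676) (l := 4) rfl N13676 D44609
theorem N27366 : nd 27366 = n44610 := ndS (p := 13676) (l := 5) rfl N13676 D44610
theorem N27367 : nd 27367 = n44611 := ndS (p := 13676) (l := 6) rfl N13676 D44611
theorem N27368 : nd 27368 = n44612 := ndS (p := 13677) (l := 0) rfl N13677 D44612
theorem N27369 : nd 27369 = n44613 := ndS (p := 13677) (l := 6) rfl N13677 D44613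
theorem N27370 : nd 27370 = n44614 := ndS (p := 13678) (l := 0) rfl N13678 D44614
theorem N27371 : nd 27371 = n44615 := ndS (p := 13678) (l := 1) rfl N13678 D44615
theorem N27372 : nd 27372 = n44616 := ndS (p := 13678) (l := 5) rfl N13678 D44616
theorem N27373 : nd 27373 = n44617 := ndS (p := 13678) (l := 7) rfl N13678 D44617
theorem N27374 : nd 27374 = n44618 := ndS (p := 13679) (l := 0) rfl N13679 D44618
theorem N27375 : nd 27375 = n44619 := ndS (p := 13679) (l := 1) rfl N13679 D44619
theorem N27376 : nd 27376 = n44620 := ndS (p := 13679) (l := 5) rfl N13679 D44620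
theorem N27377 : nd 27377 = n44621 := ndS (p := 13679) (l := 7) rfl N13679 D44621
theorem N27378 : nd 27378 = n44622 := ndS (p := 13680) (l := 3) rfl N13680 D44622
theorem N27379 : nd 27379 = n44623 := ndS (p := 13680) (l := 5) rfl N13680 D44623
theorem N27380 : nd 27380 = n44625 := ndS (p := 13681) (l := 0) rfl N13681 D44625
theorem N27381 : nd 27381 = n44626 := ndS (p := 13681) (l := 1) rfl N13681 D44626
theorem N27382 : nd 27382 = n44627 := ndS (p := 13681) (l := 4) rfl N13681 D44627
theorem N27383 : nd 27383 = n44628 := ndS (p := 13681) (l := 7) rfl N13681 D44628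
theorem N27384 : nd 27384 = n44629 := ndS (p := 13683) (l := 0) rfl N13683 D44629
theorem N27385 : nd 27385 = n44630 := ndS (p := 13683) (l := 3) rfl N13683 D44630
theorem N27386 : nd 27386 = n44631 := ndS (p := 13683) (l := 5) rfl N13683 D44631
theorem N27387 : nd 27387 = n44634 := ndS (p := 13684) (l := 5) rfl N13684 D44634
theorem N27388 : nd 27388 = n44635 := ndS (p := 13685) (l := 6) rfl N13685 D44635
theorem N27389 : nd 27389 = n44636 := ndS (p := 13686) (l := 5) rfl N13686 D44636
theorem N27390 : nd 27390 = n44637 := ndS (p := 13687) (l := 6) rfl N13687 D44637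
theorem N27391 : nd 27391 = n44638 := ndS (p := 13688) (l := 3) rfl N13688 D44638
theorem N27392 : nd 27392 = n44639 := ndS (p := 13688) (l := 6) rfl N13688 D44639
theorem N27393 : nd 27393 = n44640 := ndS (p := 13689) (l := 6) rfl N13689 D44640
theorem N27394 : nd 27394 = n44641 := ndS (p := 13690) (l := 0) rfl N13690 D44641
theorem N27395 : nd 27395 = n44642 := ndS (p := 13690) (l := 1) rfl N13690 D44642
theorem N27396 : nd 27396 = n44643 := ndS (p := 13690) (l := 5) rfl N13690 D44643
theorem N27397 : nd 27397 = n44644 := ndS (p := 13691) (l := 3) rfl N13691 D44644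
theorem N27398 : nd 27398 = n44645 := ndS (p := 13691) (l := 6) rfl N13691 D44645
theorem N27399 : nd 27399 = n44646 := ndS (p := 13692) (l := 3) rfl N13692 D44646
theorem N27400 : nd 27400 = n44647 := ndS (p := 13692) (l := 6) rfl N13692 D44647
theorem N27401 : nd 27401 = n44648 := ndS (p := 13693) (l := 0) rfl N13693 D44648
theorem N27402 : nd 27402 = n44649 := ndS (p := 13693) (l := 1) rfl N13693 D44649
theorem N27403 : nd 27403 = n44650 := ndS (p := 13693) (l := 5) rfl N13693 D44650
theorem N27404 : nd 27404 = n44651 := ndS (p := 13693) (l := 7) rfl N13693 D44651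
theorem N27405 : nd 27405 = n44652 := ndS (p := 13694) (l := 3) rfl N13694 D44652
theorem N27406 : nd 27406 = n44653 := ndS (p := 13694) (l := 5) rfl N13694 D44653
theorem N27407 : nd 27407 = n44654 := ndS (p := 13694) (l := 6) rfl N13694 D44654
theorem N27408 : nd 27408 = n44655 := ndS (p := 13695) (l := 3) rfl N13695 D44655
theorem N27409 : nd 27409 = n44656 := ndS (p := 13695) (l := 5) rfl N13695 D44656
theorem N27410 : nd 27410 = n44658 := ndS (p := 13696) (l := 0) rfl N13696 D44658
theorem N27411 : nd 27411 = n44659 := ndS (p := 13696) (l := 1) rfl N13696 D44659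
theorem N27412 : nd 27412 = n44660 := ndS (p := 13696) (l := 4) rfl N13696 D44660
theorem N27413 : nd 27413 = n44661 := ndS (p := 13697) (l := 0) rfl N13697 D44661
theorem N27414 : nd 27414 = n44662 := ndS (p := 13697) (l := 1) rfl N13697 D44662
theorem N27415 : nd 27415 = n44663 := ndS (p := 13697) (l := 6) rfl N13697 D44663
theorem N27416 : nd 27416 = n44665 := ndS (p := 13699) (l := 5) rfl N13699 D44665
theorem N27417 : nd 27417 = n44666 := ndS (p := 13699) (l := 6) rfl N13699 D44666
theorem N27418 : nd 27418 = n44673 := ndS (p := 13702) (l := 6) rfl N13702 D44673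
theorem N27419 : nd 27419 = n44674 := ndS (p := 13703) (l := 5) rfl N13703 D44674
theorem N27420 : nd 27420 = n44675 := ndS (p := 13703) (l := 6) rfl N13703 D44675
theorem N27421 : nd 27421 = n44676 := ndS (p := 13704) (l := 0) rfl N13704 D44676
theorem N27422 : nd 27422 = n44677 := ndS (p := 13704) (l := 4) rfl N13704 D44677
theorem N27423 : nd 27423 = n44678 := ndS (p := 13704) (l := 6) rfl N13704 D44678
theorem N27424 : nd 27424 = n44679 := ndS (p := 13705) (l := 0) rfl N13705 D44679
theorem N27425 : nd 27425 = n44680 := ndS (p := 13705) (l := 5) rfl N13705 D44680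
theorem N27426 : nd 27426 = n44681 := ndS (p := 13705) (l := 7) rfl N13705 D44681
theorem N27427 : nd 27427 = n44682 := ndS (p := 13706) (l := 0) rfl N13706 D44682
theorem N27428 : nd 27428 = n44683 := ndS (p := 13706) (l := 1) rfl N13706 D44683
theorem N27429 : nd 27429 = n44684 := ndS (p := 13706) (l := 5) rfl N13706 D44684
theorem N27430 : nd 27430 = n44685 := ndS (p := 13706) (l := 7) rfl N13706 D44685
theorem N27431 : nd 27431 = n44686 := ndS (p := 13707) (l := 3) rfl N13707 D44686
theorem N27432 : nd 27432 = n44687 := ndS (p := 13707) (l := 5) rfl N13707 D44687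
theorem N27433 : nd 27433 = n44688 := ndS (p := 13707) (l := 6) rfl N13707 D44688
theorem N27434 : nd 27434 = n44689 := ndS (p := 13708) (l := 3) rfl N13708 D44689
theorem N27435 : nd 27435 = n44690 := ndS (p := 13708) (l := 5) rfl N13708 D44690
theorem N27436 : nd 27436 = n44691 := ndS (p := 13708) (l := 6) rfl N13708 D44691
theorem N27437 : nd 27437 = n44692 := ndS (p := 13709) (l := 0) rfl N13709 D44692
theorem N27438 : nd 27438 = n44693 := ndS (p := 13709) (l := 1) rfl N13709 D44693
theorem N27439 : nd 27439 = n44694 := ndS (p := 13709) (l := 4) rfl N13709 D44694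
theorem N27440 : nd 27440 = n44695 := ndS (p := 13709) (l := 7) rfl N13709 D44695
theorem N27441 : nd 27441 = n44696 := ndS (p := 13711) (l := 3) rfl N13711 D44696
theorem N27442 : nd 27442 = n44697 := ndS (p := 13711) (l := 5) rfl N13711 D44697
theorem N27443 : nd 27443 = n44707 := ndS (p := 13712) (l := 4) rfl N13712 D44707
theorem N27444 : nd 27444 = n44708 := ndS (p := 13712) (l := 5) rfl N13712 D44708
theorem N27445 : nd 27445 = n44709 := ndS (p := 13712) (l := 6) rfl N13712 D44709
theorem N27446 : nd 27446 = n44710 := ndS (p := 13713) (l := 3) rfl N13713 D44710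
theorem N27447 : nd 27447 = n44711 := ndS (p := 13713) (l := 4) rfl N13713 D44711
theorem N27448 : nd 27448 = n44712 := ndS (p := 13713) (l := 5) rfl N13713 D44712
theorem N27449 : nd 27449 = n44713 := ndS (p := 13713) (l := 6) rfl N13713 D44713
theorem N27450 : nd 27450 = n44714 := ndS (p := 13714) (l := 5) rfl N13714 D44714
theorem N27451 : nd 27451 = n44715 := ndS (p := 13714) (l := 6) rfl N13714 D44715
theorem N27452 : nd 27452 = n44716 := ndS (p := 13715) (l := 0) rfl N13715 D44716
theorem N27453 : nd 27453 = n44717 := ndS (p := 13715) (l := 1) rfl N13715 D44717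
theorem N27454 : nd 27454 = n44718 := ndS (p := 13715) (l := 4) rfl N13715 D44718
theorem N27455 : nd 27455 = n44719 := ndS (p := 13715) (l := 6) rfl N13715 D44719
theorem N27456 : nd 27456 = n44720 := ndS (p := 13716) (l := 0) rfl N13716 D44720
theorem N27457 : nd 27457 = n44721 := ndS (p := 13716) (l := 1) rfl N13716 D44721
theorem N27458 : nd 27458 = n44722 := ndS (p := 13716) (l := 5) rfl N13716 D44722
theorem N27459 : nd 27459 = n44723 := ndS (p := 13717) (l := 0) rfl N13717 D44723
theorem N27460 : nd 27460 = n44724 := ndS (p := 13717) (l := 1) rfl N13717 D44724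
theorem N27461 : nd 27461 = n44725 := ndS (p := 13717) (l := 5) rfl N13717 D44725
theorem N27462 : nd 27462 = n44726 := ndS (p := 13717) (l := 7) rfl N13717 D44726
theorem N27463 : nd 27463 = n44727 := ndS (p := 13718) (l := 0) rfl N13718 D44727
theorem N27464 : nd 27464 = n44728 := ndS (p := 13718) (l := 4) rfl N13718 D44728
theorem N27465 : nd 27465 = n44729 := ndS (p := 13719) (l := 3) rfl N13719 D44729
theorem N27466 : nd 27466 = n44730 := ndS (p := 13719) (l := 6) rfl N13719 D44730
theorem N27467 : nd 27467 = n44731 := ndS (p := 13720) (l := 5) rfl N13720 D44731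
theorem N27468 : nd 27468 = n44732 := ndS (p := 13720) (l := 6) rfl N13720 D44732
theorem N27469 : nd 27469 = n44733 := ndS (p := 13721) (l := 5) rfl N13721 D44733
theorem N27470 : nd 27470 = n44734 := ndS (p := 13721) (l := 6) rfl N13721 D44734
theorem N27471 : nd 27471 = n44735 := ndS (p := 13722) (l := 0) rfl N13722 D44735
theorem N27472 : nd 27472 = n44736 := ndS (p := 13722) (l := 1) rfl N13722 D44736
theorem N27473 : nd 27473 = n44737 := ndS (p := 13722) (l := 6) rfl N13722 D44737
theorem N27474 : nd 27474 = n44738 := ndS (p := 13723) (l := 0) rfl N13723 D44738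
theorem N27475 : nd 27475 = n44739 := ndS (p := 13723) (l := 1) rfl N13723 D44739
theorem N27476 : nd 27476 = n44740 := ndS (p := 13723) (l := 5) rfl N13723 D44740
theorem N27477 : nd 27477 = n44741 := ndS (p := 13723) (l := 7) rfl N13723 D44741
theorem N27478 : nd 27478 = n44742 := ndS (p := 13724) (l := 0) rfl N13724 D44742
theorem N27479 : nd 27479 = n44743 := ndS (p := 13724) (l := 1) rfl N13724 D44743
theorem N27480 : nd 27480 = n44744 := ndS (p := 13724) (l := 5) rfl N13724 D44744
theorem N27481 : nd 27481 = n44745 := ndS (p := 13724) (l := 7) rfl N13724 D44745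
theorem N27482 : nd 27482 = n44747 := ndS (p := 13725) (l := 1) rfl N13725 D44747
theorem N27483 : nd 27483 = n44748 := ndS (p := 13725) (l := 4) rfl N13725 D44748
theorem N27484 : nd 27484 = n44749 := ndS (p := 13725) (l := 7) rfl N13725 D44749
theorem N27485 : nd 27485 = n44750 := ndS (p := 13727) (l := 2) rfl N13727 D44750
theorem N27486 : nd 27486 = n44751 := ndS (p := 13727) (l := 4) rfl N13727 D44751
theorem N27487 : nd 27487 = n44752 := ndS (p := 13727) (l := 6) rfl N13727 D44752
theorem N27488 : nd 27488 = n44754 := ndS (p := 13728) (l := 1) rfl N13728 D44754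
theorem N27489 : nd 27489 = n44755 := ndS (p := 13728) (l := 5) rfl N13728 D44755
theorem N27490 : nd 27490 = n44757 := ndS (p := 13729) (l := 2) rfl N13729 D44757
theorem N27491 : nd 27491 = n44758 := ndS (p := 13729) (l := 6) rfl N13729 D44758
theorem N27492 : nd 27492 = n44759 := ndS (p := 13730) (l := 0) rfl N13730 D44759
theorem N27493 : nd 27493 = n44760 := ndS (p := 13730) (l := 1) rfl N13730 D44760
theorem N27494 : nd 27494 = n44761 := ndS (p := 13730) (l := 5) rfl N13730 D44761
theorem N27495 : nd 27495 = n44762 := ndS (p := 13730) (l := 7) rfl N13730 D44762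
theorem N27496 : nd 27496 = n44763 := ndS (p := 13731) (l := 0) rfl N13731 D44763
theorem N27497 : nd 27497 = n44764 := ndS (p := 13731) (l := 1) rfl N13731 D44764
theorem N27498 : nd 27498 = n44765 := ndS (p := 13731) (l := 2) rfl N13731 D44765
theorem N27499 : nd 27499 = n44766 := ndS (p := 13731) (l := 6) rfl N13731 D44766
theorem N27500 : nd 27500 = n44767 := ndS (p := 13732) (l := 0) rfl N13732 D44767
theorem N27501 : nd 27501 = n44768 := ndS (p := 13732) (l := 1) rfl N13732 D44768
theorem N27502 : nd 27502 = n44770 := ndS (p := 13732) (l := 7) rfl N13732 D44770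
theorem N27503 : nd 27503 = n44772 := ndS (p := 13733) (l := 3) rfl N13733 D44772
theorem N27504 : nd 27504 = n44773 := ndS (p := 13733) (l := 4) rfl N13733 D44773
theorem N27505 : nd 27505 = n44774 := ndS (p := 13733) (l := 5) rfl N13733 D44774
theorem N27506 : nd 27506 = n44775 := ndS (p := 13733) (l := 6) rfl N13733 D44775
theorem N27507 : nd 27507 = n44777 := ndS (p := 13734) (l := 3) rfl N13734 D44777
theorem N27508 : nd 27508 = n44778 := ndS (p := 13734) (l := 4) rfl N13734 D44778
theorem N27509 : nd 27509 = n44779 := ndS (p := 13734) (l := 5) rfl N13734 D44779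
theorem N27510 : nd 27510 = n44780 := ndS (p := 13734) (l := 6) rfl N13734 D44780
theorem N27511 : nd 27511 = n44781 := ndS (p := 13735) (l := 0) rfl N13735 D44781
theorem N27512 : nd 27512 = n44782 := ndS (p := 13735) (l := 1) rfl N13735 D44782
theorem N27513 : nd 27513 = n44783 := ndS (p := 13735) (l := 4) rfl N13735 D44783
theorem N27514 : nd 27514 = n44784 := ndS (p := 13735) (l := 7) rfl N13735 D44784
theorem N27515 : nd 27515 = n44785 := ndS (p := 13737) (l := 0) rfl N13737 D44785
theorem N27516 : nd 27516 = n44787 := ndS (p := 13737) (l := 2) rfl N13737 D44787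
theorem N27517 : nd 27517 = n44788 := ndS (p := 13737) (l := 5) rfl N13737 D44788
theorem N27518 : nd 27518 = n44789 := ndS (p := 13737) (l := 6) rfl N13737 D44789
theorem N27519 : nd 27519 = n44790 := ndS (p := 13738) (l := 0) rfl N13738 D44790
theorem N27520 : nd 27520 = n44792 := ndS (p := 13738) (l := 4) rfl N13738 D44792
theorem N27521 : nd 27521 = n44793 := ndS (p := 13738) (l := 6) rfl N13738 D44793
theorem N27522 : nd 27522 = n44794 := ndS (p := 13739) (l := 5) rfl N13739 D44794
theorem N27523 : nd 27523 = n44797 := ndS (p := 13740) (l := 1) rfl N13740 D44797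
theorem N27524 : nd 27524 = n44798 := ndS (p := 13740) (l := 2) rfl N13740 D44798
theorem N27525 : nd 27525 = n44799 := ndS (p := 13740) (l := 5) rfl N13740 D44799
theorem N27526 : nd 27526 = n44800 := ndS (p := 13740) (l := 6) rfl N13740 D44800
theorem N27527 : nd 27527 = n44801 := ndS (p := 13741) (l := 4) rfl N13741 D44801
theorem N27528 : nd 27528 = n44802 := ndS (p := 13741) (l := 6) rfl N13741 D44802
theorem N27529 : nd 27529 = n44803 := ndS (p := 13742) (l := 5) rfl N13742 D44803
theorem N27530 : nd 27530 = n44805 := ndS (p := 13743) (l := 3) rfl N13743 D44805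
theorem N27531 : nd 27531 = n44806 := ndS (p := 13743) (l := 4) rfl N13743 D44806
theorem N27532 : nd 27532 = n44807 := ndS (p := 13743) (l := 6) rfl N13743 D44807
theorem N27533 : nd 27533 = n44808 := ndS (p := 13744) (l := 3) rfl N13744 D44808
theorem N27534 : nd 27534 = n44809 := ndS (p := 13744) (l := 4) rfl N13744 D44809
theorem N27535 : nd 27535 = n44810 := ndS (p := 13744) (l := 6) rfl N13744 D44810
theorem N27536 : nd 27536 = n44811 := ndS (p := 13745) (l := 0) rfl N13745 D44811
theorem N27537 : nd 27537 = n44812 := ndS (p := 13745) (l := 1) rfl N13745 D44812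
theorem N27538 : nd 27538 = n44813 := ndS (p := 13745) (l := 3) rfl N13745 D44813
theorem N27539 : nd 27539 = n44814 := ndS (p := 13745) (l := 5) rfl N13745 D44814
theorem N27540 : nd 27540 = n44815 := ndS (p := 13745) (l := 7) rfl N13745 D44815
theorem N27541 : nd 27541 = n44816 := ndS (p := 13746) (l := 6) rfl N13746 D44816
theorem N27542 : nd 27542 = n44822 := ndS (p := 13749) (l := 3) rfl N13749 D44822
theorem N27543 : nd 27543 = n44823 := ndS (p := 13749) (l := 5) rfl N13749 D44823
theorem N27544 : nd 27544 = n44824 := ndS (p := 13750) (l := 0) rfl N13750 D44824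
theorem N27545 : nd 27545 = n44826 := ndS (p := 13750) (l := 2) rfl N13750 D44826
theorem N27546 : nd 27546 = n44827 := ndS (p := 13750) (l := 5) rfl N13750 D44827
theorem N27547 : nd 27547 = n44828 := ndS (p := 13750) (l := 6) rfl N13750 D44828
theorem N27548 : nd 27548 = n44829 := ndS (p := 13751) (l := 0) rfl N13751 D44829
theorem N27549 : nd 27549 = n44830 := ndS (p := 13751) (l := 1) rfl N13751 D44830
theorem N27550 : nd 27550 = n44831 := ndS (p := 13751) (l := 4) rfl N13751 D44831
theorem N27551 : nd 27551 = n44832 := ndS (p := 13751) (l := 6) rfl N13751 D44832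
theorem N27552 : nd 27552 = n44833 := ndS (p := 13752) (l := 1) rfl N13752 D44833
theorem N27553 : nd 27553 = n44834 := ndS (p := 13752) (l := 5) rfl N13752 D44834
theorem N27554 : nd 27554 = n44838 := ndS (p := 13753) (l := 1) rfl N13753 D44838
theorem N27555 : nd 27555 = n44839 := ndS (p := 13753) (l := 3) rfl N13753 D44839
theorem N27556 : nd 27556 = n44840 := ndS (p := 13753) (l := 5) rfl N13753 D44840
theorem N27557 : nd 27557 = n44842 := ndS (p := 13754) (l := 4) rfl N13754 D44842
theorem N27558 : nd 27558 = n44843 := ndS (p := 13755) (l := 3) rfl N13755 D44843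
theorem N27559 : nd 27559 = n44844 := ndS (p := 13755) (l := 5) rfl N13755 D44844
theorem N27560 : nd 27560 = n44845 := ndS (p := 13755) (l := 6) rfl N13755 D44845
theorem N27561 : nd 27561 = n44847 := ndS (p := 13757) (l := 0) rfl N13757 D44847
theorem N27562 : nd 27562 = n44852 := ndS (p := 13758) (l := 2) rfl N13758 D44852
theorem N27563 : nd 27563 = n44853 := ndS (p := 13758) (l := 5) rfl N13758 D44853
theorem N27564 : nd 27564 = n44854 := ndS (p := 13758) (l := 6) rfl N13758 D44854
theorem N27565 : nd 27565 = n44855 := ndS (p := 13759) (l := 4) rfl N13759 D44855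
theorem N27566 : nd 27566 = n44856 := ndS (p := 13759) (l := 6) rfl N13759 D44856
theorem N27567 : nd 27567 = n44857 := ndS (p := 13760) (l := 0) rfl N13760 D44857
theorem N27568 : nd 27568 = n44859 := ndS (p := 13760) (l := 5) rfl N13760 D44859
theorem N27569 : nd 27569 = n44860 := ndS (p := 13761) (l := 3) rfl N13761 D44860
theorem N27570 : nd 27570 = n44861 := ndS (p := 13761) (l := 5) rfl N13761 D44861
theorem N27571 : nd 27571 = n44865 := ndS (p := 13762) (l := 0) rfl N13762 D44865
theorem N27572 : nd 27572 = n44866 := ndS (p := 13762) (l := 1) rfl N13762 D44866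
theorem N27573 : nd 27573 = n44867 := ndS (p := 13762) (l := 4) rfl N13762 D44867
theorem N27574 : nd 27574 = n44868 := ndS (p := 13762) (l := 6) rfl N13762 D44868
theorem N27575 : nd 27575 = n44869 := ndS (p := 13763) (l := 0) rfl N13763 D44869
theorem N27576 : nd 27576 = n44870 := ndS (p := 13763) (l := 1) rfl N13763 D44870
theorem N27577 : nd 27577 = n44871 := ndS (p := 13763) (l := 5) rfl N13763 D44871
theorem N27578 : nd 27578 = n44873 := ndS (p := 13764) (l := 0) rfl N13764 D44873
theorem N27579 : nd 27579 = n44879 := ndS (p := 13765) (l := 0) rfl N13765 D44879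
theorem N27580 : nd 27580 = n44880 := ndS (p := 13765) (l := 4) rfl N13765 D44880
theorem N27581 : nd 27581 = n44881 := ndS (p := 13765) (l := 6) rfl N13765 D44881
theorem N27582 : nd 27582 = n44883 := ndS (p := 13766) (l := 5) rfl N13766 D44883
theorem N27583 : nd 27583 = n44900 := ndS (p := 13768) (l := 5) rfl N13768 D44900
theorem N27584 : nd 27584 = n44902 := ndS (p := 13769) (l := 0) rfl N13769 D44902
theorem N27585 : nd 27585 = n44903 := ndS (p := 13769) (l := 1) rfl N13769 D44903
theorem N27586 : nd 27586 = n44904 := ndS (p := 13769) (l := 2) rfl N13769 D44904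
theorem N27587 : nd 27587 = n44905 := ndS (p := 13769) (l := 5) rfl N13769 D44905
theorem N27588 : nd 27588 = n44906 := ndS (p := 13769) (l := 6) rfl N13769 D44906
theorem N27589 : nd 27589 = n44915 := ndS (p := 13773) (l := 0) rfl N13773 D44915
theorem N27590 : nd 27590 = n44916 := ndS (p := 13773) (l := 1) rfl N13773 D44916
theorem N27591 : nd 27591 = n44917 := ndS (p := 13773) (l := 2) rfl N13773 D44917
theorem N27592 : nd 27592 = n44918 := ndS (p := 13773) (l := 6) rfl N13773 D44918
theorem N27593 : nd 27593 = n44919 := ndS (p := 13774) (l := 5) rfl N13774 D44919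
theorem N27594 : nd 27594 = n44920 := ndS (p := 13775) (l := 6) rfl N13775 D44920
theorem N27595 : nd 27595 = n44921 := ndS (p := 13776) (l := 5) rfl N13776 D44921
theorem N27596 : nd 27596 = n44922 := ndS (p := 13776) (l := 7) rfl N13776 D44922
theorem N27597 : nd 27597 = n44923 := ndS (p := 13777) (l := 6) rfl N13777 D44923
theorem N27598 : nd 27598 = n44924 := ndS (p := 13778) (l := 3) rfl N13778 D44924
theorem N27599 : nd 27599 = n44925 := ndS (p := 13778) (l := 6) rfl N13778 D44925
theorem N27600 : nd 27600 = n44926 := ndS (p := 13779) (l := 5) rfl N13779 D44926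
theorem N27601 : nd 27601 = n44927 := ndS (p := 13779) (l := 6) rfl N13779 D44927
theorem N27602 : nd 27602 = n44928 := ndS (p := 13780) (l := 0) rfl N13780 D44928
theorem N27603 : nd 27603 = n44929 := ndS (p := 13780) (l := 1) rfl N13780 D44929
theorem N27604 : nd 27604 = n44930 := ndS (p := 13780) (l := 6) rfl N13780 D44930
theorem N27605 : nd 27605 = n44931 := ndS (p := 13781) (l := 0) rfl N13781 D44931
theorem N27606 : nd 27606 = n44932 := ndS (p := 13781) (l := 1) rfl N13781 D44932
theorem N27607 : nd 27607 = n44933 := ndS (p := 13781) (l := 5) rfl N13781 D44933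
theorem N27608 : nd 27608 = n44934 := ndS (p := 13782) (l := 3) rfl N13782 D44934
theorem N27609 : nd 27609 = n44935 := ndS (p := 13782) (l := 6) rfl N13782 D44935
theorem N27610 : nd 27610 = n44936 := ndS (p := 13783) (l := 6) rfl N13783 D44936
theorem N27611 : nd 27611 = n44937 := ndS (p := 13784) (l := 3) rfl N13784 D44937
theorem N27612 : nd 27612 = n44938 := ndS (p := 13784) (l := 6) rfl N13784 D44938
theorem N27613 : nd 27613 = n44939 := ndS (p := 13785) (l := 0) rfl N13785 D44939
theorem N27614 : nd 27614 = n44940 := ndS (p := 13785) (l := 1) rfl N13785 D44940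
theorem N27615 : nd 27615 = n44941 := ndS (p := 13785) (l := 5) rfl N13785 D44941
theorem N27616 : nd 27616 = n44942 := ndS (p := 13785) (l := 7) rfl N13785 D44942
theorem N27617 : nd 27617 = n44943 := ndS (p := 13786) (l := 3) rfl N13786 D44943
theorem N27618 : nd 27618 = n44944 := ndS (p := 13786) (l := 5) rfl N13786 D44944
theorem N27619 : nd 27619 = n44945 := ndS (p := 13787) (l := 3) rfl N13787 D44945
theorem N27620 : nd 27620 = n44946 := ndS (p := 13787) (l := 5) rfl N13787 D44946
theorem N27621 : nd 27621 = n44947 := ndS (p := 13788) (l := 0) rfl N13788 D44947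
theorem N27622 : nd 27622 = n44948 := ndS (p := 13788) (l := 1) rfl N13788 D44948
theorem N27623 : nd 27623 = n44949 := ndS (p := 13788) (l := 4) rfl N13788 D44949
theorem N27624 : nd 27624 = n44952 := ndS (p := 13790) (l := 6) rfl N13790 D44952
theorem N27625 : nd 27625 = n44955 := ndS (p := 13791) (l := 0) rfl N13791 D44955
theorem N27626 : nd 27626 = n44956 := ndS (p := 13791) (l := 4) rfl N13791 D44956
theorem N27627 : nd 27627 = n44958 := ndS (p := 13793) (l := 3) rfl N13793 D44958
theorem N27628 : nd 27628 = n44959 := ndS (p := 13793) (l := 5) rfl N13793 D44959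
theorem N27629 : nd 27629 = n44960 := ndS (p := 13794) (l := 0) rfl N13794 D44960
theorem N27630 : nd 27630 = n44961 := ndS (p := 13794) (l := 1) rfl N13794 D44961
theorem N27631 : nd 27631 = n44962 := ndS (p := 13794) (l := 2) rfl N13794 D44962
theorem N27632 : nd 27632 = n44982 := ndS (p := 13795) (l := 4) rfl N13795 D44982
theorem N27633 : nd 27633 = n44983 := ndS (p := 13796) (l := 4) rfl N13796 D44983
theorem N27634 : nd 27634 = n44984 := ndS (p := 13796) (l := 6) rfl N13796 D44984
theorem N27635 : nd 27635 = n44985 := ndS (p := 13798) (l := 6) rfl N13798 D44985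
theorem N27636 : nd 27636 = n44986 := ndS (p := 13799) (l := 1) rfl N13799 D44986
theorem N27637 : nd 27637 = n44987 := ndS (p := 13799) (l := 3) rfl N13799 D44987
theorem N27638 : nd 27638 = n44988 := ndS (p := 13799) (l := 5) rfl N13799 D44988
theorem N27639 : nd 27639 = n44989 := ndS (p := 13800) (l := 6) rfl N13800 D44989
theorem N27640 : nd 27640 = n44990 := ndS (p := 13801) (l := 5) rfl N13801 D44990
theorem N27641 : nd 27641 = n44991 := ndS (p := 13801) (l := 6) rfl N13801 D44991
theorem N27642 : nd 27642 = n44992 := ndS (p := 13802) (l := 0) rfl N13802 D44992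
theorem N27643 : nd 27643 = n44993 := ndS (p := 13802) (l := 4) rfl N13802 D44993
theorem N27644 : nd 27644 = n44994 := ndS (p := 13802) (l := 6) rfl N13802 D44994
theorem N27645 : nd 27645 = n44995 := ndS (p := 13803) (l := 0) rfl N13803 D44995
theorem N27646 : nd 27646 = n44996 := ndS (p := 13803) (l := 5) rfl N13803 D44996
theorem N27647 : nd 27647 = n44997 := ndS (p := 13803) (l := 7) rfl N13803 D44997
theorem N27648 : nd 27648 = n44998 := ndS (p := 13804) (l := 0) rfl N13804 D44998
theorem N27649 : nd 27649 = n44999 := ndS (p := 13804) (l := 1) rfl N13804 D44999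
theorem N27650 : nd 27650 = n45000 := ndS (p := 13804) (l := 5) rfl N13804 D45000
theorem N27651 : nd 27651 = n45002 := ndS (p := 13805) (l := 3) rfl N13805 D45002
theorem N27652 : nd 27652 = n45003 := ndS (p := 13805) (l := 5) rfl N13805 D45003
theorem N27653 : nd 27653 = n45004 := ndS (p := 13805) (l := 6) rfl N13805 D45004
theorem N27654 : nd 27654 = n45005 := ndS (p := 13806) (l := 3) rfl N13806 D45005
theorem N27655 : nd 27655 = n45006 := ndS (p := 13806) (l := 5) rfl N13806 D45006
theorem N27656 : nd 27656 = n45008 := ndS (p := 13807) (l := 0) rfl N13807 D45008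
theorem N27657 : nd 27657 = n45009 := ndS (p := 13807) (l := 1) rfl N13807 D45009
theorem N27658 : nd 27658 = n45011 := ndS (p := 13807) (l := 7) rfl N13807 D45011
theorem N27659 : nd 27659 = n45012 := ndS (p := 13809) (l := 3) rfl N13809 D45012
theorem N27660 : nd 27660 = n45013 := ndS (p := 13809) (l := 5) rfl N13809 D45013
theorem N27661 : nd 27661 = n45019 := ndS (p := 13810) (l := 0) rfl N13810 D45019
theorem N27662 : nd 27662 = n45020 := ndS (p := 13810) (l := 1) rfl N13810 D45020
theorem N27663 : nd 27663 = n45021 := ndS (p := 13810) (l := 3) rfl N13810 D45021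
theorem N27664 : nd 27664 = n45022 := ndS (p := 13810) (l := 5) rfl N13810 D45022
theorem N27665 : nd 27665 = n45024 := ndS (p := 13811) (l := 4) rfl N13811 D45024
theorem N27666 : nd 27666 = n45025 := ndS (p := 13811) (l := 6) rfl N13811 D45025
theorem N27667 : nd 27667 = n45031 := ndS (p := 13812) (l := 3) rfl N13812 D45031
theorem N27668 : nd 27668 = n45032 := ndS (p := 13812) (l := 5) rfl N13812 D45032
theorem N27669 : nd 27669 = n45037 := ndS (p := 13813) (l := 3) rfl N13813 D45037
theorem N27670 : nd 27670 = n45038 := ndS (p := 13813) (l := 5) rfl N13813 D45038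
theorem N27671 : nd 27671 = n45040 := ndS (p := 13814) (l := 3) rfl N13814 D45040
theorem N27672 : nd 27672 = n45041 := ndS (p := 13814) (l := 5) rfl N13814 D45041
theorem N27673 : nd 27673 = n45043 := ndS (p := 13815) (l := 0) rfl N13815 D45043
theorem N27674 : nd 27674 = n45044 := ndS (p := 13815) (l := 1) rfl N13815 D45044
theorem N27675 : nd 27675 = n45045 := ndS (p := 13815) (l := 2) rfl N13815 D45045
theorem N27676 : nd 27676 = n45046 := ndS (p := 13815) (l := 5) rfl N13815 D45046
theorem N27677 : nd 27677 = n45049 := ndS (p := 13816) (l := 4) rfl N13816 D45049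
theorem N27678 : nd 27678 = n45050 := ndS (p := 13816) (l := 6) rfl N13816 D45050
theorem N27679 : nd 27679 = n45051 := ndS (p := 13817) (l := 0) rfl N13817 D45051
theorem N27680 : nd 27680 = n45052 := ndS (p := 13817) (l := 1) rfl N13817 D45052
theorem N27681 : nd 27681 = n45053 := ndS (p := 13817) (l := 2) rfl N13817 D45053
theorem N27682 : nd 27682 = n45073 := ndS (p := 13818) (l := 3) rfl N13818 D45073
theorem N27683 : nd 27683 = n45074 := ndS (p := 13818) (l := 4) rfl N13818 D45074
theorem N27684 : nd 27684 = n45075 := ndS (p := 13818) (l := 6) rfl N13818 D45075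
theorem N27685 : nd 27685 = n45076 := ndS (p := 13819) (l := 0) rfl N13819 D45076
theorem N27686 : nd 27686 = n45077 := ndS (p := 13819) (l := 6) rfl N13819 D45077
theorem N27687 : nd 27687 = n45078 := ndS (p := 13820) (l := 0) rfl N13820 D45078
theorem N27688 : nd 27688 = n45079 := ndS (p := 13820) (l := 1) rfl N13820 D45079
theorem N27689 : nd 27689 = n45080 := ndS (p := 13820) (l := 5) rfl N13820 D45080
theorem N27690 : nd 27690 = n45082 := ndS (p := 13821) (l := 0) rfl N13821 D45082
theorem N27691 : nd 27691 = n45083 := ndS (p := 13821) (l := 1) rfl N13821 D45083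
theorem N27692 : nd 27692 = n45084 := ndS (p := 13821) (l := 5) rfl N13821 D45084
theorem N27693 : nd 27693 = n45085 := ndS (p := 13821) (l := 7) rfl N13821 D45085
theorem N27694 : nd 27694 = n45115 := ndS (p := 13824) (l := 0) rfl N13824 D45115
theorem N27695 : nd 27695 = n45116 := ndS (p := 13824) (l := 2) rfl N13824 D45116
theorem N27696 : nd 27696 = n45117 := ndS (p := 13824) (l := 5) rfl N13824 D45117
theorem N27697 : nd 27697 = n45118 := ndS (p := 13824) (l := 6) rfl N13824 D45118
theorem N27698 : nd 27698 = n45134 := ndS (p := 13827) (l := 5) rfl N13827 D45134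
theorem N27699 : nd 27699 = n45136 := ndS (p := 13828) (l := 4) rfl N13828 D45136
theorem N27700 : nd 27700 = n45137 := ndS (p := 13829) (l := 0) rfl N13829 D45137
theorem N27701 : nd 27701 = n45138 := ndS (p := 13829) (l := 2) rfl N13829 D45138
theorem N27702 : nd 27702 = n45139 := ndS (p := 13829) (l := 5) rfl N13829 D45139
theorem N27703 : nd 27703 = n45140 := ndS (p := 13829) (l := 6) rfl N13829 D45140
theorem N27704 : nd 27704 = n45141 := ndS (p := 13830) (l := 6) rfl N13830 D45141
theorem N27705 : nd 27705 = n45144 := ndS (p := 13831) (l := 5) rfl N13831 D45144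
theorem N27706 : nd 27706 = n45157 := ndS (p := 13832) (l := 1) rfl N13832 D45157
theorem N27707 : nd 27707 = n45158 := ndS (p := 13832) (l := 4) rfl N13832 D45158
theorem N27708 : nd 27708 = n45159 := ndS (p := 13832) (l := 7) rfl N13832 D45159
theorem N27709 : nd 27709 = n45161 := ndS (p := 13835) (l := 3) rfl N13835 D45161
theorem N27710 : nd 27710 = n45162 := ndS (p := 13835) (l := 5) rfl N13835 D45162
theorem N27711 : nd 27711 = n45163 := ndS (p := 13836) (l := 0) rfl N13836 D45163
theorem N27712 : nd 27712 = n45164 := ndS (p := 13836) (l := 1) rfl N13836 D45164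
theorem N27713 : nd 27713 = n45165 := ndS (p := 13836) (l := 6) rfl N13836 D45165
theorem N27714 : nd 27714 = n45166 := ndS (p := 13837) (l := 6) rfl N13837 D45166
theorem N27715 : nd 27715 = n45168 := ndS (p := 13838) (l := 1) rfl N13838 D45168
theorem N27716 : nd 27716 = n45169 := ndS (p := 13838) (l := 5) rfl N13838 D45169
theorem N27717 : nd 27717 = n45170 := ndS (p := 13838) (l := 7) rfl N13838 D45170
theorem N27718 : nd 27718 = n45173 := ndS (p := 13839) (l := 4) rfl N13839 D45173
theorem N27719 : nd 27719 = n45174 := ndS (p := 13839) (l := 5) rfl N13839 D45174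
theorem N27720 : nd 27720 = n45183 := ndS (p := 13840) (l := 4) rfl N13840 D45183
theorem N27721 : nd 27721 = n45184 := ndS (p := 13840) (l := 7) rfl N13840 D45184
theorem N27722 : nd 27722 = n45188 := ndS (p := 13842) (l := 0) rfl N13842 D45188
theorem N27723 : nd 27723 = n45189 := ndS (p := 13842) (l := 1) rfl N13842 D45189
theorem N27724 : nd 27724 = n45190 := ndS (p := 13842) (l := 2) rfl N13842 D45190
theorem N27725 : nd 27725 = n45191 := ndS (p := 13842) (l := 5) rfl N13842 D45191
theorem N27726 : nd 27726 = n45193 := ndS (p := 13843) (l := 6) rfl N13843 D45193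
theorem N27727 : nd 27727 = n45194 := ndS (p := 13844) (l := 0) rfl N13844 D45194
theorem N27728 : nd 27728 = n45195 := ndS (p := 13844) (l := 1) rfl N13844 D45195
theorem N27729 : nd 27729 = n45196 := ndS (p := 13844) (l := 5) rfl N13844 D45196
theorem N27730 : nd 27730 = n45197 := ndS (p := 13844) (l := 7) rfl N13844 D45197
theorem N27731 : nd 27731 = n45205 := ndS (p := 13845) (l := 4) rfl N13845 D45205
theorem N27732 : nd 27732 = n45207 := ndS (p := 13847) (l := 0) rfl N13847 D45207
theorem N27733 : nd 27733 = n45208 := ndS (p := 13847) (l := 1) rfl N13847 D45208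
theorem N27734 : nd 27734 = n45209 := ndS (p := 13847) (l := 2) rfl N13847 D45209
theorem N27735 : nd 27735 = n45210 := ndS (p := 13847) (l := 6) rfl N13847 D45210
theorem N27736 : nd 27736 = n45213 := ndS (p := 13848) (l := 7) rfl N13848 D45213
theorem N27737 : nd 27737 = n45214 := ndS (p := 13849) (l := 0) rfl N13849 D45214
theorem N27738 : nd 27738 = n45215 := ndS (p := 13849) (l := 1) rfl N13849 D45215
theorem N27739 : nd 27739 = n45216 := ndS (p := 13849) (l := 2) rfl N13849 D45216
theorem N27740 : nd 27740 = n45217 := ndS (p := 13849) (l := 6) rfl N13849 D45217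
theorem N27741 : nd 27741 = n45219 := ndS (p := 13850) (l := 5) rfl N13850 D45219
theorem N27742 : nd 27742 = n45220 := ndS (p := 13850) (l := 7) rfl N13850 D45220
theorem N27743 : nd 27743 = n45225 := ndS (p := 13852) (l := 5) rfl N13852 D45225
theorem N27744 : nd 27744 = n45227 := ndS (p := 13853) (l := 0) rfl N13853 D45227
theorem N27745 : nd 27745 = n45228 := ndS (p := 13853) (l := 1) rfl N13853 D45228
theorem N27746 : nd 27746 = n45229 := ndS (p := 13853) (l := 5) rfl N13853 D45229
theorem N27747 : nd 27747 = n45230 := ndS (p := 13853) (l := 7) rfl N13853 D45230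
theorem N27748 : nd 27748 = n45269 := ndS (p := 13855) (l := 1) rfl N13855 D45269
theorem N27749 : nd 27749 = n45322 := ndS (p := 13856) (l := 0) rfl N13856 D45322
theorem N27750 : nd 27750 = n45323 := ndS (p := 13856) (l := 1) rfl N13856 D45323
theorem N27751 : nd 27751 = n45324 := ndS (p := 13856) (l := 2) rfl N13856 D45324
theorem N27752 : nd 27752 = n45325 := ndS (p := 13856) (l := 6) rfl N13856 D45325
theorem N27753 : nd 27753 = n45326 := ndS (p := 13857) (l := 5) rfl N13857 D45326
theorem N27754 : nd 27754 = n45327 := ndS (p := 13858) (l := 5) rfl N13858 D45327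
theorem N27755 : nd 27755 = n45328 := ndS (p := 13859) (l := 6) rfl N13859 D45328
theorem N27756 : nd 27756 = n45329 := ndS (p := 13860) (l := 3) rfl N13860 D45329
theorem N27757 : nd 27757 = n45330 := ndS (p := 13860) (l := 6) rfl N13860 D45330
theorem N27758 : nd 27758 = n45331 := ndS (p := 13861) (l := 5) rfl N13861 D45331
theorem N27759 : nd 27759 = n45332 := ndS (p := 13861) (l := 6) rfl N13861 D45332
theorem N27760 : nd 27760 = n45333 := ndS (p := 13862) (l := 6) rfl N13862 D45333
theorem N27761 : nd 27761 = n45334 := ndS (p := 13863) (l := 0) rfl N13863 D45334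
theorem N27762 : nd 27762 = n45335 := ndS (p := 13863) (l := 1) rfl N13863 D45335
theorem N27763 : nd 27763 = n45336 := ndS (p := 13863) (l := 5) rfl N13863 D45336
theorem N27764 : nd 27764 = n45337 := ndS (p := 13863) (l := 7) rfl N13863 D45337
theorem N27765 : nd 27765 = n45338 := ndS (p := 13864) (l := 0) rfl N13864 D45338
theorem N27766 : nd 27766 = n45339 := ndS (p := 13864) (l := 1) rfl N13864 D45339
theorem N27767 : nd 27767 = n45340 := ndS (p := 13864) (l := 5) rfl N13864 D45340
theorem N27768 : nd 27768 = n45341 := ndS (p := 13864) (l := 7) rfl N13864 D45341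
theorem N27769 : nd 27769 = n45342 := ndS (p := 13865) (l := 3) rfl N13865 D45342
theorem N27770 : nd 27770 = n45343 := ndS (p := 13865) (l := 5) rfl N13865 D45343
theorem N27771 : nd 27771 = n45344 := ndS (p := 13865) (l := 6) rfl N13865 D45344
theorem N27772 : nd 27772 = n45345 := ndS (p := 13866) (l := 3) rfl N13866 D45345
theorem N27773 : nd 27773 = n45346 := ndS (p := 13866) (l := 5) rfl N13866 D45346
theorem N27774 : nd 27774 = n45347 := ndS (p := 13866) (l := 6) rfl N13866 D45347
theorem N27775 : nd 27775 = n45348 := ndS (p := 13867) (l := 0) rfl N13867 D45348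
theorem N27776 : nd 27776 = n45349 := ndS (p := 13867) (l := 1) rfl N13867 D45349
theorem N27777 : nd 27777 = n45350 := ndS (p := 13867) (l := 4) rfl N13867 D45350
theorem N27778 : nd 27778 = n45351 := ndS (p := 13867) (l := 7) rfl N13867 D45351
theorem N27779 : nd 27779 = n45352 := ndS (p := 13869) (l := 3) rfl N13869 D45352
theorem N27780 : nd 27780 = n45353 := ndS (p := 13869) (l := 5) rfl N13869 D45353
theorem N27781 : nd 27781 = n45354 := ndS (p := 13870) (l := 4) rfl N13870 D45354
theorem N27782 : nd 27782 = n45358 := ndS (p := 13871) (l := 1) rfl N13871 D45358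
theorem N27783 : nd 27783 = n45359 := ndS (p := 13871) (l := 3) rfl N13871 D45359
theorem N27784 : nd 27784 = n45360 := ndS (p := 13871) (l := 5) rfl N13871 D45360
theorem N27785 : nd 27785 = n45362 := ndS (p := 13872) (l := 6) rfl N13872 D45362
theorem N27786 : nd 27786 = n45363 := ndS (p := 13873) (l := 5) rfl N13873 D45363
theorem N27787 : nd 27787 = n45364 := ndS (p := 13873) (l := 6) rfl N13873 D45364
theorem N27788 : nd 27788 = n45366 := ndS (p := 13874) (l := 6) rfl N13874 D45366
theorem N27789 : nd 27789 = n45367 := ndS (p := 13875) (l := 0) rfl N13875 D45367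
theorem N27790 : nd 27790 = n45368 := ndS (p := 13875) (l := 5) rfl N13875 D45368
theorem N27791 : nd 27791 = n45369 := ndS (p := 13876) (l := 0) rfl N13876 D45369
theorem N27792 : nd 27792 = n45370 := ndS (p := 13876) (l := 1) rfl N13876 D45370
theorem N27793 : nd 27793 = n45371 := ndS (p := 13876) (l := 5) rfl N13876 D45371
theorem N27794 : nd 27794 = n45372 := ndS (p := 13876) (l := 7) rfl N13876 D45372
theorem N27795 : nd 27795 = n45373 := ndS (p := 13877) (l := 5) rfl N13877 D45373
theorem N27796 : nd 27796 = n45374 := ndS (p := 13877) (l := 6) rfl N13877 D45374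
theorem N27797 : nd 27797 = n45375 := ndS (p := 13878) (l := 3) rfl N13878 D45375
theorem N27798 : nd 27798 = n45376 := ndS (p := 13878) (l := 5) rfl N13878 D45376
theorem N27799 : nd 27799 = n45377 := ndS (p := 13878) (l := 6) rfl N13878 D45377
theorem N27800 : nd 27800 = n45378 := ndS (p := 13879) (l := 0) rfl N13879 D45378
theorem N27801 : nd 27801 = n45379 := ndS (p := 13879) (l := 1) rfl N13879 D45379
theorem N27802 : nd 27802 = n45380 := ndS (p := 13879) (l := 4) rfl N13879 D45380
theorem N27803 : nd 27803 = n45381 := ndS (p := 13880) (l := 4) rfl N13880 D45381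
theorem N27804 : nd 27804 = n45382 := ndS (p := 13880) (l := 5) rfl N13880 D45382
theorem N27805 : nd 27805 = n45383 := ndS (p := 13880) (l := 6) rfl N13880 D45383
theorem N27806 : nd 27806 = n45384 := ndS (p := 13881) (l := 3) rfl N13881 D45384
theorem N27807 : nd 27807 = n45385 := ndS (p := 13881) (l := 5) rfl N13881 D45385
theorem N27808 : nd 27808 = n45386 := ndS (p := 13881) (l := 6) rfl N13881 D45386
theorem N27809 : nd 27809 = n45387 := ndS (p := 13882) (l := 5) rfl N13882 D45387
theorem N27810 : nd 27810 = n45388 := ndS (p := 13882) (l := 6) rfl N13882 D45388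
theorem N27811 : nd 27811 = n45389 := ndS (p := 13883) (l := 0) rfl N13883 D45389
theorem N27812 : nd 27812 = n45390 := ndS (p := 13883) (l := 1) rfl N13883 D45390
theorem N27813 : nd 27813 = n45391 := ndS (p := 13883) (l := 4) rfl N13883 D45391
theorem N27814 : nd 27814 = n45392 := ndS (p := 13883) (l := 6) rfl N13883 D45392
theorem N27815 : nd 27815 = n45393 := ndS (p := 13884) (l := 0) rfl N13884 D45393
theorem N27816 : nd 27816 = n45394 := ndS (p := 13884) (l := 1) rfl N13884 D45394
theorem N27817 : nd 27817 = n45395 := ndS (p := 13884) (l := 5) rfl N13884 D45395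
theorem N27818 : nd 27818 = n45396 := ndS (p := 13884) (l := 7) rfl N13884 D45396
theorem N27819 : nd 27819 = n45397 := ndS (p := 13885) (l := 0) rfl N13885 D45397
theorem N27820 : nd 27820 = n45398 := ndS (p := 13885) (l := 1) rfl N13885 D45398
theorem N27821 : nd 27821 = n45399 := ndS (p := 13885) (l := 5) rfl N13885 D45399
theorem N27822 : nd 27822 = n45400 := ndS (p := 13885) (l := 7) rfl N13885 D45400
theorem N27823 : nd 27823 = n45401 := ndS (p := 13886) (l := 0) rfl N13886 D45401
theorem N27824 : nd 27824 = n45402 := ndS (p := 13886) (l := 1) rfl N13886 D45402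
theorem N27825 : nd 27825 = n45403 := ndS (p := 13886) (l := 4) rfl N13886 D45403
theorem N27826 : nd 27826 = n45404 := ndS (p := 13886) (l := 7) rfl N13886 D45404
theorem N27827 : nd 27827 = n45405 := ndS (p := 13888) (l := 3) rfl N13888 D45405
theorem N27828 : nd 27828 = n45406 := ndS (p := 13888) (l := 6) rfl N13888 D45406
theorem N27829 : nd 27829 = n45407 := ndS (p := 13889) (l := 6) rfl N13889 D45407
theorem N27830 : nd 27830 = n45408 := ndS (p := 13890) (l := 6) rfl N13890 D45408
theorem N27831 : nd 27831 = n45409 := ndS (p := 13891) (l := 0) rfl N13891 D45409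
theorem N27832 : nd 27832 = n45410 := ndS (p := 13891) (l := 1) rfl N13891 D45410
theorem N27833 : nd 27833 = n45411 := ndS (p := 13891) (l := 5) rfl N13891 D45411
theorem N27834 : nd 27834 = n45412 := ndS (p := 13892) (l := 0) rfl N13892 D45412
theorem N27835 : nd 27835 = n45413 := ndS (p := 13892) (l := 1) rfl N13892 D45413
theorem N27836 : nd 27836 = n45414 := ndS (p := 13892) (l := 5) rfl N13892 D45414
theorem N27837 : nd 27837 = n45415 := ndS (p := 13892) (l := 7) rfl N13892 D45415
theorem N27838 : nd 27838 = n45416 := ndS (p := 13893) (l := 1) rfl N13893 D45416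
theorem N27839 : nd 27839 = n45417 := ndS (p := 13893) (l := 4) rfl N13893 D45417
theorem N27840 : nd 27840 = n45418 := ndS (p := 13894) (l := 2) rfl N13894 D45418
theorem N27841 : nd 27841 = n45419 := ndS (p := 13894) (l := 4) rfl N13894 D45419
theorem N27842 : nd 27842 = n45420 := ndS (p := 13894) (l := 6) rfl N13894 D45420
theorem N27843 : nd 27843 = n45421 := ndS (p := 13895) (l := 0) rfl N13895 D45421
theorem N27844 : nd 27844 = n45422 := ndS (p := 13895) (l := 1) rfl N13895 D45422
theorem N27845 : nd 27845 = n45423 := ndS (p := 13895) (l := 5) rfl N13895 D45423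
theorem N27846 : nd 27846 = n45424 := ndS (p := 13895) (l := 7) rfl N13895 D45424
theorem N27847 : nd 27847 = n45425 := ndS (p := 13896) (l := 2) rfl N13896 D45425
theorem N27848 : nd 27848 = n45426 := ndS (p := 13896) (l := 6) rfl N13896 D45426
theorem N27849 : nd 27849 = n45429 := ndS (p := 13897) (l := 5) rfl N13897 D45429
theorem N27850 : nd 27850 = n45431 := ndS (p := 13898) (l := 0) rfl N13898 D45431
theorem N27851 : nd 27851 = n45432 := ndS (p := 13898) (l := 1) rfl N13898 D45432
theorem N27852 : nd 27852 = n45433 := ndS (p := 13898) (l := 6) rfl N13898 D45433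
theorem N27853 : nd 27853 = n45434 := ndS (p := 13899) (l := 0) rfl N13899 D45434
theorem N27854 : nd 27854 = n45435 := ndS (p := 13899) (l := 1) rfl N13899 D45435
theorem N27855 : nd 27855 = n45436 := ndS (p := 13899) (l := 5) rfl N13899 D45436
theorem N27856 : nd 27856 = n45437 := ndS (p := 13899) (l := 7) rfl N13899 D45437
theorem N27857 : nd 27857 = n45439 := ndS (p := 13900) (l := 3) rfl N13900 D45439
theorem N27858 : nd 27858 = n45440 := ndS (p := 13900) (l := 4) rfl N13900 D45440
theorem N27859 : nd 27859 = n45441 := ndS (p := 13900) (l := 5) rfl N13900 D45441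
theorem N27860 : nd 27860 = n45442 := ndS (p := 13900) (l := 6) rfl N13900 D45442
theorem N27861 : nd 27861 = n45444 := ndS (p := 13901) (l := 3) rfl N13901 D45444
theorem N27862 : nd 27862 = n45445 := ndS (p := 13901) (l := 4) rfl N13901 D45445
theorem N27863 : nd 27863 = n45446 := ndS (p := 13901) (l := 5) rfl N13901 D45446
theorem N27864 : nd 27864 = n45447 := ndS (p := 13901) (l := 6) rfl N13901 D45447
theorem N27865 : nd 27865 = n45448 := ndS (p := 13902) (l := 0) rfl N13902 D45448
theorem N27866 : nd 27866 = n45449 := ndS (p := 13902) (l := 1) rfl N13902 D45449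
theorem N27867 : nd 27867 = n45450 := ndS (p := 13902) (l := 4) rfl N13902 D45450
theorem N27868 : nd 27868 = n45451 := ndS (p := 13902) (l := 7) rfl N13902 D45451
theorem N27869 : nd 27869 = n45452 := ndS (p := 13904) (l := 0) rfl N13904 D45452
theorem N27870 : nd 27870 = n45454 := ndS (p := 13904) (l := 2) rfl N13904 D45454
theorem N27871 : nd 27871 = n45455 := ndS (p := 13904) (l := 5) rfl N13904 D45455
theorem N27872 : nd 27872 = n45456 := ndS (p := 13904) (l := 6) rfl N13904 D45456
theorem N27873 : nd 27873 = n45459 := ndS (p := 13905) (l := 4) rfl N13905 D45459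
theorem N27874 : nd 27874 = n45460 := ndS (p := 13905) (l := 6) rfl N13905 D45460
theorem N27875 : nd 27875 = n45463 := ndS (p := 13906) (l := 5) rfl N13906 D45463
theorem N27876 : nd 27876 = n45465 := ndS (p := 13907) (l := 1) rfl N13907 D45465
theorem N27877 : nd 27877 = n45466 := ndS (p := 13907) (l := 2) rfl N13907 D45466
theorem N27878 : nd 27878 = n45467 := ndS (p := 13907) (l := 5) rfl N13907 D45467
theorem N27879 : nd 27879 = n45468 := ndS (p := 13907) (l := 6) rfl N13907 D45468
theorem N27880 : nd 27880 = n45469 := ndS (p := 13908) (l := 4) rfl N13908 D45469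
theorem N27881 : nd 27881 = n45470 := ndS (p := 13908) (l := 6) rfl N13908 D45470
theorem N27882 : nd 27882 = n45471 := ndS (p := 13910) (l := 3) rfl N13910 D45471
theorem N27883 : nd 27883 = n45472 := ndS (p := 13910) (l := 4) rfl N13910 D45472
theorem N27884 : nd 27884 = n45474 := ndS (p := 13910) (l := 6) rfl N13910 D45474
theorem N27885 : nd 27885 = n45475 := ndS (p := 13911) (l := 3) rfl N13911 D45475
theorem N27886 : nd 27886 = n45476 := ndS (p := 13911) (l := 4) rfl N13911 D45476
theorem N27887 : nd 27887 = n45477 := ndS (p := 13911) (l := 6) rfl N13911 D45477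
theorem N27888 : nd 27888 = n45478 := ndS (p := 13912) (l := 0) rfl N13912 D45478
theorem N27889 : nd 27889 = n45479 := ndS (p := 13912) (l := 1) rfl N13912 D45479
theorem N27890 : nd 27890 = n45480 := ndS (p := 13912) (l := 3) rfl N13912 D45480
theorem N27891 : nd 27891 = n45490 := ndS (p := 13914) (l := 3) rfl N13914 D45490
theorem N27892 : nd 27892 = n45491 := ndS (p := 13914) (l := 5) rfl N13914 D45491
theorem N27893 : nd 27893 = n45492 := ndS (p := 13915) (l := 0) rfl N13915 D45492
theorem N27894 : nd 27894 = n45494 := ndS (p := 13915) (l := 2) rfl N13915 D45494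
theorem N27895 : nd 27895 = n45495 := ndS (p := 13915) (l := 5) rfl N13915 D45495
theorem N27896 : nd 27896 = n45496 := ndS (p := 13915) (l := 6) rfl N13915 D45496
theorem N27897 : nd 27897 = n45497 := ndS (p := 13916) (l := 0) rfl N13916 D45497
theorem N27898 : nd 27898 = n45498 := ndS (p := 13916) (l := 1) rfl N13916 D45498
theorem N27899 : nd 27899 = n45499 := ndS (p := 13916) (l := 4) rfl N13916 D45499
theorem N27900 : nd 27900 = n45500 := ndS (p := 13916) (l := 6) rfl N13916 D45500
theorem N27901 : nd 27901 = n45501 := ndS (p := 13917) (l := 1) rfl N13917 D45501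
theorem N27902 : nd 27902 = n45502 := ndS (p := 13917) (l := 5) rfl N13917 D45502
theorem N27903 : nd 27903 = n45518 := ndS (p := 13919) (l := 1) rfl N13919 D45518
theorem N27904 : nd 27904 = n45519 := ndS (p := 13919) (l := 2) rfl N13919 D45519
theorem N27905 : nd 27905 = n45520 := ndS (p := 13919) (l := 5) rfl N13919 D45520
theorem N27906 : nd 27906 = n45521 := ndS (p := 13919) (l := 6) rfl N13919 D45521
theorem N27907 : nd 27907 = n45522 := ndS (p := 13920) (l := 4) rfl N13920 D45522
theorem N27908 : nd 27908 = n45523 := ndS (p := 13920) (l := 6) rfl N13920 D45523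
theorem N27909 : nd 27909 = n45524 := ndS (p := 13921) (l := 0) rfl N13921 D45524
theorem N27910 : nd 27910 = n45525 := ndS (p := 13921) (l := 5) rfl N13921 D45525
theorem N27911 : nd 27911 = n45717 := ndS (p := 13922) (l := 3) rfl N13922 D45717
theorem N27912 : nd 27912 = n45718 := ndS (p := 13922) (l := 4) rfl N13922 D45718
theorem N27913 : nd 27913 = n45719 := ndS (p := 13922) (l := 5) rfl N13922 D45719
theorem N27914 : nd 27914 = n45720 := ndS (p := 13922) (l := 6) rfl N13922 D45720
theorem N27915 : nd 27915 = n45721 := ndS (p := 13923) (l := 4) rfl N13923 D45721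
theorem N27916 : nd 27916 = n45722 := ndS (p := 13923) (l := 5) rfl N13923 D45722
theorem N27917 : nd 27917 = n45723 := ndS (p := 13923) (l := 6) rfl N13923 D45723
theorem N27918 : nd 27918 = n45724 := ndS (p := 13924) (l := 0) rfl N13924 D45724
theorem N27919 : nd 27919 = n45725 := ndS (p := 13924) (l := 1) rfl N13924 D45725
theorem N27920 : nd 27920 = n45726 := ndS (p := 13924) (l := 5) rfl N13924 D45726
theorem N27921 : nd 27921 = n45727 := ndS (p := 13924) (l := 7) rfl N13924 D45727
theorem N27922 : nd 27922 = n45728 := ndS (p := 13925) (l := 3) rfl N13925 D45728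
theorem N27923 : nd 27923 = n45729 := ndS (p := 13925) (l := 5) rfl N13925 D45729
theorem N27924 : nd 27924 = n45734 := ndS (p := 13926) (l := 0) rfl N13926 D45734
theorem N27925 : nd 27925 = n45735 := ndS (p := 13926) (l := 4) rfl N13926 D45735
theorem N27926 : nd 27926 = n45736 := ndS (p := 13926) (l := 7) rfl N13926 D45736
theorem N27927 : nd 27927 = n45738 := ndS (p := 13928) (l := 3) rfl N13928 D45738
theorem N27928 : nd 27928 = n45739 := ndS (p := 13928) (l := 5) rfl N13928 D45739
theorem N27929 : nd 27929 = n45751 := ndS (p := 13929) (l := 3) rfl N13929 D45751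
theorem N27930 : nd 27930 = n45754 := ndS (p := 13930) (l := 0) rfl N13930 D45754
theorem N27931 : nd 27931 = n45755 := ndS (p := 13930) (l := 1) rfl N13930 D45755
theorem N27932 : nd 27932 = n45756 := ndS (p := 13930) (l := 2) rfl N13930 D45756
theorem N27933 : nd 27933 = n45757 := ndS (p := 13930) (l := 5) rfl N13930 D45757
theorem N27934 : nd 27934 = n45758 := ndS (p := 13931) (l := 6) rfl N13931 D45758
theorem N27935 : nd 27935 = n45768 := ndS (p := 13934) (l := 5) rfl N13934 D45768
theorem N27936 : nd 27936 = n45773 := ndS (p := 13937) (l := 0) rfl N13937 D45773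
theorem N27937 : nd 27937 = n45774 := ndS (p := 13937) (l := 1) rfl N13937 D45774
theorem N27938 : nd 27938 = n45775 := ndS (p := 13937) (l := 2) rfl N13937 D45775
theorem N27939 : nd 27939 = n45776 := ndS (p := 13937) (l := 5) rfl N13937 D45776
theorem N27940 : nd 27940 = n45777 := ndS (p := 13937) (l := 6) rfl N13937 D45777
theorem N27941 : nd 27941 = n45781 := ndS (p := 13939) (l := 5) rfl N13939 D45781
theorem N27942 : nd 27942 = n45791 := ndS (p := 13940) (l := 5) rfl N13940 D45791
theorem N27943 : nd 27943 = n45797 := ndS (p := 13942) (l := 3) rfl N13942 D45797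
theorem N27944 : nd 27944 = n45798 := ndS (p := 13942) (l := 6) rfl N13942 D45798
theorem N27945 : nd 27945 = n45799 := ndS (p := 13943) (l := 6) rfl N13943 D45799
theorem N27946 : nd 27946 = n45800 := ndS (p := 13944) (l := 6) rfl N13944 D45800
theorem N27947 : nd 27947 = n45801 := ndS (p := 13945) (l := 0) rfl N13945 D45801
theorem N27948 : nd 27948 = n45802 := ndS (p := 13945) (l := 1) rfl N13945 D45802
theorem N27949 : nd 27949 = n45803 := ndS (p := 13945) (l := 5) rfl N13945 D45803
theorem N27950 : nd 27950 = n45805 := ndS (p := 13947) (l := 0) rfl N13947 D45805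
theorem N27951 : nd 27951 = n45806 := ndS (p := 13947) (l := 1) rfl N13947 D45806
theorem N27952 : nd 27952 = n45807 := ndS (p := 13947) (l := 5) rfl N13947 D45807
theorem N27953 : nd 27953 = n45808 := ndS (p := 13947) (l := 7) rfl N13947 D45808
theorem N27954 : nd 27954 = n45810 := ndS (p := 13948) (l := 4) rfl N13948 D45810
theorem N27955 : nd 27955 = n45811 := ndS (p := 13949) (l := 0) rfl N13949 D45811
theorem N27956 : nd 27956 = n45815 := ndS (p := 13951) (l := 6) rfl N13951 D45815
theorem N27957 : nd 27957 = n45818 := ndS (p := 13954) (l := 2) rfl N13954 D45818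
theorem N27958 : nd 27958 = n45819 := ndS (p := 13954) (l := 5) rfl N13954 D45819
theorem N27959 : nd 27959 = n45820 := ndS (p := 13954) (l := 6) rfl N13954 D45820
theorem N27960 : nd 27960 = n45821 := ndS (p := 13955) (l := 6) rfl N13955 D45821
theorem N27961 : nd 27961 = n45824 := ndS (p := 13956) (l := 5) rfl N13956 D45824
theorem N27962 : nd 27962 = n45838 := ndS (p := 13957) (l := 4) rfl N13957 D45838
theorem N27963 : nd 27963 = n45840 := ndS (p := 13958) (l := 3) rfl N13958 D45840
theorem N27964 : nd 27964 = n45841 := ndS (p := 13958) (l := 5) rfl N13958 D45841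
theorem N27965 : nd 27965 = n45842 := ndS (p := 13959) (l := 0) rfl N13959 D45842
theorem N27966 : nd 27966 = n45843 := ndS (p := 13959) (l := 1) rfl N13959 D45843
theorem N27967 : nd 27967 = n45844 := ndS (p := 13959) (l := 2) rfl N13959 D45844
theorem N27968 : nd 27968 = n45845 := ndS (p := 13959) (l := 5) rfl N13959 D45845
theorem N27969 : nd 27969 = n45846 := ndS (p := 13959) (l := 6) rfl N13959 D45846
theorem N27970 : nd 27970 = n45847 := ndS (p := 13960) (l := 6) rfl N13960 D45847
theorem N27971 : nd 27971 = n45848 := ndS (p := 13961) (l := 5) rfl N13961 D45848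
theorem N27972 : nd 27972 = n45849 := ndS (p := 13962) (l := 0) rfl N13962 D45849
theorem N27973 : nd 27973 = n45851 := ndS (p := 13962) (l := 5) rfl N13962 D45851
theorem N27974 : nd 27974 = n45852 := ndS (p := 13962) (l := 7) rfl N13962 D45852
theorem N27975 : nd 27975 = n45853 := ndS (p := 13963) (l := 2) rfl N13963 D45853
theorem N27976 : nd 27976 = n45854 := ndS (p := 13963) (l := 6) rfl N13963 D45854
theorem N27977 : nd 27977 = n45855 := ndS (p := 13964) (l := 6) rfl N13964 D45855
theorem N27978 : nd 27978 = n45858 := ndS (p := 13965) (l := 5) rfl N13965 D45858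
theorem N27979 : nd 27979 = n45867 := ndS (p := 13966) (l := 4) rfl N13966 D45867
theorem N27980 : nd 27980 = n45868 := ndS (p := 13966) (l := 5) rfl N13966 D45868
theorem N27981 : nd 27981 = n45869 := ndS (p := 13966) (l := 6) rfl N13966 D45869
theorem N27982 : nd 27982 = n45874 := ndS (p := 13968) (l := 0) rfl N13968 D45874
theorem N27983 : nd 27983 = n45875 := ndS (p := 13968) (l := 1) rfl N13968 D45875
theorem N27984 : nd 27984 = n45876 := ndS (p := 13968) (l := 2) rfl N13968 D45876
theorem N27985 : nd 27985 = n45877 := ndS (p := 13968) (l := 6) rfl N13968 D45877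
theorem N27986 : nd 27986 = n45878 := ndS (p := 13969) (l := 5) rfl N13969 D45878
theorem N27987 : nd 27987 = n45879 := ndS (p := 13969) (l := 7) rfl N13969 D45879
theorem N27988 : nd 27988 = n45887 := ndS (p := 13973) (l := 0) rfl N13973 D45887
theorem N27989 : nd 27989 = n45889 := ndS (p := 13973) (l := 2) rfl N13973 D45889
theorem N27990 : nd 27990 = n45890 := ndS (p := 13973) (l := 6) rfl N13973 D45890
theorem N27991 : nd 27991 = n45891 := ndS (p := 13974) (l := 0) rfl N13974 D45891
theorem N27992 : nd 27992 = n45892 := ndS (p := 13974) (l := 1) rfl N13974 D45892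
theorem N27993 : nd 27993 = n45893 := ndS (p := 13974) (l := 5) rfl N13974 D45893
theorem N27994 : nd 27994 = n45894 := ndS (p := 13974) (l := 7) rfl N13974 D45894
theorem N27995 : nd 27995 = n45901 := ndS (p := 13976) (l := 6) rfl N13976 D45901
theorem N27996 : nd 27996 = n45903 := ndS (p := 13977) (l := 1) rfl N13977 D45903
theorem N27997 : nd 27997 = n45904 := ndS (p := 13977) (l := 4) rfl N13977 D45904
theorem N27998 : nd 27998 = n45906 := ndS (p := 13979) (l := 3) rfl N13979 D45906
theorem N27999 : nd 27999 = n45907 := ndS (p := 13979) (l := 4) rfl N13979 D45907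
theorem N28000 : nd 28000 = n45908 := ndS (p := 13979) (l := 6) rfl N13979 D45908
theorem N28001 : nd 28001 = n45909 := ndS (p := 13980) (l := 3) rfl N13980 D45909
theorem N28002 : nd 28002 = n45910 := ndS (p := 13980) (l := 4) rfl N13980 D45910
theorem N28003 : nd 28003 = n45912 := ndS (p := 13981) (l := 6) rfl N13981 D45912
theorem N28004 : nd 28004 = n45913 := ndS (p := 13982) (l := 0) rfl N13982 D45913
theorem N28005 : nd 28005 = n45914 := ndS (p := 13982) (l := 1) rfl N13982 D45914
theorem N28006 : nd 28006 = n45915 := ndS (p := 13982) (l := 5) rfl N13982 D45915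
theorem N28007 : nd 28007 = n45916 := ndS (p := 13982) (l := 7) rfl N13982 D45916
theorem N28008 : nd 28008 = n45927 := ndS (p := 13983) (l := 0) rfl N13983 D45927
theorem N28009 : nd 28009 = n45928 := ndS (p := 13983) (l := 1) rfl N13983 D45928
theorem N28010 : nd 28010 = n45929 := ndS (p := 13983) (l := 4) rfl N13983 D45929
theorem N28011 : nd 28011 = n45930 := ndS (p := 13983) (l := 7) rfl N13983 D45930
theorem N28012 : nd 28012 = n45946 := ndS (p := 13985) (l := 3) rfl N13985 D45946
theorem N28013 : nd 28013 = n45947 := ndS (p := 13985) (l := 5) rfl N13985 D45947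
theorem N28014 : nd 28014 = n45948 := ndS (p := 13985) (l := 6) rfl N13985 D45948
theorem N28015 : nd 28015 = n45957 := ndS (p := 13987) (l := 7) rfl N13987 D45957
theorem N28016 : nd 28016 = n45988 := ndS (p := 13988) (l := 3) rfl N13988 D45988
theorem N28017 : nd 28017 = n45989 := ndS (p := 13988) (l := 5) rfl N13988 D45989
theorem N28018 : nd 28018 = n45990 := ndS (p := 13988) (l := 6) rfl N13988 D45990
theorem N28019 : nd 28019 = n45991 := ndS (p := 13989) (l := 5) rfl N13989 D45991
theorem N28020 : nd 28020 = n45992 := ndS (p := 13989) (l := 6) rfl N13989 D45992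
theorem N28021 : nd 28021 = n45993 := ndS (p := 13990) (l := 5) rfl N13990 D45993
theorem N28022 : nd 28022 = n45994 := ndS (p := 13990) (l := 6) rfl N13990 D45994
theorem N28023 : nd 28023 = n45995 := ndS (p := 13991) (l := 0) rfl N13991 D45995
theorem N28024 : nd 28024 = n45996 := ndS (p := 13991) (l := 1) rfl N13991 D45996
theorem N28025 : nd 28025 = n45997 := ndS (p := 13991) (l := 4) rfl N13991 D45997
theorem N28026 : nd 28026 = n45998 := ndS (p := 13991) (l := 6) rfl N13991 D45998
theorem N28027 : nd 28027 = n45999 := ndS (p := 13992) (l := 0) rfl N13992 D45999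
theorem N28028 : nd 28028 = n46000 := ndS (p := 13992) (l := 1) rfl N13992 D46000
theorem N28029 : nd 28029 = n46001 := ndS (p := 13992) (l := 5) rfl N13992 D46001
theorem N28030 : nd 28030 = n46002 := ndS (p := 13993) (l := 0) rfl N13993 D46002
theorem N28031 : nd 28031 = n46004 := ndS (p := 13993) (l := 5) rfl N13993 D46004
theorem N28032 : nd 28032 = n46005 := ndS (p := 13993) (l := 7) rfl N13993 D46005
theorem N28033 : nd 28033 = n46006 := ndS (p := 13994) (l := 0) rfl N13994 D46006
theorem N28034 : nd 28034 = n46007 := ndS (p := 13994) (l := 4) rfl N13994 D46007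
theorem N28035 : nd 28035 = n46008 := ndS (p := 13995) (l := 6) rfl N13995 D46008
theorem N28036 : nd 28036 = n46009 := ndS (p := 13996) (l := 6) rfl N13996 D46009
theorem N28037 : nd 28037 = n46010 := ndS (p := 13997) (l := 4) rfl N13997 D46010
theorem N28038 : nd 28038 = n46011 := ndS (p := 13997) (l := 6) rfl N13997 D46011
theorem N28039 : nd 28039 = n46012 := ndS (p := 13998) (l := 0) rfl N13998 D46012
theorem N28040 : nd 28040 = n46013 := ndS (p := 13998) (l := 1) rfl N13998 D46013
theorem N28041 : nd 28041 = n46014 := ndS (p := 13998) (l := 5) rfl N13998 D46014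
theorem N28042 : nd 28042 = n46015 := ndS (p := 13998) (l := 7) rfl N13998 D46015
theorem N28043 : nd 28043 = n46016 := ndS (p := 13999) (l := 0) rfl N13999 D46016
theorem N28044 : nd 28044 = n46017 := ndS (p := 13999) (l := 1) rfl N13999 D46017
theorem N28045 : nd 28045 = n46018 := ndS (p := 13999) (l := 5) rfl N13999 D46018
theorem N28046 : nd 28046 = n46019 := ndS (p := 13999) (l := 7) rfl N13999 D46019
theorem N28047 : nd 28047 = n46021 := ndS (p := 14000) (l := 1) rfl N14000 D46021
theorem N28048 : nd 28048 = n46022 := ndS (p := 14000) (l := 4) rfl N14000 D46022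
theorem N28049 : nd 28049 = n46023 := ndS (p := 14000) (l := 7) rfl N14000 D46023
theorem N28050 : nd 28050 = n46024 := ndS (p := 14002) (l := 0) rfl N14002 D46024
theorem N28051 : nd 28051 = n46025 := ndS (p := 14002) (l := 2) rfl N14002 D46025
theorem N28052 : nd 28052 = n46026 := ndS (p := 14002) (l := 6) rfl N14002 D46026
theorem N28053 : nd 28053 = n46028 := ndS (p := 14003) (l := 1) rfl N14003 D46028
theorem N28054 : nd 28054 = n46029 := ndS (p := 14003) (l := 5) rfl N14003 D46029
theorem N28055 : nd 28055 = n46030 := ndS (p := 14003) (l := 7) rfl N14003 D46030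
theorem N28056 : nd 28056 = n46031 := ndS (p := 14004) (l := 0) rfl N14004 D46031
theorem N28057 : nd 28057 = n46032 := ndS (p := 14004) (l := 1) rfl N14004 D46032
theorem N28058 : nd 28058 = n46033 := ndS (p := 14004) (l := 5) rfl N14004 D46033
theorem N28059 : nd 28059 = n46034 := ndS (p := 14004) (l := 7) rfl N14004 D46034
theorem N28060 : nd 28060 = n46036 := ndS (p := 14005) (l := 3) rfl N14005 D46036
theorem N28061 : nd 28061 = n46038 := ndS (p := 14005) (l := 5) rfl N14005 D46038
theorem N28062 : nd 28062 = n46039 := ndS (p := 14005) (l := 6) rfl N14005 D46039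
theorem N28063 : nd 28063 = n46041 := ndS (p := 14006) (l := 3) rfl N14006 D46041
theorem N28064 : nd 28064 = n46043 := ndS (p := 14006) (l := 5) rfl N14006 D46043
theorem N28065 : nd 28065 = n46044 := ndS (p := 14006) (l := 6) rfl N14006 D46044
theorem N28066 : nd 28066 = n46045 := ndS (p := 14007) (l := 0) rfl N14007 D46045
theorem N28067 : nd 28067 = n46046 := ndS (p := 14007) (l := 1) rfl N14007 D46046
theorem N28068 : nd 28068 = n46047 := ndS (p := 14007) (l := 4) rfl N14007 D46047
theorem N28069 : nd 28069 = n46050 := ndS (p := 14009) (l := 2) rfl N14009 D46050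
theorem N28070 : nd 28070 = n46051 := ndS (p := 14009) (l := 4) rfl N14009 D46051
theorem N28071 : nd 28071 = n46052 := ndS (p := 14009) (l := 6) rfl N14009 D46052
theorem N28072 : nd 28072 = n46055 := ndS (p := 14010) (l := 5) rfl N14010 D46055
theorem N28073 : nd 28073 = n46056 := ndS (p := 14010) (l := 7) rfl N14010 D46056
theorem N28074 : nd 28074 = n46057 := ndS (p := 14011) (l := 2) rfl N14011 D46057
theorem N28075 : nd 28075 = n46058 := ndS (p := 14011) (l := 4) rfl N14011 D46058
theorem N28076 : nd 28076 = n46059 := ndS (p := 14011) (l := 6) rfl N14011 D46059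
theorem N28077 : nd 28077 = n46060 := ndS (p := 14012) (l := 0) rfl N14012 D46060
theorem N28078 : nd 28078 = n46061 := ndS (p := 14012) (l := 1) rfl N14012 D46061
theorem N28079 : nd 28079 = n46062 := ndS (p := 14012) (l := 5) rfl N14012 D46062
theorem N28080 : nd 28080 = n46063 := ndS (p := 14012) (l := 7) rfl N14012 D46063
theorem N28081 : nd 28081 = n46065 := ndS (p := 14013) (l := 3) rfl N14013 D46065
theorem N28082 : nd 28082 = n46066 := ndS (p := 14013) (l := 4) rfl N14013 D46066
theorem N28083 : nd 28083 = n46067 := ndS (p := 14013) (l := 5) rfl N14013 D46067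
theorem N28084 : nd 28084 = n46068 := ndS (p := 14013) (l := 6) rfl N14013 D46068
theorem N28085 : nd 28085 = n46070 := ndS (p := 14014) (l := 3) rfl N14014 D46070
theorem N28086 : nd 28086 = n46071 := ndS (p := 14014) (l := 4) rfl N14014 D46071
theorem N28087 : nd 28087 = n46072 := ndS (p := 14014) (l := 5) rfl N14014 D46072
theorem N28088 : nd 28088 = n46073 := ndS (p := 14014) (l := 6) rfl N14014 D46073
theorem N28089 : nd 28089 = n46074 := ndS (p := 14015) (l := 0) rfl N14015 D46074
theorem N28090 : nd 28090 = n46075 := ndS (p := 14015) (l := 1) rfl N14015 D46075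
theorem N28091 : nd 28091 = n46076 := ndS (p := 14015) (l := 4) rfl N14015 D46076
theorem N28092 : nd 28092 = n46077 := ndS (p := 14015) (l := 7) rfl N14015 D46077
theorem N28093 : nd 28093 = n46078 := ndS (p := 14017) (l := 0) rfl N14017 D46078
theorem N28094 : nd 28094 = n46080 := ndS (p := 14017) (l := 2) rfl N14017 D46080
theorem N28095 : nd 28095 = n46081 := ndS (p := 14017) (l := 5) rfl N14017 D46081
theorem N28096 : nd 28096 = n46082 := ndS (p := 14017) (l := 6) rfl N14017 D46082
theorem N28097 : nd 28097 = n46083 := ndS (p := 14018) (l := 1) rfl N14018 D46083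
theorem N28098 : nd 28098 = n46084 := ndS (p := 14018) (l := 4) rfl N14018 D46084
theorem N28099 : nd 28099 = n46085 := ndS (p := 14018) (l := 6) rfl N14018 D46085
theorem N28100 : nd 28100 = n46087 := ndS (p := 14020) (l := 1) rfl N14020 D46087
theorem N28101 : nd 28101 = n46088 := ndS (p := 14020) (l := 2) rfl N14020 D46088
theorem N28102 : nd 28102 = n46089 := ndS (p := 14020) (l := 5) rfl N14020 D46089
theorem N28103 : nd 28103 = n46090 := ndS (p := 14020) (l := 6) rfl N14020 D46090
theorem N28104 : nd 28104 = n46091 := ndS (p := 14021) (l := 4) rfl N14021 D46091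
theorem N28105 : nd 28105 = n46092 := ndS (p := 14021) (l := 6) rfl N14021 D46092
theorem N28106 : nd 28106 = n46095 := ndS (p := 14022) (l := 5) rfl N14022 D46095
theorem N28107 : nd 28107 = n46097 := ndS (p := 14023) (l := 3) rfl N14023 D46097
theorem N28108 : nd 28108 = n46098 := ndS (p := 14023) (l := 4) rfl N14023 D46098
theorem N28109 : nd 28109 = n46099 := ndS (p := 14023) (l := 5) rfl N14023 D46099
theorem N28110 : nd 28110 = n46100 := ndS (p := 14023) (l := 6) rfl N14023 D46100
theorem N28111 : nd 28111 = n46101 := ndS (p := 14024) (l := 3) rfl N14024 D46101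
theorem N28112 : nd 28112 = n46102 := ndS (p := 14024) (l := 4) rfl N14024 D46102
theorem N28113 : nd 28113 = n46103 := ndS (p := 14024) (l := 5) rfl N14024 D46103
theorem N28114 : nd 28114 = n46104 := ndS (p := 14024) (l := 6) rfl N14024 D46104
theorem N28115 : nd 28115 = n46105 := ndS (p := 14025) (l := 0) rfl N14025 D46105
theorem N28116 : nd 28116 = n46106 := ndS (p := 14025) (l := 1) rfl N14025 D46106
theorem N28117 : nd 28117 = n46107 := ndS (p := 14025) (l := 3) rfl N14025 D46107
theorem N28118 : nd 28118 = n46108 := ndS (p := 14025) (l := 5) rfl N14025 D46108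
theorem N28119 : nd 28119 = n46109 := ndS (p := 14025) (l := 7) rfl N14025 D46109
theorem N28120 : nd 28120 = n46111 := ndS (p := 14027) (l := 0) rfl N14027 D46111
theorem N28121 : nd 28121 = n46113 := ndS (p := 14027) (l := 5) rfl N14027 D46113
theorem N28122 : nd 28122 = n46114 := ndS (p := 14027) (l := 6) rfl N14027 D46114
theorem N28123 : nd 28123 = n46115 := ndS (p := 14028) (l := 4) rfl N14028 D46115
theorem N28124 : nd 28124 = n46116 := ndS (p := 14028) (l := 6) rfl N14028 D46116
theorem N28125 : nd 28125 = n46118 := ndS (p := 14029) (l := 1) rfl N14029 D46118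
theorem N28126 : nd 28126 = n46120 := ndS (p := 14030) (l := 3) rfl N14030 D46120
theorem N28127 : nd 28127 = n46121 := ndS (p := 14030) (l := 5) rfl N14030 D46121
theorem N28128 : nd 28128 = n46131 := ndS (p := 14031) (l := 4) rfl N14031 D46131
theorem N28129 : nd 28129 = n46132 := ndS (p := 14031) (l := 6) rfl N14031 D46132
theorem N28130 : nd 28130 = n46133 := ndS (p := 14032) (l := 6) rfl N14032 D46133
theorem N28131 : nd 28131 = n46134 := ndS (p := 14033) (l := 6) rfl N14033 D46134
theorem N28132 : nd 28132 = n46135 := ndS (p := 14034) (l := 0) rfl N14034 D46135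
theorem N28133 : nd 28133 = n46136 := ndS (p := 14034) (l := 1) rfl N14034 D46136
theorem N28134 : nd 28134 = n46137 := ndS (p := 14035) (l := 0) rfl N14035 D46137
theorem N28135 : nd 28135 = n46138 := ndS (p := 14035) (l := 1) rfl N14035 D46138
theorem N28136 : nd 28136 = n46139 := ndS (p := 14035) (l := 5) rfl N14035 D46139
theorem N28137 : nd 28137 = n46140 := ndS (p := 14036) (l := 5) rfl N14036 D46140
theorem N28138 : nd 28138 = n46142 := ndS (p := 14037) (l := 4) rfl N14037 D46142
theorem N28139 : nd 28139 = n46185 := ndS (p := 14041) (l := 6) rfl N14041 D46185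
theorem N28140 : nd 28140 = n46186 := ndS (p := 14042) (l := 0) rfl N14042 D46186
theorem N28141 : nd 28141 = n46187 := ndS (p := 14042) (l := 1) rfl N14042 D46187
theorem N28142 : nd 28142 = n46188 := ndS (p := 14042) (l := 5) rfl N14042 D46188
theorem N28143 : nd 28143 = n46259 := ndS (p := 14044) (l := 5) rfl N14044 D46259
theorem N28144 : nd 28144 = n46260 := ndS (p := 14044) (l := 6) rfl N14044 D46260
theorem N28145 : nd 28145 = n46261 := ndS (p := 14045) (l := 4) rfl N14045 D46261
theorem N28146 : nd 28146 = n46262 := ndS (p := 14045) (l := 6) rfl N14045 D46262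
theorem N28147 : nd 28147 = n46263 := ndS (p := 14046) (l := 0) rfl N14046 D46263
theorem N28148 : nd 28148 = n46265 := ndS (p := 14046) (l := 5) rfl N14046 D46265
theorem N28149 : nd 28149 = n46266 := ndS (p := 14046) (l := 7) rfl N14046 D46266
theorem N28150 : nd 28150 = n46269 := ndS (p := 14048) (l := 5) rfl N14048 D46269
theorem N28151 : nd 28151 = n46271 := ndS (p := 14049) (l := 5) rfl N14049 D46271
theorem N28152 : nd 28152 = n46273 := ndS (p := 14050) (l := 3) rfl N14050 D46273
theorem N28153 : nd 28153 = n46274 := ndS (p := 14050) (l := 4) rfl N14050 D46274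
theorem N28154 : nd 28154 = n46275 := ndS (p := 14050) (l := 6) rfl N14050 D46275
theorem N28155 : nd 28155 = n46276 := ndS (p := 14051) (l := 4) rfl N14051 D46276
theorem N28156 : nd 28156 = n46278 := ndS (p := 14052) (l := 6) rfl N14052 D46278
theorem N28157 : nd 28157 = n46279 := ndS (p := 14053) (l := 0) rfl N14053 D46279
theorem N28158 : nd 28158 = n46280 := ndS (p := 14053) (l := 1) rfl N14053 D46280
theorem N28159 : nd 28159 = n46281 := ndS (p := 14053) (l := 5) rfl N14053 D46281
theorem N28160 : nd 28160 = n46282 := ndS (p := 14053) (l := 7) rfl N14053 D46282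
theorem N28161 : nd 28161 = n46283 := ndS (p := 14054) (l := 3) rfl N14054 D46283
theorem N28162 : nd 28162 = n46284 := ndS (p := 14054) (l := 5) rfl N14054 D46284
theorem N28163 : nd 28163 = n46285 := ndS (p := 14054) (l := 6) rfl N14054 D46285
theorem N28164 : nd 28164 = n46286 := ndS (p := 14055) (l := 5) rfl N14055 D46286
theorem N28165 : nd 28165 = n46287 := ndS (p := 14055) (l := 6) rfl N14055 D46287
theorem N28166 : nd 28166 = n46288 := ndS (p := 14056) (l := 0) rfl N14056 D46288
theorem N28167 : nd 28167 = n46289 := ndS (p := 14056) (l := 1) rfl N14056 D46289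
theorem N28168 : nd 28168 = n46290 := ndS (p := 14056) (l := 4) rfl N14056 D46290
theorem N28169 : nd 28169 = n46293 := ndS (p := 14057) (l := 3) rfl N14057 D46293
theorem N28170 : nd 28170 = n46294 := ndS (p := 14057) (l := 4) rfl N14057 D46294
theorem N28171 : nd 28171 = n46295 := ndS (p := 14057) (l := 5) rfl N14057 D46295
theorem N28172 : nd 28172 = n46296 := ndS (p := 14057) (l := 6) rfl N14057 D46296
theorem N28173 : nd 28173 = n46298 := ndS (p := 14058) (l := 3) rfl N14058 D46298
theorem N28174 : nd 28174 = n46299 := ndS (p := 14058) (l := 4) rfl N14058 D46299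
theorem N28175 : nd 28175 = n46300 := ndS (p := 14058) (l := 5) rfl N14058 D46300
theorem N28176 : nd 28176 = n46301 := ndS (p := 14058) (l := 6) rfl N14058 D46301
theorem N28177 : nd 28177 = n46302 := ndS (p := 14059) (l := 0) rfl N14059 D46302
theorem N28178 : nd 28178 = n46303 := ndS (p := 14059) (l := 1) rfl N14059 D46303
theorem N28179 : nd 28179 = n46305 := ndS (p := 14059) (l := 7) rfl N14059 D46305
theorem N28180 : nd 28180 = n46307 := ndS (p := 14061) (l := 2) rfl N14061 D46307
theorem N28181 : nd 28181 = n46308 := ndS (p := 14061) (l := 5) rfl N14061 D46308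
theorem N28182 : nd 28182 = n46309 := ndS (p := 14061) (l := 6) rfl N14061 D46309
theorem N28183 : nd 28183 = n46315 := ndS (p := 14062) (l := 6) rfl N14062 D46315
theorem N28184 : nd 28184 = n46318 := ndS (p := 14064) (l := 1) rfl N14064 D46318
theorem N28185 : nd 28185 = n46319 := ndS (p := 14064) (l := 2) rfl N14064 D46319
theorem N28186 : nd 28186 = n46320 := ndS (p := 14064) (l := 5) rfl N14064 D46320
theorem N28187 : nd 28187 = n46321 := ndS (p := 14064) (l := 6) rfl N14064 D46321
theorem N28188 : nd 28188 = n46323 := ndS (p := 14065) (l := 6) rfl N14065 D46323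
theorem N28189 : nd 28189 = n46325 := ndS (p := 14067) (l := 3) rfl N14067 D46325
theorem N28190 : nd 28190 = n46328 := ndS (p := 14067) (l := 6) rfl N14067 D46328
theorem N28191 : nd 28191 = n46329 := ndS (p := 14068) (l := 3) rfl N14068 D46329
theorem N28192 : nd 28192 = n46332 := ndS (p := 14068) (l := 6) rfl N14068 D46332
theorem N28193 : nd 28193 = n46340 := ndS (p := 14069) (l := 1) rfl N14069 D46340
theorem N28194 : nd 28194 = n46342 := ndS (p := 14069) (l := 6) rfl N14069 D46342
theorem N28195 : nd 28195 = n46345 := ndS (p := 14070) (l := 0) rfl N14070 D46345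
theorem N28196 : nd 28196 = n46423 := ndS (p := 14071) (l := 6) rfl N14071 D46423
theorem N28197 : nd 28197 = n46424 := ndS (p := 14072) (l := 5) rfl N14072 D46424
theorem N28198 : nd 28198 = n46425 := ndS (p := 14073) (l := 6) rfl N14073 D46425
theorem N28199 : nd 28199 = n46426 := ndS (p := 14074) (l := 6) rfl N14074 D46426
theorem N28200 : nd 28200 = n46427 := ndS (p := 14075) (l := 4) rfl N14075 D46427
theorem N28201 : nd 28201 = n46428 := ndS (p := 14075) (l := 6) rfl N14075 D46428
theorem N28202 : nd 28202 = n46429 := ndS (p := 14076) (l := 0) rfl N14076 D46429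
theorem N28203 : nd 28203 = n46430 := ndS (p := 14076) (l := 1) rfl N14076 D46430
theorem N28204 : nd 28204 = n46431 := ndS (p := 14076) (l := 5) rfl N14076 D46431
theorem N28205 : nd 28205 = n46433 := ndS (p := 14077) (l := 0) rfl N14077 D46433
theorem N28206 : nd 28206 = n46434 := ndS (p := 14077) (l := 1) rfl N14077 D46434
theorem N28207 : nd 28207 = n46435 := ndS (p := 14077) (l := 5) rfl N14077 D46435
theorem N28208 : nd 28208 = n46436 := ndS (p := 14077) (l := 7) rfl N14077 D46436
theorem N28209 : nd 28209 = n46437 := ndS (p := 14078) (l := 3) rfl N14078 D46437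
theorem N28210 : nd 28210 = n46438 := ndS (p := 14078) (l := 5) rfl N14078 D46438
theorem N28211 : nd 28211 = n46439 := ndS (p := 14079) (l := 0) rfl N14079 D46439
theorem N28212 : nd 28212 = n46440 := ndS (p := 14079) (l := 1) rfl N14079 D46440
theorem N28213 : nd 28213 = n46441 := ndS (p := 14079) (l := 4) rfl N14079 D46441
theorem N28214 : nd 28214 = n46443 := ndS (p := 14080) (l := 3) rfl N14080 D46443
theorem N28215 : nd 28215 = n46444 := ndS (p := 14080) (l := 5) rfl N14080 D46444
theorem N28216 : nd 28216 = n46446 := ndS (p := 14081) (l := 4) rfl N14081 D46446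
theorem N28217 : nd 28217 = n46458 := ndS (p := 14084) (l := 0) rfl N14084 D46458
theorem N28218 : nd 28218 = n46459 := ndS (p := 14084) (l := 1) rfl N14084 D46459
theorem N28219 : nd 28219 = n46460 := ndS (p := 14084) (l := 5) rfl N14084 D46460
theorem N28220 : nd 28220 = n46462 := ndS (p := 14085) (l := 0) rfl N14085 D46462
theorem N28221 : nd 28221 = n46463 := ndS (p := 14085) (l := 1) rfl N14085 D46463
theorem N28222 : nd 28222 = n46464 := ndS (p := 14085) (l := 5) rfl N14085 D46464
theorem N28223 : nd 28223 = n46465 := ndS (p := 14085) (l := 7) rfl N14085 D46465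
theorem N28224 : nd 28224 = n46466 := ndS (p := 14086) (l := 3) rfl N14086 D46466
theorem N28225 : nd 28225 = n46467 := ndS (p := 14086) (l := 5) rfl N14086 D46467
theorem N28226 : nd 28226 = n46468 := ndS (p := 14087) (l := 3) rfl N14087 D46468
theorem N28227 : nd 28227 = n46469 := ndS (p := 14087) (l := 5) rfl N14087 D46469
theorem N28228 : nd 28228 = n46470 := ndS (p := 14088) (l := 0) rfl N14088 D46470
theorem N28229 : nd 28229 = n46471 := ndS (p := 14088) (l := 1) rfl N14088 D46471
theorem N28230 : nd 28230 = n46472 := ndS (p := 14088) (l := 4) rfl N14088 D46472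
theorem N28231 : nd 28231 = n46484 := ndS (p := 14089) (l := 3) rfl N14089 D46484
theorem N28232 : nd 28232 = n46485 := ndS (p := 14089) (l := 6) rfl N14089 D46485
theorem N28233 : nd 28233 = n46486 := ndS (p := 14090) (l := 6) rfl N14090 D46486
theorem N28234 : nd 28234 = n46487 := ndS (p := 14091) (l := 6) rfl N14091 D46487
theorem N28235 : nd 28235 = n46488 := ndS (p := 14092) (l := 0) rfl N14092 D46488
theorem N28236 : nd 28236 = n46489 := ndS (p := 14092) (l := 1) rfl N14092 D46489
theorem N28237 : nd 28237 = n46490 := ndS (p := 14092) (l := 5) rfl N14092 D46490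
theorem N28238 : nd 28238 = n46491 := ndS (p := 14092) (l := 7) rfl N14092 D46491
theorem N28239 : nd 28239 = n46492 := ndS (p := 14093) (l := 0) rfl N14093 D46492
theorem N28240 : nd 28240 = n46493 := ndS (p := 14093) (l := 1) rfl N14093 D46493
theorem N28241 : nd 28241 = n46494 := ndS (p := 14093) (l := 5) rfl N14093 D46494
theorem N28242 : nd 28242 = n46495 := ndS (p := 14093) (l := 7) rfl N14093 D46495
theorem N28243 : nd 28243 = n46498 := ndS (p := 14094) (l := 4) rfl N14094 D46498
theorem N28244 : nd 28244 = n46500 := ndS (p := 14096) (l := 4) rfl N14096 D46500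
theorem N28245 : nd 28245 = n46501 := ndS (p := 14096) (l := 6) rfl N14096 D46501
theorem N28246 : nd 28246 = n46502 := ndS (p := 14097) (l := 3) rfl N14097 D46502
theorem N28247 : nd 28247 = n46503 := ndS (p := 14097) (l := 4) rfl N14097 D46503
theorem N28248 : nd 28248 = n46504 := ndS (p := 14097) (l := 6) rfl N14097 D46504
theorem N28249 : nd 28249 = n46505 := ndS (p := 14098) (l := 6) rfl N14098 D46505
theorem N28250 : nd 28250 = n46506 := ndS (p := 14099) (l := 4) rfl N14099 D46506
theorem N28251 : nd 28251 = n46507 := ndS (p := 14099) (l := 6) rfl N14099 D46507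
theorem N28252 : nd 28252 = n46508 := ndS (p := 14100) (l := 0) rfl N14100 D46508
theorem N28253 : nd 28253 = n46509 := ndS (p := 14100) (l := 1) rfl N14100 D46509
theorem N28254 : nd 28254 = n46510 := ndS (p := 14100) (l := 5) rfl N14100 D46510
theorem N28255 : nd 28255 = n46512 := ndS (p := 14101) (l := 0) rfl N14101 D46512
theorem N28256 : nd 28256 = n46513 := ndS (p := 14101) (l := 1) rfl N14101 D46513
theorem N28257 : nd 28257 = n46514 := ndS (p := 14101) (l := 5) rfl N14101 D46514
theorem N28258 : nd 28258 = n46515 := ndS (p := 14101) (l := 7) rfl N14101 D46515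
theorem N28259 : nd 28259 = n46516 := ndS (p := 14102) (l := 0) rfl N14102 D46516
theorem N28260 : nd 28260 = n46517 := ndS (p := 14102) (l := 4) rfl N14102 D46517
theorem N28261 : nd 28261 = n46520 := ndS (p := 14103) (l := 1) rfl N14103 D46520
theorem N28262 : nd 28262 = n46521 := ndS (p := 14103) (l := 2) rfl N14103 D46521
theorem N28263 : nd 28263 = n46522 := ndS (p := 14103) (l := 5) rfl N14103 D46522
theorem N28264 : nd 28264 = n46523 := ndS (p := 14103) (l := 6) rfl N14103 D46523
theorem N28265 : nd 28265 = n46524 := ndS (p := 14104) (l := 6) rfl N14104 D46524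
theorem N28266 : nd 28266 = n46525 := ndS (p := 14105) (l := 6) rfl N14105 D46525
theorem N28267 : nd 28267 = n46528 := ndS (p := 14106) (l := 5) rfl N14106 D46528
theorem N28268 : nd 28268 = n46529 := ndS (p := 14106) (l := 7) rfl N14106 D46529
theorem N28269 : nd 28269 = n46530 := ndS (p := 14107) (l := 0) rfl N14107 D46530
theorem N28270 : nd 28270 = n46531 := ndS (p := 14107) (l := 5) rfl N14107 D46531
theorem N28271 : nd 28271 = n46532 := ndS (p := 14107) (l := 6) rfl N14107 D46532
theorem N28272 : nd 28272 = n46534 := ndS (p := 14108) (l := 6) rfl N14108 D46534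
theorem N28273 : nd 28273 = n46535 := ndS (p := 14109) (l := 6) rfl N14109 D46535
theorem N28274 : nd 28274 = n46538 := ndS (p := 14110) (l := 5) rfl N14110 D46538
theorem N28275 : nd 28275 = n46539 := ndS (p := 14110) (l := 7) rfl N14110 D46539
theorem N28276 : nd 28276 = n46540 := ndS (p := 14111) (l := 4) rfl N14111 D46540
theorem N28277 : nd 28277 = n46541 := ndS (p := 14111) (l := 6) rfl N14111 D46541
theorem N28278 : nd 28278 = n46542 := ndS (p := 14112) (l := 0) rfl N14112 D46542
theorem N28279 : nd 28279 = n46543 := ndS (p := 14112) (l := 1) rfl N14112 D46543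
theorem N28280 : nd 28280 = n46544 := ndS (p := 14112) (l := 5) rfl N14112 D46544
theorem N28281 : nd 28281 = n46545 := ndS (p := 14112) (l := 7) rfl N14112 D46545
theorem N28282 : nd 28282 = n46547 := ndS (p := 14113) (l := 3) rfl N14113 D46547
theorem N28283 : nd 28283 = n46548 := ndS (p := 14113) (l := 4) rfl N14113 D46548
theorem N28284 : nd 28284 = n46550 := ndS (p := 14113) (l := 6) rfl N14113 D46550
theorem N28285 : nd 28285 = n46552 := ndS (p := 14114) (l := 3) rfl N14114 D46552
theorem N28286 : nd 28286 = n46553 := ndS (p := 14114) (l := 4) rfl N14114 D46553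
theorem N28287 : nd 28287 = n46555 := ndS (p := 14114) (l := 6) rfl N14114 D46555
theorem N28288 : nd 28288 = n46556 := ndS (p := 14115) (l := 0) rfl N14115 D46556
theorem N28289 : nd 28289 = n46557 := ndS (p := 14115) (l := 1) rfl N14115 D46557
theorem N28290 : nd 28290 = n46558 := ndS (p := 14115) (l := 5) rfl N14115 D46558
theorem N28291 : nd 28291 = n46559 := ndS (p := 14115) (l := 6) rfl N14115 D46559
theorem N28292 : nd 28292 = n46560 := ndS (p := 14116) (l := 0) rfl N14116 D46560
theorem N28293 : nd 28293 = n46561 := ndS (p := 14116) (l := 1) rfl N14116 D46561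
theorem N28294 : nd 28294 = n46562 := ndS (p := 14116) (l := 5) rfl N14116 D46562
theorem N28295 : nd 28295 = n46563 := ndS (p := 14116) (l := 7) rfl N14116 D46563
theorem N28296 : nd 28296 = n46565 := ndS (p := 14117) (l := 3) rfl N14117 D46565
theorem N28297 : nd 28297 = n46566 := ndS (p := 14117) (l := 4) rfl N14117 D46566
theorem N28298 : nd 28298 = n46567 := ndS (p := 14117) (l := 5) rfl N14117 D46567
theorem N28299 : nd 28299 = n46568 := ndS (p := 14117) (l := 6) rfl N14117 D46568
theorem N28300 : nd 28300 = n46570 := ndS (p := 14118) (l := 3) rfl N14118 D46570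
theorem N28301 : nd 28301 = n46571 := ndS (p := 14118) (l := 4) rfl N14118 D46571
theorem N28302 : nd 28302 = n46573 := ndS (p := 14118) (l := 6) rfl N14118 D46573
theorem N28303 : nd 28303 = n46574 := ndS (p := 14119) (l := 0) rfl N14119 D46574
theorem N28304 : nd 28304 = n46575 := ndS (p := 14119) (l := 1) rfl N14119 D46575
theorem N28305 : nd 28305 = n46576 := ndS (p := 14119) (l := 4) rfl N14119 D46576
theorem N28306 : nd 28306 = n46577 := ndS (p := 14119) (l := 7) rfl N14119 D46577
theorem N28307 : nd 28307 = n46579 := ndS (p := 14121) (l := 3) rfl N14121 D46579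
theorem N28308 : nd 28308 = n46580 := ndS (p := 14121) (l := 4) rfl N14121 D46580
theorem N28309 : nd 28309 = n46581 := ndS (p := 14121) (l := 5) rfl N14121 D46581
theorem N28310 : nd 28310 = n46582 := ndS (p := 14121) (l := 6) rfl N14121 D46582
theorem N28311 : nd 28311 = n46584 := ndS (p := 14122) (l := 3) rfl N14122 D46584
theorem N28312 : nd 28312 = n46585 := ndS (p := 14122) (l := 4) rfl N14122 D46585
theorem N28313 : nd 28313 = n46586 := ndS (p := 14122) (l := 5) rfl N14122 D46586
theorem N28314 : nd 28314 = n46587 := ndS (p := 14122) (l := 6) rfl N14122 D46587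
theorem N28315 : nd 28315 = n46588 := ndS (p := 14123) (l := 0) rfl N14123 D46588
theorem N28316 : nd 28316 = n46589 := ndS (p := 14123) (l := 1) rfl N14123 D46589
theorem N28317 : nd 28317 = n46590 := ndS (p := 14123) (l := 4) rfl N14123 D46590
theorem N28318 : nd 28318 = n46591 := ndS (p := 14123) (l := 7) rfl N14123 D46591
theorem N28319 : nd 28319 = n46592 := ndS (p := 14125) (l := 0) rfl N14125 D46592
theorem N28320 : nd 28320 = n46594 := ndS (p := 14125) (l := 2) rfl N14125 D46594
theorem N28321 : nd 28321 = n46596 := ndS (p := 14125) (l := 6) rfl N14125 D46596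
theorem N28322 : nd 28322 = n46597 := ndS (p := 14126) (l := 1) rfl N14126 D46597
theorem N28323 : nd 28323 = n46598 := ndS (p := 14126) (l := 4) rfl N14126 D46598
theorem N28324 : nd 28324 = n46599 := ndS (p := 14126) (l := 6) rfl N14126 D46599
theorem N28325 : nd 28325 = n46601 := ndS (p := 14128) (l := 1) rfl N14128 D46601
theorem N28326 : nd 28326 = n46602 := ndS (p := 14128) (l := 2) rfl N14128 D46602
theorem N28327 : nd 28327 = n46603 := ndS (p := 14128) (l := 5) rfl N14128 D46603
theorem N28328 : nd 28328 = n46604 := ndS (p := 14128) (l := 6) rfl N14128 D46604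
theorem N28329 : nd 28329 = n46605 := ndS (p := 14130) (l := 4) rfl N14130 D46605
theorem N28330 : nd 28330 = n46607 := ndS (p := 14132) (l := 3) rfl N14132 D46607
theorem N28331 : nd 28331 = n46608 := ndS (p := 14132) (l := 4) rfl N14132 D46608
theorem N28332 : nd 28332 = n46609 := ndS (p := 14132) (l := 6) rfl N14132 D46609
theorem N28333 : nd 28333 = n46610 := ndS (p := 14133) (l := 3) rfl N14133 D46610
theorem N28334 : nd 28334 = n46611 := ndS (p := 14133) (l := 4) rfl N14133 D46611
theorem N28335 : nd 28335 = n46612 := ndS (p := 14133) (l := 6) rfl N14133 D46612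
theorem N28336 : nd 28336 = n46613 := ndS (p := 14134) (l := 0) rfl N14134 D46613
theorem N28337 : nd 28337 = n46614 := ndS (p := 14134) (l := 1) rfl N14134 D46614
theorem N28338 : nd 28338 = n46615 := ndS (p := 14134) (l := 3) rfl N14134 D46615
theorem N28339 : nd 28339 = n46616 := ndS (p := 14135) (l := 6) rfl N14135 D46616
theorem N28340 : nd 28340 = n46618 := ndS (p := 14136) (l := 4) rfl N14136 D46618
theorem N28341 : nd 28341 = n46619 := ndS (p := 14137) (l := 3) rfl N14137 D46619
theorem N28342 : nd 28342 = n46620 := ndS (p := 14137) (l := 5) rfl N14137 D46620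
theorem N28343 : nd 28343 = n46621 := ndS (p := 14138) (l := 0) rfl N14138 D46621
theorem N28344 : nd 28344 = n46622 := ndS (p := 14138) (l := 2) rfl N14138 D46622
theorem N28345 : nd 28345 = n46623 := ndS (p := 14138) (l := 5) rfl N14138 D46623
theorem N28346 : nd 28346 = n46624 := ndS (p := 14139) (l := 0) rfl N14139 D46624
theorem N28347 : nd 28347 = n46625 := ndS (p := 14139) (l := 1) rfl N14139 D46625
theorem N28348 : nd 28348 = n46626 := ndS (p := 14139) (l := 4) rfl N14139 D46626
theorem N28349 : nd 28349 = n46627 := ndS (p := 14139) (l := 6) rfl N14139 D46627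
theorem N28350 : nd 28350 = n46628 := ndS (p := 14140) (l := 3) rfl N14140 D46628
theorem N28351 : nd 28351 = n46630 := ndS (p := 14142) (l := 1) rfl N14142 D46630
theorem N28352 : nd 28352 = n46631 := ndS (p := 14142) (l := 2) rfl N14142 D46631
theorem N28353 : nd 28353 = n46632 := ndS (p := 14142) (l := 5) rfl N14142 D46632
theorem N28354 : nd 28354 = n46633 := ndS (p := 14142) (l := 6) rfl N14142 D46633
theorem N28355 : nd 28355 = n46634 := ndS (p := 14143) (l := 4) rfl N14143 D46634
theorem N28356 : nd 28356 = n46635 := ndS (p := 14143) (l := 6) rfl N14143 D46635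
theorem N28357 : nd 28357 = n46636 := ndS (p := 14144) (l := 5) rfl N14144 D46636
theorem N28358 : nd 28358 = n46640 := ndS (p := 14147) (l := 6) rfl N14147 D46640
theorem N28359 : nd 28359 = n46641 := ndS (p := 14148) (l := 6) rfl N14148 D46641
theorem N28360 : nd 28360 = n46642 := ndS (p := 14149) (l := 0) rfl N14149 D46642
theorem N28361 : nd 28361 = n46643 := ndS (p := 14149) (l := 1) rfl N14149 D46643
theorem N28362 : nd 28362 = n46644 := ndS (p := 14149) (l := 5) rfl N14149 D46644
theorem N28363 : nd 28363 = n46645 := ndS (p := 14150) (l := 0) rfl N14150 D46645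
theorem N28364 : nd 28364 = n46646 := ndS (p := 14150) (l := 1) rfl N14150 D46646
theorem N28365 : nd 28365 = n46647 := ndS (p := 14150) (l := 5) rfl N14150 D46647
theorem N28366 : nd 28366 = n46648 := ndS (p := 14150) (l := 7) rfl N14150 D46648
theorem N28367 : nd 28367 = n46649 := ndS (p := 14151) (l := 0) rfl N14151 D46649
theorem N28368 : nd 28368 = n46650 := ndS (p := 14151) (l := 1) rfl N14151 D46650
theorem N28369 : nd 28369 = n46651 := ndS (p := 14151) (l := 4) rfl N14151 D46651
theorem N28370 : nd 28370 = n46652 := ndS (p := 14152) (l := 0) rfl N14152 D46652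
theorem N28371 : nd 28371 = n46655 := ndS (p := 14153) (l := 5) rfl N14153 D46655
theorem N28372 : nd 28372 = n46656 := ndS (p := 14153) (l := 6) rfl N14153 D46656
theorem N28373 : nd 28373 = n46658 := ndS (p := 14154) (l := 6) rfl N14154 D46658
theorem N28374 : nd 28374 = n46660 := ndS (p := 14155) (l := 5) rfl N14155 D46660
theorem N28375 : nd 28375 = n46661 := ndS (p := 14155) (l := 7) rfl N14155 D46661
theorem N28376 : nd 28376 = n46667 := ndS (p := 14156) (l := 5) rfl N14156 D46667
theorem N28377 : nd 28377 = n46668 := ndS (p := 14156) (l := 6) rfl N14156 D46668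
theorem N28378 : nd 28378 = n46669 := ndS (p := 14157) (l := 5) rfl N14157 D46669
theorem N28379 : nd 28379 = n46670 := ndS (p := 14157) (l := 6) rfl N14157 D46670
theorem N28380 : nd 28380 = n46671 := ndS (p := 14158) (l := 6) rfl N14158 D46671
theorem N28381 : nd 28381 = n46672 := ndS (p := 14159) (l := 0) rfl N14159 D46672
theorem N28382 : nd 28382 = n46673 := ndS (p := 14159) (l := 1) rfl N14159 D46673
theorem N28383 : nd 28383 = n46674 := ndS (p := 14159) (l := 5) rfl N14159 D46674
theorem N28384 : nd 28384 = n46675 := ndS (p := 14159) (l := 7) rfl N14159 D46675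
theorem N28385 : nd 28385 = n46676 := ndS (p := 14160) (l := 0) rfl N14160 D46676
theorem N28386 : nd 28386 = n46677 := ndS (p := 14160) (l := 4) rfl N14160 D46677
theorem N28387 : nd 28387 = n46678 := ndS (p := 14160) (l := 7) rfl N14160 D46678
theorem N28388 : nd 28388 = n46679 := ndS (p := 14162) (l := 5) rfl N14162 D46679
theorem N28389 : nd 28389 = n46680 := ndS (p := 14162) (l := 6) rfl N14162 D46680
theorem N28390 : nd 28390 = n46681 := ndS (p := 14163) (l := 6) rfl N14163 D46681
theorem N28391 : nd 28391 = n46682 := ndS (p := 14164) (l := 0) rfl N14164 D46682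
theorem N28392 : nd 28392 = n46683 := ndS (p := 14164) (l := 1) rfl N14164 D46683
theorem N28393 : nd 28393 = n46684 := ndS (p := 14164) (l := 5) rfl N14164 D46684
theorem N28394 : nd 28394 = n46685 := ndS (p := 14165) (l := 4) rfl N14165 D46685
theorem N28395 : nd 28395 = n46686 := ndS (p := 14166) (l := 2) rfl N14166 D46686
theorem N28396 : nd 28396 = n46687 := ndS (p := 14166) (l := 6) rfl N14166 D46687
theorem N28397 : nd 28397 = n46690 := ndS (p := 14167) (l := 5) rfl N14167 D46690
theorem N28398 : nd 28398 = n46692 := ndS (p := 14168) (l := 0) rfl N14168 D46692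
theorem N28399 : nd 28399 = n46693 := ndS (p := 14168) (l := 1) rfl N14168 D46693
theorem N28400 : nd 28400 = n46697 := ndS (p := 14169) (l := 1) rfl N14169 D46697
theorem N28401 : nd 28401 = n46698 := ndS (p := 14169) (l := 5) rfl N14169 D46698
theorem N28402 : nd 28402 = n46699 := ndS (p := 14169) (l := 7) rfl N14169 D46699
theorem N28403 : nd 28403 = n46701 := ndS (p := 14170) (l := 3) rfl N14170 D46701
theorem N28404 : nd 28404 = n46702 := ndS (p := 14170) (l := 4) rfl N14170 D46702
theorem N28405 : nd 28405 = n46703 := ndS (p := 14170) (l := 5) rfl N14170 D46703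
theorem N28406 : nd 28406 = n46704 := ndS (p := 14170) (l := 6) rfl N14170 D46704
theorem N28407 : nd 28407 = n46706 := ndS (p := 14171) (l := 3) rfl N14171 D46706
theorem N28408 : nd 28408 = n46707 := ndS (p := 14171) (l := 4) rfl N14171 D46707
theorem N28409 : nd 28409 = n46708 := ndS (p := 14171) (l := 5) rfl N14171 D46708
theorem N28410 : nd 28410 = n46709 := ndS (p := 14171) (l := 6) rfl N14171 D46709
theorem N28411 : nd 28411 = n46714 := ndS (p := 14174) (l := 2) rfl N14174 D46714
theorem N28412 : nd 28412 = n46715 := ndS (p := 14174) (l := 4) rfl N14174 D46715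
theorem N28413 : nd 28413 = n46716 := ndS (p := 14174) (l := 6) rfl N14174 D46716
theorem N28414 : nd 28414 = n46717 := ndS (p := 14175) (l := 0) rfl N14175 D46717
theorem N28415 : nd 28415 = n46718 := ndS (p := 14175) (l := 1) rfl N14175 D46718
theorem N28416 : nd 28416 = n46719 := ndS (p := 14175) (l := 5) rfl N14175 D46719
theorem N28417 : nd 28417 = n46720 := ndS (p := 14175) (l := 7) rfl N14175 D46720
theorem N28418 : nd 28418 = n46721 := ndS (p := 14176) (l := 4) rfl N14176 D46721
theorem N28419 : nd 28419 = n46722 := ndS (p := 14176) (l := 6) rfl N14176 D46722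
theorem N28420 : nd 28420 = n46725 := ndS (p := 14177) (l := 5) rfl N14177 D46725
theorem N28421 : nd 28421 = n46726 := ndS (p := 14177) (l := 7) rfl N14177 D46726
theorem N28422 : nd 28422 = n46728 := ndS (p := 14178) (l := 3) rfl N14178 D46728
theorem N28423 : nd 28423 = n46729 := ndS (p := 14178) (l := 4) rfl N14178 D46729
theorem N28424 : nd 28424 = n46730 := ndS (p := 14178) (l := 5) rfl N14178 D46730
theorem N28425 : nd 28425 = n46731 := ndS (p := 14178) (l := 6) rfl N14178 D46731
theorem N28426 : nd 28426 = n46733 := ndS (p := 14179) (l := 3) rfl N14179 D46733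
theorem N28427 : nd 28427 = n46734 := ndS (p := 14179) (l := 4) rfl N14179 D46734
theorem N28428 : nd 28428 = n46735 := ndS (p := 14179) (l := 5) rfl N14179 D46735
theorem N28429 : nd 28429 = n46736 := ndS (p := 14179) (l := 6) rfl N14179 D46736
theorem N28430 : nd 28430 = n46737 := ndS (p := 14180) (l := 0) rfl N14180 D46737
theorem N28431 : nd 28431 = n46738 := ndS (p := 14180) (l := 1) rfl N14180 D46738
theorem N28432 : nd 28432 = n46739 := ndS (p := 14180) (l := 4) rfl N14180 D46739
theorem N28433 : nd 28433 = n46740 := ndS (p := 14180) (l := 7) rfl N14180 D46740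
theorem N28434 : nd 28434 = n46741 := ndS (p := 14182) (l := 0) rfl N14182 D46741
theorem N28435 : nd 28435 = n46743 := ndS (p := 14182) (l := 2) rfl N14182 D46743
theorem N28436 : nd 28436 = n46744 := ndS (p := 14182) (l := 5) rfl N14182 D46744
theorem N28437 : nd 28437 = n46745 := ndS (p := 14182) (l := 6) rfl N14182 D46745
theorem N28438 : nd 28438 = n46746 := ndS (p := 14183) (l := 1) rfl N14183 D46746
theorem N28439 : nd 28439 = n46747 := ndS (p := 14183) (l := 4) rfl N14183 D46747
theorem N28440 : nd 28440 = n46748 := ndS (p := 14183) (l := 6) rfl N14183 D46748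
theorem N28441 : nd 28441 = n46749 := ndS (p := 14185) (l := 1) rfl N14185 D46749
theorem N28442 : nd 28442 = n46750 := ndS (p := 14185) (l := 2) rfl N14185 D46750
theorem N28443 : nd 28443 = n46751 := ndS (p := 14185) (l := 4) rfl N14185 D46751
theorem N28444 : nd 28444 = n46752 := ndS (p := 14185) (l := 5) rfl N14185 D46752
theorem N28445 : nd 28445 = n46753 := ndS (p := 14185) (l := 6) rfl N14185 D46753
theorem N28446 : nd 28446 = n46754 := ndS (p := 14186) (l := 4) rfl N14186 D46754
theorem N28447 : nd 28447 = n46755 := ndS (p := 14186) (l := 6) rfl N14186 D46755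
theorem N28448 : nd 28448 = n46758 := ndS (p := 14187) (l := 5) rfl N14187 D46758
theorem N28449 : nd 28449 = n46760 := ndS (p := 14188) (l := 3) rfl N14188 D46760
theorem N28450 : nd 28450 = n46761 := ndS (p := 14188) (l := 4) rfl N14188 D46761
theorem N28451 : nd 28451 = n46763 := ndS (p := 14188) (l := 6) rfl N14188 D46763
theorem N28452 : nd 28452 = n46764 := ndS (p := 14189) (l := 3) rfl N14189 D46764
theorem N28453 : nd 28453 = n46765 := ndS (p := 14189) (l := 4) rfl N14189 D46765
theorem N28454 : nd 28454 = n46766 := ndS (p := 14189) (l := 6) rfl N14189 D46766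
theorem N28455 : nd 28455 = n46769 := ndS (p := 14190) (l := 3) rfl N14190 D46769
theorem N28456 : nd 28456 = n46771 := ndS (p := 14190) (l := 7) rfl N14190 D46771
theorem N28457 : nd 28457 = n46775 := ndS (p := 14192) (l := 5) rfl N14192 D46775
theorem N28458 : nd 28458 = n46776 := ndS (p := 14192) (l := 6) rfl N14192 D46776
theorem N28459 : nd 28459 = n46777 := ndS (p := 14193) (l := 1) rfl N14193 D46777
theorem N28460 : nd 28460 = n46778 := ndS (p := 14193) (l := 4) rfl N14193 D46778
theorem N28461 : nd 28461 = n46779 := ndS (p := 14193) (l := 6) rfl N14193 D46779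
theorem N28462 : nd 28462 = n46781 := ndS (p := 14195) (l := 0) rfl N14195 D46781
theorem N28463 : nd 28463 = n46783 := ndS (p := 14195) (l := 3) rfl N14195 D46783
theorem N28464 : nd 28464 = n46786 := ndS (p := 14196) (l := 4) rfl N14196 D46786
theorem N28465 : nd 28465 = n46787 := ndS (p := 14196) (l := 6) rfl N14196 D46787
theorem N28466 : nd 28466 = n46789 := ndS (p := 14197) (l := 5) rfl N14197 D46789
theorem N28467 : nd 28467 = n46819 := ndS (p := 14200) (l := 1) rfl N14200 D46819
theorem N28468 : nd 28468 = n46820 := ndS (p := 14200) (l := 7) rfl N14200 D46820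
theorem N28469 : nd 28469 = n46821 := ndS (p := 14202) (l := 6) rfl N14202 D46821
theorem N28470 : nd 28470 = n46822 := ndS (p := 14203) (l := 6) rfl N14203 D46822
theorem N28471 : nd 28471 = n46823 := ndS (p := 14204) (l := 6) rfl N14204 D46823
theorem N28472 : nd 28472 = n46824 := ndS (p := 14205) (l := 6) rfl N14205 D46824
theorem N28473 : nd 28473 = n46825 := ndS (p := 14206) (l := 0) rfl N14206 D46825
theorem N28474 : nd 28474 = n46826 := ndS (p := 14206) (l := 1) rfl N14206 D46826
theorem N28475 : nd 28475 = n46827 := ndS (p := 14206) (l := 5) rfl N14206 D46827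
theorem N28476 : nd 28476 = n46830 := ndS (p := 14207) (l := 5) rfl N14207 D46830
theorem N28477 : nd 28477 = n46831 := ndS (p := 14207) (l := 7) rfl N14207 D46831
theorem N28478 : nd 28478 = n46832 := ndS (p := 14208) (l := 0) rfl N14208 D46832
theorem N28479 : nd 28479 = n46833 := ndS (p := 14208) (l := 4) rfl N14208 D46833
theorem N28480 : nd 28480 = n46843 := ndS (p := 14211) (l := 5) rfl N14211 D46843
theorem N28481 : nd 28481 = n46846 := ndS (p := 14213) (l := 3) rfl N14213 D46846
theorem N28482 : nd 28482 = n46849 := ndS (p := 14215) (l := 6) rfl N14215 D46849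
theorem N28483 : nd 28483 = n46850 := ndS (p := 14216) (l := 5) rfl N14216 D46850
theorem N28484 : nd 28484 = n46851 := ndS (p := 14217) (l := 1) rfl N14217 D46851
theorem N28485 : nd 28485 = n46852 := ndS (p := 14217) (l := 5) rfl N14217 D46852
theorem N28486 : nd 28486 = n46853 := ndS (p := 14217) (l := 7) rfl N14217 D46853
theorem N28487 : nd 28487 = n46854 := ndS (p := 14218) (l := 4) rfl N14218 D46854
theorem N28488 : nd 28488 = n46855 := ndS (p := 14218) (l := 6) rfl N14218 D46855
theorem N28489 : nd 28489 = n46856 := ndS (p := 14219) (l := 1) rfl N14219 D46856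
theorem N28490 : nd 28490 = n46857 := ndS (p := 14219) (l := 5) rfl N14219 D46857
theorem N28491 : nd 28491 = n46858 := ndS (p := 14219) (l := 7) rfl N14219 D46858
theorem N28492 : nd 28492 = n46859 := ndS (p := 14220) (l := 3) rfl N14220 D46859
theorem N28493 : nd 28493 = n46860 := ndS (p := 14220) (l := 4) rfl N14220 D46860
theorem N28494 : nd 28494 = n46861 := ndS (p := 14220) (l := 6) rfl N14220 D46861
theorem N28495 : nd 28495 = n46862 := ndS (p := 14221) (l := 4) rfl N14221 D46862
theorem N28496 : nd 28496 = n46863 := ndS (p := 14221) (l := 6) rfl N14221 D46863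
theorem N28497 : nd 28497 = n46865 := ndS (p := 14222) (l := 5) rfl N14222 D46865
theorem N28498 : nd 28498 = n46866 := ndS (p := 14222) (l := 6) rfl N14222 D46866
theorem N28499 : nd 28499 = n46867 := ndS (p := 14223) (l := 0) rfl N14223 D46867
theorem N28500 : nd 28500 = n46868 := ndS (p := 14223) (l := 1) rfl N14223 D46868
theorem N28501 : nd 28501 = n46869 := ndS (p := 14223) (l := 5) rfl N14223 D46869
theorem N28502 : nd 28502 = n46870 := ndS (p := 14223) (l := 7) rfl N14223 D46870
theorem N28503 : nd 28503 = n46871 := ndS (p := 14224) (l := 3) rfl N14224 D46871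
theorem N28504 : nd 28504 = n46872 := ndS (p := 14224) (l := 5) rfl N14224 D46872
theorem N28505 : nd 28505 = n46874 := ndS (p := 14225) (l := 5) rfl N14225 D46874
theorem N28506 : nd 28506 = n46875 := ndS (p := 14225) (l := 6) rfl N14225 D46875
theorem N28507 : nd 28507 = n46876 := ndS (p := 14226) (l := 0) rfl N14226 D46876
theorem N28508 : nd 28508 = n46877 := ndS (p := 14226) (l := 1) rfl N14226 D46877
theorem N28509 : nd 28509 = n46878 := ndS (p := 14226) (l := 4) rfl N14226 D46878
theorem N28510 : nd 28510 = n46879 := ndS (p := 14226) (l := 7) rfl N14226 D46879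
theorem N28511 : nd 28511 = n46881 := ndS (p := 14228) (l := 3) rfl N14228 D46881
theorem N28512 : nd 28512 = n46882 := ndS (p := 14228) (l := 4) rfl N14228 D46882
theorem N28513 : nd 28513 = n46883 := ndS (p := 14228) (l := 5) rfl N14228 D46883
theorem N28514 : nd 28514 = n46884 := ndS (p := 14228) (l := 6) rfl N14228 D46884
theorem N28515 : nd 28515 = n46886 := ndS (p := 14229) (l := 3) rfl N14229 D46886
theorem N28516 : nd 28516 = n46887 := ndS (p := 14229) (l := 4) rfl N14229 D46887
theorem N28517 : nd 28517 = n46888 := ndS (p := 14229) (l := 5) rfl N14229 D46888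
theorem N28518 : nd 28518 = n46889 := ndS (p := 14229) (l := 6) rfl N14229 D46889
theorem N28519 : nd 28519 = n46890 := ndS (p := 14230) (l := 0) rfl N14230 D46890
theorem N28520 : nd 28520 = n46891 := ndS (p := 14230) (l := 1) rfl N14230 D46891
theorem N28521 : nd 28521 = n46892 := ndS (p := 14230) (l := 4) rfl N14230 D46892
theorem N28522 : nd 28522 = n46893 := ndS (p := 14230) (l := 7) rfl N14230 D46893
theorem N28523 : nd 28523 = n46895 := ndS (p := 14232) (l := 2) rfl N14232 D46895
theorem N28524 : nd 28524 = n46896 := ndS (p := 14232) (l := 5) rfl N14232 D46896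
theorem N28525 : nd 28525 = n46902 := ndS (p := 14234) (l := 4) rfl N14234 D46902
theorem N28526 : nd 28526 = n46903 := ndS (p := 14234) (l := 6) rfl N14234 D46903
theorem N28527 : nd 28527 = n46906 := ndS (p := 14235) (l := 1) rfl N14235 D46906
theorem N28528 : nd 28528 = n46907 := ndS (p := 14235) (l := 2) rfl N14235 D46907
theorem N28529 : nd 28529 = n46908 := ndS (p := 14235) (l := 5) rfl N14235 D46908
theorem N28530 : nd 28530 = n46909 := ndS (p := 14235) (l := 6) rfl N14235 D46909
theorem N28531 : nd 28531 = n46910 := ndS (p := 14236) (l := 4) rfl N14236 D46910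
theorem N28532 : nd 28532 = n46911 := ndS (p := 14236) (l := 6) rfl N14236 D46911
theorem N28533 : nd 28533 = n46912 := ndS (p := 14238) (l := 3) rfl N14238 D46912
theorem N28534 : nd 28534 = n46913 := ndS (p := 14238) (l := 4) rfl N14238 D46913
theorem N28535 : nd 28535 = n46914 := ndS (p := 14238) (l := 5) rfl N14238 D46914
theorem N28536 : nd 28536 = n46915 := ndS (p := 14238) (l := 6) rfl N14238 D46915
theorem N28537 : nd 28537 = n46916 := ndS (p := 14239) (l := 3) rfl N14239 D46916
theorem N28538 : nd 28538 = n46917 := ndS (p := 14239) (l := 4) rfl N14239 D46917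
theorem N28539 : nd 28539 = n46918 := ndS (p := 14239) (l := 6) rfl N14239 D46918
theorem N28540 : nd 28540 = n46919 := ndS (p := 14240) (l := 0) rfl N14240 D46919
theorem N28541 : nd 28541 = n46920 := ndS (p := 14240) (l := 1) rfl N14240 D46920
theorem N28542 : nd 28542 = n46921 := ndS (p := 14240) (l := 3) rfl N14240 D46921
theorem N28543 : nd 28543 = n46923 := ndS (p := 14240) (l := 7) rfl N14240 D46923
theorem N28544 : nd 28544 = n46924 := ndS (p := 14241) (l := 6) rfl N14241 D46924
theorem N28545 : nd 28545 = n46940 := ndS (p := 14242) (l := 5) rfl N14242 D46940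
theorem N28546 : nd 28546 = n46941 := ndS (p := 14242) (l := 6) rfl N14242 D46941
theorem N28547 : nd 28547 = n46943 := ndS (p := 14243) (l := 6) rfl N14243 D46943
theorem N28548 : nd 28548 = n46947 := ndS (p := 14245) (l := 5) rfl N14245 D46947
theorem N28549 : nd 28549 = n46950 := ndS (p := 14246) (l := 3) rfl N14246 D46950
theorem N28550 : nd 28550 = n46951 := ndS (p := 14246) (l := 5) rfl N14246 D46951
theorem N28551 : nd 28551 = n46952 := ndS (p := 14246) (l := 6) rfl N14246 D46952
theorem N28552 : nd 28552 = n46953 := ndS (p := 14248) (l := 3) rfl N14248 D46953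
theorem N28553 : nd 28553 = n46955 := ndS (p := 14248) (l := 5) rfl N14248 D46955
theorem N28554 : nd 28554 = n46957 := ndS (p := 14249) (l := 3) rfl N14249 D46957
theorem N28555 : nd 28555 = n46958 := ndS (p := 14249) (l := 5) rfl N14249 D46958
theorem N28556 : nd 28556 = n46959 := ndS (p := 14249) (l := 6) rfl N14249 D46959
theorem N28557 : nd 28557 = n46960 := ndS (p := 14250) (l := 0) rfl N14250 D46960
theorem N28558 : nd 28558 = n46961 := ndS (p := 14250) (l := 1) rfl N14250 D46961
theorem N28559 : nd 28559 = n46962 := ndS (p := 14250) (l := 2) rfl N14250 D46962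
theorem N28560 : nd 28560 = n46963 := ndS (p := 14250) (l := 5) rfl N14250 D46963
theorem N28561 : nd 28561 = n46964 := ndS (p := 14250) (l := 7) rfl N14250 D46964
theorem N28562 : nd 28562 = n46968 := ndS (p := 14251) (l := 6) rfl N14251 D46968
theorem N28563 : nd 28563 = n46969 := ndS (p := 14251) (l := 7) rfl N14251 D46969
theorem N28564 : nd 28564 = n46971 := ndS (p := 14253) (l := 0) rfl N14253 D46971
theorem N28565 : nd 28565 = n46972 := ndS (p := 14253) (l := 1) rfl N14253 D46972
theorem N28566 : nd 28566 = n46973 := ndS (p := 14253) (l := 5) rfl N14253 D46973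
theorem N28567 : nd 28567 = n46974 := ndS (p := 14253) (l := 6) rfl N14253 D46974
theorem N28568 : nd 28568 = n46975 := ndS (p := 14254) (l := 6) rfl N14254 D46975
theorem N28569 : nd 28569 = n46976 := ndS (p := 14255) (l := 0) rfl N14255 D46976
theorem N28570 : nd 28570 = n46978 := ndS (p := 14255) (l := 5) rfl N14255 D46978
theorem N28571 : nd 28571 = n46979 := ndS (p := 14255) (l := 7) rfl N14255 D46979
theorem N28572 : nd 28572 = n46980 := ndS (p := 14256) (l := 5) rfl N14256 D46980
theorem N28573 : nd 28573 = n46981 := ndS (p := 14256) (l := 6) rfl N14256 D46981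
theorem N28574 : nd 28574 = n46982 := ndS (p := 14257) (l := 5) rfl N14257 D46982
theorem N28575 : nd 28575 = n46983 := ndS (p := 14257) (l := 6) rfl N14257 D46983
theorem N28576 : nd 28576 = n46984 := ndS (p := 14258) (l := 6) rfl N14258 D46984
theorem N28577 : nd 28577 = n46987 := ndS (p := 14259) (l := 5) rfl N14259 D46987
theorem N28578 : nd 28578 = n46989 := ndS (p := 14260) (l := 4) rfl N14260 D46989
theorem N28579 : nd 28579 = n46990 := ndS (p := 14260) (l := 6) rfl N14260 D46990
theorem N28580 : nd 28580 = n46991 := ndS (p := 14261) (l := 0) rfl N14261 D46991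
theorem N28581 : nd 28581 = n46992 := ndS (p := 14261) (l := 1) rfl N14261 D46992
theorem N28582 : nd 28582 = n46993 := ndS (p := 14261) (l := 5) rfl N14261 D46993
theorem N28583 : nd 28583 = n46994 := ndS (p := 14261) (l := 7) rfl N14261 D46994
theorem N28584 : nd 28584 = n46995 := ndS (p := 14262) (l := 4) rfl N14262 D46995
theorem N28585 : nd 28585 = n46996 := ndS (p := 14262) (l := 6) rfl N14262 D46996
theorem N28586 : nd 28586 = n46997 := ndS (p := 14263) (l := 0) rfl N14263 D46997
theorem N28587 : nd 28587 = n46998 := ndS (p := 14263) (l := 1) rfl N14263 D46998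
theorem N28588 : nd 28588 = n46999 := ndS (p := 14263) (l := 5) rfl N14263 D46999
theorem N28589 : nd 28589 = n47000 := ndS (p := 14263) (l := 7) rfl N14263 D47000
theorem N28590 : nd 28590 = n47001 := ndS (p := 14264) (l := 3) rfl N14264 D47001
theorem N28591 : nd 28591 = n47002 := ndS (p := 14264) (l := 6) rfl N14264 D47002
theorem N28592 : nd 28592 = n47003 := ndS (p := 14265) (l := 0) rfl N14265 D47003
theorem N28593 : nd 28593 = n47004 := ndS (p := 14265) (l := 1) rfl N14265 D47004
theorem N28594 : nd 28594 = n47007 := ndS (p := 14266) (l := 0) rfl N14266 D47007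
theorem N28595 : nd 28595 = n47008 := ndS (p := 14266) (l := 1) rfl N14266 D47008
theorem N28596 : nd 28596 = n47009 := ndS (p := 14266) (l := 5) rfl N14266 D47009
theorem N28597 : nd 28597 = n47010 := ndS (p := 14266) (l := 7) rfl N14266 D47010
theorem N28598 : nd 28598 = n47012 := ndS (p := 14267) (l := 3) rfl N14267 D47012
theorem N28599 : nd 28599 = n47013 := ndS (p := 14267) (l := 4) rfl N14267 D47013
theorem N28600 : nd 28600 = n47014 := ndS (p := 14267) (l := 5) rfl N14267 D47014
theorem N28601 : nd 28601 = n47015 := ndS (p := 14267) (l := 6) rfl N14267 D47015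
theorem N28602 : nd 28602 = n47017 := ndS (p := 14268) (l := 3) rfl N14268 D47017
theorem N28603 : nd 28603 = n47018 := ndS (p := 14268) (l := 4) rfl N14268 D47018
theorem N28604 : nd 28604 = n47019 := ndS (p := 14268) (l := 5) rfl N14268 D47019
theorem N28605 : nd 28605 = n47020 := ndS (p := 14268) (l := 6) rfl N14268 D47020
theorem N28606 : nd 28606 = n47021 := ndS (p := 14269) (l := 0) rfl N14269 D47021
theorem N28607 : nd 28607 = n47022 := ndS (p := 14269) (l := 1) rfl N14269 D47022
theorem N28608 : nd 28608 = n47023 := ndS (p := 14269) (l := 4) rfl N14269 D47023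
theorem N28609 : nd 28609 = n47024 := ndS (p := 14269) (l := 7) rfl N14269 D47024
theorem N28610 : nd 28610 = n47030 := ndS (p := 14273) (l := 4) rfl N14273 D47030
theorem N28611 : nd 28611 = n47031 := ndS (p := 14273) (l := 6) rfl N14273 D47031
theorem N28612 : nd 28612 = n47032 := ndS (p := 14274) (l := 0) rfl N14274 D47032
theorem N28613 : nd 28613 = n47033 := ndS (p := 14274) (l := 1) rfl N14274 D47033
theorem N28614 : nd 28614 = n47034 := ndS (p := 14274) (l := 5) rfl N14274 D47034
theorem N28615 : nd 28615 = n47035 := ndS (p := 14274) (l := 7) rfl N14274 D47035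
theorem N28616 : nd 28616 = n47037 := ndS (p := 14275) (l := 3) rfl N14275 D47037
theorem N28617 : nd 28617 = n47039 := ndS (p := 14275) (l := 5) rfl N14275 D47039
theorem N28618 : nd 28618 = n47040 := ndS (p := 14275) (l := 6) rfl N14275 D47040
theorem N28619 : nd 28619 = n47042 := ndS (p := 14276) (l := 3) rfl N14276 D47042
theorem N28620 : nd 28620 = n47044 := ndS (p := 14276) (l := 5) rfl N14276 D47044
theorem N28621 : nd 28621 = n47045 := ndS (p := 14276) (l := 6) rfl N14276 D47045
theorem N28622 : nd 28622 = n47046 := ndS (p := 14277) (l := 0) rfl N14277 D47046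
theorem N28623 : nd 28623 = n47047 := ndS (p := 14277) (l := 1) rfl N14277 D47047
theorem N28624 : nd 28624 = n47048 := ndS (p := 14277) (l := 4) rfl N14277 D47048
theorem N28625 : nd 28625 = n47049 := ndS (p := 14277) (l := 7) rfl N14277 D47049
theorem N28626 : nd 28626 = n47050 := ndS (p := 14279) (l := 3) rfl N14279 D47050
theorem N28627 : nd 28627 = n47051 := ndS (p := 14279) (l := 6) rfl N14279 D47051
theorem N28628 : nd 28628 = n47053 := ndS (p := 14280) (l := 0) rfl N14280 D47053
theorem N28629 : nd 28629 = n47054 := ndS (p := 14280) (l := 1) rfl N14280 D47054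
theorem N28630 : nd 28630 = n47055 := ndS (p := 14280) (l := 3) rfl N14280 D47055
theorem N28631 : nd 28631 = n47057 := ndS (p := 14280) (l := 7) rfl N14280 D47057
theorem N28632 : nd 28632 = n47058 := ndS (p := 14281) (l := 6) rfl N14281 D47058
theorem N28633 : nd 28633 = n47059 := ndS (p := 14282) (l := 6) rfl N14282 D47059
theorem N28634 : nd 28634 = n47062 := ndS (p := 14283) (l := 5) rfl N14283 D47062
theorem N28635 : nd 28635 = n47064 := ndS (p := 14284) (l := 4) rfl N14284 D47064
theorem N28636 : nd 28636 = n47065 := ndS (p := 14284) (l := 5) rfl N14284 D47065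
theorem N28637 : nd 28637 = n47066 := ndS (p := 14284) (l := 6) rfl N14284 D47066
theorem N28638 : nd 28638 = n47067 := ndS (p := 14285) (l := 6) rfl N14285 D47067
theorem N28639 : nd 28639 = n47069 := ndS (p := 14286) (l := 1) rfl N14286 D47069
theorem N28640 : nd 28640 = n47070 := ndS (p := 14286) (l := 5) rfl N14286 D47070
theorem N28641 : nd 28641 = n47071 := ndS (p := 14286) (l := 7) rfl N14286 D47071
theorem N28642 : nd 28642 = n47072 := ndS (p := 14287) (l := 6) rfl N14287 D47072
theorem N28643 : nd 28643 = n47073 := ndS (p := 14288) (l := 0) rfl N14288 D47073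
theorem N28644 : nd 28644 = n47074 := ndS (p := 14288) (l := 1) rfl N14288 D47074
theorem N28645 : nd 28645 = n47075 := ndS (p := 14288) (l := 5) rfl N14288 D47075
theorem N28646 : nd 28646 = n47076 := ndS (p := 14288) (l := 7) rfl N14288 D47076
theorem N28647 : nd 28647 = n47077 := ndS (p := 14289) (l := 6) rfl N14289 D47077
theorem N28648 : nd 28648 = n47078 := ndS (p := 14290) (l := 6) rfl N14290 D47078
theorem N28649 : nd 28649 = n47079 := ndS (p := 14291) (l := 1) rfl N14291 D47079
theorem N28650 : nd 28650 = n47080 := ndS (p := 14291) (l := 5) rfl N14291 D47080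
theorem N28651 : nd 28651 = n47081 := ndS (p := 14292) (l := 3) rfl N14292 D47081
theorem N28652 : nd 28652 = n47082 := ndS (p := 14292) (l := 6) rfl N14292 D47082
theorem N28653 : nd 28653 = n47083 := ndS (p := 14293) (l := 6) rfl N14293 D47083
theorem N28654 : nd 28654 = n47084 := ndS (p := 14294) (l := 0) rfl N14294 D47084
theorem N28655 : nd 28655 = n47085 := ndS (p := 14294) (l := 1) rfl N14294 D47085
theorem N28656 : nd 28656 = n47086 := ndS (p := 14294) (l := 5) rfl N14294 D47086
theorem N28657 : nd 28657 = n47087 := ndS (p := 14294) (l := 7) rfl N14294 D47087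
theorem N28658 : nd 28658 = n47089 := ndS (p := 14295) (l := 3) rfl N14295 D47089
theorem N28659 : nd 28659 = n47091 := ndS (p := 14295) (l := 5) rfl N14295 D47091
theorem N28660 : nd 28660 = n47094 := ndS (p := 14296) (l := 3) rfl N14296 D47094
theorem N28661 : nd 28661 = n47096 := ndS (p := 14296) (l := 5) rfl N14296 D47096
theorem N28662 : nd 28662 = n47097 := ndS (p := 14296) (l := 6) rfl N14296 D47097
theorem N28663 : nd 28663 = n47098 := ndS (p := 14297) (l := 0) rfl N14297 D47098
theorem N28664 : nd 28664 = n47099 := ndS (p := 14297) (l := 1) rfl N14297 D47099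
theorem N28665 : nd 28665 = n47100 := ndS (p := 14297) (l := 4) rfl N14297 D47100
theorem N28666 : nd 28666 = n47101 := ndS (p := 14297) (l := 7) rfl N14297 D47101
theorem N28667 : nd 28667 = n47105 := ndS (p := 14299) (l := 5) rfl N14299 D47105
theorem N28668 : nd 28668 = n47106 := ndS (p := 14299) (l := 6) rfl N14299 D47106
theorem N28669 : nd 28669 = n47108 := ndS (p := 14300) (l := 3) rfl N14300 D47108
theorem N28670 : nd 28670 = n47110 := ndS (p := 14300) (l := 5) rfl N14300 D47110
theorem N28671 : nd 28671 = n47111 := ndS (p := 14300) (l := 6) rfl N14300 D47111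
theorem N28672 : nd 28672 = n47112 := ndS (p := 14301) (l := 0) rfl N14301 D47112
theorem N28673 : nd 28673 = n47113 := ndS (p := 14301) (l := 1) rfl N14301 D47113
theorem N28674 : nd 28674 = n47114 := ndS (p := 14301) (l := 4) rfl N14301 D47114
theorem N28675 : nd 28675 = n47115 := ndS (p := 14301) (l := 7) rfl N14301 D47115
theorem N28676 : nd 28676 = n47116 := ndS (p := 14303) (l := 6) rfl N14303 D47116
theorem N28677 : nd 28677 = n47117 := ndS (p := 14304) (l := 3) rfl N14304 D47117
theorem N28678 : nd 28678 = n47118 := ndS (p := 14304) (l := 6) rfl N14304 D47118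
theorem N28679 : nd 28679 = n47119 := ndS (p := 14305) (l := 0) rfl N14305 D47119
theorem N28680 : nd 28680 = n47120 := ndS (p := 14305) (l := 1) rfl N14305 D47120
theorem N28681 : nd 28681 = n47121 := ndS (p := 14305) (l := 3) rfl N14305 D47121
theorem N28682 : nd 28682 = n47123 := ndS (p := 14305) (l := 7) rfl N14305 D47123
theorem N28683 : nd 28683 = n47124 := ndS (p := 14306) (l := 6) rfl N14306 D47124
theorem N28684 : nd 28684 = n47125 := ndS (p := 14307) (l := 5) rfl N14307 D47125
theorem N28685 : nd 28685 = n47126 := ndS (p := 14307) (l := 6) rfl N14307 D47126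
theorem N28686 : nd 28686 = n47127 := ndS (p := 14308) (l := 6) rfl N14308 D47127
theorem N28687 : nd 28687 = n47128 := ndS (p := 14309) (l := 4) rfl N14309 D47128
theorem N28688 : nd 28688 = n47129 := ndS (p := 14309) (l := 6) rfl N14309 D47129
theorem N28689 : nd 28689 = n47130 := ndS (p := 14310) (l := 0) rfl N14310 D47130
theorem N28690 : nd 28690 = n47131 := ndS (p := 14310) (l := 1) rfl N14310 D47131
theorem N28691 : nd 28691 = n47132 := ndS (p := 14310) (l := 5) rfl N14310 D47132
theorem N28692 : nd 28692 = n47134 := ndS (p := 14311) (l := 0) rfl N14311 D47134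
theorem N28693 : nd 28693 = n47136 := ndS (p := 14311) (l := 5) rfl N14311 D47136
theorem N28694 : nd 28694 = n47137 := ndS (p := 14311) (l := 7) rfl N14311 D47137
theorem N28695 : nd 28695 = n47138 := ndS (p := 14312) (l := 0) rfl N14312 D47138
theorem N28696 : nd 28696 = n47139 := ndS (p := 14312) (l := 4) rfl N14312 D47139
theorem N28697 : nd 28697 = n47140 := ndS (p := 14313) (l := 0) rfl N14313 D47140
theorem N28698 : nd 28698 = n47141 := ndS (p := 14313) (l := 1) rfl N14313 D47141
theorem N28699 : nd 28699 = n47142 := ndS (p := 14313) (l := 5) rfl N14313 D47142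
theorem N28700 : nd 28700 = n47143 := ndS (p := 14313) (l := 7) rfl N14313 D47143
theorem N28701 : nd 28701 = n47144 := ndS (p := 14314) (l := 3) rfl N14314 D47144
theorem N28702 : nd 28702 = n47145 := ndS (p := 14314) (l := 5) rfl N14314 D47145
theorem N28703 : nd 28703 = n47146 := ndS (p := 14315) (l := 3) rfl N14315 D47146
theorem N28704 : nd 28704 = n47147 := ndS (p := 14315) (l := 5) rfl N14315 D47147
theorem N28705 : nd 28705 = n47148 := ndS (p := 14316) (l := 0) rfl N14316 D47148
theorem N28706 : nd 28706 = n47149 := ndS (p := 14316) (l := 1) rfl N14316 D47149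
theorem N28707 : nd 28707 = n47150 := ndS (p := 14316) (l := 4) rfl N14316 D47150
theorem N28708 : nd 28708 = n47151 := ndS (p := 14316) (l := 7) rfl N14316 D47151
theorem N28709 : nd 28709 = n47152 := ndS (p := 14318) (l := 4) rfl N14318 D47152
theorem N28710 : nd 28710 = n47153 := ndS (p := 14318) (l := 6) rfl N14318 D47153
theorem N28711 : nd 28711 = n47154 := ndS (p := 14319) (l := 0) rfl N14319 D47154
theorem N28712 : nd 28712 = n47156 := ndS (p := 14319) (l := 5) rfl N14319 D47156
theorem N28713 : nd 28713 = n47157 := ndS (p := 14319) (l := 7) rfl N14319 D47157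
theorem N28714 : nd 28714 = n47158 := ndS (p := 14320) (l := 6) rfl N14320 D47158
theorem N28715 : nd 28715 = n47161 := ndS (p := 14321) (l := 0) rfl N14321 D47161
theorem N28716 : nd 28716 = n47162 := ndS (p := 14321) (l := 1) rfl N14321 D47162
theorem N28717 : nd 28717 = n47163 := ndS (p := 14321) (l := 2) rfl N14321 D47163
theorem N28718 : nd 28718 = n47164 := ndS (p := 14321) (l := 6) rfl N14321 D47164
theorem N28719 : nd 28719 = n47165 := ndS (p := 14322) (l := 0) rfl N14322 D47165
theorem N28720 : nd 28720 = n47166 := ndS (p := 14322) (l := 1) rfl N14322 D47166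
theorem N28721 : nd 28721 = n47167 := ndS (p := 14322) (l := 5) rfl N14322 D47167
theorem N28722 : nd 28722 = n47168 := ndS (p := 14322) (l := 7) rfl N14322 D47168
theorem N28723 : nd 28723 = n47170 := ndS (p := 14323) (l := 3) rfl N14323 D47170
theorem N28724 : nd 28724 = n47171 := ndS (p := 14323) (l := 4) rfl N14323 D47171
theorem N28725 : nd 28725 = n47172 := ndS (p := 14323) (l := 5) rfl N14323 D47172
theorem N28726 : nd 28726 = n47173 := ndS (p := 14323) (l := 6) rfl N14323 D47173
theorem N28727 : nd 28727 = n47175 := ndS (p := 14324) (l := 3) rfl N14324 D47175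
theorem N28728 : nd 28728 = n47176 := ndS (p := 14324) (l := 4) rfl N14324 D47176
theorem N28729 : nd 28729 = n47177 := ndS (p := 14324) (l := 5) rfl N14324 D47177
theorem N28730 : nd 28730 = n47178 := ndS (p := 14324) (l := 6) rfl N14324 D47178
theorem N28731 : nd 28731 = n47179 := ndS (p := 14325) (l := 0) rfl N14325 D47179
theorem N28732 : nd 28732 = n47181 := ndS (p := 14325) (l := 4) rfl N14325 D47181
theorem N28733 : nd 28733 = n47182 := ndS (p := 14325) (l := 7) rfl N14325 D47182
theorem N28734 : nd 28734 = n47183 := ndS (p := 14327) (l := 0) rfl N14327 D47183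
theorem N28735 : nd 28735 = n47185 := ndS (p := 14327) (l := 2) rfl N14327 D47185
theorem N28736 : nd 28736 = n47186 := ndS (p := 14327) (l := 5) rfl N14327 D47186
theorem N28737 : nd 28737 = n47187 := ndS (p := 14327) (l := 6) rfl N14327 D47187
theorem N28738 : nd 28738 = n47188 := ndS (p := 14328) (l := 0) rfl N14328 D47188
theorem N28739 : nd 28739 = n47189 := ndS (p := 14328) (l := 1) rfl N14328 D47189
theorem N28740 : nd 28740 = n47190 := ndS (p := 14328) (l := 4) rfl N14328 D47190
theorem N28741 : nd 28741 = n47191 := ndS (p := 14328) (l := 6) rfl N14328 D47191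
theorem N28742 : nd 28742 = n47192 := ndS (p := 14329) (l := 5) rfl N14329 D47192
theorem N28743 : nd 28743 = n47195 := ndS (p := 14330) (l := 1) rfl N14330 D47195
theorem N28744 : nd 28744 = n47196 := ndS (p := 14330) (l := 2) rfl N14330 D47196
theorem N28745 : nd 28745 = n47197 := ndS (p := 14330) (l := 5) rfl N14330 D47197
theorem N28746 : nd 28746 = n47199 := ndS (p := 14331) (l := 4) rfl N14331 D47199
theorem N28747 : nd 28747 = n47200 := ndS (p := 14331) (l := 6) rfl N14331 D47200
theorem N28748 : nd 28748 = n47201 := ndS (p := 14332) (l := 3) rfl N14332 D47201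
theorem N28749 : nd 28749 = n47202 := ndS (p := 14332) (l := 4) rfl N14332 D47202
theorem N28750 : nd 28750 = n47203 := ndS (p := 14332) (l := 6) rfl N14332 D47203
theorem N28751 : nd 28751 = n47204 := ndS (p := 14333) (l := 3) rfl N14333 D47204
theorem N28752 : nd 28752 = n47205 := ndS (p := 14333) (l := 4) rfl N14333 D47205
theorem N28753 : nd 28753 = n47206 := ndS (p := 14333) (l := 6) rfl N14333 D47206
theorem N28754 : nd 28754 = n47207 := ndS (p := 14334) (l := 0) rfl N14334 D47207
theorem N28755 : nd 28755 = n47208 := ndS (p := 14334) (l := 1) rfl N14334 D47208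
theorem N28756 : nd 28756 = n47209 := ndS (p := 14334) (l := 3) rfl N14334 D47209
theorem N28757 : nd 28757 = n47210 := ndS (p := 14334) (l := 5) rfl N14334 D47210
theorem N28758 : nd 28758 = n47211 := ndS (p := 14334) (l := 7) rfl N14334 D47211
theorem N28759 : nd 28759 = n47212 := ndS (p := 14335) (l := 6) rfl N14335 D47212
theorem N28760 : nd 28760 = n47213 := ndS (p := 14336) (l := 6) rfl N14336 D47213
theorem N28761 : nd 28761 = n47214 := ndS (p := 14337) (l := 0) rfl N14337 D47214
theorem N28762 : nd 28762 = n47215 := ndS (p := 14337) (l := 1) rfl N14337 D47215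
theorem N28763 : nd 28763 = n47216 := ndS (p := 14337) (l := 5) rfl N14337 D47216
theorem N28764 : nd 28764 = n47217 := ndS (p := 14337) (l := 6) rfl N14337 D47217
theorem N28765 : nd 28765 = n47218 := ndS (p := 14338) (l := 0) rfl N14338 D47218
theorem N28766 : nd 28766 = n47219 := ndS (p := 14338) (l := 1) rfl N14338 D47219
theorem N28767 : nd 28767 = n47220 := ndS (p := 14338) (l := 5) rfl N14338 D47220
theorem N28768 : nd 28768 = n47221 := ndS (p := 14338) (l := 7) rfl N14338 D47221
theorem N28769 : nd 28769 = n47223 := ndS (p := 14339) (l := 3) rfl N14339 D47223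
theorem N28770 : nd 28770 = n47225 := ndS (p := 14339) (l := 5) rfl N14339 D47225
theorem N28771 : nd 28771 = n47226 := ndS (p := 14339) (l := 6) rfl N14339 D47226
theorem N28772 : nd 28772 = n47230 := ndS (p := 14340) (l := 5) rfl N14340 D47230
theorem N28773 : nd 28773 = n47232 := ndS (p := 14341) (l := 0) rfl N14341 D47232
theorem N28774 : nd 28774 = n47233 := ndS (p := 14341) (l := 1) rfl N14341 D47233
theorem N28775 : nd 28775 = n47234 := ndS (p := 14341) (l := 4) rfl N14341 D47234
theorem N28776 : nd 28776 = n47235 := ndS (p := 14341) (l := 7) rfl N14341 D47235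
theorem N28777 : nd 28777 = n47236 := ndS (p := 14343) (l := 6) rfl N14343 D47236
theorem N28778 : nd 28778 = n47237 := ndS (p := 14344) (l := 0) rfl N14344 D47237
theorem N28779 : nd 28779 = n47238 := ndS (p := 14344) (l := 1) rfl N14344 D47238
theorem N28780 : nd 28780 = n47239 := ndS (p := 14344) (l := 5) rfl N14344 D47239
theorem N28781 : nd 28781 = n47240 := ndS (p := 14344) (l := 7) rfl N14344 D47240
theorem N28782 : nd 28782 = n47244 := ndS (p := 14345) (l := 5) rfl N14345 D47244
theorem N28783 : nd 28783 = n47245 := ndS (p := 14345) (l := 6) rfl N14345 D47245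
theorem N28784 : nd 28784 = n47249 := ndS (p := 14346) (l := 5) rfl N14346 D47249
theorem N28785 : nd 28785 = n47250 := ndS (p := 14346) (l := 6) rfl N14346 D47250
theorem N28786 : nd 28786 = n47251 := ndS (p := 14347) (l := 0) rfl N14347 D47251
theorem N28787 : nd 28787 = n47252 := ndS (p := 14347) (l := 1) rfl N14347 D47252
theorem N28788 : nd 28788 = n47254 := ndS (p := 14347) (l := 7) rfl N14347 D47254
theorem N28789 : nd 28789 = n47256 := ndS (p := 14349) (l := 3) rfl N14349 D47256
theorem N28790 : nd 28790 = n47257 := ndS (p := 14349) (l := 4) rfl N14349 D47257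
theorem N28791 : nd 28791 = n47259 := ndS (p := 14349) (l := 6) rfl N14349 D47259
theorem N28792 : nd 28792 = n47262 := ndS (p := 14350) (l := 4) rfl N14350 D47262
theorem N28793 : nd 28793 = n47264 := ndS (p := 14350) (l := 6) rfl N14350 D47264
theorem N28794 : nd 28794 = n47265 := ndS (p := 14351) (l := 6) rfl N14351 D47265
theorem N28795 : nd 28795 = n47266 := ndS (p := 14352) (l := 0) rfl N14352 D47266
theorem N28796 : nd 28796 = n47267 := ndS (p := 14352) (l := 1) rfl N14352 D47267
theorem N28797 : nd 28797 = n47268 := ndS (p := 14352) (l := 5) rfl N14352 D47268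
theorem N28798 : nd 28798 = n47269 := ndS (p := 14352) (l := 7) rfl N14352 D47269
theorem N28799 : nd 28799 = n47273 := ndS (p := 14353) (l := 5) rfl N14353 D47273
theorem N28800 : nd 28800 = n47274 := ndS (p := 14353) (l := 6) rfl N14353 D47274
theorem N28801 : nd 28801 = n47276 := ndS (p := 14354) (l := 3) rfl N14354 D47276
theorem N28802 : nd 28802 = n47278 := ndS (p := 14354) (l := 5) rfl N14354 D47278
theorem N28803 : nd 28803 = n47280 := ndS (p := 14355) (l := 0) rfl N14355 D47280
theorem N28804 : nd 28804 = n47281 := ndS (p := 14355) (l := 1) rfl N14355 D47281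
theorem N28805 : nd 28805 = n47282 := ndS (p := 14355) (l := 4) rfl N14355 D47282
theorem N28806 : nd 28806 = n47283 := ndS (p := 14355) (l := 7) rfl N14355 D47283
theorem N28807 : nd 28807 = n47290 := ndS (p := 14357) (l := 0) rfl N14357 D47290
theorem N28808 : nd 28808 = n47292 := ndS (p := 14357) (l := 2) rfl N14357 D47292
theorem N28809 : nd 28809 = n47293 := ndS (p := 14357) (l := 4) rfl N14357 D47293
theorem N28810 : nd 28810 = n47294 := ndS (p := 14357) (l := 5) rfl N14357 D47294
theorem N28811 : nd 28811 = n47295 := ndS (p := 14357) (l := 6) rfl N14357 D47295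
theorem N28812 : nd 28812 = n47297 := ndS (p := 14358) (l := 0) rfl N14358 D47297
theorem N28813 : nd 28813 = n47299 := ndS (p := 14358) (l := 3) rfl N14358 D47299
theorem N28814 : nd 28814 = n47300 := ndS (p := 14358) (l := 5) rfl N14358 D47300
theorem N28815 : nd 28815 = n47301 := ndS (p := 14358) (l := 6) rfl N14358 D47301
theorem N28816 : nd 28816 = n47303 := ndS (p := 14359) (l := 0) rfl N14359 D47303
theorem N28817 : nd 28817 = n47304 := ndS (p := 14359) (l := 1) rfl N14359 D47304
theorem N28818 : nd 28818 = n47305 := ndS (p := 14359) (l := 4) rfl N14359 D47305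
theorem N28819 : nd 28819 = n47306 := ndS (p := 14359) (l := 6) rfl N14359 D47306
theorem N28820 : nd 28820 = n47309 := ndS (p := 14360) (l := 1) rfl N14360 D47309
theorem N28821 : nd 28821 = n47310 := ndS (p := 14360) (l := 5) rfl N14360 D47310
theorem N28822 : nd 28822 = n47311 := ndS (p := 14360) (l := 7) rfl N14360 D47311
theorem N28823 : nd 28823 = n47314 := ndS (p := 14361) (l := 1) rfl N14361 D47314
theorem N28824 : nd 28824 = n47315 := ndS (p := 14361) (l := 2) rfl N14361 D47315
theorem N28825 : nd 28825 = n47316 := ndS (p := 14361) (l := 4) rfl N14361 D47316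
theorem N28826 : nd 28826 = n47318 := ndS (p := 14361) (l := 6) rfl N14361 D47318
theorem N28827 : nd 28827 = n47320 := ndS (p := 14362) (l := 5) rfl N14362 D47320
theorem N28828 : nd 28828 = n47321 := ndS (p := 14362) (l := 6) rfl N14362 D47321
theorem N28829 : nd 28829 = n47322 := ndS (p := 14363) (l := 4) rfl N14363 D47322
theorem N28830 : nd 28830 = n47323 := ndS (p := 14363) (l := 6) rfl N14363 D47323
theorem N28831 : nd 28831 = n47324 := ndS (p := 14364) (l := 0) rfl N14364 D47324
theorem N28832 : nd 28832 = n47326 := ndS (p := 14364) (l := 5) rfl N14364 D47326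
theorem N28833 : nd 28833 = n47327 := ndS (p := 14364) (l := 7) rfl N14364 D47327
theorem N28834 : nd 28834 = n47329 := ndS (p := 14365) (l := 3) rfl N14365 D47329
theorem N28835 : nd 28835 = n47330 := ndS (p := 14365) (l := 4) rfl N14365 D47330
theorem N28836 : nd 28836 = n47331 := ndS (p := 14365) (l := 5) rfl N14365 D47331
theorem N28837 : nd 28837 = n47332 := ndS (p := 14365) (l := 6) rfl N14365 D47332
theorem N28838 : nd 28838 = n47334 := ndS (p := 14366) (l := 3) rfl N14366 D47334
theorem N28839 : nd 28839 = n47335 := ndS (p := 14366) (l := 4) rfl N14366 D47335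
theorem N28840 : nd 28840 = n47336 := ndS (p := 14366) (l := 5) rfl N14366 D47336
theorem N28841 : nd 28841 = n47337 := ndS (p := 14366) (l := 6) rfl N14366 D47337
theorem N28842 : nd 28842 = n47338 := ndS (p := 14367) (l := 0) rfl N14367 D47338
theorem N28843 : nd 28843 = n47339 := ndS (p := 14367) (l := 1) rfl N14367 D47339
theorem N28844 : nd 28844 = n47340 := ndS (p := 14367) (l := 3) rfl N14367 D47340
theorem N28845 : nd 28845 = n47341 := ndS (p := 14367) (l := 5) rfl N14367 D47341
theorem N28846 : nd 28846 = n47342 := ndS (p := 14367) (l := 7) rfl N14367 D47342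
theorem N28847 : nd 28847 = n47343 := ndS (p := 14368) (l := 6) rfl N14368 D47343
theorem N28848 : nd 28848 = n47344 := ndS (p := 14369) (l := 5) rfl N14369 D47344
theorem N28849 : nd 28849 = n47346 := ndS (p := 14370) (l := 3) rfl N14370 D47346
theorem N28850 : nd 28850 = n47347 := ndS (p := 14370) (l := 4) rfl N14370 D47347
theorem N28851 : nd 28851 = n47348 := ndS (p := 14370) (l := 5) rfl N14370 D47348
theorem N28852 : nd 28852 = n47349 := ndS (p := 14370) (l := 6) rfl N14370 D47349
theorem N28853 : nd 28853 = n47351 := ndS (p := 14371) (l := 3) rfl N14371 D47351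
theorem N28854 : nd 28854 = n47352 := ndS (p := 14371) (l := 4) rfl N14371 D47352
theorem N28855 : nd 28855 = n47353 := ndS (p := 14371) (l := 5) rfl N14371 D47353
theorem N28856 : nd 28856 = n47354 := ndS (p := 14371) (l := 6) rfl N14371 D47354
theorem N28857 : nd 28857 = n47355 := ndS (p := 14372) (l := 0) rfl N14372 D47355
theorem N28858 : nd 28858 = n47356 := ndS (p := 14372) (l := 1) rfl N14372 D47356
theorem N28859 : nd 28859 = n47357 := ndS (p := 14372) (l := 4) rfl N14372 D47357
theorem N28860 : nd 28860 = n47360 := ndS (p := 14373) (l := 4) rfl N14373 D47360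
theorem N28861 : nd 28861 = n47361 := ndS (p := 14373) (l := 5) rfl N14373 D47361
theorem N28862 : nd 28862 = n47368 := ndS (p := 14374) (l := 5) rfl N14374 D47368
theorem N28863 : nd 28863 = n47369 := ndS (p := 14374) (l := 6) rfl N14374 D47369
theorem N28864 : nd 28864 = n47370 := ndS (p := 14375) (l := 5) rfl N14375 D47370
theorem N28865 : nd 28865 = n47371 := ndS (p := 14375) (l := 6) rfl N14375 D47371
theorem N28866 : nd 28866 = n47372 := ndS (p := 14376) (l := 0) rfl N14376 D47372
theorem N28867 : nd 28867 = n47373 := ndS (p := 14376) (l := 1) rfl N14376 D47373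
theorem N28868 : nd 28868 = n47374 := ndS (p := 14376) (l := 4) rfl N14376 D47374
theorem N28869 : nd 28869 = n47375 := ndS (p := 14376) (l := 6) rfl N14376 D47375
theorem N28870 : nd 28870 = n47376 := ndS (p := 14377) (l := 0) rfl N14377 D47376
theorem N28871 : nd 28871 = n47377 := ndS (p := 14377) (l := 1) rfl N14377 D47377
theorem N28872 : nd 28872 = n47378 := ndS (p := 14377) (l := 5) rfl N14377 D47378
theorem N28873 : nd 28873 = n47379 := ndS (p := 14377) (l := 7) rfl N14377 D47379
theorem N28874 : nd 28874 = n47380 := ndS (p := 14379) (l := 5) rfl N14379 D47380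
theorem N28875 : nd 28875 = n47381 := ndS (p := 14380) (l := 6) rfl N14380 D47381
theorem N28876 : nd 28876 = n47382 := ndS (p := 14382) (l := 3) rfl N14382 D47382
theorem N28877 : nd 28877 = n47383 := ndS (p := 14382) (l := 4) rfl N14382 D47383
theorem N28878 : nd 28878 = n47384 := ndS (p := 14382) (l := 6) rfl N14382 D47384
theorem N28879 : nd 28879 = n47385 := ndS (p := 14383) (l := 4) rfl N14383 D47385
theorem N28880 : nd 28880 = n47386 := ndS (p := 14383) (l := 6) rfl N14383 D47386
theorem N28881 : nd 28881 = n47387 := ndS (p := 14384) (l := 0) rfl N14384 D47387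
theorem N28882 : nd 28882 = n47388 := ndS (p := 14384) (l := 1) rfl N14384 D47388
theorem N28883 : nd 28883 = n47389 := ndS (p := 14384) (l := 3) rfl N14384 D47389
theorem N28884 : nd 28884 = n47390 := ndS (p := 14384) (l := 6) rfl N14384 D47390
theorem N28885 : nd 28885 = n47391 := ndS (p := 14385) (l := 0) rfl N14385 D47391
theorem N28886 : nd 28886 = n47392 := ndS (p := 14385) (l := 1) rfl N14385 D47392
theorem N28887 : nd 28887 = n47393 := ndS (p := 14385) (l := 5) rfl N14385 D47393
theorem N28888 : nd 28888 = n47394 := ndS (p := 14385) (l := 7) rfl N14385 D47394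
theorem N28889 : nd 28889 = n47395 := ndS (p := 14386) (l := 4) rfl N14386 D47395
theorem N28890 : nd 28890 = n47404 := ndS (p := 14388) (l := 5) rfl N14388 D47404
theorem N28891 : nd 28891 = n47406 := ndS (p := 14389) (l := 4) rfl N14389 D47406
theorem N28892 : nd 28892 = n47408 := ndS (p := 14389) (l := 6) rfl N14389 D47408
theorem N28893 : nd 28893 = n47410 := ndS (p := 14390) (l := 1) rfl N14390 D47410
theorem N28894 : nd 28894 = n47411 := ndS (p := 14390) (l := 5) rfl N14390 D47411
theorem N28895 : nd 28895 = n47417 := ndS (p := 14391) (l := 0) rfl N14391 D47417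
theorem N28896 : nd 28896 = n47418 := ndS (p := 14391) (l := 1) rfl N14391 D47418
theorem N28897 : nd 28897 = n47420 := ndS (p := 14391) (l := 7) rfl N14391 D47420
theorem N28898 : nd 28898 = n47427 := ndS (p := 14393) (l := 4) rfl N14393 D47427
theorem N28899 : nd 28899 = n47430 := ndS (p := 14395) (l := 2) rfl N14395 D47430
theorem N28900 : nd 28900 = n47432 := ndS (p := 14395) (l := 5) rfl N14395 D47432
theorem N28901 : nd 28901 = n47433 := ndS (p := 14395) (l := 6) rfl N14395 D47433
theorem N28902 : nd 28902 = n47434 := ndS (p := 14396) (l := 0) rfl N14396 D47434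
theorem N28903 : nd 28903 = n47435 := ndS (p := 14396) (l := 1) rfl N14396 D47435
theorem N28904 : nd 28904 = n47436 := ndS (p := 14396) (l := 3) rfl N14396 D47436
theorem N28905 : nd 28905 = n47437 := ndS (p := 14396) (l := 6) rfl N14396 D47437
theorem N28906 : nd 28906 = n47438 := ndS (p := 14398) (l := 0) rfl N14398 D47438
theorem N28907 : nd 28907 = n47439 := ndS (p := 14398) (l := 1) rfl N14398 D47439
theorem N28908 : nd 28908 = n47440 := ndS (p := 14398) (l := 5) rfl N14398 D47440
theorem N28909 : nd 28909 = n47441 := ndS (p := 14398) (l := 7) rfl N14398 D47441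
theorem N28910 : nd 28910 = n47444 := ndS (p := 14399) (l := 2) rfl N14399 D47444
theorem N28911 : nd 28911 = n47445 := ndS (p := 14399) (l := 4) rfl N14399 D47445
theorem N28912 : nd 28912 = n47446 := ndS (p := 14399) (l := 5) rfl N14399 D47446
theorem N28913 : nd 28913 = n47447 := ndS (p := 14399) (l := 6) rfl N14399 D47447
theorem N28914 : nd 28914 = n47448 := ndS (p := 14400) (l := 3) rfl N14400 D47448
theorem N28915 : nd 28915 = n47449 := ndS (p := 14400) (l := 6) rfl N14400 D47449
theorem N28916 : nd 28916 = n47450 := ndS (p := 14402) (l := 0) rfl N14402 D47450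
theorem N28917 : nd 28917 = n47451 := ndS (p := 14402) (l := 1) rfl N14402 D47451
theorem N28918 : nd 28918 = n47452 := ndS (p := 14402) (l := 5) rfl N14402 D47452
theorem N28919 : nd 28919 = n47453 := ndS (p := 14402) (l := 7) rfl N14402 D47453
theorem N28920 : nd 28920 = n47455 := ndS (p := 14403) (l := 3) rfl N14403 D47455
theorem N28921 : nd 28921 = n47456 := ndS (p := 14403) (l := 6) rfl N14403 D47456
theorem N28922 : nd 28922 = n47458 := ndS (p := 14404) (l := 3) rfl N14404 D47458
theorem N28923 : nd 28923 = n47459 := ndS (p := 14404) (l := 6) rfl N14404 D47459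
theorem N28924 : nd 28924 = n47460 := ndS (p := 14405) (l := 0) rfl N14405 D47460
theorem N28925 : nd 28925 = n47461 := ndS (p := 14405) (l := 1) rfl N14405 D47461
theorem N28926 : nd 28926 = n47462 := ndS (p := 14405) (l := 2) rfl N14405 D47462
theorem N28927 : nd 28927 = n47463 := ndS (p := 14405) (l := 5) rfl N14405 D47463
theorem N28928 : nd 28928 = n47464 := ndS (p := 14405) (l := 7) rfl N14405 D47464
theorem N28929 : nd 28929 = n47465 := ndS (p := 14406) (l := 6) rfl N14406 D47465
theorem N28930 : nd 28930 = n47466 := ndS (p := 14407) (l := 6) rfl N14407 D47466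
theorem N28931 : nd 28931 = n47467 := ndS (p := 14408) (l := 0) rfl N14408 D47467
theorem N28932 : nd 28932 = n47468 := ndS (p := 14408) (l := 1) rfl N14408 D47468
theorem N28933 : nd 28933 = n47469 := ndS (p := 14408) (l := 5) rfl N14408 D47469
theorem N28934 : nd 28934 = n47470 := ndS (p := 14409) (l := 4) rfl N14409 D47470
theorem N28935 : nd 28935 = n47474 := ndS (p := 14410) (l := 5) rfl N14410 D47474
theorem N28936 : nd 28936 = n47475 := ndS (p := 14410) (l := 6) rfl N14410 D47475
theorem N28937 : nd 28937 = n47476 := ndS (p := 14411) (l := 0) rfl N14411 D47476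
theorem N28938 : nd 28938 = n47477 := ndS (p := 14411) (l := 1) rfl N14411 D47477
theorem N28939 : nd 28939 = n47478 := ndS (p := 14411) (l := 4) rfl N14411 D47478
theorem N28940 : nd 28940 = n47479 := ndS (p := 14411) (l := 6) rfl N14411 D47479
theorem N28941 : nd 28941 = n47480 := ndS (p := 14412) (l := 5) rfl N14412 D47480
theorem N28942 : nd 28942 = n47485 := ndS (p := 14413) (l := 5) rfl N14413 D47485
theorem N28943 : nd 28943 = n47487 := ndS (p := 14414) (l := 4) rfl N14414 D47487
theorem N28944 : nd 28944 = n47488 := ndS (p := 14414) (l := 6) rfl N14414 D47488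
theorem N28945 : nd 28945 = n47489 := ndS (p := 14415) (l := 3) rfl N14415 D47489
theorem N28946 : nd 28946 = n47490 := ndS (p := 14415) (l := 4) rfl N14415 D47490
theorem N28947 : nd 28947 = n47491 := ndS (p := 14415) (l := 6) rfl N14415 D47491
theorem N28948 : nd 28948 = n47492 := ndS (p := 14416) (l := 3) rfl N14416 D47492
theorem N28949 : nd 28949 = n47493 := ndS (p := 14416) (l := 4) rfl N14416 D47493
theorem N28950 : nd 28950 = n47494 := ndS (p := 14416) (l := 6) rfl N14416 D47494
theorem N28951 : nd 28951 = n47495 := ndS (p := 14417) (l := 0) rfl N14417 D47495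
theorem N28952 : nd 28952 = n47496 := ndS (p := 14417) (l := 1) rfl N14417 D47496
theorem N28953 : nd 28953 = n47497 := ndS (p := 14417) (l := 3) rfl N14417 D47497
theorem N28954 : nd 28954 = n47498 := ndS (p := 14417) (l := 5) rfl N14417 D47498
theorem N28955 : nd 28955 = n47499 := ndS (p := 14420) (l := 0) rfl N14420 D47499
theorem N28956 : nd 28956 = n47501 := ndS (p := 14420) (l := 2) rfl N14420 D47501
theorem N28957 : nd 28957 = n47502 := ndS (p := 14420) (l := 5) rfl N14420 D47502
theorem N28958 : nd 28958 = n47503 := ndS (p := 14420) (l := 6) rfl N14420 D47503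
theorem N28959 : nd 28959 = n47504 := ndS (p := 14421) (l := 1) rfl N14421 D47504
theorem N28960 : nd 28960 = n47508 := ndS (p := 14424) (l := 5) rfl N14424 D47508
theorem N28961 : nd 28961 = n47509 := ndS (p := 14425) (l := 3) rfl N14425 D47509
theorem N28962 : nd 28962 = n47510 := ndS (p := 14425) (l := 5) rfl N14425 D47510
theorem N28963 : nd 28963 = n47512 := ndS (p := 14429) (l := 0) rfl N14429 D47512
theorem N28964 : nd 28964 = n47513 := ndS (p := 14429) (l := 1) rfl N14429 D47513
theorem N28965 : nd 28965 = n47514 := ndS (p := 14429) (l := 2) rfl N14429 D47514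
theorem N28966 : nd 28966 = n47515 := ndS (p := 14429) (l := 5) rfl N14429 D47515
theorem N28967 : nd 28967 = n47516 := ndS (p := 14430) (l := 4) rfl N14430 D47516
theorem N28968 : nd 28968 = n47517 := ndS (p := 14430) (l := 6) rfl N14430 D47517
theorem N28969 : nd 28969 = n47519 := ndS (p := 14431) (l := 3) rfl N14431 D47519
theorem N28970 : nd 28970 = n47520 := ndS (p := 14431) (l := 4) rfl N14431 D47520
theorem N28971 : nd 28971 = n47521 := ndS (p := 14431) (l := 5) rfl N14431 D47521
theorem N28972 : nd 28972 = n47528 := ndS (p := 14432) (l := 5) rfl N14432 D47528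
theorem N28973 : nd 28973 = n47529 := ndS (p := 14432) (l := 6) rfl N14432 D47529
theorem N28974 : nd 28974 = n47530 := ndS (p := 14433) (l := 0) rfl N14433 D47530
theorem N28975 : nd 28975 = n47531 := ndS (p := 14433) (l := 1) rfl N14433 D47531
theorem N28976 : nd 28976 = n47532 := ndS (p := 14433) (l := 4) rfl N14433 D47532
theorem N28977 : nd 28977 = n47533 := ndS (p := 14433) (l := 6) rfl N14433 D47533
theorem N28978 : nd 28978 = n47534 := ndS (p := 14434) (l := 0) rfl N14434 D47534
theorem N28979 : nd 28979 = n47535 := ndS (p := 14434) (l := 1) rfl N14434 D47535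
theorem N28980 : nd 28980 = n47536 := ndS (p := 14434) (l := 5) rfl N14434 D47536
theorem N28981 : nd 28981 = n47537 := ndS (p := 14435) (l := 3) rfl N14435 D47537
theorem N28982 : nd 28982 = n47538 := ndS (p := 14435) (l := 4) rfl N14435 D47538
theorem N28983 : nd 28983 = n47539 := ndS (p := 14435) (l := 6) rfl N14435 D47539
theorem N28984 : nd 28984 = n47540 := ndS (p := 14436) (l := 3) rfl N14436 D47540
theorem N28985 : nd 28985 = n47541 := ndS (p := 14436) (l := 4) rfl N14436 D47541
theorem N28986 : nd 28986 = n47542 := ndS (p := 14436) (l := 5) rfl N14436 D47542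
theorem N28987 : nd 28987 = n47543 := ndS (p := 14436) (l := 6) rfl N14436 D47543
theorem N28988 : nd 28988 = n47544 := ndS (p := 14437) (l := 3) rfl N14437 D47544
theorem N28989 : nd 28989 = n47545 := ndS (p := 14437) (l := 6) rfl N14437 D47545
theorem N28990 : nd 28990 = n47546 := ndS (p := 14438) (l := 0) rfl N14438 D47546
theorem N28991 : nd 28991 = n47547 := ndS (p := 14438) (l := 1) rfl N14438 D47547
theorem N28992 : nd 28992 = n47548 := ndS (p := 14438) (l := 5) rfl N14438 D47548
theorem N28993 : nd 28993 = n47549 := ndS (p := 14438) (l := 7) rfl N14438 D47549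
theorem N28994 : nd 28994 = n47550 := ndS (p := 14439) (l := 3) rfl N14439 D47550
theorem N28995 : nd 28995 = n47551 := ndS (p := 14440) (l := 1) rfl N14440 D47551
theorem N28996 : nd 28996 = n47552 := ndS (p := 14440) (l := 4) rfl N14440 D47552
theorem N28997 : nd 28997 = n47553 := ndS (p := 14441) (l := 3) rfl N14441 D47553
theorem N28998 : nd 28998 = n47554 := ndS (p := 14441) (l := 5) rfl N14441 D47554
theorem N28999 : nd 28999 = n47556 := ndS (p := 14442) (l := 5) rfl N14442 D47556
theorem N29000 : nd 29000 = n47557 := ndS (p := 14443) (l := 3) rfl N14443 D47557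
theorem N29001 : nd 29001 = n47558 := ndS (p := 14443) (l := 5) rfl N14443 D47558
theorem N29002 : nd 29002 = n47560 := ndS (p := 14444) (l := 3) rfl N14444 D47560
theorem N29003 : nd 29003 = n47561 := ndS (p := 14444) (l := 5) rfl N14444 D47561
theorem N29004 : nd 29004 = n47562 := ndS (p := 14445) (l := 0) rfl N14445 D47562
theorem N29005 : nd 29005 = n47563 := ndS (p := 14445) (l := 1) rfl N14445 D47563
theorem N29006 : nd 29006 = n47564 := ndS (p := 14445) (l := 2) rfl N14445 D47564
theorem N29007 : nd 29007 = n47565 := ndS (p := 14445) (l := 5) rfl N14445 D47565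
theorem N29008 : nd 29008 = n47566 := ndS (p := 14445) (l := 6) rfl N14445 D47566
theorem N29009 : nd 29009 = n47567 := ndS (p := 14446) (l := 6) rfl N14446 D47567
theorem N29010 : nd 29010 = n47568 := ndS (p := 14449) (l := 5) rfl N14449 D47568
theorem N29011 : nd 29011 = n47570 := ndS (p := 14450) (l := 1) rfl N14450 D47570
theorem N29012 : nd 29012 = n47571 := ndS (p := 14450) (l := 2) rfl N14450 D47571
theorem N29013 : nd 29013 = n47572 := ndS (p := 14450) (l := 5) rfl N14450 D47572
theorem N29014 : nd 29014 = n47573 := ndS (p := 14450) (l := 6) rfl N14450 D47573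
theorem N29015 : nd 29015 = n47574 := ndS (p := 14451) (l := 0) rfl N14451 D47574
theorem N29016 : nd 29016 = n47575 := ndS (p := 14451) (l := 1) rfl N14451 D47575
theorem N29017 : nd 29017 = n47576 := ndS (p := 14451) (l := 4) rfl N14451 D47576
theorem N29018 : nd 29018 = n47577 := ndS (p := 14451) (l := 6) rfl N14451 D47577
theorem N29019 : nd 29019 = n47578 := ndS (p := 14453) (l := 5) rfl N14453 D47578
theorem N29020 : nd 29020 = n47579 := ndS (p := 14455) (l := 3) rfl N14455 D47579
theorem N29021 : nd 29021 = n47582 := ndS (p := 14459) (l := 5) rfl N14459 D47582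
theorem N29022 : nd 29022 = n47583 := ndS (p := 14460) (l := 5) rfl N14460 D47583
theorem N29023 : nd 29023 = n47584 := ndS (p := 14460) (l := 6) rfl N14460 D47584
theorem N29024 : nd 29024 = n47585 := ndS (p := 14461) (l := 0) rfl N14461 D47585
theorem N29025 : nd 29025 = n47586 := ndS (p := 14461) (l := 1) rfl N14461 D47586
theorem N29026 : nd 29026 = n47587 := ndS (p := 14461) (l := 4) rfl N14461 D47587
theorem N29027 : nd 29027 = n47588 := ndS (p := 14461) (l := 6) rfl N14461 D47588
theorem N29028 : nd 29028 = n47589 := ndS (p := 14462) (l := 0) rfl N14462 D47589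
theorem N29029 : nd 29029 = n47591 := ndS (p := 14462) (l := 5) rfl N14462 D47591
theorem N29030 : nd 29030 = n47592 := ndS (p := 14462) (l := 7) rfl N14462 D47592
theorem N29031 : nd 29031 = n47593 := ndS (p := 14463) (l := 3) rfl N14463 D47593
theorem N29032 : nd 29032 = n47594 := ndS (p := 14463) (l := 6) rfl N14463 D47594
theorem N29033 : nd 29033 = n47595 := ndS (p := 14464) (l := 0) rfl N14464 D47595
theorem N29034 : nd 29034 = n47596 := ndS (p := 14464) (l := 1) rfl N14464 D47596
theorem N29035 : nd 29035 = n47597 := ndS (p := 14464) (l := 5) rfl N14464 D47597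
theorem N29036 : nd 29036 = n47598 := ndS (p := 14464) (l := 7) rfl N14464 D47598
theorem N29037 : nd 29037 = n47600 := ndS (p := 14466) (l := 4) rfl N14466 D47600
theorem N29038 : nd 29038 = n47601 := ndS (p := 14466) (l := 7) rfl N14466 D47601
theorem N29039 : nd 29039 = n47602 := ndS (p := 14468) (l := 0) rfl N14468 D47602
theorem N29040 : nd 29040 = n47603 := ndS (p := 14468) (l := 1) rfl N14468 D47603
theorem N29041 : nd 29041 = n47604 := ndS (p := 14468) (l := 2) rfl N14468 D47604
theorem N29042 : nd 29042 = n47605 := ndS (p := 14468) (l := 5) rfl N14468 D47605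
theorem N29043 : nd 29043 = n47606 := ndS (p := 14469) (l := 6) rfl N14469 D47606
theorem N29044 : nd 29044 = n47615 := ndS (p := 14472) (l := 5) rfl N14472 D47615
theorem N29045 : nd 29045 = n47616 := ndS (p := 14472) (l := 6) rfl N14472 D47616
theorem N29046 : nd 29046 = n47617 := ndS (p := 14473) (l := 0) rfl N14473 D47617
theorem N29047 : nd 29047 = n47618 := ndS (p := 14473) (l := 1) rfl N14473 D47618
theorem N29048 : nd 29048 = n47619 := ndS (p := 14473) (l := 4) rfl N14473 D47619
theorem N29049 : nd 29049 = n47620 := ndS (p := 14473) (l := 6) rfl N14473 D47620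
theorem N29050 : nd 29050 = n47621 := ndS (p := 14474) (l := 5) rfl N14474 D47621
theorem N29051 : nd 29051 = n47635 := ndS (p := 14475) (l := 5) rfl N14475 D47635
theorem N29052 : nd 29052 = n47637 := ndS (p := 14476) (l := 4) rfl N14476 D47637
theorem N29053 : nd 29053 = n47638 := ndS (p := 14476) (l := 6) rfl N14476 D47638
theorem N29054 : nd 29054 = n47644 := ndS (p := 14477) (l := 4) rfl N14477 D47644
theorem N29055 : nd 29055 = n47647 := ndS (p := 14478) (l := 3) rfl N14478 D47647
theorem N29056 : nd 29056 = n47648 := ndS (p := 14478) (l := 5) rfl N14478 D47648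
theorem N29057 : nd 29057 = n47654 := ndS (p := 14479) (l := 3) rfl N14479 D47654
theorem N29058 : nd 29058 = n47655 := ndS (p := 14479) (l := 5) rfl N14479 D47655
theorem N29059 : nd 29059 = n47665 := ndS (p := 14480) (l := 4) rfl N14480 D47665
theorem N29060 : nd 29060 = n47666 := ndS (p := 14480) (l := 6) rfl N14480 D47666
theorem N29061 : nd 29061 = n47667 := ndS (p := 14481) (l := 4) rfl N14481 D47667
theorem N29062 : nd 29062 = n47668 := ndS (p := 14481) (l := 6) rfl N14481 D47668
theorem N29063 : nd 29063 = n47669 := ndS (p := 14482) (l := 3) rfl N14482 D47669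
theorem N29064 : nd 29064 = n47670 := ndS (p := 14482) (l := 6) rfl N14482 D47670
theorem N29065 : nd 29065 = n47671 := ndS (p := 14483) (l := 0) rfl N14483 D47671
theorem N29066 : nd 29066 = n47684 := ndS (p := 14484) (l := 3) rfl N14484 D47684
theorem N29067 : nd 29067 = n47685 := ndS (p := 14484) (l := 6) rfl N14484 D47685
theorem N29068 : nd 29068 = n47686 := ndS (p := 14485) (l := 0) rfl N14485 D47686
theorem N29069 : nd 29069 = n47687 := ndS (p := 14485) (l := 1) rfl N14485 D47687
theorem N29070 : nd 29070 = n47688 := ndS (p := 14485) (l := 7) rfl N14485 D47688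
theorem N29071 : nd 29071 = n47702 := ndS (p := 14487) (l := 0) rfl N14487 D47702
theorem N29072 : nd 29072 = n47703 := ndS (p := 14487) (l := 1) rfl N14487 D47703
theorem N29073 : nd 29073 = n47704 := ndS (p := 14487) (l := 2) rfl N14487 D47704
theorem N29074 : nd 29074 = n47705 := ndS (p := 14487) (l := 5) rfl N14487 D47705
theorem N29075 : nd 29075 = n47706 := ndS (p := 14487) (l := 6) rfl N14487 D47706
theorem N29076 : nd 29076 = n47707 := ndS (p := 14488) (l := 6) rfl N14488 D47707
theorem N29077 : nd 29077 = n47710 := ndS (p := 14489) (l := 5) rfl N14489 D47710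
theorem N29078 : nd 29078 = n47721 := ndS (p := 14490) (l := 0) rfl N14490 D47721
theorem N29079 : nd 29079 = n47722 := ndS (p := 14490) (l := 1) rfl N14490 D47722
theorem N29080 : nd 29080 = n47723 := ndS (p := 14490) (l := 2) rfl N14490 D47723
theorem N29081 : nd 29081 = n47724 := ndS (p := 14490) (l := 5) rfl N14490 D47724
theorem N29082 : nd 29082 = n47726 := ndS (p := 14491) (l := 6) rfl N14491 D47726
theorem N29083 : nd 29083 = n47729 := ndS (p := 14492) (l := 0) rfl N14492 D47729
theorem N29084 : nd 29084 = n47730 := ndS (p := 14492) (l := 1) rfl N14492 D47730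
theorem N29085 : nd 29085 = n47731 := ndS (p := 14492) (l := 2) rfl N14492 D47731
theorem N29086 : nd 29086 = n47732 := ndS (p := 14492) (l := 5) rfl N14492 D47732
theorem N29087 : nd 29087 = n47733 := ndS (p := 14492) (l := 6) rfl N14492 D47733
theorem N29088 : nd 29088 = n47734 := ndS (p := 14493) (l := 6) rfl N14493 D47734
theorem N29089 : nd 29089 = n47737 := ndS (p := 14494) (l := 5) rfl N14494 D47737
theorem N29090 : nd 29090 = n47745 := ndS (p := 14495) (l := 3) rfl N14495 D47745
theorem N29091 : nd 29091 = n47748 := ndS (p := 14496) (l := 5) rfl N14496 D47748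
theorem N29092 : nd 29092 = n47751 := ndS (p := 14497) (l := 4) rfl N14497 D47751
theorem N29093 : nd 29093 = n47752 := ndS (p := 14497) (l := 6) rfl N14497 D47752
theorem N29094 : nd 29094 = n47757 := ndS (p := 14498) (l := 3) rfl N14498 D47757
theorem N29095 : nd 29095 = n47758 := ndS (p := 14498) (l := 6) rfl N14498 D47758
theorem N29096 : nd 29096 = n47759 := ndS (p := 14499) (l := 0) rfl N14499 D47759
theorem N29097 : nd 29097 = n47760 := ndS (p := 14499) (l := 1) rfl N14499 D47760
theorem N29098 : nd 29098 = n47761 := ndS (p := 14499) (l := 7) rfl N14499 D47761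
theorem N29099 : nd 29099 = n47762 := ndS (p := 14500) (l := 4) rfl N14500 D47762
theorem N29100 : nd 29100 = n47763 := ndS (p := 14500) (l := 6) rfl N14500 D47763
theorem N29101 : nd 29101 = n47764 := ndS (p := 14501) (l := 0) rfl N14501 D47764
theorem N29102 : nd 29102 = n47765 := ndS (p := 14501) (l := 1) rfl N14501 D47765
theorem N29103 : nd 29103 = n47766 := ndS (p := 14501) (l := 5) rfl N14501 D47766
theorem N29104 : nd 29104 = n47767 := ndS (p := 14501) (l := 7) rfl N14501 D47767
theorem N29105 : nd 29105 = n47768 := ndS (p := 14502) (l := 0) rfl N14502 D47768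
theorem N29106 : nd 29106 = n47769 := ndS (p := 14502) (l := 1) rfl N14502 D47769
theorem N29107 : nd 29107 = n47770 := ndS (p := 14502) (l := 5) rfl N14502 D47770
theorem N29108 : nd 29108 = n47771 := ndS (p := 14502) (l := 7) rfl N14502 D47771
theorem N29109 : nd 29109 = n47772 := ndS (p := 14503) (l := 5) rfl N14503 D47772
theorem N29110 : nd 29110 = n47773 := ndS (p := 14503) (l := 6) rfl N14503 D47773
theorem N29111 : nd 29111 = n47774 := ndS (p := 14504) (l := 0) rfl N14504 D47774
theorem N29112 : nd 29112 = n47775 := ndS (p := 14504) (l := 4) rfl N14504 D47775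
theorem N29113 : nd 29113 = n47776 := ndS (p := 14504) (l := 7) rfl N14504 D47776
theorem N29114 : nd 29114 = n47777 := ndS (p := 14506) (l := 3) rfl N14506 D47777
theorem N29115 : nd 29115 = n47778 := ndS (p := 14506) (l := 5) rfl N14506 D47778
theorem N29116 : nd 29116 = n47781 := ndS (p := 14507) (l := 5) rfl N14507 D47781
theorem N29117 : nd 29117 = n47782 := ndS (p := 14507) (l := 6) rfl N14507 D47782
theorem N29118 : nd 29118 = n47783 := ndS (p := 14508) (l := 4) rfl N14508 D47783
theorem N29119 : nd 29119 = n47789 := ndS (p := 14510) (l := 4) rfl N14510 D47789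
theorem N29120 : nd 29120 = n47790 := ndS (p := 14510) (l := 6) rfl N14510 D47790
theorem N29121 : nd 29121 = n47791 := ndS (p := 14511) (l := 6) rfl N14511 D47791
theorem N29122 : nd 29122 = n47792 := ndS (p := 14512) (l := 6) rfl N14512 D47792
theorem N29123 : nd 29123 = n47793 := ndS (p := 14513) (l := 0) rfl N14513 D47793
theorem N29124 : nd 29124 = n47794 := ndS (p := 14513) (l := 1) rfl N14513 D47794
theorem N29125 : nd 29125 = n47795 := ndS (p := 14513) (l := 5) rfl N14513 D47795
theorem N29126 : nd 29126 = n47796 := ndS (p := 14513) (l := 7) rfl N14513 D47796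
theorem N29127 : nd 29127 = n47797 := ndS (p := 14514) (l := 0) rfl N14514 D47797
theorem N29128 : nd 29128 = n47798 := ndS (p := 14514) (l := 4) rfl N14514 D47798
theorem N29129 : nd 29129 = n47799 := ndS (p := 14514) (l := 7) rfl N14514 D47799
theorem N29130 : nd 29130 = n47800 := ndS (p := 14516) (l := 6) rfl N14516 D47800
theorem N29131 : nd 29131 = n47801 := ndS (p := 14517) (l := 6) rfl N14517 D47801
theorem N29132 : nd 29132 = n47802 := ndS (p := 14518) (l := 6) rfl N14518 D47802
theorem N29133 : nd 29133 = n47803 := ndS (p := 14519) (l := 0) rfl N14519 D47803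
theorem N29134 : nd 29134 = n47804 := ndS (p := 14519) (l := 1) rfl N14519 D47804
theorem N29135 : nd 29135 = n47805 := ndS (p := 14519) (l := 5) rfl N14519 D47805
theorem N29136 : nd 29136 = n47806 := ndS (p := 14520) (l := 1) rfl N14520 D47806
theorem N29137 : nd 29137 = n47807 := ndS (p := 14520) (l := 4) rfl N14520 D47807
theorem N29138 : nd 29138 = n47808 := ndS (p := 14521) (l := 0) rfl N14521 D47808
theorem N29139 : nd 29139 = n47809 := ndS (p := 14521) (l := 1) rfl N14521 D47809
theorem N29140 : nd 29140 = n47810 := ndS (p := 14521) (l := 6) rfl N14521 D47810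
theorem N29141 : nd 29141 = n47811 := ndS (p := 14522) (l := 0) rfl N14522 D47811
theorem N29142 : nd 29142 = n47813 := ndS (p := 14522) (l := 5) rfl N14522 D47813
theorem N29143 : nd 29143 = n47814 := ndS (p := 14522) (l := 7) rfl N14522 D47814
theorem N29144 : nd 29144 = n47816 := ndS (p := 14523) (l := 3) rfl N14523 D47816
theorem N29145 : nd 29145 = n47817 := ndS (p := 14523) (l := 4) rfl N14523 D47817
theorem N29146 : nd 29146 = n47818 := ndS (p := 14523) (l := 5) rfl N14523 D47818
theorem N29147 : nd 29147 = n47819 := ndS (p := 14523) (l := 6) rfl N14523 D47819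
theorem N29148 : nd 29148 = n47821 := ndS (p := 14524) (l := 3) rfl N14524 D47821
theorem N29149 : nd 29149 = n47823 := ndS (p := 14524) (l := 5) rfl N14524 D47823
theorem N29150 : nd 29150 = n47825 := ndS (p := 14525) (l := 0) rfl N14525 D47825
theorem N29151 : nd 29151 = n47826 := ndS (p := 14525) (l := 1) rfl N14525 D47826
theorem N29152 : nd 29152 = n47827 := ndS (p := 14525) (l := 4) rfl N14525 D47827
theorem N29153 : nd 29153 = n47828 := ndS (p := 14525) (l := 7) rfl N14525 D47828
theorem N29154 : nd 29154 = n47829 := ndS (p := 14527) (l := 0) rfl N14527 D47829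
theorem N29155 : nd 29155 = n47831 := ndS (p := 14527) (l := 2) rfl N14527 D47831
theorem N29156 : nd 29156 = n47832 := ndS (p := 14527) (l := 5) rfl N14527 D47832
theorem N29157 : nd 29157 = n47833 := ndS (p := 14527) (l := 6) rfl N14527 D47833
theorem N29158 : nd 29158 = n47834 := ndS (p := 14528) (l := 0) rfl N14528 D47834
theorem N29159 : nd 29159 = n47836 := ndS (p := 14528) (l := 4) rfl N14528 D47836
theorem N29160 : nd 29160 = n47837 := ndS (p := 14528) (l := 6) rfl N14528 D47837
theorem N29161 : nd 29161 = n47839 := ndS (p := 14530) (l := 1) rfl N14530 D47839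
theorem N29162 : nd 29162 = n47840 := ndS (p := 14530) (l := 2) rfl N14530 D47840
theorem N29163 : nd 29163 = n47841 := ndS (p := 14530) (l := 5) rfl N14530 D47841
theorem N29164 : nd 29164 = n47842 := ndS (p := 14530) (l := 6) rfl N14530 D47842
theorem N29165 : nd 29165 = n47843 := ndS (p := 14531) (l := 4) rfl N14531 D47843
theorem N29166 : nd 29166 = n47844 := ndS (p := 14531) (l := 6) rfl N14531 D47844
theorem N29167 : nd 29167 = n47846 := ndS (p := 14532) (l := 5) rfl N14532 D47846
theorem N29168 : nd 29168 = n47848 := ndS (p := 14533) (l := 3) rfl N14533 D47848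
theorem N29169 : nd 29169 = n47849 := ndS (p := 14533) (l := 4) rfl N14533 D47849
theorem N29170 : nd 29170 = n47850 := ndS (p := 14533) (l := 6) rfl N14533 D47850
theorem N29171 : nd 29171 = n47851 := ndS (p := 14534) (l := 3) rfl N14534 D47851
theorem N29172 : nd 29172 = n47852 := ndS (p := 14534) (l := 4) rfl N14534 D47852
theorem N29173 : nd 29173 = n47853 := ndS (p := 14534) (l := 6) rfl N14534 D47853
theorem N29174 : nd 29174 = n47854 := ndS (p := 14535) (l := 0) rfl N14535 D47854
theorem N29175 : nd 29175 = n47855 := ndS (p := 14535) (l := 1) rfl N14535 D47855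
theorem N29176 : nd 29176 = n47856 := ndS (p := 14535) (l := 3) rfl N14535 D47856
theorem N29177 : nd 29177 = n47857 := ndS (p := 14535) (l := 5) rfl N14535 D47857
theorem N29178 : nd 29178 = n47858 := ndS (p := 14535) (l := 7) rfl N14535 D47858
theorem N29179 : nd 29179 = n47859 := ndS (p := 14536) (l := 6) rfl N14536 D47859
theorem N29180 : nd 29180 = n47862 := ndS (p := 14538) (l := 3) rfl N14538 D47862
theorem N29181 : nd 29181 = n47863 := ndS (p := 14538) (l := 5) rfl N14538 D47863
theorem N29182 : nd 29182 = n47864 := ndS (p := 14539) (l := 0) rfl N14539 D47864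
theorem N29183 : nd 29183 = n47866 := ndS (p := 14539) (l := 2) rfl N14539 D47866
theorem N29184 : nd 29184 = n47867 := ndS (p := 14539) (l := 5) rfl N14539 D47867
theorem N29185 : nd 29185 = n47868 := ndS (p := 14539) (l := 6) rfl N14539 D47868
theorem N29186 : nd 29186 = n47869 := ndS (p := 14540) (l := 0) rfl N14540 D47869
theorem N29187 : nd 29187 = n47870 := ndS (p := 14540) (l := 1) rfl N14540 D47870
theorem N29188 : nd 29188 = n47871 := ndS (p := 14540) (l := 4) rfl N14540 D47871
theorem N29189 : nd 29189 = n47872 := ndS (p := 14540) (l := 6) rfl N14540 D47872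
theorem N29190 : nd 29190 = n47873 := ndS (p := 14541) (l := 1) rfl N14541 D47873
theorem N29191 : nd 29191 = n47874 := ndS (p := 14541) (l := 5) rfl N14541 D47874
theorem N29192 : nd 29192 = n47875 := ndS (p := 14542) (l := 4) rfl N14542 D47875
theorem N29193 : nd 29193 = n47877 := ndS (p := 14543) (l := 0) rfl N14543 D47877
theorem N29194 : nd 29194 = n47878 := ndS (p := 14543) (l := 1) rfl N14543 D47878
theorem N29195 : nd 29195 = n47879 := ndS (p := 14543) (l := 3) rfl N14543 D47879
theorem N29196 : nd 29196 = n47880 := ndS (p := 14543) (l := 5) rfl N14543 D47880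
theorem N29197 : nd 29197 = n47882 := ndS (p := 14544) (l := 3) rfl N14544 D47882
theorem N29198 : nd 29198 = n47883 := ndS (p := 14544) (l := 5) rfl N14544 D47883
theorem N29199 : nd 29199 = n47887 := ndS (p := 14545) (l := 4) rfl N14545 D47887
theorem N29200 : nd 29200 = n47892 := ndS (p := 14547) (l := 1) rfl N14547 D47892
theorem N29201 : nd 29201 = n47893 := ndS (p := 14547) (l := 2) rfl N14547 D47893
theorem N29202 : nd 29202 = n47894 := ndS (p := 14547) (l := 5) rfl N14547 D47894
theorem N29203 : nd 29203 = n47895 := ndS (p := 14547) (l := 6) rfl N14547 D47895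
theorem N29204 : nd 29204 = n47896 := ndS (p := 14548) (l := 4) rfl N14548 D47896
theorem N29205 : nd 29205 = n47897 := ndS (p := 14548) (l := 6) rfl N14548 D47897
theorem N29206 : nd 29206 = n47898 := ndS (p := 14549) (l := 0) rfl N14549 D47898
theorem N29207 : nd 29207 = n47899 := ndS (p := 14549) (l := 5) rfl N14549 D47899
theorem N29208 : nd 29208 = n47900 := ndS (p := 14549) (l := 7) rfl N14549 D47900
theorem N29209 : nd 29209 = n47901 := ndS (p := 14550) (l := 3) rfl N14550 D47901
theorem N29210 : nd 29210 = n47902 := ndS (p := 14550) (l := 5) rfl N14550 D47902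
theorem N29211 : nd 29211 = n47903 := ndS (p := 14550) (l := 6) rfl N14550 D47903
theorem N29212 : nd 29212 = n47934 := ndS (p := 14553) (l := 4) rfl N14553 D47934
theorem N29213 : nd 29213 = n47935 := ndS (p := 14553) (l := 6) rfl N14553 D47935
theorem N29214 : nd 29214 = n47942 := ndS (p := 14554) (l := 5) rfl N14554 D47942
theorem N29215 : nd 29215 = n47978 := ndS (p := 14555) (l := 4) rfl N14555 D47978
theorem N29216 : nd 29216 = n47979 := ndS (p := 14555) (l := 6) rfl N14555 D47979
theorem N29217 : nd 29217 = n47980 := ndS (p := 14556) (l := 6) rfl N14556 D47980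
theorem N29218 : nd 29218 = n47981 := ndS (p := 14557) (l := 0) rfl N14557 D47981
theorem N29219 : nd 29219 = n47982 := ndS (p := 14557) (l := 1) rfl N14557 D47982
theorem N29220 : nd 29220 = n47983 := ndS (p := 14557) (l := 5) rfl N14557 D47983
theorem N29221 : nd 29221 = n47984 := ndS (p := 14557) (l := 7) rfl N14557 D47984
theorem N29222 : nd 29222 = n47985 := ndS (p := 14558) (l := 0) rfl N14558 D47985
theorem N29223 : nd 29223 = n47986 := ndS (p := 14558) (l := 1) rfl N14558 D47986
theorem N29224 : nd 29224 = n47987 := ndS (p := 14558) (l := 5) rfl N14558 D47987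
theorem N29225 : nd 29225 = n47988 := ndS (p := 14558) (l := 7) rfl N14558 D47988
theorem N29226 : nd 29226 = n47989 := ndS (p := 14559) (l := 3) rfl N14559 D47989
theorem N29227 : nd 29227 = n47990 := ndS (p := 14559) (l := 5) rfl N14559 D47990
theorem N29228 : nd 29228 = n47991 := ndS (p := 14560) (l := 0) rfl N14560 D47991
theorem N29229 : nd 29229 = n47992 := ndS (p := 14560) (l := 4) rfl N14560 D47992
theorem N29230 : nd 29230 = n47993 := ndS (p := 14560) (l := 7) rfl N14560 D47993
theorem N29231 : nd 29231 = n47994 := ndS (p := 14562) (l := 5) rfl N14562 D47994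
theorem N29232 : nd 29232 = n47996 := ndS (p := 14563) (l := 5) rfl N14563 D47996
theorem N29233 : nd 29233 = n47999 := ndS (p := 14564) (l := 1) rfl N14564 D47999
theorem N29234 : nd 29234 = n48000 := ndS (p := 14564) (l := 3) rfl N14564 D48000
theorem N29235 : nd 29235 = n48002 := ndS (p := 14564) (l := 7) rfl N14564 D48002
theorem N29236 : nd 29236 = n48003 := ndS (p := 14566) (l := 6) rfl N14566 D48003
theorem N29237 : nd 29237 = n48004 := ndS (p := 14567) (l := 3) rfl N14567 D48004
theorem N29238 : nd 29238 = n48005 := ndS (p := 14567) (l := 6) rfl N14567 D48005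
theorem N29239 : nd 29239 = n48006 := ndS (p := 14568) (l := 6) rfl N14568 D48006
theorem N29240 : nd 29240 = n48007 := ndS (p := 14569) (l := 0) rfl N14569 D48007
theorem N29241 : nd 29241 = n48008 := ndS (p := 14569) (l := 1) rfl N14569 D48008
theorem N29242 : nd 29242 = n48009 := ndS (p := 14569) (l := 5) rfl N14569 D48009
theorem N29243 : nd 29243 = n48010 := ndS (p := 14570) (l := 0) rfl N14570 D48010
theorem N29244 : nd 29244 = n48011 := ndS (p := 14570) (l := 4) rfl N14570 D48011
theorem N29245 : nd 29245 = n48012 := ndS (p := 14571) (l := 3) rfl N14571 D48012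
theorem N29246 : nd 29246 = n48013 := ndS (p := 14571) (l := 6) rfl N14571 D48013
theorem N29247 : nd 29247 = n48014 := ndS (p := 14572) (l := 6) rfl N14572 D48014
theorem N29248 : nd 29248 = n48015 := ndS (p := 14573) (l := 6) rfl N14573 D48015
theorem N29249 : nd 29249 = n48016 := ndS (p := 14574) (l := 0) rfl N14574 D48016
theorem N29250 : nd 29250 = n48017 := ndS (p := 14574) (l := 1) rfl N14574 D48017
theorem N29251 : nd 29251 = n48018 := ndS (p := 14574) (l := 5) rfl N14574 D48018
theorem N29252 : nd 29252 = n48019 := ndS (p := 14574) (l := 7) rfl N14574 D48019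
theorem N29253 : nd 29253 = n48020 := ndS (p := 14575) (l := 0) rfl N14575 D48020
theorem N29254 : nd 29254 = n48021 := ndS (p := 14575) (l := 1) rfl N14575 D48021
theorem N29255 : nd 29255 = n48022 := ndS (p := 14575) (l := 4) rfl N14575 D48022
theorem N29256 : nd 29256 = n48023 := ndS (p := 14575) (l := 7) rfl N14575 D48023
theorem N29257 : nd 29257 = n48024 := ndS (p := 14577) (l := 0) rfl N14577 D48024
theorem N29258 : nd 29258 = n48025 := ndS (p := 14577) (l := 1) rfl N14577 D48025
theorem N29259 : nd 29259 = n48026 := ndS (p := 14577) (l := 2) rfl N14577 D48026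
theorem N29260 : nd 29260 = n48027 := ndS (p := 14577) (l := 6) rfl N14577 D48027
theorem N29261 : nd 29261 = n48028 := ndS (p := 14578) (l := 0) rfl N14578 D48028
theorem N29262 : nd 29262 = n48029 := ndS (p := 14578) (l := 1) rfl N14578 D48029
theorem N29263 : nd 29263 = n48030 := ndS (p := 14578) (l := 5) rfl N14578 D48030
theorem N29264 : nd 29264 = n48031 := ndS (p := 14578) (l := 7) rfl N14578 D48031
theorem N29265 : nd 29265 = n48033 := ndS (p := 14579) (l := 3) rfl N14579 D48033
theorem N29266 : nd 29266 = n48034 := ndS (p := 14579) (l := 4) rfl N14579 D48034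
theorem N29267 : nd 29267 = n48035 := ndS (p := 14579) (l := 5) rfl N14579 D48035
theorem N29268 : nd 29268 = n48036 := ndS (p := 14579) (l := 6) rfl N14579 D48036
theorem N29269 : nd 29269 = n48038 := ndS (p := 14580) (l := 3) rfl N14580 D48038
theorem N29270 : nd 29270 = n48039 := ndS (p := 14580) (l := 4) rfl N14580 D48039
theorem N29271 : nd 29271 = n48040 := ndS (p := 14580) (l := 5) rfl N14580 D48040
theorem N29272 : nd 29272 = n48041 := ndS (p := 14580) (l := 6) rfl N14580 D48041
theorem N29273 : nd 29273 = n48042 := ndS (p := 14581) (l := 0) rfl N14581 D48042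
theorem N29274 : nd 29274 = n48043 := ndS (p := 14581) (l := 1) rfl N14581 D48043
theorem N29275 : nd 29275 = n48044 := ndS (p := 14581) (l := 4) rfl N14581 D48044
theorem N29276 : nd 29276 = n48045 := ndS (p := 14581) (l := 7) rfl N14581 D48045
theorem N29277 : nd 29277 = n48046 := ndS (p := 14583) (l := 0) rfl N14583 D48046
theorem N29278 : nd 29278 = n48048 := ndS (p := 14583) (l := 2) rfl N14583 D48048
theorem N29279 : nd 29279 = n48051 := ndS (p := 14584) (l := 0) rfl N14584 D48051
theorem N29280 : nd 29280 = n48053 := ndS (p := 14584) (l := 4) rfl N14584 D48053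
theorem N29281 : nd 29281 = n48054 := ndS (p := 14584) (l := 6) rfl N14584 D48054
theorem N29282 : nd 29282 = n48057 := ndS (p := 14585) (l := 1) rfl N14585 D48057
theorem N29283 : nd 29283 = n48058 := ndS (p := 14585) (l := 2) rfl N14585 D48058
theorem N29284 : nd 29284 = n48059 := ndS (p := 14585) (l := 5) rfl N14585 D48059
theorem N29285 : nd 29285 = n48060 := ndS (p := 14585) (l := 6) rfl N14585 D48060
theorem N29286 : nd 29286 = n48061 := ndS (p := 14586) (l := 4) rfl N14586 D48061
theorem N29287 : nd 29287 = n48062 := ndS (p := 14586) (l := 6) rfl N14586 D48062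
theorem N29288 : nd 29288 = n48063 := ndS (p := 14588) (l := 3) rfl N14588 D48063
theorem N29289 : nd 29289 = n48064 := ndS (p := 14588) (l := 4) rfl N14588 D48064
theorem N29290 : nd 29290 = n48065 := ndS (p := 14588) (l := 6) rfl N14588 D48065
theorem N29291 : nd 29291 = n48067 := ndS (p := 14589) (l := 4) rfl N14589 D48067
theorem N29292 : nd 29292 = n48069 := ndS (p := 14590) (l := 0) rfl N14590 D48069
theorem N29293 : nd 29293 = n48070 := ndS (p := 14590) (l := 1) rfl N14590 D48070
theorem N29294 : nd 29294 = n48071 := ndS (p := 14590) (l := 3) rfl N14590 D48071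
theorem N29295 : nd 29295 = n48072 := ndS (p := 14590) (l := 5) rfl N14590 D48072
theorem N29296 : nd 29296 = n48073 := ndS (p := 14590) (l := 7) rfl N14590 D48073
theorem N29297 : nd 29297 = n48074 := ndS (p := 14591) (l := 6) rfl N14591 D48074
theorem N29298 : nd 29298 = n48080 := ndS (p := 14592) (l := 3) rfl N14592 D48080
theorem N29299 : nd 29299 = n48081 := ndS (p := 14592) (l := 5) rfl N14592 D48081
theorem N29300 : nd 29300 = n48082 := ndS (p := 14593) (l := 0) rfl N14593 D48082
theorem N29301 : nd 29301 = n48084 := ndS (p := 14593) (l := 2) rfl N14593 D48084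
theorem N29302 : nd 29302 = n48085 := ndS (p := 14593) (l := 5) rfl N14593 D48085
theorem N29303 : nd 29303 = n48087 := ndS (p := 14594) (l := 0) rfl N14594 D48087
theorem N29304 : nd 29304 = n48088 := ndS (p := 14594) (l := 1) rfl N14594 D48088
theorem N29305 : nd 29305 = n48089 := ndS (p := 14594) (l := 4) rfl N14594 D48089
theorem N29306 : nd 29306 = n48090 := ndS (p := 14594) (l := 6) rfl N14594 D48090
theorem N29307 : nd 29307 = n48104 := ndS (p := 14595) (l := 5) rfl N14595 D48104
theorem N29308 : nd 29308 = n48105 := ndS (p := 14595) (l := 6) rfl N14595 D48105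
theorem N29309 : nd 29309 = n48106 := ndS (p := 14596) (l := 4) rfl N14596 D48106
theorem N29310 : nd 29310 = n48107 := ndS (p := 14596) (l := 6) rfl N14596 D48107
theorem N29311 : nd 29311 = n48108 := ndS (p := 14597) (l := 0) rfl N14597 D48108
theorem N29312 : nd 29312 = n48109 := ndS (p := 14597) (l := 5) rfl N14597 D48109
theorem N29313 : nd 29313 = n48113 := ndS (p := 14599) (l := 0) rfl N14599 D48113
theorem N29314 : nd 29314 = n48115 := ndS (p := 14599) (l := 3) rfl N14599 D48115
theorem N29315 : nd 29315 = n48116 := ndS (p := 14599) (l := 5) rfl N14599 D48116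
theorem N29316 : nd 29316 = n48120 := ndS (p := 14600) (l := 6) rfl N14600 D48120
theorem N29317 : nd 29317 = n48121 := ndS (p := 14601) (l := 3) rfl N14601 D48121
theorem N29318 : nd 29318 = n48122 := ndS (p := 14601) (l := 5) rfl N14601 D48122
theorem N29319 : nd 29319 = n48123 := ndS (p := 14601) (l := 6) rfl N14601 D48123
theorem N29320 : nd 29320 = n48124 := ndS (p := 14603) (l := 3) rfl N14603 D48124
theorem N29321 : nd 29321 = n48127 := ndS (p := 14604) (l := 3) rfl N14604 D48127
theorem N29322 : nd 29322 = n48129 := ndS (p := 14604) (l := 6) rfl N14604 D48129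
theorem N29323 : nd 29323 = n48137 := ndS (p := 14605) (l := 4) rfl N14605 D48137
theorem N29324 : nd 29324 = n48138 := ndS (p := 14605) (l := 6) rfl N14605 D48138
theorem N29325 : nd 29325 = n48147 := ndS (p := 14607) (l := 0) rfl N14607 D48147
theorem N29326 : nd 29326 = n48148 := ndS (p := 14607) (l := 1) rfl N14607 D48148
theorem N29327 : nd 29327 = n48149 := ndS (p := 14607) (l := 4) rfl N14607 D48149
theorem N29328 : nd 29328 = n48150 := ndS (p := 14607) (l := 6) rfl N14607 D48150
theorem N29329 : nd 29329 = n48162 := ndS (p := 14608) (l := 1) rfl N14608 D48162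
theorem N29330 : nd 29330 = n48184 := ndS (p := 14609) (l := 6) rfl N14609 D48184
theorem N29331 : nd 29331 = n48185 := ndS (p := 14610) (l := 5) rfl N14610 D48185
theorem N29332 : nd 29332 = n48186 := ndS (p := 14611) (l := 6) rfl N14611 D48186
theorem N29333 : nd 29333 = n48187 := ndS (p := 14612) (l := 0) rfl N14612 D48187
theorem N29334 : nd 29334 = n48188 := ndS (p := 14612) (l := 1) rfl N14612 D48188
theorem N29335 : nd 29335 = n48189 := ndS (p := 14612) (l := 5) rfl N14612 D48189
theorem N29336 : nd 29336 = n48190 := ndS (p := 14612) (l := 7) rfl N14612 D48190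
theorem N29337 : nd 29337 = n48191 := ndS (p := 14613) (l := 3) rfl N14613 D48191
theorem N29338 : nd 29338 = n48192 := ndS (p := 14613) (l := 5) rfl N14613 D48192
theorem N29339 : nd 29339 = n48194 := ndS (p := 14614) (l := 5) rfl N14614 D48194
theorem N29340 : nd 29340 = n48195 := ndS (p := 14615) (l := 0) rfl N14615 D48195
theorem N29341 : nd 29341 = n48196 := ndS (p := 14615) (l := 1) rfl N14615 D48196
theorem N29342 : nd 29342 = n48197 := ndS (p := 14615) (l := 4) rfl N14615 D48197
theorem N29343 : nd 29343 = n48202 := ndS (p := 14616) (l := 6) rfl N14616 D48202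
theorem N29344 : nd 29344 = n48203 := ndS (p := 14617) (l := 5) rfl N14617 D48203
theorem N29345 : nd 29345 = n48206 := ndS (p := 14619) (l := 0) rfl N14619 D48206
theorem N29346 : nd 29346 = n48207 := ndS (p := 14619) (l := 1) rfl N14619 D48207
theorem N29347 : nd 29347 = n48208 := ndS (p := 14619) (l := 5) rfl N14619 D48208
theorem N29348 : nd 29348 = n48209 := ndS (p := 14619) (l := 7) rfl N14619 D48209
theorem N29349 : nd 29349 = n48210 := ndS (p := 14620) (l := 5) rfl N14620 D48210
theorem N29350 : nd 29350 = n48211 := ndS (p := 14621) (l := 0) rfl N14621 D48211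
theorem N29351 : nd 29351 = n48212 := ndS (p := 14621) (l := 1) rfl N14621 D48212
theorem N29352 : nd 29352 = n48213 := ndS (p := 14621) (l := 4) rfl N14621 D48213
theorem N29353 : nd 29353 = n48217 := ndS (p := 14622) (l := 5) rfl N14622 D48217
theorem N29354 : nd 29354 = n48225 := ndS (p := 14623) (l := 3) rfl N14623 D48225
theorem N29355 : nd 29355 = n48232 := ndS (p := 14625) (l := 3) rfl N14625 D48232
theorem N29356 : nd 29356 = n48233 := ndS (p := 14625) (l := 5) rfl N14625 D48233
theorem N29357 : nd 29357 = n48235 := ndS (p := 14626) (l := 2) rfl N14626 D48235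
theorem N29358 : nd 29358 = n48236 := ndS (p := 14626) (l := 5) rfl N14626 D48236
theorem N29359 : nd 29359 = n48237 := ndS (p := 14626) (l := 6) rfl N14626 D48237
theorem N29360 : nd 29360 = n48238 := ndS (p := 14627) (l := 0) rfl N14627 D48238
theorem N29361 : nd 29361 = n48239 := ndS (p := 14627) (l := 1) rfl N14627 D48239
theorem N29362 : nd 29362 = n48240 := ndS (p := 14627) (l := 4) rfl N14627 D48240
theorem N29363 : nd 29363 = n48241 := ndS (p := 14627) (l := 6) rfl N14627 D48241
theorem N29364 : nd 29364 = n48243 := ndS (p := 14628) (l := 5) rfl N14628 D48243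
theorem N29365 : nd 29365 = n48257 := ndS (p := 14629) (l := 5) rfl N14629 D48257
theorem N29366 : nd 29366 = n48259 := ndS (p := 14630) (l := 4) rfl N14630 D48259
theorem N29367 : nd 29367 = n48260 := ndS (p := 14630) (l := 6) rfl N14630 D48260
theorem N29368 : nd 29368 = n48270 := ndS (p := 14632) (l := 3) rfl N14632 D48270
theorem N29369 : nd 29369 = n48271 := ndS (p := 14632) (l := 5) rfl N14632 D48271
theorem N29370 : nd 29370 = n48278 := ndS (p := 14633) (l := 3) rfl N14633 D48278
theorem N29371 : nd 29371 = n48279 := ndS (p := 14633) (l := 5) rfl N14633 D48279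
theorem N29372 : nd 29372 = n48290 := ndS (p := 14634) (l := 4) rfl N14634 D48290
theorem N29373 : nd 29373 = n48291 := ndS (p := 14634) (l := 6) rfl N14634 D48291
theorem N29374 : nd 29374 = n48293 := ndS (p := 14636) (l := 0) rfl N14636 D48293
theorem N29375 : nd 29375 = n48294 := ndS (p := 14636) (l := 1) rfl N14636 D48294
theorem N29376 : nd 29376 = n48295 := ndS (p := 14636) (l := 4) rfl N14636 D48295
theorem N29377 : nd 29377 = n48296 := ndS (p := 14636) (l := 6) rfl N14636 D48296
theorem N29378 : nd 29378 = n48311 := ndS (p := 14637) (l := 0) rfl N14637 D48311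
theorem N29379 : nd 29379 = n48312 := ndS (p := 14637) (l := 4) rfl N14637 D48312
theorem N29380 : nd 29380 = n48313 := ndS (p := 14637) (l := 6) rfl N14637 D48313
theorem N29381 : nd 29381 = n48326 := ndS (p := 14638) (l := 5) rfl N14638 D48326
theorem N29382 : nd 29382 = n48368 := ndS (p := 14639) (l := 0) rfl N14639 D48368
theorem N29383 : nd 29383 = n48369 := ndS (p := 14639) (l := 1) rfl N14639 D48369
theorem N29384 : nd 29384 = n48370 := ndS (p := 14639) (l := 2) rfl N14639 D48370
theorem N29385 : nd 29385 = n48371 := ndS (p := 14639) (l := 5) rfl N14639 D48371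
theorem N29386 : nd 29386 = n48372 := ndS (p := 14640) (l := 4) rfl N14640 D48372
theorem N29387 : nd 29387 = n48373 := ndS (p := 14640) (l := 6) rfl N14640 D48373
theorem N29388 : nd 29388 = n48374 := ndS (p := 14641) (l := 0) rfl N14641 D48374
theorem N29389 : nd 29389 = n48376 := ndS (p := 14641) (l := 5) rfl N14641 D48376
theorem N29390 : nd 29390 = n48377 := ndS (p := 14641) (l := 6) rfl N14641 D48377
theorem N29391 : nd 29391 = n48380 := ndS (p := 14644) (l := 3) rfl N14644 D48380
theorem N29392 : nd 29392 = n48381 := ndS (p := 14645) (l := 0) rfl N14645 D48381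
theorem N29393 : nd 29393 = n48382 := ndS (p := 14645) (l := 1) rfl N14645 D48382
theorem N29394 : nd 29394 = n48383 := ndS (p := 14645) (l := 2) rfl N14645 D48383
theorem N29395 : nd 29395 = n48384 := ndS (p := 14645) (l := 5) rfl N14645 D48384
theorem N29396 : nd 29396 = n48385 := ndS (p := 14647) (l := 4) rfl N14647 D48385
theorem N29397 : nd 29397 = n48386 := ndS (p := 14647) (l := 6) rfl N14647 D48386
theorem N29398 : nd 29398 = n48387 := ndS (p := 14648) (l := 0) rfl N14648 D48387
theorem N29399 : nd 29399 = n48388 := ndS (p := 14648) (l := 1) rfl N14648 D48388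
theorem N29400 : nd 29400 = n48389 := ndS (p := 14648) (l := 4) rfl N14648 D48389
theorem N29401 : nd 29401 = n48390 := ndS (p := 14648) (l := 6) rfl N14648 D48390
theorem N29402 : nd 29402 = n48391 := ndS (p := 14649) (l := 3) rfl N14649 D48391
theorem N29403 : nd 29403 = n48392 := ndS (p := 14649) (l := 4) rfl N14649 D48392
theorem N29404 : nd 29404 = n48393 := ndS (p := 14649) (l := 6) rfl N14649 D48393
theorem N29405 : nd 29405 = n48394 := ndS (p := 14650) (l := 3) rfl N14650 D48394
theorem N29406 : nd 29406 = n48395 := ndS (p := 14650) (l := 4) rfl N14650 D48395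
theorem N29407 : nd 29407 = n48396 := ndS (p := 14650) (l := 6) rfl N14650 D48396
theorem N29408 : nd 29408 = n48397 := ndS (p := 14651) (l := 0) rfl N14651 D48397
theorem N29409 : nd 29409 = n48398 := ndS (p := 14651) (l := 1) rfl N14651 D48398
theorem N29410 : nd 29410 = n48399 := ndS (p := 14651) (l := 3) rfl N14651 D48399
theorem N29411 : nd 29411 = n48400 := ndS (p := 14651) (l := 5) rfl N14651 D48400
theorem N29412 : nd 29412 = n48402 := ndS (p := 14652) (l := 0) rfl N14652 D48402
theorem N29413 : nd 29413 = n48403 := ndS (p := 14652) (l := 1) rfl N14652 D48403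
theorem N29414 : nd 29414 = n48404 := ndS (p := 14652) (l := 5) rfl N14652 D48404
theorem N29415 : nd 29415 = n48405 := ndS (p := 14652) (l := 7) rfl N14652 D48405
theorem N29416 : nd 29416 = n48406 := ndS (p := 14653) (l := 3) rfl N14653 D48406
theorem N29417 : nd 29417 = n48407 := ndS (p := 14654) (l := 3) rfl N14654 D48407
theorem N29418 : nd 29418 = n48410 := ndS (p := 14656) (l := 3) rfl N14656 D48410
theorem N29419 : nd 29419 = n48411 := ndS (p := 14656) (l := 5) rfl N14656 D48411
theorem N29420 : nd 29420 = n48412 := ndS (p := 14657) (l := 3) rfl N14657 D48412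
theorem N29421 : nd 29421 = n48413 := ndS (p := 14657) (l := 4) rfl N14657 D48413
theorem N29422 : nd 29422 = n48416 := ndS (p := 14658) (l := 4) rfl N14658 D48416
theorem N29423 : nd 29423 = n48417 := ndS (p := 14658) (l := 6) rfl N14658 D48417
theorem N29424 : nd 29424 = n48418 := ndS (p := 14659) (l := 0) rfl N14659 D48418
theorem N29425 : nd 29425 = n48419 := ndS (p := 14659) (l := 3) rfl N14659 D48419
theorem N29426 : nd 29426 = n48420 := ndS (p := 14659) (l := 5) rfl N14659 D48420
theorem N29427 : nd 29427 = n48421 := ndS (p := 14660) (l := 3) rfl N14660 D48421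
theorem N29428 : nd 29428 = n48422 := ndS (p := 14660) (l := 5) rfl N14660 D48422
theorem N29429 : nd 29429 = n48436 := ndS (p := 14661) (l := 0) rfl N14661 D48436
theorem N29430 : nd 29430 = n48437 := ndS (p := 14661) (l := 2) rfl N14661 D48437
theorem N29431 : nd 29431 = n48438 := ndS (p := 14661) (l := 5) rfl N14661 D48438
theorem N29432 : nd 29432 = n48439 := ndS (p := 14662) (l := 4) rfl N14662 D48439
theorem N29433 : nd 29433 = n48440 := ndS (p := 14662) (l := 6) rfl N14662 D48440
theorem N29434 : nd 29434 = n48442 := ndS (p := 14663) (l := 1) rfl N14663 D48442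
theorem N29435 : nd 29435 = n48443 := ndS (p := 14663) (l := 5) rfl N14663 D48443
theorem N29436 : nd 29436 = n48444 := ndS (p := 14663) (l := 6) rfl N14663 D48444
theorem N29437 : nd 29437 = n48446 := ndS (p := 14664) (l := 6) rfl N14664 D48446
theorem N29438 : nd 29438 = n48447 := ndS (p := 14666) (l := 0) rfl N14666 D48447
theorem N29439 : nd 29439 = n48448 := ndS (p := 14666) (l := 1) rfl N14666 D48448
theorem N29440 : nd 29440 = n48449 := ndS (p := 14666) (l := 2) rfl N14666 D48449
theorem N29441 : nd 29441 = n48450 := ndS (p := 14666) (l := 5) rfl N14666 D48450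
theorem N29442 : nd 29442 = n48451 := ndS (p := 14667) (l := 4) rfl N14667 D48451
theorem N29443 : nd 29443 = n48452 := ndS (p := 14667) (l := 6) rfl N14667 D48452
theorem N29444 : nd 29444 = n48453 := ndS (p := 14668) (l := 0) rfl N14668 D48453
theorem N29445 : nd 29445 = n48454 := ndS (p := 14668) (l := 4) rfl N14668 D48454
theorem N29446 : nd 29446 = n48455 := ndS (p := 14668) (l := 6) rfl N14668 D48455
theorem N29447 : nd 29447 = n48457 := ndS (p := 14669) (l := 3) rfl N14669 D48457
theorem N29448 : nd 29448 = n48458 := ndS (p := 14669) (l := 4) rfl N14669 D48458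
theorem N29449 : nd 29449 = n48459 := ndS (p := 14669) (l := 6) rfl N14669 D48459
theorem N29450 : nd 29450 = n48460 := ndS (p := 14670) (l := 3) rfl N14670 D48460
theorem N29451 : nd 29451 = n48461 := ndS (p := 14670) (l := 4) rfl N14670 D48461
theorem N29452 : nd 29452 = n48462 := ndS (p := 14670) (l := 6) rfl N14670 D48462
theorem N29453 : nd 29453 = n48465 := ndS (p := 14671) (l := 3) rfl N14671 D48465
theorem N29454 : nd 29454 = n48466 := ndS (p := 14671) (l := 5) rfl N14671 D48466
theorem N29455 : nd 29455 = n48467 := ndS (p := 14671) (l := 6) rfl N14671 D48467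
theorem N29456 : nd 29456 = n48468 := ndS (p := 14672) (l := 0) rfl N14672 D48468
theorem N29457 : nd 29457 = n48469 := ndS (p := 14672) (l := 1) rfl N14672 D48469
theorem N29458 : nd 29458 = n48470 := ndS (p := 14672) (l := 5) rfl N14672 D48470
theorem N29459 : nd 29459 = n48471 := ndS (p := 14672) (l := 7) rfl N14672 D48471
theorem N29460 : nd 29460 = n48472 := ndS (p := 14673) (l := 3) rfl N14673 D48472
theorem N29461 : nd 29461 = n48473 := ndS (p := 14674) (l := 3) rfl N14674 D48473
theorem N29462 : nd 29462 = n48474 := ndS (p := 14675) (l := 4) rfl N14675 D48474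
theorem N29463 : nd 29463 = n48488 := ndS (p := 14676) (l := 5) rfl N14676 D48488
theorem N29464 : nd 29464 = n48512 := ndS (p := 14677) (l := 3) rfl N14677 D48512
theorem N29465 : nd 29465 = n48513 := ndS (p := 14677) (l := 5) rfl N14677 D48513
theorem N29466 : nd 29466 = n48514 := ndS (p := 14677) (l := 6) rfl N14677 D48514
theorem N29467 : nd 29467 = n48516 := ndS (p := 14678) (l := 1) rfl N14678 D48516
theorem N29468 : nd 29468 = n48517 := ndS (p := 14678) (l := 7) rfl N14678 D48517
theorem N29469 : nd 29469 = n48545 := ndS (p := 14679) (l := 3) rfl N14679 D48545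
theorem N29470 : nd 29470 = n48550 := ndS (p := 14680) (l := 4) rfl N14680 D48550
theorem N29471 : nd 29471 = n48551 := ndS (p := 14680) (l := 6) rfl N14680 D48551
theorem N29472 : nd 29472 = n48554 := ndS (p := 14681) (l := 5) rfl N14681 D48554
theorem N29473 : nd 29473 = n48622 := ndS (p := 14683) (l := 3) rfl N14683 D48622
theorem N29474 : nd 29474 = n48623 := ndS (p := 14683) (l := 5) rfl N14683 D48623
theorem N29475 : nd 29475 = n48631 := ndS (p := 14684) (l := 6) rfl N14684 D48631
theorem N29476 : nd 29476 = n48632 := ndS (p := 14685) (l := 6) rfl N14685 D48632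
theorem N29477 : nd 29477 = n48633 := ndS (p := 14686) (l := 3) rfl N14686 D48633
theorem N29478 : nd 29478 = n48634 := ndS (p := 14686) (l := 5) rfl N14686 D48634
theorem N29479 : nd 29479 = n48635 := ndS (p := 14687) (l := 6) rfl N14687 D48635
theorem N29480 : nd 29480 = n48636 := ndS (p := 14688) (l := 4) rfl N14688 D48636
theorem N29481 : nd 29481 = n48637 := ndS (p := 14688) (l := 6) rfl N14688 D48637
theorem N29482 : nd 29482 = n48638 := ndS (p := 14690) (l := 6) rfl N14690 D48638
theorem N29483 : nd 29483 = n48639 := ndS (p := 14691) (l := 3) rfl N14691 D48639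
theorem N29484 : nd 29484 = n48640 := ndS (p := 14691) (l := 6) rfl N14691 D48640
theorem N29485 : nd 29485 = n48641 := ndS (p := 14692) (l := 0) rfl N14692 D48641
theorem N29486 : nd 29486 = n48642 := ndS (p := 14692) (l := 1) rfl N14692 D48642
theorem N29487 : nd 29487 = n48643 := ndS (p := 14692) (l := 7) rfl N14692 D48643
theorem N29488 : nd 29488 = n48644 := ndS (p := 14694) (l := 3) rfl N14694 D48644
theorem N29489 : nd 29489 = n48645 := ndS (p := 14694) (l := 6) rfl N14694 D48645
theorem N29490 : nd 29490 = n48646 := ndS (p := 14695) (l := 0) rfl N14695 D48646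
theorem N29491 : nd 29491 = n48647 := ndS (p := 14695) (l := 1) rfl N14695 D48647
theorem N29492 : nd 29492 = n48648 := ndS (p := 14695) (l := 7) rfl N14695 D48648
theorem N29493 : nd 29493 = n48649 := ndS (p := 14696) (l := 4) rfl N14696 D48649
theorem N29494 : nd 29494 = n48650 := ndS (p := 14696) (l := 6) rfl N14696 D48650
theorem N29495 : nd 29495 = n48651 := ndS (p := 14697) (l := 0) rfl N14697 D48651
theorem N29496 : nd 29496 = n48652 := ndS (p := 14697) (l := 1) rfl N14697 D48652
theorem N29497 : nd 29497 = n48653 := ndS (p := 14697) (l := 7) rfl N14697 D48653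
theorem N29498 : nd 29498 = n48654 := ndS (p := 14698) (l := 0) rfl N14698 D48654
theorem N29499 : nd 29499 = n48655 := ndS (p := 14698) (l := 1) rfl N14698 D48655
theorem N29500 : nd 29500 = n48656 := ndS (p := 14698) (l := 7) rfl N14698 D48656
theorem N29501 : nd 29501 = n48657 := ndS (p := 14699) (l := 3) rfl N14699 D48657
theorem N29502 : nd 29502 = n48658 := ndS (p := 14699) (l := 6) rfl N14699 D48658
theorem N29503 : nd 29503 = n48659 := ndS (p := 14700) (l := 3) rfl N14700 D48659
theorem N29504 : nd 29504 = n48660 := ndS (p := 14700) (l := 5) rfl N14700 D48660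
theorem N29505 : nd 29505 = n48661 := ndS (p := 14700) (l := 6) rfl N14700 D48661
theorem N29506 : nd 29506 = n48662 := ndS (p := 14701) (l := 0) rfl N14701 D48662
theorem N29507 : nd 29507 = n48663 := ndS (p := 14701) (l := 1) rfl N14701 D48663
theorem N29508 : nd 29508 = n48664 := ndS (p := 14701) (l := 2) rfl N14701 D48664
theorem N29509 : nd 29509 = n48665 := ndS (p := 14701) (l := 5) rfl N14701 D48665
theorem N29510 : nd 29510 = n48666 := ndS (p := 14701) (l := 7) rfl N14701 D48666
theorem N29511 : nd 29511 = n48667 := ndS (p := 14702) (l := 6) rfl N14702 D48667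
theorem N29512 : nd 29512 = n48668 := ndS (p := 14703) (l := 6) rfl N14703 D48668
theorem N29513 : nd 29513 = n48669 := ndS (p := 14704) (l := 0) rfl N14704 D48669
theorem N29514 : nd 29514 = n48670 := ndS (p := 14704) (l := 1) rfl N14704 D48670
theorem N29515 : nd 29515 = n48671 := ndS (p := 14705) (l := 5) rfl N14705 D48671
theorem N29516 : nd 29516 = n48672 := ndS (p := 14705) (l := 6) rfl N14705 D48672
theorem N29517 : nd 29517 = n48673 := ndS (p := 14706) (l := 0) rfl N14706 D48673
theorem N29518 : nd 29518 = n48674 := ndS (p := 14706) (l := 6) rfl N14706 D48674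
theorem N29519 : nd 29519 = n48675 := ndS (p := 14707) (l := 7) rfl N14707 D48675
theorem N29520 : nd 29520 = n48676 := ndS (p := 14708) (l := 3) rfl N14708 D48676
theorem N29521 : nd 29521 = n48677 := ndS (p := 14708) (l := 6) rfl N14708 D48677
theorem N29522 : nd 29522 = n48679 := ndS (p := 14709) (l := 1) rfl N14709 D48679
theorem N29523 : nd 29523 = n48680 := ndS (p := 14709) (l := 7) rfl N14709 D48680
theorem N29524 : nd 29524 = n48681 := ndS (p := 14711) (l := 0) rfl N14711 D48681
theorem N29525 : nd 29525 = n48682 := ndS (p := 14711) (l := 1) rfl N14711 D48682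
theorem N29526 : nd 29526 = n48683 := ndS (p := 14711) (l := 2) rfl N14711 D48683
theorem N29527 : nd 29527 = n48684 := ndS (p := 14711) (l := 5) rfl N14711 D48684
theorem N29528 : nd 29528 = n48686 := ndS (p := 14712) (l := 6) rfl N14712 D48686
theorem N29529 : nd 29529 = n48687 := ndS (p := 14713) (l := 5) rfl N14713 D48687
theorem N29530 : nd 29530 = n48688 := ndS (p := 14714) (l := 5) rfl N14714 D48688
theorem N29531 : nd 29531 = n48689 := ndS (p := 14715) (l := 6) rfl N14715 D48689
theorem N29532 : nd 29532 = n48690 := ndS (p := 14717) (l := 5) rfl N14717 D48690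
theorem N29533 : nd 29533 = n48691 := ndS (p := 14718) (l := 6) rfl N14718 D48691
theorem N29534 : nd 29534 = n48692 := ndS (p := 14720) (l := 6) rfl N14720 D48692
theorem N29535 : nd 29535 = n48693 := ndS (p := 14722) (l := 5) rfl N14722 D48693
theorem N29536 : nd 29536 = n48694 := ndS (p := 14723) (l := 5) rfl N14723 D48694
theorem N29537 : nd 29537 = n48695 := ndS (p := 14724) (l := 0) rfl N14724 D48695
theorem N29538 : nd 29538 = n48696 := ndS (p := 14724) (l := 1) rfl N14724 D48696
theorem N29539 : nd 29539 = n48697 := ndS (p := 14724) (l := 4) rfl N14724 D48697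
theorem N29540 : nd 29540 = n48698 := ndS (p := 14724) (l := 6) rfl N14724 D48698
theorem N29541 : nd 29541 = n48699 := ndS (p := 14724) (l := 7) rfl N14724 D48699
theorem N29542 : nd 29542 = n48700 := ndS (p := 14726) (l := 3) rfl N14726 D48700
theorem N29543 : nd 29543 = n48701 := ndS (p := 14726) (l := 6) rfl N14726 D48701
theorem N29544 : nd 29544 = n48702 := ndS (p := 14727) (l := 3) rfl N14727 D48702
theorem N29545 : nd 29545 = n48703 := ndS (p := 14727) (l := 6) rfl N14727 D48703
theorem N29546 : nd 29546 = n48704 := ndS (p := 14728) (l := 3) rfl N14728 D48704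
theorem N29547 : nd 29547 = n48705 := ndS (p := 14728) (l := 6) rfl N14728 D48705
theorem N29548 : nd 29548 = n48706 := ndS (p := 14729) (l := 0) rfl N14729 D48706
theorem N29549 : nd 29549 = n48707 := ndS (p := 14729) (l := 1) rfl N14729 D48707
theorem N29550 : nd 29550 = n48708 := ndS (p := 14729) (l := 7) rfl N14729 D48708
theorem N29551 : nd 29551 = n48709 := ndS (p := 14730) (l := 6) rfl N14730 D48709
theorem N29552 : nd 29552 = n48710 := ndS (p := 14731) (l := 6) rfl N14731 D48710
theorem N29553 : nd 29553 = n48711 := ndS (p := 14732) (l := 6) rfl N14732 D48711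
theorem N29554 : nd 29554 = n48712 := ndS (p := 14733) (l := 0) rfl N14733 D48712
theorem N29555 : nd 29555 = n48713 := ndS (p := 14733) (l := 1) rfl N14733 D48713
theorem N29556 : nd 29556 = n48714 := ndS (p := 14733) (l := 4) rfl N14733 D48714
theorem N29557 : nd 29557 = n48715 := ndS (p := 14734) (l := 0) rfl N14734 D48715
theorem N29558 : nd 29558 = n48716 := ndS (p := 14734) (l := 1) rfl N14734 D48716
theorem N29559 : nd 29559 = n48717 := ndS (p := 14734) (l := 7) rfl N14734 D48717
theorem N29560 : nd 29560 = n48718 := ndS (p := 14735) (l := 4) rfl N14735 D48718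
theorem N29561 : nd 29561 = n48719 := ndS (p := 14735) (l := 6) rfl N14735 D48719
theorem N29562 : nd 29562 = n48720 := ndS (p := 14737) (l := 5) rfl N14737 D48720
theorem N29563 : nd 29563 = n48721 := ndS (p := 14738) (l := 4) rfl N14738 D48721
theorem N29564 : nd 29564 = n48722 := ndS (p := 14738) (l := 6) rfl N14738 D48722
theorem N29565 : nd 29565 = n48723 := ndS (p := 14739) (l := 0) rfl N14739 D48723
theorem N29566 : nd 29566 = n48724 := ndS (p := 14739) (l := 1) rfl N14739 D48724
theorem N29567 : nd 29567 = n48725 := ndS (p := 14739) (l := 7) rfl N14739 D48725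
theorem N29568 : nd 29568 = n48727 := ndS (p := 14740) (l := 4) rfl N14740 D48727
theorem N29569 : nd 29569 = n48728 := ndS (p := 14740) (l := 6) rfl N14740 D48728
theorem N29570 : nd 29570 = n48730 := ndS (p := 14741) (l := 3) rfl N14741 D48730
theorem N29571 : nd 29571 = n48731 := ndS (p := 14742) (l := 0) rfl N14742 D48731
theorem N29572 : nd 29572 = n48732 := ndS (p := 14742) (l := 1) rfl N14742 D48732
theorem N29573 : nd 29573 = n48733 := ndS (p := 14742) (l := 6) rfl N14742 D48733
theorem N29574 : nd 29574 = n48734 := ndS (p := 14743) (l := 0) rfl N14743 D48734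
theorem N29575 : nd 29575 = n48735 := ndS (p := 14743) (l := 1) rfl N14743 D48735
theorem N29576 : nd 29576 = n48736 := ndS (p := 14743) (l := 5) rfl N14743 D48736
theorem N29577 : nd 29577 = n48737 := ndS (p := 14743) (l := 7) rfl N14743 D48737
theorem N29578 : nd 29578 = n48738 := ndS (p := 14744) (l := 4) rfl N14744 D48738
theorem N29579 : nd 29579 = n48739 := ndS (p := 14746) (l := 6) rfl N14746 D48739
theorem N29580 : nd 29580 = n48740 := ndS (p := 14747) (l := 5) rfl N14747 D48740
theorem N29581 : nd 29581 = n48741 := ndS (p := 14748) (l := 2) rfl N14748 D48741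
theorem N29582 : nd 29582 = n48742 := ndS (p := 14748) (l := 5) rfl N14748 D48742
theorem N29583 : nd 29583 = n48743 := ndS (p := 14748) (l := 6) rfl N14748 D48743
theorem N29584 : nd 29584 = n48744 := ndS (p := 14749) (l := 4) rfl N14749 D48744
theorem N29585 : nd 29585 = n48745 := ndS (p := 14749) (l := 6) rfl N14749 D48745
theorem N29586 : nd 29586 = n48746 := ndS (p := 14750) (l := 5) rfl N14750 D48746
theorem N29587 : nd 29587 = n48747 := ndS (p := 14751) (l := 4) rfl N14751 D48747
theorem N29588 : nd 29588 = n48748 := ndS (p := 14751) (l := 6) rfl N14751 D48748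
theorem N29589 : nd 29589 = n48749 := ndS (p := 14752) (l := 6) rfl N14752 D48749
theorem N29590 : nd 29590 = n48750 := ndS (p := 14753) (l := 3) rfl N14753 D48750
theorem N29591 : nd 29591 = n48751 := ndS (p := 14753) (l := 4) rfl N14753 D48751
theorem N29592 : nd 29592 = n48752 := ndS (p := 14753) (l := 6) rfl N14753 D48752
theorem N29593 : nd 29593 = n48753 := ndS (p := 14754) (l := 0) rfl N14754 D48753
theorem N29594 : nd 29594 = n48754 := ndS (p := 14754) (l := 5) rfl N14754 D48754
theorem N29595 : nd 29595 = n48755 := ndS (p := 14754) (l := 6) rfl N14754 D48755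
theorem N29596 : nd 29596 = n48756 := ndS (p := 14755) (l := 0) rfl N14755 D48756
theorem N29597 : nd 29597 = n48757 := ndS (p := 14755) (l := 1) rfl N14755 D48757
theorem N29598 : nd 29598 = n48758 := ndS (p := 14755) (l := 7) rfl N14755 D48758
theorem N29599 : nd 29599 = n48760 := ndS (p := 14756) (l := 3) rfl N14756 D48760
theorem N29600 : nd 29600 = n48762 := ndS (p := 14756) (l := 5) rfl N14756 D48762
theorem N29601 : nd 29601 = n48763 := ndS (p := 14756) (l := 6) rfl N14756 D48763
theorem N29602 : nd 29602 = n48765 := ndS (p := 14757) (l := 3) rfl N14757 D48765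
theorem N29603 : nd 29603 = n48767 := ndS (p := 14757) (l := 5) rfl N14757 D48767
theorem N29604 : nd 29604 = n48768 := ndS (p := 14757) (l := 6) rfl N14757 D48768
theorem N29605 : nd 29605 = n48769 := ndS (p := 14760) (l := 0) rfl N14760 D48769
theorem N29606 : nd 29606 = n48770 := ndS (p := 14760) (l := 1) rfl N14760 D48770
theorem N29607 : nd 29607 = n48771 := ndS (p := 14760) (l := 3) rfl N14760 D48771
theorem N29608 : nd 29608 = n48772 := ndS (p := 14760) (l := 5) rfl N14760 D48772
theorem N29609 : nd 29609 = n48773 := ndS (p := 14761) (l := 3) rfl N14761 D48773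
theorem N29610 : nd 29610 = n48774 := ndS (p := 14761) (l := 5) rfl N14761 D48774
theorem N29611 : nd 29611 = n48775 := ndS (p := 14762) (l := 4) rfl N14762 D48775
theorem N29612 : nd 29612 = n48776 := ndS (p := 14762) (l := 6) rfl N14762 D48776
theorem N29613 : nd 29613 = n48777 := ndS (p := 14763) (l := 4) rfl N14763 D48777
theorem N29614 : nd 29614 = n48778 := ndS (p := 14763) (l := 6) rfl N14763 D48778
theorem N29615 : nd 29615 = n48779 := ndS (p := 14764) (l := 4) rfl N14764 D48779
theorem N29616 : nd 29616 = n48780 := ndS (p := 14764) (l := 6) rfl N14764 D48780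
theorem N29617 : nd 29617 = n48781 := ndS (p := 14765) (l := 4) rfl N14765 D48781
theorem N29618 : nd 29618 = n48782 := ndS (p := 14765) (l := 6) rfl N14765 D48782
theorem N29619 : nd 29619 = n48783 := ndS (p := 14766) (l := 3) rfl N14766 D48783
theorem N29620 : nd 29620 = n48784 := ndS (p := 14766) (l := 5) rfl N14766 D48784
theorem N29621 : nd 29621 = n48785 := ndS (p := 14766) (l := 7) rfl N14766 D48785
theorem N29622 : nd 29622 = n48786 := ndS (p := 14767) (l := 6) rfl N14767 D48786
theorem N29623 : nd 29623 = n48787 := ndS (p := 14768) (l := 4) rfl N14768 D48787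
theorem N29624 : nd 29624 = n48788 := ndS (p := 14768) (l := 6) rfl N14768 D48788
theorem N29625 : nd 29625 = n48789 := ndS (p := 14770) (l := 4) rfl N14770 D48789
theorem N29626 : nd 29626 = n48790 := ndS (p := 14770) (l := 6) rfl N14770 D48790
theorem N29627 : nd 29627 = n48791 := ndS (p := 14771) (l := 1) rfl N14771 D48791
theorem N29628 : nd 29628 = n48792 := ndS (p := 14772) (l := 4) rfl N14772 D48792
theorem N29629 : nd 29629 = n48793 := ndS (p := 14772) (l := 6) rfl N14772 D48793
theorem N29630 : nd 29630 = n48794 := ndS (p := 14773) (l := 0) rfl N14773 D48794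
theorem N29631 : nd 29631 = n48795 := ndS (p := 14773) (l := 1) rfl N14773 D48795
theorem N29632 : nd 29632 = n48796 := ndS (p := 14773) (l := 3) rfl N14773 D48796
theorem N29633 : nd 29633 = n48797 := ndS (p := 14773) (l := 5) rfl N14773 D48797
theorem N29634 : nd 29634 = n48798 := ndS (p := 14773) (l := 6) rfl N14773 D48798
theorem N29635 : nd 29635 = n48799 := ndS (p := 14774) (l := 0) rfl N14774 D48799
theorem N29636 : nd 29636 = n48801 := ndS (p := 14774) (l := 5) rfl N14774 D48801
theorem N29637 : nd 29637 = n48802 := ndS (p := 14774) (l := 7) rfl N14774 D48802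
theorem N29638 : nd 29638 = n48803 := ndS (p := 14775) (l := 4) rfl N14775 D48803
theorem N29639 : nd 29639 = n48804 := ndS (p := 14776) (l := 4) rfl N14776 D48804
theorem N29640 : nd 29640 = n48805 := ndS (p := 14776) (l := 6) rfl N14776 D48805
theorem N29641 : nd 29641 = n48806 := ndS (p := 14778) (l := 3) rfl N14778 D48806
theorem N29642 : nd 29642 = n48807 := ndS (p := 14778) (l := 5) rfl N14778 D48807
theorem N29643 : nd 29643 = n48808 := ndS (p := 14778) (l := 6) rfl N14778 D48808
theorem N29644 : nd 29644 = n48809 := ndS (p := 14779) (l := 1) rfl N14779 D48809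
theorem N29645 : nd 29645 = n48810 := ndS (p := 14779) (l := 7) rfl N14779 D48810
theorem N29646 : nd 29646 = n48811 := ndS (p := 14780) (l := 6) rfl N14780 D48811
theorem N29647 : nd 29647 = n48812 := ndS (p := 14781) (l := 0) rfl N14781 D48812
theorem N29648 : nd 29648 = n48813 := ndS (p := 14781) (l := 3) rfl N14781 D48813
theorem N29649 : nd 29649 = n48814 := ndS (p := 14781) (l := 5) rfl N14781 D48814
theorem N29650 : nd 29650 = n48815 := ndS (p := 14781) (l := 6) rfl N14781 D48815
theorem N29651 : nd 29651 = n48816 := ndS (p := 14782) (l := 0) rfl N14782 D48816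
theorem N29652 : nd 29652 = n48817 := ndS (p := 14782) (l := 1) rfl N14782 D48817
theorem N29653 : nd 29653 = n48818 := ndS (p := 14782) (l := 7) rfl N14782 D48818
theorem N29654 : nd 29654 = n48819 := ndS (p := 14783) (l := 6) rfl N14783 D48819
theorem N29655 : nd 29655 = n48820 := ndS (p := 14784) (l := 3) rfl N14784 D48820
theorem N29656 : nd 29656 = n48821 := ndS (p := 14784) (l := 5) rfl N14784 D48821
theorem N29657 : nd 29657 = n48822 := ndS (p := 14784) (l := 6) rfl N14784 D48822
theorem N29658 : nd 29658 = n48823 := ndS (p := 14785) (l := 0) rfl N14785 D48823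
theorem N29659 : nd 29659 = n48824 := ndS (p := 14785) (l := 1) rfl N14785 D48824
theorem N29660 : nd 29660 = n48825 := ndS (p := 14785) (l := 5) rfl N14785 D48825
theorem N29661 : nd 29661 = n48826 := ndS (p := 14785) (l := 7) rfl N14785 D48826
theorem N29662 : nd 29662 = n48827 := ndS (p := 14786) (l := 3) rfl N14786 D48827
theorem N29663 : nd 29663 = n48828 := ndS (p := 14786) (l := 5) rfl N14786 D48828
theorem N29664 : nd 29664 = n48829 := ndS (p := 14786) (l := 6) rfl N14786 D48829
theorem N29665 : nd 29665 = n48830 := ndS (p := 14787) (l := 3) rfl N14787 D48830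
theorem N29666 : nd 29666 = n48831 := ndS (p := 14787) (l := 5) rfl N14787 D48831
theorem N29667 : nd 29667 = n48832 := ndS (p := 14787) (l := 6) rfl N14787 D48832
theorem N29668 : nd 29668 = n48833 := ndS (p := 14788) (l := 0) rfl N14788 D48833
theorem N29669 : nd 29669 = n48834 := ndS (p := 14788) (l := 1) rfl N14788 D48834
theorem N29670 : nd 29670 = n48835 := ndS (p := 14788) (l := 2) rfl N14788 D48835
theorem N29671 : nd 29671 = n48836 := ndS (p := 14788) (l := 5) rfl N14788 D48836
theorem N29672 : nd 29672 = n48837 := ndS (p := 14789) (l := 0) rfl N14789 D48837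
theorem N29673 : nd 29673 = n48838 := ndS (p := 14789) (l := 1) rfl N14789 D48838
theorem N29674 : nd 29674 = n48839 := ndS (p := 14789) (l := 4) rfl N14789 D48839
theorem N29675 : nd 29675 = n48840 := ndS (p := 14789) (l := 6) rfl N14789 D48840
theorem N29676 : nd 29676 = n48841 := ndS (p := 14789) (l := 7) rfl N14789 D48841
theorem N29677 : nd 29677 = n48842 := ndS (p := 14790) (l := 6) rfl N14790 D48842
theorem N29678 : nd 29678 = n48843 := ndS (p := 14791) (l := 0) rfl N14791 D48843
theorem N29679 : nd 29679 = n48844 := ndS (p := 14791) (l := 1) rfl N14791 D48844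
theorem N29680 : nd 29680 = n48845 := ndS (p := 14792) (l := 5) rfl N14792 D48845
theorem N29681 : nd 29681 = n48846 := ndS (p := 14792) (l := 6) rfl N14792 D48846
theorem N29682 : nd 29682 = n48847 := ndS (p := 14793) (l := 0) rfl N14793 D48847
theorem N29683 : nd 29683 = n48848 := ndS (p := 14793) (l := 1) rfl N14793 D48848
theorem N29684 : nd 29684 = n48849 := ndS (p := 14793) (l := 7) rfl N14793 D48849
theorem N29685 : nd 29685 = n48851 := ndS (p := 14794) (l := 3) rfl N14794 D48851
theorem N29686 : nd 29686 = n48852 := ndS (p := 14794) (l := 5) rfl N14794 D48852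
theorem N29687 : nd 29687 = n48855 := ndS (p := 14795) (l := 6) rfl N14795 D48855
theorem N29688 : nd 29688 = n48858 := ndS (p := 14797) (l := 6) rfl N14797 D48858
theorem N29689 : nd 29689 = n48860 := ndS (p := 14798) (l := 3) rfl N14798 D48860
theorem N29690 : nd 29690 = n48862 := ndS (p := 14800) (l := 3) rfl N14800 D48862
theorem N29691 : nd 29691 = n48863 := ndS (p := 14800) (l := 4) rfl N14800 D48863
theorem N29692 : nd 29692 = n48864 := ndS (p := 14800) (l := 5) rfl N14800 D48864
theorem N29693 : nd 29693 = n48865 := ndS (p := 14800) (l := 6) rfl N14800 D48865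
theorem N29694 : nd 29694 = n48867 := ndS (p := 14801) (l := 3) rfl N14801 D48867
theorem N29695 : nd 29695 = n48868 := ndS (p := 14801) (l := 4) rfl N14801 D48868
theorem N29696 : nd 29696 = n48869 := ndS (p := 14801) (l := 5) rfl N14801 D48869
theorem N29697 : nd 29697 = n48870 := ndS (p := 14801) (l := 6) rfl N14801 D48870
theorem N29698 : nd 29698 = n48871 := ndS (p := 14802) (l := 5) rfl N14802 D48871
theorem N29699 : nd 29699 = n48873 := ndS (p := 14803) (l := 1) rfl N14803 D48873
theorem N29700 : nd 29700 = n48874 := ndS (p := 14803) (l := 4) rfl N14803 D48874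
theorem N29701 : nd 29701 = n48875 := ndS (p := 14803) (l := 6) rfl N14803 D48875
theorem N29702 : nd 29702 = n48878 := ndS (p := 14804) (l := 7) rfl N14804 D48878
theorem N29703 : nd 29703 = n48879 := ndS (p := 14805) (l := 3) rfl N14805 D48879
theorem N29704 : nd 29704 = n48883 := ndS (p := 14807) (l := 1) rfl N14807 D48883
theorem N29705 : nd 29705 = n48884 := ndS (p := 14810) (l := 4) rfl N14810 D48884
theorem N29706 : nd 29706 = n48885 := ndS (p := 14812) (l := 5) rfl N14812 D48885
theorem N29707 : nd 29707 = n48886 := ndS (p := 14813) (l := 3) rfl N14813 D48886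
theorem N29708 : nd 29708 = n48887 := ndS (p := 14813) (l := 4) rfl N14813 D48887
theorem N29709 : nd 29709 = n48888 := ndS (p := 14813) (l := 6) rfl N14813 D48888
theorem N29710 : nd 29710 = n48889 := ndS (p := 14815) (l := 0) rfl N14815 D48889
theorem N29711 : nd 29711 = n48890 := ndS (p := 14815) (l := 1) rfl N14815 D48890
theorem N29712 : nd 29712 = n48891 := ndS (p := 14815) (l := 3) rfl N14815 D48891
theorem N29713 : nd 29713 = n48892 := ndS (p := 14815) (l := 5) rfl N14815 D48892
theorem N29714 : nd 29714 = n48893 := ndS (p := 14815) (l := 7) rfl N14815 D48893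
theorem N29715 : nd 29715 = n48894 := ndS (p := 14816) (l := 4) rfl N14816 D48894
theorem N29716 : nd 29716 = n48895 := ndS (p := 14816) (l := 6) rfl N14816 D48895
theorem N29717 : nd 29717 = n48896 := ndS (p := 14817) (l := 5) rfl N14817 D48896
theorem N29718 : nd 29718 = n48897 := ndS (p := 14819) (l := 2) rfl N14819 D48897
theorem N29719 : nd 29719 = n48898 := ndS (p := 14819) (l := 4) rfl N14819 D48898
theorem N29720 : nd 29720 = n48899 := ndS (p := 14819) (l := 5) rfl N14819 D48899
theorem N29721 : nd 29721 = n48900 := ndS (p := 14819) (l := 6) rfl N14819 D48900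
theorem N29722 : nd 29722 = n48901 := ndS (p := 14820) (l := 3) rfl N14820 D48901
theorem N29723 : nd 29723 = n48902 := ndS (p := 14820) (l := 5) rfl N14820 D48902
theorem N29724 : nd 29724 = n48903 := ndS (p := 14820) (l := 6) rfl N14820 D48903
theorem N29725 : nd 29725 = n48904 := ndS (p := 14821) (l := 4) rfl N14821 D48904
theorem N29726 : nd 29726 = n48905 := ndS (p := 14821) (l := 6) rfl N14821 D48905
theorem N29727 : nd 29727 = n48906 := ndS (p := 14823) (l := 0) rfl N14823 D48906
theorem N29728 : nd 29728 = n48907 := ndS (p := 14823) (l := 1) rfl N14823 D48907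
theorem N29729 : nd 29729 = n48908 := ndS (p := 14823) (l := 4) rfl N14823 D48908
theorem N29730 : nd 29730 = n48909 := ndS (p := 14823) (l := 6) rfl N14823 D48909
theorem N29731 : nd 29731 = n48910 := ndS (p := 14824) (l := 3) rfl N14824 D48910
theorem N29732 : nd 29732 = n48911 := ndS (p := 14824) (l := 4) rfl N14824 D48911
theorem N29733 : nd 29733 = n48912 := ndS (p := 14824) (l := 6) rfl N14824 D48912
theorem N29734 : nd 29734 = n48913 := ndS (p := 14825) (l := 3) rfl N14825 D48913
theorem N29735 : nd 29735 = n48914 := ndS (p := 14825) (l := 4) rfl N14825 D48914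
theorem N29736 : nd 29736 = n48917 := ndS (p := 14826) (l := 1) rfl N14826 D48917
theorem N29737 : nd 29737 = n48919 := ndS (p := 14826) (l := 5) rfl N14826 D48919
theorem N29738 : nd 29738 = n48920 := ndS (p := 14826) (l := 6) rfl N14826 D48920
theorem N29739 : nd 29739 = n48921 := ndS (p := 14826) (l := 7) rfl N14826 D48921
theorem N29740 : nd 29740 = n48922 := ndS (p := 14827) (l := 0) rfl N14827 D48922
theorem N29741 : nd 29741 = n48923 := ndS (p := 14827) (l := 1) rfl N14827 D48923
theorem N29742 : nd 29742 = n48924 := ndS (p := 14827) (l := 7) rfl N14827 D48924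
theorem N29743 : nd 29743 = n48925 := ndS (p := 14828) (l := 6) rfl N14828 D48925
theorem N29744 : nd 29744 = n48929 := ndS (p := 14829) (l := 6) rfl N14829 D48929
theorem N29745 : nd 29745 = n48931 := ndS (p := 14831) (l := 3) rfl N14831 D48931
theorem N29746 : nd 29746 = n48932 := ndS (p := 14831) (l := 6) rfl N14831 D48932
theorem N29747 : nd 29747 = n48933 := ndS (p := 14832) (l := 3) rfl N14832 D48933
theorem N29748 : nd 29748 = n48935 := ndS (p := 14833) (l := 6) rfl N14833 D48935
theorem N29749 : nd 29749 = n48936 := ndS (p := 14834) (l := 0) rfl N14834 D48936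
theorem N29750 : nd 29750 = n48937 := ndS (p := 14834) (l := 1) rfl N14834 D48937
theorem N29751 : nd 29751 = n48940 := ndS (p := 14837) (l := 5) rfl N14837 D48940
theorem N29752 : nd 29752 = n48941 := ndS (p := 14837) (l := 6) rfl N14837 D48941
theorem N29753 : nd 29753 = n48942 := ndS (p := 14838) (l := 5) rfl N14838 D48942
theorem N29754 : nd 29754 = n48943 := ndS (p := 14839) (l := 6) rfl N14839 D48943
theorem N29755 : nd 29755 = n48944 := ndS (p := 14840) (l := 4) rfl N14840 D48944
theorem N29756 : nd 29756 = n48945 := ndS (p := 14840) (l := 6) rfl N14840 D48945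
theorem N29757 : nd 29757 = n48946 := ndS (p := 14841) (l := 0) rfl N14841 D48946
theorem N29758 : nd 29758 = n48947 := ndS (p := 14841) (l := 1) rfl N14841 D48947
theorem N29759 : nd 29759 = n48948 := ndS (p := 14841) (l := 5) rfl N14841 D48948
theorem N29760 : nd 29760 = n48949 := ndS (p := 14842) (l := 1) rfl N14842 D48949
theorem N29761 : nd 29761 = n48950 := ndS (p := 14842) (l := 3) rfl N14842 D48950
theorem N29762 : nd 29762 = n48951 := ndS (p := 14842) (l := 5) rfl N14842 D48951
theorem N29763 : nd 29763 = n48952 := ndS (p := 14842) (l := 6) rfl N14842 D48952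
theorem N29764 : nd 29764 = n48958 := ndS (p := 14845) (l := 6) rfl N14845 D48958
theorem N29765 : nd 29765 = n48959 := ndS (p := 14846) (l := 3) rfl N14846 D48959
theorem N29766 : nd 29766 = n48960 := ndS (p := 14846) (l := 6) rfl N14846 D48960
theorem N29767 : nd 29767 = n48961 := ndS (p := 14847) (l := 6) rfl N14847 D48961
theorem N29768 : nd 29768 = n48962 := ndS (p := 14848) (l := 5) rfl N14848 D48962
theorem N29769 : nd 29769 = n48963 := ndS (p := 14848) (l := 7) rfl N14848 D48963
theorem N29770 : nd 29770 = n48964 := ndS (p := 14849) (l := 6) rfl N14849 D48964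
theorem N29771 : nd 29771 = n48966 := ndS (p := 14851) (l := 1) rfl N14851 D48966
theorem N29772 : nd 29772 = n48967 := ndS (p := 14851) (l := 5) rfl N14851 D48967
theorem N29773 : nd 29773 = n48968 := ndS (p := 14851) (l := 7) rfl N14851 D48968
theorem N29774 : nd 29774 = n48969 := ndS (p := 14852) (l := 3) rfl N14852 D48969
theorem N29775 : nd 29775 = n48970 := ndS (p := 14852) (l := 5) rfl N14852 D48970
theorem N29776 : nd 29776 = n48971 := ndS (p := 14852) (l := 6) rfl N14852 D48971
theorem N29777 : nd 29777 = n48974 := ndS (p := 14853) (l := 5) rfl N14853 D48974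
theorem N29778 : nd 29778 = n48976 := ndS (p := 14854) (l := 5) rfl N14854 D48976
theorem N29779 : nd 29779 = n48978 := ndS (p := 14855) (l := 4) rfl N14855 D48978
theorem N29780 : nd 29780 = n48980 := ndS (p := 14857) (l := 3) rfl N14857 D48980
theorem N29781 : nd 29781 = n48981 := ndS (p := 14857) (l := 6) rfl N14857 D48981
theorem N29782 : nd 29782 = n48982 := ndS (p := 14858) (l := 0) rfl N14858 D48982
theorem N29783 : nd 29783 = n48983 := ndS (p := 14858) (l := 1) rfl N14858 D48983
theorem N29784 : nd 29784 = n48984 := ndS (p := 14858) (l := 7) rfl N14858 D48984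
theorem N29785 : nd 29785 = n48985 := ndS (p := 14859) (l := 6) rfl N14859 D48985
theorem N29786 : nd 29786 = n48986 := ndS (p := 14860) (l := 0) rfl N14860 D48986
theorem N29787 : nd 29787 = n48987 := ndS (p := 14860) (l := 1) rfl N14860 D48987
theorem N29788 : nd 29788 = n48988 := ndS (p := 14860) (l := 6) rfl N14860 D48988
theorem N29789 : nd 29789 = n48991 := ndS (p := 14861) (l := 5) rfl N14861 D48991
theorem N29790 : nd 29790 = n48993 := ndS (p := 14862) (l := 2) rfl N14862 D48993
theorem N29791 : nd 29791 = n48994 := ndS (p := 14862) (l := 4) rfl N14862 D48994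
theorem N29792 : nd 29792 = n48995 := ndS (p := 14862) (l := 6) rfl N14862 D48995
theorem N29793 : nd 29793 = n48996 := ndS (p := 14863) (l := 3) rfl N14863 D48996
theorem N29794 : nd 29794 = n48997 := ndS (p := 14863) (l := 5) rfl N14863 D48997
theorem N29795 : nd 29795 = n48998 := ndS (p := 14863) (l := 6) rfl N14863 D48998
theorem N29796 : nd 29796 = n49001 := ndS (p := 14864) (l := 5) rfl N14864 D49001
theorem N29797 : nd 29797 = n49003 := ndS (p := 14865) (l := 3) rfl N14865 D49003
theorem N29798 : nd 29798 = n49004 := ndS (p := 14865) (l := 6) rfl N14865 D49004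
theorem N29799 : nd 29799 = n49005 := ndS (p := 14866) (l := 4) rfl N14866 D49005
theorem N29800 : nd 29800 = n49007 := ndS (p := 14867) (l := 0) rfl N14867 D49007
theorem N29801 : nd 29801 = n49008 := ndS (p := 14867) (l := 1) rfl N14867 D49008
theorem N29802 : nd 29802 = n49009 := ndS (p := 14867) (l := 5) rfl N14867 D49009
theorem N29803 : nd 29803 = n49010 := ndS (p := 14867) (l := 7) rfl N14867 D49010
theorem N29804 : nd 29804 = n49012 := ndS (p := 14868) (l := 3) rfl N14868 D49012
theorem N29805 : nd 29805 = n49013 := ndS (p := 14868) (l := 4) rfl N14868 D49013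
theorem N29806 : nd 29806 = n49014 := ndS (p := 14868) (l := 5) rfl N14868 D49014
theorem N29807 : nd 29807 = n49015 := ndS (p := 14868) (l := 6) rfl N14868 D49015
theorem N29808 : nd 29808 = n49017 := ndS (p := 14869) (l := 3) rfl N14869 D49017
theorem N29809 : nd 29809 = n49018 := ndS (p := 14869) (l := 4) rfl N14869 D49018
theorem N29810 : nd 29810 = n49019 := ndS (p := 14869) (l := 5) rfl N14869 D49019
theorem N29811 : nd 29811 = n49021 := ndS (p := 14871) (l := 0) rfl N14871 D49021
theorem N29812 : nd 29812 = n49023 := ndS (p := 14871) (l := 2) rfl N14871 D49023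
theorem N29813 : nd 29813 = n49024 := ndS (p := 14871) (l := 4) rfl N14871 D49024
theorem N29814 : nd 29814 = n49025 := ndS (p := 14871) (l := 5) rfl N14871 D49025
theorem N29815 : nd 29815 = n49026 := ndS (p := 14871) (l := 6) rfl N14871 D49026
theorem N29816 : nd 29816 = n49027 := ndS (p := 14872) (l := 1) rfl N14872 D49027
theorem N29817 : nd 29817 = n49032 := ndS (p := 14874) (l := 2) rfl N14874 D49032
theorem N29818 : nd 29818 = n49034 := ndS (p := 14874) (l := 5) rfl N14874 D49034
theorem N29819 : nd 29819 = n49036 := ndS (p := 14875) (l := 4) rfl N14875 D49036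
theorem N29820 : nd 29820 = n49037 := ndS (p := 14876) (l := 3) rfl N14876 D49037
theorem N29821 : nd 29821 = n49038 := ndS (p := 14877) (l := 0) rfl N14877 D49038
theorem N29822 : nd 29822 = n49039 := ndS (p := 14877) (l := 1) rfl N14877 D49039
theorem N29823 : nd 29823 = n49040 := ndS (p := 14877) (l := 2) rfl N14877 D49040
theorem N29824 : nd 29824 = n49042 := ndS (p := 14878) (l := 5) rfl N14878 D49042
theorem N29825 : nd 29825 = n49043 := ndS (p := 14879) (l := 5) rfl N14879 D49043
theorem N29826 : nd 29826 = n49044 := ndS (p := 14880) (l := 5) rfl N14880 D49044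
theorem N29827 : nd 29827 = n49045 := ndS (p := 14881) (l := 4) rfl N14881 D49045
theorem N29828 : nd 29828 = n49046 := ndS (p := 14881) (l := 6) rfl N14881 D49046
theorem N29829 : nd 29829 = n49047 := ndS (p := 14881) (l := 7) rfl N14881 D49047
theorem N29830 : nd 29830 = n49048 := ndS (p := 14883) (l := 3) rfl N14883 D49048
theorem N29831 : nd 29831 = n49049 := ndS (p := 14883) (l := 6) rfl N14883 D49049
theorem N29832 : nd 29832 = n49050 := ndS (p := 14884) (l := 0) rfl N14884 D49050
theorem N29833 : nd 29833 = n49051 := ndS (p := 14884) (l := 1) rfl N14884 D49051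
theorem N29834 : nd 29834 = n49052 := ndS (p := 14884) (l := 7) rfl N14884 D49052
theorem N29835 : nd 29835 = n49053 := ndS (p := 14885) (l := 6) rfl N14885 D49053
theorem N29836 : nd 29836 = n49054 := ndS (p := 14886) (l := 6) rfl N14886 D49054
theorem N29837 : nd 29837 = n49055 := ndS (p := 14887) (l := 5) rfl N14887 D49055
theorem N29838 : nd 29838 = n49056 := ndS (p := 14888) (l := 6) rfl N14888 D49056
theorem N29839 : nd 29839 = n49057 := ndS (p := 14889) (l := 6) rfl N14889 D49057
theorem N29840 : nd 29840 = n49058 := ndS (p := 14890) (l := 0) rfl N14890 D49058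
theorem N29841 : nd 29841 = n49059 := ndS (p := 14890) (l := 1) rfl N14890 D49059
theorem N29842 : nd 29842 = n49060 := ndS (p := 14890) (l := 7) rfl N14890 D49060
theorem N29843 : nd 29843 = n49062 := ndS (p := 14891) (l := 3) rfl N14891 D49062
theorem N29844 : nd 29844 = n49064 := ndS (p := 14891) (l := 5) rfl N14891 D49064
theorem N29845 : nd 29845 = n49065 := ndS (p := 14891) (l := 6) rfl N14891 D49065
theorem N29846 : nd 29846 = n49067 := ndS (p := 14892) (l := 3) rfl N14892 D49067
theorem N29847 : nd 29847 = n49069 := ndS (p := 14892) (l := 5) rfl N14892 D49069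
theorem N29848 : nd 29848 = n49070 := ndS (p := 14892) (l := 6) rfl N14892 D49070
theorem N29849 : nd 29849 = n49071 := ndS (p := 14894) (l := 2) rfl N14894 D49071
theorem N29850 : nd 29850 = n49072 := ndS (p := 14894) (l := 6) rfl N14894 D49072
theorem N29851 : nd 29851 = n49074 := ndS (p := 14895) (l := 1) rfl N14895 D49074
theorem N29852 : nd 29852 = n49075 := ndS (p := 14895) (l := 7) rfl N14895 D49075
theorem N29853 : nd 29853 = n49076 := ndS (p := 14896) (l := 6) rfl N14896 D49076
theorem N29854 : nd 29854 = n49077 := ndS (p := 14897) (l := 0) rfl N14897 D49077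
theorem N29855 : nd 29855 = n49079 := ndS (p := 14897) (l := 7) rfl N14897 D49079
theorem N29856 : nd 29856 = n49080 := ndS (p := 14898) (l := 0) rfl N14898 D49080
theorem N29857 : nd 29857 = n49081 := ndS (p := 14898) (l := 1) rfl N14898 D49081
theorem N29858 : nd 29858 = n49082 := ndS (p := 14898) (l := 2) rfl N14898 D49082
theorem N29859 : nd 29859 = n49083 := ndS (p := 14898) (l := 5) rfl N14898 D49083
theorem N29860 : nd 29860 = n49084 := ndS (p := 14898) (l := 7) rfl N14898 D49084
theorem N29861 : nd 29861 = n49085 := ndS (p := 14899) (l := 6) rfl N14899 D49085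
theorem N29862 : nd 29862 = n49086 := ndS (p := 14900) (l := 6) rfl N14900 D49086
theorem N29863 : nd 29863 = n49087 := ndS (p := 14902) (l := 0) rfl N14902 D49087
theorem N29864 : nd 29864 = n49088 := ndS (p := 14902) (l := 1) rfl N14902 D49088
theorem N29865 : nd 29865 = n49089 := ndS (p := 14902) (l := 2) rfl N14902 D49089
theorem N29866 : nd 29866 = n49090 := ndS (p := 14905) (l := 0) rfl N14905 D49090
theorem N29867 : nd 29867 = n49091 := ndS (p := 14905) (l := 2) rfl N14905 D49091
theorem N29868 : nd 29868 = n49092 := ndS (p := 14905) (l := 4) rfl N14905 D49092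
theorem N29869 : nd 29869 = n49093 := ndS (p := 14905) (l := 5) rfl N14905 D49093
theorem N29870 : nd 29870 = n49094 := ndS (p := 14906) (l := 3) rfl N14906 D49094
theorem N29871 : nd 29871 = n49095 := ndS (p := 14906) (l := 4) rfl N14906 D49095
theorem N29872 : nd 29872 = n49096 := ndS (p := 14906) (l := 5) rfl N14906 D49096
theorem N29873 : nd 29873 = n49097 := ndS (p := 14906) (l := 6) rfl N14906 D49097
theorem N29874 : nd 29874 = n49098 := ndS (p := 14907) (l := 5) rfl N14907 D49098
theorem N29875 : nd 29875 = n49099 := ndS (p := 14908) (l := 0) rfl N14908 D49099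
theorem N29876 : nd 29876 = n49100 := ndS (p := 14908) (l := 1) rfl N14908 D49100
theorem N29877 : nd 29877 = n49101 := ndS (p := 14908) (l := 4) rfl N14908 D49101
theorem N29878 : nd 29878 = n49102 := ndS (p := 14908) (l := 6) rfl N14908 D49102
theorem N29879 : nd 29879 = n49103 := ndS (p := 14908) (l := 7) rfl N14908 D49103
theorem N29880 : nd 29880 = n49104 := ndS (p := 14909) (l := 6) rfl N14909 D49104
theorem N29881 : nd 29881 = n49105 := ndS (p := 14910) (l := 3) rfl N14910 D49105
theorem N29882 : nd 29882 = n49106 := ndS (p := 14910) (l := 6) rfl N14910 D49106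
theorem N29883 : nd 29883 = n49107 := ndS (p := 14911) (l := 0) rfl N14911 D49107
theorem N29884 : nd 29884 = n49108 := ndS (p := 14911) (l := 1) rfl N14911 D49108
theorem N29885 : nd 29885 = n49109 := ndS (p := 14911) (l := 7) rfl N14911 D49109
theorem N29886 : nd 29886 = n49110 := ndS (p := 14912) (l := 6) rfl N14912 D49110
theorem N29887 : nd 29887 = n49111 := ndS (p := 14913) (l := 5) rfl N14913 D49111
theorem N29888 : nd 29888 = n49113 := ndS (p := 14914) (l := 6) rfl N14914 D49113
theorem N29889 : nd 29889 = n49115 := ndS (p := 14915) (l := 3) rfl N14915 D49115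
theorem N29890 : nd 29890 = n49116 := ndS (p := 14915) (l := 6) rfl N14915 D49116
theorem N29891 : nd 29891 = n49117 := ndS (p := 14917) (l := 5) rfl N14917 D49117
theorem N29892 : nd 29892 = n49118 := ndS (p := 14918) (l := 1) rfl N14918 D49118
theorem N29893 : nd 29893 = n49119 := ndS (p := 14919) (l := 5) rfl N14919 D49119
theorem N29894 : nd 29894 = n49120 := ndS (p := 14920) (l := 6) rfl N14920 D49120
theorem N29895 : nd 29895 = n49121 := ndS (p := 14921) (l := 0) rfl N14921 D49121
theorem N29896 : nd 29896 = n49122 := ndS (p := 14921) (l := 5) rfl N14921 D49122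
theorem N29897 : nd 29897 = n49123 := ndS (p := 14921) (l := 6) rfl N14921 D49123
theorem N29898 : nd 29898 = n49124 := ndS (p := 14922) (l := 6) rfl N14922 D49124
theorem N29899 : nd 29899 = n49125 := ndS (p := 14923) (l := 0) rfl N14923 D49125
theorem N29900 : nd 29900 = n49126 := ndS (p := 14923) (l := 5) rfl N14923 D49126
theorem N29901 : nd 29901 = n49127 := ndS (p := 14923) (l := 7) rfl N14923 D49127
theorem N29902 : nd 29902 = n49128 := ndS (p := 14925) (l := 6) rfl N14925 D49128
theorem N29903 : nd 29903 = n49129 := ndS (p := 14926) (l := 6) rfl N14926 D49129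
theorem N29904 : nd 29904 = n49130 := ndS (p := 14927) (l := 5) rfl N14927 D49130
theorem N29905 : nd 29905 = n49131 := ndS (p := 14927) (l := 7) rfl N14927 D49131
theorem N29906 : nd 29906 = n49132 := ndS (p := 14928) (l := 0) rfl N14928 D49132
theorem N29907 : nd 29907 = n49133 := ndS (p := 14928) (l := 6) rfl N14928 D49133
theorem N29908 : nd 29908 = n49134 := ndS (p := 14929) (l := 6) rfl N14929 D49134
theorem N29909 : nd 29909 = n49135 := ndS (p := 14930) (l := 3) rfl N14930 D49135
theorem N29910 : nd 29910 = n49136 := ndS (p := 14930) (l := 6) rfl N14930 D49136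
theorem N29911 : nd 29911 = n49137 := ndS (p := 14931) (l := 0) rfl N14931 D49137
theorem N29912 : nd 29912 = n49138 := ndS (p := 14931) (l := 1) rfl N14931 D49138
theorem N29913 : nd 29913 = n49139 := ndS (p := 14931) (l := 7) rfl N14931 D49139
theorem N29914 : nd 29914 = n49140 := ndS (p := 14932) (l := 6) rfl N14932 D49140
theorem N29915 : nd 29915 = n49141 := ndS (p := 14933) (l := 5) rfl N14933 D49141
theorem N29916 : nd 29916 = n49144 := ndS (p := 14934) (l := 5) rfl N14934 D49144
theorem N29917 : nd 29917 = n49145 := ndS (p := 14934) (l := 7) rfl N14934 D49145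
theorem N29918 : nd 29918 = n49147 := ndS (p := 14935) (l := 3) rfl N14935 D49147
theorem N29919 : nd 29919 = n49149 := ndS (p := 14935) (l := 5) rfl N14935 D49149
theorem N29920 : nd 29920 = n49150 := ndS (p := 14935) (l := 6) rfl N14935 D49150
theorem N29921 : nd 29921 = n49152 := ndS (p := 14936) (l := 3) rfl N14936 D49152
theorem N29922 : nd 29922 = n49154 := ndS (p := 14936) (l := 5) rfl N14936 D49154
theorem N29923 : nd 29923 = n49155 := ndS (p := 14936) (l := 6) rfl N14936 D49155
theorem N29924 : nd 29924 = n49156 := ndS (p := 14938) (l := 0) rfl N14938 D49156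
theorem N29925 : nd 29925 = n49157 := ndS (p := 14938) (l := 1) rfl N14938 D49157
theorem N29926 : nd 29926 = n49158 := ndS (p := 14938) (l := 4) rfl N14938 D49158
theorem N29927 : nd 29927 = n49159 := ndS (p := 14939) (l := 6) rfl N14939 D49159
theorem N29928 : nd 29928 = n49160 := ndS (p := 14940) (l := 3) rfl N14940 D49160
theorem N29929 : nd 29929 = n49161 := ndS (p := 14940) (l := 5) rfl N14940 D49161
theorem N29930 : nd 29930 = n49162 := ndS (p := 14941) (l := 4) rfl N14941 D49162
theorem N29931 : nd 29931 = n49163 := ndS (p := 14941) (l := 6) rfl N14941 D49163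
theorem N29932 : nd 29932 = n49164 := ndS (p := 14943) (l := 6) rfl N14943 D49164
theorem N29933 : nd 29933 = n49165 := ndS (p := 14944) (l := 3) rfl N14944 D49165
theorem N29934 : nd 29934 = n49166 := ndS (p := 14944) (l := 5) rfl N14944 D49166
theorem N29935 : nd 29935 = n49167 := ndS (p := 14944) (l := 7) rfl N14944 D49167
theorem N29936 : nd 29936 = n49168 := ndS (p := 14945) (l := 6) rfl N14945 D49168
theorem N29937 : nd 29937 = n49169 := ndS (p := 14946) (l := 6) rfl N14946 D49169
theorem N29938 : nd 29938 = n49170 := ndS (p := 14947) (l := 3) rfl N14947 D49170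
theorem N29939 : nd 29939 = n49171 := ndS (p := 14947) (l := 6) rfl N14947 D49171
theorem N29940 : nd 29940 = n49172 := ndS (p := 14948) (l := 0) rfl N14948 D49172
theorem N29941 : nd 29941 = n49173 := ndS (p := 14948) (l := 1) rfl N14948 D49173
theorem N29942 : nd 29942 = n49174 := ndS (p := 14948) (l := 5) rfl N14948 D49174
theorem N29943 : nd 29943 = n49175 := ndS (p := 14948) (l := 7) rfl N14948 D49175
theorem N29944 : nd 29944 = n49176 := ndS (p := 14949) (l := 3) rfl N14949 D49176
theorem N29945 : nd 29945 = n49177 := ndS (p := 14949) (l := 6) rfl N14949 D49177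
theorem N29946 : nd 29946 = n49178 := ndS (p := 14950) (l := 0) rfl N14950 D49178
theorem N29947 : nd 29947 = n49179 := ndS (p := 14950) (l := 1) rfl N14950 D49179
theorem N29948 : nd 29948 = n49180 := ndS (p := 14950) (l := 7) rfl N14950 D49180
theorem N29949 : nd 29949 = n49181 := ndS (p := 14951) (l := 0) rfl N14951 D49181
theorem N29950 : nd 29950 = n49182 := ndS (p := 14951) (l := 1) rfl N14951 D49182
theorem N29951 : nd 29951 = n49183 := ndS (p := 14951) (l := 2) rfl N14951 D49183
theorem N29952 : nd 29952 = n49184 := ndS (p := 14952) (l := 0) rfl N14952 D49184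
theorem N29953 : nd 29953 = n49185 := ndS (p := 14952) (l := 1) rfl N14952 D49185
theorem N29954 : nd 29954 = n49186 := ndS (p := 14953) (l := 4) rfl N14953 D49186
theorem N29955 : nd 29955 = n49187 := ndS (p := 14954) (l := 3) rfl N14954 D49187
theorem N29956 : nd 29956 = n49188 := ndS (p := 14954) (l := 6) rfl N14954 D49188
theorem N29957 : nd 29957 = n49189 := ndS (p := 14955) (l := 0) rfl N14955 D49189
theorem N29958 : nd 29958 = n49190 := ndS (p := 14955) (l := 1) rfl N14955 D49190
theorem N29959 : nd 29959 = n49191 := ndS (p := 14955) (l := 7) rfl N14955 D49191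
theorem N29960 : nd 29960 = n49192 := ndS (p := 14956) (l := 5) rfl N14956 D49192
theorem N29961 : nd 29961 = n49193 := ndS (p := 14957) (l := 5) rfl N14957 D49193
theorem N29962 : nd 29962 = n49194 := ndS (p := 14958) (l := 5) rfl N14958 D49194
theorem N29963 : nd 29963 = n49195 := ndS (p := 14959) (l := 6) rfl N14959 D49195
theorem N29964 : nd 29964 = n49196 := ndS (p := 14961) (l := 3) rfl N14961 D49196
theorem N29965 : nd 29965 = n49197 := ndS (p := 14961) (l := 6) rfl N14961 D49197
theorem N29966 : nd 29966 = n49198 := ndS (p := 14962) (l := 0) rfl N14962 D49198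
theorem N29967 : nd 29967 = n49199 := ndS (p := 14962) (l := 1) rfl N14962 D49199
theorem N29968 : nd 29968 = n49200 := ndS (p := 14962) (l := 7) rfl N14962 D49200
theorem N29969 : nd 29969 = n49201 := ndS (p := 14963) (l := 5) rfl N14963 D49201
theorem N29970 : nd 29970 = n49202 := ndS (p := 14964) (l := 6) rfl N14964 D49202
theorem N29971 : nd 29971 = n49203 := ndS (p := 14965) (l := 0) rfl N14965 D49203
theorem N29972 : nd 29972 = n49205 := ndS (p := 14965) (l := 2) rfl N14965 D49205
theorem N29973 : nd 29973 = n49206 := ndS (p := 14965) (l := 5) rfl N14965 D49206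
theorem N29974 : nd 29974 = n49207 := ndS (p := 14966) (l := 1) rfl N14966 D49207
theorem N29975 : nd 29975 = n49208 := ndS (p := 14966) (l := 6) rfl N14966 D49208
theorem N29976 : nd 29976 = n49209 := ndS (p := 14967) (l := 5) rfl N14967 D49209
theorem N29977 : nd 29977 = n49210 := ndS (p := 14967) (l := 6) rfl N14967 D49210
theorem N29978 : nd 29978 = n49211 := ndS (p := 14968) (l := 6) rfl N14968 D49211
theorem N29979 : nd 29979 = n49212 := ndS (p := 14969) (l := 5) rfl N14969 D49212
theorem N29980 : nd 29980 = n49213 := ndS (p := 14970) (l := 5) rfl N14970 D49213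
theorem N29981 : nd 29981 = n49214 := ndS (p := 14971) (l := 0) rfl N14971 D49214
theorem N29982 : nd 29982 = n49215 := ndS (p := 14971) (l := 1) rfl N14971 D49215
theorem N29983 : nd 29983 = n49216 := ndS (p := 14971) (l := 6) rfl N14971 D49216
theorem N29984 : nd 29984 = n49217 := ndS (p := 14972) (l := 1) rfl N14972 D49217
theorem N29985 : nd 29985 = n49218 := ndS (p := 14972) (l := 2) rfl N14972 D49218
theorem N29986 : nd 29986 = n49219 := ndS (p := 14972) (l := 5) rfl N14972 D49219
theorem N29987 : nd 29987 = n49220 := ndS (p := 14972) (l := 6) rfl N14972 D49220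
theorem N29988 : nd 29988 = n49221 := ndS (p := 14973) (l := 6) rfl N14973 D49221
theorem N29989 : nd 29989 = n49222 := ndS (p := 14974) (l := 5) rfl N14974 D49222
theorem N29990 : nd 29990 = n49223 := ndS (p := 14975) (l := 4) rfl N14975 D49223
theorem N29991 : nd 29991 = n49224 := ndS (p := 14975) (l := 6) rfl N14975 D49224
theorem N29992 : nd 29992 = n49225 := ndS (p := 14976) (l := 3) rfl N14976 D49225
theorem N29993 : nd 29993 = n49226 := ndS (p := 14976) (l := 6) rfl N14976 D49226
theorem N29994 : nd 29994 = n49227 := ndS (p := 14977) (l := 3) rfl N14977 D49227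
theorem N29995 : nd 29995 = n49228 := ndS (p := 14977) (l := 6) rfl N14977 D49228
theorem N29996 : nd 29996 = n49229 := ndS (p := 14978) (l := 3) rfl N14978 D49229
theorem N29997 : nd 29997 = n49230 := ndS (p := 14978) (l := 6) rfl N14978 D49230
theorem N29998 : nd 29998 = n49231 := ndS (p := 14979) (l := 0) rfl N14979 D49231
theorem N29999 : nd 29999 = n49232 := ndS (p := 14979) (l := 1) rfl N14979 D49232
theorem N30000 : nd 30000 = n49233 := ndS (p := 14979) (l := 7) rfl N14979 D49233

end Cfsg.Agent.Helper17.ONTC
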